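import Groth.Agent.Lib.Helper21RetractFree
import Groth.Agent.Lib.Helper23FinTypeLocal
import Groth.Agent.Lib.Helper20LocFree
import Groth.Statements.S17860

/-!
# Generators of a module from generators over a finite open cover (helper library for S17860)
-/

set_option autoImplicit false
universe u v w
open CategoryTheory CategoryTheory.Limits AlgebraicGeometry Opposite

namespace Groth.Agent.R2.H86.OpenCoverGen

open Groth.Agent.Lib.Helper21.RetractFree


theorem sum_app (Y : Scheme.{u}) {M N : Y.Modules} {ι' : Type} (s : Finset ι') (f : ι' → (M ⟶ N))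
    (V : Y.Opens) (x : Γ(M, V)) :
    (∑ j ∈ s, f j).app V x = ∑ j ∈ s, (f j).app V x := by
  classical
  induction s using Finset.induction_on with
  | empty => simp
  | insert a s ha ih =>
    rw [Finset.sum_insert ha, Finset.sum_insert ha, Scheme.Modules.Hom.add_app, ← ih]
    rfl

/-- Sections of the structure module are sections of the structure sheaf. -/
def toRV (Y : Scheme.{u}) (V : Y.Opens) (x : Γ(O Y, V)) : Γ(Y, V) := x

/-- Sections of the structure sheaf are sections of the structure module. -/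
def ofRV (Y : Scheme.{u}) (V : Y.Opens) (r : Γ(Y, V)) : Γ(O Y, V) := r

theorem smul_ofRV_one (Y : Scheme.{u}) (V : Y.Opens) (r : Γ(Y, V)) :
    r • ofRV Y V 1 = ofRV Y V r := mul_one r

theorem ofRV_toRV (Y : Scheme.{u}) (V : Y.Opens) (x : Γ(O Y, V)) : ofRV Y V (toRV Y V x) = x := rfl

/-- The image of any section of `O^n` under a morphism `φ` lies in the span of the images of the
standard generators. -/
theorem app_mem_span (Y : Scheme.{u}) (n : ℕ) (N : Y.Modules) (φ : FlatMod.freeMod Y n ⟶ N)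
    (V : Y.Opens) (x : Γ(FlatMod.freeMod Y n, V)) :
    φ.app V x ∈ Submodule.span Γ(Y, V)
      (Set.range fun j : Fin n => (ι Y n j ≫ φ).app V (ofRV Y V 1)) := by
  have h1 : x = ∑ j : Fin n, (ι Y n j).app V ((π Y n j).app V x) := by
    have := congrArg (fun f : F Y n ⟶ F Y n => f.app V x) (sum_π_ι Y n)
    simp only [Scheme.Modules.Hom.id_app] at this
    rw [sum_app] at this
    exact this.symm
  rw [h1, map_sum]
  refine Submodule.sum_mem _ fun j _ => ?_
  have h2 : (ι Y n j).app V ((π Y n j).app V x) =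
      (toRV Y V ((π Y n j).app V x)) • (ι Y n j).app V (ofRV Y V 1) := by
    rw [← Scheme.Modules.Hom.app_smul, smul_ofRV_one, ofRV_toRV]
  rw [h2, Scheme.Modules.Hom.app_smul]
  exact Submodule.smul_mem _ _ (Submodule.subset_span ⟨j, rfl⟩)


/-- If the localization `M'` of `M` away from `a` is spanned over the localized ring by `n`
elements, then there are `n` elements of `M` whose span contains a power-of-`a` multiple of every
element of `M`. -/
theorem exists_gens_of_localization_span {R : Type u} [CommRing R] (a : R) (S : Type v) [CommRing S]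
    [Algebra R S] [IsLocalization (Submonoid.powers a) S]
    {M : Type w} [AddCommGroup M] [Module R M] {M' : Type w}
    [AddCommGroup M'] [Module R M'] [Module S M'] [IsScalarTower R S M'] (f : M →ₗ[R] M')
    [IsLocalizedModule (Submonoid.powers a) f] {n : ℕ} (t : Fin n → M')
    (ht : ∀ z : M', z ∈ Submodule.span S (Set.range t)) :
    ∃ m' : Fin n → M, ∀ x : M, ∃ K : ℕ, a ^ K • x ∈ Submodule.span R (Set.range m') := by
  classical
  have hsurj : ∀ j, ∃ p : M × Submonoid.powers a, p.2 • t j = f p.1 :=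
    fun j => IsLocalizedModule.surj (Submonoid.powers a) f (t j)
  choose p hp using hsurj
  refine ⟨fun j => (p j).1, fun x => ?_⟩
  set N₀ : Submodule R M := Submodule.span R (Set.range fun j => (p j).1) with hN₀
  have htop : Submodule.localized' S (Submonoid.powers a) f N₀ = ⊤ := by
    rw [eq_top_iff]
    intro z _
    have hz := ht z
    refine (Submodule.span_le (p := Submodule.localized' S (Submonoid.powers a) f N₀)).mpr ?_ hz
    rintro _ ⟨j, rfl⟩
    rw [SetLike.mem_coe, Submodule.mem_localized']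
    refine ⟨(p j).1, Submodule.subset_span ⟨j, rfl⟩, (p j).2, ?_⟩
    rw [IsLocalizedModule.mk'_eq_iff]
    exact (hp j).symm
  have hx : f x ∈ Submodule.localized' S (Submonoid.powers a) f N₀ := by rw [htop]; trivial
  rw [Submodule.mem_localized'] at hx
  obtain ⟨m, hm, s, hms⟩ := hx
  rw [IsLocalizedModule.mk'_eq_iff] at hms
  -- `f m = s • f x = f (s • x)`
  have h1 : f m = f ((s : R) • x) := by
    rw [hms, map_smul]
    rfl
  obtain ⟨c, hc⟩ := (IsLocalizedModule.eq_iff_exists (Submonoid.powers a) f).mp h1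
  obtain ⟨k₁, hk₁⟩ := c.2
  obtain ⟨k₂, hk₂⟩ := s.2
  refine ⟨k₁ + k₂, ?_⟩
  have h2 : a ^ (k₁ + k₂) • x = (c : R) • m := by
    have : (c : R) • m = (c : R) • ((s : R) • x) := hc
    rw [this, smul_smul, pow_add]
    change _ = ((c : R) * (s : R)) • x
    rw [← hk₁, ← hk₂]
  rw [h2]
  exact Submodule.smul_mem _ _ hm


theorem exists_gens_of_cover {R : Type u} [CommRing R] {M : Type w} [AddCommGroup M] [Module R M]
    (n m : ℕ) (a : Fin m → R) (ha : Ideal.span (Set.range a) = ⊤)
    (m' : Fin m → Fin n → M)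
    (hm' : ∀ i, ∀ x : M, ∃ K : ℕ, a i ^ K • x ∈ Submodule.span R (Set.range (m' i))) :
    ∃ s : Fin (n * m) → M, Submodule.span R (Set.range s) = ⊤ := by
  refine ⟨fun q => m' (finProdFinEquiv.symm q).2 (finProdFinEquiv.symm q).1, ?_⟩
  rw [eq_top_iff]
  intro x _
  refine Submodule.mem_of_span_eq_top_of_smul_pow_mem _ (Set.range a) ha x ?_
  rintro ⟨_, i, rfl⟩
  obtain ⟨K, hK⟩ := hm' i x
  refine ⟨K, Submodule.span_mono ?_ hK⟩
  rintro _ ⟨j, rfl⟩
  exact ⟨finProdFinEquiv (j, i), by simp⟩


/-- A finite open cover of `Spec R` is refined by basic opens `D(a i) ≤ U i` with the `a i`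
generating the unit ideal. -/
theorem exists_basicOpen_refinement (R : CommRingCat.{u}) (m : ℕ) (U : Fin m → (Spec R).Opens)
    (hU : ⨆ i, U i = ⊤) :
    ∃ a : Fin m → R, (∀ i, PrimeSpectrum.basicOpen (a i) ≤ U i) ∧
      Ideal.span (Set.range a) = ⊤ := by
  classical
  let C : Fin m → Set (PrimeSpectrum R) := fun i => {x | x ∉ (U i).carrier}
  have hC : ∀ i, IsClosed (C i) := fun i => (U i).isOpen.isClosed_compl
  let I : Fin m → Ideal R := fun i => PrimeSpectrum.vanishingIdeal (C i)
  have hI : ∀ i (f : R), f ∈ I i → PrimeSpectrum.basicOpen f ≤ U i := by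
    intro i f hf x hx
    by_contra hxU
    rw [PrimeSpectrum.mem_vanishingIdeal] at hf
    exact hx (hf x hxU)
  have hsup : ⨆ i, I i = ⊤ := by
    rw [← PrimeSpectrum.zeroLocus_empty_iff_eq_top, PrimeSpectrum.zeroLocus_iSup]
    rw [Set.eq_empty_iff_forall_notMem]
    intro x hx
    rw [Set.mem_iInter] at hx
    have hxU : (show ↥(Spec R) from x) ∈ (⨆ i, U i : (Spec R).Opens) := by rw [hU]; trivial
    obtain ⟨i, hi⟩ := TopologicalSpace.Opens.mem_iSup.mp hxU
    have h1 := hx i
    rw [PrimeSpectrum.zeroLocus_vanishingIdeal_eq_closure, (hC i).closure_eq] at h1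
    exact h1 hi
  have h1 : (1 : R) ∈ ⨆ i ∈ (Finset.univ : Finset (Fin m)), I i := by
    simp only [Finset.mem_univ, iSup_pos]
    rw [hsup]; trivial
  rw [Submodule.mem_iSup_finset_iff_exists_sum] at h1
  obtain ⟨μ, hμ⟩ := h1
  refine ⟨fun i => (μ i : R), fun i => hI i _ (μ i).2, ?_⟩
  rw [Ideal.eq_top_iff_one, ← hμ]
  exact Ideal.sum_mem _ fun i _ => Ideal.subset_span ⟨i, rfl⟩

theorem exists_gens_of_sections_span (R : CommRingCat.{u}) (M : ModuleCat.{u} R) (a : R)
    (W : (Spec R).Opens) (hW : W = PrimeSpectrum.basicOpen a) {n : ℕ}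
    (t : Fin n → Γ(tilde M, W))
    (ht : ∀ z : Γ(tilde M, W), z ∈ Submodule.span Γ(Spec R, W) (Set.range t)) :
    ∃ m' : Fin n → M, ∀ x : M, ∃ K : ℕ, a ^ K • x ∈ Submodule.span R (Set.range m') := by
  subst hW
  let f : M →ₗ[R] Γ(tilde M, PrimeSpectrum.basicOpen a) :=
    (tilde.toOpen M (PrimeSpectrum.basicOpen a)).hom
  haveI : IsLocalizedModule (Submonoid.powers a) f :=
    inferInstanceAs (IsLocalizedModule.Away a (tilde.toOpen M (PrimeSpectrum.basicOpen a)).hom)
  exact exists_gens_of_localization_span a Γ(Spec R, PrimeSpectrum.basicOpen a) f t ht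

theorem restrictAppIso_mem_span {X Y : Scheme.{u}} (f : X ⟶ Y) [IsOpenImmersion f] (N : Y.Modules)
    (V : X.Opens) (s : Set Γ(N.restrict f, V)) (y : Γ(N.restrict f, V))
    (hy : y ∈ Submodule.span Γ(X, V) s) :
    (N.restrictAppIso f V).hom y ∈
      Submodule.span Γ(Y, f ''ᵁ V) ((fun z => (N.restrictAppIso f V).hom z) '' s) := by
  induction hy using Submodule.span_induction with
  | mem z hz => exact Submodule.subset_span ⟨z, hz, rfl⟩
  | zero => rw [map_zero]; exact Submodule.zero_mem _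
  | add z z' _ _ hz hz' => rw [map_add]; exact Submodule.add_mem _ hz hz'
  | smul r z _ hz =>
    have : (N.restrictAppIso f V).hom (r • z) =
        ((f.appIso V).inv r) • (N.restrictAppIso f V).hom z := rfl
    rw [this]
    exact Submodule.smul_mem _ _ hz

theorem exists_gens_of_epi (R : CommRingCat.{u}) (M : ModuleCat.{u} R) (U : (Spec R).Opens)
    (a : R) (hle : PrimeSpectrum.basicOpen a ≤ U) (n : ℕ)
    (φ : FlatMod.freeMod (↑U) n ⟶ (tilde M).restrict U.ι) [Epi φ] :
    ∃ m' : Fin n → M, ∀ x : M, ∃ K : ℕ, a ^ K • x ∈ Submodule.span R (Set.range m') := by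
  let D : (Spec R).Opens := PrimeSpectrum.basicOpen a
  let V : (U : Scheme.{u}).Opens := U.ι ⁻¹ᵁ D
  have hbo : IsAffineOpen D := IsAffineOpen.Spec_basicOpen a
  have hV : IsAffineOpen V :=
    hbo.preimage_of_isOpenImmersion U.ι (by rw [Scheme.Opens.opensRange_ι]; exact hle)
  have hW : U.ι ''ᵁ V = D := by
    rw [Scheme.Hom.image_preimage_eq_opensRange_inf, Scheme.Opens.opensRange_ι]
    exact inf_eq_right.2 hle
  haveI : (FlatMod.freeMod (↑U) n).IsQuasicoherent := inferInstance
  haveI : ((tilde M).restrict U.ι).IsQuasicoherent := inferInstance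
  have hsurj := Groth.Agent.Lib.Helper23.FinType.surjective_app_of_epi φ hV
  let t' : Fin n → Γ((tilde M).restrict U.ι, V) := fun j => (ι (↑U) n j ≫ φ).app V (ofRV (↑U) V 1)
  let t : Fin n → Γ(tilde M, U.ι ''ᵁ V) := fun j => ((tilde M).restrictAppIso U.ι V).hom (t' j)
  refine exists_gens_of_sections_span R M a (U.ι ''ᵁ V) hW t ?_
  intro z
  obtain ⟨x, hx⟩ := hsurj (((tilde M).restrictAppIso U.ι V).inv z)
  have hmem := app_mem_span (↑U) n _ φ V x
  rw [hx] at hmem
  have h2 := restrictAppIso_mem_span U.ι (tilde M) V _ _ hmem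
  have h3 : ((tilde M).restrictAppIso U.ι V).hom (((tilde M).restrictAppIso U.ι V).inv z) = z := rfl
  rw [h3] at h2
  refine Submodule.span_mono ?_ h2
  rintro _ ⟨_, ⟨j, rfl⟩, rfl⟩
  exact ⟨j, rfl⟩


/-- The statement of S17860. -/
theorem exists_generators_of_open_cover (R : CommRingCat.{u}) (M : ModuleCat.{u} R)
    (n m : ℕ) (U : Fin m → (Spec R).Opens) (hU : ⨆ i, U i = ⊤)
    (hgen : ∀ i, ∃ φ : FlatMod.freeMod (↑(U i)) n ⟶ (AlgebraicGeometry.tilde M).restrict (U i).ι,
      Epi φ) :
    ∃ s : Fin (n * m) → M, Submodule.span R (Set.range s) = ⊤ := by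
  obtain ⟨a, hle, ha⟩ := exists_basicOpen_refinement R m U hU
  have h : ∀ i, ∃ m' : Fin n → M, ∀ x : M, ∃ K : ℕ,
      a i ^ K • x ∈ Submodule.span R (Set.range m') := by
    intro i
    obtain ⟨φ, hφ⟩ := hgen i
    exact exists_gens_of_epi R M (U i) (a i) (hle i) n φ
  choose m' hm' using h
  exact exists_gens_of_cover n m a ha m' hm'

end Groth.Agent.R2.H86.OpenCoverGen
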