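import Mathlib
import Groth.Prelude.Def_PerfAux
import Groth.Agent.S9819
import Groth.Agent.R2.H86OpenCoverGen
import Groth.Agent.Lib.Helper23Serre
import Groth.Agent.Lib.Helper23QCohLocal
import Groth.Agent.Lib.Helper23QCohAbelian
import Groth.Agent.Lib.Helper23FinTypeLocal
import Groth.Agent.Lib.Helper20LocFree
import Groth.Agent.Lib.Helper2LocFree
import Groth.Agent.Lib.Helper18Strict6

/-!
# The resolution property gives an affine diagonal (helper10, for S1009)

Namespace `Groth.Agent.R2.H10.AffDiag`.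

* `exists_section`: on a qcqs scheme with the resolution property and an affine open `U` there are a finite locally
  free module `E`, a morphism `s : E ⟶ O_X` all of whose values vanish outside `U`, and a section `t` of `E` over `U`
  with `s(t) = 1`.
* `isAffineOpen_of_span`: local step (`E` free on an affine scheme).
* `isAffineOpen_inf`: the intersection of two affine opens is affine.
-/

set_option autoImplicit false
set_option linter.style.haveILetI false
universe u
open CategoryTheory CategoryTheory.Limits AlgebraicGeometry TopologicalSpace Opposite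

namespace Groth.Agent.R2.H10.AffDiag

open Groth.Agent.Lib.Helper23.GenLocus Groth.Agent.Lib.Helper23.Serre
  Groth.Agent.Lib.Helper23.QCohLocal Groth.Agent.Lib.Helper23.FinType

variable {X : Scheme.{u}}

/-- sections over `U`, as a functor to abelian groups -/
noncomputable abbrev secAb (U : X.Opens) : X.Modules ⥤ Ab.{u} :=
  Scheme.Modules.toPresheaf X ⋙ (evaluation (Opens X)ᵒᵖ Ab.{u}).obj (op U)

noncomputable instance (U : X.Opens) : PreservesLimits (secAb (X := X) U) := by
  haveI h1 : PreservesLimits (Scheme.Modules.toPresheaf X) := inferInstance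
  haveI h2 : PreservesLimits ((evaluation (Opens X)ᵒᵖ Ab.{u}).obj (op U)) := inferInstance
  exact comp_preservesLimits _ _

/-- Left exactness of sections: sections of a kernel. -/
theorem exists_app_kernel_eq {M N : X.Modules} (φ : M ⟶ N) (U : X.Opens) (t : Γ(M, U))
    (ht : φ.app U t = 0) : ∃ k : Γ(kernel φ, U), (kernel.ι φ).app U k = t := by
  let E : ShortComplex X.Modules := ShortComplex.mk (kernel.ι φ) φ (kernel.condition φ)
  have hE : E.Exact := ShortComplex.exact_kernel φ
  haveI : Mono E.f := inferInstanceAs (Mono (kernel.ι φ))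
  haveI : (secAb (X := X) U).PreservesZeroMorphisms := ⟨fun _ _ => rfl⟩
  have h1 : (E.map (secAb U)).Exact :=
    hE.map_of_mono_of_preservesKernel (secAb U) inferInstance inferInstance
  rw [ShortComplex.ab_exact_iff] at h1
  exact h1 t ht

/-- the closed complement of an open -/
def Zc (U : X.Opens) : Closeds X := ⟨(U : Set X)ᶜ, U.isOpen.isClosed_compl⟩

/-- the reduced closed subscheme on the complement of `U` -/
noncomputable abbrev zi (U : X.Opens) :
    (Scheme.IdealSheafData.vanishingIdeal (Zc U)).subscheme ⟶ X :=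
  (Scheme.IdealSheafData.vanishingIdeal (Zc U)).subschemeι

theorem range_zi (U : X.Opens) : Set.range (zi U) = (U : Set X)ᶜ := by
  rw [Scheme.IdealSheafData.range_subschemeι]
  simp [Zc]

/-- the ideal of functions vanishing on the complement of `U`, as a module -/
noncomputable abbrev KK (U : X.Opens) : X.Modules := kernel (unitPush (zi U))

instance isQuasicoherent_KK (U : X.Opens) : (KK U).IsQuasicoherent := by
  haveI : (Coh.structureModule X).IsQuasicoherent := isQuasicoherent_structureModule' X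
  haveI : (Coh.structureModule (Scheme.IdealSheafData.vanishingIdeal (Zc U)).subscheme).IsQuasicoherent :=
    isQuasicoherent_structureModule' _
  haveI : ((Scheme.Modules.pushforward (zi U)).obj
      (Coh.structureModule (Scheme.IdealSheafData.vanishingIdeal (Zc U)).subscheme)).IsQuasicoherent :=
    isQuasicoherent_pushforward (zi U) _
  exact Groth.Agent.Lib.Helper23.QCohLocal.isQuasicoherent_kernel (unitPush (zi U))

/-- functions in `KK U` do not vanish only inside `U`. -/
theorem basicOpen_le_of_KK (U : X.Opens) (W : X.Opens) (κ : Γ(KK U, W)) :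
    X.basicOpen (ofS W ((kernel.ι (unitPush (zi U))).app W κ)) ≤ U := by
  set g : Γ(X, W) := ofS W ((kernel.ι (unitPush (zi U))).app W κ) with hg
  have h0 : (unitPush (zi U)).app W (toS W g) = 0 := by
    have h1 := congrArg (fun φ : KK U ⟶ _ => φ.app W κ) (kernel.condition (unitPush (zi U)))
    exact h1
  rw [unitPush_app] at h0
  have h2 : (zi U).app W g = 0 := h0
  intro x hx
  by_contra hxU
  have hxr : x ∈ Set.range (zi U) := by rw [range_zi]; exact hxU
  obtain ⟨z, rfl⟩ := hxr
  have h3 : z ∈ (zi U) ⁻¹ᵁ X.basicOpen g := hx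
  rw [Scheme.preimage_basicOpen, h2, Scheme.basicOpen_zero] at h3
  exact h3

/-- the function `1` on `U` is a section of `KK U`. -/
theorem exists_one_KK (U : X.Opens) :
    ∃ κ : Γ(KK U, U), (kernel.ι (unitPush (zi U))).app U κ = toS U 1 := by
  have h0 : (unitPush (zi U)).app U (toS U 1) = 0 := by
    rw [unitPush_app]
    have hbot : (zi U) ⁻¹ᵁ U = ⊥ := by
      ext z
      simp only [Opens.coe_bot, Set.mem_empty_iff_false, iff_false]
      intro hz
      have : (zi U) z ∈ (U : Set X)ᶜ := by rw [← range_zi]; exact ⟨z, rfl⟩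
      exact this hz
    have hsub : Subsingleton Γ((Scheme.IdealSheafData.vanishingIdeal (Zc U)).subscheme, (zi U) ⁻¹ᵁ U) := by
      rw [hbot]
      infer_instance
    exact @Subsingleton.elim
      Γ((Scheme.IdealSheafData.vanishingIdeal (Zc U)).subscheme, (zi U) ⁻¹ᵁ U) hsub _ _
  exact exists_app_kernel_eq (unitPush (zi U)) U (toS U 1) h0

/-- on a qcqs scheme with the resolution property, an affine open `U` is the non-vanishing locus of a morphism
`s : E ⟶ O_X` from a finite locally free module, with `1` in the image over `U`. -/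
theorem exists_section [CompactSpace X] [QuasiSeparatedSpace X] (hX : PerfAux.HasResolutionProperty X)
    (U : X.Opens) (hU : IsAffineOpen U) :
    ∃ (E : X.Modules) (s : E ⟶ Coh.structureModule X), FlatMod.IsFinLocFree E ∧
      (∀ (W : X.Opens) (e : Γ(E, W)), X.basicOpen (ofS W (s.app W e)) ≤ U) ∧
      ∃ t : Γ(E, U), s.app U t = toS U 1 := by
  obtain ⟨κ, hκ⟩ := exists_one_KK U
  obtain ⟨N, ιN, hmono, hNq, hNf, n₀, hn₀⟩ := Groth.Agent.S9819.result (KK U) ⟨U, hU⟩ κ
  obtain ⟨E, π, hE, hπ⟩ := hX N hNq hNf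
  haveI : Epi π := hπ
  haveI : N.IsQuasicoherent := hNq
  haveI : E.IsQuasicoherent := Groth.Agent.Helper18Strict.isQCoh_of_isFP E
    (Groth.Agent.Lib.Helper2.LocFree.isFP_of_isFinLocFree E hE)
  refine ⟨E, π ≫ ιN ≫ kernel.ι (unitPush (zi U)), hE, ?_, ?_⟩
  · intro W e
    exact basicOpen_le_of_KK U W ((π ≫ ιN).app W e)
  · obtain ⟨t, ht⟩ := surjective_app_of_epi π hU n₀
    refine ⟨t, ?_⟩
    have h1 : (π ≫ ιN ≫ kernel.ι (unitPush (zi U))).app U t =
        (kernel.ι (unitPush (zi U))).app U (ιN.app U (π.app U t)) := rfl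
    rw [h1, ht]
    have h2 : ιN.app U n₀ = κ := hn₀
    rw [h2, hκ]

open Groth.Agent.Lib.Helper21.RetractFree Groth.Agent.R2.H86.OpenCoverGen in
/-- local step: on an affine scheme, an open `O'` is affine as soon as `1` lies over `O'` in the image of a morphism
`O^n ⟶ O` whose coordinate functions do not vanish only inside `O'`. -/
theorem isAffineOpen_of_free {Y : Scheme.{u}} [IsAffine Y] (O' : Y.Opens) (n : ℕ)
    (φ : FlatMod.freeMod Y n ⟶ Coh.structureModule Y)
    (h1 : ∃ x : Γ(FlatMod.freeMod Y n, O'), φ.app O' x = toS O' 1)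
    (h2 : ∀ j : Fin n, Y.basicOpen (ofS ⊤ ((ι Y n j ≫ φ).app ⊤ (toS ⊤ 1))) ≤ O') :
    IsAffineOpen O' := by
  obtain ⟨x, hx⟩ := h1
  let f : Fin n → Γ(Y, ⊤) := fun j => ofS ⊤ ((ι Y n j ≫ φ).app ⊤ (toS ⊤ 1))
  let fO : Fin n → Γ(Y, O') := fun j => Y.presheaf.map (homOfLE (le_top : O' ≤ ⊤)).op (f j)
  refine isAffineOpen_of_isAffineOpen_basicOpen O' (Set.range fO) ?_ ?_
  · have hmem := app_mem_span Y n (Coh.structureModule Y) φ O' x
    rw [hx] at hmem
    have hgen : ∀ j, (ι Y n j ≫ φ).app O' (ofRV Y O' 1) = toS O' (fO j) := by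
      intro j
      have h3 := Groth.Agent.Lib.Helper23.Extend.app_map (ι Y n j ≫ φ) (homOfLE (le_top : O' ≤ ⊤))
        (toS ⊤ 1)
      have h4 : (Coh.structureModule Y).presheaf.map (homOfLE (le_top : O' ≤ ⊤)).op (toS ⊤ 1) =
          ofRV Y O' 1 := by
        rw [map_toS, map_one]; rfl
      rw [h4] at h3
      rw [h3]
      rfl
    rw [Ideal.eq_top_iff_one]
    have key : ∀ m : Γ(Coh.structureModule Y, O'),
        m ∈ Submodule.span Γ(Y, O') (Set.range fun j : Fin n => (ι Y n j ≫ φ).app O' (ofRV Y O' 1)) →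
        ofS O' m ∈ Ideal.span (Set.range fO) := by
      intro m hm
      induction hm using Submodule.span_induction with
      | mem m hm =>
        obtain ⟨j, rfl⟩ := hm
        change ofS O' ((ι Y n j ≫ φ).app O' (ofRV Y O' 1)) ∈ _
        rw [hgen j]
        exact Ideal.subset_span ⟨j, rfl⟩
      | zero => exact Ideal.zero_mem _
      | add a b _ _ ha hb => exact Ideal.add_mem _ ha hb
      | smul r a _ ha => exact Ideal.mul_mem_left _ r ha
    exact key _ hmem
  · rintro _ ⟨j, rfl⟩
    have h5 : Y.basicOpen (fO j) = Y.basicOpen (f j) := by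
      rw [Scheme.basicOpen_res]
      exact inf_eq_right.2 (h2 j)
    rw [h5]
    exact (isAffineOpen_top Y).basicOpen (f j)

/-- a module free over `U` is free over every smaller open (as in helper1's `Helper1FLF1`) -/
lemma nonempty_restrict_iso_freeMod_of_le (M : X.Modules) {U U' : X.Opens} (h : U' ≤ U) {n : ℕ}
    (e : M.restrict U.ι ≅ FlatMod.freeMod (↑U) n) :
    Nonempty (M.restrict U'.ι ≅ FlatMod.freeMod (↑U') n) := by
  let j : (U' : Scheme.{u}) ⟶ U := X.homOfLE h
  have hj : j ≫ U.ι = U'.ι := X.homOfLE_ι h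
  exact ⟨(Scheme.Modules.restrictFunctorCongr hj.symm).app M ≪≫
    (Scheme.Modules.restrictFunctorComp j U.ι).app M ≪≫
    (Scheme.Modules.restrictFunctor j).mapIso e ≪≫ Groth.Agent.Lib.Helper20.LocFree.restrictFreeMod j n⟩

open Groth.Agent.Lib.Helper21.RetractFree in
/-- local step on `X`. -/
theorem exists_affine_nhd (U : X.Opens) (E : X.Modules) (s : E ⟶ Coh.structureModule X)
    (hE : FlatMod.IsFinLocFree E)
    (hs : ∀ (W : X.Opens) (e : Γ(E, W)), X.basicOpen (ofS W (s.app W e)) ≤ U)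
    (t : Γ(E, U)) (ht : s.app U t = toS U 1) (x : X) :
    ∃ W : X.Opens, IsAffineOpen W ∧ x ∈ W ∧ IsAffineOpen (U ⊓ W) := by
  obtain ⟨W₀, n, hxW₀, ⟨e₀⟩⟩ := hE x
  obtain ⟨W, hW, hxW, hWW₀⟩ := exists_isAffineOpen_mem_and_subset (x := x) (U := W₀) hxW₀
  obtain ⟨e⟩ := nonempty_restrict_iso_freeMod_of_le E hWW₀ e₀
  refine ⟨W, hW, hxW, ?_⟩
  haveI : IsAffine (W : Scheme.{u}) := hW
  let O' : (W : Scheme.{u}).Opens := W.ι ⁻¹ᵁ U
  let φ : FlatMod.freeMod (W : Scheme.{u}) n ⟶ Coh.structureModule (W : Scheme.{u}) :=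
    e.inv ≫ (Scheme.Modules.restrictFunctor W.ι).map s ≫ (Scheme.Modules.restrictUnitIso W.ι).hom
  have himg : W.ι ''ᵁ O' = U ⊓ W := by
    rw [Scheme.Hom.image_preimage_eq_opensRange_inf, Scheme.Opens.opensRange_ι, inf_comm]
  have hO' : IsAffineOpen O' := by
    refine isAffineOpen_of_free O' n φ ?_ ?_
    · let t₀ : Γ(E.restrict W.ι, O') :=
        E.presheaf.map (homOfLE (himg.le.trans inf_le_left)).op t
      refine ⟨e.hom.app O' t₀, ?_⟩
      have h1 : e.inv.app O' (e.hom.app O' t₀) = t₀ := by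
        have := congrArg (fun ψ : E.restrict W.ι ⟶ E.restrict W.ι => ψ.app O' t₀) e.hom_inv_id
        exact this
      have h2 : φ.app O' (e.hom.app O' t₀) =
          (Scheme.Modules.restrictUnitIso W.ι).hom.app O'
            (s.app (W.ι ''ᵁ O') (e.inv.app O' (e.hom.app O' t₀))) := rfl
      rw [h2, h1]
      have h3 : s.app (W.ι ''ᵁ O') t₀ = toS (W.ι ''ᵁ O') 1 := by
        have h4 := Groth.Agent.Lib.Helper23.Extend.app_map s
          (homOfLE (himg.le.trans inf_le_left)) t
        rw [ht, map_toS, map_one] at h4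
        exact h4
      rw [h3]
      change (W.ι.appIso O').hom (1 : Γ(X, W.ι ''ᵁ O')) = 1
      exact map_one _
    · intro j
      let ε : Γ(E, W.ι ''ᵁ ⊤) := e.inv.app ⊤ ((ι (W : Scheme.{u}) n j).app ⊤ (toS ⊤ 1))
      have h5 : ofS ⊤ ((ι (W : Scheme.{u}) n j ≫ φ).app ⊤ (toS ⊤ 1)) =
          (W.ι.appIso ⊤).hom (ofS (W.ι ''ᵁ ⊤) (s.app (W.ι ''ᵁ ⊤) ε)) := rfl
      rw [h5]
      intro y hy
      have h6 : W.ι y ∈ W.ι ''ᵁ ((W : Scheme.{u}).basicOpen
          ((W.ι.appIso ⊤).hom (ofS (W.ι ''ᵁ ⊤) (s.app (W.ι ''ᵁ ⊤) ε)))) := ⟨y, hy, rfl⟩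
      rw [Scheme.image_basicOpen] at h6
      have h7 : (W.ι.appIso ⊤).inv ((W.ι.appIso ⊤).hom (ofS (W.ι ''ᵁ ⊤) (s.app (W.ι ''ᵁ ⊤) ε))) =
          ofS (W.ι ''ᵁ ⊤) (s.app (W.ι ''ᵁ ⊤) ε) := by
        change ((W.ι.appIso ⊤).hom ≫ (W.ι.appIso ⊤).inv) _ = _
        rw [Iso.hom_inv_id]
        rfl
      rw [h7] at h6
      exact hs _ ε h6
  rw [← himg]
  exact hO'.image_of_isOpenImmersion W.ι

/-- **Affine diagonal**: on a quasi-compact quasi-separated scheme with the resolution property, the intersection of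
two affine opens is affine. -/
theorem isAffineOpen_inf [CompactSpace X] [QuasiSeparatedSpace X] (hX : PerfAux.HasResolutionProperty X)
    (U V : X.Opens) (hU : IsAffineOpen U) (hV : IsAffineOpen V) : IsAffineOpen (U ⊓ V) := by
  obtain ⟨E, s, hE, hs, t, ht⟩ := exists_section hX U hU
  choose W hWa hxW hUW using exists_affine_nhd U E s hE hs t ht
  haveI : IsAffineHom U.ι := by
    refine isAffineHom_of_forall_exists_isAffineOpen (f := U.ι) fun x => ⟨W x, hxW x, hWa x, ?_⟩
    have h1 : U.ι ''ᵁ (U.ι ⁻¹ᵁ W x) = U ⊓ W x := by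
      rw [Scheme.Hom.image_preimage_eq_opensRange_inf, Scheme.Opens.opensRange_ι]
    rw [← Scheme.Hom.isAffineOpen_iff_of_isOpenImmersion U.ι, h1]
    exact hUW x
  have h3 : IsAffineOpen (U.ι ⁻¹ᵁ V) := hV.preimage U.ι
  have h4 : U.ι ''ᵁ (U.ι ⁻¹ᵁ V) = U ⊓ V := by
    rw [Scheme.Hom.image_preimage_eq_opensRange_inf, Scheme.Opens.opensRange_ι]
  rw [← h4]
  exact h3.image_of_isOpenImmersion U.ι

end Groth.Agent.R2.H10.AffDiag
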