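import Mathlib
import Groth.Prelude.Def_MoreMor
import Groth.Agent.S0440

/-!
# Affine stratifications: the top stratum and closed subschemes off it (helper10)

For `s : X → Fin (n + 1)` with closed sublevel sets:

* `topOpen s hs`: the top stratum `{s = last}` as an open of `X`.
* `isAffineOpen_of_range`, `isAffineHom_ι_of_range`: if an immersion `ι : Z ⟶ X` from an affine scheme which is an
  affine morphism has range an open `U`, then `U` is an affine open and `U.ι` is an affine morphism (S0440: a scheme
  receiving a surjective closed immersion from an affine scheme is affine).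
* `hasAffineStratification_of_disjoint`: an affine morphism `h : Y ⟶ X` whose image misses the top stratum of an
  affine stratification of length `n + 2` of `X` induces an affine stratification of length `n + 1` on `Y`.
-/

set_option autoImplicit false
set_option linter.style.haveILetI false
set_option linter.deprecated false
universe u
open CategoryTheory Limits AlgebraicGeometry TopologicalSpace

namespace Groth.Agent.R2.H10.AffStrat

variable {X : Scheme.{u}}

section TopOpen

variable {n : ℕ} (s : X → Fin (n + 1)) (hs : ∀ i : Fin (n + 1), IsClosed {x : X | s x ≤ i})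

include hs in
theorem isOpen_top : IsOpen {x : X | s x = Fin.last n} := by
  have h1 : {x : X | s x = Fin.last n} =
      (⋃ i : {i : Fin (n + 1) // i < Fin.last n}, {x : X | s x ≤ i.1})ᶜ := by
    ext x
    simp only [Set.mem_setOf_eq, Set.mem_compl_iff, Set.mem_iUnion, not_exists, not_le, Subtype.forall]
    constructor
    · intro h i hi
      rw [h]
      exact hi
    · intro h
      by_contra hne
      exact lt_irrefl _ (h (s x) (lt_of_le_of_ne (Fin.le_last _) hne))
  rw [h1]
  exact (isClosed_iUnion_of_finite (fun i : {i : Fin (n + 1) // i < Fin.last n} => hs i.1)).isOpen_compl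

/-- the top stratum, as an open -/
def topOpen : X.Opens := ⟨{x : X | s x = Fin.last n}, isOpen_top s hs⟩

theorem mem_topOpen (x : X) : x ∈ topOpen s hs ↔ s x = Fin.last n := Iff.rfl

end TopOpen

section Lift

variable {Z : Scheme.{u}} (ι : Z ⟶ X) (U : X.Opens) (hU : Set.range ι = (U : Set X))

/-- the factorization of a morphism with range `U` through `U` -/
noncomputable def lift : Z ⟶ U.toScheme :=
  IsOpenImmersion.lift U.ι ι (by rw [Scheme.Opens.range_ι]; exact hU.le)

@[reassoc]
theorem lift_fac : lift ι U hU ≫ U.ι = ι := IsOpenImmersion.lift_fac _ _ _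

theorem lift_surjective : Function.Surjective (lift ι U hU) := by
  intro u
  have hu : U.ι u ∈ Set.range ι := by
    rw [hU]
    exact u.2
  obtain ⟨z, hz⟩ := hu
  refine ⟨z, ?_⟩
  apply U.ι.isOpenEmbedding.injective
  rw [← hz, ← Scheme.Hom.comp_apply, lift_fac]

instance isClosedImmersion_lift [IsImmersion ι] : IsClosedImmersion (lift ι U hU) := by
  haveI : IsImmersion (lift ι U hU ≫ U.ι) := by
    rw [lift_fac]
    infer_instance
  haveI : IsImmersion (lift ι U hU) := IsImmersion.of_comp (lift ι U hU) U.ι
  apply IsClosedImmersion.of_isPreimmersion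
  rw [(lift_surjective ι U hU).range_eq]
  exact isClosed_univ

include hU in
theorem isAffineOpen_of_range [IsImmersion ι] [IsAffine Z] : IsAffineOpen U :=
  Groth.Agent.S0440.result (lift ι U hU) (lift_surjective ι U hU)

include hU in
theorem isAffineHom_ι_of_range [IsImmersion ι] [IsAffineHom ι] : IsAffineHom U.ι := by
  refine ⟨fun V hV => ?_⟩
  let W : U.toScheme.Opens := U.ι ⁻¹ᵁ V
  let l := lift ι U hU
  have hpre : l ⁻¹ᵁ W = ι ⁻¹ᵁ V := by
    change l ⁻¹ᵁ (U.ι ⁻¹ᵁ V) = ι ⁻¹ᵁ V
    rw [← Scheme.Hom.comp_preimage, lift_fac]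
  haveI : IsAffine (l ⁻¹ᵁ W).toScheme := by
    have h1 : IsAffineOpen (l ⁻¹ᵁ W) := by
      rw [hpre]
      exact hV.preimage ι
    exact h1
  have hsurj : Function.Surjective (l ∣_ W) := by
    intro w
    obtain ⟨z, hz⟩ := lift_surjective ι U hU w.1
    have hzW : z ∈ l ⁻¹ᵁ W := by
      change l z ∈ W
      rw [hz]
      exact w.2
    have hz' : z ∈ Set.range (l ⁻¹ᵁ W).ι := by
      rw [Scheme.Opens.range_ι]
      exact hzW
    obtain ⟨z', rfl⟩ := hz'
    refine ⟨z', ?_⟩
    apply W.ι.isOpenEmbedding.injective
    have h1 : ((l ∣_ W) ≫ W.ι) z' = ((l ⁻¹ᵁ W).ι ≫ l) z' := by rw [morphismRestrict_ι]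
    rw [Scheme.Hom.comp_apply, Scheme.Hom.comp_apply] at h1
    exact h1.trans hz
  exact Groth.Agent.S0440.result (l ∣_ W) hsurj

end Lift

section Disjoint

variable {Y : Scheme.{u}} {n : ℕ}

/-- an affine morphism missing the top stratum induces a shorter affine stratification -/
theorem hasAffineStratification_of_disjoint (h : Y ⟶ X) [IsAffineHom h]
    (s : X → Fin (n + 2)) (hs : ∀ i : Fin (n + 2), IsClosed {x : X | s x ≤ i})
    (hstr : ∀ i : Fin (n + 2), ∃ (Z : Scheme.{u}) (ι : Z ⟶ X),
      IsImmersion ι ∧ IsAffine Z ∧ IsAffineHom ι ∧ Set.range ι = {x : X | s x = i})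
    (hdis : ∀ y : Y, s (h y) ≠ Fin.last (n + 1)) :
    MoreMor.HasAffineStratification Y n := by
  refine ⟨fun y => (s (h y)).castPred (hdis y), ?_, ?_⟩
  · intro i
    have h1 : {y : Y | (s (h y)).castPred (hdis y) ≤ i} = h ⁻¹' {x : X | s x ≤ i.castSucc} := by
      ext y
      simp only [Set.mem_setOf_eq, Set.mem_preimage]
      exact Fin.castPred_le_iff (hdis y)
    rw [h1]
    exact (hs i.castSucc).preimage h.continuous
  · intro i
    obtain ⟨Z, ι, hι, hZ, hιa, hr⟩ := hstr i.castSucc
    have hfst : IsAffineHom (pullback.fst h ι) :=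
      MorphismProperty.of_isPullback (P := @IsAffineHom) (IsPullback.of_hasPullback h ι).flip hιa
    refine ⟨pullback h ι, pullback.fst h ι, inferInstance, inferInstance, hfst, ?_⟩
    rw [Scheme.Pullback.range_fst, hr]
    ext y
    simp only [Set.mem_setOf_eq, Set.mem_preimage]
    exact (Fin.castPred_eq_iff_eq_castSucc (s (h y)) (hdis y) i).symm

end Disjoint

end Groth.Agent.R2.H10.AffStrat
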