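import Mathlib
import Groth.Prelude.Def_CohTop
import Groth.Prelude.Def_FreeSh
import Groth.Prelude.Def_E1Deg2
import Groth.Agent.S0468
import Groth.Agent.Lib.Helper16ClosedEmb
import Groth.Agent.Lib.Helper16SectSupp
import Groth.Agent.Lib.Helper16Flasque

/-!
# Grothendieck's vanishing theorem for Noetherian topological spaces (helper2)

`vanishing`: on a Noetherian space of Krull dimension `< n`, `H^p(X, F) = 0` for all abelian sheaves `F` and
`p ≥ n`.

Proof (no extension by zero, no reduction to finitely generated sheaves).  For a sheaf `F` let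
`G F := colim_W (V ↦ F(V ∩ W))`, the colimit (in sheaves) over the dense opens `W` of `X`: the sheaf of germs of
sections along dense opens.  Sections of directed colimits of sheaves over opens of a Noetherian space are
computed sectionwise (`exists_rep`, `exists_map_eq_zero`; from the `q = 0` case of S0468), so
* `G F` is flasque (`G_flasque`),
* every section of the kernel and of the cokernel of `η : F ⟶ G F` vanishes on a dense open subset of its
  domain (`LD_kernel`, `LD_cokernel`).
A sheaf `M` with the latter property (`LD M`) is the directed colimit of its subsheaves `supp M W` of sections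
vanishing on `W` (`isIso_dM`), these are pushed forward from the nowhere dense closed subsets `Wᶜ`
(Lib `Helper16ClosedEmb.toZ`, `θ`), which have smaller dimension (`topologicalKrullDim_compl_lt`), and cohomology
commutes with directed colimits (S0468) and closed pushforward (`nonempty_H_push`).  The two short exact
sequences `0 → K → F → I → 0`, `0 → I → G F → C → 0` finish the induction (`step`).

Other reusable statements: `resW W F` (the sheaf `V ↦ F(V ⊓ W)`), `toRes`, `h0Iso` (`H^0(V, -) ≅ Γ(V, -)` as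
functors), `hTopEquiv` (`H^p(X, F) ≃+ H^p(⊤, F)`), `H_subsingleton_of_iso`, `H_subsingleton_of_isColimit`,
`exists_kernel_lift` (sections of a kernel), `shortExact_kernel`, `H_subsingleton_of_isEmpty`,
`isEmpty_of_topologicalKrullDim_lt_zero`.
-/

set_option autoImplicit false
set_option linter.style.haveILetI false
set_option linter.unusedSectionVars false
universe u
open CategoryTheory CategoryTheory.Limits Opposite TopologicalSpace

namespace Groth.Agent.R2.H2.GrothVan

variable {X : TopCat.{u}}

/-! ### Part A: dense opens -/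

/-- the exterior of an open: the complement of its closure -/
def ext (V : Opens X) : Opens X := ⟨(closure (V : Set X))ᶜ, isClosed_closure.isOpen_compl⟩

lemma mem_ext {V : Opens X} {x : X} : x ∈ ext V ↔ x ∉ closure (V : Set X) := Iff.rfl

lemma inf_ext_eq_bot (V : Opens X) : V ⊓ ext V = ⊥ := by
  ext x
  simp only [Opens.coe_inf, Set.mem_inter_iff, SetLike.mem_coe, Opens.coe_bot, Set.mem_empty_iff_false,
    iff_false, not_and]
  intro hx hx'
  exact hx' (subset_closure hx)

/-- `O` is dense in `V` -/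
def DenseIn (O V : Opens X) : Prop := O ≤ V ∧ (V : Set X) ⊆ closure (O : Set X)

lemma dense_sup_ext {O V : Opens X} (h : DenseIn O V) : Dense ((O ⊔ ext V : Opens X) : Set X) := by
  intro x
  rw [Opens.coe_sup, closure_union]
  by_cases hx : x ∈ closure (V : Set X)
  · left
    exact closure_minimal h.2 isClosed_closure hx
  · right
    exact subset_closure hx

lemma inf_sup_ext {O V : Opens X} (h : O ≤ V) : V ⊓ (O ⊔ ext V) = O := by
  rw [inf_sup_left, inf_ext_eq_bot, sup_bot_eq, inf_eq_right.2 h]

lemma denseIn_inf_of_dense (V W : Opens X) (hW : Dense (W : Set X)) : DenseIn (V ⊓ W) V := by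
  refine ⟨inf_le_left, ?_⟩
  intro x hx
  rw [Opens.coe_inf]
  have := hW.open_subset_closure_inter V.isOpen
  exact this hx

lemma dense_inf {W W' : Opens X} (hW : Dense (W : Set X)) (hW' : Dense (W' : Set X)) :
    Dense ((W ⊓ W' : Opens X) : Set X) := by
  rw [Opens.coe_inf]
  exact hW.inter_of_isOpen_left hW' W.isOpen

/-- the directed set of dense opens, ordered by reverse inclusion -/
abbrev DO (X : TopCat.{u}) : Type u := OrderDual {W : Opens X // Dense (W : Set X)}

/-- the underlying open -/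
abbrev DO.op' (W : DO X) : Opens X := (OrderDual.ofDual W).1

lemma DO.dense (W : DO X) : Dense ((W.op' : Opens X) : Set X) := (OrderDual.ofDual W).2

/-- constructor -/
abbrev DO.mk (W : Opens X) (hW : Dense (W : Set X)) : DO X := OrderDual.toDual ⟨W, hW⟩

instance : Nonempty (DO X) := ⟨DO.mk ⊤ (by rw [Opens.coe_top]; exact dense_univ)⟩

instance : IsDirected (DO X) (· ≤ ·) where
  directed a b := ⟨DO.mk (a.op' ⊓ b.op') (dense_inf a.dense b.dense),
    (inf_le_left : a.op' ⊓ b.op' ≤ a.op'), (inf_le_right : a.op' ⊓ b.op' ≤ b.op')⟩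

lemma DO.le_of_hom {W W' : DO X} (f : W ⟶ W') : W'.op' ≤ W.op' := leOfHom f

end Groth.Agent.R2.H2.GrothVan

namespace Groth.Agent.R2.H2.GrothVan

variable {X : TopCat.{u}}

/-! ### Part B: the sheaf `V ↦ F(V ⊓ W)` -/

/-- `V ↦ V ⊓ W` -/
def interF (W : Opens X) : Opens X ⥤ Opens X where
  obj V := V ⊓ W
  map f := homOfLE (inf_le_inf_right W f.le)

/-- the open inclusion of `W` -/
abbrev jW (W : Opens X) : TopCat.of W ⟶ X := TopCat.ofHom ⟨Subtype.val, continuous_subtype_val⟩

lemma img_preimage_eq (W V : Opens X) :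
    (W.isOpenEmbedding.isOpenMap.functor).obj ((Opens.map (jW W)).obj V) = V ⊓ W := by
  ext x
  constructor
  · rintro ⟨y, hy, rfl⟩
    exact ⟨hy, y.2⟩
  · rintro ⟨hV, hW⟩
    exact ⟨⟨x, hW⟩, hV, rfl⟩

/-- `interF W` is the composite of preimage and image along `W → X` -/
def interFIso (W : Opens X) :
    Opens.map (jW W) ⋙ W.isOpenEmbedding.isOpenMap.functor ≅ interF W :=
  NatIso.ofComponents (fun V => eqToIso (img_preimage_eq W V)) (fun _ => Subsingleton.elim _ _)

instance interF_isContinuous (W : Opens X) :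
    (interF W).IsContinuous (Opens.grothendieckTopology X) (Opens.grothendieckTopology X) := by
  have h1 : (W.isOpenEmbedding.isOpenMap.functor).IsContinuous (Opens.grothendieckTopology (TopCat.of W))
      (Opens.grothendieckTopology X) := W.isOpenEmbedding.functor_isContinuous
  have h2 : (Opens.map (jW W)).IsContinuous (Opens.grothendieckTopology X)
      (Opens.grothendieckTopology (TopCat.of W)) :=
    instIsContinuousOpensCarrierMapGrothendieckTopology (jW W)
  exact @Functor.isContinuous_comp' _ _ _ _ _ _ _ _ _ (interFIso W) (Opens.grothendieckTopology X)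
    (Opens.grothendieckTopology (TopCat.of W)) (Opens.grothendieckTopology X) h2 h1

/-- the sheaf `V ↦ F(V ⊓ W)` -/
noncomputable def resW (W : Opens X) (F : CohTop.Ab X) : CohTop.Ab X :=
  ⟨(interF W).op ⋙ F.obj, Functor.op_comp_isSheaf (interF W) (Opens.grothendieckTopology X)
    (Opens.grothendieckTopology X) F⟩

/-- the transition maps -/
noncomputable def resMap {W W' : Opens X} (h : W' ≤ W) (F : CohTop.Ab X) : resW W F ⟶ resW W' F :=
  ⟨{ app := fun V => F.obj.map (homOfLE (inf_le_inf_left V.unop h)).op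
     naturality := fun V V' f => by
        exact (F.obj.map_comp _ _).symm.trans
          ((congrArg F.obj.map (Subsingleton.elim _ _)).trans (F.obj.map_comp _ _)) }⟩

/-- restriction `F ⟶ resW W F` -/
noncomputable def toRes (W : Opens X) (F : CohTop.Ab X) : F ⟶ resW W F :=
  ⟨{ app := fun V => F.obj.map (homOfLE (inf_le_left : V.unop ⊓ W ≤ V.unop)).op
     naturality := fun V V' f => by
        exact (F.obj.map_comp _ _).symm.trans
          ((congrArg F.obj.map (Subsingleton.elim _ _)).trans (F.obj.map_comp _ _)) }⟩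

lemma resMap_app {W W' : Opens X} (h : W' ≤ W) (F : CohTop.Ab X) (V : Opens X)
    (t : (resW W F).obj.obj (op V)) :
    (resMap h F).hom.app (op V) t = F.obj.map (homOfLE (inf_le_inf_left V h)).op t := rfl

lemma toRes_app (W : Opens X) (F : CohTop.Ab X) (V : Opens X) (s : F.obj.obj (op V)) :
    (toRes W F).hom.app (op V) s = F.obj.map (homOfLE (inf_le_left : V ⊓ W ≤ V)).op s := rfl

lemma resW_map (W : Opens X) (F : CohTop.Ab X) {V V' : Opens X} (h : V' ≤ V)
    (t : (resW W F).obj.obj (op V)) :
    (resW W F).obj.map (homOfLE h).op t = F.obj.map (homOfLE (inf_le_inf_right W h)).op t := rfl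

lemma toRes_resMap {W W' : Opens X} (h : W' ≤ W) (F : CohTop.Ab X) :
    toRes W F ≫ resMap h F = toRes W' F := by
  apply Sheaf.hom_ext
  ext V : 2
  exact (F.obj.map_comp _ _).symm.trans (congrArg F.obj.map (Subsingleton.elim _ _))

/-- the diagram of the `resW W F` over the dense opens -/
noncomputable def Φ (F : CohTop.Ab X) : DO X ⥤ CohTop.Ab X where
  obj W := resW W.op' F
  map f := resMap (DO.le_of_hom f) F
  map_id W := by
    apply Sheaf.hom_ext
    ext V : 2
    exact (congrArg F.obj.map (Subsingleton.elim _ _)).trans (F.obj.map_id _)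
  map_comp f g := by
    apply Sheaf.hom_ext
    ext V : 2
    exact (congrArg F.obj.map (Subsingleton.elim _ _)).trans (F.obj.map_comp _ _)

end Groth.Agent.R2.H2.GrothVan

namespace Groth.Agent.R2.H2.GrothVan

/-! ### Part H: dimension of nowhere dense closed subsets -/

section Dim

variable {T : Type u} [TopologicalSpace T]

lemma isEmpty_of_topologicalKrullDim_lt_zero (h : topologicalKrullDim T < 0) : IsEmpty T := by
  by_contra hne
  rw [not_isEmpty_iff] at hne
  obtain ⟨x⟩ := hne
  haveI : Nonempty (IrreducibleCloseds T) :=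
    ⟨⟨closure {x}, isIrreducible_singleton.closure, isClosed_closure⟩⟩
  have : (0 : WithBot ℕ∞) ≤ topologicalKrullDim T := Order.krullDim_nonneg
  exact absurd h (not_lt.2 this)

variable [NoetherianSpace T]

/-- a nowhere dense closed subset of a Noetherian space has smaller dimension -/
theorem topologicalKrullDim_compl_lt (W : Opens T) (hW : Dense (W : Set T)) (n : ℕ)
    (h : topologicalKrullDim T < ((n + 1 : ℕ) : WithBot ℕ∞)) :
    topologicalKrullDim ((W : Set T)ᶜ : Set T) < ((n : ℕ) : WithBot ℕ∞) := by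
  by_contra hcon
  rw [not_lt] at hcon
  obtain ⟨l, hl⟩ := (Order.le_krullDim_iff).1 hcon
  -- the closed embedding
  have hemb : Topology.IsClosedEmbedding (Subtype.val : ((W : Set T)ᶜ : Set T) → T) :=
    (isClosed_compl_iff.2 W.isOpen).isClosedEmbedding_subtypeVal
  have hm : StrictMono (IrreducibleCloseds.map (Subtype.val : ((W : Set T)ᶜ : Set T) → T)
      hemb.continuous) := IrreducibleCloseds.map_strictMono_of_isInducing hemb.isInducing
  let l' : LTSeries (IrreducibleCloseds T) := l.map _ hm
  -- the last member is contained in the complement of `W`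
  have hsub : ((l'.last : IrreducibleCloseds T) : Set T) ⊆ (W : Set T)ᶜ := by
    have : ((l'.last : IrreducibleCloseds T) : Set T) =
        closure (Subtype.val '' ((l.last : IrreducibleCloseds _) : Set ((W : Set T)ᶜ : Set T))) := by
      rw [LTSeries.last_map]
      rfl
    rw [this]
    apply closure_minimal _ (isClosed_compl_iff.2 W.isOpen)
    rintro _ ⟨z, -, rfl⟩
    exact z.2
  -- an irreducible component containing it
  obtain ⟨t, htirr, hlt, htmax⟩ := exists_preirreducible ((l'.last : IrreducibleCloseds T) : Set T)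
    l'.last.isIrreducible.isPreirreducible
  have htne : t.Nonempty := l'.last.isIrreducible.nonempty.mono hlt
  have htcomp : t ∈ irreducibleComponents T := by
    refine ⟨⟨htne, htirr⟩, fun u hu htu => ?_⟩
    exact (htmax u hu.isPreirreducible htu).le
  have htcl : IsClosed t := isClosed_of_mem_irreducibleComponents t htcomp
  obtain ⟨o, ho, hone, hot⟩ := NoetherianSpace.exists_isOpen_nonempty_subset_irreducibleComponent t htcomp
  obtain ⟨x, hxo, hxW⟩ := hW.inter_open_nonempty o ho hone
  let t' : IrreducibleCloseds T := ⟨t, ⟨htne, htirr⟩, htcl⟩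
  have hlt' : l'.last < t' := by
    refine lt_of_le_of_ne hlt ?_
    intro heq
    have : x ∈ ((l'.last : IrreducibleCloseds T) : Set T) := by
      rw [heq]; exact hot hxo
    exact hsub this hxW
  have hlen := Order.LTSeries.length_le_krullDim (l'.snoc t' hlt')
  have hlen' : ((n + 1 : ℕ) : WithBot ℕ∞) ≤ topologicalKrullDim T := by
    refine le_trans ?_ hlen
    rw [RelSeries.snoc_length, LTSeries.map_length, hl]
  exact absurd h (not_lt.2 hlen')

end Dim

end Groth.Agent.R2.H2.GrothVan

namespace Groth.Agent.R2.H2.GrothVan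

variable {X : TopCat.{u}}

/-! ### Part D: sections and cohomology of directed colimits on Noetherian spaces -/

section Colim

/-- the sections functor -/
noncomputable abbrev ΓV (V : Opens X) : CohTop.Ab X ⥤ AddCommGrpCat.{u} :=
  sheafToPresheaf _ _ ⋙ (evaluation _ _).obj (op V)

/-- `H^q(V, -)` -/
noncomputable abbrev HqV (q : ℕ) (V : Opens X) : CohTop.Ab X ⥤ AddCommGrpCat.{u} :=
  (Sheaf.cohomologyPresheafFunctor (Opens.grothendieckTopology X) q).flip.obj (op V)

lemma addEquiv₀_mk₀ {A : Type*} [Category A] [Abelian A] [HasExt.{u} A] {M N : A} (f : M ⟶ N) :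
    Abelian.Ext.addEquiv₀ (Abelian.Ext.mk₀ f) = f := by
  rw [← Abelian.Ext.addEquiv₀_symm_apply, AddEquiv.apply_symm_apply]

/-- `H^0(V, -)` is the sections functor -/
noncomputable def h0Iso (V : Opens X) : HqV 0 V ≅ ΓV V :=
  NatIso.ofComponents
    (fun M => (Abelian.Ext.addEquiv₀.trans
      (CohFree.homEquivSect (Opens.grothendieckTopology X) V M)).toAddCommGrpIso)
    (by
      intro M N φ
      ext x
      change CohFree.evalGen _ V N (Abelian.Ext.addEquiv₀ (x.comp (Abelian.Ext.mk₀ φ) (add_zero 0))) =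
        φ.hom.app (op V) (CohFree.evalGen _ V M (Abelian.Ext.addEquiv₀ x))
      obtain ⟨f, rfl⟩ := (Abelian.Ext.mk₀_bijective _ _).2 x
      rw [Abelian.Ext.mk₀_comp_mk₀, addEquiv₀_mk₀, addEquiv₀_mk₀]
      rfl)

variable [NoetherianSpace X]

lemma isCompact_opens (V : Opens X) : IsCompact (V : Set X) := NoetherianSpace.isCompact _

instance : QuasiSeparatedSpace X := ⟨fun _ _ _ _ _ _ => NoetherianSpace.isCompact _⟩

variable {ι : Type u} [Preorder ι] [IsDirected ι (· ≤ ·)] [Nonempty ι]

lemma preserves_ΓV (V : Opens X) : PreservesColimitsOfShape ι (ΓV V) := by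
  haveI := Groth.Agent.S0468.result V (isCompact_opens V) ι 0
  exact preservesColimitsOfShape_of_natIso (h0Iso V)

/-- sections of a directed colimit of sheaves on a Noetherian space: every section comes from a stage -/
theorem exists_rep (Ψ : ι ⥤ CohTop.Ab X) (c : Cocone Ψ) (hc : IsColimit c) (V : Opens X)
    (s : c.pt.obj.obj (op V)) :
    ∃ (i : ι) (t : (Ψ.obj i).obj.obj (op V)), (c.ι.app i).hom.app (op V) t = s := by
  haveI := preserves_ΓV (ι := ι) V
  have hcol : IsColimit ((ΓV V).mapCocone c) := isColimitOfPreserves (ΓV V) hc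
  obtain ⟨i, t, ht⟩ := Concrete.isColimit_exists_rep (Ψ ⋙ ΓV V) hcol s
  exact ⟨i, t, ht⟩

/-- sections of a directed colimit of sheaves on a Noetherian space: a section dying in the colimit dies at
a later stage -/
theorem exists_map_eq_zero (Ψ : ι ⥤ CohTop.Ab X) (c : Cocone Ψ) (hc : IsColimit c) (V : Opens X)
    (i : ι) (t : (Ψ.obj i).obj.obj (op V)) (ht : (c.ι.app i).hom.app (op V) t = 0) :
    ∃ (j : ι) (f : i ⟶ j), (Ψ.map f).hom.app (op V) t = 0 := by
  haveI := preserves_ΓV (ι := ι) V
  have hcol : IsColimit ((ΓV V).mapCocone c) := isColimitOfPreserves (ΓV V) hc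
  have h0 : ((ΓV V).mapCocone c).ι.app i t = ((ΓV V).mapCocone c).ι.app i (0 : (Ψ.obj i).obj.obj (op V)) := by
    refine Eq.trans ht ?_
    exact (map_zero ((c.ι.app i).hom.app (op V)).hom).symm
  obtain ⟨j, f, g, hfg⟩ := (Concrete.isColimit_rep_eq_iff_exists (Ψ ⋙ ΓV V) hcol t 0).1 h0
  refine ⟨j, f, ?_⟩
  refine Eq.trans hfg ?_
  exact map_zero ((Ψ.map g).hom.app (op V)).hom

end Colim

end Groth.Agent.R2.H2.GrothVan

namespace Groth.Agent.R2.H2.GrothVan

variable {X : TopCat.{u}}

/-! ### Part E: cohomology of directed colimits, transport along isomorphisms -/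

section ColimH

/-- `H^p(X, F) ≃ H^p(⊤, F)` -/
noncomputable def hTopEquiv (F : CohTop.Ab X) (p : ℕ) : CohTop.H F p ≃+ CohTop.HU F p ⊤ :=
  (E1Deg.extCongrLeft (E1Deg.freeSheafIsoConstant (Opens.grothendieckTopology X) isTerminalTop) F p).symm

lemma H_subsingleton_of_iso {F F' : CohTop.Ab X} (e : F ≅ F') (p : ℕ) [Subsingleton (CohTop.H F p)] :
    Subsingleton (CohTop.H F' p) := by
  refine subsingleton_of_forall_eq 0 (fun x => ?_)
  have h1 : x = Sheaf.H.map e.hom p (Sheaf.H.map e.inv p x) := by
    rw [← Sheaf.H.map_comp_apply, e.inv_hom_id, Sheaf.H.map_id_apply]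
  rw [h1, Subsingleton.elim (Sheaf.H.map e.inv p x) 0, map_zero]

variable [NoetherianSpace X] {ι : Type u} [Preorder ι] [IsDirected ι (· ≤ ·)] [Nonempty ι]

theorem H_subsingleton_of_isColimit (Ψ : ι ⥤ CohTop.Ab X) (c : Cocone Ψ) (hc : IsColimit c) (p : ℕ)
    (h : ∀ i, Subsingleton (CohTop.H (Ψ.obj i) p)) : Subsingleton (CohTop.H c.pt p) := by
  haveI := Groth.Agent.S0468.result (⊤ : Opens X) (isCompact_opens ⊤) ι p
  have hcol : IsColimit ((HqV p ⊤).mapCocone c) := isColimitOfPreserves (HqV p ⊤) hc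
  haveI : Subsingleton (CohTop.HU c.pt p ⊤) := by
    refine subsingleton_of_forall_eq 0 (fun x => ?_)
    obtain ⟨i, t, ht⟩ := Concrete.isColimit_exists_rep (Ψ ⋙ HqV p ⊤) hcol x
    haveI := h i
    haveI : Subsingleton (CohTop.HU (Ψ.obj i) p ⊤) := (hTopEquiv (Ψ.obj i) p).symm.toEquiv.subsingleton
    have ht0 : t = 0 := Subsingleton.elim (α := CohTop.HU (Ψ.obj i) p ⊤) _ _
    rw [← ht, ht0, map_zero]
  exact (hTopEquiv c.pt p).toEquiv.subsingleton

end ColimH

end Groth.Agent.R2.H2.GrothVan

namespace Groth.Agent.R2.H2.GrothVan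

open Groth.Agent.Lib.Helper16.ClosedEmb Groth.Agent.Lib.Helper16.SectSupp

variable {X : TopCat.{u}}

/-! ### Part F: the flasque sheaf of germs along dense opens -/

section Germs

variable [NoetherianSpace X] (F : CohTop.Ab X)

/-- the sheaf of germs of sections of `F` along dense opens -/
noncomputable def G : CohTop.Ab X := colimit (Φ F)

/-- the colimit legs -/
noncomputable def cW (W : DO X) : resW W.op' F ⟶ G F := colimit.ι (Φ F) W

lemma cW_w {W W' : DO X} (f : W ⟶ W') : resMap (DO.le_of_hom f) F ≫ cW F W' = cW F W :=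
  colimit.w (Φ F) f

/-- the top dense open -/
abbrev topDO (X : TopCat.{u}) : DO X := DO.mk ⊤ (by rw [Opens.coe_top]; exact dense_univ)

/-- the canonical map to the sheaf of germs -/
noncomputable def η : F ⟶ G F := toRes (topDO X).op' F ≫ cW F (topDO X)

lemma η_eq (W : DO X) : η F = toRes W.op' F ≫ cW F W := by
  have hle : W.op' ≤ (topDO X).op' := le_top
  have f : topDO X ⟶ W := homOfLE hle
  rw [η, ← cW_w F f, ← Category.assoc, toRes_resMap]

lemma exists_rep_G (V : Opens X) (s : (G F).obj.obj (op V)) :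
    ∃ (W : DO X) (t : F.obj.obj (op (V ⊓ W.op'))), (cW F W).hom.app (op V) t = s :=
  exists_rep (Φ F) (colimit.cocone (Φ F)) (colimit.isColimit (Φ F)) V s

lemma exists_of_cW_eq_zero (V : Opens X) (W : DO X) (t : F.obj.obj (op (V ⊓ W.op')))
    (ht : (cW F W).hom.app (op V) t = 0) :
    ∃ (W' : DO X) (h : W'.op' ≤ W.op'), F.obj.map (homOfLE (inf_le_inf_left V h)).op t = 0 := by
  obtain ⟨W', f, hf⟩ := exists_map_eq_zero (Φ F) (colimit.cocone (Φ F)) (colimit.isColimit (Φ F)) V W t ht
  exact ⟨W', DO.le_of_hom f, hf⟩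

lemma subsingleton_of_le_bot (M : CohTop.Ab X) {A : Opens X} (h : A ≤ ⊥) :
    Subsingleton (ToType (M.obj.obj (op A))) :=
  subsingleton_of_eq_bot M (le_bot_iff.1 h)

instance G_flasque : TopCat.Sheaf.IsFlasque (G F) := by
  constructor
  intro V V' i
  rw [AddCommGrpCat.epi_iff_surjective]
  intro s'
  have hle : V'.unop ≤ V.unop := i.unop.le
  obtain ⟨W, t', ht'⟩ := exists_rep_G F V'.unop s'
  have hD : Dense ((V'.unop ⊔ ext V'.unop : Opens X) : Set X) :=
    dense_sup_ext ⟨le_rfl, subset_closure⟩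
  let Wt : DO X := DO.mk (W.op' ⊓ (V'.unop ⊔ ext V'.unop)) (dense_inf W.dense hD)
  have hWt : Wt.op' ≤ W.op' := inf_le_left
  -- the two pieces
  have hA : V'.unop ⊓ W.op' ≤ V.unop ⊓ Wt.op' :=
    le_inf (inf_le_left.trans hle) (le_inf inf_le_right (inf_le_left.trans le_sup_left))
  have hB : (V.unop ⊓ W.op') ⊓ ext V'.unop ≤ V.unop ⊓ Wt.op' :=
    le_inf (inf_le_left.trans inf_le_left) (le_inf (inf_le_left.trans inf_le_right)
      (inf_le_right.trans le_sup_right))
  have hC : V.unop ⊓ Wt.op' ≤ (V'.unop ⊓ W.op') ⊔ ((V.unop ⊓ W.op') ⊓ ext V'.unop) := by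
    rintro x ⟨hxV, hxW, hxD⟩
    rcases hxD with hx | hx
    · exact Or.inl ⟨hx, hxW⟩
    · exact Or.inr ⟨⟨hxV, hxW⟩, hx⟩
  have hAB : (V'.unop ⊓ W.op') ⊓ ((V.unop ⊓ W.op') ⊓ ext V'.unop) ≤ ⊥ := by
    rw [← inf_ext_eq_bot V'.unop]
    exact le_inf (inf_le_left.trans inf_le_left) (inf_le_right.trans inf_le_right)
  haveI := subsingleton_of_le_bot F hAB
  obtain ⟨c, hcA, -⟩ := glue2 F (V'.unop ⊓ W.op') ((V.unop ⊓ W.op') ⊓ ext V'.unop) (V.unop ⊓ Wt.op')
    hA hB hC t' 0 (Subsingleton.elim _ _)
  refine ⟨(cW F Wt).hom.app V c, ?_⟩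
  have nat := ConcreteCategory.congr_hom ((cW F Wt).hom.naturality i) c
  refine nat.symm.trans ?_
  rw [← ht', ← cW_w F (homOfLE hWt : W ⟶ Wt)]
  change (cW F Wt).hom.app V' ((resW Wt.op' F).obj.map i c) =
    (cW F Wt).hom.app V' ((resMap hWt F).hom.app V' t')
  congr 1
  change F.obj.map (homOfLE (inf_le_inf_right Wt.op' hle)).op c =
    F.obj.map (homOfLE (inf_le_inf_left V'.unop hWt)).op t'
  rw [← hcA]
  exact (map_map_apply F _ _ _ c).symm

end Germs

end Groth.Agent.R2.H2.GrothVan

namespace Groth.Agent.R2.H2.GrothVan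

open Groth.Agent.Lib.Helper16.ClosedEmb Groth.Agent.Lib.Helper16.SectSupp

variable {X : TopCat.{u}}

/-! ### Part G: sheaves all of whose sections vanish on dense opens -/

section LDsec

/-- every section vanishes on a dense open -/
def LD (M : CohTop.Ab X) : Prop :=
  ∀ (V : Opens X) (s : M.obj.obj (op V)), ∃ W : Opens X, Dense (W : Set X) ∧
    M.obj.map (homOfLE (inf_le_left : V ⊓ W ≤ V)).op s = 0

/-- lifting sections to a kernel -/
lemma exists_kernel_lift {A B : CohTop.Ab X} (φ : A ⟶ B) (V : Opens X) (a : A.obj.obj (op V))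
    (ha : φ.hom.app (op V) a = 0) :
    ∃ b : (kernel φ).obj.obj (op V), (kernel.ι φ).hom.app (op V) b = a := by
  have h0 : CohFree.ofSect (J X) V A a ≫ φ = 0 := by
    rw [ofSect_comp, ha]
    apply (CohFree.homEquivSect (J X) V B).injective
    rw [CohFree.homEquivSect_apply, CohFree.evalGen_ofSect, map_zero]
  refine ⟨CohFree.evalGen (J X) V _ (kernel.lift φ _ h0), ?_⟩
  rw [← evalGen_comp, kernel.lift_ι, CohFree.evalGen_ofSect]

lemma kernel_condition_apply {A B : CohTop.Ab X} (φ : A ⟶ B) (V : Opens X)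
    (t : (kernel φ).obj.obj (op V)) :
    φ.hom.app (op V) ((kernel.ι φ).hom.app (op V) t) = 0 := by
  have hc : kernel.ι φ ≫ φ = 0 := kernel.condition _
  exact congrArg (fun m => m.hom.app (op V) t) hc

variable (M : CohTop.Ab X)

/-- the subsheaf of sections vanishing on `W` -/
noncomputable abbrev supp (W : Opens X) : CohTop.Ab X := kernel (toRes W M)

/-- transition maps -/
noncomputable def suppMap {W W' : Opens X} (h : W' ≤ W) : supp M W ⟶ supp M W' :=
  kernel.map (toRes W M) (toRes W' M) (𝟙 M) (resMap h M) (by rw [Category.id_comp, toRes_resMap])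

lemma suppMap_ι {W W' : Opens X} (h : W' ≤ W) :
    suppMap M h ≫ kernel.ι (toRes W' M) = kernel.ι (toRes W M) :=
  (kernel.lift_ι _ _ _).trans (Category.comp_id _)

lemma sz_supp (W : Opens X) : SZ W (supp M W) := by
  intro V hV
  refine subsingleton_of_forall_eq 0 (fun t => ?_)
  apply injective_of_mono (kernel.ι (toRes W M)) V
  refine Eq.trans ?_ (map_zero _).symm
  have hc := kernel_condition_apply (toRes W M) V t
  have inj := map_injective_of_eq M (homOfLE (inf_le_left : V ⊓ W ≤ V)) (inf_eq_left.2 hV).symm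
  exact inj (hc.trans (map_zero _).symm)

/-- the diagram of the subsheaves of sections supported off dense opens -/
noncomputable def Ψ : DO X ⥤ CohTop.Ab X where
  obj W := supp M W.op'
  map f := suppMap M (DO.le_of_hom f)
  map_id W := by
    rw [← cancel_mono (kernel.ι (toRes W.op' M)), suppMap_ι, Category.id_comp]
  map_comp {W₁ W₂ W₃} f g := by
    rw [← cancel_mono (kernel.ι (toRes W₃.op' M)), Category.assoc, suppMap_ι, suppMap_ι, suppMap_ι]

/-- the cocone of inclusions -/
noncomputable def suppCocone : Cocone (Ψ M) where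
  pt := M
  ι :=
    { app := fun W => kernel.ι (toRes W.op' M)
      naturality := fun W W' f => by
        change suppMap M (DO.le_of_hom f) ≫ kernel.ι (toRes W'.op' M) = kernel.ι (toRes W.op' M) ≫ 𝟙 M
        rw [suppMap_ι, Category.comp_id] }

/-- the comparison map from the colimit -/
noncomputable def dM : colimit (Ψ M) ⟶ M := colimit.desc (Ψ M) (suppCocone M)

lemma ι_dM (W : DO X) : colimit.ι (Ψ M) W ≫ dM M = kernel.ι (toRes W.op' M) :=
  colimit.ι_desc (suppCocone M) W

variable [NoetherianSpace X]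

lemma dM_bijective (hM : LD M) (V : Opens X) : Function.Bijective ((dM M).hom.app (op V)) := by
  constructor
  · rw [injective_iff_map_eq_zero]
    intro s hs
    obtain ⟨W, t, rfl⟩ := exists_rep (Ψ M) (colimit.cocone (Ψ M)) (colimit.isColimit (Ψ M)) V s
    have h1 : (kernel.ι (toRes W.op' M)).hom.app (op V) t = 0 := by
      rw [← ι_dM M W]
      exact hs
    have h2 : t = 0 := by
      apply injective_of_mono (kernel.ι (toRes W.op' M)) V
      exact h1.trans (map_zero _).symm
    rw [h2, map_zero]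
  · intro m
    obtain ⟨W, hW, hm⟩ := hM V m
    obtain ⟨t, ht⟩ := exists_kernel_lift (toRes W M) V m hm
    refine ⟨(colimit.ι (Ψ M) (DO.mk W hW)).hom.app (op V) t, ?_⟩
    refine Eq.trans ?_ ht
    exact congrArg (fun (φ : (Ψ M).obj (DO.mk W hW) ⟶ M) => φ.hom.app (op V) t) (ι_dM M (DO.mk W hW))

lemma isIso_dM (hM : LD M) : IsIso (dM M) := by
  haveI : ∀ V, IsIso ((dM M).hom.app V) := fun V =>
    (ConcreteCategory.isIso_iff_bijective _).2 (dM_bijective M hM V.unop)
  haveI : IsIso (dM M).hom := NatIso.isIso_of_isIso_app _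
  haveI : IsIso ((sheafToPresheaf _ _).map (dM M)) := ‹IsIso (dM M).hom›
  exact isIso_of_reflects_iso (dM M) (sheafToPresheaf _ _)

/-- cohomology of a sheaf all of whose sections vanish on dense opens vanishes in the degrees in which the
cohomology of all nowhere dense closed subspaces vanishes -/
theorem H_subsingleton_of_LD (hM : LD M) (p : ℕ)
    (hZ : ∀ W : Opens X, Dense (W : Set X) →
      ∀ N : CohTop.Ab (TopCat.of ((W : Set X)ᶜ : Set X)), Subsingleton (CohTop.H N p)) :
    Subsingleton (CohTop.H M p) := by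
  have hstage : ∀ W : DO X, Subsingleton (CohTop.H ((Ψ M).obj W) p) := by
    intro W
    have hsz := sz_supp M W.op'
    obtain ⟨e⟩ := nonempty_H_push (iZ W.op') (hiZ W.op') (toZ W.op' _ hsz) p
    haveI := hZ W.op' W.dense (toZ W.op' _ hsz)
    haveI : Subsingleton (CohTop.H ((CohTop.push (iZ W.op')).obj (toZ W.op' _ hsz)) p) :=
      e.symm.toEquiv.subsingleton
    exact H_subsingleton_of_iso (asIso (θ W.op' _ hsz)) p
  haveI : Subsingleton (CohTop.H (colimit (Ψ M)) p) :=
    H_subsingleton_of_isColimit (Ψ M) (colimit.cocone _) (colimit.isColimit _) p hstage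
  haveI := isIso_dM M hM
  exact H_subsingleton_of_iso (asIso (dM M)) p

end LDsec

end Groth.Agent.R2.H2.GrothVan

namespace Groth.Agent.R2.H2.GrothVan

open Groth.Agent.Lib.Helper16.ClosedEmb Groth.Agent.Lib.Helper16.SectSupp

variable {X : TopCat.{u}}

/-! ### Part I: kernel and cokernel of `F ⟶ G F`, and the induction -/

section Main

variable [NoetherianSpace X] (F : CohTop.Ab X)

lemma LD_kernel : LD (kernel (Abelian.factorThruImage (η F))) := by
  intro V s
  have h1 := kernel_condition_apply (Abelian.factorThruImage (η F)) V s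
  have h2 : (η F).hom.app (op V) ((kernel.ι (Abelian.factorThruImage (η F))).hom.app (op V) s) = 0 := by
    have hfac : Abelian.factorThruImage (η F) ≫ Abelian.image.ι (η F) = η F := Abelian.image.fac (η F)
    refine (congrArg (fun (m : F ⟶ G F) => m.hom.app (op V)
      ((kernel.ι (Abelian.factorThruImage (η F))).hom.app (op V) s)) hfac).symm.trans ?_
    change (Abelian.image.ι (η F)).hom.app (op V) ((Abelian.factorThruImage (η F)).hom.app (op V) _) = 0
    exact (congrArg _ h1).trans (map_zero _)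
  have h3 : (cW F (topDO X)).hom.app (op V) ((toRes (topDO X).op' F).hom.app (op V)
      ((kernel.ι (Abelian.factorThruImage (η F))).hom.app (op V) s)) = 0 := h2
  obtain ⟨W', hW', h4⟩ := exists_of_cW_eq_zero F V (topDO X) _ h3
  refine ⟨W'.op', W'.dense, ?_⟩
  apply injective_of_mono (kernel.ι (Abelian.factorThruImage (η F))) (V ⊓ W'.op')
  refine Eq.trans ?_ (map_zero _).symm
  have nat := ConcreteCategory.congr_hom ((kernel.ι (Abelian.factorThruImage (η F))).hom.naturality
    (homOfLE (inf_le_left : V ⊓ W'.op' ≤ V)).op) s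
  refine nat.trans ?_
  rw [toRes_app] at h4
  exact (map_map_apply F _ _ _ _).symm.trans h4

lemma cokernel_condition_apply {A B : CohTop.Ab X} (φ : A ⟶ B) (V : Opens X) (a : A.obj.obj (op V)) :
    (cokernel.π φ).hom.app (op V) (φ.hom.app (op V) a) = 0 := by
  have hc : φ ≫ cokernel.π φ = 0 := cokernel.condition _
  exact congrArg (fun m => m.hom.app (op V) a) hc

lemma LD_cokernel : LD (cokernel (η F)) := by
  intro V c
  have hepi := (locSurj_iff (cokernel.π (η F))).1 inferInstance
  have key : ∀ x : X, x ∈ V → ∃ (Vx Ox : Opens X), x ∈ Vx ∧ Vx ≤ V ∧ DenseIn Ox Vx ∧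
      ∀ h : Ox ≤ V, (cokernel (η F)).obj.map (homOfLE h).op c = 0 := by
    intro x hx
    obtain ⟨Vx, hVx, ⟨g, hg⟩, hxVx⟩ := hepi V c x hx
    obtain ⟨W, t, ht⟩ := exists_rep_G F Vx g
    refine ⟨Vx, Vx ⊓ W.op', hxVx, hVx, denseIn_inf_of_dense Vx W.op' W.dense, fun h => ?_⟩
    have e1 : (G F).obj.map (homOfLE (inf_le_left : Vx ⊓ W.op' ≤ Vx)).op g =
        (η F).hom.app (op (Vx ⊓ W.op')) t := by
      rw [η_eq F W, ← ht]
      have nat := ConcreteCategory.congr_hom ((cW F W).hom.naturality
        (homOfLE (inf_le_left : Vx ⊓ W.op' ≤ Vx)).op) t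
      exact nat.symm
    have e2 : (cokernel (η F)).obj.map (homOfLE h).op c =
        (cokernel (η F)).obj.map (homOfLE (inf_le_left : Vx ⊓ W.op' ≤ Vx)).op
          ((cokernel (η F)).obj.map (homOfLE hVx).op c) :=
      (map_map_apply (cokernel (η F)) _ _ _ c).symm
    rw [e2, ← hg]
    have nat2 := ConcreteCategory.congr_hom ((cokernel.π (η F)).hom.naturality
      (homOfLE (inf_le_left : Vx ⊓ W.op' ≤ Vx)).op) g
    refine nat2.symm.trans ?_
    change (cokernel.π (η F)).hom.app (op (Vx ⊓ W.op')) ((G F).obj.map _ g) = 0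
    rw [e1]
    exact cokernel_condition_apply (η F) _ t
  choose! Vx Ox hxV hVxV hdense hzero using key
  let O : Opens X := ⨆ x : {x : X // x ∈ V}, Ox x.1
  have hOx : ∀ x : {x : X // x ∈ V}, Ox x.1 ≤ O := fun x => le_iSup (fun x : {x : X // x ∈ V} => Ox x.1) x
  have hOV : O ≤ V := iSup_le (fun x => (hdense x.1 x.2).1.trans (hVxV x.1 x.2))
  have hdO : DenseIn O V := by
    refine ⟨hOV, fun y hy => ?_⟩
    have h1 : y ∈ closure ((Ox y : Opens X) : Set X) := (hdense y hy).2 (hxV y hy)
    exact closure_mono (hOx ⟨y, hy⟩) h1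
  have hcO : (cokernel (η F)).obj.map (homOfLE hOV).op c = 0 := by
    apply TopCat.Sheaf.eq_of_locally_eq' (cokernel (η F)) (fun x : {x : X // x ∈ V} => Ox x.1) O
      (fun x => homOfLE (hOx x)) le_rfl
    intro x
    refine Eq.trans ?_ (map_zero _).symm
    exact (map_map_apply (cokernel (η F)) _ _ _ c).trans
      (hzero x.1 x.2 ((hdense x.1 x.2).1.trans (hVxV x.1 x.2)))
  refine ⟨O ⊔ ext V, dense_sup_ext hdO, ?_⟩
  have heq : V ⊓ (O ⊔ ext V) = O := inf_sup_ext hOV
  exact (map_map_apply (cokernel (η F)) (homOfLE hOV) (homOfLE heq.le) _ c).symm.trans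
    ((congrArg _ hcO).trans (map_zero _))

/-- short exact sequence from an epimorphism and its kernel -/
lemma shortExact_kernel {A B : CohTop.Ab X} (g : A ⟶ B) [Epi g] :
    (ShortComplex.mk (kernel.ι g) g (kernel.condition g)).ShortExact where
  exact := ShortComplex.exact_of_f_is_kernel _ (kernelIsKernel g)
  mono_f := inferInstanceAs (Mono (kernel.ι g))
  epi_g := inferInstanceAs (Epi g)

/-- the inductive step -/
theorem step (p : ℕ) (hp : 1 ≤ p)
    (h1 : ∀ W : Opens X, Dense (W : Set X) →
      ∀ N : CohTop.Ab (TopCat.of ((W : Set X)ᶜ : Set X)), Subsingleton (CohTop.H N p))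
    (h2 : ∀ W : Opens X, Dense (W : Set X) →
      ∀ N : CohTop.Ab (TopCat.of ((W : Set X)ᶜ : Set X)), Subsingleton (CohTop.H N (p - 1))) :
    Subsingleton (CohTop.H F p) := by
  obtain ⟨q, rfl⟩ : ∃ q, p = q + 1 := ⟨p - 1, by omega⟩
  have hK := H_subsingleton_of_LD _ (LD_kernel F) (q + 1) h1
  have hC := H_subsingleton_of_LD _ (LD_cokernel F) q (by simpa using h2)
  have hG : Subsingleton (CohTop.H (G F) (q + 1)) := Groth.Agent.Lib.Helper16.Flasque.H_subsingleton (G F) q
  -- the two short exact sequences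
  have hS2 := shortExact_kernel (cokernel.π (η F))
  have hS1 := shortExact_kernel (Abelian.factorThruImage (η F))
  -- H^{q+1} of the image vanishes
  have hI : Subsingleton (CohTop.H (Abelian.image (η F)) (q + 1)) := by
    refine subsingleton_of_forall_eq 0 (fun x₁ => ?_)
    have hx₁ : x₁.comp (Abelian.Ext.mk₀ (kernel.ι (cokernel.π (η F)))) (add_zero (q + 1)) = 0 :=
      Subsingleton.elim (α := CohTop.H (G F) (q + 1)) _ _
    obtain ⟨x₃, hx₃⟩ := Abelian.Ext.covariant_sequence_exact₁ _ hS2 x₁ hx₁ rfl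
    have : x₃ = 0 := Subsingleton.elim (α := CohTop.H (cokernel (η F)) q) _ _
    rw [← hx₃, this, Abelian.Ext.zero_comp]
  refine subsingleton_of_forall_eq 0 (fun x₂ => ?_)
  have hx₂ : x₂.comp (Abelian.Ext.mk₀ (Abelian.factorThruImage (η F))) (add_zero (q + 1)) = 0 :=
    Subsingleton.elim (α := CohTop.H (Abelian.image (η F)) (q + 1)) _ _
  obtain ⟨x₁, hx₁⟩ := Abelian.Ext.covariant_sequence_exact₂ _ hS1 x₂ hx₂
  have : x₁ = 0 := Subsingleton.elim (α := CohTop.H (kernel (Abelian.factorThruImage (η F))) (q + 1)) _ _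
  rw [← hx₁, this, Abelian.Ext.zero_comp]

end Main

/-- sheaves on the empty space have no cohomology -/
lemma H_subsingleton_of_isEmpty [IsEmpty X] (F : CohTop.Ab X) (p : ℕ) : Subsingleton (CohTop.H F p) := by
  have hz : ∀ U : (Opens X)ᵒᵖ, IsZero (F.obj.obj U) := by
    intro U
    have hU : U.unop = ⊥ := by
      ext x
      exact isEmptyElim x
    have hT : IsTerminal (F.obj.obj (op U.unop)) := TopCat.Sheaf.isTerminalOfEqEmpty F hU
    exact IsZero.of_iso (isZero_zero _) (hT.uniqueUpToIso HasZeroObject.zeroIsTerminal)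
  have hF : IsZero F.obj := Functor.isZero _ hz
  have hF' : IsZero F := by
    refine ⟨fun G => ⟨⟨⟨0⟩, fun f => ?_⟩⟩, fun G => ⟨⟨⟨0⟩, fun f => ?_⟩⟩⟩
    · apply Sheaf.hom_ext
      exact hF.eq_of_src _ _
    · apply Sheaf.hom_ext
      exact hF.eq_of_tgt _ _
  exact Sheaf.subsingleton_H_of_isZero hF' p

/-- Grothendieck's vanishing theorem, inductive form -/
theorem vanishing : ∀ (n : ℕ) (X : TopCat.{u}) [NoetherianSpace X],
    topologicalKrullDim X < ((n : ℕ) : WithBot ℕ∞) → ∀ (F : CohTop.Ab X) (p : ℕ), n ≤ p →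
      Subsingleton (CohTop.H F p)
  | 0, X, _, hdim, F, p, _ => by
      haveI : IsEmpty X := isEmpty_of_topologicalKrullDim_lt_zero (by simpa using hdim)
      exact H_subsingleton_of_isEmpty F p
  | (n + 1), X, _, hdim, F, p, hp => by
      have hZ : ∀ W : Opens X, Dense (W : Set X) → ∀ (N : CohTop.Ab (TopCat.of ((W : Set X)ᶜ : Set X))) (q : ℕ),
          n ≤ q → Subsingleton (CohTop.H N q) := by
        intro W hW N q hq
        haveI : NoetherianSpace (TopCat.of ((W : Set X)ᶜ : Set X)) :=
          inferInstanceAs (NoetherianSpace ((W : Set X)ᶜ : Set X))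
        exact vanishing n (TopCat.of ((W : Set X)ᶜ : Set X)) (topologicalKrullDim_compl_lt W hW n hdim) N q hq
      exact step F p (by omega) (fun W hW N => hZ W hW N p (by omega))
        (fun W hW N => hZ W hW N (p - 1) (by omega))

end Groth.Agent.R2.H2.GrothVan
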