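import Mathlib
import Groth.Prelude.Def_Coh
import Groth.Agent.S0468
import Groth.Agent.S9819
import Groth.Agent.Lib.Helper23FTsub
import Groth.Agent.Lib.Helper16ClosedEmb
import Groth.Agent.R2.H2GrothVan

/-!
# Cohomology of a quasi-coherent module from its finite type submodules (helper10)

On a quasi-compact quasi-separated scheme `X`, a quasi-coherent module `K` is the directed union of its
quasi-coherent submodules of finite type (S9819), and cohomology commutes with directed colimits (S0468).
Hence:

* `H_subsingleton_of_isColimit'`: on a compact quasi-separated prespectral space, `H^p` of a directed colimit of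
  abelian sheaves vanishes if it vanishes at every stage.
* `subsingleton_HH_of_ft`: if `H^p(X, K') = 0` for every quasi-coherent submodule of finite type `K' ⊆ K`, then
  `H^p(X, K) = 0` (every `p`).
-/

set_option autoImplicit false
set_option linter.style.haveILetI false
universe u
open CategoryTheory Limits AlgebraicGeometry TopologicalSpace Opposite Abelian

namespace Groth.Agent.R2.H10.FtColim

open Groth.Agent.R2.H2.GrothVan

section Top

variable {X : TopCat.{u}} [PrespectralSpace X] [QuasiSeparatedSpace X] [CompactSpace X]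
  {ι : Type u} [Preorder ι] [IsDirected ι (· ≤ ·)] [Nonempty ι]

/-- `H^p` of a directed colimit of abelian sheaves on a compact quasi-separated prespectral space vanishes if it
vanishes at every stage. -/
theorem H_subsingleton_of_isColimit' (Ψ : ι ⥤ CohTop.Ab X) (c : Cocone Ψ) (hc : IsColimit c) (p : ℕ)
    (h : ∀ i, Subsingleton (CohTop.H (Ψ.obj i) p)) : Subsingleton (CohTop.H c.pt p) := by
  have htop : IsCompact (((⊤ : Opens X)) : Set X) := by simpa using isCompact_univ
  haveI := Groth.Agent.S0468.result (⊤ : Opens X) htop ι p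
  have hcol : IsColimit ((HqV p ⊤).mapCocone c) := isColimitOfPreserves (HqV p ⊤) hc
  haveI : Subsingleton (CohTop.HU c.pt p ⊤) := by
    refine subsingleton_of_forall_eq 0 (fun x => ?_)
    obtain ⟨i, t, ht⟩ := Concrete.isColimit_exists_rep (Ψ ⋙ HqV p ⊤) hcol x
    haveI := h i
    haveI : Subsingleton (CohTop.HU (Ψ.obj i) p ⊤) := (hTopEquiv (Ψ.obj i) p).symm.toEquiv.subsingleton
    have ht0 : t = 0 := Subsingleton.elim (α := CohTop.HU (Ψ.obj i) p ⊤) _ _
    rw [← ht, ht0, map_zero]
  exact (hTopEquiv c.pt p).toEquiv.subsingleton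

end Top

section Sub

open Groth.Agent.Lib.Helper23.QCohLocal Groth.Agent.Lib.Helper23.FinType Groth.Agent.Lib.Helper23.FTsub

variable {X : Scheme.{u}} (K : X.Modules)

/-- quasi-coherence is invariant under isomorphisms -/
theorem isQuasicoherent_of_iso {M N : X.Modules} (e : M ≅ N) [hM : M.IsQuasicoherent] :
    N.IsQuasicoherent := by
  obtain ⟨⟨q⟩⟩ := hM
  haveI : IsIso (C := SheafOfModules.{u} X.ringCatSheaf) e.hom := inferInstanceAs (IsIso e.hom)
  exact (SheafOfModules.QuasicoherentData.ofIsIso.{u, u, u, u} e.hom q).isQuasicoherent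

/-- the subobject has a quasi-coherent underlying module of finite type -/
def P (T : Subobject K) : Prop :=
  (T : X.Modules).IsQuasicoherent ∧ SheafOfModules.IsFiniteType (R := X.ringCatSheaf) (T : X.Modules)

variable {K}

theorem P_of_iso {T : Subobject K} {A : X.Modules} (e : A ≅ (T : X.Modules)) (hq : A.IsQuasicoherent)
    (hf : SheafOfModules.IsFiniteType (R := X.ringCatSheaf) A) : P K T := by
  haveI := hq
  haveI := hf
  have h1 : (T : X.Modules).IsQuasicoherent := isQuasicoherent_of_iso e
  exact ⟨h1, isFiniteType_of_iso e⟩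

theorem P_mk {A : X.Modules} (a : A ⟶ K) [Mono a] (hq : A.IsQuasicoherent)
    (hf : SheafOfModules.IsFiniteType (R := X.ringCatSheaf) A) : P K (Subobject.mk a) :=
  P_of_iso (Subobject.underlyingIso a).symm hq hf

theorem P_sup [K.IsQuasicoherent] {T₁ T₂ : Subobject K} (h₁ : P K T₁) (h₂ : P K T₂) : P K (T₁ ⊔ T₂) := by
  haveI := h₁.1
  haveI := h₁.2
  haveI := h₂.1
  haveI := h₂.2
  let A : X.Modules := (T₁ : X.Modules)
  let B : X.Modules := (T₂ : X.Modules)
  have hAB : (A ⊞ B : X.Modules).IsQuasicoherent := isQuasicoherent_biprod A B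
  have hABf : SheafOfModules.IsFiniteType (R := X.ringCatSheaf) (A ⊞ B : X.Modules) := isFiniteType_biprod A B
  let d : (A ⊞ B : X.Modules) ⟶ K := biprod.desc T₁.arrow T₂.arrow
  have hC : (cokernel d).IsQuasicoherent := isQuasicoherent_cokernel d
  let C : X.Modules := kernel (cokernel.π d)
  have hCq : C.IsQuasicoherent := isQuasicoherent_kernel (cokernel.π d)
  let c : C ⟶ K := kernel.ι (cokernel.π d)
  let q : (A ⊞ B : X.Modules) ⟶ C := Abelian.factorThruImage d
  have hq : Epi q := inferInstanceAs (Epi (Abelian.factorThruImage d))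
  have hqc : q ≫ c = d := Abelian.image.fac d
  have hCf : SheafOfModules.IsFiniteType (R := X.ringCatSheaf) C := isFiniteType_of_epi q
  haveI : Mono c := inferInstanceAs (Mono (kernel.ι (cokernel.π d)))
  have heq : T₁ ⊔ T₂ = Subobject.mk c := by
    apply le_antisymm
    · apply sup_le
      · refine Subobject.le_mk_of_comm (biprod.inl ≫ q) ?_
        rw [Category.assoc, hqc]
        exact biprod.inl_desc _ _
      · refine Subobject.le_mk_of_comm (biprod.inr ≫ q) ?_
        rw [Category.assoc, hqc]
        exact biprod.inr_desc _ _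
    · let T : Subobject K := T₁ ⊔ T₂
      let r : (A ⊞ B : X.Modules) ⟶ (T : X.Modules) :=
        biprod.desc (Subobject.ofLE T₁ T le_sup_left) (Subobject.ofLE T₂ T le_sup_right)
      have hr : r ≫ T.arrow = q ≫ c := by
        rw [hqc]
        apply biprod.hom_ext'
        · rw [biprod.inl_desc_assoc, Subobject.ofLE_arrow, biprod.inl_desc]
        · rw [biprod.inr_desc_assoc, Subobject.ofLE_arrow, biprod.inr_desc]
      haveI : StrongEpi q := strongEpi_of_epi q
      have sq : CommSq r q T.arrow c := ⟨hr⟩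
      exact Subobject.mk_le_of_comm sq.lift sq.fac_right
  exact P_of_iso (Subobject.isoOfEqMk _ c heq).symm hCq hCf

theorem P_bot (A : X.Modules) (hq : A.IsQuasicoherent)
    (hf : SheafOfModules.IsFiniteType (R := X.ringCatSheaf) A) : P K ⊥ := by
  haveI := hq
  haveI := hf
  have hCq : (cokernel (𝟙 A)).IsQuasicoherent := isQuasicoherent_cokernel (𝟙 A)
  have hCf : SheafOfModules.IsFiniteType (R := X.ringCatSheaf) (cokernel (𝟙 A)) :=
    @isFiniteType_of_epi X A (cokernel (𝟙 A)) _ hCq (cokernel.π (𝟙 A)) _ _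
  exact P_of_iso (cokernel.ofEpi (𝟙 A) ≪≫ Subobject.botCoeIsoZero.symm) hCq hCf

variable (K)

/-- the functor to `MonoOver` of the underlying abelian sheaf induced by a monotone family of submodules -/
noncomputable def monoFunctor {ι : Type u} [Preorder ι] (Sub : ι →o Subobject K) :
    ι ⥤ MonoOver ((toAbF X).obj K) where
  obj S := MonoOver.mk ((toAbF X).map (Sub S).arrow)
  map {S T} f := MonoOver.homMk ((toAbF X).map (Subobject.ofLE (Sub S) (Sub T) (Sub.monotone (leOfHom f))))
    (by
      change (toAbF X).map _ ≫ (toAbF X).map _ = (toAbF X).map _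
      rw [← Functor.map_comp, Subobject.ofLE_arrow])
  map_id _ := Subsingleton.elim _ _
  map_comp _ _ := Subsingleton.elim _ _

end Sub

section Main

open Groth.Agent.Lib.Helper23.QCohLocal Groth.Agent.Lib.Helper23.FinType Groth.Agent.Lib.Helper23.FTsub
open Groth.Agent.Lib.Helper16.ClosedEmb

variable {X : Scheme.{u}} [CompactSpace X] [QuasiSeparatedSpace X] (K : X.Modules) [K.IsQuasicoherent]

/-- **Reduction to finite type submodules**: on a quasi-compact quasi-separated scheme, if `H^p` vanishes for
all quasi-coherent submodules of finite type of a quasi-coherent module `K`, then `H^p(X, K) = 0`. -/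
theorem subsingleton_HH_of_ft (p : ℕ)
    (h : ∀ (K' : X.Modules) (i : K' ⟶ K), Mono i → K'.IsQuasicoherent →
      SheafOfModules.IsFiniteType (R := X.ringCatSheaf) K' → Subsingleton (Coh.HH X K' p)) :
    Subsingleton (Coh.HH X K p) := by
  classical
  have hch := fun a : (Σ U : X.affineOpens, Γ(K, U.1)) => Groth.Agent.S9819.result K a.1 a.2
  choose G i hi hq hf g hg using hch
  haveI := hi
  let sub : (Σ U : X.affineOpens, Γ(K, U.1)) → Subobject K := fun a => Subobject.mk (i a)
  let Sub : Finset (Σ U : X.affineOpens, Γ(K, U.1)) →o Subobject K :=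
    ⟨fun S => S.sup sub, fun S T hST => Finset.sup_mono hST⟩
  let a₀ : (Σ U : X.affineOpens, Γ(K, U.1)) := ⟨⟨⊥, isAffineOpen_bot X⟩, 0⟩
  have hP : ∀ S, P K (Sub S) := by
    intro S
    exact Finset.sup_induction (P_bot (G a₀) (hq a₀) (hf a₀)) (fun T₁ h₁ T₂ h₂ => P_sup h₁ h₂)
      (fun a _ => P_mk (i a) (hq a) (hf a))
  let Φ := monoFunctor K Sub
  let Ψ : Finset (Σ U : X.affineOpens, Γ(K, U.1)) ⥤ CohTop.Ab X.carrier :=
    Φ ⋙ MonoOver.forget _ ⋙ Over.forget _
  let cc : Cocone Ψ :=
    { pt := (toAbF X).obj K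
      ι :=
        { app := fun S => (toAbF X).map (Sub S).arrow
          naturality := by
            intro S T f
            change (toAbF X).map _ ≫ (toAbF X).map _ = (toAbF X).map _ ≫ 𝟙 _
            rw [Category.comp_id, ← Functor.map_comp, Subobject.ofLE_arrow] } }
  let f : colimit Ψ ⟶ (toAbF X).obj K := colimit.desc Ψ cc
  have hf' : ∀ S, colimit.ι Ψ S ≫ f = (Φ.obj S).obj.hom := fun S => colimit.ι_desc cc S
  haveI : Mono f := IsGrothendieckAbelian.mono_of_isColimit_monoOver Φ (colimit.isColimit Ψ) f hf'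
  haveI : Epi f := by
    rw [locSurj_iff]
    intro V t x hx
    obtain ⟨U, hU, hxU, hUV⟩ := (Opens.isBasis_iff_nbhd.1 X.isBasis_affineOpens) hx
    let a : (Σ U : X.affineOpens, Γ(K, U.1)) := ⟨⟨U, hU⟩, K.presheaf.map (homOfLE hUV).op t⟩
    have hle : sub a ≤ Sub {a} := by
      change sub a ≤ Finset.sup {a} sub
      rw [Finset.sup_singleton]
    let e : G a ⟶ ((Sub {a} : Subobject K) : X.Modules) :=
      (Subobject.underlyingIso (i a)).inv ≫ Subobject.ofLE _ _ hle
    have he : e ≫ (Sub {a}).arrow = i a := by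
      change ((Subobject.underlyingIso (i a)).inv ≫ Subobject.ofLE _ _ hle) ≫ _ = _
      rw [Category.assoc, Subobject.ofLE_arrow, Subobject.underlyingIso_arrow]
    refine ⟨U, hUV, ⟨(colimit.ι Ψ {a}).hom.app (op U) (((toAbF X).map e).hom.app (op U) (g a)), ?_⟩, hxU⟩
    have h1 : (colimit.ι Ψ {a} ≫ f) = (toAbF X).map (Sub {a}).arrow := hf' {a}
    have h2 : (toAbF X).map e ≫ (colimit.ι Ψ {a} ≫ f) = (toAbF X).map (i a) := by
      have h2' : (toAbF X).map e ≫ (toAbF X).map (Sub {a}).arrow = (toAbF X).map (i a) := by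
        rw [← Functor.map_comp, he]
      exact (congrArg (fun z : (toAbF X).obj ((Sub {a} : Subobject K) : X.Modules) ⟶ (toAbF X).obj K =>
        (toAbF X).map e ≫ z) h1).trans h2'
    have h3 := congrArg (fun φ : (toAbF X).obj (G a) ⟶ (toAbF X).obj K => φ.hom.app (op U) (g a)) h2
    exact h3.trans (hg a)
  haveI : IsIso f := isIso_of_mono_of_epi f
  haveI : Subsingleton (CohTop.H (colimit Ψ) p) :=
    H_subsingleton_of_isColimit' Ψ _ (colimit.isColimit Ψ) p
      (fun S => h _ (Sub S).arrow inferInstance (hP S).1 (hP S).2)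
  exact H_subsingleton_of_iso (asIso f) p

end Main

end Groth.Agent.R2.H10.FtColim
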