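import Mathlib

/-!
# The covariant long exact `Ext` sequence in elementwise form (helper62)

For an abelian category `C` with `HasExt.{w} C`, an object `Z` and a short exact sequence `S`:
the maps `gmap Z f n : Ext Z A n →+ Ext Z B n`, the connecting maps `gδ Z hS n`, exactness of the
long sequence as `Function.Exact` statements, naturality, and finite coproducts.
-/

set_option autoImplicit false
set_option linter.style.haveILetI false
set_option linter.unusedSectionVars false
universe w v u

open CategoryTheory CategoryTheory.Limits Abelian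

namespace Groth.Agent.R2.H62.ExtLES

variable {C : Type u} [Category.{v} C] [Abelian C] [HasExt.{w} C] (Z : C)

/-- Postcomposition with a morphism, on `Ext Z - n`. -/
noncomputable def gmap {A B : C} (f : A ⟶ B) (n : ℕ) : Ext.{w} Z A n →+ Ext.{w} Z B n :=
  (Ext.mk₀ f).postcomp Z (add_zero n)

lemma gmap_apply {A B : C} (f : A ⟶ B) (n : ℕ) (x : Ext.{w} Z A n) :
    gmap Z f n x = x.comp (Ext.mk₀ f) (add_zero n) := rfl

@[simp]
lemma gmap_id {A : C} (n : ℕ) (x : Ext.{w} Z A n) : gmap Z (𝟙 A) n x = x := by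
  rw [gmap_apply, Ext.comp_mk₀_id]

lemma gmap_comp {A B D : C} (f : A ⟶ B) (g : B ⟶ D) (n : ℕ) (x : Ext.{w} Z A n) :
    gmap Z (f ≫ g) n x = gmap Z g n (gmap Z f n x) := by
  rw [gmap_apply, gmap_apply, gmap_apply, ← Ext.mk₀_comp_mk₀, Ext.comp_assoc_of_third_deg_zero]

@[simp]
lemma gmap_zero {A B : C} (n : ℕ) (x : Ext.{w} Z A n) : gmap Z (0 : A ⟶ B) n x = 0 := by
  rw [gmap_apply, Ext.mk₀_zero, Ext.comp_zero]

lemma gmap_add {A B : C} (f g : A ⟶ B) (n : ℕ) (x : Ext.{w} Z A n) :
    gmap Z (f + g) n x = gmap Z f n x + gmap Z g n x := by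
  rw [gmap_apply, gmap_apply, gmap_apply, Ext.mk₀_add, Ext.comp_add]

lemma gmap_sum {A B : C} {ι : Type*} (s : Finset ι) (f : ι → (A ⟶ B)) (n : ℕ) (x : Ext.{w} Z A n) :
    gmap Z (∑ i ∈ s, f i) n x = ∑ i ∈ s, gmap Z (f i) n x := by
  classical
  induction s using Finset.induction_on with
  | empty => simp
  | insert a s ha ih => rw [Finset.sum_insert ha, Finset.sum_insert ha, gmap_add, ih]

theorem gmap_zero_injective_of_mono {A B : C} (f : A ⟶ B) [Mono f] :
    Function.Injective (gmap Z f 0) :=
  Ext.postcomp_mk₀_injective_of_mono Z f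

section ses

variable {S : ShortComplex C} (hS : S.ShortExact)

/-- The connecting homomorphism. -/
noncomputable def gδ (n : ℕ) : Ext.{w} Z S.X₃ n →+ Ext.{w} Z S.X₁ (n + 1) :=
  hS.extClass.postcomp Z rfl

lemma gδ_apply (n : ℕ) (x : Ext.{w} Z S.X₃ n) : gδ Z hS n x = x.comp hS.extClass rfl := rfl

include hS in
theorem exact_f_g (n : ℕ) : Function.Exact (gmap Z S.f n) (gmap Z S.g n) := by
  intro y
  constructor
  · intro hy
    exact Ext.covariant_sequence_exact₂ Z hS y hy
  · rintro ⟨x, rfl⟩
    rw [← gmap_comp, S.zero, gmap_zero]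

theorem exact_g_δ (n : ℕ) : Function.Exact (gmap Z S.g n) (gδ Z hS n) := by
  intro y
  constructor
  · intro hy
    exact Ext.covariant_sequence_exact₃ Z hS y rfl hy
  · rintro ⟨x, rfl⟩
    rw [gδ_apply, gmap_apply, Ext.comp_assoc_of_second_deg_zero, hS.comp_extClass, Ext.comp_zero]

theorem exact_δ_f (n : ℕ) : Function.Exact (gδ Z hS n) (gmap Z S.f (n + 1)) := by
  intro y
  constructor
  · intro hy
    exact Ext.covariant_sequence_exact₁ Z hS y hy rfl
  · rintro ⟨x, rfl⟩
    rw [gδ_apply, gmap_apply, Ext.comp_assoc_of_third_deg_zero, hS.extClass_comp, Ext.comp_zero]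

include hS in
theorem gmap_f_zero_injective : Function.Injective (gmap Z S.f 0) := by
  have : Mono S.f := hS.mono_f
  exact Ext.postcomp_mk₀_injective_of_mono Z S.f

/-- Naturality of the connecting homomorphism. -/
theorem gδ_naturality {S' : ShortComplex C} (hS' : S'.ShortExact) (φ : S ⟶ S') (n : ℕ)
    (x : Ext.{w} Z S.X₃ n) :
    gδ Z hS' n (gmap Z φ.τ₃ n x) = gmap Z φ.τ₁ (n + 1) (gδ Z hS n x) := by
  rw [gδ_apply, gδ_apply, gmap_apply, gmap_apply, Ext.comp_assoc_of_second_deg_zero,
    ← ShortComplex.ShortExact.extClass_naturality hS hS' φ, Ext.comp_assoc_of_third_deg_zero]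

end ses

section sigma

variable {ι : Type*} [Fintype ι] [DecidableEq ι] (M : ι → C)

/-- `Ext Z - n` of a finite coproduct is the direct sum: the sum of the maps induced by the
inclusions is bijective. -/
theorem bijective_sum_gmap_sigmaι (n : ℕ) :
    Function.Bijective (fun x : ∀ i, Ext.{w} Z (M i) n => ∑ i, gmap Z (Sigma.ι M i) n (x i)) := by
  have hid : ∑ i, Sigma.π M i ≫ Sigma.ι M i = 𝟙 (∐ M) := by
    apply Sigma.hom_ext
    intro j
    rw [Preadditive.comp_sum, Category.comp_id]
    rw [Finset.sum_eq_single j]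
    · rw [← Category.assoc, Sigma.ι_π_eq_id, Category.id_comp]
    · intro i _ hij
      rw [← Category.assoc, Sigma.ι_π_of_ne M (Ne.symm hij), zero_comp]
    · intro h
      exact (h (Finset.mem_univ j)).elim
  constructor
  · intro x y hxy
    funext j
    have h := congrArg (gmap Z (Sigma.π M j) n) hxy
    simp only [map_sum] at h
    rw [Finset.sum_eq_single j, Finset.sum_eq_single j] at h
    · rwa [← gmap_comp, ← gmap_comp, Sigma.ι_π_eq_id, gmap_id, gmap_id] at h
    · intro i _ hij
      rw [← gmap_comp, Sigma.ι_π_of_ne M hij, gmap_zero]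
    · intro h'
      exact (h' (Finset.mem_univ j)).elim
    · intro i _ hij
      rw [← gmap_comp, Sigma.ι_π_of_ne M hij, gmap_zero]
    · intro h'
      exact (h' (Finset.mem_univ j)).elim
  · intro y
    refine ⟨fun i => gmap Z (Sigma.π M i) n y, ?_⟩
    change ∑ i, gmap Z (Sigma.ι M i) n (gmap Z (Sigma.π M i) n y) = y
    simp only [← gmap_comp]
    rw [← gmap_sum, hid, gmap_id]

end sigma

section additive

variable {D : Type*} [Category D] [Preadditive D] {R : Type*} [Ring R]
  (G : D ⥤ ModuleCat.{w} R) [G.Additive] {ι : Type*} [Fintype ι] [DecidableEq ι] (M : ι → D)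
  [HasCoproduct M]

/-- The canonical map from the product of the values of an additive functor to its value on a
finite coproduct. -/
noncomputable def sigmaLin : (∀ i, G.obj (M i)) →ₗ[R] G.obj (∐ M) :=
  LinearMap.lsum R (fun i => G.obj (M i)) ℕ (fun i => (G.map (Sigma.ι M i)).hom)

lemma sigmaLin_apply (x : ∀ i, G.obj (M i)) :
    sigmaLin G M x = ∑ i, (G.map (Sigma.ι M i)).hom (x i) := by
  unfold sigmaLin
  rw [LinearMap.lsum_apply, LinearMap.sum_apply]
  rfl

/-- An additive functor to modules turns finite coproducts into direct sums. -/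
theorem sigmaLin_bijective : Function.Bijective (sigmaLin G M) := by
  have hid : ∑ i, Sigma.π M i ≫ Sigma.ι M i = 𝟙 (∐ M) := by
    apply Sigma.hom_ext
    intro j
    rw [Preadditive.comp_sum, Category.comp_id]
    rw [Finset.sum_eq_single j]
    · rw [← Category.assoc, Sigma.ι_π_eq_id, Category.id_comp]
    · intro i _ hij
      rw [← Category.assoc, Sigma.ι_π_of_ne M (Ne.symm hij), zero_comp]
    · intro h
      exact (h (Finset.mem_univ j)).elim
  have hιπ : ∀ i j (x : G.obj (M i)), (G.map (Sigma.π M j)).hom ((G.map (Sigma.ι M i)).hom x) =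
      if h : i = j then (G.map (eqToHom (congrArg M h))).hom x else 0 := by
    intro i j x
    rw [← ModuleCat.comp_apply, ← G.map_comp]
    split_ifs with h
    · subst h
      rw [Sigma.ι_π_eq_id]
      rfl
    · rw [Sigma.ι_π_of_ne M h, G.map_zero]
      rfl
  constructor
  · rw [injective_iff_map_eq_zero]
    intro x hx
    funext j
    have h := congrArg (G.map (Sigma.π M j)).hom hx
    rw [sigmaLin_apply, map_sum, map_zero, Finset.sum_eq_single j] at h
    · rw [hιπ, dif_pos rfl] at h
      simpa using h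
    · intro i _ hij
      rw [hιπ, dif_neg hij]
    · intro h'
      exact (h' (Finset.mem_univ j)).elim
  · intro y
    refine ⟨fun i => (G.map (Sigma.π M i)).hom y, ?_⟩
    rw [sigmaLin_apply]
    have h1 : ∀ i, (G.map (Sigma.ι M i)).hom ((G.map (Sigma.π M i)).hom y) =
        (G.map (Sigma.π M i ≫ Sigma.ι M i)).hom y := by
      intro i
      rw [G.map_comp]
      rfl
    simp only [h1]
    have h2 : (G.map (∑ i, Sigma.π M i ≫ Sigma.ι M i)).hom y =
        ∑ i, (G.map (Sigma.π M i ≫ Sigma.ι M i)).hom y := by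
      rw [G.map_sum]
      simp
    rw [← h2, hid, G.map_id]
    rfl

/-- The value of an additive functor on a finite coproduct, as a direct sum. -/
noncomputable def sigmaEquiv : (∀ i, G.obj (M i)) ≃ₗ[R] G.obj (∐ M) :=
  LinearEquiv.ofBijective (sigmaLin G M) (sigmaLin_bijective G M)

end additive

section exactAlgebra

variable {M₁ M₂ M₃ : Type*} [AddCommGroup M₁] [AddCommGroup M₂] [AddCommGroup M₃]

lemma surjective_of_exact_of_subsingleton {f : M₁ →+ M₂} {g : M₂ →+ M₃} (h : Function.Exact f g)
    [Subsingleton M₃] : Function.Surjective f :=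
  fun y => (h y).1 (Subsingleton.elim _ _)

lemma injective_of_exact_of_subsingleton {f : M₁ →+ M₂} {g : M₂ →+ M₃} (h : Function.Exact f g)
    [Subsingleton M₁] : Function.Injective g := by
  rw [injective_iff_map_eq_zero]
  intro x hx
  obtain ⟨y, rfl⟩ := (h x).1 hx
  rw [Subsingleton.elim y 0, map_zero]

lemma subsingleton_of_exact {f : M₁ →+ M₂} {g : M₂ →+ M₃} (h : Function.Exact f g)
    [Subsingleton M₁] [Subsingleton M₃] : Subsingleton M₂ := by
  refine subsingleton_of_forall_eq 0 fun x => ?_
  obtain ⟨y, rfl⟩ := (h x).1 (Subsingleton.elim _ _)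
  rw [Subsingleton.elim y 0, map_zero]

variable {A : Type*} [CommRing A] [IsNoetherianRing A] [Module A M₁] [Module A M₂] [Module A M₃]

lemma finite_of_exact (f : M₁ →ₗ[A] M₂) (g : M₂ →ₗ[A] M₃) (h : Function.Exact f g)
    [Module.Finite A M₁] [Module.Finite A M₃] : Module.Finite A M₂ := by
  haveI : IsNoetherian A M₁ := isNoetherian_of_isNoetherianRing_of_finite A M₁
  haveI : IsNoetherian A M₃ := isNoetherian_of_isNoetherianRing_of_finite A M₃
  haveI : IsNoetherian A M₂ :=
    isNoetherian_of_range_eq_ker f g ((LinearMap.exact_iff.1 h).symm)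
  infer_instance

lemma finite_of_injective' (f : M₁ →ₗ[A] M₂) (hf : Function.Injective f) [Module.Finite A M₂] :
    Module.Finite A M₁ := by
  haveI : IsNoetherian A M₂ := isNoetherian_of_isNoetherianRing_of_finite A M₂
  exact Module.Finite.of_injective f hf

end exactAlgebra

end Groth.Agent.R2.H62.ExtLES
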