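import Mathlib
import Groth.Prelude.Def_Coh
import Groth.Agent.Lib.Helper23QCohExt
import Groth.Agent.R2.H62ExtLES

/-!
# The delta-functor package for `Coh.HH` (helper62; coh-core work package B1)

For a scheme `X` and `O_X`-modules:

* `HHmap f n : HH X M n →+ HH X N n` and its `Γ(X, O_X)`-linear / `A`-linear versions
  `HHmapₗ f n`, `HHmapA A f n`; functoriality and additivity;
* for a short exact sequence `S` of `O_X`-modules the connecting maps `δ hS n` (also linear:
  `δₗ`, `δA`) and the exactness of the long sequence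
  `… → HH S.X₁ n → HH S.X₂ n → HH S.X₃ n → HH S.X₁ (n+1) → …`;
* `HH` of finite coproducts.
-/

set_option autoImplicit false
set_option linter.style.haveILetI false
universe u

open CategoryTheory CategoryTheory.Limits AlgebraicGeometry Opposite TopologicalSpace Abelian

namespace Groth.Agent.R2.H62.CohLES

open Groth.Agent.Lib.Helper23.QCohLocal Groth.Agent.R2.H62.ExtLES

variable {X : Scheme.{u}}

/-- The constant sheaf `ℤ` on `X`. -/
noncomputable abbrev Zc (X : Scheme.{u}) : Sheaf (Opens.grothendieckTopology X) AddCommGrpCat.{u} :=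
  (constantSheaf (Opens.grothendieckTopology X) AddCommGrpCat.{u}).obj
    (AddCommGrpCat.of (ULift.{u} ℤ))

section maps

variable {M N P : X.Modules}

/-- The map of underlying abelian sheaves of a morphism of `O_X`-modules. -/
noncomputable abbrev toAbMap (f : M ⟶ N) : Coh.toAb M ⟶ Coh.toAb N :=
  (SheafOfModules.toSheaf X.ringCatSheaf).map f

lemma toAbMap_id : toAbMap (𝟙 M) = 𝟙 (Coh.toAb M) :=
  (SheafOfModules.toSheaf X.ringCatSheaf).map_id M

lemma toAbMap_comp (f : M ⟶ N) (g : N ⟶ P) : toAbMap (f ≫ g) = toAbMap f ≫ toAbMap g :=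
  (SheafOfModules.toSheaf X.ringCatSheaf).map_comp f g

lemma toAbMap_zero : toAbMap (0 : M ⟶ N) = 0 :=
  (SheafOfModules.toSheaf X.ringCatSheaf).map_zero M N

lemma toAbMap_add (f g : M ⟶ N) : toAbMap (f + g) = toAbMap f + toAbMap g :=
  (SheafOfModules.toSheaf X.ringCatSheaf).map_add

/-- The map induced on cohomology by a morphism of `O_X`-modules
(definitionally `Sheaf.H.map` of the map of underlying abelian sheaves). -/
noncomputable def HHmap (f : M ⟶ N) (n : ℕ) : Coh.HH X M n →+ Coh.HH X N n :=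
  gmap.{u, u, u + 1} (Zc X) (toAbMap f) n

lemma HHmap_eq (f : M ⟶ N) (n : ℕ) : HHmap f n = Sheaf.H.map (toAbMap f) n := rfl

@[simp]
lemma HHmap_id (n : ℕ) (x : Coh.HH X M n) : HHmap (𝟙 M) n x = x := by
  unfold HHmap
  rw [toAbMap_id]
  exact gmap_id (Zc X) n x

lemma HHmap_comp (f : M ⟶ N) (g : N ⟶ P) (n : ℕ) (x : Coh.HH X M n) :
    HHmap (f ≫ g) n x = HHmap g n (HHmap f n x) := by
  unfold HHmap
  rw [toAbMap_comp]
  exact gmap_comp (Zc X) _ _ n x

lemma HHmap_zero (n : ℕ) (x : Coh.HH X M n) : HHmap (0 : M ⟶ N) n x = 0 := by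
  unfold HHmap
  rw [toAbMap_zero]
  exact gmap_zero (Zc X) n x

lemma HHmap_add (f g : M ⟶ N) (n : ℕ) (x : Coh.HH X M n) :
    HHmap (f + g) n x = HHmap f n x + HHmap g n x := by
  unfold HHmap
  rw [toAbMap_add]
  exact gmap_add (Zc X) _ _ n x

/-- Multiplication by a global function commutes with morphisms of modules. -/
lemma smulAb_naturality (f : M ⟶ N) (r : Coh.Γtop X) :
    Coh.smulAb M r ≫ toAbMap f = toAbMap f ≫ Coh.smulAb N r := by
  ext U m
  change (toAbMap f).hom.app U ((Coh.smulAb M r).hom.app U m) =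
    (Coh.smulAb N r).hom.app U ((toAbMap f).hom.app U m)
  rw [Coh.smulAb_app, Coh.smulAb_app]
  exact (f.val.app U).hom.map_smul _ _

lemma smul_def (r : Coh.Γtop X) (n : ℕ) (x : Coh.HH X M n) :
    r • x = gmap.{u, u, u + 1} (Zc X) (Coh.smulAb M r) n x := rfl

lemma HHmap_smul (f : M ⟶ N) (n : ℕ) (r : Coh.Γtop X) (x : Coh.HH X M n) :
    HHmap f n (r • x) = r • HHmap f n x := by
  rw [smul_def, smul_def]
  unfold HHmap
  rw [← gmap_comp, ← gmap_comp, smulAb_naturality]

/-- `HHmap` as a `Γ(X, O_X)`-linear map. -/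
noncomputable def HHmapₗ (f : M ⟶ N) (n : ℕ) : Coh.HH X M n →ₗ[Coh.Γtop X] Coh.HH X N n where
  toFun := HHmap f n
  map_add' := map_add _
  map_smul' := HHmap_smul f n

@[simp]
lemma HHmapₗ_apply (f : M ⟶ N) (n : ℕ) (x : Coh.HH X M n) : HHmapₗ f n x = HHmap f n x := rfl

section overA

variable (A : Type u) [CommRing A] [X.Over (Spec (CommRingCat.of A))]

lemma smulA_def (n : ℕ) (a : A) (x : Coh.HH X M n) :
    a • x = (Coh.toGlobal (X ↘ Spec (CommRingCat.of A)) a) • x := rfl

/-- `HHmap` as an `A`-linear map, for `X` over `Spec A`. -/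
noncomputable def HHmapA (f : M ⟶ N) (n : ℕ) : Coh.HH X M n →ₗ[A] Coh.HH X N n where
  toFun := HHmap f n
  map_add' := map_add _
  map_smul' a x := by
    change HHmap f n (a • x) = a • HHmap f n x
    rw [smulA_def, smulA_def, HHmap_smul]

@[simp]
lemma HHmapA_apply (f : M ⟶ N) (n : ℕ) (x : Coh.HH X M n) : HHmapA A f n x = HHmap f n x := rfl

end overA

end maps

end Groth.Agent.R2.H62.CohLES
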