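import Mathlib
import Groth.Prelude.Def_Coh
import Groth.Agent.R2.H62CohLES

/-!
# The long exact cohomology sequence for `Coh.HH` (helper62; coh-core work package B1)
-/

set_option autoImplicit false
set_option linter.style.haveILetI false
universe u

open CategoryTheory CategoryTheory.Limits AlgebraicGeometry Opposite TopologicalSpace Abelian

namespace Groth.Agent.R2.H62.CohLES

open Groth.Agent.Lib.Helper23.QCohLocal Groth.Agent.R2.H62.ExtLES

variable {X : Scheme.{u}}

/-- The short complex of underlying abelian sheaves of a short complex of modules. -/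
noncomputable abbrev abSC (S : ShortComplex X.Modules) :
    ShortComplex (Sheaf (Opens.grothendieckTopology X) AddCommGrpCat.{u}) :=
  ShortComplex.mk (toAbMap S.f) (toAbMap S.g) (by
    rw [← toAbMap_comp, S.zero, toAbMap_zero])

/-- The short exact sequence of underlying abelian sheaves. -/
lemma shortExact_abSC {S : ShortComplex X.Modules} (hS : S.ShortExact) : (abSC S).ShortExact :=
  shortExact_toAbF S hS

/-- Multiplication by a global function, as an endomorphism of the short complex of underlying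
abelian sheaves. -/
noncomputable def smulAbHom (S : ShortComplex X.Modules) (r : Coh.Γtop X) : abSC S ⟶ abSC S where
  τ₁ := Coh.smulAb S.X₁ r
  τ₂ := Coh.smulAb S.X₂ r
  τ₃ := Coh.smulAb S.X₃ r
  comm₁₂ := smulAb_naturality S.f r
  comm₂₃ := smulAb_naturality S.g r

variable {S : ShortComplex X.Modules} (hS : S.ShortExact)

/-- The connecting homomorphism of the long exact cohomology sequence. -/
noncomputable def δ (n : ℕ) : Coh.HH X S.X₃ n →+ Coh.HH X S.X₁ (n + 1) :=
  gδ.{u, u, u + 1} (Zc X) (shortExact_abSC hS) n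

lemma δ_smul (n : ℕ) (r : Coh.Γtop X) (x : Coh.HH X S.X₃ n) : δ hS n (r • x) = r • δ hS n x :=
  gδ_naturality.{u, u, u + 1} (Zc X) (shortExact_abSC hS) (shortExact_abSC hS) (smulAbHom S r) n x

/-- The connecting homomorphism as a `Γ(X, O_X)`-linear map. -/
noncomputable def δₗ (n : ℕ) : Coh.HH X S.X₃ n →ₗ[Coh.Γtop X] Coh.HH X S.X₁ (n + 1) where
  toFun := δ hS n
  map_add' := map_add _
  map_smul' := δ_smul hS n

@[simp]
lemma δₗ_apply (n : ℕ) (x : Coh.HH X S.X₃ n) : δₗ hS n x = δ hS n x := rfl

/-- The connecting homomorphism as an `A`-linear map, for `X` over `Spec A`. -/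
noncomputable def δA (A : Type u) [CommRing A] [X.Over (Spec (CommRingCat.of A))] (n : ℕ) :
    Coh.HH X S.X₃ n →ₗ[A] Coh.HH X S.X₁ (n + 1) where
  toFun := δ hS n
  map_add' := map_add _
  map_smul' a x := by
    change δ hS n (a • x) = a • δ hS n x
    rw [smulA_def, smulA_def, δ_smul]

@[simp]
lemma δA_apply (A : Type u) [CommRing A] [X.Over (Spec (CommRingCat.of A))] (n : ℕ)
    (x : Coh.HH X S.X₃ n) : δA hS A n x = δ hS n x := rfl

include hS in
/-- Exactness of the long cohomology sequence at `HH S.X₂ n`. -/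
theorem exact_f_g (n : ℕ) : Function.Exact (HHmap S.f n) (HHmap S.g n) :=
  ExtLES.exact_f_g.{u, u, u + 1} (Zc X) (shortExact_abSC hS) n

/-- Exactness of the long cohomology sequence at `HH S.X₃ n`. -/
theorem exact_g_δ (n : ℕ) : Function.Exact (HHmap S.g n) (δ hS n) :=
  ExtLES.exact_g_δ.{u, u, u + 1} (Zc X) (shortExact_abSC hS) n

/-- Exactness of the long cohomology sequence at `HH S.X₁ (n + 1)`. -/
theorem exact_δ_f (n : ℕ) : Function.Exact (δ hS n) (HHmap S.f (n + 1)) :=
  ExtLES.exact_δ_f.{u, u, u + 1} (Zc X) (shortExact_abSC hS) n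

include hS in
/-- `H⁰` is left exact. -/
theorem HHmap_f_zero_injective : Function.Injective (HHmap S.f 0) := by
  haveI : Mono (toAbMap S.f) := (shortExact_abSC hS).mono_f
  exact ExtLES.gmap_zero_injective_of_mono.{u, u, u + 1} (Zc X) (toAbMap S.f)

/-- Naturality of the connecting homomorphism with respect to morphisms of short exact
sequences of modules. -/
theorem δ_naturality {S' : ShortComplex X.Modules} (hS' : S'.ShortExact) (φ : S ⟶ S') (n : ℕ)
    (x : Coh.HH X S.X₃ n) : δ hS' n (HHmap φ.τ₃ n x) = HHmap φ.τ₁ (n + 1) (δ hS n x) := by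
  let ψ : abSC S ⟶ abSC S' :=
    { τ₁ := toAbMap φ.τ₁
      τ₂ := toAbMap φ.τ₂
      τ₃ := toAbMap φ.τ₃
      comm₁₂ := by
        change toAbMap φ.τ₁ ≫ toAbMap S'.f = toAbMap S.f ≫ toAbMap φ.τ₂
        rw [← toAbMap_comp, ← toAbMap_comp, φ.comm₁₂]
      comm₂₃ := by
        change toAbMap φ.τ₂ ≫ toAbMap S'.g = toAbMap S.g ≫ toAbMap φ.τ₃
        rw [← toAbMap_comp, ← toAbMap_comp, φ.comm₂₃] }
  exact gδ_naturality.{u, u, u + 1} (Zc X) (shortExact_abSC hS) (shortExact_abSC hS') ψ n x

end Groth.Agent.R2.H62.CohLES
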