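import Mathlib
import Groth.Prelude.Def_Coh
import Groth.Prelude.Def_CohB1
import Groth.Agent.Lib.Helper23AffVanish7
import Groth.Agent.Lib.Helper23QCohLocal
import Groth.Agent.Lib.Helper2PullbackSec
import Groth.Agent.S0012
import Groth.Agent.S9377
import Groth.Agent.R2.H62CohDelta
import Groth.Agent.R2.H10FtColim

/-!
# Cohomological step for affine stratifications (helper10)

`X` quasi-compact quasi-separated, `U ⊆ X` an affine open whose inclusion `j` is an affine morphism.

* `ZeroOn U G`: all sections of `G` over opens inside `U` vanish.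
* `subsingleton_HH_of_zeroOn`: if `H^p` of quasi-coherent modules vanishes on every closed subscheme of `X` missing
  `U`, then `H^p(X, G) = 0` for quasi-coherent `G` with `ZeroOn U G` (finite type submodules via
  `H10FtColim.subsingleton_HH_of_ft`, scheme-theoretic support S9377, affine pushforward S0012).
* `step`: if `H^q` (`q > n`) of quasi-coherent modules vanishes on every closed subscheme of `X` missing `U`, then
  `H^p(X, F) = 0` for `F` quasi-coherent and `p > n + 1` (via `F ⟶ j_* j^* F`).
-/

set_option autoImplicit false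
set_option linter.style.haveILetI false
set_option linter.unusedSectionVars false
universe u
open CategoryTheory Limits AlgebraicGeometry TopologicalSpace Opposite Abelian

namespace Groth.Agent.R2.H10.AffStratCoh

open Groth.Agent.Lib.Helper23.QCohLocal Groth.Agent.R2.H62.CohLES

variable {X : Scheme.{u}}

/-- all sections over opens inside `U` vanish -/
def ZeroOn (U : X.Opens) (G : X.Modules) : Prop := ∀ V : X.Opens, V ≤ U → Subsingleton Γ(G, V)

/-- monomorphisms of modules are injective on sections -/
theorem injective_app_of_mono {A B : X.Modules} (m : A ⟶ B) [Mono m] (W : X.Opens) :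
    Function.Injective (m.app W) := by
  have : Mono ((Scheme.Modules.toPresheaf X).map m) := inferInstance
  have : Mono (((Scheme.Modules.toPresheaf X).map m).app (op W)) := inferInstance
  exact (AddCommGrpCat.mono_iff_injective _).1 this

theorem zeroOn_of_mono {U : X.Opens} {A B : X.Modules} (m : A ⟶ B) [Mono m] (h : ZeroOn U B) :
    ZeroOn U A := by
  intro V hV
  haveI := h V hV
  exact (injective_app_of_mono m V).subsingleton

theorem subsingleton_of_isZero {M : X.Modules} (h : IsZero M) (W : X.Opens) : Subsingleton Γ(M, W) := by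
  have h0 : (𝟙 M : M ⟶ M) = 0 := h.eq_of_src _ _
  have key : ∀ a : Γ(M, W), a = 0 := fun a => by
    have h1 := congrArg (fun φ : M ⟶ M => φ.app W a) h0
    simpa using h1
  exact ⟨fun a b => by rw [key a, key b]⟩

theorem notMem_support {U : X.Opens} {G : X.Modules} (h : ZeroOn U G) {x : X} (hx : x ∈ U) :
    x ∉ CohB1.support G := by
  intro hs
  apply hs
  have key : ∀ a : ToType (G.presheaf.stalk x), a = 0 := by
    intro a
    obtain ⟨V, hxV, s, rfl⟩ := TopCat.Presheaf.exists_germ_eq G.presheaf a
    have h1 := TopCat.Presheaf.germ_res_apply G.presheaf (homOfLE (inf_le_left : V ⊓ U ≤ V)) x ⟨hxV, hx⟩ s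
    haveI := h (V ⊓ U) inf_le_right
    rw [← h1, Subsingleton.elim (G.presheaf.map (homOfLE (inf_le_left : V ⊓ U ≤ V)).op s) 0, map_zero]
  exact ⟨fun a b => by rw [key a, key b]⟩

section LemmaA

variable [CompactSpace X] [QuasiSeparatedSpace X]

/-- vanishing for quasi-coherent modules supported off `U`, from vanishing on closed subschemes missing `U` -/
theorem subsingleton_HH_of_zeroOn (U : X.Opens) (p : ℕ)
    (hY : ∀ (Y : Scheme.{u}) (i : Y ⟶ X), IsClosedImmersion i → (∀ y : Y, i y ∉ U) →
      ∀ H : Y.Modules, H.IsQuasicoherent → Subsingleton (Coh.HH Y H p))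
    (G : X.Modules) [G.IsQuasicoherent] (hG : ZeroOn U G) : Subsingleton (Coh.HH X G p) := by
  apply Groth.Agent.R2.H10.FtColim.subsingleton_HH_of_ft G p
  intro K' i hi hq hf
  haveI := hi
  haveI := hq
  have hK' : ZeroOn U K' := zeroOn_of_mono i hG
  obtain ⟨J, -, hiso, -, hsupp⟩ := Groth.Agent.S9377.result X K' hq hf
  let H : J.subscheme.Modules := (Scheme.Modules.pullback J.subschemeι).obj K'
  have hHq : H.IsQuasicoherent := Groth.Agent.Lib.Helper2.PullbackSec.isQuasicoherent_pullback J.subschemeι K'
  have hdis : ∀ y : J.subscheme, J.subschemeι y ∉ U := by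
    intro y hy
    have h1 : J.subschemeι y ∈ (J.support : Set X) := by
      rw [← Scheme.IdealSheafData.range_subschemeι]
      exact ⟨y, rfl⟩
    rw [hsupp] at h1
    exact notMem_support hK' hy h1
  haveI := hHq
  haveI : Subsingleton (Coh.HH J.subscheme H p) := hY J.subscheme J.subschemeι inferInstance hdis H hHq
  obtain ⟨e⟩ := Groth.Agent.S0012.result J.subschemeι H p
  haveI : Subsingleton (Coh.HH X ((Coh.push J.subschemeι).obj H) p) := e.symm.toEquiv.subsingleton
  haveI := hiso
  let φ : K' ≅ (Scheme.Modules.pushforward J.subschemeι).obj H :=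
    asIso ((Scheme.Modules.pullbackPushforwardAdjunction J.subschemeι).unit.app K')
  have ha : ∀ a : Coh.HH X K' p, a = 0 := fun a => by
    have h1 := HHmap_comp φ.hom φ.inv p a
    rw [φ.hom_inv_id, HHmap_id] at h1
    rw [h1, Subsingleton.elim (HHmap φ.hom p a) 0, map_zero]
  exact ⟨fun a b => by rw [ha a, ha b]⟩

end LemmaA

section Unit

variable (U : X.Opens) (F : X.Modules)

/-- the unit `F ⟶ j_* j^* F` for the inclusion `j` of the open `U` -/
noncomputable abbrev η : F ⟶ (Scheme.Modules.pushforward U.ι).obj (F.restrict U.ι) :=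
  (Scheme.Modules.restrictAdjunction U.ι).unit.app F

theorem image_preimage_eq {V : X.Opens} (hV : V ≤ U) : U.ι ''ᵁ (U.ι ⁻¹ᵁ V) = V := by
  rw [Scheme.Hom.image_preimage_eq_opensRange_inf, Scheme.Opens.opensRange_ι]
  exact inf_eq_right.2 hV

theorem η_app_injective (V : X.Opens) (hV : V ≤ U) : Function.Injective ((η U F).app V) := by
  have heq := image_preimage_eq U hV
  haveI : IsIso (homOfLE (U.ι.image_preimage_le V)) :=
    ⟨⟨homOfLE heq.ge, Subsingleton.elim _ _, Subsingleton.elim _ _⟩⟩
  have h1 : (η U F).app V = F.presheaf.map (homOfLE (U.ι.image_preimage_le V)).op := rfl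
  rw [h1]
  exact (ConcreteCategory.bijective_of_isIso (F.presheaf.map (homOfLE (U.ι.image_preimage_le V)).op)).1

theorem zeroOn_of_comp_eq_zero {M : X.Modules} (m : M ⟶ F) [Mono m] (h : m ≫ η U F = 0) : ZeroOn U M := by
  intro V hV
  have key : ∀ a : Γ(M, V), a = 0 := fun a => by
    apply injective_app_of_mono m V
    apply η_app_injective U F V hV
    have h1 := congrArg (fun φ : M ⟶ _ => φ.app V a) h
    simp only [Scheme.Modules.Hom.comp_app] at h1
    rw [map_zero, map_zero]
    exact h1
  exact ⟨fun a b => by rw [key a, key b]⟩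

theorem isIso_restrict_map_η : IsIso ((Scheme.Modules.restrictFunctor U.ι).map (η U F)) := by
  have h := (Scheme.Modules.restrictAdjunction U.ι).left_triangle_components F
  haveI : IsIso ((Scheme.Modules.restrictFunctor U.ι).map (η U F) ≫
      (Scheme.Modules.restrictAdjunction U.ι).counit.app ((Scheme.Modules.restrictFunctor U.ι).obj F)) := by
    rw [h]
    infer_instance
  exact IsIso.of_isIso_comp_right _
    ((Scheme.Modules.restrictAdjunction U.ι).counit.app ((Scheme.Modules.restrictFunctor U.ι).obj F))

theorem zeroOn_cokernel {E : X.Modules} (e : E ⟶ (Scheme.Modules.pushforward U.ι).obj (F.restrict U.ι))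
    (a : F ⟶ E) (h : a ≫ e = η U F) : ZeroOn U (cokernel e) := by
  let R := Scheme.Modules.restrictFunctor U.ι
  haveI := isIso_restrict_map_η U F
  haveI : Epi (R.map e) := by
    have h1 : R.map a ≫ R.map e = R.map (η U F) := by rw [← R.map_comp, h]
    exact epi_of_epi_fac h1
  haveI : PreservesColimitsOfSize.{0, 0} R :=
    (Scheme.Modules.restrictAdjunction U.ι).leftAdjoint_preservesColimits
  have hz : IsZero (R.obj (cokernel e)) :=
    (isZero_cokernel_of_epi (R.map e)).of_iso (PreservesCokernel.iso R e)
  intro V hV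
  have h1 : Subsingleton Γ(R.obj (cokernel e), U.ι ⁻¹ᵁ V) := subsingleton_of_isZero hz _
  have h2 : Subsingleton Γ(cokernel e, U.ι ''ᵁ (U.ι ⁻¹ᵁ V)) := h1
  rwa [image_preimage_eq U hV] at h2

end Unit

section Step

variable [CompactSpace X] [QuasiSeparatedSpace X]

/-- **the inductive step**: vanishing above `n` on closed subschemes missing the affine open `U` (with affine
inclusion) gives vanishing above `n + 1` on `X`. -/
theorem step (U : X.Opens) (hU : IsAffineOpen U) (hj : IsAffineHom U.ι) (n : ℕ)
    (hY : ∀ (Y : Scheme.{u}) (i : Y ⟶ X), IsClosedImmersion i → (∀ y : Y, i y ∉ U) →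
      ∀ H : Y.Modules, H.IsQuasicoherent → ∀ q : ℕ, n < q → Subsingleton (Coh.HH Y H q))
    (F : X.Modules) [F.IsQuasicoherent] (p : ℕ) (hp : n + 1 < p) : Subsingleton (Coh.HH X F p) := by
  obtain ⟨q, rfl⟩ : ∃ q, p = q + 1 := ⟨p - 1, by omega⟩
  have hq : n < q := by omega
  haveI : IsAffine U.toScheme := hU
  let P : X.Modules := (Scheme.Modules.pushforward U.ι).obj (F.restrict U.ι)
  haveI hPq : P.IsQuasicoherent := isQuasicoherent_pushforward U.ι (F.restrict U.ι)
  -- cohomology of `P`
  have hP : Subsingleton (Coh.HH X P (q + 1)) := by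
    obtain ⟨e⟩ := Groth.Agent.S0012.result U.ι (F.restrict U.ι) (q + 1)
    haveI : Subsingleton (Coh.HH U.toScheme (F.restrict U.ι) (q + 1)) :=
      Groth.Agent.Lib.Helper23.AffVanish.subsingleton_HH (F.restrict U.ι) (q + 1) (Nat.succ_pos q)
    exact e.symm.toEquiv.subsingleton
  -- the two short exact sequences
  let π : F ⟶ Abelian.image (η U F) := Abelian.factorThruImage (η U F)
  let ι' : Abelian.image (η U F) ⟶ P := Abelian.image.ι (η U F)
  have hfac : π ≫ ι' = η U F := Abelian.image.fac (η U F)
  haveI : Epi π := inferInstanceAs (Epi (Abelian.factorThruImage (η U F)))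
  haveI : Mono ι' := inferInstanceAs (Mono (Abelian.image.ι (η U F)))
  haveI hCq : (cokernel (η U F)).IsQuasicoherent := isQuasicoherent_cokernel (η U F)
  haveI hIq : (Abelian.image (η U F)).IsQuasicoherent := isQuasicoherent_kernel (cokernel.π (η U F))
  haveI hK₁q : (kernel π).IsQuasicoherent := isQuasicoherent_kernel π
  haveI hQ₂q : (cokernel ι').IsQuasicoherent := isQuasicoherent_cokernel ι'
  let S₁ : ShortComplex X.Modules := ShortComplex.mk (kernel.ι π) π (kernel.condition π)
  have hS₁ : S₁.ShortExact :=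
    { exact := ShortComplex.exact_kernel π
      mono_f := inferInstanceAs (Mono (kernel.ι π))
      epi_g := inferInstanceAs (Epi π) }
  let S₂ : ShortComplex X.Modules := ShortComplex.mk ι' (cokernel.π ι') (cokernel.condition ι')
  have hS₂ : S₂.ShortExact :=
    { exact := ShortComplex.exact_cokernel ι'
      mono_f := inferInstanceAs (Mono ι')
      epi_g := inferInstanceAs (Epi (cokernel.π ι')) }
  -- supports
  have hK₁ : ZeroOn U (kernel π) := by
    apply zeroOn_of_comp_eq_zero U F (kernel.ι π)
    have h0 : kernel.ι π ≫ η U F = kernel.ι π ≫ (π ≫ ι') := by rw [hfac]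
    rw [h0, ← Category.assoc, kernel.condition, zero_comp]
  have hQ₂ : ZeroOn U (cokernel ι') := zeroOn_cokernel U F ι' π hfac
  -- vanishing for the kernel and the cokernel
  have hvK : Subsingleton (Coh.HH X (kernel π) (q + 1)) :=
    subsingleton_HH_of_zeroOn U (q + 1)
      (fun Y i hi hd H hH => hY Y i hi hd H hH (q + 1) (by omega)) (kernel π) hK₁
  have hvQ : Subsingleton (Coh.HH X (cokernel ι') q) :=
    subsingleton_HH_of_zeroOn U q
      (fun Y i hi hd H hH => hY Y i hi hd H hH q hq) (cokernel ι') hQ₂
  -- the image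
  have hvI : ∀ y : Coh.HH X (Abelian.image (η U F)) (q + 1), y = 0 := by
    intro y
    have h1 : HHmap S₂.f (q + 1) y = 0 := Subsingleton.elim (α := Coh.HH X P (q + 1)) _ _
    obtain ⟨z, hz⟩ := (exact_δ_f hS₂ q y).1 h1
    rw [← hz, Subsingleton.elim (α := Coh.HH X (cokernel ι') q) z 0, map_zero]
  -- conclusion
  have hvF : ∀ y : Coh.HH X F (q + 1), y = 0 := by
    intro y
    have h1 : HHmap S₁.g (q + 1) y = 0 := hvI _
    obtain ⟨z, hz⟩ := (exact_f_g hS₁ (q + 1) y).1 h1
    rw [← hz, Subsingleton.elim (α := Coh.HH X (kernel π) (q + 1)) z 0, map_zero]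
  exact ⟨fun a b => by rw [hvF a, hvF b]⟩

end Step

end Groth.Agent.R2.H10.AffStratCoh
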