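import Mathlib
import Groth.Agent.Lib.Helper16CechLow

/-!
# Transfer of Cech complexes along a monotone map of frames of opens (helper10)

Namespace `Groth.Agent.R2.H10.CechCoarse`.

* `isZero_of_transfer`: if `Φ : Opens X' ⥤ Opens X` matches the finite products of a family `V` of opens of `X'`
  with those of a family `U` of opens of `X`, then vanishing of the Cech cohomology of `Φ.op ⋙ P` w.r.t. `V`
  implies vanishing of the Cech cohomology of `P` w.r.t. `U`.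
-/

set_option autoImplicit false
universe u

open CategoryTheory CategoryTheory.Limits Opposite TopologicalSpace
open Groth.Agent.Lib.Helper16.CechLow

namespace Groth.Agent.R2.H10.CechCoarse

variable {X X' : TopCat.{u}} {ι : Type u}

lemma map_map_thin (P : (Opens X)ᵒᵖ ⥤ AddCommGrpCat.{u}) {A B C : Opens X} (f : A ⟶ B) (g : B ⟶ C)
    (k : A ⟶ C) (s : P.obj (op C)) : P.map f.op (P.map g.op s) = P.map k.op s := by
  rw [← ConcreteCategory.comp_apply, ← P.map_comp, ← op_comp, Subsingleton.elim (f ≫ g) k]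

lemma map_id_thin (P : (Opens X)ᵒᵖ ⥤ AddCommGrpCat.{u}) {A : Opens X} (f : A ⟶ A)
    (s : P.obj (op A)) : P.map f.op s = s := by
  rw [Subsingleton.elim f (𝟙 A), op_id, P.map_id]
  rfl

section transfer

variable (Φ : Opens X' ⥤ Opens X) (P : (Opens X)ᵒᵖ ⥤ AddCommGrpCat.{u})
  (V : ι → Opens X') (U : ι → Opens X)
  (h1 : ∀ (n : ℕ) (x : Fin (n + 1) → ι), Φ.obj (Ux V x) ≤ Ux U x)
  (h2 : ∀ (n : ℕ) (x : Fin (n + 1) → ι), Ux U x ≤ Φ.obj (Ux V x))

/-- transfer of cochains -/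
noncomputable def T (n : ℕ) (c : (CK U P).X n) : (CK V (Φ.op ⋙ P)).X n :=
  mkElt V (Φ.op ⋙ P) n (fun x => P.map (homOfLE (h1 n x)).op (pr U P n x c))

/-- transfer of cochains, back -/
noncomputable def T' (n : ℕ) (c : (CK V (Φ.op ⋙ P)).X n) : (CK U P).X n :=
  mkElt U P n (fun x => P.map (homOfLE (h2 n x)).op (pr V (Φ.op ⋙ P) n x c))

lemma pr_T (n : ℕ) (c : (CK U P).X n) (x : Fin (n + 1) → ι) :
    pr V (Φ.op ⋙ P) n x (T Φ P V U h1 n c) = P.map (homOfLE (h1 n x)).op (pr U P n x c) :=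
  pr_mkElt V (Φ.op ⋙ P) n _ x

lemma pr_T' (n : ℕ) (c : (CK V (Φ.op ⋙ P)).X n) (x : Fin (n + 1) → ι) :
    pr U P n x (T' Φ P V U h2 n c) = P.map (homOfLE (h2 n x)).op (pr V (Φ.op ⋙ P) n x c) :=
  pr_mkElt U P n _ x

lemma T'_T (n : ℕ) (c : (CK U P).X n) : T' Φ P V U h2 n (T Φ P V U h1 n c) = c := by
  apply elt_ext
  intro x
  rw [pr_T', pr_T]
  exact (map_map_thin P _ _ (𝟙 _) _).trans (map_id_thin P _ _)

lemma d_T (n : ℕ) (c : (CK U P).X n) :
    (CK V (Φ.op ⋙ P)).d n (n + 1) (T Φ P V U h1 n c) =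
      T Φ P V U h1 (n + 1) ((CK U P).d n (n + 1) c) := by
  apply elt_ext
  intro x
  rw [pr_T, d_pr_apply, d_pr_apply, map_sum]
  refine Finset.sum_congr rfl (fun i _ => ?_)
  rw [map_zsmul, pr_T]
  congr 1
  have e1 : (Φ.op ⋙ P).map (face V x i).op
      (P.map (homOfLE (h1 n (x ∘ Fin.succAbove i))).op (pr U P n (x ∘ Fin.succAbove i) c)) =
      P.map (Φ.map (face V x i)).op
        (P.map (homOfLE (h1 n (x ∘ Fin.succAbove i))).op (pr U P n (x ∘ Fin.succAbove i) c)) := rfl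
  rw [e1]
  rw [map_map_thin P _ _ (Φ.map (face V x i) ≫ homOfLE (h1 n (x ∘ Fin.succAbove i))),
    map_map_thin P _ _ (Φ.map (face V x i) ≫ homOfLE (h1 n (x ∘ Fin.succAbove i)))]

lemma d_T' (n : ℕ) (c : (CK V (Φ.op ⋙ P)).X n) :
    (CK U P).d n (n + 1) (T' Φ P V U h2 n c) =
      T' Φ P V U h2 (n + 1) ((CK V (Φ.op ⋙ P)).d n (n + 1) c) := by
  apply elt_ext
  intro x
  rw [pr_T', d_pr_apply, d_pr_apply, map_sum]
  refine Finset.sum_congr rfl (fun i _ => ?_)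
  rw [map_zsmul, pr_T']
  congr 1
  have e1 : (Φ.op ⋙ P).map (face V x i).op (pr V (Φ.op ⋙ P) n (x ∘ Fin.succAbove i) c) =
      P.map (Φ.map (face V x i)).op (pr V (Φ.op ⋙ P) n (x ∘ Fin.succAbove i) c) := rfl
  rw [e1]
  rw [map_map_thin P _ _ (homOfLE (h2 (n + 1) x) ≫ Φ.map (face V x i)),
    map_map_thin P _ _ (homOfLE (h2 (n + 1) x) ≫ Φ.map (face V x i))]

include h1 h2 in
theorem exists_of_transfer (p : ℕ) (hz : IsZero ((CK V (Φ.op ⋙ P)).homology (p + 1)))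
    (c : (CK U P).X (p + 1)) (hc : (CK U P).d (p + 1) (p + 2) c = 0) :
    ∃ b : (CK U P).X p, (CK U P).d p (p + 1) b = c := by
  have h0 : (CK V (Φ.op ⋙ P)).d (p + 1) (p + 2) (T Φ P V U h1 (p + 1) c) = 0 := by
    rw [d_T, hc]
    apply elt_ext
    intro x
    rw [pr_T, map_zero, map_zero, map_zero]
  obtain ⟨b, hb⟩ := exists_of_isZero_homology V (Φ.op ⋙ P) p hz _ h0
  refine ⟨T' Φ P V U h2 p b, ?_⟩
  rw [d_T', hb, T'_T]

include h1 h2 in
theorem isZero_of_transfer (p : ℕ) (hz : IsZero ((CK V (Φ.op ⋙ P)).homology (p + 1))) :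
    IsZero ((CK U P).homology (p + 1)) := by
  rw [← HomologicalComplex.exactAt_iff_isZero_homology,
    HomologicalComplex.exactAt_iff' (CK U P) p (p + 1) (p + 2) (by simp) (by simp),
    ShortComplex.ab_exact_iff]
  intro c hc
  exact exists_of_transfer Φ P V U h1 h2 p hz c hc

end transfer

end Groth.Agent.R2.H10.CechCoarse
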