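import Mathlib
import Groth.Prelude.Def_CohTop
import Groth.Agent.R2.H10CechCoarse

/-!
# The coarse topology generated by a family of opens (helper10)

Namespace `Groth.Agent.R2.H10.CechCoarseB`.

For a family `U : ι → Opens X` the type `Coarse U` is the union `⋃ U i` with the topology generated by the `U i`.
An abelian sheaf `F` on `X` gives a sheaf `G U F` on `Coarse U` (restrict to the union, push forward along the
identity), with `G(W) = F(Φ W)`, `Φ W` the set `W` seen as an open of `X`.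
-/

set_option autoImplicit false
universe u

open CategoryTheory CategoryTheory.Limits Opposite TopologicalSpace
open Groth.Agent.Lib.Helper16.CechLow

namespace Groth.Agent.R2.H10.CechCoarseB

variable {X : TopCat.{u}} {ι : Type u} (U : ι → Opens X)

/-- the union of the `U i`, to carry the topology generated by the `U i`. -/
def Coarse : Type u := ↥(iSup U)

variable {U} in
/-- the underlying point of `X`. -/
def fromCoarse (z : Coarse U) : X := Subtype.val (p := fun x => x ∈ iSup U) z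

instance : TopologicalSpace (Coarse U) :=
  TopologicalSpace.generateFrom (Set.range fun i => {z : Coarse U | fromCoarse z ∈ U i})

/-- the identity, from the subspace topology to the coarse topology. -/
def toCoarse (y : ↥(iSup U)) : Coarse U := y

lemma continuous_toCoarse : Continuous (toCoarse U) := by
  rw [continuous_generateFrom_iff]
  rintro _ ⟨i, rfl⟩
  exact (U i).isOpen.preimage continuous_subtype_val

lemma fromCoarse_mem (z : Coarse U) : fromCoarse z ∈ iSup U :=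
  Subtype.property (p := fun x => x ∈ iSup U) z

/-- the opens `U i` as opens of `Coarse U` -/
def V (i : ι) : Opens (TopCat.of (Coarse U)) :=
  ⟨{z : Coarse U | fromCoarse z ∈ U i}, TopologicalSpace.isOpen_generateFrom_of_mem ⟨i, rfl⟩⟩

lemma mem_V (i : ι) (z : Coarse U) : z ∈ V U i ↔ fromCoarse z ∈ U i := Iff.rfl

/-- every open of the coarse topology is a union of finite intersections of the `U i` -/
theorem exists_tuple (W : Set (Coarse U)) (hW : IsOpen W) (z : Coarse U) (hz : z ∈ W) :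
    ∃ (p : ℕ) (t : Fin (p + 1) → ι), (∀ j, fromCoarse z ∈ U (t j)) ∧
      ∀ z' : Coarse U, (∀ j, fromCoarse z' ∈ U (t j)) → z' ∈ W := by
  change TopologicalSpace.GenerateOpen _ W at hW
  induction hW generalizing z with
  | basic s hs =>
    obtain ⟨i, rfl⟩ := hs
    exact ⟨0, fun _ => i, fun _ => hz, fun z' h => h 0⟩
  | univ =>
    obtain ⟨i, hi⟩ := Opens.mem_iSup.1 (fromCoarse_mem U z)
    exact ⟨0, fun _ => i, fun _ => hi, fun z' _ => Set.mem_univ _⟩
  | inter s t _ _ ihs iht =>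
    obtain ⟨p1, t1, h1, h1'⟩ := ihs z hz.1
    obtain ⟨p2, t2, h2, h2'⟩ := iht z hz.2
    refine ⟨p1 + 1 + p2, (Fin.append t1 t2 : Fin (p1 + 1 + (p2 + 1)) → ι), ?_, ?_⟩
    · refine (Fin.forall_fin_add (m := p1 + 1) (n := p2 + 1)
        (fun j => fromCoarse z ∈ U (Fin.append t1 t2 j))).2 ⟨fun j => ?_, fun j => ?_⟩
      · rw [Fin.append_left]; exact h1 j
      · rw [Fin.append_right]; exact h2 j
    · intro z' hz'
      refine ⟨h1' z' fun j => ?_, h2' z' fun j => ?_⟩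
      · have := hz' (Fin.castAdd (p2 + 1) j)
        rwa [Fin.append_left] at this
      · have := hz' (Fin.natAdd (p1 + 1) j)
        rwa [Fin.append_right] at this
  | sUnion S _ ih =>
    obtain ⟨s, hs, hzs⟩ := hz
    obtain ⟨p, t, h1, h2⟩ := ih s hs z hzs
    exact ⟨p, t, h1, fun z' hz' => ⟨s, hs, h2 z' hz'⟩⟩

/-- the continuous identity map -/
def c : TopCat.of ↥(iSup U) ⟶ TopCat.of (Coarse U) :=
  TopCat.ofHom ⟨toCoarse U, continuous_toCoarse U⟩

/-- the open embedding of the union -/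
abbrev jHom : TopCat.of ↥(iSup U) ⟶ X := TopCat.ofHom ⟨_, continuous_subtype_val⟩

lemma isOpenEmbedding_j : Topology.IsOpenEmbedding (TopCat.Hom.hom (jHom U)) := (iSup U).isOpenEmbedding

/-- opens of the coarse topology as opens of `X` -/
noncomputable def Φ : Opens (TopCat.of (Coarse U)) ⥤ Opens X :=
  Opens.map (c U) ⋙ (isOpenEmbedding_j U).isOpenMap.functor

lemma mem_Φ (W : Opens (TopCat.of (Coarse U))) (y : X) :
    y ∈ (Φ U).obj W ↔ ∃ z : Coarse U, z ∈ W ∧ fromCoarse z = y := by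
  constructor
  · rintro ⟨z, hz, rfl⟩
    exact ⟨toCoarse U z, hz, rfl⟩
  · rintro ⟨z, hz, rfl⟩
    exact ⟨z, hz, rfl⟩

lemma Φ_le_iSup (W : Opens (TopCat.of (Coarse U))) : (Φ U).obj W ≤ iSup U := by
  intro y hy
  obtain ⟨z, -, rfl⟩ := (mem_Φ U W y).1 hy
  exact fromCoarse_mem U z

/-- the sheaf on the coarse space -/
noncomputable def G (F : CohTop.Ab X) : CohTop.Ab (TopCat.of (Coarse U)) :=
  (CohTop.push (c U)).obj (CohTop.restr F (iSup U))

lemma G_obj (F : CohTop.Ab X) : (G U F).obj = (Φ U).op ⋙ F.obj := rfl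

section products

variable {Y : TopCat.{u}} (A : ι → Opens Y)

lemma Ux_le {n : ℕ} (x : Fin (n + 1) → ι) (j : Fin (n + 1)) : Ux A x ≤ A (x j) :=
  (Pi.π (A ∘ x) j).le

lemma le_Ux {n : ℕ} (x : Fin (n + 1) → ι) (W : Opens Y) (h : ∀ j, W ≤ A (x j)) : W ≤ Ux A x :=
  (Pi.lift (f := A ∘ x) fun j => homOfLE (h j)).le

lemma mem_Ux {n : ℕ} (x : Fin (n + 1) → ι) (y : Y) : y ∈ Ux A x ↔ ∀ j, y ∈ A (x j) := by
  constructor
  · intro h j
    exact Ux_le A x j h
  · intro h
    have h1 : (⨅ j, A (x j)) ≤ Ux A x := le_Ux A x _ fun j => iInf_le _ j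
    apply h1
    have : y ∈ ((⨅ j, A (x j) : Opens Y) : Set Y) := by
      rw [Opens.coe_iInf]
      exact Set.mem_iInter.2 h
    exact this

end products

lemma Φ_Ux_le {n : ℕ} (x : Fin (n + 1) → ι) : (Φ U).obj (Ux (V U) x) ≤ Ux U x := by
  intro y hy
  obtain ⟨z, hz, rfl⟩ := (mem_Φ U _ y).1 hy
  exact (mem_Ux U x _).2 fun j => (mem_Ux (V U) x z).1 hz j

lemma Ux_le_Φ {n : ℕ} (x : Fin (n + 1) → ι) : Ux U x ≤ (Φ U).obj (Ux (V U) x) := by
  intro y hy
  have h := (mem_Ux U x y).1 hy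
  have hy0 : y ∈ iSup U := Opens.mem_iSup.2 ⟨x 0, h 0⟩
  refine (mem_Φ U _ y).2 ⟨(⟨y, hy0⟩ : ↥(iSup U)), ?_, rfl⟩
  exact (mem_Ux (V U) x _).2 fun j => h j

/-- the index type for the description of an open of the coarse topology -/
def Idx (W : Opens (TopCat.of (Coarse U))) : Type u :=
  {t : Σ p : ℕ, Fin (p + 1) → ι // (⨅ j, U (t.2 j)) ≤ (Φ U).obj W}

lemma iSup_le_Φ (W : Opens (TopCat.of (Coarse U))) :
    (⨆ k : Idx U W, ⨅ j, U (k.1.2 j)) ≤ (Φ U).obj W :=
  iSup_le fun k => k.2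

lemma Φ_le_iSup_iInf (W : Opens (TopCat.of (Coarse U))) :
    (Φ U).obj W ≤ ⨆ k : Idx U W, ⨅ j, U (k.1.2 j) := by
  intro y hy
  obtain ⟨z, hz, rfl⟩ := (mem_Φ U _ y).1 hy
  obtain ⟨p, t, h1, h2⟩ := exists_tuple U (W : Set (Coarse U)) W.isOpen z hz
  have hmem : ∀ y' : X, y' ∈ (⨅ j, U (t j) : Opens X) ↔ ∀ j, y' ∈ U (t j) := by
    intro y'
    change y' ∈ ((⨅ j, U (t j) : Opens X) : Set X) ↔ _
    rw [Opens.coe_iInf]
    exact Set.mem_iInter
  have hk : (⨅ j, U (t j)) ≤ (Φ U).obj W := by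
    intro y' hy'
    have h' := (hmem y').1 hy'
    have hy0 : y' ∈ iSup U := Opens.mem_iSup.2 ⟨t 0, h' 0⟩
    exact (mem_Φ U _ y').2 ⟨(⟨y', hy0⟩ : ↥(iSup U)), h2 _ h', rfl⟩
  refine Opens.mem_iSup.2 ⟨(⟨⟨p, t⟩, hk⟩ : Idx U W), ?_⟩
  exact (hmem _).2 h1

/-- flasqueness of the sheaf on the coarse space, from surjectivity of the restrictions from the union to the
unions of finite intersections. -/
theorem isFlasque_G (F : CohTop.Ab X)
    (h : ∀ (κ : Type u) (a : κ → Σ p : ℕ, Fin (p + 1) → ι)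
      (hle : (⨆ k, ⨅ j, U ((a k).2 j)) ≤ iSup U),
      Function.Surjective (F.obj.map (homOfLE hle).op)) :
    TopCat.Sheaf.IsFlasque (G U F) := by
  constructor
  intro W₂ W₁ i
  rw [AddCommGrpCat.epi_iff_surjective]
  intro s
  -- `s ∈ F(Φ W₁)`
  have hle : (⨆ k : Idx U W₁.unop, ⨅ j, U (k.1.2 j)) ≤ iSup U :=
    (iSup_le_Φ U W₁.unop).trans (Φ_le_iSup U W₁.unop)
  have hs := h (Idx U W₁.unop) (fun k => k.1) hle
  let s' : F.obj.obj (op (⨆ k : Idx U W₁.unop, ⨅ j, U (k.1.2 j))) :=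
    F.obj.map (homOfLE (iSup_le_Φ U W₁.unop)).op s
  obtain ⟨t, ht⟩ := hs s'
  refine ⟨F.obj.map (homOfLE (Φ_le_iSup U W₂.unop)).op t, ?_⟩
  change F.obj.map ((Φ U).map i.unop).op (F.obj.map (homOfLE (Φ_le_iSup U W₂.unop)).op t) = s
  rw [CechCoarse.map_map_thin F.obj _ _ (homOfLE (Φ_le_iSup_iInf U W₁.unop) ≫ homOfLE hle)]
  rw [← CechCoarse.map_map_thin F.obj (homOfLE (Φ_le_iSup_iInf U W₁.unop)) (homOfLE hle), ht]
  exact (CechCoarse.map_map_thin F.obj _ _ (𝟙 _) _).trans (CechCoarse.map_id_thin F.obj _ _)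

end Groth.Agent.R2.H10.CechCoarseB
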