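import Groth.Agent.R2.H10RlimSingle
import Groth.Agent.Lib.Helper17Hyp17
import Groth.Agent.Lib.Helper17Hyp16

/-!
# Hypercohomology on objects with acyclic cohomology sheaves (helper10)

Namespace `Groth.Agent.R2.H10.CohAcyc`.

* `bijective_c₀_of_isGE`: for `Y ∈ D^{≥0}`, `Hom(G[0], Y) → Hom(G, H^0 Y)` is bijective.
* `bijective_cm_of_acyc`: for `P = fr U [0]` and `E` with `Hom(P, H^j(E)[k]) = 0` for all `j` and `k ≠ 0`, and
  `E = R lim τ_{≥ -n} E`, the canonical map `Hom(P, E[q]) → Hom(fr U, H^q E)` is bijective.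
-/

set_option autoImplicit false
set_option linter.unusedSectionVars false

universe w w' v v' u u'

open CategoryTheory CategoryTheory.Limits HomologicalComplex DerivedCategory Pretriangulated
open Groth.Agent.Lib.Helper17.Hyp Groth.Agent.R2.H10.RlimSingle Groth.Agent.S14388

namespace Groth.Agent.R2.H10.CohAcyc

section Heart

variable {A : Type u} [Category.{v} A] [Abelian A] [HasDerivedCategory.{w} A]

lemma bijective_c₀_dsgl (G H : A) :
    Function.Bijective (fun y : dsgl G ⟶ dsgl H => c₀ y) := by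
  constructor
  · intro y y' h
    obtain ⟨g, rfl⟩ := sMap_surjective y
    obtain ⟨g', rfl⟩ := sMap_surjective y'
    dsimp only at h
    rw [c₀_sMap, c₀_sMap, cancel_mono] at h
    rw [h]
  · intro s
    exact ⟨sMap (s ≫ (e₀ H).hom), by
      dsimp only
      rw [c₀_sMap, Category.assoc, Iso.hom_inv_id, Category.comp_id]⟩

/-- For `Y ∈ D^{≥ 0}`, maps `G[0] ⟶ Y` are the maps `G ⟶ H^0(Y)`. -/
theorem bijective_c₀_of_isGE (G : A) (Y : DerivedCategory A) [Y.IsGE 0] :
    Function.Bijective (fun y : dsgl G ⟶ Y => c₀ y) := by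
  let X := (tt.truncLT 1).obj Y
  let ι : X ⟶ Y := (tt.truncLTι 1).app Y
  have hT := tt.triangleLTGE_distinguished 1 Y
  have : (dsgl G).IsLE 0 := inferInstanceAs (((singleFunctor A 0).obj G).IsLE 0)
  -- `X` is in the heart
  have hXLE : X.IsLE 0 := tt.isLE_truncLT_obj Y 1 0 (by omega)
  have hXGE : X.IsGE 0 := by
    rw [isGE_iff]
    intro i hi
    have := isIso_homology_truncLTι 1 i (by omega) Y
    exact IsZero.of_iso (isZero_of_isGE Y 0 i hi) (asIso ((homologyFunctor A i).map ι))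
  obtain ⟨H, ⟨e⟩⟩ := exists_iso_singleFunctor_obj_of_isGE_of_isLE X 0
  have e' : X ≅ dsgl H := e
  -- post-composition with `ι` is bijective
  have hι : Function.Bijective (fun y : dsgl G ⟶ X => y ≫ ι) := by
    let Z := (tt.truncGE 1).obj Y
    have hZ : ∀ j : ℤ, j ≤ 0 → Subsingleton (dsgl G ⟶ Z⟦j⟧) := by
      intro j hj
      have : tt.IsGE (Z⟦j⟧) 1 := by
        have h1 : tt.IsGE (Z⟦j⟧) (1 - j) := tt.isGE_shift Z 1 j (1 - j) (by omega)
        exact tt.isGE_of_ge _ 1 (1 - j) (by omega)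
      exact ⟨fun y y' => by
        rw [tt.zero y 0 1 (by omega), tt.zero y' 0 1 (by omega)]⟩
    constructor
    · intro y y' hyy
      have h0 : (y - y') ≫ ι = 0 := by
        rw [Preadditive.sub_comp]
        exact sub_eq_zero.2 hyy
      obtain ⟨z, hz⟩ := Triangle.coyoneda_exact₂ _ (inv_rot_of_distTriang _ hT) (y - y') h0
      have hz0 : z = 0 := (hZ (-1) (by omega)).elim _ _
      rw [hz0, zero_comp] at hz
      exact sub_eq_zero.1 hz
    · intro w
      have h0 : w ≫ (tt.truncGEπ 1).app Y = 0 := by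
        have hs := hZ 0 le_rfl
        have : tt.IsGE Z 1 := inferInstanceAs (tt.IsGE ((tt.truncGE 1).obj Y) 1)
        exact tt.zero _ 0 1 (by omega)
      obtain ⟨x, hx⟩ := Triangle.coyoneda_exact₂ _ hT w h0
      exact ⟨x, hx.symm⟩
  have hH : IsIso ((homologyFunctor A 0).map ι) := isIso_homology_truncLTι 1 0 (by omega) Y
  -- `c₀` on `Hom(G[0], X)`
  have hX : Function.Bijective (fun y : dsgl G ⟶ X => c₀ y) := by
    have h1 := bijective_c₀_dsgl G H
    constructor
    · intro y y' hyy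
      dsimp only at hyy
      have h2 : c₀ (y ≫ e'.hom) = c₀ (y' ≫ e'.hom) := by rw [c₀_comp, c₀_comp, hyy]
      have h3 := h1.1 h2
      rwa [cancel_mono] at h3
    · intro s
      obtain ⟨y, hy⟩ := h1.2 (s ≫ (homologyFunctor A 0).map e'.hom)
      refine ⟨y ≫ e'.inv, ?_⟩
      dsimp only at hy ⊢
      rw [c₀_comp, hy, Category.assoc, ← Functor.map_comp, e'.hom_inv_id,
        CategoryTheory.Functor.map_id, Category.comp_id]
  constructor
  · intro y y' hyy
    obtain ⟨x, rfl⟩ := hι.2 y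
    obtain ⟨x', rfl⟩ := hι.2 y'
    dsimp only at hyy
    rw [c₀_comp, c₀_comp, cancel_mono] at hyy
    rw [hX.1 hyy]
  · intro s
    obtain ⟨x, hx⟩ := hX.2 (s ≫ inv ((homologyFunctor A 0).map ι))
    refine ⟨x ≫ ι, ?_⟩
    dsimp only at hx ⊢
    rw [c₀_comp, hx, Category.assoc, IsIso.inv_hom_id, Category.comp_id]

end Heart

section Acyc

variable {A : Type (v + 1)} [Category.{v} A] [Abelian A] [HasDerivedCategory.{w} A]

/-- `Hom(P, H^j(E)[k]) = 0` for all `j` and all `k ≠ 0`. -/
def Acyc (P E : DerivedCategory A) : Prop :=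
  ∀ (j k : ℤ), k ≠ 0 →
    Subsingleton (P ⟶ ((singleFunctor A 0).obj ((homologyFunctor A j).obj E))⟦k⟧)

lemma Acyc.vanishAbove {P E : DerivedCategory A} (h : Acyc P E) : VanishAbove P E (fun _ => 0) := by
  intro m k hk
  exact h (m - k) k (by
    have : (0 : ℤ) < k := hk
    omega)

variable {P E : DerivedCategory A}

/-- `Hom(P, E[q]) → Hom(P, (τ_{≥ a} E)[q])`. -/
noncomputable abbrev postπ (P E : DerivedCategory A) (q a : ℤ) (y : P ⟶ E⟦q⟧) :
    P ⟶ ((tt.truncGE a).obj E)⟦q⟧ :=
  y ≫ ((tt.truncGEπ a).app E)⟦q⟧'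

theorem bijective_postπ_of_large [HasProduct (CohCx.truncTower E)]
    (hL : CohCx.IsRlimVia (CohCx.truncTower E) (CohCx.truncTowerMap E) E (CohCx.toTruncTower E))
    (h : Acyc P E) (q : ℤ) (N : ℕ)
    (hN : max (Nb (fun _ => 0) q) (Nb (fun _ => 0) (q - 1)) ≤ N) :
    Function.Bijective (postπ P E q (-(N : ℤ))) := by
  have hP := h.vanishAbove
  have hN1 : Nb (fun _ => 0) q ≤ N := le_trans (le_max_left _ _) hN
  obtain ⟨g1, g2⟩ := good_of_vanishAbove hP q N hN
  constructor
  · intro y y' hyy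
    have h0 : (y - y') ≫ (CohCx.toTruncTower E N)⟦q⟧' = 0 := by
      rw [Preadditive.sub_comp]
      exact sub_eq_zero.2 hyy
    exact sub_eq_zero.1 (eq_zero_of_good hL P q N g1 g2 _ h0)
  · intro ξ
    have hev : EvBij P (CohCx.truncTower E) (CohCx.truncTowerMap E) q N :=
      fun n hn => bijective_truncTowerMap hP q n (le_trans hN1 hn)
    exact exists_lift_of_evBij hL P q N hev ξ

theorem bijective_postπ_succ (h : Acyc P E) (q a : ℤ) (ha : a < q)
    (hb : Function.Bijective (postπ P E q a)) : Function.Bijective (postπ P E q (a + 1)) := by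
  have h1 := bijective_postcomp_natTransTruncGE P E a q (h a (q - a) (by omega))
    (h a (q + 1 - a) (by omega))
  have hfun : postπ P E q (a + 1) =
      (fun y : P ⟶ ((tt.truncGE a).obj E)⟦q⟧ =>
        y ≫ ((tt.natTransTruncGEOfLE a (a + 1) (by omega)).app E)⟦q⟧') ∘ postπ P E q a := by
    funext y
    dsimp only [Function.comp, postπ]
    rw [Category.assoc, ← Functor.map_comp, tt.π_natTransTruncGEOfLE_app a (a + 1) (by omega) E]
  rw [hfun]
  exact h1.comp hb

theorem bijective_postπ_of_le (h : Acyc P E) (q : ℤ) :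
    ∀ (d : ℕ) (a : ℤ), a + d = q → Function.Bijective (postπ P E q a) →
      Function.Bijective (postπ P E q q) := by
  intro d
  induction d with
  | zero =>
    intro a ha hb
    obtain rfl : a = q := by simpa using ha
    exact hb
  | succ d ih =>
    intro a ha hb
    exact ih (a + 1) (by push_cast at ha; omega) (bijective_postπ_succ h q a (by push_cast at ha; omega) hb)

theorem bijective_postπ [HasProduct (CohCx.truncTower E)]
    (hL : CohCx.IsRlimVia (CohCx.truncTower E) (CohCx.truncTowerMap E) E (CohCx.toTruncTower E))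
    (h : Acyc P E) (q : ℤ) : Function.Bijective (postπ P E q q) := by
  let N : ℕ := max (max (Nb (fun _ => 0) q) (Nb (fun _ => 0) (q - 1))) (-q).toNat
  have hN : max (Nb (fun _ => 0) q) (Nb (fun _ => 0) (q - 1)) ≤ N := le_max_left _ _
  have hN' : (-q).toNat ≤ N := le_max_right _ _
  have hb := bijective_postπ_of_large hL h q N hN
  obtain ⟨d, hd⟩ : ∃ d : ℕ, -(N : ℤ) + d = q := ⟨(q + N).toNat, by omega⟩
  exact bijective_postπ_of_le h q d _ hd hb

/-- The canonical map `Hom(G[0], E[q]) → Hom(G, H^q E)` is bijective when `G[0]` is `E`-acyclic. -/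
theorem bijective_cm_of_acyc [HasProduct (CohCx.truncTower E)]
    (hL : CohCx.IsRlimVia (CohCx.truncTower E) (CohCx.truncTowerMap E) E (CohCx.toTruncTower E))
    (G : A) (h : Acyc (dsgl G) E) (q : ℤ) :
    Function.Bijective (fun y : dsgl G ⟶ E⟦q⟧ => cm y) := by
  let Y := ((tt.truncGE q).obj E)⟦q⟧
  let f : E⟦q⟧ ⟶ Y := ((tt.truncGEπ q).app E)⟦q⟧'
  have : Y.IsGE 0 := tt.isGE_shift ((tt.truncGE q).obj E) q q 0 (by omega)
  have hA := bijective_c₀_of_isGE G Y
  have hB : Function.Bijective (fun y : dsgl G ⟶ E⟦q⟧ => y ≫ f) := bijective_postπ hL h q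
  have hq : IsIso ((homologyFunctor A q).map ((tt.truncGEπ q).app E)) :=
    isIso_homology_truncGEπ q q le_rfl E
  have hf : IsIso ((homologyFunctor A 0).map f) := by
    have e : (homologyFunctor A 0).map f ≫ (shIso ((tt.truncGE q).obj E) q).hom =
        (shIso E q).hom ≫ (homologyFunctor A q).map ((tt.truncGEπ q).app E) :=
      shIso_hom_naturality ((tt.truncGEπ q).app E) q
    have e' : (homologyFunctor A 0).map f =
        (shIso E q).hom ≫ (homologyFunctor A q).map ((tt.truncGEπ q).app E) ≫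
          (shIso ((tt.truncGE q).obj E) q).inv := by
      rw [← Category.assoc, ← e, Category.assoc, Iso.hom_inv_id, Category.comp_id]
    rw [e']
    infer_instance
  have hc : Function.Bijective (fun y : dsgl G ⟶ E⟦q⟧ => c₀ y) := by
    constructor
    · intro y y' hyy
      dsimp only at hyy
      apply hB.1
      apply hA.1
      dsimp only
      rw [c₀_comp, c₀_comp, hyy]
    · intro s
      obtain ⟨z, hz⟩ := hA.2 (s ≫ (homologyFunctor A 0).map f)
      obtain ⟨y, rfl⟩ := hB.2 z
      refine ⟨y, ?_⟩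
      dsimp only at hz ⊢
      rw [c₀_comp, cancel_mono] at hz
      exact hz
  constructor
  · intro y y' hyy
    dsimp only [cm] at hyy
    rw [cancel_mono] at hyy
    exact hc.1 hyy
  · intro s
    obtain ⟨y, hy⟩ := hc.2 (s ≫ (shIso E q).inv)
    refine ⟨y, ?_⟩
    dsimp only [cm] at hy ⊢
    rw [hy, Category.assoc, Iso.inv_hom_id, Category.comp_id]

end Acyc

section Site

variable {A : Type (v + 1)} [Category.{v} A] [Abelian A] [HasDerivedCategory.{w} A]
  {C : Type u'} [Category.{v'} C] {J : GrothendieckTopology C} {fr : C ⥤ A}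

theorem isRlimVia_truncTower_of_acyc [IsGrothendieckAbelian.{w'} A] (h : LocFr J fr)
    (E : DerivedCategory A) [HasProduct (CohCx.truncTower E)] (B : Set C)
    (hB : ∀ U : C, sieveB B U ∈ J U) (hacyc : ∀ W ∈ B, Acyc (dsgl (fr.obj W)) E) :
    CohCx.IsRlimVia (CohCx.truncTower E) (CohCx.truncTowerMap E) E (CohCx.toTruncTower E) := by
  apply isRlimVia_truncTower_of_cofinal.{w, w'} h E
  intro U
  refine ⟨(⊤ : Sieve U).arrows, by rw [Sieve.generate_sieve]; exact J.top_mem U, ?_⟩
  intro V g _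
  refine ⟨fun _ => 0, fun T hT => ?_⟩
  refine ⟨fun W g' => W ∈ B ∧ T g', fun W g' hg' => hg'.2, ?_, fun W g' hg' => (hacyc W hg'.1).vanishAbove⟩
  refine J.superset_covering ?_ (J.bind_covering hT (fun V' f _ => hB V'))
  rintro W' _ ⟨V', k', f, hf, ⟨W, k, g'', hW, rfl⟩, rfl⟩
  exact ⟨W, k, g'' ≫ f, ⟨hW, T.downward_closed hf g''⟩, (Category.assoc _ _ _).symm⟩

/-- Abstract form of S0877: on a member of a covering class of `E`-acyclic objects, hypercohomology classes are
sections of the cohomology objects. -/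
theorem bijective_cm_of_mem [IsGrothendieckAbelian.{w'} A] (h : LocFr J fr)
    (E : DerivedCategory A) [HasProduct (CohCx.truncTower E)] (B : Set C)
    (hB : ∀ U : C, sieveB B U ∈ J U) (hacyc : ∀ W ∈ B, Acyc (dsgl (fr.obj W)) E)
    (U : C) (hU : U ∈ B) (q : ℤ) :
    Function.Bijective (fun y : dsgl (fr.obj U) ⟶ E⟦q⟧ => cm y) :=
  bijective_cm_of_acyc (isRlimVia_truncTower_of_acyc.{w, w'} h E B hB hacyc) (fr.obj U)
    (hacyc U hU) q

end Site

end Groth.Agent.R2.H10.CohAcyc
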