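import Groth.Agent.R2.H10RlimSingle
import Groth.Agent.Lib.Helper17Hyp5
import Groth.Prelude.Def_CohSite
import Groth.Prelude.Def_DCoh2

/-!
# The limit of an acyclic inverse system of abelian sheaves is its derived limit (helper10)

Namespace `Groth.Agent.R2.H10.RlimSingleB`.  Instantiation of `H10RlimSingle.isRlimVia_single` for abelian sheaves on a
small site: `isRlim_limit` is the statement of S0879.
-/

set_option autoImplicit false
set_option linter.unusedSectionVars false

universe u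

open CategoryTheory CategoryTheory.Limits Opposite DerivedCategory
open Groth.Agent.Lib.Helper17.Hyp Groth.Agent.R2.H10.RlimSingle

namespace Groth.Agent.R2.H10.RlimSingleB

variable {C : Type u} [SmallCategory C] {J : GrothendieckTopology C}

section Limit

variable (F : ℕ → Sheaf J AddCommGrpCat.{u}) (t : ∀ n, F (n + 1) ⟶ F n)

lemma π_succ_comp (n : ℕ) :
    limit.π (CohCx.opSequence F t) (op (n + 1)) ≫ t n = limit.π (CohCx.opSequence F t) (op n) := by
  have := limit.w (CohCx.opSequence F t) (homOfLE (Nat.le_add_right n 1)).op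
  rwa [Functor.ofOpSequence_map_homOfLE_succ] at this

lemma hom_ext_limit {G : Sheaf J AddCommGrpCat.{u}} (s : G ⟶ limit (CohCx.opSequence F t))
    (hs : ∀ n, s ≫ limit.π (CohCx.opSequence F t) (op n) = 0) : s = 0 := by
  apply limit.hom_ext
  rintro ⟨n⟩
  rw [hs n, zero_comp]

lemma exists_lift_limit {G : Sheaf J AddCommGrpCat.{u}} (x : ∀ n, G ⟶ F n)
    (hx : ∀ n, x (n + 1) ≫ t n = x n) :
    ∃ s : G ⟶ limit (CohCx.opSequence F t), ∀ n, s ≫ limit.π (CohCx.opSequence F t) (op n) = x n := by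
  let c : Cone (CohCx.opSequence F t) :=
    { pt := G
      π := NatTrans.ofOpSequence (F := (Functor.const ℕᵒᵖ).obj G) (G := CohCx.opSequence F t)
        (fun n => x n) (fun n => by
          have h1 : (CohCx.opSequence F t).map (homOfLE (Nat.le_add_right n 1)).op = t n :=
            Functor.ofOpSequence_map_homOfLE_succ t n
          exact (Category.id_comp (x n)).trans
            ((hx n).symm.trans (congrArg (fun z => x (n + 1) ≫ z) h1.symm))) }
  exact ⟨limit.lift _ c, fun n => limit.lift_π c (op n)⟩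

end Limit

section Main

variable [HasDerivedCategory.{u} (Sheaf J AddCommGrpCat.{u})]

theorem subsingleton_hom_of_HU (U : C) (G : Sheaf J AddCommGrpCat.{u}) (k : ℕ)
    (h : Subsingleton (CohSite.HU G k U)) :
    Subsingleton (dsgl (CohCx.freeSheaf J U) ⟶ (dsgl G)⟦(k : ℤ)⟧) := by
  have h1 : Subsingleton (Abelian.Ext (CohCx.freeSheaf J U) G k) := h
  exact @Equiv.subsingleton _ _
    (Abelian.Ext.homEquiv (X := CohCx.freeSheaf J U) (Y := G) (n := k)).symm h1

theorem subsingleton_HU_of_hom (U : C) (G : Sheaf J AddCommGrpCat.{u}) (k : ℕ)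
    (h : Subsingleton (dsgl (CohCx.freeSheaf J U) ⟶ (dsgl G)⟦(k : ℤ)⟧)) :
    Subsingleton (CohSite.HU G k U) := by
  have h1 : Subsingleton (Abelian.Ext (CohCx.freeSheaf J U) G k) :=
    @Equiv.subsingleton _ _ (Abelian.Ext.homEquiv (X := CohCx.freeSheaf J U) (Y := G) (n := k)) h
  exact h1

theorem limOne_hom_of_sections (F : ℕ → Sheaf J AddCommGrpCat.{u}) (t : ∀ n, F (n + 1) ⟶ F n) (U : C)
    (h2 : CohCx.LimOneIsZero (fun n => (F n).obj.obj (op U)) (fun n => ((t n).hom.app (op U)).hom)) :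
    CohCx.LimOneIsZero (fun n => (frSh J).obj U ⟶ F n) (fun n => Preadditive.rightComp _ (t n)) :=
  limOneIsZero_of_equiv _ _ _ _ (fun n => CohFree.homEquivSect J U (F n))
    (fun n => (CohFree.homEquivSect J U (F n)).injective)
    (fun n => (CohFree.homEquivSect J U (F n)).surjective)
    (fun n a b => map_sub (CohFree.homEquivSect J U (F n)) a b) (fun n a => rfl) h2

theorem sieveB_mem (B : Set C)
    (hB : ∀ U : C, ∃ (ι : Type u) (Y : ι → C) (f : ∀ i, Y i ⟶ U), Sieve.ofArrows Y f ∈ J U ∧ ∀ i, Y i ∈ B)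
    (U : C) : sieveB B U ∈ J U := by
  obtain ⟨ι, Y, f, hf, hY⟩ := hB U
  refine J.superset_covering ?_ hf
  rintro V g hg
  obtain ⟨i, a, rfl⟩ := (Sieve.mem_ofArrows_iff Y f g).1 hg
  exact ⟨Y i, a, f i, hY i, rfl⟩

/-- The statement of S0879. -/
theorem isRlim_limit (F : ℕ → Sheaf J AddCommGrpCat.{u}) (t : ∀ n, F (n + 1) ⟶ F n)
    [HasProduct fun n => (DerivedCategory.singleFunctor (Sheaf J AddCommGrpCat.{u}) 0).obj (F n)]
    (B : Set C)
    (hB : ∀ U : C, ∃ (ι : Type u) (Y : ι → C) (f : ∀ i, Y i ⟶ U), Sieve.ofArrows Y f ∈ J U ∧ ∀ i, Y i ∈ B)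
    (h1 : ∀ U ∈ B, ∀ (p n : ℕ), Subsingleton (CohSite.HU (F n) (p + 1) U))
    (h2 : ∀ U ∈ B, CohCx.LimOneIsZero (fun n => (F n).obj.obj (op U)) (fun n => ((t n).hom.app (op U)).hom)) :
    DCoh.IsRlim (fun n => (DerivedCategory.singleFunctor _ 0).obj (F n))
      (fun n => (DerivedCategory.singleFunctor _ 0).map (t n))
      ((DerivedCategory.singleFunctor _ 0).obj (limit (CohCx.opSequence F t))) ∧
    ∀ U ∈ B, ∀ p : ℕ, Subsingleton (CohSite.HU (limit (CohCx.opSequence F t)) (p + 1) U) := by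
  haveI : HasProduct (KK F) :=
    ‹HasProduct fun n => (DerivedCategory.singleFunctor (Sheaf J AddCommGrpCat.{u}) 0).obj (F n)›
  obtain ⟨hR, hvan⟩ := isRlimVia_single.{u, u} (locFr_frSh J) F t (limit (CohCx.opSequence F t))
    (fun n => limit.π (CohCx.opSequence F t) (op n)) (π_succ_comp F t)
    (fun U s hs => hom_ext_limit F t s hs) (fun U x hx => exists_lift_limit F t x hx)
    B (sieveB_mem B hB)
    (fun U hU k n => subsingleton_hom_of_HU U (F n) (k + 1) (h1 U hU k n))
    (fun U hU => limOne_hom_of_sections F t U (h2 U hU))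
  refine ⟨?_, fun U hU p => ?_⟩
  · obtain ⟨c, hc⟩ := hR
    exact ⟨_, c, hc⟩
  · exact subsingleton_HU_of_hom U _ (p + 1) (hvan U hU ((p + 1 : ℕ) : ℤ) (by omega))

end Main

end Groth.Agent.R2.H10.RlimSingleB
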