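import Groth.Agent.R2.H10CohAcyc
import Groth.Agent.R2.H10RlimSingleB
import Groth.Agent.Lib.Helper17KInjD1
import Groth.Agent.Lib.Helper17Hyp6

/-!
# Hypercohomology on a covering class of acyclic objects, for abelian sheaves on a small site (helper10)

Namespace `Groth.Agent.R2.H10.CohAcycB`.  `hdu_addEquiv` is the statement of S0877 (with the canonical map).
-/

set_option autoImplicit false
set_option linter.unusedSectionVars false

universe u

open CategoryTheory CategoryTheory.Limits Opposite DerivedCategory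
open Groth.Agent.Lib.Helper17.Hyp Groth.Agent.R2.H10.RlimSingle Groth.Agent.R2.H10.CohAcyc
  Groth.Agent.R2.H10.RlimSingleB

namespace Groth.Agent.R2.H10.CohAcycB

variable {C : Type u} [SmallCategory C] {J : GrothendieckTopology C}
  [HasDerivedCategory.{u} (Sheaf J AddCommGrpCat.{u})]

/-- countable products in the derived category of abelian sheaves. -/
theorem hasLimitsOfShape_nat :
    HasLimitsOfShape (Discrete ℕ) (DerivedCategory (Sheaf J AddCommGrpCat.{u})) := by
  haveI : HasProducts.{u} (DerivedCategory (Sheaf J AddCommGrpCat.{u})) :=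
    Groth.Agent.Lib.Helper17.KInj.hasProducts_derivedCategory
  haveI : HasLimitsOfShape (Discrete (ULift.{u} ℕ)) (DerivedCategory (Sheaf J AddCommGrpCat.{u})) :=
    inferInstance
  exact hasLimitsOfShape_of_equivalence (Discrete.equivalence Equiv.ulift.{u, 0})

theorem acyc_of_HU (K : DerivedCategory (Sheaf J AddCommGrpCat.{u})) (W : C)
    (h : ∀ (p : ℕ) (q : ℤ), Subsingleton (CohSite.HU (CohCx.HD K q) (p + 1) W)) :
    Acyc (dsgl ((frSh J).obj W)) K := by
  intro j k hk
  rcases lt_or_gt_of_ne hk with hk' | hk'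
  · exact subsingleton_hom_neg _ _ k hk'
  · obtain ⟨p, rfl⟩ : ∃ p : ℕ, k = ((p + 1 : ℕ) : ℤ) := ⟨(k - 1).toNat, by push_cast; omega⟩
    exact subsingleton_hom_of_HU W _ (p + 1) (h p j)

/-- S0877 with the canonical map: on a member of the covering class, `cm` is bijective. -/
theorem bijective_cm (K : DerivedCategory (Sheaf J AddCommGrpCat.{u})) (B : Set C)
    (hB : ∀ U : C, ∃ (ι : Type u) (Y : ι → C) (f : ∀ i, Y i ⟶ U), Sieve.ofArrows Y f ∈ J U ∧ ∀ i, Y i ∈ B)
    (h : ∀ U ∈ B, ∀ (p : ℕ) (q : ℤ), Subsingleton (CohSite.HU (CohCx.HD K q) (p + 1) U))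
    (U : C) (hU : U ∈ B) (q : ℤ) :
    Function.Bijective (fun y : dsgl ((frSh J).obj U) ⟶ K⟦q⟧ => cm y) := by
  haveI := hasLimitsOfShape_nat (J := J)
  exact bijective_cm_of_mem.{u, u} (locFr_frSh J) K B (sieveB_mem B hB)
    (fun W hW => acyc_of_HU K W (h W hW)) U hU q

/-- The statement of S0877. -/
theorem hdu_addEquiv (K : DerivedCategory (Sheaf J AddCommGrpCat.{u})) (B : Set C)
    (hB : ∀ U : C, ∃ (ι : Type u) (Y : ι → C) (f : ∀ i, Y i ⟶ U), Sieve.ofArrows Y f ∈ J U ∧ ∀ i, Y i ∈ B)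
    (h : ∀ U ∈ B, ∀ (p : ℕ) (q : ℤ), Subsingleton (CohSite.HU (CohCx.HD K q) (p + 1) U))
    (U : C) (hU : U ∈ B) (q : ℤ) :
    Nonempty (CohCx.HDU K q U ≃+ (CohCx.HD K q).obj.obj (op U)) := by
  have hb := bijective_cm K B hB h U hU q
  let e1 : (dsgl ((frSh J).obj U) ⟶ K⟦q⟧) ≃+ ((frSh J).obj U ⟶ (homologyFunctor _ q).obj K) :=
    AddEquiv.ofBijective (cmAdd ((frSh J).obj U) K q) hb
  exact ⟨e1.trans (CohFree.homEquivSect J U ((homologyFunctor _ q).obj K))⟩

end Groth.Agent.R2.H10.CohAcycB
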