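import Mathlib

/-!
# Right adjoints of full subcategory inclusions commute with right adjoints (helper10)

Namespace `Groth.Agent.R2.H10.DQCompare`.

Abstract form of `Rf_* ∘ DQ_X ≅ DQ_Y ∘ Rf_*`: for an adjunction `L ⊣ R` between categories
`D` and `C` with full subcategories `Q ⊆ D`, `P ⊆ C` such that `L` maps `Q` into `P` and
`R` maps `P` into `Q`, and right adjoints of the two inclusions, the comparison
`R(ι (DQ_P K)) ⟶ DQ_Q (R K)` is an isomorphism.
-/

set_option autoImplicit false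

open CategoryTheory

namespace Groth.Agent.R2.H10.DQCompare

universe v₁ v₂ u₁ u₂

variable {C : Type u₁} [Category.{v₁} C] {D : Type u₂} [Category.{v₂} D]
  {P : ObjectProperty C} {Q : ObjectProperty D} {L : D ⥤ C} {R : C ⥤ D} (adj : L ⊣ R)
  {RP : C ⥤ P.FullSubcategory} {RQ : D ⥤ Q.FullSubcategory}
  (adjP : P.ι ⊣ RP) (adjQ : Q.ι ⊣ RQ)
  (hL : ∀ M, Q M → P (L.obj M)) (hR : ∀ K, P K → Q (R.obj K))

include adj adjP hL in
theorem comparison_isIso (K : C) :
    IsIso (adjQ.homEquiv (⟨R.obj (RP.obj K).obj, hR _ (RP.obj K).property⟩ : Q.FullSubcategory)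
      (R.obj K) (R.map (adjP.counit.app K))) := by
  set A : Q.FullSubcategory := ⟨R.obj (RP.obj K).obj, hR _ (RP.obj K).property⟩ with hA
  set φ := adjQ.homEquiv A (R.obj K) (R.map (adjP.counit.app K)) with hφ
  apply isIso_of_yoneda_map_bijective
  intro M
  -- the chain of bijections
  let M' : P.FullSubcategory := ⟨L.obj M.obj, hL _ M.property⟩
  let e1 : (M ⟶ A) ≃ (Q.ι.obj M ⟶ R.obj (RP.obj K).obj) := Q.fullyFaithfulι.homEquiv
  let e2 : (Q.ι.obj M ⟶ R.obj (RP.obj K).obj) ≃ (L.obj M.obj ⟶ (RP.obj K).obj) :=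
    (adj.homEquiv _ _).symm
  let e3 : (L.obj M.obj ⟶ (RP.obj K).obj) ≃ (M' ⟶ RP.obj K) :=
    (P.fullyFaithfulι.homEquiv (X := M') (Y := RP.obj K)).symm
  let e4 : (M' ⟶ RP.obj K) ≃ (L.obj M.obj ⟶ K) := (adjP.homEquiv M' K).symm
  let e5 : (L.obj M.obj ⟶ K) ≃ (M.obj ⟶ R.obj K) := adj.homEquiv _ _
  let e6 : (M.obj ⟶ R.obj K) ≃ (M ⟶ RQ.obj (R.obj K)) := adjQ.homEquiv M (R.obj K)
  let e := e1.trans (e2.trans (e3.trans (e4.trans (e5.trans e6))))
  have key : ∀ m : M ⟶ A, e m = m ≫ φ := by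
    intro m
    have h1 : e m = adjQ.homEquiv M (R.obj K)
        (adj.homEquiv _ _ ((adjP.homEquiv M' K).symm
          ((P.fullyFaithfulι.homEquiv (X := M') (Y := RP.obj K)).symm
            ((adj.homEquiv _ _).symm (Q.fullyFaithfulι.homEquiv m))))) := rfl
    rw [h1, hφ, ← Adjunction.homEquiv_naturality_left]
    congr 1
    rw [Adjunction.homEquiv_counit, Adjunction.homEquiv_counit, Adjunction.homEquiv_unit]
    have h2 : P.ι.map ((P.fullyFaithfulι.homEquiv (X := M') (Y := RP.obj K)).symm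
        (L.map (Q.fullyFaithfulι.homEquiv m) ≫ adj.counit.app (P.ι.obj (RP.obj K)))) =
        L.map (Q.fullyFaithfulι.homEquiv m) ≫ adj.counit.app (P.ι.obj (RP.obj K)) :=
      P.fullyFaithfulι.map_preimage (X := M') (Y := RP.obj K) _
    rw [h2]
    have h3 : Q.fullyFaithfulι.homEquiv m = Q.ι.map m := rfl
    rw [h3, Functor.map_comp, Functor.map_comp, ← Category.assoc, ← Category.assoc]
    have h4 : adj.unit.app (Q.ι.obj M) ≫ R.map (L.map (Q.ι.map m)) =
        Q.ι.map m ≫ adj.unit.app (R.obj (P.ι.obj (RP.obj K))) :=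
      (adj.unit.naturality (Q.ι.map m)).symm
    rw [h4, Category.assoc (Q.ι.map m)]
    have h5 : adj.unit.app (R.obj (P.ι.obj (RP.obj K))) ≫
        R.map (adj.counit.app (P.ι.obj (RP.obj K))) = 𝟙 _ :=
      adj.right_triangle_components _
    rw [h5]
    erw [Category.comp_id]
  have : (fun m : M ⟶ A => m ≫ φ) = e := funext fun m => (key m).symm
  rw [this]
  exact e.bijective

end Groth.Agent.R2.H10.DQCompare
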