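import Groth.Agent.Lib.Helper17KInjD5
import Groth.Agent.Lib.Helper16KInjAdj

/-!
# Units of total right derived functors at K-injective complexes, homotopy category form (helper10)

Namespace `Groth.Agent.R2.H10.DerComp`.

* `isIso_unitK_app`: for `RG` a total right derived functor of `G_K ⋙ Qh` (with respect to
  `HomotopyCategory.quasiIso`), the unit is an isomorphism at (the image of) K-injective complexes;
* `exists_kInjective_iso`: every object of `D(B)` is isomorphic to `Qh (quotient I)` with `I`
  K-injective (`B` Grothendieck abelian).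
-/

set_option autoImplicit false
set_option linter.unusedSectionVars false

universe w w₁ w₂ v v' u u'

open CategoryTheory CategoryTheory.Limits HomologicalComplex MorphismProperty

namespace Groth.Agent.R2.H10.DerComp

open Groth.Agent.Lib.Helper17.KInj

section Unit

variable {A : Type u} [Category.{v} A] [Abelian A] {B : Type u'} [Category.{v'} B] [Abelian B]
  [IsGrothendieckAbelian.{w} B] [HasDerivedCategory.{w₁} A] [HasDerivedCategory.{w₂} B]
  (G : B ⥤ A) [G.Additive]
  (RG : DerivedCategory B ⥤ DerivedCategory A)
  (βK : G.mapHomotopyCategory (ComplexShape.up ℤ) ⋙ DerivedCategory.Qh ⟶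
    DerivedCategory.Qh ⋙ RG)
  [RG.IsRightDerivedFunctor βK (HomotopyCategory.quasiIso B (ComplexShape.up ℤ))]

/-- The unit of a total right derived functor (homotopy category form) is an isomorphism at
K-injective complexes. -/
theorem isIso_unitK_app (I : CochainComplex B ℤ) [I.IsKInjective] :
    IsIso (βK.app ((HomotopyCategory.quotient B (ComplexShape.up ℤ)).obj I)) := by
  haveI h : IsIso ((unitOfK G RG βK).app I) :=
    isIso_app_of_isKInjective.{w} G RG (unitOfK G RG βK) I
  have e : βK.app ((HomotopyCategory.quotient B (ComplexShape.up ℤ)).obj I) =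
      (isoF₀ G).hom.app I ≫ (unitOfK G RG βK).app I ≫
        RG.map ((DerivedCategory.quotientCompQhIso B).inv.app I) := by
    simp only [unitOfK, γOfK, NatTrans.comp_app, Functor.whiskerLeft_app,
      Functor.whiskerRight_app, Functor.associator_inv_app, Category.id_comp, Category.assoc,
      Iso.hom_inv_id_app_assoc]
    rw [← RG.map_comp, Iso.hom_inv_id_app]
    erw [RG.map_id, Category.comp_id]
  rw [e]
  infer_instance

end Unit

section Resolution

variable {B : Type u'} [Category.{v'} B] [Abelian B]
  [IsGrothendieckAbelian.{w} B] [HasDerivedCategory.{w₂} B]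

/-- Every object of the derived category of a Grothendieck abelian category is represented by
a K-injective complex. -/
theorem exists_kInjective_iso (K : DerivedCategory B) :
    ∃ (I : CochainComplex B ℤ) (_ : I.IsKInjective),
      Nonempty (K ≅ DerivedCategory.Qh.obj
        ((HomotopyCategory.quotient B (ComplexShape.up ℤ)).obj I)) := by
  let L := DerivedCategory.Q.objPreimage K
  let e : DerivedCategory.Q.obj L ≅ K := DerivedCategory.Q.objObjPreimageIso K
  obtain ⟨I, ι, hι, hI⟩ : ∃ (I : CochainComplex B ℤ) (ι : L ⟶ I), QuasiIso ι ∧ I.IsKInjective :=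
    ⟨(fibRepl₀.{w} B).obj L, (fibReplι₀.{w} B).app L, (trivCof_fibReplι₀.{w} B L).2,
      (fibrant_fibRepl₀.{w} B L).isKInjective⟩
  have hiso : IsIso (DerivedCategory.Q.map ι) := by
    rw [DerivedCategory.isIso_Q_map_iff_quasiIso]
    exact hι
  exact ⟨I, hI, ⟨e.symm ≪≫ @asIso _ _ _ _ (DerivedCategory.Q.map ι) hiso⟩⟩

end Resolution

end Groth.Agent.R2.H10.DerComp
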