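import Groth.Agent.R2.H41EpsSpec
import Groth.Agent.Lib.Helper17Hyp26

/-!
# PROJ:eps-serre, package 2 (helper10)

Namespace `Groth.Agent.R2.H10.Eps2`.  `ε_*` preserves epimorphisms whose kernel has vanishing
`H^1_J` on a `J'`-covering set of objects.
-/

set_option autoImplicit false
set_option linter.unusedSectionVars false
set_option linter.style.haveILetI false
universe u
open CategoryTheory CategoryTheory.Limits Opposite
attribute [local instance] HasDerivedCategory.standard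

namespace Groth.Agent.R2.H10.Eps2

open Groth.Agent.Lib.Helper17.Hyp Groth.Agent.Lib.Helper21 Groth.Agent.Lib.Helper21.FreeAb
  Groth.Agent.Lib.Helper21.TorsFree

variable {C : Type u} [SmallCategory C] {J : GrothendieckTopology C} (O : Sheaf J CommRingCat.{u})

/-- Lifting morphisms out of `O ⊗ ℤ_V` along an epimorphism with `H^1(V, kernel) = 0`. -/
theorem exists_lift_hom (S : ShortComplex (ModSite.Mod O)) (hS : S.ShortExact) (V : C)
    (hV : Subsingleton (ModSite.HU O S.X₁ 1 V))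
    (φ : (frModR (ModSite.ringSh O)).obj V ⟶ S.X₃) :
    ∃ ψ : (frModR (ModSite.ringSh O)).obj V ⟶ S.X₂, ψ ≫ S.g = φ := by
  haveI := Groth.Agent.S0484.result J (ModSite.ringSh O)
  haveI : HasExt.{u} (ModSite.Mod O) := inferInstance
  obtain ⟨e⟩ := nonempty_ext_freeShR_iso (ModSite.ringSh O) (CohCx.freeSheaf J V)
    (TF_freeSheaf V) S.X₁ 1
  have h1 : Subsingleton (Abelian.Ext.{u}
      ((freeShR (ModSite.ringSh O)).obj (CohCx.freeSheaf J V)) S.X₁ 1) :=
    @Equiv.subsingleton _ _ e.addCommGroupIsoToAddEquiv.toEquiv hV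
  have h1' : Subsingleton (Abelian.Ext.{u} ((frModR (ModSite.ringSh O)).obj V) S.X₁ 1) := h1
  obtain ⟨x₂, hx₂⟩ := Abelian.Ext.covariant_sequence_exact₃ ((frModR (ModSite.ringSh O)).obj V) hS
    (Abelian.Ext.mk₀ φ) (zero_add 1) (Subsingleton.elim _ _)
  obtain ⟨ψ, rfl⟩ := Abelian.Ext.addEquiv₀.symm.surjective x₂
  refine ⟨ψ, ?_⟩
  apply Abelian.Ext.addEquiv₀.symm.injective
  change Abelian.Ext.mk₀ (ψ ≫ S.g) = Abelian.Ext.mk₀ φ
  rw [← hx₂]
  change _ = (Abelian.Ext.mk₀ ψ).comp (Abelian.Ext.mk₀ S.g) (add_zero 0)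
  rw [Abelian.Ext.mk₀_comp_mk₀]

/-- Sections lift along an epimorphism with `H^1(V, kernel) = 0`. -/
theorem exists_lift_section (S : ShortComplex (ModSite.Mod O)) (hS : S.ShortExact) (V : C)
    (hV : Subsingleton (ModSite.HU O S.X₁ 1 V)) (t : S.X₃.val.obj (op V)) :
    ∃ t' : S.X₂.val.obj (op V), S.g.val.app (op V) t' = t := by
  obtain ⟨ψ, hψ⟩ := exists_lift_hom O S hS V hV ((secEquiv O S.X₃ V).symm t)
  refine ⟨secEquiv O S.X₂ V ψ, ?_⟩
  rw [← secEquiv_comp, hψ, Equiv.apply_symm_apply]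

theorem pkg2 : Groth.Agent.R2.H41.EpsSpec.Pkg2.{u} := by
  intro C _ J J' h O A B h3 h4 S hS hA
  let O' := SiteCmp.epsRing h O
  apply epi_of_local_lift (locFr_frModR (ModSite.ringSh O'))
  intro U s
  obtain ⟨ι, Y, g, hg, hY⟩ := h3 U
  have key : ∀ i, ∃ s' : (frModR (ModSite.ringSh O')).obj (Y i) ⟶ (SiteCmp.eps h O).push.obj S.X₂,
      s' ≫ (SiteCmp.eps h O).push.map S.g = (frModR (ModSite.ringSh O')).map (g i) ≫ s := by
    intro i
    have hV : Subsingleton (ModSite.HU O S.X₁ 1 (Y i)) := h4 (Y i) (hY i) S.X₁ hA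
    let t : S.X₃.val.obj (op (Y i)) :=
      secEquiv O' ((SiteCmp.eps h O).push.obj S.X₃) (Y i)
        ((frModR (ModSite.ringSh O')).map (g i) ≫ s)
    obtain ⟨t', ht'⟩ := exists_lift_section O S hS (Y i) hV t
    let t'' : ((SiteCmp.eps h O).push.obj S.X₂).val.obj (op (Y i)) := t'
    refine ⟨(secEquiv O' ((SiteCmp.eps h O).push.obj S.X₂) (Y i)).symm t'', ?_⟩
    apply (secEquiv O' ((SiteCmp.eps h O).push.obj S.X₃) (Y i)).injective
    rw [secEquiv_comp, Equiv.apply_symm_apply]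
    exact ht'
  refine ⟨Presieve.ofArrows Y g, hg, ?_⟩
  rintro _ _ ⟨i⟩
  exact key i

end Groth.Agent.R2.H10.Eps2
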