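import Groth.Agent.R2.H41EpsSpec

/-!
# PROJ:eps-serre, package 3 (helper10)

Namespace `Groth.Agent.R2.H10.Eps3`.  Pure category theory: for an adjunction `L ⊣ R` of abelian
categories with `R` fully faithful and `L` left exact, if `R` preserves epimorphisms with kernel
in the weak Serre class `A`, then the essential image `A.map R` is a weak Serre class.
-/

set_option autoImplicit false
set_option linter.unusedSectionVars false
set_option linter.style.haveILetI false
universe u v₁ v₂ u₁ u₂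
open CategoryTheory CategoryTheory.Limits Opposite

namespace Groth.Agent.R2.H10.Eps3

variable {𝒜 : Type u₁} [Category.{v₁} 𝒜] [Abelian 𝒜] {ℬ : Type u₂} [Category.{v₂} ℬ] [Abelian ℬ]
  (L : ℬ ⥤ 𝒜) (R : 𝒜 ⥤ ℬ) (adj : L ⊣ R) [R.Full] [R.Faithful] [PreservesFiniteLimits L]
  (A : ObjectProperty 𝒜) [WSerre.IsWeakSerre A]
  (H : ∀ S : ShortComplex 𝒜, S.ShortExact → A S.X₁ → Epi (R.map S.g))

include adj in
lemma containsZero : (A.map R).ContainsZero := by
  obtain ⟨Z, hZ, hAZ⟩ := A.exists_prop_of_containsZero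
  haveI : R.IsRightAdjoint := adj.isRightAdjoint
  haveI : R.PreservesZeroMorphisms := by
    haveI : PreservesLimits R := adj.rightAdjoint_preservesLimits
    infer_instance
  exact ⟨⟨R.obj Z, R.map_isZero hZ, A.prop_map_obj R hAZ⟩⟩

include adj in
lemma closedUnderKernels : (A.map R).IsClosedUnderKernels := by
  haveI : PreservesLimits R := adj.rightAdjoint_preservesLimits
  haveI : R.PreservesZeroMorphisms := inferInstance
  constructor
  rintro _ ⟨f, k, hk, ⟨⟨X₁, hX₁, ⟨e₁⟩⟩, ⟨X₂, hX₂, ⟨e₂⟩⟩⟩⟩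
  let φ : X₁ ⟶ X₂ := R.preimage (e₁.hom ≫ f ≫ e₂.inv)
  have hφ : R.map φ = e₁.hom ≫ f ≫ e₂.inv := R.map_preimage _
  refine ⟨kernel φ, A.prop_kernel φ hX₁ hX₂, ⟨?_⟩⟩
  have w : R.map φ ≫ e₂.hom = e₁.hom ≫ f := by
    rw [hφ, Category.assoc, Category.assoc, e₂.inv_hom_id, Category.comp_id]
  exact PreservesKernel.iso R φ ≪≫ kernel.mapIso (R.map φ) f e₁ e₂ w ≪≫
    (IsLimit.conePointUniqueUpToIso hk (kernelIsKernel f)).symm

include H adj in
/-- `R` maps the cokernel of a morphism between objects of `A` to a cokernel. -/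
lemma isColimit_map_cokernel {X₁ X₂ : 𝒜} (φ : X₁ ⟶ X₂) (hX₁ : A X₁) (hX₂ : A X₂) :
    Nonempty (IsColimit (CokernelCofork.ofπ (f := R.map φ) (R.map (cokernel.π φ))
      (by rw [← R.map_comp, cokernel.condition]; haveI : PreservesLimits R :=
            adj.rightAdjoint_preservesLimits
          exact R.map_zero _ _))) := by
  haveI : PreservesLimits R := adj.rightAdjoint_preservesLimits
  haveI : R.PreservesZeroMorphisms := inferInstance
  have hQ : A (cokernel φ) := A.prop_cokernel φ hX₁ hX₂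
  have hI : A (Abelian.image φ) := A.prop_kernel (cokernel.π φ) hX₂ hQ
  have hK : A (kernel φ) := A.prop_kernel φ hX₁ hX₂
  -- first short exact sequence: `0 → ker φ → X₁ → im φ → 0`
  let S₁ : ShortComplex 𝒜 := ShortComplex.mk (kernel.ι φ) (Abelian.factorThruImage φ) (by
    rw [← cancel_mono (Abelian.image.ι φ), Category.assoc, Abelian.image.fac, kernel.condition,
      zero_comp])
  have hS₁ : S₁.ShortExact := by
    refine ShortComplex.ShortExact.mk' ?_ (inferInstanceAs (Mono (kernel.ι φ)))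
      (inferInstanceAs (Epi (Abelian.factorThruImage φ)))
    refine ShortComplex.exact_of_f_is_kernel _ ?_
    refine KernelFork.IsLimit.ofι _ _ (fun g hg => kernel.lift φ g (by
        rw [← Abelian.image.fac φ, ← Category.assoc]
        erw [hg, zero_comp])) (fun g hg => kernel.lift_ι _ _ _) (fun g hg m hm => by
        rw [← cancel_mono (kernel.ι φ)]
        erw [hm, kernel.lift_ι])
  -- second short exact sequence: `0 → im φ → X₂ → coker φ → 0`
  let S₂ : ShortComplex 𝒜 := ShortComplex.mk (Abelian.image.ι φ) (cokernel.π φ) (kernel.condition _)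
  have hS₂ : S₂.ShortExact := by
    refine ShortComplex.ShortExact.mk' ?_ (inferInstanceAs (Mono (Abelian.image.ι φ)))
      (inferInstanceAs (Epi (cokernel.π φ)))
    exact ShortComplex.exact_of_f_is_kernel _ (kernelIsKernel (cokernel.π φ))
  haveI e₁ : Epi (R.map (Abelian.factorThruImage φ)) := H S₁ hS₁ hK
  haveI e₂ : Epi (R.map (cokernel.π φ)) := H S₂ hS₂ hI
  -- `R (im φ → X₂)` is the kernel of `R (X₂ → coker φ)`
  have hker : IsLimit ((KernelFork.ofι (Abelian.image.ι φ) (kernel.condition (cokernel.π φ))).map R) :=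
    KernelFork.mapIsLimit _ (kernelIsKernel (cokernel.π φ)) R
  have hcok := Abelian.epiIsCokernelOfKernel _ hker
  have hcomp : R.map φ = R.map (Abelian.factorThruImage φ) ≫ R.map (Abelian.image.ι φ) := by
    rw [← R.map_comp, Abelian.image.fac]
  have hc := @isCokernelEpiComp _ _ _ _ _ _ _ hcok _ (R.map (Abelian.factorThruImage φ)) e₁ _ hcomp
  exact ⟨hc⟩

include H adj in
lemma closedUnderCokernels : (A.map R).IsClosedUnderCokernels := by
  haveI : PreservesLimits R := adj.rightAdjoint_preservesLimits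
  haveI : R.PreservesZeroMorphisms := inferInstance
  constructor
  rintro _ ⟨f, k, hk, ⟨⟨X₁, hX₁, ⟨e₁⟩⟩, ⟨X₂, hX₂, ⟨e₂⟩⟩⟩⟩
  let φ : X₁ ⟶ X₂ := R.preimage (e₁.hom ≫ f ≫ e₂.inv)
  have hφ : R.map φ = e₁.hom ≫ f ≫ e₂.inv := R.map_preimage _
  obtain ⟨hc⟩ := isColimit_map_cokernel L R adj A H φ hX₁ hX₂
  refine ⟨cokernel φ, A.prop_cokernel φ hX₁ hX₂, ⟨?_⟩⟩
  have w : R.map φ ≫ e₂.hom = e₁.hom ≫ f := by
    rw [hφ, Category.assoc, Category.assoc, e₂.inv_hom_id, Category.comp_id]
  exact (IsColimit.coconePointUniqueUpToIso hc (cokernelIsCokernel (R.map φ))) ≪≫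
    cokernel.mapIso (R.map φ) f e₁ e₂ w ≪≫
    (IsColimit.coconePointUniqueUpToIso hk (cokernelIsCokernel f)).symm

include H adj in
lemma closedUnderExtensions : (A.map R).IsClosedUnderExtensions := by
  haveI : PreservesLimits R := adj.rightAdjoint_preservesLimits
  haveI : PreservesColimits L := adj.leftAdjoint_preservesColimits
  haveI : R.PreservesZeroMorphisms := inferInstance
  haveI : L.PreservesZeroMorphisms := inferInstance
  constructor
  rintro S hS ⟨X₁, hX₁, ⟨e₁⟩⟩ ⟨X₃, hX₃, ⟨e₃⟩⟩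
  -- apply the exact functor `L`
  have hLS : (S.map L).ShortExact := hS.map_of_exact L
  have h1 : A (L.obj S.X₁) :=
    A.prop_of_iso ((asIso (adj.counit.app X₁)).symm ≪≫ L.mapIso e₁) hX₁
  have h3 : A (L.obj S.X₃) :=
    A.prop_of_iso ((asIso (adj.counit.app X₃)).symm ≪≫ L.mapIso e₃) hX₃
  have h2 : A (L.obj S.X₂) := A.prop_X₂_of_shortExact hLS h1 h3
  -- apply `R`
  haveI : Epi (R.map (S.map L).g) := H (S.map L) hLS h1
  have hT : ((S.map L).map R).ShortExact := by
    have hlim : IsLimit ((KernelFork.ofι (S.map L).f (S.map L).zero).map R) :=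
      KernelFork.mapIsLimit _ hLS.fIsKernel R
    refine ShortComplex.ShortExact.mk' (ShortComplex.exact_of_f_is_kernel _ hlim) ?_ ?_
    · exact Fork.IsLimit.mono hlim
    · exact inferInstanceAs (Epi (R.map (S.map L).g))
  -- the unit as a morphism of short complexes
  let η : S ⟶ (S.map L).map R :=
    { τ₁ := adj.unit.app S.X₁
      τ₂ := adj.unit.app S.X₂
      τ₃ := adj.unit.app S.X₃
      comm₁₂ := (adj.unit.naturality S.f).symm
      comm₂₃ := (adj.unit.naturality S.g).symm }
  haveI : IsIso η.τ₁ := adj.isIso_unit_app_of_iso e₁.symm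
  haveI : IsIso η.τ₃ := adj.isIso_unit_app_of_iso e₃.symm
  haveI : IsIso η.τ₂ := ShortComplex.isIso₂_of_shortExact_of_isIso₁₃ η hS hT
  exact ⟨L.obj S.X₂, h2, ⟨(asIso η.τ₂).symm⟩⟩

include H adj in
theorem isWeakSerre_map : WSerre.IsWeakSerre (A.map R) :=
  { toContainsZero := containsZero L R adj A
    toIsClosedUnderKernels := closedUnderKernels L R adj A
    toIsClosedUnderCokernels := closedUnderCokernels L R adj A H
    toIsClosedUnderExtensions := closedUnderExtensions L R adj A H }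

theorem pkg3 : Groth.Agent.R2.H41.EpsSpec.Pkg3.{u} := by
  intro 𝒜 _ _ ℬ _ _ L R adj _ _ _ A _ H
  exact isWeakSerre_map L R adj A H

end Groth.Agent.R2.H10.Eps3
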