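import Mathlib
import Groth.Prelude.Def_EtRam

/-!
# Valuation subrings of finite separable extensions dominating a DVR

* `isLocalHom_of_dominates`: domination gives a local homomorphism.
* `exists_valuationSubring_comap_eq`: valuation subrings extend along field maps.
* `isDiscreteValuationRing_of_dominates`: a valuation subring of a finite separable extension of the
  fraction field of a DVR `A` dominating `A` is a DVR.
-/

set_option autoImplicit false
set_option linter.style.haveILetI false
set_option linter.unusedSectionVars false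
universe u

namespace Groth.Agent.R2.H10.EtRamA

open IsLocalRing

section Basic

variable {A : Type u} [CommRing A] [IsLocalRing A] {F : Type u} [Field F] {g : A →+* F}
  {V : ValuationSubring F}

theorem isLocalHom_of_dominates (h : EtRam.Dominates A g V) :
    IsLocalHom (RingHom.codRestrict g V h.1) := by
  constructor
  intro a ha
  by_contra hna
  have hm : a ∈ maximalIdeal A := hna
  have h1 := h.2 a hm
  have h2 := (V.valuation_eq_one_iff _).mp ha
  exact absurd h2 (ne_of_lt h1)

theorem dominates_of_isLocalHom (hg : ∀ a, g a ∈ V) (hloc : IsLocalHom (RingHom.codRestrict g V hg)) :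
    EtRam.Dominates A g V := by
  refine ⟨hg, fun a ha => ?_⟩
  have h1 : (RingHom.codRestrict g V hg a) ∈ maximalIdeal V := by
    rw [mem_maximalIdeal, mem_nonunits_iff]
    intro hu
    exact ha (hloc.map_nonunit a hu)
  exact (V.valuation_lt_one_iff _).mp h1

end Basic

section Extend

variable {L M : Type u} [Field L] [Field M]

theorem exists_valuationSubring_comap_eq (f : L →+* M) (V : ValuationSubring L) :
    ∃ W : ValuationSubring M, W.comap f = V := by
  obtain ⟨W, hW, hloc⟩ := IsLocalRing.exists_factor_valuationRing (f.comp V.subtype)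
  refine ⟨W, ?_⟩
  ext x
  rw [ValuationSubring.mem_comap]
  constructor
  · intro hx
    by_contra hxV
    have hx0 : x ≠ 0 := fun h => hxV (h ▸ V.zero_mem)
    have hinv : x⁻¹ ∈ V := (V.mem_or_inv_mem x).resolve_left hxV
    have hnu : ¬ IsUnit (⟨x⁻¹, hinv⟩ : V) := by
      rintro ⟨u, hu⟩
      apply hxV
      have h1 : ((u⁻¹ : Vˣ) : V) * (⟨x⁻¹, hinv⟩ : V) = 1 := by rw [← hu]; exact u.inv_mul
      have h2 := congrArg Subtype.val h1
      simp only [MulMemClass.coe_mul, OneMemClass.coe_one] at h2
      have h3 : (((u⁻¹ : Vˣ) : V) : L) = x := by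
        field_simp at h2
        exact h2
      rw [← h3]
      exact ((u⁻¹ : Vˣ) : V).2
    apply hnu
    apply hloc.map_nonunit
    have hfx : f x ≠ 0 := (map_ne_zero f).mpr hx0
    refine ⟨⟨⟨f x⁻¹, hW ⟨x⁻¹, hinv⟩⟩, ⟨f x, hx⟩, ?_, ?_⟩, rfl⟩
    · apply Subtype.ext
      show f x⁻¹ * f x = 1
      rw [← map_mul, inv_mul_cancel₀ hx0, map_one]
    · apply Subtype.ext
      show f x * f x⁻¹ = 1
      rw [← map_mul, mul_inv_cancel₀ hx0, map_one]
  · intro hx
    exact hW ⟨x, hx⟩

end Extend

section DVR

variable (A K F : Type u) [CommRing A] [IsDomain A] [IsDiscreteValuationRing A] [Field K]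
  [Algebra A K] [IsFractionRing A K] [Field F] [Algebra K F] [FiniteDimensional K F]
  [Algebra.IsSeparable K F]

theorem comp_injective : Function.Injective ((algebraMap K F).comp (algebraMap A K)) :=
  (algebraMap K F).injective.comp (IsFractionRing.injective A K)

/-- A valuation subring of a finite separable extension of `Frac A` dominating the DVR `A` is a
DVR. -/
theorem isDiscreteValuationRing_of_dominates (V : ValuationSubring F)
    (h : EtRam.Dominates A ((algebraMap K F).comp (algebraMap A K)) V) :
    IsDiscreteValuationRing V := by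
  classical
  letI : Algebra A F := ((algebraMap K F).comp (algebraMap A K)).toAlgebra
  haveI : IsScalarTower A K F := IsScalarTower.of_algebraMap_eq (fun _ => rfl)
  haveI : IsDedekindDomain (integralClosure A F) := integralClosure.isDedekindDomain A K F
  haveI : IsFractionRing (integralClosure A F) F :=
    integralClosure.isFractionRing_of_finite_extension K F
  letI algAV : Algebra A V :=
    (RingHom.codRestrict ((algebraMap K F).comp (algebraMap A K)) V h.1).toAlgebra
  haveI : IsScalarTower A V F := IsScalarTower.of_algebraMap_eq (fun _ => rfl)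
  -- the integral closure is contained in `V`
  have hBV : ∀ x : F, x ∈ integralClosure A F → x ∈ V := by
    intro x hx
    have hx' : IsIntegral A x := hx
    have hxV : IsIntegral V x := hx'.tower_top
    obtain ⟨y, hy⟩ := (IsIntegrallyClosed.isIntegral_iff (R := V) (K := F)).mp hxV
    rw [← hy]
    exact y.2
  let φ : integralClosure A F →+* V :=
    RingHom.codRestrict ((integralClosure A F).val : integralClosure A F →+* F) V
      (fun b => hBV b.1 b.2)
  letI : Algebra (integralClosure A F) V := φ.toAlgebra
  haveI : IsScalarTower (integralClosure A F) V F := IsScalarTower.of_algebraMap_eq (fun _ => rfl)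
  let q : Ideal (integralClosure A F) := (maximalIdeal V).comap φ
  haveI hqp : q.IsPrime := Ideal.comap_isPrime φ _
  have hq0 : q ≠ ⊥ := by
    obtain ⟨ϖ, hϖ⟩ := IsDiscreteValuationRing.exists_irreducible A
    have hϖm : ϖ ∈ maximalIdeal A := by
      rw [mem_maximalIdeal, mem_nonunits_iff]
      exact hϖ.not_isUnit
    intro hbot
    have h1 : algebraMap A (integralClosure A F) ϖ ∈ q := by
      show φ (algebraMap A (integralClosure A F) ϖ) ∈ maximalIdeal V
      rw [V.valuation_lt_one_iff]
      exact h.2 ϖ hϖm
    rw [hbot, Ideal.mem_bot] at h1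
    have h2 := congrArg Subtype.val h1
    have h3 : ((algebraMap K F).comp (algebraMap A K)) ϖ = 0 := h2
    exact hϖ.ne_zero ((map_eq_zero_iff _ (comp_injective A K F)).mp h3)
  have hS : q.primeCompl ≤ nonZeroDivisors (integralClosure A F) := q.primeCompl_le_nonZeroDivisors
  let Bq : Subalgebra (integralClosure A F) F := Localization.subalgebra.ofField F q.primeCompl hS
  haveI : IsLocalization.AtPrime Bq q := Localization.subalgebra.isLocalization_ofField F q.primeCompl hS
  haveI : IsDiscreteValuationRing Bq :=
    IsLocalization.AtPrime.isDiscreteValuationRing_of_dedekind_domain (integralClosure A F) hq0 Bq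
  -- membership in `Bq`
  have hmem : ∀ x : F, x ∈ Bq ↔ ∃ (a s : integralClosure A F) (_ : s ∈ q.primeCompl),
      x = algebraMap (integralClosure A F) F a * (algebraMap (integralClosure A F) F s)⁻¹ :=
    fun x => Iff.rfl
  -- elements of the prime complement are units in `V`
  have hunit : ∀ s : integralClosure A F, s ∈ q.primeCompl → ((s : F))⁻¹ ∈ V := by
    intro s hs
    have h1 : ¬ (φ s ∈ maximalIdeal V) := hs
    rw [mem_maximalIdeal, mem_nonunits_iff, not_not] at h1
    obtain ⟨u, hu⟩ := h1
    have h2 : (((u⁻¹ : Vˣ) : V) : F) = ((s : F))⁻¹ := by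
      have h3 : ((u : V) : F) = (s : F) := by rw [hu]; rfl
      have h4 := congrArg Subtype.val u.inv_mul
      simp only [MulMemClass.coe_mul, OneMemClass.coe_one] at h4
      rw [h3] at h4
      exact eq_inv_of_mul_eq_one_left h4
    rw [← h2]
    exact ((u⁻¹ : Vˣ) : V).2
  have h12 : ∀ x : F, x ∈ Bq → x ∈ V := by
    intro x hx
    obtain ⟨a, s, hs, rfl⟩ := (hmem x).mp hx
    exact V.mul_mem _ _ (hBV a.1 a.2) (hunit s hs)
  have h21 : ∀ x : F, x ∈ V → x ∈ Bq := by
    intro x hx
    by_cases hx0 : x = 0
    · rw [hx0]; exact Bq.zero_mem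
    rcases ValuationRing.isInteger_or_isInteger Bq x with ⟨y, hy⟩ | ⟨y, hy⟩
    · rw [← hy]; exact y.2
    · obtain ⟨a, s, hs, hxas⟩ := (hmem y.1).mp y.2
      have hy' : (y : F) = x⁻¹ := hy
      rw [hy'] at hxas
      -- `a ∉ q`
      have ha : a ∈ q.primeCompl := by
        intro haq
        have haq' : φ a ∈ maximalIdeal V := haq
        have h1 : (⟨x, hx⟩ : V) * ((⟨(s : F)⁻¹, hunit s hs⟩ : V) * φ a) ∈ maximalIdeal V :=
          Ideal.mul_mem_left _ _ (Ideal.mul_mem_left _ _ haq')
        have h2 : (⟨x, hx⟩ : V) * ((⟨(s : F)⁻¹, hunit s hs⟩ : V) * φ a) = 1 := by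
          apply Subtype.ext
          show x * ((s : F)⁻¹ * (a : F)) = 1
          have : x⁻¹ = (a : F) * ((s : F))⁻¹ := hxas
          rw [mul_comm ((s : F))⁻¹, ← this, mul_inv_cancel₀ hx0]
        rw [h2] at h1
        exact (Ideal.ne_top_iff_one _).mp (maximalIdeal.isMaximal V).ne_top h1
      refine (hmem x).mpr ⟨s, a, ha, ?_⟩
      have : x⁻¹ = (a : F) * ((s : F))⁻¹ := hxas
      have hx' : x = ((a : F) * ((s : F))⁻¹)⁻¹ := by rw [← this, inv_inv]
      rw [hx', mul_inv, inv_inv, mul_comm]
      rfl
  let e : Bq ≃+* V :=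
    { toFun := fun x => ⟨x.1, h12 x.1 x.2⟩
      invFun := fun x => ⟨x.1, h21 x.1 x.2⟩
      left_inv := fun _ => rfl
      right_inv := fun _ => rfl
      map_mul' := fun _ _ => rfl
      map_add' := fun _ _ => rfl }
  exact IsDiscreteValuationRing.RingEquivClass.isDiscreteValuationRing e

end DVR

end Groth.Agent.R2.H10.EtRamA
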