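import Mathlib
import Groth.Prelude.Def_EtRam
import Groth.Agent.R2.H10EtRamA

/-!
# Towers of valuation subrings over a DVR: (weak) unramifiedness, tameness
-/

set_option autoImplicit false
set_option linter.style.haveILetI false
set_option linter.unusedSectionVars false
set_option linter.overlappingInstances false
universe u

namespace Groth.Agent.R2.H10.EtRamB

open IsLocalRing

section Generic

variable {A V W : Type u} [CommRing A] [CommRing V] [CommRing W] [IsLocalRing A] [IsLocalRing V]
  [IsLocalRing W] [Algebra A V] [Algebra V W] [Algebra A W] [IsScalarTower A V W]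

theorem weaklyUnramified_trans (h1 : EtRam.IsWeaklyUnramified A V)
    (h2 : EtRam.IsWeaklyUnramified V W) : EtRam.IsWeaklyUnramified A W := by
  unfold EtRam.IsWeaklyUnramified at *
  rw [IsScalarTower.algebraMap_eq A V W, ← Ideal.map_map, h1, h2]

variable [IsLocalHom (algebraMap A V)] [IsLocalHom (algebraMap V W)] [IsLocalHom (algebraMap A W)]

theorem separable_down (h : Algebra.IsSeparable (ResidueField A) (ResidueField W)) :
    Algebra.IsSeparable (ResidueField A) (ResidueField V) :=
  Algebra.isSeparable_tower_bot_of_isSeparable (ResidueField A) (ResidueField V) (ResidueField W)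

theorem separable_trans (h1 : Algebra.IsSeparable (ResidueField A) (ResidueField V))
    (h2 : Algebra.IsSeparable (ResidueField V) (ResidueField W)) :
    Algebra.IsSeparable (ResidueField A) (ResidueField W) :=
  Algebra.IsSeparable.trans (ResidueField A) (ResidueField V) (ResidueField W)

theorem charP_residue (p : ℕ) (h : CharP (ResidueField A) p) : CharP (ResidueField V) p :=
  charP_of_injective_algebraMap (algebraMap (ResidueField A) (ResidueField V)).injective p

theorem ramificationIdx_tower [IsDomain A] [IsDomain V] [IsDomain W] [IsDiscreteValuationRing A]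
    [IsDiscreteValuationRing V] [IsDiscreteValuationRing W]
    (hVW : Function.Injective (algebraMap V W)) (hAW : Function.Injective (algebraMap A W)) :
    (maximalIdeal A).ramificationIdx' (maximalIdeal W) =
      (maximalIdeal A).ramificationIdx' (maximalIdeal V) *
        (maximalIdeal V).ramificationIdx' (maximalIdeal W) := by
  apply Ideal.ramificationIdx'_algebra_tower
  · exact (Ideal.map_eq_bot_iff_of_injective hVW).not.mpr (IsDiscreteValuationRing.not_a_field V)
  · exact (Ideal.map_eq_bot_iff_of_injective hAW).not.mpr (IsDiscreteValuationRing.not_a_field A)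
  · exact ((local_hom_TFAE (algebraMap V W)).out 0 2).mp ‹IsLocalHom (algebraMap V W)›

end Generic

section Comap

variable {L M : Type u} [Field L] [Field M] (f : L →+* M) (W : ValuationSubring M)

theorem mem_nonunits_comap (x : L) : x ∈ (W.comap f).nonunits ↔ f x ∈ W.nonunits := by
  rw [ValuationSubring.mem_nonunits_iff_or, ValuationSubring.mem_nonunits_iff_or,
    ValuationSubring.mem_comap, map_inv₀, map_eq_zero]

theorem valuation_comap_lt_one (x : L) : (W.comap f).valuation x < 1 ↔ W.valuation (f x) < 1 := by
  rw [← ValuationSubring.mem_nonunits_iff, ← ValuationSubring.mem_nonunits_iff, mem_nonunits_comap]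

theorem dominates_comap_self :
    EtRam.Dominates (W.comap f) (f.comp (W.comap f).subtype) W := by
  refine ⟨fun v => v.2, fun v hv => ?_⟩
  have h1 := ((W.comap f).valuation_lt_one_iff v).mp hv
  exact (valuation_comap_lt_one f W v.1).mp h1

variable {A : Type u} [CommRing A] [IsLocalRing A] {gL : A →+* L} {gM : A →+* M}
  (hg : ∀ a, f (gL a) = gM a)
include hg

theorem dominates_comap_iff :
    EtRam.Dominates A gL (W.comap f) ↔ EtRam.Dominates A gM W := by
  constructor
  · rintro ⟨h1, h2⟩
    refine ⟨fun a => by rw [← hg]; exact h1 a, fun a ha => ?_⟩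
    rw [← hg]
    exact (valuation_comap_lt_one f W _).mp (h2 a ha)
  · rintro ⟨h1, h2⟩
    refine ⟨fun a => ?_, fun a ha => ?_⟩
    · rw [ValuationSubring.mem_comap, hg]; exact h1 a
    · rw [valuation_comap_lt_one, hg]; exact h2 a ha

end Comap

section Special

variable {A : Type u} [CommRing A] [IsDomain A] [IsDiscreteValuationRing A]
  {L M : Type u} [Field L] [Field M] (f : L →+* M) (W : ValuationSubring M)
  {gL : A →+* L} {gM : A →+* M} (hg : ∀ a, f (gL a) = gM a) (hinj : Function.Injective gL)
  (hV : EtRam.Dominates A gL (W.comap f)) (hW : EtRam.Dominates A gM W)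
include hg hinj

theorem weaklyUnramified_down :
    letI : Algebra A W := (RingHom.codRestrict gM W hW.1).toAlgebra
    letI : Algebra A (W.comap f) := (RingHom.codRestrict gL (W.comap f) hV.1).toAlgebra
    EtRam.IsWeaklyUnramified A W → EtRam.IsWeaklyUnramified A (W.comap f) := by
  intro h
  letI iAW : Algebra A W := (RingHom.codRestrict gM W hW.1).toAlgebra
  letI iAV : Algebra A (W.comap f) := (RingHom.codRestrict gL (W.comap f) hV.1).toAlgebra
  change (maximalIdeal A).map (algebraMap A W) = maximalIdeal W at h
  change (maximalIdeal A).map (algebraMap A (W.comap f)) = maximalIdeal (W.comap f)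
  obtain ⟨ϖ, hϖ⟩ := IsDiscreteValuationRing.exists_irreducible A
  have hϖm : ϖ ∈ maximalIdeal A := by
    rw [mem_maximalIdeal, mem_nonunits_iff]
    exact hϖ.not_isUnit
  rw [hϖ.maximalIdeal_eq, Ideal.map_span, Set.image_singleton] at h ⊢
  apply le_antisymm
  · rw [Ideal.span_le, Set.singleton_subset_iff, SetLike.mem_coe]
    exact ((W.comap f).valuation_lt_one_iff _).mpr (hV.2 ϖ hϖm)
  · intro x hx
    have hx1 : ((W.comap f).valuation (x : L)) < 1 := ((W.comap f).valuation_lt_one_iff x).mp hx
    have hx2 : W.valuation (f (x : L)) < 1 := (valuation_comap_lt_one f W _).mp hx1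
    have hx3 : (⟨f (x : L), x.2⟩ : W) ∈ maximalIdeal W := (W.valuation_lt_one_iff _).mpr hx2
    rw [← h, Ideal.mem_span_singleton'] at hx3
    obtain ⟨w, hw⟩ := hx3
    have hw' : (w : M) * gM ϖ = f (x : L) := congrArg Subtype.val hw
    have hϖ0 : gL ϖ ≠ 0 := (map_ne_zero_iff gL hinj).mpr hϖ.ne_zero
    have hwf : f ((x : L) / gL ϖ) = (w : M) := by
      rw [map_div₀, ← hw', hg, mul_div_assoc, div_self, mul_one]
      rw [← hg]
      exact (map_ne_zero f).mpr hϖ0
    have hmem : (x : L) / gL ϖ ∈ W.comap f := by
      rw [ValuationSubring.mem_comap, hwf]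
      exact w.2
    rw [Ideal.mem_span_singleton']
    refine ⟨⟨(x : L) / gL ϖ, hmem⟩, ?_⟩
    apply Subtype.ext
    show (x : L) / gL ϖ * gL ϖ = (x : L)
    rw [div_mul_cancel₀ _ hϖ0]

end Special

end Groth.Agent.R2.H10.EtRamB
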