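import Mathlib
import Groth.Prelude.Def_EtRam
import Groth.Agent.R2.H10EtRamB

/-!
# A compositum with compatible valuation subrings

Given an extension of DVRs `B → C` with fraction fields `L ⊂ M₀`, a field `M` over `L` and a valuation
subring `W` of `M` dominating `B`, we construct a field `M'` receiving `M₀` and `M` compatibly over `L`
and generated by them, with a valuation subring `W'` dominating `C` and restricting to `W`.
-/

set_option autoImplicit false
set_option linter.style.haveILetI false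
set_option linter.unusedSectionVars false
set_option linter.overlappingInstances false
universe u

namespace Groth.Agent.R2.H10.EtRamC

open IsLocalRing TensorProduct

/-- In a DVR a nonzero prime is the maximal ideal. -/
theorem eq_maximalIdeal_of_ne_bot {C : Type u} [CommRing C] [IsDomain C] [IsDiscreteValuationRing C]
    (P : Ideal C) [P.IsPrime] (hP : P ≠ ⊥) : P = maximalIdeal C :=
  IsLocalRing.eq_maximalIdeal (Ideal.IsPrime.isMaximal inferInstance hP)

theorem exists_compositum (B C L M₀ M : Type u) [CommRing B] [IsDomain B] [IsDiscreteValuationRing B]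
    [CommRing C] [IsDomain C] [IsDiscreteValuationRing C] [Algebra B C] [IsLocalHom (algebraMap B C)]
    (hinj : Function.Injective (algebraMap B C))
    [Field L] [Field M₀] [Field M] [Algebra B L] [IsFractionRing B L] [Algebra C M₀]
    [IsFractionRing C M₀] [Algebra L M₀] [Algebra B M₀] [IsScalarTower B C M₀] [IsScalarTower B L M₀]
    [Algebra L M]
    (W : ValuationSubring M) (hW : EtRam.Dominates B ((algebraMap L M).comp (algebraMap B L)) W) :
    ∃ (M' : Type u) (_ : Field M') (ι : M₀ →+* M') (j : M →+* M') (W' : ValuationSubring M'),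
      ι.comp (algebraMap L M₀) = j.comp (algebraMap L M) ∧ W'.comap j = W ∧
      EtRam.Dominates C (ι.comp (algebraMap C M₀)) W' ∧
      ∀ S : Subring M', (∀ x, ι x ∈ S) → (∀ y, j y ∈ S) → (∀ s ∈ S, s⁻¹ ∈ S) → S = ⊤ := by
  classical
  letI algBW : Algebra B W :=
    (RingHom.codRestrict ((algebraMap L M).comp (algebraMap B L)) W hW.1).toAlgebra
  haveI locBW : IsLocalHom (algebraMap B W) := EtRamA.isLocalHom_of_dominates hW
  have injBW : Function.Injective (algebraMap B W) := fun a b h =>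
    IsFractionRing.injective B L ((algebraMap L M).injective (congrArg Subtype.val h))
  -- flatness
  haveI : Module.IsTorsionFree B C := Module.isTorsionFree_iff_algebraMap_injective.mpr hinj
  haveI : Module.Flat B C := inferInstance
  haveI : Module.FaithfullyFlat B C := Module.FaithfullyFlat.of_flat_of_isLocalHom
  haveI : Module.FaithfullyFlat W (W ⊗[B] C) := inferInstance
  haveI : Module.Flat W (W ⊗[B] C) := inferInstance
  -- a prime over the maximal ideal of `W`
  obtain ⟨𝔓, h𝔓⟩ := PrimeSpectrum.comap_surjective_of_faithfullyFlat (A := W) (B := W ⊗[B] C)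
    ⟨maximalIdeal W, inferInstance⟩
  haveI h𝔓p : 𝔓.asIdeal.IsPrime := 𝔓.2
  have h𝔓W : 𝔓.asIdeal.comap (algebraMap W (W ⊗[B] C)) = maximalIdeal W :=
    congrArg PrimeSpectrum.asIdeal h𝔓
  haveI : 𝔓.asIdeal.LiesOver (maximalIdeal W) := ⟨h𝔓W.symm⟩
  haveI : (⊥ : Ideal W).IsPrime := Ideal.isPrime_bot
  obtain ⟨𝔭, h𝔭le, h𝔭p, h𝔭o⟩ := Ideal.exists_ideal_le_liesOver_of_le (p := (⊥ : Ideal W))
    (q := maximalIdeal W) 𝔓.asIdeal bot_le
  have h𝔭W : 𝔭.comap (algebraMap W (W ⊗[B] C)) = ⊥ := h𝔭o.over.symm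
  -- the ring homs
  let iW : W →+* W ⊗[B] C := algebraMap W (W ⊗[B] C)
  let iC : C →+* W ⊗[B] C := (Algebra.TensorProduct.includeRight : C →ₐ[B] W ⊗[B] C).toRingHom
  have hiW : ∀ w : W, iW w = w ⊗ₜ[B] (1 : C) := fun w => rfl
  have hiC : ∀ c : C, iC c = (1 : W) ⊗ₜ[B] c := fun c => rfl
  have hiB : ∀ b : B, iW (algebraMap B W b) = iC (algebraMap B C b) := by
    intro b
    rw [hiW, hiC, Algebra.algebraMap_eq_smul_one, Algebra.algebraMap_eq_smul_one,
      TensorProduct.smul_tmul]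
  -- a uniformizer of `B`
  obtain ⟨ϖ, hϖ⟩ := IsDiscreteValuationRing.exists_irreducible B
  have hϖm : ϖ ∈ maximalIdeal B := by
    rw [mem_maximalIdeal, mem_nonunits_iff]
    exact hϖ.not_isUnit
  have hϖW : algebraMap B W ϖ ∈ maximalIdeal W := by
    rw [mem_maximalIdeal, mem_nonunits_iff]
    intro hu
    exact hϖ.not_isUnit (locBW.map_nonunit ϖ hu)
  have hϖW0 : algebraMap B W ϖ ≠ 0 := (map_ne_zero_iff _ injBW).mpr hϖ.ne_zero
  have hϖC0 : algebraMap B C ϖ ≠ 0 := (map_ne_zero_iff _ hinj).mpr hϖ.ne_zero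
  -- contraction of `𝔭` to `C` is zero, of `𝔓` is the maximal ideal
  have h𝔭C : 𝔭.comap iC = ⊥ := by
    by_contra hne
    have h1 : 𝔭.comap iC = maximalIdeal C := eq_maximalIdeal_of_ne_bot _ hne
    have h2 : algebraMap B C ϖ ∈ 𝔭.comap iC := by
      rw [h1, mem_maximalIdeal, mem_nonunits_iff]
      intro hu
      exact hϖ.not_isUnit (IsLocalHom.map_nonunit ϖ hu)
    have h3 : algebraMap B W ϖ ∈ 𝔭.comap (algebraMap W (W ⊗[B] C)) := by
      show iW (algebraMap B W ϖ) ∈ 𝔭
      rw [hiB]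
      exact h2
    rw [h𝔭W, Ideal.mem_bot] at h3
    exact hϖW0 h3
  have h𝔓C : 𝔓.asIdeal.comap iC = maximalIdeal C := by
    apply eq_maximalIdeal_of_ne_bot
    intro hbot
    have h2 : algebraMap B C ϖ ∈ 𝔓.asIdeal.comap iC := by
      show iC (algebraMap B C ϖ) ∈ 𝔓.asIdeal
      rw [← hiB]
      have : algebraMap B W ϖ ∈ 𝔓.asIdeal.comap (algebraMap W (W ⊗[B] C)) := by
        rw [h𝔓W]; exact hϖW
      exact this
    rw [hbot, Ideal.mem_bot] at h2
    exact hϖC0 h2
  -- the field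
  obtain ⟨M', _, ψ, hψker, hfrac⟩ : ∃ (M' : Type u) (_ : Field M') (ψ : W ⊗[B] C →+* M'),
      (∀ r : W ⊗[B] C, ψ r = 0 ↔ r ∈ 𝔭) ∧ (∀ z : M', ∃ a b : W ⊗[B] C, z = ψ a / ψ b) := by
    refine ⟨FractionRing ((W ⊗[B] C) ⧸ 𝔭), inferInstance,
      (algebraMap ((W ⊗[B] C) ⧸ 𝔭) (FractionRing ((W ⊗[B] C) ⧸ 𝔭))).comp (Ideal.Quotient.mk 𝔭),
      fun r => ?_, fun z => ?_⟩
    · show algebraMap ((W ⊗[B] C) ⧸ 𝔭) (FractionRing ((W ⊗[B] C) ⧸ 𝔭)) (Ideal.Quotient.mk 𝔭 r) = 0 ↔
        r ∈ 𝔭
      rw [map_eq_zero_iff _ (IsFractionRing.injective ((W ⊗[B] C) ⧸ 𝔭) _),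
        Ideal.Quotient.eq_zero_iff_mem]
    · obtain ⟨a, b, _, hab⟩ := IsFractionRing.div_surjective (A := (W ⊗[B] C) ⧸ 𝔭) z
      obtain ⟨a', rfl⟩ := Ideal.Quotient.mk_surjective a
      obtain ⟨b', rfl⟩ := Ideal.Quotient.mk_surjective b
      exact ⟨a', b', hab.symm⟩
  let φW : W →+* M' := ψ.comp iW
  let φC : C →+* M' := ψ.comp iC
  have hφWinj : Function.Injective φW := by
    rw [injective_iff_map_eq_zero]
    intro w hw
    have h1 : w ∈ 𝔭.comap (algebraMap W (W ⊗[B] C)) := (hψker _).mp hw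
    rwa [h𝔭W, Ideal.mem_bot] at h1
  have hφCinj : Function.Injective φC := by
    rw [injective_iff_map_eq_zero]
    intro c hc
    have h1 : c ∈ 𝔭.comap iC := (hψker _).mp hc
    rwa [h𝔭C, Ideal.mem_bot] at h1
  let j : M →+* M' := IsFractionRing.lift hφWinj
  let ι : M₀ →+* M' := IsFractionRing.lift hφCinj
  have hj : ∀ w : W, j (w : M) = φW w := fun w => IsFractionRing.lift_algebraMap hφWinj w
  have hι : ∀ c : C, ι (algebraMap C M₀ c) = φC c := fun c => IsFractionRing.lift_algebraMap hφCinj c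
  have hcompat : ι.comp (algebraMap L M₀) = j.comp (algebraMap L M) := by
    apply IsLocalization.ringHom_ext (nonZeroDivisors B)
    ext b
    show ι (algebraMap L M₀ (algebraMap B L b)) = j (algebraMap L M (algebraMap B L b))
    rw [← IsScalarTower.algebraMap_apply B L M₀, IsScalarTower.algebraMap_apply B C M₀, hι]
    have h1 : algebraMap L M (algebraMap B L b) = ((algebraMap B W b : W) : M) := rfl
    rw [h1, hj]
    show ψ (iC _) = ψ (iW _)
    rw [hiB]
  -- the valuation subring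
  have hI : (𝔓.asIdeal.map ψ.rangeRestrict) ≠ ⊤ := by
    intro htop
    have h1 : (1 : ψ.range) ∈ 𝔓.asIdeal.map ψ.rangeRestrict := by rw [htop]; trivial
    rw [Ideal.mem_map_iff_of_surjective _ ψ.rangeRestrict_surjective] at h1
    obtain ⟨r, hr, hr1⟩ := h1
    have h2 : ψ r = 1 := congrArg Subtype.val hr1
    have h3 : ψ (r - 1) = 0 := by rw [map_sub, h2, map_one, sub_self]
    have h4 : r - 1 ∈ 𝔓.asIdeal := h𝔭le ((hψker _).mp h3)
    have h5 : (1 : W ⊗[B] C) ∈ 𝔓.asIdeal := by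
      have := 𝔓.asIdeal.sub_mem hr h4
      rwa [sub_sub_cancel] at this
    exact h𝔓p.ne_top ((Ideal.eq_top_iff_one _).mpr h5)
  obtain ⟨W', hAW', hIW'⟩ := Ideal.image_subset_nonunits_valuationSubring _ hI
  have hψW' : ∀ r : W ⊗[B] C, ψ r ∈ W' := fun r => hAW' ⟨r, rfl⟩
  have hψnu : ∀ r : W ⊗[B] C, r ∈ 𝔓.asIdeal → ψ r ∈ W'.nonunits := fun r hr =>
    hIW' ⟨ψ.rangeRestrict r, Ideal.mem_map_of_mem _ hr, rfl⟩
  refine ⟨M', inferInstance, ι, j, W', hcompat, ?_, ?_, ?_⟩
  · -- `W'.comap j = W`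
    ext x
    rw [ValuationSubring.mem_comap]
    constructor
    · intro hx
      by_contra hxW
      have hx0 : x ≠ 0 := fun h => hxW (h ▸ W.zero_mem)
      have hinv : x⁻¹ ∈ W.nonunits := by
        rw [ValuationSubring.inv_mem_nonunits_iff]
        exact Or.inr hxW
      have hinvW : x⁻¹ ∈ W := ValuationSubring.nonunits_subset hinv
      have hm : (⟨x⁻¹, hinvW⟩ : W) ∈ maximalIdeal W :=
        ValuationSubring.coe_mem_nonunits_iff.mp hinv
      have h1 : iW ⟨x⁻¹, hinvW⟩ ∈ 𝔓.asIdeal := by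
        have : (⟨x⁻¹, hinvW⟩ : W) ∈ 𝔓.asIdeal.comap (algebraMap W (W ⊗[B] C)) := by
          rw [h𝔓W]; exact hm
        exact this
      have h2 : j x⁻¹ ∈ W'.nonunits := by
        have := hψnu _ h1
        have e : j x⁻¹ = ψ (iW ⟨x⁻¹, hinvW⟩) := hj ⟨x⁻¹, hinvW⟩
        rw [e]; exact this
      have h3 : W'.valuation (j x⁻¹) < 1 := (W'.mem_nonunits_iff).mp h2
      have h4 : W'.valuation (j x) ≤ 1 := (W'.valuation_le_one_iff _).mpr hx
      have h5 : W'.valuation (j x⁻¹) * W'.valuation (j x) = 1 := by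
        rw [← map_mul, ← map_mul, inv_mul_cancel₀ hx0, map_one, map_one]
      have h6 : W'.valuation (j x⁻¹) * W'.valuation (j x) < 1 := by
        calc W'.valuation (j x⁻¹) * W'.valuation (j x) ≤ W'.valuation (j x⁻¹) * 1 :=
              mul_le_mul' le_rfl h4
          _ = W'.valuation (j x⁻¹) := mul_one _
          _ < 1 := h3
      exact absurd h5 (ne_of_lt h6)
    · intro hx
      have e : j x = ψ (iW ⟨x, hx⟩) := hj ⟨x, hx⟩
      rw [e]
      exact hψW' _
  · -- domination
    refine ⟨fun c => ?_, fun c hc => ?_⟩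
    · show ι (algebraMap C M₀ c) ∈ W'
      rw [hι]
      exact hψW' _
    · show W'.valuation (ι (algebraMap C M₀ c)) < 1
      rw [hι]
      apply (W'.mem_nonunits_iff).mp
      apply hψnu
      have : c ∈ 𝔓.asIdeal.comap iC := by rw [h𝔓C]; exact hc
      exact this
  · -- generation
    intro S hSι hSj hSinv
    have hSψ : ∀ r : W ⊗[B] C, ψ r ∈ S := by
      intro r
      induction r using TensorProduct.induction_on with
      | zero => rw [map_zero]; exact S.zero_mem
      | tmul w c =>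
        have h1 : w ⊗ₜ[B] c = iW w * iC c := by
          rw [hiW, hiC, Algebra.TensorProduct.tmul_mul_tmul, mul_one, one_mul]
        rw [h1, map_mul]
        apply S.mul_mem
        · have e : ψ (iW w) = j (w : M) := (hj w).symm
          rw [e]; exact hSj _
        · have e : ψ (iC c) = ι (algebraMap C M₀ c) := (hι c).symm
          rw [e]; exact hSι _
      | add x y hx hy => rw [map_add]; exact S.add_mem hx hy
    rw [eq_top_iff]
    intro z _
    obtain ⟨a', b', hab⟩ := hfrac z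
    rw [hab, div_eq_mul_inv]
    exact S.mul_mem (hSψ a') (hSinv _ (hSψ b'))

end Groth.Agent.R2.H10.EtRamC
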