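import Mathlib
import Groth.Prelude.Def_EtRam
import Groth.Agent.R2.H10EtRamB

/-!
# Descending weak unramifiedness and geometric reducedness of residue fields along `W'.comap j`
-/

set_option autoImplicit false
set_option linter.style.haveILetI false
set_option linter.unusedSectionVars false
universe u

namespace Groth.Agent.R2.H10.EtRamD

open IsLocalRing

/-- In a valuation ring, every element of an extended ideal is a single product. -/
theorem exists_eq_mul_of_mem_map {V R : Type*} [CommRing V] [IsDomain V] [ValuationRing V]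
    [CommRing R] (φ : V →+* R) (I : Ideal V) (y : R) (hy : y ∈ I.map φ) :
    ∃ a ∈ I, ∃ w : R, y = φ a * w := by
  unfold Ideal.map at hy
  induction hy using Submodule.span_induction with
  | mem y hy =>
    obtain ⟨a, ha, rfl⟩ := hy
    exact ⟨a, ha, 1, (mul_one _).symm⟩
  | zero => exact ⟨0, I.zero_mem, 0, by simp⟩
  | add y z _ _ hy hz =>
    obtain ⟨a, ha, w, rfl⟩ := hy
    obtain ⟨b, hb, w', rfl⟩ := hz
    rcases ValuationRing.dvd_total a b with ⟨c, rfl⟩ | ⟨c, rfl⟩
    · exact ⟨a, ha, w + φ c * w', by rw [map_mul]; ring⟩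
    · exact ⟨b, hb, φ c * w + w', by rw [map_mul]; ring⟩
  | smul t y _ hy =>
    obtain ⟨a, ha, w, rfl⟩ := hy
    exact ⟨a, ha, t * w, by rw [smul_eq_mul]; ring⟩

variable {K₁ M M' : Type u} [Field K₁] [Field M] [Field M'] (f : K₁ →+* M) (j : M →+* M')
  (W' : ValuationSubring M')

theorem weaklyUnramified_comap :
    letI : Algebra (W'.comap (j.comp f)) W' := (EtRam.inclOfComap W' (j.comp f)).toAlgebra
    letI : Algebra ((W'.comap j).comap f) (W'.comap j) :=
      (EtRam.inclOfComap (W'.comap j) f).toAlgebra
    EtRam.IsWeaklyUnramified (W'.comap (j.comp f)) W' →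
      EtRam.IsWeaklyUnramified ((W'.comap j).comap f) (W'.comap j) := by
  intro h
  change (maximalIdeal _).map (EtRam.inclOfComap W' (j.comp f)) = maximalIdeal W' at h
  change (maximalIdeal _).map (EtRam.inclOfComap (W'.comap j) f) = maximalIdeal (W'.comap j)
  apply le_antisymm
  · exact ((local_hom_TFAE _).out 0 2).mp (EtRam.isLocalHom_inclOfComap (W'.comap j) f)
  · intro x hx
    have hx1 : (W'.comap j).valuation (x : M) < 1 := ((W'.comap j).valuation_lt_one_iff x).mp hx
    have hx2 : W'.valuation (j (x : M)) < 1 := (EtRamB.valuation_comap_lt_one j W' _).mp hx1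
    have hx3 : (⟨j (x : M), x.2⟩ : W') ∈ maximalIdeal W' := (W'.valuation_lt_one_iff _).mpr hx2
    rw [← h] at hx3
    obtain ⟨a, ha, w, hw⟩ := exists_eq_mul_of_mem_map _ _ _ hx3
    have hw' : j (x : M) = j (f (a : K₁)) * (w : M') := congrArg Subtype.val hw
    by_cases ha0 : (a : K₁) = 0
    · rw [ha0, map_zero, map_zero, zero_mul] at hw'
      have hx0 : (x : M) = 0 := (map_eq_zero j).mp hw'
      have : x = 0 := Subtype.ext hx0
      rw [this]
      exact Ideal.zero_mem _
    · have hfa0 : f (a : K₁) ≠ 0 := (map_ne_zero f).mpr ha0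
      have hjfa0 : j (f (a : K₁)) ≠ 0 := (map_ne_zero j).mpr hfa0
      have ha1 : (W'.comap (j.comp f)).valuation (a : K₁) < 1 :=
        ((W'.comap (j.comp f)).valuation_lt_one_iff a).mp ha
      have ha2 : W'.valuation (j (f (a : K₁))) < 1 :=
        (EtRamB.valuation_comap_lt_one (j.comp f) W' _).mp ha1
      have ha3 : (W'.comap j).valuation (f (a : K₁)) < 1 :=
        (EtRamB.valuation_comap_lt_one j W' _).mpr ha2
      have ha4 : ((W'.comap j).comap f).valuation (a : K₁) < 1 :=
        (EtRamB.valuation_comap_lt_one f (W'.comap j) _).mpr ha3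
      have hamem : (a : K₁) ∈ (W'.comap j).comap f := a.2
      have ha5 : (⟨(a : K₁), hamem⟩ : (W'.comap j).comap f) ∈ maximalIdeal _ :=
        (((W'.comap j).comap f).valuation_lt_one_iff _).mpr ha4
      have hy : (x : M) / f (a : K₁) ∈ W'.comap j := by
        rw [ValuationSubring.mem_comap, map_div₀, hw', mul_div_assoc, mul_comm, div_mul_cancel₀ _ hjfa0]
        exact w.2
      have hxeq : x = EtRam.inclOfComap (W'.comap j) f ⟨(a : K₁), hamem⟩ *
          ⟨(x : M) / f (a : K₁), hy⟩ := by
        apply Subtype.ext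
        show (x : M) = f (a : K₁) * ((x : M) / f (a : K₁))
        rw [mul_div_cancel₀ _ hfa0]
      rw [hxeq]
      exact Ideal.mul_mem_right _ _ (Ideal.mem_map_of_mem _ ha5)

theorem geomReduced_comap
    (h : @Algebra.IsGeometricallyReduced (ResidueField (W'.comap (j.comp f))) (ResidueField W') _ _
      (ResidueField.map (EtRam.inclOfComap W' (j.comp f))).toAlgebra) :
    @Algebra.IsGeometricallyReduced (ResidueField ((W'.comap j).comap f))
      (ResidueField (W'.comap j)) _ _
      (ResidueField.map (EtRam.inclOfComap (W'.comap j) f)).toAlgebra := by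
  letI a1 : Algebra (ResidueField ((W'.comap j).comap f)) (ResidueField (W'.comap j)) :=
    (ResidueField.map (EtRam.inclOfComap (W'.comap j) f)).toAlgebra
  letI a2 : Algebra (ResidueField ((W'.comap j).comap f)) (ResidueField W') :=
    (ResidueField.map (EtRam.inclOfComap W' (j.comp f))).toAlgebra
  haveI : Algebra.IsGeometricallyReduced (ResidueField ((W'.comap j).comap f)) (ResidueField W') := h
  let g : ResidueField (W'.comap j) →ₐ[ResidueField ((W'.comap j).comap f)] ResidueField W' :=
    { ResidueField.map (EtRam.inclOfComap W' j) with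
      commutes' := by
        intro r
        obtain ⟨x, rfl⟩ := residue_surjective r
        rfl }
  exact Algebra.IsGeometricallyReduced.of_injective g g.toRingHom.injective

end Groth.Agent.R2.H10.EtRamD
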