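import Groth.Agent.S1341
import Groth.Agent.S1342
import Groth.Agent.Lib.Helper18Grpd1
import Groth.Agent.Lib.Helper28PolyCM
import Groth.Agent.Lib.Helper5FiberStalk

/-!
# The Cohen–Macaulay locus of a flat, locally finitely presented groupoid scheme (helper10)

* `isCMAt_iff`: the two frozen pointwise Cohen–Macaulay predicates `Grpd.IsCMAt` (fibre ring
  `O_{X,x} ⧸ m_{f x} O_{X,x}`) and `MoreMor.IsCMAt` (stalk of the scheme-theoretic fibre) agree.
* `W f`: the Cohen–Macaulay locus; `isOpen_W`, `W_baseChange`, `exists_mem_W_of_fibre`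
  (restatements of the prior S1341/S1342).
* `i_i`, `isPullback_i`: the inverse of a groupoid scheme is an involution.
* `mem_W_t_iff_of_s_eq`: the Cohen–Macaulay locus of `t` is `s`-saturated.
* `exists_open_CM_locus`: Stacks 0460 (1)–(4) for `Grpd.IsCMAt`.
-/

set_option autoImplicit false
universe u
open CategoryTheory CategoryTheory.Limits AlgebraicGeometry

namespace Groth.Agent.R2.H10.GrpdCM

open Groth.Agent.Helper18Grpd

/-- The two frozen pointwise Cohen–Macaulay predicates agree. -/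
theorem isCMAt_iff {X Y : Scheme.{u}} (f : X ⟶ Y) (x : X) :
    Grpd.IsCMAt f x ↔ MoreMor.IsCMAt f x := by
  obtain ⟨e⟩ := Groth.Agent.Lib.Helper5.FiberStalk.nonempty_stalk_asFiber_equiv f x
  unfold Grpd.IsCMAt MoreMor.IsCMAt
  refine and_congr Iff.rfl ⟨fun h => ?_, fun h => ?_⟩
  · exact Groth.Agent.Lib.Helper28.isCohenMacaulayLocalRing_of_ringEquiv e.symm
  · exact Groth.Agent.Lib.Helper28.isCohenMacaulayLocalRing_of_ringEquiv e

/-- The Cohen–Macaulay locus of a morphism. -/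
def W {X Y : Scheme.{u}} (f : X ⟶ Y) : Set X := {x | MoreMor.IsCMAt f x}

theorem setOf_grpd_isCMAt {X Y : Scheme.{u}} (f : X ⟶ Y) : {x | Grpd.IsCMAt f x} = W f := by
  ext x
  exact isCMAt_iff f x

theorem isOpen_W {X Y : Scheme.{u}} (f : X ⟶ Y) [Flat f] [LocallyOfFinitePresentation f] :
    IsOpen (W f) :=
  (Groth.Agent.S1341.result f).1

theorem W_baseChange {X Y X' Y' : Scheme.{u}} (f : X ⟶ Y) [Flat f] [LocallyOfFinitePresentation f]
    (f' : X' ⟶ Y') (g' : X' ⟶ X) (g : Y' ⟶ Y) (hc : IsPullback g' f' f g) :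
    W f' = g' ⁻¹' W f :=
  Groth.Agent.S1342.result f f' g' g hc

/-- Every nonempty fibre meets the Cohen–Macaulay locus. -/
theorem exists_mem_W_of_fibre {X Y : Scheme.{u}} (f : X ⟶ Y) [Flat f]
    [LocallyOfFinitePresentation f] (x : X) : ∃ x' ∈ W f, f x' = f x := by
  have hd := (Groth.Agent.S1341.result f).2 (f x)
  have : Nonempty (f.fiber (f x)) := ⟨f.asFiber x⟩
  obtain ⟨z, hz⟩ := hd.nonempty
  refine ⟨f.fiberι (f x) z, hz, ?_⟩
  have : f.fiberι (f x) z ∈ Set.range (f.fiberι (f x)) := ⟨z, rfl⟩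
  rw [f.range_fiberι (f x)] at this
  exact this

section Groupoid

variable {S : Scheme.{u}} (G : Grpd.GroupoidScheme S)

/-- `(α⁻¹)⁻¹ = α` on `T`-points. -/
theorem inv_inv {T : Scheme.{u}} (α : T ⟶ G.R) : (α ≫ G.i) ≫ G.i = α := by
  have h1 : (α ≫ G.i) ≫ G.s = α ≫ G.t := inv_s α
  have h2 : ((α ≫ G.i) ≫ G.i) ≫ G.s = cmp G (α ≫ G.i) α h1 ≫ G.t := by
    rw [cmp_t, inv_s, inv_t]
  have h3 := cmp_inv_cmp (α ≫ G.i) α h1 h2
  have h4 : cmp G (α ≫ G.i) α h1 = ((α ≫ G.i) ≫ G.i) ≫ G.s ≫ G.e := by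
    rw [i_cmp, ← Category.assoc ((α ≫ G.i) ≫ G.i), inv_s, inv_t, Category.assoc]
  rw [cmp_congr rfl h4 h2 (by simp only [Category.assoc, G.e_t, Category.comp_id])] at h3
  exact (cmp_e _).symm.trans h3

theorem i_i : G.i ≫ G.i = 𝟙 G.R := by
  have := inv_inv G (𝟙 G.R)
  rwa [Category.id_comp] at this

instance isIso_i : IsIso G.i := ⟨G.i, i_i G, i_i G⟩

theorem isPullback_i : IsPullback G.i G.s G.t (𝟙 G.U) :=
  IsPullback.of_horiz_isIso ⟨by rw [G.i_t, Category.comp_id]⟩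

theorem isPullback_i' : IsPullback G.i G.t G.s (𝟙 G.U) :=
  IsPullback.of_horiz_isIso ⟨by rw [G.i_s, Category.comp_id]⟩

theorem t_e_apply (u : G.U) : G.t (G.e u) = u := by
  rw [← Scheme.Hom.comp_apply, G.e_t]
  rfl

theorem s_e_apply (u : G.U) : G.s (G.e u) = u := by
  rw [← Scheme.Hom.comp_apply, G.e_s]
  rfl

theorem s_i_apply (r : G.R) : G.s (G.i r) = G.t r := by
  rw [← Scheme.Hom.comp_apply, G.i_s]

theorem t_i_apply (r : G.R) : G.t (G.i r) = G.s r := by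
  rw [← Scheme.Hom.comp_apply, G.i_t]

/-- For two points `r, r'` of `R` with the same source there is a point `z` of `R ×_{t,t} R`
with second projection `r` and "quotient" `α⁻¹ ∘ β` equal to `r'`. -/
theorem exists_point_snd_divMap (r r' : G.R) (h : G.s r = G.s r') :
    ∃ z : ↑(pullback G.t G.t), pullback.snd G.t G.t z = r ∧ divMap G z = r' := by
  obtain ⟨w, hw1, hw2⟩ := Scheme.Pullback.exists_preimage_pullback r r' h
  let ι := (pullback G.s G.s).fromSpecResidueField w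
  let ρ := ι ≫ pullback.fst G.s G.s
  let ρ' := ι ≫ pullback.snd G.s G.s
  have hρ : ρ ≫ G.s = ρ' ≫ G.s := by
    simp only [ρ, ρ', Category.assoc, pullback.condition]
  have h1 : ρ ≫ G.s = (ρ' ≫ G.i) ≫ G.t := by rw [inv_t]; exact hρ
  let α := cmp G ρ (ρ' ≫ G.i) h1
  have hα : α ≫ G.t = ρ ≫ G.t := cmp_t _ _ _
  let ζ := pullback.lift α ρ hα
  have hζ1 : ζ ≫ pullback.snd G.t G.t = ρ := pullback.lift_snd _ _ _
  have hζ0 : ζ ≫ pullback.fst G.t G.t = α := pullback.lift_fst _ _ _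
  -- `ρ = α ∘ ρ'`
  have h2 : α ≫ G.s = ρ' ≫ G.t := by rw [cmp_s, inv_s]
  have h3 : cmp G α ρ' h2 = ρ := by
    have h4 : (ρ' ≫ G.i) ≫ G.s = ρ' ≫ G.t := inv_s ρ'
    have := cmp_assoc ρ (ρ' ≫ G.i) ρ' h1 h4
    rw [this]
    have h5 : cmp G (ρ' ≫ G.i) ρ' h4 = ρ ≫ G.s ≫ G.e := by
      rw [i_cmp, ← Category.assoc, ← hρ, Category.assoc]
    rw [cmp_congr rfl h5 _ (by simp only [Category.assoc, G.e_t, Category.comp_id])]
    exact cmp_e ρ
  have hζ2 : ζ ≫ divMap G = ρ' := by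
    rw [comp_divMap]
    have h6 : (α ≫ G.i) ≫ G.s = cmp G α ρ' h2 ≫ G.t := by rw [inv_s, cmp_t α ρ' h2]
    rw [cmp_congr (congrArg (· ≫ G.i) hζ0) (hζ1.trans h3.symm) _ h6]
    exact cmp_inv_cmp α ρ' h2 h6
  obtain ⟨t0⟩ : Nonempty ↑(Spec ((pullback G.s G.s).residueField w)) := inferInstance
  have hι : ι t0 = w := Scheme.fromSpecResidueField_apply _ _
  refine ⟨ζ t0, ?_, ?_⟩
  · rw [← Scheme.Hom.comp_apply, hζ1, Scheme.Hom.comp_apply, hι, hw1]
  · rw [← Scheme.Hom.comp_apply, hζ2, Scheme.Hom.comp_apply, hι, hw2]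

/-- The Cohen–Macaulay locus of `t` is `s`-saturated. -/
theorem mem_W_t_iff_of_s_eq [Flat G.t] [LocallyOfFinitePresentation G.t] (r r' : G.R) (h : G.s r = G.s r') : r ∈ W G.t ↔ r' ∈ W G.t := by
  have e1 : W (pullback.fst G.t G.t) = (pullback.snd G.t G.t) ⁻¹' W G.t :=
    W_baseChange G.t (pullback.fst _ _) (pullback.snd _ _) G.t
      (IsPullback.of_hasPullback G.t G.t).flip
  have e2 : W (pullback.fst G.t G.t) = (divMap G) ⁻¹' W G.t :=
    W_baseChange G.t (pullback.fst _ _) (divMap G) G.s (isPullback_fst_divMap G).flip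
  obtain ⟨z, hz1, hz2⟩ := exists_point_snd_divMap G r r' h
  have e3 : z ∈ (pullback.snd G.t G.t) ⁻¹' W G.t ↔ z ∈ (divMap G) ⁻¹' W G.t := by
    rw [← e1, ← e2]
  simpa only [Set.mem_preimage, hz1, hz2] using e3

/-- `W_s = i⁻¹ W_t`. -/
theorem W_s_eq [Flat G.t] [LocallyOfFinitePresentation G.t] : W G.s = G.i ⁻¹' W G.t :=
  W_baseChange G.t G.s G.i (𝟙 G.U) (isPullback_i G)

/-- Stacks 0460 (1)–(4). -/
theorem exists_open_CM_locus [Flat G.s] [LocallyOfFinitePresentation G.s] [Flat G.t]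
    [LocallyOfFinitePresentation G.t] :
    ∃ U' : G.U.Opens, (G.t ⁻¹ᵁ U' : Set G.R) = {r | Grpd.IsCMAt G.s r} ∧
      (G.s ⁻¹ᵁ U' : Set G.R) = {r | Grpd.IsCMAt G.t r} ∧
      ⇑G.t '' (G.s ⁻¹ᵁ U' : Set G.R) = Set.univ ∧ ⇑G.s '' (G.t ⁻¹ᵁ U' : Set G.R) = Set.univ := by
  have hop : IsOpenMap G.s := isOpenMap_of_generalizingMap G.s (Flat.generalizingMap G.s)
  let U' : G.U.Opens := ⟨G.s '' W G.t, hop _ (isOpen_W G.t)⟩
  have h2 : (G.s ⁻¹ᵁ U' : Set G.R) = W G.t := by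
    ext r
    constructor
    · rintro ⟨r', hr', hrr'⟩
      exact (mem_W_t_iff_of_s_eq G r r' hrr'.symm).mpr hr'
    · intro hr
      exact ⟨r, hr, rfl⟩
  have h1 : (G.t ⁻¹ᵁ U' : Set G.R) = W G.s := by
    ext r
    rw [W_s_eq, Set.mem_preimage, ← h2]
    show G.t r ∈ U' ↔ G.s (G.i r) ∈ U'
    rw [s_i_apply]
  refine ⟨U', ?_, ?_, ?_, ?_⟩
  · rw [h1, setOf_grpd_isCMAt]
  · rw [h2, setOf_grpd_isCMAt]
  · rw [h2, Set.eq_univ_iff_forall]
    intro u
    obtain ⟨r, hr, hru⟩ := exists_mem_W_of_fibre G.t (G.e u)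
    exact ⟨r, hr, hru.trans (t_e_apply G u)⟩
  · rw [h1, Set.eq_univ_iff_forall]
    intro u
    obtain ⟨r, hr, hru⟩ := exists_mem_W_of_fibre G.s (G.e u)
    exact ⟨r, hr, hru.trans (s_e_apply G u)⟩

end Groupoid

end Groth.Agent.R2.H10.GrpdCM
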