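import Groth.Agent.R2.LeadH399Spec
import Groth.Agent.Lib.Helper2LocFree
import Groth.Agent.Lib.Helper2FlatOver

/-!
# PROJ:h399 packages [BW1] and [BW3] (helper10)

* `bw1 : H399Spec.BW1Stmt` — sections of a finite locally free quasi-coherent module over an affine open are flat.
* `bw3 : H399Spec.BW3Stmt` — flat sections over an affine open give flat stalks over the base.

Both are direct consequences of helper2's libraries.
-/

set_option autoImplicit false
universe u
open CategoryTheory AlgebraicGeometry

namespace Groth.Agent.R2.H10.H399

open Groth.Agent.R2.Lead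

theorem bw1 : H399Spec.BW1Stmt.{u} := by
  intro Y M _ hM V hV
  exact Groth.Agent.Lib.Helper2.LocFree.flat_sections_of_isFlatAt M hV
    (fun x _ => Groth.Agent.Lib.Helper2.LocFree.isFlat_of_isFinLocFree M hM x)

theorem bw3 : H399Spec.BW3Stmt.{u} := by
  intro X Y f G _ V hV W hW hWV hfl x hx
  exact Groth.Agent.Lib.Helper2.FlatOver.isFlatOverAt_of_flat_sections f G hW hV hWV hfl x hx

end Groth.Agent.R2.H10.H399
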