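import Mathlib

/-!
# Rings all of whose (finitely generated) ideals are flat
-/

set_option autoImplicit false
set_option linter.style.haveILetI false
set_option linter.unusedSectionVars false
universe u

namespace Groth.Agent.R2.H10.IdealsFlat

open IsLocalRing

section FreeIdeal

variable {R : Type u} [CommRing R] [Nontrivial R]

/-- A free ideal is zero or generated by a nonzerodivisor. -/
theorem free_ideal_cases (J : Ideal R) [Module.Free R J] :
    J = ⊥ ∨ ∃ g : R, g ∈ nonZeroDivisors R ∧ J = Ideal.span {g} := by
  classical
  let b := Module.Free.chooseBasis R J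
  by_cases hempty : IsEmpty (Module.Free.ChooseBasisIndex R J)
  · left
    rw [eq_bot_iff]
    intro x hx
    have : (⟨x, hx⟩ : J) = 0 := by
      haveI := hempty
      have hsub : Subsingleton J := (b.repr.toEquiv.subsingleton)
      exact Subsingleton.elim _ _
    exact congrArg Subtype.val this
  · right
    rw [not_isEmpty_iff] at hempty
    obtain ⟨i⟩ := hempty
    have huniq : ∀ j, j = i := by
      intro j
      by_contra hne
      have hli := b.linearIndependent
      have hrel : (b j : R) • b i - (b i : R) • b j = 0 := by
        apply Subtype.ext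
        simp only [Submodule.coe_sub, Submodule.coe_smul, smul_eq_mul, Submodule.coe_zero]
        ring
      have := linearIndependent_iff'.mp hli {i, j}
        (fun k => if k = i then (b j : R) else -(b i : R)) (by
          rw [Finset.sum_pair (Ne.symm hne)]
          simp only [if_true, if_neg hne]
          rw [neg_smul, ← sub_eq_add_neg]
          exact hrel) i (by simp)
      simp only [if_true] at this
      have hbj : b j = 0 := Subtype.ext this
      exact b.ne_zero j hbj
    refine ⟨(b i : R), ?_, ?_⟩
    · rw [mem_nonZeroDivisors_iff_right]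
      intro z hz
      -- z * b i = 0, so z • b i = 0 in J
      have h1 : z • b i = 0 := by
        apply Subtype.ext
        simp only [Submodule.coe_smul, smul_eq_mul, Submodule.coe_zero]
        exact hz
      have := linearIndependent_iff'.mp b.linearIndependent {i} (fun _ => z) (by simpa using h1) i
        (by simp)
      exact this
    · apply le_antisymm
      · intro x hx
        haveI : Unique (Module.Free.ChooseBasisIndex R J) := { default := i, uniq := huniq }
        have h1 := b.sum_repr ⟨x, hx⟩
        rw [Fintype.sum_unique] at h1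
        have h2 : x = (b.repr ⟨x, hx⟩ i) * (b i : R) := by
          have := congrArg Subtype.val h1
          simp only [Submodule.coe_smul, smul_eq_mul] at this
          rw [huniq default] at this
          exact this.symm
        rw [h2]
        exact Ideal.mul_mem_left _ _ (Ideal.subset_span rfl)
      · rw [Ideal.span_le, Set.singleton_subset_iff]
        exact (b i).2

end FreeIdeal

section Local

theorem valuationRing_of_fg_ideals_flat (R : Type u) [CommRing R] [IsLocalRing R]
    (h : ∀ J : Ideal R, J.FG → Module.Flat R J) :
    ∃ _ : IsDomain R, ValuationRing R := by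
  have hcases : ∀ J : Ideal R, J.FG → J = ⊥ ∨ ∃ g : R, g ∈ nonZeroDivisors R ∧ J = Ideal.span {g} := by
    intro J hJ
    haveI := h J hJ
    haveI : Module.Finite R J := Module.Finite.iff_fg.mpr hJ
    haveI : Module.Free R J := Module.free_of_flat_of_isLocalRing
    exact free_ideal_cases J
  have hnzd : ∀ x : R, x ≠ 0 → x ∈ nonZeroDivisors R := by
    intro x hx
    rcases hcases (Ideal.span {x}) ⟨{x}, by simp⟩ with h0 | ⟨g, hg, hJ⟩
    · exfalso
      apply hx
      rw [Ideal.span_singleton_eq_bot] at h0
      exact h0
    · have hgx : g ∈ Ideal.span {x} := hJ ▸ Ideal.mem_span_singleton_self g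
      obtain ⟨d, hd⟩ := Ideal.mem_span_singleton'.mp hgx
      rw [mem_nonZeroDivisors_iff_right]
      intro z hz
      apply (mem_nonZeroDivisors_iff_right.mp hg) z
      rw [← hd, ← mul_assoc, mul_comm z d, mul_assoc, hz, mul_zero]
  haveI : NoZeroDivisors R := by
    constructor
    intro a b hab
    by_contra hne
    rw [not_or] at hne
    have := (mem_nonZeroDivisors_iff_right.mp (hnzd b hne.2)) a hab
    exact hne.1 this
  haveI : IsDomain R := NoZeroDivisors.to_isDomain R
  refine ⟨inferInstance, ?_⟩
  rw [ValuationRing.iff_local_bezout_domain]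
  refine ⟨inferInstance, ⟨fun {J} hJ => ?_⟩⟩
  rcases hcases J hJ with h0 | ⟨g, _, hJ'⟩
  · rw [h0]; exact bot_isPrincipal
  · rw [hJ']; exact ⟨⟨g, rfl⟩⟩

end Local

section Localize

variable (A : Type u) [CommRing A]

theorem exists_fg_map_eq (p : Ideal A) [p.IsPrime] (J : Ideal (Localization.AtPrime p))
    (hJ : J.FG) : ∃ I : Ideal A, I.FG ∧ I.map (algebraMap A (Localization.AtPrime p)) = J := by
  classical
  obtain ⟨s, rfl⟩ := hJ
  have hch : ∀ e : Localization.AtPrime p, ∃ at' : A × p.primeCompl,
      e * algebraMap A (Localization.AtPrime p) at'.2 = algebraMap A (Localization.AtPrime p) at'.1 :=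
    fun e => IsLocalization.surj p.primeCompl e
  choose f hf using hch
  refine ⟨Ideal.span ((s.image fun e => (f e).1 : Finset A) : Set A), ⟨_, rfl⟩, ?_⟩
  rw [Ideal.map_span]
  apply le_antisymm
  · rw [Ideal.span_le]
    rintro _ ⟨a, ha, rfl⟩
    rw [Finset.coe_image] at ha
    obtain ⟨e, he, rfl⟩ := ha
    rw [← hf e]
    exact Ideal.mul_mem_right _ _ (Ideal.subset_span he)
  · rw [Ideal.span_le]
    intro e he
    have hu : IsUnit (algebraMap A (Localization.AtPrime p) (f e).2) :=
      IsLocalization.map_units _ (f e).2
    obtain ⟨u, hu'⟩ := hu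
    have h1 : e = algebraMap A (Localization.AtPrime p) (f e).1 * ((u⁻¹ : (Localization.AtPrime p)ˣ) : _) := by
      rw [← hf e, ← hu', mul_assoc, Units.mul_inv, mul_one]
    rw [SetLike.mem_coe, h1]
    apply Ideal.mul_mem_right
    apply Ideal.subset_span
    refine ⟨(f e).1, ?_, rfl⟩
    rw [Finset.coe_image]
    exact ⟨e, he, rfl⟩

theorem fg_ideals_flat_localization (h : ∀ I : Ideal A, I.FG → Module.Flat A I) (p : Ideal A)
    [p.IsPrime] (J : Ideal (Localization.AtPrime p)) (hJ : J.FG) :
    Module.Flat (Localization.AtPrime p) J := by
  obtain ⟨I, hI, rfl⟩ := exists_fg_map_eq A p J hJ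
  haveI := h I hI
  rw [← Ideal.localized'_eq_map (Localization.AtPrime p) p.primeCompl I]
  exact Module.Flat.of_isLocalizedModule (Localization.AtPrime p) p.primeCompl
    (I.toLocalized' (Localization.AtPrime p) p.primeCompl (Algebra.linearMap A _))

end Localize

section Submodule

variable (A : Type u) [CommRing A]

theorem submodule_flat
    (h4 : ∀ (p : Ideal A) [p.IsPrime],
      ∃ _ : IsDomain (Localization.AtPrime p), ValuationRing (Localization.AtPrime p))
    (M : Type u) [AddCommGroup M] [Module A M] [Module.Flat A M] (N : Submodule A M) :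
    Module.Flat A N := by
  apply Module.flat_of_localized_maximal
  intro P hP
  obtain ⟨hdom, hval⟩ := h4 P
  rw [← Module.flat_iff_of_isLocalization (Localization P.primeCompl) P.primeCompl]
  haveI : IsDomain (Localization P.primeCompl) := hdom
  haveI : ValuationRing (Localization P.primeCompl) := hval
  rw [Module.Flat.flat_iff_torsion_eq_bot_of_isBezout,
    ← Submodule.isTorsionFree_iff_torsion_eq_bot]
  have hinj : Function.Injective (LocalizedModule.map P.primeCompl N.subtype) :=
    LocalizedModule.map_injective _ _ N.injective_subtype
  haveI : Module.Flat (Localization P.primeCompl) (LocalizedModule P.primeCompl M) := inferInstance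
  haveI : Module.IsTorsionFree (Localization P.primeCompl) (LocalizedModule P.primeCompl M) :=
    inferInstance
  exact Function.Injective.moduleIsTorsionFree _ hinj (fun r m => map_smul _ r m)

end Submodule

end Groth.Agent.R2.H10.IdealsFlat
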