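import Mathlib

/-!
# Group actions on a ring that are trivial on `B ⧸ m` and `m ⧸ m ^ 2`

General lemmas used for the structure of the wild inertia group.
-/

set_option autoImplicit false

namespace Groth.Agent.R2.H10.InertiaA

open scoped Pointwise

variable {B : Type*} [CommRing B] {G : Type*} [Group G] [MulSemiringAction G B] (m : Ideal B)

/-- The subgroup of elements acting trivially on `B ⧸ m` and on `m ⧸ m ^ 2`. -/
def cotInertia : Subgroup G where
  carrier := {σ | (∀ x : B, σ • x - x ∈ m) ∧ ∀ x ∈ m, σ • x - x ∈ m ^ 2}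
  one_mem' := by
    refine ⟨fun x => by simp, fun x _ => by simp⟩
  mul_mem' := by
    rintro σ τ ⟨hσ1, hσ2⟩ ⟨hτ1, hτ2⟩
    refine ⟨fun x => ?_, fun x hx => ?_⟩
    · have : (σ * τ) • x - x = (σ • (τ • x) - τ • x) + (τ • x - x) := by
        rw [mul_smul]; ring
      rw [this]
      exact m.add_mem (hσ1 _) (hτ1 _)
    · have hτx : τ • x ∈ m := by
        have h1 : τ • x - x ∈ m := hτ1 x
        have : τ • x = (τ • x - x) + x := by ring
        rw [this]
        exact m.add_mem h1 hx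
      have : (σ * τ) • x - x = (σ • (τ • x) - τ • x) + (τ • x - x) := by
        rw [mul_smul]; ring
      rw [this]
      exact (m ^ 2).add_mem (hσ2 _ hτx) (hτ2 _ hx)
  inv_mem' := by
    rintro σ ⟨hσ1, hσ2⟩
    have h1 : ∀ x : B, σ⁻¹ • x - x ∈ m := by
      intro x
      have := hσ1 (σ⁻¹ • x)
      rw [smul_inv_smul] at this
      have h2 : σ⁻¹ • x - x = -(x - σ⁻¹ • x) := by ring
      rw [h2]
      exact m.neg_mem this
    refine ⟨h1, fun x hx => ?_⟩
    have hy : σ⁻¹ • x ∈ m := by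
      have : σ⁻¹ • x = (σ⁻¹ • x - x) + x := by ring
      rw [this]
      exact m.add_mem (h1 x) hx
    have := hσ2 _ hy
    rw [smul_inv_smul] at this
    have h2 : σ⁻¹ • x - x = -(x - σ⁻¹ • x) := by ring
    rw [h2]
    exact (m ^ 2).neg_mem this

variable {m}

theorem mem_cotInertia {σ : G} :
    σ ∈ cotInertia (G := G) m ↔ (∀ x : B, σ • x - x ∈ m) ∧ ∀ x ∈ m, σ • x - x ∈ m ^ 2 := Iff.rfl

theorem cotInertia_le_inertia : cotInertia (G := G) m ≤ m.inertia G := fun _ h => h.1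

theorem inertia_sq_le_cotInertia : (m ^ 2).inertia G ≤ cotInertia (G := G) m := by
  intro σ hσ
  refine ⟨fun x => Ideal.pow_le_self two_ne_zero (hσ x), fun x _ => hσ x⟩

/-- An element of `cotInertia` moves `m ^ j` into `m ^ (j + 1)`. -/
theorem smul_sub_mem_pow_succ {σ : G} (hσ : σ ∈ cotInertia (G := G) m) (j : ℕ) :
    ∀ x ∈ m ^ j, σ • x - x ∈ m ^ (j + 1) := by
  induction j with
  | zero =>
    intro x _
    simpa using hσ.1 x
  | succ j ih =>
    intro x hx
    rw [pow_succ] at hx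
    refine Submodule.mul_induction_on hx ?_ ?_
    · intro a ha b hb
      have h1 : σ • a - a ∈ m ^ (j + 1) := ih a ha
      have h2 : σ • b - b ∈ m ^ 2 := hσ.2 b hb
      have hσa : σ • a ∈ m ^ j := by
        have : σ • a = (σ • a - a) + a := by ring
        rw [this]
        exact (m ^ j).add_mem (Ideal.pow_le_pow_right (Nat.le_succ j) h1) ha
      have : σ • (a * b) - a * b = σ • a * (σ • b - b) + b * (σ • a - a) := by
        rw [smul_mul']; ring
      rw [this]
      refine (m ^ (j + 1 + 1)).add_mem ?_ ?_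
      · have : m ^ (j + 1 + 1) = m ^ j * m ^ 2 := by rw [← pow_add]
        rw [this]
        exact Ideal.mul_mem_mul hσa h2
      · have : m ^ (j + 1 + 1) = m * m ^ (j + 1) := by rw [← pow_succ']
        rw [this]
        exact Ideal.mul_mem_mul hb h1
    · intro x y hx hy
      have : σ • (x + y) - (x + y) = (σ • x - x) + (σ • y - y) := by
        rw [smul_add]; ring
      rw [this]
      exact (m ^ (j + 1 + 1)).add_mem hx hy

/-- Telescoping: `∑_{i<ℓ} σ^i (σ x - x) = σ^ℓ x - x`. -/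
theorem sum_pow_smul_sub (σ : G) (x : B) (ℓ : ℕ) :
    ∑ i ∈ Finset.range ℓ, σ ^ i • (σ • x - x) = σ ^ ℓ • x - x := by
  have : ∀ i, σ ^ i • (σ • x - x) = σ ^ (i + 1) • x - σ ^ i • x := by
    intro i
    rw [smul_sub, ← mul_smul, ← pow_succ]
  simp_rw [this]
  rw [Finset.sum_range_sub (fun i => σ ^ i • x), pow_zero, one_smul]

/-- If `σ ∈ cotInertia` has `σ ^ ℓ = 1` with `ℓ` invertible modulo `m`, then `σ` acts trivially
modulo every power of `m`. -/
theorem smul_sub_mem_pow_of_pow_eq_one {σ : G} (hσ : σ ∈ cotInertia (G := G) m) (ℓ : ℕ)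
    (hℓ : σ ^ ℓ = 1) (c : B) (hc : c * (ℓ : B) - 1 ∈ m) (j : ℕ) :
    ∀ x : B, σ • x - x ∈ m ^ (j + 1) := by
  induction j with
  | zero =>
    intro x
    simpa using hσ.1 x
  | succ j ih =>
    intro x
    set t := σ • x - x with ht
    have htm : t ∈ m ^ (j + 1) := ih x
    have hsum : ∑ i ∈ Finset.range ℓ, σ ^ i • t = 0 := by
      rw [ht, sum_pow_smul_sub, hℓ, one_smul, sub_self]
    have hdiff : ∀ i, σ ^ i • t - t ∈ m ^ (j + 1 + 1) := fun i =>
      smul_sub_mem_pow_succ ((cotInertia m).pow_mem hσ i) (j + 1) t htm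
    have hℓt : (ℓ : B) * t ∈ m ^ (j + 1 + 1) := by
      have h1 : (ℓ : B) * t = - ∑ i ∈ Finset.range ℓ, (σ ^ i • t - t) := by
        rw [Finset.sum_sub_distrib, hsum, Finset.sum_const, Finset.card_range, nsmul_eq_mul]
        ring
      rw [h1]
      exact (m ^ (j + 1 + 1)).neg_mem ((m ^ (j + 1 + 1)).sum_mem fun i _ => hdiff i)
    have h2 : t = c * ((ℓ : B) * t) - (c * (ℓ : B) - 1) * t := by ring
    rw [h2]
    refine (m ^ (j + 1 + 1)).sub_mem (Ideal.mul_mem_left _ _ hℓt) ?_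
    have : m ^ (j + 1 + 1) = m * m ^ (j + 1) := by rw [← pow_succ']
    rw [this]
    exact Ideal.mul_mem_mul hc htm

/-- If moreover `⋂ m ^ j = ⊥`, such a `σ` acts trivially. -/
theorem smul_eq_of_pow_eq_one (hm : ⨅ j : ℕ, m ^ j = ⊥) {σ : G}
    (hσ : σ ∈ cotInertia (G := G) m) (ℓ : ℕ)
    (hℓ : σ ^ ℓ = 1) (c : B) (hc : c * (ℓ : B) - 1 ∈ m) (x : B) : σ • x = x := by
  have h : σ • x - x ∈ ⨅ j : ℕ, m ^ j := by
    rw [Ideal.mem_iInf]
    intro j
    exact Ideal.pow_le_pow_right (Nat.le_succ j)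
      (smul_sub_mem_pow_of_pow_eq_one hσ ℓ hℓ c hc j x)
  rw [hm] at h
  exact sub_eq_zero.mp h


section PGroup

variable [Finite G] [m.IsMaximal]

/-- A prime `q` that is the order of an element of `cotInertia` must vanish in `B ⧸ m`. -/
theorem natCast_mem_of_orderOf_eq (hm : ⨅ j : ℕ, m ^ j = ⊥)
    (hfaith : ∀ σ : G, (∀ x : B, σ • x = x) → σ = 1)
    {σ : G} (hσ : σ ∈ cotInertia (G := G) m) {q : ℕ} (hq : q.Prime) (hord : orderOf σ = q) :
    (q : B) ∈ m := by
  by_contra hqm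
  obtain ⟨c, hc⟩ := Ideal.Quotient.exists_inv (I := m)
    (a := Ideal.Quotient.mk m (q : B)) (by rwa [Ne, Ideal.Quotient.eq_zero_iff_mem])
  obtain ⟨c, rfl⟩ := Ideal.Quotient.mk_surjective c
  have hc' : c * (q : B) - 1 ∈ m := by
    rw [← Ideal.Quotient.eq_zero_iff_mem, map_sub, map_mul, map_one, mul_comm, hc, sub_self]
  have h1 : σ = 1 := hfaith σ fun x =>
    smul_eq_of_pow_eq_one hm hσ q (by rw [← hord]; exact pow_orderOf_eq_one σ) c hc' x
  rw [h1, orderOf_one] at hord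
  exact hq.one_lt.ne hord

/-- In residue characteristic `p`, a subgroup of `cotInertia` is a `p`-group. -/
theorem isPGroup_of_le_cotInertia (hm : ⨅ j : ℕ, m ^ j = ⊥)
    (hfaith : ∀ σ : G, (∀ x : B, σ • x = x) → σ = 1)
    (H : Subgroup G) (hH : H ≤ cotInertia (G := G) m) (p : ℕ) (hp : p.Prime)
    [CharP (B ⧸ m) p] : IsPGroup p H := by
  have hcard : ∀ {d : ℕ}, d.Prime → d ∣ Nat.card H → d = p := by
    intro d hd hdvd
    haveI := Fact.mk hd
    obtain ⟨h, hh⟩ := exists_prime_orderOf_dvd_card' d hdvd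
    have hord : orderOf (h : G) = d := by rw [Subgroup.orderOf_coe, hh]
    have hmem := natCast_mem_of_orderOf_eq hm hfaith (hH h.2) hd hord
    have h0 : ((d : ℕ) : B ⧸ m) = 0 := by
      have := Ideal.Quotient.eq_zero_iff_mem.mpr hmem
      simpa using this
    have hpd : p ∣ d := (CharP.cast_eq_zero_iff (B ⧸ m) p d).mp h0
    exact ((Nat.prime_dvd_prime_iff_eq hp hd).mp hpd).symm
  have hne : Nat.card H ≠ 0 := Nat.card_pos.ne'
  exact IsPGroup.of_card (Nat.eq_prime_pow_of_unique_prime_dvd hne hcard)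

/-- In residue characteristic zero, a subgroup of `cotInertia` is trivial. -/
theorem eq_bot_of_le_cotInertia (hm : ⨅ j : ℕ, m ^ j = ⊥)
    (hfaith : ∀ σ : G, (∀ x : B, σ • x = x) → σ = 1)
    (H : Subgroup G) (hH : H ≤ cotInertia (G := G) m) [CharZero (B ⧸ m)] : H = ⊥ := by
  rw [← Subgroup.card_eq_one]
  by_contra hne
  obtain ⟨d, hd, hdvd⟩ := Nat.exists_prime_and_dvd hne
  haveI := Fact.mk hd
  obtain ⟨h, hh⟩ := exists_prime_orderOf_dvd_card' d hdvd
  have hord : orderOf (h : G) = d := by rw [Subgroup.orderOf_coe, hh]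
  have hmem := natCast_mem_of_orderOf_eq hm hfaith (hH h.2) hd hord
  have h0 : ((d : ℕ) : B ⧸ m) = 0 := by
    have := Ideal.Quotient.eq_zero_iff_mem.mpr hmem
    simpa using this
  exact hd.ne_zero (Nat.cast_eq_zero.mp h0)

end PGroup

end Groth.Agent.R2.H10.InertiaA
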