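import Mathlib
import Groth.Agent.R2.H10InertiaA

/-!
# Separable residue field: `cotInertia m = (m ^ 2).inertia`
-/

set_option autoImplicit false

namespace Groth.Agent.R2.H10.InertiaB

open Groth.Agent.R2.H10.InertiaA Polynomial

variable {A B : Type*} [CommRing A] [CommRing B] [Algebra A B]
  {G : Type*} [Group G] [MulSemiringAction G B] (m : Ideal B) [m.IsMaximal]

/-- If `u ∉ m`, `t ∈ m` and `u * t ∈ m ^ 2` then `t ∈ m ^ 2`. -/
theorem mem_sq_of_mul_mem_sq {u t : B} (hu : u ∉ m) (ht : t ∈ m) (hut : u * t ∈ m ^ 2) :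
    t ∈ m ^ 2 := by
  obtain ⟨c, hc⟩ := Ideal.Quotient.exists_inv (I := m)
    (a := Ideal.Quotient.mk m u) (by rwa [Ne, Ideal.Quotient.eq_zero_iff_mem])
  obtain ⟨c, rfl⟩ := Ideal.Quotient.mk_surjective c
  have hc' : c * u - 1 ∈ m := by
    rw [← Ideal.Quotient.eq_zero_iff_mem, map_sub, map_mul, map_one, mul_comm, hc, sub_self]
  have h2 : t = c * (u * t) - (c * u - 1) * t := by ring
  rw [h2]
  refine (m ^ 2).sub_mem (Ideal.mul_mem_left _ _ hut) ?_
  rw [pow_two]
  exact Ideal.mul_mem_mul hc' ht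

/-- With separable residue field extension, elements acting trivially on `B ⧸ m` and `m ⧸ m ^ 2`
act trivially on `B ⧸ m ^ 2`. -/
theorem cotInertia_le_inertia_sq
    (hA : ∀ (σ : G) (a : A), σ • algebraMap A B a = algebraMap A B a)
    [Algebra.IsSeparable (A ⧸ m.comap (algebraMap A B)) (B ⧸ m)] :
    cotInertia (G := G) m ≤ (m ^ 2).inertia G := by
  intro σ hσ x
  change σ • x - x ∈ m ^ 2
  set p := m.comap (algebraMap A B) with hp
  set xb : B ⧸ m := Ideal.Quotient.mk m x with hxb
  have hsep : (minpoly (A ⧸ p) xb).Separable := Algebra.IsSeparable.isSeparable (A ⧸ p) xb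
  obtain ⟨P, hP⟩ := Polynomial.map_surjective (Ideal.Quotient.mk p) Ideal.Quotient.mk_surjective
    (minpoly (A ⧸ p) xb)
  set PB : B[X] := P.map (algebraMap A B) with hPB
  have hmap : PB.map (Ideal.Quotient.mk m) =
      (minpoly (A ⧸ p) xb).map (algebraMap (A ⧸ p) (B ⧸ m)) := by
    rw [hPB, ← hP, Polynomial.map_map, Polynomial.map_map]
    rfl
  have heval : Ideal.Quotient.mk m (PB.eval x) = 0 := by
    rw [← Polynomial.eval_map_apply, hmap, Polynomial.eval_map, ← Polynomial.aeval_def]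
    exact minpoly.aeval _ _
  have hder : Ideal.Quotient.mk m (PB.derivative.eval x) ≠ 0 := by
    rw [← Polynomial.eval_map_apply, ← Polynomial.derivative_map, hmap, Polynomial.derivative_map,
      Polynomial.eval_map, ← Polynomial.aeval_def]
    exact hsep.aeval_derivative_ne_zero (minpoly.aeval _ _)
  have hfix : σ • PB = PB := by
    rw [Polynomial.smul_eq_map, hPB, Polynomial.map_map]
    congr 1
    ext a
    exact hA σ a
  have hσeval : σ • PB.eval x = PB.eval (σ • x) := by
    rw [← Polynomial.smul_eval_smul, hfix]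
  obtain ⟨k, hk⟩ := Polynomial.binomExpansion PB x (σ • x - x)
  rw [add_sub_cancel] at hk
  have hPm : PB.eval x ∈ m := Ideal.Quotient.eq_zero_iff_mem.mp heval
  have hPnm : PB.derivative.eval x ∉ m := fun h => hder (Ideal.Quotient.eq_zero_iff_mem.mpr h)
  have ht : σ • x - x ∈ m := hσ.1 x
  refine mem_sq_of_mul_mem_sq m hPnm ht ?_
  have h1 : PB.derivative.eval x * (σ • x - x) =
      (σ • PB.eval x - PB.eval x) - k * (σ • x - x) ^ 2 := by
    rw [hσeval, hk]; ring
  rw [h1]
  refine (m ^ 2).sub_mem (hσ.2 _ hPm) (Ideal.mul_mem_left _ _ ?_)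
  exact Ideal.pow_mem_pow ht 2

theorem cotInertia_eq_inertia_sq
    (hA : ∀ (σ : G) (a : A), σ • algebraMap A B a = algebraMap A B a)
    [Algebra.IsSeparable (A ⧸ m.comap (algebraMap A B)) (B ⧸ m)] :
    cotInertia (G := G) m = (m ^ 2).inertia G :=
  le_antisymm (cotInertia_le_inertia_sq m hA) inertia_sq_le_cotInertia

end Groth.Agent.R2.H10.InertiaB
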