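import Mathlib
import Groth.Agent.R2.H10InertiaB

/-!
# The tame character `θ : I → (B ⧸ m)ˣ`
-/

set_option autoImplicit false

namespace Groth.Agent.R2.H10.InertiaC

open Groth.Agent.R2.H10.InertiaA Groth.Agent.R2.H10.InertiaB

variable {B : Type*} [CommRing B] {G : Type*} [Group G] [MulSemiringAction G B]
  (m : Ideal B) [m.IsMaximal]

/-- Data of a uniformizer at `m`: `π ∈ m ∖ m²` generating `m` modulo `m²`. -/
structure IsUnif (π : B) : Prop where
  mem : π ∈ m
  not_mem_sq : π ∉ m ^ 2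
  gen : ∀ x ∈ m, ∃ b : B, x - b * π ∈ m ^ 2

variable {m}

/-- elements of the inertia group preserve `m` -/
theorem smul_mem_of_mem_inertia {σ : G} (hσ : σ ∈ m.inertia G) {x : B} (hx : x ∈ m) :
    σ • x ∈ m := by
  have : σ • x = (σ • x - x) + x := by ring
  rw [this]
  exact m.add_mem (hσ x) hx

/-- elements of the inertia group preserve `m ^ 2` -/
theorem smul_sub_mem_sq_of_mem_inertia {σ : G} (hσ : σ ∈ m.inertia G) {y : B} (hy : y ∈ m ^ 2) :
    σ • y - y ∈ m ^ 2 := by
  rw [pow_two] at hy ⊢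
  refine Submodule.mul_induction_on hy ?_ ?_
  · intro a ha b hb
    have : σ • (a * b) - a * b = σ • a * (σ • b - b) + b * (σ • a - a) := by
      rw [smul_mul']; ring
    rw [this]
    exact (m * m).add_mem (Ideal.mul_mem_mul (smul_mem_of_mem_inertia hσ ha) (hσ b))
      (Ideal.mul_mem_mul hb (hσ a))
  · intro x y hx hy
    have : σ • (x + y) - (x + y) = (σ • x - x) + (σ • y - y) := by
      rw [smul_add]; ring
    rw [this]
    exact (m * m).add_mem hx hy

theorem smul_mem_sq_of_mem_inertia {σ : G} (hσ : σ ∈ m.inertia G) {y : B} (hy : y ∈ m ^ 2) :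
    σ • y ∈ m ^ 2 := by
  have : σ • y = (σ • y - y) + y := by ring
  rw [this]
  exact (m ^ 2).add_mem (smul_sub_mem_sq_of_mem_inertia hσ hy) hy

section Unif

variable {π : B} (hπ : IsUnif m π)
include hπ

/-- existence of the multiplier -/
theorem exists_mul {σ : G} (hσ : σ ∈ m.inertia G) : ∃ c : B, σ • π - c * π ∈ m ^ 2 :=
  hπ.gen _ (smul_mem_of_mem_inertia hσ hπ.mem)

/-- uniqueness of the multiplier modulo `m` -/
theorem mul_unique {y c c' : B} (h : y - c * π ∈ m ^ 2) (h' : y - c' * π ∈ m ^ 2) :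
    c - c' ∈ m := by
  by_contra hcc
  have h1 : (c - c') * π ∈ m ^ 2 := by
    have : (c - c') * π = (y - c' * π) - (y - c * π) := by ring
    rw [this]
    exact (m ^ 2).sub_mem h' h
  exact hπ.not_mem_sq (mem_sq_of_mul_mem_sq m hcc hπ.mem h1)

/-- multiplicativity of the multiplier -/
theorem mul_mul {σ τ : G} (hσ : σ ∈ m.inertia G) (hτ : τ ∈ m.inertia G) {c d : B}
    (hc : σ • π - c * π ∈ m ^ 2) (hd : τ • π - d * π ∈ m ^ 2) :
    (σ * τ) • π - (c * d) * π ∈ m ^ 2 := by
  have h1 : σ • (τ • π - d * π) ∈ m ^ 2 := smul_mem_sq_of_mem_inertia hσ hd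
  have h2 : (σ • d - d) * (σ • π) ∈ m ^ 2 := by
    rw [pow_two]
    exact Ideal.mul_mem_mul (hσ d) (smul_mem_of_mem_inertia hσ hπ.mem)
  have : (σ * τ) • π - (c * d) * π =
      σ • (τ • π - d * π) + (σ • d - d) * (σ • π) + d * (σ • π - c * π) := by
    rw [mul_smul, smul_sub, smul_mul']; ring
  rw [this]
  exact (m ^ 2).add_mem ((m ^ 2).add_mem h1 h2) (Ideal.mul_mem_left _ _ hc)

/-- A chosen multiplier. -/
noncomputable def mult (σ : m.inertia G) : B := (exists_mul hπ σ.2).choose

theorem mult_spec (σ : m.inertia G) : (σ : G) • π - mult hπ σ * π ∈ m ^ 2 :=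
  (exists_mul hπ σ.2).choose_spec

/-- The tame character with values in `B ⧸ m`. -/
noncomputable def theta₀ : m.inertia G →* B ⧸ m where
  toFun σ := Ideal.Quotient.mk m (mult hπ σ)
  map_one' := by
    rw [← map_one (Ideal.Quotient.mk m), Ideal.Quotient.eq]
    refine mul_unique hπ (y := π) ?_ ?_
    · have := mult_spec hπ (1 : m.inertia G)
      simpa using this
    · simp
  map_mul' σ τ := by
    rw [← map_mul, Ideal.Quotient.eq]
    refine mul_unique hπ (y := ((σ * τ : m.inertia G) : G) • π) (mult_spec hπ (σ * τ)) ?_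
    exact mul_mul hπ σ.2 τ.2 (mult_spec hπ σ) (mult_spec hπ τ)

/-- The tame character with values in the units of the residue field. -/
noncomputable def theta : m.inertia G →* (B ⧸ m)ˣ := (theta₀ hπ).toHomUnits

theorem coe_theta (σ : m.inertia G) :
    ((theta hπ σ : (B ⧸ m)ˣ) : B ⧸ m) = Ideal.Quotient.mk m (mult hπ σ) := rfl

theorem theta_eq_one_iff (σ : m.inertia G) :
    theta hπ σ = 1 ↔ (σ : G) • π - π ∈ m ^ 2 := by
  rw [Units.ext_iff, coe_theta, Units.val_one, ← map_one (Ideal.Quotient.mk m), Ideal.Quotient.eq]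
  constructor
  · intro h
    have : (σ : G) • π - π = ((σ : G) • π - mult hπ σ * π) + (mult hπ σ - 1) * π := by ring
    rw [this]
    refine (m ^ 2).add_mem (mult_spec hπ σ) ?_
    rw [pow_two]
    exact Ideal.mul_mem_mul h hπ.mem
  · intro h
    exact mul_unique hπ (mult_spec hπ σ) (by simpa using h)

/-- The kernel of the tame character is `cotInertia`. -/
theorem mem_ker_theta_iff (σ : m.inertia G) :
    σ ∈ (theta hπ).ker ↔ (σ : G) ∈ cotInertia (G := G) m := by
  rw [MonoidHom.mem_ker, theta_eq_one_iff]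
  constructor
  · intro h
    refine ⟨σ.2, fun x hx => ?_⟩
    obtain ⟨b, hb⟩ := hπ.gen x hx
    have h1 : (σ : G) • (x - b * π) - (x - b * π) ∈ m ^ 2 :=
      smul_sub_mem_sq_of_mem_inertia σ.2 hb
    have h2 : ((σ : G) • b - b) * ((σ : G) • π) ∈ m ^ 2 := by
      rw [pow_two]
      exact Ideal.mul_mem_mul (σ.2 b) (smul_mem_of_mem_inertia σ.2 hπ.mem)
    have : (σ : G) • x - x = ((σ : G) • (x - b * π) - (x - b * π)) +
        ((σ : G) • b - b) * ((σ : G) • π) + b * ((σ : G) • π - π) := by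
      rw [smul_sub, smul_mul']; ring
    rw [this]
    exact (m ^ 2).add_mem ((m ^ 2).add_mem h1 h2) (Ideal.mul_mem_left _ _ h)
  · intro h
    exact h.2 π hπ.mem

theorem ker_theta : (theta hπ).ker = (cotInertia (G := G) m).subgroupOf (m.inertia G) := by
  ext σ
  rw [mem_ker_theta_iff, Subgroup.mem_subgroupOf]

end Unif

end Groth.Agent.R2.H10.InertiaC
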