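import Mathlib

/-!
# Finite groups with a character to the units of a field whose kernel is a `p`-group
-/

set_option autoImplicit false

namespace Groth.Agent.R2.H10.InertiaD

variable {I : Type*} [Group I] [Finite I] {k : Type*} [Field k] (θ : I →* kˣ)

instance finite_range : Finite θ.range :=
  Finite.of_surjective θ.rangeRestrict θ.rangeRestrict_surjective

theorem card_eq_card_ker_mul_card_range : Nat.card I = Nat.card θ.ker * Nat.card θ.range := by
  rw [← Subgroup.index_ker, Subgroup.card_mul_index]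

/-- In characteristic `p` a `p`-power root of unity is trivial. -/
theorem eq_one_of_pow_char_pow_eq_one (p : ℕ) [Fact p.Prime] [CharP k p] (x : kˣ) (n : ℕ)
    (h : x ^ p ^ n = 1) : x = 1 := by
  have h1 : ((x : k) - 1) ^ p ^ n = 0 := by
    rw [sub_pow_char_pow, one_pow, ← Units.val_pow_eq_pow_val, h, Units.val_one, sub_self]
  have h2 : (x : k) - 1 = 0 := pow_eq_zero_iff (pow_ne_zero _ (Fact.out : p.Prime).ne_zero) |>.mp h1
  exact Units.ext (sub_eq_zero.mp h2)

/-- In characteristic `p`, a finite subgroup of the units has order prime to `p`. -/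
theorem not_dvd_card_of_charP (p : ℕ) [Fact p.Prime] [CharP k p] (H : Subgroup kˣ) [Finite H] :
    ¬ p ∣ Nat.card H := by
  intro hdvd
  obtain ⟨h, hh⟩ := exists_prime_orderOf_dvd_card' p hdvd
  have h1 : (h : kˣ) ^ p ^ 1 = 1 := by
    rw [pow_one, ← Subgroup.orderOf_coe] at *
    rw [← hh]
    exact pow_orderOf_eq_one _
  have h2 := eq_one_of_pow_char_pow_eq_one p (h : kˣ) 1 h1
  have h3 : h = 1 := Subtype.ext h2
  rw [h3, orderOf_one] at hh
  exact (Fact.out : p.Prime).one_lt.ne hh

theorem range_le_rootsOfUnity (e : ℕ) (he : Nat.card I = e) : θ.range ≤ rootsOfUnity e k := by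
  rintro _ ⟨σ, rfl⟩
  rw [mem_rootsOfUnity, ← map_pow, ← he, pow_card_eq_one', map_one]

/-- Characteristic `p` case. -/
theorem card_range_of_charP (e : ℕ) (he : Nat.card I = e) (p : ℕ) (hp : p.Prime) [CharP k p]
    (hker : IsPGroup p θ.ker) :
    Nat.card θ.range = e / p ^ e.factorization p ∧ θ.range = rootsOfUnity e k := by
  haveI := Fact.mk hp
  obtain ⟨a, ha⟩ := hker.exists_card_eq
  have hndvd : ¬ p ∣ Nat.card θ.range := not_dvd_card_of_charP p θ.range
  have hmul := card_eq_card_ker_mul_card_range θ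
  rw [he, ha] at hmul
  set r := Nat.card θ.range with hr
  have hr0 : r ≠ 0 := Nat.card_pos.ne'
  have hfac : e.factorization p = a := by
    rw [hmul, Nat.factorization_mul (pow_ne_zero _ hp.ne_zero) hr0, Finsupp.add_apply,
      hp.factorization_pow, Finsupp.single_eq_same, Nat.factorization_eq_zero_of_not_dvd hndvd,
      add_zero]
  have hcard : r = e / p ^ e.factorization p := by
    rw [hfac, hmul, Nat.mul_div_cancel_left _ (pow_pos hp.pos a)]
  refine ⟨hcard, ?_⟩
  have hle : θ.range ≤ rootsOfUnity e k := range_le_rootsOfUnity θ e he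
  have hle2 : rootsOfUnity e k ≤ rootsOfUnity r k := by
    intro x hx
    rw [mem_rootsOfUnity] at hx ⊢
    apply eq_one_of_pow_char_pow_eq_one p (x ^ r) a
    rw [← pow_mul, mul_comm, ← hmul, hx]
  haveI : NeZero r := ⟨hr0⟩
  have hcard2 : Nat.card (rootsOfUnity e k) ≤ Nat.card θ.range := by
    calc Nat.card (rootsOfUnity e k) ≤ Nat.card (rootsOfUnity r k) :=
          Subgroup.card_le_of_le hle2
      _ ≤ r := card_rootsOfUnity k r
  haveI : NeZero e := ⟨by rw [← he]; exact Nat.card_pos.ne'⟩
  exact Subgroup.eq_of_le_of_card_ge hle hcard2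

/-- Characteristic zero case. -/
theorem card_range_of_charZero (e : ℕ) (he : Nat.card I = e) (hker : θ.ker = ⊥) :
    Nat.card θ.range = e ∧ θ.range = rootsOfUnity e k := by
  have hmul := card_eq_card_ker_mul_card_range θ
  rw [he, hker, Subgroup.card_bot, one_mul] at hmul
  refine ⟨hmul.symm, ?_⟩
  haveI : NeZero e := ⟨by rw [← he]; exact Nat.card_pos.ne'⟩
  refine Subgroup.eq_of_le_of_card_ge (range_le_rootsOfUnity θ e he) ?_
  rw [← hmul]
  exact card_rootsOfUnity k e

end Groth.Agent.R2.H10.InertiaD
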