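import Mathlib
import Groth.Agent.R2.H10InertiaC
import Groth.Agent.R2.H10InertiaD
import Groth.Agent.R2.H10InertiaE

/-!
# The AKLB setting for a discrete valuation ring
-/

set_option autoImplicit false
set_option linter.unusedSectionVars false
universe u

namespace Groth.Agent.R2.H10.InertiaF

open scoped Pointwise
open Groth.Agent.R2.H10.InertiaA Groth.Agent.R2.H10.InertiaB Groth.Agent.R2.H10.InertiaC
  Groth.Agent.R2.H10.InertiaD Groth.Agent.R2.H10.InertiaE

/-- existence of a uniformizer at a nonzero maximal ideal of a Dedekind domain -/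
theorem exists_isUnif {B : Type*} [CommRing B] [IsDedekindDomain B] (m : Ideal B) [m.IsMaximal]
    (hm : m ≠ ⊥) : ∃ π : B, IsUnif m π := by
  have hlt : m ^ (1 + 1) < m ^ 1 := Ideal.pow_succ_lt_pow hm 1
  obtain ⟨π, hπ1, hπ2⟩ := SetLike.exists_of_lt hlt
  rw [pow_one] at hπ1
  refine ⟨π, hπ1, hπ2, fun x hx => ?_⟩
  obtain ⟨d, e, he, hde⟩ := Ideal.exists_mul_add_mem_pow_succ hm (i := 1) π x
    (by rwa [pow_one]) hπ2 (by rwa [pow_one])
  refine ⟨d, ?_⟩
  have : x - d * π = e := by rw [← hde]; ring
  rw [this]
  exact he

section AKLB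

variable (A K L B : Type u) [CommRing A] [IsDomain A] [IsDiscreteValuationRing A]
    [CommRing B] [IsDomain B] [Field K] [Field L] [Algebra A K] [Algebra B L] [IsFractionRing A K]
    [IsFractionRing B L]
    [Algebra A B] [Algebra K L] [Algebra A L] [IsScalarTower A K L] [IsScalarTower A B L]
    [IsIntegralClosure B A L]
    [FiniteDimensional K L] [IsGalois K L] (m : Ideal B) [m.IsMaximal]

include A K L in
theorem isDedekindDomain : IsDedekindDomain B := IsIntegralClosure.isDedekindDomain A K L B

include K L in
theorem moduleFinite : Module.Finite A B := IsIntegralClosure.finite A K L B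

include K L in
theorem algebraMap_injective : Function.Injective (algebraMap A B) := by
  have h1 : Function.Injective (algebraMap A L) := by
    rw [IsScalarTower.algebraMap_eq A K L]
    exact (algebraMap K L).injective.comp (IsFractionRing.injective A K)
  rw [IsScalarTower.algebraMap_eq A B L] at h1
  exact Function.Injective.of_comp h1

/-- the Galois action is faithful on `B` -/
theorem faithful :
    letI := IsIntegralClosure.MulSemiringAction A K L B
    ∀ σ : L ≃ₐ[K] L, (∀ x : B, σ • x = x) → σ = 1 := by
  letI := IsIntegralClosure.MulSemiringAction A K L B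
  intro σ hσ
  ext y
  obtain ⟨a, b, hb, rfl⟩ := IsFractionRing.div_surjective (A := B) y
  have h1 : ∀ x : B, σ (algebraMap B L x) = algebraMap B L x := by
    intro x
    have := algebraMap_galRestrict_apply A σ x
    rw [← this]
    exact congrArg (algebraMap B L) (hσ x)
  rw [map_div₀, h1, h1]
  rfl

/-- the Galois action fixes `A` -/
theorem smul_algebraMap' :
    letI := IsIntegralClosure.MulSemiringAction A K L B
    ∀ (σ : L ≃ₐ[K] L) (a : A), σ • algebraMap A B a = algebraMap A B a := by
  letI := IsIntegralClosure.MulSemiringAction A K L B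
  intro σ a
  exact (galRestrict A K L B σ).commutes a

include K L in
theorem comap_eq_maximalIdeal : m.comap (algebraMap A B) = IsLocalRing.maximalIdeal A := by
  have : Algebra.IsIntegral A B := IsIntegralClosure.isIntegral_algebra A L
  have : (m.comap (algebraMap A B)).IsMaximal :=
    Ideal.isMaximal_comap_of_isIntegral_of_isMaximal m
  exact IsLocalRing.eq_maximalIdeal this

include A K L in
theorem ne_bot : m ≠ ⊥ := by
  intro h
  have h1 := comap_eq_maximalIdeal A K L B m
  rw [h, ← RingHom.ker_eq_comap_bot,
    (RingHom.injective_iff_ker_eq_bot _).mp (algebraMap_injective A K L B)] at h1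
  exact IsDiscreteValuationRing.not_a_field A h1.symm

theorem iInf_pow_eq_bot [IsDedekindDomain B] : ⨅ j : ℕ, m ^ j = ⊥ :=
  Ideal.iInf_pow_eq_bot_of_isDomain m (Ideal.IsMaximal.ne_top inferInstance)

end AKLB

end Groth.Agent.R2.H10.InertiaF
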