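import Mathlib
import Groth.Agent.R2.H10InertiaF

/-!
# Structure of inertia, wild inertia and tame quotient: the main theorem
-/

set_option autoImplicit false
set_option linter.unusedSectionVars false
set_option linter.style.haveILetI false
universe u

namespace Groth.Agent.R2.H10.InertiaG

open scoped Pointwise
open Groth.Agent.R2.H10.InertiaA Groth.Agent.R2.H10.InertiaB Groth.Agent.R2.H10.InertiaC
  Groth.Agent.R2.H10.InertiaD Groth.Agent.R2.H10.InertiaE Groth.Agent.R2.H10.InertiaF

/-- elements of the stabilizer of `m` preserve `m ^ 2` -/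
theorem smul_mem_sq_of_mem_stabilizer {B : Type*} [CommRing B] {G : Type*} [Group G]
    [MulSemiringAction G B] (m : Ideal B) {n : G} (hn : n ∈ MulAction.stabilizer G m) {x : B}
    (hx : x ∈ m ^ 2) : n • x ∈ m ^ 2 := by
  have h1 : n • x ∈ n • (m ^ 2) := Ideal.smul_mem_pointwise_smul n x _ hx
  have h2 : n • (m ^ 2) = (n • m) ^ 2 := by
    rw [Ideal.pointwise_smul_def, Ideal.pointwise_smul_def, Ideal.map_pow]
  rw [h2, MulAction.mem_stabilizer_iff.mp hn] at h1
  exact h1

/-- `D ⊓ (m²).inertia` is normal in `D`. -/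
theorem normal_inf_inertia_sq {B : Type*} [CommRing B] {G : Type*} [Group G]
    [MulSemiringAction G B] (m : Ideal B) :
    ((MulAction.stabilizer G m ⊓ (m ^ 2).inertia G).subgroupOf (MulAction.stabilizer G m)).Normal := by
  refine (Subgroup.normal_subgroupOf_iff inf_le_left).mpr fun h n hh hn => ?_
  refine ⟨(MulAction.stabilizer G m).mul_mem ((MulAction.stabilizer G m).mul_mem hn hh.1)
    ((MulAction.stabilizer G m).inv_mem hn), fun x => ?_⟩
  change (n * h * n⁻¹) • x - x ∈ m ^ 2
  have h1 : h • (n⁻¹ • x) - n⁻¹ • x ∈ m ^ 2 := hh.2 (n⁻¹ • x)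
  have h2 := smul_mem_sq_of_mem_stabilizer m hn h1
  have : (n * h * n⁻¹) • x - x = n • (h • (n⁻¹ • x) - n⁻¹ • x) := by
    rw [smul_sub, smul_inv_smul, mul_smul, mul_smul]
  rw [this]
  exact h2


theorem main (A K L B : Type u) [CommRing A] [IsDomain A] [IsDiscreteValuationRing A]
    [CommRing B] [IsDomain B] [Field K] [Field L] [Algebra A K] [Algebra B L] [IsFractionRing A K] [IsFractionRing B L]
    [Algebra A B] [Algebra K L] [Algebra A L] [IsScalarTower A K L] [IsScalarTower A B L] [IsIntegralClosure B A L]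
    [FiniteDimensional K L] [IsGalois K L] (m : Ideal B) [m.IsMaximal]
    [Algebra.IsSeparable (A ⧸ m.comap (algebraMap A B)) (B ⧸ m)] :
    letI := IsIntegralClosure.MulSemiringAction A K L B
    let D : Subgroup (L ≃ₐ[K] L) := MulAction.stabilizer (L ≃ₐ[K] L) m
    let I : Subgroup (L ≃ₐ[K] L) := m.inertia (L ≃ₐ[K] L)
    let P : Subgroup (L ≃ₐ[K] L) := D ⊓ (m ^ 2).inertia (L ≃ₐ[K] L)
    let e : ℕ := Ideal.ramificationIdx' (IsLocalRing.maximalIdeal A) m
    P ≤ I ∧ I ≤ D ∧ (P.subgroupOf D).Normal ∧
    (∀ p : ℕ, p.Prime → CharP (A ⧸ m.comap (algebraMap A B)) p → IsPGroup p P) ∧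
    (CharZero (A ⧸ m.comap (algebraMap A B)) → P = ⊥) ∧
    (∀ [(P.subgroupOf I).Normal],
      IsCyclic (I ⧸ P.subgroupOf I) ∧
      (∀ p : ℕ, p.Prime → CharP (A ⧸ m.comap (algebraMap A B)) p → Nat.card (I ⧸ P.subgroupOf I) = e / p ^ e.factorization p) ∧
      (CharZero (A ⧸ m.comap (algebraMap A B)) → Nat.card (I ⧸ P.subgroupOf I) = e) ∧
      Nonempty (I ⧸ P.subgroupOf I ≃* ↥(rootsOfUnity e (B ⧸ m)))) := by
  letI := IsIntegralClosure.MulSemiringAction A K L B
  intro D I P e
  haveI : IsDedekindDomain B := isDedekindDomain A K L B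
  haveI : Module.Finite A B := moduleFinite A K L B
  haveI : IsGaloisGroup (L ≃ₐ[K] L) A B := IsGaloisGroup.of_isFractionRing _ _ _ K L
  have hfaith := faithful A K L B
  have hA := smul_algebraMap' A K L B
  have hm : ⨅ j : ℕ, m ^ j = ⊥ := iInf_pow_eq_bot B m
  have hID : I ≤ D := Ideal.inertia_le_stabilizer m
  have hsqI : (m ^ 2).inertia (L ≃ₐ[K] L) ≤ I := fun σ hσ x =>
    Ideal.pow_le_self two_ne_zero (hσ x)
  have hPeq : P = cotInertia (G := L ≃ₐ[K] L) m := by
    rw [cotInertia_eq_inertia_sq m hA]
    exact inf_eq_right.mpr (hsqI.trans hID)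
  have hPI : P ≤ I := inf_le_right.trans hsqI
  refine ⟨hPI, hID, normal_inf_inertia_sq m, ?_, ?_, ?_⟩
  · intro p hp hchar
    haveI : CharP (B ⧸ m) p :=
      charP_of_injective_algebraMap (Ideal.algebraMap_quotient_injective (I := m) (R := A)) p
    rw [hPeq]
    exact isPGroup_of_le_cotInertia hm hfaith _ le_rfl p hp
  · intro hchar
    haveI : CharZero (B ⧸ m) :=
      charZero_of_injective_algebraMap (Ideal.algebraMap_quotient_injective (I := m) (R := A))
    rw [hPeq]
    exact eq_bot_of_le_cotInertia hm hfaith _ le_rfl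
  · intro hN
    letI : Field (B ⧸ m) := Ideal.Quotient.field m
    obtain ⟨π, hπ⟩ := exists_isUnif m (ne_bot A K L B m)
    let θ : I →* (B ⧸ m)ˣ := theta hπ
    have hker : θ.ker = P.subgroupOf I := by
      rw [hPeq]
      exact ker_theta hπ
    -- the order of the inertia group
    have hcard : Nat.card I = e := by
      haveI : FaithfulSMul A B :=
        (faithfulSMul_iff_algebraMap_injective A B).mpr (algebraMap_injective A K L B)
      haveI : Module.IsTorsionFree A B := inferInstance
      haveI : Module.Flat A B := inferInstance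
      haveI hlo : m.LiesOver (m.comap (algebraMap A B)) := ⟨rfl⟩
      haveI : (m.comap (algebraMap A B)).IsMaximal := by
        rw [comap_eq_maximalIdeal A K L B m]; infer_instance
      have h1 := card_inertia_eq_ramificationIdxIn' (G := L ≃ₐ[K] L)
        (m.comap (algebraMap A B)) m
      rw [Ideal.ramificationIdxIn_eq_ramificationIdx (m.comap (algebraMap A B)) m
        (L ≃ₐ[K] L)] at h1
      rw [h1]
      haveI : m.LiesOver (IsLocalRing.maximalIdeal A) :=
        ⟨(comap_eq_maximalIdeal A K L B m).symm⟩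
      exact (Ideal.ramificationIdx'_eq_ramificationIdx (IsLocalRing.maximalIdeal A) m
        (IsDiscreteValuationRing.not_a_field A)).symm
    let eq1 : I ⧸ P.subgroupOf I ≃* θ.range :=
      (QuotientGroup.quotientMulEquivOfEq hker.symm).trans (QuotientGroup.quotientKerEquivRange θ)
    have hcardq : Nat.card (I ⧸ P.subgroupOf I) = Nat.card θ.range := Nat.card_congr eq1.toEquiv
    have hpg : ∀ p : ℕ, IsPGroup p P → IsPGroup p θ.ker := by
      intro p hP
      rw [hker]
      exact hP.comap_subtype
    refine ⟨?_, ?_, ?_, ?_⟩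
    · haveI : IsCyclic θ.range := inferInstance
      exact isCyclic_of_surjective eq1.symm eq1.symm.surjective
    · intro p hp hchar
      haveI : CharP (B ⧸ m) p :=
        charP_of_injective_algebraMap (Ideal.algebraMap_quotient_injective (I := m) (R := A)) p
      have hP : IsPGroup p P := by
        rw [hPeq]
        exact isPGroup_of_le_cotInertia hm hfaith _ le_rfl p hp
      rw [hcardq]
      exact (card_range_of_charP θ e hcard p hp (hpg p hP)).1
    · intro hchar
      haveI : CharZero (B ⧸ m) :=
        charZero_of_injective_algebraMap (Ideal.algebraMap_quotient_injective (I := m) (R := A))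
      have hP : P = ⊥ := by
        rw [hPeq]
        exact eq_bot_of_le_cotInertia hm hfaith _ le_rfl
      have hk : θ.ker = ⊥ := by
        rw [hker, hP, Subgroup.bot_subgroupOf]
      rw [hcardq]
      exact (card_range_of_charZero θ e hcard hk).1
    · have hrange : θ.range = rootsOfUnity e (B ⧸ m) := by
        obtain ⟨q, hq⟩ := CharP.exists (B ⧸ m)
        rcases CharP.char_is_prime_or_zero (B ⧸ m) q with hq' | hq'
        · have hP : IsPGroup q P := by
            rw [hPeq]
            exact isPGroup_of_le_cotInertia hm hfaith _ le_rfl q hq'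
          exact (card_range_of_charP θ e hcard q hq' (hpg q hP)).2
        · subst hq'
          haveI : CharZero (B ⧸ m) := CharP.charP_to_charZero (B ⧸ m)
          have hP : P = ⊥ := by
            rw [hPeq]
            exact eq_bot_of_le_cotInertia hm hfaith _ le_rfl
          have hk : θ.ker = ⊥ := by
            rw [hker, hP, Subgroup.bot_subgroupOf]
          exact (card_range_of_charZero θ e hcard hk).2
      exact ⟨eq1.trans (MulEquiv.subgroupCongr hrange)⟩

end Groth.Agent.R2.H10.InertiaG
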