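import Mathlib
import Groth.Prelude.Def_CAlg

/-!
# Pieces for Kollár's tetrachotomy for Noetherian local rings
-/

set_option autoImplicit false
set_option linter.style.haveILetI false
set_option linter.unusedSectionVars false
universe u

namespace Groth.Agent.R2.H10.KollarA

open IsLocalRing

variable {R : Type u} [CommRing R] [IsLocalRing R] [IsNoetherianRing R]

/-- If no element of the maximal ideal is regular on the finite nonzero module `M`, some nonzero
element of `M` is killed by the maximal ideal. -/
theorem exists_ne_zero_killed (M : Type u) [AddCommGroup M] [Module R M] [Module.Finite R M]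
    (h : ∀ t ∈ maximalIdeal R, ¬ IsSMulRegular M t) :
    ∃ y : M, y ≠ 0 ∧ ∀ a ∈ maximalIdeal R, a • y = 0 := by
  classical
  have hfin : (associatedPrimes R M).Finite := associatedPrimes.finite R M
  have hsub : ((maximalIdeal R : Ideal R) : Set R) ⊆ ⋃ p ∈ (hfin.toFinset : Set (Ideal R)), (p : Set R) := by
    intro t ht
    have h1 : t ∈ { r : R | IsSMulRegular M r }ᶜ := h t ht
    rw [← biUnion_associatedPrimes_eq_compl_regular R M] at h1
    simpa using h1
  rw [Ideal.subset_union_prime (f := fun p : Ideal R => p) (maximalIdeal R) (maximalIdeal R)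
    (fun p hp _ _ => by
      have : p ∈ associatedPrimes R M := by simpa using hp
      exact this.isPrime)] at hsub
  obtain ⟨p, hp, hle⟩ := hsub
  have hp' : p ∈ associatedPrimes R M := by simpa using hp
  have hpp : p.IsPrime := hp'.isPrime
  have hpm : p = maximalIdeal R :=
    ((maximalIdeal.isMaximal R).eq_of_le hpp.ne_top hle).symm
  obtain ⟨_, y, hy⟩ := (isAssociatedPrime_iff.mp hp')
  refine ⟨y, ?_, fun a ha => ?_⟩
  · rintro rfl
    have : (1 : R) ∈ p := by
      rw [hy, Submodule.mem_colon_singleton, smul_zero]
      exact Submodule.zero_mem _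
    exact hpp.ne_top ((Ideal.eq_top_iff_one _).mpr this)
  · have : a ∈ p := hpm ▸ ha
    rw [hy, Submodule.mem_colon_singleton, Submodule.mem_bot] at this
    exact this

/-- Weakly regular sequences in the maximal ideal have length at most one when the depth is at
most one. -/
theorem length_le_one_of_depth (h3 : LocCoh.depth R R ≤ 1) (rs : List R)
    (hrs : RingTheory.Sequence.IsWeaklyRegular R rs) (hmem : ∀ r ∈ rs, r ∈ maximalIdeal R) :
    rs.length ≤ 1 := by
  unfold LocCoh.depth LocCoh.idealDepth at h3
  have hne : ¬ (maximalIdeal R • (⊤ : Submodule R R) = ⊤) := by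
    have : maximalIdeal R • (⊤ : Submodule R R) = maximalIdeal R := by
      show maximalIdeal R • (⊤ : Ideal R) = maximalIdeal R
      rw [Ideal.smul_eq_mul, Ideal.mul_top]
    rw [this]
    exact (maximalIdeal.isMaximal R).ne_top
  rw [if_neg hne] at h3
  have := le_trans (le_iSup₂ (f := fun (rs : List R)
    (_ : RingTheory.Sequence.IsWeaklyRegular R rs ∧ ∀ r ∈ rs, r ∈ maximalIdeal R) =>
      (rs.length : ℕ∞)) rs ⟨hrs, hmem⟩) h3
  exact_mod_cast this

/-- The annihilator chain of powers of the maximal ideal. -/
def killedChain (R : Type u) [CommRing R] [IsLocalRing R] : ℕ →o Ideal R where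
  toFun n :=
    { carrier := {x | ∀ a ∈ maximalIdeal R ^ n, a * x = 0}
      zero_mem' := fun a _ => mul_zero a
      add_mem' := by
        intro x y hx hy a ha
        rw [mul_add, hx a ha, hy a ha, add_zero]
      smul_mem' := by
        intro c x hx a ha
        rw [smul_eq_mul, mul_left_comm, hx a ha, mul_zero] }
  monotone' := by
    intro n k hnk x hx a ha
    exact hx a (Ideal.pow_le_pow_right hnk ha)

theorem mem_killedChain (n : ℕ) (x : R) :
    x ∈ killedChain R n ↔ ∀ a ∈ maximalIdeal R ^ n, a * x = 0 := Iff.rfl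

/-- Case of depth zero. -/
theorem caseA (h1 : ¬ IsArtinianRing R) (y : R) (hy0 : y ≠ 0)
    (hy : ∀ a ∈ maximalIdeal R, a * y = 0) :
    ∃ (R' : Type u) (_ : CommRing R') (_ : Algebra R R'), Nontrivial R' ∧ Module.Finite R R' ∧
      ¬ Function.Bijective (algebraMap R R') ∧
      (∃ n : ℕ, (∀ x : R, algebraMap R R' x = 0 → ∀ a ∈ maximalIdeal R ^ n, a * x = 0) ∧
        (∀ y : R', ∀ a ∈ maximalIdeal R ^ n, a • y ∈ Set.range (algebraMap R R'))) ∧
      maximalIdeal R ∉ associatedPrimes R R' := by
  obtain ⟨N, hN⟩ := (monotone_stabilizes_iff_noetherian.mpr inferInstance) (killedChain R)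
  have hall : ∀ k, killedChain R k ≤ killedChain R N := by
    intro k
    rcases le_total k N with h | h
    · exact (killedChain R).monotone h
    · rw [hN k h]
  have hItop : killedChain R N ≠ ⊤ := by
    intro htop
    have h1' : (1 : R) ∈ killedChain R N := by rw [htop]; trivial
    apply h1
    rw [isArtinianRing_iff_isNilpotent_maximalIdeal]
    refine ⟨N, ?_⟩
    rw [Ideal.zero_eq_bot, eq_bot_iff]
    intro a ha
    have := h1' a ha
    rw [mul_one] at this
    rw [this]
    exact Ideal.zero_mem _
  haveI : Nontrivial (R ⧸ killedChain R N) := Ideal.Quotient.nontrivial_iff.mpr hItop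
  refine ⟨R ⧸ killedChain R N, inferInstance, inferInstance, inferInstance, inferInstance, ?_,
    ⟨N, ?_, ?_⟩, ?_⟩
  · intro hbij
    apply hy0
    apply hbij.1
    rw [map_zero]
    show Ideal.Quotient.mk _ y = 0
    rw [Ideal.Quotient.eq_zero_iff_mem]
    apply hall 1
    intro a ha
    rw [pow_one] at ha
    exact hy a ha
  · intro x hx a ha
    have hx' : Ideal.Quotient.mk (killedChain R N) x = 0 := hx
    rw [Ideal.Quotient.eq_zero_iff_mem] at hx'
    exact hx' a ha
  · intro z a _
    obtain ⟨r, rfl⟩ := Ideal.Quotient.mk_surjective z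
    exact ⟨a * r, by rw [Algebra.smul_def]; rfl⟩
  · intro hass
    obtain ⟨_, z, hz⟩ := isAssociatedPrime_iff.mp hass
    obtain ⟨r, rfl⟩ := Ideal.Quotient.mk_surjective z
    have hkill : ∀ a ∈ maximalIdeal R, a * r ∈ killedChain R N := by
      intro a ha
      rw [hz, Submodule.mem_colon_singleton, Submodule.mem_bot] at ha
      have : Ideal.Quotient.mk (killedChain R N) (a * r) = 0 := by
        rw [← ha, Algebra.smul_def]; rfl
      exact Ideal.Quotient.eq_zero_iff_mem.mp this
    have hr : r ∈ killedChain R N := by
      apply hall (N + 1)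
      intro c hc
      rw [pow_succ] at hc
      refine Submodule.mul_induction_on hc ?_ ?_
      · intro b hb a ha
        rw [mul_assoc]
        exact hkill a ha b hb
      · intro u v hu hv
        rw [add_mul, hu, hv, add_zero]
    have hone : (1 : R) ∈ maximalIdeal R := by
      rw [hz, Submodule.mem_colon_singleton, Submodule.mem_bot, one_smul]
      exact Ideal.Quotient.eq_zero_iff_mem.mpr hr
    exact (maximalIdeal.isMaximal R).ne_top ((Ideal.eq_top_iff_one _).mpr hone)

end Groth.Agent.R2.H10.KollarA
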