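import Mathlib
import Groth.Prelude.Def_CAlg
import Groth.Agent.R2.H10KollarA

/-!
# Kollár's tetrachotomy: the depth one case
-/

set_option autoImplicit false
set_option linter.style.haveILetI false
set_option linter.unusedSectionVars false
universe u

namespace Groth.Agent.R2.H10.KollarB

open IsLocalRing

variable {R : Type u} [CommRing R] [IsLocalRing R] [IsNoetherianRing R]

theorem regular_of_principal (h1 : ¬ IsArtinianRing R) (a : R)
    (ha : maximalIdeal R = Ideal.span {a}) :
    IsRegularLocalRing R ∧ ringKrullDim R = 1 := by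
  have hs : (maximalIdeal R).spanFinrank ≤ 1 := by
    rw [ha]
    have := Submodule.spanFinrank_span_le_ncard_of_finite (R := R) (Set.finite_singleton a)
    rwa [Set.ncard_singleton] at this
  have hle : ringKrullDim R ≤ 1 := by
    refine le_trans (ringKrullDim_le_spanFinrank_maximalIdeal R) ?_
    exact_mod_cast hs
  have hge : 1 ≤ ringKrullDim R := by
    have hnot : ¬ ringKrullDim R ≤ 0 := by
      intro h0
      apply h1
      rw [isArtinianRing_iff_krullDimLE_zero]
      exact Ring.krullDimLE_iff.mpr h0
    have hpos : 0 < ringKrullDim R := lt_of_not_ge hnot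
    have hne : ringKrullDim R ≠ ⊥ := ne_bot_of_gt hpos
    obtain ⟨n, hn⟩ := WithBot.ne_bot_iff_exists.mp hne
    rw [← hn] at hpos ⊢
    have h0 : (0 : ℕ∞) < n := by exact_mod_cast hpos
    have h1' : (1 : ℕ∞) ≤ n := Order.one_le_iff_pos.mpr h0
    exact_mod_cast h1'
  refine ⟨IsRegularLocalRing.of_spanFinrank_maximalIdeal_le R ?_, le_antisymm hle hge⟩
  refine le_trans ?_ hge
  exact_mod_cast hs

/-- The subalgebra `{z | z 𝔪 ⊆ 𝔪}` of the total ring of fractions. -/
def endSub (R : Type u) [CommRing R] [IsLocalRing R] :
    Subalgebra R (Localization (nonZeroDivisors R)) where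
  carrier := {z | ∀ a ∈ maximalIdeal R, ∃ b ∈ maximalIdeal R,
    z * algebraMap R (Localization (nonZeroDivisors R)) a =
      algebraMap R (Localization (nonZeroDivisors R)) b}
  mul_mem' := by
    intro z z' hz hz' a ha
    obtain ⟨b, hb, hb'⟩ := hz' a ha
    obtain ⟨c, hc, hc'⟩ := hz b hb
    exact ⟨c, hc, by rw [mul_assoc, hb', hc']⟩
  add_mem' := by
    intro z z' hz hz' a ha
    obtain ⟨b, hb, hb'⟩ := hz a ha
    obtain ⟨c, hc, hc'⟩ := hz' a ha
    exact ⟨b + c, Ideal.add_mem _ hb hc, by rw [add_mul, hb', hc', map_add]⟩
  algebraMap_mem' := by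
    intro r a ha
    exact ⟨r * a, Ideal.mul_mem_left _ _ ha, by rw [map_mul]⟩

theorem mem_endSub (z : Localization (nonZeroDivisors R)) :
    z ∈ endSub R ↔ ∀ a ∈ maximalIdeal R, ∃ b ∈ maximalIdeal R,
      z * algebraMap R (Localization (nonZeroDivisors R)) a =
        algebraMap R (Localization (nonZeroDivisors R)) b := Iff.rfl

/-- Case of depth one. -/
theorem caseB (h1 : ¬ IsArtinianRing R) (h2 : ¬ (IsRegularLocalRing R ∧ ringKrullDim R = 1))
    (x : R) (hxm : x ∈ maximalIdeal R) (hxreg : x ∈ nonZeroDivisors R) (y : R)
    (hy : ∀ r : R, y ≠ x * r) (hmy : ∀ a ∈ maximalIdeal R, ∃ b, a * y = x * b) :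
    ∃ (R' : Type u) (_ : CommRing R') (_ : Algebra R R'), Nontrivial R' ∧ Module.Finite R R' ∧
      ¬ Function.Bijective (algebraMap R R') ∧
      (∃ n : ℕ, (∀ x : R, algebraMap R R' x = 0 → ∀ a ∈ maximalIdeal R ^ n, a * x = 0) ∧
        (∀ y : R', ∀ a ∈ maximalIdeal R ^ n, a • y ∈ Set.range (algebraMap R R'))) ∧
      maximalIdeal R ∉ associatedPrimes R R' := by
  have hinj : Function.Injective (algebraMap R (Localization (nonZeroDivisors R))) :=
    IsLocalization.injective _ (le_refl _)
  -- the coefficients `b` are in the maximal ideal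
  have hb : ∀ a ∈ maximalIdeal R, ∀ b, a * y = x * b → b ∈ maximalIdeal R := by
    intro a ha b hab
    by_contra hbm
    have hbu : IsUnit b := by
      by_contra hnu
      exact hbm hnu
    obtain ⟨u, rfl⟩ := hbu
    apply h2
    apply regular_of_principal h1 a
    apply le_antisymm
    · intro c hc
      obtain ⟨d, hd⟩ := hmy c hc
      rw [Ideal.mem_span_singleton']
      refine ⟨d * ((u⁻¹ : Rˣ) : R), ?_⟩
      have h3 : x * (c * (u : R) - a * d) = 0 := by
        have e1 : x * (c * (u : R)) = c * (a * y) := by rw [hab]; ring
        have e2 : x * (a * d) = a * (c * y) := by rw [hd]; ring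
        rw [mul_sub, e1, e2]; ring
      have h4 : c * (u : R) - a * d = 0 := by
        have := (mem_nonZeroDivisors_iff_right.mp hxreg) (c * (u : R) - a * d)
        apply this
        rw [mul_comm]; exact h3
      have h5 : c * (u : R) = a * d := sub_eq_zero.mp h4
      calc d * ((u⁻¹ : Rˣ) : R) * a = (a * d) * ((u⁻¹ : Rˣ) : R) := by ring
        _ = c * (u : R) * ((u⁻¹ : Rˣ) : R) := by rw [h5]
        _ = c := by rw [mul_assoc, Units.mul_inv, mul_one]
    · rw [Ideal.span_le, Set.singleton_subset_iff]
      exact ha
  have hu : IsLocalization.mk' (Localization (nonZeroDivisors R)) (1 : R) ⟨x, hxreg⟩ *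
      algebraMap R (Localization (nonZeroDivisors R)) x = 1 := by
    rw [IsLocalization.mk'_spec, map_one]
  generalize IsLocalization.mk' (Localization (nonZeroDivisors R)) (1 : R) ⟨x, hxreg⟩ = u at hu
  have hw : algebraMap R (Localization (nonZeroDivisors R)) y * u ∈ endSub R := by
    intro a ha
    obtain ⟨b, hab⟩ := hmy a ha
    refine ⟨b, hb a ha b hab, ?_⟩
    calc algebraMap R (Localization (nonZeroDivisors R)) y * u *
          algebraMap R (Localization (nonZeroDivisors R)) a
        = u * algebraMap R (Localization (nonZeroDivisors R)) (a * y) := by rw [map_mul]; ring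
      _ = u * algebraMap R (Localization (nonZeroDivisors R)) (x * b) := by rw [hab]
      _ = (u * algebraMap R (Localization (nonZeroDivisors R)) x) *
            algebraMap R (Localization (nonZeroDivisors R)) b := by rw [map_mul]; ring
      _ = algebraMap R (Localization (nonZeroDivisors R)) b := by rw [hu, one_mul]
  refine ⟨endSub R, inferInstance, inferInstance, inferInstance, ?_, ?_, ⟨1, ?_, ?_⟩, ?_⟩
  · -- finite
    have hle : Subalgebra.toSubmodule (endSub R) ≤ Submodule.span R {u} := by
      intro z hz
      obtain ⟨b, _, hb'⟩ := hz x hxm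
      have : z = b • u := by
        rw [Algebra.smul_def]
        calc z = z * (u * algebraMap R (Localization (nonZeroDivisors R)) x) := by
              rw [hu, mul_one]
          _ = (z * algebraMap R (Localization (nonZeroDivisors R)) x) * u := by ring
          _ = algebraMap R (Localization (nonZeroDivisors R)) b * u := by rw [hb']
      rw [this]
      exact Submodule.smul_mem _ _ (Submodule.mem_span_singleton_self u)
    have hfg : (Subalgebra.toSubmodule (endSub R)).FG :=
      Submodule.FG.of_le (Submodule.fg_span_singleton u) hle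
    exact Module.Finite.iff_fg.mpr hfg
  · -- not bijective
    intro hbij
    obtain ⟨r, hr⟩ := hbij.2 ⟨_, hw⟩
    have h1' : algebraMap R (Localization (nonZeroDivisors R)) r =
        algebraMap R (Localization (nonZeroDivisors R)) y * u := congrArg Subtype.val hr
    have h2' : algebraMap R (Localization (nonZeroDivisors R)) (x * r) =
        algebraMap R (Localization (nonZeroDivisors R)) y := by
      rw [map_mul, h1']
      calc algebraMap R (Localization (nonZeroDivisors R)) x *
            (algebraMap R (Localization (nonZeroDivisors R)) y * u)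
          = algebraMap R (Localization (nonZeroDivisors R)) y *
            (u * algebraMap R (Localization (nonZeroDivisors R)) x) := by ring
        _ = algebraMap R (Localization (nonZeroDivisors R)) y := by rw [hu, mul_one]
    exact hy r (hinj h2').symm
  · -- kernel
    intro z hz a _
    have : z = 0 := by
      apply hinj
      rw [map_zero]
      exact congrArg Subtype.val hz
    rw [this, mul_zero]
  · -- cokernel
    intro z a ha
    rw [pow_one] at ha
    obtain ⟨b, _, hb'⟩ := z.2 a ha
    refine ⟨b, Subtype.ext ?_⟩
    show algebraMap R (Localization (nonZeroDivisors R)) b = a • (z : Localization (nonZeroDivisors R))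
    rw [Algebra.smul_def, ← hb', mul_comm]
  · -- not an associated prime
    intro hass
    obtain ⟨_, z, hz⟩ := isAssociatedPrime_iff.mp hass
    have hxz : x ∈ maximalIdeal R := hxm
    rw [hz, Submodule.mem_colon_singleton, Submodule.mem_bot] at hxz
    have hxz' : algebraMap R (Localization (nonZeroDivisors R)) x * (z : Localization (nonZeroDivisors R)) = 0 := by
      have := congrArg Subtype.val hxz
      rw [← Algebra.smul_def]
      exact this
    have hz0 : z = 0 := by
      apply Subtype.ext
      show (z : Localization (nonZeroDivisors R)) = 0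
      calc (z : Localization (nonZeroDivisors R))
          = (u * algebraMap R (Localization (nonZeroDivisors R)) x) * z := by rw [hu, one_mul]
        _ = u * (algebraMap R (Localization (nonZeroDivisors R)) x * z) := by ring
        _ = 0 := by rw [hxz', mul_zero]
    have hone : (1 : R) ∈ maximalIdeal R := by
      rw [hz, Submodule.mem_colon_singleton, Submodule.mem_bot, hz0, smul_zero]
    exact (maximalIdeal.isMaximal R).ne_top ((Ideal.eq_top_iff_one _).mpr hone)

end Groth.Agent.R2.H10.KollarB
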