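import Mathlib
import Groth.Agent.Lib.Helper5CM2
import Groth.Agent.Lib.Helper5RLR3

/-!
# Regular sequences in regular local rings and generators of the conormal module
-/

set_option autoImplicit false
set_option linter.style.haveILetI false
set_option linter.unusedSectionVars false
universe u

namespace Groth.Agent.R2.H10.LCIConormal

open IsLocalRing RingTheory.Sequence

variable {R : Type u} [CommRing R] [IsRegularLocalRing R]

theorem smul_top_eq (I : Ideal R) : I • (⊤ : Submodule R R) = I := by
  show I • (⊤ : Ideal R) = I
  rw [Ideal.smul_eq_mul, Ideal.mul_top]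

/-- In a regular local ring a sequence in the maximal ideal is weakly regular iff it cuts the dimension
down by its length. -/
theorem isWeaklyRegular_iff_dim (xs : List R) (hmem : ∀ x ∈ xs, x ∈ maximalIdeal R) :
    IsWeaklyRegular R xs ↔
      ringKrullDim (R ⧸ Ideal.ofList xs) + xs.length = ringKrullDim R := by
  have hCM : LocCoh.IsCohenMacaulayModule R R :=
    (Groth.Agent.Lib.Helper5.isCohenMacaulayLocalRing_of_isRegularLocalRing (R := R)).supportDim_eq_depth
  have h := (Groth.Agent.Lib.Helper5.isWeaklyRegular_iff_of_isCohenMacaulayModule xs R hCM hmem).1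
  rw [h, Module.supportDim_self_eq_ringKrullDim, smul_top_eq,
    Module.supportDim_quotient_eq_ringKrullDim]

section General

variable {A : Type u} [CommRing A]

/-- If `I` is generated by the list `rs`, the conormal module is generated by `rs.length` elements. -/
theorem spanFinrank_cotangent_le (rs : List A) :
    (⊤ : Submodule (A ⧸ Ideal.ofList rs) (Ideal.ofList rs).Cotangent).spanFinrank ≤ rs.length := by
  classical
  set I := Ideal.ofList rs with hI
  let g : Fin rs.length → I.Cotangent := fun i =>
    I.toCotangent ⟨rs[i], Ideal.subset_span (List.getElem_mem i.2)⟩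
  have hspan : Submodule.span (A ⧸ I) (Set.range g) = ⊤ := by
    rw [eq_top_iff]
    intro c _
    obtain ⟨z, rfl⟩ := I.toCotangent_surjective c
    have key : ∀ z : A, z ∈ Ideal.span {r | r ∈ rs} → ∀ hz : z ∈ I,
        I.toCotangent ⟨z, hz⟩ ∈ Submodule.span (A ⧸ I) (Set.range g) := by
      intro z hz
      induction hz using Submodule.span_induction with
      | mem z hz =>
        intro hz'
        obtain ⟨i, hi, rfl⟩ := List.getElem_of_mem hz
        exact Submodule.subset_span ⟨⟨i, hi⟩, rfl⟩
      | zero =>
        intro hz'
        have : (⟨0, hz'⟩ : I) = 0 := rfl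
        rw [this, map_zero]
        exact Submodule.zero_mem _
      | add x y hx hy ihx ihy =>
        intro hz'
        have hx' : x ∈ I := hx
        have hy' : y ∈ I := hy
        have : (⟨x + y, hz'⟩ : I) = ⟨x, hx'⟩ + ⟨y, hy'⟩ := rfl
        rw [this, map_add]
        exact Submodule.add_mem _ (ihx hx') (ihy hy')
      | smul a x hx ihx =>
        intro hz'
        have hx' : x ∈ I := hx
        have : (⟨a • x, hz'⟩ : I) = a • ⟨x, hx'⟩ := rfl
        rw [this, map_smul, ← algebraMap_smul (A ⧸ I) a]
        exact Submodule.smul_mem _ _ (ihx hx')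
    exact key z.1 z.2 z.2
  rw [← hspan]
  refine le_trans (Submodule.spanFinrank_span_le_ncard_of_finite (Set.finite_range g)) ?_
  rw [← Set.image_univ]
  refine le_trans (Set.ncard_image_le Set.finite_univ) ?_
  rw [Set.ncard_univ, Nat.card_fin]

/-- Over a local ring, a proper finitely generated ideal is generated by as many elements as its
conormal module. -/
theorem exists_list_ofList_eq [IsLocalRing A] [IsNoetherianRing A] (I : Ideal A) (hI : I ≠ ⊤) :
    ∃ xs : List A, xs.length = (⊤ : Submodule (A ⧸ I) I.Cotangent).spanFinrank ∧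
      Ideal.ofList xs = I := by
  classical
  haveI : Module.Finite A I.Cotangent :=
    Module.Finite.of_surjective I.toCotangent I.toCotangent_surjective
  haveI : Module.Finite (A ⧸ I) I.Cotangent := Module.Finite.of_restrictScalars_finite A _ _
  have hfg : (⊤ : Submodule (A ⧸ I) I.Cotangent).FG := Module.Finite.fg_top
  obtain ⟨s, hcard, hspan⟩ := Submodule.FG.exists_span_finset_card_eq_spanFinrank hfg
  choose lift hlift using I.toCotangent_surjective
  refine ⟨s.toList.map fun c => (lift c : A), ?_, ?_⟩
  · rw [List.length_map, Finset.length_toList, hcard]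
  · have hJI : Ideal.ofList (s.toList.map fun c => (lift c : A)) ≤ I := by
      rw [Ideal.span_le]
      intro r hr
      obtain ⟨c, _, rfl⟩ := List.mem_map.mp hr
      exact (lift c).2
    apply le_antisymm hJI
    have hjac : I ≤ Ideal.jacobson ⊥ := by
      rw [IsLocalRing.jacobson_eq_maximalIdeal ⊥ bot_ne_top]
      exact IsLocalRing.le_maximalIdeal hI
    apply Submodule.le_of_le_smul_of_le_jacobson_bot (IsNoetherian.noetherian I) hjac
    intro z hz
    have key : ∀ c : I.Cotangent, c ∈ Submodule.span (A ⧸ I) (s : Set I.Cotangent) →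
        ∃ j : I, (j : A) ∈ Ideal.ofList (s.toList.map fun c => (lift c : A)) ∧
          I.toCotangent j = c := by
      intro c hc
      induction hc using Submodule.span_induction with
      | mem c hc =>
        refine ⟨lift c, Ideal.subset_span ?_, hlift c⟩
        exact List.mem_map.mpr ⟨c, Finset.mem_toList.mpr hc, rfl⟩
      | zero => exact ⟨0, Ideal.zero_mem _, map_zero _⟩
      | add x y _ _ ihx ihy =>
        obtain ⟨j, hj, rfl⟩ := ihx
        obtain ⟨k, hk, rfl⟩ := ihy
        exact ⟨j + k, Ideal.add_mem _ hj hk, map_add _ _ _⟩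
      | smul q x _ ihx =>
        obtain ⟨j, hj, rfl⟩ := ihx
        obtain ⟨a, rfl⟩ := Ideal.Quotient.mk_surjective q
        refine ⟨a • j, Ideal.mul_mem_left _ _ hj, ?_⟩
        rw [map_smul]
        exact (algebraMap_smul (A ⧸ I) a (I.toCotangent j)).symm
    obtain ⟨j, hj, hjz⟩ := key (I.toCotangent ⟨z, hz⟩) (by rw [hspan]; trivial)
    have h2 : (z - (j : A)) ∈ I ^ 2 := by
      have := (I.toCotangent_eq (x := ⟨z, hz⟩) (y := j)).mp hjz.symm
      exact this
    have h3 : z = (j : A) + (z - (j : A)) := by ring
    rw [h3]
    refine Submodule.add_mem_sup hj ?_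
    rw [pow_two] at h2
    exact h2

end General

end Groth.Agent.R2.H10.LCIConormal
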