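import Groth.Agent.Lib.Helper17AbHom
import Groth.Prelude.Def_CohCx

/-!
# Cohomology of a limit of an inverse system of complexes of abelian groups (helper10)

Namespace `Groth.Agent.R2.H10.LimCxA`.

* `limOne_shift`: vanishing of `R^1 lim` passes to the tail `k ↦ A (n₀ + k)` of an inverse system.
* `bijective_homologyMap_limit`: for an inverse system `(C k, τ k)` of complexes of abelian groups with a "limit"
  `(L, p k)` (existence/uniqueness in the relevant degrees), if `R^1 lim` vanishes for the terms in degrees `i₀, i`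
  and for `H^i`, and if `H^j (C k) → H^j (C 0)` is bijective for all `k`, then `H^j L → H^j (C 0)` is bijective.
-/

set_option autoImplicit false
set_option linter.unusedSectionVars false

universe u

open CategoryTheory CategoryTheory.Limits HomologicalComplex
open Groth.Agent.Lib.Helper17.AbHom

namespace Groth.Agent.R2.H10.LimCxA

section Shift

variable {A : ℕ → Type u} [∀ n, AddCommGroup (A n)] (t : ∀ n, A (n + 1) →+ A n)

/-- transport along an equality of indices. -/
def castA {n n' : ℕ} (h : n = n') : A n →+ A n' := h ▸ AddMonoidHom.id (A n)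

lemma castA_eq (y : ∀ k, A k) {j k : ℕ} (e : j = k) : castA e (y j) = y k := by
  subst e
  rfl

lemma castA_add_eq (n₀ : ℕ) (y : ∀ k, A (n₀ + k)) {j k : ℕ} (e : j = k) (h' : n₀ + j = n₀ + k) :
    castA (A := A) h' (y j) = y k := by
  subst e
  rfl

theorem limOne_shift (h : CohCx.LimOneIsZero A t) (n₀ : ℕ) :
    CohCx.LimOneIsZero (fun k => A (n₀ + k)) (fun k => t (n₀ + k)) := by
  intro y
  let y' : ∀ n, A n := fun n =>
    if hn : n₀ ≤ n then castA (A := A) (Nat.add_sub_cancel' hn) (y (n - n₀)) else 0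
  obtain ⟨w', hw'⟩ := h y'
  refine ⟨fun k => w' (n₀ + k), ?_⟩
  funext k
  have h1 := congrFun hw' (n₀ + k)
  have h2 : y' (n₀ + k) = y k := by
    dsimp only [y']
    rw [dif_pos (Nat.le_add_right n₀ k)]
    exact castA_add_eq n₀ y (Nat.add_sub_cancel_left (n := n₀) (m := k)) _
  rw [h2] at h1
  exact h1

end Shift

section Main

variable {ι : Type*} {c : ComplexShape ι}

lemma d_f {K K' : HomologicalComplex AddCommGrpCat.{u} c} (f : K ⟶ K') (a b : ι) (x : K.X a) :
    K'.d a b (f.f a x) = f.f b (K.d a b x) :=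
  ConcreteCategory.congr_hom (f.comm a b) x

lemma d_d (K : HomologicalComplex AddCommGrpCat.{u} c) (a b e : ι) (x : K.X a) :
    K.d b e (K.d a b x) = 0 := by
  have := ConcreteCategory.congr_hom (K.d_comp_d a b e) x
  exact this

lemma comp_f_apply {K K' K'' : HomologicalComplex AddCommGrpCat.{u} c} (f : K ⟶ K') (g : K' ⟶ K'')
    (a : ι) (x : K.X a) : (f ≫ g).f a x = g.f a (f.f a x) := rfl

lemma homologyMap_comp_apply {K K' K'' : HomologicalComplex AddCommGrpCat.{u} c} (f : K ⟶ K')
    (g : K' ⟶ K'') (a : ι) (x : K.homology a) :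
    homologyMap (f ≫ g) a x = homologyMap g a (homologyMap f a x) := by
  rw [homologyMap_comp]
  rfl

lemma homologyMap_id_apply (K : HomologicalComplex AddCommGrpCat.{u} c) (a : ι) (x : K.homology a) :
    homologyMap (𝟙 K) a x = x := by
  rw [homologyMap_id]
  rfl

variable (C : ℕ → HomologicalComplex AddCommGrpCat.{u} c) (τ : ∀ k, C (k + 1) ⟶ C k)
  (T : ∀ k, C k ⟶ C 0) (hT0 : T 0 = 𝟙 _) (hT : ∀ k, T (k + 1) = τ k ≫ T k)
  (L : HomologicalComplex AddCommGrpCat.{u} c) (p : ∀ k, L ⟶ C k) (hp : ∀ k, p (k + 1) ≫ τ k = p k)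
  (i₀ i j l : ι) (hi₀ : c.prev i = i₀) (hij : c.next i = j) (hji : c.prev j = i) (hjl : c.next j = l)

/-- existence part of the limit property in degree `a`. -/
def LimEx (a : ι) : Prop :=
  ∀ x : ∀ k, (C k).X a, (∀ k, (τ k).f a (x (k + 1)) = x k) → ∃ y : L.X a, ∀ k, (p k).f a y = x k

/-- uniqueness part of the limit property in degree `a`. -/
def LimUniq (a : ι) : Prop := ∀ y : L.X a, (∀ k, (p k).f a y = 0) → y = 0

include hT0 hT hp in
lemma p_comp_T (k : ℕ) : p k ≫ T k = p 0 := by
  induction k with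
  | zero => rw [hT0, Category.comp_id]
  | succ k ih => rw [hT, ← Category.assoc, hp, ih]

include hT0 hT hp hji hjl in
theorem surjective_homologyMap_limit
    (ha1 : CohCx.LimOneIsZero (fun k => (C k).X i) (fun k => ((τ k).f i).hom))
    (hc : ∀ k, Function.Bijective (homologyMap (T k) j))
    (hexj : LimEx C τ L p j) (hunl : LimUniq C L p l) :
    Function.Surjective (homologyMap (p 0) j) := by
  intro γ
  choose γs hγs using fun k => (hc k).2 γ
  have hγc : ∀ k, homologyMap (τ k) j (γs (k + 1)) = γs k := by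
    intro k
    apply (hc k).1
    rw [← homologyMap_comp_apply, ← hT, hγs, hγs]
  choose ζ hζ using fun k => homologyπ_surjective (C k) j (γs k)
  have h3 : ∀ k, (C k).homologyπ j (cyclesMap (τ k) j (ζ (k + 1)) - ζ k) = 0 := by
    intro k
    rw [map_sub, ← homologyMap_homologyπ, hζ, hζ, hγc, sub_self]
  choose y hy using fun k => exists_of_homologyπ_eq_zero (C k) i j hji _ (h3 k)
  obtain ⟨w, hw⟩ := ha1 y
  have hw' : ∀ k, w k - (τ k).f i (w (k + 1)) = y k := fun k => congrFun hw k
  have hx : ∀ k, (τ k).f j ((C (k + 1)).iCycles j (ζ (k + 1)) + (C (k + 1)).d i j (w (k + 1))) =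
      (C k).iCycles j (ζ k) + (C k).d i j (w k) := by
    intro k
    have e1 : (τ k).f j ((C (k + 1)).iCycles j (ζ (k + 1))) =
        (C k).iCycles j (ζ k) + (C k).d i j (y k) := by
      rw [← iCycles_cyclesMap, ← iCycles_toCycles, hy, ← map_add]
      congr 1
      abel
    have e2 : (τ k).f j ((C (k + 1)).d i j (w (k + 1))) = (C k).d i j (w k) - (C k).d i j (y k) := by
      rw [← d_f, ← map_sub, ← hw' k]
      congr 1
      abel
    rw [map_add, e1, e2]
    abel
  obtain ⟨z, hz⟩ := hexj (fun k => (C k).iCycles j (ζ k) + (C k).d i j (w k)) hx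
  have hdz : L.d j l z = 0 := by
    apply hunl
    intro k
    rw [← d_f, hz, map_add, d_iCycles, d_d, add_zero]
  obtain ⟨ζL, hζL⟩ := exists_cycle L j l hjl z hdz
  refine ⟨L.homologyπ j ζL, ?_⟩
  rw [homologyMap_homologyπ]
  have h5 : cyclesMap (p 0) j ζL = ζ 0 + (C 0).toCycles i j (w 0) := by
    apply iCycles_injective
    rw [iCycles_cyclesMap, hζL, hz 0, map_add, iCycles_toCycles]
  rw [h5, map_add, homologyπ_toCycles, add_zero, hζ 0]
  have h6 := hγs 0
  rw [hT0, homologyMap_id_apply] at h6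
  exact h6

include hT0 hT hp hi₀ hij hji in
theorem injective_homologyMap_limit
    (ha2 : CohCx.LimOneIsZero (fun k => (C k).X i₀) (fun k => ((τ k).f i₀).hom))
    (hb : CohCx.LimOneIsZero (fun k => (C k).homology i) (fun k => (homologyMap (τ k) i).hom))
    (hc : ∀ k, Function.Injective (homologyMap (T k) j))
    (hexi : LimEx C τ L p i) (hunj : LimUniq C L p j) :
    Function.Injective (homologyMap (p 0) j) := by
  rw [injective_iff_map_eq_zero]
  intro η hη
  obtain ⟨ζ, rfl⟩ := homologyπ_surjective L j η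
  -- Step 1: the projections of the cycle are boundaries
  have h1 : ∀ k, (C k).homologyπ j (cyclesMap (p k) j ζ) = 0 := by
    intro k
    apply hc k
    rw [map_zero, ← homologyMap_homologyπ, ← homologyMap_comp_apply, p_comp_T C τ T hT0 hT L p hp k, hη]
  choose u hu using fun k => exists_of_homologyπ_eq_zero (C k) i j hji _ (h1 k)
  have hdu : ∀ k, (C k).d i j (u k) = (p k).f j (L.iCycles j ζ) := by
    intro k
    rw [← iCycles_toCycles, hu, iCycles_cyclesMap]
  -- Step 2: the defect of compatibility is a cycle, which we correct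
  have hdδ : ∀ k, (C k).d i j (u k - (τ k).f i (u (k + 1))) = 0 := by
    intro k
    rw [map_sub, d_f, hdu, hdu, ← comp_f_apply, hp, sub_self]
  choose ε hε using fun k => exists_cycle (C k) i j hij _ (hdδ k)
  obtain ⟨g, hg⟩ := hb (fun k => (C k).homologyπ i (ε k))
  have hg' : ∀ k, g k - homologyMap (τ k) i (g (k + 1)) = (C k).homologyπ i (ε k) :=
    fun k => congrFun hg k
  choose ν hν using fun k => homologyπ_surjective (C k) i (g k)
  have h2 : ∀ k, (C k).homologyπ i (ε k - ν k + cyclesMap (τ k) i (ν (k + 1))) = 0 := by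
    intro k
    rw [map_add, map_sub, ← homologyMap_homologyπ, hν, hν, ← hg' k]
    abel
  choose a ha using fun k => exists_of_homologyπ_eq_zero (C k) i₀ i hi₀ _ (h2 k)
  obtain ⟨b, hb'⟩ := ha2 a
  have hb'' : ∀ k, b k - (τ k).f i₀ (b (k + 1)) = a k := fun k => congrFun hb' k
  have hδv : ∀ k, u k - (τ k).f i (u (k + 1)) =
      ((C k).iCycles i (ν k) + (C k).d i₀ i (b k)) -
        (τ k).f i ((C (k + 1)).iCycles i (ν (k + 1)) + (C (k + 1)).d i₀ i (b (k + 1))) := by
    intro k
    have e1 : (C k).d i₀ i (a k) =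
        (u k - (τ k).f i (u (k + 1))) - (C k).iCycles i (ν k) +
          (τ k).f i ((C (k + 1)).iCycles i (ν (k + 1))) := by
      rw [← iCycles_toCycles, ha, map_add, map_sub, hε, iCycles_cyclesMap]
    have e2 : (C k).d i₀ i (a k) =
        (C k).d i₀ i (b k) - (τ k).f i ((C (k + 1)).d i₀ i (b (k + 1))) := by
      rw [← d_f, ← map_sub, hb'']
    rw [map_add]
    have e3 := e1.symm.trans e2
    rw [← sub_eq_zero] at e3 ⊢
    rw [← e3]
    abel
  -- Step 3: a compatible family of primitives
  have hu' : ∀ k, (τ k).f i (u (k + 1) - ((C (k + 1)).iCycles i (ν (k + 1)) +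
      (C (k + 1)).d i₀ i (b (k + 1)))) = u k - ((C k).iCycles i (ν k) + (C k).d i₀ i (b k)) := by
    intro k
    rw [map_sub]
    have e := hδv k
    rw [← sub_eq_zero] at e ⊢
    rw [← neg_eq_zero, ← e]
    abel
  obtain ⟨uL, huL⟩ := hexi (fun k => u k - ((C k).iCycles i (ν k) + (C k).d i₀ i (b k))) hu'
  have h7 : L.d i j uL = L.iCycles j ζ := by
    rw [← sub_eq_zero]
    apply hunj
    intro k
    rw [map_sub, ← d_f, huL, map_sub, map_add, hdu, d_iCycles, d_d, add_zero, sub_zero, sub_self]
  have h8 : ζ = L.toCycles i j uL := by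
    apply iCycles_injective
    rw [iCycles_toCycles, h7]
  rw [h8, homologyπ_toCycles]

include hT0 hT hp hi₀ hij hji hjl in
/-- Main group-level theorem. -/
theorem bijective_homologyMap_limit
    (ha1 : CohCx.LimOneIsZero (fun k => (C k).X i) (fun k => ((τ k).f i).hom))
    (ha2 : CohCx.LimOneIsZero (fun k => (C k).X i₀) (fun k => ((τ k).f i₀).hom))
    (hb : CohCx.LimOneIsZero (fun k => (C k).homology i) (fun k => (homologyMap (τ k) i).hom))
    (hc : ∀ k, Function.Bijective (homologyMap (T k) j))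
    (hexi : LimEx C τ L p i) (hexj : LimEx C τ L p j)
    (hunj : LimUniq C L p j) (hunl : LimUniq C L p l) :
    Function.Bijective (homologyMap (p 0) j) :=
  ⟨injective_homologyMap_limit C τ T hT0 hT L p hp i₀ i j hi₀ hij hji ha2 hb (fun k => (hc k).1) hexi hunj,
    surjective_homologyMap_limit C τ T hT0 hT L p hp i j l hji hjl ha1 hc hexj hunl⟩

end Main

end Groth.Agent.R2.H10.LimCxA
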