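import Groth.Agent.R2.H10ShHomology
import Groth.Agent.Lib.Helper17Hyp5
import Groth.Agent.Lib.Helper17AbHom
import Groth.Prelude.Def_FreeSh

/-!
# Cohomology sheaves and cohomology of sections over a covering class (helper10)

Namespace `Groth.Agent.R2.H10.ShHomologyB`.

`isIso_homologyMap_of_sections`: a morphism of complexes of abelian sheaves on a small site which induces
bijections on the cohomology of the complexes of sections over every member of a covering class induces an
isomorphism of cohomology sheaves.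
-/

set_option autoImplicit false
set_option linter.unusedSectionVars false

universe u

open CategoryTheory CategoryTheory.Limits Opposite HomologicalComplex
open Groth.Agent.Lib.Helper17.Hyp Groth.Agent.R2.H10.RlimSingle Groth.Agent.R2.H10.ShHomology
open Groth.Agent.Lib.Helper17.AbHom

namespace Groth.Agent.R2.H10.ShHomologyB

variable {C : Type u} [SmallCategory C] (J : GrothendieckTopology C)
  (K L : CochainComplex (Sheaf J AddCommGrpCat.{u}) ℤ) (φ : K ⟶ L) (i j k : ℤ)
  (hi : (ComplexShape.up ℤ).prev j = i) (hk : (ComplexShape.up ℤ).next j = k)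

/-- sections over `W` of the term of degree `a` as morphisms out of the free sheaf. -/
noncomputable def sec (W : C) (a : ℤ) :
    ((frSh J).obj W ⟶ K.X a) ≃+ ((CohCx.sectCx J W).obj K).X a :=
  CohFree.homEquivSect J W (K.X a)

lemma sec_d (W : C) (a b : ℤ) (z : (frSh J).obj W ⟶ K.X a) :
    ((CohCx.sectCx J W).obj K).d a b (sec J K W a z) = sec J K W b (z ≫ K.d a b) := rfl

lemma sec_f (W : C) (a : ℤ) (z : (frSh J).obj W ⟶ K.X a) :
    ((CohCx.sectCx J W).map φ).f a (sec J K W a z) = sec J L W a (z ≫ φ.f a) := rfl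

include hi hk in
theorem injOn_of_injective (W : C)
    (h : Function.Injective (homologyMap ((CohCx.sectCx J W).map φ) j)) :
    InjOn (frSh J) K L φ i j k W := by
  intro z hz ⟨y', hy'⟩
  have hx : ((CohCx.sectCx J W).obj K).d j k (sec J K W j z) = 0 := by
    rw [sec_d, hz, map_zero]
  obtain ⟨ζ, hζ⟩ := exists_cycle ((CohCx.sectCx J W).obj K) j k hk _ hx
  have h1 : cyclesMap ((CohCx.sectCx J W).map φ) j ζ =
      ((CohCx.sectCx J W).obj L).toCycles i j (sec J L W i y') := by
    apply iCycles_injective
    rw [iCycles_cyclesMap, hζ, iCycles_toCycles, sec_f, sec_d, hy']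
  have h2 : homologyMap ((CohCx.sectCx J W).map φ) j (((CohCx.sectCx J W).obj K).homologyπ j ζ) = 0 := by
    rw [homologyMap_homologyπ, h1, homologyπ_toCycles]
  have h0 : ((CohCx.sectCx J W).obj K).homologyπ j ζ = 0 := h (h2.trans (map_zero _).symm)
  obtain ⟨y₀, hy₀⟩ := exists_of_homologyπ_eq_zero ((CohCx.sectCx J W).obj K) i j hi ζ h0
  refine ⟨(sec J K W i).symm y₀, ?_⟩
  apply (sec J K W j).injective
  rw [← sec_d, AddEquiv.apply_symm_apply, ← iCycles_toCycles, hy₀, hζ]

include hi hk in
theorem surjOn_of_surjective (W : C)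
    (h : Function.Surjective (homologyMap ((CohCx.sectCx J W).map φ) j)) :
    SurjOn (frSh J) K L φ i j k W := by
  intro z' hz'
  have hx' : ((CohCx.sectCx J W).obj L).d j k (sec J L W j z') = 0 := by
    rw [sec_d, hz', map_zero]
  obtain ⟨ζ', hζ'⟩ := exists_cycle ((CohCx.sectCx J W).obj L) j k hk _ hx'
  obtain ⟨γ, hγ⟩ := h (((CohCx.sectCx J W).obj L).homologyπ j ζ')
  obtain ⟨ζ, rfl⟩ := homologyπ_surjective ((CohCx.sectCx J W).obj K) j γ
  rw [homologyMap_homologyπ] at hγ
  have h0 : ((CohCx.sectCx J W).obj L).homologyπ j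
      (cyclesMap ((CohCx.sectCx J W).map φ) j ζ - ζ') = 0 := by
    rw [map_sub, hγ, sub_self]
  obtain ⟨y₀, hy₀⟩ := exists_of_homologyπ_eq_zero ((CohCx.sectCx J W).obj L) i j hi _ h0
  have hzK : ((sec J K W j).symm (((CohCx.sectCx J W).obj K).iCycles j ζ)) ≫ K.d j k = 0 := by
    apply (sec J K W k).injective
    rw [← sec_d, AddEquiv.apply_symm_apply, d_iCycles, map_zero]
  refine ⟨(sec J K W j).symm (((CohCx.sectCx J W).obj K).iCycles j ζ), hzK,
    (sec J L W i).symm y₀, ?_⟩
  apply (sec J L W j).injective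
  rw [← sec_f, AddEquiv.apply_symm_apply, map_add, ← sec_d, AddEquiv.apply_symm_apply,
    ← iCycles_toCycles, hy₀, map_sub, iCycles_cyclesMap, hζ']
  abel


/-- A morphism of complexes of abelian sheaves which induces bijections on the cohomology of sections over a
covering class induces an isomorphism of cohomology sheaves. -/
theorem isIso_homologyMap_of_sections (B : Set C) (hB : ∀ U : C, sieveB B U ∈ J U)
    (h : ∀ W ∈ B, Function.Bijective (homologyMap ((CohCx.sectCx J W).map φ) j)) :
    IsIso (homologyMap φ j) :=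
  isIso_homologyMap_of_local K L φ (j - 1) j (j + 1) (CochainComplex.prev ℤ j) (CochainComplex.next ℤ j)
    (locFr_frSh J) B hB
    (fun W hW => injOn_of_injective J K L φ (j - 1) j (j + 1) (CochainComplex.prev ℤ j)
      (CochainComplex.next ℤ j) W (h W hW).1)
    (fun W hW => surjOn_of_surjective J K L φ (j - 1) j (j + 1) (CochainComplex.prev ℤ j)
      (CochainComplex.next ℤ j) W (h W hW).2)

end Groth.Agent.R2.H10.ShHomologyB
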