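import Groth.Agent.R2.H10LimCxA
import Groth.Agent.R2.H10ShHomologyB
import Mathlib.CategoryTheory.Functor.OfSequence
import Mathlib.Algebra.Homology.HomologicalComplexLimits

/-!
# Cohomology sheaves of a limit of an inverse system of complexes of abelian sheaves (helper10)

Namespace `Groth.Agent.R2.H10.LimCxB`.  `isIso_homologyMap_limit` is the statement of S0899.
-/

set_option autoImplicit false
set_option linter.unusedSectionVars false

universe u

open CategoryTheory CategoryTheory.Limits Opposite HomologicalComplex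
open Groth.Agent.Lib.Helper17.Hyp Groth.Agent.R2.H10.RlimSingle Groth.Agent.R2.H10.ShHomologyB
open Groth.Agent.R2.H10.LimCxA

namespace Groth.Agent.R2.H10.LimCxB

section Tail

variable {𝒯 : Type*} [Category 𝒯] (D : ℕᵒᵖ ⥤ 𝒯) (cn : Cone D) (hcn : IsLimit cn) (n₀ : ℕ)

include hcn in
theorem tail_hom_ext {G : 𝒯} (s s' : G ⟶ cn.pt)
    (h : ∀ k, s ≫ cn.π.app (op (n₀ + k)) = s' ≫ cn.π.app (op (n₀ + k))) : s = s' := by
  apply hcn.hom_ext
  rintro ⟨n⟩
  rw [← cn.w (homOfLE (Nat.le_add_left n n₀)).op, ← Category.assoc, ← Category.assoc, h]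

lemma map_comp_homOfLE {a b e : ℕ} (h1 : a ≤ b) (h2 : b ≤ e) :
    D.map (homOfLE h2).op ≫ D.map (homOfLE h1).op = D.map (homOfLE (h1.trans h2)).op := by
  rw [← D.map_comp]
  rfl

lemma map_homOfLE_refl (a : ℕ) : D.map (homOfLE (le_refl a)).op = 𝟙 _ := by
  rw [← D.map_id]
  rfl

include hcn in
theorem tail_exists_lift {G : 𝒯} (ξ : ∀ k, G ⟶ D.obj (op (n₀ + k)))
    (hξ : ∀ k, ξ (k + 1) ≫ D.map (homOfLE (Nat.le_succ (n₀ + k))).op = ξ k) :
    ∃ s : G ⟶ cn.pt, ∀ k, s ≫ cn.π.app (op (n₀ + k)) = ξ k := by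
  have hcompat : ∀ k k' (h : k ≤ k'),
      ξ k' ≫ D.map (homOfLE (Nat.add_le_add_left h n₀)).op = ξ k := by
    intro k k' h
    induction k', h using Nat.le_induction with
    | base => rw [map_homOfLE_refl, Category.comp_id]
    | succ k' h ih =>
      rw [← map_comp_homOfLE D (Nat.add_le_add_left h n₀) (Nat.le_succ (n₀ + k')), ← Category.assoc,
        hξ, ih]
  let c' : Cone D :=
    { pt := G
      π := NatTrans.ofOpSequence (F := (Functor.const ℕᵒᵖ).obj G) (G := D)
        (fun n => ξ n ≫ D.map (homOfLE (Nat.le_add_left n n₀)).op) (fun n => by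
          change 𝟙 G ≫ _ = _
          rw [Category.id_comp, Category.assoc, map_comp_homOfLE,
            ← map_comp_homOfLE D (Nat.le_add_left n n₀) (Nat.le_succ (n₀ + n)), ← Category.assoc, hξ]) }
  refine ⟨hcn.lift c', fun k => ?_⟩
  rw [hcn.fac c' (op (n₀ + k))]
  change ξ (n₀ + k) ≫ D.map (homOfLE (Nat.le_add_left (n₀ + k) n₀)).op = ξ k
  exact hcompat k (n₀ + k) (Nat.le_add_left k n₀)

end Tail

section Main

variable {C : Type u} [SmallCategory C] (J : GrothendieckTopology C)
  (F : ℕ → CochainComplex (Sheaf J AddCommGrpCat.{u}) ℤ) (t : ∀ n, F (n + 1) ⟶ F n)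

lemma π_succ_comp (n : ℕ) :
    limit.π (CohCx.opSequence F t) (op (n + 1)) ≫ t n = limit.π (CohCx.opSequence F t) (op n) := by
  have := limit.w (CohCx.opSequence F t) (homOfLE (Nat.le_add_right n 1)).op
  rwa [Functor.ofOpSequence_map_homOfLE_succ] at this

/-- the limit cone in degree `a`. -/
noncomputable def isLimitEval (a : ℤ) :
    IsLimit ((HomologicalComplex.eval _ _ a).mapCone (limit.cone (CohCx.opSequence F t))) :=
  isLimitOfPreserves _ (limit.isLimit _)

variable (U : C) (n₀ : ℕ)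

theorem limUniq (a : ℤ) :
    LimUniq (fun k => (CohCx.sectCx J U).obj (F (n₀ + k)))
      ((CohCx.sectCx J U).obj (limit (CohCx.opSequence F t)))
      (fun k => (CohCx.sectCx J U).map (limit.π (CohCx.opSequence F t) (op (n₀ + k)))) a := by
  intro y hy
  obtain ⟨s, rfl⟩ := (sec J (limit (CohCx.opSequence F t)) U a).surjective y
  have hs : s = 0 := by
    refine tail_hom_ext (CohCx.opSequence F t ⋙ HomologicalComplex.eval _ _ a) _ (isLimitEval J F t a) n₀
      s 0 (fun k => ?_)
    rw [zero_comp]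
    apply (sec J (F (n₀ + k)) U a).injective
    refine Eq.trans ?_ (map_zero (sec J (F (n₀ + k)) U a)).symm
    exact hy k
  rw [hs, map_zero]

theorem limEx (a : ℤ) :
    LimEx (fun k => (CohCx.sectCx J U).obj (F (n₀ + k)))
      (fun k => (CohCx.sectCx J U).map (t (n₀ + k)))
      ((CohCx.sectCx J U).obj (limit (CohCx.opSequence F t)))
      (fun k => (CohCx.sectCx J U).map (limit.π (CohCx.opSequence F t) (op (n₀ + k)))) a := by
  intro x hx
  obtain ⟨s, hs⟩ := tail_exists_lift (CohCx.opSequence F t ⋙ HomologicalComplex.eval _ _ a) _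
    (isLimitEval J F t a) n₀ (fun k => (sec J (F (n₀ + k)) U a).symm (x k)) (fun k => by
      apply (sec J (F (n₀ + k)) U a).injective
      have h1 : (CohCx.opSequence F t ⋙ HomologicalComplex.eval _ _ a).map
          (homOfLE (Nat.le_succ (n₀ + k))).op = (t (n₀ + k)).f a := by
        change ((CohCx.opSequence F t).map (homOfLE (Nat.le_add_right (n₀ + k) 1)).op).f a = _
        rw [Functor.ofOpSequence_map_homOfLE_succ]
      rw [h1, AddEquiv.apply_symm_apply]
      have h2 := sec_f J (F (n₀ + (k + 1))) (F (n₀ + k)) (t (n₀ + k)) U a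
        ((sec J (F (n₀ + (k + 1))) U a).symm (x (k + 1)))
      rw [AddEquiv.apply_symm_apply] at h2
      rw [← hx k]
      exact h2.symm)
  refine ⟨sec J (limit (CohCx.opSequence F t)) U a s, fun k => ?_⟩
  have h3 := hs k
  have h4 := sec_f J (limit (CohCx.opSequence F t)) (F (n₀ + k))
    (limit.π (CohCx.opSequence F t) (op (n₀ + k))) U a s
  rw [h4]
  apply (sec J (F (n₀ + k)) U a).symm.injective
  rw [AddEquiv.symm_apply_apply]
  exact h3

end Main

section Final

variable {C : Type u} [SmallCategory C] (J : GrothendieckTopology C)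
  (F : ℕ → CochainComplex (Sheaf J AddCommGrpCat.{u}) ℤ) (t : ∀ n, F (n + 1) ⟶ F n)

/-- group-level statement over one object `U`. -/
theorem bijective_sections (m : ℤ) (U : C) (n₀ : ℕ)
    (ha : ∀ j : ℤ, (j = m - 2 ∨ j = m - 1) →
      CohCx.LimOneIsZero (fun n => ((F n).X j).obj.obj (op U)) (fun n => (((t n).f j).hom.app (op U)).hom))
    (hb : CohCx.LimOneIsZero
      (fun n => ((CohCx.sectCx J U).obj (F n)).homology (m - 1))
      (fun n => (HomologicalComplex.homologyMap ((CohCx.sectCx J U).map (t n)) (m - 1)).hom))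
    (hc : ∀ k : ℕ, IsIso (HomologicalComplex.homologyMap
      ((CohCx.sectCx J U).map (CohCx.transition F t n₀ k)) m)) :
    Function.Bijective (HomologicalComplex.homologyMap
      ((CohCx.sectCx J U).map (limit.π (CohCx.opSequence F t) (op n₀))) m) := by
  have hT : ∀ k, (CohCx.sectCx J U).map (CohCx.transition F t n₀ (k + 1)) =
      (CohCx.sectCx J U).map (t (n₀ + k)) ≫ (CohCx.sectCx J U).map (CohCx.transition F t n₀ k) := by
    intro k
    rw [← Functor.map_comp]
    rfl
  have hp : ∀ k, (CohCx.sectCx J U).map (limit.π (CohCx.opSequence F t) (op (n₀ + (k + 1)))) ≫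
      (CohCx.sectCx J U).map (t (n₀ + k)) =
      (CohCx.sectCx J U).map (limit.π (CohCx.opSequence F t) (op (n₀ + k))) := by
    intro k
    exact ((CohCx.sectCx J U).map_comp (limit.π (CohCx.opSequence F t) (op (n₀ + k + 1)))
      (t (n₀ + k))).symm.trans (congrArg (fun z => (CohCx.sectCx J U).map z) (π_succ_comp J F t (n₀ + k)))
  exact bijective_homologyMap_limit
    (fun k => (CohCx.sectCx J U).obj (F (n₀ + k)))
    (fun k => (CohCx.sectCx J U).map (t (n₀ + k)))
    (fun k => (CohCx.sectCx J U).map (CohCx.transition F t n₀ k))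
    ((CohCx.sectCx J U).map_id _) hT
    ((CohCx.sectCx J U).obj (limit (CohCx.opSequence F t)))
    (fun k => (CohCx.sectCx J U).map (limit.π (CohCx.opSequence F t) (op (n₀ + k)))) hp
    (m - 2) (m - 1) m (m + 1)
    (by rw [CochainComplex.prev]; omega) (by rw [CochainComplex.next]; omega)
    (CochainComplex.prev ℤ m) (CochainComplex.next ℤ m)
    (limOne_shift _ (ha (m - 1) (Or.inr rfl)) n₀)
    (limOne_shift _ (ha (m - 2) (Or.inl rfl)) n₀)
    (limOne_shift _ hb n₀)
    (fun k => by
      haveI := hc k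
      exact ConcreteCategory.bijective_of_isIso _)
    (limEx J F t U n₀ (m - 1)) (limEx J F t U n₀ m)
    (limUniq J F t U n₀ m) (limUniq J F t U n₀ (m + 1))

/-- The statement of S0899. -/
theorem isIso_homologyMap_limit (m : ℤ) (B : Set C)
    (hB : ∀ U : C, ∃ (ι : Type u) (Y : ι → C) (f : ∀ i, Y i ⟶ U), Sieve.ofArrows Y f ∈ J U ∧ ∀ i, Y i ∈ B)
    (n₀ : ℕ)
    (ha : ∀ U ∈ B, ∀ j : ℤ, (j = m - 2 ∨ j = m - 1) →
      CohCx.LimOneIsZero (fun n => ((F n).X j).obj.obj (op U)) (fun n => (((t n).f j).hom.app (op U)).hom))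
    (hb : ∀ U ∈ B, CohCx.LimOneIsZero
      (fun n => ((CohCx.sectCx J U).obj (F n)).homology (m - 1))
      (fun n => (HomologicalComplex.homologyMap ((CohCx.sectCx J U).map (t n)) (m - 1)).hom))
    (hc : ∀ U ∈ B, ∀ k : ℕ, IsIso (HomologicalComplex.homologyMap
      ((CohCx.sectCx J U).map (CohCx.transition F t n₀ k)) m)) :
    IsIso (HomologicalComplex.homologyMap (limit.π (CohCx.opSequence F t) (op n₀)) m) := by
  have hB' : ∀ U : C, sieveB B U ∈ J U := by
    intro U
    obtain ⟨ι, Y, f, hf, hY⟩ := hB U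
    refine J.superset_covering ?_ hf
    rintro V g hg
    obtain ⟨i, a, rfl⟩ := (Sieve.mem_ofArrows_iff Y f g).1 hg
    exact ⟨Y i, a, f i, hY i, rfl⟩
  exact isIso_homologyMap_of_sections J _ _ (limit.π (CohCx.opSequence F t) (op n₀)) m B hB'
    (fun W hW => bijective_sections J F t m W n₀ (ha W hW) (hb W hW) (hc W hW))

end Final

end Groth.Agent.R2.H10.LimCxB
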