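import Mathlib
import Groth.Agent.S2009

/-!
# Power torsion modules and flat base change with `R/I ≅ S/IS`
-/

set_option autoImplicit false
set_option linter.unusedSectionVars false
universe u

namespace Groth.Agent.R2.H10.PowTorsBC

open TensorProduct

variable {R S : Type u} [CommRing R] [CommRing S] [Algebra R S] (I : Ideal R)

/-- The `I`-power torsion submodule. -/
def powTors (N : Type u) [AddCommGroup N] [Module R N] : Submodule R N where
  carrier := {y | ∃ n : ℕ, ∀ a ∈ I ^ n, a • y = 0}
  zero_mem' := ⟨0, fun a _ => smul_zero a⟩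
  add_mem' := by
    rintro x y ⟨n, hn⟩ ⟨k, hk⟩
    refine ⟨max n k, fun a ha => ?_⟩
    rw [smul_add, hn a (Ideal.pow_le_pow_right (le_max_left n k) ha),
      hk a (Ideal.pow_le_pow_right (le_max_right n k) ha), add_zero]
  smul_mem' := by
    rintro c x ⟨n, hn⟩
    exact ⟨n, fun a ha => by rw [smul_comm, hn a ha, smul_zero]⟩

theorem mem_powTors {N : Type u} [AddCommGroup N] [Module R N] (y : N) :
    y ∈ powTors I N ↔ ∃ n : ℕ, ∀ a ∈ I ^ n, a • y = 0 := Iff.rfl

theorem powTors_isTorsion (N : Type u) [AddCommGroup N] [Module R N] :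
    ∀ t : powTors I N, ∃ n : ℕ, ∀ a ∈ I ^ n, a • t = 0 := by
  rintro ⟨t, n, hn⟩
  exact ⟨n, fun a ha => Subtype.ext (hn a ha)⟩

/-- The submodule killed by `I ^ n`. -/
def killed (n : ℕ) (N : Type u) [AddCommGroup N] [Module R N] : Submodule R N where
  carrier := {y | ∀ a ∈ I ^ n, a • y = 0}
  zero_mem' := fun a _ => smul_zero a
  add_mem' := by
    intro x y hx hy a ha
    rw [smul_add, hx a ha, hy a ha, add_zero]
  smul_mem' := by
    intro c x hx a ha
    rw [smul_comm, hx a ha, smul_zero]

theorem killed_le_powTors (n : ℕ) (N : Type u) [AddCommGroup N] [Module R N] :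
    killed I n N ≤ powTors I N := fun _ hy => ⟨n, hy⟩

section Flat

variable [Module.Flat R S]

/-- An element of `S ⊗ N` killed by the finitely generated ideal `I ^ n` comes from
`S ⊗ N[I ^ n]`. -/
theorem mem_range_lTensor_killed (hI : I.FG) (n : ℕ) (N : Type u) [AddCommGroup N] [Module R N]
    (z : S ⊗[R] N) (hz : ∀ a ∈ I ^ n, a • z = 0) :
    z ∈ LinearMap.range ((killed I n N).subtype.lTensor S) := by
  classical
  obtain ⟨s, hs⟩ := Ideal.FG.pow (n := n) hI
  let g : N →ₗ[R] (s → N) := LinearMap.pi fun i => LinearMap.lsmul R N (i : R)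
  have hexact : Function.Exact (killed I n N).subtype g := by
    intro y
    constructor
    · intro hy
      refine ⟨⟨y, fun a ha => ?_⟩, rfl⟩
      rw [← hs] at ha
      induction ha using Submodule.span_induction with
      | mem a has =>
        have := congrFun hy ⟨a, has⟩
        simpa [g] using this
      | zero => simp
      | add a b _ _ ha hb => rw [add_smul, ha, hb, add_zero]
      | smul r a _ ha => rw [smul_eq_mul, mul_smul, ha, smul_zero]
    · rintro ⟨t, rfl⟩
      ext i
      simp only [g, LinearMap.pi_apply, LinearMap.lsmul_apply, Submodule.subtype_apply,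
        Pi.zero_apply]
      exact t.2 i (hs ▸ Submodule.subset_span i.2)
  have hex2 := Module.Flat.lTensor_exact S hexact
  rw [LinearMap.mem_range]
  refine (hex2 z).mp ?_
  apply (TensorProduct.piRight R S S (fun _ : s => N)).injective
  rw [map_zero]
  ext i
  rw [TensorProduct.piRight_apply, Pi.zero_apply]
  have key : ∀ w : S ⊗[R] N,
      TensorProduct.piRightHom R S S (fun _ : s => N) ((g.lTensor S) w) i = (i : R) • w := by
    intro w
    induction w using TensorProduct.induction_on with
    | zero => simp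
    | tmul x y =>
      simp only [g, LinearMap.lTensor_tmul, TensorProduct.piRightHom_tmul, LinearMap.pi_apply,
        LinearMap.lsmul_apply]
      rw [TensorProduct.tmul_smul]
    | add x y hx hy => simp only [map_add, Pi.add_apply, hx, hy, smul_add]
  rw [key]
  exact hz i (hs ▸ Submodule.subset_span i.2)

/-- Torsion elements of `S ⊗ N` come from `S ⊗ (powTors N)`. -/
theorem mem_range_lTensor_powTors (hI : I.FG) (N : Type u) [AddCommGroup N] [Module R N]
    (z : S ⊗[R] N) (hz : ∃ n : ℕ, ∀ a ∈ I ^ n, a • z = 0) :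
    z ∈ LinearMap.range ((powTors I N).subtype.lTensor S) := by
  obtain ⟨n, hn⟩ := hz
  obtain ⟨w, rfl⟩ := mem_range_lTensor_killed I hI n N z hn
  let j : killed I n N →ₗ[R] powTors I N := Submodule.inclusion (killed_le_powTors I n N)
  refine ⟨(j.lTensor S) w, ?_⟩
  rw [← LinearMap.comp_apply, ← LinearMap.lTensor_comp]
  rfl

end Flat


section Main

variable [Module.Flat R S]

/-- `S`-linear maps out of `S ⊗ M` agreeing on `1 ⊗ m` are equal. -/
theorem ext_one_tmul {M : Type u} [AddCommGroup M] [Module R M] {X : Type u} [AddCommGroup X]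
    [Module S X] (h₁ h₂ : S ⊗[R] M →ₗ[S] X) (h : ∀ m : M, h₁ (1 ⊗ₜ m) = h₂ (1 ⊗ₜ m)) :
    h₁ = h₂ := by
  ext w
  induction w using TensorProduct.induction_on with
  | zero => simp
  | tmul s m =>
    have : s ⊗ₜ[R] m = s • ((1 : S) ⊗ₜ[R] m) := by
      rw [TensorProduct.smul_tmul', smul_eq_mul, mul_one]
    rw [this, map_smul, map_smul, h]
  | add x y hx hy => rw [map_add, map_add, hx, hy]

variable (hbij : ∀ (T : Type u) [AddCommGroup T] [Module R T],
    (∀ t : T, ∃ n : ℕ, ∀ a ∈ I ^ n, a • t = 0) → Function.Bijective (TensorProduct.mk R S T 1))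
include hbij

/-- `n ↦ 1 ⊗ n` is injective on the `I`-power torsion. -/
theorem mk_injOn_powTors (N : Type u) [AddCommGroup N] [Module R N] (y : N)
    (hy : y ∈ powTors I N) (h0 : (1 : S) ⊗ₜ[R] y = 0) : y = 0 := by
  have h1 := (hbij (powTors I N) (powTors_isTorsion I N)).1
  have h2 : Function.Injective ((powTors I N).subtype.lTensor S) :=
    Module.Flat.lTensor_preserves_injective_linearMap _ Subtype.val_injective
  have h3 : (TensorProduct.mk R S (powTors I N) 1) ⟨y, hy⟩ = 0 := by
    apply h2
    rw [map_zero, TensorProduct.mk_apply, LinearMap.lTensor_tmul]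
    exact h0
  have := h1 (h3.trans (map_zero _).symm)
  exact congrArg Subtype.val this

theorem baseChange_bijective (hI : I.FG) (M N : Type u) [AddCommGroup M] [Module R M]
    [AddCommGroup N] [Module R N]
    (hMN : (∀ x : M, ∃ n : ℕ, ∀ a ∈ I ^ n, a • x = 0) ∨ (∀ y : N, ∃ n : ℕ, ∀ a ∈ I ^ n, a • y = 0)) :
    Function.Bijective (fun f : M →ₗ[R] N => LinearMap.baseChange S f) := by
  -- in both cases, the image of any map lies in the torsion of `N` or `N` is torsion
  have himage : ∀ (f : M →ₗ[R] N) (m : M), f m ∈ powTors I N := by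
    intro f m
    rcases hMN with hM | hN
    · obtain ⟨n, hn⟩ := hM m
      exact ⟨n, fun a ha => by rw [← map_smul, hn a ha, map_zero]⟩
    · exact hN (f m)
  constructor
  · intro f g hfg
    ext m
    have h1 : (1 : S) ⊗ₜ[R] (f m - g m) = 0 := by
      have := congrArg (fun φ : S ⊗[R] M →ₗ[S] S ⊗[R] N => φ (1 ⊗ₜ m)) hfg
      simp only [LinearMap.baseChange_tmul] at this
      rw [TensorProduct.tmul_sub, this, sub_self]
    have := mk_injOn_powTors I hbij N (f m - g m)
      ((powTors I N).sub_mem (himage f m) (himage g m)) h1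
    exact sub_eq_zero.mp this
  · intro h
    -- every `h (1 ⊗ m)` is torsion in `S ⊗ N`, hence of the form `1 ⊗ t` for a unique torsion `t`
    have hex : ∀ m : M, ∃ t : powTors I N, (1 : S) ⊗ₜ[R] (t : N) = h (1 ⊗ₜ m) := by
      intro m
      have htors : ∃ n : ℕ, ∀ a ∈ I ^ n, a • h (1 ⊗ₜ[R] m) = 0 := by
        rcases hMN with hM | hN
        · obtain ⟨n, hn⟩ := hM m
          refine ⟨n, fun a ha => ?_⟩
          have h1 : a • h (1 ⊗ₜ[R] m) = h (a • ((1 : S) ⊗ₜ[R] m)) := by
            rw [← algebraMap_smul S a (h (1 ⊗ₜ[R] m)), ← algebraMap_smul S a ((1 : S) ⊗ₜ[R] m),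
              map_smul]
          rw [h1, ← TensorProduct.tmul_smul, hn a ha, TensorProduct.tmul_zero, map_zero]
        · -- `S ⊗ N` is bijective image of `N`
          obtain ⟨y, hy⟩ := (hbij N hN).2 (h (1 ⊗ₜ[R] m))
          obtain ⟨n, hn⟩ := hN y
          refine ⟨n, fun a ha => ?_⟩
          rw [← hy, TensorProduct.mk_apply, ← TensorProduct.tmul_smul, hn a ha,
            TensorProduct.tmul_zero]
      obtain ⟨w, hw⟩ := mem_range_lTensor_powTors I hI N _ htors
      obtain ⟨t, rfl⟩ := (hbij (powTors I N) (powTors_isTorsion I N)).2 w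
      refine ⟨t, ?_⟩
      rw [← hw, TensorProduct.mk_apply, LinearMap.lTensor_tmul]
      rfl
    choose φ hφ using hex
    have huniq : ∀ (m : M) (t : N), t ∈ powTors I N → (1 : S) ⊗ₜ[R] t = h (1 ⊗ₜ m) →
        t = φ m := by
      intro m t ht hth
      have h1 : (1 : S) ⊗ₜ[R] (t - (φ m : N)) = 0 := by
        rw [TensorProduct.tmul_sub, hth, hφ m, sub_self]
      exact sub_eq_zero.mp (mk_injOn_powTors I hbij N _
        ((powTors I N).sub_mem ht (φ m).2) h1)
    let f : M →ₗ[R] N :=
      { toFun := fun m => (φ m : N)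
        map_add' := fun m m' => by
          symm
          apply huniq
          · exact (powTors I N).add_mem (φ m).2 (φ m').2
          · rw [TensorProduct.tmul_add, hφ, hφ, TensorProduct.tmul_add, map_add]
        map_smul' := fun r m => by
          symm
          apply huniq
          · exact (powTors I N).smul_mem r (φ m).2
          · simp only [RingHom.id_apply]
            rw [TensorProduct.tmul_smul, hφ, TensorProduct.tmul_smul,
              ← algebraMap_smul S r (h (1 ⊗ₜ[R] m)), ← algebraMap_smul S r ((1 : S) ⊗ₜ[R] m),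
              map_smul] }
    refine ⟨f, ?_⟩
    apply ext_one_tmul
    intro m
    simp only [LinearMap.baseChange_tmul]
    exact hφ m

end Main

end Groth.Agent.R2.H10.PowTorsBC
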