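import Groth.Agent.Lib.Helper17Hyp9

/-!
# Derived limit of an inverse system of objects placed in degree zero (helper10)

Namespace `Groth.Agent.R2.H10.RlimSingle`.

Abstract setting of helper17's `LocFr`: an abelian category `A`, a site `C`, `fr : C ⥤ A` behaving like "free sheaf on
an object".  For an inverse system `F n` in `A` with "limit" `M` and a covering class `B` of objects on which the `F n`
are acyclic and `R^1 lim` of the sections vanishes, `M[0]` is a derived limit of the `F n [0]` and is acyclic on `B`.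
-/

set_option autoImplicit false
set_option linter.unusedSectionVars false

universe w w' v v' u u'

open CategoryTheory CategoryTheory.Limits HomologicalComplex DerivedCategory
open Groth.Agent.Lib.Helper17.Hyp

namespace Groth.Agent.R2.H10.RlimSingle

variable {A : Type u} [Category.{v} A] [Abelian A] [HasDerivedCategory.{w} A]

/-- vanishing of `Hom(P[0], G[0][j])` for `j < 0`. -/
theorem subsingleton_hom_neg (P G : A) (j : ℤ) (hj : j < 0) :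
    Subsingleton (dsgl P ⟶ ((singleFunctor A 0).obj G)⟦j⟧) := by
  have : (dsgl P).IsLE 0 := inferInstanceAs (((singleFunctor A 0).obj P).IsLE 0)
  have h1 : TStructure.t.IsGE (((singleFunctor A 0).obj G)⟦j⟧) (-j) :=
    TStructure.t.isGE_shift ((singleFunctor A 0).obj G) 0 j (-j) (by omega)
  have : TStructure.t.IsGE (((singleFunctor A 0).obj G)⟦j⟧) 1 :=
    TStructure.t.isGE_of_ge _ 1 (-j) (by omega)
  exact ⟨fun y y' => by
    rw [TStructure.t.zero y 0 1 (by omega), TStructure.t.zero y' 0 1 (by omega)]⟩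

/-- `cm` on `Hom(P[0], K[0])` is `c₀` after removing the shift by zero. -/
lemma cm_zero_shift {P : A} {K : DerivedCategory A} (ξ : dsgl P ⟶ K⟦(0 : ℤ)⟧) :
    cm ξ = c₀ (ξ ≫ (shiftFunctorZero (DerivedCategory A) ℤ).hom.app K) := by
  dsimp only [cm, shIso]
  rw [c₀_comp]
  congr 1
  exact (homologyFunctor A 0).shiftIso_zero_hom_app 0 K

/-- `g[0]` as a map `P[0] ⟶ G[0]`. -/
noncomputable abbrev sMap {P G : A} (g : P ⟶ G) : dsgl P ⟶ dsgl G :=
  Q.map ((HomologicalComplex.single A (ComplexShape.up ℤ) 0).map g)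

lemma sMap_surjective {P G : A} (ξ : dsgl P ⟶ dsgl G) : ∃ g : P ⟶ G, sMap g = ξ :=
  (singleFunctor A 0).map_surjective ξ

lemma sMap_comp {P G G' : A} (g : P ⟶ G) (g' : G ⟶ G') : sMap (g ≫ g') = sMap g ≫ sMap g' := by
  dsimp only [sMap]
  rw [Functor.map_comp, Functor.map_comp]

lemma c₀_sMap {P G : A} (g : P ⟶ G) : c₀ (sMap g) = g ≫ (e₀ G).inv := by
  have h := c₀_precomp g (𝟙 (dsgl G))
  have h2 : c₀ (𝟙 (dsgl G)) = (e₀ G).inv := by
    dsimp only [c₀]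
    rw [CategoryTheory.Functor.map_id, Category.comp_id]
  rw [Category.comp_id, h2] at h
  exact h

/-- `Hom(P[0], G[0][0]) → Hom(P, G)`. -/
noncomputable def θ₀ (P G : A) (ξ : dsgl P ⟶ (dsgl G)⟦(0 : ℤ)⟧) : P ⟶ G :=
  cm ξ ≫ (e₀ G).hom

/-- `Hom(P, G) → Hom(P[0], G[0][0])`. -/
noncomputable def ρ₀ (P G : A) (g : P ⟶ G) : dsgl P ⟶ (dsgl G)⟦(0 : ℤ)⟧ :=
  sMap g ≫ (shiftFunctorZero (DerivedCategory A) ℤ).inv.app (dsgl G)

lemma θ₀_ρ₀ (P G : A) (g : P ⟶ G) : θ₀ P G (ρ₀ P G g) = g := by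
  dsimp only [θ₀, ρ₀]
  rw [cm_zero_shift, Category.assoc, Iso.inv_hom_id_app]
  erw [Category.comp_id]
  rw [c₀_sMap, Category.assoc, Iso.inv_hom_id, Category.comp_id]

lemma ρ₀_θ₀ (P G : A) (ξ : dsgl P ⟶ (dsgl G)⟦(0 : ℤ)⟧) :
    ρ₀ P G (θ₀ P G ξ) = ξ := by
  obtain ⟨g, hg⟩ := sMap_surjective (ξ ≫ (shiftFunctorZero (DerivedCategory A) ℤ).hom.app (dsgl G))
  have hξ : ξ = ρ₀ P G g := by
    dsimp only [ρ₀]
    rw [hg, Category.assoc, Iso.hom_inv_id_app, Category.comp_id]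
  rw [hξ, θ₀_ρ₀]

lemma θ₀_sub (P G : A) (ξ ξ' : dsgl P ⟶ (dsgl G)⟦(0 : ℤ)⟧) :
    θ₀ P G (ξ - ξ') = θ₀ P G ξ - θ₀ P G ξ' := by
  dsimp only [θ₀]
  rw [cm_sub, Preadditive.sub_comp]

lemma θ₀_comp (P : A) {G G' : A} (g : G ⟶ G') (ξ : dsgl P ⟶ (dsgl G)⟦(0 : ℤ)⟧) :
    θ₀ P G' (ξ ≫ (sMap g)⟦(0 : ℤ)⟧') = θ₀ P G ξ ≫ g := by
  dsimp only [θ₀]
  rw [cm_comp, Category.assoc, Category.assoc]
  congr 1
  exact (e₀NatIso (A := A)).hom.naturality g

/-- the general-index version, for an index `j` which is equal to `0`. -/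
noncomputable def θ (P G : A) (j : ℤ) (hj : j = 0) (ξ : dsgl P ⟶ (dsgl G)⟦j⟧) : P ⟶ G := by
  subst hj
  exact θ₀ P G ξ

lemma θ_injective (P G : A) (j : ℤ) (hj : j = 0) : Function.Injective (θ P G j hj) := by
  subst hj
  intro ξ ξ' h
  change θ₀ P G ξ = θ₀ P G ξ' at h
  rw [← ρ₀_θ₀ P G ξ, ← ρ₀_θ₀ P G ξ', h]

lemma θ_surjective (P G : A) (j : ℤ) (hj : j = 0) : Function.Surjective (θ P G j hj) := by
  subst hj
  intro g
  exact ⟨ρ₀ P G g, θ₀_ρ₀ P G g⟩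

lemma θ_sub (P G : A) (j : ℤ) (hj : j = 0) (ξ ξ' : dsgl P ⟶ (dsgl G)⟦j⟧) :
    θ P G j hj (ξ - ξ') = θ P G j hj ξ - θ P G j hj ξ' := by
  subst hj
  exact θ₀_sub P G ξ ξ'

lemma θ_comp (P : A) {G G' : A} (g : G ⟶ G') (j : ℤ) (hj : j = 0) (ξ : dsgl P ⟶ (dsgl G)⟦j⟧) :
    θ P G' j hj (ξ ≫ (sMap g)⟦j⟧') = θ P G j hj ξ ≫ g := by
  subst hj
  exact θ₀_comp P g ξ

lemma θ_eq_cm (P G : A) (ξ : dsgl P ⟶ (dsgl G)⟦(0 : ℤ)⟧) :
    θ P G 0 rfl ξ = cm ξ ≫ (e₀ G).hom := rfl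

section LimOne

universe x y

lemma limOneIsZero_of_subsingleton (G : ℕ → Type x) [∀ n, AddCommGroup (G n)]
    (t : ∀ n, G (n + 1) →+ G n) (hG : ∀ n, Subsingleton (G n)) : CohCx.LimOneIsZero G t := by
  intro b
  refine ⟨fun _ => 0, ?_⟩
  funext n
  exact Subsingleton.elim _ _

lemma limOneIsZero_of_equiv (G : ℕ → Type x) [∀ n, AddCommGroup (G n)]
    (G' : ℕ → Type y) [∀ n, AddCommGroup (G' n)]
    (t : ∀ n, G (n + 1) →+ G n) (t' : ∀ n, G' (n + 1) →+ G' n)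
    (e : ∀ n, G n → G' n) (he_inj : ∀ n, Function.Injective (e n))
    (he_surj : ∀ n, Function.Surjective (e n))
    (he_sub : ∀ n a b, e n (a - b) = e n a - e n b)
    (he_t : ∀ n a, e n (t n a) = t' n (e (n + 1) a))
    (h : CohCx.LimOneIsZero G' t') : CohCx.LimOneIsZero G t := by
  intro b
  obtain ⟨a', ha'⟩ := h (fun n => e n (b n))
  choose a ha using fun n => he_surj n (a' n)
  refine ⟨a, ?_⟩
  funext n
  apply he_inj n
  have := congrFun ha' n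
  simp only at this
  rw [he_sub, he_t, ha, ha, this]

end LimOne

section Main

variable {C : Type u'} [Category.{v'} C] {J : GrothendieckTopology C} {fr : C ⥤ A}

/-- the inverse system in the derived category -/
noncomputable abbrev KK (F : ℕ → A) : ℕ → DerivedCategory A := fun n => dsgl (F n)

/-- its transition maps -/
noncomputable abbrev tK {F : ℕ → A} (t : ∀ n, F (n + 1) ⟶ F n) (n : ℕ) : KK F (n + 1) ⟶ KK F n :=
  sMap (t n)

/-- the sieve of arrows factoring through a member of `B`. -/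
def sieveB (B : Set C) (U : C) : Sieve U where
  arrows V g := ∃ (W : C) (k : V ⟶ W) (g' : W ⟶ U), W ∈ B ∧ k ≫ g' = g
  downward_closed := by
    rintro V V' g ⟨W, k, g', hW, rfl⟩ l
    exact ⟨W, l ≫ k, g', hW, Category.assoc _ _ _⟩

variable {F : ℕ → A} {t : ∀ n, F (n + 1) ⟶ F n} [HasProduct (KK F)]
  {L : DerivedCategory A} {a : ∀ n, L ⟶ KK F n}

theorem subsingleton_hom_L (hL : CohCx.IsRlimVia (KK F) (tK t) L a) (P : A) (m : ℤ)
    (hm : ∀ n, Subsingleton (dsgl P ⟶ (KK F n)⟦m⟧))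
    (hlim : CohCx.LimOneIsZero (fun n => dsgl P ⟶ (KK F n)⟦m - 1⟧)
      (fun n => Preadditive.rightComp _ ((tK t n)⟦m - 1⟧'))) :
    Subsingleton (dsgl P ⟶ L⟦m⟧) := by
  have key := (Groth.Agent.S0943.milnor_general hL (dsgl P) m).2 hlim
  refine ⟨fun y y' => ?_⟩
  rw [key y (fun n => (hm n).elim _ _), key y' (fun n => (hm n).elim _ _)]

variable (B : Set C)

theorem subsingleton_hom_K (U : C)
    (h1 : ∀ (k n : ℕ), Subsingleton (dsgl (fr.obj U) ⟶ (KK F n)⟦((k + 1 : ℕ) : ℤ)⟧))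
    (n : ℕ) (j : ℤ) (hj : j ≠ 0) : Subsingleton (dsgl (fr.obj U) ⟶ (KK F n)⟦j⟧) := by
  rcases lt_or_gt_of_ne hj with hj' | hj'
  · exact subsingleton_hom_neg _ _ j hj'
  · obtain ⟨k, rfl⟩ : ∃ k : ℕ, j = ((k + 1 : ℕ) : ℤ) := ⟨(j - 1).toNat, by push_cast; omega⟩
    exact h1 k n

theorem subsingleton_hom_L_of_mem (hL : CohCx.IsRlimVia (KK F) (tK t) L a) (U : C)
    (h1 : ∀ (k n : ℕ), Subsingleton (dsgl (fr.obj U) ⟶ (KK F n)⟦((k + 1 : ℕ) : ℤ)⟧))
    (h2 : CohCx.LimOneIsZero (fun n => fr.obj U ⟶ F n) (fun n => Preadditive.rightComp _ (t n)))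
    (m : ℤ) (hm : m ≠ 0) : Subsingleton (dsgl (fr.obj U) ⟶ L⟦m⟧) := by
  apply subsingleton_hom_L hL (fr.obj U) m (fun n => subsingleton_hom_K U h1 n m hm)
  by_cases hm1 : m = 1
  · have hj : m - 1 = 0 := by omega
    refine limOneIsZero_of_equiv _ _ _ _ (fun n => θ (fr.obj U) (F n) (m - 1) hj)
      (fun n => θ_injective _ _ _ hj) (fun n => θ_surjective _ _ _ hj)
      (fun n => θ_sub _ _ _ hj) (fun n ξ => ?_) h2
    exact θ_comp (fr.obj U) (t n) (m - 1) hj ξ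
  · exact limOneIsZero_of_subsingleton _ _
      (fun n => subsingleton_hom_K U h1 n (m - 1) (by omega))

omit [HasDerivedCategory.{w} A] in
theorem epi_of_local_lift' (h : LocFr J fr) {G G' : A} (φ : G ⟶ G')
    (hφ : ∀ (U : C) (s : fr.obj U ⟶ G'), ∃ T : Sieve U, T ∈ J U ∧
      ∀ ⦃V : C⦄ (g : V ⟶ U), T g → ∃ s' : fr.obj V ⟶ G, s' ≫ φ = fr.map g ≫ s) : Epi φ := by
  apply Abelian.epi_of_cokernel_π_eq_zero
  apply h.gen
  intro U s
  obtain ⟨T, hT, hT'⟩ := hφ U s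
  refine h.sep U _ T hT ?_
  intro V g hg
  obtain ⟨s', hs'⟩ := hT' g hg
  rw [← Category.assoc, ← hs', Category.assoc, cokernel.condition, comp_zero]

/-- a generalized section which dies on a covering by objects on which all lifts vanish is zero. -/
theorem isZero_homology_L [IsGrothendieckAbelian.{w'} A] (h : LocFr J fr)
    (hB : ∀ U : C, sieveB B U ∈ J U) (q : ℤ)
    (hvan : ∀ W ∈ B, Subsingleton (dsgl (fr.obj W) ⟶ L⟦q⟧)) :
    IsZero ((homologyFunctor A q).obj L) := by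
  rw [IsZero.iff_id_eq_zero]
  apply h.gen
  intro U s
  rw [Category.comp_id]
  obtain ⟨T, hT, hT'⟩ := exists_lift_cm h L q U s
  refine h.sep U s (Sieve.bind T (fun V f _ => sieveB B V))
    (J.bind_covering hT (fun V f _ => hB V)) ?_
  rintro W' _ ⟨V, g, f, hf, ⟨W, k, g', hW, rfl⟩, rfl⟩
  obtain ⟨ξ, hξ⟩ := hT' f hf
  have h0 : res fr g' ξ = 0 := (hvan W hW).elim _ _
  have h1 : fr.map g' ≫ fr.map f ≫ s = 0 := by
    rw [← hξ, ← cm_res, h0, cm_zero]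
  rw [Functor.map_comp, Functor.map_comp, Category.assoc, Category.assoc, h1, comp_zero]

variable {M : A} {p : ∀ n, M ⟶ F n} {ψ : dsgl M ⟶ L}

theorem mono_homology_ψ (h : LocFr J fr) (hψ : ∀ n, ψ ≫ a n = sMap (p n))
    (hM1 : ∀ (U : C) (s : fr.obj U ⟶ M), (∀ n, s ≫ p n = 0) → s = 0) :
    Mono ((homologyFunctor A 0).map ψ) := by
  apply Preadditive.mono_of_cancel_zero
  intro Z g hg
  apply h.gen
  intro U s
  have hs' : (s ≫ g) ≫ (homologyFunctor A 0).map ψ = 0 := by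
    rw [Category.assoc, hg, comp_zero]
  have hσ : (s ≫ g) ≫ (e₀ M).hom = 0 := by
    apply hM1
    intro n
    have hnat : (e₀ M).hom ≫ p n = (homologyFunctor A 0).map (sMap (p n)) ≫ (e₀ (F n)).hom :=
      ((e₀NatIso (A := A)).hom.naturality (p n)).symm
    rw [Category.assoc, hnat, ← hψ n, Functor.map_comp, ← Category.assoc, ← Category.assoc, hs',
      zero_comp, zero_comp]
  rw [← cancel_mono (e₀ M).hom, hσ, zero_comp]

theorem epi_homology_ψ (h : LocFr J fr) (hL : CohCx.IsRlimVia (KK F) (tK t) L a)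
    (hψ : ∀ n, ψ ≫ a n = sMap (p n))
    (hM2 : ∀ (U : C) (x : ∀ n, fr.obj U ⟶ F n), (∀ n, x (n + 1) ≫ t n = x n) →
      ∃ s : fr.obj U ⟶ M, ∀ n, s ≫ p n = x n) :
    Epi ((homologyFunctor A 0).map ψ) := by
  apply epi_of_local_lift' h
  intro U s
  obtain ⟨T, hT, hT'⟩ := exists_lift_cm h L 0 U s
  refine ⟨T, hT, fun V f hf => ?_⟩
  obtain ⟨ξ, hξ⟩ := hT' f hf
  -- the components of `ξ`
  let x : ∀ n, fr.obj V ⟶ F n := fun n => θ (fr.obj V) (F n) 0 rfl (ξ ≫ (a n)⟦(0 : ℤ)⟧')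
  have hx : ∀ n, x (n + 1) ≫ t n = x n := by
    intro n
    dsimp only [x]
    rw [← θ_comp (fr.obj V) (t n) 0 rfl, Category.assoc, ← Functor.map_comp]
    congr 3
    exact isRlimVia_comp_t hL n
  obtain ⟨σ, hσ⟩ := hM2 V x hx
  let η : dsgl (fr.obj V) ⟶ (dsgl M)⟦(0 : ℤ)⟧ := ρ₀ (fr.obj V) M σ
  have hη : θ (fr.obj V) M 0 rfl η = σ := θ₀_ρ₀ _ _ σ
  have hcomp : ∀ n, (η ≫ ψ⟦(0 : ℤ)⟧' - ξ) ≫ (a n)⟦(0 : ℤ)⟧' = 0 := by
    intro n
    rw [Preadditive.sub_comp, sub_eq_zero]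
    apply θ_injective (fr.obj V) (F n) 0 rfl
    rw [Category.assoc, ← Functor.map_comp, hψ n, θ_comp, hη, hσ]
  have hlim : CohCx.LimOneIsZero (fun n => dsgl (fr.obj V) ⟶ (KK F n)⟦(0 : ℤ) - 1⟧)
      (fun n => Preadditive.rightComp _ ((tK t n)⟦(0 : ℤ) - 1⟧')) :=
    limOneIsZero_of_subsingleton _ _ (fun n => subsingleton_hom_neg _ _ _ (by omega))
  have hzero := (Groth.Agent.S0943.milnor_general hL (dsgl (fr.obj V)) 0).2 hlim _ hcomp
  have hηψ : η ≫ ψ⟦(0 : ℤ)⟧' = ξ := sub_eq_zero.1 hzero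
  refine ⟨cm η, ?_⟩
  rw [← cm_comp, hηψ, hξ]

end Main

section Final

variable {C : Type u'} [Category.{v'} C] {J : GrothendieckTopology C} {fr : C ⥤ A}

/-- Main abstract theorem. -/
theorem isRlimVia_single [IsGrothendieckAbelian.{w'} A] (h : LocFr J fr)
    (F : ℕ → A) (t : ∀ n, F (n + 1) ⟶ F n) [HasProduct (KK F)]
    (M : A) (p : ∀ n, M ⟶ F n) (hp : ∀ n, p (n + 1) ≫ t n = p n)
    (hM1 : ∀ (U : C) (s : fr.obj U ⟶ M), (∀ n, s ≫ p n = 0) → s = 0)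
    (hM2 : ∀ (U : C) (x : ∀ n, fr.obj U ⟶ F n), (∀ n, x (n + 1) ≫ t n = x n) →
      ∃ s : fr.obj U ⟶ M, ∀ n, s ≫ p n = x n)
    (B : Set C) (hB : ∀ U : C, sieveB B U ∈ J U)
    (h1 : ∀ U ∈ B, ∀ (k n : ℕ), Subsingleton (dsgl (fr.obj U) ⟶ (KK F n)⟦((k + 1 : ℕ) : ℤ)⟧))
    (h2 : ∀ U ∈ B, CohCx.LimOneIsZero (fun n => fr.obj U ⟶ F n)
      (fun n => Preadditive.rightComp _ (t n))) :
    CohCx.IsRlimVia (KK F) (tK t) (dsgl M) (fun n => sMap (p n)) ∧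
      ∀ U ∈ B, ∀ m : ℤ, m ≠ 0 → Subsingleton (dsgl (fr.obj U) ⟶ (dsgl M)⟦m⟧) := by
  obtain ⟨L, a, hL⟩ := exists_isRlimVia (KK F) (tK t)
  obtain ⟨ψ, hψ⟩ := exists_lift_to_rlim hL (fun n => sMap (p n))
    (fun n => by rw [← sMap_comp, hp])
  have hvan : ∀ U ∈ B, ∀ m : ℤ, m ≠ 0 → Subsingleton (dsgl (fr.obj U) ⟶ L⟦m⟧) :=
    fun U hU m hm => subsingleton_hom_L_of_mem hL U (h1 U hU) (h2 U hU) m hm
  have hiso : IsIso ψ := by
    rw [DerivedCategory.isIso_iff]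
    intro q
    by_cases hq : q = 0
    · subst hq
      haveI := mono_homology_ψ h hψ hM1
      haveI := epi_homology_ψ h hL hψ hM2
      exact isIso_of_mono_of_epi _
    · have hz1 : IsZero ((homologyFunctor A q).obj (dsgl M)) := by
        rcases lt_or_gt_of_ne hq with hq' | hq'
        · exact isZero_of_isGE ((singleFunctor A 0).obj M) 0 q hq'
        · exact isZero_of_isLE ((singleFunctor A 0).obj M) 0 q hq'
      have hz2 := isZero_homology_L.{w, w'} B h hB q (fun W hW => hvan W hW q hq)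
      exact ⟨⟨0, hz1.eq_of_src _ _, hz2.eq_of_src _ _⟩⟩
  refine ⟨isRlimVia_of_iso hL ψ _ hψ, fun U hU m hm => ?_⟩
  have := hvan U hU m hm
  exact ⟨fun y y' => by
    rw [← cancel_mono (ψ⟦m⟧')]
    exact Subsingleton.elim _ _⟩

end Final

end Groth.Agent.R2.H10.RlimSingle
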