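import Groth.Agent.Lib.Helper17KInjD4
import Groth.Agent.Lib.Helper17Hyp6
import Groth.Agent.R2.H10RlimSingle
import Groth.Agent.R2.H10CohAcyc
import Mathlib.CategoryTheory.Shift.Adjunction
import Mathlib.CategoryTheory.Adjunction.Additive

/-!
# The unbounded derived functor of a right adjoint of an exact functor (helper10)

Namespace `Groth.Agent.R2.H10.PushD`.

For an adjunction `F ⊣ G` between abelian categories `A`, `B` with `F` exact and `B` Grothendieck abelian:
* `RG G : D(B) ⥤ D(A)`, the total right derived functor, with `Adj : F.mapDerivedCategory ⊣ RG G`;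
* `E P M : (dsgl (F P) ⟶ M) ≃+ (dsgl P ⟶ RG M)`, natural in `P`;
* `shiftEquiv`: `(dsgl P ⟶ (RG M)⟦j⟧) ≃ (dsgl P ⟶ RG (M⟦j⟧))`.
-/

set_option autoImplicit false
set_option linter.unusedSectionVars false

universe w w₁ w₂ v v' u u'

open CategoryTheory CategoryTheory.Limits HomologicalComplex DerivedCategory
open Groth.Agent.Lib.Helper17.KInj Groth.Agent.Lib.Helper17.Hyp Groth.Agent.R2.H10.RlimSingle

namespace Groth.Agent.R2.H10.PushD

section

variable {A : Type u} [Category.{v} A] [Abelian A] {B : Type u'} [Category.{v'} B] [Abelian B]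
  [IsGrothendieckAbelian.{w} B] [HasDerivedCategory.{w₁} A] [HasDerivedCategory.{w₂} B]
  (F : A ⥤ B) (G : B ⥤ A) (adj : F ⊣ G) [F.Additive] [G.Additive]
  [PreservesFiniteLimits F] [PreservesFiniteColimits F]

/-- the functor to be derived. -/
noncomputable abbrev preRG : CochainComplex B ℤ ⥤ DerivedCategory A :=
  G.mapHomologicalComplex (ComplexShape.up ℤ) ⋙ DerivedCategory.Q

instance hasPointwise : (preRG G).HasPointwiseRightDerivedFunctor
    (HomologicalComplex.quasiIso B (ComplexShape.up ℤ)) :=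
  (fibLocalizerMorphism_derives (preRG G)
    (isInvertedBy_mapHomologicalComplex_comp_Q G)).hasPointwiseRightDerivedFunctor

/-- the total right derived functor of `G`. -/
noncomputable def RG : DerivedCategory B ⥤ DerivedCategory A :=
  (preRG G).totalRightDerived DerivedCategory.Q (HomologicalComplex.quasiIso B (ComplexShape.up ℤ))

/-- its unit. -/
noncomputable def β : preRG G ⟶ DerivedCategory.Q ⋙ RG G :=
  (preRG G).totalRightDerivedUnit DerivedCategory.Q (HomologicalComplex.quasiIso B (ComplexShape.up ℤ))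

instance : (RG G).IsRightDerivedFunctor (β G) (HomologicalComplex.quasiIso B (ComplexShape.up ℤ)) := by
  dsimp only [RG, β]
  infer_instance

/-- the derived adjunction. -/
noncomputable def Adj : F.mapDerivedCategory ⊣ RG G := derivedAdjunction F G adj (RG G) (β G)

/-- `F_D (P[0]) ≅ (F P)[0]`. -/
noncomputable def tauP (P : A) : F.mapDerivedCategory.obj (dsgl P) ≅ dsgl (F.obj P) :=
  (F.mapDerivedCategorySingleFunctor 0).app P

lemma tauP_naturality {P P' : A} (g : P ⟶ P') :
    F.mapDerivedCategory.map (sMap g) ≫ (tauP F P').hom = (tauP F P).hom ≫ sMap (F.map g) :=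
  (F.mapDerivedCategorySingleFunctor 0).hom.naturality g

/-- `Hom((F P)[0], M) ≃+ Hom(P[0], RG M)`. -/
noncomputable def E (P : A) (M : DerivedCategory B) :
    (dsgl (F.obj P) ⟶ M) ≃+ (dsgl P ⟶ (RG G).obj M) :=
  AddEquiv.trans
    { toFun := fun ξ => (tauP F P).hom ≫ ξ
      invFun := fun ξ => (tauP F P).inv ≫ ξ
      left_inv := fun ξ => by
        change (tauP F P).inv ≫ (tauP F P).hom ≫ ξ = ξ
        rw [Iso.inv_hom_id_assoc]
      right_inv := fun ξ => by
        change (tauP F P).hom ≫ (tauP F P).inv ≫ ξ = ξ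
        rw [Iso.hom_inv_id_assoc]
      map_add' := fun ξ ξ' => Preadditive.comp_add _ _ _ _ _ _ }
    ((Adj F G adj).homAddEquiv (dsgl P) M)

lemma E_apply (P : A) (M : DerivedCategory B) (ξ : dsgl (F.obj P) ⟶ M) :
    E F G adj P M ξ = (Adj F G adj).homEquiv _ _ ((tauP F P).hom ≫ ξ) := rfl

lemma E_naturality {P P' : A} (g : P ⟶ P') (M : DerivedCategory B) (ξ : dsgl (F.obj P') ⟶ M) :
    E F G adj P M (sMap (F.map g) ≫ ξ) = sMap g ≫ E F G adj P' M ξ := by
  rw [E_apply, E_apply, ← Category.assoc, ← tauP_naturality, Category.assoc,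
    Adjunction.homEquiv_naturality_left]

/-- `RG` commutes with shifts. -/
@[instance_reducible]
noncomputable def commShiftRG : (RG G).CommShift ℤ := (Adj F G adj).rightAdjointCommShift ℤ

/-- `Hom(P[0], RG(M)[j]) ≃ Hom((F P)[0], M[j])`. -/
noncomputable def Eshift (P : A) (M : DerivedCategory B) (j : ℤ) :
    (dsgl (F.obj P) ⟶ M⟦j⟧) ≃ (dsgl P ⟶ ((RG G).obj M)⟦j⟧) :=
  letI := commShiftRG F G adj
  (E F G adj P (M⟦j⟧)).toEquiv.trans
    { toFun := fun ξ => ξ ≫ ((RG G).commShiftIso j).hom.app M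
      invFun := fun ξ => ξ ≫ ((RG G).commShiftIso j).inv.app M
      left_inv := fun ξ => by
        change (ξ ≫ ((RG G).commShiftIso j).hom.app M) ≫ ((RG G).commShiftIso j).inv.app M = ξ
        rw [Category.assoc, Iso.hom_inv_id_app]
        exact Category.comp_id ξ
      right_inv := fun ξ => by
        change (ξ ≫ ((RG G).commShiftIso j).inv.app M) ≫ ((RG G).commShiftIso j).hom.app M = ξ
        rw [Category.assoc, Iso.inv_hom_id_app]
        exact Category.comp_id ξ }

end

section Site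

variable {A : Type u} [Category.{v} A] [Abelian A] [HasDerivedCategory.{w} A]
  {C : Type u'} [Category.{v'} C] {J : GrothendieckTopology C} {fr : C ⥤ A}

/-- An object whose negative hypercohomology vanishes on a covering class lies in `D^{≥ 0}`. -/
theorem isGE_of_vanishing [IsGrothendieckAbelian.{w₁} A] (h : LocFr J fr) (B : Set C)
    (hB : ∀ U : C, sieveB B U ∈ J U) (N : DerivedCategory A)
    (hvan : ∀ W ∈ B, ∀ q : ℤ, q < 0 → Subsingleton (dsgl (fr.obj W) ⟶ N⟦q⟧)) : N.IsGE 0 := by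
  rw [isGE_iff]
  intro i hi
  exact isZero_homology_L B h hB i (fun W hW => hvan W hW i hi)

theorem subsingleton_hom_of_isGE (P : A) (N : DerivedCategory A) [N.IsGE 0] (j : ℤ) (hj : j < 0) :
    Subsingleton (dsgl P ⟶ N⟦j⟧) := by
  have : (dsgl P).IsLE 0 := inferInstanceAs (((singleFunctor A 0).obj P).IsLE 0)
  have h1 : TStructure.t.IsGE (N⟦j⟧) (-j) := TStructure.t.isGE_shift N 0 j (-j) (by omega)
  have : TStructure.t.IsGE (N⟦j⟧) 1 := TStructure.t.isGE_of_ge _ 1 (-j) (by omega)
  exact ⟨fun y y' => by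
    rw [TStructure.t.zero y 0 1 (by omega), TStructure.t.zero y' 0 1 (by omega)]⟩

/-- For `N ∈ D^{≥ 0}`: `Hom(P[0], N) ≃+ Hom(P, H^0 N)`. -/
noncomputable def c₀Equiv (P : A) (N : DerivedCategory A) [N.IsGE 0] :
    (dsgl P ⟶ N) ≃+ (P ⟶ (homologyFunctor A 0).obj N) :=
  AddEquiv.ofBijective
    ({ toFun := fun ξ => c₀ ξ
       map_zero' := c₀_zero
       map_add' := c₀_add } : (dsgl P ⟶ N) →+ (P ⟶ (homologyFunctor A 0).obj N))
    (Groth.Agent.R2.H10.CohAcyc.bijective_c₀_of_isGE P N)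

lemma c₀Equiv_apply (P : A) (N : DerivedCategory A) [N.IsGE 0] (ξ : dsgl P ⟶ N) :
    c₀Equiv P N ξ = c₀ ξ := rfl

end Site

section ShiftAdd

variable {A : Type u} [Category.{v} A] [Abelian A] {B : Type u'} [Category.{v'} B] [Abelian B]
  [IsGrothendieckAbelian.{w} B] [HasDerivedCategory.{w₁} A] [HasDerivedCategory.{w₂} B]
  (F : A ⥤ B) (G : B ⥤ A) (adj : F ⊣ G) [F.Additive] [G.Additive]
  [PreservesFiniteLimits F] [PreservesFiniteColimits F]

/-- additive version of `Eshift`. -/
noncomputable def EshiftAdd (P : A) (M : DerivedCategory B) (j : ℤ) :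
    (dsgl (F.obj P) ⟶ M⟦j⟧) ≃+ (dsgl P ⟶ ((RG G).obj M)⟦j⟧) :=
  { Eshift F G adj P M j with
    map_add' := fun ξ ξ' => by
      letI := commShiftRG F G adj
      change (E F G adj P (M⟦j⟧)) (ξ + ξ') ≫ ((RG G).commShiftIso j).hom.app M =
        (E F G adj P (M⟦j⟧)) ξ ≫ ((RG G).commShiftIso j).hom.app M +
          (E F G adj P (M⟦j⟧)) ξ' ≫ ((RG G).commShiftIso j).hom.app M
      rw [map_add, Preadditive.add_comp] }

lemma EshiftAdd_apply (P : A) (M : DerivedCategory B) (j : ℤ) (ξ : dsgl (F.obj P) ⟶ M⟦j⟧) :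
    letI := commShiftRG F G adj
    EshiftAdd F G adj P M j ξ = E F G adj P (M⟦j⟧) ξ ≫ ((RG G).commShiftIso j).hom.app M := rfl

lemma EshiftAdd_naturality {P P' : A} (g : P ⟶ P') (M : DerivedCategory B) (j : ℤ)
    (ξ : dsgl (F.obj P') ⟶ M⟦j⟧) :
    EshiftAdd F G adj P M j (sMap (F.map g) ≫ ξ) = sMap g ≫ EshiftAdd F G adj P' M j ξ := by
  letI := commShiftRG F G adj
  rw [EshiftAdd_apply, EshiftAdd_apply, E_naturality, Category.assoc]

end ShiftAdd

end Groth.Agent.R2.H10.PushD
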