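import Mathlib.Algebra.Homology.DerivedCategory.Ext.Map
import Mathlib.Algebra.Homology.DerivedCategory.Ext.ExactSequences
import Mathlib.Algebra.Homology.DerivedCategory.Ext.EnoughInjectives

/-!
# helper38: an exact functor with an exact retraction is split injective on `Ext`

Let `Φ : 𝒜 ⥤ ℬ` and `Ψ : ℬ ⥤ 𝒜` be exact functors between abelian categories with
`η : Φ ⋙ Ψ ≅ 𝟭 𝒜`, and assume that `𝒜` has enough injectives.  Then the map
`Ext^n(A, B) → Ext^n(Φ A, Φ B)` has an additive retraction.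
-/

set_option autoImplicit false
universe w w' v v' u u'
open CategoryTheory CategoryTheory.Limits CategoryTheory.Abelian

namespace Groth.Agent.R2.H38.ExtRetract

variable {𝒜 : Type u} [Category.{v} 𝒜] [Abelian 𝒜] {ℬ : Type u'} [Category.{v'} ℬ] [Abelian ℬ]
  [HasExt.{w} 𝒜] [HasExt.{w'} ℬ] [EnoughInjectives 𝒜]
  (Φ : 𝒜 ⥤ ℬ) [Φ.Additive] [PreservesFiniteLimits Φ] [PreservesFiniteColimits Φ]
  (Ψ : ℬ ⥤ 𝒜) [Ψ.Additive] [PreservesFiniteLimits Ψ] [PreservesFiniteColimits Ψ]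
  (η : Φ ⋙ Ψ ≅ 𝟭 𝒜)

/-- the short exact sequence `0 → B → I → Q → 0` with `I` injective -/
noncomputable def injSC (B : 𝒜) : ShortComplex 𝒜 :=
  ShortComplex.mk (Injective.ι B) (cokernel.π (Injective.ι B)) (cokernel.condition _)

lemma injSC_shortExact (B : 𝒜) : (injSC B).ShortExact where
  exact := ShortComplex.exact_cokernel _
  mono_f := by dsimp [injSC]; infer_instance
  epi_g := by dsimp [injSC]; infer_instance

/-- the morphism of short complexes `Ψ Φ S ⟶ S` induced by `η` -/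
noncomputable def etaHom (S : ShortComplex 𝒜) : (S.map Φ).map Ψ ⟶ S where
  τ₁ := η.hom.app S.X₁
  τ₂ := η.hom.app S.X₂
  τ₃ := η.hom.app S.X₃
  comm₁₂ := (η.hom.naturality S.f).symm
  comm₂₃ := (η.hom.naturality S.g).symm

include η in
/-- the inductive step -/
theorem map_map_comp_eta_step (n : ℕ)
    (ih : ∀ {A B : 𝒜} (e : Ext.{w} A B n),
      ((e.mapExactFunctor Φ).mapExactFunctor Ψ).comp (Ext.mk₀ (η.hom.app B)) (add_zero n) =
        (Ext.mk₀ (η.hom.app A)).comp e (zero_add n))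
    {A : 𝒜} (S : ShortComplex 𝒜) (hS : S.ShortExact) [Injective S.X₂]
    (e : Ext.{w} A S.X₁ (n + 1)) :
    ((e.mapExactFunctor Φ).mapExactFunctor Ψ).comp (Ext.mk₀ (η.hom.app S.X₁))
      (add_zero (n + 1)) = (Ext.mk₀ (η.hom.app A)).comp e (zero_add (n + 1)) := by
  have h0 : e.comp (Ext.mk₀ S.f) (add_zero (n + 1)) = 0 := Ext.eq_zero_of_injective _
  obtain ⟨x, rfl⟩ := Ext.covariant_sequence_exact₁ A hS e h0 rfl
  obtain ⟨c, hc, hc'⟩ : ∃ c : Ext.{w} (Ψ.obj (Φ.obj S.X₃)) (Ψ.obj (Φ.obj S.X₁)) 1,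
      (hS.extClass.mapExactFunctor Φ).mapExactFunctor Ψ = c ∧
      c.comp (Ext.mk₀ (η.hom.app S.X₁)) (add_zero 1) =
        (Ext.mk₀ (η.hom.app S.X₃)).comp hS.extClass (zero_add 1) :=
    ⟨((hS.map_of_exact Φ).map_of_exact Ψ).extClass,
      (congrArg (fun z => Ext.mapExactFunctor Ψ z) (Ext.mapExactFunctor_extClass Φ hS)).trans
        (Ext.mapExactFunctor_extClass Ψ (hS.map_of_exact Φ)),
      ShortComplex.ShortExact.extClass_naturality
        ((hS.map_of_exact Φ).map_of_exact Ψ) hS (etaHom Φ Ψ η S)⟩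
  rw [Ext.mapExactFunctor_comp, Ext.mapExactFunctor_comp, Ext.comp_assoc_of_third_deg_zero,
    hc, hc', ← Ext.comp_assoc_of_second_deg_zero, ih x, Ext.comp_assoc _ _ _ _ _ (by omega)]

include η in
/-- naturality of `η` with respect to `Ext`-classes -/
theorem map_map_comp_eta {A B : 𝒜} {n : ℕ} (e : Ext.{w} A B n) :
    ((e.mapExactFunctor Φ).mapExactFunctor Ψ).comp (Ext.mk₀ (η.hom.app B)) (add_zero n) =
      (Ext.mk₀ (η.hom.app A)).comp e (zero_add n) := by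
  induction n generalizing A B with
  | zero =>
    obtain ⟨f, rfl⟩ := (Ext.mk₀_bijective A B).2 e
    rw [Ext.mapExactFunctor_mk₀, Ext.mapExactFunctor_mk₀, Ext.mk₀_comp_mk₀, Ext.mk₀_comp_mk₀]
    congr 1
    exact η.hom.naturality f
  | succ n ih =>
    have : Injective (injSC B).X₂ := by dsimp [injSC]; infer_instance
    exact map_map_comp_eta_step Φ Ψ η n ih (injSC B) (injSC_shortExact B) e

/-- the retraction of `Φ` on `Ext` -/
noncomputable def retr (A B : 𝒜) (n : ℕ) :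
    Ext.{w'} (Φ.obj A) (Φ.obj B) n →+ Ext.{w} A B n :=
  ((Ext.mk₀ (η.inv.app A)).precomp B (zero_add n)).comp
    (((Ext.mk₀ (η.hom.app B)).postcomp (Ψ.obj (Φ.obj A)) (add_zero n)).comp
      (Ψ.mapExtAddHom (Φ.obj A) (Φ.obj B) n))

theorem retr_map {A B : 𝒜} {n : ℕ} (e : Ext.{w} A B n) :
    retr Φ Ψ η A B n (Φ.mapExtAddHom A B n e) = e := by
  change (Ext.mk₀ (η.inv.app A)).comp
    (((e.mapExactFunctor Φ).mapExactFunctor Ψ).comp (Ext.mk₀ (η.hom.app B)) (add_zero n))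
      (zero_add n) = e
  rw [map_map_comp_eta Φ Ψ η e, Ext.mk₀_comp_mk₀_assoc]
  have : η.inv.app A ≫ η.hom.app A = 𝟙 _ := by simp
  rw [this, Ext.mk₀_id_comp]

end Groth.Agent.R2.H38.ExtRetract
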