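import Groth.Prelude.Def_CohTop
import Mathlib.CategoryTheory.Sites.Pullback
import Mathlib.CategoryTheory.Adjunction.Unique
import Mathlib.CategoryTheory.Retract
import Groth.Agent.R2.H38ExtRetract

/-!
# helper38: pullback of abelian sheaves on topological spaces along a retraction

For continuous maps `g : Y ⟶ Z`, `t : Z ⟶ Y` with `t ≫ g = 𝟙 Z` and an abelian sheaf `G` on `Z`, the
group `H^q(Z, G)` is a retract of `H^q(Y, g^* G)`.
-/

set_option autoImplicit false
universe u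
open CategoryTheory TopologicalSpace Opposite CategoryTheory.Limits CategoryTheory.Abelian

namespace Groth.Agent.R2.H38.TopPull

variable {X Y Z : TopCat.{u}}

/-- the adjunction `f^{-1} ⊣ f_*` -/
noncomputable abbrev adj (f : X ⟶ Y) : CohTop.pull f ⊣ CohTop.push f :=
  TopCat.Sheaf.pullbackPushforwardAdjunction AddCommGrpCat.{u} f

instance pull_additive (f : X ⟶ Y) : (CohTop.pull f).Additive := (adj f).left_adjoint_additive

instance pull_preservesFiniteLimits (f : X ⟶ Y) : PreservesFiniteLimits (CohTop.pull f) :=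
  CategoryTheory.Functor.SmallCategories.instPreservesFiniteLimitsSheafSheafPullbackOfRepresentablyFlat
    (Opens.map f) AddCommGrpCat.{u} (Opens.grothendieckTopology ↑Y) (Opens.grothendieckTopology ↑X)

instance pull_preservesFiniteColimits (f : X ⟶ Y) : PreservesFiniteColimits (CohTop.pull f) :=
  have : PreservesColimitsOfSize.{0, 0} (CohTop.pull f) := (adj f).leftAdjoint_preservesColimits
  PreservesColimitsOfSize.preservesFiniteColimits _

/-- inverse images compose -/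
noncomputable def pullComp (f : X ⟶ Y) (g : Y ⟶ Z) :
    CohTop.pull (f ≫ g) ≅ CohTop.pull g ⋙ CohTop.pull f :=
  Adjunction.leftAdjointUniq (adj (f ≫ g))
    (((adj g).comp (adj f)).ofNatIsoRight
      (Iso.refl _ : CohTop.push f ⋙ CohTop.push g ≅ CohTop.push (f ≫ g)))

/-- inverse image along the identity -/
noncomputable def pullId (X : TopCat.{u}) : CohTop.pull (𝟙 X) ≅ 𝟭 (CohTop.Ab X) :=
  Adjunction.leftAdjointUniq (adj (𝟙 X))
    ((Adjunction.id (C := CohTop.Ab X)).ofNatIsoRight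
      (Iso.refl _ : 𝟭 (CohTop.Ab X) ≅ CohTop.push (𝟙 X)))

/-- transport along an equality of maps -/
noncomputable def pullCongr {f f' : X ⟶ Y} (h : f = f') : CohTop.pull f ≅ CohTop.pull f' :=
  eqToIso (by rw [h])

/-- the constant sheaf `ℤ` -/
noncomputable abbrev ZZ (X : TopCat.{u}) : CohTop.Ab X :=
  (constantSheaf (Opens.grothendieckTopology X) AddCommGrpCat.{u}).obj (AddCommGrpCat.of (ULift ℤ))

/-- global sections -/
noncomputable abbrev gsec (X : TopCat.{u}) : CohTop.Ab X ⥤ AddCommGrpCat.{u} :=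
  (sheafSections (Opens.grothendieckTopology X) AddCommGrpCat.{u}).obj (op ⊤)

/-- constant sheaf ⊣ global sections -/
noncomputable abbrev constAdj (X : TopCat.{u}) :
    constantSheaf (Opens.grothendieckTopology X) AddCommGrpCat.{u} ⊣ gsec X :=
  constantSheafAdj (Opens.grothendieckTopology X) AddCommGrpCat.{u} isTerminalTop

/-- `f_*` followed by global sections is global sections -/
noncomputable def pushGsecIso (f : X ⟶ Y) : CohTop.push f ⋙ gsec Y ≅ gsec X :=
  NatIso.ofComponents (fun F => Iso.refl _) (fun {F G} φ => by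
    simp only [Iso.refl_hom, Category.comp_id, Category.id_comp]
    rfl)

/-- the inverse image of a constant sheaf is constant -/
noncomputable def pullConstIso (f : X ⟶ Y) :
    constantSheaf (Opens.grothendieckTopology Y) AddCommGrpCat.{u} ⋙ CohTop.pull f ≅
      constantSheaf (Opens.grothendieckTopology X) AddCommGrpCat.{u} :=
  Adjunction.leftAdjointUniq (((constAdj Y).comp (adj f)).ofNatIsoRight (pushGsecIso f)) (constAdj X)

/-- `f^{-1} ℤ ≅ ℤ` -/
noncomputable def pullZZ (f : X ⟶ Y) : (CohTop.pull f).obj (ZZ Y) ≅ ZZ X :=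
  (pullConstIso f).app _

/-- the retraction isomorphism `g^* ⋙ t^* ≅ 𝟭` for `t ≫ g = 𝟙` -/
noncomputable def retrIso (g : Y ⟶ Z) (t : Z ⟶ Y) (h : t ≫ g = 𝟙 Z) :
    CohTop.pull g ⋙ CohTop.pull t ≅ 𝟭 (CohTop.Ab Z) :=
  (pullComp t g).symm ≪≫ pullCongr h ≪≫ pullId Z

/-- the cohomology group `H^q(Y, G)` as an object of `AddCommGrpCat` (a wrapper which keeps the
`Ext`-groups out of the terms of later definitions) -/
noncomputable def Hq {Y : TopCat.{u}} (G : CohTop.Ab Y) (q : ℕ) : AddCommGrpCat.{u} :=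
  AddCommGrpCat.of (CohTop.H G q)

lemma Hq_eq {Y : TopCat.{u}} (G : CohTop.Ab Y) (q : ℕ) :
    Hq G q = AddCommGrpCat.of (CohTop.H G q) := rfl

/-- `H^q(Z, G)` is a retract of `H^q(Y, G')` when `G' ≅ g^* G` and `g` has a section. -/
theorem nonempty_retract (g : Y ⟶ Z) (t : Z ⟶ Y) (h : t ≫ g = 𝟙 Z) (G : CohTop.Ab Z)
    (G' : CohTop.Ab Y) (e : (CohTop.pull g).obj G ≅ G') (q : ℕ) :
    Nonempty (Retract (Hq G q) (Hq G' q)) := by
  let Φ := CohTop.pull g
  let Ψ := CohTop.pull t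
  let η := retrIso g t h
  -- the map `Ext(ℤ, G) → Ext(Φ ℤ, Φ G) → Ext(ℤ, G')`
  let a : Ext.{u} (Φ.obj (ZZ Z)) (Φ.obj G) q →+ Ext.{u} (ZZ Y) G' q :=
    ((Ext.mk₀ (pullZZ g).inv).precomp G' (zero_add q)).comp
      ((Ext.mk₀ e.hom).postcomp (Φ.obj (ZZ Z)) (add_zero q))
  let b : Ext.{u} (ZZ Y) G' q →+ Ext.{u} (Φ.obj (ZZ Z)) (Φ.obj G) q :=
    ((Ext.mk₀ (pullZZ g).hom).precomp (Φ.obj G) (zero_add q)).comp
      ((Ext.mk₀ e.inv).postcomp (ZZ Y) (add_zero q))
  have hab : ∀ x, b (a x) = x := by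
    intro x
    change (Ext.mk₀ (pullZZ g).hom).comp
      (((Ext.mk₀ (pullZZ g).inv).comp (x.comp (Ext.mk₀ e.hom) (add_zero q)) (zero_add q)).comp
        (Ext.mk₀ e.inv) (add_zero q)) (zero_add q) = x
    rw [Ext.comp_assoc_of_third_deg_zero, Ext.comp_assoc_of_third_deg_zero, Ext.mk₀_comp_mk₀,
      Ext.mk₀_comp_mk₀_assoc]
    simp
  refine ⟨⟨AddCommGrpCat.ofHom (a.comp (Φ.mapExtAddHom (ZZ Z) G q)),
    AddCommGrpCat.ofHom ((ExtRetract.retr Φ Ψ η (ZZ Z) G q).comp b), ?_⟩⟩
  ext x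
  change ExtRetract.retr Φ Ψ η (ZZ Z) G q (b (a (Φ.mapExtAddHom (ZZ Z) G q x))) = x
  rw [hab, ExtRetract.retr_map]

end Groth.Agent.R2.H38.TopPull
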