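import Groth.Agent.R2.H10PushD
import Groth.Agent.R2.H38TopPull
import Groth.Agent.Lib.Helper17Hyp5
import Groth.Prelude.Def_FreeSh

/-!
# Derived direct image of abelian sheaves on topological spaces and free sheaves (helper10)

Namespace `Groth.Agent.R2.H10.PushTop`.

* `phi f V : f⁻¹ ℤ_V ≅ ℤ_{f⁻¹ V}` and its naturality in `V`.
-/

set_option autoImplicit false
set_option linter.unusedSectionVars false

universe u

open CategoryTheory CategoryTheory.Limits Opposite TopologicalSpace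

namespace Groth.Agent.R2.H10.PushTop

open Groth.Agent.R2.H38.TopPull

variable {X Y : TopCat.{u}} (f : X ⟶ Y)

/-- the free abelian sheaf on an open. -/
noncomputable abbrev ZZ (X : TopCat.{u}) (U : Opens X) : CohTop.Ab X :=
  CohCx.freeSheaf (Opens.grothendieckTopology X) U

/-- the maps between them. -/
noncomputable abbrev zmap (X : TopCat.{u}) {U V : Opens X} (g : V ⟶ U) : ZZ X V ⟶ ZZ X U :=
  CohCx.freeSheafMap (Opens.grothendieckTopology X) g

/-- sections over `U` as maps out of the free sheaf. -/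
noncomputable abbrev ev (X : TopCat.{u}) (U : Opens X) (G : CohTop.Ab X) :
    (ZZ X U ⟶ G) ≃+ G.obj.obj (op U) :=
  CohFree.homEquivSect (Opens.grothendieckTopology X) U G

lemma ev_comp (X : TopCat.{u}) (U : Opens X) {G G' : CohTop.Ab X} (s : ZZ X U ⟶ G) (g : G ⟶ G') :
    ev X U G' (s ≫ g) = (g.hom.app (op U)).hom (ev X U G s) := rfl

lemma ev_zmap (X : TopCat.{u}) {U V : Opens X} (g : V ⟶ U) (G : CohTop.Ab X) (s : ZZ X U ⟶ G) :
    ev X V G (zmap X g ≫ s) = (G.obj.map g.op).hom (ev X U G s) :=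
  CohFree.evalGen_freeSheafMap_comp _ g G s

lemma ev_symm_comp (X : TopCat.{u}) (U : Opens X) {G G' : CohTop.Ab X} (x : G.obj.obj (op U))
    (g : G ⟶ G') :
    (ev X U G').symm ((g.hom.app (op U)).hom x) = (ev X U G).symm x ≫ g := by
  apply (ev X U G').injective
  rw [ev_comp, AddEquiv.apply_symm_apply, AddEquiv.apply_symm_apply]

lemma ev_symm_zmap (X : TopCat.{u}) {U V : Opens X} (g : V ⟶ U) (G : CohTop.Ab X)
    (x : G.obj.obj (op U)) :
    (ev X V G).symm ((G.obj.map g.op).hom x) = zmap X g ≫ (ev X U G).symm x := by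
  apply (ev X V G).injective
  rw [ev_zmap, AddEquiv.apply_symm_apply, AddEquiv.apply_symm_apply]

/-- `Hom(f⁻¹ ℤ_V, G) ≃ Hom(ℤ_{f⁻¹ V}, G)`. -/
noncomputable def homEquivPull (V : Opens Y) (G : CohTop.Ab X) :
    ((CohTop.pull f).obj (ZZ Y V) ⟶ G) ≃ (ZZ X ((Opens.map f).obj V) ⟶ G) :=
  ((adj f).homEquiv _ _).trans
    ((ev Y V ((CohTop.push f).obj G)).toEquiv.trans (ev X ((Opens.map f).obj V) G).toEquiv.symm)

lemma homEquivPull_apply (V : Opens Y) (G : CohTop.Ab X) (t : (CohTop.pull f).obj (ZZ Y V) ⟶ G) :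
    homEquivPull f V G t =
      (ev X ((Opens.map f).obj V) G).symm (ev Y V ((CohTop.push f).obj G) ((adj f).homEquiv _ _ t)) :=
  rfl

lemma homEquivPull_comp (V : Opens Y) {G G' : CohTop.Ab X} (t : (CohTop.pull f).obj (ZZ Y V) ⟶ G)
    (g : G ⟶ G') : homEquivPull f V G' (t ≫ g) = homEquivPull f V G t ≫ g := by
  rw [homEquivPull_apply, homEquivPull_apply, Adjunction.homEquiv_naturality_right, ev_comp]
  exact ev_symm_comp X ((Opens.map f).obj V) (G := G) (G' := G')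
    (ev Y V ((CohTop.push f).obj G) ((adj f).homEquiv _ _ t)) g

lemma homEquivPull_symm_comp (V : Opens Y) {G G' : CohTop.Ab X}
    (s : ZZ X ((Opens.map f).obj V) ⟶ G) (g : G ⟶ G') :
    (homEquivPull f V G').symm (s ≫ g) = (homEquivPull f V G).symm s ≫ g := by
  apply (homEquivPull f V G').injective
  rw [homEquivPull_comp, Equiv.apply_symm_apply, Equiv.apply_symm_apply]

lemma homEquivPull_zmap {V V' : Opens Y} (g : V' ⟶ V) (G : CohTop.Ab X)
    (t : (CohTop.pull f).obj (ZZ Y V) ⟶ G) :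
    homEquivPull f V' G ((CohTop.pull f).map (zmap Y g) ≫ t) =
      zmap X ((Opens.map f).map g) ≫ homEquivPull f V G t := by
  rw [homEquivPull_apply, homEquivPull_apply, Adjunction.homEquiv_naturality_left, ev_zmap]
  exact ev_symm_zmap X ((Opens.map f).map g) G
    (ev Y V ((CohTop.push f).obj G) ((adj f).homEquiv _ _ t))

/-- `f⁻¹ ℤ_V ≅ ℤ_{f⁻¹ V}`. -/
noncomputable def phi (V : Opens Y) : (CohTop.pull f).obj (ZZ Y V) ≅ ZZ X ((Opens.map f).obj V) where
  hom := (homEquivPull f V _).symm (𝟙 _)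
  inv := homEquivPull f V _ (𝟙 _)
  hom_inv_id := by
    apply (homEquivPull f V _).injective
    rw [homEquivPull_comp, Equiv.apply_symm_apply, Category.id_comp]
  inv_hom_id := by
    apply (homEquivPull f V _).symm.injective
    rw [homEquivPull_symm_comp, Equiv.symm_apply_apply, Category.id_comp]

lemma phi_naturality {V V' : Opens Y} (g : V' ⟶ V) :
    (CohTop.pull f).map (zmap Y g) ≫ (phi f V).hom = (phi f V').hom ≫ zmap X ((Opens.map f).map g) := by
  apply (homEquivPull f V' _).injective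
  rw [homEquivPull_zmap, homEquivPull_comp]
  dsimp only [phi]
  rw [Equiv.apply_symm_apply, Equiv.apply_symm_apply, Category.id_comp, Category.comp_id]

section Main

universe w₁

variable [HasDerivedCategory.{u} (CohTop.Ab X)] [HasDerivedCategory.{w₁} (CohTop.Ab Y)]

open Groth.Agent.Lib.Helper17.Hyp Groth.Agent.R2.H10.RlimSingle Groth.Agent.R2.H10.PushD DerivedCategory

/-- the derived direct image. -/
noncomputable abbrev Rf : DerivedCategory (CohTop.Ab X) ⥤ DerivedCategory (CohTop.Ab Y) :=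
  RG.{u} (CohTop.push f)

lemma sMap_id' {A : Type*} [Category A] [Abelian A] [HasDerivedCategory A] (P : A) :
    sMap (𝟙 P) = 𝟙 (dsgl P) := by
  dsimp only [sMap]
  rw [CategoryTheory.Functor.map_id, CategoryTheory.Functor.map_id]

/-- precomposition with an isomorphism in degree zero. -/
noncomputable def preEquiv {A : Type*} [Category A] [Abelian A] [HasDerivedCategory A] {P P' : A}
    (e : P ≅ P') (M : DerivedCategory A) : (dsgl P' ⟶ M) ≃+ (dsgl P ⟶ M) where
  toFun ξ := sMap e.hom ≫ ξ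
  invFun ξ := sMap e.inv ≫ ξ
  left_inv ξ := by
    change sMap e.inv ≫ sMap e.hom ≫ ξ = ξ
    rw [← Category.assoc, ← sMap_comp, Iso.inv_hom_id, sMap_id', Category.id_comp]
  right_inv ξ := by
    change sMap e.hom ≫ sMap e.inv ≫ ξ = ξ
    rw [← Category.assoc, ← sMap_comp, Iso.hom_inv_id, sMap_id', Category.id_comp]
  map_add' ξ ξ' := Preadditive.comp_add _ _ _ _ _ _

/-- `Hom(ℤ_{f⁻¹V}[0], M) ≃+ Hom(ℤ_V[0], Rf_* M)`. -/
noncomputable def EV (V : Opens Y) (M : DerivedCategory (CohTop.Ab X)) :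
    (dsgl (ZZ X ((Opens.map f).obj V)) ⟶ M) ≃+ (dsgl (ZZ Y V) ⟶ (Rf f).obj M) :=
  (preEquiv (phi f V) M).trans (E (CohTop.pull f) (CohTop.push f) (adj f) (ZZ Y V) M)

lemma EV_apply (V : Opens Y) (M : DerivedCategory (CohTop.Ab X))
    (ξ : dsgl (ZZ X ((Opens.map f).obj V)) ⟶ M) :
    EV f V M ξ = E (CohTop.pull f) (CohTop.push f) (adj f) (ZZ Y V) M (sMap (phi f V).hom ≫ ξ) := rfl

lemma EV_naturality {V V' : Opens Y} (g : V' ⟶ V) (M : DerivedCategory (CohTop.Ab X))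
    (ξ : dsgl (ZZ X ((Opens.map f).obj V)) ⟶ M) :
    EV f V' M (sMap (zmap X ((Opens.map f).map g)) ≫ ξ) = sMap (zmap Y g) ≫ EV f V M ξ := by
  rw [EV_apply, EV_apply, ← E_naturality, ← Category.assoc, ← sMap_comp, ← phi_naturality, sMap_comp,
    Category.assoc]

/-- `Hom(ℤ_{f⁻¹V}[0], M[j]) ≃ Hom(ℤ_V[0], (Rf_* M)[j])`. -/
noncomputable def EVshift (V : Opens Y) (M : DerivedCategory (CohTop.Ab X)) (j : ℤ) :
    (dsgl (ZZ X ((Opens.map f).obj V)) ⟶ M⟦j⟧) ≃ (dsgl (ZZ Y V) ⟶ ((Rf f).obj M)⟦j⟧) :=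
  (preEquiv (phi f V) (M⟦j⟧)).toEquiv.trans
    (Eshift (CohTop.pull f) (CohTop.push f) (adj f) (ZZ Y V) M j)

/-- postcomposition with `K⟦0⟧ ≅ K`. -/
noncomputable def postZero {A : Type*} [Category A] [Abelian A] [HasDerivedCategory A] (P : A)
    (K : DerivedCategory A) : (dsgl P ⟶ K⟦(0 : ℤ)⟧) ≃+ (dsgl P ⟶ K) where
  toFun ξ := ξ ≫ (shiftFunctorZero (DerivedCategory A) ℤ).hom.app K
  invFun ξ := ξ ≫ (shiftFunctorZero (DerivedCategory A) ℤ).inv.app K
  left_inv ξ := by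
    change (ξ ≫ (shiftFunctorZero (DerivedCategory A) ℤ).hom.app K) ≫
      (shiftFunctorZero (DerivedCategory A) ℤ).inv.app K = ξ
    rw [Category.assoc, Iso.hom_inv_id_app]
    exact Category.comp_id ξ
  right_inv ξ := by
    change (ξ ≫ (shiftFunctorZero (DerivedCategory A) ℤ).inv.app K) ≫
      (shiftFunctorZero (DerivedCategory A) ℤ).hom.app K = ξ
    rw [Category.assoc, Iso.inv_hom_id_app]
    exact Category.comp_id ξ
  map_add' ξ ξ' := Preadditive.add_comp _ _ _ _ _ _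

/-- The statement of S0883. -/
theorem main (B : Set (Opens Y)) (hB : Opens.IsBasis B) (K : DerivedCategory (CohTop.Ab X))
    (h : ∀ V ∈ B, ∀ i : ℤ, i < 0 → Subsingleton (CohCx.HDU K i ((Opens.map f).obj V))) :
    (∀ (V : Opens Y) (i : ℤ), i < 0 → Subsingleton (CohCx.HDU K i ((Opens.map f).obj V))) ∧
    Presheaf.IsSheaf (Opens.grothendieckTopology Y) ((Opens.map f).op ⋙ CohCx.HDUPresheaf K 0) := by
  have hB' : ∀ U : Opens Y, ∃ (ι : Type u) (W : ι → Opens Y) (g : ∀ i, W i ⟶ U),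
      Sieve.ofArrows W g ∈ Opens.grothendieckTopology Y U ∧ ∀ i, W i ∈ B := by
    intro U
    refine ⟨{V : Opens Y // V ∈ B ∧ V ≤ U}, fun V => V.1, fun V => homOfLE V.2.2, ?_, fun V => V.2.1⟩
    intro x hx
    obtain ⟨V, hVB, hxV, hVU⟩ := Opens.isBasis_iff_nbhd.1 hB hx
    exact ⟨V, homOfLE hVU, Sieve.ofArrows_mk _ _ (⟨V, hVB, hVU⟩ : {V : Opens Y // V ∈ B ∧ V ≤ U}), hxV⟩
  have hB'' : ∀ U : Opens Y, sieveB B U ∈ Opens.grothendieckTopology Y U := by
    intro U
    obtain ⟨ι, W, g, hg, hW⟩ := hB' U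
    refine (Opens.grothendieckTopology Y).superset_covering ?_ hg
    rintro V k hk
    obtain ⟨i, a, rfl⟩ := (Sieve.mem_ofArrows_iff W g k).1 hk
    exact ⟨W i, a, g i, hW i, rfl⟩
  let N := (Rf f).obj K
  have hN : N.IsGE 0 :=
    isGE_of_vanishing.{w₁, u} (locFr_frSh (Opens.grothendieckTopology Y)) B
      hB'' N
      (fun W hW q hq => @Equiv.subsingleton _ _ (EVshift f W K q).symm (h W hW q hq))
  refine ⟨fun V i hi => @Equiv.subsingleton _ _ (EVshift f V K i)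
    (subsingleton_hom_of_isGE (ZZ Y V) N i hi), ?_⟩
  let e : ∀ V : Opens Y, (dsgl (ZZ X ((Opens.map f).obj V)) ⟶ K⟦(0 : ℤ)⟧) ≃+
      ((homologyFunctor (CohTop.Ab Y) 0).obj N).obj.obj (op V) := fun V =>
    (postZero _ K).trans ((EV f V K).trans ((c₀Equiv (ZZ Y V) N).trans (ev Y V _)))
  have he : ∀ (V : Opens Y) (ξ : dsgl (ZZ X ((Opens.map f).obj V)) ⟶ K⟦(0 : ℤ)⟧),
      e V ξ = ev Y V _ (c₀ (EV f V K (ξ ≫ (shiftFunctorZero _ ℤ).hom.app K))) := fun V ξ => rfl
  let iso : ((Opens.map f).op ⋙ CohCx.HDUPresheaf K 0) ≅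
      ((homologyFunctor (CohTop.Ab Y) 0).obj N).obj :=
    NatIso.ofComponents (fun V => (e V.unop).toAddCommGrpIso) (by
      rintro ⟨V⟩ ⟨V'⟩ ⟨g⟩
      ext ξ
      revert ξ
      intro (ξ : dsgl (ZZ X ((Opens.map f).obj V)) ⟶ K⟦(0 : ℤ)⟧)
      change e V' (sMap (zmap X ((Opens.map f).map g)) ≫ ξ) =
        (((homologyFunctor (CohTop.Ab Y) 0).obj N).obj.map g.op).hom (e V ξ)
      rw [he, he, Category.assoc, EV_naturality, c₀_precomp, ev_zmap])
  exact (Presheaf.isSheaf_of_iso_iff iso).2 ((homologyFunctor (CohTop.Ab Y) 0).obj N).property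

end Main

end Groth.Agent.R2.H10.PushTop
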