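import Groth.Agent.R2.H10PushTop
import Groth.Agent.S0931
import Groth.Agent.S12229
import Groth.Agent.Lib.Helper17KInjD5

/-!
# Cohomology sheaves of the derived direct image (helper10)

Namespace `Groth.Agent.R2.H10.PushTopB`.

* `presheafIso f M j : (V ↦ H^j(f⁻¹V, M)) ≅ (V ↦ H^j(V, Rf_* M))`;
* `nonempty_iso_Rf`: the bounded below derived direct image agrees with the unbounded one;
* `main` = S8351.
-/

set_option autoImplicit false
set_option linter.unusedSectionVars false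
set_option linter.style.haveILetI false

universe u

open CategoryTheory CategoryTheory.Limits Opposite TopologicalSpace DerivedCategory
open Groth.Agent.Lib.Helper17.Hyp Groth.Agent.R2.H10.RlimSingle Groth.Agent.R2.H10.PushD
  Groth.Agent.R2.H10.PushTop Groth.Agent.R2.H38.TopPull

namespace Groth.Agent.R2.H10.PushTopB

variable {X Y : TopCat.{u}} (f : X ⟶ Y)
  [HasDerivedCategory.{u} (CohTop.Ab X)] [HasDerivedCategory.{u} (CohTop.Ab Y)]

/-- `Hom(ℤ_{f⁻¹V}[0], M[j]) ≃+ Hom(ℤ_V[0], (Rf_* M)[j])`. -/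
noncomputable def EVs (V : Opens Y) (M : DerivedCategory (CohTop.Ab X)) (j : ℤ) :
    (dsgl (ZZ X ((Opens.map f).obj V)) ⟶ M⟦j⟧) ≃+ (dsgl (ZZ Y V) ⟶ ((Rf f).obj M)⟦j⟧) :=
  (preEquiv (phi f V) (M⟦j⟧)).trans
    (EshiftAdd (CohTop.pull f) (CohTop.push f) (adj f) (ZZ Y V) M j)

lemma EVs_apply (V : Opens Y) (M : DerivedCategory (CohTop.Ab X)) (j : ℤ)
    (ξ : dsgl (ZZ X ((Opens.map f).obj V)) ⟶ M⟦j⟧) :
    EVs f V M j ξ = EshiftAdd (CohTop.pull f) (CohTop.push f) (adj f) (ZZ Y V) M j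
      (sMap (phi f V).hom ≫ ξ) := rfl

lemma EVs_naturality {V V' : Opens Y} (g : V' ⟶ V) (M : DerivedCategory (CohTop.Ab X)) (j : ℤ)
    (ξ : dsgl (ZZ X ((Opens.map f).obj V)) ⟶ M⟦j⟧) :
    EVs f V' M j (sMap (zmap X ((Opens.map f).map g)) ≫ ξ) = sMap (zmap Y g) ≫ EVs f V M j ξ := by
  rw [EVs_apply, EVs_apply, ← EshiftAdd_naturality, ← Category.assoc, ← sMap_comp, ← phi_naturality,
    sMap_comp, Category.assoc]

/-- `(V ↦ H^j(f⁻¹V, M)) ≅ (V ↦ H^j(V, Rf_* M))`. -/
noncomputable def presheafIso (M : DerivedCategory (CohTop.Ab X)) (j : ℤ) :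
    (Opens.map f).op ⋙ CohCx.HDUPresheaf M j ≅ CohCx.HDUPresheaf ((Rf f).obj M) j :=
  NatIso.ofComponents (fun V => (EVs f V.unop M j).toAddCommGrpIso) (by
    rintro ⟨V⟩ ⟨V'⟩ ⟨g⟩
    ext ξ
    revert ξ
    intro (ξ : dsgl (ZZ X ((Opens.map f).obj V)) ⟶ M⟦j⟧)
    change EVs f V' M j (sMap (zmap X ((Opens.map f).map g)) ≫ ξ) = sMap (zmap Y g) ≫ EVs f V M j ξ
    exact EVs_naturality f g M j ξ)

/-- The bounded below derived direct image agrees with the unbounded one. -/
theorem nonempty_iso_Rf (K : CochainComplex.Plus (CohTop.Ab X)) :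
    Nonempty (DerivedCategory.Plus.ι.obj ((CohTop.push f).rightDerivedFunctorPlus.obj
        (DerivedCategory.Plus.Qh.obj ((HomotopyCategory.Plus.quotient (CohTop.Ab X)).obj K))) ≅
      (Rf f).obj (DerivedCategory.Q.obj K.obj)) := by
  obtain ⟨n, hn⟩ := K.property
  haveI : K.obj.IsStrictlyGE n := hn
  obtain ⟨L, hL, i, hi⟩ := CochainComplex.Plus.exists_quasiIso_injective K n
  let J : CochainComplex.Plus (CohTop.Ab X) := (InjectiveObject.ι (CohTop.Ab X)).mapCochainComplexPlus.obj L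
  have hq : QuasiIso i.hom := hi
  haveI := Groth.Agent.S12229.isIso_Qh_map i hq
  let e1 : DerivedCategory.Plus.ι.obj ((CohTop.push f).rightDerivedFunctorPlus.obj
        (DerivedCategory.Plus.Qh.obj ((HomotopyCategory.Plus.quotient (CohTop.Ab X)).obj K))) ≅
      DerivedCategory.Plus.ι.obj ((CohTop.push f).rightDerivedFunctorPlus.obj
        (DerivedCategory.Plus.Qh.obj ((HomotopyCategory.Plus.quotient (CohTop.Ab X)).obj J))) :=
    DerivedCategory.Plus.ι.mapIso ((CohTop.push f).rightDerivedFunctorPlus.mapIso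
      (asIso (DerivedCategory.Plus.Qh.map ((HomotopyCategory.Plus.quotient (CohTop.Ab X)).map i))))
  haveI : IsIso ((CohTop.push f).rightDerivedFunctorPlusUnit.app
      ((HomotopyCategory.Plus.quotient (CohTop.Ab X)).obj J)) :=
    inferInstanceAs (IsIso ((CohTop.push f).rightDerivedFunctorPlusUnit.app
      ((HomotopyCategory.Plus.quotient (CohTop.Ab X)).obj
        ((InjectiveObject.ι (CohTop.Ab X)).mapCochainComplexPlus.obj L))))
  haveI : IsIso (Groth.Agent.S12229.τ (CohTop.push f) J) := by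
    unfold Groth.Agent.S12229.τ
    exact Functor.map_isIso _ _
  let e2 := (asIso (Groth.Agent.S12229.τ (CohTop.push f) J)).symm
  haveI : J.obj.IsKInjective :=
    inferInstanceAs (CochainComplex.IsKInjective
      (((InjectiveObject.ι (CohTop.Ab X)).mapHomologicalComplex (.up ℤ)).obj L.obj))
  haveI : IsIso ((β.{u} (CohTop.push f)).app J.obj) :=
    Groth.Agent.Lib.Helper17.KInj.isIso_app_of_isKInjective (CohTop.push f) (RG.{u} (CohTop.push f))
      (β.{u} (CohTop.push f)) J.obj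
  let e3 : DerivedCategory.Q.obj (((CohTop.push f).mapHomologicalComplex (ComplexShape.up ℤ)).obj J.obj) ≅
      (Rf f).obj (DerivedCategory.Q.obj J.obj) := asIso ((β.{u} (CohTop.push f)).app J.obj)
  haveI : IsIso (DerivedCategory.Q.map i.hom) := by
    rw [DerivedCategory.isIso_Q_map_iff_quasiIso]
    exact hq
  let e4 : (Rf f).obj (DerivedCategory.Q.obj J.obj) ≅ (Rf f).obj (DerivedCategory.Q.obj K.obj) :=
    ((Rf f).mapIso (asIso (DerivedCategory.Q.map i.hom))).symm
  exact ⟨e1 ≪≫ e2 ≪≫ e3 ≪≫ e4⟩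

/-- The statement of S8351. -/
theorem main (K : CochainComplex.Plus (CohTop.Ab X)) (p : ℤ) :
    Nonempty ((DerivedCategory.Plus.homologyFunctor (CohTop.Ab Y) p).obj
        ((CohTop.push f).rightDerivedFunctorPlus.obj
          (DerivedCategory.Plus.Qh.obj ((HomotopyCategory.Plus.quotient (CohTop.Ab X)).obj K))) ≅
      (presheafToSheaf (Opens.grothendieckTopology Y) AddCommGrpCat.{u}).obj
        ((Opens.map f).op ⋙ CohCx.HDUPresheaf (DerivedCategory.Q.obj K.obj) p)) := by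
  obtain ⟨e⟩ := nonempty_iso_Rf f K
  obtain ⟨e'⟩ := Groth.Agent.S0931.result ((Rf f).obj (DerivedCategory.Q.obj K.obj)) p
  exact ⟨(DerivedCategory.homologyFunctor (CohTop.Ab Y) p).mapIso e ≪≫ e'.symm ≪≫
    (presheafToSheaf (Opens.grothendieckTopology Y) AddCommGrpCat.{u}).mapIso
      (presheafIso f (DerivedCategory.Q.obj K.obj) p).symm⟩

end Groth.Agent.R2.H10.PushTopB
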