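import Groth.Prelude.Def_KFlatSite
import Mathlib.Algebra.Homology.Embedding.CochainComplex

/-!
# helper41: interface (Spec) for the mini-project PROJ:pres -> S9078 (then S9035/S9036)

Resolutions of (bounded above / arbitrary) complexes in an abelian category `𝒜` by complexes with
terms in a class `P` of objects (`Good P`: closed under isos and binary biproducts, contains the
zero objects, every object is a quotient of a member of `P`).
For `𝒜 = Mod O` the class is `IsFreeSum O` (isomorphic to a coproduct of modules `j_{U!} O_U`).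

Each package is a closed `Prop`; a package file proves `theorem pkgX : ResSpec.PkgX` (possibly from
other packages as hypotheses).
-/

set_option autoImplicit false
universe w v u
open CategoryTheory CategoryTheory.Limits Opposite

namespace Groth.Agent.R2.H41.ResSpec

/-- A class of objects good for resolutions. -/
structure Good {𝒜 : Type u} [Category.{v} 𝒜] [Abelian 𝒜] (P : 𝒜 → Prop) : Prop where
  iso : ∀ {X Y : 𝒜}, (X ≅ Y) → P X → P Y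
  zero : ∀ X : 𝒜, IsZero X → P X
  biprod : ∀ X Y : 𝒜, P X → P Y → P (X ⊞ Y)
  cover : ∀ M : 𝒜, ∃ (Q : 𝒜) (π : Q ⟶ M), P Q ∧ Epi π

/-- PkgResN: `ℕ`-indexed chain complexes (differential `X (k+1) ⟶ X k`) have termwise epimorphic
quasi-isomorphic resolutions with terms in `P`.  (Recursion on `k`: `Q₀ ↠ C₀`; given the cycles
`Z_k ⊆ Q_k` with `Z_k ↠ Z_k(C)`, take `Q_{k+1} ↠ C_{k+1} ×_{Z_k(C)} Z_k`.) -/
def PkgResN : Prop :=
  ∀ {𝒜 : Type u} [Category.{v} 𝒜] [Abelian 𝒜] (P : 𝒜 → Prop), Good P →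
    ∀ C : ChainComplex 𝒜 ℕ, ∃ (Q : ChainComplex 𝒜 ℕ) (r : Q ⟶ C),
      (∀ k, P (Q.X k)) ∧ QuasiIso r ∧ ∀ k, Epi (r.f k)

/-- PkgResZ: the same for cochain complexes which are strictly `≤ b`. -/
def PkgResZ : Prop :=
  ∀ {𝒜 : Type u} [Category.{v} 𝒜] [Abelian 𝒜] (P : 𝒜 → Prop), Good P →
    ∀ (b : ℤ) (C : CochainComplex 𝒜 ℤ) [C.IsStrictlyLE b], ∃ (Q : CochainComplex 𝒜 ℤ) (r : Q ⟶ C),
      Q.IsStrictlyLE b ∧ (∀ i, P (Q.X i)) ∧ QuasiIso r ∧ ∀ i, Epi (r.f i)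

/-- PkgStep (factorisation): a map `g : K ⟶ T` of complexes strictly `≤ b`, `K` with terms in `P`,
factors as `K ⟶ K' ⟶ T` with `K ⟶ K'` termwise split mono with cokernels in `P` and `K' ⟶ T` a
termwise epimorphic quasi-isomorphism, `K'` strictly `≤ b` with terms in `P`. -/
def PkgStep : Prop :=
  ∀ {𝒜 : Type u} [Category.{v} 𝒜] [Abelian 𝒜] (P : 𝒜 → Prop), Good P →
    ∀ (b : ℤ) (K T : CochainComplex 𝒜 ℤ) [K.IsStrictlyLE b] [T.IsStrictlyLE b] (g : K ⟶ T),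
      (∀ i, P (K.X i)) →
      ∃ (K' : CochainComplex 𝒜 ℤ) (i : K ⟶ K') (g' : K' ⟶ T), K'.IsStrictlyLE b ∧
        (∀ j, P (K'.X j)) ∧ i ≫ g' = g ∧ QuasiIso g' ∧ (∀ j, Epi (g'.f j)) ∧
        ∀ j, ∃ r : K'.X j ⟶ K.X j, i.f j ≫ r = 𝟙 _ ∧ P (cokernel (i.f j))

/-- PkgTower: the compatible system of resolutions of the truncations `τ_{≤ n+1} G`. -/
def PkgTower : Prop :=
  ∀ {𝒜 : Type u} [Category.{v} 𝒜] [Abelian 𝒜] (P : 𝒜 → Prop), Good P →
    ∀ G : CochainComplex 𝒜 ℤ,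
      ∃ (Kc : ℕ ⥤ CochainComplex 𝒜 ℤ) (π : ∀ n : ℕ, Kc.obj n ⟶ G.truncLE ((n : ℤ) + 1)),
        (∀ n : ℕ, Kc.map (homOfLE (Nat.le_succ n)) ≫ π (n + 1) ≫
            G.ιTruncLE (((n + 1 : ℕ) : ℤ) + 1) = π n ≫ G.ιTruncLE ((n : ℤ) + 1)) ∧
        (∀ n : ℕ, QuasiIso (π n) ∧ ∀ i : ℤ, Epi ((π n).f i)) ∧
        (∀ n : ℕ, (Kc.obj n).IsStrictlyLE ((n : ℤ) + 1)) ∧
        (∀ (n : ℕ) (i : ℤ), P ((Kc.obj n).X i)) ∧
        (∀ (n : ℕ) (i : ℤ), ∃ r : (Kc.obj (n + 1)).X i ⟶ (Kc.obj n).X i,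
          (Kc.map (homOfLE (Nat.le_succ n))).f i ≫ r = 𝟙 _ ∧
          P (cokernel ((Kc.map (homOfLE (Nat.le_succ n))).f i)))

/-- PkgColim: with exact `ℕ`-indexed colimits, the colimit of a compatible system of resolutions of
the truncations is a resolution of `G`. -/
def PkgColim : Prop :=
  ∀ {𝒜 : Type u} [Category.{v} 𝒜] [Abelian 𝒜] [HasColimitsOfShape ℕ 𝒜]
    [HasExactColimitsOfShape ℕ 𝒜] (G : CochainComplex 𝒜 ℤ)
    (Kc : ℕ ⥤ CochainComplex 𝒜 ℤ) (π : ∀ n : ℕ, Kc.obj n ⟶ G.truncLE ((n : ℤ) + 1)),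
    (∀ n : ℕ, Kc.map (homOfLE (Nat.le_succ n)) ≫ π (n + 1) ≫
        G.ιTruncLE (((n + 1 : ℕ) : ℤ) + 1) = π n ≫ G.ιTruncLE ((n : ℤ) + 1)) →
    (∀ n : ℕ, QuasiIso (π n)) →
    ∃ c : colimit Kc ⟶ G, (∀ n : ℕ, colimit.ι Kc n ≫ c = π n ≫ G.ιTruncLE ((n : ℤ) + 1)) ∧
      QuasiIso c

/-- isomorphic to a coproduct of modules `j_{U!} O_U`. -/
def IsFreeSum {C : Type u} [SmallCategory C] {J : GrothendieckTopology C}
    (O : Sheaf J CommRingCat.{u}) (M : ModSite.Mod O) : Prop :=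
  ∃ (ι : Type u) (U : ι → C), Nonempty (M ≅ ∐ fun j => ModSite.freeOn O (U j))

/-- PkgInst: `IsFreeSum O` is a good class in `Mod O`. -/
def PkgInst : Prop :=
  ∀ {C : Type u} [SmallCategory C] {J : GrothendieckTopology C} (O : Sheaf J CommRingCat.{u}),
    Good (IsFreeSum O)

end Groth.Agent.R2.H41.ResSpec
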