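import Mathlib
import Groth.Agent.R2.H41ResSpec

/-!
# PROJ:pres, package PkgResZ (helper10)

Resolutions of cochain complexes strictly `≤ b` from resolutions of `ℕ`-indexed chain complexes: restrict along
`embeddingUpIntLE b`, resolve, extend by zero, and identify `C` with the extension of its restriction
(`C` is strictly `≤ b`).
-/

set_option autoImplicit false
set_option linter.style.haveILetI false
universe v u
open CategoryTheory CategoryTheory.Limits HomologicalComplex

namespace Groth.Agent.R2.H10.ResZ

open Groth.Agent.R2.H41 Groth.Agent.R2.H41.ResSpec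

section

variable {𝒜 : Type u} [Category.{v} 𝒜] [Abelian 𝒜] (b : ℤ)

lemma not_boundaryGE (j : ℕ) : ¬ (ComplexShape.embeddingUpIntLE b).BoundaryGE j := by
  intro h
  apply h.2 (j + 1)
  change (b - ((j + 1 : ℕ) : ℤ)) + 1 = b - (j : ℤ)
  push_cast
  ring

lemma hasLift_id (C : CochainComplex 𝒜 ℤ) :
    (ComplexShape.embeddingUpIntLE b).HasLift (𝟙 (C.restriction (ComplexShape.embeddingUpIntLE b))) :=
  fun j hj => (not_boundaryGE b j hj).elim

/-- the comparison of a complex with the extension of its restriction -/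
noncomputable def cmp (C : CochainComplex 𝒜 ℤ) :
    C ⟶ (C.restriction (ComplexShape.embeddingUpIntLE b)).extend (ComplexShape.embeddingUpIntLE b) :=
  (ComplexShape.embeddingUpIntLE b).liftExtend (𝟙 _) (hasLift_id b C)

instance isIso_cmp (C : CochainComplex 𝒜 ℤ) [C.IsStrictlyLE b] : IsIso (cmp b C) := by
  haveI : ∀ i : ℤ, IsIso ((cmp b C).f i) := by
    intro i
    by_cases hi : ∃ k : ℕ, (ComplexShape.embeddingUpIntLE b).f k = i
    · obtain ⟨k, hk⟩ := hi
      have h1 := (ComplexShape.embeddingUpIntLE b).isIso_liftExtend_f_iff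
        (𝟙 (C.restriction (ComplexShape.embeddingUpIntLE b))) (hasLift_id b C) hk
      exact h1.2 (by simp only [HomologicalComplex.id_f]; infer_instance)
    · have hi' : ∀ k : ℕ, (ComplexShape.embeddingUpIntLE b).f k ≠ i := fun k hk => hi ⟨k, hk⟩
      have h1 : IsZero (C.X i) := C.isZero_X_of_isStrictlySupported (ComplexShape.embeddingUpIntLE b) i hi'
      have h2 : IsZero (((C.restriction (ComplexShape.embeddingUpIntLE b)).extend
          (ComplexShape.embeddingUpIntLE b)).X i) :=
        (C.restriction (ComplexShape.embeddingUpIntLE b)).isZero_extend_X _ i hi'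
      exact ⟨⟨0, h1.eq_of_src _ _, h2.eq_of_src _ _⟩⟩
  exact HomologicalComplex.Hom.isIso_of_components _

end

theorem pkgResZ (h : ResSpec.PkgResN.{v, u}) : ResSpec.PkgResZ.{v, u} := by
  intro 𝒜 _ _ P hP b C _
  let e := ComplexShape.embeddingUpIntLE b
  obtain ⟨Q', r', hQ', hr', hepi⟩ := h P hP (C.restriction e)
  haveI := hr'
  refine ⟨Q'.extend e, extendMap r' e ≫ inv (cmp b C), inferInstance, ?_, ?_, ?_⟩
  · intro i
    by_cases hi : ∃ k : ℕ, e.f k = i
    · obtain ⟨k, hk⟩ := hi
      exact hP.iso (Q'.extendXIso e hk).symm (hQ' k)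
    · exact hP.zero _ (Q'.isZero_extend_X e i (fun k hk => hi ⟨k, hk⟩))
  · infer_instance
  · intro i
    haveI : Epi ((extendMap r' e).f i) := by
      by_cases hi : ∃ k : ℕ, e.f k = i
      · obtain ⟨k, hk⟩ := hi
        rw [extendMap_f r' e hk]
        haveI := hepi k
        infer_instance
      · have h2 : IsZero (((C.restriction e).extend e).X i) :=
          (C.restriction e).isZero_extend_X _ i (fun k hk => hi ⟨k, hk⟩)
        exact ⟨fun a c _ => h2.eq_of_src _ _⟩
    rw [HomologicalComplex.comp_f]
    haveI : IsIso ((inv (cmp b C)).f i) := inferInstance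
    infer_instance

end Groth.Agent.R2.H10.ResZ
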