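import Groth.Agent.R2.H10CohAcyc

/-!
# Cohomology objects of a derived limit (helper10)

Namespace `Groth.Agent.R2.H10.RlimCoh`.  Abstract form of S0878 in helper17's `LocFr` framework: if on a covering class
`B` the canonical maps `Hom(fr U [0], K_n[q]) → Hom(fr U, H^q K_n)` are bijective and `R^1 lim Hom(fr U, H^q K_n) = 0`,
then `H^q(R lim K_n) = lim H^q(K_n)`.
-/

set_option autoImplicit false
set_option linter.unusedSectionVars false

universe w w' v v' u u'

open CategoryTheory CategoryTheory.Limits HomologicalComplex DerivedCategory Pretriangulated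
open Groth.Agent.Lib.Helper17.Hyp Groth.Agent.R2.H10.RlimSingle

namespace Groth.Agent.R2.H10.RlimCoh

variable {A : Type u} [Category.{v} A] [Abelian A] [HasDerivedCategory.{w} A]
  {C : Type u'} [Category.{v'} C] {J : GrothendieckTopology C} {fr : C ⥤ A}
  {K : ℕ → DerivedCategory A} {t : ∀ n, K (n + 1) ⟶ K n} [HasProduct K]
  {L : DerivedCategory A} {a : ∀ n, L ⟶ K n}

/-- the transfer of `R^1 lim = 0` from cohomology objects to hypercohomology. -/
theorem limOne_of_bijective_cm (P : A) (j : ℤ)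
    (hcm : ∀ n, Function.Bijective (fun y : dsgl P ⟶ (K n)⟦j⟧ => cm y))
    (h2 : CohCx.LimOneIsZero (fun n => P ⟶ (DerivedCategory.homologyFunctor A j).obj (K n))
      (fun n => Preadditive.rightComp _ ((DerivedCategory.homologyFunctor A j).map (t n)))) :
    CohCx.LimOneIsZero (fun n => dsgl P ⟶ (K n)⟦j⟧)
      (fun n => Preadditive.rightComp _ ((t n)⟦j⟧')) :=
  limOneIsZero_of_equiv (fun n => dsgl P ⟶ (K n)⟦j⟧)
    (fun n => P ⟶ (DerivedCategory.homologyFunctor A j).obj (K n))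
    (fun n => Preadditive.rightComp _ ((t n)⟦j⟧'))
    (fun n => Preadditive.rightComp _ ((DerivedCategory.homologyFunctor A j).map (t n)))
    (fun n y => cm y) (fun n => (hcm n).1) (fun n => (hcm n).2)
    (fun n y y' => cm_sub y y') (fun n y => cm_comp y (t n)) h2

variable (B : Set C) {q : ℤ} {Λ : A} {p : ∀ n, Λ ⟶ (DerivedCategory.homologyFunctor A q).obj (K n)}
  {φ : (DerivedCategory.homologyFunctor A q).obj L ⟶ Λ}

theorem mono_φ [IsGrothendieckAbelian.{w'} A] (h : LocFr J fr)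
    (hL : CohCx.IsRlimVia K t L a) (hB : ∀ U : C, sieveB B U ∈ J U)
    (hφ : ∀ n, φ ≫ p n = (DerivedCategory.homologyFunctor A q).map (a n))
    (hcm : ∀ W ∈ B, ∀ (n : ℕ) (j : ℤ),
      Function.Bijective (fun y : dsgl (fr.obj W) ⟶ (K n)⟦j⟧ => cm y))
    (h2 : ∀ W ∈ B, CohCx.LimOneIsZero (fun n => fr.obj W ⟶ (DerivedCategory.homologyFunctor A (q - 1)).obj (K n))
      (fun n => Preadditive.rightComp _ ((DerivedCategory.homologyFunctor A (q - 1)).map (t n)))) :
    Mono φ := by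
  apply Preadditive.mono_of_cancel_zero
  intro Z g hg
  apply h.gen
  intro U s₀
  have hs : (s₀ ≫ g) ≫ φ = 0 := by rw [Category.assoc, hg, comp_zero]
  generalize s₀ ≫ g = s at hs
  obtain ⟨T, hT, hT'⟩ := exists_lift_cm h L q U s
  refine h.sep U s (Sieve.bind T (fun V f _ => sieveB B V))
    (J.bind_covering hT (fun V f _ => hB V)) ?_
  rintro W' _ ⟨V, g₁, f, hf, ⟨W, k, g', hW, rfl⟩, rfl⟩
  obtain ⟨ξ₀, hξ₀⟩ := hT' f hf
  have hξ : cm (res fr g' ξ₀) = fr.map g' ≫ fr.map f ≫ s := by rw [cm_res, hξ₀]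
  generalize res fr g' ξ₀ = ξ at hξ
  have hcomp : ∀ n, ξ ≫ (a n)⟦q⟧' = 0 := by
    intro n
    apply (hcm W hW n q).1
    dsimp only
    rw [cm_comp, hξ, cm_zero, ← hφ n]
    simp only [Category.assoc]
    rw [← Category.assoc s, hs, zero_comp, comp_zero, comp_zero]
  have hlim := limOne_of_bijective_cm (fr.obj W) (q - 1) (fun n => hcm W hW n (q - 1)) (h2 W hW)
  have hzero := (Groth.Agent.S0943.milnor_general hL (dsgl (fr.obj W)) q).2 hlim ξ hcomp
  have h1 : fr.map g' ≫ fr.map f ≫ s = 0 := by rw [← hξ, hzero, cm_zero]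
  rw [Functor.map_comp, Functor.map_comp, Category.assoc, Category.assoc, h1, comp_zero]

theorem epi_φ (h : LocFr J fr)
    (hL : CohCx.IsRlimVia K t L a) (hB : ∀ U : C, sieveB B U ∈ J U)
    (hφ : ∀ n, φ ≫ p n = (DerivedCategory.homologyFunctor A q).map (a n))
    (hp : ∀ n, p (n + 1) ≫ (DerivedCategory.homologyFunctor A q).map (t n) = p n)
    (hΛ : ∀ (U : C) (s : fr.obj U ⟶ Λ), (∀ n, s ≫ p n = 0) → s = 0)
    (hcm : ∀ W ∈ B, ∀ (n : ℕ),
      Function.Bijective (fun y : dsgl (fr.obj W) ⟶ (K n)⟦q⟧ => cm y)) :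
    Epi φ := by
  apply epi_of_local_lift' h
  intro U s
  refine ⟨sieveB B U, hB U, ?_⟩
  rintro V _ ⟨W, k, g', hW, rfl⟩
  suffices hW' : ∃ s' : fr.obj W ⟶ (DerivedCategory.homologyFunctor A q).obj L, s' ≫ φ = fr.map g' ≫ s by
    obtain ⟨s', hs'⟩ := hW'
    exact ⟨fr.map k ≫ s', by rw [Category.assoc, hs', Functor.map_comp, Category.assoc]⟩
  let x : ∀ n, fr.obj W ⟶ (DerivedCategory.homologyFunctor A q).obj (K n) := fun n => fr.map g' ≫ s ≫ p n
  choose ξ hξ using fun n => (hcm W hW n).2 (x n)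
  have hcompat : ∀ n, ξ (n + 1) ≫ (t n)⟦q⟧' = ξ n := by
    intro n
    apply (hcm W hW n).1
    have h1 : cm (ξ (n + 1)) = x (n + 1) := hξ (n + 1)
    have h2 : cm (ξ n) = x n := hξ n
    dsimp only
    rw [cm_comp, h1, h2]
    dsimp only [x]
    rw [Category.assoc, Category.assoc, hp]
  obtain ⟨y, hy⟩ := (Groth.Agent.S0943.milnor_general hL (dsgl (fr.obj W)) q).1 ξ hcompat
  refine ⟨cm y, ?_⟩
  rw [← sub_eq_zero]
  apply hΛ
  intro n
  have h2 : cm (ξ n) = x n := hξ n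
  rw [Preadditive.sub_comp, Category.assoc, hφ n, ← cm_comp, hy n, h2, sub_eq_zero]
  dsimp only [x]
  rw [Category.assoc]

theorem isIso_φ [IsGrothendieckAbelian.{w'} A] (h : LocFr J fr)
    (hL : CohCx.IsRlimVia K t L a) (hB : ∀ U : C, sieveB B U ∈ J U)
    (hφ : ∀ n, φ ≫ p n = (DerivedCategory.homologyFunctor A q).map (a n))
    (hp : ∀ n, p (n + 1) ≫ (DerivedCategory.homologyFunctor A q).map (t n) = p n)
    (hΛ : ∀ (U : C) (s : fr.obj U ⟶ Λ), (∀ n, s ≫ p n = 0) → s = 0)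
    (hcm : ∀ W ∈ B, ∀ (n : ℕ) (j : ℤ),
      Function.Bijective (fun y : dsgl (fr.obj W) ⟶ (K n)⟦j⟧ => cm y))
    (h2 : ∀ W ∈ B, CohCx.LimOneIsZero (fun n => fr.obj W ⟶ (DerivedCategory.homologyFunctor A (q - 1)).obj (K n))
      (fun n => Preadditive.rightComp _ ((DerivedCategory.homologyFunctor A (q - 1)).map (t n)))) :
    IsIso φ := by
  haveI := mono_φ.{w, w'} B h hL hB hφ hcm h2
  haveI := epi_φ B h hL hB hφ hp hΛ (fun W hW n => hcm W hW n q)
  exact isIso_of_mono_of_epi φ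

end Groth.Agent.R2.H10.RlimCoh
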