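import Groth.Agent.R2.H10RlimCoh
import Groth.Agent.R2.H10CohAcycB

/-!
# Cohomology sheaves of a derived limit, for abelian sheaves on a small site (helper10)

Namespace `Groth.Agent.R2.H10.RlimCohB`.  `hd_rlim_iso` is the statement of S0878.
-/

set_option autoImplicit false
set_option linter.unusedSectionVars false

universe u

open CategoryTheory CategoryTheory.Limits Opposite DerivedCategory
open Groth.Agent.Lib.Helper17.Hyp Groth.Agent.R2.H10.RlimSingle Groth.Agent.R2.H10.RlimSingleB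

namespace Groth.Agent.R2.H10.RlimCohB

variable {C : Type u} [SmallCategory C] {J : GrothendieckTopology C}
  [HasDerivedCategory.{u} (Sheaf J AddCommGrpCat.{u})]

/-- The statement of S0878. -/
theorem hd_rlim_iso
    (K : ℕ → DerivedCategory (Sheaf J AddCommGrpCat.{u})) (t : ∀ n, K (n + 1) ⟶ K n) [HasProduct K]
    (L : DerivedCategory (Sheaf J AddCommGrpCat.{u})) (hL : DCoh.IsRlim K t L) (B : Set C)
    (hB : ∀ U : C, ∃ (ι : Type u) (Y : ι → C) (f : ∀ i, Y i ⟶ U), Sieve.ofArrows Y f ∈ J U ∧ ∀ i, Y i ∈ B)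
    (h1 : ∀ U ∈ B, ∀ (p : ℕ) (q : ℤ) (n : ℕ), Subsingleton (CohSite.HU (CohCx.HD (K n) q) (p + 1) U))
    (h2 : ∀ U ∈ B, ∀ (q : ℤ), CohCx.LimOneIsZero (fun n => (CohCx.HD (K n) q).obj.obj (op U))
      (fun n => (((DerivedCategory.homologyFunctor _ q).map (t n)).hom.app (op U)).hom))
    (q : ℤ) :
    Nonempty (CohCx.HD L q ≅ limit (CohCx.opSequence (fun n => CohCx.HD (K n) q)
      (fun n => (DerivedCategory.homologyFunctor _ q).map (t n)))) := by
  obtain ⟨a₀, c, hc⟩ := hL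
  let a : ∀ n, L ⟶ K n := fun n => a₀ ≫ Pi.π K n
  have ha : Pi.lift a = a₀ := by
    apply Pi.hom_ext
    intro n
    rw [Pi.lift_π]
  have hL' : CohCx.IsRlimVia K t L a := ⟨c, by rw [ha]; exact hc⟩
  let F : ℕ → Sheaf J AddCommGrpCat.{u} := fun n => CohCx.HD (K n) q
  let tF : ∀ n, F (n + 1) ⟶ F n := fun n => (DerivedCategory.homologyFunctor _ q).map (t n)
  obtain ⟨φ, hφ⟩ := exists_lift_limit F tF
    (fun n => (DerivedCategory.homologyFunctor _ q).map (a n)) (fun n => by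
      dsimp only [tF]
      rw [← Functor.map_comp, isRlimVia_comp_t hL'])
  have hcm : ∀ W ∈ B, ∀ (n : ℕ) (j : ℤ),
      Function.Bijective (fun y : dsgl ((frSh J).obj W) ⟶ (K n)⟦j⟧ => cm y) :=
    fun W hW n j => Groth.Agent.R2.H10.CohAcycB.bijective_cm (K n) B hB
      (fun U hU p q => h1 U hU p q n) W hW j
  have h2' : ∀ W ∈ B, CohCx.LimOneIsZero
      (fun n => (frSh J).obj W ⟶ (DerivedCategory.homologyFunctor _ (q - 1)).obj (K n))
      (fun n => Preadditive.rightComp _ ((DerivedCategory.homologyFunctor _ (q - 1)).map (t n))) :=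
    fun W hW => limOne_hom_of_sections (fun n => CohCx.HD (K n) (q - 1))
      (fun n => (DerivedCategory.homologyFunctor _ (q - 1)).map (t n)) W (h2 W hW (q - 1))
  have : IsIso φ := Groth.Agent.R2.H10.RlimCoh.isIso_φ.{u, u} B (locFr_frSh J) hL' (sieveB_mem B hB)
    hφ (π_succ_comp F tF) (fun U s hs => hom_ext_limit F tF s hs) hcm h2'
  exact ⟨asIso φ⟩

end Groth.Agent.R2.H10.RlimCohB
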