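import Groth.Agent.Lib.Helper17Hyp2
import Groth.Agent.R2.H10RlimSingle

/-!
# Isomorphisms on cohomology objects detected on a covering class (helper10)

Namespace `Groth.Agent.R2.H10.ShHomology`.

Abstract setting: `A` abelian, `fr : C ⥤ A` with `LocFr J fr` (helper17).  For a morphism `φ : K ⟶ L` of complexes
in `A`, if on every member `W` of a covering class `B` the map `φ` is "bijective on `H^j` of `fr W`-points",
then `homologyMap φ j` is an isomorphism (`isIso_homologyMap_of_local`).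
-/

set_option autoImplicit false
set_option linter.unusedSectionVars false

universe w v v' u u'

open CategoryTheory CategoryTheory.Limits HomologicalComplex
open Groth.Agent.Lib.Helper17.Hyp Groth.Agent.R2.H10.RlimSingle

namespace Groth.Agent.R2.H10.ShHomology

variable {A : Type u} [Category.{v} A] [Abelian A]
  {C : Type u'} [Category.{v'} C] {J : GrothendieckTopology C} {fr : C ⥤ A}
  {ι : Type*} {c : ComplexShape ι} (K L : HomologicalComplex A c) (φ : K ⟶ L)
  (i j k : ι) (hi : c.prev j = i) (hk : c.next j = k)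

/-- the class of a cycle. -/
noncomputable abbrev cl {P : A} (z : P ⟶ K.X j) (hz : z ≫ K.d j k = 0) : P ⟶ K.homology j :=
  K.liftCycles z k hk hz ≫ K.homologyπ j

lemma cl_comp {P P' : A} (a : P' ⟶ P) (z : P ⟶ K.X j) (hz : z ≫ K.d j k = 0) :
    a ≫ cl K j k hk z hz = cl K j k hk (a ≫ z) (by rw [Category.assoc, hz, comp_zero]) := by
  dsimp only [cl]
  rw [← Category.assoc, K.comp_liftCycles]

lemma cl_map {P : A} (z : P ⟶ K.X j) (hz : z ≫ K.d j k = 0) :
    cl K j k hk z hz ≫ homologyMap φ j =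
      cl L j k hk (z ≫ φ.f j) (by rw [Category.assoc, φ.comm, reassoc_of% hz, zero_comp]) := by
  dsimp only [cl]
  rw [Category.assoc, homologyπ_naturality, ← Category.assoc, liftCycles_comp_cyclesMap]

lemma cl_boundary {P : A} (y : P ⟶ K.X i) (z : P ⟶ K.X j) (h : z = y ≫ K.d i j) :
    cl K j k hk z (by rw [h, Category.assoc, K.d_comp_d, comp_zero]) = 0 :=
  K.liftCycles_homologyπ_eq_zero_of_boundary z k hk y h

lemma cl_add {P : A} (z z' : P ⟶ K.X j) (hz : z ≫ K.d j k = 0) (hz' : z' ≫ K.d j k = 0) :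
    cl K j k hk (z + z') (by rw [Preadditive.add_comp, hz, hz', add_zero]) =
      cl K j k hk z hz + cl K j k hk z' hz' := by
  dsimp only [cl]
  have h1 : K.liftCycles (z + z') k hk (by rw [Preadditive.add_comp, hz, hz', add_zero]) =
      K.liftCycles z k hk hz + K.liftCycles z' k hk hz' := by
    rw [← cancel_mono (K.iCycles j), liftCycles_i]
    simp only [Preadditive.add_comp, liftCycles_i]
  rw [h1, Preadditive.add_comp]

/-- local lifting of sections of the cohomology object to cycles. -/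
theorem exists_local_cycle (h : LocFr J fr) (U : C) (s : fr.obj U ⟶ K.homology j) :
    ∃ T ∈ J U, ∀ ⦃V : C⦄ (g : V ⟶ U), T g →
      ∃ (z : fr.obj V ⟶ K.X j) (hz : z ≫ K.d j k = 0), cl K j k hk z hz = fr.map g ≫ s := by
  obtain ⟨T, hT, hT'⟩ := h.lift (K.homologyπ j) U s
  refine ⟨T, hT, fun V g hg => ?_⟩
  obtain ⟨c', hc'⟩ := hT' g hg
  refine ⟨c' ≫ K.iCycles j, by rw [Category.assoc, K.iCycles_d, comp_zero], ?_⟩
  dsimp only [cl]
  rw [← hc']
  congr 1
  rw [← cancel_mono (K.iCycles j), liftCycles_i]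

include hi in
/-- a cycle whose class vanishes is locally a boundary. -/
theorem exists_local_boundary (h : LocFr J fr) (U : C) (z : fr.obj U ⟶ K.X j)
    (hz : z ≫ K.d j k = 0) (h0 : cl K j k hk z hz = 0) :
    ∃ T ∈ J U, ∀ ⦃V : C⦄ (g : V ⟶ U), T g →
      ∃ y : fr.obj V ⟶ K.X i, y ≫ K.d i j = fr.map g ≫ z := by
  have hS : (ShortComplex.mk (K.toCycles i j) (K.homologyπ j) (K.toCycles_comp_homologyπ i j)).Exact :=
    ShortComplex.exact_of_g_is_cokernel _ (K.homologyIsCokernel i j hi)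
  obtain ⟨A', π, hπ, x₁, fac⟩ := hS.exact_up_to_refinements (K.liftCycles z k hk hz) h0
  obtain ⟨T, hT, hT'⟩ := h.lift π U (𝟙 _)
  refine ⟨T, hT, fun V g hg => ?_⟩
  obtain ⟨s', hs'⟩ := hT' g hg
  refine ⟨s' ≫ x₁, ?_⟩
  have h1 : x₁ ≫ K.d i j = π ≫ z := by
    have := congrArg (fun t => t ≫ K.iCycles j) fac
    simp only [Category.assoc, liftCycles_i] at this
    rw [this]
    change x₁ ≫ K.d i j = x₁ ≫ K.toCycles i j ≫ K.iCycles j
    rw [K.toCycles_i]
  rw [Category.assoc, h1, ← Category.assoc, hs', Category.comp_id]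

lemma cl_congr {P : A} {z z' : P ⟶ K.X j} (e : z = z') (hz : z ≫ K.d j k = 0) :
    cl K j k hk z hz = cl K j k hk z' (by rw [← e]; exact hz) := by
  subst e
  rfl

variable (fr) in
/-- `φ` is injective on `H^j` of `fr W`-points. -/
def InjOn (W : C) : Prop :=
  ∀ (z : fr.obj W ⟶ K.X j), z ≫ K.d j k = 0 →
    (∃ y' : fr.obj W ⟶ L.X i, z ≫ φ.f j = y' ≫ L.d i j) → ∃ y : fr.obj W ⟶ K.X i, z = y ≫ K.d i j

variable (fr) in
/-- `φ` is surjective on `H^j` of `fr W`-points. -/
def SurjOn (W : C) : Prop :=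
  ∀ (z' : fr.obj W ⟶ L.X j), z' ≫ L.d j k = 0 →
    ∃ (z : fr.obj W ⟶ K.X j) (_ : z ≫ K.d j k = 0) (y' : fr.obj W ⟶ L.X i),
      z ≫ φ.f j = z' + y' ≫ L.d i j

/-- the sieve on which a generalized section vanishes. -/
def vanSieve {G : A} {U : C} (s : fr.obj U ⟶ G) : Sieve U where
  arrows V g := fr.map g ≫ s = 0
  downward_closed := by
    intro V V' g hg a
    rw [fr.map_comp, Category.assoc, hg, comp_zero]

include hi hk in
theorem mono_homologyMap (h : LocFr J fr) (B : Set C) (hB : ∀ U : C, sieveB B U ∈ J U)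
    (hinj : ∀ W ∈ B, InjOn fr K L φ i j k W) : Mono (homologyMap φ j) := by
  apply Abelian.mono_of_kernel_ι_eq_zero
  apply h.gen
  intro U s₀
  obtain ⟨s, hs⟩ : ∃ s : fr.obj U ⟶ K.homology j, s = s₀ ≫ kernel.ι (homologyMap φ j) := ⟨_, rfl⟩
  have hsf : s ≫ homologyMap φ j = 0 := by rw [hs, Category.assoc, kernel.condition, comp_zero]
  rw [← hs]
  refine h.sep U s (vanSieve s) ?_ (fun V g hg => hg)
  obtain ⟨T, hT, hT'⟩ := exists_local_cycle K j k hk h U s
  refine J.transitive hT _ (fun V g hg => ?_)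
  obtain ⟨z, hz, hcl⟩ := hT' g hg
  have hz' : (z ≫ φ.f j) ≫ L.d j k = 0 := by
    rw [Category.assoc, φ.comm, reassoc_of% hz, zero_comp]
  have h0 : cl L j k hk (z ≫ φ.f j) hz' = 0 := by
    rw [← cl_map K L φ j k hk z hz, hcl, Category.assoc, hsf, comp_zero]
  obtain ⟨T', hT'1, hT'2⟩ := exists_local_boundary L i j k hi hk h V (z ≫ φ.f j) hz' h0
  refine J.transitive hT'1 _ (fun W g' hg' => ?_)
  obtain ⟨y', hy'⟩ := hT'2 g' hg'
  refine J.superset_covering ?_ (hB W)
  rintro W' a ⟨W₀, k', b, hW₀, rfl⟩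
  have hz₀ : (fr.map b ≫ fr.map g' ≫ z) ≫ K.d j k = 0 := by
    rw [Category.assoc, Category.assoc, hz, comp_zero, comp_zero]
  obtain ⟨y, hy⟩ := hinj W₀ hW₀ (fr.map b ≫ fr.map g' ≫ z) hz₀
    ⟨fr.map b ≫ y', by rw [Category.assoc, Category.assoc, Category.assoc, hy']⟩
  have h1 : cl K j k hk (fr.map b ≫ fr.map g' ≫ z) hz₀ = 0 := cl_boundary K i j k hk y _ hy
  have h2 : fr.map b ≫ fr.map g' ≫ fr.map g ≫ s = 0 := by
    rw [← hcl, cl_comp, cl_comp]
    exact h1
  change fr.map (((k' ≫ b) ≫ g') ≫ g) ≫ s = 0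
  rw [fr.map_comp, fr.map_comp, fr.map_comp, Category.assoc, Category.assoc, Category.assoc, h2,
    comp_zero]

include hk in
theorem epi_homologyMap (h : LocFr J fr) (B : Set C) (hB : ∀ U : C, sieveB B U ∈ J U)
    (hsurj : ∀ W ∈ B, SurjOn fr K L φ i j k W) : Epi (homologyMap φ j) := by
  apply epi_of_local_lift' h
  intro U s
  obtain ⟨T, hT, hT'⟩ := exists_local_cycle L j k hk h U s
  refine ⟨Sieve.bind T (fun V g _ => sieveB B V), J.bind_covering hT (fun V g _ => hB V), ?_⟩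
  rintro W' _ ⟨V, a, g, hg, ⟨W₀, k', b, hW₀, rfl⟩, rfl⟩
  obtain ⟨z', hz', hcl⟩ := hT' g hg
  have hz₀ : (fr.map b ≫ z') ≫ L.d j k = 0 := by rw [Category.assoc, hz', comp_zero]
  obtain ⟨z, hz, y', hzy⟩ := hsurj W₀ hW₀ (fr.map b ≫ z') hz₀
  refine ⟨fr.map k' ≫ cl K j k hk z hz, ?_⟩
  have hb0 : (y' ≫ L.d i j) ≫ L.d j k = 0 := by rw [Category.assoc, L.d_comp_d, comp_zero]
  have h1 : cl K j k hk z hz ≫ homologyMap φ j = fr.map b ≫ fr.map g ≫ s := by
    rw [cl_map K L φ j k hk z hz, cl_congr L j k hk hzy, cl_add L j k hk _ _ hz₀ hb0,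
      cl_boundary L i j k hk y' _ rfl, add_zero, ← cl_comp L j k hk (fr.map b) z' hz', hcl]
  rw [Category.assoc, h1, fr.map_comp, fr.map_comp, Category.assoc, Category.assoc]

include hi hk in
/-- Main theorem: bijectivity on `H^j` of points over a covering class gives an isomorphism of cohomology objects. -/
theorem isIso_homologyMap_of_local (h : LocFr J fr) (B : Set C) (hB : ∀ U : C, sieveB B U ∈ J U)
    (hinj : ∀ W ∈ B, InjOn fr K L φ i j k W) (hsurj : ∀ W ∈ B, SurjOn fr K L φ i j k W) :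
    IsIso (homologyMap φ j) := by
  haveI := mono_homologyMap K L φ i j k hi hk h B hB hinj
  haveI := epi_homologyMap K L φ i j k hk h B hB hsurj
  exact isIso_of_mono_of_epi _

end Groth.Agent.R2.H10.ShHomology
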