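import Mathlib

/-!
# PROJ:cbc — finite products of functors to abelian groups   (helper11)

A finite product `M ↦ ∏_x T_x(M)` of functors to `Ab` inherits preservation of colimits and of
monomorphisms from the factors.
-/

set_option autoImplicit false
universe u v w

open CategoryTheory CategoryTheory.Limits

namespace Groth.Agent.R2.H11.CbcProd

variable {D : Type w} [Category.{v} D] {K : Type u} (Tx : K → (D ⥤ AddCommGrpCat.{u}))

/-- `M ↦ (x ↦ T_x(M))` -/
noncomputable def famFunctor : D ⥤ (Discrete K ⥤ AddCommGrpCat.{u}) where
  obj M := Discrete.functor (fun x => (Tx x).obj M)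
  map f := Discrete.natTrans (fun x => (Tx x.as).map f)
  map_id M := by
    ext ⟨x⟩
    simp
  map_comp f g := by
    ext ⟨x⟩
    simp

/-- evaluating the family at `x` gives `T_x` -/
noncomputable def famFunctorEval (k : Discrete K) :
    famFunctor Tx ⋙ (evaluation _ _).obj k ≅ Tx k.as :=
  NatIso.ofComponents (fun M => Iso.refl _) (by
    intro M N f
    simp [famFunctor])

/-- the product functor `M ↦ ∏_x T_x(M)` -/
noncomputable abbrev prodFunctor : D ⥤ AddCommGrpCat.{u} := famFunctor Tx ⋙ lim

instance fam_pcs (J : Type*) [Category J] [∀ x, PreservesColimitsOfShape J (Tx x)] :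
    PreservesColimitsOfShape J (famFunctor Tx) :=
  preservesColimitsOfShape_of_evaluation (famFunctor Tx) J (fun k =>
    preservesColimitsOfShape_of_natIso (famFunctorEval Tx k).symm)

instance lim_pcs [Finite K] (J : Type*) [Category J] :
    PreservesColimitsOfShape J (lim : (Discrete K ⥤ AddCommGrpCat.{u}) ⥤ AddCommGrpCat.{u}) :=
  preservesColimitsOfShape_of_natIso HasBiproductsOfShape.colimIsoLim

instance prod_pcs [Finite K] (J : Type*) [Category J] [∀ x, PreservesColimitsOfShape J (Tx x)] :
    PreservesColimitsOfShape J (prodFunctor Tx) :=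
  inferInstance

instance prod_pfc [Finite K] [∀ x, PreservesFiniteColimits (Tx x)] :
    PreservesFiniteColimits (prodFunctor Tx) :=
  ⟨fun J _ _ => inferInstance⟩

instance fam_mono [∀ x, (Tx x).PreservesMonomorphisms] : (famFunctor Tx).PreservesMonomorphisms where
  preserves {M N} f hf := by
    rw [NatTrans.mono_iff_mono_app]
    intro ⟨x⟩
    show Mono ((Tx x).map f)
    infer_instance

instance prod_mono [∀ x, (Tx x).PreservesMonomorphisms] : (prodFunctor Tx).PreservesMonomorphisms :=
  inferInstance

end Groth.Agent.R2.H11.CbcProd
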