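import Mathlib

/-!
# Linearisation of an additive functor `ModuleCat A ⥤ Ab`

For a commutative ring `A` and an additive functor `T : ModuleCat A ⥤ AddCommGrpCat`, the groups
`T M` carry the `A`-module structure `a • x = T (a • 𝟙_M) x`, and `T` lifts to an `A`-linear functor
`Lin T : ModuleCat A ⥤ ModuleCat A` with `Lin T ⋙ forget₂ = T`.  Natural transformations lift too.
(Part of PROJ:cbc, cohomology and base change bridge.)
-/

set_option autoImplicit false
universe u
open CategoryTheory CategoryTheory.Limits

namespace Groth.Agent.R2.H11.CbcLin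

variable {A : Type u} [CommRing A]

section Lin

variable (T : ModuleCat.{u} A ⥤ AddCommGrpCat.{u}) [T.Additive]

/-- `a ↦ T (a • 𝟙 M)` as a ring homomorphism into the endomorphisms of the group `T M`. -/
noncomputable def linRingHom (M : ModuleCat.{u} A) : A →+* AddMonoid.End (T.obj M) where
  toFun a := (T.map (a • 𝟙 M)).hom
  map_one' := by
    rw [one_smul, T.map_id]
    rfl
  map_mul' a b := by
    have h : (a * b) • 𝟙 M = (b • 𝟙 M) ≫ (a • 𝟙 M) := by
      rw [Linear.smul_comp, Category.id_comp, smul_smul, mul_comm]
    rw [h, T.map_comp]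
    rfl
  map_zero' := by
    rw [zero_smul, T.map_zero]
    rfl
  map_add' a b := by
    rw [add_smul, T.map_add]
    rfl

/-- the module structure on `T M` given by functoriality -/
noncomputable abbrev linModule (M : ModuleCat.{u} A) : Module A (T.obj M) :=
  Module.compHom (T.obj M) (linRingHom T M)

/-- `T M` as an `A`-module. -/
noncomputable def linObj (M : ModuleCat.{u} A) : ModuleCat.{u} A :=
  @ModuleCat.of A _ (T.obj M) _ (linModule T M)

theorem linObj_smul (M : ModuleCat.{u} A) (a : A) (x : T.obj M) :
    (letI := linModule T M; a • x) = (T.map (a • 𝟙 M)).hom x := rfl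

/-- `T f` as an `A`-linear map. -/
noncomputable def linMap {M N : ModuleCat.{u} A} (f : M ⟶ N) : linObj T M ⟶ linObj T N :=
  letI := linModule T M
  letI := linModule T N
  ModuleCat.ofHom
    { toFun := fun x => (T.map f).hom x
      map_add' := fun x y => map_add _ x y
      map_smul' := fun a x => by
        show (T.map f).hom ((T.map (a • 𝟙 M)).hom x) = (T.map (a • 𝟙 N)).hom ((T.map f).hom x)
        have h : (a • 𝟙 M) ≫ f = f ≫ (a • 𝟙 N) := by
          rw [Linear.smul_comp, Linear.comp_smul, Category.id_comp, Category.comp_id]
        have h2 : (T.map ((a • 𝟙 M) ≫ f)).hom x = (T.map (f ≫ (a • 𝟙 N))).hom x := by rw [h]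
        rw [T.map_comp, T.map_comp] at h2
        exact h2 }

theorem linMap_apply {M N : ModuleCat.{u} A} (f : M ⟶ N) (x : T.obj M) :
    (linMap T f).hom x = (T.map f).hom x := rfl

/-- The linearisation of `T`. -/
noncomputable def Lin : ModuleCat.{u} A ⥤ ModuleCat.{u} A where
  obj M := linObj T M
  map f := linMap T f
  map_id M := by
    ext x
    show (T.map (𝟙 M)).hom x = x
    rw [T.map_id]
    rfl
  map_comp f g := by
    ext x
    show (T.map (f ≫ g)).hom x = (T.map g).hom ((T.map f).hom x)
    rw [T.map_comp]
    rfl

instance : (Lin T).Additive where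
  map_add {M N} f g := by
    ext x
    show (T.map (f + g)).hom x = (T.map f).hom x + (T.map g).hom x
    rw [T.map_add]
    rfl

instance : (Lin T).Linear A where
  map_smul {M N} f a := by
    ext x
    show (T.map (a • f)).hom x = (T.map (a • 𝟙 N)).hom ((T.map f).hom x)
    have h : a • f = f ≫ (a • 𝟙 N) := by rw [Linear.comp_smul, Category.comp_id]
    rw [h, T.map_comp]
    rfl

/-- `Lin T` followed by the forgetful functor is `T`. -/
noncomputable def linForgetIso : Lin T ⋙ forget₂ (ModuleCat.{u} A) AddCommGrpCat.{u} ≅ T :=
  NatIso.ofComponents (fun M => Iso.refl _) (fun {M N} f => by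
    ext x
    rfl)

theorem linForgetIso_hom_app_apply (M : ModuleCat.{u} A) (x : T.obj M) :
    ((linForgetIso T).hom.app M).hom x = x := rfl

theorem linForgetIso_inv_app_apply (M : ModuleCat.{u} A) (x : T.obj M) :
    ((linForgetIso T).inv.app M).hom x = x := rfl

instance preservesColimitsOfShape_lin (J : Type u) [Category.{u} J]
    [PreservesColimitsOfShape J T] : PreservesColimitsOfShape J (Lin T) := by
  haveI : PreservesColimitsOfShape J (Lin T ⋙ forget₂ (ModuleCat.{u} A) AddCommGrpCat.{u}) :=
    preservesColimitsOfShape_of_natIso (linForgetIso T).symm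
  exact preservesColimitsOfShape_of_reflects_of_preserves (Lin T)
    (forget₂ (ModuleCat.{u} A) AddCommGrpCat.{u})

instance preservesFiniteColimits_lin [PreservesFiniteColimits T] :
    PreservesFiniteColimits (Lin T) := by
  haveI : PreservesFiniteColimits (Lin T ⋙ forget₂ (ModuleCat.{u} A) AddCommGrpCat.{u}) :=
    preservesFiniteColimits_of_natIso (linForgetIso T).symm
  constructor
  intro J _ _
  exact preservesColimitsOfShape_of_reflects_of_preserves (Lin T)
    (forget₂ (ModuleCat.{u} A) AddCommGrpCat.{u})

theorem lin_preservesMonomorphisms [T.PreservesMonomorphisms] :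
    (Lin T).PreservesMonomorphisms where
  preserves {M N} f hf := by
    rw [ModuleCat.mono_iff_injective]
    have : Mono (T.map f) := inferInstance
    exact (AddCommGrpCat.mono_iff_injective _).mp this

end Lin

section Nat

variable {T T' : ModuleCat.{u} A ⥤ AddCommGrpCat.{u}} [T.Additive] [T'.Additive] (α : T ⟶ T')

/-- a natural transformation lifts to the linearisations -/
noncomputable def linNat : Lin T ⟶ Lin T' where
  app M :=
    letI := linModule T M
    letI := linModule T' M
    ModuleCat.ofHom
      { toFun := fun x => (α.app M).hom x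
        map_add' := fun x y => map_add _ x y
        map_smul' := fun a x => by
          show (α.app M).hom ((T.map (a • 𝟙 M)).hom x) = (T'.map (a • 𝟙 M)).hom ((α.app M).hom x)
          have h := α.naturality (a • 𝟙 M)
          have h2 : (T.map (a • 𝟙 M) ≫ α.app M).hom x = (α.app M ≫ T'.map (a • 𝟙 M)).hom x := by
            rw [h]
          exact h2 }
  naturality {M N} f := by
    ext x
    show (α.app N).hom ((T.map f).hom x) = (T'.map f).hom ((α.app M).hom x)
    have h := α.naturality f
    have h2 : (T.map f ≫ α.app N).hom x = (α.app M ≫ T'.map f).hom x := by rw [h]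
    exact h2

theorem linNat_app_apply (M : ModuleCat.{u} A) (x : T.obj M) :
    ((linNat α).app M).hom x = (α.app M).hom x := rfl

end Nat

end Groth.Agent.R2.H11.CbcLin
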