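import Mathlib
import Groth.Agent.R2.H11CbcLin
import Groth.Agent.Lib.Helper16TensorCmp2

/-!
# Eilenberg–Watts for the linearisation of an additive functor `ModuleCat A ⥤ Ab`
(PROJ:cbc)  If `T` preserves finite colimits and coproducts, then `T(A) ⊗_A M ≅ T(M)` naturally in `M`
and in `T`; if moreover `T` preserves monomorphisms then `T(A)` is flat.
-/

set_option autoImplicit false
universe u
open CategoryTheory CategoryTheory.Limits MonoidalCategory

namespace Groth.Agent.R2.H11.CbcEW

open Groth.Agent.Lib.Helper16.TensorCmp Groth.Agent.R2.H11.CbcLin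

variable {A : Type u} [CommRing A]

section

variable (T : ModuleCat.{u} A ⥤ AddCommGrpCat.{u}) [T.Additive] [PreservesFiniteColimits T]
  [∀ J : Type u, PreservesColimitsOfShape (Discrete J) T]

/-- the value `T(A)` with its functorial module structure -/
noncomputable abbrev val : ModuleCat.{u} A := (Lin T).obj (ModuleCat.of A A)

theorem tM_bijective (M : ModuleCat.{u} A) : Function.Bijective (tM (Lin T) M) :=
  ⟨tM_injective_of_pfc (Lin T) M, tM_surjective_of_pfc (Lin T) M⟩

/-- the Eilenberg–Watts isomorphism `T(A) ⊗ M ≅ T(M)` -/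
noncomputable def ewEquiv (M : ModuleCat.{u} A) :
    TensorProduct A (val T) M ≃ₗ[A] (Lin T).obj M :=
  LinearEquiv.ofBijective (tM (Lin T) M) (tM_bijective T M)

theorem ewEquiv_tmul (M : ModuleCat.{u} A) (y : val T) (x : M) :
    ewEquiv T M (y ⊗ₜ x) = (T.map (θ x)).hom y := rfl

theorem ewEquiv_nat {M N : ModuleCat.{u} A} (f : M ⟶ N) (z : TensorProduct A (val T) M) :
    ((Lin T).map f).hom (ewEquiv T M z) = ewEquiv T N (LinearMap.lTensor _ f.hom z) :=
  tM_nat (Lin T) f z

/-- `T(A)` is flat when `T` preserves monomorphisms. -/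
theorem flat_val [T.PreservesMonomorphisms] : Module.Flat A (val T) := by
  rw [Module.Flat.iff_lTensor_preserves_injective_linearMap]
  intro N N' _ _ _ _ f hf
  haveI := lin_preservesMonomorphisms T
  have hmono : Mono (ModuleCat.ofHom f) := (ModuleCat.mono_iff_injective _).mpr hf
  have h2 : Mono ((Lin T).map (ModuleCat.ofHom f)) := inferInstance
  have h3 : Function.Injective ((Lin T).map (ModuleCat.ofHom f)).hom :=
    (ModuleCat.mono_iff_injective _).mp h2
  have key : ∀ z, ((Lin T).map (ModuleCat.ofHom f)).hom (ewEquiv T (ModuleCat.of A N) z) =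
      ewEquiv T (ModuleCat.of A N') (LinearMap.lTensor _ f z) := fun z =>
    ewEquiv_nat T (ModuleCat.ofHom f) z
  intro z z' hzz'
  apply (ewEquiv T (ModuleCat.of A N)).injective
  apply h3
  rw [key, key, hzz']

end

section Nat

variable {T T' : ModuleCat.{u} A ⥤ AddCommGrpCat.{u}} [T.Additive] [T'.Additive]
  [PreservesFiniteColimits T] [PreservesFiniteColimits T']
  [∀ J : Type u, PreservesColimitsOfShape (Discrete J) T]
  [∀ J : Type u, PreservesColimitsOfShape (Discrete J) T'] (α : T ⟶ T')

/-- naturality of the Eilenberg–Watts isomorphism in the functor -/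
theorem ewEquiv_linNat (M : ModuleCat.{u} A) (z : TensorProduct A (val T) M) :
    ((linNat α).app M).hom (ewEquiv T M z) =
      ewEquiv T' M (LinearMap.rTensor M ((linNat α).app (ModuleCat.of A A)).hom z) := by
  induction z using TensorProduct.induction_on with
  | zero => simp
  | tmul y x =>
    rw [LinearMap.rTensor_tmul, ewEquiv_tmul, ewEquiv_tmul]
    have h := α.naturality (θ x)
    have h2 : (T.map (θ x) ≫ α.app M).hom y = (α.app _ ≫ T'.map (θ x)).hom y := by rw [h]
    exact h2
  | add a b ha hb => simp only [map_add, ha, hb]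

end Nat

end Groth.Agent.R2.H11.CbcEW
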