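import Mathlib
import Groth.Prelude.Def_ega3
import Groth.Agent.R2.H11CbcEW

/-!
# From a functor to complexes of abelian groups to a complex of flat modules  (PROJ:cbc)

For `C : ModuleCat A ⥤ HomologicalComplex Ab c` additive, whose term functors preserve finite colimits
and coproducts, the complex `P0 C` of `A`-modules with terms `C(A)_i` (functorial module structure)
satisfies `P0 C ⊗_A M ≅ C(M)` naturally in `M`.
-/

set_option autoImplicit false
universe u
open CategoryTheory CategoryTheory.Limits MonoidalCategory

namespace Groth.Agent.R2.H11.CbcCx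

open Groth.Agent.Lib.Helper16.TensorCmp Groth.Agent.R2.H11.CbcLin Groth.Agent.R2.H11.CbcEW

variable {A : Type u} [CommRing A] {ι : Type} {c : ComplexShape ι}
variable (C : ModuleCat.{u} A ⥤ HomologicalComplex AddCommGrpCat.{u} c) [C.Additive]

/-- the `i`-th term functor -/
noncomputable abbrev Tq (i : ι) : ModuleCat.{u} A ⥤ AddCommGrpCat.{u} :=
  C ⋙ HomologicalComplex.eval _ _ i

/-- the differential as a natural transformation -/
noncomputable def dNat (i j : ι) : Tq C i ⟶ Tq C j where
  app M := (C.obj M).d i j
  naturality _ _ f := ((C.map f).comm i j)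

omit [C.Additive] in
theorem dNat_app (i j : ι) (M : ModuleCat.{u} A) : (dNat C i j).app M = (C.obj M).d i j := rfl

/-- the complex of `A`-modules `M ↦ C(M)` with functorial module structures -/
noncomputable def linCx (M : ModuleCat.{u} A) : HomologicalComplex (ModuleCat.{u} A) c where
  X i := (Lin (Tq C i)).obj M
  d i j := (linNat (dNat C i j)).app M
  shape i j h := by
    ext x
    show ((C.obj M).d i j).hom x = 0
    rw [(C.obj M).shape i j h]
    rfl
  d_comp_d' i j k _ _ := by
    ext x
    show ((C.obj M).d j k).hom (((C.obj M).d i j).hom x) = 0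
    have h := (C.obj M).d_comp_d i j k
    have h2 : ((C.obj M).d i j ≫ (C.obj M).d j k).hom x = 0 := by
      rw [h]
      rfl
    exact h2

/-- `linCx` as a functor -/
noncomputable def LinC : ModuleCat.{u} A ⥤ HomologicalComplex (ModuleCat.{u} A) c where
  obj M := linCx C M
  map {M N} f :=
    { f := fun i => (Lin (Tq C i)).map f
      comm' := fun i j _ => ((linNat (dNat C i j)).naturality f) }
  map_id M := by
    apply HomologicalComplex.hom_ext
    intro i
    exact (Lin (Tq C i)).map_id M
  map_comp f g := by
    apply HomologicalComplex.hom_ext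
    intro i
    exact (Lin (Tq C i)).map_comp f g

section Forget

/-- homology commutes with a homology-preserving functor, naturally -/
noncomputable def mapHomologyNatIso {C₁ D₁ : Type*} [Category C₁] [Category D₁] [Abelian C₁]
    [Abelian D₁] (F : C₁ ⥤ D₁) [F.Additive] [F.PreservesHomology] (i : ι) :
    F.mapHomologicalComplex c ⋙ HomologicalComplex.homologyFunctor D₁ c i ≅
      HomologicalComplex.homologyFunctor C₁ c i ⋙ F :=
  NatIso.ofComponents (fun K => (K.sc i).mapHomologyIso F) (fun {K L} f =>
    ShortComplex.mapHomologyIso_hom_naturality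
      ((HomologicalComplex.shortComplexFunctor C₁ c i).map f) F)

/-- forgetting the module structures on `LinC C` gives back `C` -/
noncomputable def linCForgetIso :
    LinC C ⋙ (forget₂ (ModuleCat.{u} A) AddCommGrpCat.{u}).mapHomologicalComplex c ≅ C :=
  NatIso.ofComponents (fun M => HomologicalComplex.Hom.isoOfComponents (fun i => Iso.refl _) (by
    intro i j _
    ext x
    rfl)) (by
    intro M N f
    apply HomologicalComplex.hom_ext
    intro i
    ext x
    rfl)

end Forget

section EW

variable [∀ i, PreservesFiniteColimits (Tq C i)]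
  [∀ (i : ι) (J : Type u), PreservesColimitsOfShape (Discrete J) (Tq C i)]

/-- the complex of `A`-modules `C(A)` -/
noncomputable abbrev P0 : HomologicalComplex (ModuleCat.{u} A) c := linCx C (ModuleCat.of A A)

/-- the Eilenberg–Watts isomorphism of complexes `C(A) ⊗ M ≅ C(M)` -/
noncomputable def ewCx (M : ModuleCat.{u} A) : CohIII.tensorObj (P0 C) M ≅ (LinC C).obj M :=
  HomologicalComplex.Hom.isoOfComponents (fun i => (ewEquiv (Tq C i) M).toModuleIso) (by
    intro i j _
    ext z
    exact ewEquiv_linNat (dNat C i j) M z)

theorem ewCx_hom_f_apply (M : ModuleCat.{u} A) (i : ι)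
    (z : TensorProduct A (val (Tq C i)) M) :
    ((ewCx C M).hom.f i).hom z = ewEquiv (Tq C i) M z := rfl

/-- naturality of `ewCx` in `M` -/
theorem ewCx_naturality {M N : ModuleCat.{u} A} (f : M ⟶ N) :
    CohIII.tensorMap (P0 C) f ≫ (ewCx C N).hom = (ewCx C M).hom ≫ (LinC C).map f := by
  apply HomologicalComplex.hom_ext
  intro i
  ext z
  exact (ewEquiv_nat (Tq C i) f z).symm

/-- `H_i(C(A) ⊗ M) ≅ H_i(LinC C M)` naturally in `M` -/
noncomputable def TFunIso (i : ι) :
    CohIII.TFun (P0 C) i ≅ LinC C ⋙ HomologicalComplex.homologyFunctor _ c i :=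
  NatIso.ofComponents (fun M => HomologicalComplex.homologyMapIso (ewCx C M) i) (by
    intro M N f
    show HomologicalComplex.homologyMap (CohIII.tensorMap (P0 C) f) i ≫
        HomologicalComplex.homologyMap (ewCx C N).hom i =
      HomologicalComplex.homologyMap (ewCx C M).hom i ≫
        HomologicalComplex.homologyMap ((LinC C).map f) i
    rw [← HomologicalComplex.homologyMap_comp, ← HomologicalComplex.homologyMap_comp,
      ewCx_naturality])

/-- the terms of `C(A)` are flat when the term functors preserve monomorphisms -/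
theorem flat_P0_X [∀ i, (Tq C i).PreservesMonomorphisms] (i : ι) :
    Module.Flat A ((P0 C).X i) :=
  flat_val (Tq C i)

/-- **The comparison**: `H_i(C(M)) ≅ H_i(C(A) ⊗_A M)` naturally in `M` (as abelian groups). -/
noncomputable def homologyIso (i : ι) :
    C ⋙ HomologicalComplex.homologyFunctor AddCommGrpCat.{u} c i ≅
      CohIII.TFun (P0 C) i ⋙ forget₂ (ModuleCat.{u} A) AddCommGrpCat.{u} :=
  (Functor.isoWhiskerRight (linCForgetIso C).symm _) ≪≫
    Functor.associator _ _ _ ≪≫
    Functor.isoWhiskerLeft (LinC C)
      (mapHomologyNatIso (forget₂ (ModuleCat.{u} A) AddCommGrpCat.{u}) i) ≪≫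
    (Functor.associator _ _ _).symm ≪≫
    Functor.isoWhiskerRight (TFunIso C i).symm _

end EW

end Groth.Agent.R2.H11.CbcCx
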