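import Mathlib
import Groth.Prelude.Def_ega3
import Groth.Agent.Lib.Helper3FlatCx
import Groth.Agent.R2.H11CbcCx

/-!
# PROJ:cbc — universally quasi-isomorphic flat complexes   (helper11)

`u : L ⟶ P` a quasi-isomorphism of chain complexes (indexed by `ℤ`) of flat `A`-modules such that
`H_i(L ⊗ M) = 0 = H_i(P ⊗ M)` for all `i < d` and all `M`.  Then `u ⊗ M` is a quasi-isomorphism for every
`M`, and `TFun L i ≅ TFun P i`.
-/

set_option autoImplicit false
universe u

open CategoryTheory CategoryTheory.Limits MonoidalCategory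

namespace Groth.Agent.R2.H11.CbcQis

open Groth.Agent.Lib.Helper3

variable {A : Type u} [CommRing A]

section General

variable {ι : Type} {c : ComplexShape ι}

/-- the map `L ⊗ M ⟶ P ⊗ M` induced by `u : L ⟶ P` -/
noncomputable abbrev tensorMapL {L P : HomologicalComplex (ModuleCat.{u} A) c} (u : L ⟶ P)
    (M : ModuleCat.{u} A) : CohIII.tensorObj L M ⟶ CohIII.tensorObj P M :=
  ((tensorRight M).mapHomologicalComplex c).map u

theorem tensorMapL_f {L P : HomologicalComplex (ModuleCat.{u} A) c} (u : L ⟶ P)
    (M : ModuleCat.{u} A) (i : ι) : (tensorMapL u M).f i = u.f i ▷ M := rfl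

theorem tensorMapL_comm {L P : HomologicalComplex (ModuleCat.{u} A) c} (u : L ⟶ P)
    {M N : ModuleCat.{u} A} (g : M ⟶ N) :
    CohIII.tensorMap L g ≫ tensorMapL u N = tensorMapL u M ≫ CohIII.tensorMap P g := by
  apply HomologicalComplex.hom_ext
  intro i
  show (L.X i ◁ g) ≫ (u.f i ▷ N) = (u.f i ▷ M) ≫ (P.X i ◁ g)
  exact whisker_exchange (u.f i) g

/-- the morphism of short complexes of complexes `L ⊗ S ⟶ P ⊗ S` -/
noncomputable def tensorSCMap {L P : HomologicalComplex (ModuleCat.{u} A) c} (u : L ⟶ P)
    (S : ShortComplex (ModuleCat.{u} A)) : tensorSC L S ⟶ tensorSC P S where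
  τ₁ := tensorMapL u S.X₁
  τ₂ := tensorMapL u S.X₂
  τ₃ := tensorMapL u S.X₃
  comm₁₂ := (tensorMapL_comm u S.f).symm
  comm₂₃ := (tensorMapL_comm u S.g).symm

/-- flat case: `H_i(u ⊗ F)` is an isomorphism when `H_i(u)` is and `F` is flat -/
theorem isIso_homologyMap_tensorMapL_of_flat {L P : HomologicalComplex (ModuleCat.{u} A) c}
    (u : L ⟶ P) (i : ι) (hu : IsIso (HomologicalComplex.homologyMap u i))
    (F : ModuleCat.{u} A) [Module.Flat A F] :
    IsIso (HomologicalComplex.homologyMap (tensorMapL u F) i) := by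
  have h2 : IsIso ((HomologicalComplex.homologyFunctor (ModuleCat.{u} A) c i ⋙ tensorRight F).map u) := by
    show IsIso ((tensorRight F).map (HomologicalComplex.homologyMap u i))
    infer_instance
  exact (NatIso.isIso_map_iff (Groth.Agent.R2.H11.CbcCx.mapHomologyNatIso (c := c) (tensorRight F) i) u).mpr h2

end General

section FreeCover

/-- the short exact sequence `ker f → F → M` for a surjection `f` -/
noncomputable def kerSC {F M : Type u} [AddCommGroup F] [Module A F] [AddCommGroup M] [Module A M]
    (f : F →ₗ[A] M) : ShortComplex (ModuleCat.{u} A) :=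
  ShortComplex.mk (ModuleCat.ofHom (LinearMap.ker f).subtype) (ModuleCat.ofHom f) (by
    ext x
    exact x.2)

theorem kerSC_shortExact {F M : Type u} [AddCommGroup F] [Module A F] [AddCommGroup M] [Module A M]
    (f : F →ₗ[A] M) (hf : Function.Surjective f) : (kerSC f).ShortExact := by
  have : Mono (kerSC f).f := (ModuleCat.mono_iff_injective _).mpr (Submodule.subtype_injective _)
  have : Epi (kerSC f).g := (ModuleCat.epi_iff_surjective _).mpr hf
  refine ShortComplex.ShortExact.mk ?_
  rw [ShortComplex.ShortExact.moduleCat_exact_iff_function_exact]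
  exact LinearMap.exact_subtype_ker_map f

/-- the free cover `0 → K → A^(M) → M → 0` -/
noncomputable def freeSC (M : ModuleCat.{u} A) : ShortComplex (ModuleCat.{u} A) :=
  kerSC (Finsupp.linearCombination A (id : M → M))

theorem freeSC_shortExact (M : ModuleCat.{u} A) : (freeSC M).ShortExact :=
  kerSC_shortExact _ (fun x => ⟨Finsupp.single x 1, by simp⟩)

instance flat_freeSC_X₂ (M : ModuleCat.{u} A) : Module.Flat A (freeSC M).X₂ :=
  inferInstanceAs (Module.Flat A (M →₀ A))

theorem freeSC_X₃ (M : ModuleCat.{u} A) : (freeSC M).X₃ = M := rfl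

end FreeCover

section Chain

variable {L P : ChainComplex (ModuleCat.{u} A) ℤ} (u : L ⟶ P)

include u in
theorem epi_step (hL : ∀ i, Module.Flat A (L.X i)) (hP : ∀ i, Module.Flat A (P.X i))
    (hu : ∀ j, IsIso (HomologicalComplex.homologyMap u j)) (i : ℤ)
    (ih : ∀ M : ModuleCat.{u} A, IsIso (HomologicalComplex.homologyMap (tensorMapL u M) (i - 1)))
    (S : ShortComplex (ModuleCat.{u} A)) (hS : S.ShortExact) [Module.Flat A S.X₂] :
    Epi (HomologicalComplex.homologyMap (tensorMapL u S.X₃) i) := by
  refine HomologicalComplex.HomologySequence.epi_homologyMap_τ₃ (tensorSCMap u S)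
    (tensorSC_shortExact L hL S hS) (tensorSC_shortExact P hP S hS) i ?_ ?_ ?_
  · have := isIso_homologyMap_tensorMapL_of_flat u i (hu i) S.X₂
    show Epi (HomologicalComplex.homologyMap (tensorMapL u S.X₂) i)
    infer_instance
  · intro j hij
    have hj : j = i - 1 := by
      have : j + 1 = i := hij
      omega
    subst hj
    have := ih S.X₁
    show Epi (HomologicalComplex.homologyMap (tensorMapL u S.X₁) (i - 1))
    infer_instance
  · intro j hij
    have := isIso_homologyMap_tensorMapL_of_flat u j (hu j) S.X₂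
    show Mono (HomologicalComplex.homologyMap (tensorMapL u S.X₂) j)
    infer_instance

include u in
theorem mono_step (hL : ∀ i, Module.Flat A (L.X i)) (hP : ∀ i, Module.Flat A (P.X i))
    (hu : ∀ j, IsIso (HomologicalComplex.homologyMap u j)) (i : ℤ)
    (ih : ∀ M : ModuleCat.{u} A, IsIso (HomologicalComplex.homologyMap (tensorMapL u M) (i - 1)))
    (hepi : ∀ M : ModuleCat.{u} A, Epi (HomologicalComplex.homologyMap (tensorMapL u M) i))
    (S : ShortComplex (ModuleCat.{u} A)) (hS : S.ShortExact) [Module.Flat A S.X₂] :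
    Mono (HomologicalComplex.homologyMap (tensorMapL u S.X₃) i) := by
  refine HomologicalComplex.HomologySequence.mono_homologyMap_τ₃ (tensorSCMap u S)
    (tensorSC_shortExact L hL S hS) (tensorSC_shortExact P hP S hS) i ?_ ?_ ?_
  · exact hepi S.X₁
  · have := isIso_homologyMap_tensorMapL_of_flat u i (hu i) S.X₂
    show Mono (HomologicalComplex.homologyMap (tensorMapL u S.X₂) i)
    infer_instance
  · intro j hij
    have hj : j = i - 1 := by
      have : j + 1 = i := hij
      omega
    subst hj
    have := ih S.X₁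
    show Mono (HomologicalComplex.homologyMap (tensorMapL u S.X₁) (i - 1))
    infer_instance

include u in
/-- **universal quasi-isomorphism**: a quasi-isomorphism between complexes of flat modules whose
tensor products with every module have no homology below `d` stays a quasi-isomorphism after
tensoring with any module. -/
theorem isIso_homologyMap_tensorMapL (hL : ∀ i, Module.Flat A (L.X i))
    (hP : ∀ i, Module.Flat A (P.X i))
    (hu : ∀ j, IsIso (HomologicalComplex.homologyMap u j)) (d : ℤ)
    (hLv : ∀ (M : ModuleCat.{u} A) (i : ℤ), i < d → IsZero (CohIII.T L i M))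
    (hPv : ∀ (M : ModuleCat.{u} A) (i : ℤ), i < d → IsZero (CohIII.T P i M)) :
    ∀ (i : ℤ) (M : ModuleCat.{u} A),
      IsIso (HomologicalComplex.homologyMap (tensorMapL u M) i) := by
  have key : ∀ n : ℕ, ∀ M : ModuleCat.{u} A,
      IsIso (HomologicalComplex.homologyMap (tensorMapL u M) (d - 1 + n)) := by
    intro n
    induction n with
    | zero =>
      intro M
      have h1 := hLv M (d - 1 + (0 : ℕ)) (by simp)
      have h2 := hPv M (d - 1 + (0 : ℕ)) (by simp)
      exact ⟨⟨0, h1.eq_of_src _ _, h2.eq_of_tgt _ _⟩⟩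
    | succ n ih =>
      have ih' : ∀ M : ModuleCat.{u} A, IsIso (HomologicalComplex.homologyMap (tensorMapL u M)
          (d - 1 + ((n + 1 : ℕ) : ℤ) - 1)) := by
        intro M
        have e : d - 1 + ((n + 1 : ℕ) : ℤ) - 1 = d - 1 + (n : ℤ) := by push_cast; ring
        rw [e]
        exact ih M
      have hepi : ∀ M : ModuleCat.{u} A, Epi (HomologicalComplex.homologyMap (tensorMapL u M)
          (d - 1 + ((n + 1 : ℕ) : ℤ))) := fun M =>
        (epi_step u hL hP hu _ ih' (freeSC M) (freeSC_shortExact M) :)
      intro M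
      have hmono : Mono (HomologicalComplex.homologyMap (tensorMapL u M)
          (d - 1 + ((n + 1 : ℕ) : ℤ))) :=
        (mono_step u hL hP hu _ ih' hepi (freeSC M) (freeSC_shortExact M) :)
      have := hepi M
      exact isIso_of_mono_of_epi _
  intro i M
  by_cases hi : i < d
  · exact ⟨⟨0, (hLv M i hi).eq_of_src _ _, (hPv M i hi).eq_of_tgt _ _⟩⟩
  · obtain ⟨n, hn⟩ : ∃ n : ℕ, i = d - 1 + n := ⟨(i - (d - 1)).toNat, by omega⟩
    rw [hn]
    exact key n M

include u in
/-- the induced natural isomorphism `TFun L i ≅ TFun P i` -/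
noncomputable def TFunIsoOfQis (hL : ∀ i, Module.Flat A (L.X i))
    (hP : ∀ i, Module.Flat A (P.X i))
    (hu : ∀ j, IsIso (HomologicalComplex.homologyMap u j)) (d : ℤ)
    (hLv : ∀ (M : ModuleCat.{u} A) (i : ℤ), i < d → IsZero (CohIII.T L i M))
    (hPv : ∀ (M : ModuleCat.{u} A) (i : ℤ), i < d → IsZero (CohIII.T P i M)) (i : ℤ) :
    CohIII.TFun L i ≅ CohIII.TFun P i :=
  NatIso.ofComponents (fun M =>
    @asIso _ _ _ _ (HomologicalComplex.homologyMap (tensorMapL u M) i)
      (isIso_homologyMap_tensorMapL u hL hP hu d hLv hPv i M)) (by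
    intro M N g
    show HomologicalComplex.homologyMap (CohIII.tensorMap L g) i ≫
        HomologicalComplex.homologyMap (tensorMapL u N) i =
      HomologicalComplex.homologyMap (tensorMapL u M) i ≫
        HomologicalComplex.homologyMap (CohIII.tensorMap P g) i
    rw [← HomologicalComplex.homologyMap_comp, ← HomologicalComplex.homologyMap_comp,
      tensorMapL_comm])

end Chain

end Groth.Agent.R2.H11.CbcQis
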