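import Mathlib
import Groth.Prelude.Def_ega3
import Groth.Agent.R2.H11CbcCx
import Groth.Agent.R2.H11CbcQis
import Groth.Agent.S2373

/-!
# PROJ:cbc — the abstract bridge theorem   (helper11)

`A` Noetherian, `C : ModuleCat A ⥤ ChainComplex Ab ℤ` additive whose term functors are right exact,
commute with direct sums and preserve monomorphisms; `H_i(C(M)) = 0` for `i < d` and all `M`, and the
homology of `C(A)` (with its functorial module structure) is finite.  Then there is a complex `L` of
finite free `A`-modules, zero below `d`, with `H_i(C(M)) ≅ H_i(L ⊗_A M)` naturally in `M`.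
-/

set_option autoImplicit false
universe u

open CategoryTheory CategoryTheory.Limits MonoidalCategory

namespace Groth.Agent.R2.H11.CbcBridgeAbs

open Groth.Agent.Lib.Helper3 Groth.Agent.R2.H11.CbcLin Groth.Agent.R2.H11.CbcEW
  Groth.Agent.R2.H11.CbcCx Groth.Agent.R2.H11.CbcQis

variable {A : Type u} [CommRing A]

theorem isZero_of_forget₂ (N : ModuleCat.{u} A)
    (h : IsZero ((forget₂ (ModuleCat.{u} A) AddCommGrpCat.{u}).obj N)) : IsZero N := by
  rw [ModuleCat.isZero_iff_subsingleton]
  exact (AddCommGrpCat.isZero_iff_subsingleton.mp h : Subsingleton N)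

section

variable (C : ModuleCat.{u} A ⥤ ChainComplex AddCommGrpCat.{u} ℤ) [C.Additive]
  [∀ i, PreservesFiniteColimits (Tq C i)]
  [∀ (i : ℤ) (J : Type u), PreservesColimitsOfShape (Discrete J) (Tq C i)]
  [∀ i, (Tq C i).PreservesMonomorphisms]

theorem abstract_bridge [IsNoetherianRing A] (d : ℤ)
    (hvan : ∀ (M : ModuleCat.{u} A) (i : ℤ), i < d → IsZero ((C.obj M).homology i))
    (hfin : ∀ i, Module.Finite A ((P0 C).homology i)) :
    ∃ L : ChainComplex (ModuleCat.{u} A) ℤ,
      (∀ i, Module.Finite A (L.X i) ∧ Module.Free A (L.X i)) ∧ (∀ i < d, IsZero (L.X i)) ∧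
      ∀ i : ℤ, Nonempty (C ⋙ HomologicalComplex.homologyFunctor AddCommGrpCat.{u} _ i ≅
        CohIII.TFun L i ⋙ forget₂ (ModuleCat.{u} A) AddCommGrpCat.{u}) := by
  have hPflat : ∀ i, Module.Flat A ((P0 C).X i) := fun i => flat_P0_X C i
  have hPv : ∀ (M : ModuleCat.{u} A) (i : ℤ), i < d → IsZero (CohIII.T (P0 C) i M) := by
    intro M i hi
    apply isZero_of_forget₂
    exact (hvan M i hi).of_iso ((homologyIso C i).app M).symm
  have hd : ∀ i < d, IsZero ((P0 C).homology i) := fun i hi =>
    (hPv (ModuleCat.of A A) i hi).of_iso (TUnitIso (P0 C) i).symm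
  obtain ⟨Q, u, hQ, hQz, hu⟩ := Groth.Agent.S2373.result (P0 C) hfin d hd
  have hQflat : ∀ i, Module.Flat A (Q.X i) := fun i => by
    have := (hQ i).2
    infer_instance
  have hQv : ∀ (M : ModuleCat.{u} A) (i : ℤ), i < d → IsZero (CohIII.T Q i M) := by
    intro M i hi
    have hz : IsZero ((CohIII.tensorObj Q M).X i) := by
      have h0 : IsZero (Q.X i) := hQz i hi
      show IsZero ((tensorRight M).obj (Q.X i))
      exact Functor.map_isZero _ h0
    exact ShortComplex.isZero_homology_of_isZero_X₂ _ hz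
  have hu' : ∀ j, IsIso (HomologicalComplex.homologyMap u j) := fun j => by
    have := hu.quasiIsoAt j
    rwa [quasiIsoAt_iff_isIso_homologyMap] at this
  refine ⟨Q, hQ, hQz, fun i => ⟨?_⟩⟩
  exact homologyIso C i ≪≫
    Functor.isoWhiskerRight (TFunIsoOfQis u hQflat hPflat hu' d hQv hPv i).symm _

end

end Groth.Agent.R2.H11.CbcBridgeAbs
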