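import Mathlib
import Groth.Prelude.Def_ega3
import Groth.Agent.R2.H11CbcBridgeAbs

/-!
# PROJ:cbc — the abstract bridge for functors to cochain complexes indexed by `ℕ`   (helper11)

Reindexing `n ↦ -n` from `CochainComplex Ab ℕ` to `ChainComplex Ab ℤ`, and the finiteness hypothesis
expressed through the functorial module structure on `H^n(C(A))`.
-/

set_option autoImplicit false
universe u

open CategoryTheory CategoryTheory.Limits MonoidalCategory

namespace Groth.Agent.R2.H11.CbcReindex

open Groth.Agent.Lib.Helper3 Groth.Agent.R2.H11.CbcLin Groth.Agent.R2.H11.CbcEW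
  Groth.Agent.R2.H11.CbcCx Groth.Agent.R2.H11.CbcQis Groth.Agent.R2.H11.CbcBridgeAbs

section ZeroFunctor

variable {C₁ D₁ : Type*} [Category C₁] [Category D₁]

theorem preservesColimit_of_isZero_obj {J : Type*} [Category J] (K : J ⥤ C₁) (F : C₁ ⥤ D₁)
    (h : ∀ X, IsZero (F.obj X)) : PreservesColimit K F :=
  ⟨fun {c} _ => ⟨{ desc := fun s => (h c.pt).to_ s.pt
                   fac := fun _ j => (h (K.obj j)).eq_of_src _ _
                   uniq := fun _ _ _ => (h c.pt).eq_of_src _ _ }⟩⟩

theorem preservesColimitsOfShape_of_isZero_obj (J : Type*) [Category J] (F : C₁ ⥤ D₁)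
    (h : ∀ X, IsZero (F.obj X)) : PreservesColimitsOfShape J F :=
  ⟨fun {K} => preservesColimit_of_isZero_obj K F h⟩

theorem preservesFiniteColimits_of_isZero_obj (F : C₁ ⥤ D₁)
    (h : ∀ X, IsZero (F.obj X)) : PreservesFiniteColimits F :=
  ⟨fun J _ _ => preservesColimitsOfShape_of_isZero_obj J F h⟩

theorem preservesMonomorphisms_of_isZero_obj (F : C₁ ⥤ D₁)
    (h : ∀ X, IsZero (F.obj X)) : F.PreservesMonomorphisms :=
  ⟨fun {X _} _ _ => ⟨fun _ _ _ => (h X).eq_of_tgt _ _⟩⟩

end ZeroFunctor

/-- the embedding `n ↦ -n` of cochain indices into chain indices -/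
def eNeg : ComplexShape.Embedding (ComplexShape.up ℕ) (ComplexShape.down ℤ) :=
  ComplexShape.Embedding.mk' _ _ (fun n => -(n : ℤ)) (fun a b h => by simpa using h)
    (fun i j => by simp only [ComplexShape.up_Rel, ComplexShape.down_Rel]; omega)

@[simp] theorem eNeg_f (n : ℕ) : eNeg.f n = -(n : ℤ) := rfl

instance : eNeg.IsRelIff where
  rel' i j h := by simp only [ComplexShape.up_Rel, ComplexShape.down_Rel, eNeg_f] at h ⊢; omega

theorem notMem_range_eNeg_iff (i : ℤ) : (∀ n : ℕ, eNeg.f n ≠ i) ↔ 0 < i := by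
  constructor
  · intro h
    by_contra hi
    exact h (-i).toNat (by simp only [eNeg_f]; omega)
  · intro h n
    simp only [eNeg_f]; omega

variable {A : Type u} [CommRing A]

section

variable (C : ModuleCat.{u} A ⥤ CochainComplex AddCommGrpCat.{u} ℕ)

/-- the reindexed functor -/
noncomputable abbrev Cz : ModuleCat.{u} A ⥤ ChainComplex AddCommGrpCat.{u} ℤ :=
  C ⋙ eNeg.extendFunctor AddCommGrpCat.{u}

/-- terms of the reindexed functor in the range of the embedding -/
noncomputable def tqIso (n : ℕ) (i : ℤ) (h : eNeg.f n = i) : Tq (Cz C) i ≅ Tq C n :=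
  NatIso.ofComponents (fun M => (C.obj M).extendXIso eNeg h) (by
    intro M N f
    show (HomologicalComplex.extendMap (C.map f) eNeg).f i ≫ _ = _ ≫ (C.map f).f n
    rw [HomologicalComplex.extendMap_f _ _ h]
    simp)

theorem isZero_tq (i : ℤ) (h : ∀ n : ℕ, eNeg.f n ≠ i) (M : ModuleCat.{u} A) :
    IsZero ((Tq (Cz C) i).obj M) :=
  (C.obj M).isZero_extend_X eNeg i h

/-- homology of the reindexed functor -/
noncomputable def czHomologyIso (n : ℕ) (i : ℤ) (h : eNeg.f n = i) :
    Cz C ⋙ HomologicalComplex.homologyFunctor AddCommGrpCat.{u} _ i ≅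
      C ⋙ HomologicalComplex.homologyFunctor AddCommGrpCat.{u} _ n :=
  NatIso.ofComponents (fun M => (C.obj M).extendHomologyIso eNeg h) (by
    intro M N f
    exact HomologicalComplex.extendHomologyIso_hom_naturality (C.map f) eNeg h)

instance cz_pfc [∀ n, PreservesFiniteColimits (Tq C n)] (i : ℤ) :
    PreservesFiniteColimits (Tq (Cz C) i) := by
  by_cases h : ∃ n : ℕ, eNeg.f n = i
  · obtain ⟨n, hn⟩ := h
    exact preservesFiniteColimits_of_natIso (tqIso C n i hn).symm
  · push Not at h
    exact preservesFiniteColimits_of_isZero_obj _ (isZero_tq C i h)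

instance cz_pcop [∀ (n : ℕ) (J : Type u), PreservesColimitsOfShape (Discrete J) (Tq C n)] (i : ℤ)
    (J : Type u) : PreservesColimitsOfShape (Discrete J) (Tq (Cz C) i) := by
  by_cases h : ∃ n : ℕ, eNeg.f n = i
  · obtain ⟨n, hn⟩ := h
    exact preservesColimitsOfShape_of_natIso (tqIso C n i hn).symm
  · push Not at h
    exact preservesColimitsOfShape_of_isZero_obj _ _ (isZero_tq C i h)

instance cz_mono [∀ n, (Tq C n).PreservesMonomorphisms] (i : ℤ) :
    (Tq (Cz C) i).PreservesMonomorphisms := by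
  by_cases h : ∃ n : ℕ, eNeg.f n = i
  · obtain ⟨n, hn⟩ := h
    exact Functor.PreservesMonomorphisms.of_iso (tqIso C n i hn).symm
  · push Not at h
    exact preservesMonomorphisms_of_isZero_obj _ (isZero_tq C i h)

end

section LinEquiv

variable (S : ModuleCat.{u} A ⥤ ModuleCat.{u} A) [S.Additive] [S.Linear A]
  (T : ModuleCat.{u} A ⥤ AddCommGrpCat.{u}) [T.Additive]
  (β : S ⋙ forget₂ (ModuleCat.{u} A) AddCommGrpCat.{u} ≅ T)

/-- an `A`-linear functor `S` lifting `T` computes the functorial module structure of `T` -/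
noncomputable def linEquivOfIso (M : ModuleCat.{u} A) : S.obj M ≃ₗ[A] (Lin T).obj M where
  toFun x := (β.hom.app M).hom x
  invFun y := (β.inv.app M).hom y
  map_add' x y := map_add _ x y
  map_smul' a x := by
    show (β.hom.app M).hom (a • x) = (T.map (a • 𝟙 M)).hom ((β.hom.app M).hom x)
    have h1 : S.map (a • 𝟙 M) = a • 𝟙 (S.obj M) := by
      rw [Functor.Linear.map_smul, S.map_id]
    have h2 : a • x = (S.map (a • 𝟙 M)).hom x := by
      rw [h1]
      rfl
    rw [h2]
    exact ConcreteCategory.congr_hom (β.hom.naturality (a • 𝟙 M)) x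
  left_inv x := ConcreteCategory.congr_hom (β.hom_inv_id_app M) x
  right_inv y := ConcreteCategory.congr_hom (β.inv_hom_id_app M) y

end LinEquiv

section HomologyLinear

variable {ι : Type} {c : ComplexShape ι}

theorem homologyMap_smul' {K L : HomologicalComplex (ModuleCat.{u} A) c} (φ : K ⟶ L) (a : A)
    (i : ι) : HomologicalComplex.homologyMap (a • φ) i = a • HomologicalComplex.homologyMap φ i := by
  have h : (HomologicalComplex.shortComplexFunctor (ModuleCat.{u} A) c i).map (a • φ) =
      a • (HomologicalComplex.shortComplexFunctor (ModuleCat.{u} A) c i).map φ := rfl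
  have h2 := ShortComplex.homologyMap_smul (R := A)
    ((HomologicalComplex.shortComplexFunctor (ModuleCat.{u} A) c i).map φ) a
  rw [← h] at h2
  exact h2

instance linC_linear (C : ModuleCat.{u} A ⥤ HomologicalComplex AddCommGrpCat.{u} c) [C.Additive] :
    (LinC C).Linear A where
  map_smul {M N} f a := by
    apply HomologicalComplex.hom_ext
    intro i
    exact Functor.Linear.map_smul (F := Lin (Tq C i)) f a

instance linC_additive (C : ModuleCat.{u} A ⥤ HomologicalComplex AddCommGrpCat.{u} c) [C.Additive] :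
    (LinC C).Additive where
  map_add {M N} f g := by
    apply HomologicalComplex.hom_ext
    intro i
    exact (Lin (Tq C i)).map_add

instance homologyFunctor_linear (i : ι) :
    (HomologicalComplex.homologyFunctor (ModuleCat.{u} A) c i).Linear A where
  map_smul φ a := homologyMap_smul' φ a i

/-- `H_i(C(A))` computed in `A`-modules is `H_i(C(A))` with its functorial module structure -/
noncomputable def homologyLinEquiv (C : ModuleCat.{u} A ⥤ HomologicalComplex AddCommGrpCat.{u} c)
    [C.Additive] (i : ι) (T : ModuleCat.{u} A ⥤ AddCommGrpCat.{u}) [T.Additive]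
    (γ : C ⋙ HomologicalComplex.homologyFunctor AddCommGrpCat.{u} c i ≅ T) (M : ModuleCat.{u} A) :
    ((LinC C).obj M).homology i ≃ₗ[A] (Lin T).obj M :=
  linEquivOfIso (LinC C ⋙ HomologicalComplex.homologyFunctor (ModuleCat.{u} A) c i) T
    (Functor.associator _ _ _ ≪≫
      Functor.isoWhiskerLeft (LinC C)
        (mapHomologyNatIso (forget₂ (ModuleCat.{u} A) AddCommGrpCat.{u}) i).symm ≪≫
      (Functor.associator _ _ _).symm ≪≫
      Functor.isoWhiskerRight (linCForgetIso C) _ ≪≫ γ) M

end HomologyLinear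

section Main

variable (C : ModuleCat.{u} A ⥤ CochainComplex AddCommGrpCat.{u} ℕ) [C.Additive]
  [∀ n, PreservesFiniteColimits (Tq C n)]
  [∀ (n : ℕ) (J : Type u), PreservesColimitsOfShape (Discrete J) (Tq C n)]
  [∀ n, (Tq C n).PreservesMonomorphisms]

/-- **The abstract bridge** for functors to cochain complexes in degrees `≥ 0`, with the vanishing of
`H_i(L ⊗ M)` in positive chain degrees (= negative cohomological degrees). -/
theorem bridge_nat' [IsNoetherianRing A] (d : ℕ)
    (hvan : ∀ (M : ModuleCat.{u} A) (n : ℕ), d < n → IsZero ((C.obj M).homology n))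
    (hfin : ∀ n : ℕ, Module.Finite A
      ((Lin (C ⋙ HomologicalComplex.homologyFunctor AddCommGrpCat.{u} _ n)).obj
        (ModuleCat.of A A))) :
    ∃ L : ChainComplex (ModuleCat.{u} A) ℤ,
      (∀ i, Module.Finite A (L.X i) ∧ Module.Free A (L.X i)) ∧
      (∀ i : ℤ, i < -(d : ℤ) → IsZero (L.X i)) ∧
      (∀ (i : ℤ) (M : ModuleCat.{u} A), 0 < i → IsZero (CohIII.T L i M)) ∧
      ∀ n : ℕ, Nonempty (C ⋙ HomologicalComplex.homologyFunctor AddCommGrpCat.{u} _ n ≅
        CohIII.TFun L (-(n : ℤ)) ⋙ forget₂ (ModuleCat.{u} A) AddCommGrpCat.{u}) := by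
  have hvan' : ∀ (M : ModuleCat.{u} A) (i : ℤ), i < -(d : ℤ) →
      IsZero (((Cz C).obj M).homology i) := by
    intro M i hi
    have h : eNeg.f (-i).toNat = i := by simp only [eNeg_f]; omega
    exact (hvan M (-i).toNat (by omega)).of_iso ((czHomologyIso C _ i h).app M)
  have hfin' : ∀ i : ℤ, Module.Finite A ((P0 (Cz C)).homology i) := by
    intro i
    by_cases h : ∃ n : ℕ, eNeg.f n = i
    · obtain ⟨n, hn⟩ := h
      have := hfin n
      exact Module.Finite.equiv
        (homologyLinEquiv (Cz C) i _ (czHomologyIso C n i hn) (ModuleCat.of A A)).symm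
    · push Not at h
      have hz : IsZero ((P0 (Cz C)).X i) := by
        apply isZero_of_forget₂
        exact isZero_tq C i h (ModuleCat.of A A)
      have hz' : IsZero ((P0 (Cz C)).homology i) :=
        ShortComplex.isZero_homology_of_isZero_X₂ _ hz
      have : Subsingleton ((P0 (Cz C)).homology i) := ModuleCat.subsingleton_of_isZero hz'
      infer_instance
  obtain ⟨L, hL, hLz, hiso⟩ := abstract_bridge (Cz C) (-(d : ℤ)) hvan' hfin'
  refine ⟨L, hL, hLz, fun i M hi => ?_, fun n => ?_⟩
  · obtain ⟨e⟩ := hiso i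
    apply isZero_of_forget₂
    have hz : IsZero (((Cz C).obj M).X i) :=
      isZero_tq C i ((notMem_range_eNeg_iff i).mpr hi) M
    have hz' : IsZero (((Cz C).obj M).homology i) :=
      ShortComplex.isZero_homology_of_isZero_X₂ _ hz
    exact hz'.of_iso (e.app M).symm
  · obtain ⟨e⟩ := hiso (-(n : ℤ))
    exact ⟨(czHomologyIso C n (-(n : ℤ)) rfl).symm ≪≫ e⟩

/-- **The abstract bridge** for functors to cochain complexes in degrees `≥ 0`. -/
theorem bridge_nat [IsNoetherianRing A] (d : ℕ)
    (hvan : ∀ (M : ModuleCat.{u} A) (n : ℕ), d < n → IsZero ((C.obj M).homology n))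
    (hfin : ∀ n : ℕ, Module.Finite A
      ((Lin (C ⋙ HomologicalComplex.homologyFunctor AddCommGrpCat.{u} _ n)).obj
        (ModuleCat.of A A))) :
    ∃ L : ChainComplex (ModuleCat.{u} A) ℤ,
      (∀ i, Module.Finite A (L.X i) ∧ Module.Free A (L.X i)) ∧
      (∀ i : ℤ, i < -(d : ℤ) → IsZero (L.X i)) ∧
      ∀ n : ℕ, Nonempty (C ⋙ HomologicalComplex.homologyFunctor AddCommGrpCat.{u} _ n ≅
        CohIII.TFun L (-(n : ℤ)) ⋙ forget₂ (ModuleCat.{u} A) AddCommGrpCat.{u}) := by
  obtain ⟨L, h1, h2, -, h4⟩ := bridge_nat' C d hvan hfin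
  exact ⟨L, h1, h2, h4⟩

end Main

end Groth.Agent.R2.H11.CbcReindex
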