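import Mathlib
import Groth.Prelude.Def_ega3
import Groth.Prelude.Def_Formal
import Groth.Prelude.Def_FlatMod2
import Groth.Prelude.Def_CohB1

/-!
# PROJ:cbc — interface (exact statements of the geometric packages)   (helper11)

Goal of the project ("cohomology and base change bridge"): for `A` Noetherian, `X` proper over `Spec A`,
`F` coherent and flat over `A`, a bounded complex `L` of finite free `A`-modules with isomorphisms
`H^p(X, F ⊗_A M) ≅ H_{-p}(L ⊗_A M)` natural in the `A`-module `M`
(`CohIII.tensorAFunctor A F ⋙ CohIII.HAb X p ≅ CohIII.TFun L (-p) ⋙ forget₂`).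

The abstract (pure algebra) part is in `R2/H11CbcLin`, `R2/H11CbcEW`, `R2/H11CbcCx`, `R2/H11CbcQis` (helper11).
This file only *states* the geometric inputs, as `Prop`-valued definitions `G0 … G9`; a package `Gk` is
"done" when somebody lands a theorem whose statement is `Gk …` (under the hypotheses listed in the
docstring).  No proofs here.
-/

set_option autoImplicit false
universe u

open CategoryTheory CategoryTheory.Limits AlgebraicGeometry Opposite TopologicalSpace

namespace Groth.Agent.R2.H11.CbcSpec

/-- the presheaf of abelian groups underlying an `O_X`-module, as a functor (on objects it is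
`M.presheaf` definitionally). -/
noncomputable abbrev toPsh (X : Scheme.{u}) : X.Modules ⥤ ((Opens X)ᵒᵖ ⥤ AddCommGrpCat.{u}) :=
  SheafOfModules.toSheaf X.ringCatSheaf ⋙ sheafToPresheaf _ _

/-- sections over the open `W`, as a functor to abelian groups -/
noncomputable abbrev ΓAb (X : Scheme.{u}) (W : X.Opens) : X.Modules ⥤ AddCommGrpCat.{u} :=
  toPsh X ⋙ (evaluation _ _).obj (op W)

/-- the Čech complex of an `O_X`-module w.r.t. the family `U`, as a functor
(on objects: `(cechComplexFunctor U).obj M.presheaf`, whose homology is the frozen `CohB1.cechH U M p`). -/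
noncomputable abbrev cechFun {X : Scheme.{u}} {ι : Type u} (U : ι → X.Opens) :
    X.Modules ⥤ CochainComplex AddCommGrpCat.{u} ℕ :=
  toPsh X ⋙ cechComplexFunctor U

variable (A : Type u) [CommRing A] {X : Scheme.{u}} [X.Over (Spec (CommRingCat.of A))]

/-- `M ↦ Γ(W, f^*(M~) ⊗ F)` as a functor from `A`-modules to abelian groups -/
noncomputable abbrev TW (F : X.Modules) (W : X.Opens) : ModuleCat.{u} A ⥤ AddCommGrpCat.{u} :=
  CohIII.tensorAFunctor A F ⋙ ΓAb X W

/-- **G0** (no hypotheses on `F` for additivity / colimits; `F` quasi-coherent for the last clause):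
`tensorAFunctor A F` is additive, preserves colimits, and has quasi-coherent values. -/
def G0 (F : X.Modules) : Prop :=
  (CohIII.tensorAFunctor A F).Additive ∧
  PreservesColimitsOfSize.{u, u} (CohIII.tensorAFunctor A F) ∧
  (Coh.IsQCoh F → ∀ M : ModuleCat.{u} A, Coh.IsQCoh ((CohIII.tensorAFunctor A F).obj M))

/-- **G1** (no hypotheses): `tensorAFunctor A F` is `A`-linear, where `X.Modules` is given the
`A`-action `Formal.smulMod`. -/
def G1 (F : X.Modules) : Prop :=
  ∀ (M : ModuleCat.{u} A) (a : A),
    (CohIII.tensorAFunctor A F).map (a • 𝟙 M) =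
      Formal.smulMod A ((CohIII.tensorAFunctor A F).obj M) a

/-- **G2** (hypotheses: `W` affine open, `F` quasi-coherent): `M ↦ Γ(W, F ⊗_A M)` is right exact and
commutes with arbitrary direct sums. -/
def G2 (F : X.Modules) (W : X.Opens) : Prop :=
  PreservesFiniteColimits (TW A F W) ∧
    ∀ J : Type u, PreservesColimitsOfShape (Discrete J) (TW A F W)

/-- **G3** (hypotheses: `W` affine open, `F` quasi-coherent and flat over `Spec A`):
`M ↦ Γ(W, F ⊗_A M)` preserves monomorphisms. -/
def G3 (F : X.Modules) (W : X.Opens) : Prop :=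
  (TW A F W).PreservesMonomorphisms

/-- **G5** (hypotheses: `⨆ i, U i = ⊤` and all finite intersections `⨅ i ∈ s, U i` (`s` nonempty) affine):
the Čech-to-derived comparison, *functorial* on quasi-coherent modules: for every functor `G` with
quasi-coherent values, `Ȟ^p(U, G(-)) ≅ H^p(X, G(-))` naturally.
(helper79's `R2/H79CechNat.exists_cech_equiv_natural` is the case of endomorphisms of one module; the
same proof with one fixed choice of the edge data `(e, he)` of `S16019` for all modules gives this.) -/
def G5 {X : Scheme.{u}} {ι : Type u} (U : ι → X.Opens) (p : ℕ) : Prop :=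
  ∀ (D : Type (u + 1)) [Category.{u} D] (G : D ⥤ X.Modules), (∀ d, Coh.IsQCoh (G.obj d)) →
    Nonempty (G ⋙ cechFun U ⋙ HomologicalComplex.homologyFunctor AddCommGrpCat.{u} _ p ≅
      G ⋙ CohIII.HAb X p)

/-- **G8** (no hypotheses): `H^0 = Γ`, compatibly with the `A`-module structures:
`Γ(X, -)` as `A`-modules, followed by forgetting to abelian groups, is `H^0(X, -)`. -/
def G8 : Prop :=
  Nonempty (CohIII.globalSectionsA A (X := X) ⋙ forget₂ (ModuleCat.{u} A) AddCommGrpCat.{u} ≅
    CohIII.HAb X 0)

/-- **G8b** (no hypotheses): `Γ(X, -)` with values in `A`-modules is `A`-linear for the action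
`Formal.smulMod` on `X.Modules`. -/
def G8b : Prop :=
  ∀ (N : X.Modules) (a : A),
    (CohIII.globalSectionsA A (X := X)).map (Formal.smulMod A N a) = a • 𝟙 _

/-- **G9** (no hypotheses): `F ⊗_A A ≅ F`. -/
def G9 (F : X.Modules) : Prop :=
  Nonempty ((CohIII.tensorAFunctor A F).obj (ModuleCat.of A A) ≅ F)

end Groth.Agent.R2.H11.CbcSpec
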