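import Mathlib
import Groth.Agent.Lib.Helper2GenFree

/-!
# Separating families of linear maps: the generic step over a domain (helper22)

`SepMaps R u`: the family `u i : M → N i` is separating in the sheaf sense on `Spec R`: for every `f`, an
element of `M` whose images are all `f`-power torsion is `f`-power torsion.

`exists_pow_smul_eq_zero_of_domain`: over a domain `R`, for a finite type `R`-algebra `S`, an element of
`S ⊗ M` killed by all `S ⊗ u i` is killed by a power of some nonzero `f`.
-/

set_option autoImplicit false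
universe u

namespace Groth.Agent.R2.H22.SepCore

open TensorProduct

/-- The family `u` is separating (sheaf sense on `Spec R`). -/
def SepMaps (R : Type*) [CommRing R] {M : Type*} [AddCommGroup M] [Module R M] {ι : Type*}
    {N : ι → Type*} [∀ i, AddCommGroup (N i)] [∀ i, Module R (N i)] (u : ∀ i, M →ₗ[R] N i) : Prop :=
  ∀ (f : R) (m : M), (∀ i, ∃ n : ℕ, f ^ n • u i m = 0) → ∃ n : ℕ, f ^ n • m = 0

section core

variable {R : Type u} [CommRing R] {S : Type u} [AddCommGroup S] [Module R S]
  {M : Type u} [AddCommGroup M] [Module R M]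

/-- If `φ : L → S` is injective with `f`-power torsion cokernel, then `L → S_f` is a localization. -/
theorem isLocalizedModule_of_injective_of_torsion {L : Type u} [AddCommGroup L] [Module R L]
    (φ : L →ₗ[R] S) (hφ : Function.Injective φ) (f : R)
    (hspan : ∀ s : S, ∃ n : ℕ, f ^ n • s ∈ LinearMap.range φ) :
    IsLocalizedModule (Submonoid.powers f)
      ((LocalizedModule.mkLinearMap (Submonoid.powers f) S).comp φ) := by
  refine ⟨?_, ?_, ?_⟩
  · intro x
    exact IsLocalizedModule.map_units (LocalizedModule.mkLinearMap (Submonoid.powers f) S) x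
  · intro y
    obtain ⟨⟨s, t⟩, hst⟩ := IsLocalizedModule.surj (Submonoid.powers f)
      (LocalizedModule.mkLinearMap (Submonoid.powers f) S) y
    obtain ⟨n, l, hl⟩ := hspan s
    refine ⟨(l, ⟨f ^ n, n, rfl⟩ * t), ?_⟩
    simp only [LinearMap.comp_apply]
    rw [hl, mul_smul, hst, map_smul]
    rfl
  · intro x₁ x₂ h
    simp only [LinearMap.comp_apply] at h
    obtain ⟨c, hc⟩ := (IsLocalizedModule.eq_iff_exists (Submonoid.powers f)
      (LocalizedModule.mkLinearMap (Submonoid.powers f) S)).1 h
    refine ⟨c, hφ ?_⟩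
    rw [Submonoid.smul_def, Submonoid.smul_def, map_smul, map_smul]
    exact hc

end core

section domain

variable {R : Type u} [CommRing R] {S : Type u} [AddCommGroup S] [Module R S]
  {M : Type u} [AddCommGroup M] [Module R M] {ι : Type*}
  {N : ι → Type u} [∀ i, AddCommGroup (N i)] [∀ i, Module R (N i)]

/-- Step A: an element of `S ⊗ M` is, up to a power of `f`, in the image of `L ⊗ M`. -/
theorem exists_rTensor_eq_pow_smul {L : Type u} [AddCommGroup L] [Module R L]
    (φ : L →ₗ[R] S) (f : R) (hspan : ∀ s : S, ∃ n : ℕ, f ^ n • s ∈ LinearMap.range φ)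
    (y : S ⊗[R] M) : ∃ (n : ℕ) (w : L ⊗[R] M), φ.rTensor M w = f ^ n • y := by
  induction y using TensorProduct.induction_on with
  | zero => exact ⟨0, 0, by simp⟩
  | tmul s m =>
    obtain ⟨n, l, hl⟩ := hspan s
    refine ⟨n, l ⊗ₜ m, ?_⟩
    rw [LinearMap.rTensor_tmul, hl, TensorProduct.smul_tmul']
  | add y₁ y₂ h₁ h₂ =>
    obtain ⟨n₁, w₁, hw₁⟩ := h₁
    obtain ⟨n₂, w₂, hw₂⟩ := h₂
    refine ⟨n₁ + n₂, f ^ n₂ • w₁ + f ^ n₁ • w₂, ?_⟩
    rw [map_add, map_smul, map_smul, hw₁, hw₂, smul_add, smul_smul, smul_smul, ← pow_add,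
      ← pow_add, add_comm n₂ n₁]

/-- naturality of `finsuppScalarLeft` -/
theorem finsuppScalarLeft_lTensor {M' : Type u} [AddCommGroup M'] [Module R M'] (κ : Type u)
    [DecidableEq κ] (v : M →ₗ[R] M') (w : (κ →₀ R) ⊗[R] M) (b : κ) :
    TensorProduct.finsuppScalarLeft R M' κ (v.lTensor (κ →₀ R) w) b =
      v (TensorProduct.finsuppScalarLeft R M κ w b) := by
  induction w using TensorProduct.induction_on with
  | zero => simp
  | tmul p m =>
    rw [LinearMap.lTensor_tmul, TensorProduct.finsuppScalarLeft_apply_tmul_apply,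
      TensorProduct.finsuppScalarLeft_apply_tmul_apply, map_smul]
  | add w₁ w₂ h₁ h₂ =>
    simp only [map_add, Finsupp.add_apply, h₁, h₂]

/-- **Core lemma**: for a module `Q` which is free away from `f`, an element of `Q ⊗ M` killed by all
`Q ⊗ u i` (`u` separating) is `f`-power torsion. -/
theorem exists_pow_smul_eq_zero_of_freeAway {Q : Type u} [AddCommGroup Q] [Module R Q] (f : R)
    (hfree : Groth.Agent.Lib.Helper2.GenFree.FreeAway R f Q)
    (u : ∀ i, M →ₗ[R] N i) (hu : SepMaps R u) (y : Q ⊗[R] M)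
    (hy : ∀ i, (u i).lTensor Q y = 0) : ∃ n : ℕ, f ^ n • y = 0 := by
  classical
  obtain ⟨Bs, hLI, hspan⟩ := hfree
  set φ : (Bs →₀ R) →ₗ[R] Q := Finsupp.linearCombination R ((↑) : Bs → Q) with hφdef
  have hφ : Function.Injective φ := hLI
  have hspan' : ∀ s : Q, ∃ n : ℕ, f ^ n • s ∈ LinearMap.range φ := by
    intro s
    obtain ⟨n, hn⟩ := hspan s
    refine ⟨n, ?_⟩
    rw [hφdef, Finsupp.range_linearCombination, Subtype.range_coe]
    exact hn
  set g : (Bs →₀ R) →ₗ[R] LocalizedModule (Submonoid.powers f) Q :=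
    (LocalizedModule.mkLinearMap (Submonoid.powers f) Q).comp φ with hgdef
  have hg : IsLocalizedModule (Submonoid.powers f) g :=
    isLocalizedModule_of_injective_of_torsion φ hφ f hspan'
  obtain ⟨n, w, hw⟩ := exists_rTensor_eq_pow_smul (M := M) φ f hspan' y
  -- each `u i` kills `w` up to a power of `f`
  have hB : ∀ i, ∃ k : ℕ, f ^ k • (u i).lTensor (Bs →₀ R) w = 0 := by
    intro i
    have : IsLocalizedModule (Submonoid.powers f) (g.rTensor (N i)) :=
      IsLocalizedModule.rTensor (R := R) (A := R) (Submonoid.powers f) (N := N i) g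
    have h0 : g.rTensor (N i) ((u i).lTensor (Bs →₀ R) w) = 0 := by
      have e1 : g.rTensor (N i) ((u i).lTensor (Bs →₀ R) w) =
          (LocalizedModule.mkLinearMap (Submonoid.powers f) Q).rTensor (N i)
            ((u i).lTensor Q (φ.rTensor M w)) := by
        rw [hgdef, LinearMap.rTensor_comp, LinearMap.comp_apply,
          ← LinearMap.comp_apply (φ.rTensor (N i)), LinearMap.rTensor_comp_lTensor,
          ← LinearMap.lTensor_comp_rTensor, LinearMap.comp_apply]
      rw [e1, hw, map_smul, hy i, smul_zero, map_zero]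
    obtain ⟨⟨_, k, rfl⟩, hk⟩ :=
      (IsLocalizedModule.eq_zero_iff (Submonoid.powers f) (g.rTensor (N i))).1 h0
    exact ⟨k, hk⟩
  set c : Bs →₀ M := TensorProduct.finsuppScalarLeft R M Bs w with hcdef
  have hc : ∀ b : Bs, ∃ k : ℕ, f ^ k • c b = 0 := by
    intro b
    apply hu f (c b)
    intro i
    obtain ⟨k, hk⟩ := hB i
    refine ⟨k, ?_⟩
    have := congrArg (fun z => TensorProduct.finsuppScalarLeft R (N i) Bs z b) hk
    simp only [map_smul, map_zero, Finsupp.smul_apply, Finsupp.zero_apply] at this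
    rw [finsuppScalarLeft_lTensor] at this
    exact this
  choose k hk using hc
  have hcz : f ^ (c.support.sup k) • c = 0 := by
    ext b
    rw [Finsupp.smul_apply, Finsupp.zero_apply]
    by_cases hb : b ∈ c.support
    · have hle : k b ≤ c.support.sup k := Finset.le_sup hb
      obtain ⟨d, hd⟩ := Nat.exists_eq_add_of_le hle
      rw [hd, pow_add, mul_comm, mul_smul, hk b, smul_zero]
    · rw [Finsupp.notMem_support_iff.1 hb, smul_zero]
  have hwz : f ^ (c.support.sup k) • w = 0 := by
    apply (TensorProduct.finsuppScalarLeft R M Bs).injective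
    rw [map_smul, map_zero]
    exact hcz
  refine ⟨c.support.sup k + n, ?_⟩
  rw [pow_add, mul_smul, ← hw, ← map_smul, hwz, map_zero]

end domain

end Groth.Agent.R2.H22.SepCore
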