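import Mathlib
import Groth.Agent.Lib.Helper26ModSec
import Groth.Agent.Lib.Helper2FPAff
import Groth.Agent.Lib.Helper13ModBasis
import Groth.Agent.R2.H22SepCore

/-!
# Separating families of morphisms of quasi-coherent modules: dictionary (helper22)
-/

set_option autoImplicit false
universe u

namespace Groth.Agent.R2.H22.SepSheaf

open CategoryTheory AlgebraicGeometry Opposite TopologicalSpace TensorProduct
open Groth.Agent.R2.H22.SepCore

variable {X : Scheme.{u}}

/-- separating family of morphisms of modules (EGA IV 11.9.1, case `Z_λ = X`). -/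
def Sep {F : X.Modules} {ι : Type*} {G : ι → X.Modules} (u : ∀ i, F ⟶ G i) : Prop :=
  ∀ (V : X.Opens) (t : Γ(F, V)), (∀ i, (u i).app V t = 0) → t = 0

/-- the map on sections as a linear map -/
noncomputable def appₗ {M N : X.Modules} (φ : M ⟶ N) (V : X.Opens) :
    Γ(M, V) →ₗ[Γ(X, V)] Γ(N, V) where
  toFun x := φ.app V x
  map_add' := map_add _
  map_smul' r x := φ.app_smul r x

@[simp] theorem appₗ_apply {M N : X.Modules} (φ : M ⟶ N) (V : X.Opens) (x : Γ(M, V)) :
    appₗ φ V x = φ.app V x := rfl

theorem app_res {M N : X.Modules} (φ : M ⟶ N) {V W : X.Opens} (h : W ≤ V) (x : Γ(M, V)) :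
    φ.app W (M.presheaf.map (homOfLE h).op x) = N.presheaf.map (homOfLE h).op (φ.app V x) := by
  have := φ.mapPresheaf.naturality (homOfLE h).op
  exact congr($this x)

section D2
variable {F : X.Modules} {ι : Type*} {G : ι → X.Modules} (u : ∀ i, F ⟶ G i)

/-- it suffices to check the separating property on a basis. -/
theorem sep_of_basis {κ : Type*} (B : κ → X.Opens) (hB : Opens.IsBasis (Set.range B))
    (h : ∀ (j : κ) (t : Γ(F, B j)), (∀ i, (u i).app (B j) t = 0) → t = 0) : Sep u := by
  intro W t ht
  apply Groth.Agent.Helper13ModBasis.section_ext_basis B hB F t 0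
  intro j hle
  rw [map_zero]
  apply h j
  intro i
  rw [app_res, ht i, map_zero]

end D2

section D1
variable {F : X.Modules} [F.IsQuasicoherent] {ι : Type*} {G : ι → X.Modules} (u : ∀ i, F ⟶ G i)

/-- a separating family gives a separating family of linear maps on every affine open. -/
theorem sepMaps_of_sep (hu : Sep u) {V : X.Opens} (hV : IsAffineOpen V) :
    SepMaps Γ(X, V) (fun i => appₗ (u i) V) := by
  intro f m hm
  apply Groth.Agent.Lib.Helper2.QCoh.exists_pow_smul_eq_zero hV F f m
  apply hu
  intro i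
  rw [app_res]
  obtain ⟨n, hn⟩ := hm i
  simp only [appₗ_apply] at hn
  have h1 := congrArg ((G i).presheaf.map (homOfLE (X.basicOpen_le f)).op) hn
  rw [Scheme.Modules.map_smul, map_zero, map_pow] at h1
  have hu' : IsUnit ((X.presheaf.map (homOfLE (X.basicOpen_le f)).op f) ^ n) :=
    (RingedSpace.isUnit_res_basicOpen _ f).pow n
  obtain ⟨w, hw⟩ := hu'
  rw [← hw] at h1
  have := congrArg (fun z => (w⁻¹ : (Γ(X, X.basicOpen f))ˣ).1 • z) h1
  simpa [smul_smul] using this

end D1

end Groth.Agent.R2.H22.SepSheaf
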