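import Mathlib
import Groth.Agent.Lib.Helper26ModSec
import Groth.Agent.R2.H22SepSheaf

/-!
# Separating families and pullbacks: affine dictionary (helper22)
-/

set_option autoImplicit false
universe u

namespace Groth.Agent.R2.H22.SepPull

open CategoryTheory AlgebraicGeometry Opposite TopologicalSpace TensorProduct
open Groth.Agent.Lib.Helper20.Thickening Groth.Agent.Lib.Helper20.PullbackAff
  Groth.Agent.Lib.Helper26.ModSec Groth.Agent.Lib.Helper2.QCoh
open Groth.Agent.R2.H22.SepCore Groth.Agent.R2.H22.SepSheaf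

variable {X X' : Scheme.{u}}

theorem toΓUF_app {M N : X.Modules} (φ : M ⟶ N) {U : X.Opens} (hU : IsAffineOpen U) (y : Γ(M, U)) :
    toΓUF hU N (φ.app U y) = ((ΓUF hU).map φ).hom (toΓUF hU M y) := by
  have := φ.mapPresheaf.naturality (homOfLE (fromSpec_image_le hU ⊤)).op
  exact congr($(this.symm) y)

theorem ΓUEquiv_app {M N : X.Modules} (φ : M ⟶ N) {U : X.Opens} (hU : IsAffineOpen U) (y : Γ(M, U)) :
    ΓUEquiv hU N (φ.app U y) = ((ΓUF hU).map φ).hom (ΓUEquiv hU M y) :=
  toΓUF_app φ hU y

section D1'
variable {F : X.Modules} [F.IsQuasicoherent] {ι : Type*} {G : ι → X.Modules} (u : ∀ i, F ⟶ G i)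

/-- a separating family gives a separating family of linear maps on every affine open (`ΓUF` version). -/
theorem sepMaps_ΓUF (hu : Sep u) {V : X.Opens} (hV : IsAffineOpen V) :
    SepMaps Γ(X, V) (fun i => ((ΓUF hV).map (u i)).hom) := by
  intro f m hm
  obtain ⟨m, rfl⟩ := (ΓUEquiv hV F).surjective m
  have := sepMaps_of_sep u hu hV f m (fun i => ?_)
  · obtain ⟨n, hn⟩ := this
    exact ⟨n, by rw [← map_smul, hn, map_zero]⟩
  · obtain ⟨n, hn⟩ := hm i
    refine ⟨n, ?_⟩
    apply (ΓUEquiv hV (G i)).injective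
    rw [map_smul, map_zero, appₗ_apply, ΓUEquiv_app]
    exact hn

end D1'

section D3
variable (g : X' ⟶ X) {V : X.Opens} (hV : IsAffineOpen V) {V' : X'.Opens}
  (hV' : IsAffineOpen V') (h : V' ≤ g ⁻¹ᵁ V)
  {F : X.Modules} [F.IsQuasicoherent] {ι : Type*} {G : ι → X.Modules} [∀ i, (G i).IsQuasicoherent]
  (u : ∀ i, F ⟶ G i)

/-- the algebraic injectivity statement on `Γ(X',V') ⊗ Γ(F,V)`. -/
def TensorInj : Prop :=
  ∀ x : (ModuleCat.extendScalars (g.appLE V V' h).hom).obj ((ΓUF hV).obj F),
    (∀ i, ((ModuleCat.extendScalars (g.appLE V V' h).hom).map ((ΓUF hV).map (u i))).hom x = 0) →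
      x = 0

/-- the separating property of the pulled-back family on sections over `V'`. -/
def PullSepOn : Prop :=
  ∀ t : Γ((Scheme.Modules.pullback g).obj F, V'),
    (∀ i, ((Scheme.Modules.pullback g).map (u i)).app V' t = 0) → t = 0

include hV' in
theorem pullSepOn_iff_tensorInj : PullSepOn g (V' := V') u ↔ TensorInj g hV h u := by
  have key : ∀ (i : ι) (x : (ModuleCat.extendScalars (g.appLE V V' h).hom).obj ((ΓUF hV).obj F)),
      ((secNat g hV hV' h).app (G i)).hom
        (((ModuleCat.extendScalars (g.appLE V V' h).hom).map ((ΓUF hV).map (u i))).hom x) =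
      ((ΓUF hV').map ((Scheme.Modules.pullback g).map (u i))).hom
        (((secNat g hV hV' h).app F).hom x) := by
    intro i x
    have := secNat_naturality g hV hV' h (u i)
    exact congr($this x)
  have hinjG : ∀ i, Function.Injective ((secNat g hV hV' h).app (G i)).hom := fun i =>
    (ConcreteCategory.bijective_of_isIso ((secNat g hV hV' h).app (G i))).injective
  have hbijF : Function.Bijective ((secNat g hV hV' h).app F).hom :=
    ConcreteCategory.bijective_of_isIso ((secNat g hV hV' h).app F)
  constructor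
  · intro hP x hx
    apply hbijF.injective
    rw [map_zero]
    obtain ⟨t, ht⟩ := (ΓUEquiv hV' ((Scheme.Modules.pullback g).obj F)).surjective
      (((secNat g hV hV' h).app F).hom x)
    rw [← ht]
    have : t = 0 := by
      apply hP
      intro i
      apply (ΓUEquiv hV' ((Scheme.Modules.pullback g).obj (G i))).injective
      rw [ΓUEquiv_app, ht, ← key, hx i, map_zero, map_zero]
    rw [this, map_zero]
  · intro hT t ht
    apply (ΓUEquiv hV' ((Scheme.Modules.pullback g).obj F)).injective
    rw [map_zero]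
    obtain ⟨x, hx⟩ := hbijF.surjective (ΓUEquiv hV' ((Scheme.Modules.pullback g).obj F) t)
    rw [← hx]
    have : x = 0 := by
      apply hT
      intro i
      apply hinjG i
      rw [key, hx, ← ΓUEquiv_app, ht i, map_zero, map_zero]
    rw [this, map_zero]

end D3

end Groth.Agent.R2.H22.SepPull
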