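import Mathlib
import Groth.Prelude.Def_ega3
import Groth.Agent.Lib.Helper21ModTensor3
import Groth.Agent.Lib.Helper26ModSec
import Groth.Agent.Lib.Helper23TensorQCoh
import Groth.Agent.Lib.Helper2PullbackSec
import Groth.Agent.R2.H22SepPull
import Groth.Agent.R2.H11CbcSpec

/-!
# PROJ:cbc package G2 (helper16)

Namespace `Groth.Agent.R2.H16.CbcG2`.

* `preservesColimit_of_isIso_counit`: for an adjunction `L ⊣ G` with `L` fully faithful, `G` preserves the
  colimit of every diagram `K` with values in the essential image of `L` (i.e. counit iso on each `K j`).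
* `preservesColimit_ΓF`: global sections on `Spec R` preserve colimits of diagrams of quasi-coherent modules.
* `preservesColimit_ΓUF`: sections over an affine open preserve colimits of diagrams of quasi-coherent modules.
* `tensorAFunctor` preserves colimits, has quasi-coherent values for quasi-coherent `F`;
  `tensorAFunctor A F ⋙ ΓUF hW` preserves all (small) colimits.
-/

set_option autoImplicit false
set_option linter.style.haveILetI false
universe u v w
open CategoryTheory AlgebraicGeometry Limits Opposite TopologicalSpace

namespace Groth.Agent.R2.H16.CbcG2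

section abstract
variable {C : Type*} {D : Type*} [Category C] [Category D] {L : C ⥤ D} {G : D ⥤ C} (adj : L ⊣ G)
  [L.Full] [L.Faithful] {J : Type*} [Category J] (K : J ⥤ D)

include adj in
/-- For a fully faithful left adjoint `L ⊣ G`, the right adjoint `G` preserves the colimit of any diagram
whose objects are in the essential image of `L` (counit invertible). -/
theorem preservesColimit_of_isIso_counit (hK : ∀ j, IsIso (adj.counit.app (K.obj j)))
    [HasColimit (K ⋙ G)] : PreservesColimit K G := by
  haveI : PreservesColimitsOfSize.{_, _} L := adj.leftAdjoint_preservesColimits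
  -- the natural iso `(K ⋙ G) ⋙ L ≅ K`
  let α : (K ⋙ G) ⋙ L ≅ K :=
    NatIso.ofComponents (fun j => @asIso _ _ _ _ (adj.counit.app (K.obj j)) (hK j))
      (fun f => adj.counit.naturality (K.map f))
  let d : Cocone (K ⋙ G) := colimit.cocone (K ⋙ G)
  have hd : IsColimit d := colimit.isColimit _
  have hLd : IsColimit (L.mapCocone d) := isColimitOfPreserves L hd
  let c' : Cocone K := (Cocone.precompose α.inv).obj (L.mapCocone d)
  have hc' : IsColimit c' := (IsColimit.precomposeInvEquiv α _).symm hLd
  -- `G.mapCocone c'` is isomorphic to `d`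
  haveI : IsIso adj.unit := inferInstance
  have hGc' : IsColimit (G.mapCocone c') := by
    have hu : IsIso (adj.unit.app d.pt) := inferInstance
    refine IsColimit.ofIsoColimit hd (Cocone.ext
      (@asIso _ _ d.pt (G.mapCocone c').pt (adj.unit.app d.pt) hu) ?_)
    intro j
    have h1 : adj.unit.app (G.obj (K.obj j)) ≫ G.map (adj.counit.app (K.obj j)) = 𝟙 _ :=
      adj.right_triangle_components (K.obj j)
    haveI := hK j
    have h2 : G.map (inv (adj.counit.app (K.obj j))) = adj.unit.app (G.obj (K.obj j)) := by
      rw [← cancel_mono (G.map (adj.counit.app (K.obj j))), h1, ← G.map_comp, IsIso.inv_hom_id,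
        G.map_id]
      rfl
    change d.ι.app j ≫ adj.unit.app d.pt =
      G.map (inv (adj.counit.app (K.obj j)) ≫ L.map (d.ι.app j))
    rw [G.map_comp, h2]
    exact adj.unit.naturality (d.ι.app j)
  constructor
  intro c hc
  exact ⟨IsColimit.ofIsoColimit hGc' ((Cocone.functoriality K G).mapIso (hc'.uniqueUpToIso hc))⟩

end abstract

section spec


variable (R : CommRingCat.{u}) {J : Type u} [SmallCategory J]

/-- global sections on `Spec R` preserve colimits of diagrams of quasi-coherent modules -/
theorem preservesColimit_ΓSpec (K : J ⥤ (Spec R).Modules) (hK : ∀ j, (K.obj j).IsQuasicoherent) :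
    PreservesColimit K (moduleSpecΓFunctor (R := R)) := by
  refine preservesColimit_of_isIso_counit (tilde.adjunction (R := R)) K ?_
  intro j
  haveI := hK j
  exact Scheme.Modules.isIso_fromTildeΓ_of_isQuasicoherent (K.obj j)

end spec

section affineOpen
open Groth.Agent.Lib.Helper20.Thickening Groth.Agent.Lib.Helper20.PullbackAff
  Groth.Agent.Lib.Helper26.ModSec

variable {X : Scheme.{u}} {W : X.Opens} (hW : IsAffineOpen W) {J : Type u} [SmallCategory J]

/-- sections over an affine open preserve colimits of diagrams of quasi-coherent modules -/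
theorem preservesColimit_ΓUF (K : J ⥤ X.Modules) (hK : ∀ j, (K.obj j).IsQuasicoherent) :
    PreservesColimit K (ΓUF hW) := by
  haveI : PreservesColimit K (Scheme.Modules.restrictFunctor hW.fromSpec) := inferInstance
  haveI : PreservesColimit (K ⋙ Scheme.Modules.restrictFunctor hW.fromSpec)
      (moduleSpecΓFunctor (R := Γ(X, W))) := by
    apply preservesColimit_ΓSpec
    intro j
    haveI := hK j
    exact Scheme.Modules.isQuasicoherent_restrictFunctor hW.fromSpec (K.obj j)
  exact Limits.comp_preservesColimit _ _

/-- sections over an affine open, as abelian groups, agree with `ΓUF` followed by the forgetful functor -/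
noncomputable def ΓAbIso :
    Groth.Agent.R2.H11.CbcSpec.ΓAb X W ≅ ΓUF hW ⋙ forget₂ (ModuleCat.{u} Γ(X, W)) AddCommGrpCat.{u} :=
  NatIso.ofComponents (fun M => (ΓUEquiv hW M).toAddEquiv.toAddCommGrpIso) (by
    intro M N φ
    ext y
    exact Groth.Agent.R2.H22.SepPull.toΓUF_app φ hW y)

include hW in
theorem preservesColimit_ΓAb (K : J ⥤ X.Modules) (hK : ∀ j, (K.obj j).IsQuasicoherent) :
    PreservesColimit K (Groth.Agent.R2.H11.CbcSpec.ΓAb X W) := by
  haveI := preservesColimit_ΓUF hW K hK
  haveI : PreservesColimit K (ΓUF hW ⋙ forget₂ (ModuleCat.{u} Γ(X, W)) AddCommGrpCat.{u}) :=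
    Limits.comp_preservesColimit _ _
  exact preservesColimit_of_natIso K (ΓAbIso hW).symm

end affineOpen

section G0
open Groth.Agent.R2.H11.CbcSpec

variable (A : Type u) [CommRing A] {X : Scheme.{u}} [X.Over (Spec (CommRingCat.of A))] (F : X.Modules)

instance additive_pullback {X Y : Scheme.{u}} (f : X ⟶ Y) : (Scheme.Modules.pullback f).Additive :=
  (Scheme.Modules.pullbackPushforwardAdjunction f).left_adjoint_additive

instance additive_tensorAFunctor : (CohIII.tensorAFunctor A F).Additive := by
  unfold CohIII.tensorAFunctor
  infer_instance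

instance preservesColimits_tensorRightMod :
    PreservesColimitsOfSize.{u, u} (DCoh.tensorRightMod F) :=
  Groth.Agent.Lib.Helper21.ModTensor3.tR_preservesColimits X.sheaf F

instance preservesColimits_tensorAFunctor :
    PreservesColimitsOfSize.{u, u} (CohIII.tensorAFunctor A F) := by
  unfold CohIII.tensorAFunctor
  haveI : PreservesColimitsOfSize.{u, u} (tilde.functor (CommRingCat.of A)) :=
    (tilde.adjunction (R := CommRingCat.of A)).leftAdjoint_preservesColimits
  haveI : PreservesColimitsOfSize.{u, u}
      (Scheme.Modules.pullback (X ↘ Spec (CommRingCat.of A))) :=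
    (Scheme.Modules.pullbackPushforwardAdjunction _).leftAdjoint_preservesColimits
  infer_instance

theorem isQuasicoherent_tensorAFunctor_obj [F.IsQuasicoherent] (M : ModuleCat.{u} A) :
    ((CohIII.tensorAFunctor A F).obj M).IsQuasicoherent := by
  haveI : ((tilde.functor (CommRingCat.of A)).obj M).IsQuasicoherent :=
    inferInstanceAs (tilde (R := CommRingCat.of A) M).IsQuasicoherent
  haveI : ((Scheme.Modules.pullback (X ↘ Spec (CommRingCat.of A))).obj
      ((tilde.functor (CommRingCat.of A)).obj M)).IsQuasicoherent :=
    Groth.Agent.Lib.Helper2.PullbackSec.isQuasicoherent_pullback _ _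
  exact Groth.Agent.Lib.Helper23.TensorQCoh.isQuasicoherent_tensorMod _ F

/-- **G0** of `R2/H11CbcSpec`. -/
theorem g0 : G0 A F :=
  ⟨inferInstance, inferInstance, fun hF M => by
    haveI : F.IsQuasicoherent := hF
    exact isQuasicoherent_tensorAFunctor_obj A F M⟩

end G0

section G2
open Groth.Agent.R2.H11.CbcSpec

variable (A : Type u) [CommRing A] {X : Scheme.{u}} [X.Over (Spec (CommRingCat.of A))] (F : X.Modules)
  {W : X.Opens} (hW : IsAffineOpen W)

include hW in
/-- `M ↦ Γ(W, F ⊗_A M)` preserves all small colimits, for `W` affine and `F` quasi-coherent. -/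
theorem preservesColimitsOfSize_TW [F.IsQuasicoherent] :
    PreservesColimitsOfSize.{u, u} (TW A F W) := by
  constructor
  intro J _
  constructor
  intro K
  haveI : PreservesColimit (K ⋙ CohIII.tensorAFunctor A F) (ΓAb X W) :=
    preservesColimit_ΓAb hW _ (fun j => isQuasicoherent_tensorAFunctor_obj A F (K.obj j))
  exact Limits.comp_preservesColimit _ _

include hW in
/-- **G2** of `R2/H11CbcSpec`. -/
theorem g2 (hF : Coh.IsQCoh F) : G2 A F W := by
  haveI : F.IsQuasicoherent := hF
  haveI := preservesColimitsOfSize_TW A F hW
  refine ⟨?_, fun J => inferInstance⟩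
  exact PreservesColimitsOfSize.preservesFiniteColimits.{u, u} _

end G2

end Groth.Agent.R2.H16.CbcG2
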