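import Mathlib
import Groth.Agent.R2.H16CbcG2
import Groth.Agent.R2.H11CbcEW
import Groth.Agent.Lib.Helper2FlatOver

/-!
# PROJ:cbc package G3 (helper16)

Namespace `Groth.Agent.R2.H16.CbcG3`.

`g3_of`: for `W` affine open, `F` quasi-coherent and flat over `Spec A`, the functor
`TW A F W : M ↦ Γ(W, F ⊗_A M)` preserves monomorphisms — given the packages `G1` (linearity) and `G9`
(`F ⊗_A A ≅ F`) of `R2/H11CbcSpec`.
-/

set_option autoImplicit false
set_option linter.style.haveILetI false
universe u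
open CategoryTheory AlgebraicGeometry Limits Opposite TopologicalSpace

namespace Groth.Agent.R2.H16.CbcG3

open Groth.Agent.R2.H11.CbcSpec Groth.Agent.R2.H16.CbcG2 Groth.Agent.R2.H11.CbcLin
  Groth.Agent.R2.H11.CbcEW

variable (A : Type u) [CommRing A] {X : Scheme.{u}} [X.Over (Spec (CommRingCat.of A))] (F : X.Modules)
  (W : X.Opens)

instance additive_ΓAb : (ΓAb X W).Additive := ⟨fun {_ _ _ _} => rfl⟩

instance additive_TW : (TW A F W).Additive := inferInstance

section abstract
variable {A}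
variable (T : ModuleCat.{u} A ⥤ AddCommGrpCat.{u}) [T.Additive] [PreservesFiniteColimits T]
  [∀ J : Type u, PreservesColimitsOfShape (Discrete J) T]

/-- converse of `CbcEW.flat_val`: if `T(A)` is flat then `T` preserves monomorphisms. -/
theorem preservesMonomorphisms_of_flat_val (h : Module.Flat A (val T)) :
    T.PreservesMonomorphisms := by
  constructor
  intro N N' f hf
  have hinj : Function.Injective f.hom := (ModuleCat.mono_iff_injective f).1 hf
  have h1 : Function.Injective (LinearMap.lTensor (val T) f.hom) :=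
    Module.Flat.lTensor_preserves_injective_linearMap f.hom hinj
  rw [AddCommGrpCat.mono_iff_injective]
  intro x y hxy
  obtain ⟨z, rfl⟩ := (ewEquiv T N).surjective x
  obtain ⟨z', rfl⟩ := (ewEquiv T N).surjective y
  have e1 := ewEquiv_nat T f z
  have e2 := ewEquiv_nat T f z'
  have hxy' : ((Lin T).map f).hom (ewEquiv T N z) = ((Lin T).map f).hom (ewEquiv T N z') := hxy
  rw [e1, e2] at hxy'
  rw [h1 ((ewEquiv T N').injective hxy')]

end abstract

section flat
variable {W}

/-- the action of `a : A` on `T(M) = Γ(W, F ⊗_A M)` given by functoriality is multiplication by the image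
of `a` in `Γ(X, W)` (uses `G1`). -/
theorem TW_map_smul_apply (h1 : G1 A F) (M : ModuleCat.{u} A) (a : A)
    (x : Γ((CohIII.tensorAFunctor A F).obj M, W)) :
    ((TW A F W).map (a • 𝟙 M)).hom x =
      ((X ↘ Spec (CommRingCat.of A)).appLE ⊤ W le_top).hom
        ((Scheme.ΓSpecIso (CommRingCat.of A)).inv.hom a) • x := by
  change ((ΓAb X W).map ((CohIII.tensorAFunctor A F).map (a • 𝟙 M))).hom x = _
  rw [h1 M a]
  rfl

/-- `T(A) = Γ(W, F ⊗_A A)` with its functorial `A`-module structure is flat when `F` is flat over `A`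
(uses `G1` and `G9`). -/
theorem flat_val_TW (hW : IsAffineOpen W) [F.IsQuasicoherent]
    (hflat : FlatMod.IsFlatOver (X ↘ Spec (CommRingCat.of A)) F) (h1 : G1 A F) (h9 : G9 A F) :
    Module.Flat A (val (TW A F W)) := by
  obtain ⟨e9⟩ := h9
  have hle : W ≤ (X ↘ Spec (CommRingCat.of A)) ⁻¹ᵁ ⊤ := le_top
  have hfl := Groth.Agent.Lib.Helper2.FlatOver.flat_sections_of_isFlatOverAt
    (X ↘ Spec (CommRingCat.of A)) F hW (isAffineOpen_top (Spec (CommRingCat.of A))) hle
    (fun x _ => hflat x)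
  letI : Module Γ(Spec (CommRingCat.of A), ⊤) Γ(F, W) :=
    Module.compHom Γ(F, W) ((X ↘ Spec (CommRingCat.of A)).appLE ⊤ W hle).hom
  haveI : Module.Flat Γ(Spec (CommRingCat.of A), ⊤) Γ(F, W) := hfl
  let σ : Γ(Spec (CommRingCat.of A), ⊤) ≃+* A :=
    (Scheme.ΓSpecIso (CommRingCat.of A)).commRingCatIsoToRingEquiv
  have hiso : IsIso (e9.inv.app W) := inferInstance
  let e0 : Γ(F, W) ≃+ Γ((CohIII.tensorAFunctor A F).obj (ModuleCat.of A A), W) :=
    (asIso (e9.inv.app W)).addCommGroupIsoToAddEquiv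
  let e : Γ(F, W) ≃+ val (TW A F W) := e0
  refine Groth.Agent.Lib.Helper2.FlatOver.flat_of_semilinear_equiv σ e ?_
  intro r m
  have hL : e (r • m) =
      ((X ↘ Spec (CommRingCat.of A)).appLE ⊤ W hle).hom r • e9.inv.app W m :=
    Scheme.Modules.Hom.app_smul e9.inv _ m
  have hR : σ r • e m = ((TW A F W).map (σ r • 𝟙 (ModuleCat.of A A))).hom (e9.inv.app W m) := rfl
  rw [hL, hR, TW_map_smul_apply A F h1]
  congr 2
  exact ((Scheme.ΓSpecIso (CommRingCat.of A)).commRingCatIsoToRingEquiv.symm_apply_apply r).symm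

end flat

section G3
variable {W}

/-- **G3** of `R2/H11CbcSpec`, given `G1` and `G9`. -/
theorem g3_of (hW : IsAffineOpen W) (hF : Coh.IsQCoh F)
    (hflat : FlatMod.IsFlatOver (X ↘ Spec (CommRingCat.of A)) F) (h1 : G1 A F) (h9 : G9 A F) :
    G3 A F W := by
  haveI : F.IsQuasicoherent := hF
  obtain ⟨i1, i2⟩ := g2 A F hW hF
  exact preservesMonomorphisms_of_flat_val (TW A F W) (flat_val_TW A F hW hflat h1 h9)

end G3

end Groth.Agent.R2.H16.CbcG3
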