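import Mathlib
import Groth.Agent.S0013
import Groth.Agent.S16019
import Groth.Agent.S16022
import Groth.Agent.Lib.Helper21Cech1

/-!
# Naturality / linearity of the Čech-to-cohomology comparison (helper79)

The comparison isomorphism `Ȟ^p(U, M) ≃+ H^p(X, M)` of S0013 (cover with affine finite intersections,
`M` quasi-coherent) can be chosen compatible with every endomorphism of the abelian sheaf underlying `M`;
in particular it is linear for the action of global functions, hence `R`-linear for `X` over `Spec R`.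
-/

set_option autoImplicit false
set_option linter.unusedSectionVars false
set_option linter.unusedVariables false
universe u

open CategoryTheory CategoryTheory.Limits Opposite TopologicalSpace AlgebraicGeometry Abelian

namespace Groth.Agent.R2.H79.CechNat

open Groth.Agent.Lib.Helper16.CechLow Groth.Agent.Lib.Helper16.CechH1 Groth.Agent.Lib.Helper16.CechCmp
  Groth.Agent.Lib.Helper16.CechLES

section General

universe v u₁
variable {C : Type u₁} [Category.{v} C] [HasFiniteProducts C] {ι : Type u} (U : ι → C)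

/-- components of the map of Čech complexes induced by a morphism of presheaves. -/
lemma map_pr {P Q : Cᵒᵖ ⥤ AddCommGrpCat.{u}} (φ : P ⟶ Q) (n : ℕ) (x : Fin (n + 1) → ι) :
    ((cechComplexFunctor U).map φ).f n ≫ pr U Q n x = pr U P n x ≫ φ.app (op (Ux U x)) := by
  simp [cechComplexFunctor, pr]
  exact Pi.map_π _ _

end General

section Top

variable {X : TopCat.{u}} {P Q : (Opens X)ᵒᵖ ⥤ AddCommGrpCat.{u}} (φ : P ⟶ Q) {W : Opens X} {ι : Type u}
  (Y : ι → Over W)

/-- the restriction of a morphism of presheaves to the over category. -/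
abbrev φW : PW P (W := W) ⟶ PW Q (W := W) := Functor.whiskerLeft (Over.forget W).op φ

lemma homX_natural (n : ℕ) :
    ((cechComplexFunctor (UY Y)).map φ).f n ≫ homX Q Y n =
      homX P Y n ≫ ((cechComplexFunctor Y).map (φW φ)).f n := by
  refine Pi.hom_ext _ _ (fun (x : Fin (n + 1) → ι) => ?_)
  have : (((cechComplexFunctor (UY Y)).map φ).f n ≫ homX Q Y n) ≫ pr Y (PW Q) n x =
      (homX P Y n ≫ ((cechComplexFunctor Y).map (φW φ)).f n) ≫ pr Y (PW Q) n x := by
    rw [Category.assoc, homX_pr, ← Category.assoc, map_pr, Category.assoc, Category.assoc, map_pr,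
      ← Category.assoc (homX P Y n), homX_pr, Category.assoc]
    congr 1
    exact (φ.naturality (homOfLE (left_le Y x)).op).symm
  exact this

/-- the comparison of Čech complexes (opens vs. over category) is natural in the presheaf. -/
lemma isoCx_natural :
    (cechComplexFunctor (UY Y)).map φ ≫ (isoCx Q Y).hom =
      (isoCx P Y).hom ≫ (cechComplexFunctor Y).map (φW φ) := by
  apply HomologicalComplex.hom_ext
  intro n
  exact homX_natural φ Y n

/-- the comparison of Čech cohomology (opens vs. over category) is natural in the presheaf. -/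
lemma isoH_natural (p : ℕ) :
    HomologicalComplex.homologyMap ((cechComplexFunctor (UY Y)).map φ) p ≫ (isoH Q Y p).hom =
      (isoH P Y p).hom ≫ HomologicalComplex.homologyMap ((cechComplexFunctor Y).map (φW φ)) p := by
  change HomologicalComplex.homologyMap _ p ≫ HomologicalComplex.homologyMap (isoCx Q Y).hom p =
    HomologicalComplex.homologyMap (isoCx P Y).hom p ≫ HomologicalComplex.homologyMap _ p
  rw [← HomologicalComplex.homologyMap_comp, ← HomologicalComplex.homologyMap_comp, isoCx_natural]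

end Top

section Site

variable {C : Type u} [SmallCategory C] [HasPullbacks C] {J : GrothendieckTopology C}

lemma HUmap_comp_apply {F G H : Sheaf J AddCommGrpCat.{u}} (a : F ⟶ G) (b : G ⟶ H) (p : ℕ) (U : C)
    (x : CohSite.HU F p U) :
    CechEdge.HUmap (a ≫ b) p U x = CechEdge.HUmap b p U (CechEdge.HUmap a p U x) := by
  change ((((Sheaf.cohomologyPresheafFunctor J p).map (a ≫ b)).app (op U)).hom) x = _
  rw [Functor.map_comp, NatTrans.comp_app]
  rfl

/-- the comparison map `Ȟ^p(Y, F) → H^p(U, F)` is natural in the sheaf `F`. -/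
lemma edgeSh_natural {U : C} {ι : Type u} {Y : ι → Over U}
    (e : ∀ (P : Cᵒᵖ ⥤ AddCommGrpCat.{u}) (p : ℕ), CohCx.cechH P Y p →+ CohSite.HU (CechEdge.shf J P) p U)
    (he : CechEdge.IsEdge J Y e) {F G : Sheaf J AddCommGrpCat.{u}} (ψ : F ⟶ G) (p : ℕ)
    (x : CohCx.cechH F.obj Y p) :
    CechEdge.edgeSh e G p (CechEdge.cechHMap Y ψ.hom p x) =
      CechEdge.HUmap ψ p U (CechEdge.edgeSh e F p x) := by
  change CechEdge.HUmap _ p U (e G.obj p (CechEdge.cechHMap Y ψ.hom p x)) =
    CechEdge.HUmap ψ p U (CechEdge.HUmap _ p U (e F.obj p x))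
  rw [he.natural, ← HUmap_comp_apply, ← HUmap_comp_apply]
  congr 2
  exact (sheafificationAdjunction J AddCommGrpCat.{u}).counit.naturality ψ

end Site

section TopH

open Groth.Agent.Lib.Helper23.AffVanish

variable (Y : TopCat.{u})

/-- `H^n(⊤, F) ≃ H^n(X, F)` is natural in `F`. -/
lemma HETopEquivH_natural {F G : CohTop.Ab Y} (ψ : F ⟶ G) (n : ℕ) (x : HE F n ⊤) :
    HETopEquivH Y G n (CohTop.HUmap ψ n ⊤ x) = Sheaf.H.map ψ n (HETopEquivH Y F n x) := by
  change (Ext.mk₀ (wTop Y)).comp (x.comp (Ext.mk₀ ψ) (add_zero n)) (zero_add n) =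
    ((Ext.mk₀ (wTop Y)).comp x (zero_add n)).comp (Ext.mk₀ ψ) (add_zero n)
  rw [Ext.comp_assoc]
  all_goals omega

/-- `H^n(W, F) ≃ H^n(X, F)` for `W = ⊤`. -/
noncomputable def HUEquivH {W : Opens Y} (hW : W = ⊤) (F : CohTop.Ab Y) (n : ℕ) :
    CohTop.HU F n W ≃+ CohTop.H F n := by
  subst hW
  exact HETopEquivH Y F n

lemma HUEquivH_natural {W : Opens Y} (hW : W = ⊤) {F G : CohTop.Ab Y} (ψ : F ⟶ G) (n : ℕ)
    (x : CohTop.HU F n W) :
    HUEquivH Y hW G n (CohTop.HUmap ψ n W x) = Sheaf.H.map ψ n (HUEquivH Y hW F n x) := by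
  subst hW
  exact HETopEquivH_natural Y ψ n x

end TopH

section Scheme

open Groth.Agent.Lib.Helper23.AffVanish

/-- the map on Čech cohomology induced by an endomorphism of the underlying abelian sheaf. -/
noncomputable abbrev cechMap {X : Scheme.{u}} {ι : Type u} (U : ι → X.Opens) (M : X.Modules)
    (ψ : Coh.toAb M ⟶ Coh.toAb M) (p : ℕ) : CohB1.cechH U M p →+ CohB1.cechH U M p :=
  (HomologicalComplex.homologyMap ((cechComplexFunctor U).map ψ.hom) p).hom

/-- **Natural form of S0013**: the Čech-to-cohomology isomorphism can be chosen compatible with all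
endomorphisms of the underlying abelian sheaf. -/
theorem exists_cech_equiv_natural (X : Scheme.{u}) {ι : Type u}
    (U : ι → X.Opens) (hcov : ⨆ i, U i = ⊤)
    (hU : ∀ s : Finset ι, s.Nonempty → IsAffineOpen (⨅ i ∈ s, U i))
    (M : X.Modules) [Coh.IsQCoh M] (p : ℕ) :
    ∃ Φ : ↑(CohB1.cechH U M p) ≃+ Coh.HH X M p,
      ∀ (ψ : Coh.toAb M ⟶ Coh.toAb M) (x : CohB1.cechH U M p),
        Φ (cechMap U M ψ p x) = Sheaf.H.map ψ p (Φ x) := by
  have h : ∀ (p : ℕ) (a : Fin (p + 1) → ι) (q : ℕ),
      Subsingleton (CohTop.HU (ab' M) (q + 1) (iInf fun k => U (a k))) := by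
    intro p a q
    have haff : IsAffineOpen (iInf fun k => U (a k)) := by
      classical
      have := hU (Finset.image a Finset.univ) (Finset.image_nonempty.2 Finset.univ_nonempty)
      have e : (⨅ i ∈ Finset.image a Finset.univ, U i) = iInf fun k => U (a k) := by
        apply le_antisymm
        · refine le_iInf fun k => ?_
          exact iInf₂_le (a k) (Finset.mem_image.2 ⟨k, Finset.mem_univ k, rfl⟩)
        · refine le_iInf₂ fun i hi => ?_
          obtain ⟨k, -, rfl⟩ := Finset.mem_image.1 hi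
          exact iInf_le _ k
      rwa [e] at this
    exact subsingleton_HE_of_isAffineOpen haff M q
  let F : CohTop.Ab X.carrier := ab' M
  let Y := fam U (iSup U) (le_iSup U)
  have hY : Sieve.ofArrows (fun i => (Y i).left) (fun i => (Y i).hom) ∈
      Opens.grothendieckTopology X (iSup U) := covering_of_iSup Y le_rfl
  have hh : ∀ (p : ℕ) (a : Fin (p + 1) → ι) (q : ℕ),
      Subsingleton (CohSite.HU F (q + 1) (∏ᶜ fun k => Y (a k)).left) := by
    intro p a q
    have e : (∏ᶜ fun k => Y (a k)).left = iInf fun k => U (a k) := by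
      rw [← Groth.Agent.S0493.prod_eq_iInf]
      exact le_antisymm (left_le Y a) (le_left Y a)
    rw [e]
    exact h p a q
  obtain ⟨e, he⟩ := Groth.Agent.S16019.result (Opens.grothendieckTopology X) Y hY
  have bij := Groth.Agent.S16022.result (Opens.grothendieckTopology X) Y e he F hh p
  let Φ1 : ↑(CohB1.cechH U M p) ≃+ CohCx.cechH F.obj Y p :=
    (isoH' F.obj U (iSup U) (le_iSup U) p).addCommGroupIsoToAddEquiv
  let Φ2 : CohCx.cechH F.obj Y p ≃+ CohTop.HU F p (iSup U) :=
    AddEquiv.ofBijective (CechEdge.edgeSh e F p) bij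
  let Φ3 : CohTop.HU F p (iSup U) ≃+ Coh.HH X M p := HUEquivH X.carrier hcov F p
  refine ⟨(Φ1.trans Φ2).trans Φ3, ?_⟩
  intro ψ x
  change Φ3 (Φ2 (Φ1 (cechMap U M ψ p x))) = Sheaf.H.map ψ p (Φ3 (Φ2 (Φ1 x)))
  have e1 : Φ1 (cechMap U M ψ p x) = CechEdge.cechHMap Y ψ.hom p (Φ1 x) :=
    ConcreteCategory.congr_hom (isoH_natural ψ.hom Y p) x
  have e2 : Φ2 (CechEdge.cechHMap Y ψ.hom p (Φ1 x)) = CechEdge.HUmap ψ p (iSup U) (Φ2 (Φ1 x)) :=
    edgeSh_natural e he ψ p (Φ1 x)
  rw [e1, e2]
  exact HUEquivH_natural X.carrier hcov ψ p _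

/-- `Γ(X, O_X)`-linear form: the action of a global function `r` on `H^p(X, M)` corresponds to the map
of Čech cohomology induced by multiplication by `r`. -/
theorem exists_cech_equiv_smulΓ (X : Scheme.{u}) {ι : Type u}
    (U : ι → X.Opens) (hcov : ⨆ i, U i = ⊤)
    (hU : ∀ s : Finset ι, s.Nonempty → IsAffineOpen (⨅ i ∈ s, U i))
    (M : X.Modules) [Coh.IsQCoh M] (p : ℕ) :
    ∃ Φ : ↑(CohB1.cechH U M p) ≃+ Coh.HH X M p,
      ∀ (r : Coh.Γtop X) (x : CohB1.cechH U M p),
        Φ (cechMap U M (Coh.smulAb M r) p x) = r • Φ x := by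
  obtain ⟨Φ, hΦ⟩ := exists_cech_equiv_natural X U hcov hU M p
  exact ⟨Φ, fun r x => hΦ (Coh.smulAb M r) x⟩

/-- `R`-linear form for `X` over `Spec R`: `r ∈ R` acts on `H^p(X, M)` (frozen `Coh.moduleOver`) as the map of
Čech cohomology induced by multiplication by the image of `r` in `Γ(X, O_X)`. -/
theorem exists_cech_equiv_smul (R : Type u) [CommRing R] (X : Scheme.{u})
    [X.Over (Spec (CommRingCat.of R))] {ι : Type u}
    (U : ι → X.Opens) (hcov : ⨆ i, U i = ⊤)
    (hU : ∀ s : Finset ι, s.Nonempty → IsAffineOpen (⨅ i ∈ s, U i))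
    (M : X.Modules) [Coh.IsQCoh M] (p : ℕ) :
    ∃ Φ : ↑(CohB1.cechH U M p) ≃+ Coh.HH X M p,
      ∀ (r : R) (x : CohB1.cechH U M p),
        Φ (cechMap U M (Coh.smulAb M (Coh.toGlobal (X ↘ Spec (CommRingCat.of R)) r)) p x) = r • Φ x := by
  obtain ⟨Φ, hΦ⟩ := exists_cech_equiv_smulΓ X U hcov hU M p
  exact ⟨Φ, fun r x => hΦ _ x⟩

/-- the Čech map of an endomorphism on classes of cocycles. -/
lemma cechMap_homologyπ {X : Scheme.{u}} {ι : Type u} (U : ι → X.Opens) (M : X.Modules)
    (ψ : Coh.toAb M ⟶ Coh.toAb M) (p : ℕ) (z : (CK U M.presheaf).cycles p) :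
    cechMap U M ψ p ((CK U M.presheaf).homologyπ p z) =
      (CK U M.presheaf).homologyπ p
        (HomologicalComplex.cyclesMap ((cechComplexFunctor U).map ψ.hom) p z) :=
  ConcreteCategory.congr_hom
    (HomologicalComplex.homologyπ_naturality ((cechComplexFunctor U).map ψ.hom) p) z

/-- the underlying cochain of the image cocycle. -/
lemma iCycles_cyclesMap {X : Scheme.{u}} {ι : Type u} (U : ι → X.Opens) (M : X.Modules)
    (ψ : Coh.toAb M ⟶ Coh.toAb M) (p : ℕ) (z : (CK U M.presheaf).cycles p) :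
    (CK U M.presheaf).iCycles p
        (HomologicalComplex.cyclesMap ((cechComplexFunctor U).map ψ.hom) p z) =
      ((cechComplexFunctor U).map ψ.hom).f p ((CK U M.presheaf).iCycles p z) :=
  ConcreteCategory.congr_hom
    (HomologicalComplex.cyclesMap_i ((cechComplexFunctor U).map ψ.hom) p) z

/-- components of the image cochain. -/
lemma pr_map_apply {X : Scheme.{u}} {ι : Type u} (U : ι → X.Opens) (M : X.Modules)
    (ψ : Coh.toAb M ⟶ Coh.toAb M) (p : ℕ) (a : Fin (p + 1) → ι) (c : (CK U M.presheaf).X p) :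
    pr U M.presheaf p a (((cechComplexFunctor U).map ψ.hom).f p c) =
      ψ.hom.app (op (Ux U a)) (pr U M.presheaf p a c) :=
  ConcreteCategory.congr_hom (map_pr U ψ.hom p a) c

end Scheme

end Groth.Agent.R2.H79.CechNat
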