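import Mathlib
import Groth.Agent.R2.H11CbcSpec
import Groth.Agent.R2.H11CbcReindex
import Groth.Agent.R2.H11CbcProd
import Groth.Agent.R2.H16CbcG3
import Groth.Agent.R2.H79CechNat
import Groth.Agent.S0493

/-!
# PROJ:cbc — geometric assembly   (helper11)

`CC A F U : M ↦ Č(U, F ⊗_A M)` and the bridge theorem from the packages `G2 G3 G5`, a uniform vanishing
bound and finiteness of `H^n(X, F ⊗_A A)` for its functorial module structure.
-/

set_option autoImplicit false
set_option linter.style.haveILetI false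
universe u

open CategoryTheory CategoryTheory.Limits AlgebraicGeometry Opposite TopologicalSpace

namespace Groth.Agent.R2.H11.CbcGeom

open Groth.Agent.R2.H11.CbcSpec Groth.Agent.R2.H11.CbcLin Groth.Agent.R2.H11.CbcEW
  Groth.Agent.R2.H11.CbcCx Groth.Agent.R2.H11.CbcReindex Groth.Agent.R2.H11.CbcProd
  Groth.Agent.Lib.Helper16.CechLow Groth.Agent.R2.H16.CbcG3 Groth.Agent.R2.H16.CbcG2

section Additive

variable {X : Scheme.{u}} {ι : Type u} (U : ι → X.Opens)

instance additive_toPsh : (toPsh X).Additive := ⟨fun {_ _ _ _} => rfl⟩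

instance additive_cechComplexFunctor :
    (cechComplexFunctor (A := AddCommGrpCat.{u}) U).Additive where
  map_add {P Q} α β := by
    apply HomologicalComplex.hom_ext
    intro n
    refine Pi.hom_ext _ _ (fun (x : Fin (n + 1) → ι) => ?_)
    have h : ∀ φ : P ⟶ Q, ((cechComplexFunctor U).map φ).f n ≫ pr U Q n x =
        pr U P n x ≫ φ.app (op (Ux U x)) := fun φ => Groth.Agent.R2.H79.CechNat.map_pr U φ n x
    show ((cechComplexFunctor U).map (α + β)).f n ≫ pr U Q n x =
      (((cechComplexFunctor U).map α).f n + ((cechComplexFunctor U).map β).f n) ≫ pr U Q n x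
    rw [Preadditive.add_comp, h, h, h]
    exact Preadditive.comp_add _ _ _ _ _ _

instance additive_cechFun : (cechFun U).Additive := inferInstance

theorem isAffineOpen_Ux (hU : ∀ s : Finset ι, s.Nonempty → IsAffineOpen (⨅ i ∈ s, U i))
    {n : ℕ} (a : Fin (n + 1) → ι) : IsAffineOpen (Ux U a) := by
  classical
  have := hU (Finset.image a Finset.univ) (Finset.image_nonempty.2 Finset.univ_nonempty)
  have e : (⨅ i ∈ Finset.image a Finset.univ, U i) = iInf fun k => U (a k) := by
    apply le_antisymm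
    · refine le_iInf fun k => ?_
      exact iInf₂_le (a k) (Finset.mem_image.2 ⟨k, Finset.mem_univ k, rfl⟩)
    · refine le_iInf₂ fun i hi => ?_
      obtain ⟨k, -, rfl⟩ := Finset.mem_image.1 hi
      exact iInf_le _ k
  rw [e, ← Groth.Agent.S0493.prod_eq_iInf] at this
  exact this

end Additive

variable (A : Type u) [CommRing A] {X : Scheme.{u}} [X.Over (Spec (CommRingCat.of A))]
  (F : X.Modules) {ι : Type u} (U : ι → X.Opens)

/-- `M ↦` the Čech complex of `F ⊗_A M` -/
noncomputable abbrev CC : ModuleCat.{u} A ⥤ CochainComplex AddCommGrpCat.{u} ℕ :=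
  CohIII.tensorAFunctor A F ⋙ cechFun U

instance : (CC A F U).Additive := inferInstance

/-- the terms of the Čech complex functor are finite products of section functors -/
noncomputable def tqProdIso (n : ℕ) :
    Tq (CC A F U) n ≅ prodFunctor (fun x : Fin (n + 1) → ι => TW A F (Ux U x)) :=
  NatIso.ofComponents (fun M => Iso.refl _) (by
    intro M N f
    have key : (Tq (CC A F U) n).map f =
        (prodFunctor (fun x : Fin (n + 1) → ι => TW A F (Ux U x))).map f := by
      refine Pi.hom_ext _ _ (fun (x : Fin (n + 1) → ι) => ?_)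
      have h1 := Groth.Agent.R2.H79.CechNat.map_pr U
        ((toPsh X).map ((CohIII.tensorAFunctor A F).map f)) n x
      refine h1.trans ?_
      symm
      exact limMap_π _ _
    exact (Category.comp_id _).trans (key.trans (Category.id_comp _).symm))

instance additive_HAb (n : ℕ) : (CohIII.HAb X n).Additive where
  map_add {M N f g} := by
    ext x
    exact Sheaf.H.map_add_apply ((SheafOfModules.toSheaf X.ringCatSheaf).map f)
      ((SheafOfModules.toSheaf X.ringCatSheaf).map g) x

section Bridge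

variable [Finite ι]

/-- **The geometric bridge**, from the packages. -/
theorem bridge_of [IsNoetherianRing A]
    (hU : ∀ s : Finset ι, s.Nonempty → IsAffineOpen (⨅ i ∈ s, U i))
    (h2 : ∀ W : X.Opens, IsAffineOpen W → G2 A F W)
    (h3 : ∀ W : X.Opens, IsAffineOpen W → G3 A F W)
    (h5 : ∀ p, G5 U p)
    (hq : ∀ M : ModuleCat.{u} A, Coh.IsQCoh ((CohIII.tensorAFunctor A F).obj M))
    (d : ℕ)
    (hvan : ∀ (M : ModuleCat.{u} A) (n : ℕ), d < n →
      Subsingleton (Coh.HH X ((CohIII.tensorAFunctor A F).obj M) n))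
    (hfin : ∀ n : ℕ, Module.Finite A
      ((Lin (CohIII.tensorAFunctor A F ⋙ CohIII.HAb X n)).obj (ModuleCat.of A A))) :
    ∃ L : ChainComplex (ModuleCat.{u} A) ℤ,
      (∀ i, Module.Finite A (L.X i) ∧ Module.Free A (L.X i)) ∧
      (∀ i : ℤ, i < -(d : ℤ) → IsZero (L.X i)) ∧
      (∀ (i : ℤ) (M : ModuleCat.{u} A), 0 < i → IsZero (CohIII.T L i M)) ∧
      ∀ p : ℕ, Nonempty (CohIII.tensorAFunctor A F ⋙ CohIII.HAb X p ≅
        CohIII.TFun L (-(p : ℤ)) ⋙ forget₂ (ModuleCat.{u} A) AddCommGrpCat.{u}) := by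
  have hγ : ∀ p : ℕ, Nonempty (CC A F U ⋙
      HomologicalComplex.homologyFunctor AddCommGrpCat.{u} _ p ≅
        CohIII.tensorAFunctor A F ⋙ CohIII.HAb X p) := fun p =>
    h5 p (ModuleCat.{u} A) (CohIII.tensorAFunctor A F) hq
  haveI : ∀ n, PreservesFiniteColimits (Tq (CC A F U) n) := fun n => by
    haveI : ∀ x : Fin (n + 1) → ι, PreservesFiniteColimits (TW A F (Ux U x)) := fun x =>
      (h2 _ (isAffineOpen_Ux U hU x)).1
    exact preservesFiniteColimits_of_natIso (tqProdIso A F U n).symm
  haveI : ∀ (n : ℕ) (J : Type u), PreservesColimitsOfShape (Discrete J) (Tq (CC A F U) n) :=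
    fun n J => by
      haveI : ∀ x : Fin (n + 1) → ι, PreservesColimitsOfShape (Discrete J) (TW A F (Ux U x)) :=
        fun x => (h2 _ (isAffineOpen_Ux U hU x)).2 J
      exact preservesColimitsOfShape_of_natIso (tqProdIso A F U n).symm
  haveI : ∀ n, (Tq (CC A F U) n).PreservesMonomorphisms := fun n => by
    haveI : ∀ x : Fin (n + 1) → ι, (TW A F (Ux U x)).PreservesMonomorphisms := fun x =>
      h3 _ (isAffineOpen_Ux U hU x)
    exact Functor.PreservesMonomorphisms.of_iso (tqProdIso A F U n).symm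
  have hvan' : ∀ (M : ModuleCat.{u} A) (n : ℕ), d < n →
      IsZero (((CC A F U).obj M).homology n) := by
    intro M n hn
    obtain ⟨γ⟩ := hγ n
    have hz : IsZero ((CohIII.tensorAFunctor A F ⋙ CohIII.HAb X n).obj M) := by
      rw [AddCommGrpCat.isZero_iff_subsingleton]
      exact hvan M n hn
    exact hz.of_iso (γ.app M)
  have hfin' : ∀ n : ℕ, Module.Finite A
      ((Lin (CC A F U ⋙ HomologicalComplex.homologyFunctor AddCommGrpCat.{u} _ n)).obj
        (ModuleCat.of A A)) := by
    intro n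
    obtain ⟨γ⟩ := hγ n
    have := hfin n
    exact Module.Finite.equiv (linEquivOfIso
      (Lin (CC A F U ⋙ HomologicalComplex.homologyFunctor AddCommGrpCat.{u} _ n))
      (CohIII.tensorAFunctor A F ⋙ CohIII.HAb X n)
      (linForgetIso _ ≪≫ γ) (ModuleCat.of A A)).symm
  obtain ⟨L, hL, hLz, hLp, hiso⟩ := bridge_nat' (CC A F U) d hvan' hfin'
  refine ⟨L, hL, hLz, hLp, fun p => ?_⟩
  obtain ⟨γ⟩ := hγ p
  obtain ⟨e⟩ := hiso p
  exact ⟨γ.symm ≪≫ e⟩

end Bridge

end Groth.Agent.R2.H11.CbcGeom
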