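import Mathlib
import Groth.Agent.R2.H11CbcSpec
import Groth.Agent.Lib.Helper23TensorUnit
import Groth.Agent.Lib.Helper23PB

/-!
# PROJ:cbc package G9 (helper8): `F ⊗_A A ≅ F`
-/

set_option autoImplicit false
universe u

open CategoryTheory CategoryTheory.Limits AlgebraicGeometry Opposite TopologicalSpace

namespace Groth.Agent.R2.H8.CbcG9

open Groth.Agent.R2.H11

variable (A : Type u) [CommRing A] {X : Scheme.{u}} [X.Over (Spec (CommRingCat.of A))]

/-- the value of `DCoh.tensorRightMod F` on `N` is the frozen `CohB1.tensorMod N F`. -/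
noncomputable def tensorRightModObjIso (F N : X.Modules) :
    (DCoh.tensorRightMod F).obj N ≅ CohB1.tensorMod N F := Iso.refl _

/-- `f^*(A~) ≅ O_X`. -/
noncomputable def pullbackTildeSelfIso :
    (Scheme.Modules.pullback (X ↘ Spec (CommRingCat.of A))).obj
      ((tilde.functor (CommRingCat.of A)).obj (ModuleCat.of A A)) ≅ Coh.structureModule X :=
  (Scheme.Modules.pullback (X ↘ Spec (CommRingCat.of A))).mapIso
      (tildeSelf (R := CommRingCat.of A)) ≪≫
    Groth.Agent.Lib.Helper23.PB.pullbackUnitIso (X ↘ Spec (CommRingCat.of A))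

/-- **G9**: `F ⊗_A A ≅ F`. -/
noncomputable def tensorAFunctorSelfIso (F : X.Modules) :
    (CohIII.tensorAFunctor A F).obj (ModuleCat.of A A) ≅ F :=
  (DCoh.tensorRightMod F).mapIso (pullbackTildeSelfIso A) ≪≫
    tensorRightModObjIso F (Coh.structureModule X) ≪≫
    Groth.Agent.Lib.Helper23.TensorUnit.unitTensorIso F

theorem g9 (F : X.Modules) : CbcSpec.G9 A F := ⟨tensorAFunctorSelfIso A F⟩

end Groth.Agent.R2.H8.CbcG9
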