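import Mathlib
import Groth.Agent.R2.H11CbcGeom
import Groth.Agent.R2.H62CohLES
import Groth.Agent.R2.H8CbcG9
import Groth.Agent.S0010
import Groth.Agent.Lib.Helper22NA9

/-!
# PROJ:cbc — the bridge theorem for a proper scheme over a Noetherian ring   (helper11)

`bridge_of_G1_G5`: `A` Noetherian, `X` proper over `Spec A`, `F` quasi-coherent and flat over `A` with
finite cohomology modules `H^n(X, F)`: there is a complex `L` of finite free `A`-modules, zero below
some degree, with `H^p(X, F ⊗_A M) ≅ H_{-p}(L ⊗_A M)` naturally in `M`.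
Inputs still taken as hypotheses: `G1` (linearity of `tensorAFunctor`), `G5` (functorial Čech
comparison) and the finiteness `hfinH` (= `S0002` for coherent `F`).
-/

set_option autoImplicit false
set_option linter.style.haveILetI false
universe u

open CategoryTheory CategoryTheory.Limits AlgebraicGeometry Opposite TopologicalSpace

namespace Groth.Agent.R2.H11.CbcBridge

open Groth.Agent.R2.H11.CbcSpec Groth.Agent.R2.H11.CbcLin Groth.Agent.R2.H11.CbcGeom
  Groth.Agent.R2.H16.CbcG3 Groth.Agent.R2.H16.CbcG2 Groth.Agent.R2.H62.CohLES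

variable (A : Type u) [CommRing A] {X : Scheme.{u}} [X.Over (Spec (CommRingCat.of A))]
  (F : X.Modules)

/-- finiteness of `H^n(X, F ⊗_A A)` for the functorial module structure, from finiteness of
`H^n(X, F)` -/
theorem finite_lin_of (h1 : G1 A F) (n : ℕ) (hfinH : Module.Finite A (Coh.HH X F n)) :
    Module.Finite A
      ((Lin (CohIII.tensorAFunctor A F ⋙ CohIII.HAb X n)).obj (ModuleCat.of A A)) := by
  obtain ⟨φ⟩ := Groth.Agent.R2.H8.CbcG9.g9 A F
  let f : Coh.HH X F n →ₗ[A]
      ((Lin (CohIII.tensorAFunctor A F ⋙ CohIII.HAb X n)).obj (ModuleCat.of A A)) :=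
    { toFun := fun x => HHmap φ.inv n x
      map_add' := fun x y => map_add _ x y
      map_smul' := fun a x => by
        have e1 : HHmap φ.inv n (a • x) = a • HHmap φ.inv n x := (HHmapA A φ.inv n).map_smul a x
        have e2 : ∀ y : Coh.HH X ((CohIII.tensorAFunctor A F).obj (ModuleCat.of A A)) n,
            ((CohIII.tensorAFunctor A F ⋙ CohIII.HAb X n).map (a • 𝟙 (ModuleCat.of A A))).hom y =
              a • y := by
          intro y
          show ((CohIII.HAb X n).map ((CohIII.tensorAFunctor A F).map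
            (a • 𝟙 (ModuleCat.of A A)))).hom y = a • y
          rw [h1]
          rfl
        show HHmap φ.inv n (a • x) =
          ((CohIII.tensorAFunctor A F ⋙ CohIII.HAb X n).map (a • 𝟙 (ModuleCat.of A A))).hom
            (HHmap φ.inv n x)
        rw [e2, e1] }
  have hf : Function.Surjective f := by
    intro y
    have key : ∀ z : Coh.HH X ((CohIII.tensorAFunctor A F).obj (ModuleCat.of A A)) n,
        HHmap φ.inv n (HHmap φ.hom n z) = z := by
      intro z
      rw [← HHmap_comp, φ.hom_inv_id]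
      exact HHmap_id n z
    exact ⟨HHmap φ.hom n y, key y⟩
  exact Module.Finite.of_surjective f hf

theorem isAffineOpen_biInf_of_inf {ι : Type u} (U : ι → X.Opens)
    (hU : ∀ i, IsAffineOpen (U i))
    (hd : ∀ V W : X.Opens, IsAffineOpen V → IsAffineOpen W → IsAffineOpen (V ⊓ W))
    (s : Finset ι) (hs : s.Nonempty) : IsAffineOpen (⨅ i ∈ s, U i) := by
  classical
  induction hs using Finset.Nonempty.cons_induction with
  | singleton a => simpa using hU a
  | cons a s ha hs ih =>
    have e : (⨅ i ∈ Finset.cons a s ha, U i) = U a ⊓ ⨅ i ∈ s, U i := by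
      rw [Finset.cons_eq_insert, Finset.iInf_insert]
    rw [e]
    exact hd _ _ (hU a) ih

/-- **The bridge theorem** (modulo `G1`, `G5` and finiteness of cohomology). -/
theorem bridge_of_G1_G5 [IsNoetherianRing A] [IsProper (X ↘ Spec (CommRingCat.of A))]
    (hF : Coh.IsQCoh F) (hfl : FlatMod.IsFlatOver (X ↘ Spec (CommRingCat.of A)) F)
    (h1 : G1 A F)
    (h5 : ∀ {ι : Type u} (U : ι → X.Opens), (⨆ i, U i = ⊤) →
      (∀ s : Finset ι, s.Nonempty → IsAffineOpen (⨅ i ∈ s, U i)) → ∀ p, G5 U p)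
    (hfinH : ∀ n, Module.Finite A (Coh.HH X F n)) :
    ∃ (L : ChainComplex (ModuleCat.{u} A) ℤ) (d : ℕ),
      (∀ i, Module.Finite A (L.X i) ∧ Module.Free A (L.X i)) ∧
      (∀ i : ℤ, i < -(d : ℤ) → IsZero (L.X i)) ∧
      (∀ (i : ℤ) (M : ModuleCat.{u} A), 0 < i → IsZero (CohIII.T L i M)) ∧
      ∀ p : ℕ, Nonempty (CohIII.tensorAFunctor A F ⋙ CohIII.HAb X p ≅
        CohIII.TFun L (-(p : ℤ)) ⋙ forget₂ (ModuleCat.{u} A) AddCommGrpCat.{u}) := by
  haveI : CompactSpace X :=
    QuasiCompact.compactSpace_of_compactSpace (X ↘ Spec (CommRingCat.of A))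
  obtain ⟨t, W, hW, hcov⟩ :=
    Groth.Agent.Lib.Helper22.NA9.exists_fin_affine_cover (⊤ : X.Opens) isCompact_univ
  have hd : ∀ V V' : X.Opens, IsAffineOpen V → IsAffineOpen V' → IsAffineOpen (V ⊓ V') := by
    intro V V' hV hV'
    have hdiag : IsAffineHom (pullback.diagonal (X ↘ Spec (CommRingCat.of A))) := inferInstance
    exact isAffineHom_diagonal_iff.mp hdiag ⊤ (isAffineOpen_top _) V (by simp) V' (by simp) hV hV'
  let U : ULift.{u} (Fin t) → X.Opens := fun i => W i.down
  have hcovU : ⨆ i, U i = ⊤ := by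
    rw [← hcov]
    apply le_antisymm
    · exact iSup_le fun i => le_iSup W i.down
    · exact iSup_le fun k => le_iSup U ⟨k⟩
  have hU : ∀ s : Finset (ULift.{u} (Fin t)), s.Nonempty → IsAffineOpen (⨅ i ∈ s, U i) :=
    isAffineOpen_biInf_of_inf U (fun i => hW i.down) hd
  have hq : ∀ M : ModuleCat.{u} A, Coh.IsQCoh ((CohIII.tensorAFunctor A F).obj M) :=
    (g0 A F).2.2 hF
  have hvan : ∀ (M : ModuleCat.{u} A) (n : ℕ), t < n →
      Subsingleton (Coh.HH X ((CohIII.tensorAFunctor A F).obj M) n) := by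
    intro M n hn
    haveI : Coh.IsQCoh ((CohIII.tensorAFunctor A F).obj M) := hq M
    exact Groth.Agent.S0010.result X t W hW hcov hd _ n hn.le
  obtain ⟨L, hL, hLz, hLp, hiso⟩ := bridge_of A F U hU (fun V hV => g2 A F hV hF)
    (fun V hV => g3_of A F hV hF hfl h1 (Groth.Agent.R2.H8.CbcG9.g9 A F))
    (h5 U hcovU hU) hq t hvan (fun n => finite_lin_of A F h1 n (hfinH n))
  exact ⟨L, t, hL, hLz, hLp, hiso⟩

end Groth.Agent.R2.H11.CbcBridge
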