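import Mathlib
import Groth.Prelude.Def_ega3
import Groth.Agent.Lib.Helper13FlatCx
import Groth.Agent.R2.H11CbcReindex

/-!
# PROJ:cbc — algebra for the fibre identification   (helper11)

* `finrank_eq_of_addEquiv_residueField`: an additive isomorphism of `κ(𝔭)`-vector spaces which commutes
  with the action of `A` is `κ(𝔭)`-linear (`A → κ(𝔭)` is an epimorphism of rings), so the dimensions agree;
* `dRank_eq_finrank_of_addEquiv`: if `T ≅ TFun L i ⋙ forget₂` and `N` is a `κ(x)`-vector space with an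
  additive isomorphism `N ≃+ T(κ(x))` compatible with the actions of `A`, then
  `CohIII.dRank L i x = finrank κ(x) N`.
-/

set_option autoImplicit false
universe u

open CategoryTheory CategoryTheory.Limits MonoidalCategory

namespace Groth.Agent.R2.H11.CbcFIAlg

open Groth.Agent.R2.H11.CbcLin Groth.Agent.R2.H11.CbcReindex

variable {A : Type u} [CommRing A]

theorem addEquiv_map_smul_residueField (𝔭 : Ideal A) [𝔭.IsPrime] {N N' : Type*}
    [AddCommGroup N] [AddCommGroup N'] [Module 𝔭.ResidueField N] [Module 𝔭.ResidueField N']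
    (ψ : N ≃+ N')
    (h : ∀ (a : A) (n : N), ψ (algebraMap A 𝔭.ResidueField a • n) =
      algebraMap A 𝔭.ResidueField a • ψ n) (z : 𝔭.ResidueField) (n : N) :
    ψ (z • n) = z • ψ n := by
  obtain ⟨x, y, hy, rfl⟩ := IsFractionRing.div_surjective (A := A ⧸ 𝔭) z
  obtain ⟨a, rfl⟩ := Ideal.Quotient.mk_surjective x
  obtain ⟨s, rfl⟩ := Ideal.Quotient.mk_surjective y
  have hs : algebraMap (A ⧸ 𝔭) 𝔭.ResidueField (Ideal.Quotient.mk 𝔭 s) ≠ 0 := by
    intro h0
    have := (IsFractionRing.injective (A ⧸ 𝔭) 𝔭.ResidueField)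
      (h0.trans (map_zero _).symm)
    exact (nonZeroDivisors.ne_zero hy) this
  have ea : algebraMap (A ⧸ 𝔭) 𝔭.ResidueField (Ideal.Quotient.mk 𝔭 a) =
      algebraMap A 𝔭.ResidueField a := rfl
  have es : algebraMap (A ⧸ 𝔭) 𝔭.ResidueField (Ideal.Quotient.mk 𝔭 s) =
      algebraMap A 𝔭.ResidueField s := rfl
  rw [es] at hs
  rw [ea, es]
  set α := algebraMap A 𝔭.ResidueField a
  set σ := algebraMap A 𝔭.ResidueField s
  have h1 : σ • ψ ((α / σ) • n) = σ • ((α / σ) • ψ n) := by
    rw [← h s, smul_smul, smul_smul, mul_div_cancel₀ _ hs, h a]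
  have h2 := congrArg (fun w => σ⁻¹ • w) h1
  simp only [smul_smul, ← mul_assoc, inv_mul_cancel₀ hs, one_mul, one_smul] at h2
  exact h2

theorem finrank_eq_of_addEquiv_residueField (𝔭 : Ideal A) [𝔭.IsPrime] {N N' : Type*}
    [AddCommGroup N] [AddCommGroup N'] [Module 𝔭.ResidueField N] [Module 𝔭.ResidueField N']
    (ψ : N ≃+ N')
    (h : ∀ (a : A) (n : N), ψ (algebraMap A 𝔭.ResidueField a • n) =
      algebraMap A 𝔭.ResidueField a • ψ n) :
    Module.finrank 𝔭.ResidueField N = Module.finrank 𝔭.ResidueField N' :=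
  LinearEquiv.finrank_eq
    { ψ with map_smul' := fun z n => addEquiv_map_smul_residueField 𝔭 ψ h z n }

theorem TFun_map_smul_id (L : ChainComplex (ModuleCat.{u} A) ℤ) (i : ℤ) (M : ModuleCat.{u} A)
    (a : A) : (CohIII.TFun L i).map (a • 𝟙 M) = a • 𝟙 _ := by
  have h1 : CohIII.tensorMap L (a • 𝟙 M) = a • 𝟙 (CohIII.tensorObj L M) := by
    apply HomologicalComplex.hom_ext
    intro j
    show L.X j ◁ (a • 𝟙 M) = a • 𝟙 _
    rw [MonoidalLinear.whiskerLeft_smul, MonoidalCategory.whiskerLeft_id]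
    rfl
  show HomologicalComplex.homologyMap (CohIII.tensorMap L (a • 𝟙 M)) i = _
  rw [h1, homologyMap_smul', HomologicalComplex.homologyMap_id]
  rfl

/-- the fibre rank of the complex `L` from any model of `T(κ(x))` -/
theorem dRank_eq_finrank_of_addEquiv (L : ChainComplex (ModuleCat.{u} A) ℤ) (i : ℤ)
    (T : ModuleCat.{u} A ⥤ AddCommGrpCat.{u}) [T.Additive]
    (e : T ≅ CohIII.TFun L i ⋙ forget₂ (ModuleCat.{u} A) AddCommGrpCat.{u})
    (x : PrimeSpectrum A) (N : Type u) [AddCommGroup N] [Module x.asIdeal.ResidueField N]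
    (ψ : N ≃+ T.obj (ModuleCat.of A x.asIdeal.ResidueField))
    (hψ : ∀ (a : A) (n : N), ψ (algebraMap A x.asIdeal.ResidueField a • n) =
      (T.map (a • 𝟙 (ModuleCat.of A x.asIdeal.ResidueField))).hom (ψ n)) :
    CohIII.dRank L i x = Module.finrank x.asIdeal.ResidueField N := by
  obtain ⟨j⟩ := Groth.Agent.Helper13FlatCx.nonempty_restrict_homology_iso A
    x.asIdeal.ResidueField L i
  let κM : ModuleCat.{u} A := ModuleCat.of A x.asIdeal.ResidueField
  let ψ₂ : T.obj κM ≃+ CohIII.T L i κM := (e.app κM).addCommGroupIsoToAddEquiv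
  let ψ₃ : CohIII.T L i κM ≃+
      ((CohIII.bcCx (algebraMap A x.asIdeal.ResidueField) L).homology i) :=
    j.symm.toLinearEquiv.toAddEquiv
  have h2 : ∀ (a : A) (t : T.obj κM), ψ₂ ((T.map (a • 𝟙 κM)).hom t) = a • ψ₂ t := by
    intro a t
    have hn := ConcreteCategory.congr_hom (e.hom.naturality (a • 𝟙 κM)) t
    have hn' : (e.hom.app κM).hom ((T.map (a • 𝟙 κM)).hom t) =
        ((CohIII.TFun L i).map (a • 𝟙 κM)).hom ((e.hom.app κM).hom t) := hn
    rw [TFun_map_smul_id] at hn'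
    exact hn'
  have h3 : ∀ (a : A) (w : CohIII.T L i κM),
      ψ₃ (a • w) = algebraMap A x.asIdeal.ResidueField a • ψ₃ w := by
    intro a w
    exact j.symm.toLinearEquiv.map_smul a w
  have key := finrank_eq_of_addEquiv_residueField x.asIdeal ((ψ.trans ψ₂).trans ψ₃) (by
    intro a n
    show ψ₃ (ψ₂ (ψ (algebraMap A x.asIdeal.ResidueField a • n))) =
      algebraMap A x.asIdeal.ResidueField a • ψ₃ (ψ₂ (ψ n))
    rw [hψ, h2, h3])
  exact key.symm

end Groth.Agent.R2.H11.CbcFIAlg
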