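import Mathlib
import Groth.Agent.R2.H79CechNat
import Groth.Agent.R2.H11CbcSpec

/-!
# PROJ:cbc package G5 (helper16): functorial Čech-to-cohomology comparison

Namespace `Groth.Agent.R2.H16.CbcG5`.

`exists_cech_equiv_functorial`: for a cover `U` with affine finite intersections, there is a family of
isomorphisms `Φ_M : Ȟ^p(U, M) ≃+ H^p(X, M)` (`M` quasi-coherent) compatible with every morphism
`ψ : toAb M ⟶ toAb N` of the underlying abelian sheaves.  `g5 : G5 U p` is the resulting natural isomorphism.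
(The proof is helper79's `R2/H79CechNat.exists_cech_equiv_natural` with one fixed choice of edge data.)
-/

set_option autoImplicit false
set_option linter.unusedSectionVars false
set_option linter.unusedVariables false
set_option linter.style.haveILetI false
universe u

open CategoryTheory CategoryTheory.Limits Opposite TopologicalSpace AlgebraicGeometry Abelian

namespace Groth.Agent.R2.H16.CbcG5

open Groth.Agent.Lib.Helper16.CechLow Groth.Agent.Lib.Helper16.CechH1 Groth.Agent.Lib.Helper16.CechCmp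
  Groth.Agent.Lib.Helper16.CechLES Groth.Agent.Lib.Helper23.AffVanish Groth.Agent.R2.H79.CechNat

/-- the map on Čech cohomology induced by a morphism of the underlying abelian sheaves. -/
noncomputable abbrev cechMap₂ {X : Scheme.{u}} {ι : Type u} (U : ι → X.Opens) {M N : X.Modules}
    (ψ : Coh.toAb M ⟶ Coh.toAb N) (p : ℕ) : CohB1.cechH U M p →+ CohB1.cechH U N p :=
  (HomologicalComplex.homologyMap ((cechComplexFunctor U).map ψ.hom) p).hom

/-- **Functorial form of S0013**: one family of Čech-to-cohomology isomorphisms, compatible with all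
morphisms of the underlying abelian sheaves of quasi-coherent modules. -/
theorem exists_cech_equiv_functorial (X : Scheme.{u}) {ι : Type u}
    (U : ι → X.Opens) (hcov : ⨆ i, U i = ⊤)
    (hU : ∀ s : Finset ι, s.Nonempty → IsAffineOpen (⨅ i ∈ s, U i)) (p : ℕ) :
    ∃ Φ : ∀ (M : X.Modules), Coh.IsQCoh M → (↑(CohB1.cechH U M p) ≃+ Coh.HH X M p),
      ∀ (M N : X.Modules) (hM : Coh.IsQCoh M) (hN : Coh.IsQCoh N) (ψ : Coh.toAb M ⟶ Coh.toAb N)
        (x : CohB1.cechH U M p), Φ N hN (cechMap₂ U ψ p x) = Sheaf.H.map ψ p (Φ M hM x) := by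
  have h : ∀ (M : X.Modules), Coh.IsQCoh M → ∀ (p : ℕ) (a : Fin (p + 1) → ι) (q : ℕ),
      Subsingleton (CohTop.HU (ab' M) (q + 1) (iInf fun k => U (a k))) := by
    intro M hM p a q
    have haff : IsAffineOpen (iInf fun k => U (a k)) := by
      classical
      have := hU (Finset.image a Finset.univ) (Finset.image_nonempty.2 Finset.univ_nonempty)
      have e : (⨅ i ∈ Finset.image a Finset.univ, U i) = iInf fun k => U (a k) := by
        apply le_antisymm
        · refine le_iInf fun k => ?_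
          exact iInf₂_le (a k) (Finset.mem_image.2 ⟨k, Finset.mem_univ k, rfl⟩)
        · refine le_iInf₂ fun i hi => ?_
          obtain ⟨k, -, rfl⟩ := Finset.mem_image.1 hi
          exact iInf_le _ k
      rwa [e] at this
    haveI : Coh.IsQCoh M := hM
    exact subsingleton_HE_of_isAffineOpen haff M q
  let Y := fam U (iSup U) (le_iSup U)
  have hY : Sieve.ofArrows (fun i => (Y i).left) (fun i => (Y i).hom) ∈
      Opens.grothendieckTopology X (iSup U) := covering_of_iSup Y le_rfl
  have hh : ∀ (M : X.Modules), Coh.IsQCoh M → ∀ (p : ℕ) (a : Fin (p + 1) → ι) (q : ℕ),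
      Subsingleton (CohSite.HU (ab' M) (q + 1) (∏ᶜ fun k => Y (a k)).left) := by
    intro M hM p a q
    have e : (∏ᶜ fun k => Y (a k)).left = iInf fun k => U (a k) := by
      rw [← Groth.Agent.S0493.prod_eq_iInf]
      exact le_antisymm (left_le Y a) (le_left Y a)
    rw [e]
    exact h M hM p a q
  obtain ⟨e, he⟩ := Groth.Agent.S16019.result (Opens.grothendieckTopology X) Y hY
  have bij : ∀ (M : X.Modules), Coh.IsQCoh M → Function.Bijective (CechEdge.edgeSh e (ab' M) p) :=
    fun M hM => Groth.Agent.S16022.result (Opens.grothendieckTopology X) Y e he (ab' M) (hh M hM) p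
  let Φ1 : ∀ M : X.Modules, ↑(CohB1.cechH U M p) ≃+ CohCx.cechH (ab' M).obj Y p := fun M =>
    (isoH' (ab' M).obj U (iSup U) (le_iSup U) p).addCommGroupIsoToAddEquiv
  let Φ2 : ∀ (M : X.Modules), Coh.IsQCoh M →
      (CohCx.cechH (ab' M).obj Y p ≃+ CohTop.HU (ab' M) p (iSup U)) := fun M hM =>
    AddEquiv.ofBijective (CechEdge.edgeSh e (ab' M) p) (bij M hM)
  let Φ3 : ∀ M : X.Modules, CohTop.HU (ab' M) p (iSup U) ≃+ Coh.HH X M p := fun M =>
    HUEquivH X.carrier hcov (ab' M) p
  refine ⟨fun M hM => ((Φ1 M).trans (Φ2 M hM)).trans (Φ3 M), ?_⟩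
  intro M N hM hN ψ x
  change Φ3 N (Φ2 N hN (Φ1 N (cechMap₂ U ψ p x))) = Sheaf.H.map ψ p (Φ3 M (Φ2 M hM (Φ1 M x)))
  have e1 : Φ1 N (cechMap₂ U ψ p x) = CechEdge.cechHMap Y ψ.hom p (Φ1 M x) :=
    ConcreteCategory.congr_hom (isoH_natural ψ.hom Y p) x
  have e2 : Φ2 N hN (CechEdge.cechHMap Y ψ.hom p (Φ1 M x)) =
      CechEdge.HUmap ψ p (iSup U) (Φ2 M hM (Φ1 M x)) :=
    edgeSh_natural e he ψ p (Φ1 M x)
  rw [e1, e2]
  exact HUEquivH_natural X.carrier hcov ψ p _

open Groth.Agent.R2.H11.CbcSpec in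
/-- **G5** of `R2/H11CbcSpec`. -/
theorem g5 {X : Scheme.{u}} {ι : Type u} (U : ι → X.Opens) (hcov : ⨆ i, U i = ⊤)
    (hU : ∀ s : Finset ι, s.Nonempty → IsAffineOpen (⨅ i ∈ s, U i)) (p : ℕ) : G5 U p := by
  intro D _ G hG
  obtain ⟨Φ, hΦ⟩ := exists_cech_equiv_functorial X U hcov hU p
  refine ⟨NatIso.ofComponents (fun d => (Φ (G.obj d) (hG d)).toAddCommGrpIso) ?_⟩
  intro d d' f
  ext x
  exact hΦ (G.obj d) (G.obj d') (hG d) (hG d')
    ((SheafOfModules.toSheaf X.ringCatSheaf).map (G.map f)) x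

end Groth.Agent.R2.H16.CbcG5
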