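import Mathlib
import Groth.Prelude.Def_Formal
import Groth.Prelude.Def_DDual2
import Groth.Prelude.Def_ega3
import Groth.Agent.S9530
import Groth.Agent.Lib.Helper20FormalPull
import Groth.Agent.R2.H11CbcSpec

/-!
# PROJ:cbc — package G1: `CohIII.tensorAFunctor A F` is `A`-linear   (helper51)

Namespace `Groth.Agent.R2.H51.CbcG1`.

* `smulP P r` : multiplication by a global function on a presheaf of modules; `smulP_comp` (naturality),
  `toP_map_smulModΓ`, `smulP_whiskerRight`, `shP_map_smulP`.
* `tensorRightMod_map_smulModΓ` : `(DCoh.tensorRightMod F).map (smulModΓ N r) = smulModΓ _ r`.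
* `moduleSpecΓFunctor_map_smulModΓ`, `tilde_map_smul` : `(tilde.functor R).map (a • 𝟙 M) = smulModΓ _ a`.
* `g1 : CbcSpec.G1 A F`.
-/

set_option autoImplicit false
universe u
open CategoryTheory CategoryTheory.Limits AlgebraicGeometry Opposite TopologicalSpace MonoidalCategory

namespace Groth.Agent.R2.H51.CbcG1

variable {X : Scheme.{u}}

/-- restriction of a global function, typed in the presheaf of rings used by `CohB1.PMod`. -/
noncomputable def resT (U : (Opens X)ᵒᵖ) (r : Coh.Γtop X) :
    ((X.sheaf.obj ⋙ forget₂ CommRingCat RingCat.{u}).obj U : RingCat.{u}) :=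
  Coh.resTop X U r

theorem resT_comp (U V : (Opens X)ᵒᵖ) (f : U ⟶ V) (r : Coh.Γtop X) :
    ((X.sheaf.obj ⋙ forget₂ CommRingCat RingCat.{u}).map f).hom (resT U r) = resT V r :=
  Coh.resTop_comp U V f r

theorem resT_mul_comm (U : (Opens X)ᵒᵖ) (r : Coh.Γtop X)
    (s : ((X.sheaf.obj ⋙ forget₂ CommRingCat RingCat.{u}).obj U : RingCat.{u})) :
    resT U r * s = s * resT U r :=
  @mul_comm Γ(X, Opposite.unop U) _ (Coh.resTop X U r) s

/-- Presheaf-level multiplication by a global function. -/
noncomputable def smulP (P : CohB1.PMod X) (r : Coh.Γtop X) : P ⟶ P :=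
  PresheafOfModules.homMk
    { app := fun U => AddCommGrpCat.ofHom (DistribSMul.toAddMonoidHom (P.obj U) (resT U r))
      naturality := by
        intro U V f
        ext m
        change resT V r • (P.map f).hom m = (P.map f).hom (resT U r • m)
        rw [← resT_comp U V f r]
        exact (P.map_smul f (resT U r) m).symm }
    (by
      intro U s m
      change resT U r • (s • m) = s • (resT U r • m)
      rw [← mul_smul, ← mul_smul, resT_mul_comm])

theorem smulP_app (P : CohB1.PMod X) (r : Coh.Γtop X) (U : (Opens X)ᵒᵖ) (m : P.obj U) :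
    (smulP P r).app U m = resT U r • m := rfl

theorem toP_map_smulModΓ (N : X.Modules) (r : Coh.Γtop X) :
    DCoh.toP.map (Formal.smulModΓ N r) = smulP (DCoh.toP.obj N) r := rfl

theorem smulP_comp {P Q : CohB1.PMod X} (φ : P ⟶ Q) (r : Coh.Γtop X) :
    smulP P r ≫ φ = φ ≫ smulP Q r := by
  ext U m
  change φ.app U (resT U r • m) = resT U r • φ.app U m
  exact (φ.app U).hom.map_smul _ m

theorem smulP_whiskerRight (P Q : CohB1.PMod X) (r : Coh.Γtop X) :
    smulP P r ▷ Q = smulP (P ⊗ Q) r := by
  ext1 U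
  apply ModuleCat.MonoidalCategory.tensor_ext
  intro m₁ m₂
  change (resT U r • m₁) ⊗ₜ[((X.sheaf.obj ⋙ forget₂ CommRingCat RingCat.{u}).obj U : RingCat.{u})] m₂ =
    resT U r • (m₁ ⊗ₜ[((X.sheaf.obj ⋙ forget₂ CommRingCat RingCat.{u}).obj U : RingCat.{u})] m₂)
  rw [TensorProduct.smul_tmul']

/-- the sheafification adjunction in the form used by `DCoh.shP`. -/
noncomputable abbrev shAdj (X : Scheme.{u}) :=
  PresheafOfModules.sheafificationAdjunction.{u} (R := X.ringCatSheaf) (𝟙 X.ringCatSheaf.obj)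

theorem shP_map_smulP (P : CohB1.PMod X) (r : Coh.Γtop X) :
    DCoh.shP.map (smulP P r) = Formal.smulModΓ (DCoh.shP.obj P) r := by
  apply ((shAdj X).homEquiv _ _).injective
  erw [Adjunction.homEquiv_unit, Adjunction.homEquiv_unit]
  have h1 : (shAdj X).unit.app P ≫ (SheafOfModules.forget X.ringCatSheaf ⋙
      PresheafOfModules.restrictScalars (𝟙 X.ringCatSheaf.obj)).map (DCoh.shP.map (smulP P r)) =
      smulP P r ≫ (shAdj X).unit.app P :=
    ((shAdj X).unit.naturality (smulP P r)).symm
  have h2 : (SheafOfModules.forget X.ringCatSheaf ⋙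
      PresheafOfModules.restrictScalars (𝟙 X.ringCatSheaf.obj)).map
        (Formal.smulModΓ (DCoh.shP.obj P) r) =
      smulP (show CohB1.PMod X from (SheafOfModules.forget X.ringCatSheaf ⋙
      PresheafOfModules.restrictScalars (𝟙 X.ringCatSheaf.obj)).obj (DCoh.shP.obj P)) r := rfl
  exact h1.trans ((smulP_comp _ r).trans (congrArg _ h2.symm))

theorem tensorRightMod_map_smulModΓ (F N : X.Modules) (r : Coh.Γtop X) :
    (DCoh.tensorRightMod F).map (Formal.smulModΓ N r) =
      Formal.smulModΓ ((DCoh.tensorRightMod F).obj N) r := by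
  change DCoh.shP.map (DCoh.toP.map (Formal.smulModΓ N r) ▷ CohB1.toPMod F) = _
  rw [toP_map_smulModΓ, smulP_whiskerRight, shP_map_smulP]
  rfl

section tilde
variable (R : CommRingCat.{u})

theorem moduleSpecΓFunctor_map_smulModΓ (N : (Spec R).Modules) (a : R) :
    (moduleSpecΓFunctor (R := R)).map (Formal.smulModΓ N ((Scheme.ΓSpecIso R).inv.hom a)) =
      a • 𝟙 _ := by
  ext x
  rfl

theorem tilde_map_smul (M : ModuleCat.{u} R) (a : R) :
    (tilde.functor R).map (a • 𝟙 M) =
      Formal.smulModΓ ((tilde.functor R).obj M) ((Scheme.ΓSpecIso R).inv.hom a) := by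
  apply ((tilde.adjunction (R := R)).homEquiv _ _).injective
  rw [Adjunction.homEquiv_unit, Adjunction.homEquiv_unit, moduleSpecΓFunctor_map_smulModΓ]
  have h1 := (tilde.adjunction (R := R)).unit.naturality (a • 𝟙 M)
  refine h1.symm.trans ?_
  rw [Linear.comp_smul]
  change (a • 𝟙 M) ≫ _ = _
  rw [Linear.smul_comp, Category.id_comp]
  congr 1

end tilde

/-- **G1** of `PROJ:cbc`: `tensorAFunctor A F` is `A`-linear. -/
theorem g1 (A : Type u) [CommRing A] {X : Scheme.{u}} [X.Over (Spec (CommRingCat.of A))]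
    (F : X.Modules) : Groth.Agent.R2.H11.CbcSpec.G1 A F := by
  intro M a
  have e1 := tilde_map_smul (CommRingCat.of A) M a
  have e2 := Groth.Agent.Lib.Helper20.FormalPull.pullback_map_smulModΓ
    (X ↘ Spec (CommRingCat.of A)) ((tilde.functor (CommRingCat.of A)).obj M)
    ((Scheme.ΓSpecIso (CommRingCat.of A)).inv.hom a)
  have e3 := tensorRightMod_map_smulModΓ F
    ((Scheme.Modules.pullback (X ↘ Spec (CommRingCat.of A))).obj
      ((tilde.functor (CommRingCat.of A)).obj M))
    ((X ↘ Spec (CommRingCat.of A)).appTop.hom ((Scheme.ΓSpecIso (CommRingCat.of A)).inv.hom a))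
  exact (congrArg (fun φ => (DCoh.tensorRightMod F).map
    ((Scheme.Modules.pullback (X ↘ Spec (CommRingCat.of A))).map φ)) e1).trans
    ((congrArg (fun φ => (DCoh.tensorRightMod F).map φ) e2).trans e3)

end Groth.Agent.R2.H51.CbcG1
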