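import Mathlib
import Groth.Agent.R2.H11CbcBridge
import Groth.Agent.R2.H51CbcG1
import Groth.Agent.R2.H16CbcG5

/-!
# PROJ:cbc — the bridge theorem, unconditional modulo finiteness of cohomology   (helper11)

Same as helper16's `R2/H16CbcFinal.exists_bridge_proper`, with the additional clause that
`H_i(L ⊗_A M) = 0` for `i > 0` (negative cohomological degrees), needed for the `Γ`-valued consumers.
-/

set_option autoImplicit false
universe u

open CategoryTheory CategoryTheory.Limits AlgebraicGeometry Opposite TopologicalSpace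

namespace Groth.Agent.R2.H11.CbcFinal

open Groth.Agent.R2.H11.CbcSpec Groth.Agent.R2.H11.CbcBridge

variable (A : Type u) [CommRing A] {X : Scheme.{u}} [X.Over (Spec (CommRingCat.of A))]
  (F : X.Modules)

theorem exists_bridge' [IsNoetherianRing A] [IsProper (X ↘ Spec (CommRingCat.of A))]
    (hF : Coh.IsQCoh F) (hfl : FlatMod.IsFlatOver (X ↘ Spec (CommRingCat.of A)) F)
    (hfinH : ∀ n, Module.Finite A (Coh.HH X F n)) :
    ∃ (L : ChainComplex (ModuleCat.{u} A) ℤ) (d : ℕ),
      (∀ i, Module.Finite A (L.X i) ∧ Module.Free A (L.X i)) ∧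
      (∀ i : ℤ, i < -(d : ℤ) → IsZero (L.X i)) ∧
      (∀ (i : ℤ) (M : ModuleCat.{u} A), 0 < i → IsZero (CohIII.T L i M)) ∧
      ∀ p : ℕ, Nonempty (CohIII.tensorAFunctor A F ⋙ CohIII.HAb X p ≅
        CohIII.TFun L (-(p : ℤ)) ⋙ forget₂ (ModuleCat.{u} A) AddCommGrpCat.{u}) :=
  bridge_of_G1_G5 A F hF hfl (Groth.Agent.R2.H51.CbcG1.g1 A F)
    (fun U hcov hU p => Groth.Agent.R2.H16.CbcG5.g5 U hcov hU p) hfinH

end Groth.Agent.R2.H11.CbcFinal
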