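import Mathlib
import Groth.Prelude.Def_ega3

/-!
# PROJ:cbc — `M ↦ H_i(L ⊗_A M)` commutes with products for `L` termwise finite free (helper16)

Namespace `Groth.Agent.R2.H16.CbcProd`.

* `bijective_lTensor_pi`: tensoring with a finite free module preserves "being a product" (elementwise form).
* `bijective_homologyMap_pi`: homology of complexes of modules commutes with products (elementwise form).
* `isLimitFanOfBijective`: a fan in `ModuleCat A` whose map to the pi type is bijective is a product.
* `preservesProducts_TFun`: `PreservesLimitsOfShape (Discrete J) (CohIII.TFun L i)` for `L` termwise finite free;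
  `preservesProducts_TFun_forget₂` the same after forgetting to abelian groups.
-/

set_option autoImplicit false
set_option linter.style.haveILetI false
universe u
open CategoryTheory Limits MonoidalCategory

namespace Groth.Agent.R2.H16.CbcProd

variable {A : Type u} [CommRing A]

section tensor
open TensorProduct

variable {N : Type*} [AddCommGroup N] [Module A N] {κ : Type*} [Finite κ] (b : Module.Basis κ A N)
  {J : Type*} {P : Type*} [AddCommGroup P] [Module A P] {Z : J → Type*} [∀ j, AddCommGroup (Z j)]
  [∀ j, Module A (Z j)] (q : ∀ j, P →ₗ[A] Z j)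

include b in
/-- tensoring with a finite free module preserves products (elementwise form). -/
theorem bijective_lTensor_pi (h : Function.Bijective (fun (x : P) (j : J) => q j x)) :
    Function.Bijective (fun (y : N ⊗[A] P) (j : J) => LinearMap.lTensor N (q j) y) := by
  classical
  have key : ∀ (j : J) (y : N ⊗[A] P) (i : κ),
      equivFinsuppOfBasisLeft b (LinearMap.lTensor N (q j) y) i =
        q j (equivFinsuppOfBasisLeft b y i) := by
    intro j y i
    induction y using TensorProduct.induction_on with
    | zero => simp
    | tmul n p =>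
      rw [LinearMap.lTensor_tmul, equivFinsuppOfBasisLeft_apply_tmul_apply,
        equivFinsuppOfBasisLeft_apply_tmul_apply, map_smul]
    | add y y' hy hy' => simp only [map_add, Finsupp.add_apply, hy, hy']
  constructor
  · intro y y' hyy'
    apply (equivFinsuppOfBasisLeft b).injective
    ext i
    apply h.1
    funext j
    have := congrFun hyy' j
    simp only at this
    change q j (equivFinsuppOfBasisLeft b y i) = q j (equivFinsuppOfBasisLeft b y' i)
    rw [← key, ← key, this]
  · intro z
    haveI := Fintype.ofFinite κ
    -- the coordinates of the preimage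
    choose g hg using fun i : κ => h.2 (fun j => equivFinsuppOfBasisLeft b (z j) i)
    refine ⟨(equivFinsuppOfBasisLeft b).symm (Finsupp.equivFunOnFinite.symm g), ?_⟩
    funext j
    apply (equivFinsuppOfBasisLeft b).injective
    ext i
    rw [key, LinearEquiv.apply_symm_apply]
    exact congrFun (hg i) j

end tensor

section homologyElem
open HomologicalComplex

variable {ι' : Type*} {c : ComplexShape ι'} (K : HomologicalComplex (ModuleCat.{u} A) c) (i : ι')

lemma exists_cycle (x : K.X i) (hx : (K.d i (c.next i)).hom x = 0) :
    ∃ z : K.cycles i, (K.iCycles i).hom z = x := by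
  have h : (ShortComplex.mk (K.iCycles i) (K.d i (c.next i)) (K.iCycles_d i (c.next i))).Exact :=
    ShortComplex.exact_of_f_is_kernel _ (K.cyclesIsKernel i (c.next i) rfl)
  rw [ShortComplex.moduleCat_exact_iff] at h
  exact h x hx

lemma iCycles_injective : Function.Injective (K.iCycles i).hom :=
  (ModuleCat.mono_iff_injective (K.iCycles i)).1 inferInstance

lemma homologyπ_surjective : Function.Surjective (K.homologyπ i).hom :=
  (ModuleCat.epi_iff_surjective (K.homologyπ i)).1 inferInstance

lemma exists_of_homologyπ_eq_zero (z : K.cycles i) (hz : (K.homologyπ i).hom z = 0) :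
    ∃ w : K.X (c.prev i), (K.toCycles (c.prev i) i).hom w = z := by
  have h : (ShortComplex.mk (K.toCycles (c.prev i) i) (K.homologyπ i)
      (K.toCycles_comp_homologyπ (c.prev i) i)).Exact :=
    ShortComplex.exact_of_g_is_cokernel _ (K.homologyIsCokernel (c.prev i) i rfl)
  rw [ShortComplex.moduleCat_exact_iff] at h
  exact h z hz

lemma iCycles_toCycles (w : K.X (c.prev i)) :
    (K.iCycles i).hom ((K.toCycles (c.prev i) i).hom w) = (K.d (c.prev i) i).hom w :=
  congrArg (fun t => t.hom w) (K.toCycles_i (c.prev i) i)

lemma homologyπ_toCycles (w : K.X (c.prev i)) :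
    (K.homologyπ i).hom ((K.toCycles (c.prev i) i).hom w) = 0 :=
  congrArg (fun t => t.hom w) (K.toCycles_comp_homologyπ (c.prev i) i)

lemma d_iCycles (z : K.cycles i) : (K.d i (c.next i)).hom ((K.iCycles i).hom z) = 0 :=
  congrArg (fun t => t.hom z) (K.iCycles_d i (c.next i))

variable {K} {L : HomologicalComplex (ModuleCat.{u} A) c} (φ : K ⟶ L)

lemma iCycles_cyclesMap (z : K.cycles i) :
    (L.iCycles i).hom ((cyclesMap φ i).hom z) = (φ.f i).hom ((K.iCycles i).hom z) :=
  congrArg (fun t => t.hom z) (cyclesMap_i φ i)

lemma homologyMap_homologyπ (z : K.cycles i) :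
    (homologyMap φ i).hom ((K.homologyπ i).hom z) = (L.homologyπ i).hom ((cyclesMap φ i).hom z) :=
  congrArg (fun t => t.hom z) (homologyπ_naturality φ i)

lemma f_d (p q : ι') (x : K.X p) :
    (φ.f q).hom ((K.d p q).hom x) = (L.d p q).hom ((φ.f p).hom x) :=
  (congrArg (fun t => t.hom x) (φ.comm p q)).symm

end homologyElem

section homology
open HomologicalComplex

variable {ι' : Type*} {c : ComplexShape ι'} {K : HomologicalComplex (ModuleCat.{u} A) c} {J : Type*}
  {Kj : J → HomologicalComplex (ModuleCat.{u} A) c} (φ : ∀ j, K ⟶ Kj j)

/-- homology of complexes of modules commutes with products (elementwise form). -/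
theorem bijective_homologyMap_pi
    (hφ : ∀ n, Function.Bijective (fun (x : K.X n) (j : J) => ((φ j).f n).hom x)) (i : ι') :
    Function.Bijective (fun (h : K.homology i) (j : J) => (homologyMap (φ j) i).hom h) := by
  have hzero : ∀ h : K.homology i, (∀ j, (homologyMap (φ j) i).hom h = 0) → h = 0 := by
    intro h hh
    obtain ⟨z, rfl⟩ := homologyπ_surjective K i h
    have h1 : ∀ j, ∃ w : (Kj j).X (c.prev i),
        ((Kj j).toCycles (c.prev i) i).hom w = (cyclesMap (φ j) i).hom z := by
      intro j
      apply exists_of_homologyπ_eq_zero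
      rw [← homologyMap_homologyπ]
      exact hh j
    choose wj hwj using h1
    obtain ⟨w, hw⟩ := (hφ (c.prev i)).2 wj
    have hw' : ∀ j, ((φ j).f (c.prev i)).hom w = wj j := fun j => congrFun hw j
    have h2 : (K.toCycles (c.prev i) i).hom w = z := by
      apply iCycles_injective K i
      rw [iCycles_toCycles]
      apply (hφ i).1
      funext j
      change ((φ j).f i).hom ((K.d (c.prev i) i).hom w) = ((φ j).f i).hom ((K.iCycles i).hom z)
      rw [f_d, hw', ← iCycles_toCycles, hwj, iCycles_cyclesMap]
    rw [← h2, homologyπ_toCycles]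
  constructor
  · intro h h' hhh'
    have : h - h' = 0 := by
      apply hzero
      intro j
      rw [map_sub, sub_eq_zero]
      exact congrFun hhh' j
    exact sub_eq_zero.1 this
  · intro hj
    have h1 : ∀ j, ∃ z : (Kj j).cycles i, ((Kj j).homologyπ i).hom z = hj j :=
      fun j => homologyπ_surjective (Kj j) i (hj j)
    choose zj hzj using h1
    obtain ⟨x, hx⟩ := (hφ i).2 (fun j => ((Kj j).iCycles i).hom (zj j))
    have hx' : ∀ j, ((φ j).f i).hom x = ((Kj j).iCycles i).hom (zj j) := fun j => congrFun hx j
    have hdx : (K.d i (c.next i)).hom x = 0 := by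
      apply (hφ (c.next i)).1
      funext j
      change ((φ j).f (c.next i)).hom ((K.d i (c.next i)).hom x) = ((φ j).f (c.next i)).hom 0
      rw [f_d, hx', d_iCycles, map_zero]
    obtain ⟨z, hz⟩ := exists_cycle K i x hdx
    refine ⟨(K.homologyπ i).hom z, ?_⟩
    funext j
    change (homologyMap (φ j) i).hom ((K.homologyπ i).hom z) = hj j
    rw [homologyMap_homologyπ, ← hzj]
    congr 1
    apply iCycles_injective (Kj j) i
    rw [iCycles_cyclesMap, hz, hx']

end homology

section fan

variable {J : Type u} (Z : J → ModuleCat.{u} A) (Q : ModuleCat.{u} A) (q : ∀ j, Q ⟶ Z j)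

/-- a fan in `ModuleCat A` whose map to the pi type is bijective is a product. -/
noncomputable def isLimitFanOfBijective
    (h : Function.Bijective (fun (x : Q) (j : J) => (q j).hom x)) : IsLimit (Fan.mk Q q) := by
  let e : Q ≃ₗ[A] (∀ j, Z j) := LinearEquiv.ofBijective (LinearMap.pi (fun j => (q j).hom)) h
  refine IsLimit.ofIsoLimit (ModuleCat.productConeIsLimit Z) (Cone.ext e.toModuleIso.symm ?_)
  rintro ⟨j⟩
  ext y
  change y j = (q j).hom (e.symm y)
  have : e (e.symm y) = y := e.apply_symm_apply y
  exact (congrFun this j).symm

end fan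

section TFun

variable {ι' : Type} {c : ComplexShape ι'} (L : HomologicalComplex (ModuleCat.{u} A) c)
  (hL : ∀ n, Module.Finite A (L.X n) ∧ Module.Free A (L.X n))

include hL in
/-- `M ↦ H_i(L ⊗_A M)` commutes with arbitrary products when `L` is termwise finite free. -/
theorem preservesProducts_TFun (i : ι') (J : Type u) :
    PreservesLimitsOfShape (Discrete J) (CohIII.TFun L i) := by
  haveI : ∀ f : J → ModuleCat.{u} A, PreservesLimit (Discrete.functor f) (CohIII.TFun L i) := by
    intro f
    refine preservesLimit_of_preserves_limit_cone (ModuleCat.productConeIsLimit f) ?_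
    refine (isLimitMapConeFanMkEquiv (CohIII.TFun L i) f _).symm ?_
    apply isLimitFanOfBijective
    refine bijective_homologyMap_pi (K := CohIII.tensorObj L (ModuleCat.of A (∀ j, f j)))
      (Kj := fun j => CohIII.tensorObj L (f j))
      (fun j => CohIII.tensorMap L (ModuleCat.ofHom (LinearMap.proj j))) ?_ i
    intro n
    haveI := (hL n).1
    haveI := (hL n).2
    exact bijective_lTensor_pi (N := L.X n) (Module.Free.chooseBasis A (L.X n))
      (P := ∀ j, f j) (Z := fun j => f j) (fun j => LinearMap.proj j) Function.bijective_id
  exact preservesLimitsOfShape_of_discrete _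

include hL in
theorem preservesProducts_TFun_forget₂ (i : ι') (J : Type u) :
    PreservesLimitsOfShape (Discrete J)
      (CohIII.TFun L i ⋙ forget₂ (ModuleCat.{u} A) AddCommGrpCat.{u}) := by
  haveI := preservesProducts_TFun L hL i J
  infer_instance

end TFun

end Groth.Agent.R2.H16.CbcProd
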