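import Mathlib
import Groth.Prelude.Def_ega3
import Groth.Agent.R2.H16CbcProd
import Groth.Agent.S4490

/-!
# PROJ:cbc — consumers of the bridge, in "transport" form (helper16)

Namespace `Groth.Agent.R2.H16.CbcConsumers`.

Input everywhere: a functor `T : ModuleCat A ⥤ Ab`, a chain complex `L` of finite free `A`-modules and a
natural isomorphism `e : T ≅ CohIII.TFun L i ⋙ forget₂` (for `T = tensorAFunctor A F ⋙ HAb X p` this is what
the cbc bridge provides).

* `preservesProducts_of_iso` (shape of S16719),
* `preservesEpi_iff_surjective_residueField` (shape of S2447, from `S4490.result.1`),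
* `preservesEpi_iff_forall_surjective_pow` (shape of S4506, from `S4490.result.2`).
-/

set_option autoImplicit false
set_option linter.style.haveILetI false
universe u
open CategoryTheory Limits

namespace Groth.Agent.R2.H16.CbcConsumers

variable {A : Type u} [CommRing A]

section general
variable (T : ModuleCat.{u} A ⥤ AddCommGrpCat.{u}) (L : ChainComplex (ModuleCat.{u} A) ℤ)
  (hL : ∀ i, Module.Finite A (L.X i) ∧ Module.Free A (L.X i)) (i : ℤ)
  (e : T ≅ CohIII.TFun L i ⋙ forget₂ (ModuleCat.{u} A) AddCommGrpCat.{u})

include hL e in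
/-- shape of S16719 -/
theorem preservesProducts_of_iso (J : Type u) : PreservesLimitsOfShape (Discrete J) T := by
  haveI := Groth.Agent.R2.H16.CbcProd.preservesProducts_TFun_forget₂ L hL i J
  exact preservesLimitsOfShape_of_natIso e.symm

include e in
theorem preservesEpi_iff : T.PreservesEpimorphisms ↔ (CohIII.TFun L i).PreservesEpimorphisms := by
  rw [Functor.PreservesEpimorphisms.iso_iff e]
  constructor
  · intro h
    exact Functor.preservesEpimorphisms_of_preserves_of_reflects (CohIII.TFun L i)
      (forget₂ (ModuleCat.{u} A) AddCommGrpCat.{u})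
  · intro h
    infer_instance

include e in
theorem surjective_map_iff {M N : ModuleCat.{u} A} (g : M ⟶ N) :
    Function.Surjective (T.map g).hom ↔ Function.Surjective ((CohIII.TFun L i).map g).hom := by
  have hnat : T.map g ≫ e.hom.app N = e.hom.app M ≫
      (forget₂ (ModuleCat.{u} A) AddCommGrpCat.{u}).map ((CohIII.TFun L i).map g) :=
    e.hom.naturality g
  have hM : Function.Bijective (e.hom.app M).hom :=
    ConcreteCategory.bijective_of_isIso (e.hom.app M)
  have hN : Function.Bijective (e.hom.app N).hom :=
    ConcreteCategory.bijective_of_isIso (e.hom.app N)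
  have hcomp : ∀ x, (e.hom.app N).hom ((T.map g).hom x) =
      ((CohIII.TFun L i).map g).hom ((e.hom.app M).hom x) := fun x =>
    congrArg (fun t => t.hom x) hnat
  constructor
  · intro hs y
    obtain ⟨y', rfl⟩ := hN.2 y
    obtain ⟨x, rfl⟩ := hs y'
    exact ⟨(e.hom.app M).hom x, (hcomp x).symm⟩
  · intro hs y
    obtain ⟨x', hx'⟩ := hs ((e.hom.app N).hom y)
    obtain ⟨x, rfl⟩ := hM.2 x'
    refine ⟨x, hN.1 ?_⟩
    rw [hcomp, hx']

end general

section localRing
variable [IsNoetherianRing A] [IsLocalRing A]
  (T : ModuleCat.{u} A ⥤ AddCommGrpCat.{u}) (L : ChainComplex (ModuleCat.{u} A) ℤ)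
  (hL : ∀ i, Module.Finite A (L.X i) ∧ Module.Free A (L.X i)) (i : ℤ)
  (e : T ≅ CohIII.TFun L i ⋙ forget₂ (ModuleCat.{u} A) AddCommGrpCat.{u})

include hL e in
/-- shape of S2447 -/
theorem preservesEpi_iff_surjective_residueField :
    T.PreservesEpimorphisms ↔
      Function.Surjective (T.map
        (ModuleCat.ofHom (Algebra.linearMap A (IsLocalRing.ResidueField A)))).hom := by
  have hP : ∀ n, Module.Finite A (L.X n) ∧ Module.Flat A (L.X n) := fun n => by
    haveI := (hL n).2
    exact ⟨(hL n).1, inferInstance⟩
  rw [preservesEpi_iff T L i e, surjective_map_iff T L i e]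
  exact (Groth.Agent.S4490.result L hP i).1

include hL e in
/-- shape of S4506 -/
theorem preservesEpi_iff_forall_surjective_pow :
    T.PreservesEpimorphisms ↔
      ∀ n : ℕ, Function.Surjective (T.map (ModuleCat.ofHom
        (Ideal.Quotient.factorₐ A (Ideal.pow_le_self (I := IsLocalRing.maximalIdeal A)
          (Nat.succ_ne_zero n))).toLinearMap :
        ModuleCat.of A (A ⧸ IsLocalRing.maximalIdeal A ^ (n + 1)) ⟶
          ModuleCat.of A (A ⧸ IsLocalRing.maximalIdeal A))).hom := by
  have hP : ∀ n, Module.Finite A (L.X n) ∧ Module.Flat A (L.X n) := fun n => by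
    haveI := (hL n).2
    exact ⟨(hL n).1, inferInstance⟩
  constructor
  · intro h n
    rw [← AddCommGrpCat.epi_iff_surjective]
    have hepi : Epi (ModuleCat.ofHom
        (Ideal.Quotient.factorₐ A (Ideal.pow_le_self (I := IsLocalRing.maximalIdeal A)
          (Nat.succ_ne_zero n))).toLinearMap :
        ModuleCat.of A (A ⧸ IsLocalRing.maximalIdeal A ^ (n + 1)) ⟶
          ModuleCat.of A (A ⧸ IsLocalRing.maximalIdeal A)) := by
      rw [ModuleCat.epi_iff_surjective]
      exact Ideal.Quotient.factor_surjective (Ideal.pow_le_self (I := IsLocalRing.maximalIdeal A)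
          (Nat.succ_ne_zero n))
    infer_instance
  · intro h
    rw [preservesEpi_iff T L i e]
    refine (Groth.Agent.S4490.result L hP i).2.2 ⟨0, fun n _ => ?_⟩
    rw [← surjective_map_iff T L i e]
    exact h n

end localRing

end Groth.Agent.R2.H16.CbcConsumers
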