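import Mathlib
import Groth.Agent.R2.H11CbcFIFib
import Groth.Agent.R2.H11CbcFinal
import Groth.Agent.R2.H16CbcConsumers
import Groth.Agent.S2381
import Groth.Agent.S2406

/-!
# PROJ:cbc — consumers of the fibre identification   (helper11)

`s15522_of`: frozen conclusion of S15522 from `FIprop` (base change of cohomology) and finiteness.
-/

set_option autoImplicit false
set_option linter.style.haveILetI false
universe u

open CategoryTheory CategoryTheory.Limits AlgebraicGeometry Opposite TopologicalSpace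

namespace Groth.Agent.R2.H11.CbcFICons

open Groth.Agent.R2.H11.CbcFIFib Groth.Agent.R2.H16.CbcConsumers

variable (A : Type u) [CommRing A] {X : Scheme.{u}} [X.Over (Spec (CommRingCat.of A))]
  (F : X.Modules)

/-- **S15522 modulo `FIprop` and finiteness of cohomology.** -/
theorem s15522_of [IsNoetherianRing A] [IsReduced A] [IsProper (X ↘ Spec (CommRingCat.of A))]
    (hF : Coh.IsCoh F) (hfl : FlatMod.IsFlatOver (X ↘ Spec (CommRingCat.of A)) F) (p : ℕ)
    (hconst : IsLocallyConstant (CohIII.fiberRank (X ↘ Spec (CommRingCat.of A)) F p))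
    (hFI : FIprop A F) (hfinH : ∀ n, Module.Finite A (Coh.HH X F n)) :
    (CohIII.tensorAFunctor A F ⋙ CohIII.HAb X p).PreservesEpimorphisms ∧
      ∀ q : ℕ, q + 1 = p →
        (CohIII.tensorAFunctor A F ⋙ CohIII.HAb X q).PreservesEpimorphisms := by
  obtain ⟨L, d, hL, -, -, hiso⟩ := Groth.Agent.R2.H11.CbcFinal.exists_bridge' A F hF.1 hfl hfinH
  have hLflat : ∀ i, Module.Flat A (L.X i) := fun i => by
    haveI := (hL i).2
    infer_instance
  have hL' : ∀ i, Module.Finite A (L.X i) ∧ Module.Flat A (L.X i) := fun i =>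
    ⟨(hL i).1, hLflat i⟩
  obtain ⟨e⟩ := hiso p
  have hfun : CohIII.fiberRank (X ↘ Spec (CommRingCat.of A)) F p =
      CohIII.dRank L (-(p : ℤ)) := by
    funext y
    exact fiberRank_eq_dRank A F y hFI L p e
  have hconst' : IsLocallyConstant (CohIII.dRank L (-(p : ℤ))) := by
    rw [← hfun]
    exact hconst
  obtain ⟨hmono, hepi⟩ := (Groth.Agent.S2381.result L hL' (-(p : ℤ))).2 inferInstance hconst'
  refine ⟨(preservesEpi_iff _ L (-(p : ℤ)) e).mpr hepi, ?_⟩
  intro q hq
  obtain ⟨eq⟩ := hiso q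
  have h06 := Groth.Agent.S2406.result L hLflat (-(q : ℤ)) (-(p : ℤ)) (by
    have : (q : ℤ) + 1 = p := by exact_mod_cast hq
    omega)
  exact (preservesEpi_iff _ L (-(q : ℤ)) eq).mpr (h06.mpr hmono)

end Groth.Agent.R2.H11.CbcFICons
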