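import Mathlib
import Groth.Agent.R2.H16CbcG3
import Groth.Agent.R2.H51CbcG1
import Groth.Agent.R2.H8CbcG9

/-!
# PROJ:cbc package G3, unconditional (helper16)

`g3`: for `W` affine open, `F` quasi-coherent and flat over `Spec A`, `TW A F W : M ↦ Γ(W, F ⊗_A M)`
preserves monomorphisms (`R2/H16CbcG3.g3_of` with helper51's `g1` and helper8's `g9` plugged in).
Also `flat_val_TW'`: `Γ(W, F ⊗_A A)` is a flat `A`-module for the functorial `A`-module structure.
-/

set_option autoImplicit false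
universe u
open CategoryTheory AlgebraicGeometry Limits Opposite TopologicalSpace

namespace Groth.Agent.R2.H16.CbcG3

open Groth.Agent.R2.H11.CbcSpec Groth.Agent.R2.H11.CbcEW

variable (A : Type u) [CommRing A] {X : Scheme.{u}} [X.Over (Spec (CommRingCat.of A))] (F : X.Modules)
  {W : X.Opens}

/-- **G3** of `R2/H11CbcSpec`. -/
theorem g3 (hW : IsAffineOpen W) (hF : Coh.IsQCoh F)
    (hflat : FlatMod.IsFlatOver (X ↘ Spec (CommRingCat.of A)) F) : G3 A F W :=
  g3_of A F hW hF hflat (Groth.Agent.R2.H51.CbcG1.g1 A F) (Groth.Agent.R2.H8.CbcG9.g9 A F)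

/-- `Γ(W, F ⊗_A A)` with its functorial `A`-module structure is flat over `A`. -/
theorem flat_val_TW' (hW : IsAffineOpen W) [F.IsQuasicoherent]
    (hflat : FlatMod.IsFlatOver (X ↘ Spec (CommRingCat.of A)) F) :
    Module.Flat A (val (TW A F W)) :=
  flat_val_TW A F hW hflat (Groth.Agent.R2.H51.CbcG1.g1 A F) (Groth.Agent.R2.H8.CbcG9.g9 A F)

end Groth.Agent.R2.H16.CbcG3
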