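import Mathlib
import Groth.Agent.R2.H16CbcG3b
import Groth.Agent.R2.H16CbcG5
import Groth.Agent.R2.H11CbcCx

/-!
# PROJ:cbc — the terms of the Čech complex functor inherit G2/G3 (helper16)

Namespace `Groth.Agent.R2.H16.CbcTerms`.

* `preservesColimitsOfShape_of_fan`, `preservesMonomorphisms_of_fan`: a functor `P : C ⥤ D` (`D` preadditive)
  which is pointwise a *finite* product of functors `G x` (via natural projections `π x : P ⟶ G x`)
  preserves colimits of a given shape / monomorphisms as soon as every `G x` does.
* `cechC A F U := tensorAFunctor A F ⋙ cechFun U`, its term functors `Tq (cechC A F U) n` are right exact,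
  commute with direct sums, and (for `F` flat over `A`) preserve monomorphisms, when `ι` is finite and all
  finite intersections of the `U i` are affine.
-/

set_option autoImplicit false
set_option linter.style.haveILetI false
universe u v w
open CategoryTheory AlgebraicGeometry Limits Opposite TopologicalSpace

namespace Groth.Agent.R2.H16.CbcTerms

section abstract
variable {C : Type*} [Category C] {D : Type*} [Category D] [Preadditive D]
  {K : Type*} [Fintype K] [DecidableEq K] (P : C ⥤ D) (G : K → (C ⥤ D)) (π : ∀ x, P ⟶ G x)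
  (hπ : ∀ M : C, IsLimit (Fan.mk (P.obj M) (fun x => (π x).app M)))

/-- the inclusion of the factor `x` -/
noncomputable def incl (x : K) (M : C) : (G x).obj M ⟶ P.obj M :=
  Fan.IsLimit.lift (hπ M) (fun y => if h : x = y then eqToHom (by rw [h]) else 0)

theorem incl_π (x y : K) (M : C) :
    incl P G π hπ x M ≫ (π y).app M = if h : x = y then eqToHom (by rw [h]) else 0 :=
  Fan.IsLimit.fac (hπ M) _ y

theorem incl_π_self (x : K) (M : C) : incl P G π hπ x M ≫ (π x).app M = 𝟙 _ := by
  rw [incl_π, dif_pos rfl]; rfl

theorem incl_π_ne {x y : K} (h : x ≠ y) (M : C) : incl P G π hπ x M ≫ (π y).app M = 0 := by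
  rw [incl_π, dif_neg h]

include hπ in
theorem hom_ext_π {Z : D} {M : C} (f g : Z ⟶ P.obj M) (h : ∀ x, f ≫ (π x).app M = g ≫ (π x).app M) :
    f = g :=
  Fan.IsLimit.hom_ext (hπ M) f g h

theorem sum_π_incl (M : C) : ∑ x : K, (π x).app M ≫ incl P G π hπ x M = 𝟙 (P.obj M) := by
  apply hom_ext_π P G π hπ
  intro y
  rw [Preadditive.sum_comp, Category.id_comp]
  rw [Finset.sum_eq_single y]
  · rw [Category.assoc, incl_π_self, Category.comp_id]
  · intro x _ hxy
    rw [Category.assoc, incl_π_ne P G π hπ hxy, comp_zero]
  · intro h; exact absurd (Finset.mem_univ y) h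

theorem incl_naturality (x : K) {M N : C} (f : M ⟶ N) :
    (G x).map f ≫ incl P G π hπ x N = incl P G π hπ x M ≫ P.map f := by
  apply hom_ext_π P G π hπ
  intro y
  rw [Category.assoc, Category.assoc, (π y).naturality, incl_π]
  by_cases h : x = y
  · subst h
    rw [dif_pos rfl, ← Category.assoc, incl_π_self]
    simp
  · rw [dif_neg h, comp_zero, ← Category.assoc, incl_π_ne P G π hπ h, zero_comp]

include hπ in
/-- a pointwise finite product of functors preserving colimits of shape `S` preserves them. -/
theorem preservesColimitsOfShape_of_fan (S : Type*) [Category S]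
    [∀ x, PreservesColimitsOfShape S (G x)] : PreservesColimitsOfShape S P := by
  constructor
  intro Φ
  constructor
  intro c hc
  have hx : ∀ x, IsColimit ((G x).mapCocone c) := fun x => isColimitOfPreserves (G x) hc
  let sx : ∀ (s : Cocone (Φ ⋙ P)) (x : K), Cocone (Φ ⋙ G x) := fun s x =>
    { pt := s.pt
      ι := { app := fun j => incl P G π hπ x (Φ.obj j) ≫ s.ι.app j
             naturality := by
              intro j j' f
              have h1 := s.ι.naturality f
              simp only [Functor.comp_obj, Functor.comp_map, Functor.const_obj_obj,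
                Functor.const_obj_map, Category.comp_id] at h1 ⊢
              rw [← Category.assoc, incl_naturality, Category.assoc, h1] } }
  refine ⟨{ desc := fun s => ∑ x : K, (π x).app c.pt ≫ (hx x).desc (sx s x)
            fac := ?_
            uniq := ?_ }⟩
  · intro s j
    change P.map (c.ι.app j) ≫ _ = _
    rw [Preadditive.comp_sum]
    have h2 : ∀ x : K, P.map (c.ι.app j) ≫ (π x).app c.pt ≫ (hx x).desc (sx s x) =
        ((π x).app (Φ.obj j) ≫ incl P G π hπ x (Φ.obj j)) ≫ s.ι.app j := by
      intro x
      have h3 := (hx x).fac (sx s x) j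
      change (G x).map (c.ι.app j) ≫ _ = incl P G π hπ x (Φ.obj j) ≫ s.ι.app j at h3
      have hn : P.map (c.ι.app j) ≫ (π x).app c.pt =
          (π x).app (Φ.obj j) ≫ (G x).map (c.ι.app j) := (π x).naturality (c.ι.app j)
      rw [reassoc_of% hn, h3, Category.assoc]
    rw [Finset.sum_congr rfl (fun x _ => h2 x), ← Preadditive.sum_comp, sum_π_incl, Category.id_comp]
  · intro s m hm
    have h4 : m = (∑ x : K, (π x).app c.pt ≫ incl P G π hπ x c.pt) ≫ m := by
      rw [sum_π_incl, Category.id_comp]
    rw [h4, Preadditive.sum_comp]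
    refine Finset.sum_congr rfl (fun x _ => ?_)
    rw [Category.assoc]
    congr 1
    apply (hx x).uniq (sx s x)
    intro j
    change (G x).map (c.ι.app j) ≫ _ = incl P G π hπ x (Φ.obj j) ≫ s.ι.app j
    have h5 : (G x).map (c.ι.app j) ≫ incl P G π hπ x c.pt =
        incl P G π hπ x (Φ.obj j) ≫ P.map (c.ι.app j) := incl_naturality P G π hπ x (c.ι.app j)
    rw [reassoc_of% h5]
    congr 1
    exact hm j

include hπ in
/-- a pointwise product of functors preserving monomorphisms preserves them. -/
theorem preservesMonomorphisms_of_fan [∀ x, (G x).PreservesMonomorphisms] :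
    P.PreservesMonomorphisms := by
  constructor
  intro M N f hf
  apply Preadditive.mono_of_cancel_zero
  intro Z g hg
  apply hom_ext_π P G π hπ
  intro x
  rw [zero_comp]
  have h1 : (g ≫ (π x).app M) ≫ (G x).map f = 0 := by
    rw [Category.assoc, ← (π x).naturality, ← Category.assoc, hg, zero_comp]
  haveI : Mono ((G x).map f) := inferInstance
  exact zero_of_comp_mono _ h1

end abstract

section cech
open Groth.Agent.Lib.Helper16.CechLow Groth.Agent.R2.H79.CechNat

universe v₁ u₁
variable {C : Type u₁} [Category.{v₁} C] [HasFiniteProducts C] {ι : Type u} (U : ι → C)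

/-- the terms of the Čech complex are products, with projections `pr`. -/
noncomputable def isLimitPr (P : Cᵒᵖ ⥤ AddCommGrpCat.{u}) (n : ℕ) :
    IsLimit (Fan.mk ((CK U P).X n) (fun x => pr U P n x)) :=
  productIsProduct (fun x : Fin (n + 1) → ι => P.obj (op (Ux U x)))

theorem cech_hom_ext {P : Cᵒᵖ ⥤ AddCommGrpCat.{u}} {n : ℕ} {Z : AddCommGrpCat.{u}}
    (f g : Z ⟶ (CK U P).X n) (h : ∀ x, f ≫ pr U P n x = g ≫ pr U P n x) : f = g :=
  Fan.IsLimit.hom_ext (isLimitPr U P n) f g h

instance additive_cechComplexFunctor :
    (cechComplexFunctor (A := AddCommGrpCat.{u}) U).Additive where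
  map_add {P Q φ ψ} := by
    apply HomologicalComplex.hom_ext
    intro n
    apply cech_hom_ext U
    intro x
    rw [HomologicalComplex.add_f_apply, Preadditive.add_comp, map_pr, map_pr, map_pr,
      ← Preadditive.comp_add]
    rfl

end cech

section geom
open Groth.Agent.R2.H11.CbcSpec Groth.Agent.R2.H11.CbcCx Groth.Agent.Lib.Helper16.CechLow
  Groth.Agent.R2.H79.CechNat Groth.Agent.R2.H16.CbcG2 Groth.Agent.R2.H16.CbcG3

variable (A : Type u) [CommRing A] {X : Scheme.{u}} [X.Over (Spec (CommRingCat.of A))] (F : X.Modules)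
  {ι : Type u} (U : ι → X.Opens)

instance additive_toPsh : (toPsh X).Additive := ⟨fun {_ _ _ _} => rfl⟩

instance additive_cechFun : (cechFun U).Additive := by
  unfold cechFun
  infer_instance

/-- the Čech complex functor `M ↦ Č(U, F ⊗_A M)` -/
noncomputable abbrev cechC : ModuleCat.{u} A ⥤ CochainComplex AddCommGrpCat.{u} ℕ :=
  CohIII.tensorAFunctor A F ⋙ cechFun U

instance additive_cechC : (cechC A F U).Additive := inferInstance

/-- the projection of the `n`-th term functor to the factor `x`. -/
noncomputable def prNat (n : ℕ) (x : Fin (n + 1) → ι) : Tq (cechC A F U) n ⟶ TW A F (Ux U x) where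
  app M := pr U ((toPsh X).obj ((CohIII.tensorAFunctor A F).obj M)) n x
  naturality M N f := map_pr U ((toPsh X).map ((CohIII.tensorAFunctor A F).map f)) n x

/-- the terms are pointwise products of the `TW A F (Ux U x)`. -/
noncomputable def isLimitPrNat (n : ℕ) (M : ModuleCat.{u} A) :
    IsLimit (Fan.mk ((Tq (cechC A F U) n).obj M) (fun x => (prNat A F U n x).app M)) :=
  isLimitPr U ((toPsh X).obj ((CohIII.tensorAFunctor A F).obj M)) n

variable {U}

theorem isAffineOpen_Ux (hU : ∀ s : Finset ι, s.Nonempty → IsAffineOpen (⨅ i ∈ s, U i)) {n : ℕ}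
    (x : Fin (n + 1) → ι) : IsAffineOpen (Ux U x) := by
  classical
  have h1 := hU (Finset.image x Finset.univ) (Finset.image_nonempty.2 Finset.univ_nonempty)
  have e : (⨅ i ∈ Finset.image x Finset.univ, U i) = iInf fun k => U (x k) := by
    apply le_antisymm
    · refine le_iInf fun k => ?_
      exact iInf₂_le (x k) (Finset.mem_image.2 ⟨k, Finset.mem_univ k, rfl⟩)
    · refine le_iInf₂ fun i hi => ?_
      obtain ⟨k, -, rfl⟩ := Finset.mem_image.1 hi
      exact iInf_le _ k
  rw [e] at h1
  have e2 : Ux U x = iInf fun k => U (x k) := Groth.Agent.S0493.prod_eq_iInf U x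
  rw [e2]
  exact h1

variable [Finite ι]

/-- the term functors of the Čech complex functor preserve all small colimits (`F` quasi-coherent,
finite cover with affine finite intersections). -/
theorem preservesColimitsOfSize_Tq (hU : ∀ s : Finset ι, s.Nonempty → IsAffineOpen (⨅ i ∈ s, U i))
    [F.IsQuasicoherent] (n : ℕ) : PreservesColimitsOfSize.{u, u} (Tq (cechC A F U) n) := by
  classical
  haveI := Fintype.ofFinite ι
  constructor
  intro S _
  haveI : ∀ x : Fin (n + 1) → ι, PreservesColimitsOfShape S (TW A F (Ux U x)) := fun x => by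
    haveI := preservesColimitsOfSize_TW A F (isAffineOpen_Ux hU x)
    infer_instance
  exact preservesColimitsOfShape_of_fan (Tq (cechC A F U) n) (fun x => TW A F (Ux U x))
    (prNat A F U n) (isLimitPrNat A F U n) S

theorem preservesFiniteColimits_Tq (hU : ∀ s : Finset ι, s.Nonempty → IsAffineOpen (⨅ i ∈ s, U i))
    (hF : Coh.IsQCoh F) (n : ℕ) : PreservesFiniteColimits (Tq (cechC A F U) n) := by
  haveI : F.IsQuasicoherent := hF
  haveI := preservesColimitsOfSize_Tq A F hU n
  exact PreservesColimitsOfSize.preservesFiniteColimits.{u, u} _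

theorem preservesCoproducts_Tq (hU : ∀ s : Finset ι, s.Nonempty → IsAffineOpen (⨅ i ∈ s, U i))
    (hF : Coh.IsQCoh F) (n : ℕ) (J : Type u) :
    PreservesColimitsOfShape (Discrete J) (Tq (cechC A F U) n) := by
  haveI : F.IsQuasicoherent := hF
  haveI := preservesColimitsOfSize_Tq A F hU n
  infer_instance

theorem preservesMonomorphisms_Tq (hU : ∀ s : Finset ι, s.Nonempty → IsAffineOpen (⨅ i ∈ s, U i))
    (hF : Coh.IsQCoh F) (hflat : FlatMod.IsFlatOver (X ↘ Spec (CommRingCat.of A)) F) (n : ℕ) :
    (Tq (cechC A F U) n).PreservesMonomorphisms := by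
  classical
  haveI := Fintype.ofFinite ι
  haveI : ∀ x : Fin (n + 1) → ι, (TW A F (Ux U x)).PreservesMonomorphisms := fun x =>
    g3 A F (isAffineOpen_Ux hU x) hF hflat
  exact preservesMonomorphisms_of_fan (Tq (cechC A F U) n) (fun x => TW A F (Ux U x))
    (prNat A F U n) (isLimitPrNat A F U n)

end geom

end Groth.Agent.R2.H16.CbcTerms
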