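import Mathlib
import Groth.Agent.R2.H11CbcSpec
import Groth.Agent.Lib.Helper21ModTensor3
import Groth.Agent.Lib.Helper23TensorQCoh
import Groth.Agent.Lib.Helper20PullbackAff

/-!
# PROJ:cbc package G0 (helper8): `tensorAFunctor A F` is additive, preserves colimits, has qcoh values
-/

set_option autoImplicit false
set_option linter.style.haveILetI false
universe u

open CategoryTheory CategoryTheory.Limits AlgebraicGeometry Opposite TopologicalSpace

namespace Groth.Agent.R2.H8.CbcG0

open Groth.Agent.R2.H11

variable (A : Type u) [CommRing A] {X : Scheme.{u}} [X.Over (Spec (CommRingCat.of A))]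

instance preservesColimits_tensorRightMod (F : X.Modules) :
    PreservesColimitsOfSize.{u, u} (DCoh.tensorRightMod F) :=
  Groth.Agent.Lib.Helper21.ModTensor3.tR_preservesColimits X.sheaf F

instance additive_pullback {Y Z : Scheme.{u}} (f : Y ⟶ Z) : (Scheme.Modules.pullback f).Additive :=
  (Scheme.Modules.pullbackPushforwardAdjunction f).left_adjoint_additive

instance additive_tensorAFunctor (F : X.Modules) : (CohIII.tensorAFunctor A F).Additive := by
  unfold CohIII.tensorAFunctor
  infer_instance

instance preservesColimits_pullback {Y Z : Scheme.{u}} (f : Y ⟶ Z) :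
    PreservesColimitsOfSize.{u, u} (Scheme.Modules.pullback f) :=
  (Scheme.Modules.pullbackPushforwardAdjunction f).leftAdjoint_preservesColimits

instance preservesColimits_tilde (R : CommRingCat.{u}) :
    PreservesColimitsOfSize.{u, u} (tilde.functor R) :=
  (tilde.adjunction (R := R)).leftAdjoint_preservesColimits

instance preservesColimits_tensorAFunctor (F : X.Modules) :
    PreservesColimitsOfSize.{u, u} (CohIII.tensorAFunctor A F) := by
  unfold CohIII.tensorAFunctor
  haveI h1 : PreservesColimitsOfSize.{u, u} (tilde.functor (CommRingCat.of A)) :=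
    preservesColimits_tilde (CommRingCat.of A)
  haveI h2 : PreservesColimitsOfSize.{u, u}
      (Scheme.Modules.pullback (X ↘ Spec (CommRingCat.of A))) := preservesColimits_pullback _
  haveI h3 : PreservesColimitsOfSize.{u, u} (DCoh.tensorRightMod F) :=
    preservesColimits_tensorRightMod F
  haveI h23 : PreservesColimitsOfSize.{u, u}
      (Scheme.Modules.pullback (X ↘ Spec (CommRingCat.of A)) ⋙ DCoh.tensorRightMod F) :=
    comp_preservesColimits _ _
  exact comp_preservesColimits _ _

theorem isQCoh_tensorAFunctor_obj (F : X.Modules) (hF : Coh.IsQCoh F) (M : ModuleCat.{u} A) :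
    Coh.IsQCoh ((CohIII.tensorAFunctor A F).obj M) := by
  haveI : F.IsQuasicoherent := hF
  haveI : ((tilde.functor (CommRingCat.of A)).obj M).IsQuasicoherent :=
    inferInstanceAs <| (tilde (R := CommRingCat.of A) M).IsQuasicoherent
  haveI : ((Scheme.Modules.pullback (X ↘ Spec (CommRingCat.of A))).obj
      ((tilde.functor (CommRingCat.of A)).obj M)).IsQuasicoherent :=
    Groth.Agent.Lib.Helper20.PullbackAff.isQuasicoherent_pullback _ _
  exact Groth.Agent.Lib.Helper23.TensorQCoh.isQuasicoherent_tensorMod
    ((Scheme.Modules.pullback (X ↘ Spec (CommRingCat.of A))).obj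
      ((tilde.functor (CommRingCat.of A)).obj M)) F

theorem g0 (F : X.Modules) : CbcSpec.G0 A F :=
  ⟨inferInstance, inferInstance, fun hF M => isQCoh_tensorAFunctor_obj A F hF M⟩

end Groth.Agent.R2.H8.CbcG0
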