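import Mathlib
import Groth.Agent.R2.H16CbcTerms
import Groth.Agent.R2.H11CbcReindex
import Groth.Agent.R2.H8CbcG0

/-!
# PROJ:cbc — geometric assembly of the bridge, conditional on vanishing + finiteness (helper16)

Namespace `Groth.Agent.R2.H16.CbcGeom`.

`geom_bridge`: `A` Noetherian, `X` over `Spec A` with a finite cover `U` whose finite intersections are
affine, `F` quasi-coherent and flat over `A`.  Assume `H^n(X, F ⊗_A M) = 0` for `n > d` and all `M`, and that
`H^n(X, F ⊗_A A)` is a finite `A`-module for the functorial module structure (`Lin`).  Then there is a complex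
`L` of finite free `A`-modules, zero below `-d`, with `H^n(X, F ⊗_A M) ≅ H_{-n}(L ⊗_A M)` naturally in `M`.
(= helper11's `CbcReindex.bridge_nat` applied to `cechC A F U`, via `G5`, `G0` and `CbcTerms`.)
-/

set_option autoImplicit false
set_option linter.style.haveILetI false
universe u
open CategoryTheory AlgebraicGeometry Limits Opposite TopologicalSpace

namespace Groth.Agent.R2.H16.CbcGeom

open Groth.Agent.R2.H11.CbcSpec Groth.Agent.R2.H11.CbcCx Groth.Agent.R2.H11.CbcLin
  Groth.Agent.R2.H11.CbcReindex Groth.Agent.R2.H16.CbcTerms Groth.Agent.R2.H16.CbcG2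

variable (A : Type u) [CommRing A] {X : Scheme.{u}} [X.Over (Spec (CommRingCat.of A))] (F : X.Modules)

/-- `T^n(M) = H^n(X, F ⊗_A M)` as a functor to abelian groups -/
noncomputable abbrev Tn (n : ℕ) : ModuleCat.{u} A ⥤ AddCommGrpCat.{u} :=
  CohIII.tensorAFunctor A F ⋙ CohIII.HAb X n

instance additive_HAb (n : ℕ) : (CohIII.HAb X n).Additive where
  map_add {M N f g} := by
    ext x
    exact Sheaf.H.map_add_apply ((SheafOfModules.toSheaf X.ringCatSheaf).map f)
      ((SheafOfModules.toSheaf X.ringCatSheaf).map g) x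

instance additive_Tn (n : ℕ) : (Tn A F n).Additive := inferInstance

section linIso
variable {A}
variable {T T' : ModuleCat.{u} A ⥤ AddCommGrpCat.{u}} [T.Additive] [T'.Additive] (α : T ≅ T')

/-- a natural isomorphism induces linear equivalences of the linearisations -/
noncomputable def linEquivOfNatIso (M : ModuleCat.{u} A) : (Lin T).obj M ≃ₗ[A] (Lin T').obj M where
  toFun x := ((linNat α.hom).app M).hom x
  invFun y := ((linNat α.inv).app M).hom y
  map_add' x y := map_add _ x y
  map_smul' a x := map_smul ((linNat α.hom).app M).hom a x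
  left_inv x := ConcreteCategory.congr_hom (α.hom_inv_id_app M) x
  right_inv y := ConcreteCategory.congr_hom (α.inv_hom_id_app M) y

end linIso

variable {ι : Type u} {U : ι → X.Opens}

/-- the Čech complex functor computes `T^n` (from `G5` + `G0`). -/
theorem nonempty_cechC_iso (hcov : ⨆ i, U i = ⊤)
    (hU : ∀ s : Finset ι, s.Nonempty → IsAffineOpen (⨅ i ∈ s, U i)) (hF : Coh.IsQCoh F) (n : ℕ) :
    Nonempty (cechC A F U ⋙ HomologicalComplex.homologyFunctor AddCommGrpCat.{u} _ n ≅ Tn A F n) := by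
  haveI : F.IsQuasicoherent := hF
  exact Groth.Agent.R2.H16.CbcG5.g5 U hcov hU n (ModuleCat.{u} A) (CohIII.tensorAFunctor A F)
    (fun M => isQuasicoherent_tensorAFunctor_obj A F M)

/-- **Geometric bridge**, conditional on vanishing above `d` and finiteness of `H^n(X, F ⊗_A A)`. -/
theorem geom_bridge [Finite ι] [IsNoetherianRing A] (hcov : ⨆ i, U i = ⊤)
    (hU : ∀ s : Finset ι, s.Nonempty → IsAffineOpen (⨅ i ∈ s, U i)) (hF : Coh.IsQCoh F)
    (hflat : FlatMod.IsFlatOver (X ↘ Spec (CommRingCat.of A)) F) (d : ℕ)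
    (hvan : ∀ (M : ModuleCat.{u} A) (n : ℕ), d < n → IsZero ((Tn A F n).obj M))
    (hfin : ∀ n : ℕ, Module.Finite A ((Lin (Tn A F n)).obj (ModuleCat.of A A))) :
    ∃ L : ChainComplex (ModuleCat.{u} A) ℤ,
      (∀ i, Module.Finite A (L.X i) ∧ Module.Free A (L.X i)) ∧
      (∀ i : ℤ, i < -(d : ℤ) → IsZero (L.X i)) ∧
      ∀ n : ℕ, Nonempty (Tn A F n ≅
        CohIII.TFun L (-(n : ℤ)) ⋙ forget₂ (ModuleCat.{u} A) AddCommGrpCat.{u}) := by
  haveI : ∀ n, PreservesFiniteColimits (Tq (cechC A F U) n) :=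
    fun n => preservesFiniteColimits_Tq A F hU hF n
  haveI : ∀ (n : ℕ) (J : Type u), PreservesColimitsOfShape (Discrete J) (Tq (cechC A F U) n) :=
    fun n J => preservesCoproducts_Tq A F hU hF n J
  haveI : ∀ n, (Tq (cechC A F U) n).PreservesMonomorphisms :=
    fun n => preservesMonomorphisms_Tq A F hU hF hflat n
  have hiso := nonempty_cechC_iso A F hcov hU hF
  have hvan' : ∀ (M : ModuleCat.{u} A) (n : ℕ), d < n →
      IsZero (((cechC A F U).obj M).homology n) := by
    intro M n hn
    obtain ⟨γ⟩ := hiso n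
    exact (hvan M n hn).of_iso (γ.app M)
  have hfin' : ∀ n : ℕ, Module.Finite A
      ((Lin (cechC A F U ⋙ HomologicalComplex.homologyFunctor AddCommGrpCat.{u} _ n)).obj
        (ModuleCat.of A A)) := by
    intro n
    obtain ⟨γ⟩ := hiso n
    haveI := hfin n
    exact Module.Finite.equiv (linEquivOfNatIso γ (ModuleCat.of A A)).symm
  obtain ⟨L, hL, hLz, hLiso⟩ := bridge_nat (cechC A F U) d hvan' hfin'
  refine ⟨L, hL, hLz, fun n => ?_⟩
  obtain ⟨γ⟩ := hiso n
  obtain ⟨δ⟩ := hLiso n
  exact ⟨γ.symm ≪≫ δ⟩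

end Groth.Agent.R2.H16.CbcGeom
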