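import Mathlib
import Groth.Agent.R2.H16CbcGeom
import Groth.Agent.S0010

/-!
# PROJ:cbc — the bridge for quasi-compact separated `X` over `Spec A`, conditional on finiteness (helper16)

Namespace `Groth.Agent.R2.H16.CbcProper`.

`exists_bridge_of_separated`: `A` Noetherian, `X` quasi-compact and separated over `Spec A` (e.g. proper), `F`
quasi-coherent and flat over `A`; if every `H^n(X, F ⊗_A A)` is a finite `A`-module (for the functorial module
structure `Lin`), then there is a bounded-below chain complex `L` of finite free `A`-modules with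
`H^n(X, F ⊗_A M) ≅ H_{-n}(L ⊗_A M)` naturally in `M`.
-/

set_option autoImplicit false
set_option linter.style.haveILetI false
universe u
open CategoryTheory AlgebraicGeometry Limits Opposite TopologicalSpace

namespace Groth.Agent.R2.H16.CbcProper

open Groth.Agent.R2.H11.CbcLin Groth.Agent.R2.H16.CbcGeom Groth.Agent.R2.H16.CbcG2

theorem exists_fin_affine_cover (X : Scheme.{u}) [CompactSpace X] :
    ∃ (n : ℕ) (W : Fin n → X.Opens), (∀ k, IsAffineOpen (W k)) ∧ ⨆ k, W k = ⊤ := by
  obtain ⟨s, hs, e⟩ := isCompact_iff_finite_and_eq_biUnion_affineOpens.mp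
    (show IsCompact ((⊤ : X.Opens) : Set X) from isCompact_univ)
  have := hs.to_subtype
  obtain ⟨n, ⟨eq⟩⟩ := Finite.exists_equiv_fin s
  refine ⟨n, fun k => ((eq.symm k).1 : X.Opens), fun k => (eq.symm k).1.2, ?_⟩
  rw [e]
  apply le_antisymm
  · refine iSup_le fun k => ?_
    exact le_iSup₂_of_le (eq.symm k).1 (eq.symm k).2 le_rfl
  · refine iSup₂_le fun i hi => ?_
    refine le_iSup_of_le (eq ⟨i, hi⟩) ?_
    simp

theorem isAffineOpen_inf_of_isSeparated {X Y : Scheme.{u}} (f : X ⟶ Y) [IsAffine Y] [IsSeparated f]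
    {V W : X.Opens} (hV : IsAffineOpen V) (hW : IsAffineOpen W) : IsAffineOpen (V ⊓ W) := by
  have h : IsAffineHom (pullback.diagonal f) := inferInstance
  exact isAffineHom_diagonal_iff.mp h ⊤ (isAffineOpen_top Y) V le_top W le_top hV hW

theorem isAffineOpen_biInf {X : Scheme.{u}}
    (hd : ∀ V W : X.Opens, IsAffineOpen V → IsAffineOpen W → IsAffineOpen (V ⊓ W))
    {ι : Type*} (U : ι → X.Opens) (hU : ∀ i, IsAffineOpen (U i)) (s : Finset ι) (hs : s.Nonempty) :
    IsAffineOpen (⨅ i ∈ s, U i) := by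
  classical
  induction hs using Finset.Nonempty.cons_induction with
  | singleton a => simpa using hU a
  | cons a s ha hs ih =>
    rw [Finset.cons_eq_insert, Finset.iInf_insert]
    exact hd _ _ (hU a) ih

variable (A : Type u) [CommRing A] {X : Scheme.{u}} [X.Over (Spec (CommRingCat.of A))] (F : X.Modules)

/-- **The bridge for quasi-compact separated `X`**, conditional on finiteness of `H^n(X, F ⊗_A A)`. -/
theorem exists_bridge_of_separated [IsNoetherianRing A] [CompactSpace X]
    [IsSeparated (X ↘ Spec (CommRingCat.of A))] (hF : Coh.IsQCoh F)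
    (hflat : FlatMod.IsFlatOver (X ↘ Spec (CommRingCat.of A)) F)
    (hfin : ∀ n : ℕ, Module.Finite A ((Lin (Tn A F n)).obj (ModuleCat.of A A))) :
    ∃ L : ChainComplex (ModuleCat.{u} A) ℤ,
      (∀ i, Module.Finite A (L.X i) ∧ Module.Free A (L.X i)) ∧
      (∃ d : ℕ, ∀ i : ℤ, i < -(d : ℤ) → IsZero (L.X i)) ∧
      ∀ n : ℕ, Nonempty (Tn A F n ≅
        CohIII.TFun L (-(n : ℤ)) ⋙ forget₂ (ModuleCat.{u} A) AddCommGrpCat.{u}) := by
  haveI : F.IsQuasicoherent := hF
  have hd : ∀ V W : X.Opens, IsAffineOpen V → IsAffineOpen W → IsAffineOpen (V ⊓ W) :=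
    fun V W hV hW => isAffineOpen_inf_of_isSeparated (X ↘ Spec (CommRingCat.of A)) hV hW
  obtain ⟨t, W, hW, hcov⟩ := exists_fin_affine_cover X
  let U : ULift.{u} (Fin t) → X.Opens := fun i => W i.down
  have hcovU : ⨆ i, U i = ⊤ := by
    rw [← hcov]
    apply le_antisymm
    · exact iSup_le fun i => le_iSup W i.down
    · exact iSup_le fun k => le_iSup U ⟨k⟩
  have hUaff : ∀ s : Finset (ULift.{u} (Fin t)), s.Nonempty → IsAffineOpen (⨅ i ∈ s, U i) :=
    fun s hs => isAffineOpen_biInf hd U (fun i => hW i.down) s hs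
  have hvan : ∀ (M : ModuleCat.{u} A) (n : ℕ), t < n → IsZero ((Tn A F n).obj M) := by
    intro M n hn
    haveI : Coh.IsQCoh ((CohIII.tensorAFunctor A F).obj M) :=
      isQuasicoherent_tensorAFunctor_obj A F M
    have hsub : Subsingleton (Coh.HH X ((CohIII.tensorAFunctor A F).obj M) n) :=
      Groth.Agent.S0010.result X t W hW hcov hd ((CohIII.tensorAFunctor A F).obj M) n hn.le
    haveI : Subsingleton ↑((Tn A F n).obj M) := hsub
    exact AddCommGrpCat.isZero_of_subsingleton _
  obtain ⟨L, hL, hLz, hLiso⟩ := geom_bridge A F hcovU hUaff hF hflat t hvan hfin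
  exact ⟨L, hL, ⟨t, hLz⟩, hLiso⟩

end Groth.Agent.R2.H16.CbcProper
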