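import Mathlib
import Groth.Agent.R2.H11CbcSpec

/-!
# PROJ:cbc packages G8 and G8b (helper8): `H^0 = Γ` as functors, and `A`-linearity of `Γ`
-/

set_option autoImplicit false
set_option linter.style.haveILetI false
universe u

open CategoryTheory CategoryTheory.Limits AlgebraicGeometry Opposite TopologicalSpace

namespace Groth.Agent.R2.H8.CbcG8

open Groth.Agent.R2.H11

variable (A : Type u) [CommRing A] {X : Scheme.{u}} [X.Over (Spec (CommRingCat.of A))]

/-- the component of the comparison `Γ(X, M) ≃+ H^0(X, M)`. -/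
noncomputable def equivH0 (M : X.Modules) :
    ((CohIII.globalSectionsA A (X := X) ⋙ forget₂ (ModuleCat.{u} A) AddCommGrpCat.{u}).obj M) ≃+
      ((CohIII.HAb X 0).obj M) :=
  (Sheaf.H.equiv₀ ((SheafOfModules.toSheaf X.ringCatSheaf).obj M) Limits.isTerminalTop).symm

theorem equivH0_naturality {M N : X.Modules} (φ : M ⟶ N)
    (x : ((CohIII.globalSectionsA A (X := X) ⋙ forget₂ (ModuleCat.{u} A) AddCommGrpCat.{u}).obj M)) :
    equivH0 A N (((CohIII.globalSectionsA A (X := X) ⋙
        forget₂ (ModuleCat.{u} A) AddCommGrpCat.{u}).map φ) x) =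
      ((CohIII.HAb X 0).map φ) (equivH0 A M x) := by
  change (Sheaf.H.equiv₀ ((SheafOfModules.toSheaf X.ringCatSheaf).obj N) Limits.isTerminalTop).symm
      (((SheafOfModules.toSheaf X.ringCatSheaf).map φ).hom.app (op ⊤) x) =
    Sheaf.H.map ((SheafOfModules.toSheaf X.ringCatSheaf).map φ) 0
      ((Sheaf.H.equiv₀ ((SheafOfModules.toSheaf X.ringCatSheaf).obj M) Limits.isTerminalTop).symm x)
  exact (Sheaf.H.equiv₀_symm_naturality (J := Opens.grothendieckTopology X) Limits.isTerminalTop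
    ((SheafOfModules.toSheaf X.ringCatSheaf).map φ) x).symm

/-- **G8**: `Γ(X, -)` (as `A`-modules, then forgetting) is `H^0(X, -)`. -/
noncomputable def globalSectionsAIsoHAb :
    CohIII.globalSectionsA A (X := X) ⋙ forget₂ (ModuleCat.{u} A) AddCommGrpCat.{u} ≅
      CohIII.HAb X 0 :=
  NatIso.ofComponents (fun M => (equivH0 A M).toAddCommGrpIso) (fun {M N} φ => by
    ext x
    exact equivH0_naturality A φ x)

theorem g8 : CbcSpec.G8 A (X := X) := ⟨globalSectionsAIsoHAb A⟩

omit [X.Over (Spec (CommRingCat.of A))] in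
theorem resTop_toGlobal (f : X ⟶ Spec (CommRingCat.of A)) (a : A) :
    Coh.resTop X (op (f ⁻¹ᵁ ⊤)) (Coh.toGlobal f a) =
      (f.app ⊤).hom (((Spec (CommRingCat.of A)).presheaf.map (Opens.leTop ⊤).op).hom
        ((Scheme.ΓSpecIso (CommRingCat.of A)).inv.hom a)) := by
  have e1 : ((Spec (CommRingCat.of A)).presheaf.map
      (Opens.leTop (⊤ : (Spec (CommRingCat.of A)).Opens)).op) = 𝟙 _ :=
    (Spec (CommRingCat.of A)).presheaf.map_id _
  have e2 : (X.ringCatSheaf.obj.map (homOfLE (le_top (a := (op (f ⁻¹ᵁ ⊤)).unop))).op) = 𝟙 _ :=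
    X.ringCatSheaf.obj.map_id _
  unfold Coh.resTop
  rw [e1, e2]
  rfl

/-- **G8b**: `Γ(X, -)` with values in `A`-modules is `A`-linear for the action `Formal.smulMod`. -/
theorem g8b : CbcSpec.G8b A (X := X) := by
  intro N a
  ext x
  change _ = a • x
  set f := (X ↘ Spec (CommRingCat.of A)) with hf
  refine Eq.trans ?_ (Scheme.Modules.smul_Spec_def (R := CommRingCat.of A)
    (M := (Scheme.Modules.pushforward f).obj N) (U := ⊤) a x).symm
  change (Coh.resTop X (op (f ⁻¹ᵁ ⊤)) (Coh.toGlobal f a)) •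
    (show N.val.obj (op (f ⁻¹ᵁ ⊤)) from x) = _
  rw [resTop_toGlobal]
  rfl

end Groth.Agent.R2.H8.CbcG8
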