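import Mathlib
import Groth.Agent.R2.H11CbcFinal
import Groth.Agent.R2.H8CbcG8
import Groth.Agent.S2376

/-!
# PROJ:cbc — `Γ`-valued consumers   (helper11)

* `isoOfForgetIso`: an isomorphism between the underlying `Ab`-valued functors of two `A`-linear
  functors `ModuleCat A ⥤ ModuleCat A` lifts to an isomorphism of functors;
* `TFun P p` is additive and `A`-linear;
* `exists_gamma_iso`: `tensorAFunctor A F ⋙ globalSectionsA A ≅ TFun L 0` for the bridge complex `L`;
* `s2436_of`: corepresentability of `M ↦ Γ(X, F ⊗_A M)` (frozen conclusion of S2436 + finiteness hyp.).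
-/

set_option autoImplicit false
universe u

open CategoryTheory CategoryTheory.Limits AlgebraicGeometry Opposite TopologicalSpace MonoidalCategory

namespace Groth.Agent.R2.H11.CbcGamma

open Groth.Agent.R2.H11.CbcSpec Groth.Agent.Lib.Helper3

section Lift

variable {A : Type u} [CommRing A]
  (S S' : ModuleCat.{u} A ⥤ ModuleCat.{u} A) [S.Additive] [S.Linear A] [S'.Additive] [S'.Linear A]
  (β : S ⋙ forget₂ (ModuleCat.{u} A) AddCommGrpCat.{u} ≅
    S' ⋙ forget₂ (ModuleCat.{u} A) AddCommGrpCat.{u})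

/-- componentwise linear equivalence -/
noncomputable def linEquivOfForgetIso (M : ModuleCat.{u} A) : S.obj M ≃ₗ[A] S'.obj M where
  toFun x := (β.hom.app M).hom x
  invFun y := (β.inv.app M).hom y
  map_add' x y := map_add _ x y
  map_smul' a x := by
    have h1 : S.map (a • 𝟙 M) = a • 𝟙 (S.obj M) := by
      rw [Functor.Linear.map_smul, S.map_id]
    have h1' : S'.map (a • 𝟙 M) = a • 𝟙 (S'.obj M) := by
      rw [Functor.Linear.map_smul, S'.map_id]
    have h2 : a • x = (S.map (a • 𝟙 M)).hom x := by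
      rw [h1]
      rfl
    have h3 : ∀ y : S'.obj M, a • y = (S'.map (a • 𝟙 M)).hom y := by
      intro y
      rw [h1']
      rfl
    have h4 : (β.hom.app M).hom ((S.map (a • 𝟙 M)).hom x) =
        (S'.map (a • 𝟙 M)).hom ((β.hom.app M).hom x) :=
      ConcreteCategory.congr_hom (β.hom.naturality (a • 𝟙 M)) x
    exact (congrArg (fun z => (β.hom.app M).hom z) h2).trans (h4.trans (h3 _).symm)
  left_inv x := ConcreteCategory.congr_hom (β.hom_inv_id_app M) x
  right_inv y := ConcreteCategory.congr_hom (β.inv_hom_id_app M) y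

/-- the lifted isomorphism of functors -/
noncomputable def isoOfForgetIso : S ≅ S' :=
  NatIso.ofComponents (fun M => (linEquivOfForgetIso S S' β M).toModuleIso) (by
    intro M N f
    ext x
    exact ConcreteCategory.congr_hom (β.hom.naturality f) x)

end Lift

section TFunLinear

variable {A : Type u} [CommRing A] {ι : Type} {c : ComplexShape ι}
  (P : HomologicalComplex (ModuleCat.{u} A) c) (p : ι)

theorem tensorMap_add {M N : ModuleCat.{u} A} (g h : M ⟶ N) :
    CohIII.tensorMap P (g + h) = CohIII.tensorMap P g + CohIII.tensorMap P h := by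
  apply HomologicalComplex.hom_ext
  intro i
  show P.X i ◁ (g + h) = P.X i ◁ g + P.X i ◁ h
  exact MonoidalPreadditive.whiskerLeft_add _ _

theorem tensorMap_smul {M N : ModuleCat.{u} A} (a : A) (g : M ⟶ N) :
    CohIII.tensorMap P (a • g) = a • CohIII.tensorMap P g := by
  apply HomologicalComplex.hom_ext
  intro i
  show P.X i ◁ (a • g) = a • (P.X i ◁ g)
  exact MonoidalLinear.whiskerLeft_smul _ _ _

instance additive_TFun : (CohIII.TFun P p).Additive where
  map_add {M N g h} := by
    show HomologicalComplex.homologyMap (CohIII.tensorMap P (g + h)) p = _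
    rw [tensorMap_add, HomologicalComplex.homologyMap_add]
    rfl

instance linear_TFun : (CohIII.TFun P p).Linear A where
  map_smul {M N} g a := by
    show HomologicalComplex.homologyMap (CohIII.tensorMap P (a • g)) p = _
    rw [tensorMap_smul, Groth.Agent.R2.H11.CbcReindex.homologyMap_smul']
    rfl

end TFunLinear

section Gamma

open Groth.Agent.R2.H16.CbcG2

variable (A : Type u) [CommRing A] {X : Scheme.{u}} [X.Over (Spec (CommRingCat.of A))]
  (F : X.Modules)

instance additive_globalSectionsA : (CohIII.globalSectionsA A (X := X)).Additive where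
  map_add {M N f g} := by
    ext x
    rfl

instance linear_gamma : (CohIII.tensorAFunctor A F ⋙ CohIII.globalSectionsA A).Linear A where
  map_smul {M N} f a := by
    have h : a • f = f ≫ (a • 𝟙 N) := by rw [Linear.comp_smul, Category.comp_id]
    have h1 := Groth.Agent.R2.H51.CbcG1.g1 A F N a
    have h8 := Groth.Agent.R2.H8.CbcG8.g8b A (X := X) ((CohIII.tensorAFunctor A F).obj N) a
    show (CohIII.globalSectionsA A).map ((CohIII.tensorAFunctor A F).map (a • f)) =
      a • (CohIII.globalSectionsA A).map ((CohIII.tensorAFunctor A F).map f)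
    rw [h, Functor.map_comp, Functor.map_comp, h1, h8, Linear.comp_smul, Category.comp_id]

/-- the bridge for global sections, as functors to `A`-modules -/
theorem exists_gamma_iso [IsNoetherianRing A] [IsProper (X ↘ Spec (CommRingCat.of A))]
    (hF : Coh.IsQCoh F) (hfl : FlatMod.IsFlatOver (X ↘ Spec (CommRingCat.of A)) F)
    (hfinH : ∀ n, Module.Finite A (Coh.HH X F n)) :
    ∃ (L : ChainComplex (ModuleCat.{u} A) ℤ),
      (∀ i, Module.Finite A (L.X i) ∧ Module.Free A (L.X i)) ∧
      (∀ (i : ℤ) (M : ModuleCat.{u} A), 0 < i → IsZero (CohIII.T L i M)) ∧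
      Nonempty (CohIII.tensorAFunctor A F ⋙ CohIII.globalSectionsA A ≅ CohIII.TFun L 0) := by
  obtain ⟨L, d, hL, -, hLp, hiso⟩ := Groth.Agent.R2.H11.CbcFinal.exists_bridge' A F hF hfl hfinH
  refine ⟨L, hL, hLp, ?_⟩
  obtain ⟨e⟩ := hiso 0
  have e' : CohIII.tensorAFunctor A F ⋙ CohIII.HAb X 0 ≅
      CohIII.TFun L 0 ⋙ forget₂ (ModuleCat.{u} A) AddCommGrpCat.{u} := by
    simpa using e
  exact ⟨isoOfForgetIso _ _ (Functor.associator _ _ _ ≪≫
    Functor.isoWhiskerLeft (CohIII.tensorAFunctor A F)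
      (Groth.Agent.R2.H8.CbcG8.globalSectionsAIsoHAb A) ≪≫ e')⟩

/-- `T_0` of the bridge complex preserves monomorphisms -/
theorem preservesMonomorphisms_T0 {A : Type u} [CommRing A]
    (L : ChainComplex (ModuleCat.{u} A) ℤ) (hL : ∀ i, Module.Flat A (L.X i))
    (hLp : ∀ (M : ModuleCat.{u} A), IsZero (CohIII.T L 1 M)) :
    (CohIII.TFun L 0).PreservesMonomorphisms where
  preserves {M N} f hf := by
    let S : ShortComplex (ModuleCat.{u} A) := ShortComplex.mk f (cokernel.π f) (cokernel.condition f)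
    have hS : S.ShortExact :=
      { exact := ShortComplex.exact_cokernel f
        mono_f := hf
        epi_g := inferInstance }
    have hepi : Epi ((CohIII.TFun L 1).map S.g) :=
      ⟨fun _ _ _ => (hLp S.X₃).eq_of_src _ _⟩
    exact mono_T_map_of_epi L hL S hS 1 0 (by simp) hepi

/-- **S2436 modulo finiteness of cohomology.** -/
theorem s2436_of [IsNoetherianRing A] [IsProper (X ↘ Spec (CommRingCat.of A))]
    (hF : Coh.IsCoh F) (hfl : FlatMod.IsFlatOver (X ↘ Spec (CommRingCat.of A)) F)
    (hfinH : ∀ n, Module.Finite A (Coh.HH X F n)) :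
    ∃ Q : ModuleCat.{u} A, Module.Finite A Q ∧
      Nonempty (CohIII.tensorAFunctor A F ⋙ CohIII.globalSectionsA A ≅
        (linearCoyoneda A (ModuleCat.{u} A)).obj (op Q)) := by
  obtain ⟨L, hL, hLp, ⟨e⟩⟩ := exists_gamma_iso A F hF.1 hfl hfinH
  have hLflat : ∀ i, Module.Flat A (L.X i) := fun i => by
    have := (hL i).2
    infer_instance
  have hmono := preservesMonomorphisms_T0 L hLflat (fun M => hLp 1 M one_pos)
  have h76 := Groth.Agent.S2376.result L (fun i => ⟨(hL i).1, hLflat i⟩) 0
  obtain ⟨Q, ⟨eQ⟩⟩ := h76.1.mp hmono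
  exact ⟨Q, h76.2 Q ⟨eQ⟩, ⟨e ≪≫ eQ⟩⟩

end Gamma

section Kernel

variable {A : Type u} [CommRing A]

/-- the kernel of a natural transformation between corepresentable functors is corepresentable
(by the cokernel of the corresponding map of corepresenting modules) -/
theorem kernel_corepresentable (G G' : ModuleCat.{u} A ⥤ ModuleCat.{u} A)
    (Q Q' : ModuleCat.{u} A) (hQ : Module.Finite A Q)
    (e : G ≅ (linearCoyoneda A (ModuleCat.{u} A)).obj (op Q))
    (e' : G' ≅ (linearCoyoneda A (ModuleCat.{u} A)).obj (op Q')) (η : G ⟶ G') :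
    ∃ (R : ModuleCat.{u} A) (ι : (linearCoyoneda A (ModuleCat.{u} A)).obj (op R) ⟶ G),
      Module.Finite A R ∧ (∀ M : ModuleCat.{u} A, Function.Injective (ι.app M).hom) ∧
        ∀ (M : ModuleCat.{u} A) (x : G.obj M),
          (η.app M).hom x = 0 ↔ ∃ y, (ι.app M).hom y = x := by
  let η' : (linearCoyoneda A (ModuleCat.{u} A)).obj (op Q) ⟶
      (linearCoyoneda A (ModuleCat.{u} A)).obj (op Q') := e.inv ≫ η ≫ e'.hom
  let φ : Q' ⟶ Q := (η'.app Q).hom (𝟙 Q)
  have hη' : ∀ (M : ModuleCat.{u} A) (g : Q ⟶ M), (η'.app M).hom g = φ ≫ g := by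
    intro M g
    have h := ConcreteCategory.congr_hom (η'.naturality g) (𝟙 Q)
    have h1 : (((linearCoyoneda A (ModuleCat.{u} A)).obj (op Q)).map g).hom (𝟙 Q) = g :=
      Category.id_comp g
    have h2 : (η'.app M).hom ((((linearCoyoneda A (ModuleCat.{u} A)).obj (op Q)).map g).hom (𝟙 Q)) =
        (((linearCoyoneda A (ModuleCat.{u} A)).obj (op Q')).map g).hom ((η'.app Q).hom (𝟙 Q)) := h
    rw [h1] at h2
    exact h2
  let R : ModuleCat.{u} A := cokernel φ
  let π : Q ⟶ R := cokernel.π φ
  have hπ : Function.Surjective π.hom := (ModuleCat.epi_iff_surjective π).mp inferInstance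
  let ι₀ : (linearCoyoneda A (ModuleCat.{u} A)).obj (op R) ⟶
      (linearCoyoneda A (ModuleCat.{u} A)).obj (op Q) :=
    (linearCoyoneda A (ModuleCat.{u} A)).map π.op
  have hι₀ : ∀ (M : ModuleCat.{u} A) (y : R ⟶ M), (ι₀.app M).hom y = π ≫ y := fun M y => rfl
  have hee : ∀ (M : ModuleCat.{u} A) (x : G.obj M), (e.inv.app M).hom ((e.hom.app M).hom x) = x :=
    fun M x => ConcreteCategory.congr_hom (e.hom_inv_id_app M) x
  have hee' : ∀ (M : ModuleCat.{u} A) (g : Q ⟶ M), (e.hom.app M).hom ((e.inv.app M).hom g) = g :=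
    fun M g => ConcreteCategory.congr_hom (e.inv_hom_id_app M) g
  refine ⟨R, ι₀ ≫ e.inv, Module.Finite.of_surjective π.hom hπ, ?_, ?_⟩
  · intro M y₁ y₂ h
    have h' : (e.inv.app M).hom ((ι₀.app M).hom y₁) = (e.inv.app M).hom ((ι₀.app M).hom y₂) := h
    have h2 : (ι₀.app M).hom y₁ = (ι₀.app M).hom y₂ :=
      (hee' M _).symm.trans ((congrArg (fun z => (e.hom.app M).hom z) h').trans (hee' M _))
    have h2' : π ≫ y₁ = π ≫ y₂ := h2
    exact (cancel_epi π).mp h2'
  · intro M x
    have key : (η.app M).hom x = 0 ↔ φ ≫ (e.hom.app M).hom x = 0 := by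
      have h3 : (η'.app M).hom ((e.hom.app M).hom x) = (e'.hom.app M).hom ((η.app M).hom x) := by
        show (e'.hom.app M).hom ((η.app M).hom ((e.inv.app M).hom ((e.hom.app M).hom x))) = _
        rw [hee]
      have h4 : φ ≫ (e.hom.app M).hom x = (e'.hom.app M).hom ((η.app M).hom x) :=
        (hη' M _).symm.trans h3
      constructor
      · intro h
        exact h4.trans ((congrArg (fun z => (e'.hom.app M).hom z) h).trans (map_zero _))
      · intro h
        have h5 : (e'.hom.app M).hom ((η.app M).hom x) = 0 := h4.symm.trans h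
        have h6 : (e'.inv.app M).hom ((e'.hom.app M).hom ((η.app M).hom x)) = (η.app M).hom x :=
          ConcreteCategory.congr_hom (e'.hom_inv_id_app M) _
        exact h6.symm.trans ((congrArg (fun z => (e'.inv.app M).hom z) h5).trans (map_zero _))
    rw [key]
    constructor
    · intro h
      refine ⟨cokernel.desc φ ((e.hom.app M).hom x) h, ?_⟩
      have h7 : (ι₀.app M).hom (cokernel.desc φ ((e.hom.app M).hom x) h) = (e.hom.app M).hom x :=
        cokernel.π_desc φ _ h
      exact (congrArg (fun z => (e.inv.app M).hom z) h7).trans (hee M x)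
    · rintro ⟨y, rfl⟩
      have h8 : (e.hom.app M).hom (((ι₀ ≫ e.inv).app M).hom y) = π ≫ y := hee' M _
      have h9 : ∀ y' : R ⟶ M, φ ≫ π ≫ y' = 0 := fun y' => by
        rw [← Category.assoc, cokernel.condition, zero_comp]
      exact (congrArg (fun z => φ ≫ z) h8).trans (h9 y)

end Kernel

section S4498

open Groth.Agent.R2.H16.CbcG2

variable (A : Type u) [CommRing A] {X : Scheme.{u}} [X.Over (Spec (CommRingCat.of A))]

/-- **S4498 modulo finiteness of cohomology.** -/
theorem s4498_of [IsNoetherianRing A] [IsProper (X ↘ Spec (CommRingCat.of A))]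
    (F F' : X.Modules) (hF : Coh.IsCoh F) (hF' : Coh.IsCoh F')
    (hfl : FlatMod.IsFlatOver (X ↘ Spec (CommRingCat.of A)) F)
    (hfl' : FlatMod.IsFlatOver (X ↘ Spec (CommRingCat.of A)) F')
    (hfinH : ∀ n, Module.Finite A (Coh.HH X F n))
    (hfinH' : ∀ n, Module.Finite A (Coh.HH X F' n))
    (η : CohIII.tensorAFunctor A F ⋙ CohIII.globalSectionsA A ⟶
      CohIII.tensorAFunctor A F' ⋙ CohIII.globalSectionsA A) :
    ∃ (R : ModuleCat.{u} A) (ι : (linearCoyoneda A (ModuleCat.{u} A)).obj (op R) ⟶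
        CohIII.tensorAFunctor A F ⋙ CohIII.globalSectionsA A),
      Module.Finite A R ∧ (∀ M : ModuleCat.{u} A, Function.Injective (ι.app M).hom) ∧
        ∀ (M : ModuleCat.{u} A) (x : (CohIII.tensorAFunctor A F ⋙ CohIII.globalSectionsA A).obj M),
          (η.app M).hom x = 0 ↔ ∃ y, (ι.app M).hom y = x := by
  obtain ⟨Q, hQ, ⟨e⟩⟩ := s2436_of A F hF hfl hfinH
  obtain ⟨Q', -, ⟨e'⟩⟩ := s2436_of A F' hF' hfl' hfinH'
  exact kernel_corepresentable _ _ Q Q' hQ e e' η

end S4498

end Groth.Agent.R2.H11.CbcGamma
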