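import Mathlib
import Groth.Agent.R2.H11CbcGamma
import Groth.Agent.R2.H51CbcG1

/-!
# PROJ:cbc-global: the bridge at `M = A`, linearly (helper11)

`nonempty_HH_linearEquiv_homology`: from a bridge isomorphism
`tensorAFunctor A F ⋙ HAb X n ≅ TFun L (-n) ⋙ forget₂`, an `A`-linear isomorphism
`H^n(X, F) ≃ₗ[A] H_{-n}(L)`.
-/

set_option autoImplicit false
set_option linter.style.haveILetI false
universe u

open CategoryTheory CategoryTheory.Limits AlgebraicGeometry Opposite TopologicalSpace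

namespace Groth.Agent.R2.H11.CbcLinBridge

open Groth.Agent.R2.H11.CbcSpec Groth.Agent.R2.H11.CbcLin Groth.Agent.R2.H11.CbcGeom
  Groth.Agent.R2.H16.CbcG3 Groth.Agent.R2.H16.CbcG2 Groth.Agent.R2.H62.CohLES
  Groth.Agent.R2.H11.CbcGamma Groth.Agent.Lib.Helper3

variable (A : Type u) [CommRing A] {X : Scheme.{u}} [X.Over (Spec (CommRingCat.of A))]
  (F : X.Modules)

/-- `H^n(X, F) ≃ₗ[A] H^n(X, F ⊗_A A)` for the functorial module structure on the right. -/
theorem nonempty_HH_linearEquiv_lin (n : ℕ) :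
    Nonempty (Coh.HH X F n ≃ₗ[A]
      ((Lin (CohIII.tensorAFunctor A F ⋙ CohIII.HAb X n)).obj (ModuleCat.of A A))) := by
  have h1 : G1 A F := Groth.Agent.R2.H51.CbcG1.g1 A F
  obtain ⟨φ⟩ := Groth.Agent.R2.H8.CbcG9.g9 A F
  have key : ∀ z : Coh.HH X ((CohIII.tensorAFunctor A F).obj (ModuleCat.of A A)) n,
      HHmap φ.inv n (HHmap φ.hom n z) = z := by
    intro z
    rw [← HHmap_comp, φ.hom_inv_id]
    exact HHmap_id n z
  have key' : ∀ z : Coh.HH X F n, HHmap φ.hom n (HHmap φ.inv n z) = z := by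
    intro z
    rw [← HHmap_comp, φ.inv_hom_id]
    exact HHmap_id n z
  refine ⟨{ toFun := fun x => HHmap φ.inv n x
            invFun := fun y => HHmap φ.hom n y
            map_add' := fun x y => map_add _ x y
            map_smul' := fun a x => ?_
            left_inv := key'
            right_inv := key }⟩
  have e1 : HHmap φ.inv n (a • x) = a • HHmap φ.inv n x := (HHmapA A φ.inv n).map_smul a x
  have e2 : ∀ y : Coh.HH X ((CohIII.tensorAFunctor A F).obj (ModuleCat.of A A)) n,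
      ((CohIII.tensorAFunctor A F ⋙ CohIII.HAb X n).map (a • 𝟙 (ModuleCat.of A A))).hom y =
        a • y := by
    intro y
    show ((CohIII.HAb X n).map ((CohIII.tensorAFunctor A F).map
      (a • 𝟙 (ModuleCat.of A A)))).hom y = a • y
    rw [h1]
    rfl
  show HHmap φ.inv n (a • x) =
    ((CohIII.tensorAFunctor A F ⋙ CohIII.HAb X n).map (a • 𝟙 (ModuleCat.of A A))).hom
      (HHmap φ.inv n x)
  rw [e2, e1]

/-- **The bridge at `M = A`, linearly**: `H^n(X, F) ≃ₗ[A] H_{-n}(L)`. -/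
theorem nonempty_HH_linearEquiv_homology (L : ChainComplex (ModuleCat.{u} A) ℤ) (n : ℕ)
    (γ : CohIII.tensorAFunctor A F ⋙ CohIII.HAb X n ≅
      CohIII.TFun L (-(n : ℤ)) ⋙ forget₂ (ModuleCat.{u} A) AddCommGrpCat.{u}) :
    Nonempty (Coh.HH X F n ≃ₗ[A] L.homology (-(n : ℤ))) := by
  obtain ⟨e1⟩ := nonempty_HH_linearEquiv_lin A F n
  let β : Lin (CohIII.tensorAFunctor A F ⋙ CohIII.HAb X n) ⋙
      forget₂ (ModuleCat.{u} A) AddCommGrpCat.{u} ≅
      CohIII.TFun L (-(n : ℤ)) ⋙ forget₂ (ModuleCat.{u} A) AddCommGrpCat.{u} :=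
    linForgetIso _ ≪≫ γ
  let e2 := linEquivOfForgetIso _ _ β (ModuleCat.of A A)
  let e3 : CohIII.T L (-(n : ℤ)) (ModuleCat.of A A) ≃ₗ[A] L.homology (-(n : ℤ)) :=
    (TUnitIso L (-(n : ℤ))).toLinearEquiv
  exact ⟨e1.trans (e2.trans e3)⟩

end Groth.Agent.R2.H11.CbcLinBridge
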