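import Mathlib
import Groth.Agent.Lib.Helper16CechLow

/-!
# PROJ:cbc / FI — isomorphisms of Čech complexes from componentwise isomorphisms (helper16)

Namespace `Groth.Agent.R2.H16.CbcFICech`.

`isoOfFamily`: a family of isomorphisms `P(U_x) ≅ Q(U_x)` compatible with the face maps induces an isomorphism of
Čech complexes; `isoOfFamily_hom_pr` is its description on components.
-/

set_option autoImplicit false
universe v u₁ u
open CategoryTheory CategoryTheory.Limits Opposite

namespace Groth.Agent.R2.H16.CbcFICech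

open Groth.Agent.Lib.Helper16.CechLow

variable {C : Type u₁} [Category.{v} C] [HasFiniteProducts C] {ι : Type u} (U : ι → C)
  (P Q : Cᵒᵖ ⥤ AddCommGrpCat.{u})
  (t : ∀ (n : ℕ) (x : Fin (n + 1) → ι), P.obj (op (Ux U x)) ≅ Q.obj (op (Ux U x)))
  (ht : ∀ (n : ℕ) (x : Fin (n + 2) → ι) (i : Fin (n + 2)),
    P.map (face U x i).op ≫ (t (n + 1) x).hom =
      (t n (x ∘ Fin.succAbove i)).hom ≫ Q.map (face U x i).op)

/-- the comparison map in each degree -/
noncomputable def homX (n : ℕ) : (CK U P).X n ⟶ (CK U Q).X n :=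
  Pi.lift (fun x => pr U P n x ≫ (t n x).hom)

/-- the inverse comparison map in each degree -/
noncomputable def invX (n : ℕ) : (CK U Q).X n ⟶ (CK U P).X n :=
  Pi.lift (fun x => pr U Q n x ≫ (t n x).inv)

lemma homX_pr (n : ℕ) (x : Fin (n + 1) → ι) :
    homX U P Q t n ≫ pr U Q n x = pr U P n x ≫ (t n x).hom :=
  limit.lift_π _ _

lemma invX_pr (n : ℕ) (x : Fin (n + 1) → ι) :
    invX U P Q t n ≫ pr U P n x = pr U Q n x ≫ (t n x).inv :=
  limit.lift_π _ _

/-- the comparison isomorphism in each degree -/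
noncomputable def isoX (n : ℕ) : (CK U P).X n ≅ (CK U Q).X n where
  hom := homX U P Q t n
  inv := invX U P Q t n
  hom_inv_id := by
    refine Pi.hom_ext _ _ (fun (x : Fin (n + 1) → ι) => ?_)
    have : (homX U P Q t n ≫ invX U P Q t n) ≫ pr U P n x = 𝟙 _ ≫ pr U P n x := by
      rw [Category.assoc, invX_pr, ← Category.assoc, homX_pr, Category.assoc, Iso.hom_inv_id,
        Category.comp_id, Category.id_comp]
    exact this
  inv_hom_id := by
    refine Pi.hom_ext _ _ (fun (x : Fin (n + 1) → ι) => ?_)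
    have : (invX U P Q t n ≫ homX U P Q t n) ≫ pr U Q n x = 𝟙 _ ≫ pr U Q n x := by
      rw [Category.assoc, homX_pr, ← Category.assoc, invX_pr, Category.assoc, Iso.inv_hom_id,
        Category.comp_id, Category.id_comp]
    exact this

include ht in
lemma comm (n : ℕ) : homX U P Q t n ≫ (CK U Q).d n (n + 1) =
    (CK U P).d n (n + 1) ≫ homX U P Q t (n + 1) := by
  refine Pi.hom_ext _ _ (fun (x : Fin (n + 2) → ι) => ?_)
  have : (homX U P Q t n ≫ (CK U Q).d n (n + 1)) ≫ pr U Q (n + 1) x =
      ((CK U P).d n (n + 1) ≫ homX U P Q t (n + 1)) ≫ pr U Q (n + 1) x := by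
    rw [Category.assoc, d_pr, Category.assoc, homX_pr, ← Category.assoc, d_pr,
      Preadditive.comp_sum, Preadditive.sum_comp]
    refine Finset.sum_congr rfl (fun i _ => ?_)
    rw [Preadditive.comp_zsmul, Preadditive.zsmul_comp, ← Category.assoc, homX_pr, Category.assoc,
      Category.assoc, ht]
  exact this

/-- the isomorphism of Čech complexes induced by a compatible family of componentwise isomorphisms. -/
noncomputable def isoOfFamily : CK U P ≅ CK U Q :=
  HomologicalComplex.Hom.isoOfComponents (fun n => isoX U P Q t n) (by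
    rintro i j (rfl : i + 1 = j)
    exact comm U P Q t ht i)

lemma isoOfFamily_hom_pr (n : ℕ) (x : Fin (n + 1) → ι) :
    (isoOfFamily U P Q t ht).hom.f n ≫ pr U Q n x = pr U P n x ≫ (t n x).hom :=
  homX_pr U P Q t n x

end Groth.Agent.R2.H16.CbcFICech
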