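import Mathlib

/-!
# PROJ:cbc / FI — algebra: base change of a module along a pushout square of rings (helper16)

Namespace `Groth.Agent.R2.H16.CbcFIAlg`.

`exists_equiv_of_universal`: for a pushout square of commutative rings `A → A'`, `A → B`, `B' = A' ⊗_A B`, a
`B`-module `N`, a `B'`-module `N'` and a semilinear map `u : N → N'` with the universal property of the base
change `B' ⊗_B N`, the map `A' ⊗_A N → N'`, `a' ⊗ n ↦ a' • u n` is an `A'`-linear isomorphism.
-/

set_option autoImplicit false
set_option linter.style.haveILetI false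
universe u
open TensorProduct

namespace Groth.Agent.R2.H16.CbcFIAlg

variable {A A' B B' : Type u} [CommRing A] [CommRing A'] [CommRing B] [CommRing B']
  [Algebra A A'] [Algebra A B] [Algebra A' B'] [Algebra B B'] [Algebra A B']
  [IsScalarTower A B B'] [IsScalarTower A A' B'] [Algebra.IsPushout A A' B B']
  {N N' : Type u} [AddCommGroup N] [Module B N] [Module A N] [IsScalarTower A B N]
  [AddCommGroup N'] [Module B' N'] [Module A' N'] [IsScalarTower A' B' N']

theorem exists_equiv_of_universal (u : N →+ N')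
    (hu : ∀ (b : B) (n : N), u (b • n) = algebraMap B B' b • u n)
    (huniv : ∀ (Q : Type u) [AddCommGroup Q] [Module B' Q] (l : N →+ Q),
      (∀ (b : B) (n : N), l (b • n) = algebraMap B B' b • l n) →
        ∃! l' : N' →ₗ[B'] Q, ∀ n, l' (u n) = l n) :
    ∃ e : A' ⊗[A] N ≃ₗ[A'] N', ∀ (a' : A') (n : N), e (a' ⊗ₜ n) = a' • u n := by
  letI : Module B N' := Module.compHom N' (algebraMap B B')
  haveI : IsScalarTower B B' N' := IsScalarTower.of_algebraMap_smul (fun b n => rfl)
  let uB : N →ₗ[B] N' :=
    { toFun := u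
      map_add' := u.map_add
      map_smul' := fun b n => hu b n }
  have hbc : IsBaseChange B' uB := by
    apply IsBaseChange.of_lift_unique
    intro Q _ _ _ _ g
    letI : AddCommGroup Q := Module.addCommMonoidToAddCommGroup B'
    obtain ⟨l', hl', huq⟩ := huniv Q g.toAddMonoidHom (fun b n => by
      change g (b • n) = algebraMap B B' b • g n
      rw [g.map_smul, algebraMap_smul])
    refine ⟨l', ?_, ?_⟩
    · ext n
      exact hl' n
    · intro l'' hl''
      apply huq
      intro n
      exact LinearMap.congr_fun hl'' n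
  let e1 : B' ⊗[B] N ≃ₗ[A'] A' ⊗[A] N := Algebra.IsPushout.cancelBaseChange A A' B B' N
  let e2 : B' ⊗[B] N ≃ₗ[B'] N' := hbc.equiv
  refine ⟨e1.symm ≪≫ₗ (e2.restrictScalars A'), ?_⟩
  intro a' n
  change e2 (e1.symm (a' ⊗ₜ n)) = a' • u n
  rw [Algebra.IsPushout.cancelBaseChange_symm_tmul]
  rw [IsBaseChange.equiv_tmul]
  rw [algebraMap_smul]
  rfl

end Groth.Agent.R2.H16.CbcFIAlg
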