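import Mathlib
import Groth.Prelude.Def_Coh
import Groth.Agent.R2.H16CbcFIAlg
import Groth.Agent.Lib.Helper13PullbackUnit

/-!
# PROJ:cbc / FI — sections of the pullback along an affine base change (helper16)

Namespace `Groth.Agent.R2.H16.CbcFISec`.

For a cartesian square `X' = X ×_{Spec A} Spec A'`, a quasi-coherent `O_X`-module `F₁` and an affine open `W ⊆ X`:
`Γ(g'⁻¹W, g'^*F₁) = A' ⊗_A Γ(W, F₁)` through `a' ⊗ n ↦ a' • unitSec n`.
-/

set_option autoImplicit false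
set_option linter.style.haveILetI false
universe u
open CategoryTheory CategoryTheory.Limits AlgebraicGeometry Opposite TopologicalSpace TensorProduct

namespace Groth.Agent.R2.H16.CbcFISec

open Groth.Agent.Helper13PullbackUnit

variable {A A' : Type u} [CommRing A] [CommRing A'] (ρ : A →+* A')
  {X X' : Scheme.{u}} (fX : X ⟶ Spec (CommRingCat.of A)) (g' : X' ⟶ X)
  (f' : X' ⟶ Spec (CommRingCat.of A'))

/-- the structure map `A → Γ(X, W)` -/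
noncomputable def αW (W : X.Opens) : A →+* Γ(X, W) :=
  (X.presheaf.map (homOfLE (le_top : W ≤ ⊤)).op).hom.comp (Coh.toGlobal fX)

theorem αW_eq (W : X.Opens) (a : A) :
    αW fX W a = (fX.appLE ⊤ W le_top).hom ((Scheme.ΓSpecIso (CommRingCat.of A)).inv.hom a) := rfl

variable {ρ fX g' f'}

/-- commutativity of the square on sections -/
theorem αW_comm (hc : IsPullback g' f' fX (Spec.map (CommRingCat.ofHom ρ))) (W : X.Opens) (a : A) :
    αW f' (g' ⁻¹ᵁ W) (ρ a) = (g'.appLE W (g' ⁻¹ᵁ W) le_rfl).hom (αW fX W a) := by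
  rw [αW_eq, αW_eq]
  have h1 : (CommRingCat.ofHom ρ ≫ (Scheme.ΓSpecIso (CommRingCat.of A')).inv) ≫
      f'.appLE ⊤ (g' ⁻¹ᵁ W) le_top =
      ((Scheme.ΓSpecIso (CommRingCat.of A)).inv ≫ fX.appLE ⊤ W le_top) ≫
        g'.appLE W (g' ⁻¹ᵁ W) le_rfl := by
    rw [Scheme.ΓSpecIso_inv_naturality, Category.assoc, Category.assoc]
    congr 1
    have e1 : (Spec.map (CommRingCat.ofHom ρ)).appTop ≫ f'.appLE ⊤ (g' ⁻¹ᵁ W) le_top =
        (f' ≫ Spec.map (CommRingCat.ofHom ρ)).appLE ⊤ (g' ⁻¹ᵁ W) le_top := by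
      rw [← Scheme.Hom.appLE_comp_appLE f' (Spec.map (CommRingCat.ofHom ρ)) ⊤ ⊤ (g' ⁻¹ᵁ W) le_top le_top]
      rfl
    have e2 : fX.appLE ⊤ W le_top ≫ g'.appLE W (g' ⁻¹ᵁ W) le_rfl =
        (g' ≫ fX).appLE ⊤ (g' ⁻¹ᵁ W) le_top :=
      Scheme.Hom.appLE_comp_appLE g' fX ⊤ W (g' ⁻¹ᵁ W) le_top le_rfl
    rw [e1, e2]
    congr 1
    exact hc.w.symm
  exact congrArg (fun φ => φ.hom a) h1

/-- the pushout square of rings of sections (in `CommRingCat`, over `A` and `A'`). -/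
theorem isPushout_sections (hc : IsPullback g' f' fX (Spec.map (CommRingCat.ofHom ρ)))
    {W : X.Opens} (hW : IsAffineOpen W) :
    IsPushout (CommRingCat.ofHom ρ) (CommRingCat.ofHom (αW fX W))
      (CommRingCat.ofHom (αW f' (g' ⁻¹ᵁ W))) (g'.appLE W (g' ⁻¹ᵁ W) le_rfl) := by
  have hUY : g' ⁻¹ᵁ W = g' ⁻¹ᵁ W ⊓ f' ⁻¹ᵁ ⊤ := by simp
  have h1 := isIso_pushoutSection_of_isAffineOpen hc (US := ⊤) (UT := ⊤) (UX := W)
    (UY := g' ⁻¹ᵁ W) le_top le_top hUY (isAffineOpen_top _) (isAffineOpen_top _) hW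
  have h2 := ((isIso_pushoutSection_iff hc (US := ⊤) (UT := ⊤) (UX := W)
    (UY := g' ⁻¹ᵁ W) le_top le_top hUY).1 h1).flip
  refine IsPushout.of_iso h2 (Scheme.ΓSpecIso (CommRingCat.of A))
    (Scheme.ΓSpecIso (CommRingCat.of A')) (Iso.refl _) (Iso.refl _) ?_ ?_ ?_ ?_
  · exact Scheme.ΓSpecIso_naturality (CommRingCat.ofHom ρ)
  · rw [Iso.refl_hom, Category.comp_id]
    ext a
    change _ = αW fX W ((Scheme.ΓSpecIso (CommRingCat.of A)).hom.hom a)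
    rw [αW_eq]
    have : (Scheme.ΓSpecIso (CommRingCat.of A)).inv.hom
        ((Scheme.ΓSpecIso (CommRingCat.of A)).hom.hom a) = a :=
      congrArg (fun φ => φ.hom a) (Scheme.ΓSpecIso (CommRingCat.of A)).hom_inv_id
    rw [this]
  · rw [Iso.refl_hom, Category.comp_id]
    ext a
    change _ = αW f' (g' ⁻¹ᵁ W) ((Scheme.ΓSpecIso (CommRingCat.of A')).hom.hom a)
    rw [αW_eq]
    have : (Scheme.ΓSpecIso (CommRingCat.of A')).inv.hom
        ((Scheme.ΓSpecIso (CommRingCat.of A')).hom.hom a) = a :=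
      congrArg (fun φ => φ.hom a) (Scheme.ΓSpecIso (CommRingCat.of A')).hom_inv_id
    rw [this]
  · exact (Category.comp_id _).trans (Category.id_comp _).symm

theorem isAffineHom_of_isPullback (hc : IsPullback g' f' fX (Spec.map (CommRingCat.ofHom ρ))) :
    IsAffineHom g' :=
  MorphismProperty.of_isPullback (P := @IsAffineHom) hc.flip inferInstance

variable (F₁ : X.Modules) [F₁.IsQuasicoherent]

/-- **Sections of the pullback along an affine base change**: `Γ(g'⁻¹W, g'^*F₁) = A' ⊗_A Γ(W, F₁)`. -/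
theorem exists_sections_equiv (hc : IsPullback g' f' fX (Spec.map (CommRingCat.ofHom ρ)))
    {W : X.Opens} (hW : IsAffineOpen W) :
    letI : Algebra A A' := ρ.toAlgebra
    letI : Module A Γ(F₁, W) := Module.compHom _ (αW fX W)
    letI : Module A' Γ((Scheme.Modules.pullback g').obj F₁, g' ⁻¹ᵁ W) :=
      Module.compHom _ (αW f' (g' ⁻¹ᵁ W))
    ∃ e : A' ⊗[A] Γ(F₁, W) ≃ₗ[A'] Γ((Scheme.Modules.pullback g').obj F₁, g' ⁻¹ᵁ W),
      ∀ (a' : A') (n : Γ(F₁, W)),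
        e (a' ⊗ₜ n) = αW f' (g' ⁻¹ᵁ W) a' • unitSec g' F₁ (le_refl (g' ⁻¹ᵁ W)) n := by
  haveI := isAffineHom_of_isPullback hc
  have hW' : IsAffineOpen (g' ⁻¹ᵁ W) := hW.preimage g'
  letI : Algebra A A' := ρ.toAlgebra
  letI : Module A Γ(F₁, W) := Module.compHom _ (αW fX W)
  letI : Module A' Γ((Scheme.Modules.pullback g').obj F₁, g' ⁻¹ᵁ W) :=
    Module.compHom _ (αW f' (g' ⁻¹ᵁ W))
  letI : Algebra A Γ(X, W) := (αW fX W).toAlgebra
  letI : Algebra A' Γ(X', g' ⁻¹ᵁ W) := (αW f' (g' ⁻¹ᵁ W)).toAlgebra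
  letI : Algebra Γ(X, W) Γ(X', g' ⁻¹ᵁ W) := (g'.appLE W (g' ⁻¹ᵁ W) le_rfl).hom.toAlgebra
  letI : Algebra A Γ(X', g' ⁻¹ᵁ W) :=
    ((g'.appLE W (g' ⁻¹ᵁ W) le_rfl).hom.comp (αW fX W)).toAlgebra
  haveI : IsScalarTower A Γ(X, W) Γ(X', g' ⁻¹ᵁ W) := IsScalarTower.of_algebraMap_eq (fun a => rfl)
  haveI : IsScalarTower A A' Γ(X', g' ⁻¹ᵁ W) :=
    IsScalarTower.of_algebraMap_eq (fun a => (αW_comm hc W a).symm)
  haveI : IsScalarTower A Γ(X, W) Γ(F₁, W) := IsScalarTower.of_algebraMap_smul (fun a n => rfl)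
  haveI : IsScalarTower A' Γ(X', g' ⁻¹ᵁ W) Γ((Scheme.Modules.pullback g').obj F₁, g' ⁻¹ᵁ W) :=
    IsScalarTower.of_algebraMap_smul (fun a n => rfl)
  haveI : Algebra.IsPushout A A' Γ(X, W) Γ(X', g' ⁻¹ᵁ W) :=
    CommRingCat.isPushout_iff_isPushout.mp (isPushout_sections hc hW)
  obtain ⟨e, he⟩ := Groth.Agent.R2.H16.CbcFIAlg.exists_equiv_of_universal
    (A := A) (A' := A') (B := Γ(X, W)) (B' := Γ(X', g' ⁻¹ᵁ W))
    (unitSec g' F₁ (le_refl (g' ⁻¹ᵁ W)))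
    (fun b n => unitSec_smul g' F₁ (le_refl (g' ⁻¹ᵁ W)) b n)
    (fun Q _ _ l hl => existsUnique_lift g' F₁ hW hW' (le_refl (g' ⁻¹ᵁ W)) Q l hl)
  exact ⟨e, fun a' n => he a' n⟩

end Groth.Agent.R2.H16.CbcFISec
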