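import Mathlib
import Groth.Agent.R2.H16CbcFISec
import Groth.Agent.R2.H16CbcG3
import Groth.Agent.R2.H51CbcG1

/-!
# PROJ:cbc / FI — termwise comparison `Γ(W, F ⊗_A A') ≃ Γ(g'⁻¹W, g'^*(F ⊗_A A))` (helper16)

Namespace `Groth.Agent.R2.H16.CbcFITerm`.
-/

set_option autoImplicit false
set_option linter.style.haveILetI false
universe u
open CategoryTheory CategoryTheory.Limits AlgebraicGeometry Opposite TopologicalSpace TensorProduct

namespace Groth.Agent.R2.H16.CbcFITerm

open Groth.Agent.R2.H11.CbcSpec Groth.Agent.R2.H11.CbcLin Groth.Agent.R2.H11.CbcEW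
  Groth.Agent.Lib.Helper16.TensorCmp Groth.Agent.R2.H16.CbcFISec Groth.Agent.Helper13PullbackUnit
  Groth.Agent.R2.H16.CbcG2 Groth.Agent.R2.H16.CbcG3

variable {A A' : Type u} [CommRing A] [CommRing A'] (ρ : A →+* A')
  {X X' : Scheme.{u}} [X.Over (Spec (CommRingCat.of A))] (g' : X' ⟶ X)
  (f' : X' ⟶ Spec (CommRingCat.of A')) (F : X.Modules)

/-- `A'` as an `A`-module -/
noncomputable abbrev MA' : ModuleCat.{u} A :=
  (ModuleCat.restrictScalars ρ).obj (ModuleCat.of A' A')

variable (A) in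
/-- `F ⊗_A A` -/
noncomputable abbrev F₁ : X.Modules := (CohIII.tensorAFunctor A F).obj (ModuleCat.of A A)

variable (A) in
/-- `g'^*(F ⊗_A A)` -/
noncomputable abbrev G₁ : X'.Modules := (Scheme.Modules.pullback g').obj (F₁ A F)

section induction

variable {ρ}
variable (T : ModuleCat.{u} A ⥤ AddCommGrpCat.{u}) [T.Additive] [PreservesFiniteColimits T]
  [∀ J : Type u, PreservesColimitsOfShape (Discrete J) T]

/-- elements of `T(M)` are sums of elements `T(θ m)(z)` with `z ∈ T(A)`. -/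
theorem T_induction (M : ModuleCat.{u} A) {motive : T.obj M → Prop} (h0 : motive 0)
    (hadd : ∀ x y, motive x → motive y → motive (x + y))
    (hgen : ∀ (m : M) (z : T.obj (ModuleCat.of A A)), motive ((T.map (θ m)).hom z)) :
    ∀ y, motive y := by
  intro y
  have hy : y = ewEquiv T M ((ewEquiv T M).symm y) := ((ewEquiv T M).apply_symm_apply y).symm
  rw [hy]
  generalize (ewEquiv T M).symm y = w
  induction w using TensorProduct.induction_on with
  | zero =>
    have : ewEquiv T M 0 = (0 : T.obj M) := map_zero _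
    rw [this]
    exact h0
  | tmul z m =>
    rw [ewEquiv_tmul]
    exact hgen m z
  | add a b ha hb =>
    have : ewEquiv T M (a + b) = (ewEquiv T M a : T.obj M) + (ewEquiv T M b : T.obj M) :=
      map_add _ a b
    rw [this]
    exact hadd _ _ ha hb

/-- additive maps out of `T(M)` are determined on the elements `T(θ m)(z)`. -/
theorem T_hom_ext (M : ModuleCat.{u} A) {G : Type*} [AddCommGroup G] (L R : T.obj M →+ G)
    (h : ∀ (m : M) (z : T.obj (ModuleCat.of A A)),
      L ((T.map (θ m)).hom z) = R ((T.map (θ m)).hom z)) : L = R := by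
  ext y
  refine T_induction T M (motive := fun y => L y = R y) ?_ ?_ h y
  · rw [map_zero, map_zero]
  · intro x y hx hy
    rw [map_add, map_add, hx, hy]

end induction

variable {ρ g' f'}

/-- **Termwise comparison** over an affine open `W`. -/
theorem exists_termEquiv
    (hc : IsPullback g' f' (X ↘ Spec (CommRingCat.of A)) (Spec.map (CommRingCat.ofHom ρ)))
    [F.IsQuasicoherent] {W : X.Opens} (hW : IsAffineOpen W) :
    ∃ t : ↑((TW A F W).obj (MA' ρ)) ≃+ ↑Γ(G₁ A g' F, g' ⁻¹ᵁ W),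
      ∀ (a' : A') (z : ↑((TW A F W).obj (ModuleCat.of A A))),
        t (((TW A F W).map (θ (M := MA' ρ) a')).hom z) =
          αW f' (g' ⁻¹ᵁ W) a' • unitSec g' (F₁ A F) (le_refl (g' ⁻¹ᵁ W)) z := by
  obtain ⟨i1, i2⟩ := g2 A F hW (show Coh.IsQCoh F from inferInstance)
  haveI : (F₁ A F).IsQuasicoherent := isQuasicoherent_tensorAFunctor_obj A F _
  letI : Algebra A A' := ρ.toAlgebra
  letI mN : Module A Γ(F₁ A F, W) := Module.compHom _ (αW (X ↘ Spec (CommRingCat.of A)) W)
  letI mN' : Module A' Γ(G₁ A g' F, g' ⁻¹ᵁ W) := Module.compHom _ (αW f' (g' ⁻¹ᵁ W))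
  obtain ⟨e, he⟩ := exists_sections_equiv (F₁ A F) hc hW
  let ιN : val (TW A F W) ≃ₗ[A] Γ(F₁ A F, W) :=
    { toFun := fun z => z
      invFun := fun z => z
      map_add' := fun _ _ => rfl
      map_smul' := fun a z =>
        TW_map_smul_apply A F (Groth.Agent.R2.H51.CbcG1.g1 A F) (ModuleCat.of A A) a z
      left_inv := fun _ => rfl
      right_inv := fun _ => rfl }
  let ιM : (MA' ρ) ≃ₗ[A] A' :=
    { toFun := fun z => z
      invFun := fun z => z
      map_add' := fun _ _ => rfl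
      map_smul' := fun a z => rfl
      left_inv := fun _ => rfl
      right_inv := fun _ => rfl }
  let t : ↑((TW A F W).obj (MA' ρ)) ≃+ ↑Γ(G₁ A g' F, g' ⁻¹ᵁ W) :=
    (ewEquiv (TW A F W) (MA' ρ)).symm.toAddEquiv.trans
      ((TensorProduct.congr ιN ιM).toAddEquiv.trans
        ((TensorProduct.comm A _ _).toAddEquiv.trans e.toAddEquiv))
  refine ⟨t, fun a' z => ?_⟩
  have h1 : ((TW A F W).map (θ (M := MA' ρ) a')).hom z =
      ewEquiv (TW A F W) (MA' ρ) (z ⊗ₜ a') := (ewEquiv_tmul (TW A F W) (MA' ρ) z a').symm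
  rw [h1]
  change e (TensorProduct.comm A _ _ (TensorProduct.congr ιN ιM
    ((ewEquiv (TW A F W) (MA' ρ)).symm (ewEquiv (TW A F W) (MA' ρ) (z ⊗ₜ a'))))) = _
  rw [LinearEquiv.symm_apply_apply]
  exact he a' z

end Groth.Agent.R2.H16.CbcFITerm
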