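import Mathlib
import Groth.Agent.R2.H16CbcFITerm
import Groth.Prelude.Def_CohTop

/-!
# PROJ:cbc / FI — naturality and equivariance of the termwise comparison (helper16)

Namespace `Groth.Agent.R2.H16.CbcFINat`.
-/

set_option autoImplicit false
set_option linter.style.haveILetI false
set_option linter.unusedSectionVars false
universe u
open CategoryTheory CategoryTheory.Limits AlgebraicGeometry Opposite TopologicalSpace

namespace Groth.Agent.R2.H16.CbcFINat

open Groth.Agent.R2.H11.CbcSpec Groth.Agent.R2.H11.CbcLin Groth.Agent.R2.H11.CbcEW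
  Groth.Agent.Lib.Helper16.TensorCmp Groth.Agent.R2.H16.CbcFISec Groth.Agent.Helper13PullbackUnit
  Groth.Agent.R2.H16.CbcG2 Groth.Agent.R2.H16.CbcG3 Groth.Agent.R2.H16.CbcFITerm

variable {A A' : Type u} [CommRing A] [CommRing A'] {ρ : A →+* A'}
  {X X' : Scheme.{u}} [X.Over (Spec (CommRingCat.of A))] {g' : X' ⟶ X}
  {f' : X' ⟶ Spec (CommRingCat.of A')} (F : X.Modules)
  (hc : IsPullback g' f' (X ↘ Spec (CommRingCat.of A)) (Spec.map (CommRingCat.ofHom ρ)))
  [F.IsQuasicoherent]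

variable (A) in
/-- the presheaf of abelian groups `W ↦ Γ(W, F ⊗_A M)` -/
noncomputable abbrev PP (M : ModuleCat.{u} A) : (Opens X)ᵒᵖ ⥤ AddCommGrpCat.{u} :=
  (toPsh X).obj ((CohIII.tensorAFunctor A F).obj M)

variable (A g') in
/-- the presheaf of abelian groups `W ↦ Γ(g'⁻¹W, g'^*(F ⊗_A A))` -/
noncomputable abbrev QQ : (Opens X)ᵒᵖ ⥤ AddCommGrpCat.{u} :=
  (toPsh X).obj ((Scheme.Modules.pushforward g').obj (G₁ A g' F))

/-- the termwise comparison `Γ(W, F ⊗_A A') ≃ Γ(g'⁻¹W, g'^*(F ⊗_A A))` -/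
noncomputable def termEquiv {W : X.Opens} (hW : IsAffineOpen W) :
    ↑((PP A F (MA' ρ)).obj (op W)) ≃+ ↑((QQ A g' F).obj (op W)) :=
  (exists_termEquiv F hc hW).choose

variable (A g') in
/-- the unit `F ⊗_A A ⟶ g'_* g'^* (F ⊗_A A)` -/
noncomputable abbrev η : F₁ A F ⟶ (Scheme.Modules.pushforward g').obj (G₁ A g' F) :=
  (Scheme.Modules.pullbackPushforwardAdjunction g').unit.app (F₁ A F)

variable (A g') in
/-- the unit on sections over `W` -/
noncomputable abbrev ηP (W : X.Opens) :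
    (PP A F (ModuleCat.of A A)).obj (op W) ⟶ (QQ A g' F).obj (op W) :=
  ((toPsh X).map (η A g' F)).app (op W)

variable (A ρ) in
/-- `Γ(W, F ⊗_A A) → Γ(W, F ⊗_A A')` induced by `1 ↦ m` -/
noncomputable abbrev φm (m : A') (W : X.Opens) :
    (PP A F (ModuleCat.of A A)).obj (op W) ⟶ (PP A F (MA' ρ)).obj (op W) :=
  ((toPsh X).map ((CohIII.tensorAFunctor A F).map (θ (M := MA' ρ) m))).app (op W)

variable (A g' f') in
/-- the action of `a' : A'` on `g'_* g'^*(F ⊗_A A)`, as an endomorphism of the abelian sheaf -/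
noncomputable abbrev σSh (a' : A') :
    Coh.toAb ((Scheme.Modules.pushforward g').obj (G₁ A g' F)) ⟶
      Coh.toAb ((Scheme.Modules.pushforward g').obj (G₁ A g' F)) :=
  (CohTop.push g'.base).map (Coh.smulAb (G₁ A g' F) (Coh.toGlobal f' a'))

variable (A g' f') in
/-- the action of `a' : A'` on `QQ` -/
noncomputable abbrev σ (a' : A') : QQ A g' F ⟶ QQ A g' F := (σSh A g' f' F a').hom

theorem σ_app_apply (a' : A') (W : X.Opens) (s : ↑Γ(G₁ A g' F, g' ⁻¹ᵁ W)) :
    (σ A g' f' F a').app (op W) s = αW f' (g' ⁻¹ᵁ W) a' • s := rfl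

theorem unitSec_refl (W : X.Opens) (z : ↑Γ(F₁ A F, W)) :
    unitSec g' (F₁ A F) (le_refl (g' ⁻¹ᵁ W)) z = ηP A g' F W z := by
  rw [unitSec_apply]
  have h : (homOfLE (le_refl (g' ⁻¹ᵁ W))).op = 𝟙 (op (g' ⁻¹ᵁ W)) := rfl
  rw [h, CategoryTheory.Functor.map_id]
  rfl

theorem termEquiv_gen {W : X.Opens} (hW : IsAffineOpen W) (a' : A')
    (z : ↑((PP A F (ModuleCat.of A A)).obj (op W))) :
    termEquiv F hc hW (φm A ρ F a' W z) = (σ A g' f' F a').app (op W) (ηP A g' F W z) := by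
  have h := (exists_termEquiv F hc hW).choose_spec a' z
  exact h.trans (congrArg (fun s : ↑Γ(G₁ A g' F, g' ⁻¹ᵁ W) => αW f' (g' ⁻¹ᵁ W) a' • s)
    (unitSec_refl F W z))

/-- the termwise comparison commutes with restriction maps -/
theorem termEquiv_res {W₁ W₂ : X.Opens} (hW₁ : IsAffineOpen W₁) (hW₂ : IsAffineOpen W₂)
    (j : W₂ ⟶ W₁) (y : ↑((PP A F (MA' ρ)).obj (op W₁))) :
    termEquiv F hc hW₂ ((PP A F (MA' ρ)).map j.op y) =
      (QQ A g' F).map j.op (termEquiv F hc hW₁ y) := by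
  obtain ⟨i1, i2⟩ := g2 A F hW₁ (show Coh.IsQCoh F from inferInstance)
  let L : ↑((TW A F W₁).obj (MA' ρ)) →+ ↑((QQ A g' F).obj (op W₂)) :=
    (termEquiv F hc hW₂).toAddMonoidHom.comp ((PP A F (MA' ρ)).map j.op).hom
  let R : ↑((TW A F W₁).obj (MA' ρ)) →+ ↑((QQ A g' F).obj (op W₂)) :=
    ((QQ A g' F).map j.op).hom.comp (termEquiv F hc hW₁).toAddMonoidHom
  suffices h : L = R from DFunLike.congr_fun h y
  apply T_hom_ext (TW A F W₁) (MA' ρ)
  intro m z
  have n1 : (PP A F (MA' ρ)).map j.op (φm A ρ F m W₁ z) =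
      φm A ρ F m W₂ ((PP A F (ModuleCat.of A A)).map j.op z) :=
    (NatTrans.naturality_apply
      ((toPsh X).map ((CohIII.tensorAFunctor A F).map (θ (M := MA' ρ) m))) j.op z).symm
  have n2 : ηP A g' F W₂ ((PP A F (ModuleCat.of A A)).map j.op z) =
      (QQ A g' F).map j.op (ηP A g' F W₁ z) :=
    NatTrans.naturality_apply ((toPsh X).map (η A g' F)) j.op z
  have n3 : ∀ s, (σ A g' f' F m).app (op W₂) ((QQ A g' F).map j.op s) =
      (QQ A g' F).map j.op ((σ A g' f' F m).app (op W₁) s) := fun s =>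
    NatTrans.naturality_apply (σ A g' f' F m) j.op s
  change termEquiv F hc hW₂ ((PP A F (MA' ρ)).map j.op (φm A ρ F m W₁ z)) =
    (QQ A g' F).map j.op (termEquiv F hc hW₁ (φm A ρ F m W₁ z))
  exact (congrArg (termEquiv F hc hW₂) n1).trans ((termEquiv_gen F hc hW₂ m _).trans
    ((congrArg (fun s => (σ A g' f' F m).app (op W₂) s) n2).trans ((n3 _).trans
      (congrArg (fun s => (QQ A g' F).map j.op s) (termEquiv_gen F hc hW₁ m z).symm))))

variable (ρ) in
/-- multiplication by `a'` on `A'`, as an `A`-linear endomorphism -/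
noncomputable abbrev mulEnd (a' : A') : MA' ρ ⟶ MA' ρ :=
  (ModuleCat.restrictScalars ρ).map (a' • 𝟙 (ModuleCat.of A' A'))

theorem θ_mulEnd (a' b' : A') :
    θ (M := MA' ρ) b' ≫ mulEnd ρ a' = θ (M := MA' ρ) (a' * b') := by
  exact (θ_comp (M := MA' ρ) (N := MA' ρ) (show ↑(MA' ρ) from b') (mulEnd ρ a')).trans rfl

theorem σ_mul (a' b' : A') :
    σ A g' f' F (a' * b') = σ A g' f' F b' ≫ σ A g' f' F a' := by
  change ((CohTop.push g'.base).map (Coh.smulAb (G₁ A g' F) (Coh.toGlobal f' (a' * b')))).hom = _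
  rw [map_mul, Coh.smulAb_mul, Functor.map_comp]
  rfl

variable (A ρ) in
/-- the action of `a'` on `Γ(W, F ⊗_A A')` by functoriality -/
noncomputable abbrev μ (a' : A') : PP A F (MA' ρ) ⟶ PP A F (MA' ρ) :=
  (toPsh X).map ((CohIII.tensorAFunctor A F).map (mulEnd ρ a'))

/-- the termwise comparison is `A'`-equivariant -/
theorem termEquiv_mulEnd {W : X.Opens} (hW : IsAffineOpen W) (a' : A')
    (y : ↑((PP A F (MA' ρ)).obj (op W))) :
    termEquiv F hc hW ((μ A ρ F a').app (op W) y) =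
      (σ A g' f' F a').app (op W) (termEquiv F hc hW y) := by
  obtain ⟨i1, i2⟩ := g2 A F hW (show Coh.IsQCoh F from inferInstance)
  let L : ↑((TW A F W).obj (MA' ρ)) →+ ↑((QQ A g' F).obj (op W)) :=
    (termEquiv F hc hW).toAddMonoidHom.comp ((μ A ρ F a').app (op W)).hom
  let R : ↑((TW A F W).obj (MA' ρ)) →+ ↑((QQ A g' F).obj (op W)) :=
    ((σ A g' f' F a').app (op W)).hom.comp (termEquiv F hc hW).toAddMonoidHom
  suffices h : L = R from DFunLike.congr_fun h y
  apply T_hom_ext (TW A F W) (MA' ρ)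
  intro m₀ z
  let m : A' := m₀
  have n1 : (μ A ρ F a').app (op W) (φm A ρ F m W z) = φm A ρ F (a' * m) W z := by
    change (((toPsh X).map ((CohIII.tensorAFunctor A F).map (θ (M := MA' ρ) m))).app (op W) ≫
      ((toPsh X).map ((CohIII.tensorAFunctor A F).map (mulEnd ρ a'))).app (op W)) z = _
    rw [← NatTrans.comp_app, ← Functor.map_comp, ← Functor.map_comp, θ_mulEnd]
  have n2 : (σ A g' f' F (a' * m)).app (op W) (ηP A g' F W z) =
      (σ A g' f' F a').app (op W) ((σ A g' f' F m).app (op W) (ηP A g' F W z)) := by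
    rw [σ_mul]
    rfl
  change termEquiv F hc hW ((μ A ρ F a').app (op W) (φm A ρ F m W z)) =
    (σ A g' f' F a').app (op W) (termEquiv F hc hW (φm A ρ F m W z))
  exact (congrArg (termEquiv F hc hW) n1).trans ((termEquiv_gen F hc hW (a' * m) z).trans
    (n2.trans (congrArg (fun s => (σ A g' f' F a').app (op W) s)
      (termEquiv_gen F hc hW m z).symm)))

end Groth.Agent.R2.H16.CbcFINat
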