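import Mathlib
import Groth.Agent.R2.H16CbcProper
import Groth.Agent.R2.H51CbcG1
import Groth.Agent.R2.H8CbcG9

/-!
# PROJ:cbc — finiteness transfer and the bridge from an S0002-shaped hypothesis (helper16)

Namespace `Groth.Agent.R2.H16.CbcFin`.

* `hfin_of_finite`: if every `H^n(X, F)` is a finite `A`-module (frozen structure `Coh.moduleOver`) then every
  `H^n(X, F ⊗_A A)` is finite for the functorial structure `Lin` (uses `G1` and `G9`).
* `exists_bridge`: the Mumford complex for `X` quasi-compact separated over Noetherian `A`, `F` quasi-coherent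
  flat over `A` with finite cohomology modules.
-/

set_option autoImplicit false
set_option linter.style.haveILetI false
universe u
open CategoryTheory AlgebraicGeometry Limits Opposite TopologicalSpace

namespace Groth.Agent.R2.H16.CbcFin

open Groth.Agent.R2.H11.CbcLin Groth.Agent.R2.H16.CbcGeom Groth.Agent.R2.H11.CbcSpec

variable (A : Type u) [CommRing A] {X : Scheme.{u}} [X.Over (Spec (CommRingCat.of A))] (F : X.Modules)

/-- an `O_X`-linear map commutes with multiplication by a global function. -/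
theorem smulAb_comp {M N : X.Modules} (ψ : M ⟶ N) (r : Coh.Γtop X) :
    Coh.smulAb M r ≫ (SheafOfModules.toSheaf X.ringCatSheaf).map ψ =
      (SheafOfModules.toSheaf X.ringCatSheaf).map ψ ≫ Coh.smulAb N r := by
  ext U m
  exact Scheme.Modules.Hom.app_smul ψ _ m

/-- the functorial `A`-action on `H^n(X, F ⊗_A M)` is the frozen action `Coh.moduleOver`. -/
theorem Tn_map_smul_apply (n : ℕ) (M : ModuleCat.{u} A) (a : A) (x : (Tn A F n).obj M) :
    ((Tn A F n).map (a • 𝟙 M)).hom x =
      Sheaf.H.map (Coh.smulAb ((CohIII.tensorAFunctor A F).obj M)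
        (Coh.toGlobal (X ↘ Spec (CommRingCat.of A)) a)) n x := by
  change ((CohIII.HAb X n).map ((CohIII.tensorAFunctor A F).map (a • 𝟙 M))).hom x = _
  rw [Groth.Agent.R2.H51.CbcG1.g1 A F M a]
  rfl

theorem hfin_of_finite (hfinF : ∀ n : ℕ, Module.Finite A (Coh.HH X F n)) (n : ℕ) :
    Module.Finite A ((Lin (Tn A F n)).obj (ModuleCat.of A A)) := by
  obtain ⟨e9⟩ := Groth.Agent.R2.H8.CbcG9.g9 A F
  haveI := hfinF n
  let ψ := (SheafOfModules.toSheaf X.ringCatSheaf).map e9.inv
  let ψ' := (SheafOfModules.toSheaf X.ringCatSheaf).map e9.hom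
  let φ : Coh.HH X F n →ₗ[A] (Lin (Tn A F n)).obj (ModuleCat.of A A) :=
    { toFun := fun x => Sheaf.H.map ψ n x
      map_add' := fun x y => map_add _ x y
      map_smul' := fun a x => by
        have h1 := Tn_map_smul_apply A F n (ModuleCat.of A A) a (Sheaf.H.map ψ n x)
        have h2 := Sheaf.H.map_comp_apply (n := n)
          (Coh.smulAb F (Coh.toGlobal (X ↘ Spec (CommRingCat.of A)) a)) ψ x
        have h3 := Sheaf.H.map_comp_apply (n := n) ψ
          (Coh.smulAb ((CohIII.tensorAFunctor A F).obj (ModuleCat.of A A))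
            (Coh.toGlobal (X ↘ Spec (CommRingCat.of A)) a)) x
        have h4 := smulAb_comp e9.inv (Coh.toGlobal (X ↘ Spec (CommRingCat.of A)) a)
        exact h2.symm.trans ((congrArg (fun t => Sheaf.H.map t n x) h4).trans (h3.trans h1.symm)) }
  refine Module.Finite.of_surjective φ ?_
  intro y
  refine ⟨Sheaf.H.map ψ' n y, ?_⟩
  have h5 := Sheaf.H.map_comp_apply (n := n) ψ' ψ y
  have h6 : ψ' ≫ ψ = 𝟙 _ :=
    ((SheafOfModules.toSheaf X.ringCatSheaf).map_comp e9.hom e9.inv).symm.trans
      ((congrArg (SheafOfModules.toSheaf X.ringCatSheaf).map e9.hom_inv_id).trans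
        ((SheafOfModules.toSheaf X.ringCatSheaf).map_id _))
  have h7 : Sheaf.H.map (ψ' ≫ ψ) n y = y := by
    rw [h6]
    exact Sheaf.H.map_id_apply y
  exact h5.symm.trans h7

/-- **The cbc bridge**: Mumford complex for `X` quasi-compact separated over Noetherian `A`, `F`
quasi-coherent and flat over `A` with finite cohomology modules. -/
theorem exists_bridge [IsNoetherianRing A] [CompactSpace X]
    [IsSeparated (X ↘ Spec (CommRingCat.of A))] (hF : Coh.IsQCoh F)
    (hflat : FlatMod.IsFlatOver (X ↘ Spec (CommRingCat.of A)) F)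
    (hfinF : ∀ n : ℕ, Module.Finite A (Coh.HH X F n)) :
    ∃ L : ChainComplex (ModuleCat.{u} A) ℤ,
      (∀ i, Module.Finite A (L.X i) ∧ Module.Free A (L.X i)) ∧
      (∃ d : ℕ, ∀ i : ℤ, i < -(d : ℤ) → IsZero (L.X i)) ∧
      ∀ n : ℕ, Nonempty (CohIII.tensorAFunctor A F ⋙ CohIII.HAb X n ≅
        CohIII.TFun L (-(n : ℤ)) ⋙ forget₂ (ModuleCat.{u} A) AddCommGrpCat.{u}) :=
  Groth.Agent.R2.H16.CbcProper.exists_bridge_of_separated A F hF hflat (hfin_of_finite A F hfinF)

end Groth.Agent.R2.H16.CbcFin
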