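import Mathlib
import Groth.Prelude.Def_CohPull
import Groth.Agent.Lib.Helper16DimShift
import Groth.Agent.Lib.Helper16Restr

/-!
# The Leray edge map `H^p(Y, f_* F) → H^p(X, F)` for abelian sheaves (helper70)

`edge f F p` = `H^p` of the counit `f⁻¹ f_* F ⟶ F` after `CohPull.pullAb`.  It is natural in `F`,
compatible with connecting homomorphisms, bijective in degree `0`, and bijective in all degrees when
`R^q f_* F = 0` for `q > 0` (dimension shifting).
-/

set_option autoImplicit false
universe u

open CategoryTheory CategoryTheory.Limits Abelian TopologicalSpace Opposite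

namespace Groth.Agent.R2.H70.Edge

open CohPull

variable {X Y : TopCat.{u}} (f : X ⟶ Y)

/-- The edge map for abelian sheaves. -/
noncomputable def edge (F : CohTop.Ab X) (p : ℕ) :
    Sheaf.H ((CohTop.push f).obj F) p →+ Sheaf.H F p :=
  (Sheaf.H.map ((invPushAdj f).counit.app F) p).comp (pullAb f ((CohTop.push f).obj F) p)

lemma edge_apply (F : CohTop.Ab X) (p : ℕ) (x : Sheaf.H ((CohTop.push f).obj F) p) :
    edge f F p x =
      ((Ext.mk₀ (oneTo f)).comp (x.mapExactFunctor (inv f)) (zero_add p)).comp
        (Ext.mk₀ ((invPushAdj f).counit.app F)) (add_zero p) := rfl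

lemma H_map_apply {F F' : CohTop.Ab X} (φ : F ⟶ F') (p : ℕ) (x : Sheaf.H F p) :
    Sheaf.H.map φ p x = x.comp (Ext.mk₀ φ) (add_zero p) := rfl

/-- Naturality of the edge map in `F`. -/
lemma edge_naturality {F F' : CohTop.Ab X} (φ : F ⟶ F') (p : ℕ)
    (x : Sheaf.H ((CohTop.push f).obj F) p) :
    edge f F' p (Sheaf.H.map ((CohTop.push f).map φ) p x) = Sheaf.H.map φ p (edge f F p x) := by
  rw [H_map_apply, H_map_apply, edge_apply, edge_apply, Ext.mapExactFunctor_comp,
    Ext.mapExactFunctor_mk₀]
  simp only [Ext.comp_assoc_of_third_deg_zero, Ext.mk₀_comp_mk₀]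
  congr 3
  exact (invPushAdj f).counit.naturality φ

/-- The morphism of short complexes given by the counit. -/
noncomputable def counitSC (S : ShortComplex (CohTop.Ab X)) :
    (S.map (CohTop.push f)).map (inv f) ⟶ S where
  τ₁ := (invPushAdj f).counit.app S.X₁
  τ₂ := (invPushAdj f).counit.app S.X₂
  τ₃ := (invPushAdj f).counit.app S.X₃
  comm₁₂ := ((invPushAdj f).counit.naturality S.f).symm
  comm₂₃ := ((invPushAdj f).counit.naturality S.g).symm

lemma edge_comp_aux {A B : CohTop.Ab X} (p : ℕ) (x : Sheaf.H ((CohTop.push f).obj A) p)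
    (y : Ext ((CohTop.push f).obj A) ((CohTop.push f).obj B) 1) (z : Ext A B 1)
    (h : (y.mapExactFunctor (inv f)).comp (Ext.mk₀ ((invPushAdj f).counit.app B)) (add_zero 1) =
      (Ext.mk₀ ((invPushAdj f).counit.app A)).comp z (zero_add 1)) :
    edge f B (p + 1) (x.comp y rfl) = (edge f A p x).comp z rfl := by
  rw [edge_apply, edge_apply, Ext.mapExactFunctor_comp]
  rw [Ext.comp_assoc (a₁ := 0) (a₂ := p + 1) (a₃ := 0) _ _ _ (zero_add _) (add_zero _)
      (by omega),
    Ext.comp_assoc (a₁ := p) (a₂ := 1) (a₃ := 0) _ _ _ rfl (add_zero _) (by omega), h,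
    Ext.comp_assoc (a₁ := 0) (a₂ := p) (a₃ := 0) _ _ _ (zero_add _) (add_zero _) (by omega),
    Ext.comp_assoc (a₁ := 0) (a₂ := p) (a₃ := 1) _ _ _ (zero_add _) rfl (by omega)]
  congr 1
  rw [Ext.comp_assoc (a₁ := p) (a₂ := 0) (a₃ := 1) _ _ _ (add_zero _) (zero_add _) (by omega)]

/-- Compatibility of the edge map with connecting homomorphisms. -/
lemma edge_extClass {S : ShortComplex (CohTop.Ab X)} (hS : S.ShortExact)
    (hS' : (S.map (CohTop.push f)).ShortExact) (p : ℕ)
    (x : Sheaf.H ((CohTop.push f).obj S.X₃) p) :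
    edge f S.X₁ (p + 1) (x.comp hS'.extClass rfl) = (edge f S.X₃ p x).comp hS.extClass rfl := by
  refine edge_comp_aux f p x hS'.extClass hS.extClass ?_
  have hnat := ShortComplex.ShortExact.extClass_naturality (hS'.map_of_exact (inv f)) hS
    (counitSC f S)
  have h2 := Ext.mapExactFunctor_extClass (inv f) hS'
  exact (congrArg (fun t => t.comp (Ext.mk₀ ((invPushAdj f).counit.app S.X₁)) (add_zero 1))
    h2).trans hnat

/-- In degree `0` the edge map is the identity of `Γ(X, F)` under `Sheaf.H.equiv₀`. -/
lemma equiv₀_edge (F : CohTop.Ab X) (x : Sheaf.H ((CohTop.push f).obj F) 0) :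
    Sheaf.H.equiv₀ F isTerminalTop (edge f F 0 x) =
      Sheaf.H.equiv₀ ((CohTop.push f).obj F) isTerminalTop x := by
  have h1 := Sheaf.H.equiv₀_naturality (hT := isTerminalTop) ((invPushAdj f).counit.app F)
    (pullAb f ((CohTop.push f).obj F) 0 x)
  have h2 := equiv₀_pullAb f ((CohTop.push f).obj F) x
  refine h1.symm.trans ?_
  refine (congrArg (fun t => ((invPushAdj f).counit.app F).hom.app (op ⊤) t) h2).trans ?_
  have tri := (invPushAdj f).right_triangle_components F
  have := congr_arg (fun t => t.hom.app (op ⊤)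
    (Sheaf.H.equiv₀ ((CohTop.push f).obj F) isTerminalTop x)) tri
  exact this

lemma edge_zero_bijective (F : CohTop.Ab X) : Function.Bijective (edge f F 0) := by
  constructor
  · intro x y hxy
    have := congrArg (Sheaf.H.equiv₀ F isTerminalTop) hxy
    rw [equiv₀_edge, equiv₀_edge] at this
    exact (Sheaf.H.equiv₀ ((CohTop.push f).obj F) isTerminalTop).injective this
  · intro z
    refine ⟨(Sheaf.H.equiv₀ ((CohTop.push f).obj F) isTerminalTop).symm
      (Sheaf.H.equiv₀ F isTerminalTop z), ?_⟩
    apply (Sheaf.H.equiv₀ F isTerminalTop).injective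
    rw [equiv₀_edge]
    exact AddEquiv.apply_symm_apply _ _

open Groth.Agent.Lib.Helper16.DimShift Groth.Agent.Lib.Helper16.Flasque in
/-- **Leray, degenerate case, with the natural edge map**: if `R^q f_* F = 0` for all `q > 0`
then the edge map `H^p(Y, f_* F) → H^p(X, F)` is bijective for every `p`. -/
theorem edge_bijective (F : CohTop.Ab X)
    (h : ∀ q : ℕ, IsZero ((CohTop.Rpush f (q + 1)).obj F)) (p : ℕ) :
    Function.Bijective (edge f F p) := by
  have : PreservesFiniteLimits (CohTop.push f) := by
    have : PreservesLimitsOfSize.{0, 0} (CohTop.push f) :=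
      (TopCat.Sheaf.pullbackPushforwardAdjunction AddCommGrpCat.{u} f).rightAdjoint_preservesLimits
    exact PreservesLimitsOfSize.preservesFiniteLimits _
  let I : InjectiveResolution F := Classical.choice (HasInjectiveResolution.out)
  let D := ofResolution I
  have hepi := epi_map_gg I (CohTop.push f) h
  have claim : ∀ p k, Function.Bijective (edge f (D.Z k) p) := by
    intro p
    induction p with
    | zero => intro k; exact edge_zero_bijective f _
    | succ p ih =>
      intro k
      have hS : (ShortComplex.mk (D.f k) (D.g k) (D.w k)).ShortExact := D.hS k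
      have hS' : ((ShortComplex.mk (D.f k) (D.g k) (D.w k)).map (CohTop.push f)).ShortExact :=
        (D.mapOfEpi (CohTop.push f) hepi).hS k
      have : Injective (D.J k) := I.injective k
      have : TopCat.Sheaf.IsFlasque (D.J k) := injective_isFlasque _
      have : TopCat.Sheaf.IsFlasque ((CohTop.push f).obj (D.J k)) :=
        TopCat.Sheaf.IsFlasque.pushforward_isFlasque _ f
      have v1 : ∀ q, Subsingleton (Sheaf.H (D.J k) (q + 1)) := fun q => H_subsingleton _ q
      have v2 : ∀ q, Subsingleton (Sheaf.H ((CohTop.push f).obj (D.J k)) (q + 1)) :=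
        fun q => H_subsingleton _ q
      have hJ : Function.Surjective (edge f (D.J k) p) := by
        cases p with
        | zero => exact (edge_zero_bijective f _).surjective
        | succ q =>
          intro z
          exact ⟨0, @Subsingleton.elim _ (v1 q) _ _⟩
      exact AddMonoidHom.bijective_of_surjective_of_bijective_of_right_exact _ _ _ _
        (edge f (D.J k) p) (edge f (D.Z (k + 1)) p) (edge f (D.Z k) (p + 1))
        (AddMonoidHom.ext fun x => (edge_naturality f (D.g k) p x).symm)
        (AddMonoidHom.ext fun x => (edge_extClass f hS hS' p x).symm)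
        ((ShortComplex.ab_exact_iff_function_exact _).mp
          (Ext.covariant_sequence_exact₃' _ hS' p (p + 1) rfl))
        ((ShortComplex.ab_exact_iff_function_exact _).mp
          (Ext.covariant_sequence_exact₃' _ hS p (p + 1) rfl))
        hJ (ih (k + 1))
        (fun x₁ => Ext.covariant_sequence_exact₁ _ hS' x₁
          (@Subsingleton.elim _ (v2 p) _ _) rfl)
        (fun y₁ => Ext.covariant_sequence_exact₁ _ hS y₁
          (@Subsingleton.elim _ (v1 p) _ _) rfl)
  exact claim p 0

end Groth.Agent.R2.H70.Edge
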