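import Mathlib
import Groth.Prelude.Def_CohPull
import Groth.Agent.R2.H70EdgeAb
import Groth.Agent.Lib.Helper23ModAbBridge
import Groth.Agent.Lib.Helper23PushAcyclic
import Groth.Agent.Lib.Helper23AffOpen2

/-!
# The edge map `CohPull.pushEdge` for O-modules on schemes (helper70)

`pushEdge f G p` is the abelian-sheaf edge map of `R2/H70EdgeAb` for `toAb G`; hence it is bijective
when the higher direct images vanish, in particular for affine `f` and quasi-coherent `G`.
-/

set_option autoImplicit false
universe u

open CategoryTheory CategoryTheory.Limits Abelian TopologicalSpace Opposite AlgebraicGeometry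

namespace Groth.Agent.R2.H70.Edge

open CohPull

variable {X Y : Scheme.{u}} (f : X ⟶ Y)

/-- `theta` followed by the module counit is the counit of `f⁻¹ ⊣ f_*` on abelian sheaves. -/
lemma theta_comp_counit (G : X.Modules) :
    theta f ((Scheme.Modules.pushforward f).obj G) ≫
      (SheafOfModules.toSheaf X.ringCatSheaf).map
        ((Scheme.Modules.pullbackPushforwardAdjunction f).counit.app G) =
      (invPushAdj f.base).counit.app (Coh.toAb G) := by
  have h1 : (SheafOfModules.toSheaf Y.ringCatSheaf).map
        ((Scheme.Modules.pullbackPushforwardAdjunction f).unit.app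
          ((Scheme.Modules.pushforward f).obj G)) ≫
      (CohTop.push f.base).map ((SheafOfModules.toSheaf X.ringCatSheaf).map
        ((Scheme.Modules.pullbackPushforwardAdjunction f).counit.app G)) =
      𝟙 ((CohTop.push f.base).obj (Coh.toAb G)) := by
    have tri := (Scheme.Modules.pullbackPushforwardAdjunction f).right_triangle_components G
    have h2 : (SheafOfModules.toSheaf Y.ringCatSheaf).map
        ((Scheme.Modules.pullbackPushforwardAdjunction f).unit.app
          ((Scheme.Modules.pushforward f).obj G) ≫
        (Scheme.Modules.pushforward f).map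
          ((Scheme.Modules.pullbackPushforwardAdjunction f).counit.app G)) =
        (SheafOfModules.toSheaf Y.ringCatSheaf).map (𝟙 _) :=
      congrArg (fun t => (SheafOfModules.toSheaf Y.ringCatSheaf).map t) tri
    exact ((SheafOfModules.toSheaf Y.ringCatSheaf).map_comp _ _).symm.trans
      (h2.trans ((SheafOfModules.toSheaf Y.ringCatSheaf).map_id _))
  have e1 := ((invPushAdj f.base).homEquiv_naturality_right_symm
    ((SheafOfModules.toSheaf Y.ringCatSheaf).map
        ((Scheme.Modules.pullbackPushforwardAdjunction f).unit.app
          ((Scheme.Modules.pushforward f).obj G)))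
    ((SheafOfModules.toSheaf X.ringCatSheaf).map
        ((Scheme.Modules.pullbackPushforwardAdjunction f).counit.app G))).symm
  refine e1.trans ?_
  refine (congrArg _ h1).trans ?_
  exact (invPushAdj f.base).homEquiv_symm_id (Coh.toAb G)

/-- The prelude's edge map for O-modules is the abelian-sheaf edge map of `toAb G`. -/
lemma pushEdge_apply (G : X.Modules) (p : ℕ)
    (x : Coh.HH Y ((Scheme.Modules.pushforward f).obj G) p) :
    pushEdge f G p x = edge f.base (Coh.toAb G) p x := by
  change Sheaf.H.map ((SheafOfModules.toSheaf X.ringCatSheaf).map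
      ((Scheme.Modules.pullbackPushforwardAdjunction f).counit.app G)) p
    (Sheaf.H.map (theta f ((Scheme.Modules.pushforward f).obj G)) p
      (pullAb f.base (Coh.toAb ((Scheme.Modules.pushforward f).obj G)) p x)) =
    Sheaf.H.map ((invPushAdj f.base).counit.app (Coh.toAb G)) p
      (pullAb f.base ((CohTop.push f.base).obj (Coh.toAb G)) p x)
  rw [← theta_comp_counit]
  exact (Sheaf.H.map_comp_apply _ _ _).symm

/-- Bijectivity of `pushEdge` from vanishing of the abelian higher direct images. -/
theorem pushEdge_bijective_of_RpushAb (G : X.Modules)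
    (h : ∀ q : ℕ, IsZero ((Coh.RpushAb f (q + 1)).obj (Coh.toAb G))) (p : ℕ) :
    Function.Bijective (pushEdge f G p) := by
  have hb := edge_bijective f.base (Coh.toAb G) h p
  have : (pushEdge f G p : Coh.HH Y ((Scheme.Modules.pushforward f).obj G) p → Coh.HH X G p) =
      edge f.base (Coh.toAb G) p := funext (pushEdge_apply f G p)
  rw [this]
  exact hb

/-- `pushEdge` is bijective when the higher direct images (of O-modules) vanish. -/
theorem pushEdge_bijective_of_Rpush [HasInjectiveResolutions X.Modules] (G : X.Modules)
    (hG : ∀ q : ℕ, 0 < q → IsZero ((Coh.Rpush f q).obj G)) (p : ℕ) :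
    Function.Bijective (pushEdge f G p) := by
  refine pushEdge_bijective_of_RpushAb f G (fun q => ?_) p
  obtain ⟨e⟩ := Groth.Agent.Lib.Helper23.ModAbBridge.nonempty_toAb_Rpush_iso f G (q + 1)
  refine IsZero.of_iso ?_ e.symm
  exact (SheafOfModules.toSheaf Y.ringCatSheaf).map_isZero (hG (q + 1) (Nat.succ_pos q))

open Groth.Agent.Lib.Helper23.AffVanish in
/-- `pushEdge` is bijective for an affine morphism and a quasi-coherent module. -/
theorem pushEdge_bijective_of_isAffineHom [IsAffineHom f] (G : X.Modules) [Coh.IsQCoh G]
    (p : ℕ) : Function.Bijective (pushEdge f G p) := by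
  refine pushEdge_bijective_of_RpushAb f G (fun n => ?_) p
  refine isZero_Rpush_of_basis f.base Y.affineOpens Y.isBasis_affineOpens (ab' G) ?_ n
  intro V hV j
  exact subsingleton_HE_of_isAffineOpen (IsAffineOpen.preimage hV f) G j

end Groth.Agent.R2.H70.Edge
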