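import Mathlib
import Groth.Agent.R2.H16CbcFINat
import Groth.Agent.R2.H16CbcFICech
import Groth.Agent.R2.H16CbcProper
import Groth.Agent.R2.H79CechNat
import Groth.Agent.R2.H70EdgeSch
import Groth.Agent.R2.H8CbcG9
import Groth.Agent.Lib.Helper23QCohLocal
import Groth.Agent.R2.H16CbcFin

/-!
# PROJ:cbc / FI — the fibre identification `H^p(X', g'^*F) ≃ H^p(X, F ⊗_A A')` (helper16)

Namespace `Groth.Agent.R2.H16.CbcFI`.
-/

set_option autoImplicit false
set_option linter.style.haveILetI false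
set_option linter.unusedSectionVars false
universe u
open CategoryTheory CategoryTheory.Limits AlgebraicGeometry Opposite TopologicalSpace

namespace Groth.Agent.R2.H16.CbcFI

open Groth.Agent.R2.H11.CbcSpec Groth.Agent.R2.H16.CbcFISec Groth.Agent.R2.H16.CbcFITerm
  Groth.Agent.R2.H16.CbcFINat Groth.Agent.R2.H16.CbcFICech Groth.Agent.Lib.Helper16.CechLow
  Groth.Agent.R2.H16.CbcTerms Groth.Agent.R2.H16.CbcGeom

variable {A A' : Type u} [CommRing A] [CommRing A'] {ρ : A →+* A'}
  {X X' : Scheme.{u}} [X.Over (Spec (CommRingCat.of A))] {g' : X' ⟶ X}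
  {f' : X' ⟶ Spec (CommRingCat.of A')} (F : X.Modules)
  (hc : IsPullback g' f' (X ↘ Spec (CommRingCat.of A)) (Spec.map (CommRingCat.ofHom ρ)))
  [F.IsQuasicoherent]

section cech

variable {ι : Type u} (U : ι → X.Opens)
  (hU : ∀ s : Finset ι, s.Nonempty → IsAffineOpen (⨅ i ∈ s, U i))

/-- the isomorphism of Čech complexes `Č(U, F ⊗_A A') ≅ Č(U, g'_* g'^*(F ⊗_A A))` -/
noncomputable def cechIso : CK U (PP A F (MA' ρ)) ≅ CK U (QQ A g' F) :=
  isoOfFamily U (PP A F (MA' ρ)) (QQ A g' F)
    (fun _ x => (termEquiv F hc (isAffineOpen_Ux hU x)).toAddCommGrpIso) (by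
      intro n x i
      ext y
      exact termEquiv_res F hc _ _ (face U x i) y)

theorem cechIso_equivariant (a' : A') :
    (cechComplexFunctor U).map (μ A ρ F a') ≫ (cechIso F hc U hU).hom =
      (cechIso F hc U hU).hom ≫ (cechComplexFunctor U).map (σ A g' f' F a') := by
  apply HomologicalComplex.hom_ext
  intro n
  refine Pi.hom_ext _ _ (fun (x : Fin (n + 1) → ι) => ?_)
  have h1 : (((cechComplexFunctor U).map (μ A ρ F a')).f n ≫ (cechIso F hc U hU).hom.f n) ≫
      pr U (QQ A g' F) n x =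
      pr U (PP A F (MA' ρ)) n x ≫ (μ A ρ F a').app (op (Ux U x)) ≫
        (termEquiv F hc (isAffineOpen_Ux hU x)).toAddCommGrpIso.hom := by
    rw [Category.assoc]
    erw [isoOfFamily_hom_pr]
    rw [← Category.assoc, Groth.Agent.R2.H79.CechNat.map_pr, Category.assoc]
  have h2 : ((cechIso F hc U hU).hom.f n ≫ ((cechComplexFunctor U).map (σ A g' f' F a')).f n) ≫
      pr U (QQ A g' F) n x =
      pr U (PP A F (MA' ρ)) n x ≫ (termEquiv F hc (isAffineOpen_Ux hU x)).toAddCommGrpIso.hom ≫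
        (σ A g' f' F a').app (op (Ux U x)) := by
    rw [Category.assoc, Groth.Agent.R2.H79.CechNat.map_pr, ← Category.assoc]
    erw [isoOfFamily_hom_pr]
    rw [Category.assoc]
  have h3 : (μ A ρ F a').app (op (Ux U x)) ≫
      (termEquiv F hc (isAffineOpen_Ux hU x)).toAddCommGrpIso.hom =
      (termEquiv F hc (isAffineOpen_Ux hU x)).toAddCommGrpIso.hom ≫
        (σ A g' f' F a').app (op (Ux U x)) := by
    ext y
    exact termEquiv_mulEnd F hc (isAffineOpen_Ux hU x) a' y
  exact h1.trans ((congrArg (fun t => pr U (PP A F (MA' ρ)) n x ≫ t) h3).trans h2.symm)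

end cech

include hc in
/-- **Fibre identification** (general affine base change form): for `X` quasi-compact and separated over
`Spec A`, a cartesian square `X' = X ×_{Spec A} Spec A'` and `F` quasi-coherent on `X`,
`H^p(X', g'^*F) ≃ H^p(X, F ⊗_A A')`, compatibly with the action of `A'` (on the left through
`A' → Γ(X', O)`, on the right by functoriality in the module `A'`). -/
theorem exists_fi [CompactSpace X] [IsSeparated (X ↘ Spec (CommRingCat.of A))] (p : ℕ) :
    ∃ e : Coh.HH X' ((Scheme.Modules.pullback g').obj F) p ≃+ ↑((Tn A F p).obj (MA' ρ)),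
      ∀ (a' : A') (x : Coh.HH X' ((Scheme.Modules.pullback g').obj F) p),
        e (Coh.toGlobal f' a' • x) = ((Tn A F p).map (mulEnd ρ a')).hom (e x) := by
  -- the cover
  have hd : ∀ V W : X.Opens, IsAffineOpen V → IsAffineOpen W → IsAffineOpen (V ⊓ W) :=
    fun V W hV hW => Groth.Agent.R2.H16.CbcProper.isAffineOpen_inf_of_isSeparated
      (X ↘ Spec (CommRingCat.of A)) hV hW
  obtain ⟨t, W, hW, hcov⟩ := Groth.Agent.R2.H16.CbcProper.exists_fin_affine_cover X
  let U : ULift.{u} (Fin t) → X.Opens := fun i => W i.down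
  have hcovU : ⨆ i, U i = ⊤ := by
    rw [← hcov]
    apply le_antisymm
    · exact iSup_le fun i => le_iSup W i.down
    · exact iSup_le fun k => le_iSup U ⟨k⟩
  have hU : ∀ s : Finset (ULift.{u} (Fin t)), s.Nonempty → IsAffineOpen (⨅ i ∈ s, U i) :=
    fun s hs => Groth.Agent.R2.H16.CbcProper.isAffineOpen_biInf hd U (fun i => hW i.down) s hs
  -- the sheaves
  haveI : IsAffineHom g' := isAffineHom_of_isPullback hc
  haveI : (F₁ A F).IsQuasicoherent := Groth.Agent.R2.H16.CbcG2.isQuasicoherent_tensorAFunctor_obj A F _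
  haveI : (G₁ A g' F).IsQuasicoherent :=
    Groth.Agent.Lib.Helper2.PullbackSec.isQuasicoherent_pullback g' (F₁ A F)
  let M : X.Modules := (Scheme.Modules.pushforward g').obj (G₁ A g' F)
  haveI hMq : Coh.IsQCoh M :=
    Groth.Agent.Lib.Helper23.QCohLocal.isQuasicoherent_pushforward g' (G₁ A g' F)
  -- step 1
  obtain ⟨γ⟩ := nonempty_cechC_iso A F hcovU hU (show Coh.IsQCoh F from inferInstance) p
  let β₁ : ↑((Tn A F p).obj (MA' ρ)) ≃+ ↑((CK U (PP A F (MA' ρ))).homology p) :=
    (γ.app (MA' ρ)).symm.addCommGroupIsoToAddEquiv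
  have hβ₁ : ∀ (a' : A') (y : ↑((Tn A F p).obj (MA' ρ))),
      β₁ (((Tn A F p).map (mulEnd ρ a')).hom y) =
        (HomologicalComplex.homologyMap ((cechComplexFunctor U).map (μ A ρ F a')) p).hom (β₁ y) :=
    fun a' y => ConcreteCategory.congr_hom (γ.inv.naturality (mulEnd ρ a')) y
  -- step 2
  let β₂ : ↑((CK U (PP A F (MA' ρ))).homology p) ≃+ ↑((CK U (QQ A g' F)).homology p) :=
    ((HomologicalComplex.homologyFunctor _ _ p).mapIso (cechIso F hc U hU)).addCommGroupIsoToAddEquiv
  have hβ₂ : ∀ (a' : A') (y : ↑((CK U (PP A F (MA' ρ))).homology p)),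
      β₂ ((HomologicalComplex.homologyMap ((cechComplexFunctor U).map (μ A ρ F a')) p).hom y) =
        (HomologicalComplex.homologyMap ((cechComplexFunctor U).map (σ A g' f' F a')) p).hom (β₂ y) := by
    intro a' y
    have h := congrArg (fun φ => HomologicalComplex.homologyMap φ p) (cechIso_equivariant F hc U hU a')
    simp only [HomologicalComplex.homologyMap_comp] at h
    exact ConcreteCategory.congr_hom h y
  -- step 3
  obtain ⟨Φ, hΦ⟩ := Groth.Agent.R2.H79.CechNat.exists_cech_equiv_natural X U hcovU hU M p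
  -- step 4
  have hbij : Function.Bijective (Groth.Agent.R2.H70.Edge.edge g'.base (Coh.toAb (G₁ A g' F)) p) := by
    have hb := Groth.Agent.R2.H70.Edge.pushEdge_bijective_of_isAffineHom g' (G₁ A g' F) p
    have : (CohPull.pushEdge g' (G₁ A g' F) p :
        Coh.HH X ((Scheme.Modules.pushforward g').obj (G₁ A g' F)) p → Coh.HH X' (G₁ A g' F) p) =
        Groth.Agent.R2.H70.Edge.edge g'.base (Coh.toAb (G₁ A g' F)) p :=
      funext (Groth.Agent.R2.H70.Edge.pushEdge_apply g' (G₁ A g' F) p)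
    rw [← this]
    exact hb
  let β₄ : Coh.HH X M p ≃+ Coh.HH X' (G₁ A g' F) p :=
    AddEquiv.ofBijective (Groth.Agent.R2.H70.Edge.edge g'.base (Coh.toAb (G₁ A g' F)) p) hbij
  have hβ₄ : ∀ (a' : A') (y : Coh.HH X M p),
      β₄ (Sheaf.H.map (σSh A g' f' F a') p y) = Coh.toGlobal f' a' • β₄ y := fun a' y =>
    Groth.Agent.R2.H70.Edge.edge_naturality g'.base
      (Coh.smulAb (G₁ A g' F) (Coh.toGlobal f' a')) p y
  -- step 5
  let e9 := Groth.Agent.R2.H8.CbcG9.tensorAFunctorSelfIso A F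
  let ψ := (SheafOfModules.toSheaf X'.ringCatSheaf).map ((Scheme.Modules.pullback g').map e9.hom)
  let ψ' := (SheafOfModules.toSheaf X'.ringCatSheaf).map ((Scheme.Modules.pullback g').map e9.inv)
  have h6 : ψ ≫ ψ' = 𝟙 _ :=
    ((SheafOfModules.toSheaf X'.ringCatSheaf).map_comp _ _).symm.trans
      ((congrArg (SheafOfModules.toSheaf X'.ringCatSheaf).map
        (((Scheme.Modules.pullback g').map_comp _ _).symm.trans
          ((congrArg (Scheme.Modules.pullback g').map e9.hom_inv_id).trans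
            ((Scheme.Modules.pullback g').map_id _)))).trans
        ((SheafOfModules.toSheaf X'.ringCatSheaf).map_id _))
  have h6' : ψ' ≫ ψ = 𝟙 _ :=
    ((SheafOfModules.toSheaf X'.ringCatSheaf).map_comp _ _).symm.trans
      ((congrArg (SheafOfModules.toSheaf X'.ringCatSheaf).map
        (((Scheme.Modules.pullback g').map_comp _ _).symm.trans
          ((congrArg (Scheme.Modules.pullback g').map e9.inv_hom_id).trans
            ((Scheme.Modules.pullback g').map_id _)))).trans
        ((SheafOfModules.toSheaf X'.ringCatSheaf).map_id _))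
  let β₅ : Coh.HH X' (G₁ A g' F) p ≃+ Coh.HH X' ((Scheme.Modules.pullback g').obj F) p :=
    { toFun := fun x => Sheaf.H.map ψ p x
      invFun := fun x => Sheaf.H.map ψ' p x
      left_inv := fun x => by
        have h5 := Sheaf.H.map_comp_apply (n := p) ψ ψ' x
        rw [h6] at h5
        exact h5.symm.trans (Sheaf.H.map_id_apply x)
      right_inv := fun x => by
        have h5 := Sheaf.H.map_comp_apply (n := p) ψ' ψ x
        rw [h6'] at h5
        exact h5.symm.trans (Sheaf.H.map_id_apply x)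
      map_add' := fun x y => map_add _ x y }
  have hβ₅ : ∀ (r : Coh.Γtop X') (y : Coh.HH X' (G₁ A g' F) p), β₅ (r • y) = r • β₅ y := by
    intro r y
    have h2 := Sheaf.H.map_comp_apply (n := p) (Coh.smulAb (G₁ A g' F) r) ψ y
    have h3 := Sheaf.H.map_comp_apply (n := p) ψ
      (Coh.smulAb ((Scheme.Modules.pullback g').obj F) r) y
    have h4 := Groth.Agent.R2.H16.CbcFin.smulAb_comp ((Scheme.Modules.pullback g').map e9.hom) r
    exact h2.symm.trans ((congrArg (fun t => Sheaf.H.map t p y) h4).trans h3)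
  -- assemble
  let β : ↑((Tn A F p).obj (MA' ρ)) ≃+ Coh.HH X' ((Scheme.Modules.pullback g').obj F) p :=
    β₁.trans (β₂.trans (Φ.trans (β₄.trans β₅)))
  have hβ : ∀ (a' : A') (y : ↑((Tn A F p).obj (MA' ρ))),
      β (((Tn A F p).map (mulEnd ρ a')).hom y) = Coh.toGlobal f' a' • β y := by
    intro a' y
    change β₅ (β₄ (Φ (β₂ (β₁ (((Tn A F p).map (mulEnd ρ a')).hom y))))) =
      Coh.toGlobal f' a' • β₅ (β₄ (Φ (β₂ (β₁ y))))
    rw [hβ₁, hβ₂]
    have h3 := hΦ (σSh A g' f' F a') (β₂ (β₁ y))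
    rw [← hβ₅, ← hβ₄, ← h3]
    rfl
  refine ⟨β.symm, fun a' x => ?_⟩
  apply β.injective
  rw [AddEquiv.apply_symm_apply, hβ, AddEquiv.apply_symm_apply]

end Groth.Agent.R2.H16.CbcFI
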