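import Mathlib
import Groth.Agent.R2.H11CbcFIAlg
import Groth.Agent.Lib.Helper3FlatCx
import Groth.Agent.S2375
import Groth.Agent.S2410

/-!
# PROJ:cbc-global / algebra: exact `T_q` ⇒ `H_q(L)` finite projective of rank `dRank L q` (helper11)
-/

set_option autoImplicit false
set_option linter.style.haveILetI false
universe u

open CategoryTheory CategoryTheory.Limits MonoidalCategory TensorProduct

namespace Groth.Agent.R2.H11.CbcGRank

open Groth.Agent.Lib.Helper3 Groth.Agent.R2.H11.CbcFIAlg

variable {A : Type u} [CommRing A]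

theorem finite_homology [IsNoetherianRing A] (L : ChainComplex (ModuleCat.{u} A) ℤ)
    (hL : ∀ i, Module.Finite A (L.X i)) (q : ℤ) : Module.Finite A (L.homology q) := by
  haveI := hL q
  haveI : Module.Finite A (L.opcycles q) := finite_opcycles L q
  haveI : IsNoetherian A (L.opcycles q) := isNoetherian_of_isNoetherianRing_of_finite A _
  exact Module.Finite.of_injective (L.homologyι q).hom
    ((ModuleCat.mono_iff_injective _).mp inferInstance)

/-- if `T_q` is exact then `T_q ≅ H_q(L) ⊗ -` with `H_q(L)` flat -/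
theorem flat_homology_and_iso_of_exact (L : ChainComplex (ModuleCat.{u} A) ℤ)
    (hL : ∀ i, Module.Flat A (L.X i)) (q : ℤ)
    (hex : (CohIII.TFun L q).PreservesMonomorphisms ∧ (CohIII.TFun L q).PreservesEpimorphisms) :
    Module.Flat A (L.homology q) ∧ Nonempty (tensorLeft (L.homology q) ≅ CohIII.TFun L q) := by
  have hrel : (ComplexShape.down ℤ).Rel q (q - 1) := by
    show q - 1 + 1 = q
    ring
  have hWq : Module.Flat A (L.opcycles (q - 1)) :=
    (Groth.Agent.S2410.preservesEpi_iff_flat_opcycles L hL q (q - 1) (by ring)).mp hex.2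
  have := hL (q - 1)
  have hWp : Module.Flat A (L.opcycles q) := (Groth.Agent.S2375.result L hL q).mp hex.1
  have hH : Module.Flat A (L.homology q) :=
    (flat_opcycles_iff_flat_homology L q (q - 1) hrel).mp hWp
  exact ⟨hH, ⟨thetaIso L q (q - 1) hrel⟩⟩

/-- `dRank` of a complex with `T_q ≅ N ⊗ -` is the fibre dimension of `N` -/
theorem dRank_eq_finrank_tensor (L : ChainComplex (ModuleCat.{u} A) ℤ) (q : ℤ)
    (N : ModuleCat.{u} A) (e : tensorLeft N ≅ CohIII.TFun L q) (x : PrimeSpectrum A) :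
    CohIII.dRank L q x =
      Module.finrank x.asIdeal.ResidueField (x.asIdeal.ResidueField ⊗[A] N) := by
  let T : ModuleCat.{u} A ⥤ AddCommGrpCat.{u} :=
    tensorLeft N ⋙ forget₂ (ModuleCat.{u} A) AddCommGrpCat.{u}
  haveI : T.Additive := inferInstance
  let e' : T ≅ CohIII.TFun L q ⋙ forget₂ (ModuleCat.{u} A) AddCommGrpCat.{u} :=
    Functor.isoWhiskerRight e _
  let ψ : (x.asIdeal.ResidueField ⊗[A] N) ≃+ T.obj (ModuleCat.of A x.asIdeal.ResidueField) :=
    (TensorProduct.comm A x.asIdeal.ResidueField N).toAddEquiv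
  refine dRank_eq_finrank_of_addEquiv L q T e' x _ ψ ?_
  intro a n
  induction n using TensorProduct.induction_on with
  | zero => simp
  | tmul z h =>
    have h1 : ψ ((algebraMap A x.asIdeal.ResidueField) a • z ⊗ₜ[A] h) =
        h ⊗ₜ[A] ((algebraMap A x.asIdeal.ResidueField) a * z) := by
      rw [TensorProduct.smul_tmul', smul_eq_mul]
      rfl
    have h2 : (AddCommGrpCat.Hom.hom (T.map (a • 𝟙 (ModuleCat.of A x.asIdeal.ResidueField))))
        (ψ (z ⊗ₜ[A] h)) = h ⊗ₜ[A] (a • z) := rfl
    rw [h1, h2, Algebra.smul_def]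
  | add n₁ n₂ h₁ h₂ =>
    simp only [smul_add, map_add, h₁, h₂]

/-- **(G-rank)** -/
theorem grank [IsNoetherianRing A] (L : ChainComplex (ModuleCat.{u} A) ℤ)
    (hL : ∀ i, Module.Finite A (L.X i) ∧ Module.Flat A (L.X i)) (q : ℤ)
    (hex : (CohIII.TFun L q).PreservesMonomorphisms ∧ (CohIII.TFun L q).PreservesEpimorphisms) :
    Module.Finite A (L.homology q) ∧ Module.Flat A (L.homology q) ∧
      ∀ x : PrimeSpectrum A, Module.rankAtStalk (L.homology q) x = CohIII.dRank L q x := by
  have hfin := finite_homology L (fun i => (hL i).1) q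
  obtain ⟨hflat, ⟨e⟩⟩ := flat_homology_and_iso_of_exact L (fun i => (hL i).2) q hex
  refine ⟨hfin, hflat, fun x => ?_⟩
  rw [dRank_eq_finrank_tensor L q _ e x]
  exact Module.rankAtStalk_eq x

end Groth.Agent.R2.H11.CbcGRank
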