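import Mathlib

/-!
# Localisation and the five lemma; `Ext`-groups with coefficients in an object with a ring action
-/

set_option autoImplicit false
universe w v u
open CategoryTheory CategoryTheory.Limits Abelian

namespace Groth.Agent.R2.H1.ExtLoc

section Alg

variable {R : Type*} [CommRing R] (S : Submonoid R)

/-- units act bijectively on the middle term of an exact sequence if they do so on the outer ones -/
lemma isUnit_end_of_five
    {N₁ N₂ N₃ N₄ N₅ : Type*}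
    [AddCommGroup N₁] [AddCommGroup N₂] [AddCommGroup N₃] [AddCommGroup N₄] [AddCommGroup N₅]
    [Module R N₁] [Module R N₂] [Module R N₃] [Module R N₄] [Module R N₅]
    (g₁ : N₁ →ₗ[R] N₂) (g₂ : N₂ →ₗ[R] N₃) (g₃ : N₃ →ₗ[R] N₄) (g₄ : N₄ →ₗ[R] N₅)
    (hg₁ : Function.Exact g₁ g₂) (hg₂ : Function.Exact g₂ g₃) (hg₃ : Function.Exact g₃ g₄)
    (s : R)
    (h₁ : IsUnit (algebraMap R (Module.End R N₁) s)) (h₂ : IsUnit (algebraMap R (Module.End R N₂) s))
    (h₄ : IsUnit (algebraMap R (Module.End R N₄) s)) (h₅ : IsUnit (algebraMap R (Module.End R N₅) s)) :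
    IsUnit (algebraMap R (Module.End R N₃) s) := by
  rw [Module.End.isUnit_iff] at h₁ h₂ h₄ h₅ ⊢
  exact LinearMap.bijective_of_surjective_of_bijective_of_bijective_of_injective
    g₁ g₂ g₃ g₄ g₁ g₂ g₃ g₄
    (algebraMap R (Module.End R N₁) s) (algebraMap R (Module.End R N₂) s)
    (algebraMap R (Module.End R N₃) s) (algebraMap R (Module.End R N₄) s)
    (algebraMap R (Module.End R N₅) s)
    (by ext x; simp) (by ext x; simp) (by ext x; simp) (by ext x; simp)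
    hg₁ hg₂ hg₃ hg₁ hg₂ hg₃ h₁.2 h₂ h₄ h₅.1

lemma lift_bijective {M N : Type*} [AddCommGroup M] [AddCommGroup N] [Module R M] [Module R N]
    (i : M →ₗ[R] N) [IsLocalizedModule S i] :
    Function.Bijective (IsLocalizedModule.lift S (LocalizedModule.mkLinearMap S M) i
      (IsLocalizedModule.map_units i)) := by
  have : IsLocalizedModule.lift S (LocalizedModule.mkLinearMap S M) i
      (IsLocalizedModule.map_units i) = (IsLocalizedModule.iso S i).toLinearMap := by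
    apply IsLocalizedModule.ext S (LocalizedModule.mkLinearMap S M) (IsLocalizedModule.map_units i)
    rw [IsLocalizedModule.lift_comp]
    ext x
    simp [IsLocalizedModule.iso_mk_one]
  rw [this]
  exact (IsLocalizedModule.iso S i).bijective

/-- **Five lemma for localisations**: in a commutative ladder with exact rows, if the four outer vertical
maps are localisations at `S`, so is the middle one. -/
theorem isLocalizedModule_of_five
    {M₁ M₂ M₃ M₄ M₅ N₁ N₂ N₃ N₄ N₅ : Type*}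
    [AddCommGroup M₁] [AddCommGroup M₂] [AddCommGroup M₃] [AddCommGroup M₄] [AddCommGroup M₅]
    [AddCommGroup N₁] [AddCommGroup N₂] [AddCommGroup N₃] [AddCommGroup N₄] [AddCommGroup N₅]
    [Module R M₁] [Module R M₂] [Module R M₃] [Module R M₄] [Module R M₅]
    [Module R N₁] [Module R N₂] [Module R N₃] [Module R N₄] [Module R N₅]
    (f₁ : M₁ →ₗ[R] M₂) (f₂ : M₂ →ₗ[R] M₃) (f₃ : M₃ →ₗ[R] M₄) (f₄ : M₄ →ₗ[R] M₅)
    (g₁ : N₁ →ₗ[R] N₂) (g₂ : N₂ →ₗ[R] N₃) (g₃ : N₃ →ₗ[R] N₄) (g₄ : N₄ →ₗ[R] N₅)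
    (i₁ : M₁ →ₗ[R] N₁) (i₂ : M₂ →ₗ[R] N₂) (i₃ : M₃ →ₗ[R] N₃) (i₄ : M₄ →ₗ[R] N₄) (i₅ : M₅ →ₗ[R] N₅)
    (hc₁ : g₁.comp i₁ = i₂.comp f₁) (hc₂ : g₂.comp i₂ = i₃.comp f₂)
    (hc₃ : g₃.comp i₃ = i₄.comp f₃) (hc₄ : g₄.comp i₄ = i₅.comp f₄)
    (hf₁ : Function.Exact f₁ f₂) (hf₂ : Function.Exact f₂ f₃) (hf₃ : Function.Exact f₃ f₄)
    (hg₁ : Function.Exact g₁ g₂) (hg₂ : Function.Exact g₂ g₃) (hg₃ : Function.Exact g₃ g₄)
    [IsLocalizedModule S i₁] [IsLocalizedModule S i₂] [IsLocalizedModule S i₄]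
    [IsLocalizedModule S i₅] :
    IsLocalizedModule S i₃ := by
  have hu₃ : ∀ s : S, IsUnit (algebraMap R (Module.End R N₃) s) := fun s =>
    isUnit_end_of_five g₁ g₂ g₃ g₄ hg₁ hg₂ hg₃ s
      (IsLocalizedModule.map_units i₁ s) (IsLocalizedModule.map_units i₂ s)
      (IsLocalizedModule.map_units i₄ s) (IsLocalizedModule.map_units i₅ s)
  -- the localised top row
  let ℓ₁ := LocalizedModule.mkLinearMap S M₁
  let ℓ₂ := LocalizedModule.mkLinearMap S M₂
  let ℓ₃ := LocalizedModule.mkLinearMap S M₃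
  let ℓ₄ := LocalizedModule.mkLinearMap S M₄
  let ℓ₅ := LocalizedModule.mkLinearMap S M₅
  let F₁ := IsLocalizedModule.map S ℓ₁ ℓ₂ f₁
  let F₂ := IsLocalizedModule.map S ℓ₂ ℓ₃ f₂
  let F₃ := IsLocalizedModule.map S ℓ₃ ℓ₄ f₃
  let F₄ := IsLocalizedModule.map S ℓ₄ ℓ₅ f₄
  have hF₁ : Function.Exact F₁ F₂ := IsLocalizedModule.map_exact S ℓ₁ ℓ₂ ℓ₃ f₁ f₂ hf₁
  have hF₂ : Function.Exact F₂ F₃ := IsLocalizedModule.map_exact S ℓ₂ ℓ₃ ℓ₄ f₂ f₃ hf₂
  have hF₃ : Function.Exact F₃ F₄ := IsLocalizedModule.map_exact S ℓ₃ ℓ₄ ℓ₅ f₃ f₄ hf₃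
  -- comparison maps
  let k₁ := IsLocalizedModule.lift S ℓ₁ i₁ (IsLocalizedModule.map_units i₁)
  let k₂ := IsLocalizedModule.lift S ℓ₂ i₂ (IsLocalizedModule.map_units i₂)
  let k₃ := IsLocalizedModule.lift S ℓ₃ i₃ hu₃
  let k₄ := IsLocalizedModule.lift S ℓ₄ i₄ (IsLocalizedModule.map_units i₄)
  let k₅ := IsLocalizedModule.lift S ℓ₅ i₅ (IsLocalizedModule.map_units i₅)
  have hk₁ : k₁.comp ℓ₁ = i₁ := IsLocalizedModule.lift_comp S ℓ₁ i₁ _
  have hk₂ : k₂.comp ℓ₂ = i₂ := IsLocalizedModule.lift_comp S ℓ₂ i₂ _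
  have hk₃ : k₃.comp ℓ₃ = i₃ := IsLocalizedModule.lift_comp S ℓ₃ i₃ _
  have hk₄ : k₄.comp ℓ₄ = i₄ := IsLocalizedModule.lift_comp S ℓ₄ i₄ _
  have hk₅ : k₅.comp ℓ₅ = i₅ := IsLocalizedModule.lift_comp S ℓ₅ i₅ _
  have hFℓ₁ : F₁.comp ℓ₁ = ℓ₂.comp f₁ := IsLocalizedModule.map_comp S ℓ₁ ℓ₂ f₁
  have hFℓ₂ : F₂.comp ℓ₂ = ℓ₃.comp f₂ := IsLocalizedModule.map_comp S ℓ₂ ℓ₃ f₂
  have hFℓ₃ : F₃.comp ℓ₃ = ℓ₄.comp f₃ := IsLocalizedModule.map_comp S ℓ₃ ℓ₄ f₃
  have hFℓ₄ : F₄.comp ℓ₄ = ℓ₅.comp f₄ := IsLocalizedModule.map_comp S ℓ₄ ℓ₅ f₄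
  have sq₁ : g₁.comp k₁ = k₂.comp F₁ := by
    apply IsLocalizedModule.ext S ℓ₁ (IsLocalizedModule.map_units i₂)
    rw [LinearMap.comp_assoc, hk₁, LinearMap.comp_assoc, hFℓ₁, ← LinearMap.comp_assoc, hk₂, hc₁]
  have sq₂ : g₂.comp k₂ = k₃.comp F₂ := by
    apply IsLocalizedModule.ext S ℓ₂ hu₃
    rw [LinearMap.comp_assoc, hk₂, LinearMap.comp_assoc, hFℓ₂, ← LinearMap.comp_assoc, hk₃, hc₂]
  have sq₃ : g₃.comp k₃ = k₄.comp F₃ := by
    apply IsLocalizedModule.ext S ℓ₃ (IsLocalizedModule.map_units i₄)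
    rw [LinearMap.comp_assoc, hk₃, LinearMap.comp_assoc, hFℓ₃, ← LinearMap.comp_assoc, hk₄, hc₃]
  have sq₄ : g₄.comp k₄ = k₅.comp F₄ := by
    apply IsLocalizedModule.ext S ℓ₄ (IsLocalizedModule.map_units i₅)
    rw [LinearMap.comp_assoc, hk₄, LinearMap.comp_assoc, hFℓ₄, ← LinearMap.comp_assoc, hk₅, hc₄]
  have hbij₃ : Function.Bijective k₃ :=
    LinearMap.bijective_of_surjective_of_bijective_of_bijective_of_injective
      F₁ F₂ F₃ F₄ g₁ g₂ g₃ g₄ k₁ k₂ k₃ k₄ k₅ sq₁ sq₂ sq₃ sq₄ hF₁ hF₂ hF₃ hg₁ hg₂ hg₃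
      (lift_bijective S i₁).2 (lift_bijective S i₂) (lift_bijective S i₄) (lift_bijective S i₅).1
  rw [← hk₃]
  exact IsLocalizedModule.of_linearEquiv S ℓ₃ (LinearEquiv.ofBijective k₃ hbij₃)

instance isLocalizedModule_punit : IsLocalizedModule S (0 : PUnit.{1} →ₗ[R] PUnit.{1}) where
  map_units _ := isUnit_of_subsingleton _
  surj _ := ⟨⟨PUnit.unit, 1⟩, Subsingleton.elim _ _⟩
  exists_of_eq _ := ⟨1, Subsingleton.elim _ _⟩

/-- left exact version of the five lemma for localisations -/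
theorem isLocalizedModule_of_left_exact
    {M₃ M₄ M₅ N₃ N₄ N₅ : Type*}
    [AddCommGroup M₃] [AddCommGroup M₄] [AddCommGroup M₅]
    [AddCommGroup N₃] [AddCommGroup N₄] [AddCommGroup N₅]
    [Module R M₃] [Module R M₄] [Module R M₅]
    [Module R N₃] [Module R N₄] [Module R N₅]
    (f₃ : M₃ →ₗ[R] M₄) (f₄ : M₄ →ₗ[R] M₅)
    (g₃ : N₃ →ₗ[R] N₄) (g₄ : N₄ →ₗ[R] N₅)
    (i₃ : M₃ →ₗ[R] N₃) (i₄ : M₄ →ₗ[R] N₄) (i₅ : M₅ →ₗ[R] N₅)
    (hc₃ : g₃.comp i₃ = i₄.comp f₃) (hc₄ : g₄.comp i₄ = i₅.comp f₄)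
    (hf : Function.Injective f₃) (hf₃ : Function.Exact f₃ f₄)
    (hg : Function.Injective g₃) (hg₃ : Function.Exact g₃ g₄)
    [IsLocalizedModule S i₄] [IsLocalizedModule S i₅] :
    IsLocalizedModule S i₃ := by
  refine isLocalizedModule_of_five S (0 : PUnit.{1} →ₗ[R] PUnit.{1}) (0 : PUnit.{1} →ₗ[R] M₃) f₃ f₄
    (0 : PUnit.{1} →ₗ[R] PUnit.{1}) (0 : PUnit.{1} →ₗ[R] N₃) g₃ g₄
    (0 : PUnit.{1} →ₗ[R] PUnit.{1}) (0 : PUnit.{1} →ₗ[R] PUnit.{1}) i₃ i₄ i₅
    (by ext) (by ext; simp) hc₃ hc₄ ?_ ?_ hf₃ ?_ ?_ hg₃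
  · intro x
    constructor
    · intro _; exact ⟨PUnit.unit, Subsingleton.elim _ _⟩
    · intro _; rfl
  · intro x
    constructor
    · intro hx
      have : x = 0 := hf (by rw [hx, map_zero])
      exact ⟨PUnit.unit, by rw [this]; rfl⟩
    · rintro ⟨_, rfl⟩
      simp
  · intro x
    constructor
    · intro _; exact ⟨PUnit.unit, Subsingleton.elim _ _⟩
    · intro _; rfl
  · intro x
    constructor
    · intro hx
      have : x = 0 := hg (by rw [hx, map_zero])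
      exact ⟨PUnit.unit, by rw [this]; rfl⟩
    · rintro ⟨_, rfl⟩
      simp

end Alg

section Ext

variable {C : Type u} [Category.{v} C] [Abelian C] [HasExt.{w} C]

/-- A coefficient object: an object `F` of an abelian category with a commutative ring `R` acting on it. -/
structure Coeff (C : Type u) [Category.{v} C] [Abelian C] (R : Type*) [CommRing R] where
  /-- the object -/
  F : C
  /-- the action -/
  ρ : R →+* End F

variable {R : Type*} [CommRing R] (K : Coeff C R)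

/-- `Ext^n(A, F)` as an `R`-module -/
def ExtR (A : C) (n : ℕ) : Type w := Ext.{w} A K.F n

noncomputable instance (A : C) (n : ℕ) : AddCommGroup (ExtR K A n) :=
  inferInstanceAs (AddCommGroup (Ext.{w} A K.F n))

variable {K} in
/-- the underlying `Ext`-class -/
def ExtR.out {A : C} {n : ℕ} (x : ExtR K A n) : Ext.{w} A K.F n := x

variable {K} in
/-- an `Ext`-class as an element of `ExtR` -/
def ExtR.mk {A : C} {n : ℕ} (x : Ext.{w} A K.F n) : ExtR K A n := x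

section
variable {K}
@[simp] lemma ExtR.out_mk {A : C} {n : ℕ} (x : Ext.{w} A K.F n) : (ExtR.mk (K := K) x).out = x := rfl
@[simp] lemma ExtR.mk_out {A : C} {n : ℕ} (x : ExtR K A n) : ExtR.mk x.out = x := rfl
lemma ExtR.out_add {A : C} {n : ℕ} (x y : ExtR K A n) : (x + y).out = x.out + y.out := rfl
lemma ExtR.out_zero {A : C} {n : ℕ} : (0 : ExtR K A n).out = 0 := rfl
lemma ExtR.mk_add {A : C} {n : ℕ} (x y : Ext.{w} A K.F n) :
    ExtR.mk (K := K) (x + y) = ExtR.mk x + ExtR.mk y := rfl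
lemma ExtR.mk_zero {A : C} {n : ℕ} : ExtR.mk (K := K) (0 : Ext.{w} A K.F n) = 0 := rfl
lemma ExtR.ext_out {A : C} {n : ℕ} {x y : ExtR K A n} (h : x.out = y.out) : x = y := h
end

noncomputable instance (A : C) (n : ℕ) : SMul R (ExtR K A n) where
  smul r x := ExtR.mk (x.out.comp (Ext.mk₀ (K.ρ r)) (add_zero n))

lemma smul_def {A : C} {n : ℕ} (r : R) (x : ExtR K A n) :
    r • x = ExtR.mk (x.out.comp (Ext.mk₀ (K.ρ r)) (add_zero n)) := rfl

noncomputable instance (A : C) (n : ℕ) : Module R (ExtR K A n) where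
  one_smul x := by
    rw [smul_def, map_one]
    exact Ext.comp_mk₀_id _
  mul_smul r s x := by
    rw [smul_def, smul_def, smul_def, map_mul, End.mul_def, ← Ext.mk₀_comp_mk₀]
    apply ExtR.ext_out
    simp only [ExtR.out_mk]
    rw [Ext.comp_assoc _ _ _ (add_zero n) (add_zero 0) (by omega)]
  smul_zero r := by
    rw [smul_def, ExtR.out_zero, Ext.zero_comp]
    rfl
  smul_add r x y := by
    rw [smul_def, smul_def, smul_def, ExtR.out_add, Ext.add_comp]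
    rfl
  add_smul r s x := by
    rw [smul_def, smul_def, smul_def, map_add, Ext.mk₀_add, Ext.comp_add]
    rfl
  zero_smul x := by
    rw [smul_def, map_zero, Ext.mk₀_zero, Ext.comp_zero]
    rfl

/-- precomposition with an `Ext`-class, as an `R`-linear map -/
noncomputable def pre {A' A : C} {m : ℕ} (e : Ext.{w} A' A m) {n n' : ℕ} (h : m + n = n') :
    ExtR K A n →ₗ[R] ExtR K A' n' where
  toFun x := ExtR.mk (e.comp x.out h)
  map_add' x y := by
    rw [ExtR.out_add, Ext.comp_add]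
    rfl
  map_smul' r x := by
    rw [smul_def, smul_def]
    apply ExtR.ext_out
    simp only [ExtR.out_mk, RingHom.id_apply]
    rw [Ext.comp_assoc _ _ _ h (add_zero n) (by omega)]

lemma pre_apply {A' A : C} {m : ℕ} (e : Ext.{w} A' A m) {n n' : ℕ} (h : m + n = n')
    (x : ExtR K A n) : pre K e h x = ExtR.mk (e.comp x.out h) := rfl

/-- restriction along a morphism -/
noncomputable abbrev res {A' A : C} (g : A' ⟶ A) (n : ℕ) : ExtR K A n →ₗ[R] ExtR K A' n :=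
  pre K (Ext.mk₀ g) (zero_add n)

lemma res_comp {A'' A' A : C} (g' : A'' ⟶ A') (g : A' ⟶ A) (n : ℕ) :
    res K (g' ≫ g) n = (res K g' n).comp (res K g n) := by
  ext x
  apply ExtR.ext_out
  change (Ext.mk₀ (g' ≫ g)).comp x.out (zero_add n) =
    (Ext.mk₀ g').comp ((Ext.mk₀ g).comp x.out (zero_add n)) (zero_add n)
  rw [Ext.mk₀_comp_mk₀_assoc]

lemma res_id (A : C) (n : ℕ) : res K (𝟙 A) n = LinearMap.id := by
  ext x
  exact Ext.mk₀_id_comp _

/-- a morphism `g : A' ⟶ A` is `S`-localising for `K` if all maps `Ext^n(A, F) → Ext^n(A', F)` are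
localisations at `S` -/
def IsLoc (S : Submonoid R) {A' A : C} (g : A' ⟶ A) : Prop :=
  ∀ n : ℕ, IsLocalizedModule S (res K g n)

section LES

variable {K}
variable {T : ShortComplex C} (hT : T.ShortExact)

/-- the connecting map -/
noncomputable abbrev δ (m : ℕ) : ExtR K T.X₁ m →ₗ[R] ExtR K T.X₃ (m + 1) :=
  pre K hT.extClass (add_comm 1 m)

include hT in
lemma exact_res_g_res_f (n : ℕ) : Function.Exact (res K T.g n) (res K T.f n) := by
  intro y
  constructor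
  · intro hy
    obtain ⟨x, hx⟩ := Ext.contravariant_sequence_exact₂ hT K.F y.out hy
    exact ⟨ExtR.mk x, hx⟩
  · rintro ⟨x, rfl⟩
    apply ExtR.ext_out
    change (Ext.mk₀ T.f).comp ((Ext.mk₀ T.g).comp x.out (zero_add n)) (zero_add n) = 0
    rw [Ext.mk₀_comp_mk₀_assoc, T.zero, Ext.mk₀_zero, Ext.zero_comp]

lemma exact_res_f_δ (m : ℕ) : Function.Exact (res K T.f m) (δ (K := K) hT m) := by
  intro y
  constructor
  · intro hy
    obtain ⟨x, hx⟩ := Ext.contravariant_sequence_exact₁ hT K.F y.out (add_comm 1 m) hy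
    exact ⟨ExtR.mk x, hx⟩
  · rintro ⟨x, rfl⟩
    apply ExtR.ext_out
    change hT.extClass.comp ((Ext.mk₀ T.f).comp x.out (zero_add m)) (add_comm 1 m) = 0
    exact hT.extClass_comp_assoc _

lemma exact_δ_res_g (m : ℕ) : Function.Exact (δ (K := K) hT m) (res K T.g (m + 1)) := by
  intro y
  constructor
  · intro hy
    obtain ⟨x, hx⟩ := Ext.contravariant_sequence_exact₃ hT K.F y.out hy (add_comm 1 m)
    exact ⟨ExtR.mk x, hx⟩
  · rintro ⟨x, rfl⟩
    apply ExtR.ext_out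
    change (Ext.mk₀ T.g).comp (hT.extClass.comp x.out (add_comm 1 m)) (zero_add (m + 1)) = 0
    exact hT.comp_extClass_assoc _ _

include hT in
lemma injective_res_g_zero : Function.Injective (res K T.g 0) := by
  have := hT.epi_g
  exact Ext.precomp_mk₀_injective_of_epi K.F T.g

variable {T' : ShortComplex C} (hT' : T'.ShortExact) (φ : T' ⟶ T)

lemma δ_naturality (m : ℕ) :
    (δ (K := K) hT' m).comp (res K φ.τ₁ m) = (res K φ.τ₃ (m + 1)).comp (δ (K := K) hT m) := by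
  ext x
  apply ExtR.ext_out
  change hT'.extClass.comp ((Ext.mk₀ φ.τ₁).comp x.out (zero_add m)) (add_comm 1 m) =
    (Ext.mk₀ φ.τ₃).comp (hT.extClass.comp x.out (add_comm 1 m)) (zero_add (m + 1))
  rw [← Ext.comp_assoc _ _ _ (add_zero 1) (zero_add m) (by omega),
    ShortComplex.ShortExact.extClass_naturality hT' hT φ,
    Ext.comp_assoc _ _ _ (zero_add 1) (add_comm 1 m) (by omega)]

include hT hT' in
/-- **two out of three** for localising morphisms in short exact sequences -/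
theorem IsLoc.τ₃ (S : Submonoid R) (h₁ : IsLoc K S φ.τ₁) (h₂ : IsLoc K S φ.τ₂) :
    IsLoc K S φ.τ₃ := by
  have c₁₂ : ∀ n, (res K T'.f n).comp (res K φ.τ₂ n) = (res K φ.τ₁ n).comp (res K T.f n) := by
    intro n
    rw [← res_comp, ← res_comp, φ.comm₁₂]
  have c₂₃ : ∀ n, (res K T'.g n).comp (res K φ.τ₃ n) = (res K φ.τ₂ n).comp (res K T.g n) := by
    intro n
    rw [← res_comp, ← res_comp, φ.comm₂₃]
  intro n
  cases n with
  | zero =>
    have := h₂ 0
    have := h₁ 0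
    exact isLocalizedModule_of_left_exact S (res K T.g 0) (res K T.f 0) (res K T'.g 0) (res K T'.f 0)
      (res K φ.τ₃ 0) (res K φ.τ₂ 0) (res K φ.τ₁ 0) (c₂₃ 0) (c₁₂ 0)
      (injective_res_g_zero hT) (exact_res_g_res_f hT 0)
      (injective_res_g_zero hT') (exact_res_g_res_f hT' 0)
  | succ m =>
    have := h₂ m
    have := h₁ m
    have := h₂ (m + 1)
    have := h₁ (m + 1)
    exact isLocalizedModule_of_five S
      (res K T.f m) (δ hT m) (res K T.g (m + 1)) (res K T.f (m + 1))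
      (res K T'.f m) (δ hT' m) (res K T'.g (m + 1)) (res K T'.f (m + 1))
      (res K φ.τ₂ m) (res K φ.τ₁ m) (res K φ.τ₃ (m + 1)) (res K φ.τ₂ (m + 1)) (res K φ.τ₁ (m + 1))
      (c₁₂ m) (δ_naturality hT hT' φ m) (c₂₃ (m + 1)) (c₁₂ (m + 1))
      (exact_res_f_δ hT m) (exact_δ_res_g hT m) (exact_res_g_res_f hT (m + 1))
      (exact_res_f_δ hT' m) (exact_δ_res_g hT' m) (exact_res_g_res_f hT' (m + 1))

include hT hT' in
/-- **two out of three** for localising morphisms in short exact sequences, middle term -/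
theorem IsLoc.τ₂ (S : Submonoid R) (h₁ : IsLoc K S φ.τ₁) (h₃ : IsLoc K S φ.τ₃) :
    IsLoc K S φ.τ₂ := by
  have c₁₂ : ∀ n, (res K T'.f n).comp (res K φ.τ₂ n) = (res K φ.τ₁ n).comp (res K T.f n) := by
    intro n
    rw [← res_comp, ← res_comp, φ.comm₁₂]
  have c₂₃ : ∀ n, (res K T'.g n).comp (res K φ.τ₃ n) = (res K φ.τ₂ n).comp (res K T.g n) := by
    intro n
    rw [← res_comp, ← res_comp, φ.comm₂₃]
  intro n
  cases n with
  | zero =>
    have := h₃ 0
    have := h₁ 0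
    have := h₃ 1
    refine isLocalizedModule_of_five S
      (0 : PUnit.{1} →ₗ[R] ExtR K T.X₃ 0) (res K T.g 0) (res K T.f 0) (δ hT 0)
      (0 : PUnit.{1} →ₗ[R] ExtR K T'.X₃ 0) (res K T'.g 0) (res K T'.f 0) (δ hT' 0)
      (0 : PUnit.{1} →ₗ[R] PUnit.{1}) (res K φ.τ₃ 0) (res K φ.τ₂ 0) (res K φ.τ₁ 0) (res K φ.τ₃ 1)
      (by ext; simp) (c₂₃ 0) (c₁₂ 0) (δ_naturality hT hT' φ 0)
      ?_ (exact_res_g_res_f hT 0) (exact_res_f_δ hT 0)
      ?_ (exact_res_g_res_f hT' 0) (exact_res_f_δ hT' 0)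
    · intro x
      constructor
      · intro hx
        have : x = 0 := injective_res_g_zero hT (by rw [hx, map_zero])
        exact ⟨PUnit.unit, by rw [this]; rfl⟩
      · rintro ⟨_, rfl⟩
        simp
    · intro x
      constructor
      · intro hx
        have : x = 0 := injective_res_g_zero hT' (by rw [hx, map_zero])
        exact ⟨PUnit.unit, by rw [this]; rfl⟩
      · rintro ⟨_, rfl⟩
        simp
  | succ m =>
    have := h₁ m
    have := h₃ (m + 1)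
    have := h₁ (m + 1)
    have := h₃ (m + 1 + 1)
    exact isLocalizedModule_of_five S
      (δ hT m) (res K T.g (m + 1)) (res K T.f (m + 1)) (δ hT (m + 1))
      (δ hT' m) (res K T'.g (m + 1)) (res K T'.f (m + 1)) (δ hT' (m + 1))
      (res K φ.τ₁ m) (res K φ.τ₃ (m + 1)) (res K φ.τ₂ (m + 1)) (res K φ.τ₁ (m + 1))
      (res K φ.τ₃ (m + 1 + 1))
      (δ_naturality hT hT' φ m) (c₂₃ (m + 1)) (c₁₂ (m + 1)) (δ_naturality hT hT' φ (m + 1))
      (exact_δ_res_g hT m) (exact_res_g_res_f hT (m + 1)) (exact_res_f_δ hT (m + 1))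
      (exact_δ_res_g hT' m) (exact_res_g_res_f hT' (m + 1)) (exact_res_f_δ hT' (m + 1))

end LES

/-- localising morphisms are stable under binary biproducts -/
theorem IsLoc.biprod_map {K : Coeff C R} (S : Submonoid R) {A₁' A₁ A₂' A₂ : C} {g₁ : A₁' ⟶ A₁}
    {g₂ : A₂' ⟶ A₂} (h₁ : IsLoc K S g₁) (h₂ : IsLoc K S g₂) : IsLoc K S (biprod.map g₁ g₂) := by
  let T' : ShortComplex C := ShortComplex.mk (biprod.inl : A₁' ⟶ A₁' ⊞ A₂') biprod.snd (by simp)
  let T : ShortComplex C := ShortComplex.mk (biprod.inl : A₁ ⟶ A₁ ⊞ A₂) biprod.snd (by simp)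
  have hT' : T'.ShortExact := (ShortComplex.Splitting.ofHasBinaryBiproduct A₁' A₂').shortExact
  have hT : T.ShortExact := (ShortComplex.Splitting.ofHasBinaryBiproduct A₁ A₂).shortExact
  let φ : T' ⟶ T :=
    { τ₁ := g₁
      τ₂ := biprod.map g₁ g₂
      τ₃ := g₂
      comm₁₂ := by simp [T, T']
      comm₂₃ := by simp [T, T'] }
  exact IsLoc.τ₂ hT hT' φ S h₁ h₂

/-- a morphism between objects with vanishing `Ext`-groups is localising in that degree -/
lemma isLocalizedModule_of_subsingleton {R : Type*} [CommRing R] (S : Submonoid R)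
    {M N : Type*} [AddCommGroup M] [AddCommGroup N] [Module R M] [Module R N]
    [Subsingleton M] [Subsingleton N] (f : M →ₗ[R] N) : IsLocalizedModule S f where
  map_units _ := isUnit_of_subsingleton _
  surj _ := ⟨⟨0, 1⟩, Subsingleton.elim _ _⟩
  exists_of_eq _ := ⟨1, Subsingleton.elim _ _⟩

/-- Mayer–Vietoris form of two-out-of-three: for a morphism between two "Mayer–Vietoris" short exact
sequences `0 → A₁ → A₂ ⊞ A₃ → A₄ → 0`, if the components at `A₁`, `A₂`, `A₃` are localising then so is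
the component at `A₄`. -/
theorem IsLoc.of_mv {K : Coeff C R} (S : Submonoid R)
    {A₁ A₂ A₃ A₄ A₁' A₂' A₃' A₄' : C}
    (a : A₁ ⟶ A₂) (b : A₁ ⟶ A₃) (c : A₂ ⟶ A₄) (d : A₃ ⟶ A₄)
    (a' : A₁' ⟶ A₂') (b' : A₁' ⟶ A₃') (c' : A₂' ⟶ A₄') (d' : A₃' ⟶ A₄')
    (w : biprod.lift a (-b) ≫ biprod.desc c d = 0)
    (w' : biprod.lift a' (-b') ≫ biprod.desc c' d' = 0)
    (hT : (ShortComplex.mk (biprod.lift a (-b)) (biprod.desc c d) w).ShortExact)
    (hT' : (ShortComplex.mk (biprod.lift a' (-b')) (biprod.desc c' d') w').ShortExact)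
    (t₁ : A₁' ⟶ A₁) (t₂ : A₂' ⟶ A₂) (t₃ : A₃' ⟶ A₃) (t₄ : A₄' ⟶ A₄)
    (ha : a' ≫ t₂ = t₁ ≫ a) (hb : b' ≫ t₃ = t₁ ≫ b) (hc : c' ≫ t₄ = t₂ ≫ c) (hd : d' ≫ t₄ = t₃ ≫ d)
    (h₁ : IsLoc K S t₁) (h₂ : IsLoc K S t₂) (h₃ : IsLoc K S t₃) : IsLoc K S t₄ := by
  let φ : ShortComplex.mk (biprod.lift a' (-b')) (biprod.desc c' d') w' ⟶
      ShortComplex.mk (biprod.lift a (-b)) (biprod.desc c d) w :=
    { τ₁ := t₁
      τ₂ := biprod.map t₂ t₃
      τ₃ := t₄
      comm₁₂ := by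
        apply biprod.hom_ext
        · simp [ha]
        · simp [hb]
      comm₂₃ := by
        apply biprod.hom_ext'
        · simp [hc]
        · simp [hd] }
  exact IsLoc.τ₃ hT hT' φ S h₁ (IsLoc.biprod_map S h₂ h₃)

end Ext

end Groth.Agent.R2.H1.ExtLoc
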