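import Mathlib
import Groth.Agent.R2.H1ExtLoc
import Groth.Agent.Lib.Helper23AffOpen2
import Groth.Agent.S0015

/-!
# Cohomology of an `O_X`-module on opens as modules over the global functions (helper1)

For a quasi-compact open `U` of a quasi-separated scheme `X`, a quasi-coherent module `M` and a global
function `h`, the restriction `H^n(U, M) → H^n(U ∩ X_h, M)` is the localisation at `h`.
-/

set_option autoImplicit false
set_option linter.style.haveILetI false
universe u
open CategoryTheory CategoryTheory.Limits Opposite TopologicalSpace AlgebraicGeometry Abelian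

namespace Groth.Agent.R2.H1.CohLoc

open Groth.Agent.Lib.Helper23.AffVanish Groth.Agent.Lib.Helper6 Groth.Agent.R2.H1.ExtLoc

/-- a named `HasExt` instance (the kernel re-checks the inferred instance term in every declaration
where it occurs, which is slow; a constant is checked once) -/
instance instHasExtAb (X : TopCat.{u}) : HasExt.{u} (CohTop.Ab X) := inferInstance

variable {X : Scheme.{u}} (M : X.Modules)

/-- the coefficient datum: the underlying abelian sheaf of `M` with the action of global functions -/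
noncomputable def coeff : Coeff (CohTop.Ab X.carrier) Γ(X, ⊤) where
  F := ab' M
  ρ :=
    { toFun := fun r => Coh.smulAb M (show Coh.Γtop X from r)
      map_one' := Coh.smulAb_one M
      map_mul' := fun r s => by
        rw [End.mul_def]
        exact Coh.smulAb_mul M r s
      map_zero' := Coh.smulAb_zero M
      map_add' := Coh.smulAb_add M }

/-- `H^n(U, M)` as a module over the global functions -/
def HR (n : ℕ) (U : X.Opens) : Type u := ExtR (coeff M) (ZU U) n

noncomputable instance (n : ℕ) (U : X.Opens) : AddCommGroup (HR M n U) :=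
  show AddCommGroup (ExtR (coeff M) (ZU U) n) from inferInstance

noncomputable instance (n : ℕ) (U : X.Opens) : Module Γ(X, ⊤) (HR M n U) :=
  show Module Γ(X, ⊤) (ExtR (coeff M) (ZU U) n) from inferInstance

/-- restriction maps, linear over the global functions -/
noncomputable def resR (n : ℕ) {U V : X.Opens} (h : V ≤ U) :
    HR M n U →ₗ[Γ(X, ⊤)] HR M n V :=
  Groth.Agent.R2.H1.ExtLoc.res (coeff M) (CohCx.freeSheafMap (J X.carrier) (homOfLE h)) n

lemma resR_resR (n : ℕ) {U V W : X.Opens} (h : V ≤ U) (h' : W ≤ V) (x : HR M n U) :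
    resR M n h' (resR M n h x) = resR M n (h'.trans h) x := by
  have e : CohCx.freeSheafMap (J X.carrier) (homOfLE (h'.trans h)) =
      CohCx.freeSheafMap (J X.carrier) (homOfLE h') ≫ CohCx.freeSheafMap (J X.carrier) (homOfLE h) :=
    CohFree.freeSheafMap_comp (J X.carrier) (homOfLE h') (homOfLE h)
  have := Groth.Agent.R2.H1.ExtLoc.res_comp (coeff M) (CohCx.freeSheafMap (J X.carrier) (homOfLE h'))
    (CohCx.freeSheafMap (J X.carrier) (homOfLE h)) n
  rw [← e] at this
  exact (LinearMap.congr_fun this x).symm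

lemma resR_self (n : ℕ) {U : X.Opens} (x : HR M n U) : resR M n (le_refl U) x = x := by
  have e : CohCx.freeSheafMap (J X.carrier) (homOfLE (le_refl U)) = 𝟙 _ :=
    CohFree.freeSheafMap_id (J X.carrier) U
  have := Groth.Agent.R2.H1.ExtLoc.res_id (coeff M) (ZU U) n
  rw [← e] at this
  exact LinearMap.congr_fun this x

/-- degree zero classes are sections -/
noncomputable def h0R (U : X.Opens) : HR M 0 U ≃+ Γ(M, U) := h0F' M U

lemma h0R_res {U V : X.Opens} (h : V ≤ U) (x : HR M 0 U) :
    h0R M V (resR M 0 h x) = res M h (h0R M U x) := h0F'_res M h x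

lemma h0R_smul (U : X.Opens) (r : Γ(X, ⊤)) (x : HR M 0 U) :
    h0R M U (r • x) = resf (le_top : U ≤ ⊤) r • h0R M U x := by
  have key : ∀ ψ : ZU U ⟶ ab' M, h0F' M U (Ext.mk₀ ψ) = CohFree.evalGen (J X.carrier) U (ab' M) ψ := by
    intro ψ
    change CohFree.evalGen (J X.carrier) U (ab' M) (Ext.addEquiv₀ (Ext.mk₀ ψ)) = _
    rw [addEquiv₀_mk₀]
  obtain ⟨φ, hφ⟩ := (Ext.mk₀_bijective _ _).2 (ExtR.out (K := coeff M) x)
  have hx : x = ExtR.mk (K := coeff M) (Ext.mk₀ φ) := ExtR.ext_out hφ.symm
  subst hx
  change h0F' M U ((Ext.mk₀ φ).comp (Ext.mk₀ (Coh.smulAb M r)) (add_zero 0)) =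
    resf (le_top : U ≤ ⊤) r • h0F' M U (Ext.mk₀ φ)
  rw [Ext.mk₀_comp_mk₀, key, key]
  exact Coh.smulAb_app M r (op U) _

lemma subsingleton_HR_of_isAffineOpen [M.IsQuasicoherent] {U : X.Opens} (hU : IsAffineOpen U)
    (i : ℕ) : Subsingleton (HR M (i + 1) U) :=
  subsingleton_HE_of_isAffineOpen hU M i

end Groth.Agent.R2.H1.CohLoc
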