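import Mathlib
import Groth.Agent.R2.H1CohLocBase

/-!
# Localisation of the cohomology of quasi-coherent modules on qcqs schemes (helper1)

For a quasi-compact open `U` of a quasi-compact quasi-separated scheme `X`, a quasi-coherent module `M`
and a global function `h`, the restriction `H^n(U, M) → H^n(U ∩ X_h, M)` is the localisation at `h`.
-/

set_option autoImplicit false
set_option linter.style.haveILetI false
universe u
open CategoryTheory CategoryTheory.Limits Opposite TopologicalSpace AlgebraicGeometry Abelian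

namespace Groth.Agent.R2.H1.CohLoc

open Groth.Agent.Lib.Helper23.AffVanish Groth.Agent.Lib.Helper6 Groth.Agent.R2.H1.ExtLoc

variable {X : Scheme.{u}} (M : X.Modules) (h : Γ(X, ⊤))

/-- the localisation property for an open `U`: all restrictions `H^n(U, M) → H^n(U ∩ X_h, M)` are
localisations at `h` -/
def LocAt (U : X.Opens) : Prop :=
  ∀ (n : ℕ) (U' : X.Opens) (hle : U' ≤ U), U' = U ⊓ X.basicOpen h →
    IsLocalizedModule (Submonoid.powers h) (resR M n hle)

/-- `h` acts invertibly on `H^0` of opens inside `X_h` -/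
lemma isUnit_smul_zero {V : X.Opens} (hV : V ≤ X.basicOpen h) :
    IsUnit (algebraMap Γ(X, ⊤) (Module.End Γ(X, ⊤) (HR M 0 V)) h) := by
  rw [Module.End.isUnit_iff]
  obtain ⟨u, hu⟩ := isUnit_resf h hV
  constructor
  · intro x y hxy
    have h1 : h • x = h • y := hxy
    have h2 := congrArg (h0R M V) h1
    rw [h0R_smul, h0R_smul, ← hu] at h2
    have h3 := congrArg (fun z => ((u⁻¹ : Γ(X, V)ˣ) : Γ(X, V)) • z) h2
    simp only [smul_smul, Units.inv_mul, one_smul] at h3
    exact (h0R M V).injective h3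
  · intro y
    refine ⟨(h0R M V).symm (((u⁻¹ : Γ(X, V)ˣ) : Γ(X, V)) • h0R M V y), ?_⟩
    rw [Module.algebraMap_end_apply]
    apply (h0R M V).injective
    rw [h0R_smul, AddEquiv.apply_symm_apply, ← hu, smul_smul, Units.mul_inv, one_smul]

variable [M.IsQuasicoherent]

/-- degree zero, affine open -/
lemma isLocalizedModule_zero_of_isAffineOpen {U : X.Opens} (hU : IsAffineOpen U) (U' : X.Opens)
    (hle : U' ≤ U) (e : U' = X.basicOpen (resf (le_top : U ≤ ⊤) h)) :
    IsLocalizedModule (Submonoid.powers h) (resR M 0 hle) := by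
  subst e
  have hV : X.basicOpen (resf (le_top : U ≤ ⊤) h) ≤ X.basicOpen h := by
    rw [Scheme.basicOpen_res]
    exact inf_le_right
  refine IsLocalizedModule.Away.mk_of_addCommGroup (isUnit_smul_zero M h hV) ?_ ?_
  · intro y
    obtain ⟨n, t, ht⟩ := Groth.Agent.Lib.Helper2.QCoh.exists_extension hU M
      (resf (le_top : U ≤ ⊤) h) (h0R M _ y)
    refine ⟨n, (h0R M U).symm t, ?_⟩
    apply (h0R M _).injective
    rw [h0R_smul, h0R_res, AddEquiv.apply_symm_apply]
    refine Eq.trans ?_ ht.symm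
    congr 1
    rw [resf_pow, ← resf_resf (le_top : U ≤ ⊤) (X.basicOpen_le _) h]
  · intro x hx
    have h1 : res M hle (h0R M U x) = 0 := by
      rw [← h0R_res, hx, map_zero]
    obtain ⟨n, hn⟩ := Groth.Agent.Lib.Helper2.QCoh.exists_pow_smul_eq_zero hU M
      (resf (le_top : U ≤ ⊤) h) (h0R M U x) h1
    refine ⟨n, ?_⟩
    apply (h0R M U).injective
    rw [h0R_smul, map_zero, resf_pow]
    exact hn

/-- the localisation property holds on affine opens -/
theorem locAt_of_isAffineOpen {U : X.Opens} (hU : IsAffineOpen U) : LocAt M h U := by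
  intro n U' hle e
  have e' : U' = X.basicOpen (resf (le_top : U ≤ ⊤) h) := by
    rw [e, Scheme.basicOpen_res]
  cases n with
  | zero => exact isLocalizedModule_zero_of_isAffineOpen M h hU U' hle e'
  | succ i =>
    have hU' : IsAffineOpen U' := by
      rw [e']
      exact hU.basicOpen _
    haveI := subsingleton_HR_of_isAffineOpen M hU i
    haveI := subsingleton_HR_of_isAffineOpen M hU' i
    exact isLocalizedModule_of_subsingleton _ _

omit [M.IsQuasicoherent] in
lemma locAt_iff (U : X.Opens) : LocAt M h U ↔ ∀ (U' : X.Opens) (hle : U' ≤ U), U' = U ⊓ X.basicOpen h →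
    IsLoc (coeff M) (Submonoid.powers h) (CohCx.freeSheafMap (J X.carrier) (homOfLE hle)) :=
  ⟨fun H U' hle e n => H n U' hle e, fun H n U' hle e => H U' hle e n⟩

lemma fsm_comp_eq {A B B' C : X.Opens} (f : A ⟶ B) (g : B ⟶ C) (f' : A ⟶ B') (g' : B' ⟶ C) :
    CohCx.freeSheafMap (J X.carrier) f ≫ CohCx.freeSheafMap (J X.carrier) g =
      CohCx.freeSheafMap (J X.carrier) f' ≫ CohCx.freeSheafMap (J X.carrier) g' := by
  rw [← CohFree.freeSheafMap_comp, ← CohFree.freeSheafMap_comp]
  exact congrArg _ (Subsingleton.elim _ _)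

omit [M.IsQuasicoherent] in
/-- Mayer–Vietoris step -/
theorem locAt_sup {U V : X.Opens} (hU : LocAt M h U) (hV : LocAt M h V) (hUV : LocAt M h (U ⊓ V)) :
    LocAt M h (U ⊔ V) := by
  rw [locAt_iff] at hU hV hUV ⊢
  intro W' hle e
  have hU' : U ⊓ X.basicOpen h ≤ W' := by rw [e]; exact inf_le_inf_right _ le_sup_left
  have hV' : V ⊓ X.basicOpen h ≤ W' := by rw [e]; exact inf_le_inf_right _ le_sup_right
  have hW' : W' ≤ (U ⊓ X.basicOpen h) ⊔ (V ⊓ X.basicOpen h) := by
    rw [e, inf_sup_right]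
  have h₁₂ : (U ⊓ X.basicOpen h) ⊓ (V ⊓ X.basicOpen h) ≤ U ⊓ V :=
    inf_le_inf inf_le_left inf_le_left
  exact IsLoc.of_mv (Submonoid.powers h)
    (CohCx.freeSheafMap (J X.carrier) (homOfLE (inf_le_left : U ⊓ V ≤ U)))
    (CohCx.freeSheafMap (J X.carrier) (homOfLE (inf_le_right : U ⊓ V ≤ V)))
    (CohCx.freeSheafMap (J X.carrier) (homOfLE (le_sup_left : U ≤ U ⊔ V)))
    (CohCx.freeSheafMap (J X.carrier) (homOfLE (le_sup_right : V ≤ U ⊔ V)))
    (CohCx.freeSheafMap (J X.carrier)
      (homOfLE (inf_le_left : (U ⊓ X.basicOpen h) ⊓ (V ⊓ X.basicOpen h) ≤ U ⊓ X.basicOpen h)))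
    (CohCx.freeSheafMap (J X.carrier)
      (homOfLE (inf_le_right : (U ⊓ X.basicOpen h) ⊓ (V ⊓ X.basicOpen h) ≤ V ⊓ X.basicOpen h)))
    (CohCx.freeSheafMap (J X.carrier) (homOfLE hU'))
    (CohCx.freeSheafMap (J X.carrier) (homOfLE hV'))
    (mvSquare U V (U ⊔ V) le_sup_left le_sup_right le_rfl).shortComplex.zero
    (mvSquare (U ⊓ X.basicOpen h) (V ⊓ X.basicOpen h) W' hU' hV' hW').shortComplex.zero
    (mvSquare U V (U ⊔ V) le_sup_left le_sup_right le_rfl).shortComplex_shortExact
    (mvSquare (U ⊓ X.basicOpen h) (V ⊓ X.basicOpen h) W' hU' hV' hW').shortComplex_shortExact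
    (CohCx.freeSheafMap (J X.carrier) (homOfLE h₁₂))
    (CohCx.freeSheafMap (J X.carrier) (homOfLE (inf_le_left : U ⊓ X.basicOpen h ≤ U)))
    (CohCx.freeSheafMap (J X.carrier) (homOfLE (inf_le_left : V ⊓ X.basicOpen h ≤ V)))
    (CohCx.freeSheafMap (J X.carrier) (homOfLE hle))
    (fsm_comp_eq _ _ _ _) (fsm_comp_eq _ _ _ _) (fsm_comp_eq _ _ _ _) (fsm_comp_eq _ _ _ _)
    (hUV _ h₁₂ (inf_inf_distrib_right _ _ _).symm) (hU _ inf_le_left rfl) (hV _ inf_le_left rfl)

/-- **Localisation of cohomology**: on a quasi-compact quasi-separated scheme, for a quasi-coherent module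
`M`, a global function `h` and a quasi-compact open `U`, the restriction maps
`H^n(U, M) → H^n(U ∩ X_h, M)` are localisations at `h`. -/
theorem locAt_of_isCompact [CompactSpace X] [QuasiSeparatedSpace X] (U : X.Opens)
    (hU : IsCompact (U : Set X)) : LocAt M h U :=
  Groth.Agent.S0015.result X (LocAt M h) (fun _ hU => locAt_of_isAffineOpen M h hU)
    (fun _ _ _ _ hU hV hUV => locAt_sup M h hU hV hUV) U hU

/-- the special case `U = X`: `H^n(X, M) → H^n(X_h, M)` is the localisation at `h` -/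
theorem isLocalizedModule_resR_top [CompactSpace X] [QuasiSeparatedSpace X] (n : ℕ) :
    IsLocalizedModule (Submonoid.powers h) (resR M n (le_top : X.basicOpen h ≤ ⊤)) :=
  locAt_of_isCompact M h ⊤ isCompact_univ n _ le_top (top_inf_eq _).symm

end Groth.Agent.R2.H1.CohLoc
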