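import Mathlib
import Groth.Agent.R2.H1CohLoc
import Groth.Agent.R2.H1LocGlueB

/-!
# Gluing of cohomology classes along basic opens, relative version

helper1 (round 2).  On a quasi-compact quasi-separated scheme `X` with a quasi-coherent module `M`: compatible classes
on the `X_g ∩ X_{h k}` with `g ∈ √(h k)_k` glue to a class on `X_g`.
-/

set_option autoImplicit false
universe u
open CategoryTheory CategoryTheory.Limits Opposite TopologicalSpace AlgebraicGeometry Abelian

namespace Groth.Agent.R2.H1.CohLoc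

open Groth.Agent.Lib.Helper23.AffVanish Groth.Agent.Lib.Helper6 Groth.Agent.R2.H1.ExtLoc

variable {X : Scheme.{u}} [CompactSpace X] [QuasiSeparatedSpace X] (M : X.Modules) [M.IsQuasicoherent]

/-- gluing over a basic open -/
theorem exists_glue_basicOpen (n : ℕ) {ι : Type*} [Fintype ι] (h : ι → Γ(X, ⊤)) (g : Γ(X, ⊤))
    (hg : g ∈ (Ideal.span (Set.range h)).radical) (T : X.Opens) (hT : T = X.basicOpen g)
    (U : ι → X.Opens) (hU : ∀ k, U k = T ⊓ X.basicOpen (h k)) (hUT : ∀ k, U k ≤ T)
    (Ukl : ι → ι → X.Opens) (hl : ∀ k l, Ukl k l ≤ U k) (hr : ∀ k l, Ukl k l ≤ U l)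
    (hkl : ∀ k l, Ukl k l = U k ⊓ U l)
    (x : ∀ k, HR M n (U k))
    (hx : ∀ k l, resR M n (hl k l) (x k) = resR M n (hr k l) (x l)) :
    ∃ t : HR M n T, ∀ k, resR M n (hUT k) t = x k := by
  have hTc : IsCompact (T : Set X) := hT ▸ isCompact_basicOpen X isCompact_univ g
  have hg' := locAt_of_isCompact M g T hTc n T (le_refl T) (by rw [hT, inf_idem])
  have hgN : Function.Bijective fun y : HR M n T => g • y := by
    have h1 := IsLocalizedModule.map_units (resR M n (le_refl T))
      (⟨g, ⟨1, pow_one g⟩⟩ : Submonoid.powers g)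
    exact (Module.End.isUnit_iff _).1 h1
  refine Groth.Agent.R2.H1.LocGlue.exists_glue_of_mem_radical h g hg (N := HR M n T) hgN
    (Nk := fun k => HR M n (U k))
    (Nkl := fun k l => HR M n (Ukl k l)) (fun k => resR M n (hUT k))
    (fun k l => resR M n (hl k l)) (fun k l => resR M n (hr k l)) ?_ ?_ ?_ x hx
  · intro k l t
    rw [resR_resR, resR_resR]
  · intro k
    exact locAt_of_isCompact M (h k) T hTc n (U k) (hUT k) (hU k)
  · intro k l
    have h1 := locAt_of_isCompact M (h k * h l) T hTc n (Ukl k l) ((hl k l).trans (hUT k))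
      (by
        rw [hkl k l, hU k, hU l, Scheme.basicOpen_mul]
        exact (inf_inf_distrib_left T _ _).symm)
    have h2 : (resR M n (hl k l)).comp (resR M n (hUT k)) =
        resR M n ((hl k l).trans (hUT k)) := by
      ext t
      exact resR_resR M n _ _ t
    rw [h2]
    exact h1

end Groth.Agent.R2.H1.CohLoc
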