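import Mathlib

/-!
# Separation and gluing for modules with localisations

helper1 (round 2).  Pure algebra: the two module-theoretic statements behind "a presheaf of modules whose
restrictions to basic opens are localisations is a sheaf on the basic opens".
-/

set_option autoImplicit false
open scoped BigOperators

namespace Groth.Agent.R2.H1.LocGlue

/-- an element killed by a power of each `h k`, in a module on which `g ∈ √(h k)_k` acts injectively,
is zero -/
theorem eq_zero_of_mem_radical {R N : Type*} [CommRing R] [AddCommGroup N] [Module R N]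
    {ι : Type*} (h : ι → R) (g : R) (hg : g ∈ (Ideal.span (Set.range h)).radical)
    (hinj : ∀ y : N, g • y = 0 → y = 0) (x : N) (hx : ∀ k, ∃ n : ℕ, h k ^ n • x = 0) : x = 0 := by
  have h1 : Ideal.span (Set.range h) ≤ (Ideal.torsionOf R N x).radical := by
    rw [Ideal.span_le]
    rintro _ ⟨k, rfl⟩
    obtain ⟨n, hn⟩ := hx k
    exact ⟨n, (Ideal.mem_torsionOf_iff _ _).2 hn⟩
  have h2 : g ∈ (Ideal.torsionOf R N x).radical := by
    have := Ideal.radical_mono h1 hg
    rwa [Ideal.radical_idem] at this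
  obtain ⟨n, hn⟩ := h2
  rw [Ideal.mem_torsionOf_iff] at hn
  induction n with
  | zero => simpa using hn
  | succ n ih =>
    apply ih
    apply hinj
    rw [smul_smul, ← pow_succ']
    exact hn

/-- gluing: `N → N_k` localisations at `h k`, `N → N_kl` localisations at `h k * h l`, the `h k`
generating the unit ideal -/
theorem exists_glue {R : Type*} [CommRing R] {ι : Type*} [Fintype ι] (h : ι → R)
    (hspan : Ideal.span (Set.range h) = ⊤)
    {N : Type*} [AddCommGroup N] [Module R N]
    {Nk : ι → Type*} [∀ k, AddCommGroup (Nk k)] [∀ k, Module R (Nk k)]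
    {Nkl : ι → ι → Type*} [∀ k l, AddCommGroup (Nkl k l)] [∀ k l, Module R (Nkl k l)]
    (ρ : ∀ k, N →ₗ[R] Nk k) (α : ∀ k l, Nk k →ₗ[R] Nkl k l) (β : ∀ k l, Nk l →ₗ[R] Nkl k l)
    (hαβ : ∀ k l (t : N), α k l (ρ k t) = β k l (ρ l t))
    (hρ : ∀ k, IsLocalizedModule (Submonoid.powers (h k)) (ρ k))
    (hρ2 : ∀ k l, IsLocalizedModule (Submonoid.powers (h k * h l)) ((α k l).comp (ρ k)))
    (x : ∀ k, Nk k) (hx : ∀ k l, α k l (x k) = β k l (x l)) :
    ∃ t : N, ∀ k, ρ k t = x k := by
  classical
  -- step 1: uniform numerators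
  have h1 : ∀ k, ∃ (y : N) (n : ℕ), h k ^ n • x k = ρ k y := by
    intro k
    obtain ⟨⟨y, ⟨_, n, rfl⟩⟩, hy⟩ := IsLocalizedModule.surj (Submonoid.powers (h k)) (ρ k) (x k)
    exact ⟨y, n, hy⟩
  choose y0 n0 hy0 using h1
  set n := Finset.univ.sup n0 with hn
  have hn0 : ∀ k, n0 k ≤ n := fun k => Finset.le_sup (Finset.mem_univ k)
  set y : ι → N := fun k => h k ^ (n - n0 k) • y0 k with hy
  have hyk : ∀ k, h k ^ n • x k = ρ k (y k) := by
    intro k
    rw [hy]
    simp only [map_smul]
    rw [← hy0 k, smul_smul, ← pow_add, Nat.sub_add_cancel (hn0 k)]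
  -- step 2: the cocycle condition up to a power
  have h2 : ∀ k l, ∃ m : ℕ, (h k * h l) ^ m • (h l ^ n • y k - h k ^ n • y l) = 0 := by
    intro k l
    have hz : ((α k l).comp (ρ k)) (h l ^ n • y k - h k ^ n • y l) = 0 := by
      rw [map_sub, LinearMap.comp_apply, LinearMap.comp_apply, hαβ k l (h k ^ n • y l)]
      simp only [map_smul]
      rw [← hyk k, ← hyk l]
      simp only [map_smul]
      rw [hx k l, smul_comm, sub_self]
    obtain ⟨⟨_, m, rfl⟩, hm⟩ :=
      (IsLocalizedModule.eq_zero_iff (Submonoid.powers (h k * h l)) ((α k l).comp (ρ k))).1 hz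
    exact ⟨m, hm⟩
  choose m0 hm0 using h2
  set m := Finset.univ.sup (fun k => Finset.univ.sup (m0 k)) with hm
  have hm0' : ∀ k l, m0 k l ≤ m := fun k l =>
    (Finset.le_sup (f := m0 k) (Finset.mem_univ l)).trans
      (Finset.le_sup (f := fun k => Finset.univ.sup (m0 k)) (Finset.mem_univ k))
  have h2' : ∀ k l, (h k * h l) ^ m • (h l ^ n • y k - h k ^ n • y l) = 0 := by
    intro k l
    rw [← Nat.sub_add_cancel (hm0' k l), pow_add, mul_smul, hm0 k l, smul_zero]
  -- step 3
  set z : ι → N := fun k => h k ^ m • y k with hz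
  have hzz : ∀ k l, h l ^ (n + m) • z k = h k ^ (n + m) • z l := by
    intro k l
    have := h2' k l
    rw [smul_sub, sub_eq_zero] at this
    rw [hz]
    simp only [smul_smul] at this ⊢
    convert this using 2 <;> ring
  have hρz : ∀ k, ρ k (z k) = h k ^ (n + m) • x k := by
    intro k
    rw [hz]
    simp only [map_smul]
    rw [← hyk k, smul_smul, ← pow_add, add_comm]
  -- step 4: partition of unity
  have hspan' : Ideal.span (Set.range fun k => h k ^ (n + m)) = ⊤ := by
    have := Ideal.span_pow_eq_top _ hspan (n + m)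
    rwa [← Set.range_comp] at this
  obtain ⟨c, hc⟩ := Ideal.mem_span_range_iff_exists_fun.1
    (hspan' ▸ Submodule.mem_top : (1 : R) ∈ Ideal.span (Set.range fun k => h k ^ (n + m)))
  refine ⟨∑ l, c l • z l, fun k => ?_⟩
  have hk : h k ^ (n + m) • ∑ l, c l • z l = z k := by
    rw [Finset.smul_sum]
    have : ∀ l ∈ Finset.univ, h k ^ (n + m) • c l • z l = (c l * h l ^ (n + m)) • z k := by
      intro l _
      rw [smul_comm, hzz l k, smul_smul]
    rw [Finset.sum_congr rfl this, ← Finset.sum_smul, hc, one_smul]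
  have hinj := IsLocalizedModule.smul_injective (ρ k)
    (⟨h k ^ (n + m), ⟨n + m, rfl⟩⟩ : Submonoid.powers (h k))
  apply hinj
  change h k ^ (n + m) • ρ k (∑ l, c l • z l) = h k ^ (n + m) • x k
  rw [← map_smul, hk, hρz]

end Groth.Agent.R2.H1.LocGlue
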