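import Mathlib
import Groth.Agent.R2.H1CohLoc
import Groth.Agent.R2.H1LocGlue

/-!
# Separation and gluing of cohomology classes along basic opens

helper1 (round 2).  On a quasi-compact quasi-separated scheme `X` with a quasi-coherent module `M`: a class in
`H^n(X_g, M)` which vanishes on each `X_g ∩ X_{h k}` with `g ∈ √(h k)_k` is zero, and compatible classes
on the `X_{h k}` (the `h k` generating the unit ideal) glue to a class on `X`.
-/

set_option autoImplicit false
universe u
open CategoryTheory CategoryTheory.Limits Opposite TopologicalSpace AlgebraicGeometry Abelian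

namespace Groth.Agent.R2.H1.CohLoc

open Groth.Agent.Lib.Helper23.AffVanish Groth.Agent.Lib.Helper6 Groth.Agent.R2.H1.ExtLoc

variable {X : Scheme.{u}} [CompactSpace X] [QuasiSeparatedSpace X] (M : X.Modules) [M.IsQuasicoherent]

/-- separation -/
theorem eq_zero_of_locally (n : ℕ) (U : X.Opens) (g : Γ(X, ⊤)) (hU : U = X.basicOpen g)
    {ι : Type*} (h : ι → Γ(X, ⊤)) (hg : g ∈ (Ideal.span (Set.range h)).radical)
    (U' : ι → X.Opens) (hle : ∀ k, U' k ≤ U) (hU' : ∀ k, U' k = U ⊓ X.basicOpen (h k))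
    (x : HR M n U) (hx : ∀ k, resR M n (hle k) x = 0) : x = 0 := by
  have hUc : IsCompact (U : Set X) := hU ▸ isCompact_basicOpen X isCompact_univ g
  have hloc := fun k => locAt_of_isCompact M (h k) U hUc n (U' k) (hle k) (hU' k)
  have hg' := locAt_of_isCompact M g U hUc n U (le_refl U) (by rw [hU, inf_idem])
  refine Groth.Agent.R2.H1.LocGlue.eq_zero_of_mem_radical h g hg (fun y hy => ?_) x (fun k => ?_)
  · have := IsLocalizedModule.smul_injective (resR M n (le_refl U))
      (⟨g, ⟨1, pow_one g⟩⟩ : Submonoid.powers g)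
    apply this
    change g • y = g • 0
    rw [hy, smul_zero]
  · have := hloc k
    obtain ⟨⟨_, m, rfl⟩, hm⟩ :=
      (IsLocalizedModule.eq_zero_iff (Submonoid.powers (h k)) (resR M n (hle k))).1 (hx k)
    exact ⟨m, hm⟩

/-- gluing -/
theorem exists_glue (n : ℕ) {ι : Type*} [Fintype ι] (h : ι → Γ(X, ⊤))
    (hspan : Ideal.span (Set.range h) = ⊤) (T : X.Opens) (hT : T = ⊤)
    (U : ι → X.Opens) (hU : ∀ k, U k = X.basicOpen (h k)) (hUT : ∀ k, U k ≤ T)
    (Ukl : ι → ι → X.Opens) (hl : ∀ k l, Ukl k l ≤ U k) (hr : ∀ k l, Ukl k l ≤ U l)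
    (hkl : ∀ k l, Ukl k l = U k ⊓ U l)
    (x : ∀ k, HR M n (U k))
    (hx : ∀ k l, resR M n (hl k l) (x k) = resR M n (hr k l) (x l)) :
    ∃ t : HR M n T, ∀ k, resR M n (hUT k) t = x k := by
  subst hT
  refine Groth.Agent.R2.H1.LocGlue.exists_glue h hspan (N := HR M n ⊤) (Nk := fun k => HR M n (U k))
    (Nkl := fun k l => HR M n (Ukl k l)) (fun k => resR M n (hUT k))
    (fun k l => resR M n (hl k l)) (fun k l => resR M n (hr k l)) ?_ ?_ ?_ x hx
  · intro k l t
    rw [resR_resR, resR_resR]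
  · intro k
    exact locAt_of_isCompact M (h k) ⊤ isCompact_univ n (U k) (hUT k) (by rw [hU k, top_inf_eq])
  · intro k l
    have h1 := locAt_of_isCompact M (h k * h l) ⊤ isCompact_univ n (Ukl k l) le_top
      (by rw [hkl k l, hU k, hU l, top_inf_eq, Scheme.basicOpen_mul])
    have h2 : (resR M n (hl k l)).comp (resR M n (hUT k)) =
        resR M n (le_top : Ukl k l ≤ ⊤) := by
      ext t
      exact resR_resR M n _ _ t
    rw [h2]
    exact h1

end Groth.Agent.R2.H1.CohLoc
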