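import Mathlib

/-!
# Global sections of the sheafification of a presheaf on a quasi-compact space

helper1 (round 2).  Let `Y` be a compact space, `B` a basis of opens stable under binary intersection, and
`P` a presheaf of abelian groups on `Y`.  If `P` is separated with respect to coverings of members of `B`
by members of `B`, and glues compatible families along finite coverings of `⊤` by members of `B`, then
`P(⊤) → P^#(⊤)` is bijective.
-/

set_option autoImplicit false
universe u
open CategoryTheory Opposite TopologicalSpace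

namespace Groth.Agent.R2.H1.SheafifyTop

variable {Y : TopCat.{u}} (P : (Opens Y)ᵒᵖ ⥤ AddCommGrpCat.{u})

/-- restriction maps of the presheaf `P` -/
noncomputable abbrev rs {V W : Opens Y} (h : W ≤ V) : P.obj (op V) →+ P.obj (op W) :=
  (P.map (homOfLE h).op).hom

lemma rs_rs {V W W' : Opens Y} (h : W ≤ V) (h' : W' ≤ W) (x : P.obj (op V)) :
    rs P h' (rs P h x) = rs P (h'.trans h) x := by
  change (P.map (homOfLE h).op ≫ P.map (homOfLE h').op).hom x = _
  rw [← P.map_comp]
  rfl

lemma map_eq_rs {V W : Opens Y} (f : W ⟶ V) (x : P.obj (op V)) :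
    (P.map f.op).hom x = rs P f.le x := rfl

/-- the unit of sheafification, on sections over `V` -/
noncomputable abbrev η (V : Opens Y) :
    P.obj (op V) →+ (sheafify (Opens.grothendieckTopology Y) P).obj (op V) :=
  ((toSheafify (Opens.grothendieckTopology Y) P).app (op V)).hom

lemma η_rs {V W : Opens Y} (h : W ≤ V) (x : P.obj (op V)) :
    η P W (rs P h x) = rs (sheafify (Opens.grothendieckTopology Y) P) h (η P V x) := by
  have := (toSheafify (Opens.grothendieckTopology Y) P).naturality (homOfLE h).op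
  exact congrArg (fun φ => φ.hom x) this

/-- local injectivity of the unit, on a basis -/
lemma locally_zero_of_η_eq_zero (B : Set (Opens Y)) (hB : Opens.IsBasis B) {V : Opens Y}
    (x : P.obj (op V)) (hx : η P V x = 0) :
    ∀ y ∈ V, ∃ W ∈ B, ∃ h : W ≤ V, y ∈ W ∧ rs P h x = 0 := by
  intro y hy
  have hmem := Presheaf.equalizerSieve_mem (Opens.grothendieckTopology Y)
    (toSheafify (Opens.grothendieckTopology Y) P) (X := op V) x 0 (by
      change η P V x = η P V 0
      rw [hx, map_zero])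
  obtain ⟨U, f, hf, hyU⟩ := hmem y hy
  obtain ⟨W, hW, hyW, hWU⟩ := Opens.isBasis_iff_nbhd.1 hB hyU
  refine ⟨W, hW, hWU.trans f.le, hyW, ?_⟩
  have h1 : rs P f.le x = rs P f.le 0 := hf
  rw [map_zero] at h1
  rw [← rs_rs P f.le hWU, h1, map_zero]

/-- local surjectivity of the unit, on a basis -/
lemma locally_image (B : Set (Opens Y)) (hB : Opens.IsBasis B) {V : Opens Y}
    (s : (sheafify (Opens.grothendieckTopology Y) P).obj (op V)) :
    ∀ y ∈ V, ∃ W ∈ B, ∃ h : W ≤ V, y ∈ W ∧ ∃ t : P.obj (op W),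
      η P W t = rs (sheafify (Opens.grothendieckTopology Y) P) h s := by
  intro y hy
  have hmem := Presheaf.imageSieve_mem (Opens.grothendieckTopology Y)
    (toSheafify (Opens.grothendieckTopology Y) P) (U := op V) s
  obtain ⟨U, f, ⟨t, ht⟩, hyU⟩ := hmem y hy
  obtain ⟨W, hW, hyW, hWU⟩ := Opens.isBasis_iff_nbhd.1 hB hyU
  refine ⟨W, hW, hWU.trans f.le, hyW, rs P hWU t, ?_⟩
  have ht' : η P U t = rs (sheafify (Opens.grothendieckTopology Y) P) f.le s := ht
  rw [η_rs, ht', rs_rs]

/-- the sheafification is separated -/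
lemma sheafify_ext {ι : Type u} (V : ι → Opens Y) (hV : (⨆ k, V k) = ⊤)
    (s t : (sheafify (Opens.grothendieckTopology Y) P).obj (op ⊤))
    (h : ∀ k, rs (sheafify (Opens.grothendieckTopology Y) P) (le_top : V k ≤ ⊤) s =
      rs (sheafify (Opens.grothendieckTopology Y) P) (le_top : V k ≤ ⊤) t) : s = t := by
  let F : TopCat.Sheaf AddCommGrpCat.{u} Y :=
    (presheafToSheaf (Opens.grothendieckTopology Y) AddCommGrpCat.{u}).obj P
  exact TopCat.Sheaf.eq_of_locally_eq' F V ⊤ (fun k => homOfLE le_top) (by rw [hV]) s t h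

theorem bijective_toSheafify_top [CompactSpace Y] (B : Set (Opens Y)) (hB : Opens.IsBasis B)
    (htop : (⊤ : Opens Y) ∈ B) (hinf : ∀ U ∈ B, ∀ V ∈ B, U ⊓ V ∈ B)
    (sep : ∀ V ∈ B, ∀ x : P.obj (op V),
      (∀ y ∈ V, ∃ W ∈ B, ∃ h : W ≤ V, y ∈ W ∧ rs P h x = 0) → x = 0)
    (glue : ∀ (ι : Type u) [Fintype ι] (V : ι → Opens Y), (∀ k, V k ∈ B) → (⨆ k, V k) = ⊤ →
      ∀ x : ∀ k, P.obj (op (V k)),
        (∀ k l, rs P (inf_le_left : V k ⊓ V l ≤ V k) (x k) =
          rs P (inf_le_right : V k ⊓ V l ≤ V l) (x l)) →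
        ∃ t : P.obj (op ⊤), ∀ k, rs P (le_top : V k ≤ ⊤) t = x k) :
    Function.Bijective (η P ⊤) := by
  constructor
  · rw [injective_iff_map_eq_zero]
    intro x hx
    exact sep ⊤ htop x (locally_zero_of_η_eq_zero P B hB x hx)
  · intro s
    have hloc := locally_image P B hB s
    choose W hWB hWle hyW tt htt using fun y : Y => hloc y (Set.mem_univ y)
    obtain ⟨T, hT⟩ := isCompact_univ.elim_finite_subcover (fun y : Y => ((W y : Opens Y) : Set Y))
      (fun y => (W y).isOpen) (fun y _ => Set.mem_iUnion.2 ⟨y, hyW y⟩)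
    have hcov : (⨆ k : {y // y ∈ T}, W k.1) = ⊤ := by
      rw [eq_top_iff]
      intro y hy
      obtain ⟨i, hi⟩ := Set.mem_iUnion.1 (hT (Set.mem_univ y))
      obtain ⟨hiT, hyi⟩ := Set.mem_iUnion.1 hi
      exact Opens.mem_iSup.2 ⟨⟨i, hiT⟩, hyi⟩
    obtain ⟨t, ht⟩ := glue {y // y ∈ T} (fun k => W k.1) (fun k => hWB k.1) hcov (fun k => tt k.1) (by
      intro k l
      have hB' := hinf _ (hWB k.1) _ (hWB l.1)
      rw [← sub_eq_zero]
      have h0 : η P (W k.1 ⊓ W l.1) (rs P inf_le_left (tt k.1) - rs P inf_le_right (tt l.1)) = 0 := by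
        rw [map_sub, η_rs, η_rs, htt, htt, rs_rs, rs_rs, sub_self]
      exact sep _ hB' _ (locally_zero_of_η_eq_zero P B hB _ h0))
    refine ⟨t, sheafify_ext P (fun k : {y // y ∈ T} => W k.1) hcov _ _ ?_⟩
    intro k
    rw [← η_rs, ht, htt]

end Groth.Agent.R2.H1.SheafifyTop
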