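import Mathlib
import Groth.Agent.R2.H1CohGlue
import Groth.Agent.R2.H1SheafifyTop

/-!
# `H^q(X, M) → Γ(S, (V ↦ H^q(f⁻¹V, M))^#)` is bijective for `S` affine, `f` qcqs, `M` quasi-coherent

helper1 (round 2).
-/

set_option autoImplicit false
universe u
open CategoryTheory CategoryTheory.Limits Opposite TopologicalSpace AlgebraicGeometry Abelian

namespace Groth.Agent.R2.H1.CohPushTop

open Groth.Agent.Lib.Helper23.AffVanish Groth.Agent.Lib.Helper6 Groth.Agent.R2.H1.ExtLoc
open Groth.Agent.R2.H1.CohLoc Groth.Agent.R2.H1.SheafifyTop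

/-- `D(a) ⊆ ⋃ D(b j)` in an affine scheme means `a ∈ √(b j)_j` -/
lemma mem_radical_of_basicOpen_le {S : Scheme.{u}} [IsAffine S] (a : Γ(S, ⊤)) {ι : Type*}
    (b : ι → Γ(S, ⊤)) (h : S.basicOpen a ≤ ⨆ j, S.basicOpen (b j)) :
    a ∈ (Ideal.span (Set.range b)).radical := by
  rw [Ideal.radical_eq_sInf, Ideal.mem_sInf]
  rintro p ⟨hp, hprime⟩
  by_contra hap
  let P : PrimeSpectrum Γ(S, ⊤) := ⟨p, hprime⟩
  obtain ⟨y, hy⟩ := (TopCat.homeoOfIso (Scheme.forgetToTop.mapIso S.isoSpec)).surjective P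
  have hy' : S.isoSpec.hom.base y = P := hy
  have h1 : y ∈ S.basicOpen a := by
    rw [← Scheme.map_PrimeSpectrum_basicOpen_of_affine]
    change S.isoSpec.hom.base y ∈ PrimeSpectrum.basicOpen a
    rw [hy']
    exact hap
  obtain ⟨j, hj⟩ := Opens.mem_iSup.1 (h h1)
  rw [← Scheme.map_PrimeSpectrum_basicOpen_of_affine] at hj
  have h2 : S.isoSpec.hom.base y ∈ PrimeSpectrum.basicOpen (b j) := hj
  rw [hy'] at h2
  exact h2 (hp (Ideal.subset_span ⟨j, rfl⟩))

variable {X S : Scheme.{u}} (f : X ⟶ S) (M : X.Modules) (q : ℕ)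

/-- the presheaf `V ↦ H^q(f⁻¹V, M)` on `S` -/
noncomputable abbrev PP : (Opens S)ᵒᵖ ⥤ AddCommGrpCat.{u} :=
  (Opens.map f.base).op ⋙ Sheaf.cohomologyPresheaf.{u} (Coh.toAb M) q

/-- the sections of `PP` are the groups `HR` -/
noncomputable def toHR (V : S.Opens) : (PP f M q).obj (op V) ≃+ HR M q (f ⁻¹ᵁ V) :=
  AddEquiv.refl _

lemma toHR_rs {V W : S.Opens} (h : W ≤ V) (x : (PP f M q).obj (op V)) :
    toHR f M q W (rs (PP f M q) h x) =
      resR M q (show f ⁻¹ᵁ W ≤ f ⁻¹ᵁ V from fun _ hy => h hy) (toHR f M q V x) := rfl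

lemma span_map_range {R R' : Type*} [CommRing R] [CommRing R'] (φ : R →+* R') {ι : Type*} (b : ι → R) :
    Ideal.map φ (Ideal.span (Set.range b)) = Ideal.span (Set.range fun k => φ (b k)) := by
  rw [Ideal.map_span, ← Set.range_comp]
  rfl

variable [QuasiCompact f] [QuasiSeparated f] [IsAffine S] [M.IsQuasicoherent]

theorem bijective_η : Function.Bijective (η (PP f M q) ⊤) := by
  have : CompactSpace X := QuasiCompact.compactSpace_of_compactSpace f
  have : QuasiSeparatedSpace X := quasiSeparatedSpace_of_quasiSeparated f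
  refine bijective_toSheafify_top (PP f M q) (Set.range (S.basicOpen : Γ(S, ⊤) → S.Opens))
    (isBasis_basicOpen S) ⟨1, Scheme.basicOpen_of_isUnit _ isUnit_one⟩ ?_ ?_ ?_
  · rintro _ ⟨a, rfl⟩ _ ⟨b, rfl⟩
    exact ⟨a * b, Scheme.basicOpen_mul _ _ _⟩
  · rintro _ ⟨a, rfl⟩ x hx
    choose W hWB hWle hyW hW0 using fun y : {y // y ∈ S.basicOpen a} => hx y.1 y.2
    choose b hb using hWB
    have hcov : S.basicOpen a ≤ ⨆ j, S.basicOpen (b j) := by
      intro y hy
      exact Opens.mem_iSup.2 ⟨⟨y, hy⟩, by rw [hb]; exact hyW ⟨y, hy⟩⟩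
    have hrad := mem_radical_of_basicOpen_le a b hcov
    have hg : f.appTop.hom a ∈ (Ideal.span (Set.range fun k => f.appTop.hom (b k))).radical := by
      obtain ⟨N, hN⟩ := hrad
      refine ⟨N, ?_⟩
      rw [← map_pow, ← span_map_range]
      exact Ideal.mem_map_of_mem _ hN
    apply (toHR f M q _).injective
    rw [map_zero]
    refine eq_zero_of_locally M q (f ⁻¹ᵁ S.basicOpen a) (f.appTop.hom a)
      (Scheme.preimage_basicOpen_top f a) (fun k => f.appTop.hom (b k)) hg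
      (fun k => f ⁻¹ᵁ W k) (fun k _ hy => hWle k hy) ?_ _ ?_
    · intro k
      have h1 : f ⁻¹ᵁ W k = X.basicOpen (f.appTop.hom (b k)) := by
        rw [← hb k]
        exact Scheme.preimage_basicOpen_top f (b k)
      rw [← h1]
      refine (inf_eq_right.2 ?_).symm
      exact fun _ hy => hWle k hy
    · intro k
      rw [← toHR_rs f M q (hWle k) x, hW0 k, map_zero]
  · intro ι _ V hV hcov x hx
    choose a ha using hV
    have hspan0 : Ideal.span (Set.range a) = ⊤ := by
      rw [← Ideal.radical_eq_top, Ideal.eq_top_iff_one]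
      apply mem_radical_of_basicOpen_le
      rw [Scheme.basicOpen_of_isUnit _ isUnit_one]
      simp_rw [ha]
      exact hcov.ge
    have hspan : Ideal.span (Set.range fun k => f.appTop.hom (a k)) = ⊤ := by
      rw [← span_map_range, hspan0, Ideal.map_top]
    obtain ⟨t, ht⟩ := exists_glue M q (fun k => f.appTop.hom (a k)) hspan (f ⁻¹ᵁ ⊤) rfl
      (fun k => f ⁻¹ᵁ V k)
      (fun k => by rw [← ha k]; exact Scheme.preimage_basicOpen_top f (a k))
      (fun k _ _ => trivial) (fun k l => f ⁻¹ᵁ (V k ⊓ V l))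
      (fun k l _ hy => (inf_le_left : V k ⊓ V l ≤ V k) hy)
      (fun k l _ hy => (inf_le_right : V k ⊓ V l ≤ V l) hy)
      (fun k l => rfl) (fun k => toHR f M q _ (x k))
      (fun k l => by
        rw [← toHR_rs f M q (inf_le_left : V k ⊓ V l ≤ V k) (x k),
          ← toHR_rs f M q (inf_le_right : V k ⊓ V l ≤ V l) (x l), hx k l])
    refine ⟨(toHR f M q ⊤).symm t, fun k => ?_⟩
    apply (toHR f M q _).injective
    rw [toHR_rs, AddEquiv.apply_symm_apply]
    exact ht k

end Groth.Agent.R2.H1.CohPushTop
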