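import Mathlib
import Groth.Agent.R2.H1SheafifyTop

/-!
# Sections of the sheafification over a quasi-compact member of a basis

helper1 (round 2).  Variant of `H1SheafifyTop.bijective_toSheafify_top` over a quasi-compact member `V₀` of
the basis instead of `⊤`.
-/

set_option autoImplicit false
universe u
open CategoryTheory Opposite TopologicalSpace

namespace Groth.Agent.R2.H1.SheafifyTop

variable {Y : TopCat.{u}} (P : (Opens Y)ᵒᵖ ⥤ AddCommGrpCat.{u})

/-- the sheafification is separated (over any open) -/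
lemma sheafify_ext' {ι : Type u} (V₀ : Opens Y) (V : ι → Opens Y) (hle : ∀ k, V k ≤ V₀)
    (hV : V₀ ≤ ⨆ k, V k)
    (s t : (sheafify (Opens.grothendieckTopology Y) P).obj (op V₀))
    (h : ∀ k, rs (sheafify (Opens.grothendieckTopology Y) P) (hle k) s =
      rs (sheafify (Opens.grothendieckTopology Y) P) (hle k) t) : s = t := by
  let F : TopCat.Sheaf AddCommGrpCat.{u} Y :=
    (presheafToSheaf (Opens.grothendieckTopology Y) AddCommGrpCat.{u}).obj P
  exact TopCat.Sheaf.eq_of_locally_eq' F V V₀ (fun k => homOfLE (hle k)) hV s t h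

theorem bijective_toSheafify_of_mem (B : Set (Opens Y)) (hB : Opens.IsBasis B)
    (hinf : ∀ U ∈ B, ∀ V ∈ B, U ⊓ V ∈ B) (V₀ : Opens Y) (hV₀ : V₀ ∈ B)
    (hc : IsCompact (V₀ : Set Y))
    (sep : ∀ V ∈ B, ∀ x : P.obj (op V),
      (∀ y ∈ V, ∃ W ∈ B, ∃ h : W ≤ V, y ∈ W ∧ rs P h x = 0) → x = 0)
    (glue : ∀ (ι : Type u) [Fintype ι] (V : ι → Opens Y) (hle : ∀ k, V k ≤ V₀), (∀ k, V k ∈ B) →
      V₀ ≤ (⨆ k, V k) → ∀ x : ∀ k, P.obj (op (V k)),
        (∀ k l, rs P (inf_le_left : V k ⊓ V l ≤ V k) (x k) =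
          rs P (inf_le_right : V k ⊓ V l ≤ V l) (x l)) →
        ∃ t : P.obj (op V₀), ∀ k, rs P (hle k) t = x k) :
    Function.Bijective (η P V₀) := by
  constructor
  · rw [injective_iff_map_eq_zero]
    intro x hx
    exact sep V₀ hV₀ x (locally_zero_of_η_eq_zero P B hB x hx)
  · intro s
    have hloc := locally_image P B hB s
    choose W hWB hWle hyW tt htt using fun y : {y // y ∈ V₀} => hloc y.1 y.2
    obtain ⟨T, hT⟩ := hc.elim_finite_subcover (fun y : {y // y ∈ V₀} => ((W y : Opens Y) : Set Y))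
      (fun y => (W y).isOpen) (fun y hy => Set.mem_iUnion.2 ⟨⟨y, hy⟩, hyW ⟨y, hy⟩⟩)
    have hcov : V₀ ≤ (⨆ k : {y // y ∈ T}, W k.1) := by
      intro y hy
      obtain ⟨i, hi⟩ := Set.mem_iUnion.1 (hT hy)
      obtain ⟨hiT, hyi⟩ := Set.mem_iUnion.1 hi
      exact Opens.mem_iSup.2 ⟨⟨i, hiT⟩, hyi⟩
    obtain ⟨t, ht⟩ := glue {y // y ∈ T} (fun k => W k.1) (fun k => hWle k.1) (fun k => hWB k.1) hcov
      (fun k => tt k.1) (by
      intro k l
      have hB' := hinf _ (hWB k.1) _ (hWB l.1)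
      rw [← sub_eq_zero]
      have h0 : η P (W k.1 ⊓ W l.1) (rs P inf_le_left (tt k.1) - rs P inf_le_right (tt l.1)) = 0 := by
        rw [map_sub, η_rs, η_rs, htt, htt, rs_rs, rs_rs, sub_self]
      exact sep _ hB' _ (locally_zero_of_η_eq_zero P B hB _ h0))
    refine ⟨t, sheafify_ext' P V₀ (fun k : {y // y ∈ T} => W k.1) (fun k => hWle k.1) hcov _ _ ?_⟩
    intro k
    rw [← η_rs, ht, htt]

end Groth.Agent.R2.H1.SheafifyTop
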