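import Mathlib
import Groth.Agent.R2.H1CohPushTop
import Groth.Agent.R2.H1CohGlueB
import Groth.Agent.R2.H1SheafifyBasis

/-!
# `H^q(f⁻¹D(a), M) → Γ(D(a), (V ↦ H^q(f⁻¹V, M))^#)` is bijective for `S` affine, `f` qcqs, `M` quasi-coherent

helper1 (round 2).  Generalisation of `H1CohPushTop.bijective_η` from `⊤` to all basic opens of the affine base.
-/

set_option autoImplicit false
universe u
open CategoryTheory CategoryTheory.Limits Opposite TopologicalSpace AlgebraicGeometry Abelian

namespace Groth.Agent.R2.H1.CohPushTop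

open Groth.Agent.Lib.Helper23.AffVanish Groth.Agent.Lib.Helper6 Groth.Agent.R2.H1.ExtLoc
open Groth.Agent.R2.H1.CohLoc Groth.Agent.R2.H1.SheafifyTop

variable {X S : Scheme.{u}} (f : X ⟶ S) (M : X.Modules) (q : ℕ)
variable [QuasiCompact f] [QuasiSeparated f] [IsAffine S] [M.IsQuasicoherent]

theorem bijective_η_basicOpen (a₀ : Γ(S, ⊤)) :
    Function.Bijective (η (PP f M q) (S.basicOpen a₀)) := by
  have : CompactSpace X := QuasiCompact.compactSpace_of_compactSpace f
  have : QuasiSeparatedSpace X := quasiSeparatedSpace_of_quasiSeparated f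
  refine bijective_toSheafify_of_mem (PP f M q) (Set.range (S.basicOpen : Γ(S, ⊤) → S.Opens))
    (isBasis_basicOpen S) ?_ (S.basicOpen a₀) ⟨a₀, rfl⟩
    ((isAffineOpen_top S).basicOpen a₀).isCompact ?_ ?_
  · rintro _ ⟨a, rfl⟩ _ ⟨b, rfl⟩
    exact ⟨a * b, Scheme.basicOpen_mul _ _ _⟩
  · rintro _ ⟨a, rfl⟩ x hx
    choose W hWB hWle hyW hW0 using fun y : {y // y ∈ S.basicOpen a} => hx y.1 y.2
    choose b hb using hWB
    have hcov : S.basicOpen a ≤ ⨆ j, S.basicOpen (b j) := by
      intro y hy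
      exact Opens.mem_iSup.2 ⟨⟨y, hy⟩, by rw [hb]; exact hyW ⟨y, hy⟩⟩
    have hrad := mem_radical_of_basicOpen_le a b hcov
    have hg : f.appTop.hom a ∈ (Ideal.span (Set.range fun k => f.appTop.hom (b k))).radical := by
      obtain ⟨N, hN⟩ := hrad
      refine ⟨N, ?_⟩
      rw [← map_pow, ← span_map_range]
      exact Ideal.mem_map_of_mem _ hN
    apply (toHR f M q _).injective
    rw [map_zero]
    refine eq_zero_of_locally M q (f ⁻¹ᵁ S.basicOpen a) (f.appTop.hom a)
      (Scheme.preimage_basicOpen_top f a) (fun k => f.appTop.hom (b k)) hg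
      (fun k => f ⁻¹ᵁ W k) (fun k _ hy => hWle k hy) ?_ _ ?_
    · intro k
      have h1 : f ⁻¹ᵁ W k = X.basicOpen (f.appTop.hom (b k)) := by
        rw [← hb k]
        exact Scheme.preimage_basicOpen_top f (b k)
      rw [← h1]
      refine (inf_eq_right.2 ?_).symm
      exact fun _ hy => hWle k hy
    · intro k
      rw [← toHR_rs f M q (hWle k) x, hW0 k, map_zero]
  · intro ι _ V hle hV hcov x hx
    choose a ha using hV
    have hrad : a₀ ∈ (Ideal.span (Set.range a)).radical := by
      apply mem_radical_of_basicOpen_le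
      simp_rw [ha]
      exact hcov
    have hg : f.appTop.hom a₀ ∈ (Ideal.span (Set.range fun k => f.appTop.hom (a k))).radical := by
      obtain ⟨N, hN⟩ := hrad
      refine ⟨N, ?_⟩
      rw [← map_pow, ← span_map_range]
      exact Ideal.mem_map_of_mem _ hN
    have hpre : ∀ k, f ⁻¹ᵁ V k = X.basicOpen (f.appTop.hom (a k)) := fun k => by
      rw [← ha k]
      exact Scheme.preimage_basicOpen_top f (a k)
    have hmono : ∀ k, f ⁻¹ᵁ V k ≤ f ⁻¹ᵁ S.basicOpen a₀ := fun k _ hy => hle k hy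
    obtain ⟨t, ht⟩ := exists_glue_basicOpen M q (fun k => f.appTop.hom (a k)) (f.appTop.hom a₀) hg
      (f ⁻¹ᵁ S.basicOpen a₀) (Scheme.preimage_basicOpen_top f a₀)
      (fun k => f ⁻¹ᵁ V k)
      (fun k => by
        rw [← hpre k]
        exact (inf_eq_right.2 (hmono k)).symm)
      hmono (fun k l => f ⁻¹ᵁ (V k ⊓ V l))
      (fun k l _ hy => (inf_le_left : V k ⊓ V l ≤ V k) hy)
      (fun k l _ hy => (inf_le_right : V k ⊓ V l ≤ V l) hy)
      (fun k l => rfl) (fun k => toHR f M q _ (x k))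
      (fun k l => by
        rw [← toHR_rs f M q (inf_le_left : V k ⊓ V l ≤ V k) (x k),
          ← toHR_rs f M q (inf_le_right : V k ⊓ V l ≤ V l) (x l), hx k l])
    refine ⟨(toHR f M q _).symm t, fun k => ?_⟩
    apply (toHR f M q _).injective
    rw [toHR_rs, AddEquiv.apply_symm_apply]
    exact ht k

end Groth.Agent.R2.H1.CohPushTop
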