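import Mathlib
import Groth.Agent.Lib.Helper23ModAbBridge
import Groth.Agent.Lib.Helper21DerAcycNat

/-!
# Natural bridge between higher direct images of `O`-modules and of their underlying abelian sheaves

helper1 (round 2).  `bridgeIso f n : Coh.Rpush f n ⋙ toSheaf ≅ toSheaf ⋙ Coh.RpushAb f n`, a natural isomorphism
(the objectwise statement is helper23's `nonempty_toAb_Rpush_iso`).
-/

set_option autoImplicit false
open CategoryTheory CategoryTheory.Limits AlgebraicGeometry
universe u

namespace Groth.Agent.R2.H1.RpushBridge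

open Groth.Agent.Lib.Helper21 Groth.Agent.Lib.Helper23.ModAbBridge

/-- `toAb ∘ R^n f_* ≅ R^n f_*^{ab} ∘ toAb`, naturally. -/
noncomputable def bridgeIso {X Y : Scheme.{u}} (f : X ⟶ Y) [HasInjectiveResolutions X.Modules] (n : ℕ) :
    Coh.Rpush f n ⋙ SheafOfModules.toSheaf Y.ringCatSheaf ≅
      SheafOfModules.toSheaf X.ringCatSheaf ⋙ Coh.RpushAb f n := by
  have := Groth.Agent.S0484.result (Opens.grothendieckTopology X) X.ringCatSheaf
  have : EnoughInjectives X.Modules := inferInstanceAs (EnoughInjectives (SheafOfModules.{u} X.ringCatSheaf))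
  let E : SheafOfModules.{u} X.ringCatSheaf ⥤ Sheaf (Opens.grothendieckTopology X) AddCommGrpCat.{u} :=
    SheafOfModules.toSheaf X.ringCatSheaf
  let E' : SheafOfModules.{u} Y.ringCatSheaf ⥤ Sheaf (Opens.grothendieckTopology Y) AddCommGrpCat.{u} :=
    SheafOfModules.toSheaf Y.ringCatSheaf
  let P : SheafOfModules.{u} X.ringCatSheaf ⥤ SheafOfModules.{u} Y.ringCatSheaf := Coh.push f
  have : P.Additive := inferInstanceAs (Coh.push f).Additive
  have : HasInjectiveResolutions (SheafOfModules.{u} X.ringCatSheaf) := ‹HasInjectiveResolutions X.Modules›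
  let e0 : P ⋙ E' ≅ E ⋙ Coh.pushAb f := Iso.refl _
  have : PreservesFiniteLimits (Coh.pushAb f) :=
    Groth.Agent.Lib.Helper16.ClosedEmb.push_preservesFiniteLimits f.base
  have hE : ∀ I : SheafOfModules.{u} X.ringCatSheaf, Injective I → ∀ q : ℕ, 0 < q →
      IsZero (((Coh.pushAb f).rightDerived q).obj (E.obj I)) := by
    intro I hI q hq
    obtain ⟨q, rfl⟩ : ∃ k, q = k + 1 := ⟨q - 1, by omega⟩
    exact @isZero_RpushAb_of_injective _ _ f I hI q
  exact (DerPost.postIso P E' n).symm ≪≫ DerPost.natIsoRightDerived e0 n ≪≫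
    DerAcycNat.compIso E (Coh.pushAb f) hE n

end Groth.Agent.R2.H1.RpushBridge
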