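import Mathlib

/-!
# Right derived functors are compatible with central endomorphisms

helper1 (round 2).  If `σ` and `τ` are natural endomorphisms of the identity functors of two abelian categories
and an additive functor `F` intertwines them, so do its right derived functors.
-/

set_option autoImplicit false
open CategoryTheory CategoryTheory.Limits

namespace Groth.Agent.R2.H1.DerLinear

universe v v' u u'

variable {C : Type u} [Category.{v} C] [Abelian C] {D : Type u'} [Category.{v'} D] [Abelian D]

section Homology

variable {ι : Type*} {c : ComplexShape ι} (τ : ∀ B : D, B ⟶ B)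
  (hτ : ∀ {A B : D} (g : A ⟶ B), τ A ≫ g = g ≫ τ B)

/-- the chain endomorphism of a complex given by a central endomorphism -/
def chainEnd (K : HomologicalComplex D c) : K ⟶ K where
  f i := τ (K.X i)
  comm' i j _ := (hτ (K.d i j))

include hτ in
lemma homologyMap_chainEnd (K : HomologicalComplex D c) (i : ι) :
    HomologicalComplex.homologyMap (chainEnd τ hτ K) i = τ (K.homology i) := by
  have h1 : HomologicalComplex.cyclesMap (chainEnd τ hτ K) i = τ (K.cycles i) := by
    rw [← cancel_mono (K.iCycles i), HomologicalComplex.cyclesMap_i]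
    exact (hτ (K.iCycles i)).symm
  rw [← cancel_epi (K.homologyπ i), HomologicalComplex.homologyπ_naturality, h1]
  exact hτ (K.homologyπ i)

end Homology

variable [HasInjectiveResolutions C] (F : C ⥤ D) [F.Additive]
  (σ : ∀ A : C, A ⟶ A) (hσ : ∀ {A B : C} (g : A ⟶ B), σ A ≫ g = g ≫ σ B)
  (τ : ∀ B : D, B ⟶ B) (hτ : ∀ {A B : D} (g : A ⟶ B), τ A ≫ g = g ≫ τ B)
  (hF : ∀ A : C, F.map (σ A) = τ (F.obj A))

include hσ hτ hF in
theorem rightDerived_map_central (n : ℕ) (A : C) :
    (F.rightDerived n).map (σ A) = τ ((F.rightDerived n).obj A) := by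
  let I := injectiveResolution A
  have comm : I.ι.f 0 ≫ (chainEnd σ hσ I.cocomplex).f 0 = σ A ≫ I.ι.f 0 := (hσ (I.ι.f 0)).symm
  have h1 := InjectiveResolution.isoRightDerivedObj_hom_naturality (σ A) I I
    (chainEnd σ hσ I.cocomplex) comm F n
  have h2 : (F.mapHomologicalComplex (ComplexShape.up ℕ)).map (chainEnd σ hσ I.cocomplex) =
      chainEnd τ hτ ((F.mapHomologicalComplex (ComplexShape.up ℕ)).obj I.cocomplex) := by
    ext k
    exact hF _
  rw [Functor.comp_map, h2] at h1
  change _ = _ ≫ HomologicalComplex.homologyMap _ n at h1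
  rw [homologyMap_chainEnd τ hτ] at h1
  rw [← cancel_mono (I.isoRightDerivedObj F n).hom, h1]
  exact (hτ _).symm

end Groth.Agent.R2.H1.DerLinear
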