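import Mathlib
import Groth.Prelude.Def_KLin
import Groth.Agent.Lib.Helper20FormalPull
import Groth.Agent.R2.H1DerLinear

/-!
# Higher direct images are linear over the global functions of the base

helper1 (round 2).
-/

set_option autoImplicit false
open CategoryTheory CategoryTheory.Limits AlgebraicGeometry
universe u

namespace Groth.Agent.R2.H1.RpushLinear

/-- `R^p f_*` sends multiplication by `f^# r` on `M` to multiplication by `r` on `R^p f_* M`. -/
theorem Rpush_map_smulModΓ {X S : Scheme.{u}} (f : X ⟶ S) [HasInjectiveResolutions X.Modules]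
    (M : X.Modules) (p : ℕ) (r : Coh.Γtop S) :
    (Coh.Rpush f p).map (Formal.smulModΓ M (f.appTop.hom r)) =
      Formal.smulModΓ ((Coh.Rpush f p).obj M) r :=
  Groth.Agent.R2.H1.DerLinear.rightDerived_map_central (Scheme.Modules.pushforward f)
    (fun A => Formal.smulModΓ A (f.appTop.hom r)) (fun g => (KLin.comp_smulModΓ g _).symm)
    (fun B => Formal.smulModΓ B r) (fun g => (KLin.comp_smulModΓ g _).symm)
    (fun A => Groth.Agent.Lib.Helper20.FormalPull.pushforward_map_smulModΓ f A r) p M

/-- the underlying morphism of abelian sheaves of `smulModΓ` is `Coh.smulAb` -/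
theorem toSheaf_map_smulModΓ {X : Scheme.{u}} (M : X.Modules) (r : Coh.Γtop X) :
    (SheafOfModules.toSheaf X.ringCatSheaf).map (Formal.smulModΓ M r) = Coh.smulAb M r := rfl

end Groth.Agent.R2.H1.RpushLinear
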