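import Mathlib
import Groth.Agent.R2.H1RpushBridge
import Groth.Agent.R2.H1RpushLinear
import Groth.Agent.R2.H1CohPushBasic
import Groth.Agent.Lib.Helper16RpushNat
import Groth.Agent.Lib.Helper23QCohLocal

/-!
# The natural isomorphism `toAb (R^p f_* M) ≅ (V ↦ H^p(f⁻¹V, M))^#`

helper1 (round 2).
-/

set_option autoImplicit false
universe u
open CategoryTheory CategoryTheory.Limits Opposite TopologicalSpace AlgebraicGeometry Abelian

namespace Groth.Agent.R2.H1.RpushQCoh

open Groth.Agent.Lib.Helper23.AffVanish Groth.Agent.Lib.Helper6 Groth.Agent.R2.H1.ExtLoc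
open Groth.Agent.R2.H1.CohLoc Groth.Agent.R2.H1.SheafifyTop Groth.Agent.R2.H1.CohPushTop
open Groth.Agent.R2.H1.RpushBridge Groth.Agent.R2.H1.RpushLinear

variable {X S : Scheme.{u}} (f : X ⟶ S) [HasInjectiveResolutions X.Modules] (M : X.Modules) (p : ℕ)

/-- the endomorphism of the presheaf `V ↦ H^p(f⁻¹V, M)` induced by an endomorphism of `toAb M` -/
noncomputable abbrev αP (b : Coh.toAb M ⟶ Coh.toAb M) : PP f M p ⟶ PP f M p :=
  Functor.whiskerLeft (Opens.map f.base).op
    ((Sheaf.cohomologyPresheafFunctor.{u} (Opens.grothendieckTopology X) p).map b)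

/-- the sheaf `(V ↦ H^p(f⁻¹V, M))^#` -/
noncomputable abbrev PS : Sheaf (Opens.grothendieckTopology S) AddCommGrpCat.{u} :=
  (presheafToSheaf (Opens.grothendieckTopology S) AddCommGrpCat.{u}).obj (PP f M p)

/-- `toAb (R^p f_* M) ≅ (V ↦ H^p(f⁻¹V, M))^#` -/
noncomputable def Ξ : Coh.toAb ((Coh.Rpush f p).obj M) ≅ PS f M p :=
  (bridgeIso f p).app M ≪≫
    (Groth.Agent.Lib.Helper16.RpushNat.natIso (Opens.grothendieckTopology X)
      (Opens.grothendieckTopology S) (Opens.map f.base) p).app (Coh.toAb M)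

lemma Ξ_naturality (e : M ⟶ M) :
    (SheafOfModules.toSheaf S.ringCatSheaf).map ((Coh.Rpush f p).map e) ≫ (Ξ f M p).hom =
      (Ξ f M p).hom ≫ (presheafToSheaf (Opens.grothendieckTopology S) AddCommGrpCat.{u}).map
        (αP f M p ((SheafOfModules.toSheaf X.ringCatSheaf).map e)) := by
  have h1 := (bridgeIso f p).hom.naturality e
  have h2 := (Groth.Agent.Lib.Helper16.RpushNat.natIso (Opens.grothendieckTopology X)
      (Opens.grothendieckTopology S) (Opens.map f.base) p).hom.naturality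
      ((SheafOfModules.toSheaf X.ringCatSheaf).map e)
  dsimp only [Ξ, Iso.trans_hom, Iso.app_hom]
  rw [← Category.assoc]
  erw [h1]
  rw [Category.assoc]
  erw [h2]
  rfl

end Groth.Agent.R2.H1.RpushQCoh
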