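import Mathlib
import Groth.Agent.R2.H1RpushXi

/-!
# Higher direct images of quasi-coherent modules over an affine base are quasi-coherent

helper1 (round 2).
-/

set_option autoImplicit false
universe u
open CategoryTheory CategoryTheory.Limits Opposite TopologicalSpace AlgebraicGeometry Abelian

namespace Groth.Agent.R2.H1.RpushQCoh

open Groth.Agent.Lib.Helper23.AffVanish Groth.Agent.Lib.Helper6 Groth.Agent.R2.H1.ExtLoc
open Groth.Agent.R2.H1.CohLoc Groth.Agent.R2.H1.SheafifyTop Groth.Agent.R2.H1.CohPushTop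
open Groth.Agent.R2.H1.RpushBridge Groth.Agent.R2.H1.RpushLinear

variable {X S : Scheme.{u}} (f : X ⟶ S) [HasInjectiveResolutions X.Modules] (M : X.Modules) (p : ℕ)

/-- `Ξ` on sections -/
noncomputable def ξ (W : S.Opens) :
    Γ((Coh.Rpush f p).obj M, W) →+ (sheafify (Opens.grothendieckTopology S) (PP f M p)).obj (op W) :=
  ((Ξ f M p).hom.hom.app (op W)).hom

lemma ξ_injective (W : S.Opens) : Function.Injective (ξ f M p W) := by
  intro a b hab
  have h1 : ∀ t, ((Ξ f M p).inv.hom.app (op W)).hom (ξ f M p W t) = t := fun t =>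
    congrArg (fun φ : Coh.toAb ((Coh.Rpush f p).obj M) ⟶ Coh.toAb ((Coh.Rpush f p).obj M) =>
      (φ.hom.app (op W)).hom t) (Ξ f M p).hom_inv_id
  rw [← h1 a, ← h1 b, hab]

lemma ξ_res {W W' : S.Opens} (h : W' ≤ W) (t : Γ((Coh.Rpush f p).obj M, W)) :
    ξ f M p W' (((Coh.Rpush f p).obj M).presheaf.map (homOfLE h).op t) =
      rs (sheafify (Opens.grothendieckTopology S) (PP f M p)) h (ξ f M p W t) :=
  congrArg (fun φ => φ.hom t) ((Ξ f M p).hom.hom.naturality (homOfLE h).op)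

/-- multiplication by a global function of the base, transported by `Ξ` -/
lemma ξ_smul (r : Γ(S, ⊤)) (W : S.Opens) (t : Γ((Coh.Rpush f p).obj M, W)) :
    ξ f M p W (S.presheaf.map (homOfLE (le_top : W ≤ ⊤)).op r • t) =
      ((sheafifyMap (Opens.grothendieckTopology S)
        (αP f M p (Coh.smulAb M (f.appTop.hom r)))).app (op W)).hom (ξ f M p W t) := by
  have key := Ξ_naturality f M p (Formal.smulModΓ M (f.appTop.hom r))
  rw [Rpush_map_smulModΓ, toSheaf_map_smulModΓ, toSheaf_map_smulModΓ] at key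
  exact congrArg (fun φ : Coh.toAb ((Coh.Rpush f p).obj M) ⟶ PS f M p => (φ.hom.app (op W)).hom t) key

omit [HasInjectiveResolutions X.Modules] in
/-- the unit of sheafification is natural -/
lemma η_αP (b : Coh.toAb M ⟶ Coh.toAb M) (W : S.Opens) (x : (PP f M p).obj (op W)) :
    ((sheafifyMap (Opens.grothendieckTopology S) (αP f M p b)).app (op W)).hom (η (PP f M p) W x) =
      η (PP f M p) W (((αP f M p b).app (op W)).hom x) :=
  (congrArg (fun φ : PP f M p ⟶ sheafify (Opens.grothendieckTopology S) (PP f M p) =>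
    (φ.app (op W)).hom x) (toSheafify_naturality (Opens.grothendieckTopology S) (αP f M p b))).symm

omit [HasInjectiveResolutions X.Modules] in
/-- `αP` of a multiplication is the module structure of `HR` -/
lemma αP_smul (r : Γ(X, ⊤)) (W : S.Opens) (x : (PP f M p).obj (op W)) :
    toHR f M p W (((αP f M p (Coh.smulAb M r)).app (op W)).hom x) = r • toHR f M p W x := rfl

omit [HasInjectiveResolutions X.Modules] in
lemma αP_smul' (r : Γ(X, ⊤)) (W : S.Opens) (x : HR M p (f ⁻¹ᵁ W)) :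
    ((αP f M p (Coh.smulAb M r)).app (op W)).hom ((toHR f M p W).symm x) =
      (toHR f M p W).symm (r • x) := rfl

omit [HasInjectiveResolutions X.Modules] in
lemma toHR_symm_rs {V W : S.Opens} (h : W ≤ V) (x : HR M p (f ⁻¹ᵁ V)) :
    rs (PP f M p) h ((toHR f M p V).symm x) =
      (toHR f M p W).symm (resR M p (show f ⁻¹ᵁ W ≤ f ⁻¹ᵁ V from fun _ hy => h hy) x) := rfl

variable [QuasiCompact f] [QuasiSeparated f] [IsAffine S] [M.IsQuasicoherent]

open Groth.Agent.Lib.Helper2.Push in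
/-- over an affine base, `R^p f_* M` is localising on the whole base -/
theorem isLocOn_top : IsLocOn ((Coh.Rpush f p).obj M) (⊤ : S.Opens) := by
  have : CompactSpace X := QuasiCompact.compactSpace_of_compactSpace f
  have : QuasiSeparatedSpace X := quasiSeparatedSpace_of_quasiSeparated f
  have hKL : ∀ g : Γ(S, ⊤), IsLocalizedModule (Submonoid.powers (f.appTop.hom g))
      (resR M p (show f ⁻¹ᵁ S.basicOpen g ≤ f ⁻¹ᵁ ⊤ from fun _ _ => trivial)) := fun g =>
    locAt_of_isCompact M (f.appTop.hom g) (f ⁻¹ᵁ ⊤) isCompact_univ p (f ⁻¹ᵁ S.basicOpen g) _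
      ((Scheme.preimage_basicOpen_top f g).trans (top_inf_eq _).symm)
  have hηtop := bijective_η f M p
  constructor
  · intro g s
    obtain ⟨y0, hy0⟩ := (bijective_η_basicOpen f M p g).2 (ξ f M p _ s)
    have := hKL g
    obtain ⟨⟨x, ⟨_, n, rfl⟩⟩, hx⟩ := IsLocalizedModule.surj (Submonoid.powers (f.appTop.hom g))
      (resR M p (show f ⁻¹ᵁ S.basicOpen g ≤ f ⁻¹ᵁ ⊤ from fun _ _ => trivial)) (toHR f M p _ y0)
    obtain ⟨t, ht⟩ : ∃ t, ξ f M p ⊤ t = η (PP f M p) ⊤ ((toHR f M p ⊤).symm x) := by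
      refine ⟨((Ξ f M p).inv.hom.app (op ⊤)).hom (η (PP f M p) ⊤ ((toHR f M p ⊤).symm x)), ?_⟩
      exact congrArg (fun φ : PS f M p ⟶ PS f M p =>
        (φ.hom.app (op ⊤)).hom (η (PP f M p) ⊤ ((toHR f M p ⊤).symm x))) (Ξ f M p).inv_hom_id
    refine ⟨n, t, ?_⟩
    apply ξ_injective f M p
    rw [ξ_res, ht, ← η_rs, toHR_symm_rs, ← hx, ← map_pow, ξ_smul, ← hy0, η_αP, map_pow]
    congr 1
  · intro g t ht
    obtain ⟨x0, hx0⟩ := hηtop.2 (ξ f M p ⊤ t)
    have := hKL g
    have hres : resR M p (show f ⁻¹ᵁ S.basicOpen g ≤ f ⁻¹ᵁ ⊤ from fun _ _ => trivial)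
        (toHR f M p ⊤ x0) = 0 := by
      apply (toHR f M p (S.basicOpen g)).symm.injective
      apply (bijective_η_basicOpen f M p g).1
      rw [map_zero, map_zero, ← toHR_symm_rs f M p (S.basicOpen_le g), AddEquiv.symm_apply_apply,
        η_rs, hx0, ← ξ_res, ht, map_zero]
    obtain ⟨⟨_, n, rfl⟩, hn⟩ := (IsLocalizedModule.eq_zero_iff (Submonoid.powers (f.appTop.hom g))
      (resR M p (show f ⁻¹ᵁ S.basicOpen g ≤ f ⁻¹ᵁ ⊤ from fun _ _ => trivial))).1 hres
    refine ⟨n, ?_⟩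
    apply ξ_injective f M p
    have h1 : S.presheaf.map (homOfLE (le_top : (⊤ : S.Opens) ≤ ⊤)).op (g ^ n) = g ^ n := by
      have : (homOfLE (le_top : (⊤ : S.Opens) ≤ ⊤)).op = 𝟙 (op ⊤) := rfl
      rw [this, S.presheaf.map_id]
      rfl
    have h2 := ξ_smul f M p (g ^ n) ⊤ t
    rw [h1] at h2
    rw [h2, ← hx0, η_αP, map_pow, map_zero]
    have h3 : ((αP f M p (Coh.smulAb M (f.appTop.hom g ^ n))).app (op ⊤)).hom x0 =
        (toHR f M p ⊤).symm (f.appTop.hom g ^ n • toHR f M p ⊤ x0) := rfl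
    rw [h3]
    have h4 : f.appTop.hom g ^ n • toHR f M p ⊤ x0 = 0 := hn
    rw [h4, map_zero, map_zero]

/-- **Higher direct images over an affine base are quasi-coherent.** -/
theorem isQuasicoherent_Rpush_of_isAffine : ((Coh.Rpush f p).obj M).IsQuasicoherent := by
  have hU : IsAffineOpen (⊤ : S.Opens) := isAffineOpen_top S
  have h := Groth.Agent.Lib.Helper23.QCohLocal.isQuasicoherent_restrict_fromSpec_of_isLocOn hU _
    (isLocOn_top f M p)
  refine Groth.Agent.Lib.Helper23.QCohLocal.isQuasicoherent_of_affine_cover _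
    (fun _ : PUnit.{u + 1} => (⊤ : S.Opens)) ?_ (fun _ => hU) (fun _ => h)
  exact ciSup_const

end Groth.Agent.R2.H1.RpushQCoh
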