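import Mathlib

/-!
# Direct image commutes with restriction to an open of the base

helper1 (round 2).  `pushRestrictIso f V : pushforward f ⋙ restrictFunctor V.ι ≅
restrictFunctor (f ⁻¹ᵁ V).ι ⋙ pushforward (f ∣_ V)`.
-/

set_option autoImplicit false
universe u
open CategoryTheory CategoryTheory.Limits Opposite TopologicalSpace AlgebraicGeometry

namespace Groth.Agent.R2.H1.PushRestrict

open Scheme.Modules

variable {X S : Scheme.{u}} (f : X ⟶ S) (V : S.Opens)

/-- the two opens of `X` attached to an open `W` of `V` agree -/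
lemma opens_eq (W : (V : Scheme.{u}).Opens) :
    (f ⁻¹ᵁ V).ι ''ᵁ ((f ∣_ V) ⁻¹ᵁ W) = f ⁻¹ᵁ (V.ι ''ᵁ W) :=
  image_morphismRestrict_preimage f V W

/-- the comparison on underlying abelian presheaves -/
noncomputable def homPre (M : X.Modules) :
    ((restrictFunctor V.ι).obj ((pushforward f).obj M)).val.presheaf ⟶
      ((pushforward (f ∣_ V)).obj ((restrictFunctor (f ⁻¹ᵁ V).ι).obj M)).val.presheaf where
  app W := M.presheaf.map (eqToHom (opens_eq f V W.unop)).op
  naturality W W' i := by
    change M.presheaf.map _ ≫ M.presheaf.map _ = M.presheaf.map _ ≫ M.presheaf.map _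
    rw [← M.presheaf.map_comp, ← M.presheaf.map_comp]
    rfl

lemma ring_compat (W : (V : Scheme.{u}).Opens) (r : Γ((V : Scheme.{u}), W)) :
    X.presheaf.map (eqToHom (opens_eq f V W)).op
      ((f.app (V.ι ''ᵁ W)).hom ((V.ι.appIso W).inv.hom r)) =
    (((f ⁻¹ᵁ V).ι.appIso ((f ∣_ V) ⁻¹ᵁ W)).inv.hom (((f ∣_ V).app W).hom r)) := by
  rw [Scheme.Opens.ι_appIso, Scheme.Opens.ι_appIso, morphismRestrict_app]
  rfl

/-- the comparison morphism `(f_* M)|_V ⟶ (f|_V)_* (M|_{f⁻¹V})` -/
noncomputable def hom (M : X.Modules) :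
    (restrictFunctor V.ι).obj ((pushforward f).obj M) ⟶
      (pushforward (f ∣_ V)).obj ((restrictFunctor (f ⁻¹ᵁ V).ι).obj M) :=
  ⟨PresheafOfModules.homMk (homPre f V M) (by
    intro W r m
    have h1 := Scheme.Modules.map_smul M (eqToHom (opens_eq f V W.unop))
      ((f.app (V.ι ''ᵁ W.unop)).hom ((V.ι.appIso W.unop).inv.hom r)) m
    rw [ring_compat] at h1
    exact h1)⟩

instance (M : X.Modules) : IsIso (homPre f V M) := by
  have : ∀ W, IsIso ((homPre f V M).app W) := fun W => by
    change IsIso (M.presheaf.map (eqToHom (opens_eq f V W.unop)).op)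
    infer_instance
  exact NatIso.isIso_of_isIso_app _

instance (M : X.Modules) : IsIso (hom f V M) := by
  have h : IsIso ((toPresheaf (V : Scheme.{u})).map (hom f V M)) := by
    change IsIso (homPre f V M)
    infer_instance
  exact isIso_of_reflects_iso _ (toPresheaf (V : Scheme.{u}))

lemma hom_naturality {M M' : X.Modules} (φ : M ⟶ M') :
    (restrictFunctor V.ι).map ((pushforward f).map φ) ≫ hom f V M' =
      hom f V M ≫ (pushforward (f ∣_ V)).map ((restrictFunctor (f ⁻¹ᵁ V).ι).map φ) := by
  apply (toPresheaf (V : Scheme.{u})).map_injective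
  apply NatTrans.ext
  funext W
  exact (φ.mapPresheaf.naturality (eqToHom (opens_eq f V W.unop)).op).symm

/-- **Direct image commutes with restriction to an open of the base.** -/
noncomputable def pushRestrictIso :
    pushforward f ⋙ restrictFunctor V.ι ≅
      restrictFunctor (f ⁻¹ᵁ V).ι ⋙ pushforward (f ∣_ V) :=
  NatIso.ofComponents (fun M => asIso (hom f V M)) (fun φ => hom_naturality f V φ)

end Groth.Agent.R2.H1.PushRestrict
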