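import Mathlib
import Groth.Agent.Lib.Helper16Restr
import Groth.Agent.Lib.Helper23ModAbBridge
import Groth.Agent.Lib.Helper23SectCmpLib

/-!
# Cohomology of opens of an open subspace; restrictions of injective modules are acyclic

helper1 (round 2).  For an open `U` of a space `X`, an open `W` of `U` and an abelian sheaf `F` on `X`:
`Ext^n_X(ℤ_{img W}, F) → Ext^n_U(ℤ_W, F|_U)` is bijective (`cmpW_bijective`).  Consequence: the restriction of
an injective `O_X`-module to an open subscheme has no higher cohomology on any open.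
-/

set_option autoImplicit false
set_option linter.style.haveILetI false
universe u
open CategoryTheory TopologicalSpace Opposite CategoryTheory.Limits Abelian

namespace Groth.Agent.R2.H1.RestrAcyclic

open Groth.Agent.Lib.Helper16.Restr Groth.Agent.Lib.Helper16.ClosedEmb Groth.Agent.Lib.Helper16.SectSupp

section Top

variable {X : TopCat.{u}} (U : Opens X) (W : Opens (TopCat.of U))

/-- the comparison map `ℤ_W ⟶ (ℤ_{img W})|_U` -/
noncomputable def wW : CohCx.freeSheaf (J (TopCat.of U)) W ⟶
    (CohTop.restrFunctor U).obj (CohCx.freeSheaf (J X) (img U W)) :=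
  CohFree.ofSect (J (TopCat.of U)) W ((CohTop.restrFunctor U).obj (CohCx.freeSheaf (J X) (img U W)))
    (CohFree.gen (J X) (img U W))

lemma evalGen_wW_comp {F : CohTop.Ab X} (φ : CohCx.freeSheaf (J X) (img U W) ⟶ F) :
    CohFree.evalGen (J (TopCat.of U)) W ((CohTop.restrFunctor U).obj F)
      (wW U W ≫ (CohTop.restrFunctor U).map φ) = CohFree.evalGen (J X) (img U W) F φ := by
  change (φ.hom.app (op (img U W))).hom (CohFree.evalGen (J (TopCat.of U)) W _ (wW U W)) = _
  rw [wW, CohFree.evalGen_ofSect]
  rfl

lemma wW_bijective (F : CohTop.Ab X) :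
    Function.Bijective (fun φ : CohCx.freeSheaf (J X) (img U W) ⟶ F =>
      wW U W ≫ (CohTop.restrFunctor U).map φ) := by
  have h : (fun φ : CohCx.freeSheaf (J X) (img U W) ⟶ F =>
      CohFree.homEquivSect (J (TopCat.of U)) W ((CohTop.restrFunctor U).obj F)
        (wW U W ≫ (CohTop.restrFunctor U).map φ)) =
      fun φ => CohFree.homEquivSect (J X) (img U W) F φ := by
    funext φ
    rw [CohFree.homEquivSect_apply, CohFree.homEquivSect_apply, evalGen_wW_comp]
  have h2 : Function.Bijective ((CohFree.homEquivSect (J (TopCat.of U)) W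
      ((CohTop.restrFunctor U).obj F)) ∘ (fun φ : CohCx.freeSheaf (J X) (img U W) ⟶ F =>
      wW U W ≫ (CohTop.restrFunctor U).map φ)) := by
    change Function.Bijective (fun φ : CohCx.freeSheaf (J X) (img U W) ⟶ F =>
      CohFree.homEquivSect (J (TopCat.of U)) W ((CohTop.restrFunctor U).obj F)
        (wW U W ≫ (CohTop.restrFunctor U).map φ))
    rw [h]
    exact (CohFree.homEquivSect (J X) (img U W) F).bijective
  exact (Function.Bijective.of_comp_iff' (CohFree.homEquivSect (J (TopCat.of U)) W
    ((CohTop.restrFunctor U).obj F)).bijective _).1 h2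

/-- acyclicity on the opens of `X` inside `U` implies acyclicity of the restriction on the opens of `U`
(in fact `Ext^n_X(ℤ_{img W}, F) ≃ Ext^n_U(ℤ_W, F|_U)`) -/
theorem subsingleton_ext_restr (F : CohTop.Ab X) (n : ℕ)
    (h : Subsingleton (Ext.{u} (CohCx.freeSheaf (J X) (img U W)) F n)) :
    Subsingleton (Ext.{u} (CohCx.freeSheaf (J (TopCat.of U)) W) ((CohTop.restrFunctor U).obj F) n) := by
  haveI := restr_preservesFiniteLimits U
  haveI := restr_preservesFiniteColimits U
  have hb := Groth.Agent.Lib.Helper16.ExtCompare.cmp_bijective.{u, u} (CohTop.restrFunctor U) (wW U W)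
    (wW_bijective U W) (fun I _ m => by
      haveI := Groth.Agent.Lib.Helper16.Flasque.injective_isFlasque I
      exact Groth.Agent.Lib.Helper16.Flasque.HU_subsingleton ((CohTop.restrFunctor U).obj I) W m) n F
  exact hb.2.subsingleton

end Top

open AlgebraicGeometry in
/-- the restriction of an injective `O_X`-module to an open subscheme is acyclic on every open -/
theorem subsingleton_HE_restrict_of_injective {X : Scheme.{u}} (I : X.Modules) [Injective I]
    (U : X.Opens) (W : Opens (U : Scheme.{u})) (n : ℕ) :
    Subsingleton (Groth.Agent.Lib.Helper23.AffVanish.HE (Coh.toAb (I.restrict U.ι)) (n + 1) W) :=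
  subsingleton_ext_restr (X := X.toTopCat) U W (Coh.toAb I) (n + 1)
    (Groth.Agent.Lib.Helper23.ModAbBridge.subsingleton_HE_of_injective I _ n)

end Groth.Agent.R2.H1.RestrAcyclic
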