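import Mathlib
import Groth.Agent.R2.H1PushRestrict
import Groth.Agent.R2.H1RestrAcyclic
import Groth.Agent.R2.H1RpushBridge
import Groth.Agent.Lib.Helper21DerAcycNat
import Groth.Agent.Lib.Helper23PushAcyclic

/-!
# Higher direct images of `O`-modules commute with restriction to an open of the base

helper1 (round 2).  `(R^p f_* M)|_V ≅ R^p (f|_V)_* (M|_{f⁻¹V})` (`rpushRestrictIso`).
-/

set_option autoImplicit false
set_option linter.style.haveILetI false
universe u
open CategoryTheory CategoryTheory.Limits Opposite TopologicalSpace AlgebraicGeometry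

namespace Groth.Agent.R2.H1.RpushRestrict

open Scheme.Modules Groth.Agent.Lib.Helper21

section Restrict

variable {X Y : Scheme.{u}} (j : X ⟶ Y) [IsOpenImmersion j]

instance isRightAdjoint_restrictFunctor : (restrictFunctor j).IsRightAdjoint := by
  let α : X.presheaf ⟶ j.opensFunctor.op ⋙ Y.presheaf := { app U := (j.appIso U.unop).inv }
  let φ : X.ringCatSheaf ⟶ (j.opensFunctor.sheafPushforwardContinuous RingCat.{u} _ _).obj Y.ringCatSheaf :=
    ⟨Functor.whiskerRight α (forget₂ CommRingCat RingCat)⟩
  exact inferInstanceAs (SheafOfModules.pushforward.{u} φ).IsRightAdjoint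

instance additive_restrictFunctor : (restrictFunctor j).Additive :=
  (restrictAdjunction j).left_adjoint_additive

instance preservesFiniteLimits_restrictFunctor : PreservesFiniteLimits (restrictFunctor j) := by
  have : PreservesLimitsOfSize.{0, 0} (restrictFunctor j) :=
    (Adjunction.ofIsRightAdjoint (restrictFunctor j)).rightAdjoint_preservesLimits
  exact PreservesLimitsOfSize.preservesFiniteLimits _

instance preservesFiniteColimits_restrictFunctor : PreservesFiniteColimits (restrictFunctor j) := by
  have : PreservesColimitsOfSize.{0, 0} (restrictFunctor j) :=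
    (restrictAdjunction j).leftAdjoint_preservesColimits
  exact PreservesColimitsOfSize.preservesFiniteColimits _

instance preservesHomology_restrictFunctor : (restrictFunctor j).PreservesHomology := inferInstance

end Restrict

theorem enoughInjectives_modules (U : Scheme.{u}) : EnoughInjectives U.Modules := by
  have := Groth.Agent.S0484.result (Opens.grothendieckTopology U) U.ringCatSheaf
  exact inferInstanceAs (EnoughInjectives (SheafOfModules.{u} U.ringCatSheaf))

section Main

variable {X S : Scheme.{u}} (f : X ⟶ S) (V : S.Opens)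

/-- the restriction of an injective module to the preimage of `V` is acyclic for `(f|_V)_*`. -/
theorem isZero_Rpush_restrict_of_injective
    [HasInjectiveResolutions (↑(f ⁻¹ᵁ V) : Scheme.{u}).Modules]
    (I : X.Modules) [Injective I] (q : ℕ) :
    IsZero ((Coh.Rpush (f ∣_ V) (q + 1)).obj (I.restrict (f ⁻¹ᵁ V).ι)) := by
  have h1 : IsZero ((Coh.RpushAb (f ∣_ V) (q + 1)).obj (Coh.toAb (I.restrict (f ⁻¹ᵁ V).ι))) := by
    refine Groth.Agent.Lib.Helper23.AffVanish.isZero_Rpush_of_basis (f ∣_ V).base Set.univ ?_
      (Coh.toAb (I.restrict (f ⁻¹ᵁ V).ι)) ?_ q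
    · rw [Opens.isBasis_iff_nbhd]
      intro U x hx
      exact ⟨U, trivial, hx, le_rfl⟩
    · intro W _ i
      exact Groth.Agent.R2.H1.RestrAcyclic.subsingleton_HE_restrict_of_injective I (f ⁻¹ᵁ V) _ i
  have h2 : IsZero ((SheafOfModules.toSheaf _).obj
      ((Coh.Rpush (f ∣_ V) (q + 1)).obj (I.restrict (f ⁻¹ᵁ V).ι))) :=
    h1.of_iso ((Groth.Agent.R2.H1.RpushBridge.bridgeIso (f ∣_ V) (q + 1)).app _)
  rw [IsZero.iff_id_eq_zero] at h2 ⊢
  apply (SheafOfModules.toSheaf _).map_injective
  exact ((SheafOfModules.toSheaf _).map_id _).trans (h2.trans ((SheafOfModules.toSheaf _).map_zero _ _).symm)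

/-- **Higher direct images commute with restriction to an open of the base.** -/
noncomputable def rpushRestrictIso [HasInjectiveResolutions X.Modules]
    [HasInjectiveResolutions (↑(f ⁻¹ᵁ V) : Scheme.{u}).Modules] (M : X.Modules) (p : ℕ) :
    ((Coh.Rpush f p).obj M).restrict V.ι ≅
      (Coh.Rpush (f ∣_ V) p).obj (M.restrict (f ⁻¹ᵁ V).ι) := by
  have : EnoughInjectives (↑(f ⁻¹ᵁ V) : Scheme.{u}).Modules := enoughInjectives_modules _
  have hE : ∀ I : X.Modules, Injective I → ∀ q : ℕ, 0 < q →
      IsZero (((pushforward (f ∣_ V)).rightDerived q).obj ((restrictFunctor (f ⁻¹ᵁ V).ι).obj I)) := by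
    intro I hI q hq
    obtain ⟨q, rfl⟩ : ∃ k, q = k + 1 := ⟨q - 1, by omega⟩
    exact isZero_Rpush_restrict_of_injective f V I q
  exact (DerPost.postIso (pushforward f) (restrictFunctor V.ι) p).symm.app M ≪≫
    (DerPost.natIsoRightDerived (Groth.Agent.R2.H1.PushRestrict.pushRestrictIso f V) p).app M ≪≫
    (DerAcycNat.compIso (restrictFunctor (f ⁻¹ᵁ V).ι) (pushforward (f ∣_ V)) hE p).app M

end Main

end Groth.Agent.R2.H1.RpushRestrict
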