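import Mathlib
import Groth.Agent.R2.H1RpushQCohAff
import Groth.Agent.R2.H1RpushRestrict

/-!
# Higher direct images of quasi-coherent modules along qcqs morphisms are quasi-coherent

helper1 (round 2).  General base: restrict to the affine opens `V` of the base, use
`(R^p f_* M)|_V ≅ R^p (f|_V)_* (M|_{f⁻¹V})` and the affine-base case.
-/

set_option autoImplicit false
universe u
open CategoryTheory CategoryTheory.Limits Opposite TopologicalSpace AlgebraicGeometry

namespace Groth.Agent.R2.H1.RpushQCoh

open Scheme.Modules Groth.Agent.R2.H1.RpushRestrict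

/-- **Higher direct images of a quasi-coherent module along a quasi-compact quasi-separated morphism are
quasi-coherent.** -/
theorem isQuasicoherent_Rpush {X S : Scheme.{u}} (f : X ⟶ S) [QuasiCompact f] [QuasiSeparated f]
    [HasInjectiveResolutions X.Modules] (M : X.Modules) [M.IsQuasicoherent] (p : ℕ) :
    ((Coh.Rpush f p).obj M).IsQuasicoherent := by
  refine Groth.Agent.Lib.Helper23.QCohLocal.isQuasicoherent_of_affine_cover _
    (fun V : S.affineOpens => V.1) (iSup_affineOpens_eq_top S) (fun V => V.2) ?_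
  intro V
  have : EnoughInjectives (↑(f ⁻¹ᵁ V.1) : Scheme.{u}).Modules := enoughInjectives_modules _
  have : HasInjectiveResolutions (↑(f ⁻¹ᵁ V.1) : Scheme.{u}).Modules := inferInstance
  have : IsAffine (↑V.1 : Scheme.{u}) := V.2
  have hq : ((Coh.Rpush (f ∣_ V.1) p).obj (M.restrict (f ⁻¹ᵁ V.1).ι)).IsQuasicoherent :=
    isQuasicoherent_Rpush_of_isAffine (f ∣_ V.1) _ p
  have hq2 : (((Coh.Rpush f p).obj M).restrict V.1.ι).IsQuasicoherent :=
    (SheafOfModules.isQuasicoherent (↑V.1 : Scheme.{u}).ringCatSheaf).prop_of_iso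
      (rpushRestrictIso f V.1 M p).symm hq
  have hq3 : ((((Coh.Rpush f p).obj M).restrict V.1.ι).restrict V.2.isoSpec.inv).IsQuasicoherent :=
    inferInstance
  exact (SheafOfModules.isQuasicoherent (Spec Γ(S, V.1)).ringCatSheaf).prop_of_iso
    ((restrictFunctorComp V.2.isoSpec.inv V.1.ι).app ((Coh.Rpush f p).obj M)).symm hq3

end Groth.Agent.R2.H1.RpushQCoh
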