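import Mathlib
import Groth.Agent.R2.H1RpushXi
import Groth.Agent.R2.H1CohPushTop
import Groth.Agent.R2.H79CechNat
import Groth.Agent.Lib.Helper23FinType2

/-!
# Global sections of `R^p f_* M` over an affine base, linearly (helper62)

For `f : X ⟶ S` qcqs with `S` affine and `M` quasi-coherent:
`secEquiv f M p : Γ(S, R^p f_* M) ≃+ H^p(X, M)`, and it is semilinear for `f^♯ : Γ(S, O_S) → Γ(X, O_X)`
(`secEquiv_smul`).  Built from helper1's natural `Ξ`, `bijective_η`, `Rpush_map_smulModΓ` and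
helper79's `HETopEquivH_natural`.
-/

set_option autoImplicit false
universe u
open CategoryTheory CategoryTheory.Limits Opposite TopologicalSpace AlgebraicGeometry

namespace Groth.Agent.R2.H62.RpushCoh

open Groth.Agent.R2.H1.RpushQCoh Groth.Agent.R2.H1.CohPushTop Groth.Agent.R2.H1.SheafifyTop
  Groth.Agent.Lib.Helper23.AffVanish

variable {X S : Scheme.{u}} (f : X ⟶ S) [HasInjectiveResolutions X.Modules] (M : X.Modules) (p : ℕ)

/-- the isomorphism `Ξ` on global sections -/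
noncomputable def ΞTop : ((Coh.toAb ((Coh.Rpush f p).obj M)).obj.obj (op ⊤)) ≃+
    ((sheafify (Opens.grothendieckTopology S) (PP f M p)).obj (op ⊤)) :=
  (((sheafSections (Opens.grothendieckTopology S) AddCommGrpCat.{u}).obj (op ⊤)).mapIso
    (Ξ f M p)).addCommGroupIsoToAddEquiv

theorem ΞTop_apply (y : (Coh.toAb ((Coh.Rpush f p).obj M)).obj.obj (op ⊤)) :
    ΞTop f M p y = ((Ξ f M p).hom.hom.app (op ⊤)).hom y := rfl

/-- `Ξ` on global sections intertwines multiplication by `r` with the map induced by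
multiplication by `f^♯ r` on `M`. -/
theorem ΞTop_smul (r : Coh.Γtop S) (y : (Coh.toAb ((Coh.Rpush f p).obj M)).obj.obj (op ⊤)) :
    ΞTop f M p (((Coh.smulAb ((Coh.Rpush f p).obj M) r).hom.app (op ⊤)).hom y) =
      ((sheafifyMap (Opens.grothendieckTopology S)
        (αP f M p (Coh.smulAb M (f.appTop.hom r)))).app (op ⊤)).hom (ΞTop f M p y) := by
  have h := Ξ_naturality f M p (Formal.smulModΓ M (f.appTop.hom r))
  rw [Groth.Agent.R2.H1.RpushLinear.Rpush_map_smulModΓ,
    Groth.Agent.R2.H1.RpushLinear.toSheaf_map_smulModΓ,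
    Groth.Agent.R2.H1.RpushLinear.toSheaf_map_smulModΓ] at h
  have h2 := congrArg (fun φ => (φ.hom.app (op ⊤)).hom y) h
  exact h2


/-- the unit of sheafification is natural -/
theorem η_natural {P Q : (Opens S)ᵒᵖ ⥤ AddCommGrpCat.{u}} (φ : P ⟶ Q) (V : Opens S)
    (t : P.obj (op V)) :
    η Q V ((φ.app (op V)).hom t) =
      ((sheafifyMap (Opens.grothendieckTopology S) φ).app (op V)).hom (η P V t) := by
  have h := toSheafify_naturality (Opens.grothendieckTopology S) φ
  exact congrArg (fun ψ => (ψ.app (op V)).hom t) h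

section affine

variable [QuasiCompact f] [QuasiSeparated f] [IsAffine S] [M.IsQuasicoherent]

/-- `H^p(X, M) ≃+ Γ(S, (V ↦ H^p(f⁻¹V, M))^#)` -/
noncomputable def ηEquiv : (PP f M p).obj (op ⊤) ≃+
    ((sheafify (Opens.grothendieckTopology S) (PP f M p)).obj (op ⊤)) :=
  AddEquiv.ofBijective (η (PP f M p) ⊤) (bijective_η f M p)

/-- **Global sections of `R^p f_* M` are `H^p(X, M)`** (additively; see `secEquiv_smul`). -/
noncomputable def secEquiv :
    ((Coh.toAb ((Coh.Rpush f p).obj M)).obj.obj (op ⊤)) ≃+ Coh.HH X M p :=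
  ((ΞTop f M p).trans (ηEquiv f M p).symm).trans (HETopEquivH X.carrier (Coh.toAb M) p)

/-- `secEquiv` is semilinear over `f^♯ : Γ(S, O_S) → Γ(X, O_X)`. -/
theorem secEquiv_smul (r : Coh.Γtop S) (y : (Coh.toAb ((Coh.Rpush f p).obj M)).obj.obj (op ⊤)) :
    secEquiv f M p (((Coh.smulAb ((Coh.Rpush f p).obj M) r).hom.app (op ⊤)).hom y) =
      Sheaf.H.map (Coh.smulAb M (f.appTop.hom r)) p (secEquiv f M p y) := by
  have h1 := ΞTop_smul f M p r y
  obtain ⟨t, ht⟩ := (ηEquiv f M p).surjective (ΞTop f M p y)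
  have ht' : η (PP f M p) ⊤ t = ΞTop f M p y := ht
  have h2 := η_natural (αP f M p (Coh.smulAb M (f.appTop.hom r))) ⊤ t
  rw [ht', ← h1] at h2
  have h3 : (ηEquiv f M p).symm (ΞTop f M p
      (((Coh.smulAb ((Coh.Rpush f p).obj M) r).hom.app (op ⊤)).hom y)) =
      ((αP f M p (Coh.smulAb M (f.appTop.hom r))).app (op ⊤)).hom t := by
    rw [AddEquiv.symm_apply_eq]
    exact h2.symm
  have h4 : (ηEquiv f M p).symm (ΞTop f M p y) = t := by
    rw [AddEquiv.symm_apply_eq]
    exact ht.symm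
  change HETopEquivH X.carrier (Coh.toAb M) p ((ηEquiv f M p).symm (ΞTop f M p _)) =
    Sheaf.H.map _ p (HETopEquivH X.carrier (Coh.toAb M) p ((ηEquiv f M p).symm (ΞTop f M p y)))
  rw [h3, h4]
  exact Groth.Agent.R2.H79.CechNat.HETopEquivH_natural X.carrier (Coh.smulAb M (f.appTop.hom r)) p t


omit [HasInjectiveResolutions X.Modules] [QuasiCompact f] [QuasiSeparated f] in
/-- the structure map of `X ⟶ S ≅ Spec Γ(S, O_S)` on global functions is `f^♯` -/
theorem toGlobal_eq (r : Γ(S, ⊤)) :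
    Coh.toGlobal (f ≫ S.isoSpec.hom) r = f.appTop.hom r := by
  unfold Coh.toGlobal
  rw [Scheme.Hom.comp_appTop]
  change f.appTop.hom (S.toSpecΓ.appTop.hom ((Scheme.ΓSpecIso _).inv.hom r)) = _
  rw [Scheme.toSpecΓ_appTop]
  congr 1
  exact ConcreteCategory.congr_hom ((Scheme.ΓSpecIso Γ(S, ⊤)).inv_hom_id) r

/-- over an affine base, `Γ(S, R^p f_* M)` is a finite `Γ(S, O_S)`-module as soon as `H^p(X, M)` is. -/
theorem finite_Γ_Rpush
    (h : letI : X.Over (Spec Γ(S, ⊤)) := ⟨f ≫ S.isoSpec.hom⟩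
      Module.Finite Γ(S, ⊤) (Coh.HH X M p)) :
    Module.Finite Γ(S, ⊤) Γ((Coh.Rpush f p).obj M, ⊤) := by
  letI : X.Over (Spec Γ(S, ⊤)) := ⟨f ≫ S.isoSpec.hom⟩
  haveI : Module.Finite Γ(S, ⊤) (Coh.HH X M p) := h
  let e : Coh.HH X M p ≃+ Γ((Coh.Rpush f p).obj M, ⊤) := (secEquiv f M p).symm
  refine (Groth.Agent.Lib.Helper23.FinType.finite_iff_of_semilinear (RingHom.id Γ(S, ⊤))
    Function.surjective_id e ?_).1 h
  intro r x
  obtain ⟨y, rfl⟩ := (secEquiv f M p).surjective x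
  have hy : e (secEquiv f M p y) = (show Γ((Coh.Rpush f p).obj M, ⊤) from y) :=
    (secEquiv f M p).symm_apply_apply y
  rw [hy]
  change (secEquiv f M p).symm _ = _
  rw [AddEquiv.symm_apply_eq]
  have h1 := secEquiv_smul f M p r y
  rw [Coh.smulAb_app] at h1
  have h2 : Coh.resTop S (op ⊤) r = r := by
    change (S.ringCatSheaf.obj.map (𝟙 (op ⊤))).hom r = r
    rw [CategoryTheory.Functor.map_id]
    rfl
  rw [h2] at h1
  refine Eq.trans ?_ h1.symm
  change Sheaf.H.map (Coh.smulAb M (Coh.toGlobal (f ≫ S.isoSpec.hom) r)) p _ = _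
  rw [toGlobal_eq]

end affine

end Groth.Agent.R2.H62.RpushCoh
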