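import Mathlib
import Groth.Agent.R2.H16CbcFINat
import Groth.Agent.Lib.Helper13FlatCx

/-!
# PROJ:cbc / FI — `H_q(bcCx ρ P) ≃ T_q(B)` equivariantly, ranks (helper16)

Namespace `Groth.Agent.R2.H16.CbcFIRank`.
-/

set_option autoImplicit false
set_option linter.style.haveILetI false
set_option linter.unusedSectionVars false
universe u
open CategoryTheory CategoryTheory.Limits MonoidalCategory TensorProduct

namespace Groth.Agent.R2.H16.CbcFIRank

open Groth.Agent.R2.H16.CbcFITerm Groth.Agent.R2.H16.CbcFINat Groth.Agent.Helper13FlatCx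
  Groth.Agent.S2380

section cat

variable {C : Type*} [Category C]

theorem iso_conj {X Y : C} (m : X ≅ Y) (a : X ⟶ X) (b : Y ⟶ Y) (h : a ≫ m.hom = m.hom ≫ b) :
    b ≫ m.inv = m.inv ≫ a := by
  rw [Iso.comp_inv_eq, Category.assoc, h, Iso.inv_hom_id_assoc]

theorem key_aux {X Y Z : C} (minv : Y ⟶ X) (a : X ⟶ X) (b : Y ⟶ Y) (k : X ⟶ Z) (t : Z ⟶ Z)
    (h1 : b ≫ minv = minv ≫ a) (h2 : a ≫ k = k ≫ t) : b ≫ (minv ≫ k) = (minv ≫ k) ≫ t := by
  rw [← Category.assoc, h1, Category.assoc, h2, Category.assoc]

end cat

section smul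

variable {R : Type u} [CommRing R] {ι : Type} {c : ComplexShape ι}

/-- `homologyMap` is linear. -/
theorem homologyMap_smul' {K L : HomologicalComplex (ModuleCat.{u} R) c} (φ : K ⟶ L) (b : R) (i : ι) :
    HomologicalComplex.homologyMap (b • φ) i = b • HomologicalComplex.homologyMap φ i := by
  exact (ShortComplex.homologyMap_smul
    ((HomologicalComplex.shortComplexFunctor (ModuleCat.{u} R) c i).map φ) b)

/-- the scalar action on homology is induced by the scalar action on the complex. -/
theorem smul_homology_eq (K : HomologicalComplex (ModuleCat.{u} R) c) (b : R) (i : ι)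
    (x : K.homology i) :
    b • x = (HomologicalComplex.homologyMap (b • 𝟙 K) i).hom x := by
  rw [homologyMap_smul', HomologicalComplex.homologyMap_id]
  rfl

end smul

section comp

variable (A B : Type u) [CommRing A] [CommRing B] [Algebra A B]

/-- multiplication by `b` on `B`, as an `A`-linear endomorphism of `ModuleCat.of A B`. -/
noncomputable abbrev mulB (b : B) : ModuleCat.of A B ⟶ ModuleCat.of A B :=
  ModuleCat.ofHom (LinearMap.mulLeft A b)

theorem compEquiv_smul (M : ModuleCat.{u} A) (b : B)
    (z : ((ModuleCat.extendScalars (algebraMap A B)).obj M)) :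
    compEquiv A B M (b • z) = LinearMap.lTensor M (LinearMap.mulLeft A b) (compEquiv A B M z) := by
  rw [compEquiv_apply, compEquiv_apply, map_smul]
  generalize bridge A B M z = w
  induction w using TensorProduct.induction_on with
  | zero => simp
  | tmul b' m =>
    rw [TensorProduct.smul_tmul', TensorProduct.comm_tmul, TensorProduct.comm_tmul,
      LinearMap.lTensor_tmul]
    rfl
  | add x y hx hy => rw [smul_add, map_add, map_add, hx, hy, map_add]

variable {ι : Type} {c : ComplexShape ι} (P : HomologicalComplex (ModuleCat.{u} A) c) (q : ι)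

/-- the isomorphism of complexes `restrictScalars (bcCx P) ≅ P ⊗_A B` -/
noncomputable def cxIso :
    ((ModuleCat.restrictScalars.{u} (algebraMap A B)).mapHomologicalComplex c).obj
        (CohIII.bcCx (algebraMap A B) P) ≅ CohIII.tensorObj P (ModuleCat.of A B) :=
  (NatIso.mapHomologicalComplex (compIso A B) c).app P

theorem cxIso_hom_f_apply (i : ι) (z : ((ModuleCat.extendScalars (algebraMap A B)).obj (P.X i))) :
    ((cxIso A B P).hom.f i).hom z = compEquiv A B (P.X i) z := rfl

/-- the complex isomorphism intertwines multiplication by `b` with `P ⊗ (b ·)` -/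
theorem cxIso_smul (b : B) :
    ((ModuleCat.restrictScalars.{u} (algebraMap A B)).mapHomologicalComplex c).map
        (b • 𝟙 (CohIII.bcCx (algebraMap A B) P)) ≫ (cxIso A B P).hom =
      (cxIso A B P).hom ≫ CohIII.tensorMap P (mulB A B b) := by
  apply HomologicalComplex.hom_ext
  intro i
  apply ModuleCat.hom_ext
  apply LinearMap.ext
  intro z
  exact compEquiv_smul A B (P.X i) b z

/-- `H_q(bcCx P)`, restricted to `A`, is `T_q(B)`. -/
noncomputable def hIso :
    (ModuleCat.restrictScalars.{u} (algebraMap A B)).obj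
        ((CohIII.bcCx (algebraMap A B) P).homology q) ≅ (CohIII.TFun P q).obj (ModuleCat.of A B) :=
  (((CohIII.bcCx (algebraMap A B) P).sc q).mapHomologyIso
      (ModuleCat.restrictScalars.{u} (algebraMap A B))).symm ≪≫
    (HomologicalComplex.homologyFunctor _ _ q).mapIso (cxIso A B P)

theorem hIso_smul (b : B) (x : (CohIII.bcCx (algebraMap A B) P).homology q) :
    (hIso A B P q).hom.hom (b • x) =
      ((CohIII.TFun P q).map (mulB A B b)).hom ((hIso A B P q).hom.hom x) := by
  rw [smul_homology_eq]
  have h1 := ShortComplex.mapHomologyIso_hom_naturality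
    ((HomologicalComplex.shortComplexFunctor _ c q).map (b • 𝟙 (CohIII.bcCx (algebraMap A B) P)))
    (ModuleCat.restrictScalars.{u} (algebraMap A B))
  have h2 := congrArg (fun φ => HomologicalComplex.homologyMap φ q) (cxIso_smul A B P b)
  simp only [HomologicalComplex.homologyMap_comp] at h2
  have h1' := iso_conj _ _ _ h1
  have key : (ModuleCat.restrictScalars.{u} (algebraMap A B)).map
        (HomologicalComplex.homologyMap (b • 𝟙 (CohIII.bcCx (algebraMap A B) P)) q) ≫
      (hIso A B P q).hom = (hIso A B P q).hom ≫ (CohIII.TFun P q).map (mulB A B b) :=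
    key_aux _ _ _ _ _ h1' h2
  exact congrArg (fun φ => φ.hom x) key

end comp

section main

variable {A B : Type u} [CommRing A] [CommRing B] (ρ : A →+* B) {ι : Type} {c : ComplexShape ι}
  (P : HomologicalComplex (ModuleCat.{u} A) c) (q : ι)

/-- **`H_q(bcCx ρ P) ≃ T_q(B)`**, compatibly with the action of `B` (on the right by functoriality). -/
theorem exists_bcCx_equiv :
    ∃ e : ↥((CohIII.bcCx ρ P).homology q) ≃+ ↥((CohIII.TFun P q).obj (MA' ρ)),
      ∀ (b : B) (x : ↥((CohIII.bcCx ρ P).homology q)),
        e (b • x) = ((CohIII.TFun P q).map (mulEnd ρ b)).hom (e x) := by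
  letI : Algebra A B := ρ.toAlgebra
  have hm : ∀ b : B, mulB A B b = mulEnd ρ b := fun b =>
    ModuleCat.hom_ext (LinearMap.ext fun x => rfl)
  refine ⟨(hIso A B P q).toLinearEquiv.toAddEquiv, fun b x => ?_⟩
  have h := hIso_smul A B P q b x
  rw [hm] at h
  exact h

end main

end Groth.Agent.R2.H16.CbcFIRank
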