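import Mathlib
import Groth.Agent.R2.H16CbcFI
import Groth.Agent.R2.H16CbcFIRank

/-!
# PROJ:cbc / FI — fibre forms: `H^p(X_y, F_y)` versus `H_{-p}(L ⊗_A k(y))` (helper16)

Namespace `Groth.Agent.R2.H16.CbcFIFib`.

* `exists_fi_bcCx`: for a cartesian square `X' = X ×_A A'` and a bridge isomorphism
  `T^p ≅ TFun L (-p) ⋙ forget₂`, an `A'`-equivariant isomorphism `H^p(X', g'^*F) ≃ H_{-p}(bcCx ρ L)`.
* `exists_bcCx_congr`: `H_q(bcCx ρ' P) ≃ H_q(bcCx (ι ∘ ρ') P)` semilinearly for a ring isomorphism `ι`.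
* `exists_fiberH_equiv`, `fiberRank_eq_dRank`, `subsingleton_fiberH_iff`: the fibre of `X → Spec A` at `y`.
-/

set_option autoImplicit false
set_option linter.style.haveILetI false
set_option linter.unusedSectionVars false
universe u
open CategoryTheory CategoryTheory.Limits AlgebraicGeometry Opposite TopologicalSpace

namespace Groth.Agent.R2.H16.CbcFIFib

open Groth.Agent.R2.H16.CbcFITerm Groth.Agent.R2.H16.CbcFINat Groth.Agent.R2.H16.CbcGeom
  Groth.Agent.R2.H16.CbcFI Groth.Agent.R2.H16.CbcFIRank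

section C1

variable {A A' : Type u} [CommRing A] [CommRing A'] {ρ : A →+* A'}
  {X X' : Scheme.{u}} [X.Over (Spec (CommRingCat.of A))] {g' : X' ⟶ X}
  {f' : X' ⟶ Spec (CommRingCat.of A')} (F : X.Modules)
  (hc : IsPullback g' f' (X ↘ Spec (CommRingCat.of A)) (Spec.map (CommRingCat.ofHom ρ)))
  [F.IsQuasicoherent]

include hc in
/-- **FI in terms of the bridge complex**: `H^p(X', g'^*F) ≃ H_{-p}(bcCx ρ L)`, `A'`-equivariantly. -/
theorem exists_fi_bcCx [CompactSpace X] [IsSeparated (X ↘ Spec (CommRingCat.of A))]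
    (L : ChainComplex (ModuleCat.{u} A) ℤ) (p : ℕ)
    (γ : Tn A F p ≅ CohIII.TFun L (-(p : ℤ)) ⋙ forget₂ (ModuleCat.{u} A) AddCommGrpCat.{u}) :
    ∃ e : Coh.HH X' ((Scheme.Modules.pullback g').obj F) p ≃+
        ↥((CohIII.bcCx ρ L).homology (-(p : ℤ))),
      ∀ (a' : A') (x : Coh.HH X' ((Scheme.Modules.pullback g').obj F) p),
        e (Coh.toGlobal f' a' • x) = a' • e x := by
  obtain ⟨e₁, he₁⟩ := exists_fi F hc p
  obtain ⟨e₃, he₃⟩ := exists_bcCx_equiv ρ L (-(p : ℤ))
  let e₂ : ↥((Tn A F p).obj (MA' ρ)) ≃+ ↥((CohIII.TFun L (-(p : ℤ))).obj (MA' ρ)) :=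
    (γ.app (MA' ρ)).addCommGroupIsoToAddEquiv
  have he₂ : ∀ (a' : A') (y : ↥((Tn A F p).obj (MA' ρ))),
      e₂ (((Tn A F p).map (mulEnd ρ a')).hom y) =
        ((CohIII.TFun L (-(p : ℤ))).map (mulEnd ρ a')).hom (e₂ y) := fun a' y =>
    ConcreteCategory.congr_hom (γ.hom.naturality (mulEnd ρ a')) y
  refine ⟨e₁.trans (e₂.trans e₃.symm), fun a' x => ?_⟩
  change e₃.symm (e₂ (e₁ (Coh.toGlobal f' a' • x))) = a' • e₃.symm (e₂ (e₁ x))
  apply e₃.injective
  rw [AddEquiv.apply_symm_apply, he₃, AddEquiv.apply_symm_apply, he₁, he₂]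

end C1

section congr

variable {A B B' : Type u} [CommRing A] [CommRing B] [CommRing B'] (ρ' : A →+* B') (i : B' ≃+* B)
  {ι : Type} {c : ComplexShape ι} (P : HomologicalComplex (ModuleCat.{u} A) c) (q : ι)

/-- the `A`-linear isomorphism `B' ≅ B` induced by a ring isomorphism -/
noncomputable def ringIsoLinEquiv : ↑(MA' ρ') ≃ₗ[A] ↑(MA' ((i : B' →+* B).comp ρ')) where
  toFun := fun x => i x
  invFun := fun x => i.symm x
  map_add' := fun x y => map_add i x y
  map_smul' := fun a x => by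
    change i (ρ' a * (show B' from x)) = i (ρ' a) * i (show B' from x)
    exact map_mul i _ _
  left_inv := fun x => i.symm_apply_apply x
  right_inv := fun x => i.apply_symm_apply x

/-- the `A`-linear isomorphism `B' ≅ B` induced by a ring isomorphism, in `ModuleCat A` -/
noncomputable def ringIsoLin : MA' ρ' ≅ MA' ((i : B' →+* B).comp ρ') :=
  (ringIsoLinEquiv ρ' i).toModuleIso

theorem ringIsoLin_mulEnd (b' : B') :
    mulEnd ρ' b' ≫ (ringIsoLin ρ' i).hom =
      (ringIsoLin ρ' i).hom ≫ mulEnd ((i : B' →+* B).comp ρ') (i b') :=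
  ModuleCat.hom_ext (LinearMap.ext fun x => by
    change i (b' * (show B' from x)) = i b' * i (show B' from x)
    exact map_mul i b' _)

/-- base change along `ρ'` and along `ι ∘ ρ'` (for a ring isomorphism `ι`) have semilinearly isomorphic
homology. -/
theorem exists_bcCx_congr :
    ∃ j : ↥((CohIII.bcCx ρ' P).homology q) ≃+
        ↥((CohIII.bcCx ((i : B' →+* B).comp ρ') P).homology q),
      ∀ (b' : B') (x : ↥((CohIII.bcCx ρ' P).homology q)), j (b' • x) = i b' • j x := by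
  obtain ⟨e₁, he₁⟩ := exists_bcCx_equiv ρ' P q
  obtain ⟨e₃, he₃⟩ := exists_bcCx_equiv ((i : B' →+* B).comp ρ') P q
  let e₂ : ↥((CohIII.TFun P q).obj (MA' ρ')) ≃+
      ↥((CohIII.TFun P q).obj (MA' ((i : B' →+* B).comp ρ'))) :=
    ((CohIII.TFun P q).mapIso (ringIsoLin ρ' i)).toLinearEquiv.toAddEquiv
  have he₂ : ∀ (b' : B') (y : ↥((CohIII.TFun P q).obj (MA' ρ'))),
      e₂ (((CohIII.TFun P q).map (mulEnd ρ' b')).hom y) =
        ((CohIII.TFun P q).map (mulEnd ((i : B' →+* B).comp ρ') (i b'))).hom (e₂ y) := by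
    intro b' y
    have h := congrArg (fun φ => (CohIII.TFun P q).map φ) (ringIsoLin_mulEnd ρ' i b')
    simp only [Functor.map_comp] at h
    exact congrArg (fun φ => φ.hom y) h
  refine ⟨e₁.trans (e₂.trans e₃.symm), fun b' x => ?_⟩
  change e₃.symm (e₂ (e₁ (b' • x))) = i b' • e₃.symm (e₂ (e₁ x))
  apply e₃.injective
  rw [AddEquiv.apply_symm_apply, he₃, AddEquiv.apply_symm_apply, he₁, he₂]

end congr

section fibre

variable {A : Type u} [CommRing A] {X : Scheme.{u}} [X.Over (Spec (CommRingCat.of A))]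
  (F : X.Modules) [F.IsQuasicoherent]
  (y : ↥(Spec (CommRingCat.of A)))

/-- a point of `Spec A` as a prime ideal -/
abbrev yp : PrimeSpectrum A := y

/-- the ring isomorphism `k(y) ≃ κ(y)` between the algebraic and the scheme-theoretic residue field -/
noncomputable def iκ :
    (yp y).asIdeal.ResidueField ≃+* ↑((Spec (CommRingCat.of A)).residueField y) :=
  (Scheme.Spec.residueFieldIso (CommRingCat.of A) y).symm.commRingCatIsoToRingEquiv

/-- the ring map `A → κ(y)` -/
noncomputable def ρκ : A →+* ↑((Spec (CommRingCat.of A)).residueField y) :=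
  ((iκ y : (yp y).asIdeal.ResidueField →+* ↑((Spec (CommRingCat.of A)).residueField y))).comp
    (algebraMap A (yp y).asIdeal.ResidueField)

theorem spec_map_ρκ :
    Spec.map (CommRingCat.ofHom (ρκ y)) = (Spec (CommRingCat.of A)).fromSpecResidueField y := by
  refine Eq.trans ?_ (Scheme.Spec.map_residueFieldIso_inv_eq_fromSpecResidueField (CommRingCat.of A) y)
  rw [← Spec.map_comp]
  rfl

theorem fiber_isPullback :
    IsPullback ((X ↘ Spec (CommRingCat.of A)).fiberι y)
      ((X ↘ Spec (CommRingCat.of A)).fiberToSpecResidueField y)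
      (X ↘ Spec (CommRingCat.of A)) (Spec.map (CommRingCat.ofHom (ρκ y))) := by
  have h : ∀ g : Spec ((Spec (CommRingCat.of A)).residueField y) ⟶ Spec (CommRingCat.of A),
      g = (Spec (CommRingCat.of A)).fromSpecResidueField y →
      IsPullback ((X ↘ Spec (CommRingCat.of A)).fiberι y)
        ((X ↘ Spec (CommRingCat.of A)).fiberToSpecResidueField y)
        (X ↘ Spec (CommRingCat.of A)) g := by
    rintro g rfl
    exact IsPullback.of_hasPullback _ _
  exact h _ (spec_map_ρκ y)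

variable [CompactSpace X] [IsSeparated (X ↘ Spec (CommRingCat.of A))]

/-- **The cohomology of the fibre** `H^p(X_y, F_y)` is `H_{-p}(L ⊗_A k(y))`, semilinearly over
`κ(y) ≃ k(y)`. -/
theorem exists_fiberH_equiv (L : ChainComplex (ModuleCat.{u} A) ℤ) (p : ℕ)
    (γ : Tn A F p ≅ CohIII.TFun L (-(p : ℤ)) ⋙ forget₂ (ModuleCat.{u} A) AddCommGrpCat.{u}) :
    ∃ (j : CohIII.fiberH (X ↘ Spec (CommRingCat.of A)) F y p ≃+
        ↥((CohIII.bcCx (algebraMap A (yp y).asIdeal.ResidueField) L).homology (-(p : ℤ))))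
      (i : ↑((Spec (CommRingCat.of A)).residueField y) ≃+* (yp y).asIdeal.ResidueField),
      ∀ (r : ↑((Spec (CommRingCat.of A)).residueField y))
        (m : CohIII.fiberH (X ↘ Spec (CommRingCat.of A)) F y p), j (r • m) = i r • j m := by
  obtain ⟨e, he⟩ := exists_fi_bcCx F (fiber_isPullback y) L p γ
  obtain ⟨j₂, hj₂⟩ := exists_bcCx_congr (algebraMap A (yp y).asIdeal.ResidueField) (iκ y) L (-(p : ℤ))
  refine ⟨e.trans j₂.symm, (iκ y).symm, fun r m => ?_⟩
  change j₂.symm (e (r • m)) = (iκ y).symm r • j₂.symm (e m)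
  apply j₂.injective
  have h1 : j₂ (j₂.symm (e (r • m))) = e (r • m) := j₂.apply_symm_apply _
  have h2 : j₂ ((iκ y).symm r • j₂.symm (e m)) = (iκ y) ((iκ y).symm r) • j₂ (j₂.symm (e m)) :=
    hj₂ _ _
  have h3 : (iκ y) ((iκ y).symm r) = r := (iκ y).apply_symm_apply r
  have h4 : j₂ (j₂.symm (e m)) = e m := j₂.apply_symm_apply _
  rw [h3, h4] at h2
  exact h1.trans ((he r m).trans h2.symm)

/-- **`fiberRank = dRank`** for the bridge complex. -/
theorem fiberRank_eq_dRank (L : ChainComplex (ModuleCat.{u} A) ℤ) (p : ℕ)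
    (γ : Tn A F p ≅ CohIII.TFun L (-(p : ℤ)) ⋙ forget₂ (ModuleCat.{u} A) AddCommGrpCat.{u}) :
    CohIII.fiberRank (X ↘ Spec (CommRingCat.of A)) F p y = CohIII.dRank L (-(p : ℤ)) (yp y) := by
  obtain ⟨j, i, hji⟩ := exists_fiberH_equiv F y L p γ
  unfold CohIII.fiberRank CohIII.dRank Module.finrank
  congr 1
  exact rank_eq_of_equiv_equiv i j i.bijective hji

/-- vanishing of the cohomology of the fibre in terms of the bridge complex. -/
theorem subsingleton_fiberH_iff (L : ChainComplex (ModuleCat.{u} A) ℤ) (p : ℕ)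
    (γ : Tn A F p ≅ CohIII.TFun L (-(p : ℤ)) ⋙ forget₂ (ModuleCat.{u} A) AddCommGrpCat.{u}) :
    Subsingleton (CohIII.fiberH (X ↘ Spec (CommRingCat.of A)) F y p) ↔
      Subsingleton ↥((CohIII.bcCx (algebraMap A (yp y).asIdeal.ResidueField) L).homology (-(p : ℤ))) := by
  obtain ⟨j, -, -⟩ := exists_fiberH_equiv F y L p γ
  exact ⟨fun h => j.symm.injective.subsingleton, fun h => j.injective.subsingleton⟩

/-- the cohomology of the fibre is `T^p(k(y)) = H^p(X, F ⊗_A k(y))` (no bridge complex needed). -/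
theorem exists_fiberH_equiv_Tn (p : ℕ) :
    ∃ j : CohIII.fiberH (X ↘ Spec (CommRingCat.of A)) F y p ≃+
        ↑((Tn A F p).obj (MA' (algebraMap A (yp y).asIdeal.ResidueField))),
      ∀ (r : ↑((Spec (CommRingCat.of A)).residueField y))
        (m : CohIII.fiberH (X ↘ Spec (CommRingCat.of A)) F y p),
        j (r • m) = ((Tn A F p).map (mulEnd (algebraMap A (yp y).asIdeal.ResidueField)
          ((iκ y).symm r))).hom (j m) := by
  obtain ⟨e, he⟩ := exists_fi F (fiber_isPullback y) p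
  let ι₀ := ringIsoLin (algebraMap A (yp y).asIdeal.ResidueField) (iκ y)
  let e₂ : ↑((Tn A F p).obj (MA' (algebraMap A (yp y).asIdeal.ResidueField))) ≃+
      ↑((Tn A F p).obj (MA' (ρκ y))) := ((Tn A F p).mapIso ι₀).addCommGroupIsoToAddEquiv
  have he₂ : ∀ (b' : (yp y).asIdeal.ResidueField)
      (z : ↑((Tn A F p).obj (MA' (algebraMap A (yp y).asIdeal.ResidueField)))),
      e₂ (((Tn A F p).map (mulEnd (algebraMap A (yp y).asIdeal.ResidueField) b')).hom z) =
        ((Tn A F p).map (mulEnd (ρκ y) (iκ y b'))).hom (e₂ z) := by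
    intro b' z
    have h := congrArg (fun φ => (Tn A F p).map φ)
      (ringIsoLin_mulEnd (algebraMap A (yp y).asIdeal.ResidueField) (iκ y) b')
    simp only [Functor.map_comp] at h
    exact ConcreteCategory.congr_hom h z
  refine ⟨e.trans e₂.symm, fun r m => ?_⟩
  change e₂.symm (e (r • m)) = _
  apply e₂.injective
  have h1 : e₂ (e₂.symm (e (r • m))) = e (r • m) := e₂.apply_symm_apply _
  have h2 := he₂ ((iκ y).symm r) (e₂.symm (e m))
  have h3 : (iκ y) ((iκ y).symm r) = r := (iκ y).apply_symm_apply r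
  have h4 : e₂ (e₂.symm (e m)) = e m := e₂.apply_symm_apply _
  rw [h3, h4] at h2
  exact h1.trans ((he r m).trans h2.symm)

end fibre

section bridge

variable (A : Type u) [CommRing A] {X : Scheme.{u}} [X.Over (Spec (CommRingCat.of A))]
  (F : X.Modules)

/-- **The cbc bridge with fibre ranks**: the Mumford complex `L` of `Groth.Agent.R2.H16.CbcFin.exists_bridge`
also computes the cohomology of the fibres: `fiberRank = dRank L`. -/
theorem exists_bridge_fiberRank [IsNoetherianRing A] [CompactSpace X]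
    [IsSeparated (X ↘ Spec (CommRingCat.of A))] (hF : Coh.IsQCoh F)
    (hflat : FlatMod.IsFlatOver (X ↘ Spec (CommRingCat.of A)) F)
    (hfinF : ∀ n : ℕ, Module.Finite A (Coh.HH X F n)) :
    ∃ L : ChainComplex (ModuleCat.{u} A) ℤ,
      (∀ i, Module.Finite A (L.X i) ∧ Module.Free A (L.X i)) ∧
      (∃ d : ℕ, ∀ i : ℤ, i < -(d : ℤ) → IsZero (L.X i)) ∧
      (∀ n : ℕ, Nonempty (CohIII.tensorAFunctor A F ⋙ CohIII.HAb X n ≅
        CohIII.TFun L (-(n : ℤ)) ⋙ forget₂ (ModuleCat.{u} A) AddCommGrpCat.{u})) ∧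
      ∀ (p : ℕ) (y : ↥(Spec (CommRingCat.of A))),
        CohIII.fiberRank (X ↘ Spec (CommRingCat.of A)) F p y = CohIII.dRank L (-(p : ℤ)) (yp y) := by
  haveI : F.IsQuasicoherent := hF
  obtain ⟨L, hL, hLb, hLiso⟩ := Groth.Agent.R2.H16.CbcFin.exists_bridge A F hF hflat hfinF
  refine ⟨L, hL, hLb, hLiso, fun p y => ?_⟩
  obtain ⟨γ⟩ := hLiso p
  exact fiberRank_eq_dRank F y L p γ

end bridge

end Groth.Agent.R2.H16.CbcFIFib
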