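import Mathlib
import Groth.Agent.R2.H16CbcFIFib

/-!
# PROJ:cbc / FI — globalisation: the fibre of `f : X ⟶ Y` at a point of an affine open `V ⊆ Y` (helper16)

Namespace `Groth.Agent.R2.H16.CbcFIGlob`.

For `f : X ⟶ Y`, an open `V ⊆ Y` with an affine chart `φ : ↑V ≅ Spec A` (e.g. `hV.isoSpec` with `A = Γ(Y, V)`, or
`(↑V).isoSpec` with `A = Γ(↑V, ⊤)`), `X_V = f⁻¹V` as a scheme over `Spec A` (structure morphism
`(f ∣_ V) ≫ φ.hom`, see `overV`), and `y ∈ V`:

* `isPullback_overV : IsPullback (f⁻¹V).ι ((f ∣_ V) ≫ φ.hom) f (φ.inv ≫ V.ι)`;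
* `yA φ y hy = φ.hom ⟨y, hy⟩` the point of `Spec A`, `ψ : κ_{Spec A}(y_A) ≅ κ_Y(y)`, `iY' : k(p_y) ≃+* κ_Y(y)`;
* `ρYc φ y hy : CommRingCat.of A ⟶ Y.residueField y` with `ker = p_y` (`ker_ρYc`) and
  `Spec.map (ρYc ..) ≫ (φ.inv ≫ V.ι) = Y.fromSpecResidueField y`;
* `gV f φ y hy : f.fiber y ⟶ f⁻¹V` with `gV ≫ ι = f.fiberι y` and
  `isPullback_gV : IsPullback (gV ..) (f.fiberToSpecResidueField y) ((f ∣_ V) ≫ φ.hom) (Spec.map (ρYc ..))`;
* `fiberModIso : (pullback (gV ..)).obj F_V ≅ CohIII.fiberMod f F y` for `F_V ≅ (pullback (f⁻¹V).ι).obj F`;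
* `HHcongr e p : HH Z M p ≃+ HH Z N p` for `e : M ≅ N`, `Γ(Z, O)`-linear (`HHcongr_smul`).

The main statements are in `R2/H16CbcFIGlob2.lean`.
-/

set_option autoImplicit false
set_option linter.style.haveILetI false
set_option linter.unusedSectionVars false
universe u
open CategoryTheory CategoryTheory.Limits AlgebraicGeometry Opposite TopologicalSpace

namespace Groth.Agent.R2.H16.CbcFIGlob

open Groth.Agent.R2.H16.CbcFITerm Groth.Agent.R2.H16.CbcFINat Groth.Agent.R2.H16.CbcGeom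
  Groth.Agent.R2.H16.CbcFI Groth.Agent.R2.H16.CbcFIRank Groth.Agent.R2.H16.CbcFIFib

variable {X Y : Scheme.{u}} (f : X ⟶ Y) (F : X.Modules) {V : Y.Opens} {A : Type u} [CommRing A]
  (φ : V.toScheme ≅ Spec (CommRingCat.of A))

/-- `f⁻¹V` as a scheme over `Spec A`, for an affine chart `φ : V ≅ Spec A` of the open `V ⊆ Y`
(e.g. `φ = hV.isoSpec`, `A = Γ(Y, V)`, or `φ = (↑V).isoSpec`, `A = Γ(↑V, ⊤)`). -/
@[reducible] noncomputable def overV :
    (f ⁻¹ᵁ V).toScheme.Over (Spec (CommRingCat.of A)) :=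
  ⟨(f ∣_ V) ≫ φ.hom⟩

/-- the cartesian square `f⁻¹V = X ×_Y Spec A`. -/
theorem isPullback_overV :
    IsPullback (f ⁻¹ᵁ V).ι ((f ∣_ V) ≫ φ.hom) f (φ.inv ≫ V.ι) := by
  refine IsPullback.of_iso (isPullback_morphismRestrict f V).flip (Iso.refl _) (Iso.refl _)
    φ (Iso.refl _) ?_ ?_ ?_ ?_
  · simp
  · simp
  · simp
  · simp

variable (y : Y) (hy : y ∈ V)

/-- the point of `Spec A` corresponding to `y ∈ V`. -/
noncomputable abbrev yA : ↥(Spec (CommRingCat.of A)) := φ.hom ⟨y, hy⟩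

theorem fromSpec_yA : (φ.inv ≫ V.ι) (yA φ y hy) = y := by
  change (φ.hom ≫ φ.inv ≫ V.ι) ⟨y, hy⟩ = y
  rw [Iso.hom_inv_id_assoc]
  rfl

/-- the isomorphism of residue fields `κ_{Spec A}(y_A) ≅ κ_Y(y)`. -/
noncomputable def ψ :
    (Spec (CommRingCat.of A)).residueField (yA φ y hy) ≅ Y.residueField y :=
  (asIso ((φ.inv ≫ V.ι).residueFieldMap (yA φ y hy))).symm ≪≫
    Y.residueFieldCongr (fromSpec_yA φ y hy)

theorem specMap_ψ :
    Spec.map (ψ φ y hy).hom ≫
        (Spec (CommRingCat.of A)).fromSpecResidueField (yA φ y hy) ≫ (φ.inv ≫ V.ι) =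
      Y.fromSpecResidueField y := by
  rw [← Scheme.Hom.SpecMap_residueFieldMap_fromSpecResidueField, ← Category.assoc,
    ← Spec.map_comp]
  have h : (φ.inv ≫ V.ι).residueFieldMap (yA φ y hy) ≫ (ψ φ y hy).hom =
      (Y.residueFieldCongr (fromSpec_yA φ y hy)).hom := by
    simp [ψ]
  rw [h]
  exact Scheme.residueFieldCongr_fromSpecResidueField (fromSpec_yA φ y hy)

/-- the ring isomorphism `k(y_A) ≃ κ_Y(y)` (the instances on the target are those of `CommRingCat`). -/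
noncomputable def iY' :=
  (iκ (yA φ y hy)).trans (ψ φ y hy).commRingCatIsoToRingEquiv

/-- the ring map `A → κ_Y(y)`, as a morphism of `CommRingCat` -/
noncomputable def ρYc : CommRingCat.of A ⟶ Y.residueField y :=
  CommRingCat.ofHom (ρκ (yA φ y hy)) ≫ (ψ φ y hy).hom

theorem ρYc_hom : (ρYc φ y hy).hom = (iY' φ y hy).toRingHom.comp
    (algebraMap A (yp (yA φ y hy)).asIdeal.ResidueField) := rfl

/-- the kernel of `A → κ_Y(y)` is the prime ideal of `y`. -/
theorem ker_ρYc : RingHom.ker (ρYc φ y hy).hom = (yp (yA φ y hy)).asIdeal := by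
  ext a
  rw [RingHom.mem_ker, ρYc_hom]
  change (iY' φ y hy) (algebraMap A (yp (yA φ y hy)).asIdeal.ResidueField a) = 0 ↔ _
  rw [map_eq_zero_iff _ (iY' φ y hy).injective, ← RingHom.mem_ker, Ideal.ker_algebraMap_residueField]

theorem specMap_ρYc :
    Spec.map (ρYc φ y hy) ≫ (φ.inv ≫ V.ι) = Y.fromSpecResidueField y := by
  unfold ρYc
  rw [Spec.map_comp, Category.assoc, spec_map_ρκ]
  exact specMap_ψ φ y hy

/-- the fibre of `f` at `y` maps to `f⁻¹V`. -/
noncomputable def gV : f.fiber y ⟶ (f ⁻¹ᵁ V).toScheme :=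
  (isPullback_overV f φ).lift (f.fiberι y)
    (f.fiberToSpecResidueField y ≫ Spec.map (ρYc φ y hy)) (by
      rw [Category.assoc, specMap_ρYc]
      exact f.fiber_fac y)

theorem gV_ι : gV f φ y hy ≫ (f ⁻¹ᵁ V).ι = f.fiberι y :=
  (isPullback_overV f φ).lift_fst _ _ _

theorem gV_snd : gV f φ y hy ≫ ((f ∣_ V) ≫ φ.hom) =
    f.fiberToSpecResidueField y ≫ Spec.map (ρYc φ y hy) :=
  (isPullback_overV f φ).lift_snd _ _ _

/-- the fibre of `f` at `y ∈ V` is `f⁻¹V ×_{Spec A} Spec κ(y)`. -/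
theorem isPullback_gV :
    IsPullback (gV f φ y hy) (f.fiberToSpecResidueField y) ((f ∣_ V) ≫ φ.hom)
      (Spec.map (ρYc φ y hy)) := by
  refine IsPullback.of_right ?_ (gV_snd f φ y hy) (isPullback_overV f φ)
  rw [gV_ι, specMap_ρYc]
  exact IsPullback.of_hasPullback f (Y.fromSpecResidueField y)

/-- the module on the fibre: `g_V^* F_V ≅ F_y` when `F_V ≅ F|_{f⁻¹V}`. -/
noncomputable def fiberModIso (FV : (f ⁻¹ᵁ V).toScheme.Modules)
    (eFV : FV ≅ (Scheme.Modules.pullback (f ⁻¹ᵁ V).ι).obj F) :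
    (Scheme.Modules.pullback (gV f φ y hy)).obj FV ≅ CohIII.fiberMod f F y :=
  (Scheme.Modules.pullback (gV f φ y hy)).mapIso eFV ≪≫
    (Scheme.Modules.pullbackComp (gV f φ y hy) (f ⁻¹ᵁ V).ι).app F ≪≫
    (Scheme.Modules.pullbackCongr (gV_ι f φ y hy)).app F

section HHcongr

variable {Z : Scheme.{u}} {M N : Z.Modules} (e : M ≅ N) (p : ℕ)

/-- an isomorphism of `O`-modules induces an isomorphism on cohomology. -/
noncomputable def HHcongr : Coh.HH Z M p ≃+ Coh.HH Z N p :=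
  { toFun := fun x => Sheaf.H.map ((SheafOfModules.toSheaf Z.ringCatSheaf).map e.hom) p x
    invFun := fun x => Sheaf.H.map ((SheafOfModules.toSheaf Z.ringCatSheaf).map e.inv) p x
    left_inv := fun x => by
      have h5 := Sheaf.H.map_comp_apply (n := p) ((SheafOfModules.toSheaf Z.ringCatSheaf).map e.hom)
        ((SheafOfModules.toSheaf Z.ringCatSheaf).map e.inv) x
      have h6 : (SheafOfModules.toSheaf Z.ringCatSheaf).map e.hom ≫
          (SheafOfModules.toSheaf Z.ringCatSheaf).map e.inv = 𝟙 _ :=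
        ((SheafOfModules.toSheaf Z.ringCatSheaf).map_comp _ _).symm.trans
          ((congrArg (SheafOfModules.toSheaf Z.ringCatSheaf).map e.hom_inv_id).trans
            ((SheafOfModules.toSheaf Z.ringCatSheaf).map_id _))
      rw [h6] at h5
      exact h5.symm.trans (Sheaf.H.map_id_apply x)
    right_inv := fun x => by
      have h5 := Sheaf.H.map_comp_apply (n := p) ((SheafOfModules.toSheaf Z.ringCatSheaf).map e.inv)
        ((SheafOfModules.toSheaf Z.ringCatSheaf).map e.hom) x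
      have h6 : (SheafOfModules.toSheaf Z.ringCatSheaf).map e.inv ≫
          (SheafOfModules.toSheaf Z.ringCatSheaf).map e.hom = 𝟙 _ :=
        ((SheafOfModules.toSheaf Z.ringCatSheaf).map_comp _ _).symm.trans
          ((congrArg (SheafOfModules.toSheaf Z.ringCatSheaf).map e.inv_hom_id).trans
            ((SheafOfModules.toSheaf Z.ringCatSheaf).map_id _))
      rw [h6] at h5
      exact h5.symm.trans (Sheaf.H.map_id_apply x)
    map_add' := fun x y => map_add _ x y }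

theorem HHcongr_smul (r : Coh.Γtop Z) (x : Coh.HH Z M p) :
    HHcongr e p (r • x) = r • HHcongr e p x := by
  have h2 := Sheaf.H.map_comp_apply (n := p) (Coh.smulAb M r)
    ((SheafOfModules.toSheaf Z.ringCatSheaf).map e.hom) x
  have h3 := Sheaf.H.map_comp_apply (n := p) ((SheafOfModules.toSheaf Z.ringCatSheaf).map e.hom)
    (Coh.smulAb N r) x
  have h4 := Groth.Agent.R2.H16.CbcFin.smulAb_comp e.hom r
  exact h2.symm.trans ((congrArg (fun t => Sheaf.H.map t p x) h4).trans h3)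

end HHcongr

end Groth.Agent.R2.H16.CbcFIGlob
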