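import Mathlib
import Groth.Agent.R2.H16CbcFIGlob

/-!
# PROJ:cbc / FI — globalisation, main statements (helper16)

Namespace `Groth.Agent.R2.H16.CbcFIGlob`.

Setting: `f : X ⟶ Y`, an open `V ⊆ Y` with an affine chart `φ : ↑V ≅ Spec A`, `X_V = f⁻¹V` over `Spec A` through
`overV f φ = ⟨(f ∣_ V) ≫ φ.hom⟩`, a module `F_V` on `X_V` with `eFV : F_V ≅ (pullback (f⁻¹V).ι).obj F`
(for `F.restrict (f⁻¹V).ι` use `(Scheme.Modules.restrictFunctorIsoPullback _).app F`), and `y ∈ V`,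
`p_y = φ.hom ⟨y, hy⟩` the corresponding prime of `A` (`yA φ y hy`).

* `exists_fiberH_equiv_glob`: for a bridge complex `L` of `F_V` over `A` in degree `p`:
  `H^p(X_y, F_y) ≃+ H_{-p}(L ⊗_A k(p_y))`, semilinear over `κ_Y(y) ≃+* k(p_y)`.
* `fiberRank_eq_dRank_glob`: `CohIII.fiberRank f F p y = CohIII.dRank L (-p) p_y`.
* `subsingleton_fiberH_iff_glob`.
-/

set_option autoImplicit false
set_option linter.style.haveILetI false
set_option linter.unusedSectionVars false
universe u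
open CategoryTheory CategoryTheory.Limits AlgebraicGeometry Opposite TopologicalSpace

namespace Groth.Agent.R2.H16.CbcFIGlob

open Groth.Agent.R2.H16.CbcFITerm Groth.Agent.R2.H16.CbcFINat Groth.Agent.R2.H16.CbcGeom
  Groth.Agent.R2.H16.CbcFI Groth.Agent.R2.H16.CbcFIRank Groth.Agent.R2.H16.CbcFIFib

section congr'

variable {A B B' : Type u} [CommRing A] [CommRing B] [CommRing B'] (ρ' : A →+* B') (i : B' ≃+* B)
  (ρ : A →+* B) (hρ : ρ = (i : B' →+* B).comp ρ')
  {ι : Type} {c : ComplexShape ι} (P : HomologicalComplex (ModuleCat.{u} A) c) (q : ι)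

include hρ in
/-- `exists_bcCx_congr` with the composite `ι ∘ ρ'` replaced by an (equal) ring map `ρ`. -/
theorem exists_bcCx_congr' :
    ∃ j : ↥((CohIII.bcCx ρ' P).homology q) ≃+ ↥((CohIII.bcCx ρ P).homology q),
      ∀ (b' : B') (x : ↥((CohIII.bcCx ρ' P).homology q)), j (b' • x) = i b' • j x := by
  subst hρ
  exact exists_bcCx_congr ρ' i P q

end congr'

section main

variable {X Y : Scheme.{u}} (f : X ⟶ Y) (F : X.Modules) {V : Y.Opens} {A : Type u} [CommRing A]
  (φ : V.toScheme ≅ Spec (CommRingCat.of A)) (y : Y) (hy : y ∈ V)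
  (FV : (f ⁻¹ᵁ V).toScheme.Modules)
  (eFV : FV ≅ (Scheme.Modules.pullback (f ⁻¹ᵁ V).ι).obj F)
  [FV.IsQuasicoherent] [CompactSpace ↥(f ⁻¹ᵁ V).toScheme] [IsSeparated ((f ∣_ V) ≫ φ.hom)]

include eFV in
set_option maxHeartbeats 1000000 in
/-- **Globalised fibre identification.** For `y` in an open `V ⊆ Y` with affine chart `φ : V ≅ Spec A`,
`F_V ≅ F|_{f⁻¹V}` and a bridge complex `L` of `F_V` over `A`: `H^p(X_y, F_y) ≃ H_{-p}(L ⊗_A k(p_y))`, semilinearly
over `κ_Y(y) ≃ k(p_y)`. -/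
theorem exists_fiberH_equiv_glob (L : ChainComplex (ModuleCat.{u} A) ℤ) (p : ℕ)
    (γ : letI := overV f φ
      Tn A FV p ≅ CohIII.TFun L (-(p : ℤ)) ⋙ forget₂ (ModuleCat.{u} A) AddCommGrpCat.{u}) :
    ∃ (j : CohIII.fiberH f F y p ≃+
        ↥((CohIII.bcCx (algebraMap A (yp (yA φ y hy)).asIdeal.ResidueField) L).homology (-(p : ℤ))))
      (i : ↑(Y.residueField y) ≃+* (yp (yA φ y hy)).asIdeal.ResidueField),
      ∀ (r : ↑(Y.residueField y)) (m : CohIII.fiberH f F y p), j (r • m) = i r • j m := by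
  letI := overV f φ
  haveI : IsSeparated ((f ⁻¹ᵁ V).toScheme ↘ Spec (CommRingCat.of A)) :=
    ‹IsSeparated ((f ∣_ V) ≫ φ.hom)›
  obtain ⟨e, he⟩ := exists_fi_bcCx (A := A) (A' := ↑(Y.residueField y))
    (ρ := (ρYc φ y hy).hom) FV (isPullback_gV f φ y hy) L p γ
  obtain ⟨j₂, hj₂⟩ := exists_bcCx_congr' (A := A)
    (B' := (yp (yA φ y hy)).asIdeal.ResidueField) (B := ↑(Y.residueField y))
    (algebraMap A (yp (yA φ y hy)).asIdeal.ResidueField) (iY' φ y hy)
    (ρYc φ y hy).hom rfl L (-(p : ℤ))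
  let β := HHcongr (fiberModIso f F φ y hy FV eFV) p
  have hβ : ∀ (r : Coh.Γtop (f.fiber y)) x, β (r • x) = r • β x :=
    HHcongr_smul (fiberModIso f F φ y hy FV eFV) p
  refine ⟨β.symm.trans (e.trans j₂.symm), (iY' φ y hy).symm, fun r m => ?_⟩
  have h0 : β.symm (r • m) =
      Coh.toGlobal (X := f.fiber y) (A := Y.residueField y) (f.fiberToSpecResidueField y) r •
        β.symm m := by
    apply β.injective
    rw [hβ, AddEquiv.apply_symm_apply, AddEquiv.apply_symm_apply]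
    rfl
  have h5 : e (Coh.toGlobal (X := f.fiber y) (A := Y.residueField y)
      (f.fiberToSpecResidueField y) r • β.symm m) = r • e (β.symm m) := he r (β.symm m)
  have h2 : j₂ ((iY' φ y hy).symm r • j₂.symm (e (β.symm m))) =
      (iY' φ y hy) ((iY' φ y hy).symm r) • j₂ (j₂.symm (e (β.symm m))) := hj₂ _ _
  have h3 : (iY' φ y hy) ((iY' φ y hy).symm r) = r := (iY' φ y hy).apply_symm_apply r
  have h4 : j₂ (j₂.symm (e (β.symm m))) = e (β.symm m) := j₂.apply_symm_apply _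
  have h6 : j₂ ((iY' φ y hy).symm r • j₂.symm (e (β.symm m))) = r • e (β.symm m) := by
    rw [h2, h3, h4]
  change j₂.symm (e (β.symm (r • m))) = (iY' φ y hy).symm r • j₂.symm (e (β.symm m))
  apply j₂.injective
  have h1 : j₂ (j₂.symm (e (β.symm (r • m)))) = e (β.symm (r • m)) := j₂.apply_symm_apply _
  exact h1.trans ((congrArg e h0).trans (h5.trans h6.symm))

include eFV in
/-- **`fiberRank = dRank`, globalised**: for `y ∈ V`, `h^p(y) = dim_{k(p_y)} H_{-p}(L ⊗_A k(p_y))`. -/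
theorem fiberRank_eq_dRank_glob (L : ChainComplex (ModuleCat.{u} A) ℤ) (p : ℕ)
    (γ : letI := overV f φ
      Tn A FV p ≅ CohIII.TFun L (-(p : ℤ)) ⋙ forget₂ (ModuleCat.{u} A) AddCommGrpCat.{u}) :
    CohIII.fiberRank f F p y = CohIII.dRank L (-(p : ℤ)) (yp (yA φ y hy)) := by
  obtain ⟨j, i, hji⟩ := exists_fiberH_equiv_glob f F φ y hy FV eFV L p γ
  unfold CohIII.fiberRank CohIII.dRank Module.finrank
  congr 1
  exact rank_eq_of_equiv_equiv i j i.bijective hji

include eFV in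
/-- vanishing of the cohomology of the fibre at `y ∈ V` in terms of the bridge complex. -/
theorem subsingleton_fiberH_iff_glob (L : ChainComplex (ModuleCat.{u} A) ℤ) (p : ℕ)
    (γ : letI := overV f φ
      Tn A FV p ≅ CohIII.TFun L (-(p : ℤ)) ⋙ forget₂ (ModuleCat.{u} A) AddCommGrpCat.{u}) :
    Subsingleton (CohIII.fiberH f F y p) ↔
      Subsingleton ↥((CohIII.bcCx (algebraMap A (yp (yA φ y hy)).asIdeal.ResidueField) L).homology
        (-(p : ℤ))) := by
  obtain ⟨j, -, -⟩ := exists_fiberH_equiv_glob f F φ y hy FV eFV L p γ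
  exact ⟨fun h => j.symm.injective.subsingleton, fun h => j.injective.subsingleton⟩

end main

end Groth.Agent.R2.H16.CbcFIGlob
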