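import Mathlib
import Groth.Agent.R2.H16CbcFin
import Groth.Agent.R2.H16CbcConsumers

/-!
# PROJ:cbc — the consumers S2447 / S4506 / S16719 from an S0002-shaped hypothesis (helper16)

Namespace `Groth.Agent.R2.H16.CbcFinal`.  Each theorem has exactly the conclusion of the frozen statement and
takes, besides its hypotheses, `hfinF : ∀ n, Module.Finite A (Coh.HH X F n)` (= `S0002.result A X F hF`).
-/

set_option autoImplicit false
set_option linter.style.haveILetI false
set_option linter.unusedSectionVars false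
universe u
open CategoryTheory AlgebraicGeometry Limits Opposite TopologicalSpace

namespace Groth.Agent.R2.H16.CbcFinal

open Groth.Agent.R2.H16.CbcFin Groth.Agent.R2.H16.CbcConsumers

variable (A : Type u) [CommRing A] [IsNoetherianRing A] (X : Scheme.{u})
  [X.Over (Spec (CommRingCat.of A))] [IsProper (X ↘ Spec (CommRingCat.of A))] (F : X.Modules)

include A in
theorem compactSpace_of_isProper : CompactSpace X := by
  have h : QuasiCompact (X ↘ Spec (CommRingCat.of A)) := inferInstance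
  exact (quasiCompact_iff_compactSpace (X ↘ Spec (CommRingCat.of A))).1 h

/-- the bridge for proper `X`. -/
theorem exists_bridge_proper (hF : Coh.IsCoh F)
    (hfl : FlatMod.IsFlatOver (X ↘ Spec (CommRingCat.of A)) F)
    (hfinF : ∀ n : ℕ, Module.Finite A (Coh.HH X F n)) :
    ∃ L : ChainComplex (ModuleCat.{u} A) ℤ,
      (∀ i, Module.Finite A (L.X i) ∧ Module.Free A (L.X i)) ∧
      (∃ d : ℕ, ∀ i : ℤ, i < -(d : ℤ) → IsZero (L.X i)) ∧
      ∀ n : ℕ, Nonempty (CohIII.tensorAFunctor A F ⋙ CohIII.HAb X n ≅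
        CohIII.TFun L (-(n : ℤ)) ⋙ forget₂ (ModuleCat.{u} A) AddCommGrpCat.{u}) := by
  haveI := compactSpace_of_isProper A X
  exact exists_bridge A F hF.1 hfl hfinF

/-- S16719 from S0002. -/
theorem s16719_of (hF : Coh.IsCoh F) (hflat : FlatMod.IsFlatOver (X ↘ Spec (CommRingCat.of A)) F)
    (hfinF : ∀ n : ℕ, Module.Finite A (Coh.HH X F n)) (p : ℕ) (J : Type u) :
    PreservesLimitsOfShape (Discrete J) (CohIII.tensorAFunctor A F ⋙ CohIII.HAb X p) := by
  obtain ⟨L, hL, -, hiso⟩ := exists_bridge_proper A X F hF hflat hfinF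
  obtain ⟨e⟩ := hiso p
  exact preservesProducts_of_iso _ L hL _ e J

/-- S2447 from S0002. -/
theorem s2447_of [IsLocalRing A] (hF : Coh.IsCoh F)
    (hfl : FlatMod.IsFlatOver (X ↘ Spec (CommRingCat.of A)) F)
    (hfinF : ∀ n : ℕ, Module.Finite A (Coh.HH X F n)) (p : ℕ) :
    (CohIII.tensorAFunctor A F ⋙ CohIII.HAb X p).PreservesEpimorphisms ↔
      Function.Surjective ((CohIII.tensorAFunctor A F ⋙ CohIII.HAb X p).map
        (ModuleCat.ofHom (Algebra.linearMap A (IsLocalRing.ResidueField A)))).hom := by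
  obtain ⟨L, hL, -, hiso⟩ := exists_bridge_proper A X F hF hfl hfinF
  obtain ⟨e⟩ := hiso p
  exact preservesEpi_iff_surjective_residueField _ L hL _ e

/-- S4506 from S0002. -/
theorem s4506_of [IsLocalRing A] (hF : Coh.IsCoh F)
    (hfl : FlatMod.IsFlatOver (X ↘ Spec (CommRingCat.of A)) F)
    (hfinF : ∀ n : ℕ, Module.Finite A (Coh.HH X F n)) (p : ℕ) :
    (CohIII.tensorAFunctor A F ⋙ CohIII.HAb X p).PreservesEpimorphisms ↔
      ∀ n : ℕ, Function.Surjective ((CohIII.tensorAFunctor A F ⋙ CohIII.HAb X p).map (ModuleCat.ofHom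
        (Ideal.Quotient.factorₐ A (Ideal.pow_le_self (I := IsLocalRing.maximalIdeal A)
          (Nat.succ_ne_zero n))).toLinearMap :
        ModuleCat.of A (A ⧸ IsLocalRing.maximalIdeal A ^ (n + 1)) ⟶
          ModuleCat.of A (A ⧸ IsLocalRing.maximalIdeal A))).hom := by
  obtain ⟨L, hL, -, hiso⟩ := exists_bridge_proper A X F hF hfl hfinF
  obtain ⟨e⟩ := hiso p
  exact preservesEpi_iff_forall_surjective_pow _ L hL _ e

end Groth.Agent.R2.H16.CbcFinal
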