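import Mathlib
import Groth.Prelude.Def_Canon

/-!
# Abstract descending induction for finiteness / vanishing of cohomology (helper58, coh-core B5-core)

`X` a scheme over `Spec R`.  The two theorems are the formal part of Serre's finiteness and
vanishing theorems (Hartshorne III.5.2), stated against hypotheses so that they do not depend on
the packages that provide those hypotheses:

* `LESAt S q` : exactness of `H^q(S.X₂) → H^q(S.X₃) → H^{q+1}(S.X₁)` with an `R`-linear
  connecting map (package B1);
* a class `C` of modules (e.g. coherent ones) such that every `F ∈ C` sits in a short exact sequence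
  `0 → K → E → F → 0` with `K ∈ C` and `E` "good" (package B3 + A);
* vanishing of `H^q` on `C` for `q > n` (S0022).

`finite_of_resolution` : all `H^q(X, F)`, `F ∈ C`, are finite `R`-modules (`R` Noetherian).
`eventually_vanishing_of_resolution` : for a family of exact functors `T d` (twists),
`H^p(X, T_d F) = 0` for `p > 0`, `d ≫ 0`.
-/

set_option autoImplicit false
set_option linter.style.haveILetI false
set_option backward.isDefEq.respectTransparency false
set_option backward.isDefEq.respectTransparency.types false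
universe u

open CategoryTheory CategoryTheory.Limits AlgebraicGeometry

namespace Groth.Agent.R2.H58.SerreFin

variable (R : Type u) [CommRing R] {X : Scheme.{u}} [X.Over (Spec (CommRingCat.of R))]

/-- Exactness of `H^q(S.X₂) → H^q(S.X₃) → H^{q+1}(S.X₁)` for some `R`-linear connecting map. -/
def LESAt (S : ShortComplex X.Modules) (q : ℕ) : Prop :=
  ∃ δ : Coh.HH X S.X₃ q →ₗ[R] Coh.HH X S.X₁ (q + 1), Function.Exact (Canon.HHlin R S.g q) δ

variable {R}

/-- Middle term of an exact sequence `M₁ → M₂ → M₃` of modules over a Noetherian ring with `M₁`,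
`M₃` finite is finite. -/
theorem finite_of_exact {M₁ M₂ M₃ : Type*} [AddCommGroup M₁] [AddCommGroup M₂] [AddCommGroup M₃]
    [Module R M₁] [Module R M₂] [Module R M₃] [IsNoetherianRing R]
    (f : M₁ →ₗ[R] M₂) (g : M₂ →ₗ[R] M₃) (h : Function.Exact f g)
    [Module.Finite R M₁] [Module.Finite R M₃] : Module.Finite R M₂ := by
  haveI : IsNoetherian R M₃ := isNoetherian_of_isNoetherianRing_of_finite R M₃
  haveI : Module.Finite R (LinearMap.range g) := Module.Finite.of_injective (Submodule.subtype _)
    (Submodule.injective_subtype _)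
  haveI : Module.Finite R (LinearMap.ker g) := by
    rw [(LinearMap.exact_iff.1 h)]
    exact Module.Finite.range f
  haveI : Module.Finite R (M₂ ⧸ LinearMap.ker g) :=
    Module.Finite.equiv (g.quotKerEquivRange).symm
  exact Module.Finite.of_submodule_quotient (LinearMap.ker g)

/-- **Finiteness by descending induction** (formal part of Serre's theorem). -/
theorem finite_of_resolution [IsNoetherianRing R] (C : X.Modules → Prop) (n : ℕ)
    (hvan : ∀ F, C F → ∀ q, n < q → Subsingleton (Coh.HH X F q))
    (hres : ∀ F, C F → ∃ S : ShortComplex X.Modules, S.ShortExact ∧ Nonempty (S.X₃ ≅ F) ∧ C S.X₁ ∧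
      (∀ q, Module.Finite R (Coh.HH X S.X₂ q)) ∧ ∀ q, LESAt R S q) :
    ∀ F, C F → ∀ q, Module.Finite R (Coh.HH X F q) := by
  -- descending induction: `P k` = the claim for all `q` with `n + 1 ≤ q + k`
  have key : ∀ k : ℕ, ∀ q : ℕ, n + 1 ≤ q + k → ∀ F, C F → Module.Finite R (Coh.HH X F q) := by
    intro k
    induction k with
    | zero =>
      intro q hq F hF
      haveI := hvan F hF q (by omega)
      haveI : Finite (Coh.HH X F q) := Finite.of_subsingleton
      exact Module.Finite.of_finite
    | succ k ih =>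
      intro q hq F hF
      obtain ⟨S, hS, ⟨e⟩, hK, hE, hles⟩ := hres F hF
      obtain ⟨δ, hδ⟩ := hles q
      haveI := hE q
      haveI : Module.Finite R (Coh.HH X S.X₁ (q + 1)) := ih (q + 1) (by omega) S.X₁ hK
      haveI : Module.Finite R (Coh.HH X S.X₃ q) := finite_of_exact _ _ hδ
      -- transport along `e`
      refine Module.Finite.of_surjective (Canon.HHlin R e.hom q) ?_
      intro y
      refine ⟨Canon.HHlin R e.inv q y, ?_⟩
      have h1 : (SheafOfModules.toSheaf X.ringCatSheaf).map e.inv ≫
          (SheafOfModules.toSheaf X.ringCatSheaf).map e.hom = 𝟙 _ := by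
        rw [← CategoryTheory.Functor.map_comp, e.inv_hom_id, CategoryTheory.Functor.map_id]
      change Sheaf.H.map _ q (Sheaf.H.map _ q y) = y
      rw [← Sheaf.H.map_comp_apply, h1, Sheaf.H.map_id_apply]
  intro F hF q
  exact key (n + 1) q (by omega) F hF

/-- Cohomology is invariant under isomorphisms (subsingleton version). -/
theorem subsingleton_of_iso {F G : X.Modules} (e : F ≅ G) (q : ℕ)
    [h : Subsingleton (Coh.HH X F q)] : Subsingleton (Coh.HH X G q) := by
  refine ⟨fun y z => ?_⟩
  have h1 : (SheafOfModules.toSheaf X.ringCatSheaf).map e.inv ≫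
      (SheafOfModules.toSheaf X.ringCatSheaf).map e.hom = 𝟙 _ := by
    rw [← CategoryTheory.Functor.map_comp, e.inv_hom_id, CategoryTheory.Functor.map_id]
  have key : ∀ w : Coh.HH X G q, w =
      Sheaf.H.map ((SheafOfModules.toSheaf X.ringCatSheaf).map e.hom) q
        (Sheaf.H.map ((SheafOfModules.toSheaf X.ringCatSheaf).map e.inv) q w) := by
    intro w
    rw [← Sheaf.H.map_comp_apply, h1, Sheaf.H.map_id_apply]
  rw [key y, key z]
  congr 1
  exact Subsingleton.elim _ _

/-- **Eventual vanishing by descending induction** (formal part of Serre's vanishing theorem):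
`T d` is a family of (exact) functors, e.g. the twists `F ↦ F(d)`. -/
theorem eventually_vanishing_of_resolution (C : X.Modules → Prop) (n : ℕ)
    (T : ℤ → X.Modules ⥤ X.Modules) [∀ d, (T d).PreservesZeroMorphisms]
    (hvan : ∀ F, C F → ∀ (d : ℤ) (q : ℕ), n < q → Subsingleton (Coh.HH X ((T d).obj F) q))
    (hres : ∀ F, C F → ∃ S : ShortComplex X.Modules, Nonempty (S.X₃ ≅ F) ∧ C S.X₁ ∧
      (∃ d₀ : ℤ, ∀ d, d₀ ≤ d → ∀ p : ℕ, 0 < p → Subsingleton (Coh.HH X ((T d).obj S.X₂) p)) ∧
      ∀ (d : ℤ) (q : ℕ), LESAt R (S.map (T d)) q) :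
    ∀ F, C F → ∀ p : ℕ, 0 < p →
      ∃ d₀ : ℤ, ∀ d, d₀ ≤ d → Subsingleton (Coh.HH X ((T d).obj F) p) := by
  have key : ∀ k : ℕ, ∀ p : ℕ, 0 < p → n + 1 ≤ p + k → ∀ F, C F →
      ∃ d₀ : ℤ, ∀ d, d₀ ≤ d → Subsingleton (Coh.HH X ((T d).obj F) p) := by
    intro k
    induction k with
    | zero =>
      intro p _ hp F hF
      exact ⟨0, fun d _ => hvan F hF d p (by omega)⟩
    | succ k ih =>
      intro p hp0 hp F hF
      obtain ⟨S, ⟨e⟩, hK, ⟨d₁, hd₁⟩, hles⟩ := hres F hF
      obtain ⟨d₂, hd₂⟩ := ih (p + 1) (by omega) (by omega) S.X₁ hK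
      refine ⟨max d₁ d₂, fun d hd => ?_⟩
      obtain ⟨δ, hδ⟩ := hles d p
      haveI h1 : Subsingleton (Coh.HH X ((T d).obj S.X₂) p) := hd₁ d (le_trans (le_max_left _ _) hd) p hp0
      haveI h2 : Subsingleton (Coh.HH X ((T d).obj S.X₁) (p + 1)) :=
        hd₂ d (le_trans (le_max_right _ _) hd)
      haveI h3 : Subsingleton (Coh.HH X ((T d).obj S.X₃) p) := by
        refine ⟨fun y z => ?_⟩
        have hy : ∀ w : Coh.HH X ((T d).obj S.X₃) p, w = 0 := by
          intro w
          have hw : δ w = 0 := Subsingleton.elim (h := h2) _ _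
          obtain ⟨x, rfl⟩ := (hδ w).1 hw
          have hx : x = 0 := Subsingleton.elim (h := h1) _ _
          rw [hx, map_zero]
        rw [hy y, hy z]
      exact subsingleton_of_iso ((T d).mapIso e) p
  intro F hF p hp
  exact key (n + 1) p hp (by omega) F hF

end Groth.Agent.R2.H58.SerreFin
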