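import Mathlib
import Groth.Prelude.Def_Canon
import Groth.Agent.R2.H62CohDelta
import Groth.Agent.R2.H58SerreFin

/-!
# Bridge between the `Coh.HH` delta-functor package (helper62, B1) and the frozen `Canon.HHlin`
and helper58's `LESAt` (coh-core B5-core)
-/

set_option autoImplicit false
universe u

open CategoryTheory CategoryTheory.Limits AlgebraicGeometry

namespace Groth.Agent.R2.H62.CohLES

variable (R : Type u) [CommRing R] {X : Scheme.{u}} [X.Over (Spec (CommRingCat.of R))]

/-- The frozen `Canon.HHlin` is the `A`-linear `HHmapA`. -/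
lemma HHlin_eq {F G : X.Modules} (φ : F ⟶ G) (r : ℕ) : Canon.HHlin R φ r = HHmapA R φ r := rfl

lemma HHlin_apply {F G : X.Modules} (φ : F ⟶ G) (r : ℕ) (x : Coh.HH X F r) :
    Canon.HHlin R φ r x = HHmap φ r x := rfl

/-- Every short exact sequence of `O_X`-modules satisfies helper58's `LESAt`. -/
theorem lesAt {S : ShortComplex X.Modules} (hS : S.ShortExact) (q : ℕ) :
    Groth.Agent.R2.H58.SerreFin.LESAt R S q :=
  ⟨δA hS R q, exact_g_δ hS q⟩

end Groth.Agent.R2.H62.CohLES
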