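import Mathlib
import Groth.Prelude.Def_Coh
import Groth.Agent.R2.H62CohDelta

/-!
# `Coh.HH` as an additive functor, finite coproducts, finiteness and vanishing in the long exact
sequence (helper62; coh-core work package B1)
-/

set_option autoImplicit false
set_option linter.style.haveILetI false
universe u

open CategoryTheory CategoryTheory.Limits AlgebraicGeometry Opposite TopologicalSpace Abelian

namespace Groth.Agent.R2.H62.CohLES

open Groth.Agent.R2.H62.ExtLES

variable {X : Scheme.{u}}

section functor

/-- `H^n(X, -)` as a functor to `Γ(X, O_X)`-modules. -/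
noncomputable def HHFunctor (X : Scheme.{u}) (n : ℕ) : X.Modules ⥤ ModuleCat.{u} (Coh.Γtop X) where
  obj M := ModuleCat.of (Coh.Γtop X) (Coh.HH X M n)
  map f := ModuleCat.ofHom (HHmapₗ f n)
  map_id M := by
    ext x
    exact HHmap_id n x
  map_comp f g := by
    ext x
    exact HHmap_comp f g n x

instance (n : ℕ) : (HHFunctor X n).Additive where
  map_add {M N f g} := by
    ext x
    exact HHmap_add f g n x

/-- `H^n(X, -)` as a functor to `A`-modules, for `X` over `Spec A`. -/
noncomputable def HHFunctorA (A : Type u) [CommRing A] (X : Scheme.{u})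
    [X.Over (Spec (CommRingCat.of A))] (n : ℕ) : X.Modules ⥤ ModuleCat.{u} A where
  obj M := ModuleCat.of A (Coh.HH X M n)
  map f := ModuleCat.ofHom (HHmapA A f n)
  map_id M := by
    ext x
    exact HHmap_id n x
  map_comp f g := by
    ext x
    exact HHmap_comp f g n x

instance (A : Type u) [CommRing A] [X.Over (Spec (CommRingCat.of A))] (n : ℕ) :
    (HHFunctorA A X n).Additive where
  map_add {M N f g} := by
    ext x
    exact HHmap_add f g n x

end functor

section sigma

variable {ι : Type*} [Fintype ι] [DecidableEq ι] (M : ι → X.Modules) [HasCoproduct M]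

/-- Cohomology of a finite coproduct of modules is the direct sum of the cohomologies
(`Γ(X, O_X)`-linear form). -/
noncomputable def HHsigmaEquiv (n : ℕ) :
    (∀ i, Coh.HH X (M i) n) ≃ₗ[Coh.Γtop X] Coh.HH X (∐ M) n :=
  sigmaEquiv (HHFunctor X n) M

lemma HHsigmaEquiv_apply (n : ℕ) (x : ∀ i, Coh.HH X (M i) n) :
    HHsigmaEquiv M n x = ∑ i, HHmap (Sigma.ι M i) n (x i) :=
  sigmaLin_apply (HHFunctor X n) M x

/-- Cohomology of a finite coproduct of modules is the direct sum of the cohomologies
(`A`-linear form, for `X` over `Spec A`). -/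
noncomputable def HHsigmaEquivA (A : Type u) [CommRing A] [X.Over (Spec (CommRingCat.of A))]
    (n : ℕ) : (∀ i, Coh.HH X (M i) n) ≃ₗ[A] Coh.HH X (∐ M) n :=
  sigmaEquiv (HHFunctorA A X n) M

lemma HHsigmaEquivA_apply (A : Type u) [CommRing A] [X.Over (Spec (CommRingCat.of A))]
    (n : ℕ) (x : ∀ i, Coh.HH X (M i) n) :
    HHsigmaEquivA M A n x = ∑ i, HHmap (Sigma.ι M i) n (x i) :=
  sigmaLin_apply (HHFunctorA A X n) M x

end sigma

end Groth.Agent.R2.H62.CohLES
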