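import Mathlib
import Groth.Prelude.Def_Twist2
import Groth.Prelude.Def_GrMod2
import Groth.Prelude.Def_ModSite
import Groth.Agent.Lib.Helper21ModTensor7
import Groth.Agent.Lib.Helper1StalkTensorC
import Groth.Agent.Lib.Helper1Sky9
import Groth.Agent.Lib.Helper18PBUnit2
import Groth.Agent.Lib.Helper18Strict6
import Groth.Agent.Lib.Helper27TwistGen2
import Groth.Agent.Lib.Helper27TwistAmple
import Groth.Agent.Lib.Helper27PnSections
import Groth.Agent.Lib.Helper23TensorQCoh
import Groth.Agent.Lib.Helper23TensorUnit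
import Groth.Agent.Lib.Helper23AmpleIso

/-!
# Twist calculus (coh-core package B2, helper79)

`F ↦ F ⊗ L` as an exact additive functor for `L` invertible, associativity, and the
consequences for the twists `F(d) = F ⊗ O(d)` on `Proj` and on projective space.
-/

set_option autoImplicit false
universe u
open CategoryTheory CategoryTheory.Limits AlgebraicGeometry TopologicalSpace Opposite

namespace Groth.Agent.R2.H79.TwistCalc

open Groth.Agent.Lib.Helper21.ModTensor3 Groth.Agent.Lib.Helper21.ModTensor5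
  Groth.Agent.Lib.Helper21.ModTensor6 Groth.Agent.Lib.Helper21.ModTensor7

section General

variable {X : Scheme.{u}}

/-- `- ⊗ L` as a functor on `O_X`-modules (the frozen `ModSite.tensorBi`). -/
noncomputable abbrev tensorRightF (L : X.Modules) : X.Modules ⥤ X.Modules := tR X.sheaf L

theorem tensorRightF_obj (L F : X.Modules) : (tensorRightF L).obj F = CohB1.tensorMod F L := rfl

/-- `L ⊗ -` as a functor on `O_X`-modules. -/
noncomputable abbrev tensorLeftF (L : X.Modules) : X.Modules ⥤ X.Modules := tL X.sheaf L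

theorem tensorLeftF_obj (L F : X.Modules) : (tensorLeftF L).obj F = CohB1.tensorMod L F := rfl

instance (L : X.Modules) : (tensorRightF L).Additive := tR_additive X.sheaf L
instance (L : X.Modules) : PreservesFiniteColimits (tensorRightF L) :=
  tR_preservesFiniteColimits X.sheaf L
instance (L : X.Modules) : (tensorLeftF L).Additive := tL_additive X.sheaf L
instance (L : X.Modules) : PreservesFiniteColimits (tensorLeftF L) :=
  tL_preservesFiniteColimits X.sheaf L

/-- an invertible module is flat (in the sense of exactness of the tensor product). -/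
theorem modSite_isFlat_of_isInvertible (L : X.Modules) (hL : PicF.IsInvertible L) :
    ModSite.IsFlat (O := X.sheaf) L :=
  Groth.Agent.Lib.Helper1.StalkTensor.modSite_isFlat_of_isFlat L
    (Groth.Agent.Lib.Helper1.Sky.isFlat_of_isFinLocFree' L
      (Groth.Agent.Helper18PBUnit.isFinLocFree_of_isInvertible hL))

/-- tensoring with an invertible module is left exact. -/
theorem preservesFiniteLimits_tensorRightF (L : X.Modules) (hL : PicF.IsInvertible L) :
    PreservesFiniteLimits (tensorRightF L) :=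
  (modSite_isFlat_of_isInvertible L hL).1

/-- tensoring with an invertible module preserves short exact sequences. -/
theorem shortExact_map_tensorRightF (L : X.Modules) (hL : PicF.IsInvertible L)
    (S : ShortComplex X.Modules) (hS : S.ShortExact) : (S.map (tensorRightF L)).ShortExact := by
  have := preservesFiniteLimits_tensorRightF L hL
  exact hS.map_of_exact (tensorRightF L)

/-- tensoring with an invertible module preserves exactness. -/
theorem exact_map_tensorRightF (L : X.Modules) (hL : PicF.IsInvertible L)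
    (S : ShortComplex X.Modules) (hS : S.Exact) : (S.map (tensorRightF L)).Exact := by
  have := preservesFiniteLimits_tensorRightF L hL
  exact hS.map (tensorRightF L)

theorem mono_map_tensorRightF (L : X.Modules) (hL : PicF.IsInvertible L) {F G : X.Modules}
    (φ : F ⟶ G) [Mono φ] : Mono ((tensorRightF L).map φ) := by
  have := preservesFiniteLimits_tensorRightF L hL
  infer_instance

theorem epi_map_tensorRightF (L : X.Modules) {F G : X.Modules}
    (φ : F ⟶ G) [Epi φ] : Epi ((tensorRightF L).map φ) := inferInstance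

/-- associativity: `(F ⊗ L) ⊗ L' ≅ F ⊗ (L ⊗ L')`, naturally in `F`. -/
noncomputable def tensorAssocNatIso (L L' : X.Modules) :
    tensorRightF L ⋙ tensorRightF L' ≅ tensorRightF (CohB1.tensorMod L L') :=
  tRTensorIso X.sheaf L L'

/-- associativity: `(F ⊗ L) ⊗ L' ≅ F ⊗ (L ⊗ L')`. -/
noncomputable def tensorAssocIso (F L L' : X.Modules) :
    CohB1.tensorMod (CohB1.tensorMod F L) L' ≅ CohB1.tensorMod F (CohB1.tensorMod L L') :=
  (tensorAssocNatIso L L').app F

/-- `F ⊗ L ≅ F ⊗ L'` for `L ≅ L'`, naturally in `F`. -/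
noncomputable def tensorRightFCongr {L L' : X.Modules} (e : L ≅ L') :
    tensorRightF L ≅ tensorRightF L' :=
  (ModSite.tensorBi X.sheaf).flip.mapIso e

/-- `F ⊗ O ≅ F`, naturally in `F`. -/
noncomputable def tensorRightFUnit : tensorRightF (Coh.structureModule X) ≅ 𝟭 X.Modules :=
  ((brd X.sheaf).app (ModSite.unit X.sheaf)).symm ≪≫ tLUnitIso X.sheaf

/-- tensoring commutes with finite coproducts. -/
noncomputable def tensorCoprodIso (L : X.Modules) {ι : Type} [Finite ι] (F : ι → X.Modules) :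
    CohB1.tensorMod (∐ F) L ≅ ∐ fun i => CohB1.tensorMod (F i) L :=
  PreservesCoproduct.iso (tensorRightF L) F

/-- tensoring with an invertible module preserves quasi-coherence. -/
theorem isQCoh_tensorMod (F L : X.Modules) (hF : Coh.IsQCoh F) (hL : PicF.IsInvertible L) :
    Coh.IsQCoh (CohB1.tensorMod F L) := by
  have : F.IsQuasicoherent := hF
  have : L.IsQuasicoherent := Groth.Agent.Helper18Strict.isQCoh_of_isFP L
    (Groth.Agent.Lib.Helper2.LocFree.isFP_of_isFinLocFree L
      (Groth.Agent.Helper18PBUnit.isFinLocFree_of_isInvertible hL))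
  exact Groth.Agent.Lib.Helper23.TensorQCoh.isQuasicoherent_tensorMod F L

/-- tensoring with an invertible module preserves coherence (quasi-coherent of finite type). -/
theorem isCoh_tensorMod (F L : X.Modules) (hF : Coh.IsCoh F) (hL : PicF.IsInvertible L) :
    Coh.IsCoh (CohB1.tensorMod F L) := by
  have hfp := Groth.Agent.Lib.Helper2.LocFree.isFP_of_isFinLocFree L
      (Groth.Agent.Helper18PBUnit.isFinLocFree_of_isInvertible hL)
  have : F.IsQuasicoherent := hF.1
  have : SheafOfModules.IsFiniteType (R := X.ringCatSheaf) F := hF.2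
  have : L.IsQuasicoherent := Groth.Agent.Helper18Strict.isQCoh_of_isFP L hfp
  have : SheafOfModules.IsFiniteType (R := X.ringCatSheaf) L :=
    Groth.Agent.Helper18Strict.isFT_of_isFP L hfp
  exact ⟨Groth.Agent.Lib.Helper23.TensorQCoh.isQuasicoherent_tensorMod F L,
    Groth.Agent.Lib.Helper23.TensorQCoh.isFiniteType_tensorMod F L⟩

open Groth.Agent.Lib.Helper23.SecTw Groth.Agent.Lib.Helper23.GenLocus Groth.Agent.Lib.Helper6 in
/-- a module generated by a global section is isomorphic to the structure sheaf. -/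
theorem nonempty_unit_iso_of_isGen_top (M : X.Modules) (e : Γ(M, ⊤)) (he : IsGen M ⊤ e) :
    Nonempty (Coh.structureModule X ≅ M) := by
  let φ : Coh.structureModule X ⟶ M := secHom M e
  have hiso : IsIso φ := by
    rw [Scheme.Modules.Hom.isIso_iff_isIso_app]
    intro V
    rw [ConcreteCategory.isIso_iff_bijective]
    have hfun : ⇑(φ.app V) = (fun r : Γ(X, V) => r • res M le_top e) ∘ (ofS V) := by
      funext b
      have h1 := app_toS φ V (ofS V b)
      rw [toS_ofS] at h1
      rw [h1, sv_secHom]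
      rfl
    rw [hfun]
    exact (he _ le_top).comp ⟨fun a b h => h, fun b => ⟨b, rfl⟩⟩
  exact ⟨asIso φ⟩

end General

section Proj

open Groth.Agent.Lib.Helper27GrTildeSect

variable {R A : Type u} [CommRing R] [CommRing A] [Algebra R A] (𝒜 : ℕ → Submodule R A)
  [GradedAlgebra 𝒜]

/-- Serre's twisting sheaf is the module attached to the graded ring itself, shifted. -/
theorem twist_eq_tilde (n : ℤ) : Twist.twist 𝒜 n = GrTilde.tilde 𝒜 𝒜 n := rfl

/-- `F ↦ F(d)` as a functor. -/
noncomputable abbrev twistF (d : ℤ) : (Proj 𝒜).Modules ⥤ (Proj 𝒜).Modules :=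
  tensorRightF (Twist.twist 𝒜 d)

theorem twistF_obj (d : ℤ) (F : (Proj 𝒜).Modules) : (twistF 𝒜 d).obj F = Twist.twistBy 𝒜 F d := rfl

/-- `Proj` is covered by the `D₊(f)`, `f` of degree one. -/
def DegOneCover : Prop := ∀ y : Proj 𝒜, ∃ f : 𝒜 1, y ∈ Proj.basicOpen 𝒜 (f : A)

variable {𝒜}

theorem isInvertible_twist (hcov : DegOneCover 𝒜) (d : ℤ) :
    PicF.IsInvertible (Twist.twist 𝒜 d) := by
  rw [twist_eq_tilde]
  exact isInvertible_tilde 𝒜 hcov d

/-- `O(a)(b) ≅ O(a + b)`. -/
theorem nonempty_twistBy_twist_iso (hcov : DegOneCover 𝒜) (a b : ℤ) :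
    Nonempty (Twist.twistBy 𝒜 (Twist.twist 𝒜 a) b ≅ Twist.twist 𝒜 (a + b)) := by
  unfold Twist.twistBy
  rw [twist_eq_tilde 𝒜 a, twist_eq_tilde 𝒜 b, twist_eq_tilde 𝒜 (a + b)]
  exact nonempty_tensor_iso 𝒜 hcov a b

/-- `(-)(a)(b) ≅ (-)(a + b)` as functors. -/
theorem nonempty_twistF_comp_iso (hcov : DegOneCover 𝒜) (a b : ℤ) :
    Nonempty (twistF 𝒜 a ⋙ twistF 𝒜 b ≅ twistF 𝒜 (a + b)) := by
  obtain ⟨e⟩ := nonempty_twistBy_twist_iso hcov a b
  exact ⟨tensorAssocNatIso _ _ ≪≫ tensorRightFCongr e⟩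

/-- `F(a)(b) ≅ F(a + b)`. -/
theorem nonempty_twistBy_twistBy_iso (hcov : DegOneCover 𝒜) (F : (Proj 𝒜).Modules) (a b : ℤ) :
    Nonempty (Twist.twistBy 𝒜 (Twist.twistBy 𝒜 F a) b ≅ Twist.twistBy 𝒜 F (a + b)) := by
  obtain ⟨e⟩ := nonempty_twistF_comp_iso hcov a b
  exact ⟨e.app F⟩

variable (𝒜) in
theorem nonempty_tilde_zero_iso :
    Nonempty (Coh.structureModule (Proj 𝒜) ≅ GrTilde.tilde 𝒜 𝒜 0) := by
  have h1 : (1 : A) ∈ 𝒜 0 := SetLike.GradedOne.one_mem
  have hnot : ∀ y : (⊤ : (Proj 𝒜).Opens), (1 : A) ∉ y.1.asHomogeneousIdeal :=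
    fun y => one_not_mem 𝒜 y.1
  exact nonempty_unit_iso_of_isGen_top _ (fracSec 𝒜 0 ⊤ h1 h1 (by simp) hnot)
    (isGen_fracSec 𝒜 0 ⊤ h1 h1 (by simp) hnot hnot)

variable (𝒜) in
/-- `O(0) ≅ O`. -/
theorem nonempty_twist_zero_iso : Nonempty (Coh.structureModule (Proj 𝒜) ≅ Twist.twist 𝒜 0) := by
  rw [twist_eq_tilde]
  exact nonempty_tilde_zero_iso 𝒜

variable (𝒜) in
/-- `(-)(0) ≅ id` as functors. -/
theorem nonempty_twistF_zero_iso : Nonempty (twistF 𝒜 0 ≅ 𝟭 _) := by
  obtain ⟨e⟩ := nonempty_twist_zero_iso 𝒜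
  exact ⟨tensorRightFCongr e.symm ≪≫ tensorRightFUnit⟩

variable (𝒜) in
/-- `F(0) ≅ F`. -/
theorem nonempty_twistBy_zero_iso (F : (Proj 𝒜).Modules) : Nonempty (Twist.twistBy 𝒜 F 0 ≅ F) := by
  obtain ⟨e⟩ := nonempty_twistF_zero_iso 𝒜
  exact ⟨e.app F⟩

/-- twisting preserves short exact sequences. -/
theorem shortExact_map_twistF (hcov : DegOneCover 𝒜) (d : ℤ) (S : ShortComplex (Proj 𝒜).Modules)
    (hS : S.ShortExact) : (S.map (twistF 𝒜 d)).ShortExact :=
  shortExact_map_tensorRightF _ (isInvertible_twist hcov d) S hS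

/-- twisting preserves exactness. -/
theorem exact_map_twistF (hcov : DegOneCover 𝒜) (d : ℤ) (S : ShortComplex (Proj 𝒜).Modules)
    (hS : S.Exact) : (S.map (twistF 𝒜 d)).Exact :=
  exact_map_tensorRightF _ (isInvertible_twist hcov d) S hS

theorem isQCoh_twistBy (hcov : DegOneCover 𝒜) (F : (Proj 𝒜).Modules) (hF : Coh.IsQCoh F) (d : ℤ) :
    Coh.IsQCoh (Twist.twistBy 𝒜 F d) :=
  isQCoh_tensorMod F _ hF (isInvertible_twist hcov d)

theorem isCoh_twistBy (hcov : DegOneCover 𝒜) (F : (Proj 𝒜).Modules) (hF : Coh.IsCoh F) (d : ℤ) :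
    Coh.IsCoh (Twist.twistBy 𝒜 F d) :=
  isCoh_tensorMod F _ hF (isInvertible_twist hcov d)

/-- twisting commutes with finite coproducts. -/
noncomputable def twistByCoprodIso (d : ℤ) {ι : Type} [Finite ι] (F : ι → (Proj 𝒜).Modules) :
    Twist.twistBy 𝒜 (∐ F) d ≅ ∐ fun i => Twist.twistBy 𝒜 (F i) d :=
  tensorCoprodIso (Twist.twist 𝒜 d) F

/-- `(⊕ O(aᵢ))(d) ≅ ⊕ O(aᵢ + d)`. -/
theorem nonempty_twistBy_coprod_twist_iso (hcov : DegOneCover 𝒜) (d : ℤ) {ι : Type} [Finite ι]
    (a : ι → ℤ) :
    Nonempty (Twist.twistBy 𝒜 (∐ fun i => Twist.twist 𝒜 (a i)) d ≅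
      ∐ fun i => Twist.twist 𝒜 (a i + d)) := by
  have h : ∀ i, Nonempty (Twist.twistBy 𝒜 (Twist.twist 𝒜 (a i)) d ≅ Twist.twist 𝒜 (a i + d)) :=
    fun i => nonempty_twistBy_twist_iso hcov (a i) d
  exact ⟨twistByCoprodIso d (fun i => Twist.twist 𝒜 (a i)) ≪≫
    Sigma.mapIso (fun i => (h i).some)⟩

end Proj

section Pn

variable (n : ℕ) (R : Type u) [CommRing R]

/-- projective space is covered by the standard charts `D₊(Tᵢ)`. -/
theorem degOneCover_polyGrading : DegOneCover (CohB1.polyGrading n R) := by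
  intro y
  obtain ⟨i, hi⟩ := Groth.Agent.Lib.Helper27PnSections.exists_X_not_mem n R y
  exact ⟨⟨MvPolynomial.X i, Groth.Agent.Lib.Helper27ProjGamma.hX n R i⟩,
    (ProjectiveSpectrum.mem_basicOpen _ _ y).mpr hi⟩

theorem twistProjSpace_eq (d : ℤ) :
    Twist.twistProjSpace n R d = Twist.twist (CohB1.polyGrading n R) d := rfl

/-- `O(d)` on projective space is invertible. -/
theorem isInvertible_twistProjSpace (d : ℤ) : PicF.IsInvertible (Twist.twistProjSpace n R d) :=
  isInvertible_twist (degOneCover_polyGrading n R) d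

/-- `O(a) ⊗ O(b) ≅ O(a + b)` on projective space. -/
theorem nonempty_twistProjSpace_tensor_iso (a b : ℤ) :
    Nonempty (CohB1.tensorMod (Twist.twistProjSpace n R a) (Twist.twistProjSpace n R b) ≅
      Twist.twistProjSpace n R (a + b)) :=
  nonempty_twistBy_twist_iso (degOneCover_polyGrading n R) a b

/-- `O(0) ≅ O` on projective space. -/
theorem nonempty_twistProjSpace_zero_iso :
    Nonempty (Coh.structureModule (CohB1.ProjSpace n R) ≅ Twist.twistProjSpace n R 0) :=
  nonempty_twist_zero_iso (CohB1.polyGrading n R)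

/-- `O(d)` on projective space is coherent (quasi-coherent of finite type). -/
theorem isCoh_twistProjSpace (d : ℤ) : Coh.IsCoh (Twist.twistProjSpace n R d) := by
  have hfp := Groth.Agent.Lib.Helper2.LocFree.isFP_of_isFinLocFree _
    (Groth.Agent.Helper18PBUnit.isFinLocFree_of_isInvertible (isInvertible_twistProjSpace n R d))
  exact ⟨Groth.Agent.Helper18Strict.isQCoh_of_isFP _ hfp,
    Groth.Agent.Helper18Strict.isFT_of_isFP _ hfp⟩

end Pn

end Groth.Agent.R2.H79.TwistCalc
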