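import Mathlib
import Groth.Agent.R2.H79TwistCalc
import Groth.Agent.Lib.Helper27SerreGen4
import Groth.Agent.Lib.Helper23FinTypeLocal

/-!
# Twist calculus, part 2 (coh-core packages B2/B3 glue, helper79)

Coherence of finite sums of invertible modules and Serre's global generation on projective space in
the form: every coherent module on `P^n_R` is a quotient of `O(-m)^r` for all `m ≫ 0`.
-/

set_option autoImplicit false
universe u
open CategoryTheory CategoryTheory.Limits AlgebraicGeometry TopologicalSpace Opposite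

namespace Groth.Agent.R2.H79.TwistCalc

section General

variable {X : Scheme.{u}}

theorem isCoh_of_iso {M N : X.Modules} (e : M ≅ N) (h : Coh.IsCoh M) : Coh.IsCoh N := by
  have : M.IsQuasicoherent := h.1
  have : SheafOfModules.IsFiniteType (R := X.ringCatSheaf) M := h.2
  exact ⟨Groth.Agent.Lib.Helper23.TensorQCoh.isQuasicoherent_of_iso e,
    Groth.Agent.Lib.Helper23.FinType.isFiniteType_of_iso e⟩

/-- the free module of finite rank is coherent. -/
theorem isCoh_freeMod (r : ℕ) : Coh.IsCoh (FlatMod.freeMod X r) := by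
  have hfp := Groth.Agent.Lib.Helper2.LocFree.isFP_of_isFinLocFree _
    (Groth.Agent.Lib.Helper2.LocFree.isFinLocFree_of_iso_freeMod (FlatMod.freeMod X r) (Iso.refl _))
  exact ⟨Groth.Agent.Helper18Strict.isQCoh_of_isFP _ hfp,
    Groth.Agent.Helper18Strict.isFT_of_isFP _ hfp⟩

/-- `O^r ⊗ L ≅ L^r`. -/
noncomputable def freeModTensorIso (L : X.Modules) (r : ℕ) :
    CohB1.tensorMod (FlatMod.freeMod X r) L ≅ ∐ fun _ : Fin r => L :=
  tensorCoprodIso L (fun _ : Fin r => Coh.structureModule X) ≪≫
    Sigma.mapIso (fun _ => Groth.Agent.Lib.Helper23.TensorUnit.unitTensorIso L)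

/-- a finite sum of copies of an invertible module is coherent. -/
theorem isCoh_coprod_of_isInvertible (L : X.Modules) (hL : PicF.IsInvertible L) (r : ℕ) :
    Coh.IsCoh (∐ fun _ : Fin r => L) :=
  isCoh_of_iso (freeModTensorIso L r) (isCoh_tensorMod _ L (isCoh_freeMod r) hL)

end General

section Pn

open Groth.Agent.Lib.Helper27GrTildeSect

variable (n : ℕ) (R : Type u) [CommRing R]

/-- **Serre's global generation on projective space**: a coherent module on `P^n_R` is, for every
`m ≫ 0`, a quotient of a finite direct sum of copies of `O(-m)`; that sum is coherent. -/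
theorem exists_epi_coprod_twistProjSpace (M : (CohB1.ProjSpace n R).Modules) (hM : Coh.IsCoh M) :
    ∃ m₀ : ℕ, ∀ m : ℕ, m₀ ≤ m → ∃ (r : ℕ)
      (p : (∐ fun _ : Fin r => Twist.twistProjSpace n R (-(m : ℤ))) ⟶ M),
      Epi p ∧ Coh.IsCoh (∐ fun _ : Fin r => Twist.twistProjSpace n R (-(m : ℤ))) := by
  let M' : (Proj (CohB1.polyGrading n R)).Modules := M
  have h1 : M'.IsQuasicoherent := hM.1
  have h2 : SheafOfModules.IsFiniteType (R := (Proj (CohB1.polyGrading n R)).ringCatSheaf) M' :=
    hM.2
  obtain ⟨n₀, h⟩ := exists_epi_twist (CohB1.polyGrading n R) 1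
    (fun i : Fin (n + 1) => (MvPolynomial.X i : MvPolynomial (Fin (n + 1)) R))
    (Groth.Agent.Lib.Helper27ProjGamma.hX n R)
    (Groth.Agent.Lib.Helper27PnSections.exists_X_not_mem n R) Nat.one_pos M'
  refine ⟨n₀, fun m hm => ?_⟩
  obtain ⟨r, p, hp⟩ := h m hm (-(m : ℤ)) (by push_cast; ring)
  refine ⟨r, ?_⟩
  have hE : Coh.IsCoh (∐ fun _ : Fin r => Twist.twistProjSpace n R (-(m : ℤ))) :=
    isCoh_coprod_of_isInvertible _ (isInvertible_twistProjSpace n R _) r
  rw [twistProjSpace_eq, twist_eq_tilde] at hE ⊢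
  exact ⟨p, hp, hE⟩

end Pn

end Groth.Agent.R2.H79.TwistCalc
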