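import Groth.Agent.R2.H58SerreFinPn
import Groth.Agent.R2.H62CohBridge
import Groth.Agent.R2.H62CohSigma
import Groth.Agent.R2.H79TwistCalc2

/-!
# Serre vanishing on `P^n_B` against the additive vanishing of `H^q(P^n_B, O(d))`, `d ≥ 0`
(helper58, coh-core package PnSerre)

`projSpace_serre_vanishing_of` is the frozen statement S0847 for the polynomial grading, conditional
only on the vanishing `hA` of the higher cohomology of the nonnegative twists (package A).
-/

set_option autoImplicit false
set_option backward.isDefEq.respectTransparency false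
set_option backward.isDefEq.respectTransparency.types false
set_option linter.style.haveILetI false
universe u

open CategoryTheory CategoryTheory.Limits AlgebraicGeometry

namespace Groth.Agent.R2.H58.SerreVanPn

open Groth.Agent.R2.H58.SerreFin Groth.Agent.R2.H79.TwistCalc

/-- The cohomology of a finite coproduct vanishes if that of every summand does. -/
theorem subsingleton_HH_coprod {X : Scheme.{u}} {ι : Type} [Fintype ι] [DecidableEq ι]
    (M : ι → X.Modules) [HasCoproduct M] (q : ℕ) (h : ∀ i, Subsingleton (Coh.HH X (M i) q)) :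
    Subsingleton (Coh.HH X (∐ M) q) :=
  (Groth.Agent.R2.H62.CohLES.HHsigmaEquiv M q).symm.toEquiv.subsingleton

/-- **Serre vanishing on projective space**, conditional on the vanishing of the higher cohomology
of `O(d)`, `d ≥ 0`. -/
theorem projSpace_serre_vanishing_of (n : ℕ) (B : Type u) [CommRing B] [IsNoetherianRing B]
    (hA : ∀ d : ℤ, 0 ≤ d → ∀ q : ℕ, 0 < q →
      Subsingleton (Coh.HH (CohB1.ProjSpace n B) (Twist.twistProjSpace n B d) q))
    (F : (CohB1.ProjSpace n B).Modules) (hF : Coh.IsCoh F) (p : ℕ) (hp : 0 < p) :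
    ∃ d₀ : ℤ, ∀ d : ℤ, d₀ ≤ d →
      Subsingleton (Coh.HH (CohB1.ProjSpace n B)
        (Twist.twistBy (CohB1.polyGrading n B) F d) p) := by
  haveI := isLocallyNoetherian_projSpace n B
  have hcov := degOneCover_polyGrading n B
  refine eventually_vanishing_of_resolution (R := B) (X := CohB1.ProjSpace n B)
    (fun F => Coh.IsCoh F) n (fun d => twistF (CohB1.polyGrading n B) d) ?_ ?_ F hF p hp
  · intro F hF d q hq
    haveI : Coh.IsQCoh ((twistF (CohB1.polyGrading n B) d).obj F) :=
      isQCoh_twistBy hcov F hF.1 d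
    exact Groth.Agent.S0022.result n B _ q hq
  · intro F hF
    obtain ⟨m₀, hm⟩ := exists_epi_coprod_twistProjSpace n B F hF
    obtain ⟨r, π, hπ, hE⟩ := hm m₀ le_rfl
    haveI := hπ
    haveI : (∐ fun _ : Fin r => Twist.twistProjSpace n B (-(m₀ : ℤ))).IsQuasicoherent := hE.1
    haveI : F.IsQuasicoherent := hF.1
    refine ⟨ShortComplex.mk (kernel.ι π) π (kernel.condition π), ⟨Iso.refl _⟩, ?_,
      ⟨(m₀ : ℤ), fun d hd q hq => ?_⟩, fun d q =>
        Groth.Agent.R2.H62.CohLES.lesAt B
          (shortExact_map_twistF hcov d _ (shortExact_kernel π)) q⟩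
    · exact Groth.Agent.S0046.result _ _ (kernel π) (kernel.ι π) hE
        (Groth.Agent.Lib.Helper23.QCohLocal.isQuasicoherent_kernel π)
    · obtain ⟨e⟩ := nonempty_twistBy_coprod_twist_iso hcov d (fun _ : Fin r => -(m₀ : ℤ))
      exact subsingleton_of_iso
        (h := subsingleton_HH_coprod _ q fun _ => hA (-(m₀ : ℤ) + d) (by omega) q hq) e.symm q

end Groth.Agent.R2.H58.SerreVanPn
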