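import Mathlib
import Groth.Prelude.Def_Coh
import Groth.Prelude.Def_CohB1
import Groth.Prelude.Def_Pic
import Groth.Prelude.Def_Twist2

/-!
# Interface for the assembly of `RelSerre` (helper62, coh-core E4+E5)

Named `Prop`s for the independent steps from which `Groth.Agent.R2.H62.ECore.RelSerre` is assembled in
`R2/H62RelSerre.lean`:

* `StepA` : Serre vanishing for the twists `i^* O(m)` on a closed subscheme `i : Y ⟶ P^n_B`, `B` Noetherian
  (from Serre vanishing on `P^n_B` + projection formula for the closed immersion `i`);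
* `StepC` : vanishing of `H^q(π⁻¹V_k, L)`, `q > 0`, on an affine open cover `V_k` of the base implies
  `R^q π_* L = 0`, `q > 0` (localisation of cohomology on basic opens + `isZero_Rpush_of_basis`);
* `StepD` : finiteness of `H^0(π⁻¹V_k, L)` over `Γ(Z, V_k)` on an affine open cover implies coherence of `π_* L`.
-/

set_option autoImplicit false
universe u

open CategoryTheory CategoryTheory.Limits AlgebraicGeometry

namespace Groth.Agent.R2.H62.RelSerreSpec

/-- **STEP A**: for a closed immersion `i : Y ⟶ P^n_B` (`B` Noetherian) the twists `i^* O(m)`, `m ≫ 0`, have no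
higher cohomology. -/
def StepA : Prop :=
  ∀ (n : ℕ) (B : Type u) [CommRing B] [IsNoetherianRing B] (Y : Scheme.{u})
    (i : Y ⟶ CohB1.ProjSpace n B) [IsClosedImmersion i],
    ∃ m₀ : ℤ, ∀ m : ℤ, m₀ ≤ m → ∀ q : ℕ, 0 < q →
      Subsingleton (Coh.HH Y ((Scheme.Modules.pullback i).obj (Twist.twistProjSpace n B m)) q)

/-- **STEP C**: if the higher cohomology of `L` vanishes on the preimages of the members of an affine open
cover of the base, the higher direct images of `L` vanish. -/
def StepC : Prop :=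
  ∀ {Y Z : Scheme.{u}} (π : Y ⟶ Z) [QuasiCompact π] [QuasiSeparated π] (L : Y.Modules)
    [L.IsQuasicoherent] {ι : Type u} (V : ι → Z.Opens) (_ : ∀ k, IsAffineOpen (V k))
    (_ : ⨆ k, V k = ⊤),
    (∀ (k : ι) (q : ℕ), 0 < q → Subsingleton (Coh.HHon Y L (π ⁻¹ᵁ V k) q)) →
    ∀ q : ℕ, 0 < q → IsZero ((Coh.RpushAb π q).obj (Coh.toAb L))

/-- **STEP D**: if `H^0(π⁻¹V_k, L)` is finite over `Γ(Z, V_k)` for the members of an affine open cover of the
base (the module structure being the frozen `Coh.moduleOver` for the structure morphism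
`π⁻¹V_k ⟶ V_k ≅ Spec Γ(Z, V_k)`), then `π_* L` is coherent. -/
def StepD : Prop :=
  ∀ {Y Z : Scheme.{u}} (π : Y ⟶ Z) [QuasiCompact π] [QuasiSeparated π] (L : Y.Modules)
    [L.IsQuasicoherent] {ι : Type u} (V : ι → Z.Opens) (hV : ∀ k, IsAffineOpen (V k))
    (_ : ⨆ k, V k = ⊤),
    (∀ k : ι,
      letI : ((π ⁻¹ᵁ V k : Y.Opens) : Scheme.{u}).Over (Spec Γ(Z, V k)) :=
        ⟨(π ∣_ V k) ≫ (hV k).isoSpec.hom⟩
      Module.Finite Γ(Z, V k) (Coh.HHon Y L (π ⁻¹ᵁ V k) 0)) →
    Coh.IsCoh ((Coh.push π).obj L)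

end Groth.Agent.R2.H62.RelSerreSpec
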