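import Mathlib

/-!
# Laurent monomials and sign patterns (helper82)

`Lam σ R = R[σ →₀ ℤ]` the Laurent polynomial ring; `phi : MvPolynomial σ R →+* Lam σ R`;
`u J k` the monomial `x_J^k` (`k : ℤ`); `T d J` the additive subgroup of Laurent polynomials all of whose
monomials have degree `d` and negative exponents only at indices in `J`; `mem_T_iff` describes `T d J` as
the set of `phi m * u J (-k)` with `m` homogeneous of degree `k |J| + d`.
-/

set_option autoImplicit false
set_option linter.unusedSectionVars false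
set_option linter.unusedVariables false

open Finsupp

namespace Groth.Agent.R2.H82.Laurent

variable {σ : Type*} [Fintype σ] [DecidableEq σ] {R : Type*} [CommRing R]

/-- the Laurent polynomial ring. -/
abbrev Lam (σ : Type*) (R : Type*) [CommRing R] := AddMonoidAlgebra R (σ →₀ ℤ)

variable (σ) in
/-- exponent vectors of polynomials as exponent vectors of Laurent polynomials. -/
noncomputable def castHom : (σ →₀ ℕ) →+ (σ →₀ ℤ) := Finsupp.mapRange.addMonoidHom (Nat.castAddMonoidHom ℤ)

@[simp] lemma castHom_apply (μ : σ →₀ ℕ) (i : σ) : castHom σ μ i = (μ i : ℤ) := rfl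

lemma castHom_injective : Function.Injective (castHom σ) := by
  intro μ ν h
  ext i
  have := DFunLike.congr_fun h i
  simpa using this

lemma mem_range_castHom_iff (e : σ →₀ ℤ) : e ∈ Set.range (castHom σ) ↔ ∀ i, 0 ≤ e i := by
  constructor
  · rintro ⟨μ, rfl⟩ i
    simp
  · intro h
    refine ⟨Finsupp.equivFunOnFinite.symm (fun i => (e i).toNat), ?_⟩
    ext i
    simp [Int.toNat_of_nonneg (h i)]

lemma degree_castHom (μ : σ →₀ ℕ) : (castHom σ μ).degree = (μ.degree : ℤ) := by
  rw [Finsupp.degree_eq_sum, Finsupp.degree_eq_sum]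
  push_cast
  rfl

variable (R) in
/-- polynomials as Laurent polynomials. -/
noncomputable def phi : MvPolynomial σ R →+* Lam σ R := AddMonoidAlgebra.mapDomainRingHom R (castHom σ)

lemma phi_coeff_cast (m : MvPolynomial σ R) (μ : σ →₀ ℕ) :
    (phi R m).coeff (castHom σ μ) = MvPolynomial.coeff μ m :=
  Finsupp.mapDomain_apply castHom_injective _ _

lemma phi_coeff_of_notMem_range (m : MvPolynomial σ R) (e : σ →₀ ℤ)
    (he : e ∉ Set.range (castHom σ)) : (phi R m).coeff e = 0 :=
  Finsupp.mapDomain_of_notMem_range _ _ he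

lemma phi_injective : Function.Injective (phi R (σ := σ)) := by
  intro m m' h
  ext μ
  rw [← phi_coeff_cast, ← phi_coeff_cast, h]

lemma phi_monomial (μ : σ →₀ ℕ) (r : R) :
    phi R (MvPolynomial.monomial μ r) = AddMonoidAlgebra.single (castHom σ μ) r :=
  AddMonoidAlgebra.mapDomain_single


/-! ### the monomials `x_J^k` -/

/-- the indicator exponent vector of `J`. -/
noncomputable def ind (J : Finset σ) : σ →₀ ℤ := Finsupp.indicator J (fun _ _ => 1)

lemma ind_apply (J : Finset σ) (i : σ) : ind J i = if i ∈ J then 1 else 0 := by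
  rw [ind, Finsupp.indicator_apply]
  split_ifs <;> rfl

lemma degree_ind (J : Finset σ) : (ind J).degree = J.card := by
  rw [Finsupp.degree_eq_sum]
  simp [ind_apply]

variable (R) in
/-- the Laurent monomial `x_J^k`. -/
noncomputable def u (J : Finset σ) (k : ℤ) : Lam σ R := AddMonoidAlgebra.single (k • ind J) 1

lemma u_zero (J : Finset σ) : u R J 0 = 1 := by
  rw [u, zero_smul]
  rfl

lemma u_add (J : Finset σ) (k k' : ℤ) : u R J (k + k') = u R J k * u R J k' := by
  rw [u, u, u, AddMonoidAlgebra.single_mul_single, add_smul, mul_one]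

lemma u_mul_u_neg (J : Finset σ) (k : ℤ) : u R J k * u R J (-k) = 1 := by
  rw [← u_add, add_neg_cancel, u_zero]

lemma castHom_sum_single (J : Finset σ) : castHom σ (∑ j ∈ J, Finsupp.single j 1) = ind J := by
  ext i
  rw [map_sum, Finsupp.finsetSum_apply, ind_apply]
  simp [Finsupp.single_apply]

lemma phi_prod_X (J : Finset σ) : phi R (∏ j ∈ J, MvPolynomial.X j) = u R J 1 := by
  have h : (∏ j ∈ J, MvPolynomial.X j : MvPolynomial σ R) =
      MvPolynomial.monomial (∑ j ∈ J, Finsupp.single j 1) 1 := by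
    rw [MvPolynomial.monomial_sum_one]
    rfl
  rw [h, phi_monomial, castHom_sum_single, u, one_smul]

lemma phi_prod_X_pow (J : Finset σ) (k : ℕ) :
    phi R ((∏ j ∈ J, MvPolynomial.X j) ^ k) = u R J k := by
  induction k with
  | zero => simp [u_zero]
  | succ k ih => rw [pow_succ, map_mul, ih, phi_prod_X, Nat.cast_succ, u_add]

lemma coeff_mul_u (x : Lam σ R) (J : Finset σ) (k : ℤ) (e : σ →₀ ℤ) :
    (x * u R J k).coeff e = x.coeff (e - k • ind J) := by
  rw [u, AddMonoidAlgebra.coeff_mul_single_apply, mul_one, sub_eq_add_neg]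


/-! ### degree and sign pattern -/

/-- the set of indices with negative exponent. -/
def negSet (e : σ →₀ ℤ) : Finset σ := Finset.univ.filter (fun i => e i < 0)

lemma mem_negSet (e : σ →₀ ℤ) (i : σ) : i ∈ negSet e ↔ e i < 0 := by simp [negSet]

variable (R) in
/-- Laurent polynomials homogeneous of degree `d` with negative exponents only at indices in `J`. -/
def T (d : ℤ) (J : Finset σ) : AddSubgroup (Lam σ R) where
  carrier := {x | ∀ e, x.coeff e ≠ 0 → e.degree = d ∧ negSet e ⊆ J}
  zero_mem' := by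
    intro e h
    exact absurd rfl h
  add_mem' := by
    intro x y hx hy e h
    by_cases hxe : x.coeff e = 0
    · by_cases hye : y.coeff e = 0
      · exfalso
        apply h
        rw [AddMonoidAlgebra.coeff_add, Finsupp.add_apply, hxe, hye, add_zero]
      · exact hy e hye
    · exact hx e hxe
  neg_mem' := by
    intro x hx e h
    apply hx
    intro h'
    apply h
    rw [AddMonoidAlgebra.coeff_neg, Finsupp.neg_apply, h', neg_zero]

lemma mem_T_iff' (d : ℤ) (J : Finset σ) (x : Lam σ R) :
    x ∈ T R d J ↔ ∀ e, x.coeff e ≠ 0 → e.degree = d ∧ negSet e ⊆ J := Iff.rfl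

lemma T_mono (d : ℤ) {J J' : Finset σ} (h : J ⊆ J') : T R d J ≤ T R d J' :=
  fun x hx e he => ⟨(hx e he).1, (hx e he).2.trans h⟩

/-- fractions `m / x_J^k` lie in `T d J`. -/
theorem mem_T_of_rep {d : ℤ} {J : Finset σ} {k i : ℕ} {m : MvPolynomial σ R}
    (hm : m ∈ MvPolynomial.homogeneousSubmodule σ R i) (hi : (i : ℤ) = k * J.card + d) :
    phi R m * u R J (-(k : ℤ)) ∈ T R d J := by
  intro e he
  rw [coeff_mul_u] at he
  have hr : e - (-(k : ℤ)) • ind J ∈ Set.range (castHom σ) := by
    by_contra hcon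
    exact he (phi_coeff_of_notMem_range m _ hcon)
  obtain ⟨μ, hμ⟩ := hr
  rw [← hμ, phi_coeff_cast] at he
  have hdeg : μ.degree = i := by
    have := hm he
    rw [Finsupp.degree_eq_weight_one]
    exact this
  have he' : e = castHom σ μ - (k : ℤ) • ind J := by
    rw [hμ]; simp
  constructor
  · rw [he', map_sub, map_zsmul, degree_castHom, hdeg, degree_ind, hi]
    simp
  · intro i₀ hi₀
    rw [mem_negSet, he'] at hi₀
    by_contra hJ
    simp [ind_apply, hJ] at hi₀
    omega

/-- elements of `T d J` are fractions `m / x_J^k`. -/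
theorem exists_rep_of_mem_T {d : ℤ} {J : Finset σ} (hJ : J.Nonempty) {x : Lam σ R}
    (hx : x ∈ T R d J) :
    ∃ (k i : ℕ) (m : MvPolynomial σ R), m ∈ MvPolynomial.homogeneousSubmodule σ R i ∧
      (i : ℤ) = k * J.card + d ∧ x = phi R m * u R J (-(k : ℤ)) := by
  classical
  let k : ℕ := (x.coeff.support.sup (fun e => Finset.univ.sup (fun i => (-e i).toNat))) + d.natAbs
  have hk : ∀ e, x.coeff e ≠ 0 → ∀ i, -e i ≤ k := by
    intro e he i
    have h1 : (-e i).toNat ≤ Finset.univ.sup (fun i => (-e i).toNat) :=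
      Finset.le_sup (f := fun i => (-e i).toNat) (Finset.mem_univ i)
    have h2 : Finset.univ.sup (fun i => (-e i).toNat) ≤
        x.coeff.support.sup (fun e => Finset.univ.sup (fun i => (-e i).toNat)) :=
      Finset.le_sup (f := fun e => Finset.univ.sup (fun i => (-e i).toNat))
        (Finsupp.mem_support_iff.2 he)
    have h3 : -e i ≤ ((-e i).toNat : ℤ) := Int.self_le_toNat _
    have h4 : ((-e i).toNat : ℤ) ≤ (k : ℤ) := by
      have : (-e i).toNat ≤ k := by omega
      exact_mod_cast this
    omega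
  have hcard : 1 ≤ J.card := Finset.card_pos.2 hJ
  have hnonneg : (0 : ℤ) ≤ k * J.card + d := by
    have h1 : (d.natAbs : ℤ) ≤ k := by
      have : d.natAbs ≤ k := Nat.le_add_left _ _
      exact_mod_cast this
    have h2 : (k : ℤ) ≤ k * J.card := by
      have : k ≤ k * J.card := Nat.le_mul_of_pos_right _ hcard
      exact_mod_cast this
    have h3 : -(d.natAbs : ℤ) ≤ d := by
      rw [Int.natCast_natAbs]; exact neg_abs_le d
    omega
  obtain ⟨i, hi⟩ := Int.eq_ofNat_of_zero_le hnonneg
  set y : Lam σ R := x * u R J k with hy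
  have hysupp : (↑y.coeff.support : Set (σ →₀ ℤ)) ⊆ Set.range (castHom σ) := by
    intro e' he'
    have he'' : y.coeff e' ≠ 0 := Finsupp.mem_support_iff.1 he'
    rw [hy, coeff_mul_u] at he''
    rw [mem_range_castHom_iff]
    intro i₀
    have h1 := hk _ he'' i₀
    have h2 := (hx _ he'').2
    by_cases hi₀ : i₀ ∈ J
    · simp [ind_apply, hi₀] at h1
      omega
    · have h3 : ¬ (e' - (k : ℤ) • ind J) i₀ < 0 := fun h => hi₀ (h2 ((mem_negSet _ _).2 h))
      simp [ind_apply, hi₀] at h3
      exact h3
  let m : MvPolynomial σ R :=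
    AddMonoidAlgebra.ofCoeff (Finsupp.comapDomain (castHom σ) y.coeff castHom_injective.injOn)
  have hphi : phi R m = y := by
    apply AddMonoidAlgebra.ext
    exact Finsupp.mapDomain_comapDomain (castHom σ) castHom_injective y.coeff hysupp
  refine ⟨k, i, m, ?_, hi.symm, ?_⟩
  · intro μ hμ
    change Finsupp.weight (fun _ => 1) μ = i
    rw [← Finsupp.degree_eq_weight_one]
    have h1 : y.coeff (castHom σ μ) ≠ 0 := by
      rw [← hphi, phi_coeff_cast]; exact hμ
    rw [hy, coeff_mul_u] at h1
    have h2 := (hx _ h1).1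
    rw [map_sub, map_zsmul, degree_castHom, degree_ind] at h2
    have : (μ.degree : ℤ) = i := by
      rw [← hi]
      simp at h2
      omega
    exact_mod_cast this
  · rw [hphi, hy, mul_assoc, u_mul_u_neg, mul_one]


/-! ### sign-pattern projections -/

variable (R) in
/-- the projection onto the monomials with sign pattern `N`. -/
noncomputable def piN (N : Finset σ) : Lam σ R →+ Lam σ R :=
  (AddMonoidAlgebra.coeffAddEquiv.symm.toAddMonoidHom.comp
    (Finsupp.filterAddHom (fun e : σ →₀ ℤ => negSet e = N))).comp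
    AddMonoidAlgebra.coeffAddEquiv.toAddMonoidHom

lemma piN_coeff (N : Finset σ) (x : Lam σ R) (e : σ →₀ ℤ) :
    (piN R N x).coeff e = if negSet e = N then x.coeff e else 0 := by
  change (Finsupp.filter (fun e : σ →₀ ℤ => negSet e = N) x.coeff) e = _
  rw [Finsupp.filter_apply]

lemma sum_piN (x : Lam σ R) : ∑ N : Finset σ, piN R N x = x := by
  apply AddMonoidAlgebra.ext
  ext e
  rw [AddMonoidAlgebra.coeff_sum, Finsupp.finsetSum_apply]
  simp only [piN_coeff]
  rw [Finset.sum_ite_eq]
  simp

lemma piN_piN (N N' : Finset σ) (x : Lam σ R) :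
    piN R N (piN R N' x) = if N = N' then piN R N x else 0 := by
  apply AddMonoidAlgebra.ext
  ext e
  rw [piN_coeff, piN_coeff]
  by_cases h : N = N'
  · subst h
    rw [if_pos rfl, piN_coeff]
    split_ifs <;> rfl
  · rw [if_neg h]
    split_ifs with h1 h2
    · exact absurd (h1.symm.trans h2) h
    · rfl
    · rfl

lemma piN_mem_T {d : ℤ} {J : Finset σ} (N : Finset σ) {x : Lam σ R} (hx : x ∈ T R d J) :
    piN R N x ∈ T R d J := by
  intro e he
  rw [piN_coeff] at he
  split_ifs at he with h
  · exact hx e he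
  · exact absurd rfl he

lemma mem_T_iff_piN {d : ℤ} (J : Finset σ) {x : Lam σ R} (hx : x ∈ T R d Finset.univ) :
    x ∈ T R d J ↔ ∀ N : Finset σ, ¬ N ⊆ J → piN R N x = 0 := by
  constructor
  · intro h N hN
    apply AddMonoidAlgebra.ext
    ext e
    rw [piN_coeff]
    split_ifs with h1
    · by_contra hne
      exact hN (h1 ▸ (h e hne).2)
    · rfl
  · intro h e he
    refine ⟨(hx e he).1, ?_⟩
    by_contra hN
    have := congrArg (fun y : Lam σ R => y.coeff e) (h (negSet e) hN)
    simp only [piN_coeff] at this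
    exact he (by simpa using this)

end Groth.Agent.R2.H82.Laurent
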