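import Groth.Agent.Lib.Helper27PnSections
import Groth.Agent.R2.H82Laurent

/-!
# Sections of `O(d)` on `P^n_R` over the opens `D₊(x_J)` as Laurent polynomials (helper82)

For a finite set `J` of variables, `xJ J = ∏_{j ∈ J} X j`, `UJ J = D₊(xJ J)`.  A section `s` of `O(d)` over an
open `W = UJ J` (`J` nonempty) is a single fraction `m / xJ^k`; its Laurent expansion
`rho W J s = phi m * u J (-k)` is well defined, additive, injective, compatible with restriction, and its
range is `T d J` (Laurent polynomials of degree `d` with negative exponents only in `J`).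
-/

set_option autoImplicit false
set_option linter.unusedSectionVars false
set_option linter.unusedVariables false

universe u

open CategoryTheory CategoryTheory.Limits AlgebraicGeometry TopologicalSpace Opposite
  HomogeneousLocalization MvPolynomial
open Groth.Agent.Lib.Helper27GrTildeSect Groth.Agent.Lib.Helper27ProjGamma
  Groth.Agent.Lib.Helper27PnSections Groth.Agent.R2.H82.Laurent

namespace Groth.Agent.R2.H82.PnSections

variable (n : ℕ) (R : Type u) [CommRing R]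

local notation "𝒫" => CohB1.polyGrading n R

/-- the monomial `x_J`. -/
noncomputable def xJ (J : Finset (Fin (n + 1))) : MvPolynomial (Fin (n + 1)) R := ∏ j ∈ J, X j

lemma xJ_mem (J : Finset (Fin (n + 1))) : xJ n R J ∈ CohB1.polyGrading n R J.card := by
  have := IsHomogeneous.prod J (fun j => (X j : MvPolynomial (Fin (n + 1)) R)) (fun _ => 1)
    (fun j _ => isHomogeneous_X R j)
  simpa [xJ] using this

lemma xJ_pow_mem (J : Finset (Fin (n + 1))) (k : ℕ) :
    xJ n R J ^ k ∈ CohB1.polyGrading n R (k * J.card) := by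
  have := (show (xJ n R J).IsHomogeneous J.card from xJ_mem n R J).pow k
  rw [mul_comm]
  exact this

lemma xJ_isRegular (J : Finset (Fin (n + 1))) : IsRegular (xJ n R J) := by
  classical
  unfold xJ
  induction J using Finset.induction_on with
  | empty => simpa using isRegular_one
  | insert a s ha ih =>
    rw [Finset.prod_insert ha]
    exact isRegular_X.mul ih

lemma xJ_union {J J' : Finset (Fin (n + 1))} (h : J ⊆ J') :
    xJ n R J' = xJ n R J * xJ n R (J' \ J) := by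
  classical
  unfold xJ
  rw [← Finset.prod_union (Finset.disjoint_sdiff), Finset.union_sdiff_of_subset h]

/-- the open `D₊(x_J)`. -/
noncomputable def UJ (J : Finset (Fin (n + 1))) : (Proj 𝒫).Opens := Proj.basicOpen 𝒫 (xJ n R J)

lemma mem_UJ (J : Finset (Fin (n + 1))) (y : ProjectiveSpectrum 𝒫) :
    y ∈ UJ n R J ↔ xJ n R J ∉ y.asHomogeneousIdeal :=
  ProjectiveSpectrum.mem_basicOpen 𝒫 _ y

lemma UJ_mono {J J' : Finset (Fin (n + 1))} (h : J ⊆ J') : UJ n R J' ≤ UJ n R J := by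
  intro y hy
  refine (mem_UJ n R J y).2 (fun h' => (mem_UJ n R J' y).1 hy ?_)
  rw [xJ_union n R h]
  exact Ideal.mul_mem_right _ _ h'

lemma xJ_pow_notMem (J : Finset (Fin (n + 1))) (k : ℕ) (y : ProjectiveSpectrum 𝒫)
    (hy : xJ n R J ∉ y.asHomogeneousIdeal) : xJ n R J ^ k ∉ y.asHomogeneousIdeal :=
  fun h => hy (y.isPrime.mem_of_pow_mem k h)

variable (d : ℤ)

/-- `s = m / x_J^k` at all points of `W` where `x_J` does not vanish. -/
def Rep (W : (Proj 𝒫).Opens) (J : Finset (Fin (n + 1))) (s : Γ(GrTilde.tilde 𝒫 𝒫 d, W)) (k : ℕ)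
    (m : MvPolynomial (Fin (n + 1)) R) : Prop :=
  ∀ (y : ProjectiveSpectrum 𝒫) (hy : y ∈ W) (hJ : xJ n R J ∉ y.asHomogeneousIdeal),
    (secVal 𝒫 𝒫 d W s y hy : Twist.Loc 𝒫 y) =
      Localization.mk m (⟨xJ n R J ^ k, xJ_pow_notMem n R J k y hJ⟩ :
        y.asHomogeneousIdeal.toIdeal.primeCompl)

/-- every section over `D₊(x_J)` is a single fraction. -/
theorem exists_rep {J : Finset (Fin (n + 1))} (hJ : J.Nonempty) (W : (Proj 𝒫).Opens)
    (hW : W = UJ n R J) (s : Γ(GrTilde.tilde 𝒫 𝒫 d, W)) :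
    ∃ (k i : ℕ) (m : MvPolynomial (Fin (n + 1)) R), m ∈ CohB1.polyGrading n R i ∧
      (i : ℤ) = k * J.card + d ∧ Rep n R d W J s k m := by
  subst hW
  obtain ⟨K, i, ⟨m, hm⟩, hi, hval⟩ := exists_global (toSect 𝒫 𝒫 d _ s) (Finset.card_pos.2 hJ)
    (xJ_mem n R J)
  refine ⟨K, i, m, hm, hi, ?_⟩
  intro y hy hJy
  exact hval ⟨y, hy⟩


/-- two fraction representations of the same section agree. -/
theorem rep_unique {J : Finset (Fin (n + 1))} (hJ : J.Nonempty) (W : (Proj 𝒫).Opens)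
    (hW : W = UJ n R J) (s : Γ(GrTilde.tilde 𝒫 𝒫 d, W)) {k k' i i' : ℕ}
    {m m' : MvPolynomial (Fin (n + 1)) R}
    (hm : m ∈ CohB1.polyGrading n R i) (hi : (i : ℤ) = k * J.card + d)
    (hm' : m' ∈ CohB1.polyGrading n R i') (hi' : (i' : ℤ) = k' * J.card + d)
    (h : Rep n R d W J s k m) (h' : Rep n R d W J s k' m') :
    xJ n R J ^ k' * m = xJ n R J ^ k * m' := by
  subst hW
  have hdeg : k' * J.card + i = k * J.card + i' := by
    have : ((k' * J.card + i : ℕ) : ℤ) = ((k * J.card + i' : ℕ) : ℤ) := by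
      push_cast; linarith
    exact_mod_cast this
  have h1 : xJ n R J ^ k' * m ∈ CohB1.polyGrading n R (k' * J.card + i) :=
    (show (xJ n R J ^ k').IsHomogeneous (k' * J.card) from xJ_pow_mem n R J k').mul hm
  have h2 : xJ n R J ^ k * m' ∈ CohB1.polyGrading n R (k' * J.card + i) := by
    rw [hdeg]
    exact (show (xJ n R J ^ k).IsHomogeneous (k * J.card) from xJ_pow_mem n R J k).mul hm'
  have h0 := eq_zero_of_local n R (Finset.card_pos.2 hJ) (xJ_mem n R J) (xJ_isRegular n R J)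
    (Submodule.sub_mem _ h1 h2)
    (fun y hy => by
      have hyU : y ∈ UJ n R J := (mem_UJ n R J y).2 hy
      have h3 := (h y hyU hy).symm.trans (h' y hyU hy)
      rw [Localization.mk_eq_mk_iff, Localization.r_iff_exists] at h3
      obtain ⟨c, hc⟩ := h3
      refine ⟨c.1, c.2, ?_⟩
      simp only at hc
      rw [mul_sub, hc, sub_self])
  exact sub_eq_zero.mp h0

open Classical in
/-- the Laurent expansion of a section over `W = D₊(x_J)`. -/
noncomputable def rho (W : (Proj 𝒫).Opens) (J : Finset (Fin (n + 1)))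
    (s : Γ(GrTilde.tilde 𝒫 𝒫 d, W)) : Lam (Fin (n + 1)) R :=
  if h : ∃ (k i : ℕ) (m : MvPolynomial (Fin (n + 1)) R), m ∈ CohB1.polyGrading n R i ∧
      (i : ℤ) = k * J.card + d ∧ Rep n R d W J s k m
  then phi R h.choose_spec.choose_spec.choose * u R J (-(h.choose : ℤ)) else 0

lemma unit_cancel {A : Type*} [CommRing A] {a b uk uk₀ vk vk₀ : A} (h1 : a * uk = b * uk₀)
    (h2 : uk * vk = 1) (h3 : uk₀ * vk₀ = 1) : a * vk₀ = b * vk := by
  linear_combination (vk₀ * vk) * h1 - (a * vk₀) * h2 + (b * vk) * h3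

theorem rho_eq {J : Finset (Fin (n + 1))} (hJ : J.Nonempty) (W : (Proj 𝒫).Opens)
    (hW : W = UJ n R J) (s : Γ(GrTilde.tilde 𝒫 𝒫 d, W)) {k i : ℕ}
    {m : MvPolynomial (Fin (n + 1)) R}
    (hm : m ∈ CohB1.polyGrading n R i) (hi : (i : ℤ) = k * J.card + d)
    (h : Rep n R d W J s k m) : rho n R d W J s = phi R m * u R J (-(k : ℤ)) := by
  have hex : ∃ (k i : ℕ) (m : MvPolynomial (Fin (n + 1)) R), m ∈ CohB1.polyGrading n R i ∧
      (i : ℤ) = k * J.card + d ∧ Rep n R d W J s k m := ⟨k, i, m, hm, hi, h⟩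
  rw [rho, dif_pos hex]
  obtain ⟨hm₀, hi₀, h₀⟩ := hex.choose_spec.choose_spec.choose_spec
  have key := rep_unique n R d hJ W hW s hm₀ hi₀ hm hi h₀ h
  have key' := congrArg (phi R) key
  rw [map_mul, map_mul] at key'
  unfold xJ at key'
  rw [phi_prod_X_pow, phi_prod_X_pow] at key'
  refine unit_cancel (uk := u R J k) (uk₀ := u R J hex.choose) ?_ (u_mul_u_neg J _) (u_mul_u_neg J _)
  rw [mul_comm, key', mul_comm]


theorem rho_mem_T {J : Finset (Fin (n + 1))} (hJ : J.Nonempty) (W : (Proj 𝒫).Opens)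
    (hW : W = UJ n R J) (s : Γ(GrTilde.tilde 𝒫 𝒫 d, W)) : rho n R d W J s ∈ T R d J := by
  obtain ⟨k, i, m, hm, hi, h⟩ := exists_rep n R d hJ W hW s
  rw [rho_eq n R d hJ W hW s hm hi h]
  exact mem_T_of_rep hm hi

theorem rho_add {J : Finset (Fin (n + 1))} (hJ : J.Nonempty) (W : (Proj 𝒫).Opens)
    (hW : W = UJ n R J) (s s' : Γ(GrTilde.tilde 𝒫 𝒫 d, W)) :
    rho n R d W J (s + s') = rho n R d W J s + rho n R d W J s' := by
  obtain ⟨k, i, m, hm, hi, h⟩ := exists_rep n R d hJ W hW s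
  obtain ⟨k', i', m', hm', hi', h'⟩ := exists_rep n R d hJ W hW s'
  have hdeg : k' * J.card + i = k * J.card + i' := by
    have : ((k' * J.card + i : ℕ) : ℤ) = ((k * J.card + i' : ℕ) : ℤ) := by
      push_cast; linarith
    exact_mod_cast this
  have h1 : xJ n R J ^ k' * m ∈ CohB1.polyGrading n R (k' * J.card + i) :=
    (show (xJ n R J ^ k').IsHomogeneous (k' * J.card) from xJ_pow_mem n R J k').mul hm
  have h2 : xJ n R J ^ k * m' ∈ CohB1.polyGrading n R (k' * J.card + i) := by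
    rw [hdeg]
    exact (show (xJ n R J ^ k).IsHomogeneous (k * J.card) from xJ_pow_mem n R J k).mul hm'
  have hi'' : ((k' * J.card + i : ℕ) : ℤ) = ((k + k' : ℕ) : ℤ) * J.card + d := by
    push_cast; linarith
  have hrep : Rep n R d W J (s + s') (k + k') (xJ n R J ^ k' * m + xJ n R J ^ k * m') := by
    intro y hy hJy
    rw [secVal_add]
    change (secVal 𝒫 𝒫 d W s y hy : Twist.Loc 𝒫 y) + (secVal 𝒫 𝒫 d W s' y hy : Twist.Loc 𝒫 y) = _
    rw [h y hy hJy, h' y hy hJy, Localization.add_mk, Localization.mk_eq_mk_iff,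
      Localization.r_iff_exists]
    refine ⟨1, ?_⟩
    simp only [OneMemClass.coe_one, one_mul, Submonoid.coe_mul]
    ring
  rw [rho_eq n R d hJ W hW (s + s') (Submodule.add_mem _ h1 h2) hi'' hrep,
    rho_eq n R d hJ W hW s hm hi h, rho_eq n R d hJ W hW s' hm' hi' h']
  rw [map_add, map_mul, map_mul]
  unfold xJ
  rw [phi_prod_X_pow, phi_prod_X_pow]
  have e : u R J (-((k + k' : ℕ) : ℤ)) = u R J (-(k : ℤ)) * u R J (-(k' : ℤ)) := by
    rw [← u_add]; congr 1; push_cast; ring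
  rw [e]
  have e1 := u_mul_u_neg (R := R) J (k : ℤ)
  have e2 := u_mul_u_neg (R := R) J (k' : ℤ)
  linear_combination (phi R m * u R J (-(k : ℤ))) * e2 + (phi R m' * u R J (-(k' : ℤ))) * e1

theorem rho_eq_zero {J : Finset (Fin (n + 1))} (hJ : J.Nonempty) (W : (Proj 𝒫).Opens)
    (hW : W = UJ n R J) (s : Γ(GrTilde.tilde 𝒫 𝒫 d, W)) (h0 : rho n R d W J s = 0) : s = 0 := by
  obtain ⟨k, i, m, hm, hi, h⟩ := exists_rep n R d hJ W hW s
  rw [rho_eq n R d hJ W hW s hm hi h] at h0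
  have h1 : phi R m = 0 := by
    have := congrArg (· * u R J (k : ℤ)) h0
    simp only [zero_mul] at this
    rw [mul_assoc, mul_comm (u R J (-(k : ℤ))), u_mul_u_neg, mul_one] at this
    exact this
  have hm0 : m = 0 := phi_injective (by rw [h1, map_zero])
  apply sec_ext
  intro y hy
  have hJy : xJ n R J ∉ y.asHomogeneousIdeal := (mem_UJ n R J y).1 (hW ▸ hy)
  rw [secVal_zero]
  change (secVal 𝒫 𝒫 d W s y hy : Twist.Loc 𝒫 y) = 0
  rw [h y hy hJy, hm0, Localization.mk_zero]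

theorem exists_rho_eq {J : Finset (Fin (n + 1))} (hJ : J.Nonempty) (W : (Proj 𝒫).Opens)
    (hW : W = UJ n R J) (x : Lam (Fin (n + 1)) R) (hx : x ∈ T R d J) :
    ∃ s : Γ(GrTilde.tilde 𝒫 𝒫 d, W), rho n R d W J s = x := by
  obtain ⟨k, i, m, hm, hi, rfl⟩ := exists_rep_of_mem_T hJ hx
  have hij : (i : ℤ) = ((k * J.card : ℕ) : ℤ) + d := by push_cast; exact hi
  have hWy : ∀ y : W, xJ n R J ^ k ∉ y.1.asHomogeneousIdeal := fun y =>
    xJ_pow_notMem n R J k y.1 ((mem_UJ n R J y.1).1 (hW ▸ y.2))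
  refine ⟨fracSec 𝒫 d W hm (xJ_pow_mem n R J k) hij hWy, ?_⟩
  refine rho_eq n R d hJ W hW _ hm hi ?_
  intro y hy hJy
  rfl

theorem rho_res {J J' : Finset (Fin (n + 1))} (hJ : J.Nonempty) (hJJ' : J ⊆ J')
    (W V : (Proj 𝒫).Opens) (hW : W = UJ n R J) (hV : V = UJ n R J') (hVW : V ≤ W)
    (s : Γ(GrTilde.tilde 𝒫 𝒫 d, W)) :
    rho n R d V J' ((GrTilde.tilde 𝒫 𝒫 d).presheaf.map (homOfLE hVW).op s) = rho n R d W J s := by
  have hJ' : J'.Nonempty := hJ.mono hJJ'
  obtain ⟨k, i, m, hm, hi, h⟩ := exists_rep n R d hJ W hW s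
  have hcard : J'.card = J.card + (J' \ J).card := by
    rw [Finset.card_sdiff_of_subset hJJ']
    have := Finset.card_le_card hJJ'
    omega
  have hm2 : m * xJ n R (J' \ J) ^ k ∈ CohB1.polyGrading n R (i + k * (J' \ J).card) :=
    (show m.IsHomogeneous i from hm).mul (xJ_pow_mem n R (J' \ J) k)
  have hi2 : ((i + k * (J' \ J).card : ℕ) : ℤ) = k * J'.card + d := by
    rw [hcard]; push_cast; linarith
  have hrep : Rep n R d V J' ((GrTilde.tilde 𝒫 𝒫 d).presheaf.map (homOfLE hVW).op s) k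
      (m * xJ n R (J' \ J) ^ k) := by
    intro y hy hJy
    rw [secVal_map]
    have hJy' : xJ n R J ∉ y.asHomogeneousIdeal := (mem_UJ n R J y).1 (hW ▸ hVW hy)
    rw [h y (hVW hy) hJy', Localization.mk_eq_mk_iff, Localization.r_iff_exists]
    refine ⟨1, ?_⟩
    simp only [OneMemClass.coe_one, one_mul]
    rw [xJ_union n R hJJ']
    ring
  rw [rho_eq n R d hJ' V hV _ hm2 hi2 hrep, rho_eq n R d hJ W hW s hm hi h, map_mul]
  unfold xJ
  rw [phi_prod_X_pow]
  have e : u R J' (-(k : ℤ)) = u R J (-(k : ℤ)) * u R (J' \ J) (-(k : ℤ)) := by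
    rw [u, u, u, AddMonoidAlgebra.single_mul_single, mul_one, ← smul_add]
    congr 2
    ext i₀
    simp only [Finsupp.add_apply, ind_apply, Finset.mem_sdiff]
    by_cases h1 : i₀ ∈ J
    · simp [h1, hJJ' h1]
    · by_cases h2 : i₀ ∈ J' <;> simp [h1, h2]
  rw [e]
  have e1 := u_mul_u_neg (R := R) (J' \ J) (k : ℤ)
  linear_combination (phi R m * u R J (-(k : ℤ))) * e1

end Groth.Agent.R2.H82.PnSections
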