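import Groth.Agent.R2.H82CechModel
import Groth.Agent.R2.H82PnSections

/-!
# The Cech complex of `O(d)` on `P^n_R` for the standard cover (helper82)

The sign-pattern decomposition (`H82CechModel.SignDecomp`) for the presheaf `O(d)` and the standard cover
`D₊(X_i)`, with receptacle the degree-`d` Laurent polynomials.
-/

set_option autoImplicit false
set_option linter.unusedSectionVars false
set_option linter.unusedVariables false

universe u

open CategoryTheory CategoryTheory.Limits AlgebraicGeometry TopologicalSpace Opposite MvPolynomial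
open Groth.Agent.Lib.Helper16.CechLow Groth.Agent.R2.H82.CechComb Groth.Agent.R2.H82.CechModel
  Groth.Agent.R2.H82.Laurent Groth.Agent.R2.H82.PnSections
  Groth.Agent.Lib.Helper27GrTildeSect

namespace Groth.Agent.R2.H82.PnCech

variable (n : ℕ) (R : Type u) [CommRing R] (d : ℤ)

local notation "𝒫" => CohB1.polyGrading n R

/-- the standard cover of `P^n_R`, indexed in the universe `u`. -/
noncomputable def cov : ULift.{u} (Fin (n + 1)) → (Proj 𝒫).Opens :=
  fun i => Proj.basicOpen 𝒫 (X i.down)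

/-- the set of variables occurring in a tuple. -/
def Jof {p : ℕ} (a : Fin (p + 1) → ULift.{u} (Fin (n + 1))) : Finset (Fin (n + 1)) :=
  (im a).map Equiv.ulift.toEmbedding

lemma mem_Jof {p : ℕ} (a : Fin (p + 1) → ULift.{u} (Fin (n + 1))) (j : Fin (n + 1)) :
    j ∈ Jof n a ↔ ∃ k, (a k).down = j := by
  simp only [Jof, Finset.mem_map, mem_im, Equiv.coe_toEmbedding, Equiv.ulift_apply]
  constructor
  · rintro ⟨_, ⟨k, rfl⟩, rfl⟩
    exact ⟨k, rfl⟩
  · rintro ⟨k, rfl⟩
    exact ⟨a k, ⟨k, rfl⟩, rfl⟩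

lemma Jof_nonempty {p : ℕ} (a : Fin (p + 1) → ULift.{u} (Fin (n + 1))) : (Jof n a).Nonempty :=
  ⟨(a 0).down, (mem_Jof n a _).2 ⟨0, rfl⟩⟩

lemma Jof_comp_subset {p q : ℕ} (a : Fin (p + 1) → ULift.{u} (Fin (n + 1))) (f : Fin (q + 1) → Fin (p + 1)) :
    Jof n (a ∘ f) ⊆ Jof n a := by
  intro j hj
  obtain ⟨k, rfl⟩ := (mem_Jof n _ j).1 hj
  exact (mem_Jof n a _).2 ⟨f k, rfl⟩

lemma mem_UJ_iff (J : Finset (Fin (n + 1))) (y : ProjectiveSpectrum 𝒫) :
    y ∈ UJ n R J ↔ ∀ j ∈ J, (X j : MvPolynomial (Fin (n + 1)) R) ∉ y.asHomogeneousIdeal := by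
  rw [mem_UJ]
  unfold xJ
  have hp : y.asHomogeneousIdeal.toIdeal.IsPrime := y.isPrime
  constructor
  · intro h j hj hX
    exact h ((Ideal.IsPrime.prod_mem_iff (hp := hp)).2 ⟨j, hj, hX⟩)
  · intro h hprod
    obtain ⟨j, hj, hX⟩ := (Ideal.IsPrime.prod_mem_iff (hp := hp)).1 hprod
    exact h j hj hX

lemma Ux_eq {p : ℕ} (a : Fin (p + 1) → ULift.{u} (Fin (n + 1))) :
    Ux (cov n R) a = UJ n R (Jof n a) := by
  apply le_antisymm
  · intro y hy
    refine (mem_UJ_iff n R _ y).2 (fun j hj => ?_)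
    obtain ⟨k, rfl⟩ := (mem_Jof n a j).1 hj
    have h1 : Ux (cov n R) a ≤ cov n R (a k) := (Pi.π (cov n R ∘ a) k).le
    exact (ProjectiveSpectrum.mem_basicOpen 𝒫 _ y).1 (h1 hy)
  · have h : ∀ k, UJ n R (Jof n a) ≤ cov n R (a k) := by
      intro k y hy
      exact (ProjectiveSpectrum.mem_basicOpen 𝒫 _ y).2
        ((mem_UJ_iff n R _ y).1 hy _ ((mem_Jof n a _).2 ⟨k, rfl⟩))
    exact (Pi.lift (fun k => homOfLE (h k)) : UJ n R (Jof n a) ⟶ ∏ᶜ (cov n R ∘ a)).le


/-- the presheaf of abelian groups underlying `O(d)`. -/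
noncomputable abbrev PP : (Opens (Proj 𝒫))ᵒᵖ ⥤ AddCommGrpCat.{u} := (GrTilde.tilde 𝒫 𝒫 d).presheaf

/-- the receptacle: Laurent polynomials of degree `d`. -/
abbrev GG : Type u := ↥(T R d (Finset.univ : Finset (Fin (n + 1))))

/-- the Laurent expansion maps. -/
noncomputable def rhoHom {p : ℕ} (a : Fin (p + 1) → ULift.{u} (Fin (n + 1))) :
    (PP n R d).obj (op (Ux (cov n R) a)) →+ GG n R d where
  toFun s := ⟨rho n R d (Ux (cov n R) a) (Jof n a) s,
    T_mono d (Finset.subset_univ _) (rho_mem_T n R d (Jof_nonempty n a) _ (Ux_eq n R a) s)⟩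
  map_zero' := by
    apply Subtype.ext
    have h := rho_add n R d (Jof_nonempty n a) _ (Ux_eq n R a) 0 0
    rw [add_zero] at h
    exact left_eq_add.mp h
  map_add' s s' := by
    apply Subtype.ext
    exact rho_add n R d (Jof_nonempty n a) _ (Ux_eq n R a) s s'

lemma rhoHom_coe {p : ℕ} (a : Fin (p + 1) → ULift.{u} (Fin (n + 1)))
    (s : (PP n R d).obj (op (Ux (cov n R) a))) :
    ((rhoHom n R d a s : GG n R d) : Lam (Fin (n + 1)) R) =
      rho n R d (Ux (cov n R) a) (Jof n a) s := rfl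

lemma rhoHom_face {p : ℕ} (a : Fin (p + 2) → ULift.{u} (Fin (n + 1))) (i : Fin (p + 2))
    (s : (PP n R d).obj (op (Ux (cov n R) (a ∘ i.succAbove)))) :
    rhoHom n R d a ((PP n R d).map (face (cov n R) a i).op s) = rhoHom n R d (a ∘ i.succAbove) s := by
  apply Subtype.ext
  rw [rhoHom_coe, rhoHom_coe]
  have hle : Ux (cov n R) a ≤ Ux (cov n R) (a ∘ i.succAbove) := (face (cov n R) a i).le
  have e : face (cov n R) a i = homOfLE hle := Subsingleton.elim _ _
  rw [e]
  exact rho_res n R d (Jof_nonempty n _) (Jof_comp_subset n a _) _ _ (Ux_eq n R _) (Ux_eq n R a) hle s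

lemma rhoHom_injective {p : ℕ} (a : Fin (p + 1) → ULift.{u} (Fin (n + 1))) :
    Function.Injective (rhoHom n R d a) := by
  rw [injective_iff_map_eq_zero]
  intro s hs
  exact rho_eq_zero n R d (Jof_nonempty n a) _ (Ux_eq n R a) s (congrArg Subtype.val hs)

/-- the sign-pattern projections on the receptacle. -/
noncomputable def piHom (N : Finset (ULift.{u} (Fin (n + 1)))) : GG n R d →+ GG n R d where
  toFun x := ⟨piN R (N.map Equiv.ulift.toEmbedding) x.1, piN_mem_T _ x.2⟩
  map_zero' := by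
    apply Subtype.ext
    exact map_zero _
  map_add' x y := by
    apply Subtype.ext
    exact map_add _ _ _

lemma piHom_coe (N : Finset (ULift.{u} (Fin (n + 1)))) (x : GG n R d) :
    ((piHom n R d N x : GG n R d) : Lam (Fin (n + 1)) R) =
      piN R (N.map Equiv.ulift.toEmbedding) x.1 := rfl

lemma map_subset_Jof_iff {p : ℕ} (a : Fin (p + 1) → ULift.{u} (Fin (n + 1)))
    (N : Finset (ULift.{u} (Fin (n + 1)))) :
    N.map Equiv.ulift.toEmbedding ⊆ Jof n a ↔ N ⊆ im a := by
  rw [Jof, Finset.map_subset_map]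

/-- the sign-pattern decomposition of the Cech complex of `O(d)` for the standard cover. -/
noncomputable def signDecomp : SignDecomp (cov n R) (PP n R d) (GG n R d) where
  ρ p a := rhoHom n R d a
  ρ_face p a i s := rhoHom_face n R d a i s
  π N := piHom n R d N
  sum_π g := by
    apply Subtype.ext
    rw [AddSubgroup.val_finsetSum]
    simp only [piHom_coe]
    refine Eq.trans ?_ (sum_piN (R := R) g.1)
    exact Fintype.sum_equiv (Equiv.finsetCongr Equiv.ulift) _ _ (fun N => rfl)
  π_π N N' g := by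
    apply Subtype.ext
    rw [piHom_coe, piHom_coe, piN_piN]
    by_cases h : N = N'
    · subst h
      rw [if_pos rfl, if_pos rfl]
      rfl
    · rw [if_neg h, if_neg]
      · rfl
      · exact fun h' => h (Finset.map_injective _ h')
  inj p a := rhoHom_injective n R d a
  range_iff p a g := by
    constructor
    · rintro ⟨s, rfl⟩ N hN
      apply Subtype.ext
      rw [piHom_coe]
      have h1 : rho n R d (Ux (cov n R) a) (Jof n a) s ∈ T R d (Jof n a) :=
        rho_mem_T n R d (Jof_nonempty n a) _ (Ux_eq n R a) s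
      exact (mem_T_iff_piN (Jof n a) (rhoHom n R d a s).2).1 h1 _
        (fun h => hN ((map_subset_Jof_iff n a N).1 h))
    · intro h
      have h1 : g.1 ∈ T R d (Jof n a) := by
        rw [mem_T_iff_piN (Jof n a) g.2]
        intro N' hN'
        have h2 := h ((Equiv.finsetCongr Equiv.ulift).symm N') (by
          intro h3
          apply hN'
          have := (map_subset_Jof_iff n a _).2 h3
          rwa [← Equiv.finsetCongr_apply, Equiv.apply_symm_apply] at this)
        have h4 := congrArg Subtype.val h2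
        rw [piHom_coe, ← Equiv.finsetCongr_apply, Equiv.apply_symm_apply] at h4
        exact h4
      obtain ⟨s, hs⟩ := exists_rho_eq n R d (Jof_nonempty n a) _ (Ux_eq n R a) g.1 h1
      exact ⟨s, Subtype.ext hs⟩

end Groth.Agent.R2.H82.PnCech
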