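import Groth.Agent.S0013
import Groth.Agent.R2.H82PnCech

/-!
# Cohomology of `O(d)` on `P^n_R` (helper82)

Cech cohomology of `O(d)` for the standard cover, and (via S0013) sheaf cohomology:
`subsingleton_HH` : `H^q(P^n_R, O(d)) = 0` unless (`q = 0` and `0 ≤ d`) or (`q = n` and `d ≤ -n-1`).
-/

set_option autoImplicit false
set_option linter.unusedSectionVars false
set_option linter.unusedVariables false

universe u

open CategoryTheory CategoryTheory.Limits AlgebraicGeometry TopologicalSpace Opposite MvPolynomial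
open Groth.Agent.Lib.Helper16.CechLow Groth.Agent.R2.H82.CechComb Groth.Agent.R2.H82.CechModel
  Groth.Agent.R2.H82.Laurent Groth.Agent.R2.H82.PnSections Groth.Agent.R2.H82.PnCech
  Groth.Agent.Lib.Helper27GrTildeSect

namespace Groth.Agent.R2.H82.PnCoh

variable (n : ℕ) (R : Type u) [CommRing R] (d : ℤ)

local notation "𝒫" => CohB1.polyGrading n R

lemma card_idx : Fintype.card (ULift.{u} (Fin (n + 1))) = n + 1 := by simp

/-- the Cech complex of `O(d)` for the standard cover. -/
noncomputable abbrev KK : CochainComplex AddCommGrpCat.{u} ℕ := CK (cov n R) (PP n R d)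

theorem isZero_cech_succ (q : ℕ) (hq : q + 1 ≠ n) : IsZero ((KK n R d).homology (q + 1)) :=
  (signDecomp n R d).isZero_homology_succ (by rw [card_idx]; omega)

lemma degree_nonneg_of_negSet_eq_empty (e : Fin (n + 1) →₀ ℤ) (h : negSet e = ∅) : 0 ≤ e.degree := by
  rw [Finsupp.degree_eq_sum]
  refine Finset.sum_nonneg (fun i _ => ?_)
  by_contra hi
  have : i ∈ negSet e := (mem_negSet e i).2 (not_le.1 hi)
  rw [h] at this
  exact absurd this (Finset.notMem_empty i)

lemma degree_le_of_negSet_eq_univ (e : Fin (n + 1) →₀ ℤ) (h : negSet e = Finset.univ) :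
    e.degree ≤ -((n : ℤ) + 1) := by
  rw [Finsupp.degree_eq_sum]
  have h1 : ∀ i, e i ≤ -1 := by
    intro i
    have : i ∈ negSet e := h ▸ Finset.mem_univ i
    have := (mem_negSet e i).1 this
    omega
  calc ∑ i, e i ≤ ∑ _i : Fin (n + 1), (-1 : ℤ) := Finset.sum_le_sum (fun i _ => h1 i)
    _ = -((n : ℤ) + 1) := by simp

lemma piHom_empty_eq_zero (hd : d < 0) (g : GG n R d) : piHom n R d ∅ g = 0 := by
  apply Subtype.ext
  rw [piHom_coe, Finset.map_empty]
  apply AddMonoidAlgebra.ext
  ext e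
  rw [piN_coeff]
  split_ifs with h
  · by_contra hne
    have h1 := (g.2 e hne).1
    have h2 := degree_nonneg_of_negSet_eq_empty n e h
    omega
  · rfl

lemma piHom_univ_eq_zero (hd : -((n : ℤ) + 1) < d) (g : GG n R d) :
    piHom n R d Finset.univ g = 0 := by
  apply Subtype.ext
  rw [piHom_coe]
  have hu : (Finset.univ : Finset (ULift.{u} (Fin (n + 1)))).map Equiv.ulift.toEmbedding =
      Finset.univ := by
    ext j
    simp only [Finset.mem_map, Finset.mem_univ, true_and, iff_true]
    exact ⟨⟨j⟩, rfl⟩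
  rw [hu]
  apply AddMonoidAlgebra.ext
  ext e
  rw [piN_coeff]
  split_ifs with h
  · by_contra hne
    have h1 := (g.2 e hne).1
    have h2 := degree_le_of_negSet_eq_univ n e h
    omega
  · rfl

theorem isZero_cech_zero (hn : n ≠ 0) (hd : d < 0) : IsZero ((KK n R d).homology 0) :=
  (signDecomp n R d).isZero_homology_zero (by rw [card_idx]; omega)
    (fun g => piHom_empty_eq_zero n R d hd g)

theorem isZero_cech_top (hn : n ≠ 0) (hd : -((n : ℤ) + 1) < d) :
    IsZero ((KK n R d).homology n) := by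
  obtain ⟨e, -⟩ := (signDecomp n R d).exists_top_addEquiv (card_idx n) (fun k => ULift.up k)
    ⟨ULift.up_injective, ULift.up_surjective⟩ (fun h => absurd h hn)
  have hsub : Subsingleton ((signDecomp n R d).π Finset.univ).range := by
    refine ⟨fun x y => ?_⟩
    obtain ⟨_, ⟨gx, rfl⟩⟩ := x
    obtain ⟨_, ⟨gy, rfl⟩⟩ := y
    apply Subtype.ext
    change piHom n R d Finset.univ gx = piHom n R d Finset.univ gy
    rw [piHom_univ_eq_zero n R d hd, piHom_univ_eq_zero n R d hd]
  have : Subsingleton ((KK n R d).homology n) := e.toEquiv.subsingleton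
  exact AddCommGrpCat.isZero_of_subsingleton _


/-! ### comparison with sheaf cohomology -/

lemma iSup_cov : ⨆ i, cov n R i = ⊤ := by
  rw [eq_top_iff]
  intro y _
  obtain ⟨i, hi⟩ := Groth.Agent.Lib.Helper27PnSections.exists_X_not_mem n R y
  exact Opens.mem_iSup.mpr ⟨⟨i⟩, (ProjectiveSpectrum.mem_basicOpen 𝒫 (X i) y).mpr hi⟩

lemma iInf_cov_eq (s : Finset (ULift.{u} (Fin (n + 1)))) :
    ⨅ i ∈ s, cov n R i = UJ n R (s.map Equiv.ulift.toEmbedding) := by
  apply le_antisymm
  · intro y hy
    refine (mem_UJ_iff n R _ y).2 (fun j hj => ?_)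
    obtain ⟨i, hi, rfl⟩ := Finset.mem_map.1 hj
    have h1 : ⨅ i ∈ s, cov n R i ≤ cov n R i := iInf₂_le i hi
    exact (ProjectiveSpectrum.mem_basicOpen 𝒫 _ y).1 (h1 hy)
  · refine le_iInf₂ (fun i hi y hy => ?_)
    exact (ProjectiveSpectrum.mem_basicOpen 𝒫 _ y).2
      ((mem_UJ_iff n R _ y).1 hy _ (Finset.mem_map.2 ⟨i, hi, rfl⟩))

lemma isAffineOpen_iInf_cov (s : Finset (ULift.{u} (Fin (n + 1)))) (hs : s.Nonempty) :
    IsAffineOpen (⨅ i ∈ s, cov n R i) := by
  rw [iInf_cov_eq]
  exact Proj.isAffineOpen_basicOpen 𝒫 (xJ n R _) (xJ_mem n R _)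
    (Finset.card_pos.2 (by simpa using hs))

/-- Cech cohomology of the standard cover computes the cohomology of `O(d)`. -/
theorem nonempty_cech_equiv_HH (q : ℕ) :
    Nonempty (↑((KK n R d).homology q) ≃+
      Coh.HH (CohB1.ProjSpace n R) (Twist.twistProjSpace n R d) q) := by
  have : Coh.IsQCoh (Twist.twistProjSpace n R d) := isQuasicoherent_tilde 𝒫 𝒫 d
  exact Groth.Agent.S0013.result (CohB1.ProjSpace n R) (cov n R) (iSup_cov n R)
    (isAffineOpen_iInf_cov n R) (Twist.twistProjSpace n R d) q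

/-- `H^q(P^n_R, O(d)) = 0` unless (`q = 0` and `0 ≤ d`) or (`q = n` and `d ≤ -n-1`). -/
theorem subsingleton_HH (q : ℕ) (h₀ : ¬ (q = 0 ∧ 0 ≤ d)) (hn : ¬ (q = n ∧ d ≤ -((n : ℤ) + 1))) :
    Subsingleton (Coh.HH (CohB1.ProjSpace n R) (Twist.twistProjSpace n R d) q) := by
  obtain ⟨e⟩ := nonempty_cech_equiv_HH n R d q
  have hz : IsZero ((KK n R d).homology q) := by
    cases q with
    | zero =>
      have hd : d < 0 := by
        by_contra h
        exact h₀ ⟨rfl, not_lt.1 h⟩
      have hn0 : n ≠ 0 := by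
        rintro rfl
        exact hn ⟨rfl, by simp; omega⟩
      exact isZero_cech_zero n R d hn0 hd
    | succ q' =>
      by_cases hq : q' + 1 = n
      · have hd : -((n : ℤ) + 1) < d := by
          by_contra h
          exact hn ⟨hq, not_lt.1 h⟩
        rw [hq]
        exact isZero_cech_top n R d (by omega) hd
      · exact isZero_cech_succ n R d q' hq
  have : Subsingleton ((KK n R d).homology q) := AddCommGrpCat.subsingleton_of_isZero hz
  exact e.symm.toEquiv.subsingleton

end Groth.Agent.R2.H82.PnCoh
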