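import Groth.Agent.R2.H54RelSerreA
import Groth.Agent.R2.H62RelSerreSpec
import Groth.Agent.R2.H58SerreVanPn
import Groth.Agent.S0844

/-!
# STEP A of relative Serre vanishing, unconditional form (helper54)
-/

set_option autoImplicit false
universe u

open CategoryTheory CategoryTheory.Limits AlgebraicGeometry

namespace Groth.Agent.R2.H54.RelSerreA

/-- **STEP A of relSerre** in helper62's interface shape. -/
theorem stepA : Groth.Agent.R2.H62.RelSerreSpec.StepA := by
  intro n B _ _ Y i _
  exact stepA_of n B i (fun F hF p hp =>
    Groth.Agent.R2.H58.SerreVanPn.projSpace_serre_vanishing_of n B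
      (fun d hd q hq => Groth.Agent.S0844.result B n d q (by omega) (by omega)) F hF p hp)

end Groth.Agent.R2.H54.RelSerreA
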