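import Mathlib
import Groth.Agent.Lib.Helper23Extend2
import Groth.Agent.Lib.Helper23Support
import Groth.Agent.Lib.Helper2QcPush

/-!
# Devissage of coherent modules, part A: vanishing opens (helper12)

* `VanOn K W`: all sections of `K` over opens inside `W` vanish; `vanOpen K` is the largest such open.
-/

set_option autoImplicit false
universe u
open CategoryTheory Limits AlgebraicGeometry TopologicalSpace Opposite

namespace Groth.Agent.R2.H12.Dev

open Groth.Agent.Lib.Helper23.QCohLocal Groth.Agent.Lib.Helper2.Push Groth.Agent.Lib.Helper2.QCoh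
  Groth.Agent.Lib.Helper23.FinType Groth.Agent.Lib.Helper23.ModLocal Groth.Agent.Lib.Helper23.Extend

variable {X : Scheme.{u}}

/-- all sections of `K` over opens inside `W` vanish -/
def VanOn (K : X.Modules) (W : X.Opens) : Prop :=
  ∀ W' : X.Opens, W' ≤ W → ∀ s : Γ(K, W'), s = 0

theorem VanOn.mono {K : X.Modules} {W W₁ : X.Opens} (h : VanOn K W) (hle : W₁ ≤ W) : VanOn K W₁ :=
  fun W' hW' s => h W' (hW'.trans hle) s

theorem vanOn_sSup (K : X.Modules) (S : Set X.Opens) (h : ∀ W ∈ S, VanOn K W) : VanOn K (sSup S) := by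
  intro W' hW' s
  refine Groth.Agent.Lib.Helper2.QcPush.section_eq_zero_of_cover K W' s fun x hx => ?_
  have hx' : x ∈ sSup S := hW' hx
  rw [Opens.mem_sSup] at hx'
  obtain ⟨W, hWS, hxW⟩ := hx'
  exact ⟨W' ⊓ W, inf_le_left, ⟨hx, hxW⟩, h W hWS _ inf_le_right _⟩

/-- the largest open on which `K` vanishes -/
def vanOpen (K : X.Modules) : X.Opens := sSup {W | VanOn K W}

theorem vanOn_vanOpen (K : X.Modules) : VanOn K (vanOpen K) := vanOn_sSup K _ fun _ h => h

theorem le_vanOpen {K : X.Modules} {W : X.Opens} (h : VanOn K W) : W ≤ vanOpen K := le_sSup h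

theorem isZero_of_vanOn_top {K : X.Modules} (h : VanOn K ⊤) : IsZero K :=
  isZero_of_forall_eq_zero fun U s => h U le_top s

theorem vanOn_of_isZero {K : X.Modules} (h : IsZero K) (W : X.Opens) : VanOn K W :=
  fun W' _ s => eq_zero_of_isZero h W' s

theorem VanOn.of_mono {N K : X.Modules} (i : N ⟶ K) [Mono i] {W : X.Opens} (h : VanOn K W) : VanOn N W := by
  intro W' hW' s
  apply injective_app_of_mono i W'
  rw [map_zero]
  exact h W' hW' _

theorem VanOn.sup {K : X.Modules} {U V : X.Opens} (hU : VanOn K U) (hV : VanOn K V) : VanOn K (U ⊔ V) := by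
  have := vanOn_sSup K {U, V} (by
    rintro W (rfl | rfl)
    · exact hU
    · exact hV)
  rwa [sSup_pair] at this

end Groth.Agent.R2.H12.Dev
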