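import Mathlib
import Groth.Agent.R2.H12DevA
import Groth.Agent.S0046

/-!
# Devissage of coherent modules, part B: choice of a coherent submodule with maximal vanishing open (helper12)
-/

set_option autoImplicit false
universe u
open CategoryTheory Limits AlgebraicGeometry TopologicalSpace Opposite

namespace Groth.Agent.R2.H12.Dev

open Groth.Agent.Lib.Helper23.QCohLocal Groth.Agent.Lib.Helper2.Push Groth.Agent.Lib.Helper2.QCoh
  Groth.Agent.Lib.Helper23.FinType Groth.Agent.Lib.Helper23.ModLocal Groth.Agent.Lib.Helper23.Extend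

variable {X : Scheme.{u}}

/-- a nonzero module has a nonzero section over some affine open -/
theorem exists_affine_section_ne_zero {K : X.Modules} (hK : ¬ IsZero K) :
    ∃ U : X.Opens, IsAffineOpen U ∧ ∃ s : Γ(K, U), s ≠ 0 := by
  by_contra hcon
  apply hK
  apply isZero_of_vanOn_top
  intro W _ s
  refine Groth.Agent.Lib.Helper2.QcPush.section_eq_zero_of_cover K W s fun x hx => ?_
  obtain ⟨U, hU, hxU, hUW⟩ := (Opens.isBasis_iff_nbhd.mp X.isBasis_affineOpens) hx
  refine ⟨U, hUW, hxU, ?_⟩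
  by_contra hne
  exact hcon ⟨U, hU, _, hne⟩

theorem exists_maximal_vanOpen [IsNoetherian X] {M : X.Modules} (hM : Coh.IsCoh M) (hM0 : ¬ IsZero M) :
    ∃ (K : X.Modules) (k : K ⟶ M), Mono k ∧ Coh.IsCoh K ∧ ¬ IsZero K ∧
      ∀ (N : X.Modules) (n : N ⟶ K), Mono n → Coh.IsQCoh N → ¬ IsZero N → vanOpen N = vanOpen K := by
  let T : Set X.Opens := {W | ∃ (K : X.Modules) (k : K ⟶ M), Mono k ∧ Coh.IsCoh K ∧ ¬ IsZero K ∧
    W = vanOpen K}
  have hT : T.Nonempty := ⟨vanOpen M, M, 𝟙 M, inferInstance, hM, hM0, rfl⟩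
  have hwf : WellFoundedGT X.Opens := inferInstanceAs (NoetherianSpace X)
  obtain ⟨W₀, ⟨K, k, hk, hKc, hK0, rfl⟩, hmax⟩ := hwf.wf.has_min T hT
  refine ⟨K, k, hk, hKc, hK0, fun N n hn hNq hN0 => ?_⟩
  have hNc : Coh.IsCoh N := Groth.Agent.S0046.result X K N n hKc hNq
  have hle : vanOpen K ≤ vanOpen N := le_vanOpen ((vanOn_vanOpen K).of_mono n)
  have hmem : vanOpen N ∈ T := ⟨N, n ≫ k, mono_comp n k, hNc, hN0, rfl⟩
  have hnlt : ¬ vanOpen K < vanOpen N := hmax (vanOpen N) hmem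
  rcases hle.eq_or_lt with h' | h'
  · exact h'.symm
  · exact absurd h' hnlt

end Groth.Agent.R2.H12.Dev
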