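import Mathlib
import Groth.Agent.R2.H12DevB
import Groth.Agent.Lib.Helper20OmegaAff

/-!
# Devissage of coherent modules, part C: the local picture on `Spec R` (helper12)
-/

set_option autoImplicit false
universe u
open CategoryTheory Limits AlgebraicGeometry TopologicalSpace Opposite

namespace Groth.Agent.R2.H12.Dev

open Groth.Agent.Lib.Helper23.QCohLocal Groth.Agent.Lib.Helper2.Push Groth.Agent.Lib.Helper2.QCoh
  Groth.Agent.Lib.Helper23.FinType Groth.Agent.Lib.Helper23.ModLocal Groth.Agent.Lib.Helper23.Extend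

/-- a nonzero module over a Noetherian ring contains a copy of `R ⧸ p` for a prime `p` -/
theorem exists_prime_quot_inj (R : Type u) [CommRing R] [IsNoetherianRing R] (M : Type u) [AddCommGroup M]
    [Module R M] [Nontrivial M] :
    ∃ (p : Ideal R) (_ : p.IsPrime) (c : (R ⧸ p) →ₗ[R] M), Function.Injective c := by
  obtain ⟨p, hp⟩ := associatedPrimes.nonempty R M
  rw [AssociatedPrimes.mem_iff, isAssociatedPrime_iff] at hp
  obtain ⟨hprime, x, rfl⟩ := hp
  have hle : (⊥ : Submodule R M).colon {x} ≤ LinearMap.ker (LinearMap.toSpanSingleton R M x) := by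
    intro r hr
    rw [Submodule.mem_colon_singleton, Submodule.mem_bot] at hr
    simpa using hr
  refine ⟨_, hprime, Submodule.liftQ _ (LinearMap.toSpanSingleton R M x) hle, ?_⟩
  rw [← LinearMap.ker_eq_bot]
  apply Submodule.ker_liftQ_eq_bot
  intro r hr
  rw [Submodule.mem_colon_singleton, Submodule.mem_bot]
  simpa using hr

section Local
variable (R : CommRingCat.{u})

/-- the quotient map as a morphism of commutative rings -/
noncomputable abbrev quotHom (p : Ideal R) : R ⟶ CommRingCat.of (R ⧸ p) :=
  CommRingCat.ofHom (Ideal.Quotient.mk p)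

/-- the structure sheaf of `Spec (R ⧸ p)` pushed forward to `Spec R` -/
noncomputable abbrev quotMod (p : Ideal R) : (Spec R).Modules :=
  (Scheme.Modules.pushforward (Spec.map (quotHom R p))).obj
    (Coh.structureModule (Spec (CommRingCat.of (R ⧸ p))))

/-- global sections of `quotMod` -/
noncomputable def quotModΓIso (p : Ideal R) :
    (ΓF R).obj (quotMod R p) ≅
      (ModuleCat.restrictScalars (quotHom R p).hom).obj (ModuleCat.of (R ⧸ p) (R ⧸ p)) :=
  (Groth.Agent.Lib.Helper20.OmegaAff.pushforwardΓIso (quotHom R p)).app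
      (Coh.structureModule (Spec (CommRingCat.of (R ⧸ p)))) ≪≫
    (ModuleCat.restrictScalars (quotHom R p).hom).mapIso
      ((tilde.toTildeΓNatIso (R := CommRingCat.of (R ⧸ p))).app (ModuleCat.of (R ⧸ p) (R ⧸ p))).symm

/-- the structure sheaf of `Spec (R ⧸ p)` pushed forward to `Spec R` embeds into any nonzero
quasi-coherent module, for a suitable prime `p` (`R` Noetherian). -/
theorem exists_quotMod_mono [IsNoetherianRing R] (B : (Spec R).Modules) [B.IsQuasicoherent] (hB : ¬ IsZero B) :
    ∃ (p : Ideal R) (_ : p.IsPrime) (φ : quotMod R p ⟶ B), Mono φ := by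
  have hiso : IsIso B.fromTildeΓ := isIso_fromTildeΓ B
  have hnt : Nontrivial ((ΓF R).obj B) := by
    by_contra hcon
    rw [not_nontrivial_iff_subsingleton] at hcon
    apply hB
    have h0 : IsZero ((ΓF R).obj B) := ModuleCat.isZero_of_subsingleton _
    have h1 : IsZero ((tilde.functor R).obj ((ΓF R).obj B)) := (tilde.functor R).map_isZero h0
    exact h1.of_iso (asIso B.fromTildeΓ).symm
  obtain ⟨p, hp, c, hc⟩ := exists_prime_quot_inj R ((ΓF R).obj B)
  let l : ↑((ModuleCat.restrictScalars (quotHom R p).hom).obj (ModuleCat.of (R ⧸ p) (R ⧸ p))) →ₗ[R]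
      ↑((ΓF R).obj B) :=
    { toFun := fun m => c m
      map_add' := fun a b => c.map_add a b
      map_smul' := fun r m => by
        have : (r • m : (ModuleCat.restrictScalars (quotHom R p).hom).obj (ModuleCat.of (R ⧸ p) (R ⧸ p))) =
            (r • (m : R ⧸ p) : R ⧸ p) := by
          rw [ModuleCat.restrictScalars.smul_def, Algebra.smul_def]
        rw [this]
        exact c.map_smul r m }
  let c'0 := ModuleCat.ofHom l
  let c' : (ModuleCat.restrictScalars (quotHom R p).hom).obj (ModuleCat.of (R ⧸ p) (R ⧸ p)) ⟶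
      (ΓF R).obj B := c'0
  have hc' : Mono c' := (ModuleCat.mono_iff_injective _).2 (fun a b hab => hc hab)
  let d : (ΓF R).obj (quotMod R p) ⟶ (ΓF R).obj B := (quotModΓIso R p).hom ≫ c'
  have hd : Mono d := mono_comp _ _
  have hq0 : IsIso (Scheme.Modules.fromTildeΓ (R := CommRingCat.of (R ⧸ p))
      (Coh.structureModule (Spec (CommRingCat.of (R ⧸ p))))) :=
    isIso_fromTildeΓ (R := CommRingCat.of (R ⧸ p)) _
  have hq : IsIso (quotMod R p).fromTildeΓ := isIso_fromTildeΓ_pushforward (quotHom R p) _
  have hqc : (quotMod R p).IsQuasicoherent := (isQuasicoherent_iff_isIso_fromTildeΓ _).2 hq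
  have hm : Mono (adjTilde R B d) := mono_adjTilde R B d
  exact ⟨p, hp, inv (quotMod R p).fromTildeΓ ≫ adjTilde R B d, mono_comp' inferInstance hm⟩

end Local

end Groth.Agent.R2.H12.Dev
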