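import Mathlib
import Groth.Agent.R2.H12DevC

/-!
# Devissage of coherent modules, part D: injectivity of the unit for modules with maximal vanishing open (helper12)
-/

set_option autoImplicit false
universe u
open CategoryTheory Limits AlgebraicGeometry TopologicalSpace Opposite

namespace Groth.Agent.R2.H12.Dev

open Groth.Agent.Lib.Helper23.QCohLocal Groth.Agent.Lib.Helper2.Push Groth.Agent.Lib.Helper2.QCoh
  Groth.Agent.Lib.Helper23.FinType Groth.Agent.Lib.Helper23.ModLocal Groth.Agent.Lib.Helper23.Extend

variable {X : Scheme.{u}}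

/-- the unit `H ⟶ j_* j^* H`, with a convenient type -/
noncomputable abbrev unitJ {Y : Scheme.{u}} (j : Y ⟶ X) [IsOpenImmersion j] (H : X.Modules) :
    H ⟶ (Scheme.Modules.pushforward j).obj ((Scheme.Modules.restrictFunctor j).obj H) :=
  (Scheme.Modules.restrictAdjunction j).unit.app H

/-- the kernel of the unit `H ⟶ j_* j^* H` vanishes on the range of `j` -/
theorem vanOn_kernel_unit {Y : Scheme.{u}} (j : Y ⟶ X) [IsOpenImmersion j] (H : X.Modules) :
    VanOn (kernel (unitJ j H)) j.opensRange := by
  intro W hW s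
  apply injective_app_of_mono (kernel.ι (unitJ j H)) W
  rw [map_zero]
  have h1 : (kernel.ι (unitJ j H) ≫ unitJ j H).app W s = 0 := by
    rw [kernel.condition]; rfl
  have h2 : H.presheaf.map (homOfLE (j.image_preimage_le W)).op ((kernel.ι (unitJ j H)).app W s) = 0 := h1
  have heq : j ''ᵁ j ⁻¹ᵁ W = W := by
    rw [Scheme.Hom.image_preimage_eq_opensRange_inf]
    exact inf_eq_right.2 hW
  have h3 := congrArg (H.presheaf.map (eqToHom heq.symm).op) h2
  rw [map_zero, ← ConcreteCategory.comp_apply, ← Functor.map_comp] at h3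
  have h4 : (homOfLE (j.image_preimage_le W)).op ≫ (eqToHom heq.symm).op = 𝟙 (op W) := rfl
  rw [h4, CategoryTheory.Functor.map_id] at h3
  exact h3

/-- if `K` has maximal vanishing open among its nonzero quasi-coherent submodules and does not vanish on the range
of the quasi-compact open immersion `j`, then every quasi-coherent submodule `H` of `K` injects into `j_* j^* H`. -/
theorem mono_unit_of_maximal {Y : Scheme.{u}} (j : Y ⟶ X) [IsOpenImmersion j] [QuasiCompact j]
    (K : X.Modules)
    (hmax : ∀ (N : X.Modules) (n : N ⟶ K), Mono n → Coh.IsQCoh N → ¬ IsZero N → vanOpen N = vanOpen K)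
    (hK : ¬ VanOn K j.opensRange)
    (H : X.Modules) [H.IsQuasicoherent] (ψ : H ⟶ K) [Mono ψ] :
    Mono (unitJ j H) := by
  have hq1 : ((Scheme.Modules.pushforward j).obj ((Scheme.Modules.restrictFunctor j).obj H)).IsQuasicoherent :=
    isQuasicoherent_pushforward j _
  have hq2 : (kernel (unitJ j H)).IsQuasicoherent := isQuasicoherent_kernel (unitJ j H)
  apply Preadditive.mono_of_isZero_kernel
  by_contra hN
  have h1 := hmax (kernel (unitJ j H)) (kernel.ι (unitJ j H) ≫ ψ) (mono_comp _ _) hq2 hN
  have h2 : j.opensRange ≤ vanOpen (kernel (unitJ j H)) := le_vanOpen (vanOn_kernel_unit j H)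
  rw [h1] at h2
  exact hK ((vanOn_vanOpen K).mono h2)

end Groth.Agent.R2.H12.Dev
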