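import Mathlib
import Groth.Agent.R2.H12DevD
import Groth.Agent.S0786
import Groth.Agent.S2266

/-!
# Devissage of coherent modules, part E: scheme-theoretic image and ideals of closed subschemes (helper12)
-/

set_option autoImplicit false
universe u
open CategoryTheory Limits AlgebraicGeometry TopologicalSpace Opposite

namespace Groth.Agent.R2.H12.Dev

open Groth.Agent.Lib.Helper23.QCohLocal Groth.Agent.Lib.Helper2.Push Groth.Agent.Lib.Helper2.QCoh
  Groth.Agent.Lib.Helper23.FinType Groth.Agent.Lib.Helper23.ModLocal Groth.Agent.Lib.Helper23.Extend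

section General
variable {X : Scheme.{u}}

theorem mono_of_app_injective {M N : X.Modules} (φ : M ⟶ N)
    (h : ∀ U : X.Opens, Function.Injective (φ.app U)) : Mono φ := by
  apply Functor.mono_of_mono_map (Scheme.Modules.toPresheaf X)
  apply (config := { allowSynthFailures := true }) NatTrans.mono_of_mono_app
  intro U
  rw [AddCommGrpCat.mono_iff_injective]
  exact h U.unop

/-- a morphism of modules injective on sections over a basis of opens is a monomorphism. -/
theorem mono_of_injective_app_basis {M N : X.Modules} (φ : M ⟶ N) (B : Set X.Opens)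
    (hB : TopologicalSpace.Opens.IsBasis B)
    (h : ∀ U ∈ B, Function.Injective (φ.app U)) : Mono φ := by
  refine mono_of_app_injective φ fun V => ?_
  rw [injective_iff_map_eq_zero]
  intro s hs
  refine Groth.Agent.Lib.Helper2.QcPush.section_eq_zero_of_cover M V s fun x hx => ?_
  obtain ⟨W, hW, hxW, hWV⟩ := (Opens.isBasis_iff_nbhd.mp hB) hx
  refine ⟨W, hWV, hxW, ?_⟩
  apply h W hW
  rw [map_zero, app_map, hs, map_zero]

end General

section Image
variable {X Y : Scheme.{u}} (f : Y ⟶ X)

theorem mono_unitToPush_toImage [QuasiCompact f] : Mono (ClSub.unitToPush f.toImage) := by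
  refine mono_of_injective_app_basis _ _
    (X.isBasis_affineOpens.of_isInducing f.imageι.isEmbedding.isInducing) ?_
  rintro _ ⟨U, hU, rfl⟩
  exact f.toImage_app_injective ⟨U, hU⟩

/-- the inclusion `i_* O_Z ⟶ f_* O_Y` for the scheme-theoretic image `Z` of `f` -/
noncomputable def imageNu :
    (Scheme.Modules.pushforward f.imageι).obj (Coh.structureModule f.image) ⟶
      (Scheme.Modules.pushforward f).obj (Coh.structureModule Y) :=
  (Scheme.Modules.pushforward f.imageι).map (ClSub.unitToPush f.toImage) ≫
    (Scheme.Modules.pushforwardComp f.toImage f.imageι).hom.app _ ≫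
    (Scheme.Modules.pushforwardCongr f.toImage_imageι).hom.app _

instance mono_imageNu [QuasiCompact f] : Mono (imageNu f) := by
  have := mono_unitToPush_toImage f
  unfold imageNu
  infer_instance

theorem isIntegral_image [QuasiCompact f] [IsIntegral Y] : IsIntegral f.image := by
  obtain ⟨hred, hirr⟩ := Groth.Agent.S2266.result f
  have := hirr inferInstance inferInstance
  exact isIntegral_of_irreducibleSpace_of_isReduced _

end Image

section Closed
variable {X Z : Scheme.{u}} (i : Z ⟶ X) [IsClosedImmersion i]

/-- a subobject of `i_* O_Z` is killed by the ideal of `Z` -/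
theorem killed_of_mono_push (P : X.Modules)
    (m : P ⟶ (Scheme.Modules.pushforward i).obj (Coh.structureModule Z)) [Mono m]
    (U : X.affineOpens) (r : Γ(X, U.1)) (hr : r ∈ i.ker.ideal U) (s : Γ(P, U.1)) : r • s = 0 := by
  apply injective_app_of_mono m U.1
  rw [map_zero, Scheme.Modules.Hom.app_smul]
  rw [i.ker_apply U, RingHom.mem_ker] at hr
  have h1 : r • (m.app U.1 s) =
      ((i.app U.1).hom r * (show Γ(Z, i ⁻¹ᵁ U.1) from m.app U.1 s) : Γ(Z, i ⁻¹ᵁ U.1)) := rfl
  rw [h1, hr, zero_mul]
  rfl

/-- pushforward along a closed immersion reflects monomorphisms -/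
theorem mono_of_mono_pushforward {A B : Z.Modules} (a : A ⟶ B)
    (h : Mono ((Scheme.Modules.pushforward i).map a)) : Mono a := by
  refine mono_of_app_injective a fun V => ?_
  obtain ⟨t, ht, hV⟩ := i.isEmbedding.isInducing.isOpen_iff.mp V.isOpen
  obtain rfl : V = i ⁻¹ᵁ ⟨t, ht⟩ := Opens.ext hV.symm
  exact injective_app_of_mono ((Scheme.Modules.pushforward i).map a) ⟨t, ht⟩

/-- a quasi-coherent subobject of `i_* O_Z` is the pushforward of a quasi-coherent ideal of `O_Z` -/
theorem exists_ideal_of_mono_push (P : X.Modules) [P.IsQuasicoherent]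
    (m : P ⟶ (Scheme.Modules.pushforward i).obj (Coh.structureModule Z)) [Mono m] :
    ∃ (I : Z.Modules) (ι : I ⟶ Coh.structureModule Z), Mono ι ∧ I.IsQuasicoherent ∧
      Nonempty ((Scheme.Modules.pushforward i).obj I ≅ P) := by
  have hiso : IsIso ((Scheme.Modules.pullbackPushforwardAdjunction i).unit.app P) :=
    Groth.Agent.S0786.isIso_unit_closedImmersion i P (killed_of_mono_push i P m)
  let adj := Scheme.Modules.pullbackPushforwardAdjunction i
  let ι : (Scheme.Modules.pullback i).obj P ⟶ Coh.structureModule Z := (adj.homEquiv P _).symm m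
  have h1 : adj.unit.app P ≫ (Scheme.Modules.pushforward i).map ι = m :=
    (adj.homEquiv_unit (f := ι)).symm.trans (Equiv.apply_symm_apply _ _)
  have h2 : (Scheme.Modules.pushforward i).map ι = inv (adj.unit.app P) ≫ m := by
    rw [← h1, IsIso.inv_hom_id_assoc]
  refine ⟨(Scheme.Modules.pullback i).obj P, ι, ?_,
    Groth.Agent.Lib.Helper2.PullbackSec.isQuasicoherent_pullback i P,
    ⟨(asIso (adj.unit.app P)).symm⟩⟩
  apply mono_of_mono_pushforward i
  rw [h2]
  infer_instance

end Closed

end Groth.Agent.R2.H12.Dev
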