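import Mathlib
import Groth.Agent.R2.H12DevE

/-!
# Devissage of coherent modules, part F: the key lemma (helper12)

`key_lemma`: on a Noetherian scheme, every nonzero coherent module contains the pushforward of a nonzero
quasi-coherent ideal of an integral closed subscheme.
-/

set_option autoImplicit false
universe u
open CategoryTheory Limits AlgebraicGeometry TopologicalSpace Opposite

namespace Groth.Agent.R2.H12.Dev

open Groth.Agent.Lib.Helper23.QCohLocal Groth.Agent.Lib.Helper2.Push Groth.Agent.Lib.Helper2.QCoh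
  Groth.Agent.Lib.Helper23.FinType Groth.Agent.Lib.Helper23.ModLocal Groth.Agent.Lib.Helper23.Extend

attribute [local instance] restrictFunctor_isRightAdjoint

section Restrict
variable {X W : Scheme.{u}} (j : W ⟶ X) [IsOpenImmersion j]

/-- if the restriction of `C` along `j` is zero, `C` vanishes on the range of `j` -/
theorem vanOn_of_isZero_restrict (C : X.Modules) (h : IsZero ((Scheme.Modules.restrictFunctor j).obj C)) :
    VanOn C j.opensRange := by
  intro O hO s
  have heq : j ''ᵁ j ⁻¹ᵁ O = O := by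
    rw [Scheme.Hom.image_preimage_eq_opensRange_inf]
    exact inf_eq_right.2 hO
  have h1 : C.presheaf.map (eqToHom heq).op s = 0 :=
    eq_zero_of_isZero h (j ⁻¹ᵁ O) (C.presheaf.map (eqToHom heq).op s)
  have h3 := congrArg (C.presheaf.map (eqToHom heq.symm).op) h1
  rw [map_zero, ← ConcreteCategory.comp_apply, ← Functor.map_comp] at h3
  have h4 : (eqToHom heq).op ≫ (eqToHom heq.symm).op = 𝟙 (op O) := rfl
  rw [h4, CategoryTheory.Functor.map_id] at h3
  exact h3

/-- the restriction of the unit `H ⟶ j_* j^* H` is an isomorphism -/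
theorem isIso_restrict_unitJ (H : X.Modules) :
    IsIso ((Scheme.Modules.restrictFunctor j).map (unitJ j H)) := by
  let adj := Scheme.Modules.restrictAdjunction j
  have htri : (Scheme.Modules.restrictFunctor j).map (unitJ j H) ≫
      adj.counit.app ((Scheme.Modules.restrictFunctor j).obj H) = 𝟙 _ := adj.left_triangle_components H
  have : IsIso (adj.counit.app ((Scheme.Modules.restrictFunctor j).obj H)) := inferInstance
  have h : (Scheme.Modules.restrictFunctor j).map (unitJ j H) =
      inv (adj.counit.app ((Scheme.Modules.restrictFunctor j).obj H)) := IsIso.eq_inv_of_inv_hom_id htri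
  rw [h]; infer_instance

/-- a pullback of `ρ` and `ν` is nonzero if `ρ` is an isomorphism over the range of `j` and the source of `ν` does
not vanish there -/
theorem not_isZero_pullback {A C Q : X.Modules} (ρ : A ⟶ Q) (ν : C ⟶ Q)
    (hρ : IsIso ((Scheme.Modules.restrictFunctor j).map ρ)) (hC : ¬ VanOn C j.opensRange) :
    ¬ IsZero (pullback ρ ν) := by
  intro hz
  apply hC
  apply vanOn_of_isZero_restrict j
  have hpb : IsPullback (pullback.fst ρ ν) (pullback.snd ρ ν) ρ ν := IsPullback.of_hasPullback _ _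
  have hpb' := hpb.map (Scheme.Modules.restrictFunctor j)
  have : IsIso ((Scheme.Modules.restrictFunctor j).map (pullback.snd ρ ν)) := hpb'.isIso_snd_of_isIso
  have h0 : IsZero ((Scheme.Modules.restrictFunctor j).obj (pullback ρ ν)) :=
    (Scheme.Modules.restrictFunctor j).map_isZero hz
  exact h0.of_iso (asIso ((Scheme.Modules.restrictFunctor j).map (pullback.snd ρ ν))).symm

end Restrict

section KL

theorem isQuasicoherent_quotMod (R : CommRingCat.{u}) (p : Ideal R) : (quotMod R p).IsQuasicoherent := by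
  have hq0 : IsIso (Scheme.Modules.fromTildeΓ (R := CommRingCat.of (R ⧸ p))
      (Coh.structureModule (Spec (CommRingCat.of (R ⧸ p))))) :=
    isIso_fromTildeΓ (R := CommRingCat.of (R ⧸ p)) _
  have hq : IsIso (quotMod R p).fromTildeΓ := isIso_fromTildeΓ_pushforward (quotHom R p) _
  exact (isQuasicoherent_iff_isIso_fromTildeΓ _).2 hq

/-- **Key lemma of devissage**: on a Noetherian scheme, every nonzero coherent module contains the pushforward of a
nonzero quasi-coherent ideal of an integral closed subscheme. -/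
theorem key_lemma (X : Scheme.{u}) [IsNoetherian X] (M : X.Modules) (hM : Coh.IsCoh M) (hM0 : ¬ IsZero M) :
    ∃ (Z : Scheme.{u}) (i : Z ⟶ X), IsClosedImmersion i ∧ IsIntegral Z ∧
      ∃ (I : Z.Modules) (ι : I ⟶ Coh.structureModule Z), Mono ι ∧ Coh.IsQCoh I ∧ ¬ IsZero I ∧
        ∃ μ : (Coh.push i).obj I ⟶ M, Mono μ := by
  obtain ⟨K, k, hk, hKc, hK0, hmax⟩ := exists_maximal_vanOpen hM hM0
  obtain ⟨U, hU, s, hs⟩ := exists_affine_section_ne_zero hK0
  have hR : IsNoetherianRing Γ(X, U) := IsLocallyNoetherian.component_noetherian ⟨U, hU⟩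
  have hKq : K.IsQuasicoherent := hKc.1
  have hrange : hU.fromSpec.opensRange = U := hU.opensRange_fromSpec
  have hKU : ¬ VanOn K hU.fromSpec.opensRange := by
    rw [hrange]; exact fun hv => hs (hv U le_rfl s)
  have hB : ¬ IsZero (K.restrict hU.fromSpec) := fun hz => hKU (vanOn_of_isZero_restrict _ K hz)
  obtain ⟨p, hp, φ, hφ⟩ := exists_quotMod_mono Γ(X, U) (K.restrict hU.fromSpec) hB
  have hqc : (quotMod Γ(X, U) p).IsQuasicoherent := isQuasicoherent_quotMod _ p
  obtain ⟨H, ψ, e, hHq, hcomm, hmono, -⟩ :=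
    exists_extension' hU.fromSpec K (quotMod Γ(X, U) p) φ
  have hψ : Mono ψ := hmono hφ
  have hη : Mono (unitJ hU.fromSpec H) := mono_unit_of_maximal hU.fromSpec K hmax hKU H ψ
  -- the morphism `f : Spec (R ⧸ p) ⟶ X`
  let f : Spec (CommRingCat.of (Γ(X, U) ⧸ p)) ⟶ X := Spec.map (quotHom Γ(X, U) p) ≫ hU.fromSpec
  have hYint : IsIntegral (Spec (CommRingCat.of (Γ(X, U) ⧸ p))) := inferInstance
  have hfqc : QuasiCompact f := inferInstance
  have hfqs : QuasiSeparated f := by
    change QuasiSeparated (Spec.map (quotHom Γ(X, U) p) ≫ hU.fromSpec)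
    infer_instance
  have hZint : IsIntegral f.image := isIntegral_image f
  -- `ρ : H ⟶ f_* O_Y`
  let ρ : H ⟶ (Scheme.Modules.pushforward f).obj (Coh.structureModule _) :=
    unitJ hU.fromSpec H ≫ (Scheme.Modules.pushforward hU.fromSpec).map e.hom ≫
      (Scheme.Modules.pushforwardComp (Spec.map (quotHom Γ(X, U) p)) hU.fromSpec).hom.app _
  have hρ : Mono ρ := mono_comp _ _
  have hρiso : IsIso ((Scheme.Modules.restrictFunctor hU.fromSpec).map ρ) := by
    have := isIso_restrict_unitJ hU.fromSpec H
    simp only [ρ, Functor.map_comp]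
    infer_instance
  have hQq : ((Scheme.Modules.pushforward f).obj (Coh.structureModule _)).IsQuasicoherent :=
    isQuasicoherent_pushforward f _
  have hZq : ((Scheme.Modules.pushforward f.imageι).obj (Coh.structureModule f.image)).IsQuasicoherent :=
    isQuasicoherent_pushforward f.imageι _
  have hPq : (pullback ρ (imageNu f)).IsQuasicoherent := isQuasicoherent_pullback _ _
  obtain ⟨I, ι, hι, hIq, ⟨eI⟩⟩ :=
    exists_ideal_of_mono_push f.imageι (pullback ρ (imageNu f)) (pullback.snd ρ (imageNu f))
  refine ⟨f.image, f.imageι, inferInstance, hZint, I, ι, hι, hIq, ?_,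
    eI.hom ≫ pullback.fst ρ (imageNu f) ≫ ψ ≫ k, ?_⟩
  · intro hI0
    have hP0 : IsZero (pullback ρ (imageNu f)) :=
      ((Scheme.Modules.pushforward f.imageι).map_isZero hI0).of_iso eI.symm
    refine not_isZero_pullback hU.fromSpec ρ (imageNu f) hρiso ?_ hP0
    intro hv
    have hne : Nonempty (Spec (CommRingCat.of (Γ(X, U) ⧸ p))) := inferInstance
    obtain ⟨y⟩ := hne
    have hy : f.toImage y ∈ f.imageι ⁻¹ᵁ U := by
      change f.imageι (f.toImage y) ∈ U
      have h1 : f.imageι (f.toImage y) = f y := by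
        rw [← Scheme.Hom.comp_apply, f.toImage_imageι]
      rw [h1]
      have h2 : f y ∈ hU.fromSpec.opensRange := ⟨Spec.map (quotHom Γ(X, U) p) y, rfl⟩
      exact hrange.le h2
    have hne' : Nonempty (f.imageι ⁻¹ᵁ U : f.image.Opens) := ⟨⟨_, hy⟩⟩
    have hnt : Nontrivial Γ(f.image, f.imageι ⁻¹ᵁ U) := inferInstance
    have h0 : (1 : Γ(f.image, f.imageι ⁻¹ᵁ U)) = 0 :=
      hv U hrange.ge (1 : Γ(f.image, f.imageι ⁻¹ᵁ U))
    exact one_ne_zero h0
  · infer_instance

end KL

end Groth.Agent.R2.H12.Dev
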