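import Mathlib

/-!
# Devissage, part G: an abstract step in an abelian category (helper12)

For a subobject `S` of `M` and a monomorphism `μ : T ⟶ M / S`, the preimage `S'` of `T` in `M` contains `S` and
`S' / S ≅ T`.
-/

set_option autoImplicit false
universe v u
open CategoryTheory Limits

namespace Groth.Agent.R2.H12.Dev

variable {C : Type u} [Category.{v} C] [Abelian C]

/-- the lift `S ⟶ M ×_{M/S} T` -/
noncomputable def stepLift {M S T : C} (a : S ⟶ M) (μ : T ⟶ cokernel a) :
    S ⟶ pullback (cokernel.π a) μ :=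
  pullback.lift a 0 (by rw [cokernel.condition, zero_comp])

@[reassoc (attr := simp)]
theorem stepLift_fst {M S T : C} (a : S ⟶ M) (μ : T ⟶ cokernel a) :
    stepLift a μ ≫ pullback.fst (cokernel.π a) μ = a := pullback.lift_fst _ _ _

@[reassoc (attr := simp)]
theorem stepLift_snd {M S T : C} (a : S ⟶ M) (μ : T ⟶ cokernel a) :
    stepLift a μ ≫ pullback.snd (cokernel.π a) μ = 0 := pullback.lift_snd _ _ _

instance {M S T : C} (a : S ⟶ M) [Mono a] (μ : T ⟶ cokernel a) : Mono (stepLift a μ) :=
  mono_of_mono_fac (stepLift_fst a μ)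

/-- `S ⟶ M ×_{M/S} T ⟶ T` is short exact -/
theorem stepLift_shortExact {M S T : C} (a : S ⟶ M) [Mono a] (μ : T ⟶ cokernel a) [Mono μ] :
    (ShortComplex.mk (stepLift a μ) (pullback.snd (cokernel.π a) μ) (stepLift_snd a μ)).ShortExact := by
  have hker : IsLimit (KernelFork.ofι a (cokernel.condition a)) :=
    Abelian.monoIsKernelOfCokernel (CokernelCofork.ofπ (cokernel.π a) (cokernel.condition a))
      (cokernelIsCokernel a)
  refine ShortComplex.ShortExact.mk' (ShortComplex.exact_of_f_is_kernel _ ?_) inferInstance inferInstance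
  refine KernelFork.IsLimit.ofι _ _
    (fun {W} t ht => hker.lift (KernelFork.ofι (t ≫ pullback.fst (cokernel.π a) μ) (by
      rw [Category.assoc, pullback.condition, reassoc_of% ht, zero_comp])))
    (fun {W} t ht => ?_) (fun {W} t ht w hw => ?_)
  · have h1 : hker.lift (KernelFork.ofι (t ≫ pullback.fst (cokernel.π a) μ) (by
        rw [Category.assoc, pullback.condition, reassoc_of% ht, zero_comp])) ≫ a =
        t ≫ pullback.fst (cokernel.π a) μ :=
      hker.fac _ WalkingParallelPair.zero
    apply pullback.hom_ext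
    · rw [Category.assoc]
      exact (congrArg _ (stepLift_fst a μ)).trans h1
    · rw [Category.assoc]
      exact ((congrArg _ (stepLift_snd a μ)).trans comp_zero).trans ht.symm
  · rw [← cancel_mono (stepLift a μ)]
    rw [hw]
    have h1 : hker.lift (KernelFork.ofι (t ≫ pullback.fst (cokernel.π a) μ) (by
        rw [Category.assoc, pullback.condition, reassoc_of% ht, zero_comp])) ≫ a =
        t ≫ pullback.fst (cokernel.π a) μ :=
      hker.fac _ WalkingParallelPair.zero
    apply pullback.hom_ext
    · rw [Category.assoc]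
      exact ((congrArg _ (stepLift_fst a μ)).trans h1).symm
    · rw [Category.assoc]
      exact (((congrArg _ (stepLift_snd a μ)).trans comp_zero).trans ht.symm).symm

/-- the quotient of `M ×_{M/S} T` by `S` is `T` -/
noncomputable def cokernelStepLiftIso {M S T : C} (a : S ⟶ M) [Mono a] (μ : T ⟶ cokernel a) [Mono μ] :
    cokernel (stepLift a μ) ≅ T :=
  IsColimit.coconePointUniqueUpToIso (cokernelIsCokernel (stepLift a μ))
    (stepLift_shortExact a μ).gIsCokernel

/-- **Abstract step**: the preimage `S'` of a subobject `T` of `M / S` contains `S`, and `S' / S ≅ T`. -/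
theorem exists_step {M : C} (S : Subobject M) {T : C} (μ : T ⟶ cokernel S.arrow) [Mono μ] :
    ∃ (S' : Subobject M) (h : S ≤ S'), Nonempty (cokernel (S.ofLE S' h) ≅ T) ∧
      Nonempty ((S' : C) ≅ pullback (cokernel.π S.arrow) μ) := by
  have hle : S ≤ Subobject.mk (pullback.fst (cokernel.π S.arrow) μ) :=
    Subobject.le_mk_of_comm (stepLift S.arrow μ) (stepLift_fst _ _)
  refine ⟨Subobject.mk (pullback.fst (cokernel.π S.arrow) μ), hle, ⟨?_⟩,
    ⟨Subobject.underlyingIso _⟩⟩
  have hcomp : S.ofLE _ hle ≫ (Subobject.underlyingIso (pullback.fst (cokernel.π S.arrow) μ)).hom =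
      stepLift S.arrow μ := by
    rw [← cancel_mono (pullback.fst (cokernel.π S.arrow) μ), Category.assoc,
      Subobject.underlyingIso_hom_comp_eq_mk, Subobject.ofLE_arrow, stepLift_fst]
  have e1 : cokernel (S.ofLE _ hle ≫
      (Subobject.underlyingIso (pullback.fst (cokernel.π S.arrow) μ)).hom) ≅ cokernel (S.ofLE _ hle) :=
    cokernelCompIsIso _ _
  have e2 : cokernel (S.ofLE _ hle ≫
      (Subobject.underlyingIso (pullback.fst (cokernel.π S.arrow) μ)).hom) ≅
      cokernel (stepLift S.arrow μ) := cokernelIsoOfEq hcomp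
  exact e1.symm ≪≫ e2 ≪≫ cokernelStepLiftIso S.arrow μ

/-- if `S = S'` the quotient `S' / S` vanishes -/
theorem isZero_cokernel_ofLE_of_eq {M : C} (S S' : Subobject M) (h : S ≤ S') (heq : S = S') :
    IsZero (cokernel (S.ofLE S' h)) := by
  subst heq
  have : S.ofLE S h = 𝟙 _ := Subobject.ofLE_refl S
  rw [this]
  exact isZero_cokernel_of_epi _

end Groth.Agent.R2.H12.Dev
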