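import Mathlib
import Groth.Agent.R2.H12DevF
import Groth.Agent.R2.H12DevG
import Groth.Agent.S0045

/-!
# Devissage, part H: the chain of subobjects (helper12)

`exists_chain`: for a coherent module `M` on a Noetherian scheme there is a chain of subobjects
`⊥ = c 0 ≤ c 1 ≤ ...` reaching `⊤` at some index `m`, each step below `m` being a devissage step `IsStep`.
-/

set_option autoImplicit false
universe u
open CategoryTheory Limits AlgebraicGeometry TopologicalSpace Opposite

namespace Groth.Agent.R2.H12.Dev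

open Groth.Agent.Lib.Helper23.QCohLocal Groth.Agent.Lib.Helper2.Push Groth.Agent.Lib.Helper2.QCoh
  Groth.Agent.Lib.Helper23.FinType Groth.Agent.Lib.Helper23.ModLocal Groth.Agent.Lib.Helper23.Extend

theorem qcoh_of_iso {X : Scheme.{u}} {A B : X.Modules} (e : A ≅ B) (h : A.IsQuasicoherent) :
    B.IsQuasicoherent :=
  (SheafOfModules.isQuasicoherent X.ringCatSheaf).prop_of_iso e h

/-- pushforward along a closed immersion reflects zero objects -/
theorem isZero_of_isZero_push {X Z : Scheme.{u}} (i : Z ⟶ X) [IsClosedImmersion i] (I : Z.Modules)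
    (h : IsZero ((Scheme.Modules.pushforward i).obj I)) : IsZero I := by
  refine isZero_of_forall_eq_zero fun V s => ?_
  obtain ⟨t, ht, hV⟩ := i.isEmbedding.isInducing.isOpen_iff.mp V.isOpen
  obtain rfl : V = i ⁻¹ᵁ ⟨t, ht⟩ := Opens.ext hV.symm
  exact eq_zero_of_isZero h ⟨t, ht⟩ s

variable {X : Scheme.{u}} {M : X.Modules}

/-- one devissage step between subobjects of `M` -/
def IsStep (S S' : Subobject M) : Prop :=
  ∃ h : S ≤ S', Coh.IsQCoh (S' : X.Modules) ∧
    ∃ (Z : Scheme.{u}) (i : Z ⟶ X), IsClosedImmersion i ∧ IsIntegral Z ∧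
      ∃ (I : Z.Modules) (ι : I ⟶ Coh.structureModule Z), Mono ι ∧ Coh.IsQCoh I ∧ ¬ IsZero I ∧
        Nonempty (cokernel (S.ofLE S' h) ≅ (Coh.push i).obj I)

theorem IsStep.le {S S' : Subobject M} (h : IsStep S S') : S ≤ S' := h.1

theorem IsStep.ne {S S' : Subobject M} (h : IsStep S S') : S ≠ S' := by
  obtain ⟨hle, -, Z, i, hi, -, I, ι, -, -, hI0, ⟨e⟩⟩ := h
  intro heq
  exact hI0 (isZero_of_isZero_push i I ((isZero_cokernel_ofLE_of_eq S S' hle heq).of_iso e.symm))

theorem exists_isStep [IsNoetherian X] (hM : Coh.IsCoh M) (S : Subobject M)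
    (hS : Coh.IsQCoh (S : X.Modules)) (hne : S ≠ ⊤) : ∃ S', IsStep S S' := by
  have hMq : M.IsQuasicoherent := hM.1
  have hMf : SheafOfModules.IsFiniteType (R := X.ringCatSheaf) M := hM.2
  have hSq : (S : X.Modules).IsQuasicoherent := hS
  have hQq : (cokernel S.arrow).IsQuasicoherent := isQuasicoherent_cokernel S.arrow
  have hQc : Coh.IsCoh (cokernel S.arrow) := ⟨hQq, isFiniteType_of_epi (cokernel.π S.arrow)⟩
  have hQ0 : ¬ IsZero (cokernel S.arrow) := by
    intro hz
    have hepi : Epi S.arrow := Preadditive.epi_of_isZero_cokernel _ hz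
    have hiso : IsIso S.arrow := isIso_of_mono_of_epi _
    exact hne (Subobject.eq_top_of_isIso_arrow S)
  obtain ⟨Z, i, hi, hZ, I, ι, hι, hIq, hI0, μ, hμ⟩ := key_lemma X (cokernel S.arrow) hQc hQ0
  obtain ⟨S', hle, ⟨e⟩, ⟨e'⟩⟩ := exists_step S μ
  have hIq' : I.IsQuasicoherent := hIq
  have hTq : ((Scheme.Modules.pushforward i).obj I).IsQuasicoherent := isQuasicoherent_pushforward i I
  have hPq : (pullback (cokernel.π S.arrow) μ).IsQuasicoherent := isQuasicoherent_pullback _ _
  exact ⟨S', hle, qcoh_of_iso e'.symm hPq, Z, i, hi, hZ, I, ι, hι, hIq, hI0, ⟨e⟩⟩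

/-- the step function on subobjects -/
noncomputable def stepFn [IsNoetherian X] (hM : Coh.IsCoh M) (S : Subobject M) : Subobject M := by
  classical
  exact if h : Coh.IsQCoh (S : X.Modules) ∧ S ≠ ⊤ then Classical.choose (exists_isStep hM S h.1 h.2) else S

theorem stepFn_spec [IsNoetherian X] (hM : Coh.IsCoh M) (S : Subobject M)
    (hS : Coh.IsQCoh (S : X.Modules)) (hne : S ≠ ⊤) : IsStep S (stepFn hM S) := by
  classical
  unfold stepFn
  rw [dif_pos ⟨hS, hne⟩]
  exact Classical.choose_spec (exists_isStep hM S hS hne)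

theorem stepFn_of_not [IsNoetherian X] (hM : Coh.IsCoh M) (S : Subobject M)
    (h : ¬ (Coh.IsQCoh (S : X.Modules) ∧ S ≠ ⊤)) : stepFn hM S = S := by
  classical
  unfold stepFn
  rw [dif_neg h]

theorem le_stepFn [IsNoetherian X] (hM : Coh.IsCoh M) (S : Subobject M) : S ≤ stepFn hM S := by
  by_cases h : Coh.IsQCoh (S : X.Modules) ∧ S ≠ ⊤
  · exact (stepFn_spec hM S h.1 h.2).le
  · rw [stepFn_of_not hM S h]

theorem qcoh_stepFn [IsNoetherian X] (hM : Coh.IsCoh M) (S : Subobject M)
    (hS : Coh.IsQCoh (S : X.Modules)) : Coh.IsQCoh (stepFn hM S : X.Modules) := by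
  by_cases h : Coh.IsQCoh (S : X.Modules) ∧ S ≠ ⊤
  · exact (stepFn_spec hM S h.1 h.2).2.1
  · rw [stepFn_of_not hM S h]; exact hS

/-- the chain of subobjects -/
noncomputable def chain [IsNoetherian X] (hM : Coh.IsCoh M) : ℕ → Subobject M
  | 0 => ⊥
  | k + 1 => stepFn hM (chain hM k)

theorem isZero_bot (M : X.Modules) : IsZero ((⊥ : Subobject M) : X.Modules) :=
  (isZero_zero _).of_iso Subobject.botCoeIsoZero

theorem qcoh_of_isZero {A : X.Modules} (h : IsZero A) : A.IsQuasicoherent := by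
  have h1 : (kernel (𝟙 (Coh.structureModule X))).IsQuasicoherent := isQuasicoherent_kernel _
  have h2 : IsZero (kernel (𝟙 (Coh.structureModule X))) := isZero_kernel_of_mono _
  exact qcoh_of_iso (h2.iso h) h1

theorem qcoh_chain [IsNoetherian X] (hM : Coh.IsCoh M) (k : ℕ) : Coh.IsQCoh (chain hM k : X.Modules) := by
  induction k with
  | zero => exact qcoh_of_isZero (isZero_bot M)
  | succ k ih => exact qcoh_stepFn hM _ ih

theorem chain_le_succ [IsNoetherian X] (hM : Coh.IsCoh M) (k : ℕ) : chain hM k ≤ chain hM (k + 1) :=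
  le_stepFn hM _

theorem chain_isStep [IsNoetherian X] (hM : Coh.IsCoh M) (k : ℕ) (hne : chain hM k ≠ ⊤) :
    IsStep (chain hM k) (chain hM (k + 1)) :=
  stepFn_spec hM _ (qcoh_chain hM k) hne

theorem exists_chain_eq_top [IsNoetherian X] (hM : Coh.IsCoh M) : ∃ m, chain hM m = ⊤ := by
  let F : ℕ →o Subobject M := ⟨chain hM, monotone_nat_of_le_succ (chain_le_succ hM)⟩
  obtain ⟨n, hn⟩ := Groth.Agent.S0045.result X M hM F (fun k => qcoh_chain hM k)
  refine ⟨n, ?_⟩
  by_contra hne
  have h1 := (chain_isStep hM n hne).ne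
  exact h1 (hn (n + 1) (Nat.le_succ n)).symm

end Groth.Agent.R2.H12.Dev
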