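import Mathlib
import Groth.Agent.R2.H12DevH

/-!
# Strong devissage (EGA III 3.1.2/3.1.3), part A: generic comparison (helper12)
-/

set_option autoImplicit false
universe u
open CategoryTheory Limits AlgebraicGeometry TopologicalSpace Opposite

namespace Groth.Agent.R2.H12.Dev

open Groth.Agent.Lib.Helper23.QCohLocal Groth.Agent.Lib.Helper2.Push Groth.Agent.Lib.Helper2.QCoh
  Groth.Agent.Lib.Helper23.FinType Groth.Agent.Lib.Helper23.ModLocal Groth.Agent.Lib.Helper23.Extend

attribute [local instance] restrictFunctor_isRightAdjoint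

section Van
variable {X : Scheme.{u}}

theorem isZero_restrict_of_vanOn {W : Scheme.{u}} (j : W ⟶ X) [IsOpenImmersion j] (A : X.Modules)
    (h : VanOn A j.opensRange) : IsZero ((Scheme.Modules.restrictFunctor j).obj A) :=
  isZero_of_forall_eq_zero fun V s => h (j ''ᵁ V) (Scheme.Hom.image_le_opensRange j V) s

theorem VanOn.of_epi {A B : X.Modules} (π : A ⟶ B) [Epi π] {W : X.Opens} (h : VanOn A W) : VanOn B W := by
  have h1 : IsZero ((Scheme.Modules.restrictFunctor W.ι).obj A) :=
    isZero_restrict_of_vanOn W.ι A (by rwa [Scheme.Opens.opensRange_ι])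
  have hepi : Epi ((Scheme.Modules.restrictFunctor W.ι).map π) := inferInstance
  have h2 : IsZero ((Scheme.Modules.restrictFunctor W.ι).obj B) := by
    rw [IsZero.iff_id_eq_zero, ← cancel_epi ((Scheme.Modules.restrictFunctor W.ι).map π)]
    exact h1.eq_of_src _ _
  have := vanOn_of_isZero_restrict W.ι B h2
  rwa [Scheme.Opens.opensRange_ι] at this

theorem VanOn.of_iso {A B : X.Modules} (e : A ≅ B) {W : X.Opens} (h : VanOn A W) : VanOn B W :=
  h.of_mono e.inv

theorem vanOn_kernel_of_isoOn {A B : X.Modules} (u : A ⟶ B) {D : X.Opens} (h : IsoOn u D) :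
    VanOn (kernel u) D := by
  have hiso : IsIso ((Scheme.Modules.restrictFunctor D.ι).map u) := by
    rw [isIso_restrict_iff, Scheme.Opens.opensRange_ι]; exact h
  have h0 : IsZero (kernel ((Scheme.Modules.restrictFunctor D.ι).map u)) := isZero_kernel_of_mono _
  have h1 : IsZero ((Scheme.Modules.restrictFunctor D.ι).obj (kernel u)) :=
    h0.of_iso (PreservesKernel.iso (Scheme.Modules.restrictFunctor D.ι) u)
  have := vanOn_of_isZero_restrict D.ι _ h1
  rwa [Scheme.Opens.opensRange_ι] at this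

theorem vanOn_cokernel_of_isoOn {A B : X.Modules} (u : A ⟶ B) {D : X.Opens} (h : IsoOn u D) :
    VanOn (cokernel u) D := by
  have hiso : IsIso ((Scheme.Modules.restrictFunctor D.ι).map u) := by
    rw [isIso_restrict_iff, Scheme.Opens.opensRange_ι]; exact h
  have h0 : IsZero (cokernel ((Scheme.Modules.restrictFunctor D.ι).map u)) := isZero_cokernel_of_epi _
  have h1 : IsZero ((Scheme.Modules.restrictFunctor D.ι).obj (cokernel u)) :=
    h0.of_iso (PreservesCokernel.iso (Scheme.Modules.restrictFunctor D.ι) u)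
  have := vanOn_of_isZero_restrict D.ι _ h1
  rwa [Scheme.Opens.opensRange_ι] at this

end Van

section Transfer
variable {X : Scheme.{u}} [IsLocallyNoetherian X]

theorem isCoh_kernel {A B : X.Modules} (hA : Coh.IsCoh A) (hB : Coh.IsCoh B) (u : A ⟶ B) :
    Coh.IsCoh (kernel u) := by
  have h1 : A.IsQuasicoherent := hA.1
  have h2 : B.IsQuasicoherent := hB.1
  exact Groth.Agent.S0046.result X A _ (kernel.ι u) hA (isQuasicoherent_kernel u)

omit [IsLocallyNoetherian X] in
theorem isCoh_cokernel {A B : X.Modules} (hA : Coh.IsCoh A) (hB : Coh.IsCoh B) (u : A ⟶ B) :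
    Coh.IsCoh (cokernel u) := by
  have h1 : A.IsQuasicoherent := hA.1
  have h2 : B.IsQuasicoherent := hB.1
  have h3 : SheafOfModules.IsFiniteType (R := X.ringCatSheaf) B := hB.2
  have h4 : (cokernel u).IsQuasicoherent := isQuasicoherent_cokernel u
  exact ⟨h4, isFiniteType_of_epi (cokernel.π u)⟩

omit [IsLocallyNoetherian X] in
theorem isCoh_of_iso {A B : X.Modules} (e : A ≅ B) (hA : Coh.IsCoh A) : Coh.IsCoh B := by
  have h1 : A.IsQuasicoherent := hA.1
  have h2 : B.IsQuasicoherent := qcoh_of_iso e h1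
  have h3 : SheafOfModules.IsFiniteType (R := X.ringCatSheaf) A := hA.2
  exact ⟨h2, isFiniteType_of_epi e.hom⟩

/-- **generic comparison**: if the kernel and the cokernel of `u : M ⟶ M'` have `P`, then `P M ↔ P M'`. -/
theorem transfer (P : X.Modules → Prop) (hiso : ∀ M N : X.Modules, Nonempty (M ≅ N) → P M → P N)
    (hex : ∀ S : ShortComplex X.Modules, S.ShortExact → Coh.IsCoh S.X₁ → Coh.IsCoh S.X₂ → Coh.IsCoh S.X₃ →
      (P S.X₁ → P S.X₃ → P S.X₂) ∧ (P S.X₁ → P S.X₂ → P S.X₃) ∧ (P S.X₂ → P S.X₃ → P S.X₁))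
    {M M' : X.Modules} (hM : Coh.IsCoh M) (hM' : Coh.IsCoh M') (u : M ⟶ M')
    (hk : P (kernel u)) (hc : P (cokernel u)) : P M ↔ P M' := by
  have hker : Coh.IsCoh (kernel u) := isCoh_kernel hM hM' u
  have hcok : Coh.IsCoh (cokernel u) := isCoh_cokernel hM hM' u
  have hcoim : Coh.IsCoh (Abelian.coimage u) := isCoh_cokernel hker hM (kernel.ι u)
  have him : Coh.IsCoh (Abelian.image u) := isCoh_kernel hM' hcok (cokernel.π u)
  have hS₁ : (ShortComplex.mk (kernel.ι u) (cokernel.π (kernel.ι u)) (cokernel.condition _)).ShortExact :=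
    ShortComplex.ShortExact.mk' (ShortComplex.exact_cokernel (kernel.ι u)) inferInstance inferInstance
  have hS₂ : (ShortComplex.mk (kernel.ι (cokernel.π u)) (cokernel.π u) (kernel.condition _)).ShortExact :=
    ShortComplex.ShortExact.mk' (ShortComplex.exact_kernel (cokernel.π u)) inferInstance inferInstance
  have e : Abelian.coimage u ≅ Abelian.image u := Abelian.coimageIsoImage u
  obtain ⟨a1, a2, a3⟩ := hex _ hS₁ hker hM hcoim
  obtain ⟨b1, b2, b3⟩ := hex _ hS₂ him hM' hcok
  constructor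
  · intro h
    exact b1 (hiso _ _ ⟨e⟩ (a2 hk h)) hc
  · intro h
    exact a1 hk (hiso _ _ ⟨e.symm⟩ (b3 h hc))

end Transfer

section Integral
variable {Z : Scheme.{u}} [IsIntegral Z]

/-- sections over the empty open vanish -/
theorem eq_zero_of_bot {Y : Scheme.{u}} (A : Y.Modules) (s : Γ(A, ⊥)) : s = 0 :=
  Groth.Agent.Lib.Helper2.QcPush.section_eq_zero_of_cover A ⊥ s fun x hx => absurd hx (by simp)

/-- a nonzero subobject of `O_Z` (`Z` integral) has a nonzero section over a nonempty open, and it stays nonzero on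
all smaller nonempty opens -/
theorem exists_section_ne_zero_of_ideal {I : Z.Modules} (ι : I ⟶ Coh.structureModule Z) [Mono ι]
    (hI : ¬ IsZero I) (D : Z.Opens) (hD : (D : Set Z).Nonempty) :
    ∃ (V : Z.Opens) (_ : V ≤ D) (s : Γ(I, V)), s ≠ 0 := by
  have h1 : ∃ (V : Z.Opens) (s : Γ(I, V)), s ≠ 0 := by
    by_contra hcon
    apply hI
    refine isZero_of_forall_eq_zero fun V s => ?_
    by_contra hs
    exact hcon ⟨V, s, hs⟩
  obtain ⟨V, s, hs⟩ := h1
  have hVne : (V : Set Z).Nonempty := by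
    by_contra hV
    rw [Set.not_nonempty_iff_eq_empty] at hV
    have : V = ⊥ := Opens.ext hV
    subst this
    exact hs (eq_zero_of_bot I s)
  have hne : ((V ⊓ D : Z.Opens) : Set Z).Nonempty :=
    nonempty_preirreducible_inter V.isOpen D.isOpen hVne hD
  refine ⟨V ⊓ D, inf_le_right, I.presheaf.map (homOfLE (inf_le_left : V ⊓ D ≤ V)).op s, ?_⟩
  intro h0
  have h2 : ι.app (V ⊓ D) (I.presheaf.map (homOfLE (inf_le_left : V ⊓ D ≤ V)).op s) = 0 := by
    rw [h0, map_zero]
  rw [app_map] at h2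
  have hne' : Nonempty (V ⊓ D : Z.Opens) := hne.to_subtype
  have hinj : Function.Injective (Z.presheaf.map (homOfLE (inf_le_left : V ⊓ D ≤ V)).op) :=
    map_injective_of_isIntegral Z (homOfLE (inf_le_left : V ⊓ D ≤ V))
  have h2' : (Z.presheaf.map (homOfLE (inf_le_left : V ⊓ D ≤ V)).op).hom
      (show Γ(Z, V) from ι.app V s) = 0 := h2
  have h3 : ι.app V s = 0 :=
    (injective_iff_map_eq_zero (Z.presheaf.map (homOfLE (inf_le_left : V ⊓ D ≤ V)).op).hom).1 hinj _ h2'
  exact hs (injective_app_of_mono ι V (by rw [h3, map_zero]))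

/-- **(B)** a nonzero ideal of an integral scheme coincides with the structure sheaf on a nonempty open -/
theorem exists_isoOn_of_ideal {I : Z.Modules} (ι : I ⟶ Coh.structureModule Z) [Mono ι]
    (hI : ¬ IsZero I) : ∃ D : Z.Opens, (D : Set Z).Nonempty ∧ IsoOn ι D := by
  obtain ⟨V, -, s, hs⟩ := exists_section_ne_zero_of_ideal ι hI ⊤ ⟨genericPoint Z, trivial⟩
  have hf : (show Γ(Z, V) from ι.app V s) ≠ 0 := by
    intro h0
    exact hs (injective_app_of_mono ι V (by rw [map_zero]; exact h0))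
  refine ⟨Z.basicOpen (show Γ(Z, V) from ι.app V s), ?_, ?_⟩
  · rw [Set.nonempty_iff_ne_empty]
    intro h0
    have : Z.basicOpen (show Γ(Z, V) from ι.app V s) = ⊥ := Opens.ext h0
    rw [basicOpen_eq_bot_iff] at this
    exact hf this
  · intro W' hW'
    have hW'V : W' ≤ V := hW'.trans (Z.basicOpen_le _)
    rw [ConcreteCategory.isIso_iff_bijective]
    refine ⟨injective_app_of_mono ι W', fun t => ?_⟩
    have hu0 : IsUnit (Z.presheaf.map (homOfLE (Z.basicOpen_le (show Γ(Z, V) from ι.app V s))).op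
        (show Γ(Z, V) from ι.app V s)) := Z.toRingedSpace.isUnit_res_basicOpen _
    have hu : IsUnit (Z.presheaf.map (homOfLE hW'V).op (show Γ(Z, V) from ι.app V s)) := by
      have h1 := hu0.map (Z.presheaf.map (homOfLE hW').op).hom
      rw [← CommRingCat.comp_apply, ← Functor.map_comp] at h1
      exact h1
    obtain ⟨g, hg⟩ := hu.exists_right_inv
    refine ⟨((show Γ(Z, W') from t) * g : Γ(Z, W')) • I.presheaf.map (homOfLE hW'V).op s, ?_⟩
    rw [Scheme.Modules.Hom.app_smul, app_map]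
    have h2 : (((show Γ(Z, W') from t) * g : Γ(Z, W')) •
        (Coh.structureModule Z).presheaf.map (homOfLE hW'V).op (ι.app V s) :
          Γ(Coh.structureModule Z, W')) =
        (((show Γ(Z, W') from t) * g) *
          Z.presheaf.map (homOfLE hW'V).op (show Γ(Z, V) from ι.app V s) : Γ(Z, W')) := rfl
    rw [h2, mul_assoc, mul_comm g, hg, mul_one]

/-- **(L1)** if the pushforward of a nonzero ideal of an integral closed subscheme vanishes on `W`, then `W` does not
meet the subscheme -/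
theorem preimage_eq_bot_of_vanOn {X : Scheme.{u}} (i : Z ⟶ X) [IsClosedImmersion i] {I : Z.Modules}
    (ι : I ⟶ Coh.structureModule Z) [Mono ι] (hI : ¬ IsZero I) {W : X.Opens}
    (h : VanOn ((Scheme.Modules.pushforward i).obj I) W) : i ⁻¹ᵁ W = ⊥ := by
  by_contra hne
  have hne' : ((i ⁻¹ᵁ W : Z.Opens) : Set Z).Nonempty := by
    rw [Set.nonempty_iff_ne_empty]
    intro h0
    exact hne (Opens.ext h0)
  obtain ⟨V, hV, s, hs⟩ := exists_section_ne_zero_of_ideal ι hI _ hne'
  obtain ⟨t, ht, hVt⟩ := i.isEmbedding.isInducing.isOpen_iff.mp V.isOpen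
  have hVeq : V = i ⁻¹ᵁ (⟨t, ht⟩ ⊓ W) := by
    apply le_antisymm
    · intro z hz
      have hz' : z ∈ i ⁻¹' t := hVt ▸ hz
      exact ⟨hz', hV hz⟩
    · intro z hz
      have hz' : z ∈ i ⁻¹' t := hz.1
      exact (hVt ▸ hz' : z ∈ (V : Set Z))
  subst hVeq
  exact hs (h (⟨t, ht⟩ ⊓ W) inf_le_right s)

end Integral

end Groth.Agent.R2.H12.Dev
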