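import Mathlib
import Groth.Agent.R2.H12Dev3A
import Groth.Agent.Lib.Helper2LocFree
import Groth.Agent.Lib.Helper20LocFree
import Groth.Agent.Lib.Helper23FinPres
import Groth.Agent.Lib.Helper23FTsub
import Groth.Agent.Lib.Helper18Strict6

/-!
# Strong devissage, part B: a coherent module on an integral scheme is generically free (helper12)

`exists_zigzag_free`: for `G` coherent on an integral Noetherian scheme `Z` whose stalk at the generic point is nonzero,
there are `m > 0`, a coherent `H₀` and morphisms `H₀ ⟶ G`, `H₀ ⟶ O_Z^m` which are isomorphisms over a nonempty open.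
-/

set_option autoImplicit false
universe u
open CategoryTheory Limits AlgebraicGeometry TopologicalSpace Opposite

namespace Groth.Agent.R2.H12.Dev

open Groth.Agent.Lib.Helper23.QCohLocal Groth.Agent.Lib.Helper2.Push Groth.Agent.Lib.Helper2.QCoh
  Groth.Agent.Lib.Helper23.FinType Groth.Agent.Lib.Helper23.ModLocal Groth.Agent.Lib.Helper23.Extend

attribute [local instance] restrictFunctor_isRightAdjoint

section Free
variable {X : Scheme.{u}}

/-- the free module of finite rank is coherent (helper79's argument). -/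
theorem isCoh_freeMod' (r : ℕ) : Coh.IsCoh (FlatMod.freeMod X r) := by
  have hfp := Groth.Agent.Lib.Helper2.LocFree.isFP_of_isFinLocFree _
    (Groth.Agent.Lib.Helper2.LocFree.isFinLocFree_of_iso_freeMod (FlatMod.freeMod X r) (Iso.refl _))
  exact ⟨Groth.Agent.Helper18Strict.isQCoh_of_isFP _ hfp,
    Groth.Agent.Helper18Strict.isFT_of_isFP _ hfp⟩

/-- `O_X` is a retract of `O_X^m` for `m > 0` -/
theorem exists_retract_freeMod (m : ℕ) (hm : 0 < m) :
    ∃ (s : Coh.structureModule X ⟶ FlatMod.freeMod X m) (r : FlatMod.freeMod X m ⟶ Coh.structureModule X),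
      s ≫ r = 𝟙 _ := by
  classical
  refine ⟨Sigma.ι (fun _ : Fin m => Coh.structureModule X) ⟨0, hm⟩,
    Sigma.desc (fun k => if k = ⟨0, hm⟩ then 𝟙 _ else 0), ?_⟩
  rw [Sigma.ι_desc, if_pos rfl]

/-- in a pullback square, the projection opposite to a morphism which is an isomorphism over `D` is an isomorphism
over `D` -/
theorem isoOn_pullback_fst {A B Q : X.Modules} (f : A ⟶ Q) (g : B ⟶ Q) {D : X.Opens} (hg : IsoOn g D) :
    IsoOn (pullback.fst f g) D := by
  have hpb : IsPullback (pullback.fst f g) (pullback.snd f g) f g := IsPullback.of_hasPullback _ _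
  have hpb' := hpb.map (Scheme.Modules.restrictFunctor D.ι)
  have : IsIso ((Scheme.Modules.restrictFunctor D.ι).map g) := by
    rw [isIso_restrict_iff, Scheme.Opens.opensRange_ι]; exact hg
  have h := hpb'.isIso_fst_of_isIso
  rw [isIso_restrict_iff, Scheme.Opens.opensRange_ι] at h
  exact h

theorem isoOn_pullback_snd {A B Q : X.Modules} (f : A ⟶ Q) (g : B ⟶ Q) {D : X.Opens} (hf : IsoOn f D) :
    IsoOn (pullback.snd f g) D := by
  have hpb : IsPullback (pullback.fst f g) (pullback.snd f g) f g := IsPullback.of_hasPullback _ _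
  have hpb' := hpb.map (Scheme.Modules.restrictFunctor D.ι)
  have : IsIso ((Scheme.Modules.restrictFunctor D.ι).map f) := by
    rw [isIso_restrict_iff, Scheme.Opens.opensRange_ι]; exact hf
  have h := hpb'.isIso_snd_of_isIso
  rw [isIso_restrict_iff, Scheme.Opens.opensRange_ι] at h
  exact h

/-- the unit `A ⟶ j_* j^* A` is an isomorphism over the range of `j` -/
theorem isoOn_unitJ {W : Scheme.{u}} (j : W ⟶ X) [IsOpenImmersion j] (A : X.Modules) :
    IsoOn (unitJ j A) j.opensRange :=
  (isIso_restrict_iff j (unitJ j A)).1 (isIso_restrict_unitJ j A)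

end Free

section Zigzag
variable {Z : Scheme.{u}} [IsIntegral Z] [IsNoetherian Z]

theorem exists_zigzag_free (G : Z.Modules) (hG : Coh.IsCoh G) (hξ : genericPoint Z ∈ CohB1.support G) :
    ∃ (m : ℕ) (_ : 0 < m) (H₀ : Z.Modules) (pG : H₀ ⟶ G) (pE : H₀ ⟶ FlatMod.freeMod Z m) (D : Z.Opens),
      Coh.IsCoh H₀ ∧ (D : Set Z).Nonempty ∧ IsoOn pG D ∧ IsoOn pE D := by
  have hGq : G.IsQuasicoherent := hG.1
  have hGf : SheafOfModules.IsFiniteType (R := Z.ringCatSheaf) G := hG.2
  have hGfp : SheafOfModules.IsFinitePresentation (R := Z.ringCatSheaf) G :=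
    isFinitePresentation_of_isFiniteType G
  have hflat : FlatMod.IsFlatAt G (genericPoint Z) := by
    change Module.Flat (Z.functionField) (G.presheaf.stalk (genericPoint Z))
    infer_instance
  obtain ⟨D, m, hξD, ⟨e⟩⟩ :=
    Groth.Agent.Lib.Helper2.LocFree.exists_restrict_iso_freeMod_of_isFlatAt G (genericPoint Z) hflat
  have hm : 0 < m := by
    by_contra hm0
    have hm0' : m = 0 := by omega
    subst hm0'
    have hz : IsZero (FlatMod.freeMod (D : Scheme.{u}) 0) := by
      rw [IsZero.iff_id_eq_zero]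
      apply Sigma.hom_ext
      intro k
      exact k.elim0
    have hz' : IsZero (G.restrict D.ι) := hz.of_iso e
    have hv : VanOn G D := by
      have := vanOn_of_isZero_restrict D.ι G hz'
      rwa [Scheme.Opens.opensRange_ι] at this
    apply hξ
    refine Groth.Agent.Lib.Helper23.Support.subsingleton_stalk_of_forall_res_eq_zero G _ fun W hW s => ?_
    exact ⟨W ⊓ D, inf_le_left, ⟨hW, hξD⟩, hv _ inf_le_right _⟩
  let E := FlatMod.freeMod Z m
  have hEc : Coh.IsCoh E := isCoh_freeMod' m
  have hEq : E.IsQuasicoherent := hEc.1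
  have hEf : SheafOfModules.IsFiniteType (R := Z.ringCatSheaf) E := hEc.2
  let θ : E.restrict D.ι ≅ G.restrict D.ι :=
    Groth.Agent.Lib.Helper20.LocFree.restrictFreeMod D.ι m ≪≫ e.symm
  let a : E ⟶ (Scheme.Modules.pushforward D.ι).obj (G.restrict D.ι) :=
    unitJ D.ι E ≫ (Scheme.Modules.pushforward D.ι).map θ.hom
  have ha : IsoOn a D := by
    have h1 := isoOn_unitJ D.ι E
    rw [Scheme.Opens.opensRange_ι] at h1
    refine h1.comp fun W' _ => ?_
    infer_instance
  have hη : IsoOn (unitJ D.ι G) D := by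
    have h1 := isoOn_unitJ D.ι G
    rwa [Scheme.Opens.opensRange_ι] at h1
  have hQq : ((Scheme.Modules.pushforward D.ι).obj (G.restrict D.ι)).IsQuasicoherent :=
    isQuasicoherent_pushforward D.ι _
  have hHq : (pullback (unitJ D.ι G) a).IsQuasicoherent := isQuasicoherent_pullback _ _
  have hGEq : (G ⊞ E : Z.Modules).IsQuasicoherent := isQuasicoherent_biprod G E
  have hGEf : SheafOfModules.IsFiniteType (R := Z.ringCatSheaf) (G ⊞ E : Z.Modules) :=
    Groth.Agent.Lib.Helper23.FTsub.isFiniteType_biprod G E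
  have hmono : Mono (biprod.lift (pullback.fst (unitJ D.ι G) a) (pullback.snd (unitJ D.ι G) a)) := by
    constructor
    intro T x y hxy
    apply pullback.hom_ext
    · have := congrArg (· ≫ biprod.fst) hxy
      simpa using this
    · have := congrArg (· ≫ biprod.snd) hxy
      simpa using this
  have hHc : Coh.IsCoh (pullback (unitJ D.ι G) a) :=
    ⟨hHq, isFiniteType_of_mono (biprod.lift (pullback.fst (unitJ D.ι G) a) (pullback.snd (unitJ D.ι G) a))⟩
  exact ⟨m, hm, pullback (unitJ D.ι G) a, pullback.fst _ _, pullback.snd _ _, D, hHc, ⟨_, hξD⟩,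
    isoOn_pullback_fst _ _ ha, isoOn_pullback_snd _ _ hη⟩

end Zigzag

end Groth.Agent.R2.H12.Dev
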