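import Mathlib
import Groth.Prelude.Def_Coh
import Groth.Agent.Lib.Helper23QCohExt
import Groth.Agent.Lib.Helper23FinTypeLocal

/-!
# Coherent modules on a locally Noetherian scheme form a thick subcategory (helper5, round 2)

* `isFiniteType_of_shortExact`: extensions of quasi-coherent modules of finite type are of finite type.
* the class `Coh.IsCoh` on a locally Noetherian scheme is closed under isomorphisms, contains zero and is closed
  under kernels, cokernels and extensions.
-/

set_option autoImplicit false
set_option linter.style.haveILetI false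
universe u
open CategoryTheory Limits AlgebraicGeometry TopologicalSpace Opposite ZeroObject

namespace Groth.Agent.R2.H5.CohThick

open Groth.Agent.Lib.Helper23.QCohLocal Groth.Agent.Lib.Helper23.FinType

variable {X : Scheme.{u}}

attribute [local instance] restrictFunctor_isRightAdjoint

/-- an extension of quasi-coherent modules of finite type is of finite type -/
theorem isFiniteType_of_shortExact (S : ShortComplex X.Modules) (hS : S.ShortExact)
    (h1 : S.X₁.IsQuasicoherent) (h3 : S.X₃.IsQuasicoherent)
    (f1 : SheafOfModules.IsFiniteType (R := X.ringCatSheaf) S.X₁)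
    (f3 : SheafOfModules.IsFiniteType (R := X.ringCatSheaf) S.X₃) :
    SheafOfModules.IsFiniteType (R := X.ringCatSheaf) S.X₂ := by
  haveI h2 : S.X₂.IsQuasicoherent := isQuasicoherent_of_shortExact S hS h1 h3
  refine isFiniteType_of_finite_ΓU S.X₂ (fun V : X.affineOpens => (V : X.Opens))
    (iSup_affineOpens_eq_top X) (fun V => V.2) (fun V => ?_)
  have hV : IsAffineOpen (V : X.Opens) := V.2
  haveI : (Scheme.Modules.restrictFunctor hV.fromSpec).Additive := inferInstance
  have hS' : (S.map (Scheme.Modules.restrictFunctor hV.fromSpec)).ShortExact :=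
    hS.map_of_exact (Scheme.Modules.restrictFunctor hV.fromSpec)
  have hΓ := shortExact_Γ_of_isQuasicoherent Γ(X, (V : X.Opens)) _ hS'
    (Scheme.Modules.isQuasicoherent_restrictFunctor hV.fromSpec S.X₁)
  have i1 : Module.Finite Γ(X, (V : X.Opens)) (ΓU S.X₁ hV) :=
    (finite_ΓU_iff S.X₁ hV).2 (finite_of_isFiniteType S.X₁ hV)
  have i3 : Module.Finite Γ(X, (V : X.Opens)) (ΓU S.X₃ hV) :=
    (finite_ΓU_iff S.X₃ hV).2 (finite_of_isFiniteType S.X₃ hV)
  have hex := (ShortComplex.ShortExact.moduleCat_exact_iff_function_exact _).1 hΓ.exact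
  have hsurj := (ModuleCat.epi_iff_surjective _).1 hΓ.epi_g
  exact @Module.Finite.of_exact _ _ _ _ _ _ _ _ _ _ _ _ _ hex hsurj i1 i3

end Groth.Agent.R2.H5.CohThick

namespace Groth.Agent.R2.H5.CohThick

open Groth.Agent.Lib.Helper23.QCohLocal Groth.Agent.Lib.Helper23.FinType

variable (X : Scheme.{u})

/-- the class of coherent (= quasi-coherent of finite type) modules -/
abbrev cohP : ObjectProperty X.Modules := fun M => Coh.IsCoh M

instance cohP_isClosedUnderIsomorphisms : (cohP X).IsClosedUnderIsomorphisms where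
  of_iso := by
    rintro M N e ⟨hq, hf⟩
    exact ⟨(SheafOfModules.isQuasicoherent X.ringCatSheaf).prop_of_iso e hq,
      isFiniteType_of_iso e⟩

theorem isQuasicoherent_structureModule : (Coh.structureModule X).IsQuasicoherent := by
  unfold Coh.structureModule
  have h : (SheafOfModules.free (R := X.ringCatSheaf) PUnit.{u+1}).IsQuasicoherent := inferInstance
  exact (SheafOfModules.isQuasicoherent X.ringCatSheaf).prop_of_iso
    (coproductUniqueIso (fun (_ : PUnit.{u+1}) ↦ SheafOfModules.unit X.ringCatSheaf)) h

theorem isCoh_structureModule : Coh.IsCoh (Coh.structureModule X) := by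
  haveI := isQuasicoherent_structureModule X
  refine ⟨inferInstance, ?_⟩
  refine isFiniteType_of_finite (Coh.structureModule X) (fun V : X.affineOpens => (V : X.Opens))
    (iSup_affineOpens_eq_top X) (fun V => V.2) (fun V => ?_)
  exact inferInstanceAs (Module.Finite Γ(X, (V : X.Opens)) Γ(X, (V : X.Opens)))

theorem isCoh_of_isZero {Z : X.Modules} (hZ : IsZero Z) : Coh.IsCoh Z := by
  obtain ⟨hq, hf⟩ := isCoh_structureModule X
  haveI : (Coh.structureModule X).IsQuasicoherent := hq
  haveI : SheafOfModules.IsFiniteType (R := X.ringCatSheaf) (Coh.structureModule X) := hf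
  have hk : IsZero (kernel (𝟙 (Coh.structureModule X))) := by
    rw [IsZero.iff_id_eq_zero, ← cancel_mono (kernel.ι (𝟙 (Coh.structureModule X)))]
    have := kernel.condition (𝟙 (Coh.structureModule X))
    rw [Category.comp_id] at this
    rw [this, zero_comp, Category.id_comp]
  have hq' : (kernel (𝟙 (Coh.structureModule X))).IsQuasicoherent := isQuasicoherent_kernel _
  have hqZ : Z.IsQuasicoherent :=
    (SheafOfModules.isQuasicoherent X.ringCatSheaf).prop_of_iso (hk.iso hZ) hq'
  haveI := hqZ
  haveI : Epi (0 : Coh.structureModule X ⟶ Z) := ⟨fun g h _ => hZ.eq_of_src g h⟩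
  exact ⟨hqZ, isFiniteType_of_epi (0 : Coh.structureModule X ⟶ Z)⟩

instance cohP_containsZero : (cohP X).ContainsZero where
  exists_zero := ⟨0, isZero_zero _, isCoh_of_isZero X (isZero_zero _)⟩

instance cohP_isClosedUnderCokernels : (cohP X).IsClosedUnderCokernels where
  cokernels_le := by
    rintro _ ⟨f, k, hk, ⟨⟨hq1, hf1⟩, ⟨hq2, hf2⟩⟩⟩
    haveI := hq1; haveI := hq2; haveI := hf1; haveI := hf2
    have hq : (cokernel f).IsQuasicoherent := isQuasicoherent_cokernel f
    haveI := hq
    have hf := isFiniteType_of_epi (cokernel.π f)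
    let e : cokernel f ≅ k.pt := (colimit.isColimit _).coconePointUniqueUpToIso hk
    exact (cohP X).prop_of_iso e ⟨hq, hf⟩

instance cohP_isClosedUnderKernels [IsLocallyNoetherian X] : (cohP X).IsClosedUnderKernels where
  kernels_le := by
    rintro _ ⟨f, k, hk, ⟨⟨hq1, hf1⟩, ⟨hq2, hf2⟩⟩⟩
    haveI := hq1; haveI := hq2; haveI := hf1; haveI := hf2
    have hq : (kernel f).IsQuasicoherent := isQuasicoherent_kernel f
    haveI := hq
    have hf := isFiniteType_of_mono (kernel.ι f)
    let e : kernel f ≅ k.pt := (limit.isLimit _).conePointUniqueUpToIso hk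
    exact (cohP X).prop_of_iso e ⟨hq, hf⟩

instance cohP_isClosedUnderExtensions : (cohP X).IsClosedUnderExtensions where
  prop_X₂_of_shortExact := by
    rintro S hS ⟨hq1, hf1⟩ ⟨hq3, hf3⟩
    exact ⟨isQuasicoherent_of_shortExact S hS hq1 hq3,
      isFiniteType_of_shortExact S hS hq1 hq3 hf1 hf3⟩

end Groth.Agent.R2.H5.CohThick
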