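import Mathlib
import Groth.Prelude.Def_Coh
import Groth.Prelude.Def_CohB1
import Groth.Prelude.Def_Pic

/-!
# Interface for the E-core of coh-core (helper62)

Named `Prop`s for the packages from which finiteness of coherent cohomology of a proper scheme
over a Noetherian ring (`S0002`) is assembled in `R2/H62ECore.lean`:

* `StrongDevissage X`   (E1, helper12): EGA III 3.1.2/3.1.3 = Stacks 01YI, for a Noetherian scheme `X`;
* `LerayLinear A`       (E6/E7, helper70): `H^p(Z, π_* L) ≃ₗ[A] H^p(Y, L)` when `R^q π_* L = 0` for `q > 0`;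
* `ProjFinite A`        (E3, helper70): finiteness for closed subschemes of `P^n_A` (`A` Noetherian);
* `ProjPushGood π`, `RelSerre` (E4+E5, helper85): for `π : Y ⟶ Z` with a closed immersion `Y ⟶ P^n_Z` over a
  Noetherian `Z` there is an invertible `L` on `Y` with `π_* L` coherent and `R^q π_* L = 0` for `q > 0`
  (take `L = O_Y(m)`, `m ≫ 0`: relative Serre vanishing + coherence of direct images).
-/

set_option autoImplicit false
universe u

open CategoryTheory CategoryTheory.Limits AlgebraicGeometry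

namespace Groth.Agent.R2.H62.ECore

/-- **(E1) strong dévissage** (EGA III 3.1.2 + 3.1.3; Stacks 01YI).  True for `X` Noetherian. -/
def StrongDevissage (X : Scheme.{u}) : Prop :=
  ∀ P : X.Modules → Prop,
    (∀ M N : X.Modules, Nonempty (M ≅ N) → P M → P N) →
    (∀ M : X.Modules, IsZero M → P M) →
    (∀ S : ShortComplex X.Modules, S.ShortExact → Coh.IsCoh S.X₁ → Coh.IsCoh S.X₂ → Coh.IsCoh S.X₃ →
      (P S.X₁ → P S.X₃ → P S.X₂) ∧ (P S.X₁ → P S.X₂ → P S.X₃) ∧ (P S.X₂ → P S.X₃ → P S.X₁)) →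
    (∀ M N : X.Modules, Coh.IsCoh M → Coh.IsCoh N → P (M ⊞ N) → P M) →
    (∀ (Z : Scheme.{u}) (i : Z ⟶ X) [IsClosedImmersion i] [IsIntegral Z],
      ∃ G : Z.Modules, Coh.IsCoh G ∧ genericPoint Z ∈ CohB1.support G ∧ P ((Coh.push i).obj G)) →
    ∀ M : X.Modules, Coh.IsCoh M → P M

/-- **(E6) degenerate Leray, `A`-linear**: if the higher direct images of (the underlying abelian sheaf of)
`L` along `π` vanish, then `H^p(Z, π_* L) ≃ₗ[A] H^p(Y, L)`.  (With `S0028` this contains the `A`-linear form of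
`S0012` for affine morphisms, in particular closed immersions: E7.) -/
def LerayLinear (A : Type u) [CommRing A] : Prop :=
  ∀ (Y Z : Scheme.{u}) [Y.Over (Spec (CommRingCat.of A))] [Z.Over (Spec (CommRingCat.of A))]
    (π : Y ⟶ Z) [π.IsOver (Spec (CommRingCat.of A))] (L : Y.Modules),
    (∀ q : ℕ, 0 < q → IsZero ((Coh.RpushAb π q).obj (Coh.toAb L))) →
    ∀ p : ℕ, Nonempty (Coh.HH Z ((Coh.push π).obj L) p ≃ₗ[A] Coh.HH Y L p)

/-- **(E3) PROJ-FIN**: coherent cohomology of a closed subscheme of `P^n_A = ProjSpaceOver n (Spec A)` is finite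
over `A`.  True for `A` Noetherian. -/
def ProjFinite (A : Type u) [CommRing A] : Prop :=
  ∀ (n : ℕ) (Y : Scheme.{u}) [Y.Over (Spec (CommRingCat.of A))]
    (j : Y ⟶ CohB1.ProjSpaceOver n (Spec (CommRingCat.of A))) [IsClosedImmersion j],
    j ≫ CohB1.ProjSpaceOver.toBase n (Spec (CommRingCat.of A)) = Y ↘ Spec (CommRingCat.of A) →
    ∀ F : Y.Modules, Coh.IsCoh F → ∀ p : ℕ, Module.Finite A (Coh.HH Y F p)

/-- There is an invertible module `L` on `Y` with `π_* L` coherent and `R^q π_* L = 0` for `q > 0`. -/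
def ProjPushGood {Y Z : Scheme.{u}} (π : Y ⟶ Z) : Prop :=
  ∃ L : Y.Modules, Coh.IsCoh L ∧ PicF.IsInvertible L ∧ Coh.IsCoh ((Coh.push π).obj L) ∧
    ∀ q : ℕ, 0 < q → IsZero ((Coh.RpushAb π q).obj (Coh.toAb L))

/-- **(E4+E5) relative Serre vanishing + coherence of direct images for projective morphisms**: for
`π : Y ⟶ Z` factoring through a closed immersion into `P^n_Z`, `Z` Noetherian. -/
def RelSerre : Prop :=
  ∀ (Z : Scheme.{u}) [IsNoetherian Z] (Y : Scheme.{u}) (π : Y ⟶ Z) (n : ℕ)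
    (j : Y ⟶ CohB1.ProjSpaceOver n Z) [IsClosedImmersion j],
    j ≫ CohB1.ProjSpaceOver.toBase n Z = π → ProjPushGood π

end Groth.Agent.R2.H62.ECore
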