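import Mathlib
import Groth.Agent.R2.H12Dev3B
import Groth.Agent.R2.H62ECoreSpec
import Groth.Agent.S0019
import Groth.Agent.R2.H5CohThick

/-!
# Strong devissage (EGA III 3.1.2/3.1.3), part C: the theorem (helper12)

* `strong_devissage_core`: relative version (modules vanishing on an open `W₀`, summands in retract form);
* `strongDevissage : Groth.Agent.R2.H62.ECore.StrongDevissage X` for `X` Noetherian.
-/

set_option autoImplicit false
universe u
open CategoryTheory Limits AlgebraicGeometry TopologicalSpace Opposite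

namespace Groth.Agent.R2.H12.Dev

open Groth.Agent.Lib.Helper23.QCohLocal Groth.Agent.Lib.Helper2.Push Groth.Agent.Lib.Helper2.QCoh
  Groth.Agent.Lib.Helper23.FinType Groth.Agent.Lib.Helper23.ModLocal Groth.Agent.Lib.Helper23.Extend

theorem isNoetherian_of_isClosedImmersion {X Z : Scheme.{u}} (i : Z ⟶ X) [IsClosedImmersion i]
    [IsNoetherian X] : IsNoetherian Z := by
  have h1 : IsLocallyNoetherian Z := LocallyOfFiniteType.isLocallyNoetherian i
  have h2 : CompactSpace Z := i.isClosedEmbedding.compactSpace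
  exact { }

section Push
variable {X Z : Scheme.{u}} (i : Z ⟶ X)

theorem vanOn_push_of_preimage_eq_bot (A : Z.Modules) (W : X.Opens) (hW : i ⁻¹ᵁ W = ⊥) :
    VanOn ((Scheme.Modules.pushforward i).obj A) W := by
  intro W' hW' s
  have h1 : i ⁻¹ᵁ W' = ⊥ := le_bot_iff.1 (hW ▸ (Scheme.Hom.preimage_mono i hW'))
  refine Groth.Agent.Lib.Helper2.QcPush.section_eq_zero_of_cover A (i ⁻¹ᵁ W') s fun x hx => ?_
  have hx' : x ∈ (⊥ : Z.Opens) := h1 ▸ hx
  exact absurd hx' (by simp)

theorem isoOn_push {A B : Z.Modules} (u : A ⟶ B) (D : Z.Opens) (hu : IsoOn u D) (W : X.Opens)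
    (hW : i ⁻¹ᵁ W ≤ D) : IsoOn ((Scheme.Modules.pushforward i).map u) W := fun W' hW' => by
  have h := hu (i ⁻¹ᵁ W') ((Scheme.Hom.preimage_mono i hW').trans hW)
  exact h

end Push

section Core
variable {X : Scheme.{u}} [IsNoetherian X] (P : X.Modules → Prop)
  (hiso : ∀ M N : X.Modules, Nonempty (M ≅ N) → P M → P N)
  (hex : ∀ S : ShortComplex X.Modules, S.ShortExact → Coh.IsCoh S.X₁ → Coh.IsCoh S.X₂ → Coh.IsCoh S.X₃ →
    (P S.X₁ → P S.X₃ → P S.X₂) ∧ (P S.X₁ → P S.X₂ → P S.X₃) ∧ (P S.X₂ → P S.X₃ → P S.X₁))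

include hiso hex in
/-- generic comparison for pushforwards from a closed subscheme -/
theorem transfer_push {Z : Scheme.{u}} (i : Z ⟶ X) [IsClosedImmersion i] (W : X.Opens) (hW : i ⁻¹ᵁ W = ⊥)
    (IH : ∀ W' : X.Opens, W < W' → ∀ M : X.Modules, Coh.IsCoh M → VanOn M W' → P M)
    {A B : Z.Modules} (hA : Coh.IsCoh A) (hB : Coh.IsCoh B) (u : A ⟶ B) (D : Z.Opens)
    (hD : (D : Set Z).Nonempty) (hu : IsoOn u D) :
    P ((Scheme.Modules.pushforward i).obj A) ↔ P ((Scheme.Modules.pushforward i).obj B) := by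
  have hA' : Coh.IsCoh ((Scheme.Modules.pushforward i).obj A) := Groth.Agent.S0019.result i A hA
  have hB' : Coh.IsCoh ((Scheme.Modules.pushforward i).obj B) := Groth.Agent.S0019.result i B hB
  obtain ⟨t, ht, hDt⟩ := i.isEmbedding.isInducing.isOpen_iff.mp D.isOpen
  have hWD : i ⁻¹ᵁ (⟨t, ht⟩ : X.Opens) = D := Opens.ext hDt
  have hu' : IsoOn ((Scheme.Modules.pushforward i).map u) ⟨t, ht⟩ := isoOn_push i u D hu _ hWD.le
  have hlt : W < W ⊔ ⟨t, ht⟩ := by
    refine lt_of_le_of_ne le_sup_left fun heq => ?_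
    obtain ⟨z, hz⟩ := hD
    have h1 : i z ∈ (⟨t, ht⟩ : X.Opens) := by
      have : z ∈ i ⁻¹ᵁ (⟨t, ht⟩ : X.Opens) := hWD ▸ hz
      exact this
    have h2 : i z ∈ W := by
      rw [heq]; exact Or.inr h1
    have h3 : z ∈ i ⁻¹ᵁ W := h2
    rw [hW] at h3
    exact absurd h3 (by simp)
  have hvA := vanOn_push_of_preimage_eq_bot i A W hW
  have hvB := vanOn_push_of_preimage_eq_bot i B W hW
  have hk : P (kernel ((Scheme.Modules.pushforward i).map u)) :=
    IH _ hlt _ (isCoh_kernel hA' hB' _)
      ((hvA.of_mono (kernel.ι _)).sup (vanOn_kernel_of_isoOn _ hu'))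
  have hc : P (cokernel ((Scheme.Modules.pushforward i).map u)) :=
    IH _ hlt _ (isCoh_cokernel hA' hB' _)
      ((hvB.of_epi (cokernel.π _)).sup (vanOn_cokernel_of_isoOn _ hu'))
  exact transfer P hiso hex hA' hB' _ hk hc

include hiso hex in
/-- the main step: `P (i_* I)` for every nonzero quasi-coherent ideal `I` of the integral closed subscheme `Z`, given
one coherent `G` on `Z` with nonzero generic stalk and `P (i_* G)`, and `P` for all coherent modules vanishing on
strictly larger opens. -/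
theorem push_ideal
    (hsum : ∀ (M N : X.Modules) (s : N ⟶ M) (r : M ⟶ N), s ≫ r = 𝟙 N → Coh.IsCoh M → Coh.IsCoh N → P M → P N)
    {Z : Scheme.{u}} (i : Z ⟶ X) [IsClosedImmersion i] [IsIntegral Z] (W : X.Opens) (hW : i ⁻¹ᵁ W = ⊥)
    (IH : ∀ W' : X.Opens, W < W' → ∀ M : X.Modules, Coh.IsCoh M → VanOn M W' → P M)
    (G : Z.Modules) (hG : Coh.IsCoh G) (hξ : genericPoint Z ∈ CohB1.support G)
    (hPG : P ((Scheme.Modules.pushforward i).obj G))
    (I : Z.Modules) (ι : I ⟶ Coh.structureModule Z) [Mono ι] (hIq : Coh.IsQCoh I) (hI0 : ¬ IsZero I) :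
    P ((Scheme.Modules.pushforward i).obj I) := by
  have hZN : IsNoetherian Z := isNoetherian_of_isClosedImmersion i
  obtain ⟨m, hm, H₀, pG, pE, D, hH₀, hD, hpG, hpE⟩ := exists_zigzag_free G hG hξ
  have hE : Coh.IsCoh (FlatMod.freeMod Z m) := isCoh_freeMod' m
  have h1 : P ((Scheme.Modules.pushforward i).obj H₀) :=
    (transfer_push P hiso hex i W hW IH hH₀ hG pG D hD hpG).2 hPG
  have h2 : P ((Scheme.Modules.pushforward i).obj (FlatMod.freeMod Z m)) :=
    (transfer_push P hiso hex i W hW IH hH₀ hE pE D hD hpE).1 h1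
  have hO : Coh.IsCoh (Coh.structureModule Z) := Groth.Agent.R2.H5.CohThick.isCoh_structureModule Z
  obtain ⟨s, r, hsr⟩ := exists_retract_freeMod (X := Z) m hm
  have h3 : P ((Scheme.Modules.pushforward i).obj (Coh.structureModule Z)) :=
    hsum _ _ ((Scheme.Modules.pushforward i).map s) ((Scheme.Modules.pushforward i).map r)
      (by rw [← Functor.map_comp, hsr, CategoryTheory.Functor.map_id])
      (Groth.Agent.S0019.result i _ hE) (Groth.Agent.S0019.result i _ hO) h2
  have hIc : Coh.IsCoh I := Groth.Agent.S0046.result Z _ I ι hO hIq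
  obtain ⟨D', hD', hι⟩ := exists_isoOn_of_ideal ι hI0
  exact (transfer_push P hiso hex i W hW IH hIc hO ι D' hD' hι).2 h3

include hiso hex in
/-- **Strong devissage, relative form** (EGA III 3.1.2 + 3.1.3): `P` is closed under isomorphisms, contains `0`,
satisfies 2-out-of-3 on short exact sequences of coherent modules and is closed under coherent retracts; if for every
integral closed subscheme `Z` not meeting the open `W₀` there is a coherent `G` on `Z` with nonzero generic stalk and
`P (i_* G)`, then `P` holds for every coherent module vanishing on `W₀`. -/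
theorem strong_devissage_core
    (h0 : ∀ M : X.Modules, IsZero M → P M)
    (hsum : ∀ (M N : X.Modules) (s : N ⟶ M) (r : M ⟶ N), s ≫ r = 𝟙 N → Coh.IsCoh M → Coh.IsCoh N → P M → P N)
    (W₀ : X.Opens)
    (hgen : ∀ (Z : Scheme.{u}) (i : Z ⟶ X) [IsClosedImmersion i] [IsIntegral Z], i ⁻¹ᵁ W₀ = ⊥ →
      ∃ G : Z.Modules, Coh.IsCoh G ∧ genericPoint Z ∈ CohB1.support G ∧ P ((Coh.push i).obj G))
    (M : X.Modules) (hM : Coh.IsCoh M) (hMW : VanOn M W₀) : P M := by
  have key : ∀ W : X.Opens, W₀ ≤ W → ∀ M : X.Modules, Coh.IsCoh M → VanOn M W → P M := by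
    intro W
    induction W using WellFoundedGT.induction with
    | ind W IH =>
      intro hW₀ M hM hMW
      have IH' : ∀ W' : X.Opens, W < W' → ∀ M : X.Modules, Coh.IsCoh M → VanOn M W' → P M :=
        fun W' hW' => IH W' hW' (hW₀.trans hW'.le)
      obtain ⟨m, hm⟩ := exists_chain_eq_top hM
      have hcoh : ∀ j, Coh.IsCoh (chain hM j : X.Modules) := fun j =>
        Groth.Agent.S0046.result X M _ (chain hM j).arrow hM (qcoh_chain hM j)
      have hall : ∀ j, P (chain hM j : X.Modules) := by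
        intro j
        induction j with
        | zero => exact h0 _ (isZero_bot M)
        | succ j ih =>
          by_cases hne : chain hM j = ⊤
          · have heq : chain hM (j + 1) = chain hM j := stepFn_of_not hM _ (fun h => h.2 hne)
            rw [heq]; exact ih
          · obtain ⟨hle, -, Z, i, hi, hZ, I, ι, hι, hIq, hI0, ⟨e⟩⟩ := chain_isStep hM j hne
            have hc3 : Coh.IsCoh (cokernel ((chain hM j).ofLE _ hle)) :=
              isCoh_cokernel (hcoh j) (hcoh (j + 1)) _
            have hv2 : VanOn (chain hM (j + 1) : X.Modules) W := hMW.of_mono (chain hM (j + 1)).arrow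
            have hv3 : VanOn (cokernel ((chain hM j).ofLE _ hle)) W := hv2.of_epi (cokernel.π _)
            have hvI : VanOn ((Scheme.Modules.pushforward i).obj I) W := hv3.of_iso e
            have hiW : i ⁻¹ᵁ W = ⊥ := preimage_eq_bot_of_vanOn i ι hI0 hvI
            have hiW₀ : i ⁻¹ᵁ W₀ = ⊥ := le_bot_iff.1 (hiW ▸ Scheme.Hom.preimage_mono i hW₀)
            obtain ⟨G, hG, hξ, hPG⟩ := hgen Z i hiW₀
            have hPI : P ((Scheme.Modules.pushforward i).obj I) :=
              push_ideal P hiso hex hsum i W hiW IH' G hG hξ hPG I ι hIq hI0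
            have hPc : P (cokernel ((chain hM j).ofLE _ hle)) := hiso _ _ ⟨e.symm⟩ hPI
            have hS : (ShortComplex.mk ((chain hM j).ofLE _ hle) (cokernel.π _)
                (cokernel.condition _)).ShortExact :=
              ShortComplex.ShortExact.mk' (ShortComplex.exact_cokernel _) inferInstance inferInstance
            exact (hex _ hS (hcoh j) (hcoh (j + 1)) hc3).1 ih hPc
      have hiso' : IsIso (chain hM m).arrow := (Subobject.isIso_arrow_iff_eq_top _).2 hm
      exact hiso _ _ ⟨asIso (chain hM m).arrow⟩ (hall m)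
  exact key W₀ le_rfl M hM hMW

end Core

/-- **(E1) strong devissage** in helper62's interface shape. -/
theorem strongDevissage (X : Scheme.{u}) [IsNoetherian X] : Groth.Agent.R2.H62.ECore.StrongDevissage X := by
  intro P hiso h0 hex hsum' hgen M hM
  refine strong_devissage_core P hiso hex h0 ?_ ⊥ (fun Z i _ _ _ => hgen Z i) M hM ?_
  · intro M N s r hsr hMc hNc hPM
    have hS : (ShortComplex.mk s (cokernel.π s) (cokernel.condition s)).Exact :=
      ShortComplex.exact_cokernel s
    have e : M ≅ N ⊞ cokernel s :=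
      (ShortComplex.Splitting.ofExactOfRetraction
        (ShortComplex.mk s (cokernel.π s) (cokernel.condition s)) hS r hsr inferInstance).isoBinaryBiproduct
    exact hsum' N (cokernel s) hNc (isCoh_cokernel hNc hMc s) (hiso _ _ ⟨e⟩ hPM)
  · intro W' hW' s
    have hbot : W' = ⊥ := le_bot_iff.1 hW'
    subst hbot
    exact eq_zero_of_bot M s

end Groth.Agent.R2.H12.Dev
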