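import Mathlib
import Groth.Prelude.Def_Coh
import Groth.Agent.R2.H62CohDelta

/-!
# Finiteness and vanishing in the long exact sequence of `Coh.HH` (helper62; coh-core B1)
-/

set_option autoImplicit false
set_option linter.style.haveILetI false
universe u

open CategoryTheory CategoryTheory.Limits AlgebraicGeometry Opposite TopologicalSpace Abelian

namespace Groth.Agent.R2.H62.CohLES

open Groth.Agent.R2.H62.ExtLES

variable {X : Scheme.{u}} {S : ShortComplex X.Modules} (hS : S.ShortExact)

section vanishing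

include hS in
theorem subsingleton_X₂ (n : ℕ) [Subsingleton (Coh.HH X S.X₁ n)] [Subsingleton (Coh.HH X S.X₃ n)] :
    Subsingleton (Coh.HH X S.X₂ n) :=
  subsingleton_of_exact (exact_f_g hS n)

include hS in
theorem subsingleton_X₃ (n : ℕ) [Subsingleton (Coh.HH X S.X₂ n)]
    [Subsingleton (Coh.HH X S.X₁ (n + 1))] : Subsingleton (Coh.HH X S.X₃ n) :=
  subsingleton_of_exact (exact_g_δ hS n)

include hS in
theorem subsingleton_X₁ (n : ℕ) [Subsingleton (Coh.HH X S.X₃ n)]
    [Subsingleton (Coh.HH X S.X₂ (n + 1))] : Subsingleton (Coh.HH X S.X₁ (n + 1)) :=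
  subsingleton_of_exact (exact_δ_f hS n)

include hS in
theorem HHmap_f_surjective (n : ℕ) [Subsingleton (Coh.HH X S.X₃ n)] :
    Function.Surjective (HHmap S.f n) :=
  surjective_of_exact_of_subsingleton (exact_f_g hS n)

include hS in
theorem HHmap_g_injective (n : ℕ) [Subsingleton (Coh.HH X S.X₁ n)] :
    Function.Injective (HHmap S.g n) :=
  injective_of_exact_of_subsingleton (exact_f_g hS n)

include hS in
theorem HHmap_g_surjective (n : ℕ) [Subsingleton (Coh.HH X S.X₁ (n + 1))] :
    Function.Surjective (HHmap S.g n) :=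
  surjective_of_exact_of_subsingleton (exact_g_δ hS n)

theorem δ_injective (n : ℕ) [Subsingleton (Coh.HH X S.X₂ n)] : Function.Injective (δ hS n) :=
  injective_of_exact_of_subsingleton (exact_g_δ hS n)

theorem δ_surjective (n : ℕ) [Subsingleton (Coh.HH X S.X₂ (n + 1))] :
    Function.Surjective (δ hS n) :=
  surjective_of_exact_of_subsingleton (exact_δ_f hS n)

include hS in
theorem HHmap_f_injective (n : ℕ) [Subsingleton (Coh.HH X S.X₃ n)] :
    Function.Injective (HHmap S.f (n + 1)) :=
  injective_of_exact_of_subsingleton (exact_δ_f hS n)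

end vanishing

section finiteness

variable (A : Type u) [CommRing A] [IsNoetherianRing A] [X.Over (Spec (CommRingCat.of A))]

include hS in
theorem finite_X₂ (n : ℕ) [Module.Finite A (Coh.HH X S.X₁ n)] [Module.Finite A (Coh.HH X S.X₃ n)] :
    Module.Finite A (Coh.HH X S.X₂ n) :=
  finite_of_exact (HHmapA A S.f n) (HHmapA A S.g n) (exact_f_g hS n)

include hS in
theorem finite_X₃ (n : ℕ) [Module.Finite A (Coh.HH X S.X₂ n)]
    [Module.Finite A (Coh.HH X S.X₁ (n + 1))] : Module.Finite A (Coh.HH X S.X₃ n) :=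
  finite_of_exact (HHmapA A S.g n) (δA hS A n) (exact_g_δ hS n)

include hS in
theorem finite_X₁ (n : ℕ) [Module.Finite A (Coh.HH X S.X₃ n)]
    [Module.Finite A (Coh.HH X S.X₂ (n + 1))] : Module.Finite A (Coh.HH X S.X₁ (n + 1)) :=
  finite_of_exact (δA hS A n) (HHmapA A S.f (n + 1)) (exact_δ_f hS n)

include hS in
theorem finite_X₁_zero [Module.Finite A (Coh.HH X S.X₂ 0)] : Module.Finite A (Coh.HH X S.X₁ 0) :=
  finite_of_injective' (HHmapA A S.f 0) (HHmap_f_zero_injective hS)

end finiteness

end Groth.Agent.R2.H62.CohLES
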