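import Mathlib
import Groth.Prelude.Def_CohB1

/-!
# Projective space over a scheme: functoriality in the base (helper87, coh-core package C2a)

* `map n h : P^n_T ⟶ P^n_S` for `h : T ⟶ S`, with `map_toBase`, `map_fst`, `map_id`, `map_comp`
* `isPullback_map` : the square `P^n_T → P^n_S`, `T → S` is cartesian
* `map n h` is an open immersion (closed immersion, ...) when `h` is
-/

set_option autoImplicit false
set_option backward.isDefEq.respectTransparency false

namespace Groth.Agent.R2.H87.ProjSpaceOver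

open CategoryTheory CategoryTheory.Limits AlgebraicGeometry

universe u

variable (n : ℕ)

/-- The projection `P^n_S ⟶ P^n_ℤ`. -/
noncomputable def toZ (S : Scheme.{u}) :
    CohB1.ProjSpaceOver n S ⟶ CohB1.ProjSpace n (ULift.{u} ℤ) :=
  pullback.fst _ _

theorem toZ_toSpec (S : Scheme.{u}) :
    toZ n S ≫ CohB1.ProjSpace.toSpec n (ULift.{u} ℤ) =
      CohB1.ProjSpaceOver.toBase n S ≫ specULiftZIsTerminal.from S :=
  pullback.condition

theorem isPullback_toZ (S : Scheme.{u}) :
    IsPullback (toZ n S) (CohB1.ProjSpaceOver.toBase n S)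
      (CohB1.ProjSpace.toSpec n (ULift.{u} ℤ)) (specULiftZIsTerminal.from S) :=
  IsPullback.of_hasPullback _ _

/-- Morphisms into `P^n_S` agree iff they agree after projecting to `P^n_ℤ` and to `S`. -/
theorem hom_ext {S W : Scheme.{u}} {a b : W ⟶ CohB1.ProjSpaceOver n S}
    (h₁ : a ≫ toZ n S = b ≫ toZ n S)
    (h₂ : a ≫ CohB1.ProjSpaceOver.toBase n S = b ≫ CohB1.ProjSpaceOver.toBase n S) : a = b :=
  pullback.hom_ext h₁ h₂

/-- A morphism to `P^n_ℤ` and a morphism to `S` give a morphism to `P^n_S`. -/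
noncomputable def lift {S W : Scheme.{u}} (a : W ⟶ CohB1.ProjSpace n (ULift.{u} ℤ)) (b : W ⟶ S) :
    W ⟶ CohB1.ProjSpaceOver n S :=
  pullback.lift a b (specULiftZIsTerminal.hom_ext _ _)

@[reassoc (attr := simp)]
theorem lift_toZ {S W : Scheme.{u}} (a : W ⟶ CohB1.ProjSpace n (ULift.{u} ℤ)) (b : W ⟶ S) :
    lift n a b ≫ toZ n S = a :=
  pullback.lift_fst _ _ _

@[reassoc (attr := simp)]
theorem lift_toBase {S W : Scheme.{u}} (a : W ⟶ CohB1.ProjSpace n (ULift.{u} ℤ)) (b : W ⟶ S) :
    lift n a b ≫ CohB1.ProjSpaceOver.toBase n S = b :=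
  pullback.lift_snd _ _ _

/-- The base change map `P^n_T ⟶ P^n_S` of `h : T ⟶ S`. -/
noncomputable def map {S T : Scheme.{u}} (h : T ⟶ S) :
    CohB1.ProjSpaceOver n T ⟶ CohB1.ProjSpaceOver n S :=
  lift n (toZ n T) (CohB1.ProjSpaceOver.toBase n T ≫ h)

variable {S T : Scheme.{u}} (h : T ⟶ S)

@[reassoc (attr := simp)]
theorem map_toZ : map n h ≫ toZ n S = toZ n T := lift_toZ _ _ _

@[reassoc (attr := simp)]
theorem map_toBase :
    map n h ≫ CohB1.ProjSpaceOver.toBase n S = CohB1.ProjSpaceOver.toBase n T ≫ h :=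
  lift_toBase _ _ _

theorem map_id (S : Scheme.{u}) : map n (𝟙 S) = 𝟙 _ := by
  apply hom_ext <;> simp

theorem map_comp {U : Scheme.{u}} (k : U ⟶ T) : map n (k ≫ h) = map n k ≫ map n h := by
  apply hom_ext <;> simp

/-- `P^n_T = P^n_S ×_S T`. -/
theorem isPullback_map :
    IsPullback (map n h) (CohB1.ProjSpaceOver.toBase n T) (CohB1.ProjSpaceOver.toBase n S) h := by
  refine IsPullback.of_right ?_ (map_toBase n h) (isPullback_toZ n S)
  rw [map_toZ, specULiftZIsTerminal.hom_ext (h ≫ specULiftZIsTerminal.from S)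
    (specULiftZIsTerminal.from T)]
  exact isPullback_toZ n T

instance [IsOpenImmersion h] : IsOpenImmersion (map n h) :=
  MorphismProperty.of_isPullback (P := @IsOpenImmersion) (isPullback_map n h).flip inferInstance

instance [IsClosedImmersion h] : IsClosedImmersion (map n h) :=
  MorphismProperty.of_isPullback (P := @IsClosedImmersion) (isPullback_map n h).flip inferInstance

instance [IsImmersion h] : IsImmersion (map n h) :=
  MorphismProperty.of_isPullback (P := @IsImmersion) (isPullback_map n h).flip inferInstance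

/-- A morphism over `S` into `P^n_T`, for `T` over `S`, composed with the base change map. -/
theorem lift_map {W : Scheme.{u}} (a : W ⟶ CohB1.ProjSpace n (ULift.{u} ℤ)) (b : W ⟶ T) :
    lift n a b ≫ map n h = lift n a (b ≫ h) := by
  apply hom_ext <;> simp

end Groth.Agent.R2.H87.ProjSpaceOver
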