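import Groth.Agent.R2.H65PnSegre3

/-!
# helper65: the universal Segre embedding is a closed immersion (pn-toolkit P2)

* `ρ i j : Spec Γ(P^N, D₊(z_ij)) ⟶ P^n ×_R P^m`, the local retraction `x_k/x_i ↦ z_kj/z_ij`,
  `y_l/y_j ↦ z_il/z_ij`.
* `isClosedImmersion_segre`, and the final statement `univSegre'` / `univSegre`.
-/

set_option autoImplicit false
set_option linter.unusedSectionVars false
universe u

open CategoryTheory CategoryTheory.Limits AlgebraicGeometry TopologicalSpace Opposite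

namespace Groth.Agent.R2.H65.PnSegre

open Groth.Agent.Helper13AffMor Groth.Agent.Helper13Dehom Groth.Agent.Helper13ProjUP
open MvPolynomial

variable (n m : ℕ) (R : Type u) [CommRing R] {N : ℕ} (e : Fin (n + 1) × Fin (m + 1) ≃ Fin (N + 1))

/-- `x_k ↦ z_{kj}` -/
noncomputable def θ1 (j : Fin (m + 1)) :
    MvPolynomial (Fin (n + 1)) R →+* MvPolynomial (Fin (N + 1)) R :=
  (rename (fun k : Fin (n + 1) => e (k, j))).toRingHom

/-- `y_l ↦ z_{il}` -/
noncomputable def θ2 (i : Fin (n + 1)) :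
    MvPolynomial (Fin (m + 1)) R →+* MvPolynomial (Fin (N + 1)) R :=
  (rename (fun l : Fin (m + 1) => e (i, l))).toRingHom

theorem θ1_X (j : Fin (m + 1)) (k : Fin (n + 1)) : θ1 n m R e j (X k) = X (e (k, j)) := by
  simp [θ1]

theorem θ1_C (j : Fin (m + 1)) (c : R) : θ1 n m R e j (C c) = C c := by
  simp [θ1]

theorem θ2_X (i : Fin (n + 1)) (l : Fin (m + 1)) : θ2 n m R e i (X l) = X (e (i, l)) := by
  simp [θ2]

theorem θ2_C (i : Fin (n + 1)) (c : R) : θ2 n m R e i (C c) = C c := by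
  simp [θ2]

theorem ψ_θ1 (V : (PP n m R).Opens) (i : Fin (n + 1)) (j : Fin (m + 1))
    (h1 : V ≤ p1 n m R ⁻¹ᵁ D n R i) (h2 : V ≤ p2 n m R ⁻¹ᵁ D m R j)
    (a : MvPolynomial (Fin (n + 1)) R) :
    ψ n m R e V i j h1 h2 (θ1 n m R e j a) = pb (p1 n m R) (hX n R i) V h1 a := by
  have key : (ψ n m R e V i j h1 h2).comp (θ1 n m R e j) = pb (p1 n m R) (hX n R i) V h1 := by
    apply MvPolynomial.ringHom_ext
    · intro c
      rw [RingHom.comp_apply, θ1_C, ψ_C]
    · intro k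
      rw [RingHom.comp_apply, θ1_X, ψ_X, pb_self, mul_one]
  exact RingHom.congr_fun key a

theorem ψ_θ2 (V : (PP n m R).Opens) (i : Fin (n + 1)) (j : Fin (m + 1))
    (h1 : V ≤ p1 n m R ⁻¹ᵁ D n R i) (h2 : V ≤ p2 n m R ⁻¹ᵁ D m R j)
    (b : MvPolynomial (Fin (m + 1)) R) :
    ψ n m R e V i j h1 h2 (θ2 n m R e i b) = pb (p2 n m R) (hX m R j) V h2 b := by
  have key : (ψ n m R e V i j h1 h2).comp (θ2 n m R e i) = pb (p2 n m R) (hX m R j) V h2 := by
    apply MvPolynomial.ringHom_ext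
    · intro c
      rw [RingHom.comp_apply, θ2_C, ψ_C, pb_C_eq n m R V i j h1 h2]
    · intro l
      rw [RingHom.comp_apply, θ2_X, ψ_X, pb_self, one_mul]
  exact RingHom.congr_fun key b

theorem dehom_θ1_self (i : Fin (n + 1)) (j : Fin (m + 1)) :
    ((dehom (hX N R (e (i, j)))).comp (θ1 n m R e j)) (X i) = 1 := by
  rw [RingHom.comp_apply, θ1_X, dehom_self]

theorem dehom_θ2_self (i : Fin (n + 1)) (j : Fin (m + 1)) :
    ((dehom (hX N R (e (i, j)))).comp (θ2 n m R e i)) (X j) = 1 := by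
  rw [RingHom.comp_apply, θ2_X, dehom_self]

/-- `x_k/x_i ↦ z_kj/z_ij` -/
noncomputable def α (i : Fin (n + 1)) (j : Fin (m + 1)) :
    Γ(Proj (CohB1.polyGrading n R), D n R i) ⟶
      Γ(Proj (CohB1.polyGrading N R), D N R (e (i, j))) :=
  dehomLiftCat (hX n R i) (B := Γ(Proj (CohB1.polyGrading N R), D N R (e (i, j))))
    ((dehom (hX N R (e (i, j)))).comp (θ1 n m R e j)) (dehom_θ1_self n m R e i j)

/-- `y_l/y_j ↦ z_il/z_ij` -/
noncomputable def β (i : Fin (n + 1)) (j : Fin (m + 1)) :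
    Γ(Proj (CohB1.polyGrading m R), D m R j) ⟶
      Γ(Proj (CohB1.polyGrading N R), D N R (e (i, j))) :=
  dehomLiftCat (hX m R j) (B := Γ(Proj (CohB1.polyGrading N R), D N R (e (i, j))))
    ((dehom (hX N R (e (i, j)))).comp (θ2 n m R e i)) (dehom_θ2_self n m R e i j)

theorem α_dehom (i : Fin (n + 1)) (j : Fin (m + 1)) (a : MvPolynomial (Fin (n + 1)) R) :
    (α n m R e i j).hom (dehom (hX n R i) a) = dehom (hX N R (e (i, j))) (θ1 n m R e j a) :=
  dehomLiftCat_dehom (hX n R i) (B := Γ(Proj (CohB1.polyGrading N R), D N R (e (i, j))))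
    ((dehom (hX N R (e (i, j)))).comp (θ1 n m R e j)) (dehom_θ1_self n m R e i j) a

theorem β_dehom (i : Fin (n + 1)) (j : Fin (m + 1)) (b : MvPolynomial (Fin (m + 1)) R) :
    (β n m R e i j).hom (dehom (hX m R j) b) = dehom (hX N R (e (i, j))) (θ2 n m R e i b) :=
  dehomLiftCat_dehom (hX m R j) (B := Γ(Proj (CohB1.polyGrading N R), D N R (e (i, j))))
    ((dehom (hX N R (e (i, j)))).comp (θ2 n m R e i)) (dehom_θ2_self n m R e i j) b

theorem ρ_cond (i : Fin (n + 1)) (j : Fin (m + 1)) :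
    (Spec.map (α n m R e i j) ≫ (isAffineOpen_D n R i).fromSpec) ≫
        CohB1.ProjSpace.toSpec n R =
      (Spec.map (β n m R e i j) ≫ (isAffineOpen_D m R j).fromSpec) ≫
        CohB1.ProjSpace.toSpec m R := by
  change (_ ≫ _) ≫ toBase (CohB1.polyGrading n R) = (_ ≫ _) ≫ toBase (CohB1.polyGrading m R)
  rw [Category.assoc, Category.assoc]
  erw [fromSpec_toBase (hX n R i), fromSpec_toBase (hX m R j)]
  rw [← Spec.map_comp, ← Spec.map_comp]
  congr 1
  ext c
  change (α n m R e i j).hom (dehom (hX n R i) (C c)) = (β n m R e i j).hom (dehom (hX m R j) (C c))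
  rw [α_dehom, β_dehom, θ1_C, θ2_C]

/-- the local retraction -/
noncomputable def ρ (i : Fin (n + 1)) (j : Fin (m + 1)) :
    Spec Γ(Proj (CohB1.polyGrading N R), D N R (e (i, j))) ⟶ PP n m R :=
  pullback.lift (Spec.map (α n m R e i j) ≫ (isAffineOpen_D n R i).fromSpec)
    (Spec.map (β n m R e i j) ≫ (isAffineOpen_D m R j).fromSpec)
    (ρ_cond n m R e i j)

theorem ρ_p1 (i : Fin (n + 1)) (j : Fin (m + 1)) :
    ρ n m R e i j ≫ p1 n m R =
      Spec.map (α n m R e i j) ≫ (isAffineOpen_D n R i).fromSpec :=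
  pullback.lift_fst _ _ _

theorem ρ_p2 (i : Fin (n + 1)) (j : Fin (m + 1)) :
    ρ n m R e i j ≫ p2 n m R =
      Spec.map (β n m R e i j) ≫ (isAffineOpen_D m R j).fromSpec :=
  pullback.lift_snd _ _ _

theorem fromSpec_mem {X : Scheme.{u}} {U : X.Opens} (hU : IsAffineOpen U) (x : Spec Γ(X, U)) :
    hU.fromSpec x ∈ U := by
  have h : hU.fromSpec x ∈ Set.range hU.fromSpec := ⟨x, rfl⟩
  rw [hU.range_fromSpec] at h
  exact h

theorem ρ_mem_W (i : Fin (n + 1)) (j : Fin (m + 1))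
    (x : Spec Γ(Proj (CohB1.polyGrading N R), D N R (e (i, j)))) :
    ρ n m R e i j x ∈ W n m R i j := by
  constructor
  · change p1 n m R (ρ n m R e i j x) ∈ D n R i
    rw [← Scheme.Hom.comp_apply, ρ_p1, Scheme.Hom.comp_apply]
    exact fromSpec_mem _ _
  · change p2 n m R (ρ n m R e i j x) ∈ D m R j
    rw [← Scheme.Hom.comp_apply, ρ_p2, Scheme.Hom.comp_apply]
    exact fromSpec_mem _ _

theorem ρ_retraction (i : Fin (n + 1)) (j : Fin (m + 1)) :
    (W n m R i j).toSpecΓ ≫ Spec.map (φ n m R e i j) ≫ ρ n m R e i j =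
      (W n m R i j).ι := by
  apply pullback.hom_ext
  · change _ ≫ p1 n m R = _ ≫ p1 n m R
    rw [Category.assoc, Category.assoc, ρ_p1, ι_comp_eq (p1 n m R) (hX n R i) _ (W_le1 n m R i j),
      ← Spec.map_comp_assoc]
    change toAff (isAffineOpen_D n R i) _ = _
    congr 1
    ext r
    obtain ⟨d, a, _, rfl⟩ := exists_dehom_eq (hX n R i) r
    change (φ n m R e i j).hom ((α n m R e i j).hom (dehom (hX n R i) a)) =
      pb (p1 n m R) (hX n R i) _ _ a
    rw [α_dehom, φ_dehom, ψ_θ1]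
  · change _ ≫ p2 n m R = _ ≫ p2 n m R
    rw [Category.assoc, Category.assoc, ρ_p2, ι_comp_eq (p2 n m R) (hX m R j) _ (W_le2 n m R i j),
      ← Spec.map_comp_assoc]
    change toAff (isAffineOpen_D m R j) _ = _
    congr 1
    ext r
    obtain ⟨d, b, _, rfl⟩ := exists_dehom_eq (hX m R j) r
    change (φ n m R e i j).hom ((β n m R e i j).hom (dehom (hX m R j) b)) =
      pb (p2 n m R) (hX m R j) _ _ b
    rw [β_dehom, φ_dehom, ψ_θ2]

theorem iSup_D_eq_top :
    (⨆ ij : Fin (n + 1) × Fin (m + 1), D N R (e (ij.1, ij.2))) = ⊤ := by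
  rw [eq_top_iff]
  intro y _
  obtain ⟨k, hk⟩ := exists_mem_D N R y
  obtain ⟨⟨i, j⟩, rfl⟩ := e.surjective k
  exact Opens.mem_iSup.2 ⟨(i, j), hk⟩

theorem isClosedImmersion_segre : IsClosedImmersion (segre n m R e) :=
  isClosedImmersion_of_local_retractions (segre n m R e)
    (fun ij : Fin (n + 1) × Fin (m + 1) => D N R (e (ij.1, ij.2))) (iSup_D_eq_top n m R e)
    (fun ij => isAffineOpen_D N R (e (ij.1, ij.2))) (fun ij => W n m R ij.1 ij.2)
    (fun ij => segre_preimage n m R e ij.1 ij.2)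
    (fun ij => φ n m R e ij.1 ij.2)
    (fun ij => segre_spec n m R e ij.1 ij.2) (fun ij => ρ n m R e ij.1 ij.2)
    (fun ij => ρ_retraction n m R e ij.1 ij.2) (fun ij => ρ_mem_W n m R e ij.1 ij.2)

include e in
/-- the universal Segre embedding for any bijection of the coordinates -/
theorem univSegre' : ∃ σ : pullback (CohB1.ProjSpace.toSpec n R) (CohB1.ProjSpace.toSpec m R) ⟶
      CohB1.ProjSpace N R,
    IsClosedImmersion σ ∧ σ ≫ CohB1.ProjSpace.toSpec N R =
      pullback.fst (CohB1.ProjSpace.toSpec n R) (CohB1.ProjSpace.toSpec m R) ≫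
        CohB1.ProjSpace.toSpec n R :=
  ⟨segre n m R e, isClosedImmersion_segre n m R e, segre_toBase n m R e⟩

/-- the coordinate bijection `Fin (n+1) × Fin (m+1) ≃ Fin (nm+n+m+1)` -/
def coordEquiv : Fin (n + 1) × Fin (m + 1) ≃ Fin (n * m + n + m + 1) :=
  finProdFinEquiv.trans (finCongr (by ring))

/-- **Universal Segre embedding**: a closed immersion `P^n_R ×_R P^m_R ⟶ P^{nm+n+m}_R` over `Spec R`. -/
theorem univSegre : ∃ σ : pullback (CohB1.ProjSpace.toSpec n R) (CohB1.ProjSpace.toSpec m R) ⟶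
      CohB1.ProjSpace (n * m + n + m) R,
    IsClosedImmersion σ ∧ σ ≫ CohB1.ProjSpace.toSpec (n * m + n + m) R =
      pullback.fst (CohB1.ProjSpace.toSpec n R) (CohB1.ProjSpace.toSpec m R) ≫
        CohB1.ProjSpace.toSpec n R :=
  univSegre' n m R (coordEquiv n m)

end Groth.Agent.R2.H65.PnSegre
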