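import Mathlib

/-!
# helper16: good covers (pn-toolkit package P8)

`exists_good_cover`: for `f : X ⟶ S` quasi-compact, `S` quasi-compact, `X` with finitely many
irreducible components, `X` is covered by finitely many opens `U_i`, each a finite *disjoint* union
of affine opens mapping into affine opens of `S`, such that `⋂ U_i` is dense in `X`.
-/

set_option autoImplicit false

open CategoryTheory AlgebraicGeometry TopologicalSpace Topology

universe u

namespace Groth.Agent.R2.H16.GoodCover

section Top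

variable {X : Type*} [TopologicalSpace X]

/-- the part of an irreducible component not met by the other components -/
def core (Z : Set X) : Set X := (⋃₀ (irreducibleComponents X \ {Z}))ᶜ

theorem isOpen_core (hX : (irreducibleComponents X).Finite) (Z : Set X) : IsOpen (core Z) := by
  unfold core
  rw [Set.sUnion_eq_biUnion, isOpen_compl_iff]
  exact hX.sdiff.isClosed_biUnion fun W hW ↦ isClosed_of_mem_irreducibleComponents W hW.1

theorem core_subset {Z : Set X} (hZ : Z ∈ irreducibleComponents X) : core Z ⊆ Z := by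
  unfold core
  rw [Set.compl_subset_iff_union, ← Set.sUnion_singleton Z, ← Set.sUnion_union,
    Set.sUnion_singleton, Set.sdiff_union_of_subset, sUnion_irreducibleComponents]
  rwa [Set.singleton_subset_iff]

theorem core_nonempty (hX : (irreducibleComponents X).Finite) {Z : Set X}
    (hZ : Z ∈ irreducibleComponents X) : (core Z).Nonempty := by
  have h := closure_sUnion_irreducibleComponents_sdiff_singleton hX Z hZ
  by_contra hne
  rw [Set.not_nonempty_iff_eq_empty] at hne
  unfold core at hne
  rw [hne, closure_empty] at h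
  exact hZ.1.1.ne_empty h.symm

theorem disjoint_core {Z Z' : Set X} (hZ' : Z' ∈ irreducibleComponents X) (hne : Z ≠ Z') :
    Disjoint (core Z) (core Z') := by
  rw [Set.disjoint_left]
  intro x hx hx'
  apply hx
  exact ⟨Z', ⟨hZ', fun h => hne h.symm⟩, core_subset hZ' hx'⟩

theorem dense_iInter_of_forall_inter_core (hX : (irreducibleComponents X).Finite)
    {ι : Type*} [Finite ι] (U : ι → Set X) (hU : ∀ i, IsOpen (U i))
    (h : ∀ i, ∀ Z ∈ irreducibleComponents X, (U i ∩ core Z).Nonempty) :
    Dense (⋂ i, U i) := by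
  classical
  have : Fintype ι := Fintype.ofFinite ι
  intro x
  set Z := irreducibleComponent x with hZdef
  have hZ : Z ∈ irreducibleComponents X := irreducibleComponent_mem_irreducibleComponents x
  have hxZ : x ∈ Z := mem_irreducibleComponent
  let F : Finset (Set X) := insert (core Z) (Finset.univ.image U)
  have h1 : (Z ∩ ⋂₀ (↑F : Set (Set X))).Nonempty := by
    refine isIrreducible_iff_sInter.mp hZ.1 F ?_ ?_
    · intro u hu
      rcases Finset.mem_insert.mp hu with rfl | hu
      · exact isOpen_core hX Z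
      · obtain ⟨i, -, rfl⟩ := Finset.mem_image.mp hu
        exact hU i
    · intro u hu
      rcases Finset.mem_insert.mp hu with rfl | hu
      · obtain ⟨y, hy⟩ := core_nonempty hX hZ
        exact ⟨y, core_subset hZ hy, hy⟩
      · obtain ⟨i, -, rfl⟩ := Finset.mem_image.mp hu
        obtain ⟨y, hy1, hy2⟩ := h i Z hZ
        exact ⟨y, core_subset hZ hy2, hy1⟩
  have hopen : IsOpen ((⋂ i, U i) ∩ core Z) :=
    (isOpen_iInter_of_finite hU).inter (isOpen_core hX Z)
  have h2 : (Z ∩ ((⋂ i, U i) ∩ core Z)).Nonempty := by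
    obtain ⟨y, hyZ, hy⟩ := h1
    refine ⟨y, hyZ, ?_, ?_⟩
    · rw [Set.mem_iInter]
      intro i
      exact hy (U i) (Finset.mem_insert_of_mem (Finset.mem_image_of_mem U (Finset.mem_univ i)))
    · exact hy (core Z) (Finset.mem_insert_self _ _)
  have h3 := subset_closure_inter_of_isPreirreducible_of_isOpen hZ.1.2 hopen h2
  exact closure_mono (fun y hy => hy.2.1) (h3 hxZ)

end Top

section Scheme

variable {X S : Scheme.{u}} (f : X ⟶ S)

/-- an affine open mapping into an affine open of the base -/
def IsGood (C : X.Opens) : Prop :=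
  IsAffineOpen C ∧ ∃ V : S.Opens, IsAffineOpen V ∧ C ≤ f ⁻¹ᵁ V

/-- good affine opens form a basis -/
theorem exists_good_mem_le {x : X} {W : X.Opens} (hx : x ∈ W) :
    ∃ B : X.Opens, IsGood f B ∧ x ∈ B ∧ B ≤ W := by
  obtain ⟨V, hV, hfx, -⟩ := exists_isAffineOpen_mem_and_subset (X := S) (x := f x)
    (U := ⊤) trivial
  have hx' : x ∈ W ⊓ f ⁻¹ᵁ V := ⟨hx, hfx⟩
  obtain ⟨B, hB, hxB, hBW⟩ := exists_isAffineOpen_mem_and_subset hx'
  exact ⟨B, ⟨hB, V, hV, fun y hy => (hBW hy).2⟩, hxB, fun y hy => (hBW hy).1⟩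

/-- reindexing a finite family of opens by `Fin s` -/
theorem exists_fin_reindex {ι : Type*} [Finite ι] (C : ι → X.Opens)
    (hdisj : Pairwise (Function.onFun Disjoint C)) (hC : ∀ a, IsGood f (C a)) :
    ∃ (s : ℕ) (C' : Fin s → X.Opens), (⨆ a, C a) = ⨆ a, C' a ∧
      Pairwise (Function.onFun Disjoint C') ∧ ∀ a, IsGood f (C' a) := by
  obtain ⟨s, ⟨e⟩⟩ := Finite.exists_equiv_fin ι
  refine ⟨s, C ∘ e.symm, ?_, ?_, fun a => hC _⟩
  · exact (e.symm.iSup_comp (g := C)).symm
  · intro a b hab
    exact hdisj (fun h => hab (e.symm.injective h))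

/-- **P8 (good cover).** -/
theorem exists_good_cover [QuasiCompact f] [CompactSpace S]
    (hirr : (irreducibleComponents X).Finite) :
    ∃ (r : ℕ) (Ui : Fin r → X.Opens), (⨆ i, Ui i = ⊤) ∧
      Dense ((⨅ i, Ui i : X.Opens) : Set X) ∧
      ∀ i, ∃ (s : ℕ) (C : Fin s → X.Opens), Ui i = ⨆ a, C a ∧
        Pairwise (Function.onFun Disjoint C) ∧
        ∀ a, IsAffineOpen (C a) ∧ ∃ V : S.Opens, IsAffineOpen V ∧ C a ≤ f ⁻¹ᵁ V := by
  classical
  have : CompactSpace X := QuasiCompact.compactSpace_of_compactSpace f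
  have hfin : Finite (irreducibleComponents X) := hirr
  let coreO : Set X → X.Opens := fun Z => ⟨core Z, isOpen_core hirr Z⟩
  -- a good affine open inside every core
  have hA : ∀ Z : irreducibleComponents X, ∃ A : X.Opens, IsGood f A ∧
      (A : Set X).Nonempty ∧ A ≤ coreO Z := by
    intro Z
    obtain ⟨x, hx⟩ := core_nonempty hirr Z.2
    obtain ⟨A, hA, hxA, hle⟩ := exists_good_mem_le f (x := x) (W := coreO Z) hx
    exact ⟨A, hA, ⟨x, hxA⟩, hle⟩
  choose A hAgood hAne hAle using hA
  -- a finite cover by good affine opens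
  have hB : ∀ x : X, ∃ B : X.Opens, IsGood f B ∧ x ∈ B := fun x => by
    obtain ⟨B, hB, hxB, -⟩ := exists_good_mem_le f (x := x) (W := ⊤) trivial
    exact ⟨B, hB, hxB⟩
  choose B hBgood hxB using hB
  obtain ⟨t, ht⟩ := CompactSpace.elim_nhds_subcover (fun x => (B x : Set X))
    (fun x => (B x).isOpen.mem_nhds (hxB x))
  -- the pieces of `U x`
  let C : (x : X) → Option {Z : irreducibleComponents X // Disjoint (B x) (coreO Z)} → X.Opens :=
    fun x o => o.elim (B x) (fun Z => A Z.1)
  let U : X → X.Opens := fun x => ⨆ a, C x a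
  have hBU : ∀ x, B x ≤ U x := fun x => le_iSup (C x) none
  have hCgood : ∀ x a, IsGood f (C x a) := by
    intro x a
    cases a with
    | none => exact hBgood x
    | some Z => exact hAgood Z.1
  have hCdisj : ∀ x, Pairwise (Function.onFun Disjoint (C x)) := by
    intro x a b hab
    cases a with
    | none =>
      cases b with
      | none => exact absurd rfl hab
      | some Z => exact Z.2.mono_right (hAle Z.1)
    | some Z =>
      cases b with
      | none => exact (Z.2.mono_right (hAle Z.1)).symm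
      | some Z' =>
        have hne : (Z.1 : Set X) ≠ Z'.1 := by
          intro h
          exact hab (congrArg some (Subtype.ext (Subtype.ext h)))
        have hd : Disjoint (coreO Z.1) (coreO Z'.1) := by
          rw [disjoint_iff]
          ext y
          simp only [Opens.coe_inf, Opens.coe_bot, Set.mem_inter_iff, Set.mem_empty_iff_false,
            iff_false, not_and]
          intro h1 h2
          exact Set.disjoint_left.mp (disjoint_core Z'.1.2 hne) h1 h2
        exact hd.mono (hAle Z.1) (hAle Z'.1)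
  -- every `U x` meets every core
  have hmeet : ∀ x, ∀ Z ∈ irreducibleComponents X, ((U x : Set X) ∩ core Z).Nonempty := by
    intro x Z hZ
    by_cases hd : Disjoint (B x) (coreO Z)
    · obtain ⟨y, hy⟩ := hAne ⟨Z, hZ⟩
      refine ⟨y, ?_, hAle ⟨Z, hZ⟩ hy⟩
      exact le_iSup (C x) (some ⟨⟨Z, hZ⟩, hd⟩) hy
    · rw [disjoint_iff] at hd
      have : ((B x ⊓ coreO Z : X.Opens) : Set X).Nonempty := by
        rw [Set.nonempty_iff_ne_empty]
        intro h
        exact hd (Opens.ext (by simpa using h))
      obtain ⟨y, hy1, hy2⟩ := this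
      exact ⟨y, hBU x hy1, hy2⟩
  obtain ⟨r, ⟨e⟩⟩ := Finite.exists_equiv_fin {x // x ∈ t}
  refine ⟨r, fun k => U (e.symm k).1, ?_, ?_, ?_⟩
  · rw [eq_top_iff]
    intro y _
    have hy : y ∈ ⋃ x ∈ t, (B x : Set X) := by rw [ht]; trivial
    simp only [Set.mem_iUnion] at hy
    obtain ⟨x, hxt, hyx⟩ := hy
    refine Opens.mem_iSup.mpr ⟨e ⟨x, hxt⟩, ?_⟩
    change y ∈ U (e.symm (e ⟨x, hxt⟩)).1
    rw [Equiv.symm_apply_apply]
    exact hBU x hyx
  · rw [Opens.coe_iInf]
    exact dense_iInter_of_forall_inter_core hirr _ (fun k => (U _).isOpen)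
      (fun k Z hZ => hmeet _ Z hZ)
  · intro k
    obtain ⟨s, C', h1, h2, h3⟩ := exists_fin_reindex f (C (e.symm k).1) (hCdisj _) (hCgood _)
    exact ⟨s, C', h1, h2, h3⟩

end Scheme

end Groth.Agent.R2.H16.GoodCover
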