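import Mathlib
import Groth.Prelude.Def_CohB1
import Groth.Agent.Lib.Helper27PnChart
import Groth.Agent.R2.H87ProjSpaceOver

/-!
# Affine schemes of finite type embed into projective space (helper87, coh-core package C2a, part 2)

* `isClosedImmersion_lift_of_sup_range_eq_top`, `isClosedImmersion_of_isPullback_spec`: a morphism from
  `Spec B` to a fibre product of affine schemes is a closed immersion if its two components jointly
  generate `B`.
* `awayZ n : Spec ℤ[T]_{(T_0)} ⟶ P^n_ℤ`, the standard chart.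
* `isImmersion_lift_awayZ`: `Spec B ⟶ P^n_{Spec A}` given by `A → B` and `ℤ[T]_{(T_0)} → B` jointly
  generating `B` is an immersion.
* `exists_immersion_spec`, `exists_immersion_of_affine_open`, `exists_immersion_of_isAffine`,
  `exists_affine_nhds_immersion`: a finite type algebra over an affine open of `S` embeds into some
  `P^n_S` over `S`.
-/

set_option autoImplicit false
set_option linter.style.haveILetI false
set_option backward.isDefEq.respectTransparency false

namespace Groth.Agent.R2.H87.ProjSpaceOver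

open CategoryTheory CategoryTheory.Limits AlgebraicGeometry TensorProduct

universe u

section affine

/-- A morphism from `Spec B` into a fibre product of affine schemes whose two components jointly
generate `B` is a closed immersion. -/
theorem isClosedImmersion_lift_of_sup_range_eq_top {R S T B : CommRingCat.{u}}
    (r₁ : R ⟶ S) (r₂ : R ⟶ T) (f : S ⟶ B) (g : T ⟶ B) (h : r₁ ≫ f = r₂ ≫ g)
    (hgen : f.hom.range ⊔ g.hom.range = ⊤) :
    IsClosedImmersion (pullback.lift (Spec.map f) (Spec.map g)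
      (by rw [← Spec.map_comp, ← Spec.map_comp, h]) :
        Spec B ⟶ pullback (Spec.map r₁) (Spec.map r₂)) := by
  letI := r₁.hom.toAlgebra
  letI := r₂.hom.toAlgebra
  letI : Algebra R B := (r₁ ≫ f).hom.toAlgebra
  let fa : S →ₐ[R] B := ⟨f.hom, fun r => rfl⟩
  let ga : T →ₐ[R] B := ⟨g.hom, fun r => by
    change g.hom (r₂.hom r) = f.hom (r₁.hom r)
    have := congrArg (fun k => k.hom r) h
    exact this.symm⟩
  let p : S ⊗[R] T →ₐ[R] B := Algebra.TensorProduct.productMap fa ga
  have hp : Function.Surjective p := by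
    rw [← AlgHom.range_eq_top, Algebra.TensorProduct.productMap_range, eq_top_iff]
    intro b _
    have hb : b ∈ (f.hom.range ⊔ g.hom.range : Subring B) := by rw [hgen]; trivial
    have hle : (f.hom.range ⊔ g.hom.range : Subring B) ≤ (fa.range ⊔ ga.range).toSubring := by
      refine sup_le ?_ ?_
      · rintro _ ⟨s, rfl⟩
        exact (le_sup_left : fa.range ≤ fa.range ⊔ ga.range) ⟨s, rfl⟩
      · rintro _ ⟨t, rfl⟩
        exact (le_sup_right : ga.range ≤ fa.range ⊔ ga.range) ⟨t, rfl⟩
    exact hle hb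
  have key : (pullback.lift (Spec.map f) (Spec.map g)
      (by rw [← Spec.map_comp, ← Spec.map_comp, h]) :
        Spec B ⟶ pullback (Spec.map r₁) (Spec.map r₂)) =
      Spec.map (CommRingCat.ofHom p.toRingHom) ≫ (pullbackSpecIso R S T).inv := by
    apply pullback.hom_ext
    · rw [pullback.lift_fst, Category.assoc]
      refine Eq.trans ?_ (congrArg (Spec.map (CommRingCat.ofHom p.toRingHom) ≫ ·)
        (pullbackSpecIso_inv_fst R S T).symm)
      change _ = Spec.map _ ≫ Spec.map _
      rw [← Spec.map_comp]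
      congr 1
      ext s
      change f.hom s = p (s ⊗ₜ 1)
      simp [p, fa]
    · rw [pullback.lift_snd, Category.assoc]
      refine Eq.trans ?_ (congrArg (Spec.map (CommRingCat.ofHom p.toRingHom) ≫ ·)
        (pullbackSpecIso_inv_snd R S T).symm)
      change _ = Spec.map _ ≫ Spec.map _
      rw [← Spec.map_comp]
      congr 1
      ext t
      change g.hom t = p (1 ⊗ₜ t)
      simp [p, ga]
  rw [key]
  have : IsClosedImmersion (Spec.map (CommRingCat.ofHom p.toRingHom)) :=
    IsClosedImmersion.spec_of_surjective _ hp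
  infer_instance

/-- The same for an arbitrary fibre product square of affine schemes. -/
theorem isClosedImmersion_of_isPullback_spec {W : Scheme.{u}} {R S T B : CommRingCat.{u}}
    (r₁ : R ⟶ S) (r₂ : R ⟶ T) (p₁ : W ⟶ Spec S) (p₂ : W ⟶ Spec T)
    (hW : IsPullback p₁ p₂ (Spec.map r₁) (Spec.map r₂))
    (f : S ⟶ B) (g : T ⟶ B) (k : Spec B ⟶ W) (hk₁ : k ≫ p₁ = Spec.map f)
    (hk₂ : k ≫ p₂ = Spec.map g) (hgen : f.hom.range ⊔ g.hom.range = ⊤) :
    IsClosedImmersion k := by
  have h : r₁ ≫ f = r₂ ≫ g := by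
    apply Spec.map_injective
    rw [Spec.map_comp, Spec.map_comp, ← hk₁, ← hk₂, Category.assoc, Category.assoc, hW.w]
  have hk : k = pullback.lift (Spec.map f) (Spec.map g)
      (by rw [← Spec.map_comp, ← Spec.map_comp, h]) ≫ hW.isoPullback.inv := by
    apply hW.hom_ext
    · rw [Category.assoc, IsPullback.isoPullback_inv_fst, pullback.lift_fst, hk₁]
    · rw [Category.assoc, IsPullback.isoPullback_inv_snd, pullback.lift_snd, hk₂]
  rw [hk]
  have := isClosedImmersion_lift_of_sup_range_eq_top r₁ r₂ f g h hgen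
  infer_instance

end affine

section chart

open MvPolynomial HomogeneousLocalization

variable (n : ℕ)

/-- The standard chart `D_+(T_0) = Spec ℤ[T]_{(T_0)} ⟶ P^n_ℤ`. -/
noncomputable def awayZ :
    Spec (CommRingCat.of (Away (CohB1.polyGrading n (ULift.{u} ℤ)) (X 0))) ⟶
      CohB1.ProjSpace n (ULift.{u} ℤ) :=
  Proj.awayι (CohB1.polyGrading n (ULift.{u} ℤ)) (X 0) (isHomogeneous_X _ _) zero_lt_one

instance : IsOpenImmersion (awayZ.{u} n) := by
  unfold awayZ
  infer_instance

/-- The structure map `ℤ → ℤ[T]_{(T_0)}`. -/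
noncomputable def awayZStr : CommRingCat.of (ULift.{u} ℤ) ⟶
    CommRingCat.of (Away (CohB1.polyGrading n (ULift.{u} ℤ)) (X 0)) :=
  CommRingCat.ofHom (algebraMap (ULift.{u} ℤ) (CohB1.polyGrading n (ULift.{u} ℤ) 0)) ≫
    CommRingCat.ofHom (fromZeroRingHom (CohB1.polyGrading n (ULift.{u} ℤ)) _)

theorem awayZ_toSpec :
    awayZ.{u} n ≫ CohB1.ProjSpace.toSpec n (ULift.{u} ℤ) = Spec.map (awayZStr n) := by
  unfold awayZ CohB1.ProjSpace.toSpec awayZStr
  rw [Proj.awayι_toSpecZero_assoc, ← Spec.map_comp]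

/-- The unique ring map `ℤ → A`, on the lifted integers. -/
noncomputable def zStr (A : CommRingCat.{u}) : CommRingCat.of (ULift.{u} ℤ) ⟶ A :=
  CommRingCat.ofHom ((Int.castRingHom A).comp (ULift.ringEquiv : ULift.{u} ℤ ≃+* ℤ).toRingHom)

theorem from_spec_eq (A : CommRingCat.{u}) :
    specULiftZIsTerminal.from (Spec A) = Spec.map (zStr A) :=
  specULiftZIsTerminal.hom_ext _ _

/-- A morphism `Spec B ⟶ P^n_{Spec A}` given by ring maps `A → B` and `ℤ[T]_{(T_0)} → B` which
jointly generate `B` is an immersion (a closed immersion into the open `D_+(T_0) × Spec A`). -/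
theorem isImmersion_lift_awayZ {A B : CommRingCat.{u}} (φ : A ⟶ B)
    (ψ : CommRingCat.of (Away (CohB1.polyGrading n (ULift.{u} ℤ)) (X 0)) ⟶ B)
    (hgen : ψ.hom.range ⊔ φ.hom.range = ⊤) :
    IsImmersion (lift n (Spec.map ψ ≫ awayZ n) (Spec.map φ) :
      Spec B ⟶ CohB1.ProjSpaceOver n (Spec A)) := by
  have hW : IsPullback (pullback.snd (toZ n (Spec A)) (awayZ n))
      (pullback.fst (toZ n (Spec A)) (awayZ n) ≫ CohB1.ProjSpaceOver.toBase n (Spec A))
      (Spec.map (awayZStr n)) (Spec.map (zStr A)) := by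
    rw [← awayZ_toSpec, ← from_spec_eq]
    exact (IsPullback.of_hasPullback (toZ n (Spec A)) (awayZ n)).flip.paste_vert
      (isPullback_toZ n (Spec A))
  let i₁ : Spec B ⟶ pullback (toZ n (Spec A)) (awayZ n) :=
    pullback.lift (lift n (Spec.map ψ ≫ awayZ n) (Spec.map φ)) (Spec.map ψ) (lift_toZ _ _ _)
  have h₁ : IsClosedImmersion i₁ :=
    isClosedImmersion_of_isPullback_spec (awayZStr n) (zStr A) _ _ hW ψ φ i₁
      (pullback.lift_snd _ _ _)
      (by rw [pullback.lift_fst_assoc, lift_toBase]) hgen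
  have h₂ : lift n (Spec.map ψ ≫ awayZ n) (Spec.map φ) = i₁ ≫ pullback.fst _ _ :=
    (pullback.lift_fst _ _ _).symm
  rw [h₂]
  infer_instance

end chart

section generators

open MvPolynomial HomogeneousLocalization

/-- A finite type algebra `B` over `A` embeds into some `P^n_A`, over `Spec A`. -/
theorem exists_immersion_spec {A B : CommRingCat.{u}} (φ : A ⟶ B) (hφ : φ.hom.FiniteType) :
    ∃ (n : ℕ) (i : Spec B ⟶ CohB1.ProjSpaceOver n (Spec A)),
      IsImmersion i ∧ i ≫ CohB1.ProjSpaceOver.toBase n (Spec A) = Spec.map φ := by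
  letI := φ.hom.toAlgebra
  have hft : Algebra.FiniteType A B := hφ
  obtain ⟨n, f, hf⟩ := Algebra.FiniteType.iff_quotient_mvPolynomial''.mp hft
  let e : MvPolynomial {j : Fin (n + 1) // j ≠ 0} (ULift.{u} ℤ) ≃+*
      Away (CohB1.polyGrading n (ULift.{u} ℤ)) (X 0) :=
    RingEquiv.ofBijective _ (Groth.Agent.Lib.Helper27PnChart.chart_bijective n (ULift.{u} ℤ) 0)
  let ψ₀ : MvPolynomial {j : Fin (n + 1) // j ≠ 0} (ULift.{u} ℤ) →+* B :=
    eval₂Hom (zStr B).hom (fun j => f (X (j.1.pred j.2)))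
  let ψ : CommRingCat.of (Away (CohB1.polyGrading n (ULift.{u} ℤ)) (X 0)) ⟶ B :=
    CommRingCat.ofHom (ψ₀.comp e.symm.toRingHom)
  have hgen : ψ.hom.range ⊔ φ.hom.range = ⊤ := by
    rw [eq_top_iff]
    intro b _
    obtain ⟨p, rfl⟩ := hf b
    induction p using MvPolynomial.induction_on with
    | C a =>
      refine (le_sup_right : φ.hom.range ≤ _) ⟨a, ?_⟩
      rw [MvPolynomial.algHom_C]
      rfl
    | add p q hp hq =>
      rw [map_add]
      exact add_mem (hp trivial) (hq trivial)
    | mul_X p j hp =>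
      rw [map_mul]
      refine mul_mem (hp trivial)
        ((le_sup_left : ψ.hom.range ≤ _) ⟨e (X ⟨j.succ, Fin.succ_ne_zero j⟩), ?_⟩)
      simp [ψ, ψ₀]
  exact ⟨n, lift n (Spec.map ψ ≫ awayZ n) (Spec.map φ), isImmersion_lift_awayZ n φ ψ hgen,
    lift_toBase _ _ _⟩

/-- A finite type algebra `B` over an affine open `Spec A` of `S` embeds into some `P^n_S`,
over `S`. -/
theorem exists_immersion_of_affine_open {S : Scheme.{u}} {A B : CommRingCat.{u}} (j : Spec A ⟶ S)
    [IsOpenImmersion j] (φ : A ⟶ B) (hφ : φ.hom.FiniteType) :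
    ∃ (n : ℕ) (i : Spec B ⟶ CohB1.ProjSpaceOver n S),
      IsImmersion i ∧ i ≫ CohB1.ProjSpaceOver.toBase n S = Spec.map φ ≫ j := by
  obtain ⟨n, i, hi, hi'⟩ := exists_immersion_spec φ hφ
  exact ⟨n, i ≫ map n j, inferInstance, by rw [Category.assoc, map_toBase, reassoc_of% hi']⟩

/-- An affine scheme `U`, locally of finite type over an affine scheme `V` which is open in `S`,
embeds into some `P^n_S`, over `S`. -/
theorem exists_immersion_of_isAffine {S U V : Scheme.{u}} [IsAffine U] [IsAffine V] (g : U ⟶ V)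
    [LocallyOfFiniteType g] (j : V ⟶ S) [IsOpenImmersion j] :
    ∃ (n : ℕ) (i : U ⟶ CohB1.ProjSpaceOver n S),
      IsImmersion i ∧ i ≫ CohB1.ProjSpaceOver.toBase n S = g ≫ j := by
  have hft : (g.appTop).hom.FiniteType :=
    (HasRingHomProperty.iff_of_isAffine (P := @LocallyOfFiniteType)).mp inferInstance
  obtain ⟨n, i, hi, hi'⟩ := exists_immersion_of_affine_open (V.isoSpec.inv ≫ j) g.appTop hft
  refine ⟨n, U.isoSpec.hom ≫ i, inferInstance, ?_⟩
  rw [Category.assoc, hi', ← Category.assoc, Scheme.isoSpec_hom_naturality, Category.assoc,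
    Iso.hom_inv_id_assoc]

/-- For `f : X ⟶ S` locally of finite type, every point of `X` has an affine open neighbourhood
which embeds into some `P^n_S`, over `S`. -/
theorem exists_affine_nhds_immersion {X S : Scheme.{u}} (f : X ⟶ S) [LocallyOfFiniteType f] (x : X) :
    ∃ U : X.Opens, IsAffineOpen U ∧ x ∈ U ∧
      ∃ (n : ℕ) (i : (U : Scheme.{u}) ⟶ CohB1.ProjSpaceOver n S),
        IsImmersion i ∧ i ≫ CohB1.ProjSpaceOver.toBase n S = U.ι ≫ f := by
  obtain ⟨_, ⟨V, hV, rfl⟩, hxV, -⟩ := S.isBasis_affineOpens.exists_subset_of_mem_open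
    (Set.mem_univ (f x)) isOpen_univ
  obtain ⟨_, ⟨U, hU, rfl⟩, hxU, hUV⟩ := X.isBasis_affineOpens.exists_subset_of_mem_open
    (show x ∈ ((f ⁻¹ᵁ V : X.Opens) : Set X) from hxV) (f ⁻¹ᵁ V).isOpen
  haveI : IsAffine (U : Scheme.{u}) := hU
  haveI : IsAffine (V : Scheme.{u}) := hV
  obtain ⟨n, i, hi, hi'⟩ := exists_immersion_of_isAffine (f.resLE V U hUV) (Scheme.Opens.ι V)
  exact ⟨U, hU, hxU, n, i, hi, by rw [hi', Scheme.Hom.resLE_comp_ι]⟩

/-- (pn-toolkit T2) An affine scheme `X`, locally of finite type over `S` and mapping into an affine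
open `V` of `S`, embeds into some `P^n_S`, over `S`. -/
theorem exists_immersion_of_affine {X S : Scheme.{u}} (f : X ⟶ S) [IsAffine X]
    [LocallyOfFiniteType f] (V : S.Opens) (hV : IsAffineOpen V) (h : Set.range f.base ⊆ V) :
    ∃ (n : ℕ) (j : X ⟶ CohB1.ProjSpaceOver n S),
      IsImmersion j ∧ j ≫ CohB1.ProjSpaceOver.toBase n S = f := by
  haveI : IsAffine (V : Scheme.{u}) := hV
  have hr : Set.range f.base ⊆ Set.range (Scheme.Opens.ι V).base := by
    rw [Scheme.Opens.range_ι]
    exact h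
  let g : X ⟶ (V : Scheme.{u}) := IsOpenImmersion.lift (Scheme.Opens.ι V) f hr
  have hg : g ≫ Scheme.Opens.ι V = f := IsOpenImmersion.lift_fac _ _ _
  haveI : LocallyOfFiniteType (g ≫ Scheme.Opens.ι V) := by rw [hg]; infer_instance
  haveI : LocallyOfFiniteType g := locallyOfFiniteType_of_comp g (Scheme.Opens.ι V)
  obtain ⟨n, j, hj, hj'⟩ := exists_immersion_of_isAffine g (Scheme.Opens.ι V)
  exact ⟨n, j, hj, hj'.trans hg⟩

end generators

end Groth.Agent.R2.H87.ProjSpaceOver
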