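import Groth.Agent.R2.H16PnCoprod
import Groth.Agent.R2.H87ProjSpaceImm

/-!
# helper64: a finite disjoint union of affine opens immerses into some `P^n_S` (pn-toolkit P7)
-/

set_option autoImplicit false
universe u

open CategoryTheory CategoryTheory.Limits AlgebraicGeometry

namespace Groth.Agent.R2.H64.PnDisjAff

/-- The union of two disjoint open subschemes is their coproduct: an immersion of each into a
projective space over `S` gives an immersion of the union. -/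
theorem exists_immersion_sup {X S : Scheme.{u}} (f : X ⟶ S) (U₁ U₂ : X.Opens)
    (hdisj : Disjoint U₁ U₂) (n₁ n₂ : ℕ)
    (j₁ : (U₁ : Scheme.{u}) ⟶ CohB1.ProjSpaceOver n₁ S)
    (j₂ : (U₂ : Scheme.{u}) ⟶ CohB1.ProjSpaceOver n₂ S) [IsImmersion j₁] [IsImmersion j₂]
    (h₁ : j₁ ≫ CohB1.ProjSpaceOver.toBase n₁ S = U₁.ι ≫ f)
    (h₂ : j₂ ≫ CohB1.ProjSpaceOver.toBase n₂ S = U₂.ι ≫ f) :
    ∃ j : ((U₁ ⊔ U₂ : X.Opens) : Scheme.{u}) ⟶ CohB1.ProjSpaceOver (n₁ + n₂ + 1) S,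
      IsImmersion j ∧ j ≫ CohB1.ProjSpaceOver.toBase (n₁ + n₂ + 1) S = (U₁ ⊔ U₂).ι ≫ f := by
  set W : X.Opens := U₁ ⊔ U₂ with hW
  let ι₁ : (U₁ : Scheme.{u}) ⟶ W := X.homOfLE le_sup_left
  let ι₂ : (U₂ : Scheme.{u}) ⟶ W := X.homOfLE le_sup_right
  have hcompl : IsCompl ι₁.opensRange ι₂.opensRange := by
    rw [Scheme.opensRange_homOfLE, Scheme.opensRange_homOfLE]
    constructor
    · rw [disjoint_iff, ← Scheme.Hom.preimage_inf, disjoint_iff.mp hdisj]
      rfl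
    · rw [codisjoint_iff, ← Scheme.Hom.preimage_sup, ← hW]
      exact Scheme.Opens.ι_preimage_self W
  have hcolim : IsColimit (BinaryCofan.mk ι₁ ι₂) :=
    (nonempty_isColimit_binaryCofanMk_of_isCompl ι₁ ι₂ hcompl).some
  let e : (W : Scheme.{u}) ≅ (U₁ : Scheme.{u}) ⨿ (U₂ : Scheme.{u}) :=
    hcolim.coconePointUniqueUpToIso (colimit.isColimit _)
  have he₁ : ι₁ ≫ e.hom = coprod.inl :=
    hcolim.comp_coconePointUniqueUpToIso_hom (colimit.isColimit _) ⟨WalkingPair.left⟩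
  have he₂ : ι₂ ≫ e.hom = coprod.inr :=
    hcolim.comp_coconePointUniqueUpToIso_hom (colimit.isColimit _) ⟨WalkingPair.right⟩
  obtain ⟨j, hj, hjb⟩ := Groth.Agent.R2.H16.PnCoprod.exists_immersion_coprod
    (U₁.ι ≫ f) (U₂.ι ≫ f) j₁ j₂ h₁ h₂
  refine ⟨e.hom ≫ j, inferInstance, ?_⟩
  rw [Category.assoc, hjb]
  apply BinaryCofan.IsColimit.hom_ext hcolim
  · change ι₁ ≫ e.hom ≫ _ = ι₁ ≫ W.ι ≫ f
    rw [reassoc_of% he₁, coprod.inl_desc, ← Category.assoc, Scheme.homOfLE_ι]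
  · change ι₂ ≫ e.hom ≫ _ = ι₂ ≫ W.ι ≫ f
    rw [reassoc_of% he₂, coprod.inr_desc, ← Category.assoc, Scheme.homOfLE_ι]

/-- P7 of the pn-toolkit: a finite disjoint union of affine opens of `X`, each mapping into an affine
open of `S`, immerses into some `P^n_S` over `S` (for `f : X ⟶ S` locally of finite type). -/
theorem exists_immersion_of_disjoint_affines {X S : Scheme.{u}} (f : X ⟶ S) [LocallyOfFiniteType f]
    (s : ℕ) (C : Fin s → X.Opens) (hdisj : Pairwise (Function.onFun Disjoint C))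
    (hC : ∀ a, IsAffineOpen (C a) ∧ ∃ V : S.Opens, IsAffineOpen V ∧ C a ≤ f ⁻¹ᵁ V) :
    ∃ (n : ℕ) (j : ((⨆ a, C a : X.Opens) : Scheme.{u}) ⟶ CohB1.ProjSpaceOver n S),
      IsImmersion j ∧ j ≫ CohB1.ProjSpaceOver.toBase n S = (⨆ a, C a).ι ≫ f := by
  induction s with
  | zero =>
    have hbot : (⨆ a, C a : X.Opens) = ⊥ := by simp
    have : IsEmpty ((⨆ a, C a : X.Opens) : Scheme.{u}) := by
      rw [hbot]
      exact ⟨fun x => (x.2 : (x.1 : X) ∈ (⊥ : X.Opens)).elim⟩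
    refine ⟨0, (isInitialOfIsEmpty (X := ((⨆ a, C a : X.Opens) : Scheme.{u}))).to _, inferInstance,
      (isInitialOfIsEmpty).hom_ext _ _⟩
  | succ s ih =>
    -- the first open
    obtain ⟨haff, V, hV, hle⟩ := hC 0
    have : IsAffine ((C 0 : X.Opens) : Scheme.{u}) := haff
    have : IsAffine ((V : S.Opens) : Scheme.{u}) := hV
    obtain ⟨n₁, j₁, hj₁, hj₁b⟩ :=
      Groth.Agent.R2.H87.ProjSpaceOver.exists_immersion_of_isAffine (f.resLE V (C 0) hle) V.ι
    rw [Scheme.Hom.resLE_comp_ι] at hj₁b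
    -- the others
    obtain ⟨n₂, j₂, hj₂, hj₂b⟩ := ih (fun a => C a.succ)
      (fun a b hab => hdisj (fun h => hab (Fin.succ_injective _ h)))
      (fun a => hC a.succ)
    have hd : Disjoint (C 0) (⨆ a : Fin s, C a.succ) := by
      rw [disjoint_iSup_iff]
      intro a
      exact hdisj (Fin.succ_ne_zero a).symm
    obtain ⟨j, hj, hjb⟩ := exists_immersion_sup f (C 0) (⨆ a : Fin s, C a.succ) hd n₁ n₂ j₁ j₂
      hj₁b hj₂b
    have heq : (⨆ a, C a : X.Opens) = C 0 ⊔ ⨆ a : Fin s, C a.succ := by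
      apply le_antisymm
      · refine iSup_le fun a => ?_
        refine Fin.cases ?_ (fun b => ?_) a
        · exact le_sup_left
        · exact le_sup_of_le_right (le_iSup (fun b : Fin s => C b.succ) b)
      · exact sup_le (le_iSup C 0) (iSup_le fun b => le_iSup C b.succ)
    refine ⟨n₁ + n₂ + 1, (X.isoOfEq heq).hom ≫ j, inferInstance, ?_⟩
    rw [Category.assoc, hjb, Scheme.isoOfEq_hom_ι_assoc]

end Groth.Agent.R2.H64.PnDisjAff
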