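import Mathlib
import Groth.Prelude.Def_CohB1

/-!
# Segre embedding over a general base from the universal case (lead)

`UnivSegre n m R`: there is a closed immersion `P^n_R ×_R P^m_R ⟶ P^{nm+n+m}_R` over `Spec R`.
`segre_of_univ`: the universal case over `ULift ℤ` gives the Segre embedding of `ProjSpaceOver` over any scheme `S`
(the statement of S1616), by base change.
-/

set_option autoImplicit false
universe u
open CategoryTheory CategoryTheory.Limits AlgebraicGeometry

namespace Groth.Agent.R2.Lead.SegreBC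

/-- The universal Segre statement over a ring. -/
def UnivSegre (n m : ℕ) (R : Type u) [CommRing R] : Prop :=
  ∃ σ : pullback (CohB1.ProjSpace.toSpec n R) (CohB1.ProjSpace.toSpec m R) ⟶
      CohB1.ProjSpace (n * m + n + m) R,
    IsClosedImmersion σ ∧ σ ≫ CohB1.ProjSpace.toSpec (n * m + n + m) R =
      pullback.fst (CohB1.ProjSpace.toSpec n R) (CohB1.ProjSpace.toSpec m R) ≫
        CohB1.ProjSpace.toSpec n R

section general

variable {T S Pn Pm PN : Scheme.{u}} (a : Pn ⟶ T) (b : Pm ⟶ T) (c : PN ⟶ T) (t : S ⟶ T)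

/-- base change of a product: the comparison map `(Pn ×_T S) ×_S (Pm ×_T S) ⟶ Pn ×_T Pm`. -/
noncomputable def ψ : pullback (pullback.snd a t) (pullback.snd b t) ⟶ pullback a b :=
  pullback.lift (pullback.fst _ _ ≫ pullback.fst a t) (pullback.snd _ _ ≫ pullback.fst b t) (by
    rw [Category.assoc, Category.assoc, pullback.condition, pullback.condition,
      pullback.condition_assoc])

lemma ψ_fst : ψ a b t ≫ pullback.fst a b = pullback.fst _ _ ≫ pullback.fst a t :=
  pullback.lift_fst _ _ _

lemma ψ_snd : ψ a b t ≫ pullback.snd a b = pullback.snd _ _ ≫ pullback.fst b t :=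
  pullback.lift_snd _ _ _

/-- the big square: `(Pn ×_T S) ×_S (Pm ×_T S)` is the base change of `Pn ×_T Pm` along `t`. -/
lemma isPullback_ψ :
    IsPullback (ψ a b t) (pullback.fst (pullback.snd a t) (pullback.snd b t) ≫ pullback.snd a t)
      (pullback.fst a b ≫ a) t := by
  have hw : ψ a b t ≫ pullback.fst a b ≫ a =
      (pullback.fst (pullback.snd a t) (pullback.snd b t) ≫ pullback.snd a t) ≫ t := by
    rw [← Category.assoc, ψ_fst, Category.assoc, Category.assoc, pullback.condition]
  refine ⟨⟨hw⟩, ⟨PullbackCone.IsLimit.mk hw (fun s => ?_) (fun s => ?_) (fun s => ?_)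
    (fun s l h1 h2 => ?_)⟩⟩
  · refine pullback.lift (pullback.lift (s.fst ≫ pullback.fst a b) s.snd ?_)
      (pullback.lift (s.fst ≫ pullback.snd a b) s.snd ?_) ?_
    · rw [Category.assoc, s.condition]
    · rw [Category.assoc, ← pullback.condition, s.condition]
    · rw [pullback.lift_snd, pullback.lift_snd]
  · apply pullback.hom_ext
    · rw [Category.assoc, ψ_fst, pullback.lift_fst_assoc, pullback.lift_fst]
    · rw [Category.assoc, ψ_snd, pullback.lift_snd_assoc, pullback.lift_fst]
  · rw [pullback.lift_fst_assoc, pullback.lift_snd]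
  · apply pullback.hom_ext
    · rw [pullback.lift_fst]
      apply pullback.hom_ext
      · rw [pullback.lift_fst, Category.assoc, ← ψ_fst, reassoc_of% h1]
      · rw [pullback.lift_snd, Category.assoc, h2]
    · rw [pullback.lift_snd]
      apply pullback.hom_ext
      · rw [pullback.lift_fst, Category.assoc, ← ψ_snd, reassoc_of% h1]
      · rw [pullback.lift_snd, Category.assoc, ← pullback.condition, h2]

variable (σ : pullback a b ⟶ PN) (hσ : σ ≫ c = pullback.fst a b ≫ a)

/-- the base-changed morphism. -/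
noncomputable def φ : pullback (pullback.snd a t) (pullback.snd b t) ⟶ pullback c t :=
  pullback.lift (ψ a b t ≫ σ) (pullback.fst _ _ ≫ pullback.snd a t) (by
    rw [Category.assoc, hσ, (isPullback_ψ a b t).w])

lemma φ_fst : φ a b c t σ hσ ≫ pullback.fst c t = ψ a b t ≫ σ := pullback.lift_fst _ _ _

lemma φ_snd : φ a b c t σ hσ ≫ pullback.snd c t = pullback.fst _ _ ≫ pullback.snd a t :=
  pullback.lift_snd _ _ _

lemma isPullback_φ : IsPullback (ψ a b t) (φ a b c t σ hσ) σ (pullback.fst c t) := by
  have hbig : IsPullback (ψ a b t) (φ a b c t σ hσ ≫ pullback.snd c t) (σ ≫ c) t := by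
    rw [φ_snd, hσ]; exact isPullback_ψ a b t
  exact IsPullback.of_bot hbig (φ_fst a b c t σ hσ).symm (IsPullback.of_hasPullback c t)

lemma isClosedImmersion_φ [IsClosedImmersion σ] : IsClosedImmersion (φ a b c t σ hσ) :=
  MorphismProperty.of_isPullback (P := @IsClosedImmersion) (isPullback_φ a b c t σ hσ) inferInstance

end general

/-- The Segre embedding over any base, from the universal case. -/
theorem segre_of_univ (n m : ℕ) (h : UnivSegre n m (ULift.{u} ℤ)) (S : Scheme.{u}) :
    ∃ φ : pullback (CohB1.ProjSpaceOver.toBase n S) (CohB1.ProjSpaceOver.toBase m S) ⟶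
        CohB1.ProjSpaceOver (n * m + n + m) S,
      IsClosedImmersion φ ∧ φ ≫ CohB1.ProjSpaceOver.toBase (n * m + n + m) S =
        pullback.fst (CohB1.ProjSpaceOver.toBase n S) (CohB1.ProjSpaceOver.toBase m S) ≫
          CohB1.ProjSpaceOver.toBase n S := by
  obtain ⟨σ, hσ1, hσ2⟩ := h
  exact ⟨φ _ _ _ (specULiftZIsTerminal.from S) σ hσ2,
    isClosedImmersion_φ _ _ _ _ σ hσ2, φ_snd _ _ _ _ σ hσ2⟩

end Groth.Agent.R2.Lead.SegreBC
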