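import Groth.Agent.R2.LeadChowG
import Groth.Agent.R2.LeadSegreBC
import Groth.Agent.R2.H16GoodCover
import Groth.Agent.R2.H64PnDisjAff

/-!
# Chow's lemma, conditional only on the universal Segre embedding (lead)
-/

set_option autoImplicit false
universe u
open CategoryTheory CategoryTheory.Limits AlgebraicGeometry

namespace Groth.Agent.R2.Lead.ChowH

open Groth.Agent.R2.Lead.ChowG Groth.Agent.R2.Lead.PnProd Groth.Agent.R2.Lead.SegreBC CohB1

/-- Chow's lemma over a qcqs base for `X` with finitely many irreducible components (shape of S7410). -/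
theorem chow_qcqs (hSeg : ∀ n m, UnivSegre n m (ULift.{u} ℤ)) {X S : Scheme.{u}} (f : X ⟶ S)
    [CompactSpace S] [QuasiSeparatedSpace S] [IsSeparated f] [LocallyOfFiniteType f] [QuasiCompact f]
    (hirr : (irreducibleComponents (X : Type u)).Finite) :
    ∃ (n : ℕ) (X' : Scheme.{u}) (π : X' ⟶ X) (j : X' ⟶ ProjSpaceOver n S),
      IsImmersion j ∧ j ≫ ProjSpaceOver.toBase n S = π ≫ f ∧ IsProper π ∧ Surjective π ∧
      ∃ U : X.Opens, Dense (U : Set X) ∧ IsIso (π ∣_ U) :=
  Groth.Agent.R2.Lead.ChowG.chow_qcqs f (fun n m => segre_of_univ n m (hSeg n m) S)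
    (Groth.Agent.R2.H16.GoodCover.exists_good_cover f hirr)
    (fun s C hdisj hC => Groth.Agent.R2.H64.PnDisjAff.exists_immersion_of_disjoint_affines f s C hdisj hC)

/-- Chow's lemma over a Noetherian base (shape of S0025). -/
theorem chow_noetherian (hSeg : ∀ n m, UnivSegre n m (ULift.{u} ℤ)) {X S : Scheme.{u}} (f : X ⟶ S)
    [IsNoetherian S] [IsSeparated f] [LocallyOfFiniteType f] [QuasiCompact f] :
    ∃ (n : ℕ) (X' : Scheme.{u}) (π : X' ⟶ X) (j : X' ⟶ ProjSpaceOver n S),
      IsImmersion j ∧ j ≫ ProjSpaceOver.toBase n S = π ≫ f ∧ IsProper π ∧ Surjective π ∧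
      ∃ U : X.Opens, Dense (U : Set X) ∧ IsIso (π ∣_ U) := by
  have hlN : IsLocallyNoetherian X := LocallyOfFiniteType.isLocallyNoetherian f
  have hcX : CompactSpace X := QuasiCompact.compactSpace_of_compactSpace f
  have hN : IsNoetherian X := ⟨⟩
  exact chow_qcqs hSeg f TopologicalSpace.NoetherianSpace.finite_irreducibleComponents

end Groth.Agent.R2.Lead.ChowH
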