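import Groth.Agent.R2.H62ECoreSpec
import Groth.Agent.R2.H62CohFin
import Groth.Agent.S0028
import Groth.Agent.S0019
import Groth.Agent.S0025
import Groth.Agent.S9705
import Groth.Agent.R2.H87ProjSpaceOver
import Groth.Agent.Lib.Helper20RegMero

/-!
# E-core of coh-core: finiteness of coherent cohomology for proper schemes over a Noetherian ring,
assembled from the interface of `R2/H62ECoreSpec.lean` (helper62)
-/

set_option autoImplicit false
set_option linter.style.haveILetI false
universe u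

open CategoryTheory CategoryTheory.Limits AlgebraicGeometry Opposite TopologicalSpace

namespace Groth.Agent.R2.H62.ECore

open Groth.Agent.R2.H62.CohLES

/-- The `Over` structure induced on the source of a morphism into a scheme over `S`. -/
abbrev overOfHom {Z X : Scheme.{u}} (i : Z ⟶ X) (S : Scheme.{u}) [X.Over S] : Z.Over S := ⟨i ≫ X ↘ S⟩

section P

variable (A : Type u) [CommRing A] {X : Scheme.{u}} [X.Over (Spec (CommRingCat.of A))]

/-- All cohomology groups of `M` are finite over `A`. -/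
def FinCoh (M : X.Modules) : Prop := ∀ n : ℕ, Module.Finite A (Coh.HH X M n)

variable {A}

theorem finCoh_of_retract {M N : X.Modules} (s : N ⟶ M) (r : M ⟶ N) (h : s ≫ r = 𝟙 N)
    (hM : FinCoh A M) : FinCoh A N := by
  intro n
  haveI := hM n
  refine Module.Finite.of_surjective (HHmapA A r n) (fun x => ⟨HHmapA A s n x, ?_⟩)
  rw [HHmapA_apply, HHmapA_apply, ← HHmap_comp, h, HHmap_id]

theorem finCoh_of_iso {M N : X.Modules} (e : M ≅ N) (hM : FinCoh A M) : FinCoh A N :=
  finCoh_of_retract e.inv e.hom e.inv_hom_id hM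

theorem finCoh_of_isZero {M : X.Modules} (hM : IsZero M) : FinCoh A M := by
  intro n
  haveI : Subsingleton (Coh.HH X M n) := by
    refine ⟨fun x y => ?_⟩
    have h0 : ∀ z : Coh.HH X M n, z = 0 := fun z => by
      rw [← HHmap_id n z, hM.eq_of_src (𝟙 M) 0, HHmap_zero]
    rw [h0 x, h0 y]
  infer_instance

theorem finCoh_of_biprod {M N : X.Modules} (h : FinCoh A (M ⊞ N)) : FinCoh A M :=
  finCoh_of_retract biprod.inl biprod.fst biprod.inl_fst h

variable [IsNoetherianRing A]

theorem finCoh_two_of_three (S : ShortComplex X.Modules) (hS : S.ShortExact) :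
    (FinCoh A S.X₁ → FinCoh A S.X₃ → FinCoh A S.X₂) ∧ (FinCoh A S.X₁ → FinCoh A S.X₂ → FinCoh A S.X₃) ∧
      (FinCoh A S.X₂ → FinCoh A S.X₃ → FinCoh A S.X₁) := by
  refine ⟨fun h1 h3 n => ?_, fun h1 h2 n => ?_, fun h2 h3 n => ?_⟩
  · haveI := h1 n
    haveI := h3 n
    exact finite_X₂ hS A n
  · haveI := h2 n
    haveI := h1 (n + 1)
    exact finite_X₃ hS A n
  · cases n with
    | zero =>
      haveI := h2 0
      exact finite_X₁_zero hS A
    | succ n =>
      haveI := h3 n
      haveI := h2 (n + 1)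
      exact finite_X₁ hS A n

end P

section closedImm

variable (A : Type u) [CommRing A] {X : Scheme.{u}} [X.Over (Spec (CommRingCat.of A))]

/-- (E7) from (E6) and `S0028`: cohomology of a direct image along an affine morphism. -/
theorem finCoh_push_of_affine (hLeray : LerayLinear A) {Z : Scheme.{u}} (i : Z ⟶ X) [IsAffineHom i]
    (G : Z.Modules) (hG : Coh.IsQCoh G)
    (h : letI := overOfHom i (Spec (CommRingCat.of A)); FinCoh A G) :
    FinCoh A ((Coh.push i).obj G) := by
  letI := overOfHom i (Spec (CommRingCat.of A))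
  haveI : i.IsOver (Spec (CommRingCat.of A)) := ⟨rfl⟩
  haveI : Coh.IsQCoh G := hG
  intro n
  obtain ⟨e⟩ := hLeray Z X i G (fun q hq => Groth.Agent.S0028.result i G q hq) n
  haveI := h n
  exact Module.Finite.equiv e.symm

end closedImm

section part1

variable (A : Type u) [CommRing A] [IsNoetherianRing A] {X : Scheme.{u}} [X.Over (Spec (CommRingCat.of A))]

/-- Dévissage step: finiteness on `X` from finiteness of one generically nonzero coherent module on every
integral closed subscheme. -/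
theorem finCoh_of_integral (hDev : StrongDevissage X) (hLeray : LerayLinear A)
    (hInt : ∀ (Z : Scheme.{u}) (i : Z ⟶ X) [IsClosedImmersion i] [IsIntegral Z],
      ∃ G : Z.Modules, Coh.IsCoh G ∧ genericPoint Z ∈ CohB1.support G ∧
        (letI := overOfHom i (Spec (CommRingCat.of A)); FinCoh A G))
    (M : X.Modules) (hM : Coh.IsCoh M) : FinCoh A M := by
  refine hDev (FinCoh A) (fun M N ⟨e⟩ h => finCoh_of_iso e h) (fun M h => finCoh_of_isZero h)
    (fun S hS _ _ _ => finCoh_two_of_three S hS) (fun M N _ _ h => finCoh_of_biprod h) ?_ M hM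
  intro Z i _ _
  obtain ⟨G, hG, hξ, hfin⟩ := hInt Z i
  exact ⟨G, hG, hξ, finCoh_push_of_affine A hLeray i G hG.1 hfin⟩

end part1

section stalks


/-- The comparison of stalks `(f_* F)_{f y} → F_y` is surjective as soon as the preimages of the open
neighbourhoods of `f y` are cofinal among the neighbourhoods of `y`. -/
theorem stalkPushforward_surjective {Y Z : TopCat.{u}} (f : Y ⟶ Z) (F : TopCat.Presheaf AddCommGrpCat.{u} Y)
    (y : Y) (h : ∀ W : Opens Y, y ∈ W → ∃ V : Opens Z, f y ∈ V ∧ (Opens.map f).obj V ≤ W) :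
    Function.Surjective (TopCat.Presheaf.stalkPushforward AddCommGrpCat.{u} f F y).hom := by
  intro x
  obtain ⟨W, hyW, s, rfl⟩ := TopCat.Presheaf.exists_germ_eq F x
  obtain ⟨V, hV, hVW⟩ := h W hyW
  refine ⟨((TopCat.Presheaf.pushforward AddCommGrpCat.{u} f).obj F).germ V (f y) hV
    (F.map (homOfLE hVW).op s), ?_⟩
  have h1 := ConcreteCategory.congr_hom
    (TopCat.Presheaf.stalkPushforward_germ AddCommGrpCat.{u} f F V y hV) (F.map (homOfLE hVW).op s)
  have h2 := ConcreteCategory.congr_hom (TopCat.Presheaf.germ_res F (homOfLE hVW) y hV) s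
  exact h1.trans h2



theorem exists_preimage_le_of_isIso_restrict {Y Z : Scheme.{u}} (π : Y ⟶ Z) (U : Z.Opens)
    [IsIso (π ∣_ U)] (y : Y) (hy : π y ∈ U) (W : Y.Opens) (hW : y ∈ W) :
    ∃ V : Z.Opens, π y ∈ V ∧ π ⁻¹ᵁ V ≤ W := by
  have hι : ∀ w : ↥(π ⁻¹ᵁ U), U.ι ((π ∣_ U) w) = π ((π ⁻¹ᵁ U).ι w) := fun w => by
    rw [← Scheme.Hom.comp_apply, ← Scheme.Hom.comp_apply, morphismRestrict_ι]
  refine ⟨U.ι ''ᵁ ((π ∣_ U) ''ᵁ ((π ⁻¹ᵁ U).ι ⁻¹ᵁ W)), ?_, ?_⟩
  · refine ⟨(π ∣_ U) ⟨y, hy⟩, ⟨⟨y, hy⟩, hW, rfl⟩, ?_⟩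
    exact hι ⟨y, hy⟩
  · rintro z ⟨a, ⟨w, hw, rfl⟩, haz⟩
    have hzU : π z ∈ U := by
      change π z ∈ (U : Set Z)
      rw [← haz]
      exact ((π ∣_ U) w).2
    have h1 : U.ι ((π ∣_ U) ⟨z, hzU⟩) = U.ι ((π ∣_ U) w) := by
      rw [hι]
      exact haz.symm
    have h2 : (⟨z, hzU⟩ : ↥(π ⁻¹ᵁ U)) = w :=
      (π ∣_ U).isOpenEmbedding.injective (U.ι.isOpenEmbedding.injective h1)
    have h3 : z = (π ⁻¹ᵁ U).ι w := by rw [← h2]; rfl
    rw [h3]
    exact hw

open Groth.Agent.Lib.Helper20.RegMero in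
theorem not_subsingleton_stalk_of_isInvertible {Y : Scheme.{u}} (L : Y.Modules) (hL : PicF.IsInvertible L)
    (y : Y) : ¬ Subsingleton (L.presheaf.stalk y) := by
  intro hsub
  obtain ⟨g, hg⟩ := exists_isGen L hL y
  have h01 : (0 : Y.presheaf.stalk y) = 1 := hg.1 (Subsingleton.elim _ _)
  exact zero_ne_one h01

theorem mem_support_push_of_isIso_restrict {Y Z : Scheme.{u}} (π : Y ⟶ Z) (U : Z.Opens)
    [IsIso (π ∣_ U)] (L : Y.Modules) (hL : PicF.IsInvertible L) (y : Y) (hy : π y ∈ U) :
    π y ∈ CohB1.support ((Coh.push π).obj L) := by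
  intro hsub
  have hs := stalkPushforward_surjective π.base L.presheaf y
    (fun W hW => exists_preimage_le_of_isIso_restrict π U y hy W hW)
  have : Subsingleton (L.presheaf.stalk y) := by
    refine ⟨fun a b => ?_⟩
    obtain ⟨a', rfl⟩ := hs a
    obtain ⟨b', rfl⟩ := hs b
    rw [@Subsingleton.elim _ hsub a' b']
  exact not_subsingleton_stalk_of_isInvertible L hL y this

theorem genericPoint_mem_support_push {Y Z : Scheme.{u}} [IsIntegral Z] (π : Y ⟶ Z) [Surjective π]
    (U : Z.Opens) (hU : Dense (U : Set Z)) [IsIso (π ∣_ U)] (L : Y.Modules) (hL : PicF.IsInvertible L) :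
    genericPoint Z ∈ CohB1.support ((Coh.push π).obj L) := by
  have hξU : genericPoint Z ∈ U :=
    ((genericPoint_spec Z).mem_open_set_iff U.2).mpr (by simpa using hU.nonempty)
  obtain ⟨y, hy⟩ := π.surjective (genericPoint Z)
  rw [← hy] at hξU ⊢
  exact mem_support_push_of_isIso_restrict π U L hL y hξU


end stalks

open Groth.Agent.R2.H87.ProjSpaceOver

/-- A proper immersion is a closed immersion. -/
theorem isClosedImmersion_of_isImmersion_of_isProper {X Y : Scheme.{u}} (f : X ⟶ Y) [IsImmersion f]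
    [IsProper f] : IsClosedImmersion f :=
  .of_isPreimmersion f f.isClosedMap.isClosed_range

section part2

variable (A : Type u) [CommRing A] [IsNoetherianRing A]

theorem exists_good_of_integral (hLeray : LerayLinear A) (hProj : ProjFinite A) (hRel : RelSerre.{u})
    (Z : Scheme.{u}) [Z.Over (Spec (CommRingCat.of A))] [IsProper (Z ↘ Spec (CommRingCat.of A))]
    [IsIntegral Z] :
    ∃ G : Z.Modules, Coh.IsCoh G ∧ genericPoint Z ∈ CohB1.support G ∧ FinCoh A G := by
  let S := Spec (CommRingCat.of A)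
  let f : Z ⟶ S := Z ↘ S
  haveI : IsNoetherian S := inferInstance
  haveI : IsLocallyNoetherian Z := LocallyOfFiniteType.isLocallyNoetherian f
  haveI : CompactSpace Z := QuasiCompact.compactSpace_of_compactSpace f
  haveI : IsNoetherian Z := ⟨⟩
  obtain ⟨n, Y, π, j, hj, hjπ, hπ, hsurj, U, hU, hiso⟩ := Groth.Agent.S0025.result f
  letI : Y.Over S := overOfHom π S
  haveI : π.IsOver S := ⟨rfl⟩
  -- `j` is a closed immersion
  haveI : IsProper (CohB1.ProjSpaceOver.toBase n S) := Groth.Agent.S9705.isProper_toBase n S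
  haveI : IsProper (j ≫ CohB1.ProjSpaceOver.toBase n S) := by rw [hjπ]; infer_instance
  haveI : IsProper j := IsProper.of_comp j (CohB1.ProjSpaceOver.toBase n S)
  haveI : IsClosedImmersion j := isClosedImmersion_of_isImmersion_of_isProper j
  -- the closed immersion into `P^n_Z`
  let jZ : Y ⟶ CohB1.ProjSpaceOver n Z := lift n (j ≫ toZ n S) π
  have hjZ : jZ ≫ CohB1.ProjSpaceOver.toBase n Z = π := lift_toBase n _ _
  have hjZ' : jZ ≫ map n f = j := by
    apply hom_ext n
    · rw [Category.assoc, map_toZ, lift_toZ]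
    · rw [Category.assoc, map_toBase, ← Category.assoc, hjZ, hjπ]
  haveI : IsImmersion (jZ ≫ map n f) := by rw [hjZ']; infer_instance
  haveI : IsImmersion jZ := IsImmersion.of_comp jZ (map n f)
  haveI : IsProper (CohB1.ProjSpaceOver.toBase n Z) := Groth.Agent.S9705.isProper_toBase n Z
  haveI : IsProper (jZ ≫ CohB1.ProjSpaceOver.toBase n Z) := by rw [hjZ]; infer_instance
  haveI : IsProper jZ := IsProper.of_comp jZ (CohB1.ProjSpaceOver.toBase n Z)
  haveI : IsClosedImmersion jZ := isClosedImmersion_of_isImmersion_of_isProper jZ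
  obtain ⟨L, hL, hLinv, hpush, hvan⟩ := hRel Z Y π n jZ hjZ
  refine ⟨(Coh.push π).obj L, hpush, genericPoint_mem_support_push π U hU L hLinv, fun p => ?_⟩
  obtain ⟨e⟩ := hLeray Y Z π L hvan p
  haveI : Module.Finite A (Coh.HH Y L p) := hProj n Y j hjπ L hL p
  exact Module.Finite.equiv e.symm

end part2


section main

variable (A : Type u) [CommRing A] [IsNoetherianRing A]

/-- **E-core**: finiteness of coherent cohomology of a proper scheme over a Noetherian ring (`S0002`), from the
interface of `R2/H62ECoreSpec.lean`. -/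
theorem finite_of_proper (X : Scheme.{u}) [X.Over (Spec (CommRingCat.of A))]
    [IsProper (X ↘ Spec (CommRingCat.of A))]
    (hDev : StrongDevissage X) (hLeray : LerayLinear A) (hProj : ProjFinite A) (hRel : RelSerre.{u})
    (M : X.Modules) (hM : Coh.IsCoh M) (n : ℕ) : Module.Finite A (Coh.HH X M n) := by
  refine finCoh_of_integral A hDev hLeray ?_ M hM n
  intro Z i _ _
  letI := overOfHom i (Spec (CommRingCat.of A))
  haveI : IsProper (Z ↘ Spec (CommRingCat.of A)) :=
    (inferInstance : IsProper (i ≫ X ↘ Spec (CommRingCat.of A)))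
  exact exists_good_of_integral A hLeray hProj hRel Z

end main

end Groth.Agent.R2.H62.ECore
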