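import Groth.Agent.R2.H58SerreFin
import Groth.Agent.Lib.Helper23QCohAbelian
import Groth.Agent.S0022
import Groth.Agent.S0046
import Groth.Agent.S9705

/-!
# Finiteness of cohomology on `P^n_R` from packages A, B1, B3 (helper58, coh-core B5)

`projSpace_finite_of` is the statement of S0038 against the hypotheses

* `hLES` : long exact sequence with linear connecting maps (package B1),
* `hgen` : every coherent module is a quotient of a finite coproduct of `O(m)` (package B3),
* `hfin` : finiteness of the cohomology of finite coproducts of `O(m)` (packages A + B1).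
-/

set_option autoImplicit false
set_option backward.isDefEq.respectTransparency false
set_option backward.isDefEq.respectTransparency.types false
set_option linter.style.haveILetI false
universe u

open CategoryTheory CategoryTheory.Limits AlgebraicGeometry

namespace Groth.Agent.R2.H58.SerreFin

theorem isLocallyNoetherian_projSpace (n : ℕ) (R : Type u) [CommRing R] [IsNoetherianRing R] :
    IsLocallyNoetherian (CohB1.ProjSpace n R) := by
  have hP : IsProper (CohB1.ProjSpace.toSpec n R) := Groth.Agent.S9705.isProper_projSpace_toSpec n R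
  exact LocallyOfFiniteType.isLocallyNoetherian (CohB1.ProjSpace.toSpec n R)

/-- The short exact sequence `0 → ker p → E → F → 0` of an epimorphism. -/
theorem shortExact_kernel {X : Scheme.{u}} {E F : X.Modules} (p : E ⟶ F) [Epi p] :
    (ShortComplex.mk (kernel.ι p) p (kernel.condition p)).ShortExact :=
  { exact := ShortComplex.exact_of_f_is_kernel _ (kernelIsKernel p) }

/-- **S0038 against hypotheses.** -/
theorem projSpace_finite_of (n : ℕ) (R : Type u) [CommRing R] [IsNoetherianRing R]
    (hLES : ∀ S : ShortComplex (CohB1.ProjSpace n R).Modules, S.ShortExact → ∀ q, LESAt R S q)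
    (hgen : ∀ M : (CohB1.ProjSpace n R).Modules, Coh.IsCoh M →
      ∃ (E : (CohB1.ProjSpace n R).Modules) (p : E ⟶ M), Epi p ∧ Coh.IsCoh E ∧
        ∀ q, Module.Finite R (Coh.HH (CohB1.ProjSpace n R) E q))
    (M : (CohB1.ProjSpace n R).Modules) (hM : Coh.IsCoh M) (i : ℕ) :
    Module.Finite R (Coh.HH (CohB1.ProjSpace n R) M i) := by
  haveI := isLocallyNoetherian_projSpace n R
  refine finite_of_resolution (R := R) (X := CohB1.ProjSpace n R) (fun F => Coh.IsCoh F) n ?_ ?_ M hM i
  · intro F hF q hq
    haveI : Coh.IsQCoh F := hF.1
    exact Groth.Agent.S0022.result n R F q hq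
  · intro F hF
    obtain ⟨E, p, hp, hE, hfin⟩ := hgen F hF
    haveI : E.IsQuasicoherent := hE.1
    haveI : F.IsQuasicoherent := hF.1
    refine ⟨ShortComplex.mk (kernel.ι p) p (kernel.condition p), shortExact_kernel p,
      ⟨Iso.refl _⟩, ?_, hfin, fun q => hLES _ (shortExact_kernel p) q⟩
    exact Groth.Agent.S0046.result _ E (kernel p) (kernel.ι p) hE
      (Groth.Agent.Lib.Helper23.QCohLocal.isQuasicoherent_kernel p)

end Groth.Agent.R2.H58.SerreFin
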