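import Mathlib
import Groth.Prelude.Def_CohB1
import Groth.Agent.Lib.Helper13ProjBC2
import Groth.Agent.R2.H87ProjSpaceImm

/-!
# `P^n_{Spec A} ≅ Proj A[x_0..x_n]` over `Spec A` (helper87, coh-core package P9)
-/

set_option autoImplicit false
set_option linter.style.haveILetI false

namespace Groth.Agent.R2.H87.PnSpec

open CategoryTheory CategoryTheory.Limits AlgebraicGeometry MvPolynomial
open Groth.Agent.R2.H87.ProjSpaceOver
open scoped HomogeneousIdeal

universe u

variable (n : ℕ) (A : Type u) [CommRing A]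

/-- The graded ring map `ℤ[x_0..x_n] → A[x_0..x_n]`. -/
noncomputable def mapHom :
    CohB1.polyGrading n (ULift.{u} ℤ) →+*ᵍ CohB1.polyGrading n A where
  toRingHom := MvPolynomial.map (zStr (CommRingCat.of A)).hom
  map_mem := fun {_ _} hx =>
    (mem_homogeneousSubmodule _ _).mpr
      (((mem_homogeneousSubmodule _ _).mp hx).map (zStr (CommRingCat.of A)).hom)

attribute [local instance] MvPolynomial.algebraMvPolynomial in
theorem isPushout_mvPolynomial :
    IsPushout (zStr (CommRingCat.of A))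
      (CommRingCat.ofHom (C : ULift.{u} ℤ →+* MvPolynomial (Fin (n + 1)) (ULift.{u} ℤ)))
      (CommRingCat.ofHom (C : A →+* MvPolynomial (Fin (n + 1)) A))
      (CommRingCat.ofHom (MvPolynomial.map (σ := Fin (n + 1)) (zStr (CommRingCat.of A)).hom)) := by
  letI : Algebra (ULift.{u} ℤ) A := (zStr (CommRingCat.of A)).hom.toAlgebra
  exact CommRingCat.isPushout_of_isPushout (ULift.{u} ℤ) A
    (MvPolynomial (Fin (n + 1)) (ULift.{u} ℤ)) (MvPolynomial (Fin (n + 1)) A)

theorem irrelevant_le :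
    (HomogeneousIdeal.irrelevant (CohB1.polyGrading n A)) ≤
      (HomogeneousIdeal.irrelevant (CohB1.polyGrading n (ULift.{u} ℤ))).map (mapHom n A) :=
  Groth.Agent.Helper13ProjBC.irrelevant_le_map_cat (isPushout_mvPolynomial n A) (mapHom n A)
    (fun _ => rfl) (fun r => (mem_homogeneousSubmodule _ _).mpr (isHomogeneous_C _ r))

/-- `P^n_A = P^n_ℤ ×_{Spec ℤ} Spec A`. -/
theorem isPullback_projSpace :
    IsPullback (Proj.map (mapHom n A) (irrelevant_le n A)) (CohB1.ProjSpace.toSpec n A)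
      (CohB1.ProjSpace.toSpec n (ULift.{u} ℤ)) (Spec.map (zStr (CommRingCat.of A))) :=
  Groth.Agent.Helper13ProjBC.isPullback_proj_cat (isPushout_mvPolynomial n A) (mapHom n A)
    (fun _ => rfl) (irrelevant_le n A)
    (CommRingCat.ofHom (algebraMap (ULift.{u} ℤ) (CohB1.polyGrading n (ULift.{u} ℤ) 0)))
    (fun r => SetLike.GradeZero.coe_algebraMap _ r)
    (CommRingCat.ofHom (algebraMap A (CohB1.polyGrading n A 0)))
    (fun r => SetLike.GradeZero.coe_algebraMap _ r)

/-- (coh-core P9) `P^n_{Spec A}` (base change of `P^n_ℤ`) is `Proj A[x_0..x_n]`, over `Spec A`. -/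
theorem projSpaceOver_spec_iso :
    ∃ e : CohB1.ProjSpaceOver n (Spec (CommRingCat.of A)) ≅ CohB1.ProjSpace n A,
      e.hom ≫ CohB1.ProjSpace.toSpec n A =
        CohB1.ProjSpaceOver.toBase n (Spec (CommRingCat.of A)) := by
  have h1 := isPullback_toZ n (Spec (CommRingCat.of A))
  rw [from_spec_eq] at h1
  have h2 := isPullback_projSpace n A
  exact ⟨h1.isoIsPullback _ _ h2, h1.isoIsPullback_hom_snd _ _ h2⟩

/-- The iso also commutes with the projections to `P^n_ℤ`. -/
theorem projSpaceOver_spec_iso' :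
    ∃ e : CohB1.ProjSpaceOver n (Spec (CommRingCat.of A)) ≅ CohB1.ProjSpace n A,
      e.hom ≫ CohB1.ProjSpace.toSpec n A =
        CohB1.ProjSpaceOver.toBase n (Spec (CommRingCat.of A)) ∧
      e.hom ≫ Proj.map (mapHom n A) (irrelevant_le n A) = toZ n (Spec (CommRingCat.of A)) := by
  have h1 := isPullback_toZ n (Spec (CommRingCat.of A))
  rw [from_spec_eq] at h1
  have h2 := isPullback_projSpace n A
  exact ⟨h1.isoIsPullback _ _ h2, h1.isoIsPullback_hom_snd _ _ h2, h1.isoIsPullback_hom_fst _ _ h2⟩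

end Groth.Agent.R2.H87.PnSpec
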