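import Groth.Agent.R2.H62ECore
import Groth.Agent.R2.H87PnSpec
import Groth.Agent.R2.H58SerreFinPn

/-!
# PROJ-FIN (E3 of coh-core) from finiteness on `P^n_A` and the linear Leray comparison (helper62)

`projFinite_of`: `ProjFinite A` (closed subschemes of `ProjSpaceOver n (Spec A)`) from `S0038`-shape finiteness on
`ProjSpace n A`, `LerayLinear A`, `S0028`, `S0019` and helper87's `projSpaceOver_spec_iso`.
-/

set_option autoImplicit false
set_option linter.style.haveILetI false
universe u

open CategoryTheory CategoryTheory.Limits AlgebraicGeometry Opposite TopologicalSpace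

namespace Groth.Agent.R2.H62.ECore

open Groth.Agent.R2.H62.CohLES

variable (A : Type u) [CommRing A]

/-- (E7), both directions: along an affine morphism `i` over `Spec A`, `G` has finite cohomology iff `i_* G` has. -/
theorem finCoh_push_iff_of_affine (hLeray : LerayLinear A) {Z X : Scheme.{u}}
    [X.Over (Spec (CommRingCat.of A))] [Z.Over (Spec (CommRingCat.of A))] (i : Z ⟶ X)
    [i.IsOver (Spec (CommRingCat.of A))] [IsAffineHom i] (G : Z.Modules) (hG : Coh.IsQCoh G) :
    FinCoh A ((Coh.push i).obj G) ↔ FinCoh A G := by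
  haveI : Coh.IsQCoh G := hG
  have he := fun n => hLeray Z X i G (fun q hq => Groth.Agent.S0028.result i G q hq) n
  constructor
  · intro h n
    obtain ⟨e⟩ := he n
    haveI := h n
    exact Module.Finite.equiv e
  · intro h n
    obtain ⟨e⟩ := he n
    haveI := h n
    exact Module.Finite.equiv e.symm

/-- **(E3) PROJ-FIN** from finiteness on `P^n_A` (`S0038`) and the linear Leray comparison. -/
theorem projFinite_of [IsNoetherianRing A] (hLeray : LerayLinear A)
    (hPn : ∀ (n : ℕ) (M : (CohB1.ProjSpace n A).Modules), Coh.IsCoh M → ∀ i : ℕ,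
      Module.Finite A (Coh.HH (CohB1.ProjSpace n A) M i)) : ProjFinite A := by
  intro n Y _ j _ hj F hF
  obtain ⟨e, he⟩ := Groth.Agent.R2.H87.PnSpec.projSpaceOver_spec_iso n A
  haveI : (j ≫ e.hom).IsOver (Spec (CommRingCat.of A)) := ⟨by
    change (j ≫ e.hom) ≫ CohB1.ProjSpace.toSpec n A = _
    rw [Category.assoc, he, hj]⟩
  haveI : IsClosedImmersion (j ≫ e.hom) := inferInstance
  haveI := Groth.Agent.R2.H58.SerreFin.isLocallyNoetherian_projSpace n A
  have hcoh : Coh.IsCoh ((Coh.push (j ≫ e.hom)).obj F) := Groth.Agent.S0019.result (j ≫ e.hom) F hF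
  exact (finCoh_push_iff_of_affine A hLeray (j ≫ e.hom) F hF.1).1
    (fun i => hPn n _ hcoh i)

end Groth.Agent.R2.H62.ECore
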