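import Mathlib
import Groth.Prelude.Def_Twist2
import Groth.Agent.R2.H87PnSpec

/-!
# Twisting sheaves on `P^n_S` and base change (helper87, coh-core E4-twist, part T2)

`Twist.twistOver n S d` is by definition the pullback of `O(d)` from `P^n_ℤ` along `toZ n S`, so it
is compatible with every base change map `map n h : P^n_T ⟶ P^n_S`.
-/

set_option autoImplicit false

namespace Groth.Agent.R2.H87.ProjSpaceOver

open CategoryTheory CategoryTheory.Limits AlgebraicGeometry

universe u

variable (n : ℕ)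

/-- `O(d)` on `P^n_S` is the pullback of `O(d)` on `P^n_ℤ` along `toZ n S` (definitional). -/
theorem twistOver_eq (S : Scheme.{u}) (d : ℤ) :
    Twist.twistOver n S d =
      (Scheme.Modules.pullback (toZ n S)).obj (Twist.twistProjSpace n (ULift.{u} ℤ) d) := rfl

/-- The pullback of a module from `P^n_ℤ` to `P^n_S`, pulled back further along a morphism `a` into
`P^n_S`, is the pullback along `a ≫ toZ n S`. -/
noncomputable def pullbackToZIso {S W : Scheme.{u}} (a : W ⟶ CohB1.ProjSpaceOver n S)
    (F : (CohB1.ProjSpace n (ULift.{u} ℤ)).Modules) :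
    (Scheme.Modules.pullback a).obj ((Scheme.Modules.pullback (toZ n S)).obj F) ≅
      (Scheme.Modules.pullback (a ≫ toZ n S)).obj F :=
  (Scheme.Modules.pullbackComp a (toZ n S)).app F

/-- (E4-twist T2) Base change of the twisting sheaves: `(map n h)^* O_{P^n_S}(d) ≅ O_{P^n_T}(d)` for
every `h : T ⟶ S`. -/
noncomputable def twistOverMapIso {S T : Scheme.{u}} (h : T ⟶ S) (d : ℤ) :
    (Scheme.Modules.pullback (map n h)).obj (Twist.twistOver n S d) ≅ Twist.twistOver n T d :=
  pullbackToZIso n (map n h) _ ≪≫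
    (Scheme.Modules.pullbackCongr (map_toZ n h)).app (Twist.twistProjSpace n (ULift.{u} ℤ) d)

/-- More generally: for `a : W ⟶ P^n_S`, `a^* O(d)` only depends on `a ≫ toZ n S`. -/
noncomputable def pullbackTwistOverIso {S W : Scheme.{u}} (a : W ⟶ CohB1.ProjSpaceOver n S)
    (d : ℤ) :
    (Scheme.Modules.pullback a).obj (Twist.twistOver n S d) ≅
      (Scheme.Modules.pullback (a ≫ toZ n S)).obj (Twist.twistProjSpace n (ULift.{u} ℤ) d) :=
  pullbackToZIso n a _

/-- `lift n a b : W ⟶ P^n_S` pulls `O(d)` back to `a^* O_{P^n_ℤ}(d)`. -/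
noncomputable def pullbackLiftTwistOverIso {S W : Scheme.{u}}
    (a : W ⟶ CohB1.ProjSpace n (ULift.{u} ℤ)) (b : W ⟶ S) (d : ℤ) :
    (Scheme.Modules.pullback (lift n a b)).obj (Twist.twistOver n S d) ≅
      (Scheme.Modules.pullback a).obj (Twist.twistProjSpace n (ULift.{u} ℤ) d) :=
  pullbackToZIso n (lift n a b) _ ≪≫
    (Scheme.Modules.pullbackCongr (lift_toZ n a b)).app _

end Groth.Agent.R2.H87.ProjSpaceOver
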