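import Mathlib
import Groth.Prelude.Def_CohB1
import Groth.Prelude.Def_Twist2
import Groth.Agent.R2.H87PnSpec
import Groth.Agent.R2.H87PnTwist
import Groth.Agent.R2.H79TwistCalc
import Groth.Agent.Lib.Helper27PMapTwist

/-!
# Compatibility of the twisting sheaves with base change of projective space (helper55, coh-core E4-twist)

* `nonempty_pullback_twist_iso'` : helper27's `Φ^* O(n) ≅ O(n)|_{G(φ)}` (Lib `Helper27PMapTwist`) for graded
  algebras over *different* base rings (needed for `ℤ[x] → B[x]`).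
* `nonempty_pullback_projMap_tilde_iso` : `(Proj φ)^* O(m) ≅ O(m)` for an everywhere defined `Proj φ`.
* `nonempty_pullback_mapHom_twist_iso` : `(P^n_B ⟶ P^n_ℤ)^* O(m) ≅ O(m)`.
* T1 `specIso`, `nonempty_twistOver_spec_iso` : `O(m)` on `P^n_{Spec B}` vs `O(m)` on `Proj B[x]`.
* T3 `chartMap`, `chartIso`, `nonempty_pullback_chartMap_twistOver_iso`,
  `nonempty_restrict_preimage_twistOver_iso` : the chart of `P^n_Z` over an affine open `V ⊆ Z`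
  and the twisting sheaves on it.
-/

set_option autoImplicit false
set_option linter.style.haveILetI false
set_option linter.unusedSectionVars false
universe u

open CategoryTheory CategoryTheory.Limits AlgebraicGeometry TopologicalSpace Opposite
  HomogeneousLocalization
open Groth.Agent.Helper13RelProj
open Groth.Agent.Lib.Helper23.SecTw Groth.Agent.Lib.Helper6 Groth.Agent.Helper13PullbackUnit
  Groth.Agent.Lib.Helper27PullGen Groth.Agent.Lib.Helper27AwayGen Groth.Agent.Lib.Helper27PMapSec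
  Groth.Agent.Lib.Helper27GrTildeSect

namespace Groth.Agent.R2.H55.TwistBC

section PMapSec

variable {R R' A B : Type u} [CommRing R] [CommRing R'] [CommRing A] [Algebra R A]
  {𝒜 : ℕ → Submodule R A}
  [GradedAlgebra 𝒜] [CommRing B] [Algebra R' B] {ℬ : ℕ → Submodule R' B} [GradedAlgebra ℬ]
  {φ : 𝒜 →+*ᵍ ℬ}
variable {X : Scheme.{u}} {j : X ⟶ Proj ℬ} [IsOpenImmersion j] {p : X ⟶ Proj 𝒜}

/-- `p^♯ (a / f^k) = φ a / φ f^k`. -/
theorem appLE_awayToSection₂ (hp : IsPMap φ j p) (hj : IsDomOf φ j) {d : ℕ} {f : A}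
    (hf : f ∈ 𝒜 d) (hd : 0 < d) (z : Away 𝒜 f) :
    p.appLE (Proj.basicOpen 𝒜 f) (p ⁻¹ᵁ Proj.basicOpen 𝒜 f) le_rfl
        ((Proj.awayToSection 𝒜 f).hom z) =
      j.appLE (Proj.basicOpen ℬ (φ f)) (p ⁻¹ᵁ Proj.basicOpen 𝒜 f)
        (hp.preimage_basicOpen hj hf hd).le
        ((Proj.awayToSection ℬ (φ f)).hom (Away.map φ f z)) := by
  set u := chartX hj hf hd with hu
  set W := p ⁻¹ᵁ Proj.basicOpen 𝒜 f with hW
  have hWr : W ≤ u.opensRange := by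
    intro x hx
    have hx' : x ∈ j ⁻¹ᵁ Proj.basicOpen ℬ (φ f) := by
      rw [← hp.preimage_basicOpen hj hf hd]; exact hx
    have := range_chartX hj hf hd
    change x ∈ Set.range u.base
    rw [this]
    exact hx'
  have hiso : IsIso (u.app W) := u.isIso_app W hWr
  have hinj : Function.Injective (u.app W) := (ConcreteCategory.bijective_of_isIso (u.app W)).1
  apply hinj
  -- the left hand side
  have hupW : u ⁻¹ᵁ W ≤ (u ≫ p) ⁻¹ᵁ Proj.basicOpen 𝒜 f := le_rfl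
  have h1 := Scheme.Hom.appLE_comp_appLE u p (Proj.basicOpen 𝒜 f) W (u ⁻¹ᵁ W) le_rfl le_rfl
  rw [Scheme.Hom.appLE_eq_app (f := u)] at h1
  have h1' := congr($h1 ((Proj.awayToSection 𝒜 f).hom z))
  refine h1'.trans ?_
  have hup : u ≫ p = Spec.map (CommRingCat.ofHom (Away.map φ f)) ≫ Proj.awayι 𝒜 f hf hd :=
    hp.chartX_comp hj hf hd
  rw [appLE_congr_hom hup]
  have h2 := Scheme.Hom.appLE_comp_appLE (Spec.map (CommRingCat.ofHom (Away.map φ f)))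
    (Proj.awayι 𝒜 f hf hd) (Proj.basicOpen 𝒜 f) ⊤ (u ⁻¹ᵁ W)
    (top_le_awayι_preimage 𝒜 hf hd) le_top
  have h2' := congr($h2 ((Proj.awayToSection 𝒜 f).hom z))
  refine h2'.symm.trans ?_
  -- the right hand side
  have h3 := Scheme.Hom.appLE_comp_appLE u j (Proj.basicOpen ℬ (φ f)) W (u ⁻¹ᵁ W)
    (hp.preimage_basicOpen hj hf hd).le le_rfl
  rw [Scheme.Hom.appLE_eq_app (f := u)] at h3
  have h3' := congr($h3 ((Proj.awayToSection ℬ (φ f)).hom (Away.map φ f z)))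
  refine Eq.trans ?_ h3'.symm
  have huj : u ≫ j = Proj.awayι ℬ (φ f) (Graded.map_mem φ hf) hd := chartX_fac hj hf hd
  rw [appLE_congr_hom huj]
  rw [awayι_appLE_awayToSection' ℬ (Graded.map_mem φ hf) hd]
  change (Spec.map (CommRingCat.ofHom (Away.map φ f))).appLE ⊤ (u ⁻¹ᵁ W) le_top
    ((Proj.awayι 𝒜 f hf hd).appLE (Proj.basicOpen 𝒜 f) ⊤ (top_le_awayι_preimage 𝒜 hf hd)
      ((Proj.awayToSection 𝒜 f).hom z)) = _
  rw [awayι_appLE_awayToSection 𝒜 hf hd]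
  have h4 := Scheme.ΓSpecIso_inv_naturality (CommRingCat.ofHom (Away.map φ f))
  have h4' := congr($h4 z)
  change (Spec (CommRingCat.of (Away ℬ (φ f)))).presheaf.map (homOfLE _).op
    ((Spec.map (CommRingCat.ofHom (Away.map φ f))).appTop
      ((Scheme.ΓSpecIso (CommRingCat.of (Away 𝒜 f))).inv z)) = _
  congr 1
  exact h4'.symm

end PMapSec

section PMap

variable {R R' A B : Type u} [CommRing R] [CommRing R'] [CommRing A] [Algebra R A]
  {𝒜 : ℕ → Submodule R A}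
  [GradedAlgebra 𝒜] [CommRing B] [Algebra R' B] {ℬ : ℕ → Submodule R' B} [GradedAlgebra ℬ]
  {φ : 𝒜 →+*ᵍ ℬ}
variable {X : Scheme.{u}} {j : X ⟶ Proj ℬ} [IsOpenImmersion j] {p : X ⟶ Proj 𝒜}
variable {ι : Type*} (G : ι → A) (hG : ∀ i, G i ∈ 𝒜 1)

include hG in
theorem map_mem_one₂ (i : ι) : φ (G i) ∈ ℬ 1 := Graded.map_mem φ (hG i)

include hG in
theorem pmap_preimage_le₂ (hp : IsPMap φ j p) (hj : IsDomOf φ j) (k : ι) :
    p ⁻¹ᵁ Proj.basicOpen 𝒜 (G k) ≤ j ⁻¹ᵁ Proj.basicOpen ℬ (φ (G k)) :=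
  (hp.preimage_basicOpen hj (hG k) Nat.one_pos).le

/-- `p^♯ (G i / G k) = φ (G i) / φ (G k)`. -/
theorem appLE_cfun₂ (hp : IsPMap φ j p) (hj : IsDomOf φ j) (i k : ι) :
    p.appLE (Proj.basicOpen 𝒜 (G k)) (p ⁻¹ᵁ Proj.basicOpen 𝒜 (G k)) le_rfl
        (cfun 𝒜 1 G hG i k) =
      j.appLE (Proj.basicOpen ℬ (φ (G k))) (p ⁻¹ᵁ Proj.basicOpen 𝒜 (G k))
        (pmap_preimage_le₂ G hG hp hj k)
        (cfun ℬ 1 (fun i => φ (G i)) (map_mem_one₂ G hG) i k) := by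
  rw [← awayToSection_mk'_one 𝒜 G hG i k, appLE_awayToSection₂ hp hj (hG k) Nat.one_pos,
    ← awayToSection_mk'_one ℬ (fun i => φ (G i)) (map_mem_one₂ G hG) i k]
  congr 2
  rw [mk', Away.map_mk]
  rfl

/-- `p^♯` of the transition functions of `O(n)`. -/
theorem appLE_tfun₂ (hp : IsPMap φ j p) (hj : IsDomOf φ j) (p₀ q₀ : ℕ) (i k : ι) :
    p.appLE (Proj.basicOpen 𝒜 (G i) ⊓ Proj.basicOpen 𝒜 (G k))
        (p ⁻¹ᵁ Proj.basicOpen 𝒜 (G i) ⊓ p ⁻¹ᵁ Proj.basicOpen 𝒜 (G k)) le_rfl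
        (tfun 𝒜 G hG p₀ q₀ i k) =
      j.appLE (Proj.basicOpen ℬ (φ (G i)) ⊓ Proj.basicOpen ℬ (φ (G k)))
        (p ⁻¹ᵁ Proj.basicOpen 𝒜 (G i) ⊓ p ⁻¹ᵁ Proj.basicOpen 𝒜 (G k))
        (inf_le_inf (pmap_preimage_le₂ G hG hp hj i) (pmap_preimage_le₂ G hG hp hj k))
        (tfun ℬ (fun i => φ (G i)) (map_mem_one₂ G hG) p₀ q₀ i k) := by
  rw [tfun, tfun, map_mul, map_mul, map_pow, map_pow, map_pow, map_pow]
  have e1 : p.appLE (Proj.basicOpen 𝒜 (G i) ⊓ Proj.basicOpen 𝒜 (G k))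
      (p ⁻¹ᵁ Proj.basicOpen 𝒜 (G i) ⊓ p ⁻¹ᵁ Proj.basicOpen 𝒜 (G k)) le_rfl
      (resf (inf_le_right : Proj.basicOpen 𝒜 (G i) ⊓ Proj.basicOpen 𝒜 (G k) ≤ _)
        (cfun 𝒜 1 G hG i k)) =
      resf (inf_le_right : p ⁻¹ᵁ Proj.basicOpen 𝒜 (G i) ⊓ p ⁻¹ᵁ Proj.basicOpen 𝒜 (G k) ≤ _)
        (p.appLE (Proj.basicOpen 𝒜 (G k)) (p ⁻¹ᵁ Proj.basicOpen 𝒜 (G k)) le_rfl
          (cfun 𝒜 1 G hG i k)) :=
    appLE_resf p _ _ _ _ _
  have e2 : p.appLE (Proj.basicOpen 𝒜 (G i) ⊓ Proj.basicOpen 𝒜 (G k))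
      (p ⁻¹ᵁ Proj.basicOpen 𝒜 (G i) ⊓ p ⁻¹ᵁ Proj.basicOpen 𝒜 (G k)) le_rfl
      (resf (inf_le_left : Proj.basicOpen 𝒜 (G i) ⊓ Proj.basicOpen 𝒜 (G k) ≤ _)
        (cfun 𝒜 1 G hG k i)) =
      resf (inf_le_left : p ⁻¹ᵁ Proj.basicOpen 𝒜 (G i) ⊓ p ⁻¹ᵁ Proj.basicOpen 𝒜 (G k) ≤ _)
        (p.appLE (Proj.basicOpen 𝒜 (G i)) (p ⁻¹ᵁ Proj.basicOpen 𝒜 (G i)) le_rfl
          (cfun 𝒜 1 G hG k i)) :=
    appLE_resf p _ _ _ _ _
  have e3 : j.appLE (Proj.basicOpen ℬ (φ (G i)) ⊓ Proj.basicOpen ℬ (φ (G k)))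
      (p ⁻¹ᵁ Proj.basicOpen 𝒜 (G i) ⊓ p ⁻¹ᵁ Proj.basicOpen 𝒜 (G k))
      (inf_le_inf (pmap_preimage_le₂ G hG hp hj i) (pmap_preimage_le₂ G hG hp hj k))
      (resf (inf_le_right : Proj.basicOpen ℬ (φ (G i)) ⊓ Proj.basicOpen ℬ (φ (G k)) ≤ _)
        (cfun ℬ 1 (fun i => φ (G i)) (map_mem_one₂ G hG) i k)) =
      resf (inf_le_right : p ⁻¹ᵁ Proj.basicOpen 𝒜 (G i) ⊓ p ⁻¹ᵁ Proj.basicOpen 𝒜 (G k) ≤ _)
        (j.appLE (Proj.basicOpen ℬ (φ (G k))) (p ⁻¹ᵁ Proj.basicOpen 𝒜 (G k))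
          (pmap_preimage_le₂ G hG hp hj k)
          (cfun ℬ 1 (fun i => φ (G i)) (map_mem_one₂ G hG) i k)) :=
    appLE_resf j _ _ _ _ _
  have e4 : j.appLE (Proj.basicOpen ℬ (φ (G i)) ⊓ Proj.basicOpen ℬ (φ (G k)))
      (p ⁻¹ᵁ Proj.basicOpen 𝒜 (G i) ⊓ p ⁻¹ᵁ Proj.basicOpen 𝒜 (G k))
      (inf_le_inf (pmap_preimage_le₂ G hG hp hj i) (pmap_preimage_le₂ G hG hp hj k))
      (resf (inf_le_left : Proj.basicOpen ℬ (φ (G i)) ⊓ Proj.basicOpen ℬ (φ (G k)) ≤ _)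
        (cfun ℬ 1 (fun i => φ (G i)) (map_mem_one₂ G hG) k i)) =
      resf (inf_le_left : p ⁻¹ᵁ Proj.basicOpen 𝒜 (G i) ⊓ p ⁻¹ᵁ Proj.basicOpen 𝒜 (G k) ≤ _)
        (j.appLE (Proj.basicOpen ℬ (φ (G i))) (p ⁻¹ᵁ Proj.basicOpen 𝒜 (G i))
          (pmap_preimage_le₂ G hG hp hj i)
          (cfun ℬ 1 (fun i => φ (G i)) (map_mem_one₂ G hG) k i)) :=
    appLE_resf j _ _ _ _ _
  rw [e1, e2, e3, e4, appLE_cfun₂ G hG hp hj i k, appLE_cfun₂ G hG hp hj k i]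

end PMap

section Main

variable {R R' A B : Type u} [CommRing R] [CommRing R'] [CommRing A] [Algebra R A]
  {𝒜 : ℕ → Submodule R A}
  [GradedAlgebra 𝒜] [CommRing B] [Algebra R' B] {ℬ : ℕ → Submodule R' B} [GradedAlgebra ℬ]
  {φ : 𝒜 →+*ᵍ ℬ}
variable {U : (Proj ℬ).Opens} {p : (U : Scheme.{u}) ⟶ Proj 𝒜}
variable {ι : Type*} (G : ι → A) (hG : ∀ i, G i ∈ 𝒜 1)

include hG in
theorem image_preimage_le₂ (hp : IsPMap φ U.ι p) (hj : IsDomOf φ U.ι) (i : ι) :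
    U.ι ''ᵁ (p ⁻¹ᵁ Proj.basicOpen 𝒜 (G i)) ≤ Proj.basicOpen ℬ (φ (G i)) := by
  rintro _ ⟨w, hw, rfl⟩
  exact pmap_preimage_le₂ G hG hp hj i hw

include hG in
/-- **`Φ^* O(n) ≅ O(n)|_{G(φ)}`**, when `Proj 𝒜` is covered by the `D₊(G i)`, `deg G i = 1`. -/
theorem nonempty_pullback_twist_iso₂ (hp : IsPMap φ U.ι p) (hj : IsDomOf φ U.ι)
    (hcov : ∀ x : (U : Scheme.{u}), ∃ i, x ∈ p ⁻¹ᵁ Proj.basicOpen 𝒜 (G i)) (n : ℤ) :
    Nonempty ((Scheme.Modules.pullback p).obj (GrTilde.tilde 𝒜 𝒜 n) ≅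
      (GrTilde.tilde ℬ ℬ n).restrict U.ι) := by
  haveI : (GrTilde.tilde 𝒜 𝒜 n).IsQuasicoherent := isQuasicoherent_tilde 𝒜 𝒜 _
  have h : ((n.toNat : ℕ) : ℤ) = ((-n).toNat : ℕ) + n := by omega
  generalize n.toNat = p₀ at h
  generalize (-n).toNat = q₀ at h
  have hH := map_mem_one₂ (φ := φ) G hG
  -- the frames
  let a : ∀ i, Γ((Scheme.Modules.pullback p).obj (GrTilde.tilde 𝒜 𝒜 n),
      p ⁻¹ᵁ Proj.basicOpen 𝒜 (G i)) := fun i =>
    unitSec p (GrTilde.tilde 𝒜 𝒜 n) (le_refl (p ⁻¹ᵁ Proj.basicOpen 𝒜 (G i)))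
      (zsec (hG i) n p₀ q₀ h)
  let b : ∀ i, Γ((GrTilde.tilde ℬ ℬ n).restrict U.ι, p ⁻¹ᵁ Proj.basicOpen 𝒜 (G i)) := fun i =>
    (show Γ((GrTilde.tilde ℬ ℬ n).restrict U.ι, p ⁻¹ᵁ Proj.basicOpen 𝒜 (G i)) from
      res (GrTilde.tilde ℬ ℬ n) (image_preimage_le₂ G hG hp hj i) (zsec (hH i) n p₀ q₀ h))
  have ha : ∀ i, IsGen _ _ (a i) := fun i =>
    isGen_pullback p _ _ _ (isGen_zsec (hG i) n p₀ q₀ h)
  have hb : ∀ i, IsGen _ _ (b i) := fun i =>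
    isGen_restrict_of_isGen (GrTilde.tilde ℬ ℬ n) U (p ⁻¹ᵁ Proj.basicOpen 𝒜 (G i)) _
      ((isGen_zsec (hH i) n p₀ q₀ h).mono (image_preimage_le₂ G hG hp hj i))
  obtain ⟨Φ, -⟩ := exists_iso_of_frames _ _ (fun i => p ⁻¹ᵁ Proj.basicOpen 𝒜 (G i)) hcov a b ha hb
    (by
      intro i k g hg
      -- Step 1: the transition of the pulled-back frames
      have u1 := unitSec_res p (GrTilde.tilde 𝒜 𝒜 n)
        (inf_le_left : Proj.basicOpen 𝒜 (G i) ⊓ Proj.basicOpen 𝒜 (G k) ≤ _)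
        (le_refl (p ⁻¹ᵁ (Proj.basicOpen 𝒜 (G i) ⊓ Proj.basicOpen 𝒜 (G k))))
        (zsec (hG i) n p₀ q₀ h)
      have u2 := unitSec_res p (GrTilde.tilde 𝒜 𝒜 n)
        (inf_le_right : Proj.basicOpen 𝒜 (G i) ⊓ Proj.basicOpen 𝒜 (G k) ≤ _)
        (le_refl (p ⁻¹ᵁ (Proj.basicOpen 𝒜 (G i) ⊓ Proj.basicOpen 𝒜 (G k))))
        (zsec (hG k) n p₀ q₀ h)
      have s1 : res ((Scheme.Modules.pullback p).obj (GrTilde.tilde 𝒜 𝒜 n))
          (inf_le_left : p ⁻¹ᵁ Proj.basicOpen 𝒜 (G i) ⊓ p ⁻¹ᵁ Proj.basicOpen 𝒜 (G k) ≤ _) (a i) =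
          p.appLE (Proj.basicOpen 𝒜 (G i) ⊓ Proj.basicOpen 𝒜 (G k))
            (p ⁻¹ᵁ Proj.basicOpen 𝒜 (G i) ⊓ p ⁻¹ᵁ Proj.basicOpen 𝒜 (G k)) le_rfl
            (tfun 𝒜 G hG p₀ q₀ i k) •
          res ((Scheme.Modules.pullback p).obj (GrTilde.tilde 𝒜 𝒜 n))
            (inf_le_right : p ⁻¹ᵁ Proj.basicOpen 𝒜 (G i) ⊓ p ⁻¹ᵁ Proj.basicOpen 𝒜 (G k) ≤ _)
            (a k) := by
        refine u1.symm.trans ?_
        rw [res_zsec_eq_tfun 𝒜 G hG n p₀ q₀ h i k, unitSec_smul]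
        congr 1
      -- Step 2: `g` is that transition function
      have hgP : g = p.appLE (Proj.basicOpen 𝒜 (G i) ⊓ Proj.basicOpen 𝒜 (G k))
            (p ⁻¹ᵁ Proj.basicOpen 𝒜 (G i) ⊓ p ⁻¹ᵁ Proj.basicOpen 𝒜 (G k)) le_rfl
            (tfun 𝒜 G hG p₀ q₀ i k) := by
        apply ((ha k).mono (inf_le_right :
          p ⁻¹ᵁ Proj.basicOpen 𝒜 (G i) ⊓ p ⁻¹ᵁ Proj.basicOpen 𝒜 (G k) ≤ _) _ le_rfl).1
        change g • res _ le_rfl (res _ _ (a k)) = _ • res _ le_rfl (res _ _ (a k))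
        rw [res_self, ← hg, s1]
      -- Step 3: the transition of the frames of `O(n)` on `Proj ℬ`
      have hT : U.ι ''ᵁ (p ⁻¹ᵁ Proj.basicOpen 𝒜 (G i) ⊓ p ⁻¹ᵁ Proj.basicOpen 𝒜 (G k)) ≤
          Proj.basicOpen ℬ (φ (G i)) ⊓ Proj.basicOpen ℬ (φ (G k)) := by
        rintro _ ⟨w, hw, rfl⟩
        exact ⟨pmap_preimage_le₂ G hG hp hj i hw.1, pmap_preimage_le₂ G hG hp hj k hw.2⟩
      have t1 : res (GrTilde.tilde ℬ ℬ n) (hT.trans inf_le_left) (zsec (hH i) n p₀ q₀ h) =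
          resf hT (tfun ℬ (fun i => φ (G i)) hH p₀ q₀ i k) •
            res (GrTilde.tilde ℬ ℬ n) (hT.trans inf_le_right) (zsec (hH k) n p₀ q₀ h) := by
        have := congrArg (res (GrTilde.tilde ℬ ℬ n) hT)
          (res_zsec_eq_tfun ℬ (fun i => φ (G i)) hH n p₀ q₀ h i k)
        rw [res_res, res_smul, res_res] at this
        exact this
      have e5 : p.appLE (Proj.basicOpen 𝒜 (G i) ⊓ Proj.basicOpen 𝒜 (G k))
            (p ⁻¹ᵁ Proj.basicOpen 𝒜 (G i) ⊓ p ⁻¹ᵁ Proj.basicOpen 𝒜 (G k)) le_rfl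
            (tfun 𝒜 G hG p₀ q₀ i k) =
          (show Γ((U : Scheme.{u}),
              p ⁻¹ᵁ Proj.basicOpen 𝒜 (G i) ⊓ p ⁻¹ᵁ Proj.basicOpen 𝒜 (G k)) from
            (resf (X := Proj ℬ) hT (tfun ℬ (fun i => φ (G i)) hH p₀ q₀ i k) :
              Γ(Proj ℬ, U.ι ''ᵁ (p ⁻¹ᵁ Proj.basicOpen 𝒜 (G i) ⊓
                p ⁻¹ᵁ Proj.basicOpen 𝒜 (G k))))) := by
        rw [appLE_tfun₂ G hG hp hj p₀ q₀ i k]
        have e6 := Scheme.Opens.ι_appLE U
          (Proj.basicOpen ℬ (φ (G i)) ⊓ Proj.basicOpen ℬ (φ (G k)))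
          (p ⁻¹ᵁ Proj.basicOpen 𝒜 (G i) ⊓ p ⁻¹ᵁ Proj.basicOpen 𝒜 (G k))
          (inf_le_inf (pmap_preimage_le₂ G hG hp hj i) (pmap_preimage_le₂ G hG hp hj k))
        exact congr($e6 (tfun ℬ (fun i => φ (G i)) hH p₀ q₀ i k))
      rw [hgP, e5, smul_restrict_eq]
      refine Eq.trans ?_ (t1.trans ?_)
      · exact res_res (GrTilde.tilde ℬ ℬ n) _ _ _
      · congr 1)
  exact ⟨Φ⟩

end Main


section Transport

variable {X Y : Scheme.{u}}

/-- the pullback along an isomorphism is (essentially) inverse to the pullback along its inverse. -/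
noncomputable def pullbackInvPullbackIso (f : X ⟶ Y) [IsIso f] (H : Y.Modules) :
    (Scheme.Modules.pullback (inv f)).obj ((Scheme.Modules.pullback f).obj H) ≅ H :=
  (Scheme.Modules.pullbackComp (inv f) f).app H ≪≫
    (Scheme.Modules.pullbackCongr (IsIso.inv_hom_id f)).app H ≪≫ (Scheme.Modules.pullbackId Y).app H

/-- the pullback along an isomorphism reflects isomorphy of modules. -/
theorem nonempty_iso_of_pullback_iso (f : X ⟶ Y) [IsIso f] (F G : Y.Modules)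
    (h : Nonempty ((Scheme.Modules.pullback f).obj F ≅ (Scheme.Modules.pullback f).obj G)) :
    Nonempty (F ≅ G) := by
  obtain ⟨e⟩ := h
  exact ⟨(pullbackInvPullbackIso f F).symm ≪≫ (Scheme.Modules.pullback (inv f)).mapIso e ≪≫
    pullbackInvPullbackIso f G⟩

/-- pullback along a composite, on objects, for morphisms equal to a composite. -/
noncomputable def pullbackObjIsoOfEq {Z : Scheme.{u}} (f : X ⟶ Y) (g : Y ⟶ Z) (h : X ⟶ Z)
    (e : f ≫ g = h) (H : Z.Modules) :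
    (Scheme.Modules.pullback h).obj H ≅
      (Scheme.Modules.pullback f).obj ((Scheme.Modules.pullback g).obj H) :=
  (Scheme.Modules.pullbackCongr e.symm).app H ≪≫ ((Scheme.Modules.pullbackComp f g).app H).symm

end Transport

section ProjMap

variable {R R' A B : Type u} [CommRing R] [CommRing R'] [CommRing A] [Algebra R A]
  {𝒜 : ℕ → Submodule R A} [GradedAlgebra 𝒜] [CommRing B] [Algebra R' B]
  {ℬ : ℕ → Submodule R' B} [GradedAlgebra ℬ]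
  (φ : 𝒜 →+*ᵍ ℬ)
  (hφ : HomogeneousIdeal.irrelevant ℬ ≤ (HomogeneousIdeal.irrelevant 𝒜).map φ)
  {ι : Type*} (G : ι → A) (hG : ∀ i, G i ∈ 𝒜 1)

include hG in
/-- **`(Proj φ)^* O(m) ≅ O(m)`** for an everywhere defined `Proj φ : Proj ℬ ⟶ Proj 𝒜`, when `Proj ℬ` is
covered by the `D₊(φ (G i))`, `deg G i = 1` (the base rings of `𝒜` and `ℬ` may differ). -/
theorem nonempty_pullback_projMap_tilde_iso
    (hcov : ∀ x : Proj ℬ, ∃ i, x ∈ Proj.basicOpen ℬ (φ (G i))) (m : ℤ) :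
    Nonempty ((Scheme.Modules.pullback (Proj.map φ hφ)).obj (GrTilde.tilde 𝒜 𝒜 m) ≅
      GrTilde.tilde ℬ ℬ m) := by
  let U : (Proj ℬ).Opens := ⊤
  have hp : IsPMap φ U.ι (U.ι ≫ Proj.map φ hφ) := by
    intro d f hd hf c hc
    rw [← Category.assoc, hc, Proj.awayι_comp_map]
  have hj : IsDomOf φ U.ι := by
    intro x
    refine ⟨fun _ => ?_, fun _ => ?_⟩
    · obtain ⟨i, hi⟩ := hcov x
      exact ⟨1, G i, one_pos, hG i, hi⟩
    · rw [Scheme.Opens.range_ι]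
      trivial
  have hcov' : ∀ x : (U : Scheme.{u}),
      ∃ i, x ∈ (U.ι ≫ Proj.map φ hφ) ⁻¹ᵁ Proj.basicOpen 𝒜 (G i) := by
    intro x
    obtain ⟨i, hi⟩ := hcov (U.ι x)
    refine ⟨i, ?_⟩
    rw [hp.preimage_basicOpen hj (hG i) one_pos]
    exact hi
  obtain ⟨e⟩ := nonempty_pullback_twist_iso₂ G hG hp hj hcov' m
  have : IsIso U.ι := (Scheme.topIso (Proj ℬ)).isIso_hom
  apply nonempty_iso_of_pullback_iso U.ι
  exact ⟨(Scheme.Modules.pullbackComp U.ι (Proj.map φ hφ)).app _ ≪≫ e ≪≫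
    (Scheme.Modules.restrictFunctorIsoPullback U.ι).app _⟩

end ProjMap

section T1

open Groth.Agent.R2.H87.ProjSpaceOver Groth.Agent.R2.H87.PnSpec

variable (n : ℕ) (B : Type u) [CommRing B]

/-- `(P^n_B ⟶ P^n_ℤ)^* O(m) ≅ O(m)`. -/
theorem nonempty_pullback_mapHom_twist_iso (m : ℤ) :
    Nonempty ((Scheme.Modules.pullback (Proj.map (mapHom n B) (irrelevant_le n B))).obj
        (Twist.twistProjSpace n (ULift.{u} ℤ) m) ≅ Twist.twistProjSpace n B m) := by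
  rw [Groth.Agent.R2.H79.TwistCalc.twistProjSpace_eq, Groth.Agent.R2.H79.TwistCalc.twistProjSpace_eq,
    Groth.Agent.R2.H79.TwistCalc.twist_eq_tilde, Groth.Agent.R2.H79.TwistCalc.twist_eq_tilde]
  refine nonempty_pullback_projMap_tilde_iso (mapHom n B) (irrelevant_le n B)
    (fun i : Fin (n + 1) => (MvPolynomial.X i : MvPolynomial (Fin (n + 1)) (ULift.{u} ℤ)))
    (Groth.Agent.Lib.Helper27ProjGamma.hX n (ULift.{u} ℤ)) ?_ m
  intro x
  obtain ⟨i, hi⟩ := Groth.Agent.Lib.Helper27PnSections.exists_X_not_mem n B x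
  refine ⟨i, ?_⟩
  have : (mapHom n B) (MvPolynomial.X i) = (MvPolynomial.X i : MvPolynomial (Fin (n + 1)) B) :=
    MvPolynomial.map_X _ i
  rw [this]
  exact (ProjectiveSpectrum.mem_basicOpen _ _ x).mpr hi

/-- The chart isomorphism `P^n_{Spec B} ≅ Proj B[x_0..x_n]` (helper87's P9, as a definition). -/
noncomputable def specIso :
    CohB1.ProjSpaceOver n (Spec (CommRingCat.of B)) ≅ CohB1.ProjSpace n B :=
  (projSpaceOver_spec_iso' n B).choose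

theorem specIso_hom_toSpec :
    (specIso n B).hom ≫ CohB1.ProjSpace.toSpec n B =
      CohB1.ProjSpaceOver.toBase n (Spec (CommRingCat.of B)) :=
  (projSpaceOver_spec_iso' n B).choose_spec.1

theorem specIso_hom_map :
    (specIso n B).hom ≫ Proj.map (mapHom n B) (irrelevant_le n B) =
      toZ n (Spec (CommRingCat.of B)) :=
  (projSpaceOver_spec_iso' n B).choose_spec.2

/-- **(T1)** `O(m)` on `P^n_{Spec B}` is the pullback of `O(m)` on `Proj B[x_0..x_n]` along any isomorphism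
compatible with the projections to `P^n_ℤ`. -/
theorem nonempty_twistOver_iso_of_comp_eq
    (e : CohB1.ProjSpaceOver n (Spec (CommRingCat.of B)) ⟶ CohB1.ProjSpace n B)
    (he : e ≫ Proj.map (mapHom n B) (irrelevant_le n B) = toZ n (Spec (CommRingCat.of B))) (m : ℤ) :
    Nonempty (Twist.twistOver n (Spec (CommRingCat.of B)) m ≅
      (Scheme.Modules.pullback e).obj (Twist.twistProjSpace n B m)) := by
  obtain ⟨a⟩ := nonempty_pullback_mapHom_twist_iso n B m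
  rw [twistOver_eq]
  exact ⟨pullbackObjIsoOfEq e _ _ he _ ≪≫ (Scheme.Modules.pullback e).mapIso a⟩

/-- **(T1)** for the chart isomorphism `specIso`. -/
theorem nonempty_twistOver_spec_iso (m : ℤ) :
    Nonempty (Twist.twistOver n (Spec (CommRingCat.of B)) m ≅
      (Scheme.Modules.pullback (specIso n B).hom).obj (Twist.twistProjSpace n B m)) :=
  nonempty_twistOver_iso_of_comp_eq n B _ (specIso_hom_map n B) m

end T1

section T3

open Groth.Agent.R2.H87.ProjSpaceOver Groth.Agent.R2.H87.PnSpec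

variable (n : ℕ)

/-- the range of the open immersion `P^n_T ⟶ P^n_S` induced by an open immersion `T ⟶ S` is the preimage
of the range of `T ⟶ S`. -/
theorem opensRange_map {S T : Scheme.{u}} (h : T ⟶ S) [IsOpenImmersion h] :
    (map n h).opensRange = CohB1.ProjSpaceOver.toBase n S ⁻¹ᵁ h.opensRange := by
  have hp := isPullback_map n h
  ext x
  constructor
  · rintro ⟨y, rfl⟩
    refine ⟨(CohB1.ProjSpaceOver.toBase n T) y, ?_⟩
    rw [← Scheme.Hom.comp_apply, ← Scheme.Hom.comp_apply, map_toBase]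
  · rintro ⟨t, ht⟩
    obtain ⟨z, hz1, hz2⟩ := Scheme.Pullback.exists_preimage_pullback
      (f := CohB1.ProjSpaceOver.toBase n S) (g := h) x t ht.symm
    refine ⟨hp.isoPullback.inv z, ?_⟩
    rw [← Scheme.Hom.comp_apply, hp.isoPullback_inv_fst]
    exact hz1

variable {Z : Scheme.{u}} (V : Z.Opens) (hV : IsAffineOpen V)

/-- the standard chart `Proj Γ(Z,V)[x_0..x_n] ⟶ P^n_Z` over an affine open `V ⊆ Z`. -/
noncomputable def chartMap : CohB1.ProjSpace n Γ(Z, V) ⟶ CohB1.ProjSpaceOver n Z :=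
  (specIso n Γ(Z, V)).inv ≫ map n hV.fromSpec

instance : IsOpenImmersion (chartMap n V hV) := by
  unfold chartMap
  infer_instance

theorem chartMap_toBase :
    chartMap n V hV ≫ CohB1.ProjSpaceOver.toBase n Z =
      CohB1.ProjSpace.toSpec n Γ(Z, V) ≫ hV.fromSpec := by
  rw [chartMap, Category.assoc, map_toBase, ← Category.assoc]
  congr 1
  rw [Iso.inv_comp_eq]
  exact (specIso_hom_toSpec n Γ(Z, V)).symm

theorem chartMap_toZ :
    chartMap n V hV ≫ toZ n Z = Proj.map (mapHom n Γ(Z, V)) (irrelevant_le n Γ(Z, V)) := by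
  rw [chartMap, Category.assoc, map_toZ, Iso.inv_comp_eq]
  exact (specIso_hom_map n Γ(Z, V)).symm

theorem opensRange_chartMap :
    (chartMap n V hV).opensRange = CohB1.ProjSpaceOver.toBase n Z ⁻¹ᵁ V := by
  unfold chartMap
  rw [Scheme.Hom.opensRange_comp_of_isIso, opensRange_map, hV.opensRange_fromSpec]

/-- **(T1+T2 at an affine open)** `O(m)` on `P^n_Z` pulls back to `O(m)` on the chart `Proj Γ(Z,V)[x]`. -/
theorem nonempty_pullback_chartMap_twistOver_iso (m : ℤ) :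
    Nonempty ((Scheme.Modules.pullback (chartMap n V hV)).obj (Twist.twistOver n Z m) ≅
      Twist.twistProjSpace n Γ(Z, V) m) := by
  obtain ⟨a⟩ := nonempty_pullback_mapHom_twist_iso n Γ(Z, V) m
  exact ⟨pullbackTwistOverIso n (chartMap n V hV) m ≪≫
    (Scheme.Modules.pullbackCongr (chartMap_toZ n V hV)).app _ ≪≫ a⟩

/-- the same for the restriction along the chart. -/
theorem nonempty_restrict_chartMap_twistOver_iso (m : ℤ) :
    Nonempty ((Twist.twistOver n Z m).restrict (chartMap n V hV) ≅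
      Twist.twistProjSpace n Γ(Z, V) m) := by
  obtain ⟨a⟩ := nonempty_pullback_chartMap_twistOver_iso n V hV m
  exact ⟨(Scheme.Modules.restrictFunctorIsoPullback (chartMap n V hV)).app _ ≪≫ a⟩

/-- the chart as an isomorphism onto the open subscheme `π⁻¹(V) ⊆ P^n_Z`. -/
noncomputable def chartIso :
    CohB1.ProjSpace n Γ(Z, V) ≅ ((CohB1.ProjSpaceOver.toBase n Z ⁻¹ᵁ V : (CohB1.ProjSpaceOver n Z).Opens) :
      Scheme.{u}) :=
  (chartMap n V hV).isoOpensRange ≪≫ Scheme.isoOfEq _ (opensRange_chartMap n V hV)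

@[reassoc]
theorem chartIso_hom_ι :
    (chartIso n V hV).hom ≫ (CohB1.ProjSpaceOver.toBase n Z ⁻¹ᵁ V).ι = chartMap n V hV := by
  simp [chartIso]

@[reassoc]
theorem chartIso_inv_chartMap :
    (chartIso n V hV).inv ≫ chartMap n V hV = (CohB1.ProjSpaceOver.toBase n Z ⁻¹ᵁ V).ι := by
  rw [Iso.inv_comp_eq, chartIso_hom_ι]

/-- **(T1+T2, open-subscheme form)** the restriction of `O(m)` to `π⁻¹(V) ⊆ P^n_Z` is the pullback of `O(m)`
on `Proj Γ(Z,V)[x]` along the inverse of the chart isomorphism. -/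
theorem nonempty_restrict_preimage_twistOver_iso (m : ℤ) :
    Nonempty ((Twist.twistOver n Z m).restrict (CohB1.ProjSpaceOver.toBase n Z ⁻¹ᵁ V).ι ≅
      (Scheme.Modules.pullback (chartIso n V hV).inv).obj (Twist.twistProjSpace n Γ(Z, V) m)) := by
  obtain ⟨a⟩ := nonempty_pullback_chartMap_twistOver_iso n V hV m
  exact ⟨(Scheme.Modules.restrictFunctorIsoPullback _).app _ ≪≫
    pullbackObjIsoOfEq (chartIso n V hV).inv (chartMap n V hV) _ (chartIso_inv_chartMap n V hV) _ ≪≫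
    (Scheme.Modules.pullback (chartIso n V hV).inv).mapIso a⟩

end T3

end Groth.Agent.R2.H55.TwistBC
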