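import Mathlib
import Groth.Prelude.Def_Coh
import Groth.Prelude.Def_CohB1
import Groth.Prelude.Def_Pic
import Groth.Prelude.Def_Twist2
import Groth.Agent.R2.H55TwistBC
import Groth.Agent.Lib.Helper23PB

/-!
# RelSerre, step B: a closed subscheme of `P^n_Z` over an affine open of `Z` (helper55, coh-core)

For `j : Y ⟶ P^n_Z`, `π = j ≫ toBase`, and an affine open `V ⊆ Z` with `B = Γ(Z, V)`:
* `chartImm` : the closed immersion `π⁻¹(V) ⟶ Proj B[x_0..x_n]` induced by `j`;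
* `chartImm_chartMap`, `chartImm_toSpec` : its compatibilities;
* `restrictPullbackIso` : `(j^* F)|_{π⁻¹ V} ≅ chartImm^* (chartMap^* F)`;
* `nonempty_restrict_pullback_twistOver_iso` : `(j^* O(m))|_{π⁻¹ V} ≅ chartImm^* O(m)`;
* `isInvertible_twistOver`, `isInvertible_pullback_twistOver`.
-/

set_option autoImplicit false
universe u

open CategoryTheory CategoryTheory.Limits AlgebraicGeometry TopologicalSpace Opposite
open Groth.Agent.R2.H87.ProjSpaceOver Groth.Agent.R2.H87.PnSpec Groth.Agent.R2.H55.TwistBC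

namespace Groth.Agent.R2.H55.RelSerreB

variable (n : ℕ) {Y Z : Scheme.{u}} (j : Y ⟶ CohB1.ProjSpaceOver n Z) (π : Y ⟶ Z)
  (hπ : j ≫ CohB1.ProjSpaceOver.toBase n Z = π) (V : Z.Opens) (hV : IsAffineOpen V)

include hπ in
theorem preimage_eq : π ⁻¹ᵁ V = j ⁻¹ᵁ (CohB1.ProjSpaceOver.toBase n Z ⁻¹ᵁ V) := by
  subst hπ
  rfl

/-- the morphism `π⁻¹(V) ⟶ Proj Γ(Z,V)[x_0..x_n]` induced by `j : Y ⟶ P^n_Z`. -/
noncomputable def chartImm : ((π ⁻¹ᵁ V : Y.Opens) : Scheme.{u}) ⟶ CohB1.ProjSpace n Γ(Z, V) :=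
  (Y.isoOfEq (preimage_eq n j π hπ V)).hom ≫ (j ∣_ (CohB1.ProjSpaceOver.toBase n Z ⁻¹ᵁ V)) ≫
    (chartIso n V hV).inv

instance [IsClosedImmersion j] : IsClosedImmersion (chartImm n j π hπ V hV) := by
  unfold chartImm
  infer_instance

@[reassoc]
theorem chartImm_chartMap :
    chartImm n j π hπ V hV ≫ chartMap n V hV = (π ⁻¹ᵁ V).ι ≫ j := by
  rw [chartImm, Category.assoc, Category.assoc, chartIso_inv_chartMap, morphismRestrict_ι,
    Scheme.isoOfEq_hom_ι_assoc]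

theorem chartImm_toSpec :
    chartImm n j π hπ V hV ≫ CohB1.ProjSpace.toSpec n Γ(Z, V) ≫ hV.fromSpec = (π ⁻¹ᵁ V).ι ≫ π := by
  rw [← chartMap_toBase, chartImm_chartMap_assoc, hπ]

/-- `(j^* F)|_{π⁻¹ V} ≅ chartImm^* (chartMap^* F)`. -/
noncomputable def restrictPullbackIso (F : (CohB1.ProjSpaceOver n Z).Modules) :
    ((Scheme.Modules.pullback j).obj F).restrict (π ⁻¹ᵁ V).ι ≅
      (Scheme.Modules.pullback (chartImm n j π hπ V hV)).obj
        ((Scheme.Modules.pullback (chartMap n V hV)).obj F) :=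
  (Scheme.Modules.restrictFunctorIsoPullback (π ⁻¹ᵁ V).ι).app _ ≪≫
    (Scheme.Modules.pullbackComp (π ⁻¹ᵁ V).ι j).app F ≪≫
    pullbackObjIsoOfEq (chartImm n j π hπ V hV) (chartMap n V hV) _
      (chartImm_chartMap n j π hπ V hV) F

/-- **(RelSerre, step B)** `(j^* O_{P^n_Z}(m))|_{π⁻¹ V} ≅ chartImm^* O_{P^n_B}(m)`, `B = Γ(Z, V)`. -/
theorem nonempty_restrict_pullback_twistOver_iso (m : ℤ) :
    Nonempty (((Scheme.Modules.pullback j).obj (Twist.twistOver n Z m)).restrict (π ⁻¹ᵁ V).ι ≅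
      (Scheme.Modules.pullback (chartImm n j π hπ V hV)).obj
        (Twist.twistProjSpace n Γ(Z, V) m)) := by
  obtain ⟨a⟩ := nonempty_pullback_chartMap_twistOver_iso n V hV m
  exact ⟨restrictPullbackIso n j π hπ V hV _ ≪≫
    (Scheme.Modules.pullback (chartImm n j π hπ V hV)).mapIso a⟩

/-- `O(m)` on `P^n_S` is invertible. -/
theorem isInvertible_twistOver (S : Scheme.{u}) (m : ℤ) :
    PicF.IsInvertible (Twist.twistOver n S m) := by
  rw [twistOver_eq]
  exact Groth.Agent.Lib.Helper23.PB.isInvertible_pullback _ _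
    (Groth.Agent.R2.H79.TwistCalc.isInvertible_twistProjSpace n (ULift.{u} ℤ) m)

/-- `j^* O(m)` is invertible. -/
theorem isInvertible_pullback_twistOver (m : ℤ) :
    PicF.IsInvertible ((Scheme.Modules.pullback j).obj (Twist.twistOver n Z m)) :=
  Groth.Agent.Lib.Helper23.PB.isInvertible_pullback _ _ (isInvertible_twistOver n Z m)

/-- invertible modules are coherent (quasi-coherent of finite type). -/
theorem isCoh_of_isInvertible {X : Scheme.{u}} (L : X.Modules) (hL : PicF.IsInvertible L) :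
    Coh.IsCoh L := by
  have hfp := Groth.Agent.Lib.Helper2.LocFree.isFP_of_isFinLocFree _
    (Groth.Agent.Helper18PBUnit.isFinLocFree_of_isInvertible hL)
  exact ⟨Groth.Agent.Helper18Strict.isQCoh_of_isFP _ hfp,
    Groth.Agent.Helper18Strict.isFT_of_isFP _ hfp⟩

theorem isCoh_pullback_twistOver (m : ℤ) :
    Coh.IsCoh ((Scheme.Modules.pullback j).obj (Twist.twistOver n Z m)) :=
  isCoh_of_isInvertible _ (isInvertible_pullback_twistOver n j m)

/-! ### The exact shapes requested for `R2/H62RelSerre` (helper62, board #932) -/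

section Shapes

variable {n}

/-- `iV := (j ∣_ U) ≫ (chartIso n V hV).inv`, `U := toBase ⁻¹ V`. -/
noncomputable def iV :
    ((j ⁻¹ᵁ (CohB1.ProjSpaceOver.toBase n Z ⁻¹ᵁ V) : Y.Opens) : Scheme.{u}) ⟶
      CohB1.ProjSpace n Γ(Z, V) :=
  (j ∣_ (CohB1.ProjSpaceOver.toBase n Z ⁻¹ᵁ V)) ≫ (chartIso n V hV).inv

/-- (B1) -/
instance isClosedImmersion_iV [IsClosedImmersion j] : IsClosedImmersion (iV j V hV) := by
  unfold iV
  infer_instance

@[reassoc]
theorem iV_chartMap :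
    iV j V hV ≫ chartMap n V hV = (j ⁻¹ᵁ (CohB1.ProjSpaceOver.toBase n Z ⁻¹ᵁ V)).ι ≫ j := by
  rw [iV, Category.assoc, chartIso_inv_chartMap, morphismRestrict_ι]

/-- (B2) -/
theorem nonempty_restrict_pullback_twistOver_iso_iV (m : ℤ) :
    Nonempty (((Scheme.Modules.pullback j).obj (Twist.twistOver n Z m)).restrict
        (j ⁻¹ᵁ (CohB1.ProjSpaceOver.toBase n Z ⁻¹ᵁ V)).ι ≅
      (Scheme.Modules.pullback (iV j V hV)).obj (Twist.twistProjSpace n Γ(Z, V) m)) := by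
  obtain ⟨a⟩ := nonempty_pullback_chartMap_twistOver_iso n V hV m
  exact ⟨(Scheme.Modules.restrictFunctorIsoPullback _).app _ ≪≫
    (Scheme.Modules.pullbackComp _ j).app _ ≪≫
    pullbackObjIsoOfEq (iV j V hV) (chartMap n V hV) _ (iV_chartMap j V hV) _ ≪≫
    (Scheme.Modules.pullback (iV j V hV)).mapIso a⟩

/-- (B3) -/
theorem iV_toSpec :
    iV j V hV ≫ CohB1.ProjSpace.toSpec n Γ(Z, V) =
      ((j ≫ CohB1.ProjSpaceOver.toBase n Z) ∣_ V) ≫ hV.isoSpec.hom := by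
  have h2 : (((j ≫ CohB1.ProjSpaceOver.toBase n Z) ∣_ V) ≫ hV.isoSpec.hom) ≫ hV.fromSpec =
      ((j ≫ CohB1.ProjSpaceOver.toBase n Z) ⁻¹ᵁ V).ι ≫ (j ≫ CohB1.ProjSpaceOver.toBase n Z) := by
    rw [Category.assoc, IsAffineOpen.fromSpec, Iso.hom_inv_id_assoc, morphismRestrict_ι]
  rw [← cancel_mono hV.fromSpec, Category.assoc, ← chartMap_toBase, iV_chartMap_assoc]
  exact h2.symm

end Shapes

end Groth.Agent.R2.H55.RelSerreB
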