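import Mathlib
import Groth.Prelude.Def_Coh
import Groth.Prelude.Def_Pic
import Groth.Prelude.Def_CohB1
import Groth.Agent.Lib.Helper20InvGen
import Groth.Agent.Lib.Helper23StalkLin
import Groth.Agent.Lib.Helper20ZClos

/-!
# Invertible modules on integral schemes (helper62)

* `eq_zero_of_germ_eq_zero`: sections of an invertible module on an integral scheme are determined by
  a single germ (torsion-freeness).
* `eq_zero_of_stalkLin_eq_zero`: a morphism of invertible modules which vanishes on one stalk is zero.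
* `mono_of_ne_zero`: a nonzero morphism of invertible modules on an integral scheme is a monomorphism.
-/

set_option autoImplicit false
set_option linter.style.haveILetI false
universe u

open CategoryTheory CategoryTheory.Limits AlgebraicGeometry TopologicalSpace Opposite

namespace Groth.Agent.R2.H62.CurveInv

open Groth.Agent.Lib.Helper4.NormDelta Groth.Agent.Lib.Helper20.InvGen
open Groth.Agent.Lib.Helper2

variable {X : Scheme.{u}}

/-- a section of a module all of whose germs vanish is zero -/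
theorem eq_zero_of_forall_germ (M : X.Modules) {U : X.Opens} (s : Γ(M, U))
    (h : ∀ (x : X) (hx : x ∈ U), M.presheaf.germ U x hx s = 0) : s = 0 := by
  let M' : TopCat.Sheaf Ab.{u} X.toTopCat := ⟨M.presheaf, M.isSheaf⟩
  refine TopCat.Presheaf.section_ext M' U s 0 fun x hx => ?_
  rw [map_zero]
  exact h x hx

/-- vanishing of a germ spreads to a neighbourhood -/
theorem exists_res_eq_zero_of_germ (M : X.Modules) {U : X.Opens} (s : Γ(M, U)) (x : X) (hx : x ∈ U)
    (h : M.presheaf.germ U x hx s = 0) :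
    ∃ (W : X.Opens) (hW : W ≤ U), x ∈ W ∧ M.presheaf.map (homOfLE hW).op s = 0 := by
  have h0 : M.presheaf.germ U x hx s = M.presheaf.germ U x hx 0 := by rw [h, map_zero]
  obtain ⟨W, hxW, i₁, i₂, hW⟩ := M.presheaf.germ_eq x hx hx _ _ h0
  refine ⟨W, leOfHom i₁, hxW, ?_⟩
  rw [map_zero] at hW
  exact hW

/-- **Torsion-freeness**: a section of an invertible module on an integral scheme with one vanishing germ
is zero. -/
theorem eq_zero_of_germ_eq_zero [IsIntegral X] (L : X.Modules) (hL : PicF.IsInvertible L)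
    {U : X.Opens} (s : Γ(L, U)) (z : X) (hz : z ∈ U) (h : L.presheaf.germ U z hz s = 0) : s = 0 := by
  obtain ⟨A, hAU, hzA, hA⟩ := exists_res_eq_zero_of_germ L s z hz h
  refine eq_zero_of_forall_germ L s fun p hp => ?_
  obtain ⟨W, t, hpW, ht⟩ := exists_local_generator L hL p
  obtain ⟨c, hc⟩ := (ht p hpW).2 (L.presheaf.germ U p hp s)
  obtain ⟨V₀, hpV₀, r₀, rfl⟩ := X.presheaf.exists_germ_eq c
  -- shrink to `V ≤ U ⊓ W ⊓ V₀` on which `s = r • t`
  have hpV₁ : p ∈ U ⊓ W ⊓ V₀ := ⟨⟨hp, hpW⟩, hpV₀⟩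
  set V₁ : X.Opens := U ⊓ W ⊓ V₀ with hV₁
  have hV₁U : V₁ ≤ U := inf_le_left.trans inf_le_left
  have hV₁W : V₁ ≤ W := inf_le_left.trans inf_le_right
  have hV₁V₀ : V₁ ≤ V₀ := inf_le_right
  set r₁ := X.presheaf.map (homOfLE hV₁V₀).op r₀ with hr₁
  set t₁ := L.presheaf.map (homOfLE hV₁W).op t with ht₁
  set s₁ := L.presheaf.map (homOfLE hV₁U).op s with hs₁
  have hg : L.presheaf.germ V₁ p hpV₁ s₁ = L.presheaf.germ V₁ p hpV₁ (r₁ • t₁) := by
    rw [QCoh.germ_smul, hs₁, ht₁, hr₁]
    rw [TopCat.Presheaf.germ_res_apply L.presheaf (homOfLE hV₁U) p hpV₁ s,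
      TopCat.Presheaf.germ_res_apply L.presheaf (homOfLE hV₁W) p hpV₁ t]
    erw [TopCat.Presheaf.germ_res_apply X.presheaf (homOfLE hV₁V₀) p hpV₁ r₀]
    exact hc.symm
  obtain ⟨V, hpV, i₁, i₂, hV⟩ := L.presheaf.germ_eq p hpV₁ hpV₁ _ _ hg
  -- `A ⊓ V` is nonempty
  have hne : ((A : Set X) ∩ (V : Set X)).Nonempty :=
    nonempty_preirreducible_inter A.2 V.2 ⟨z, hzA⟩ ⟨p, hpV⟩
  obtain ⟨q, hqA, hqV⟩ := hne
  have hVV₁ : V ≤ V₁ := leOfHom i₁
  have hqV₁ : q ∈ V₁ := hVV₁ hqV
  -- germ of `s` at `q` vanishes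
  have h1 : L.presheaf.germ U q (hAU hqA) s = 0 := by
    rw [← TopCat.Presheaf.germ_res_apply L.presheaf (homOfLE hAU) q hqA s, hA, map_zero]
  -- hence germ of `r` at `q` vanishes
  have h2 : L.presheaf.germ V q hqV (L.presheaf.map i₁.op s₁) = 0 := by
    rw [TopCat.Presheaf.germ_res_apply L.presheaf i₁ q hqV s₁, hs₁,
      TopCat.Presheaf.germ_res_apply L.presheaf (homOfLE hV₁U) q hqV₁ s]
    exact h1
  have hV' : L.presheaf.map i₁.op s₁ = L.presheaf.map i₁.op (r₁ • t₁) := by
    rw [hV, Subsingleton.elim i₁ i₂]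
  rw [hV', TopCat.Presheaf.germ_res_apply L.presheaf i₁ q hqV (r₁ • t₁), QCoh.germ_smul, ht₁,
    TopCat.Presheaf.germ_res_apply L.presheaf (homOfLE hV₁W) q hqV₁ t] at h2
  have h3 : X.presheaf.germ V₁ q hqV₁ r₁ = 0 := by
    have := (ht q (hV₁W hqV₁)).1 (a₁ := X.presheaf.germ V₁ q hqV₁ r₁) (a₂ := 0)
    apply this
    simp only [zero_smul]
    exact h2
  have h4 : r₁ = 0 := by
    have hinj := AlgebraicGeometry.germ_injective_of_isIntegral X q hqV₁
    apply hinj
    rw [map_zero]
    exact h3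
  -- conclude
  rw [← hc]
  have h5 : X.presheaf.germ V₀ p hpV₀ r₀ = X.presheaf.germ V₁ p hpV₁ r₁ := by
    rw [hr₁]
    exact (TopCat.Presheaf.germ_res_apply X.presheaf (homOfLE hV₁V₀) p hpV₁ r₀).symm
  change X.presheaf.germ V₀ p hpV₀ r₀ • _ = 0
  rw [h5, h4, map_zero, zero_smul]

/-- if a morphism kills a free generator of the stalk, its stalk map is zero -/
theorem stalkLin_eq_zero_of_generator {N L : X.Modules} (φ : N ⟶ L) {W : X.Opens} (t : Γ(N, W))
    (y : X) (hy : y ∈ W)
    (ht : Function.Bijective (fun c : X.presheaf.stalk y => c • N.presheaf.germ W y hy t))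
    (h : L.presheaf.germ W y hy (φ.app W t) = 0) : stalkLin φ y = 0 := by
  ext n
  obtain ⟨c, rfl⟩ := ht.2 n
  change stalkLin φ y (c • N.presheaf.germ W y hy t) = 0
  rw [map_smul, stalkLin_germ, h, smul_zero]

/-- a morphism of invertible modules on an integral scheme which vanishes on one stalk is zero -/
theorem eq_zero_of_stalkLin_eq_zero [IsIntegral X] {N L : X.Modules} (hN : PicF.IsInvertible N)
    (hL : PicF.IsInvertible L) (φ : N ⟶ L) (x : X) (h : stalkLin φ x = 0) : φ = 0 := by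
  obtain ⟨W, t, hxW, ht⟩ := exists_local_generator N hN x
  have h1 : φ.app W t = 0 := by
    refine eq_zero_of_germ_eq_zero L hL _ x hxW ?_
    rw [← stalkLin_germ, h]; rfl
  have h2 : ∀ y ∈ W, stalkLin φ y = 0 := fun y hy =>
    stalkLin_eq_zero_of_generator φ t y hy (ht y hy) (by rw [h1, map_zero])
  apply Scheme.Modules.hom_ext
  intro U
  ext n
  change φ.app U n = 0
  refine eq_zero_of_forall_germ L _ fun p hp => ?_
  obtain ⟨y, hyU, hyW⟩ := nonempty_preirreducible_inter U.2 W.2 ⟨p, hp⟩ ⟨x, hxW⟩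
  have : φ.app U n = 0 := by
    refine eq_zero_of_germ_eq_zero L hL _ y hyU ?_
    rw [← stalkLin_germ, h2 y hyW]; rfl
  rw [this, map_zero]

/-- on an integral scheme, the stalk map of a morphism of invertible modules is injective or zero -/
theorem stalkLin_injective_of_ne_zero [IsIntegral X] {N L : X.Modules} (hN : PicF.IsInvertible N)
    (hL : PicF.IsInvertible L) (φ : N ⟶ L) (x : X) (h : stalkLin φ x ≠ 0) :
    Function.Injective (stalkLin φ x) := by
  obtain ⟨W, t, hxW, ht⟩ := exists_local_generator N hN x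
  obtain ⟨W', t', hxW', ht'⟩ := exists_local_generator L hL x
  set n := N.presheaf.germ W x hxW t with hn
  set l := L.presheaf.germ W' x hxW' t' with hl
  obtain ⟨a, ha⟩ := (ht' x hxW').2 (stalkLin φ x n)
  have ha' : a • l = stalkLin φ x n := ha
  have ha0 : a ≠ 0 := by
    rintro rfl
    apply h
    ext m
    obtain ⟨c, rfl⟩ := (ht x hxW).2 m
    change stalkLin φ x (c • n) = 0
    rw [map_smul, ← ha', zero_smul, smul_zero]
  rw [injective_iff_map_eq_zero]
  intro m hm
  obtain ⟨c, rfl⟩ := (ht x hxW).2 m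
  change stalkLin φ x (c • n) = 0 at hm
  rw [map_smul, ← ha', smul_smul] at hm
  have h0 : c * a = 0 := by
    apply (ht' x hxW').1
    change (c * a) • l = (0 : X.presheaf.stalk x) • l
    rw [hm, zero_smul]
  have hc : c = 0 := by
    rcases mul_eq_zero.1 h0 with h | h
    · exact h
    · exact absurd h ha0
  change c • n = 0
  rw [hc, zero_smul]

/-- **A nonzero morphism of invertible modules on an integral scheme is a monomorphism.** -/
theorem mono_of_ne_zero [IsIntegral X] {N L : X.Modules} (hN : PicF.IsInvertible N)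
    (hL : PicF.IsInvertible L) (φ : N ⟶ L) (h : φ ≠ 0) : Mono φ := by
  rw [Groth.Agent.Lib.Helper20.ZClosLib.mono_iff_stalk_injective]
  intro x
  have hx : stalkLin φ x ≠ 0 := fun h0 => h (eq_zero_of_stalkLin_eq_zero hN hL φ x h0)
  exact stalkLin_injective_of_ne_zero hN hL φ x hx

end Groth.Agent.R2.H62.CurveInv
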