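import Mathlib
import Groth.Prelude.Def_Coh
import Groth.Prelude.Def_Pic
import Groth.Prelude.Def_CohB1
import Groth.Agent.S0020
import Groth.Agent.R2.H62CurveInv
import Groth.Agent.Lib.Helper23QCohAbelian
import Groth.Agent.Lib.Helper23FinTypeLocal
import Groth.Agent.Lib.Helper20WeakAss
import Groth.Agent.Lib.Helper20ZClos20

/-!
# Cokernels of nonzero maps of invertible modules on integral schemes (helper62)

For `φ : N ⟶ L` a nonzero map of invertible modules on an integral scheme `X`:
* `isCoh_cokernel` : the cokernel is quasi-coherent of finite type;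
* `genericPoint_notMem_support_cokernel` : the cokernel vanishes at the generic point;
* `dim_support_cokernel_le_zero` : if `dim X ≤ 1`, the support of the cokernel has dimension `≤ 0`.
-/

set_option autoImplicit false
set_option linter.style.haveILetI false
universe u

open CategoryTheory CategoryTheory.Limits AlgebraicGeometry TopologicalSpace Opposite Order

namespace Groth.Agent.R2.H62.CurveInv

open Groth.Agent.Lib.Helper4.NormDelta Groth.Agent.Lib.Helper20.InvGen
open Groth.Agent.Lib.Helper2

/-- a proper closed subset of an irreducible space of dimension `≤ 1` has dimension `≤ 0` -/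
theorem topologicalKrullDim_le_zero_of_isClosed_ne_univ {X : Type*} [TopologicalSpace X]
    [IrreducibleSpace X] (hdim : topologicalKrullDim X ≤ 1) {Z : Set X} (hZ : IsClosed Z)
    (hne : Z ≠ Set.univ) : topologicalKrullDim Z ≤ 0 := by
  unfold topologicalKrullDim
  unfold Order.krullDim
  refine iSup_le fun p => ?_
  have hind : Topology.IsInducing (Subtype.val : Z → X) := Topology.IsInducing.subtypeVal
  let q₀ : LTSeries (IrreducibleCloseds X) :=
    p.map (IrreducibleCloseds.map Subtype.val hind.continuous)
      (IrreducibleCloseds.map_strictMono_of_isInducing hind)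
  let top : IrreducibleCloseds X :=
    { carrier := Set.univ
      isIrreducible' := IrreducibleSpace.isIrreducible_univ X
      isClosed' := isClosed_univ }
  have hlt : q₀.last < top := by
    rw [lt_iff_le_and_ne]
    refine ⟨fun x _ => Set.mem_univ x, fun h => hne ?_⟩
    have h1 : (q₀.last : Set X) ⊆ Z := by
      change closure (Subtype.val '' (p.last : Set Z)) ⊆ Z
      refine closure_minimal ?_ hZ
      rintro _ ⟨y, -, rfl⟩
      exact y.2
    have h2 : (q₀.last : Set X) = Set.univ :=
      congrArg (fun c : IrreducibleCloseds X => (c : Set X)) h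
    rw [h2] at h1
    exact Set.eq_univ_of_univ_subset h1
  let q : LTSeries (IrreducibleCloseds X) := q₀.snoc top hlt
  have hq : (q.length : WithBot ℕ∞) ≤ 1 := (LTSeries.length_le_krullDim q).trans hdim
  have hlen : q.length = p.length + 1 := by simp [q, q₀]
  rw [hlen] at hq
  have : p.length + 1 ≤ 1 := by exact_mod_cast hq
  have : p.length = 0 := by omega
  rw [this]
  rfl

variable {X : Scheme.{u}}

/-- invertible modules are coherent (quasi-coherent of finite type) -/
theorem isCoh_of_isInvertible {L : X.Modules} (hL : PicF.IsInvertible L) : Coh.IsCoh L :=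
  ⟨Groth.Agent.Lib.Helper20.WeakAss.isQuasicoherent_of_isInvertible L hL,
    Groth.Agent.Lib.Helper20.ZClosLib.isFiniteType_of_isInvertible L hL⟩

/-- cokernels of maps between coherent modules are coherent -/
theorem isCoh_cokernel {N L : X.Modules} (hN : Coh.IsCoh N) (hL : Coh.IsCoh L) (φ : N ⟶ L) :
    Coh.IsCoh (cokernel φ) := by
  haveI := hN.1
  haveI := hL.1
  haveI := hL.2
  haveI : (cokernel φ).IsQuasicoherent :=
    Groth.Agent.Lib.Helper23.QCohLocal.isQuasicoherent_cokernel φ
  exact ⟨inferInstance, Groth.Agent.Lib.Helper23.FinType.isFiniteType_of_epi (cokernel.π φ)⟩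

/-- stalk maps compose -/
theorem stalkLin_comp_apply {M N K : X.Modules} (φ : M ⟶ N) (ψ : N ⟶ K) (x : X)
    (z : M.presheaf.stalk x) : stalkLin (φ ≫ ψ) x z = stalkLin ψ x (stalkLin φ x z) := by
  obtain ⟨V, hxV, t, rfl⟩ := M.presheaf.exists_germ_eq z
  rw [stalkLin_germ, stalkLin_germ, stalkLin_germ]
  rfl

theorem stalkLin_zero_apply {M N : X.Modules} (x : X) (z : M.presheaf.stalk x) :
    stalkLin (0 : M ⟶ N) x z = 0 := by
  obtain ⟨V, hxV, t, rfl⟩ := M.presheaf.exists_germ_eq z
  rw [stalkLin_germ]
  exact map_zero _

/-- local description of a map of invertible modules on a stalk: multiplication by `a` in terms of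
free generators -/
theorem exists_stalk_datum {N L : X.Modules} (hN : PicF.IsInvertible N) (hL : PicF.IsInvertible L)
    (φ : N ⟶ L) (x : X) :
    ∃ (n : N.presheaf.stalk x) (l : L.presheaf.stalk x) (a : X.presheaf.stalk x),
      Function.Bijective (fun c : X.presheaf.stalk x => c • n) ∧
      Function.Bijective (fun c : X.presheaf.stalk x => c • l) ∧ stalkLin φ x n = a • l := by
  obtain ⟨W, t, hxW, ht⟩ := exists_local_generator N hN x
  obtain ⟨W', t', hxW', ht'⟩ := exists_local_generator L hL x
  obtain ⟨a, ha⟩ := (ht' x hxW').2 (stalkLin φ x (N.presheaf.germ W x hxW t))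
  exact ⟨_, _, a, ht x hxW, ht' x hxW', ha.symm⟩

/-- the stalk of the cokernel vanishes where the stalk map is surjective -/
theorem subsingleton_stalk_cokernel_of_surjective {N L : X.Modules} (φ : N ⟶ L) (x : X)
    (h : Function.Surjective (stalkLin φ x)) : Subsingleton ((cokernel φ).presheaf.stalk x) := by
  refine ⟨fun q q' => ?_⟩
  have key : ∀ q : (cokernel φ).presheaf.stalk x, q = 0 := by
    intro q
    obtain ⟨m, rfl⟩ := stalkLin_surjective (cokernel.π φ) x q
    obtain ⟨z, rfl⟩ := h m
    rw [← stalkLin_comp_apply, cokernel.condition]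
    exact stalkLin_zero_apply x z
  rw [key q, key q']

/-- the stalk map at the generic point of a nonzero map of invertible modules on an integral scheme is
surjective -/
theorem stalkLin_surjective_genericPoint [IsIntegral X] {N L : X.Modules}
    (hN : PicF.IsInvertible N) (hL : PicF.IsInvertible L) (φ : N ⟶ L) (h : φ ≠ 0) :
    Function.Surjective (stalkLin φ (genericPoint X)) := by
  obtain ⟨n, l, a, hn, hl, ha⟩ := exists_stalk_datum hN hL φ (genericPoint X)
  have ha0 : a ≠ 0 := by
    rintro rfl
    apply h
    refine eq_zero_of_stalkLin_eq_zero hN hL φ (genericPoint X) ?_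
    ext m
    obtain ⟨c, rfl⟩ := hn.2 m
    change stalkLin φ (genericPoint X) (c • n) = 0
    rw [map_smul, ha, zero_smul, smul_zero]
  have hfield : IsField (X.presheaf.stalk (genericPoint X)) :=
    isField_stalk_of_closure_mem_irreducibleComponents X _
      (by simp [irreducibleComponents_eq_singleton])
  obtain ⟨b, hb⟩ := hfield.mul_inv_cancel ha0
  intro m
  obtain ⟨c, rfl⟩ := hl.2 m
  refine ⟨(c * b) • n, ?_⟩
  change stalkLin φ (genericPoint X) ((c * b) • n) = c • l
  rw [map_smul, ha, smul_smul, mul_assoc, mul_comm b a, hb, mul_one]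

/-- the cokernel of a nonzero map of invertible modules on an integral scheme vanishes at the generic
point -/
theorem genericPoint_notMem_support_cokernel [IsIntegral X] {N L : X.Modules}
    (hN : PicF.IsInvertible N) (hL : PicF.IsInvertible L) (φ : N ⟶ L) (h : φ ≠ 0) :
    genericPoint X ∉ CohB1.support (cokernel φ) := by
  intro hmem
  exact hmem (subsingleton_stalk_cokernel_of_surjective φ _
    (stalkLin_surjective_genericPoint hN hL φ h))

/-- on an integral scheme of dimension `≤ 1` the cokernel of a nonzero map of invertible modules has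
support of dimension `≤ 0` -/
theorem dim_support_cokernel_le_zero [IsIntegral X] (hdim : topologicalKrullDim X ≤ 1)
    {N L : X.Modules} (hN : PicF.IsInvertible N) (hL : PicF.IsInvertible L) (φ : N ⟶ L)
    (h : φ ≠ 0) : topologicalKrullDim (CohB1.support (cokernel φ)) ≤ 0 := by
  have hcoh := isCoh_cokernel (isCoh_of_isInvertible hN) (isCoh_of_isInvertible hL) φ
  refine topologicalKrullDim_le_zero_of_isClosed_ne_univ hdim
    (Groth.Agent.S0020.result X _ hcoh.2) ?_
  intro huniv
  exact genericPoint_notMem_support_cokernel hN hL φ h (huniv ▸ Set.mem_univ _)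

end Groth.Agent.R2.H62.CurveInv
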