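import Groth.Agent.Lib.Helper27TwistGen
import Groth.Agent.Lib.Helper23SecTw6

/-!
# `O(0) ≅ O` on `Proj`, and invariance of `Coh.HH` under isomorphisms (helper82)
-/

set_option autoImplicit false
set_option linter.unusedSectionVars false
set_option linter.unusedVariables false

universe u

open CategoryTheory CategoryTheory.Limits AlgebraicGeometry TopologicalSpace Opposite
open Groth.Agent.Lib.Helper27GrTildeSect Groth.Agent.Lib.Helper23.SecTw Groth.Agent.Lib.Helper6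
  Groth.Agent.Lib.Helper23.GenLocus

namespace Groth.Agent.R2.H82.TwistZero

section HH

variable {X : Scheme.{u}}

/-- an isomorphism of abelian sheaves induces a bijection on cohomology. -/
theorem bijective_Hmap {F G : Sheaf (Opens.grothendieckTopology X) AddCommGrpCat.{u}} (φ : F ≅ G)
    (q : ℕ) : Function.Bijective (Sheaf.H.map φ.hom q) := by
  refine Function.bijective_iff_has_inverse.2 ⟨Sheaf.H.map φ.inv q, fun x => ?_, fun x => ?_⟩
  · rw [← Sheaf.H.map_comp_apply, φ.hom_inv_id, Sheaf.H.map_id_apply]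
  · rw [← Sheaf.H.map_comp_apply, φ.inv_hom_id, Sheaf.H.map_id_apply]

/-- cohomology of isomorphic modules. -/
noncomputable def hhEquivOfIso {M N : X.Modules} (φ : M ≅ N) (q : ℕ) : Coh.HH X M q ≃+ Coh.HH X N q :=
  AddEquiv.ofBijective (Sheaf.H.map ((SheafOfModules.toSheaf X.ringCatSheaf).mapIso φ).hom q)
    (bijective_Hmap _ q)

theorem subsingleton_HH_of_iso {M N : X.Modules} (φ : M ≅ N) (q : ℕ)
    [h : Subsingleton (Coh.HH X M q)] : Subsingleton (Coh.HH X N q) :=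
  (hhEquivOfIso φ q).symm.toEquiv.subsingleton

end HH

variable {R A : Type u} [CommRing R] [CommRing A] [Algebra R A] (𝒜 : ℕ → Submodule R A)
  [GradedAlgebra 𝒜]

lemma one_notMem (y : ProjectiveSpectrum 𝒜) : (1 : A) ∉ y.asHomogeneousIdeal :=
  fun h => y.isPrime.ne_top ((Ideal.eq_top_iff_one _).mpr h)

/-- `O(0) ≅ O` on `Proj`. -/
theorem nonempty_unit_iso_tilde_zero :
    Nonempty (Coh.structureModule (Proj 𝒜) ≅ GrTilde.tilde 𝒜 𝒜 0) := by
  have h1 : (1 : A) ∈ 𝒜 0 := SetLike.GradedOne.one_mem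
  have hij : ((0 : ℕ) : ℤ) = ((0 : ℕ) : ℤ) + 0 := by simp
  obtain ⟨Φ, -⟩ := exists_iso_of_frames (Coh.structureModule (Proj 𝒜)) (GrTilde.tilde 𝒜 𝒜 0)
    (fun _ : Unit => (⊤ : (Proj 𝒜).Opens)) (fun x => ⟨(), trivial⟩)
    (fun _ => toS ⊤ 1)
    (fun _ => fracSec 𝒜 0 ⊤ h1 h1 hij (fun y => one_notMem 𝒜 y.1))
    (fun _ => isGen_one ⊤)
    (fun _ => isGen_fracSec 𝒜 0 ⊤ h1 h1 hij (fun y => one_notMem 𝒜 y.1) (fun y => one_notMem 𝒜 y.1))
    (by
      intro _ _ g hg
      have hres : res (Coh.structureModule (Proj 𝒜)) (inf_le_left : (⊤ : (Proj 𝒜).Opens) ⊓ ⊤ ≤ ⊤)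
          (toS ⊤ 1) = toS _ 1 := (map_toS (homOfLE inf_le_left) 1).trans (by rw [map_one])
      have hres' : res (Coh.structureModule (Proj 𝒜)) (inf_le_right : (⊤ : (Proj 𝒜).Opens) ⊓ ⊤ ≤ ⊤)
          (toS ⊤ 1) = toS _ 1 := (map_toS (homOfLE inf_le_right) 1).trans (by rw [map_one])
      rw [hres, smul_toS, mul_one] at hg
      have hg1 : g = 1 := hg.symm
      rw [hg1, one_smul])
  exact ⟨Φ⟩

end Groth.Agent.R2.H82.TwistZero
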