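import Mathlib
import Groth.Prelude.Def_Coh
import Groth.Prelude.Def_CohB1
import Groth.Prelude.Def_Pic
import Groth.Prelude.Def_Twist2
import Groth.Agent.S9705
import Groth.Agent.R2.H62ECoreSpec
import Groth.Agent.R2.H62RelSerreSpec
import Groth.Agent.R2.H62CurveCoker
import Groth.Agent.R2.H82TwistZero
import Groth.Agent.R2.H55TwistBC
import Groth.Agent.R2.H55RelSerreB
import Groth.Agent.Lib.Helper23PB
import Groth.Agent.Lib.Helper23Restr

/-!
# Assembly of `RelSerre` from the steps A, B, C, D (helper62, coh-core E4+E5)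
-/

set_option autoImplicit false
set_option linter.style.haveILetI false
universe u

open CategoryTheory CategoryTheory.Limits AlgebraicGeometry

namespace Groth.Agent.R2.H62.RelSerreSpec

open Groth.Agent.R2.H62.ECore

/-- **STEP B** (charts): over an affine open `V` of the base the closed subscheme `Y ⊆ P^n_Z` becomes a closed
subscheme of `P^n_{Γ(Z,V)}`, compatibly with the structure morphisms and the twists. -/
def StepB : Prop :=
  ∀ (n : ℕ) {Y Z : Scheme.{u}} (j : Y ⟶ CohB1.ProjSpaceOver n Z) [IsClosedImmersion j] (V : Z.Opens)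
    (hV : IsAffineOpen V),
    ∃ iV : ((((j ≫ CohB1.ProjSpaceOver.toBase n Z) ⁻¹ᵁ V : Y.Opens)) : Scheme.{u}) ⟶
        CohB1.ProjSpace n Γ(Z, V),
      IsClosedImmersion iV ∧
      iV ≫ CohB1.ProjSpace.toSpec n Γ(Z, V) =
        ((j ≫ CohB1.ProjSpaceOver.toBase n Z) ∣_ V) ≫ hV.isoSpec.hom ∧
      ∀ m : ℤ, Nonempty
        (((Scheme.Modules.pullback j).obj (Twist.twistOver n Z m)).restrict
            ((j ≫ CohB1.ProjSpaceOver.toBase n Z) ⁻¹ᵁ V).ι ≅
          (Scheme.Modules.pullback iV).obj (Twist.twistProjSpace n Γ(Z, V) m))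

/-- a finite affine open cover of a quasi-compact scheme -/
theorem exists_finite_affine_cover (Z : Scheme.{u}) [CompactSpace Z] :
    ∃ (ι : Type u) (_ : Finite ι) (V : ι → Z.Opens), (∀ k, IsAffineOpen (V k)) ∧ ⨆ k, V k = ⊤ := by
  have hcov : (Set.univ : Set Z) ⊆ ⋃ U : Z.affineOpens, ((U : Z.Opens) : Set Z) := by
    intro x _
    have h := iSup_affineOpens_eq_top Z
    have hx : x ∈ (⨆ U : Z.affineOpens, (U : Z.Opens)) := by rw [h]; trivial
    rw [TopologicalSpace.Opens.mem_iSup] at hx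
    obtain ⟨U, hU⟩ := hx
    exact Set.mem_iUnion.2 ⟨U, hU⟩
  obtain ⟨t, ht⟩ := isCompact_univ.elim_finite_subcover
    (fun U : Z.affineOpens => ((U : Z.Opens) : Set Z)) (fun U => U.1.2) hcov
  refine ⟨{U : Z.affineOpens // U ∈ t}, inferInstance, fun k => k.1.1, fun k => k.1.2, ?_⟩
  rw [eq_top_iff]
  intro x _
  obtain ⟨U, hUt, hxU⟩ := Set.mem_iUnion₂.1 (ht (Set.mem_univ x))
  exact TopologicalSpace.Opens.mem_iSup.2 ⟨⟨U, hUt⟩, hxU⟩

open Groth.Agent.R2.H55.RelSerreB Groth.Agent.R2.H55.TwistBC in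
/-- **Assembly of `RelSerre`** from steps A, C, D, helper55's step B and `ProjFinite`. -/
theorem relSerre_of (hA : StepA.{u}) (hC : StepC.{u}) (hD : StepD.{u})
    (hProj : ∀ (B : Type u) [CommRing B] [IsNoetherianRing B], ProjFinite B) : RelSerre.{u} := by
  intro Z _ Y π n j _ hj
  subst hj
  haveI : IsProper (CohB1.ProjSpaceOver.toBase n Z) := Groth.Agent.S9705.isProper_toBase n Z
  obtain ⟨ι, hfin, V, hV, hcov⟩ := exists_finite_affine_cover Z
  have hNoeth : ∀ k, IsNoetherianRing Γ(Z, V k) := fun k =>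
    IsLocallyNoetherian.component_noetherian ⟨V k, hV k⟩
  have hAk : ∀ k, ∃ m₀ : ℤ, ∀ m : ℤ, m₀ ≤ m → ∀ q : ℕ, 0 < q →
      Subsingleton (Coh.HH _ ((Scheme.Modules.pullback (iV j (V k) (hV k))).obj
        (Twist.twistProjSpace n Γ(Z, V k) m)) q) := fun k => by
    haveI := hNoeth k
    exact hA n Γ(Z, V k) _ (iV j (V k) (hV k))
  choose m₀ hm₀ using hAk
  obtain ⟨m, hm⟩ : ∃ m : ℤ, ∀ k, m₀ k ≤ m := by
    obtain ⟨m, hm⟩ := Set.finite_range m₀ |>.bddAbove
    exact ⟨m, fun k => hm ⟨k, rfl⟩⟩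
  have hLinv := isInvertible_pullback_twistOver n j m
  have hLcoh := isCoh_pullback_twistOver n j m
  haveI : ((Scheme.Modules.pullback j).obj (Twist.twistOver n Z m)).IsQuasicoherent := hLcoh.1
  refine ⟨(Scheme.Modules.pullback j).obj (Twist.twistOver n Z m), hLcoh, hLinv, ?_, ?_⟩
  · have key : ∀ k : ι,
        letI : ((j ⁻¹ᵁ (CohB1.ProjSpaceOver.toBase n Z ⁻¹ᵁ V k) : Y.Opens) : Scheme.{u}).Over
          (Spec (CommRingCat.of Γ(Z, V k))) :=
          ⟨iV j (V k) (hV k) ≫ CohB1.ProjSpace.toSpec n Γ(Z, V k)⟩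
        Module.Finite Γ(Z, V k)
          (Coh.HH ((j ⁻¹ᵁ (CohB1.ProjSpaceOver.toBase n Z ⁻¹ᵁ V k) : Y.Opens) : Scheme.{u})
            (((Scheme.Modules.pullback j).obj (Twist.twistOver n Z m)).restrict
              (j ⁻¹ᵁ (CohB1.ProjSpaceOver.toBase n Z ⁻¹ᵁ V k)).ι) 0) := by
      intro k
      haveI := hNoeth k
      letI : ((j ⁻¹ᵁ (CohB1.ProjSpaceOver.toBase n Z ⁻¹ᵁ V k) : Y.Opens) : Scheme.{u}).Over
          (Spec (CommRingCat.of Γ(Z, V k))) :=
        ⟨iV j (V k) (hV k) ≫ CohB1.ProjSpace.toSpec n Γ(Z, V k)⟩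
      haveI : IsClosedImmersion (iV j (V k) (hV k)) := isClosedImmersion_iV j (V k) (hV k)
      haveI : IsClosedImmersion (iV j (V k) (hV k) ≫ (specIso n Γ(Z, V k)).inv) := inferInstance
      refine hProj Γ(Z, V k) n _ (iV j (V k) (hV k) ≫ (specIso n Γ(Z, V k)).inv) ?_ _ ?_ 0
      · rw [Category.assoc]
        have h1 : (specIso n Γ(Z, V k)).inv ≫
            CohB1.ProjSpaceOver.toBase n (Spec (CommRingCat.of Γ(Z, V k))) =
            CohB1.ProjSpace.toSpec n Γ(Z, V k) := by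
          rw [Iso.inv_comp_eq]
          exact (specIso_hom_toSpec n Γ(Z, V k)).symm
        rw [h1]
        rfl
      · exact isCoh_of_isInvertible _
          (Groth.Agent.Lib.Helper23.SecTw.isInvertible_restrict _ hLinv _)
    refine hD (j ≫ CohB1.ProjSpaceOver.toBase n Z) _ V hV hcov (fun k => ?_)
    have hk := key k
    rw [iV_toSpec j (V k) (hV k)] at hk
    exact hk
  · refine hC (j ≫ CohB1.ProjSpaceOver.toBase n Z) _ V hV hcov (fun k q hq => ?_)
    obtain ⟨e⟩ := nonempty_restrict_pullback_twistOver_iso_iV j (V k) (hV k) m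
    haveI := hm₀ k m (hm k) q hq
    exact Groth.Agent.R2.H82.TwistZero.subsingleton_HH_of_iso e.symm q

end Groth.Agent.R2.H62.RelSerreSpec
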