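import Mathlib
import Groth.Prelude.Def_CohPull
import Groth.Agent.R2.H70EdgeSch
import Groth.Agent.R2.H62ECoreSpec

/-!
# `A`-linearity of the edge map and `LerayLinear` (helper70, coh-core E6/E7)
-/

set_option autoImplicit false
universe u

open CategoryTheory CategoryTheory.Limits Abelian TopologicalSpace Opposite AlgebraicGeometry

namespace Groth.Agent.R2.H70.Edge

open CohPull

variable {X Y : Scheme.{u}} (f : X ⟶ Y)

/-- Pushing forward multiplication by `f^# r` is multiplication by `r` on `f_* G`. -/
lemma push_map_smulAb (G : X.Modules) (r : Coh.Γtop Y) :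
    (CohTop.push f.base).map (Coh.smulAb G (f.appTop.hom r)) =
      Coh.smulAb ((Scheme.Modules.pushforward f).obj G) r := by
  ext U m
  have key : Coh.resTop X (op ((Opens.map f.base).obj U.unop)) (f.appTop.hom r) =
      (f.app U.unop).hom (Coh.resTop Y U r) := by
    have := f.naturality (homOfLE (le_top : U.unop ≤ ⊤)).op
    exact (congrArg (fun t => t.hom r) this).symm
  exact congrArg (fun t => @HSMul.hSMul
    (X.ringCatSheaf.obj.obj (op ((Opens.map f.base).obj U.unop)))
    (G.val.obj (op ((Opens.map f.base).obj U.unop)))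
    (G.val.obj (op ((Opens.map f.base).obj U.unop))) _ t m) key

/-- `pushEdge` is semilinear along `f^#` for the module structures over global functions. -/
lemma pushEdge_smul (G : X.Modules) (p : ℕ) (r : Coh.Γtop Y)
    (x : Coh.HH Y ((Scheme.Modules.pushforward f).obj G) p) :
    pushEdge f G p (r • x) = (f.appTop.hom r : Coh.Γtop X) • pushEdge f G p x := by
  rw [pushEdge_apply, pushEdge_apply]
  change edge f.base (Coh.toAb G) p
      (Sheaf.H.map (Coh.smulAb ((Scheme.Modules.pushforward f).obj G) r) p x) =
    Sheaf.H.map (Coh.smulAb G (f.appTop.hom r)) p (edge f.base (Coh.toAb G) p x)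
  rw [← push_map_smulAb]
  exact edge_naturality f.base (Coh.smulAb G (f.appTop.hom r)) p x

lemma toGlobal_comp {A : Type u} [CommRing A] (g : Y ⟶ Spec (CommRingCat.of A))
    (a : A) : Coh.toGlobal (f ≫ g) a = f.appTop.hom (Coh.toGlobal g a) := by
  simp only [Coh.toGlobal, Scheme.Hom.comp_appTop, CommRingCat.hom_comp]
  rfl

/-- **(E6/E7)** the degenerate Leray isomorphism, `A`-linear, in helper62's interface shape. -/
theorem lerayLinear (A : Type u) [CommRing A] : Groth.Agent.R2.H62.ECore.LerayLinear A := by
  intro Y Z _ _ π _ L hL p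
  have hb := pushEdge_bijective_of_RpushAb π L (fun q => hL (q + 1) (Nat.succ_pos q)) p
  refine ⟨LinearEquiv.ofBijective
    { toFun := pushEdge π L p
      map_add' := map_add _
      map_smul' := ?_ } hb⟩
  intro a x
  change pushEdge π L p ((Coh.toGlobal (Z ↘ Spec (CommRingCat.of A)) a) • x) =
    (Coh.toGlobal (Y ↘ Spec (CommRingCat.of A)) a) • pushEdge π L p x
  rw [pushEdge_smul]
  congr 1
  have h := CategoryTheory.comp_over π (Spec (CommRingCat.of A))
  rw [← h]
  exact (toGlobal_comp π (Z ↘ Spec (CommRingCat.of A)) a).symm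

end Groth.Agent.R2.H70.Edge
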