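import Mathlib

/-!
# The Laurent-polynomial model for the Čech complex of `O(d)` on `P^n_R` (helper58)

`σ` a finite type, `S = R[x_i : i ∈ σ]`, `T = R[x_i^{±1}]` realised as the additive monoid algebra of
`σ → ℤ`.  We provide the sign-pattern projections `piN N` (`N : Finset σ`), the degree-`d` pieces, the
submodules `LJ J d ⊆ T` (Laurent polynomials of degree `d` with negative exponents only at indices in `J`,
i.e. the image of the degree-`d` part of `S[x_J⁻¹]`) and the combinatorial statements used for the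
cohomology of projective space.  Pure algebra, Mathlib only.
-/

set_option autoImplicit false
set_option linter.unusedSectionVars false

open Finset

namespace Groth.Agent.R2.H58.PnLaurent

variable {σ : Type*} [Fintype σ] [DecidableEq σ] {R : Type*} [CommRing R]

/-! ### Exponent vectors -/

/-- total degree of an exponent vector -/
def deg (m : σ → ℤ) : ℤ := ∑ i, m i

omit [DecidableEq σ] in
theorem deg_add (m m' : σ → ℤ) : deg (m + m') = deg m + deg m' := by
  simp [deg, Finset.sum_add_distrib]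

omit [DecidableEq σ] in
theorem deg_zero : deg (0 : σ → ℤ) = 0 := by simp [deg]

/-- the set of indices with negative exponent -/
def negSupp (m : σ → ℤ) : Finset σ := univ.filter fun i => m i < 0

omit [DecidableEq σ] in
theorem mem_negSupp {m : σ → ℤ} {i : σ} : i ∈ negSupp m ↔ m i < 0 := by
  simp [negSupp]

/-- the indicator vector of a finite set of indices -/
def ind (J : Finset σ) : σ → ℤ := fun i => if i ∈ J then 1 else 0

theorem deg_ind (J : Finset σ) : deg (ind J) = J.card := by
  simp [deg, ind, Finset.sum_ite_mem]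

/-- exponent vector of a polynomial monomial, as an integer vector -/
def toZ : (σ →₀ ℕ) →+ (σ → ℤ) where
  toFun s := fun i => (s i : ℤ)
  map_zero' := by ext; simp
  map_add' s s' := by ext; simp

omit [Fintype σ] [DecidableEq σ] in
theorem toZ_apply (s : σ →₀ ℕ) (i : σ) : toZ s i = (s i : ℤ) := rfl

omit [Fintype σ] [DecidableEq σ] in
theorem toZ_injective : Function.Injective (toZ : (σ →₀ ℕ) → (σ → ℤ)) := by
  intro s s' h
  ext i
  have := congrFun h i
  simpa [toZ_apply] using this

omit [DecidableEq σ] in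
theorem deg_toZ (s : σ →₀ ℕ) : deg (toZ s) = (s.degree : ℤ) := by
  simp [deg, toZ_apply, Finsupp.degree_eq_sum]

/-- nonnegative part of an integer exponent vector -/
noncomputable def toN (m : σ → ℤ) : σ →₀ ℕ := Finsupp.equivFunOnFinite.symm fun i => (m i).toNat

omit [DecidableEq σ] in
theorem toN_apply (m : σ → ℤ) (i : σ) : toN m i = (m i).toNat := rfl

omit [DecidableEq σ] in
theorem toZ_toN {m : σ → ℤ} (hm : ∀ i, 0 ≤ m i) : toZ (toN m) = m := by
  ext i
  rw [toZ_apply, toN_apply, Int.toNat_of_nonneg (hm i)]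

/-! ### The Laurent polynomial ring -/

/-- The ring of Laurent polynomials in the variables `σ`. -/
abbrev T (σ : Type*) (R : Type*) [CommRing R] := AddMonoidAlgebra R (σ → ℤ)

/-- The inclusion of the polynomial ring into the Laurent polynomial ring. -/
noncomputable def incl : MvPolynomial σ R →ₐ[R] T σ R :=
  AddMonoidAlgebra.mapDomainAlgHom R R (toZ : (σ →₀ ℕ) →+ (σ → ℤ))

omit [Fintype σ] [DecidableEq σ] in
theorem incl_injective : Function.Injective (incl : MvPolynomial σ R → T σ R) :=
  AddMonoidAlgebra.mapDomain_injective toZ_injective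

omit [Fintype σ] [DecidableEq σ] in
theorem incl_monomial (s : σ →₀ ℕ) (r : R) :
    incl (MvPolynomial.monomial s r) = AddMonoidAlgebra.single (toZ s) r := by
  change AddMonoidAlgebra.mapDomain toZ (AddMonoidAlgebra.single s r) = _
  rw [AddMonoidAlgebra.mapDomain_single]

/-- Laurent monomials. -/
noncomputable def mono (m : σ → ℤ) : T σ R := AddMonoidAlgebra.single m 1

omit [Fintype σ] [DecidableEq σ] in
theorem mono_add (m m' : σ → ℤ) : (mono (m + m') : T σ R) = mono m * mono m' := by
  rw [mono, mono, mono, AddMonoidAlgebra.single_mul_single, one_mul]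

omit [Fintype σ] [DecidableEq σ] in
theorem mono_zero : (mono (0 : σ → ℤ) : T σ R) = 1 := rfl

omit [Fintype σ] [DecidableEq σ] in
theorem mono_mul_neg (m : σ → ℤ) : (mono m : T σ R) * mono (-m) = 1 := by
  rw [← mono_add, add_neg_cancel, mono_zero]

omit [Fintype σ] [DecidableEq σ] in
theorem isUnit_mono (m : σ → ℤ) : IsUnit (mono m : T σ R) :=
  IsUnit.of_mul_eq_one _ (mono_mul_neg m)

omit [Fintype σ] [DecidableEq σ] in
theorem coeff_mul_mono (g : T σ R) (m m' : σ → ℤ) :
    (g * mono m).coeff m' = g.coeff (m' - m) := by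
  have := AddMonoidAlgebra.coeff_mul_single_apply g (1 : R) m m'
  rw [mul_one] at this
  rw [mono, this, sub_eq_add_neg]

theorem incl_X (i : σ) : incl (MvPolynomial.X i : MvPolynomial σ R) = mono (ind {i}) := by
  rw [MvPolynomial.X, incl_monomial, mono]
  congr 1
  ext j
  simp [toZ_apply, ind, Finsupp.single_apply, eq_comm]

theorem incl_prod_X (J : Finset σ) :
    incl (∏ j ∈ J, (MvPolynomial.X j : MvPolynomial σ R)) = mono (ind J) := by
  induction J using Finset.induction_on with
  | empty =>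
    rw [Finset.prod_empty, map_one]
    have : ind (∅ : Finset σ) = 0 := by ext; simp [ind]
    rw [this, mono_zero]
  | insert a J ha ih =>
    rw [Finset.prod_insert ha, map_mul, ih, incl_X, ← mono_add]
    congr 1
    ext j
    by_cases h1 : j = a
    · subst h1; simp [ind, ha]
    · simp [ind, h1]

/-! ### Filtering by a predicate on exponents -/

/-- Keep only the monomials whose exponent satisfies `p`. -/
noncomputable def filt (p : (σ → ℤ) → Prop) [DecidablePred p] : T σ R →ₗ[R] T σ R where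
  toFun g := .ofCoeff (g.coeff.filter p)
  map_add' g h := by
    apply AddMonoidAlgebra.coeff_injective
    simp [Finsupp.filter_add]
  map_smul' r g := by
    apply AddMonoidAlgebra.coeff_injective
    simp [Finsupp.filter_smul]

omit [Fintype σ] [DecidableEq σ] in
theorem coeff_filt (p : (σ → ℤ) → Prop) [DecidablePred p] (g : T σ R) (m : σ → ℤ) :
    (filt p g).coeff m = if p m then g.coeff m else 0 :=
  Finsupp.filter_apply ..

omit [Fintype σ] [DecidableEq σ] in
theorem ext_coeff {g h : T σ R} (H : ∀ m, g.coeff m = h.coeff m) : g = h :=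
  AddMonoidAlgebra.coeff_injective (Finsupp.ext H)

/-- The sign-pattern projection: keep the monomials whose set of negative exponents is `N`. -/
noncomputable def piN (N : Finset σ) : T σ R →ₗ[R] T σ R := filt fun m => negSupp m = N

theorem coeff_piN (N : Finset σ) (g : T σ R) (m : σ → ℤ) :
    (piN N g).coeff m = if negSupp m = N then g.coeff m else 0 := coeff_filt ..

theorem sum_piN (g : T σ R) : ∑ N : Finset σ, piN N g = g := by
  apply ext_coeff
  intro m
  rw [AddMonoidAlgebra.coeff_sum, Finsupp.finsetSum_apply]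
  simp [coeff_piN]

theorem piN_piN (N N' : Finset σ) (g : T σ R) :
    piN N (piN N' g) = if N = N' then piN N g else 0 := by
  apply ext_coeff
  intro m
  by_cases h : N = N'
  · subst h
    rw [if_pos rfl, coeff_piN, coeff_piN]
    split_ifs <;> rfl
  · rw [if_neg h, coeff_piN, coeff_piN]
    by_cases h1 : negSupp m = N
    · rw [if_pos h1, if_neg (by rw [h1]; exact h)]; rfl
    · rw [if_neg h1]; rfl

/-! ### Graded pieces and the submodules `LJ J d` -/

/-- The Laurent polynomials supported on a set of exponents. -/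
noncomputable abbrev supp (P : Set (σ → ℤ)) : Submodule R (T σ R) := AddMonoidAlgebra.supported R R P

omit [Fintype σ] [DecidableEq σ] in
theorem mem_supp {P : Set (σ → ℤ)} {g : T σ R} : g ∈ supp P ↔ ∀ m, g.coeff m ≠ 0 → m ∈ P := by
  rw [AddMonoidAlgebra.mem_supported']
  exact forall_congr' fun m => not_imp_comm

omit [Fintype σ] [DecidableEq σ] in
theorem supp_mono {P Q : Set (σ → ℤ)} (h : P ⊆ Q) : (supp P : Submodule R (T σ R)) ≤ supp Q :=
  fun _ hg => mem_supp.2 fun m hm => h (mem_supp.1 hg m hm)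

omit [Fintype σ] [DecidableEq σ] in
theorem finite_supp {P : Set (σ → ℤ)} (hP : P.Finite) :
    Module.Finite R (supp P : Submodule R (T σ R)) := by
  rw [Module.Finite.iff_fg]
  change (AddMonoidAlgebra.supported R R P).FG
  rw [AddMonoidAlgebra.supported_eq_span_single]
  exact Submodule.fg_span (hP.image _)

omit [Fintype σ] [DecidableEq σ] in
theorem supp_empty : (supp (∅ : Set (σ → ℤ)) : Submodule R (T σ R)) = ⊥ := by
  rw [eq_bot_iff]
  intro g hg
  rw [Submodule.mem_bot]
  apply ext_coeff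
  intro m
  by_contra h
  exact (mem_supp.1 hg m h).elim

omit [Fintype σ] [DecidableEq σ] in
theorem mul_mono_mem_supp {P : Set (σ → ℤ)} {g : T σ R} (m₀ : σ → ℤ) :
    g * mono m₀ ∈ supp {m | m - m₀ ∈ P} ↔ g ∈ supp P := by
  rw [mem_supp, mem_supp]
  constructor
  · intro h m hm
    have := h (m + m₀) (by rwa [coeff_mul_mono, add_sub_cancel_right])
    simpa using this
  · intro h m hm
    rw [coeff_mul_mono] at hm
    exact h _ hm

/-- The Laurent polynomials homogeneous of degree `d`. -/
noncomputable def Tdeg (d : ℤ) : Submodule R (T σ R) := supp {m | deg m = d}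

/-- Laurent polynomials homogeneous of degree `d` whose negative exponents only occur at indices in
`J`: the image of the degree-`d` part of `S[x_J⁻¹]`. -/
noncomputable def LJ (J : Finset σ) (d : ℤ) : Submodule R (T σ R) := supp {m | deg m = d ∧ negSupp m ⊆ J}

/-- Laurent polynomials homogeneous of degree `d` with sign pattern exactly `N`. -/
noncomputable def Lpat (N : Finset σ) (d : ℤ) : Submodule R (T σ R) := supp {m | deg m = d ∧ negSupp m = N}

omit [DecidableEq σ] in
theorem LJ_le_Tdeg (J : Finset σ) (d : ℤ) : (LJ J d : Submodule R (T σ R)) ≤ Tdeg d :=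
  supp_mono fun _ h => h.1

omit [DecidableEq σ] in
theorem LJ_mono {J J' : Finset σ} (h : J ⊆ J') (d : ℤ) :
    (LJ J d : Submodule R (T σ R)) ≤ LJ J' d :=
  supp_mono fun _ hm => ⟨hm.1, hm.2.trans h⟩

omit [DecidableEq σ] in
theorem LJ_univ (d : ℤ) : (LJ univ d : Submodule R (T σ R)) = Tdeg d :=
  le_antisymm (LJ_le_Tdeg _ _) (supp_mono fun _ h => ⟨h, Finset.subset_univ _⟩)

theorem piN_mem_Tdeg (N : Finset σ) {d : ℤ} {g : T σ R} (hg : g ∈ Tdeg d) :
    piN N g ∈ Tdeg d := by
  refine mem_supp.2 fun m hm => mem_supp.1 hg m ?_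
  rw [coeff_piN] at hm
  split_ifs at hm
  · exact hm
  · exact (hm rfl).elim

/-- **Sign-pattern characterisation** of the image of the degree-`d` part of `S[x_J⁻¹]`. -/
theorem mem_LJ_iff {J : Finset σ} {d : ℤ} {g : T σ R} :
    g ∈ LJ J d ↔ g ∈ Tdeg d ∧ ∀ N : Finset σ, ¬ N ⊆ J → piN N g = 0 := by
  constructor
  · intro hg
    refine ⟨LJ_le_Tdeg J d hg, fun N hN => ext_coeff fun m => ?_⟩
    rw [coeff_piN]
    split_ifs with h
    · by_contra hne
      exact hN (h ▸ (mem_supp.1 hg m hne).2)
    · rfl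
  · rintro ⟨hd, hN⟩
    refine mem_supp.2 fun m hm => ⟨mem_supp.1 hd m hm, ?_⟩
    by_contra hJ
    have := congrArg (fun g : T σ R => g.coeff m) (hN _ hJ)
    simp only [coeff_piN] at this
    exact hm this

theorem mem_Lpat_iff {N : Finset σ} {d : ℤ} {g : T σ R} :
    g ∈ Lpat N d ↔ g ∈ Tdeg d ∧ piN N g = g := by
  constructor
  · intro hg
    refine ⟨supp_mono (fun _ h => h.1) hg, ext_coeff fun m => ?_⟩
    rw [coeff_piN]
    split_ifs with h
    · rfl
    · by_contra hne
      exact h (mem_supp.1 hg m (Ne.symm hne)).2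
  · rintro ⟨hd, hN⟩
    refine mem_supp.2 fun m hm => ⟨mem_supp.1 hd m hm, ?_⟩
    by_contra hJ
    rw [← hN, coeff_piN, if_neg hJ] at hm
    exact hm rfl

theorem piN_mem_Lpat (N : Finset σ) {d : ℤ} {g : T σ R} (hg : g ∈ Tdeg d) :
    piN N g ∈ Lpat N d :=
  mem_Lpat_iff.2 ⟨piN_mem_Tdeg N hg, by rw [piN_piN, if_pos rfl]⟩

/-! ### The image of the polynomial ring -/

/-- exponent vectors of honest monomials of degree `n` -/
def Pos (n : ℤ) : Set (σ → ℤ) := {m | (∀ i, 0 ≤ m i) ∧ deg m = n}

omit [DecidableEq σ] in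
theorem mem_range_toZ {m : σ → ℤ} : m ∈ Set.range (toZ : (σ →₀ ℕ) → (σ → ℤ)) ↔ ∀ i, 0 ≤ m i := by
  constructor
  · rintro ⟨s, rfl⟩ i
    rw [toZ_apply]; positivity
  · intro h
    exact ⟨toN m, toZ_toN h⟩

omit [Fintype σ] [DecidableEq σ] in
theorem coeff_incl (a : MvPolynomial σ R) (s : σ →₀ ℕ) : (incl a).coeff (toZ s) = a.coeff s :=
  Finsupp.mapDomain_apply toZ_injective _ _

omit [Fintype σ] [DecidableEq σ] in
theorem coeff_incl_of_notMem (a : MvPolynomial σ R) {m : σ → ℤ}
    (h : m ∉ Set.range (toZ : (σ →₀ ℕ) → (σ → ℤ))) : (incl a).coeff m = 0 :=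
  Finsupp.mapDomain_of_notMem_range _ _ h

omit [Fintype σ] [DecidableEq σ] in
theorem isHomogeneous_iff {a : MvPolynomial σ R} {n : ℕ} :
    a.IsHomogeneous n ↔ ∀ s : σ →₀ ℕ, a.coeff s ≠ 0 → s.degree = n := by
  rw [← MvPolynomial.mem_homogeneousSubmodule,
    MvPolynomial.homogeneousSubmodule_eq_finsupp_supported, AddMonoidAlgebra.mem_supported']
  exact forall_congr' fun s => not_imp_comm

omit [DecidableEq σ] in
theorem incl_mem_supp_Pos {a : MvPolynomial σ R} {n : ℕ} (ha : a.IsHomogeneous n) :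
    incl a ∈ supp (Pos (n : ℤ)) := by
  refine mem_supp.2 fun m hm => ?_
  by_cases hr : m ∈ Set.range (toZ : (σ →₀ ℕ) → (σ → ℤ))
  · obtain ⟨s, rfl⟩ := hr
    rw [coeff_incl] at hm
    refine ⟨mem_range_toZ.1 ⟨s, rfl⟩, ?_⟩
    rw [deg_toZ, isHomogeneous_iff.1 ha s hm]
  · exact (hm (coeff_incl_of_notMem a hr)).elim

omit [DecidableEq σ] in
theorem exists_incl_eq {g : T σ R} {n : ℕ} (hg : g ∈ supp (Pos (n : ℤ))) :
    ∃ a : MvPolynomial σ R, a.IsHomogeneous n ∧ incl a = g := by
  classical
  refine ⟨AddMonoidAlgebra.mapDomain toN g, ?_, ?_⟩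
  · rw [isHomogeneous_iff]
    intro s hs
    have hs' : s ∈ (Finsupp.mapDomain toN g.coeff).support := Finsupp.mem_support_iff.2 hs
    obtain ⟨m, hm, rfl⟩ := Finset.mem_image.1 (Finsupp.mapDomain_support hs')
    have hP := mem_supp.1 hg m (Finsupp.mem_support_iff.1 hm)
    have h1 : ((toN m).degree : ℤ) = n := by
      rw [← deg_toZ, toZ_toN hP.1, hP.2]
    exact_mod_cast h1
  · apply AddMonoidAlgebra.coeff_injective
    change Finsupp.mapDomain toZ (Finsupp.mapDomain toN g.coeff) = g.coeff
    rw [← Finsupp.mapDomain_comp]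
    conv_rhs => rw [← Finsupp.mapDomain_id (v := g.coeff)]
    refine Finsupp.mapDomain_congr fun m hm => ?_
    exact toZ_toN (mem_supp.1 hg m (Finsupp.mem_support_iff.1 hm)).1

theorem deg_smul_ind (k : ℕ) (J : Finset σ) : deg (k • ind J) = k * J.card := by
  simp [deg, ind, Finset.sum_ite_mem, mul_comm]

/-- **Bridge, easy direction**: fractions `a / x_J^k` with `a` homogeneous of degree `k|J| + d` lie
in `LJ J d`. -/
theorem mem_LJ_of_eq {J : Finset σ} {d : ℤ} {g : T σ R} {k n : ℕ} {a : MvPolynomial σ R}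
    (hn : (n : ℤ) = k * J.card + d) (ha : a.IsHomogeneous n)
    (h : g * mono (k • ind J) = incl a) : g ∈ LJ J d := by
  refine mem_supp.2 fun m hm => ?_
  have hm' : (incl a).coeff (m + k • ind J) ≠ 0 := by
    rw [← h, coeff_mul_mono, add_sub_cancel_right]; exact hm
  obtain ⟨hpos, hdeg⟩ := mem_supp.1 (incl_mem_supp_Pos ha) _ hm'
  refine ⟨?_, fun i hi => ?_⟩
  · rw [deg_add, deg_smul_ind] at hdeg
    linarith
  · by_contra hiJ
    have := hpos i
    rw [mem_negSupp] at hi
    simp only [Pi.add_apply, Pi.smul_apply, ind, if_neg hiJ, smul_zero, add_zero] at this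
    omega

/-- **Bridge, main direction**: every element of `LJ J d` is a fraction `a / x_J^k` with `a`
homogeneous of degree `k|J| + d`, for all large `k`. -/
theorem exists_eq_of_mem_LJ {J : Finset σ} (hJ : J.Nonempty) {d : ℤ} {g : T σ R}
    (hg : g ∈ LJ J d) :
    ∃ k₀ : ℕ, ∀ k : ℕ, k₀ ≤ k → ∃ (n : ℕ) (a : MvPolynomial σ R),
      (n : ℤ) = k * J.card + d ∧ a.IsHomogeneous n ∧ g * mono (k • ind J) = incl a := by
  classical
  refine ⟨max d.natAbs (g.coeff.support.sup fun m => univ.sup fun i => (-m i).toNat), ?_⟩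
  intro k hk
  have hk1 : (d.natAbs : ℤ) ≤ k := by exact_mod_cast (le_max_left _ _).trans hk
  have hk2 : ∀ m ∈ g.coeff.support, ∀ i, -(k : ℤ) ≤ m i := by
    intro m hm i
    have h1 : (-m i).toNat ≤ univ.sup fun i => (-m i).toNat :=
      Finset.le_sup (f := fun i => (-m i).toNat) (Finset.mem_univ i)
    have h2 : (univ.sup fun i => (-m i).toNat) ≤
        g.coeff.support.sup fun m => univ.sup fun i => (-m i).toNat :=
      Finset.le_sup (f := fun m : σ → ℤ => univ.sup fun i => (-m i).toNat) hm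
    have h3 : (-m i).toNat ≤ k := h1.trans (h2.trans ((le_max_right _ _).trans hk))
    omega
  have hcard : (1 : ℤ) ≤ J.card := by exact_mod_cast hJ.card_pos
  have hnn : (0 : ℤ) ≤ k * J.card + d := by
    have : (k : ℤ) ≤ k * J.card := by nlinarith
    have := abs_nonneg d
    have hd : -(d.natAbs : ℤ) ≤ d := by rw [Int.natCast_natAbs]; exact neg_abs_le d
    linarith
  have hP : g * mono (k • ind J) ∈ supp (Pos (((k * J.card + d).toNat : ℕ) : ℤ)) := by
    refine mem_supp.2 fun m hm => ?_
    rw [coeff_mul_mono] at hm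
    obtain ⟨hdeg, hneg⟩ := mem_supp.1 hg _ hm
    have hsupp := hk2 _ (Finsupp.mem_support_iff.2 hm)
    refine ⟨fun i => ?_, ?_⟩
    · have h1 := hsupp i
      simp only [Pi.sub_apply, Pi.smul_apply, ind] at h1
      by_cases hiJ : i ∈ J
      · rw [if_pos hiJ] at h1
        simp only [nsmul_eq_mul, mul_one] at h1
        linarith
      · have h2 : ¬ (m - k • ind J) i < 0 := fun h => hiJ (hneg (mem_negSupp.2 h))
        simp only [Pi.sub_apply, Pi.smul_apply, ind, if_neg hiJ, smul_zero, sub_zero] at h2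
        linarith
    · have h1 : deg m = deg (m - k • ind J) + deg (k • ind J) := by
        rw [← deg_add, sub_add_cancel]
      rw [Int.toNat_of_nonneg hnn, h1, hdeg, deg_smul_ind]
      ring
  obtain ⟨a, ha, hag⟩ := exists_incl_eq hP
  exact ⟨_, a, Int.toNat_of_nonneg hnn, ha, hag.symm⟩

/-! ### Finiteness -/

omit [DecidableEq σ] in
theorem finite_setOf_bounded (a b : ℤ) : {m : σ → ℤ | ∀ i, a ≤ m i ∧ m i ≤ b}.Finite := by
  classical
  have : {m : σ → ℤ | ∀ i, a ≤ m i ∧ m i ≤ b} =
      ↑(Fintype.piFinset fun _ : σ => Finset.Icc a b) := by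
    ext m; simp [Pi.le_def, forall_and]
  rw [this]
  exact Finset.finite_toSet _

omit [DecidableEq σ] in
theorem le_deg_of_nonneg {m : σ → ℤ} (h : ∀ i, 0 ≤ m i) (i : σ) : m i ≤ deg m :=
  Finset.single_le_sum (fun j _ => h j) (Finset.mem_univ i)

omit [DecidableEq σ] in
theorem deg_le_of_nonpos {m : σ → ℤ} (h : ∀ i, m i ≤ 0) (i : σ) : deg m ≤ m i := by
  have := Finset.single_le_sum (f := fun j => - m j) (fun j _ => neg_nonneg.2 (h j))
    (Finset.mem_univ i)
  simp only [Finset.sum_neg_distrib] at this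
  unfold deg
  linarith

omit [DecidableEq σ] in
theorem deg_le_neg_card {m : σ → ℤ} (h : negSupp m = univ) : deg m ≤ -(Fintype.card σ : ℤ) := by
  have h1 : ∀ i, m i ≤ -1 := fun i => by
    have : i ∈ negSupp m := h ▸ Finset.mem_univ i
    rw [mem_negSupp] at this
    omega
  calc deg m = ∑ i, m i := rfl
    _ ≤ ∑ _i : σ, (-1 : ℤ) := Finset.sum_le_sum fun i _ => h1 i
    _ = -(Fintype.card σ : ℤ) := by simp

/-- The top sign pattern in a fixed degree is a finite module: this is `Hⁿ(Pⁿ, O(d))`. -/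
theorem finite_Lpat_univ (d : ℤ) : Module.Finite R (Lpat univ d : Submodule R (T σ R)) := by
  refine finite_supp ((finite_setOf_bounded (σ := σ) d (-1)).subset ?_)
  rintro m ⟨hd, hN⟩ i
  have h1 : ∀ i, m i < 0 := fun i => mem_negSupp.1 (hN ▸ Finset.mem_univ i)
  refine ⟨?_, by have := h1 i; omega⟩
  rw [← hd]
  exact deg_le_of_nonpos (fun j => (h1 j).le) i

/-- The top sign pattern vanishes in degrees `> -(n+1)`. -/
theorem Lpat_univ_eq_bot {d : ℤ} (h : -(Fintype.card σ : ℤ) < d) :
    (Lpat univ d : Submodule R (T σ R)) = ⊥ := by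
  have : {m : σ → ℤ | deg m = d ∧ negSupp m = univ} = ∅ := by
    ext m
    simp only [Set.mem_ofPred_eq, Set.mem_empty_iff_false, iff_false, not_and]
    intro hd hN
    have := deg_le_neg_card hN
    omega
  unfold Lpat
  rw [this, supp_empty]

omit [DecidableEq σ] in
theorem nonneg_of_negSupp_subset_empty {m : σ → ℤ} (h : negSupp m ⊆ ∅) (i : σ) : 0 ≤ m i := by
  by_contra hi
  exact absurd (h (mem_negSupp.2 (not_le.1 hi))) (Finset.notMem_empty i)

/-- Degree `d` honest polynomials form a finite module: this is `H⁰(Pⁿ, O(d))`. -/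
theorem finite_LJ_empty (d : ℤ) : Module.Finite R (LJ ∅ d : Submodule R (T σ R)) := by
  refine finite_supp ((finite_setOf_bounded (σ := σ) 0 d).subset ?_)
  rintro m ⟨hd, hN⟩ i
  have h1 := nonneg_of_negSupp_subset_empty hN
  exact ⟨h1 i, hd ▸ le_deg_of_nonneg h1 i⟩

theorem LJ_empty_eq_bot {d : ℤ} (h : d < 0) : (LJ ∅ d : Submodule R (T σ R)) = ⊥ := by
  have : {m : σ → ℤ | deg m = d ∧ negSupp m ⊆ ∅} = ∅ := by
    ext m
    simp only [Set.mem_ofPred_eq, Set.mem_empty_iff_false, iff_false, not_and]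
    intro hd hN
    have h1 := nonneg_of_negSupp_subset_empty hN
    have : 0 ≤ deg m := Finset.sum_nonneg fun i _ => h1 i
    omega
  unfold LJ
  rw [this, supp_empty]

/-- `LJ ∅ n` is the image of the homogeneous polynomials of degree `n`. -/
theorem LJ_empty_eq_map (n : ℕ) :
    (LJ ∅ (n : ℤ) : Submodule R (T σ R)) =
      (MvPolynomial.homogeneousSubmodule σ R n).map (incl : MvPolynomial σ R →ₐ[R] T σ R).toLinearMap := by
  have hP : {m : σ → ℤ | deg m = (n : ℤ) ∧ negSupp m ⊆ ∅} = Pos (n : ℤ) := by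
    ext m
    constructor
    · rintro ⟨hd, hN⟩
      exact ⟨nonneg_of_negSupp_subset_empty hN, hd⟩
    · rintro ⟨hpos, hd⟩
      refine ⟨hd, fun i hi => ?_⟩
      have := hpos i
      rw [mem_negSupp] at hi
      omega
  unfold LJ
  rw [hP]
  apply le_antisymm
  · intro g hg
    obtain ⟨a, ha, rfl⟩ := exists_incl_eq hg
    exact ⟨a, ha, rfl⟩
  · rintro _ ⟨a, ha, rfl⟩
    exact incl_mem_supp_Pos ha

/-! ### The top sign pattern: `Hⁿ(Pⁿ, O(-n-1-k)) ≅ R[x]_k` -/

/-- `s ↦ x^{-s-1}` on exponents. -/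
def negShift (s : σ →₀ ℕ) : σ → ℤ := fun i => -(s i : ℤ) - 1

omit [Fintype σ] [DecidableEq σ] in
theorem negShift_injective : Function.Injective (negShift : (σ →₀ ℕ) → (σ → ℤ)) := by
  intro s s' h
  ext i
  have := congrFun h i
  simp only [negShift] at this
  omega

omit [DecidableEq σ] in
theorem deg_negShift (s : σ →₀ ℕ) :
    deg (negShift s) = -((Fintype.card σ : ℤ) + (s.degree : ℤ)) := by
  simp [deg, negShift, Finsupp.degree_eq_sum, Finset.sum_sub_distrib]
  ring

omit [DecidableEq σ] in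
theorem negSupp_negShift (s : σ →₀ ℕ) : negSupp (negShift s) = univ := by
  ext i
  simp only [mem_negSupp, negShift, Finset.mem_univ, iff_true]
  omega

omit [DecidableEq σ] in
theorem exists_negShift_eq {m : σ → ℤ} (h : negSupp m = univ) : ∃ s : σ →₀ ℕ, negShift s = m := by
  refine ⟨Finsupp.equivFunOnFinite.symm fun i => (-m i - 1).toNat, ?_⟩
  ext i
  have : m i < 0 := mem_negSupp.1 (h ▸ Finset.mem_univ i)
  simp only [negShift, Finsupp.equivFunOnFinite_symm_apply_apply]
  omega

/-- `a ↦ a(x⁻¹) / (x_0 ⋯ x_n)`. -/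
noncomputable def topMap : MvPolynomial σ R →ₗ[R] T σ R where
  toFun a := .ofCoeff (Finsupp.mapDomain negShift (AddMonoidAlgebra.coeff a))
  map_add' a b := by
    apply AddMonoidAlgebra.coeff_injective
    simp [Finsupp.mapDomain_add]
  map_smul' r a := by
    apply AddMonoidAlgebra.coeff_injective
    simp [Finsupp.mapDomain_smul]

omit [Fintype σ] [DecidableEq σ] in
theorem topMap_injective : Function.Injective (topMap : MvPolynomial σ R → T σ R) := by
  intro a b h
  have h1 := congrArg AddMonoidAlgebra.coeff h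
  exact AddMonoidAlgebra.coeff_injective (Finsupp.mapDomain_injective negShift_injective h1)

omit [Fintype σ] [DecidableEq σ] in
theorem coeff_topMap (a : MvPolynomial σ R) (s : σ →₀ ℕ) :
    (topMap a).coeff (negShift s) = a.coeff s :=
  Finsupp.mapDomain_apply negShift_injective _ _

omit [Fintype σ] [DecidableEq σ] in
theorem coeff_topMap_of_notMem (a : MvPolynomial σ R) {m : σ → ℤ}
    (h : m ∉ Set.range (negShift : (σ →₀ ℕ) → (σ → ℤ))) : (topMap a).coeff m = 0 :=
  Finsupp.mapDomain_of_notMem_range _ _ h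

omit [DecidableEq σ] in
theorem topMap_mem_Lpat {a : MvPolynomial σ R} {k : ℕ} (ha : a.IsHomogeneous k) :
    topMap a ∈ (Lpat univ (-((Fintype.card σ : ℤ) + k)) : Submodule R (T σ R)) := by
  refine mem_supp.2 fun m hm => ?_
  by_cases hr : m ∈ Set.range (negShift : (σ →₀ ℕ) → (σ → ℤ))
  · obtain ⟨s, rfl⟩ := hr
    rw [coeff_topMap] at hm
    exact ⟨by rw [deg_negShift, isHomogeneous_iff.1 ha s hm], negSupp_negShift s⟩
  · exact (hm (coeff_topMap_of_notMem a hr)).elim

omit [DecidableEq σ] in
theorem exists_topMap_eq {g : T σ R} {k : ℕ}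
    (hg : g ∈ (Lpat univ (-((Fintype.card σ : ℤ) + k)) : Submodule R (T σ R))) :
    ∃ a : MvPolynomial σ R, a.IsHomogeneous k ∧ topMap a = g := by
  classical
  refine ⟨.ofCoeff (Finsupp.comapDomain negShift g.coeff negShift_injective.injOn), ?_, ?_⟩
  · rw [isHomogeneous_iff]
    intro s hs
    have hs' : g.coeff (negShift s) ≠ 0 := hs
    have h1 := (mem_supp.1 hg _ hs').1
    rw [deg_negShift] at h1
    have : (s.degree : ℤ) = k := by linarith
    exact_mod_cast this
  · apply AddMonoidAlgebra.coeff_injective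
    change Finsupp.mapDomain negShift (Finsupp.comapDomain negShift g.coeff _) = g.coeff
    refine Finsupp.mapDomain_comapDomain _ negShift_injective _ ?_
    intro m hm
    obtain ⟨s, hs⟩ := exists_negShift_eq (mem_supp.1 hg m (Finsupp.mem_support_iff.1 hm)).2
    exact ⟨s, hs⟩

/-- **Top cohomology, algebraic model**: the Laurent polynomials of degree `-(n+1+k)` with all
exponents negative are identified with the homogeneous polynomials of degree `k`. -/
noncomputable def lpatUnivEquiv (k : ℕ) :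
    MvPolynomial.homogeneousSubmodule σ R k ≃ₗ[R]
      (Lpat univ (-((Fintype.card σ : ℤ) + k)) : Submodule R (T σ R)) :=
  LinearEquiv.ofBijective
    ((topMap.comp (MvPolynomial.homogeneousSubmodule σ R k).subtype).codRestrict _
      fun a => topMap_mem_Lpat a.2)
    ⟨fun a b h => Subtype.ext (topMap_injective (congrArg Subtype.val h)),
      fun g => by
        obtain ⟨a, ha, hag⟩ := exists_topMap_eq g.2
        exact ⟨⟨a, ha⟩, Subtype.ext hag⟩⟩

/-! ### Fractions `a / x_J^k` -/

/-- The monomial `x_J = ∏_{j ∈ J} x_j`. -/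
noncomputable def xJ (J : Finset σ) : MvPolynomial σ R := ∏ j ∈ J, MvPolynomial.X j

theorem incl_xJ (J : Finset σ) : incl (xJ J : MvPolynomial σ R) = mono (ind J) := incl_prod_X J

theorem incl_xJ_pow (J : Finset σ) (k : ℕ) :
    incl ((xJ J : MvPolynomial σ R) ^ k) = mono (k • ind J) := by
  rw [map_pow, incl_xJ]
  induction k with
  | zero => rw [pow_zero, zero_smul, mono_zero]
  | succ k ih => rw [pow_succ, ih, ← mono_add, succ_nsmul]

theorem xJ_isHomogeneous (J : Finset σ) : (xJ J : MvPolynomial σ R).IsHomogeneous J.card := by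
  have := MvPolynomial.IsHomogeneous.prod J (fun j => (MvPolynomial.X j : MvPolynomial σ R))
    (fun _ => 1) (fun j _ => MvPolynomial.isHomogeneous_X R j)
  simpa [xJ] using this

/-- The fraction `a / x_J^k` in the Laurent polynomial ring. -/
noncomputable def frac (J : Finset σ) (k : ℕ) : MvPolynomial σ R →ₗ[R] T σ R :=
  (LinearMap.mulRight R (mono (-(k • ind J)) : T σ R)).comp (incl : MvPolynomial σ R →ₐ[R] T σ R).toLinearMap

theorem frac_apply (J : Finset σ) (k : ℕ) (a : MvPolynomial σ R) :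
    frac J k a = incl a * mono (-(k • ind J)) := rfl

theorem frac_mul_mono (J : Finset σ) (k : ℕ) (a : MvPolynomial σ R) :
    frac J k a * mono (k • ind J) = incl a := by
  rw [frac_apply, mul_assoc, ← mono_add, neg_add_cancel, mono_zero, mul_one]

/-- `a / x_J^k ∈ LJ J d` for `a` homogeneous of degree `k|J| + d`. -/
theorem frac_mem_LJ {J : Finset σ} {d : ℤ} {k n : ℕ} {a : MvPolynomial σ R}
    (hn : (n : ℤ) = k * J.card + d) (ha : a.IsHomogeneous n) : frac J k a ∈ LJ J d :=
  mem_LJ_of_eq hn ha (frac_mul_mono J k a)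

/-- Every element of `LJ J d` (`J` nonempty) is a fraction `a / x_J^k` for all large `k`. -/
theorem exists_frac_eq {J : Finset σ} (hJ : J.Nonempty) {d : ℤ} {g : T σ R} (hg : g ∈ LJ J d) :
    ∃ k₀ : ℕ, ∀ k : ℕ, k₀ ≤ k → ∃ (n : ℕ) (a : MvPolynomial σ R),
      (n : ℤ) = k * J.card + d ∧ a.IsHomogeneous n ∧ frac J k a = g := by
  obtain ⟨k₀, h⟩ := exists_eq_of_mem_LJ hJ hg
  refine ⟨k₀, fun k hk => ?_⟩
  obtain ⟨n, a, hn, ha, hag⟩ := h k hk
  refine ⟨n, a, hn, ha, ?_⟩
  rw [frac_apply, ← hag, mul_assoc, ← mono_add, add_neg_cancel, mono_zero, mul_one]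

/-- Equality of fractions is tested in the polynomial ring. -/
theorem frac_eq_frac_iff (J : Finset σ) (k l : ℕ) (a b : MvPolynomial σ R) :
    frac J k a = frac J l b ↔ xJ J ^ l * a = xJ J ^ k * b := by
  rw [← incl_injective.eq_iff, map_mul, map_mul, incl_xJ_pow, incl_xJ_pow, frac_apply, frac_apply]
  constructor
  · intro h
    have h1 := congrArg (fun g : T σ R => g * mono (k • ind J) * mono (l • ind J)) h
    beta_reduce at h1
    rw [mul_assoc (incl a), ← mono_add, neg_add_cancel, mono_zero, mul_one,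
      mul_assoc (incl b), mul_comm (mono (-(l • ind J))), mul_assoc (incl b), mul_assoc (mono _),
      ← mono_add (-(l • ind J)), neg_add_cancel, mono_zero, mul_one] at h1
    rw [mul_comm, h1, mul_comm]
  · intro h
    have h1 := congrArg (fun g : T σ R => g * mono (-(k • ind J)) * mono (-(l • ind J))) h
    beta_reduce at h1
    rw [mul_comm (mono (l • ind J)), mul_assoc (incl a), mul_comm (mono (l • ind J)),
      ← mul_assoc (incl a), mul_assoc, ← mono_add, add_neg_cancel, mono_zero, mul_one,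
      mul_comm (mono (k • ind J)), mul_assoc (incl b), ← mono_add, add_neg_cancel, mono_zero,
      mul_one] at h1
    exact h1

/-- The fractions with a fixed denominator only depend on `J` through `x_J`: change of
denominator. -/
theorem frac_mul_xJ (J : Finset σ) (k : ℕ) (a : MvPolynomial σ R) :
    frac J (k + 1) (xJ J * a) = frac J k a := by
  rw [frac_eq_frac_iff]
  ring

/-- Restriction `D₊(x_J) ⊇ D₊(x_J')` for `J ⊆ J'` in the model: `a / x_J^k = (a x_{J'∖J}^k) / x_J'^k`. -/
theorem frac_eq_frac_of_subset {J J' : Finset σ} (h : J ⊆ J') (k : ℕ) (a : MvPolynomial σ R) :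
    frac J k a = frac J' k (xJ (J' \ J) ^ k * a) := by
  have hx : (xJ J' : MvPolynomial σ R) = xJ (J' \ J) * xJ J := by
    unfold xJ
    rw [Finset.prod_sdiff h]
  rw [frac_apply, frac_apply, map_mul, incl_xJ_pow]
  have hind : k • ind J' = k • ind (J' \ J) + k • ind J := by
    rw [← smul_add]
    congr 1
    ext i
    by_cases hi : i ∈ J
    · simp [ind, hi, h hi]
    · by_cases hi' : i ∈ J' <;> simp [ind, hi, hi']
  rw [hind, neg_add, mono_add, mul_comm (mono (k • ind (J' \ J))), mul_assoc, ← mul_assoc (mono _),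
    mono_mul_neg, one_mul]

end Groth.Agent.R2.H58.PnLaurent
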