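import Mathlib

/-!
# Combinatorics of tuple cochains (helper82)

For a type `α` and an abelian group `G`, the "big" cochain complex `C^p = (Fin (p+1) → α) → G` with the
alternating-sum differential `dd`.  We study the subquotients cut out by support conditions on the image
of the tuple:

* `homotopy_formula`: `c a = (dd c) (cons j a) + dd (hh j c) a`.
* `exists_of_cocycle_of_notMem` (Lemma A): cochains supported on `{a | N ⊆ im a ⊆ I}`, with `j ∈ I \ N`, have
  no cohomology in positive degrees.
* `exists_of_cocycle_surj` (Lemma B): cochains supported on `{a | im a = I}` have no cohomology in degrees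
  `p ≠ |I| - 1`.
* `eval_bijective` : in degree `|I| - 1`, evaluation at an enumeration of `I` identifies cocycles supported
  on `{a | im a = I}` with `G`.
-/

set_option autoImplicit false
set_option linter.unusedSectionVars false
set_option linter.unusedVariables false

universe u

open CategoryTheory Simplicial AlgebraicTopology

namespace Groth.Agent.R2.H82.CechComb

variable {α : Type u} {G : Type u} [AddCommGroup G]

/-- the differential of the big tuple-cochain complex. -/
def dd {p : ℕ} (c : (Fin (p + 1) → α) → G) : (Fin (p + 2) → α) → G :=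
  fun a => ∑ k : Fin (p + 2), (-1 : ℤ) ^ (k : ℕ) • c (a ∘ k.succAbove)

lemma dd_apply {p : ℕ} (c : (Fin (p + 1) → α) → G) (a : Fin (p + 2) → α) :
    dd c a = ∑ k : Fin (p + 2), (-1 : ℤ) ^ (k : ℕ) • c (a ∘ k.succAbove) := rfl

lemma dd_add {p : ℕ} (c c' : (Fin (p + 1) → α) → G) : dd (c + c') = dd c + dd c' := by
  funext a
  simp only [dd_apply, Pi.add_apply, smul_add, Finset.sum_add_distrib]

lemma dd_zero {p : ℕ} : dd (0 : (Fin (p + 1) → α) → G) = 0 := by
  funext a
  simp [dd_apply]

lemma dd_neg {p : ℕ} (c : (Fin (p + 1) → α) → G) : dd (-c) = -dd c := by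
  funext a
  simp [dd_apply]

lemma dd_sub {p : ℕ} (c c' : (Fin (p + 1) → α) → G) : dd (c - c') = dd c - dd c' := by
  rw [sub_eq_add_neg, dd_add, dd_neg, sub_eq_add_neg]

lemma dd_map {H : Type u} [AddCommGroup H] {p : ℕ} (φ : G →+ H) (c : (Fin (p + 1) → α) → G) :
    dd (fun a => φ (c a)) = fun a => φ (dd c a) := by
  funext a
  simp only [dd_apply, map_sum, map_zsmul]

lemma dd_sum {β : Type*} {p : ℕ} (s : Finset β) (f : β → (Fin (p + 1) → α) → G) :
    dd (fun a => ∑ N ∈ s, f N a) = fun a => ∑ N ∈ s, dd (f N) a := by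
  funext a
  simp only [dd_apply, Finset.smul_sum]
  exact Finset.sum_comm

variable (α G) in
/-- the cosimplicial abelian group of tuple cochains. -/
def cosimp : CosimplicialObject AddCommGrpCat.{u} where
  obj n := AddCommGrpCat.of ((Fin (n.len + 1) → α) → G)
  map f := AddCommGrpCat.ofHom
    { toFun := fun c a => c (a ∘ f.toOrderHom)
      map_zero' := rfl
      map_add' := fun _ _ => rfl }
  map_id _ := rfl
  map_comp _ _ := rfl

lemma cosimp_δ_apply {p : ℕ} (k : Fin (p + 2)) (c : (Fin (p + 1) → α) → G) (a : Fin (p + 2) → α) :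
    ((cosimp α G).δ k).hom c a = c (a ∘ k.succAbove) := rfl

/-- evaluation at an element as an additive map -/
def evalHom {M N : AddCommGrpCat.{u}} (x : M) : (M ⟶ N) →+ N where
  toFun f := f x
  map_zero' := rfl
  map_add' _ _ := rfl

lemma hom_sum_apply {β : Type*} {M N : AddCommGrpCat.{u}} (s : Finset β) (f : β → (M ⟶ N)) (x : M) :
    (∑ i ∈ s, f i) x = ∑ i ∈ s, f i x :=
  map_sum (evalHom x) f s

lemma objD_apply {p : ℕ} (c : (Fin (p + 1) → α) → G) :
    (AlternatingCofaceMapComplex.objD (cosimp α G) p) c = dd c := by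
  refine (hom_sum_apply Finset.univ (fun i : Fin (p + 2) => (-1 : ℤ) ^ (i : ℕ) • (cosimp α G).δ i) c).trans ?_
  funext a
  rw [dd_apply]
  exact Finset.sum_apply a Finset.univ _

theorem dd_dd {p : ℕ} (c : (Fin (p + 1) → α) → G) : dd (dd c) = 0 := by
  have h := ConcreteCategory.congr_hom (AlternatingCofaceMapComplex.d_squared (cosimp α G) p) c
  rw [← objD_apply, ← objD_apply]
  exact h


/-! ### the homotopy `hh` -/

/-- the contracting operator: `(hh j c) a = c (j, a)`. -/
def hh {p : ℕ} (j : α) (c : (Fin (p + 2) → α) → G) : (Fin (p + 1) → α) → G :=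
  fun a => c (Fin.cons j a)

lemma cons_comp_succAbove_zero {p : ℕ} (j : α) (a : Fin (p + 1) → α) :
    (Fin.cons j a : Fin (p + 2) → α) ∘ (0 : Fin (p + 2)).succAbove = a := by
  funext i
  simp [Fin.succAbove_zero]

lemma cons_comp_succAbove_succ {p : ℕ} (j : α) (a : Fin (p + 2) → α) (k : Fin (p + 2)) :
    (Fin.cons j a : Fin (p + 3) → α) ∘ k.succ.succAbove =
      (Fin.cons j (a ∘ k.succAbove) : Fin (p + 2) → α) := by
  funext i
  refine Fin.cases ?_ (fun i' => ?_) i
  · simp
  · simp [Fin.succ_succAbove_succ]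

theorem homotopy_formula {p : ℕ} (j : α) (c : (Fin (p + 2) → α) → G) (a : Fin (p + 2) → α) :
    c a = dd c (Fin.cons j a) + dd (hh j c) a := by
  rw [dd_apply, Fin.sum_univ_succ, cons_comp_succAbove_zero, dd_apply]
  simp only [Fin.val_zero, pow_zero, one_smul, Fin.val_succ, pow_succ, mul_neg, mul_one, neg_smul,
    Finset.sum_neg_distrib, cons_comp_succAbove_succ, hh]
  abel

theorem homotopy_formula_zero (j : α) (c : (Fin 1 → α) → G) (a : Fin 1 → α) :
    dd c (Fin.cons j a) = c a - c (fun _ => j) := by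
  rw [dd_apply, Fin.sum_univ_two, cons_comp_succAbove_zero]
  have h : (Fin.cons j a : Fin 2 → α) ∘ (1 : Fin 2).succAbove = fun _ => j := by
    funext i
    fin_cases i
    rfl
  rw [h]
  simp [sub_eq_add_neg]

/-! ### images of tuples and supports -/

section Supp
variable [DecidableEq α]

/-- the image of a tuple, as a finset. -/
def im {p : ℕ} (a : Fin p → α) : Finset α := Finset.univ.image a

lemma mem_im {p : ℕ} (a : Fin p → α) (x : α) : x ∈ im a ↔ ∃ i, a i = x := by
  simp [im]

lemma apply_mem_im {p : ℕ} (a : Fin p → α) (i : Fin p) : a i ∈ im a := (mem_im a _).2 ⟨i, rfl⟩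

lemma im_comp_subset {p q : ℕ} (a : Fin p → α) (f : Fin q → Fin p) : im (a ∘ f) ⊆ im a := by
  intro x hx
  obtain ⟨i, rfl⟩ := (mem_im _ _).1 hx
  exact apply_mem_im a (f i)

lemma im_cons {p : ℕ} (j : α) (a : Fin p → α) : im (Fin.cons j a : Fin (p + 1) → α) = insert j (im a) := by
  ext x
  rw [Finset.mem_insert, mem_im, mem_im]
  constructor
  · rintro ⟨i, rfl⟩
    refine Fin.cases ?_ (fun i' => ?_) i
    · left; simp
    · right; exact ⟨i', by simp⟩
  · rintro (rfl | ⟨i, rfl⟩)
    · exact ⟨0, by simp⟩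
    · exact ⟨i.succ, by simp⟩

lemma card_im_le {p : ℕ} (a : Fin p → α) : (im a).card ≤ p := by
  have := Finset.card_image_le (s := (Finset.univ : Finset (Fin p))) (f := a)
  simpa [im] using this

lemma im_nonempty {p : ℕ} (a : Fin (p + 1) → α) : (im a).Nonempty := ⟨a 0, apply_mem_im a 0⟩

/-- `c` vanishes outside the tuples `a` with `N ⊆ im a ⊆ I`. -/
def SuppIn {p : ℕ} (c : (Fin (p + 1) → α) → G) (N I : Finset α) : Prop :=
  ∀ a, ¬ (N ⊆ im a ∧ im a ⊆ I) → c a = 0

/-- `dd c` vanishes on the tuples in `I`. -/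
def CocycleOn {p : ℕ} (c : (Fin (p + 1) → α) → G) (I : Finset α) : Prop :=
  ∀ a, im a ⊆ I → dd c a = 0

lemma SuppIn.mono {p : ℕ} {c : (Fin (p + 1) → α) → G} {N N' I : Finset α} (h : SuppIn c N I)
    (hN : N' ⊆ N) : SuppIn c N' I :=
  fun a ha => h a (fun h' => ha ⟨hN.trans h'.1, h'.2⟩)

/-- Lemma A: contracting homotopy when some `j ∈ I` is not in `N`. -/
theorem lemmaA {p : ℕ} {N I : Finset α} {j : α} (hjI : j ∈ I) (hjN : j ∉ N)
    (c : (Fin (p + 2) → α) → G) (hs : SuppIn c N I) (hc : CocycleOn c I) :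
    SuppIn (hh j c) N I ∧ ∀ a, im a ⊆ I → dd (hh j c) a = c a := by
  constructor
  · intro a ha
    apply hs
    rw [im_cons]
    rintro ⟨h1, h2⟩
    apply ha
    refine ⟨fun x hx => ?_, (Finset.subset_insert _ _).trans h2⟩
    rcases Finset.mem_insert.1 (h1 hx) with rfl | h
    · exact absurd hx hjN
    · exact h
  · intro a ha
    have h := homotopy_formula j c a
    rw [hc (Fin.cons j a) (by rw [im_cons]; exact Finset.insert_subset hjI ha), zero_add] at h
    exact h.symm

/-- Lemma A in degree `0`. -/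
theorem lemmaA0 {I : Finset α} {j : α} (hjI : j ∈ I)
    (c : (Fin 1 → α) → G) (hc : CocycleOn c I) (a : Fin 1 → α) (ha : im a ⊆ I) :
    c a = c (fun _ => j) := by
  have h := homotopy_formula_zero j c a
  rw [hc (Fin.cons j a) (by rw [im_cons]; exact Finset.insert_subset hjI ha)] at h
  exact (sub_eq_zero.1 h.symm)

lemma im_const (j : α) : im (fun _ : Fin 1 => j) = {j} := by
  ext x
  rw [mem_im, Finset.mem_singleton]
  exact ⟨fun ⟨_, h⟩ => h.symm, fun h => ⟨0, h.symm⟩⟩

theorem lemmaA0_eq_zero {N I : Finset α} {j : α} (hjI : j ∈ I) (hjN : j ∉ N) (hN : N.Nonempty)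
    (c : (Fin 1 → α) → G) (hs : SuppIn c N I) (hc : CocycleOn c I) : c = 0 := by
  funext a
  by_cases ha : im a ⊆ I
  · rw [lemmaA0 hjI c hc a ha]
    apply hs
    rintro ⟨h1, -⟩
    obtain ⟨x, hx⟩ := hN
    have := h1 hx
    rw [im_const, Finset.mem_singleton] at this
    exact hjN (this ▸ hx)
  · exact hs a (fun h => ha h.2)


/-- restriction of a cochain to the tuples in `I`. -/
def restr {p : ℕ} (I : Finset α) (c : (Fin (p + 1) → α) → G) : (Fin (p + 1) → α) → G :=
  fun a => if im a ⊆ I then c a else 0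

lemma restr_of_subset {p : ℕ} {I : Finset α} (c : (Fin (p + 1) → α) → G) {a : Fin (p + 1) → α}
    (ha : im a ⊆ I) : restr I c a = c a := if_pos ha

lemma restr_of_not_subset {p : ℕ} {I : Finset α} (c : (Fin (p + 1) → α) → G) {a : Fin (p + 1) → α}
    (ha : ¬ im a ⊆ I) : restr I c a = 0 := if_neg ha

lemma dd_restr_apply {p : ℕ} {I : Finset α} (c : (Fin (p + 1) → α) → G) {a : Fin (p + 2) → α}
    (ha : im a ⊆ I) : dd (restr I c) a = dd c a := by
  rw [dd_apply, dd_apply]
  refine Finset.sum_congr rfl (fun k _ => ?_)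
  rw [restr_of_subset c ((im_comp_subset a _).trans ha)]

lemma dd_apply_eq_zero_of_forall {p : ℕ} (c : (Fin (p + 1) → α) → G) (a : Fin (p + 2) → α)
    (h : ∀ k : Fin (p + 2), c (a ∘ k.succAbove) = 0) : dd c a = 0 := by
  rw [dd_apply]
  exact Finset.sum_eq_zero (fun k _ => by rw [h k, smul_zero])

/-- cochains supported on surjective tuples vanish in low degrees. -/
lemma eq_zero_of_suppIn_of_card {p : ℕ} {I : Finset α} (c : (Fin (p + 1) → α) → G)
    (hs : SuppIn c I I) (h : I.card = 0 ∨ p + 1 < I.card) : c = 0 := by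
  funext a
  apply hs
  rintro ⟨h1, h2⟩
  have e : im a = I := Finset.Subset.antisymm h2 h1
  rcases h with h | h
  · rw [Finset.card_eq_zero] at h
    have := im_nonempty a
    rw [e, h] at this
    exact Finset.not_nonempty_empty this
  · have := card_im_le a
    rw [e] at this
    omega

lemma card_im_one (a : Fin 1 → α) : (im a).card = 1 := by
  have : im a = {a 0} := by
    ext x
    rw [mem_im, Finset.mem_singleton]
    constructor
    · rintro ⟨i, rfl⟩
      congr 1
      exact Subsingleton.elim _ _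
    · rintro rfl
      exact ⟨0, rfl⟩
  rw [this, Finset.card_singleton]

lemma eq_zero_of_suppIn_zero {I : Finset α} (c : (Fin 1 → α) → G)
    (hs : SuppIn c I I) (h : I.card ≠ 1) : c = 0 := by
  funext a
  apply hs
  rintro ⟨h1, h2⟩
  have e : im a = I := Finset.Subset.antisymm h2 h1
  exact h (e ▸ card_im_one a)

/-- the common support argument. -/
lemma suppIn_sub {p : ℕ} {I : Finset α} {j : α} (hj : j ∈ I) (b₀ e : (Fin (p + 1) → α) → G)
    (hb₀ : SuppIn b₀ (I.erase j) I)
    (h1 : ∀ a, ¬ im a ⊆ I → e a = 0)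
    (h2 : ∀ a, im a ⊆ I.erase j → e a = b₀ a)
    (h3 : ∀ a, ¬ I.erase j ⊆ im a → e a = 0) : SuppIn (b₀ - e) I I := by
  intro a ha
  rw [Pi.sub_apply]
  by_cases haI : im a ⊆ I
  · by_cases hja : j ∈ im a
    · have h' : ¬ I.erase j ⊆ im a := by
        intro h'
        apply ha
        refine ⟨fun x hx => ?_, haI⟩
        by_cases hxj : x = j
        · exact hxj ▸ hja
        · exact h' (Finset.mem_erase.2 ⟨hxj, hx⟩)
      rw [h3 a h', hb₀ a (fun h => h' h.1), sub_zero]
    · have h' : im a ⊆ I.erase j := fun x hx =>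
        Finset.mem_erase.2 ⟨fun hxj => hja (hxj ▸ hx), haI hx⟩
      rw [h2 a h', sub_self]
  · rw [h1 a haI, hb₀ a (fun h => haI h.2), sub_zero]

/-- the restriction to the tuples avoiding `j` of the homotopy of a cocycle. -/
lemma restr_hh_props {p : ℕ} {I : Finset α} {j : α} (hj : j ∈ I) (c : (Fin (p + 2) → α) → G)
    (hs : SuppIn c I I) (hc : CocycleOn c I) :
    SuppIn (hh j c) (I.erase j) I ∧ (∀ a, im a ⊆ I → dd (hh j c) a = c a) ∧
      SuppIn (restr (I.erase j) (hh j c)) (I.erase j) (I.erase j) := by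
  obtain ⟨h1, h2⟩ := lemmaA hj (Finset.notMem_erase j I) c (hs.mono (Finset.erase_subset j I)) hc
  refine ⟨h1, h2, ?_⟩
  intro a ha
  by_cases h : im a ⊆ I.erase j
  · rw [restr_of_subset _ h]
    exact h1 a (fun h' => ha ⟨h'.1, h⟩)
  · exact restr_of_not_subset _ h

lemma cocycleOn_restr_hh {p : ℕ} {I : Finset α} {j : α} (hj : j ∈ I) (c : (Fin (p + 3) → α) → G)
    (hs : SuppIn c I I) (hc : CocycleOn c I) :
    CocycleOn (restr (I.erase j) (hh j c)) (I.erase j) := by
  obtain ⟨-, h2, -⟩ := restr_hh_props hj c hs hc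
  intro a ha
  rw [dd_restr_apply _ ha, h2 a (ha.trans (Finset.erase_subset j I))]
  apply hs
  rintro ⟨h, -⟩
  exact Finset.notMem_erase j I (ha (h hj))

/-- Lemma B: cochains supported on the tuples with image exactly `I` have no cohomology in degrees
`p + 1 ≠ |I| - 1`. -/
theorem lemmaB : ∀ (m : ℕ) (I : Finset α), I.card = m → ∀ (p : ℕ), p + 2 ≠ m →
    ∀ c : (Fin (p + 2) → α) → G, SuppIn c I I → CocycleOn c I →
      ∃ b : (Fin (p + 1) → α) → G, SuppIn b I I ∧ ∀ a, im a ⊆ I → dd b a = c a := by
  intro m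
  induction m with
  | zero =>
    intro I hI p _ c hs _
    have hc0 : c = 0 := eq_zero_of_suppIn_of_card c hs (Or.inl hI)
    refine ⟨0, fun _ _ => rfl, fun a _ => ?_⟩
    rw [dd_zero, hc0]
  | succ m ih =>
    intro I hI p hp c hs hc
    have hne : I.Nonempty := by
      rw [← Finset.card_pos]; omega
    obtain ⟨j, hj⟩ := hne
    have hI' : (I.erase j).card = m := by
      rw [Finset.card_erase_of_mem hj]; omega
    obtain ⟨hb₀s, hb₀d, hbars⟩ := restr_hh_props hj c hs hc
    cases p with
    | zero =>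
      have hbar0 : restr (I.erase j) (hh j c) = 0 :=
        eq_zero_of_suppIn_zero _ hbars (by omega)
      refine ⟨hh j c, ?_, hb₀d⟩
      have := suppIn_sub hj (hh j c) 0 hb₀s (fun _ _ => rfl)
        (fun a ha => by
          have h := congrFun hbar0 a
          rw [restr_of_subset _ ha] at h
          exact h.symm) (fun _ _ => rfl)
      rwa [sub_zero] at this
    | succ p' =>
      have hbarc := cocycleOn_restr_hh hj c hs hc
      obtain ⟨abar, has, had⟩ := ih (I.erase j) hI' p' (by omega) _ hbars hbarc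
      refine ⟨hh j c - restr I (dd abar), ?_, ?_⟩
      · refine suppIn_sub hj _ _ hb₀s (fun a ha => restr_of_not_subset _ ha) (fun a ha => ?_)
          (fun a ha => ?_)
        · rw [restr_of_subset _ (ha.trans (Finset.erase_subset j I)), had a ha, restr_of_subset _ ha]
        · by_cases haI : im a ⊆ I
          · rw [restr_of_subset _ haI]
            refine dd_apply_eq_zero_of_forall _ _ (fun k => has _ (fun h => ha ?_))
            exact h.1.trans (im_comp_subset a _)
          · exact restr_of_not_subset _ haI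
      · intro a ha
        rw [dd_sub, Pi.sub_apply, hb₀d a ha, dd_restr_apply _ ha, dd_dd, Pi.zero_apply, sub_zero]


/-! ### the top degree: evaluation at an enumeration -/

lemma im_tail_eq {p : ℕ} {I : Finset α} (a₀ : Fin (p + 2) → α) (hinj : Function.Injective a₀)
    (hI : im a₀ = I) : im (Fin.tail a₀) = I.erase (a₀ 0) := by
  have h1 : im a₀ = insert (a₀ 0) (im (Fin.tail a₀)) := by
    rw [← im_cons, Fin.cons_self_tail]
  have h2 : a₀ 0 ∉ im (Fin.tail a₀) := by
    intro h
    obtain ⟨i, hi⟩ := (mem_im _ _).1 h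
    exact Fin.succ_ne_zero i (hinj hi)
  rw [← hI, h1, Finset.erase_insert h2]

lemma tail_injective {p : ℕ} (a₀ : Fin (p + 2) → α) (hinj : Function.Injective a₀) :
    Function.Injective (Fin.tail a₀) := fun x y h => Fin.succ_injective _ (hinj h)

theorem eval_injective : ∀ (p : ℕ) (I : Finset α) (a₀ : Fin (p + 1) → α), Function.Injective a₀ →
    im a₀ = I → ∀ c : (Fin (p + 1) → α) → G, SuppIn c I I → CocycleOn c I → c a₀ = 0 → c = 0 := by
  intro p
  induction p with
  | zero =>
    intro I a₀ _ hI c hs _ h0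
    have : Subsingleton (Fin (0 + 1)) := inferInstanceAs (Subsingleton (Fin 1))
    funext a
    by_cases h : a = a₀
    · rw [h]; exact h0
    · apply hs
      rintro ⟨h1, -⟩
      apply h
      funext i
      have h2 : a₀ 0 ∈ im a := h1 (hI ▸ apply_mem_im a₀ 0)
      obtain ⟨i', hi'⟩ := (mem_im _ _).1 h2
      rw [Subsingleton.elim i 0, ← hi', Subsingleton.elim i' 0]
  | succ p ih =>
    intro I a₀ hinj hI c hs hc h0
    have hj : a₀ 0 ∈ I := hI ▸ apply_mem_im a₀ 0
    obtain ⟨hb₀s, hb₀d, hbars⟩ := restr_hh_props hj c hs hc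
    have hbar0 : restr (I.erase (a₀ 0)) (hh (a₀ 0) c) = 0 := by
      have hsub : im (Fin.tail a₀) ⊆ I.erase (a₀ 0) := (im_tail_eq a₀ hinj hI).le
      cases p with
      | zero =>
        refine ih _ (Fin.tail a₀) (tail_injective a₀ hinj) (im_tail_eq a₀ hinj hI) _ hbars ?_ ?_
        · intro a ha
          rw [dd_restr_apply _ ha, hb₀d a (ha.trans (Finset.erase_subset _ I))]
          apply hs
          rintro ⟨h, -⟩
          exact Finset.notMem_erase _ I (ha (h hj))
        · rw [restr_of_subset _ hsub, hh, Fin.cons_self_tail, h0]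
      | succ p' =>
        refine ih _ (Fin.tail a₀) (tail_injective a₀ hinj) (im_tail_eq a₀ hinj hI) _ hbars
          (cocycleOn_restr_hh hj c hs hc) ?_
        rw [restr_of_subset _ hsub, hh, Fin.cons_self_tail, h0]
    have hb₀I : SuppIn (hh (a₀ 0) c) I I := by
      have := suppIn_sub hj (hh (a₀ 0) c) 0 hb₀s (fun _ _ => rfl)
        (fun a ha => by
          have h := congrFun hbar0 a
          rw [restr_of_subset _ ha] at h
          exact h.symm) (fun _ _ => rfl)
      rwa [sub_zero] at this
    have hcard : I.card = p + 2 := by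
      rw [← hI, im, Finset.card_image_of_injective _ hinj, Finset.card_univ, Fintype.card_fin]
    have hb₀0 : hh (a₀ 0) c = 0 := eq_zero_of_suppIn_of_card _ hb₀I (Or.inr (by omega))
    funext a
    by_cases ha : im a ⊆ I
    · rw [← hb₀d a ha, hb₀0, dd_zero]
    · exact hs a (fun h => ha h.2)

theorem eval_surjective : ∀ (p : ℕ) (I : Finset α) (a₀ : Fin (p + 1) → α), Function.Injective a₀ →
    im a₀ = I → ∀ g : G, ∃ c : (Fin (p + 1) → α) → G, SuppIn c I I ∧ CocycleOn c I ∧ c a₀ = g := by
  intro p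
  induction p with
  | zero =>
    intro I a₀ _ hI g
    have : Subsingleton (Fin (0 + 1)) := inferInstanceAs (Subsingleton (Fin 1))
    have hI' : I = {a₀ 0} := by
      rw [← hI]
      ext x
      rw [mem_im, Finset.mem_singleton]
      constructor
      · rintro ⟨i, rfl⟩
        rw [Subsingleton.elim i 0]
      · rintro rfl
        exact ⟨0, rfl⟩
    refine ⟨fun a => if a 0 = a₀ 0 then g else 0, ?_, ?_, if_pos rfl⟩
    · intro a ha
      refine if_neg (fun h => ha ?_)
      have : im a = I := by
        rw [hI']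
        ext x
        rw [mem_im, Finset.mem_singleton]
        constructor
        · rintro ⟨i, rfl⟩
          rw [Subsingleton.elim i 0, h]
        · rintro rfl
          exact ⟨0, h⟩
      exact ⟨this.ge, this.le⟩
    · intro a ha
      have h0 : a 0 = a₀ 0 := by
        have := ha (apply_mem_im a 0)
        rwa [hI', Finset.mem_singleton] at this
      have h1 : a 1 = a₀ 0 := by
        have := ha (apply_mem_im a 1)
        rwa [hI', Finset.mem_singleton] at this
      rw [dd_apply, Fin.sum_univ_two]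
      have e0 : (a ∘ (0 : Fin 2).succAbove) 0 = a₀ 0 := h1
      have e1 : (a ∘ (1 : Fin 2).succAbove) 0 = a₀ 0 := h0
      simp only [e0, e1, if_true]
      simp
  | succ p ih =>
    intro I a₀ hinj hI g
    have hj : a₀ 0 ∈ I := hI ▸ apply_mem_im a₀ 0
    obtain ⟨z, hzs, hzc, hzg⟩ := ih (I.erase (a₀ 0)) (Fin.tail a₀) (tail_injective a₀ hinj)
      (im_tail_eq a₀ hinj hI) g
    refine ⟨restr I (dd z), ?_, ?_, ?_⟩
    · intro a ha
      by_cases haI : im a ⊆ I
      · rw [restr_of_subset _ haI]
        by_cases hja : a₀ 0 ∈ im a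
        · have h' : ¬ I.erase (a₀ 0) ⊆ im a := by
            intro h'
            apply ha
            refine ⟨fun x hx => ?_, haI⟩
            by_cases hxj : x = a₀ 0
            · exact hxj ▸ hja
            · exact h' (Finset.mem_erase.2 ⟨hxj, hx⟩)
          refine dd_apply_eq_zero_of_forall _ _ (fun k => hzs _ (fun h => h' ?_))
          exact h.1.trans (im_comp_subset a _)
        · exact hzc a (fun x hx => Finset.mem_erase.2 ⟨fun hxj => hja (hxj ▸ hx), haI hx⟩)
      · exact restr_of_not_subset _ haI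
    · intro a ha
      rw [dd_restr_apply _ ha, dd_dd, Pi.zero_apply]
    · rw [restr_of_subset _ hI.le, dd_apply, Fin.sum_univ_succ]
      have e0 : a₀ ∘ (0 : Fin (p + 2)).succAbove = Fin.tail a₀ := by
        funext i
        simp [Fin.tail, Fin.succAbove_zero]
      rw [e0, hzg]
      have hrest : ∀ k : Fin (p + 1), z (a₀ ∘ k.succ.succAbove) = 0 := by
        intro k
        apply hzs
        rintro ⟨-, h⟩
        have h1 : a₀ 0 ∈ im (a₀ ∘ k.succ.succAbove) := by
          rw [mem_im]
          exact ⟨0, by simp⟩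
        exact Finset.notMem_erase _ I (h h1)
      simp [hrest]

end Supp

end Groth.Agent.R2.H82.CechComb
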