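import Mathlib
import Groth.Agent.Lib.Helper16CechLow
import Groth.Agent.R2.H82CechComb

/-!
# Cech cohomology of a presheaf with a sign-pattern decomposition (helper82)

`X` a topological space, `U : ι → Opens X` a finite family, `P` a presheaf of abelian groups, `W` an open
contained in all `U i`.  Assume that all restrictions `P(U_a) → P(W)` are injective and that `P(W)` carries a
complete family of orthogonal idempotents `π N` (`N : Finset ι`) such that the image of `P(U_a)` is
`{g | ∀ N ⊄ im a, π N g = 0}`.  Then the Cech complex of `P` (Mathlib's full `cechComplexFunctor`) is exact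
in degrees `q ≥ 1`, `q + 1 ≠ |ι|`, and its cohomology in degree `|ι| - 1` is the range of `π univ`.
-/

set_option autoImplicit false
set_option linter.unusedSectionVars false
set_option linter.unusedVariables false

universe u

open CategoryTheory CategoryTheory.Limits Opposite TopologicalSpace
open Groth.Agent.Lib.Helper16.CechLow Groth.Agent.R2.H82.CechComb

namespace Groth.Agent.R2.H82.CechModel

variable {X : TopCat.{u}} {ι : Type u} (U : ι → Opens X) (P : (Opens X)ᵒᵖ ⥤ AddCommGrpCat.{u})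

/-- homology of a short complex of abelian groups from an explicit map. -/
theorem exists_homology_addEquiv (S : ShortComplex Ab.{u}) {H : Type u} [AddCommGroup H]
    (φ : S.X₂ →+ H) (h1 : ∀ b : S.X₁, φ (S.f b) = 0)
    (h2 : ∀ c : S.X₂, S.g c = 0 → φ c = 0 → ∃ b, S.f b = c)
    (h3 : ∀ g : H, ∃ c, S.g c = 0 ∧ φ c = g) :
    ∃ e : S.homology ≃+ H, ∀ z : S.cycles, e (S.homologyπ z) = φ (S.iCycles z) := by
  let ψ : (AddMonoidHom.ker S.g.hom ⧸ AddMonoidHom.range S.abToCycles) →+ H :=
    QuotientAddGroup.lift _ (φ.comp (AddMonoidHom.ker S.g.hom).subtype) (by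
      rintro _ ⟨b, rfl⟩
      exact h1 b)
  have hψ : Function.Bijective ψ := by
    constructor
    · rw [injective_iff_map_eq_zero]
      intro x hx
      obtain ⟨⟨c, hc⟩, rfl⟩ := QuotientAddGroup.mk_surjective x
      obtain ⟨b, hb⟩ := h2 c hc hx
      rw [QuotientAddGroup.eq_zero_iff]
      exact ⟨b, Subtype.ext hb⟩
    · intro g
      obtain ⟨c, hc, hg⟩ := h3 g
      exact ⟨QuotientAddGroup.mk ⟨c, hc⟩, hg⟩
  refine ⟨(S.abHomologyIso.addCommGroupIsoToAddEquiv).trans (AddEquiv.ofBijective ψ hψ), ?_⟩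
  intro z
  have e1 : S.abHomologyIso.hom (S.homologyπ z) =
      S.abLeftHomologyData.π (S.abLeftHomologyData.cyclesIso.hom z) :=
    ConcreteCategory.congr_hom S.abLeftHomologyData.homologyπ_comp_homologyIso_hom z
  have e2 : S.abLeftHomologyData.i (S.abLeftHomologyData.cyclesIso.hom z) = S.iCycles z :=
    ConcreteCategory.congr_hom S.abLeftHomologyData.cyclesIso_hom_comp_i z
  change ψ (S.abHomologyIso.hom (S.homologyπ z)) = _
  rw [e1, ← e2]
  rfl

variable [Fintype ι] [DecidableEq ι]

/-- the sign-pattern decomposition hypotheses: a receptacle `G` with compatible injective maps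
`ρ a : P(U_a) → G` and a complete family of orthogonal idempotents `π N` on `G` such that the range of `ρ a`
is `{g | ∀ N ⊄ im a, π N g = 0}`. -/
structure SignDecomp (G : Type u) [AddCommGroup G] where
  /-- the embeddings -/
  ρ : ∀ (p : ℕ) (a : Fin (p + 1) → ι), P.obj (op (Ux U a)) →+ G
  ρ_face : ∀ (p : ℕ) (a : Fin (p + 2) → ι) (i : Fin (p + 2))
    (s : P.obj (op (Ux U (a ∘ i.succAbove)))),
    ρ (p + 1) a (P.map (face U a i).op s) = ρ p (a ∘ i.succAbove) s
  /-- the projections -/
  π : Finset ι → (G →+ G)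
  sum_π : ∀ g, ∑ N : Finset ι, π N g = g
  π_π : ∀ N N' g, π N (π N' g) = if N = N' then π N g else 0
  inj : ∀ (p : ℕ) (a : Fin (p + 1) → ι), Function.Injective (ρ p a)
  range_iff : ∀ (p : ℕ) (a : Fin (p + 1) → ι) (g : G),
    (∃ s, ρ p a s = g) ↔ ∀ N : Finset ι, ¬ N ⊆ im a → π N g = 0

variable {U P}
variable {G : Type u} [AddCommGroup G] (D : SignDecomp U P G)

namespace SignDecomp

/-- the `G`-valued tuple cochain attached to a Cech cochain. -/
noncomputable def hat {p : ℕ} (c : (CK U P).X p) : (Fin (p + 1) → ι) → G :=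
  fun a => D.ρ p a (pr U P p a c)

lemma hat_apply {p : ℕ} (c : (CK U P).X p) (a : Fin (p + 1) → ι) :
    D.hat c a = D.ρ p a (pr U P p a c) := rfl

lemma hat_add {p : ℕ} (c c' : (CK U P).X p) : D.hat (c + c') = D.hat c + D.hat c' := by
  funext a
  simp only [hat_apply, Pi.add_apply, map_add]

lemma hat_zero {p : ℕ} : D.hat (0 : (CK U P).X p) = 0 := by
  funext a
  simp only [hat_apply, Pi.zero_apply, map_zero]

lemma hat_d {p : ℕ} (c : (CK U P).X p) :
    D.hat ((CK U P).d p (p + 1) c) = dd (D.hat c) := by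
  funext a
  rw [hat_apply, d_pr_apply, map_sum, dd_apply]
  refine Finset.sum_congr rfl (fun k _ => ?_)
  rw [map_zsmul, D.ρ_face, hat_apply]

include D

lemma π_idem (N : Finset ι) (g : G) : D.π N (D.π N g) = D.π N g := by
  rw [D.π_π, if_pos rfl]

lemma π_ne {N N' : Finset ι} (h : N ≠ N') (g : G) : D.π N (D.π N' g) = 0 := by
  rw [D.π_π, if_neg h]

lemma hat_injective {p : ℕ} (c c' : (CK U P).X p) (h : D.hat c = D.hat c') : c = c' := by
  apply elt_ext
  intro a
  exact D.inj p a (congrFun h a)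

lemma π_hat {p : ℕ} (c : (CK U P).X p) (a : Fin (p + 1) → ι) (N : Finset ι) (hN : ¬ N ⊆ im a) :
    D.π N (D.hat c a) = 0 :=
  (D.range_iff p a _).1 ⟨_, rfl⟩ N hN

lemma exists_hat_eq {p : ℕ} (f : (Fin (p + 1) → ι) → G)
    (hf : ∀ a (N : Finset ι), ¬ N ⊆ im a → D.π N (f a) = 0) :
    ∃ c : (CK U P).X p, D.hat c = f := by
  have h : ∀ a, ∃ s, D.ρ p a s = f a := fun a => (D.range_iff p a _).2 (hf a)
  choose s hs using h
  refine ⟨mkElt U P p s, ?_⟩
  funext a
  rw [hat_apply, pr_mkElt, hs]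

/-- the `N`-component of a tuple cochain. -/
def comp {p : ℕ} (N : Finset ι) (f : (Fin (p + 1) → ι) → G) :
    (Fin (p + 1) → ι) → G := fun a => D.π N (f a)

lemma dd_comp {p : ℕ} (N : Finset ι) (f : (Fin (p + 1) → ι) → G) :
    dd (D.comp N f) = D.comp N (dd f) := dd_map (D.π N) f

lemma suppIn_comp_hat {p : ℕ} (N : Finset ι) (c : (CK U P).X p) :
    SuppIn (D.comp N (D.hat c)) N Finset.univ := by
  intro a ha
  exact D.π_hat c a N (fun h => ha ⟨h, Finset.subset_univ _⟩)

/-- assembling components: a family `b N` of tuple cochains with `b N` valued in the range of `π N` and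
supported on `{N ⊆ im a}` is the hat of a Cech cochain. -/
lemma exists_hat_eq_sum {p : ℕ} (b : Finset ι → (Fin (p + 1) → ι) → G)
    (h1 : ∀ N a, D.π N (b N a) = b N a) (h2 : ∀ N, SuppIn (b N) N Finset.univ) :
    ∃ c : (CK U P).X p, D.hat c = fun a => ∑ N : Finset ι, b N a := by
  apply D.exists_hat_eq
  intro a N' hN'
  rw [map_sum]
  refine Finset.sum_eq_zero (fun N _ => ?_)
  by_cases h : N' = N
  · subst h
    rw [h2 N' a (fun h => hN' h.1), map_zero]
  · rw [← h1 N a, D.π_ne h]

/-- the component at `N ≠ univ` of a cocycle is a coboundary. -/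
lemma key_ne {q : ℕ} {N : Finset ι} (hN : N ≠ Finset.univ) (c : (CK U P).X (q + 1))
    (hc : (CK U P).d (q + 1) (q + 2) c = 0) :
    ∃ b : (Fin (q + 1) → ι) → G,
      (∀ a, D.π N (b a) = b a) ∧ SuppIn b N Finset.univ ∧ dd b = D.comp N (D.hat c) := by
  have hdd : dd (D.hat c) = 0 := by rw [← D.hat_d, hc, D.hat_zero]
  have hs := D.suppIn_comp_hat N c
  have hcoc : CocycleOn (D.comp N (D.hat c)) Finset.univ := by
    intro a _
    rw [D.dd_comp, hdd]
    exact map_zero _
  obtain ⟨j, hj⟩ : ∃ j, j ∉ N := by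
    by_contra hcon
    push Not at hcon
    exact hN (Finset.eq_univ_iff_forall.2 hcon)
  obtain ⟨hbs, hbd⟩ := lemmaA (Finset.mem_univ j) hj _ hs hcoc
  refine ⟨hh j (D.comp N (D.hat c)), fun a => D.π_idem _ _, hbs, ?_⟩
  funext a
  exact hbd a (Finset.subset_univ _)

/-- the component at `univ` of a cocycle is a coboundary, outside the top degree. -/
lemma key_univ {q : ℕ} (hq : q + 2 ≠ Fintype.card ι) (c : (CK U P).X (q + 1))
    (hc : (CK U P).d (q + 1) (q + 2) c = 0) :
    ∃ b : (Fin (q + 1) → ι) → G,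
      (∀ a, D.π Finset.univ (b a) = b a) ∧ SuppIn b Finset.univ Finset.univ ∧
        dd b = D.comp Finset.univ (D.hat c) := by
  have hdd : dd (D.hat c) = 0 := by rw [← D.hat_d, hc, D.hat_zero]
  have hs := D.suppIn_comp_hat Finset.univ c
  have hcoc : CocycleOn (D.comp Finset.univ (D.hat c)) Finset.univ := by
    intro a _
    rw [D.dd_comp, hdd]
    exact map_zero _
  obtain ⟨b, hbs, hbd⟩ := lemmaB (Fintype.card ι) Finset.univ Finset.card_univ q hq _ hs hcoc
  refine ⟨D.comp Finset.univ b, fun a => D.π_idem _ _, fun a ha => ?_, ?_⟩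
  · change D.π _ (b a) = 0
    rw [hbs a ha, map_zero]
  · rw [D.dd_comp]
    funext a
    change D.π _ (dd b a) = _
    rw [hbd a (Finset.subset_univ _)]
    exact D.π_idem _ _

/-- assembling componentwise primitives. -/
lemma assemble {q : ℕ} (c : (CK U P).X (q + 1))
    (key : ∀ N : Finset ι, ∃ b : (Fin (q + 1) → ι) → G,
      (∀ a, D.π N (b a) = b a) ∧ SuppIn b N Finset.univ ∧ dd b = D.comp N (D.hat c)) :
    ∃ b : (CK U P).X q, (CK U P).d q (q + 1) b = c := by
  choose b hb1 hb2 hb3 using key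
  obtain ⟨b', hb'⟩ := D.exists_hat_eq_sum b hb1 hb2
  refine ⟨b', D.hat_injective _ _ ?_⟩
  rw [hat_d, hb', dd_sum]
  funext a
  simp only [hb3]
  exact D.sum_π _

/-- coboundaries exist outside the top degree. -/
theorem exists_d_eq {q : ℕ} (hq : q + 2 ≠ Fintype.card ι) (c : (CK U P).X (q + 1))
    (hc : (CK U P).d (q + 1) (q + 2) c = 0) : ∃ b : (CK U P).X q, (CK U P).d q (q + 1) b = c := by
  refine D.assemble c (fun N => ?_)
  by_cases hN : N = Finset.univ
  · subst hN
    exact D.key_univ hq c hc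
  · exact D.key_ne hN c hc

theorem isZero_homology_succ {q : ℕ} (hq : q + 2 ≠ Fintype.card ι) :
    IsZero ((CK U P).homology (q + 1)) := by
  rw [← HomologicalComplex.exactAt_iff_isZero_homology,
    HomologicalComplex.exactAt_iff' (CK U P) q (q + 1) (q + 2) (by simp) (by simp),
    ShortComplex.ab_exact_iff]
  intro c hc
  exact D.exists_d_eq hq c hc

/-- a degree zero cocycle whose `univ`-component vanishes is zero, if there are no `∅`-components. -/
lemma eq_zero_of_d_eq_zero (hemp : ∀ g, D.π ∅ g = 0) (c : (CK U P).X 0)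
    (hc : (CK U P).d 0 1 c = 0) (hu : D.comp Finset.univ (D.hat c) = 0) : c = 0 := by
  have hdd : dd (D.hat c) = 0 := by rw [← D.hat_d, hc, D.hat_zero]
  apply D.hat_injective
  rw [hat_zero]
  funext a
  rw [← D.sum_π (D.hat c a)]
  refine Finset.sum_eq_zero (fun N _ => ?_)
  by_cases hN : N = Finset.univ
  · subst hN
    exact congrFun hu a
  by_cases hN0 : N = ∅
  · subst hN0
    exact hemp _
  have hs := D.suppIn_comp_hat N c
  have hcoc : CocycleOn (D.comp N (D.hat c)) Finset.univ := by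
    intro a _
    rw [D.dd_comp, hdd]
    exact map_zero _
  obtain ⟨j, hj⟩ : ∃ j, j ∉ N := by
    by_contra hcon
    push Not at hcon
    exact hN (Finset.eq_univ_iff_forall.2 hcon)
  exact congrFun (lemmaA0_eq_zero (Finset.mem_univ j) hj (Finset.nonempty_iff_ne_empty.2 hN0) _ hs hcoc) a

theorem isZero_homology_zero (hcard : Fintype.card ι ≠ 1) (hemp : ∀ g, D.π ∅ g = 0) :
    IsZero ((CK U P).homology 0) := by
  rw [← HomologicalComplex.exactAt_iff_isZero_homology,
    HomologicalComplex.exactAt_iff' (CK U P) 0 0 1 (by simp) (by simp),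
    ShortComplex.ab_exact_iff]
  intro c hc
  refine ⟨0, ?_⟩
  rw [map_zero]
  symm
  refine D.eq_zero_of_d_eq_zero hemp c hc ?_
  exact eq_zero_of_suppIn_zero _ (D.suppIn_comp_hat Finset.univ c) (by rwa [Finset.card_univ])


/-! ### the top degree -/

section Top
variable {n : ℕ} (hn : Fintype.card ι = n + 1) (a₀ : Fin (n + 1) → ι) (ha₀ : Function.Bijective a₀)

/-- evaluation of the `univ`-component at the enumeration `a₀`. -/
noncomputable def topEval : (CK U P).X n →+ (D.π Finset.univ).range where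
  toFun c := ⟨D.π Finset.univ (D.hat c a₀), ⟨_, rfl⟩⟩
  map_zero' := by
    apply Subtype.ext
    change D.π Finset.univ (D.hat 0 a₀) = 0
    rw [hat_zero, Pi.zero_apply, map_zero]
  map_add' c c' := by
    apply Subtype.ext
    change D.π Finset.univ (D.hat (c + c') a₀) =
      D.π Finset.univ (D.hat c a₀) + D.π Finset.univ (D.hat c' a₀)
    rw [hat_add, Pi.add_apply, map_add]

lemma topEval_coe (c : (CK U P).X n) :
    ((D.topEval a₀ c : (D.π Finset.univ).range) : G) =
      D.π Finset.univ (D.hat c a₀) := rfl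

include hn in
lemma topEval_d (i : ℕ) (b : (CK U P).X i) : D.topEval a₀ ((CK U P).d i n b) = 0 := by
  apply Subtype.ext
  rw [topEval_coe]
  change _ = (0 : G)
  by_cases hi : i + 1 = n
  · subst hi
    rw [hat_d]
    have h0 : D.comp Finset.univ (D.hat b) = 0 :=
      eq_zero_of_suppIn_of_card _ (D.suppIn_comp_hat Finset.univ b)
        (Or.inr (by rw [Finset.card_univ]; omega))
    have h1 := congrFun (D.dd_comp Finset.univ (D.hat b)) a₀
    rw [h0, dd_zero] at h1
    exact h1.symm
  · rw [(CK U P).shape i n hi]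
    change D.π Finset.univ (D.hat 0 a₀) = 0
    rw [hat_zero, Pi.zero_apply, map_zero]

include ha₀ in
lemma im_a₀ : im a₀ = Finset.univ := by
  ext x
  simp only [Finset.mem_univ, iff_true]
  obtain ⟨i, rfl⟩ := ha₀.2 x
  exact apply_mem_im a₀ i

include hn ha₀ in
lemma comp_univ_eq_zero (c : (CK U P).X n) (hc : (CK U P).d n (n + 1) c = 0)
    (h0 : D.topEval a₀ c = 0) : D.comp Finset.univ (D.hat c) = 0 := by
  have hdd : dd (D.hat c) = 0 := by rw [← D.hat_d, hc, D.hat_zero]
  refine eval_injective n Finset.univ a₀ ha₀.1 (D.im_a₀ a₀ ha₀) _ (D.suppIn_comp_hat Finset.univ c) ?_ ?_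
  · intro a _
    rw [D.dd_comp, hdd]
    exact map_zero _
  · exact congrArg Subtype.val h0

include hn ha₀ in
lemma exists_d_eq_top (hemp : n = 0 → ∀ g, D.π ∅ g = 0) (c : (CK U P).X n)
    (hc : (CK U P).d n (n + 1) c = 0) (h0 : D.topEval a₀ c = 0) :
    ∃ (i : ℕ) (b : (CK U P).X i), (CK U P).d i n b = c := by
  have hu := D.comp_univ_eq_zero hn a₀ ha₀ c hc h0
  cases n with
  | zero =>
    refine ⟨0, 0, ?_⟩
    rw [map_zero]
    exact (D.eq_zero_of_d_eq_zero (hemp rfl) c hc hu).symm
  | succ m =>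
    obtain ⟨b, hb⟩ := D.assemble c (fun N => by
      by_cases hN : N = Finset.univ
      · subst hN
        refine ⟨0, fun a => map_zero _, fun _ _ => rfl, ?_⟩
        rw [dd_zero, hu]
      · exact D.key_ne hN c hc)
    exact ⟨m, b, hb⟩

include hn ha₀ in
lemma exists_topEval_eq (g : (D.π Finset.univ).range) :
    ∃ c : (CK U P).X n, (CK U P).d n (n + 1) c = 0 ∧ D.topEval a₀ c = g := by
  obtain ⟨_, ⟨g₀, rfl⟩⟩ := g
  obtain ⟨f, hfs, hfc, hfg⟩ := eval_surjective n Finset.univ a₀ ha₀.1 (D.im_a₀ a₀ ha₀) g₀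
  obtain ⟨c, hc⟩ := D.exists_hat_eq (D.comp Finset.univ f) (by
    intro a N' hN'
    by_cases h : N' = Finset.univ
    · subst h
      change D.π _ (D.π _ (f a)) = 0
      rw [hfs a (fun h => hN' h.1), map_zero, map_zero]
    · exact D.π_ne h _)
  refine ⟨c, ?_, ?_⟩
  · apply D.hat_injective
    rw [hat_d, hc, hat_zero, D.dd_comp]
    funext a
    change D.π _ (dd f a) = 0
    rw [hfc a (Finset.subset_univ _), map_zero]
  · apply Subtype.ext
    rw [topEval_coe, hc]
    change D.π _ (D.π _ (f a₀)) = D.π _ g₀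
    rw [D.π_idem, hfg]

include hn ha₀ in
/-- the top cohomology of the Cech complex is the range of `π univ`. -/
theorem exists_top_addEquiv (hemp : n = 0 → ∀ g, D.π ∅ g = 0) :
    ∃ e : (CK U P).homology n ≃+ (D.π Finset.univ).range,
      ∀ z : (CK U P).cycles n, e ((CK U P).homologyπ n z) = D.topEval a₀ ((CK U P).iCycles n z) := by
  refine exists_homology_addEquiv ((CK U P).sc n) (D.topEval a₀) ?_ ?_ ?_
  · intro b
    exact D.topEval_d hn a₀ _ b
  · intro c hc h0
    have hc' : (CK U P).d n (n + 1) c = 0 := by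
      have : ∀ k, k = n + 1 → (CK U P).d n k c = 0 → (CK U P).d n (n + 1) c = 0 := by
        rintro _ rfl h; exact h
      exact this _ (CochainComplex.next ℕ n) hc
    obtain ⟨i, b, hb⟩ := D.exists_d_eq_top hn a₀ ha₀ hemp c hc' h0
    by_cases hi : i + 1 = n
    · subst hi
      have : ∀ j, j = i → ∃ b : (CK U P).X j, (CK U P).d j (i + 1) b = c := by
        rintro _ rfl; exact ⟨b, hb⟩
      exact this _ (CochainComplex.prev_nat_succ i)
    · refine ⟨0, ?_⟩
      rw [map_zero, ← hb, (CK U P).shape i n hi]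
      rfl
  · intro g
    obtain ⟨c, hc, hg⟩ := D.exists_topEval_eq hn a₀ ha₀ g
    refine ⟨c, ?_, hg⟩
    have : ∀ k, k = n + 1 → (CK U P).d n k c = 0 := by
      rintro _ rfl; exact hc
    exact this _ (CochainComplex.next ℕ n)

end Top

end SignDecomp

end Groth.Agent.R2.H82.CechModel
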