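import Mathlib
import Groth.Agent.Lib.Helper27PnSections
import Groth.Agent.R2.H82CechModel
import Groth.Agent.S0493

/-!
# Sections of `O(d)` on `P^n_R` over the opens `D₊(x_J)` and the sign-pattern decomposition (helper79)

Bridge between the sheaf `O(d) = GrTilde.tilde 𝒢 𝒢 d` on `Proj R[x_0..x_n]` and an abstract Laurent model
(`LModel`): produces helper82's `CechModel.SignDecomp` for the standard cover.
-/

set_option autoImplicit false
set_option linter.unusedSectionVars false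
set_option linter.unusedVariables false
universe u

open CategoryTheory CategoryTheory.Limits AlgebraicGeometry TopologicalSpace Opposite
  HomogeneousLocalization MvPolynomial

namespace Groth.Agent.R2.H79.PnBridge

open Groth.Agent.Lib.Helper27GrTildeSect Groth.Agent.Lib.Helper27ProjGamma
  Groth.Agent.Lib.Helper27PnSections

variable (n : ℕ) (R : Type u) [CommRing R]

local notation "𝒢" => CohB1.polyGrading n R
local notation "σ" => Fin (n + 1)
local notation "S" => MvPolynomial (Fin (n + 1)) R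

/-- the monomial `x_J = ∏_{j ∈ J} x_j`. -/
noncomputable def fJ (J : Finset σ) : S := ∏ j ∈ J, (X j : S)

theorem fJ_mem (J : Finset σ) : fJ n R J ∈ 𝒢 J.card := by
  have h := MvPolynomial.IsHomogeneous.prod J (fun j => (X j : S)) (fun _ => 1)
    (fun j _ => MvPolynomial.isHomogeneous_X R j)
  simpa [fJ] using h

theorem fJ_pow_mem (J : Finset σ) (k : ℕ) : fJ n R J ^ k ∈ 𝒢 (k * J.card) := by
  have h := (fJ_mem n R J : (fJ n R J).IsHomogeneous J.card).pow k
  rwa [mul_comm] at h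

theorem fJ_regular (J : Finset σ) : IsRegular (fJ n R J) :=
  IsRegular.prod fun _ _ => isRegular_X

theorem fJ_not_mem_iff (J : Finset σ) (y : ProjectiveSpectrum 𝒢) :
    fJ n R J ∉ y.asHomogeneousIdeal ↔ ∀ j ∈ J, (X j : S) ∉ y.asHomogeneousIdeal := by
  have := y.isPrime
  unfold fJ
  change ¬ (∏ j ∈ J, (X j : S)) ∈ y.asHomogeneousIdeal.toIdeal ↔ _
  rw [Ideal.IsPrime.prod_mem_iff]
  push Not
  rfl

theorem fJ_pow_not_mem (J : Finset σ) (k : ℕ) (y : ProjectiveSpectrum 𝒢)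
    (hy : fJ n R J ∉ y.asHomogeneousIdeal) : fJ n R J ^ k ∉ y.asHomogeneousIdeal :=
  fun h => hy (y.isPrime.mem_of_pow_mem k h)

theorem fJ_mul_sdiff {J J' : Finset σ} (h : J ⊆ J') : fJ n R J * fJ n R (J' \ J) = fJ n R J' := by
  classical
  unfold fJ
  rw [mul_comm, Finset.prod_sdiff h]

/-! ### sections over `D₊(x_J)` -/

variable (d : ℤ)

/-- every section of `O(d)` over `D₊(x_J)` is a single fraction `a / x_J^k`. -/
theorem exists_rep (J : Finset σ) (hJ : J.Nonempty) (V : (Proj 𝒢).Opens)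
    (hV : V = Proj.basicOpen 𝒢 (fJ n R J)) (s : Γ(GrTilde.tilde 𝒢 𝒢 d, V)) :
    ∃ (k i : ℕ) (a : S) (_ : a ∈ CohB1.polyGrading n R i), (i : ℤ) = k * J.card + d ∧
      ∀ (y : ProjectiveSpectrum 𝒢) (hy : y ∈ V) (hfy : fJ n R J ^ k ∉ y.asHomogeneousIdeal),
        (secVal 𝒢 𝒢 d V s y hy : Twist.Loc 𝒢 y) =
          Localization.mk a (⟨fJ n R J ^ k, hfy⟩ : y.asHomogeneousIdeal.toIdeal.primeCompl) := by
  subst hV
  obtain ⟨K, i, ⟨a, ha⟩, hi, hval⟩ := exists_global (toSect 𝒢 𝒢 d _ s) (Finset.card_pos.2 hJ)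
    (fJ_mem n R J)
  exact ⟨K, i, a, ha, hi, fun y hy hfy => hval ⟨y, hy⟩⟩

/-- equality of fractions at all points of `D₊(g)` (`g` regular) is equality of cross products. -/
theorem cross_eq_of_forall {e : ℕ} (he : 0 < e) {g : S} (hg : g ∈ CohB1.polyGrading n R e)
    (hreg : IsRegular g) {i j i' j' : ℕ} {a b a' b' : S}
    (ha : a ∈ CohB1.polyGrading n R i) (hb : b ∈ CohB1.polyGrading n R j)
    (ha' : a' ∈ CohB1.polyGrading n R i') (hb' : b' ∈ CohB1.polyGrading n R j')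
    (hdeg : i + j' = i' + j)
    (H : ∀ (y : ProjectiveSpectrum 𝒢), g ∉ y.asHomogeneousIdeal →
      ∃ (hby : b ∉ y.asHomogeneousIdeal) (hby' : b' ∉ y.asHomogeneousIdeal),
        (Localization.mk a (⟨b, hby⟩ : y.asHomogeneousIdeal.toIdeal.primeCompl) : Twist.Loc 𝒢 y) =
          Localization.mk a' (⟨b', hby'⟩ : y.asHomogeneousIdeal.toIdeal.primeCompl)) :
    b' * a = b * a' := by
  have h1 : b' * a ∈ CohB1.polyGrading n R (i + j') := by
    have := (show b'.IsHomogeneous j' from hb').mul (show a.IsHomogeneous i from ha)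
    have e : j' + i = i + j' := by omega
    rwa [e] at this
  have h2 : b * a' ∈ CohB1.polyGrading n R (i + j') := by
    have := (show b.IsHomogeneous j from hb).mul (show a'.IsHomogeneous i' from ha')
    have e : j + i' = i + j' := by omega
    rwa [e] at this
  have h0 := eq_zero_of_local n R he hg hreg (Submodule.sub_mem _ h1 h2) (fun y hy => by
    obtain ⟨hby, hby', h3⟩ := H y hy
    rw [Localization.mk_eq_mk_iff, Localization.r_iff_exists] at h3
    obtain ⟨c, hc⟩ := h3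
    refine ⟨c.1, c.2, ?_⟩
    simp only at hc
    rw [mul_sub, hc, sub_self])
  exact sub_eq_zero.mp h0

/-! ### the abstract Laurent model -/

/-- An abstract model of the Laurent polynomial ring `R[x_0^{±1}, …, x_n^{±1}]` with its degree-`d` part and its
sign-pattern projections (`piN N` keeps the monomials whose set of negative exponents is exactly `N`). -/
structure LModel (T : Type u) [CommRing T] [Algebra R T] where
  /-- polynomials inside Laurent polynomials -/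
  incl : S →ₐ[R] T
  incl_inj : Function.Injective incl
  isUnit_X : ∀ i : σ, IsUnit (incl (X i))
  /-- the degree-`d` part -/
  Tdeg : Submodule R T
  mem_Tdeg_iff : ∀ g : T, g ∈ Tdeg ↔ ∃ (k i : ℕ) (m : S), m ∈ CohB1.polyGrading n R i ∧
      (i : ℤ) = k * (Finset.univ : Finset σ).card + d ∧ g * incl (fJ n R Finset.univ) ^ k = incl m
  /-- sign-pattern projections -/
  piN : Finset σ → T →ₗ[R] T
  sum_piN : ∀ g, ∑ N : Finset σ, piN N g = g
  piN_piN : ∀ N N' g, piN N (piN N' g) = if N = N' then piN N g else 0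
  piN_mem : ∀ N g, g ∈ Tdeg → piN N g ∈ Tdeg
  mem_LJ_iff : ∀ (J : Finset σ), J.Nonempty → ∀ (g : T), g ∈ Tdeg →
    ((∃ (k i : ℕ) (a : S), a ∈ CohB1.polyGrading n R i ∧ (i : ℤ) = k * J.card + d ∧
        g * incl (fJ n R J) ^ k = incl a) ↔ ∀ N : Finset σ, ¬ N ⊆ J → piN N g = 0)
  /-- in negative degree there are no monomials without negative exponents -/
  piN_empty : d < 0 → ∀ g ∈ Tdeg, piN ∅ g = 0
  /-- monomials with all exponents negative have degree `≤ -(n+1)` -/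
  piN_univ : -((n : ℤ) + 1) < d → ∀ g ∈ Tdeg, piN Finset.univ g = 0

namespace LModel

variable {n R d} {T : Type u} [CommRing T] [Algebra R T] (L : LModel n R d T)

theorem isUnit_fJ (J : Finset σ) : IsUnit (L.incl (fJ n R J)) := by
  classical
  unfold fJ
  rw [map_prod, IsUnit.prod_iff]
  exact fun j _ => L.isUnit_X j

theorem isUnit_fJ_pow (J : Finset σ) (k : ℕ) : IsUnit (L.incl (fJ n R J) ^ k) :=
  (L.isUnit_fJ J).pow k

end LModel

/-! ### the embedding of the sections over `D₊(x_0 ⋯ x_n)` into the model -/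

section Beta

variable {n R d}

variable (n R) in
/-- the smallest open `D₊(x_0 ⋯ x_n)`. -/
noncomputable abbrev W0 : (Proj 𝒢).Opens := Proj.basicOpen 𝒢 (fJ n R Finset.univ)

theorem mem_W0_iff (y : ProjectiveSpectrum 𝒢) :
    y ∈ W0 n R ↔ fJ n R Finset.univ ∉ y.asHomogeneousIdeal :=
  ProjectiveSpectrum.mem_basicOpen 𝒢 _ y

/-- `s` is given by the fraction `a / b` at all points of `W0`. -/
def IsRepOn (s : Γ(GrTilde.tilde 𝒢 𝒢 d, W0 n R)) (a b : S) : Prop :=
  ∀ (y : ProjectiveSpectrum 𝒢) (hy : y ∈ W0 n R), ∃ hby : b ∉ y.asHomogeneousIdeal,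
    (secVal 𝒢 𝒢 d (W0 n R) s y hy : Twist.Loc 𝒢 y) =
      Localization.mk a (⟨b, hby⟩ : y.asHomogeneousIdeal.toIdeal.primeCompl)

theorem exists_isRepOn (s : Γ(GrTilde.tilde 𝒢 𝒢 d, W0 n R)) :
    ∃ (k i : ℕ) (a : S), a ∈ CohB1.polyGrading n R i ∧
      (i : ℤ) = k * (Finset.univ : Finset σ).card + d ∧ IsRepOn s a (fJ n R Finset.univ ^ k) := by
  obtain ⟨k, i, a, ha, hi, hval⟩ := exists_rep n R d Finset.univ Finset.univ_nonempty (W0 n R) rfl s
  refine ⟨k, i, a, ha, hi, fun y hy => ?_⟩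
  have hfy := fJ_pow_not_mem n R Finset.univ k y ((mem_W0_iff y).1 hy)
  exact ⟨hfy, hval y hy hfy⟩

/-- two representations of the same section have equal cross products. -/
theorem IsRepOn.cross {s : Γ(GrTilde.tilde 𝒢 𝒢 d, W0 n R)} {i j i' j' : ℕ} {a b a' b' : S}
    (h : IsRepOn s a b) (h' : IsRepOn s a' b')
    (ha : a ∈ CohB1.polyGrading n R i) (hb : b ∈ CohB1.polyGrading n R j)
    (ha' : a' ∈ CohB1.polyGrading n R i') (hb' : b' ∈ CohB1.polyGrading n R j')
    (hij : (i : ℤ) = j + d) (hij' : (i' : ℤ) = j' + d) : b' * a = b * a' := by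
  refine cross_eq_of_forall n R (Finset.card_pos.2 Finset.univ_nonempty) (fJ_mem n R Finset.univ)
    (fJ_regular n R Finset.univ) ha hb ha' hb' (by omega) (fun y hy => ?_)
  obtain ⟨hby, e⟩ := h y ((mem_W0_iff y).2 hy)
  obtain ⟨hby', e'⟩ := h' y ((mem_W0_iff y).2 hy)
  exact ⟨hby, hby', e.symm.trans e'⟩

variable {T : Type u} [CommRing T] [Algebra R T] (L : LModel n R d T)

/-- the image of a section over `W0` in the model. -/
noncomputable def β (s : Γ(GrTilde.tilde 𝒢 𝒢 d, W0 n R)) : T :=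
  L.incl (exists_isRepOn s).choose_spec.choose_spec.choose *
    ↑(L.isUnit_fJ_pow Finset.univ (exists_isRepOn s).choose).unit⁻¹

theorem β_mul_eq (s : Γ(GrTilde.tilde 𝒢 𝒢 d, W0 n R)) {i j : ℕ} {a b : S}
    (ha : a ∈ CohB1.polyGrading n R i) (hb : b ∈ CohB1.polyGrading n R j) (hij : (i : ℤ) = j + d)
    (h : IsRepOn s a b) : β L s * L.incl b = L.incl a := by
  obtain ⟨ha0, hi0, h0⟩ := (exists_isRepOn s).choose_spec.choose_spec.choose_spec
  set k := (exists_isRepOn s).choose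
  set i0 := (exists_isRepOn s).choose_spec.choose
  set a0 := (exists_isRepOn s).choose_spec.choose_spec.choose
  have hc : b * a0 = fJ n R Finset.univ ^ k * a :=
    h0.cross h ha0 (fJ_pow_mem n R Finset.univ k) ha hb (by rw [hi0]; push_cast; ring) hij
  have hu : (↑(L.isUnit_fJ_pow Finset.univ k).unit : T) = L.incl (fJ n R Finset.univ) ^ k :=
    IsUnit.unit_spec _
  change L.incl a0 * ↑(L.isUnit_fJ_pow Finset.univ k).unit⁻¹ * L.incl b = L.incl a
  have h1 : L.incl a0 * L.incl b = ↑(L.isUnit_fJ_pow Finset.univ k).unit * L.incl a := by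
    rw [hu, ← map_pow, ← map_mul, ← map_mul, mul_comm, hc]
  calc L.incl a0 * ↑(L.isUnit_fJ_pow Finset.univ k).unit⁻¹ * L.incl b
      = ↑(L.isUnit_fJ_pow Finset.univ k).unit⁻¹ * (L.incl a0 * L.incl b) := by ring
    _ = L.incl a := by rw [h1, Units.inv_mul_cancel_left]

/-- characterisation of `β s` by any representation with invertible denominator. -/
theorem β_eq_of_mul_eq (s : Γ(GrTilde.tilde 𝒢 𝒢 d, W0 n R)) {i j : ℕ} {a b : S}
    (ha : a ∈ CohB1.polyGrading n R i) (hb : b ∈ CohB1.polyGrading n R j) (hij : (i : ℤ) = j + d)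
    (h : IsRepOn s a b) (hu : IsUnit (L.incl b)) {t : T} (ht : t * L.incl b = L.incl a) :
    β L s = t := by
  have := β_mul_eq L s ha hb hij h
  exact hu.mul_left_injective (this.trans ht.symm)

theorem isRepOn_add {s s' : Γ(GrTilde.tilde 𝒢 𝒢 d, W0 n R)} {a b a' b' : S}
    (h : IsRepOn s a b) (h' : IsRepOn s' a' b') : IsRepOn (s + s') (b * a' + b' * a) (b * b') := by
  intro y hy
  obtain ⟨hby, e⟩ := h y hy
  obtain ⟨hby', e'⟩ := h' y hy
  have hbb : b * b' ∉ y.asHomogeneousIdeal := fun hh =>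
    (y.isPrime.mem_or_mem hh).elim hby hby'
  refine ⟨hbb, ?_⟩
  rw [Groth.Agent.Lib.Helper27GrTildeSect.secVal_add]
  change (secVal 𝒢 𝒢 d (W0 n R) s y hy : Twist.Loc 𝒢 y) +
    (secVal 𝒢 𝒢 d (W0 n R) s' y hy : Twist.Loc 𝒢 y) = _
  rw [e, e', Localization.add_mk]
  rfl

theorem β_add (s s' : Γ(GrTilde.tilde 𝒢 𝒢 d, W0 n R)) : β L (s + s') = β L s + β L s' := by
  obtain ⟨k, i, a, ha, hi, h⟩ := exists_isRepOn s
  obtain ⟨k', i', a', ha', hi', h'⟩ := exists_isRepOn s'
  have hb := fJ_pow_mem n R Finset.univ k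
  have hb' := fJ_pow_mem n R Finset.univ k'
  have e1 := β_mul_eq L s ha hb (by rw [hi]; push_cast; ring) h
  have e2 := β_mul_eq L s' ha' hb' (by rw [hi']; push_cast; ring) h'
  have hA : fJ n R Finset.univ ^ k * a' + fJ n R Finset.univ ^ k' * a ∈
      CohB1.polyGrading n R (i + k' * (Finset.univ : Finset σ).card) := by
    refine Submodule.add_mem _ ?_ ?_
    · have := (show (fJ n R Finset.univ ^ k).IsHomogeneous _ from hb).mul
        (show a'.IsHomogeneous i' from ha')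
      have e : k * (Finset.univ : Finset σ).card + i' = i + k' * (Finset.univ : Finset σ).card := by
        have := hi; have := hi'; push_cast at *; omega
      rwa [e] at this
    · have := (show (fJ n R Finset.univ ^ k').IsHomogeneous _ from hb').mul
        (show a.IsHomogeneous i from ha)
      have e : k' * (Finset.univ : Finset σ).card + i = i + k' * (Finset.univ : Finset σ).card := by
        omega
      rwa [e] at this
  have hB : fJ n R Finset.univ ^ k * fJ n R Finset.univ ^ k' ∈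
      CohB1.polyGrading n R (k * (Finset.univ : Finset σ).card + k' * (Finset.univ : Finset σ).card) :=
    (show (fJ n R Finset.univ ^ k).IsHomogeneous _ from hb).mul
      (show (fJ n R Finset.univ ^ k').IsHomogeneous _ from hb')
  refine β_eq_of_mul_eq L (s + s') hA hB (by push_cast; rw [hi]; ring) (isRepOn_add h h') ?_ ?_
  · rw [map_mul, map_pow, map_pow]
    exact (L.isUnit_fJ_pow _ k).mul (L.isUnit_fJ_pow _ k')
  · rw [map_add, map_mul, map_mul, map_mul, ← e1, ← e2]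
    ring

theorem isRepOn_zero_iff {s : Γ(GrTilde.tilde 𝒢 𝒢 d, W0 n R)} {b : S}
    (hb : ∀ (y : ProjectiveSpectrum 𝒢), y ∈ W0 n R → b ∉ y.asHomogeneousIdeal) :
    IsRepOn s 0 b ↔ s = 0 := by
  constructor
  · intro h
    apply sec_ext
    intro y hy
    obtain ⟨hby, e⟩ := h y hy
    rw [secVal_zero]
    change (secVal 𝒢 𝒢 d (W0 n R) s y hy : Twist.Loc 𝒢 y) = 0
    rw [e, Localization.mk_zero]
  · rintro rfl y hy
    refine ⟨hb y hy, ?_⟩
    rw [secVal_zero, Localization.mk_zero]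

theorem β_eq_zero_iff (s : Γ(GrTilde.tilde 𝒢 𝒢 d, W0 n R)) : β L s = 0 ↔ s = 0 := by
  obtain ⟨k, i, a, ha, hi, h⟩ := exists_isRepOn s
  have hb := fJ_pow_mem n R Finset.univ k
  have e1 := β_mul_eq L s ha hb (by rw [hi]; push_cast; ring) h
  have hbW : ∀ (y : ProjectiveSpectrum 𝒢), y ∈ W0 n R →
      fJ n R Finset.univ ^ k ∉ y.asHomogeneousIdeal :=
    fun y hy => fJ_pow_not_mem n R Finset.univ k y ((mem_W0_iff y).1 hy)
  constructor
  · intro h0
    rw [h0, zero_mul] at e1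
    have ha0 : a = 0 := L.incl_inj (by rw [← e1, map_zero])
    subst ha0
    exact (isRepOn_zero_iff hbW).1 h
  · rintro rfl
    have h00 : IsRepOn (0 : Γ(GrTilde.tilde 𝒢 𝒢 d, W0 n R)) 0 (fJ n R Finset.univ ^ k) :=
      (isRepOn_zero_iff hbW).2 rfl
    exact β_eq_of_mul_eq L 0 (zero_mem _) hb (i := i) (by rw [hi]; push_cast; ring) h00
      (by rw [map_pow]; exact L.isUnit_fJ_pow _ k) (by rw [zero_mul, map_zero])

/-- `β` as an additive map. -/
noncomputable def βHom : Γ(GrTilde.tilde 𝒢 𝒢 d, W0 n R) →+ T :=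
  AddMonoidHom.mk' (β L) (β_add L)

theorem βHom_injective : Function.Injective (βHom L) := by
  rw [injective_iff_map_eq_zero]
  intro s hs
  exact (β_eq_zero_iff L s).1 hs

theorem β_mem (s : Γ(GrTilde.tilde 𝒢 𝒢 d, W0 n R)) : β L s ∈ L.Tdeg := by
  obtain ⟨k, i, a, ha, hi, h⟩ := exists_isRepOn s
  have hb := fJ_pow_mem n R Finset.univ k
  have e1 := β_mul_eq L s ha hb (by rw [hi]; push_cast; ring) h
  rw [map_pow] at e1
  exact (L.mem_Tdeg_iff _).2 ⟨k, i, a, ha, hi, e1⟩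

theorem exists_β_eq {g : T} (hg : g ∈ L.Tdeg) : ∃ s : Γ(GrTilde.tilde 𝒢 𝒢 d, W0 n R), β L s = g := by
  obtain ⟨k, i, m, hm, hi, e⟩ := (L.mem_Tdeg_iff g).1 hg
  have hb := fJ_pow_mem n R Finset.univ k
  have hij : (i : ℤ) = (k * (Finset.univ : Finset σ).card : ℕ) + d := by rw [hi]; push_cast; ring
  have hW : ∀ y : W0 n R, fJ n R Finset.univ ^ k ∉ y.1.asHomogeneousIdeal :=
    fun y => fJ_pow_not_mem n R Finset.univ k y.1 ((mem_W0_iff y.1).1 y.2)
  refine ⟨fracSec 𝒢 d (W0 n R) hm hb hij hW, ?_⟩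
  refine β_eq_of_mul_eq L _ hm hb hij (fun y hy => ⟨hW ⟨y, hy⟩, ?_⟩)
    (by rw [map_pow]; exact L.isUnit_fJ_pow _ k) (by rw [map_pow]; exact e)
  exact secVal_fracSec 𝒢 d (W0 n R) hm hb hij hW y hy

end Beta

/-! ### restriction from `D₊(x_J)` to `D₊(x_0 ⋯ x_n)` -/

section Restr

variable {n R d}

theorem secVal_map' {V : (Proj 𝒢).Opens} (f : W0 n R ⟶ V) (s : Γ(GrTilde.tilde 𝒢 𝒢 d, V))
    (y : ProjectiveSpectrum 𝒢) (hy : y ∈ W0 n R) :
    secVal 𝒢 𝒢 d (W0 n R) ((GrTilde.tilde 𝒢 𝒢 d).presheaf.map f.op s) y hy =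
      secVal 𝒢 𝒢 d V s y (f.le hy) := rfl

/-- restriction to `W0` is injective on sections over `D₊(x_J)`. -/
theorem eq_zero_of_map_eq_zero (J : Finset σ) (hJ : J.Nonempty) (V : (Proj 𝒢).Opens)
    (hV : V = Proj.basicOpen 𝒢 (fJ n R J)) (f : W0 n R ⟶ V) (s : Γ(GrTilde.tilde 𝒢 𝒢 d, V))
    (h0 : (GrTilde.tilde 𝒢 𝒢 d).presheaf.map f.op s = 0) : s = 0 := by
  obtain ⟨k, i, a, ha, hi, hval⟩ := exists_rep n R d J hJ V hV s
  have hfV : ∀ (y : ProjectiveSpectrum 𝒢), y ∈ V → fJ n R J ^ k ∉ y.asHomogeneousIdeal := by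
    intro y hy
    rw [hV] at hy
    exact fJ_pow_not_mem n R J k y ((ProjectiveSpectrum.mem_basicOpen 𝒢 _ y).1 hy)
  have hrep : IsRepOn ((GrTilde.tilde 𝒢 𝒢 d).presheaf.map f.op s) a (fJ n R J ^ k) := by
    intro y hy
    refine ⟨hfV y (f.le hy), ?_⟩
    rw [secVal_map']
    exact hval y (f.le hy) _
  rw [h0] at hrep
  have hrep0 : IsRepOn (0 : Γ(GrTilde.tilde 𝒢 𝒢 d, W0 n R)) 0 (fJ n R J ^ k) :=
    (isRepOn_zero_iff (fun y hy => hfV y (f.le hy))).2 rfl
  have hb := fJ_pow_mem n R J k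
  have hc := hrep.cross hrep0 ha hb (zero_mem (CohB1.polyGrading n R i)) hb
    (by rw [hi]; push_cast; ring) (by rw [hi]; push_cast; ring)
  rw [mul_zero] at hc
  have ha0 : a = 0 := ((fJ_regular n R J).pow k).left
    (show fJ n R J ^ k * a = fJ n R J ^ k * 0 by rw [hc, mul_zero])
  subst ha0
  apply sec_ext
  intro y hy
  rw [secVal_zero]
  change (secVal 𝒢 𝒢 d V s y hy : Twist.Loc 𝒢 y) = 0
  rw [hval y hy (hfV y hy), Localization.mk_zero]

variable {T : Type u} [CommRing T] [Algebra R T] (L : LModel n R d T)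

/-- the image in the model of the restriction of a section over `D₊(x_J)`. -/
theorem exists_β_map_mul_eq (J : Finset σ) (hJ : J.Nonempty) (V : (Proj 𝒢).Opens)
    (hV : V = Proj.basicOpen 𝒢 (fJ n R J)) (f : W0 n R ⟶ V) (s : Γ(GrTilde.tilde 𝒢 𝒢 d, V)) :
    ∃ (k i : ℕ) (a : S), a ∈ CohB1.polyGrading n R i ∧ (i : ℤ) = k * J.card + d ∧
      β L ((GrTilde.tilde 𝒢 𝒢 d).presheaf.map f.op s) * L.incl (fJ n R J) ^ k = L.incl a := by
  obtain ⟨k, i, a, ha, hi, hval⟩ := exists_rep n R d J hJ V hV s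
  have hfV : ∀ (y : ProjectiveSpectrum 𝒢), y ∈ V → fJ n R J ^ k ∉ y.asHomogeneousIdeal := by
    intro y hy
    rw [hV] at hy
    exact fJ_pow_not_mem n R J k y ((ProjectiveSpectrum.mem_basicOpen 𝒢 _ y).1 hy)
  have hrep : IsRepOn ((GrTilde.tilde 𝒢 𝒢 d).presheaf.map f.op s) a (fJ n R J ^ k) := by
    intro y hy
    refine ⟨hfV y (f.le hy), ?_⟩
    rw [secVal_map']
    exact hval y (f.le hy) _
  refine ⟨k, i, a, ha, hi, ?_⟩
  rw [← map_pow]
  exact β_mul_eq L _ ha (fJ_pow_mem n R J k) (by rw [hi]; push_cast; ring) hrep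

/-- an element of the model of the form `a / x_J^k` is the restriction of a section over `D₊(x_J)`. -/
theorem exists_map_eq (J : Finset σ) (V : (Proj 𝒢).Opens)
    (hV : V = Proj.basicOpen 𝒢 (fJ n R J)) (f : W0 n R ⟶ V) (g : Γ(GrTilde.tilde 𝒢 𝒢 d, W0 n R))
    {k i : ℕ} {a : S} (ha : a ∈ CohB1.polyGrading n R i) (hi : (i : ℤ) = k * J.card + d)
    (hg : β L g * L.incl (fJ n R J) ^ k = L.incl a) :
    ∃ s : Γ(GrTilde.tilde 𝒢 𝒢 d, V), (GrTilde.tilde 𝒢 𝒢 d).presheaf.map f.op s = g := by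
  have hfV : ∀ y : V, fJ n R J ^ k ∉ y.1.asHomogeneousIdeal := by
    intro y
    have hy : y.1 ∈ Proj.basicOpen 𝒢 (fJ n R J) := hV ▸ y.2
    exact fJ_pow_not_mem n R J k y.1 ((ProjectiveSpectrum.mem_basicOpen 𝒢 _ y.1).1 hy)
  have hb := fJ_pow_mem n R J k
  have hij : (i : ℤ) = (k * J.card : ℕ) + d := by rw [hi]; push_cast; ring
  refine ⟨fracSec 𝒢 d V ha hb hij hfV, ?_⟩
  apply βHom_injective L
  change β L _ = β L g
  have hrep : IsRepOn ((GrTilde.tilde 𝒢 𝒢 d).presheaf.map f.op (fracSec 𝒢 d V ha hb hij hfV)) a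
      (fJ n R J ^ k) := by
    intro y hy
    refine ⟨hfV ⟨y, f.le hy⟩, ?_⟩
    rw [secVal_map']
    exact secVal_fracSec 𝒢 d V ha hb hij hfV y (f.le hy)
  exact β_eq_of_mul_eq L _ ha hb hij hrep (by rw [map_pow]; exact L.isUnit_fJ_pow J k)
    (by rw [map_pow]; exact hg)

end Restr

/-! ### the sign-pattern decomposition for the standard cover -/

section Decomp

open Groth.Agent.Lib.Helper16.CechLow Groth.Agent.Lib.Helper16.CechH1 Groth.Agent.R2.H82.CechComb
  Groth.Agent.R2.H82.CechModel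

variable {n R d}

variable (n R) in
/-- the standard cover of `P^n_R`, indexed in the universe `u`. -/
noncomputable abbrev Ucov : ULift.{u} σ → (Proj 𝒢).Opens :=
  fun i => Proj.basicOpen 𝒢 (X i.down : S)

theorem W0_le (i : ULift.{u} σ) : W0 n R ≤ Ucov n R i := by
  intro y hy
  have h1 := (fJ_not_mem_iff n R Finset.univ y).1 ((mem_W0_iff y).1 hy) i.down (Finset.mem_univ _)
  exact (ProjectiveSpectrum.mem_basicOpen 𝒢 _ y).2 h1

/-- index sets: from `Finset (ULift σ)` to `Finset σ`. -/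
def dn (N : Finset (ULift.{u} σ)) : Finset σ := N.map Equiv.ulift.toEmbedding

theorem dn_inj {N N' : Finset (ULift.{u} σ)} : dn (n := n) N = dn N' ↔ N = N' := Finset.map_inj

theorem dn_subset {N N' : Finset (ULift.{u} σ)} : dn (n := n) N ⊆ dn N' ↔ N ⊆ N' :=
  Finset.map_subset_map

theorem mem_dn {N : Finset (ULift.{u} σ)} {j : σ} : j ∈ dn (n := n) N ↔ ULift.up j ∈ N := by
  unfold dn
  rw [Finset.mem_map]
  constructor
  · rintro ⟨i, hi, rfl⟩
    exact hi
  · intro h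
    exact ⟨ULift.up j, h, rfl⟩

theorem exists_dn_eq (N' : Finset σ) : ∃ N : Finset (ULift.{u} σ), dn N = N' :=
  ⟨N'.map Equiv.ulift.symm.toEmbedding, by
    unfold dn
    rw [Finset.map_map]
    ext j
    simp⟩

theorem Ux_eq {p : ℕ} (a : Fin (p + 1) → ULift.{u} σ) :
    Ux (Ucov n R) a = Proj.basicOpen 𝒢 (fJ n R (dn (im a))) := by
  apply le_antisymm
  · intro y hy
    refine (ProjectiveSpectrum.mem_basicOpen 𝒢 _ y).2 ((fJ_not_mem_iff n R _ y).2 (fun j hj => ?_))
    obtain ⟨k, hk⟩ := (mem_im a _).1 (mem_dn.1 hj)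
    have h1 : y ∈ Ucov n R (a k) := Ux_le (Ucov n R) a k hy
    rw [hk] at h1
    exact (ProjectiveSpectrum.mem_basicOpen 𝒢 _ y).1 h1
  · refine le_Ux (Ucov n R) a _ (fun k y hy => ?_)
    have h1 := (fJ_not_mem_iff n R _ y).1 ((ProjectiveSpectrum.mem_basicOpen 𝒢 _ y).1 hy) (a k).down
      (mem_dn.2 (apply_mem_im a k))
    exact (ProjectiveSpectrum.mem_basicOpen 𝒢 _ y).2 h1

theorem dn_im_nonempty {p : ℕ} (a : Fin (p + 1) → ULift.{u} σ) : (dn (im a)).Nonempty := by
  unfold dn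
  rw [Finset.map_nonempty]
  exact im_nonempty a

variable {T : Type u} [CommRing T] [Algebra R T] (L : LModel n R d T)

/-- the transported projections. -/
noncomputable def πfun (N' : Finset σ) (s : Γ(GrTilde.tilde 𝒢 𝒢 d, W0 n R)) :
    Γ(GrTilde.tilde 𝒢 𝒢 d, W0 n R) :=
  (exists_β_eq L (L.piN_mem N' _ (β_mem L s))).choose

theorem β_πfun (N' : Finset σ) (s : Γ(GrTilde.tilde 𝒢 𝒢 d, W0 n R)) :
    β L (πfun L N' s) = L.piN N' (β L s) :=
  (exists_β_eq L (L.piN_mem N' _ (β_mem L s))).choose_spec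

/-- the transported projections as additive maps. -/
noncomputable def πHom (N' : Finset σ) :
    Γ(GrTilde.tilde 𝒢 𝒢 d, W0 n R) →+ Γ(GrTilde.tilde 𝒢 𝒢 d, W0 n R) :=
  AddMonoidHom.mk' (πfun L N') (by
    intro s s'
    apply βHom_injective L
    change β L _ = β L _
    rw [β_add, β_πfun, β_πfun, β_πfun, β_add, map_add])

theorem β_πHom (N' : Finset σ) (s : Γ(GrTilde.tilde 𝒢 𝒢 d, W0 n R)) :
    β L (πHom L N' s) = L.piN N' (β L s) := β_πfun L N' s

theorem β_sum {α : Type*} (t : Finset α) (F : α → Γ(GrTilde.tilde 𝒢 𝒢 d, W0 n R)) :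
    β L (∑ x ∈ t, F x) = ∑ x ∈ t, β L (F x) := map_sum (βHom L) F t

theorem β_zero : β L (0 : Γ(GrTilde.tilde 𝒢 𝒢 d, W0 n R)) = 0 := map_zero (βHom L)

variable (d) in
/-- `W0 ⟶ U_a`. -/
noncomputable def toUx {p : ℕ} (a : Fin (p + 1) → ULift.{u} σ) : W0 n R ⟶ Ux (Ucov n R) a :=
  Pi.lift fun k => homOfLE (W0_le (a k))

variable (d) in
/-- restriction `Γ(U_a, O(d)) → Γ(W0, O(d))`. -/
noncomputable def rhoW {p : ℕ} (a : Fin (p + 1) → ULift.{u} σ) :
    (GrTilde.tilde 𝒢 𝒢 d).presheaf.obj (op (Ux (Ucov n R) a)) →+ Γ(GrTilde.tilde 𝒢 𝒢 d, W0 n R) :=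
  ((GrTilde.tilde 𝒢 𝒢 d).presheaf.map (toUx a).op).hom

theorem rhoW_apply {p : ℕ} (a : Fin (p + 1) → ULift.{u} σ)
    (s : (GrTilde.tilde 𝒢 𝒢 d).presheaf.obj (op (Ux (Ucov n R) a))) :
    rhoW d a s = (GrTilde.tilde 𝒢 𝒢 d).presheaf.map (toUx a).op s := rfl

/-- **the sign-pattern decomposition** of `O(d)` on `P^n_R` for the standard cover, from a Laurent model. -/
noncomputable def signDecomp :
    SignDecomp (Ucov n R) (GrTilde.tilde 𝒢 𝒢 d).presheaf Γ(GrTilde.tilde 𝒢 𝒢 d, W0 n R) where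
  ρ p a := rhoW d a
  ρ_face p a i s := by
    change ((GrTilde.tilde 𝒢 𝒢 d).presheaf.map (face (Ucov n R) a i).op ≫
      (GrTilde.tilde 𝒢 𝒢 d).presheaf.map (toUx a).op) s = _
    rw [← Functor.map_comp, ← op_comp]
    congr 3
  π N := πHom L (dn N)
  sum_π g := by
    apply βHom_injective L
    change β L _ = β L g
    rw [β_sum]
    simp only [β_πHom]
    refine Eq.trans ?_ (L.sum_piN (β L g))
    exact Fintype.sum_equiv (Equiv.finsetCongr Equiv.ulift) _ _ (fun N => rfl)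
  π_π N N' g := by
    apply βHom_injective L
    change β L _ = β L _
    rw [β_πHom, β_πHom, L.piN_piN]
    by_cases h : N = N'
    · subst h
      rw [if_pos rfl, if_pos rfl, β_πHom]
    · rw [if_neg h, if_neg (fun h' => h (dn_inj.1 h')), β_zero]
  inj p a := by
    intro s₁ s₂ h
    have h0 : (GrTilde.tilde 𝒢 𝒢 d).presheaf.map (toUx a).op (s₁ - s₂) = 0 := by
      rw [map_sub, sub_eq_zero]
      exact h
    have := eq_zero_of_map_eq_zero (dn (im a)) (dn_im_nonempty a) _ (Ux_eq a)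
      (toUx a) (s₁ - s₂) h0
    exact sub_eq_zero.1 this
  range_iff p a g := by
    have key : (∀ N : Finset (ULift.{u} σ), ¬ N ⊆ im a → πHom L (dn N) g = 0) ↔
        ∀ N' : Finset σ, ¬ N' ⊆ dn (im a) → L.piN N' (β L g) = 0 := by
      constructor
      · intro H N' hN'
        obtain ⟨N, rfl⟩ := exists_dn_eq N'
        rw [← β_πHom, H N (fun h => hN' (dn_subset.2 h)), β_zero]
      · intro H N hN
        apply βHom_injective L
        change β L _ = β L 0
        rw [β_πHom, β_zero]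
        exact H _ (fun h => hN (dn_subset.1 h))
    rw [key, ← L.mem_LJ_iff (dn (im a)) (dn_im_nonempty a) (β L g) (β_mem L g)]
    constructor
    · rintro ⟨s, rfl⟩
      exact exists_β_map_mul_eq L (dn (im a)) (dn_im_nonempty a) _ (Ux_eq a)
        (toUx a) s
    · rintro ⟨k, i, a0, ha0, hi, hg⟩
      exact exists_map_eq L (dn (im a)) _ (Ux_eq a) (toUx a) g ha0 hi hg

end Decomp

end Groth.Agent.R2.H79.PnBridge
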