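import Mathlib
import Groth.Agent.R2.H79PnBridge
import Groth.Agent.R2.H79CechNat
import Groth.Agent.R2.H79TwistCalc

/-!
# Cohomology of `O(d)` on `P^n_R` from a Laurent model (helper79)

Assembly: `LModel` (pure algebra) + `H79PnBridge.signDecomp` + helper82's `CechModel` + `H79CechNat`
(natural Čech comparison) ⟹ vanishing (S0844, S0023), top cohomology `R`-linearly (S0845) and finiteness of all
`H^q(P^n_R, O(d))`.
-/

set_option autoImplicit false
set_option linter.unusedSectionVars false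
set_option linter.unusedVariables false
universe u

open CategoryTheory CategoryTheory.Limits AlgebraicGeometry TopologicalSpace Opposite
  HomogeneousLocalization MvPolynomial

namespace Groth.Agent.R2.H79.PnCoh

open Groth.Agent.Lib.Helper27GrTildeSect Groth.Agent.Lib.Helper27ProjGamma
  Groth.Agent.Lib.Helper27PnSections Groth.Agent.R2.H79.PnBridge
  Groth.Agent.Lib.Helper16.CechLow Groth.Agent.Lib.Helper16.CechH1 Groth.Agent.R2.H82.CechComb
  Groth.Agent.R2.H82.CechModel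

variable (n : ℕ) (R : Type u) [CommRing R]

local notation "𝒢" => CohB1.polyGrading n R
local notation "σ" => Fin (n + 1)
local notation "S" => MvPolynomial (Fin (n + 1)) R

/-! ### the standard cover -/

theorem iSup_Ucov : ⨆ i, Ucov n R i = ⊤ := by
  rw [eq_top_iff]
  intro y _
  obtain ⟨i, hi⟩ := exists_X_not_mem n R y
  exact Opens.mem_iSup.2 ⟨ULift.up i, (ProjectiveSpectrum.mem_basicOpen 𝒢 _ y).2 hi⟩

theorem biInf_Ucov (s : Finset (ULift.{u} σ)) :
    (⨅ i ∈ s, Ucov n R i) = Proj.basicOpen 𝒢 (fJ n R (dn s)) := by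
  apply le_antisymm
  · intro y hy
    refine (ProjectiveSpectrum.mem_basicOpen 𝒢 _ y).2 ((fJ_not_mem_iff n R _ y).2 (fun j hj => ?_))
    have h1 : y ∈ Ucov n R (ULift.up j) := (iInf₂_le (ULift.up j) (mem_dn.1 hj) :
      (⨅ i ∈ s, Ucov n R i) ≤ Ucov n R (ULift.up j)) hy
    exact (ProjectiveSpectrum.mem_basicOpen 𝒢 _ y).1 h1
  · refine le_iInf₂ (fun i hi y hy => ?_)
    have h1 := (fJ_not_mem_iff n R _ y).1 ((ProjectiveSpectrum.mem_basicOpen 𝒢 _ y).1 hy) i.down
      (mem_dn.2 hi)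
    exact (ProjectiveSpectrum.mem_basicOpen 𝒢 _ y).2 h1

theorem isAffineOpen_biInf_Ucov (s : Finset (ULift.{u} σ)) (hs : s.Nonempty) :
    IsAffineOpen (⨅ i ∈ s, Ucov n R i) := by
  rw [biInf_Ucov]
  have hne : (dn (n := n) s).Nonempty := by
    unfold dn
    rwa [Finset.map_nonempty]
  exact Proj.isAffineOpen_basicOpen 𝒢 _ (fJ_mem n R (dn s)) (Finset.card_pos.2 hne)

/-! ### the action of `R` on sections over `W0` -/

variable {n R} (d : ℤ)

/-- multiplication by `r ∈ R` on sections of `O(d)` over `W0`. -/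
noncomputable def rAct (r : R) (g : Γ(GrTilde.tilde 𝒢 𝒢 d, W0 n R)) : Γ(GrTilde.tilde 𝒢 𝒢 d, W0 n R) :=
  ((Proj 𝒢).presheaf.map (homOfLE (le_top : W0 n R ≤ ⊤)).op (constFun 𝒢 r)) • g

theorem isRepOn_rAct (r : R) {g : Γ(GrTilde.tilde 𝒢 𝒢 d, W0 n R)} {a b : S} (h : IsRepOn g a b) :
    IsRepOn (rAct d r g) (C r * a) b := by
  intro y hy
  obtain ⟨hby, e⟩ := h y hy
  refine ⟨hby, ?_⟩
  have hfy : fJ n R Finset.univ ∉ y.asHomogeneousIdeal := (mem_W0_iff y).1 hy
  unfold rAct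
  rw [secVal_smul', funVal_map, funVal_constFun_val 𝒢 (fJ_mem n R Finset.univ)
    (Finset.card_pos.2 Finset.univ_nonempty) r y hfy, e, Localization.mk_mul, one_mul]
  rfl

variable {d}
variable {T : Type u} [CommRing T] [Algebra R T] (L : LModel n R d T)

theorem β_rAct (r : R) (g : Γ(GrTilde.tilde 𝒢 𝒢 d, W0 n R)) : β L (rAct d r g) = r • β L g := by
  obtain ⟨k, i, a, ha, hi, h⟩ := exists_isRepOn g
  have hb := fJ_pow_mem n R Finset.univ k
  have hij : (i : ℤ) = (k * (Finset.univ : Finset σ).card : ℕ) + d := by rw [hi]; push_cast; ring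
  have e1 := β_mul_eq L g ha hb hij h
  have hCa : C r * a ∈ CohB1.polyGrading n R i := by
    have := Submodule.smul_mem (CohB1.polyGrading n R i) r ha
    rwa [MvPolynomial.smul_eq_C_mul] at this
  refine β_eq_of_mul_eq L _ hCa hb hij (isRepOn_rAct d r h)
    (by rw [map_pow]; exact L.isUnit_fJ_pow _ k) ?_
  rw [smul_mul_assoc, e1, map_mul, ← MvPolynomial.algebraMap_eq, AlgHom.commutes, Algebra.smul_def]

theorem πHom_rAct (N' : Finset σ) (r : R) (g : Γ(GrTilde.tilde 𝒢 𝒢 d, W0 n R)) :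
    πHom L N' (rAct d r g) = rAct d r (πHom L N' g) := by
  apply βHom_injective L
  change β L _ = β L _
  rw [β_πHom, β_rAct, β_rAct, β_πHom, map_smul]

/-! ### Čech cohomology of the standard cover -/

section Cech

variable (n) in
theorem card_idx : Fintype.card (ULift.{u} σ) = n + 1 := by
  rw [Fintype.card_ulift, Fintype.card_fin]

theorem dn_empty : dn (n := n) (∅ : Finset (ULift.{u} σ)) = ∅ := rfl

theorem dn_univ : dn (n := n) (Finset.univ : Finset (ULift.{u} σ)) = Finset.univ := by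
  ext j
  simp [mem_dn]

/-- the enumeration of the index set. -/
def a₀ : Fin (n + 1) → ULift.{u} σ := fun k => ULift.up k

theorem a₀_bijective : Function.Bijective (a₀ (n := n)) :=
  ⟨fun _ _ h => congrArg ULift.down h, fun i => ⟨i.down, rfl⟩⟩

include L

theorem π_empty_eq_zero (hd : d < 0) (g : Γ(GrTilde.tilde 𝒢 𝒢 d, W0 n R)) :
    (signDecomp L).π ∅ g = 0 := by
  apply βHom_injective L
  change β L (πHom L (dn ∅) g) = β L 0
  rw [β_πHom, β_zero, dn_empty]
  exact L.piN_empty hd _ (β_mem L g)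

theorem π_univ_eq_zero (hd : -((n : ℤ) + 1) < d) (g : Γ(GrTilde.tilde 𝒢 𝒢 d, W0 n R)) :
    (signDecomp L).π Finset.univ g = 0 := by
  apply βHom_injective L
  change β L (πHom L (dn Finset.univ) g) = β L 0
  rw [β_πHom, β_zero, dn_univ]
  exact L.piN_univ hd _ (β_mem L g)

/-- vanishing of the Čech cohomology of `O(d)` outside the two classical cases. -/
theorem isZero_cech (q : ℕ) (h₀ : ¬ (q = 0 ∧ 0 ≤ d)) (hn : ¬ (q = n ∧ d ≤ -((n : ℤ) + 1))) :
    IsZero ((CK (Ucov n R) (GrTilde.tilde 𝒢 𝒢 d).presheaf).homology q) := by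
  cases q with
  | zero =>
    have hd : d < 0 := by
      by_contra h
      exact h₀ ⟨rfl, not_lt.1 h⟩
    have hn0 : n ≠ 0 := by
      rintro rfl
      exact hn ⟨rfl, by push_cast; omega⟩
    refine (signDecomp L).isZero_homology_zero ?_ (π_empty_eq_zero L hd)
    rw [card_idx]
    omega
  | succ q' =>
    by_cases hq : q' + 1 = n
    · have hd : -((n : ℤ) + 1) < d := by
        by_contra h
        exact hn ⟨hq, not_lt.1 h⟩
      subst hq
      obtain ⟨e, -⟩ := (signDecomp L).exists_top_addEquiv (card_idx (q' + 1)) a₀ a₀_bijective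
        (fun h => absurd h (Nat.succ_ne_zero q'))
      have hsub : Subsingleton ((signDecomp L).π Finset.univ).range := by
        refine ⟨fun x y => Subtype.ext ?_⟩
        obtain ⟨_, ⟨gx, rfl⟩⟩ := x
        obtain ⟨_, ⟨gy, rfl⟩⟩ := y
        exact (π_univ_eq_zero L hd gx).trans (π_univ_eq_zero L hd gy).symm
      have : Subsingleton ((CK (Ucov (q' + 1) R) (GrTilde.tilde (CohB1.polyGrading (q' + 1) R)
          (CohB1.polyGrading (q' + 1) R) d).presheaf).homology (q' + 1)) :=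
        e.toEquiv.subsingleton
      exact AddCommGrpCat.isZero_of_subsingleton _
    · refine (signDecomp L).isZero_homology_succ ?_
      rw [card_idx]
      omega

end Cech

/-! ### sheaf cohomology -/

section HH

open Groth.Agent.R2.H79.CechNat Groth.Agent.R2.H79.TwistCalc

variable (n R d) in
theorem twistProjSpace_eq_tilde :
    Twist.twistProjSpace n R d = GrTilde.tilde 𝒢 𝒢 d := by
  rw [twistProjSpace_eq, twist_eq_tilde]

variable (n R) in
/-- the structure morphism, for `Proj` of the polynomial grading (the frozen instance is attached to the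
name `CohB1.ProjSpace`). -/
noncomputable local instance overProj : (Proj 𝒢).Over (Spec (CommRingCat.of R)) :=
  ⟨CohB1.ProjSpace.toSpec n R⟩

variable (n R d) in
theorem isQCoh_tilde' : Coh.IsQCoh (GrTilde.tilde 𝒢 𝒢 d) :=
  Groth.Agent.Lib.Helper27GrTildeSect.isQuasicoherent_tilde 𝒢 𝒢 d

omit L in
/-- the frozen `R`-action on sections over `W0` is `rAct`. -/
theorem smulAb_app_W0 (r : R) (g : Γ(GrTilde.tilde 𝒢 𝒢 d, W0 n R)) :
    (Coh.smulAb (GrTilde.tilde 𝒢 𝒢 d)
      (Coh.toGlobal ((Proj 𝒢) ↘ Spec (CommRingCat.of R)) r)).hom.app (op (W0 n R)) g =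
      rAct d r g := rfl

include L

theorem subsingleton_HH_tilde (q : ℕ) (h₀ : ¬ (q = 0 ∧ 0 ≤ d))
    (hn : ¬ (q = n ∧ d ≤ -((n : ℤ) + 1))) :
    Subsingleton (Coh.HH (Proj 𝒢) (GrTilde.tilde 𝒢 𝒢 d) q) := by
  have := isQCoh_tilde' n R d
  obtain ⟨Φ, -⟩ := exists_cech_equiv_natural (Proj 𝒢) (Ucov n R) (iSup_Ucov n R)
    (isAffineOpen_biInf_Ucov n R) (GrTilde.tilde 𝒢 𝒢 d) q
  have hz := isZero_cech L q h₀ hn
  have : Subsingleton ↑(CohB1.cechH (Ucov n R) (GrTilde.tilde 𝒢 𝒢 d) q) :=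
    AddCommGrpCat.subsingleton_of_isZero hz
  exact Φ.symm.toEquiv.subsingleton

/-- **S0844 from a Laurent model**. -/
theorem subsingleton_HH (q : ℕ) (h₀ : ¬ (q = 0 ∧ 0 ≤ d)) (hn : ¬ (q = n ∧ d ≤ -((n : ℤ) + 1))) :
    Subsingleton (Coh.HH (CohB1.ProjSpace n R) (Twist.twistProjSpace n R d) q) := by
  rw [twistProjSpace_eq_tilde]
  exact subsingleton_HH_tilde L q h₀ hn

/-- the target of the top cohomology: all-negative Laurent monomials of degree `d`. -/
abbrev topMod : Submodule R T := LinearMap.range (L.piN Finset.univ) ⊓ L.Tdeg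

theorem β_π_univ_mem (g : Γ(GrTilde.tilde 𝒢 𝒢 d, W0 n R)) :
    β L ((signDecomp L).π Finset.univ g) ∈ topMod L := by
  change β L (πHom L (dn Finset.univ) g) ∈ _
  rw [β_πHom, dn_univ]
  exact ⟨⟨_, rfl⟩, L.piN_mem _ _ (β_mem L g)⟩

/-- `β` on the range of `π univ`. -/
noncomputable def Ψ : ((signDecomp L).π Finset.univ).range →+ topMod L where
  toFun g := ⟨β L g.1, by
    obtain ⟨_, ⟨g', rfl⟩⟩ := g
    exact β_π_univ_mem L g'⟩
  map_zero' := Subtype.ext (β_zero L)
  map_add' g g' := Subtype.ext (β_add L g.1 g'.1)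

theorem Ψ_bijective : Function.Bijective (Ψ L) := by
  constructor
  · intro g g' h
    exact Subtype.ext (βHom_injective L (congrArg Subtype.val h))
  · rintro ⟨t, ⟨t', rfl⟩, ht⟩
    obtain ⟨s, hs⟩ := exists_β_eq L ht
    refine ⟨⟨(signDecomp L).π Finset.univ s, ⟨s, rfl⟩⟩, Subtype.ext ?_⟩
    change β L (πHom L (dn Finset.univ) s) = _
    rw [β_πHom, dn_univ, hs, L.piN_piN, if_pos rfl]

set_option maxHeartbeats 4000000 in
/-- the `R`-action on the top Čech cohomology, computed in the model. -/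
theorem Ψ_e_cechMap
    (e : ↑((CK (Ucov n R) (GrTilde.tilde 𝒢 𝒢 d).presheaf).homology n) ≃+
      ↥((signDecomp L).π Finset.univ).range)
    (he : ∀ z, e ((CK (Ucov n R) (GrTilde.tilde 𝒢 𝒢 d).presheaf).homologyπ n z) =
      (signDecomp L).topEval a₀ ((CK (Ucov n R) (GrTilde.tilde 𝒢 𝒢 d).presheaf).iCycles n z))
    (r : R) (x : ↑(CohB1.cechH (Ucov n R) (GrTilde.tilde 𝒢 𝒢 d) n)) :
    Ψ L (e (cechMap (Ucov n R) (GrTilde.tilde 𝒢 𝒢 d)
      (Coh.smulAb (GrTilde.tilde 𝒢 𝒢 d) (Coh.toGlobal ((Proj 𝒢) ↘ Spec (CommRingCat.of R)) r)) n x)) =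
      r • Ψ L (e x) := by
  have hsurj : Function.Surjective
      ((CK (Ucov n R) (GrTilde.tilde 𝒢 𝒢 d).presheaf).homologyπ n) :=
    (AddCommGrpCat.epi_iff_surjective _).1 inferInstance
  obtain ⟨z, rfl⟩ := hsurj x
  set ψ := Coh.smulAb (GrTilde.tilde 𝒢 𝒢 d)
    (Coh.toGlobal ((Proj 𝒢) ↘ Spec (CommRingCat.of R)) r) with hψ
  set c0 := ((CK (Ucov n R) (GrTilde.tilde 𝒢 𝒢 d).presheaf).iCycles n) z with hc0
  -- the image cocycle
  have h1 := cechMap_homologyπ (Ucov n R) (GrTilde.tilde 𝒢 𝒢 d) ψ n z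
  have h2 := he (HomologicalComplex.cyclesMap ((cechComplexFunctor (Ucov n R)).map ψ.hom) n z)
  have h3 := iCycles_cyclesMap (Ucov n R) (GrTilde.tilde 𝒢 𝒢 d) ψ n z
  have h4 := pr_map_apply (Ucov n R) (GrTilde.tilde 𝒢 𝒢 d) ψ n a₀ c0
  have hnat : rhoW d a₀
      (ψ.hom.app (op (Ux (Ucov n R) a₀)) (pr (Ucov n R) (GrTilde.tilde 𝒢 𝒢 d).presheaf n a₀ c0)) =
      ψ.hom.app (op (W0 n R)) (rhoW d a₀
        (pr (Ucov n R) (GrTilde.tilde 𝒢 𝒢 d).presheaf n a₀ c0)) :=
    ConcreteCategory.congr_hom (ψ.hom.naturality (toUx a₀).op).symm _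
  -- value of `hat` on the image cochain
  have h5 : (signDecomp L).hat
      (((cechComplexFunctor (Ucov n R)).map ψ.hom).f n c0) a₀ =
      rAct d r ((signDecomp L).hat c0 a₀) := by
    refine (congrArg (rhoW d a₀) h4).trans ?_
    refine hnat.trans ?_
    exact smulAb_app_W0 r _
  have h6 : β L ((signDecomp L).π Finset.univ
      ((signDecomp L).hat
        (((cechComplexFunctor (Ucov n R)).map ψ.hom).f n c0) a₀)) =
      r • β L ((signDecomp L).π Finset.univ
        ((signDecomp L).hat c0 a₀)) := by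
    rw [h5]
    change β L (πHom L (dn Finset.univ) (rAct d r _)) = r • β L (πHom L (dn Finset.univ) _)
    rw [πHom_rAct, β_rAct]
  refine (congrArg (fun t => Ψ L (e t)) h1).trans ?_
  refine (congrArg (Ψ L) h2).trans ?_
  refine Eq.trans ?_ (congrArg (fun t => r • Ψ L t) (he z).symm)
  apply Subtype.ext
  refine Eq.trans ?_ h6
  exact congrArg (fun t => β L ((signDecomp L).π Finset.univ
    ((signDecomp L).hat t a₀))) h3

set_option maxHeartbeats 4000000 in
/-- top cohomology from a Laurent model (on `Proj` of the polynomial grading): additive equivalence compatible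
with the `R`-actions. -/
theorem exists_top_addEquiv_smul_tilde (h0 : n = 0 → d < 0) :
    ∃ Θ : Coh.HH (Proj 𝒢) (GrTilde.tilde 𝒢 𝒢 d) n ≃+ topMod L,
      ∀ (r : R) (y : Coh.HH (Proj 𝒢) (GrTilde.tilde 𝒢 𝒢 d) n), Θ (r • y) = r • Θ y := by
  have := isQCoh_tilde' n R d
  obtain ⟨Φ, hΦ⟩ := exists_cech_equiv_smul R (Proj 𝒢) (Ucov n R) (iSup_Ucov n R)
    (isAffineOpen_biInf_Ucov n R) (GrTilde.tilde 𝒢 𝒢 d) n
  obtain ⟨e, he⟩ := (signDecomp L).exists_top_addEquiv (card_idx n) a₀ a₀_bijective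
    (fun hn => π_empty_eq_zero L (h0 hn))
  refine ⟨(Φ.symm.trans e).trans (AddEquiv.ofBijective (Ψ L) (Ψ_bijective L)), ?_⟩
  intro r y
  obtain ⟨x, rfl⟩ := Φ.surjective y
  rw [← hΦ r x]
  change Ψ L (e (Φ.symm (Φ _))) = r • Ψ L (e (Φ.symm (Φ x)))
  rw [AddEquiv.symm_apply_apply, AddEquiv.symm_apply_apply]
  exact Ψ_e_cechMap L e he r x

theorem exists_top_addEquiv_smul (h0 : n = 0 → d < 0) :
    ∃ Θ : Coh.HH (CohB1.ProjSpace n R) (Twist.twistProjSpace n R d) n ≃+ topMod L,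
      ∀ (r : R) (y : Coh.HH (CohB1.ProjSpace n R) (Twist.twistProjSpace n R d) n),
        Θ (r • y) = r • Θ y := by
  rw [twistProjSpace_eq_tilde]
  exact exists_top_addEquiv_smul_tilde L h0

/-- **top cohomology from a Laurent model**, `R`-linearly. -/
theorem nonempty_top_linearEquiv (h0 : n = 0 → d < 0) :
    Nonempty (Coh.HH (CohB1.ProjSpace n R) (Twist.twistProjSpace n R d) n ≃ₗ[R] topMod L) := by
  obtain ⟨Θ, hΘ⟩ := exists_top_addEquiv_smul L h0
  exact ⟨{ Θ with map_smul' := hΘ }⟩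

/-- **finiteness of all `H^q(P^n_R, O(d))` from a Laurent model** whose all-negative part is finite. -/
theorem finite_HH (hF : Module.Finite R (topMod L)) (q : ℕ) :
    Module.Finite R (Coh.HH (CohB1.ProjSpace n R) (Twist.twistProjSpace n R d) q) := by
  by_cases h₀ : q = 0 ∧ 0 ≤ d
  · obtain ⟨rfl, hd⟩ := h₀
    obtain ⟨d', rfl⟩ := Int.eq_ofNat_of_zero_le hd
    obtain ⟨e⟩ := Groth.Agent.Lib.Helper27PnSections.nonempty_linearEquiv n R d'
    have : Module.Finite R ↥(MvPolynomial.homogeneousSubmodule (Fin (n + 1)) R d') :=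
      Module.Finite.iff_fg.2 (MvPolynomial.homogeneousSubmodule_fg (Fin (n + 1)) R d')
    exact Module.Finite.equiv e.symm
  by_cases hn : q = n ∧ d ≤ -((n : ℤ) + 1)
  · obtain ⟨rfl, hd⟩ := hn
    obtain ⟨e⟩ := nonempty_top_linearEquiv L (fun _ => by omega)
    exact Module.Finite.equiv e.symm
  · have := subsingleton_HH L q h₀ hn
    infer_instance

end HH

end Groth.Agent.R2.H79.PnCoh
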