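import Mathlib
import Groth.Agent.R2.H58PnLaurent
import Groth.Agent.R2.H79PnCoh

/-!
# The Laurent model of helper58 as an `LModel`; cohomology of `O(d)` on `P^n_R` (helper79)

Glue: `R2/H58PnLaurent` (pure algebra) is an instance of `H79PnBridge.LModel`; consequences via `H79PnCoh`:
the `R`-linear computation of the top cohomology (S0845) and finiteness of all `H^q(P^n_R, O(d))`.
-/

set_option autoImplicit false
set_option linter.unusedSectionVars false
set_option linter.unusedVariables false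
universe u

open MvPolynomial

namespace Groth.Agent.R2.H79.PnLaurentGlue

open Groth.Agent.R2.H58.PnLaurent Groth.Agent.R2.H79.PnBridge Groth.Agent.R2.H79.PnCoh

variable (n : ℕ) (R : Type u) [CommRing R] (d : ℤ)

local notation "σ" => Fin (n + 1)
local notation "S" => MvPolynomial (Fin (n + 1)) R

theorem fJ_eq_xJ (J : Finset σ) : fJ n R J = (xJ J : S) := rfl

theorem incl_fJ_pow (J : Finset σ) (k : ℕ) :
    (incl (fJ n R J) : T σ R) ^ k = mono (k • ind J) := by
  rw [fJ_eq_xJ, ← map_pow, incl_xJ_pow]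

/-- membership in `LJ J d` in the inverse-free form. -/
theorem mem_LJ_iff_exists (J : Finset σ) (hJ : J.Nonempty) (g : T σ R) :
    g ∈ (LJ J d : Submodule R (T σ R)) ↔
      ∃ (k i : ℕ) (a : S), a ∈ CohB1.polyGrading n R i ∧ (i : ℤ) = k * J.card + d ∧
        g * (incl (fJ n R J) : T σ R) ^ k = incl a := by
  constructor
  · intro hg
    obtain ⟨k₀, hk₀⟩ := exists_eq_of_mem_LJ hJ hg
    obtain ⟨i, a, hi, ha, hga⟩ := hk₀ k₀ le_rfl
    exact ⟨k₀, i, a, ha, hi, by rw [incl_fJ_pow]; exact hga⟩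
  · rintro ⟨k, i, a, ha, hi, hga⟩
    rw [incl_fJ_pow] at hga
    exact mem_LJ_of_eq hi ha hga

/-- **helper58's Laurent polynomial ring is a Laurent model.** -/
noncomputable def laurentModel : LModel n R d (T σ R) where
  incl := incl
  incl_inj := incl_injective
  isUnit_X i := by
    rw [incl_X]
    exact isUnit_mono _
  Tdeg := Tdeg d
  mem_Tdeg_iff g := by
    rw [← LJ_univ, mem_LJ_iff_exists n R d Finset.univ Finset.univ_nonempty]
  piN := piN
  sum_piN := sum_piN
  piN_piN := piN_piN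
  piN_mem N g hg := piN_mem_Tdeg N hg
  mem_LJ_iff J hJ g hg := by
    rw [← mem_LJ_iff_exists n R d J hJ, mem_LJ_iff]
    exact ⟨fun h => h.2, fun h => ⟨hg, h⟩⟩
  piN_empty hd g hg := by
    have h1 : piN ∅ g ∈ (Lpat ∅ d : Submodule R (T σ R)) := piN_mem_Lpat ∅ hg
    have h2 : (Lpat ∅ d : Submodule R (T σ R)) ≤ LJ ∅ d :=
      supp_mono (fun m hm => ⟨hm.1, hm.2.le⟩)
    have h3 := h2 h1
    rw [LJ_empty_eq_bot hd] at h3
    exact (Submodule.mem_bot R).1 h3
  piN_univ hd g hg := by
    have h1 : piN Finset.univ g ∈ (Lpat Finset.univ d : Submodule R (T σ R)) :=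
      piN_mem_Lpat Finset.univ hg
    rw [Lpat_univ_eq_bot (by rw [Fintype.card_fin]; push_cast; exact hd)] at h1
    exact (Submodule.mem_bot R).1 h1

/-- the all-negative part of the model is `Lpat univ d`. -/
theorem topMod_eq : topMod (laurentModel n R d) = (Lpat Finset.univ d : Submodule R (T σ R)) := by
  ext g
  change (g ∈ LinearMap.range (piN Finset.univ) ∧ g ∈ Tdeg d) ↔ _
  rw [mem_Lpat_iff]
  constructor
  · rintro ⟨⟨g', rfl⟩, hg⟩
    exact ⟨hg, by rw [piN_piN, if_pos rfl]⟩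
  · rintro ⟨hg, h⟩
    exact ⟨⟨g, h⟩, hg⟩

/-- **Finiteness of the cohomology of `O(d)` on `P^n_R`** (any ring `R`, all `q`, all `d`). -/
theorem finite_HH_twist (q : ℕ) :
    Module.Finite R (Coh.HH (CohB1.ProjSpace n R) (Twist.twistProjSpace n R d) q) := by
  refine finite_HH (laurentModel n R d) ?_ q
  rw [topMod_eq]
  exact finite_Lpat_univ d

/-- vanishing (S0844), again, through this route. -/
theorem subsingleton_HH_twist (q : ℕ) (h₀ : ¬ (q = 0 ∧ 0 ≤ d))
    (hn : ¬ (q = n ∧ d ≤ -((n : ℤ) + 1))) :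
    Subsingleton (Coh.HH (CohB1.ProjSpace n R) (Twist.twistProjSpace n R d) q) :=
  subsingleton_HH (laurentModel n R d) q h₀ hn

/-- **Top cohomology of negative twists** (S0845). -/
theorem nonempty_top_linearEquiv_homogeneous (k : ℕ) :
    Nonempty (Coh.HH (CohB1.ProjSpace n R) (Twist.twistProjSpace n R (-((n : ℤ) + 1 + k))) n ≃ₗ[R]
      ↥(MvPolynomial.homogeneousSubmodule (Fin (n + 1)) R k)) := by
  obtain ⟨e⟩ := nonempty_top_linearEquiv (laurentModel n R (-((n : ℤ) + 1 + k)))
    (fun _ => by omega)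
  have h1 : topMod (laurentModel n R (-((n : ℤ) + 1 + k))) =
      (Lpat Finset.univ (-((Fintype.card σ : ℤ) + k)) : Submodule R (T σ R)) := by
    rw [topMod_eq, Fintype.card_fin]
    push_cast
    rfl
  exact ⟨e.trans ((LinearEquiv.ofEq _ _ h1).trans (lpatUnivEquiv k).symm)⟩

end Groth.Agent.R2.H79.PnLaurentGlue
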