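import Mathlib
import Groth.Agent.R2.H58SerreFinPn
import Groth.Agent.R2.H62CohBridge
import Groth.Agent.R2.H62CohSigma
import Groth.Agent.R2.H79TwistCalc2

/-!
# S0038 against the computation of `H^q(P^n_R, O(d))` (lead; coh-core assembly)

`projSpace_finite_of_twists`: if all `H^q(P^n_R, O(d))` are finite `R`-modules (package A), then
`H^i(P^n_R, M)` is a finite `R`-module for every coherent `M` (`R` Noetherian).  Assembly of
helper58's descending induction (`H58SerreFinPn.projSpace_finite_of`), helper62's long exact sequence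
(`H62CohBridge.lesAt`) and finite coproducts (`H62CohSigma.HHsigmaEquivA`), and helper79's Serre
generation (`H79TwistCalc2.exists_epi_coprod_twistProjSpace`).
-/

set_option autoImplicit false
universe u

open CategoryTheory CategoryTheory.Limits AlgebraicGeometry

namespace Groth.Agent.R2.Lead.PnFinite

open Groth.Agent.R2.H58.SerreFin Groth.Agent.R2.H62.CohLES Groth.Agent.R2.H79.TwistCalc

/-- **S0038 against package A.** -/
theorem projSpace_finite_of_twists (n : ℕ) (R : Type u) [CommRing R] [IsNoetherianRing R]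
    (hA : ∀ (d : ℤ) (q : ℕ),
      Module.Finite R (Coh.HH (CohB1.ProjSpace n R) (Twist.twistProjSpace n R d) q))
    (M : (CohB1.ProjSpace n R).Modules) (hM : Coh.IsCoh M) (i : ℕ) :
    Module.Finite R (Coh.HH (CohB1.ProjSpace n R) M i) := by
  refine projSpace_finite_of n R (fun S hS q => lesAt R hS q) ?_ M hM i
  intro M hM
  obtain ⟨m₀, h⟩ := exists_epi_coprod_twistProjSpace n R M hM
  obtain ⟨r, p, hp, hE⟩ := h m₀ le_rfl
  refine ⟨_, p, hp, hE, fun q => ?_⟩
  haveI : ∀ _ : Fin r, Module.Finite R
      (Coh.HH (CohB1.ProjSpace n R) (Twist.twistProjSpace n R (-(m₀ : ℤ))) q) := fun _ => hA _ q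
  exact Module.Finite.equiv
    (HHsigmaEquivA (fun _ : Fin r => Twist.twistProjSpace n R (-(m₀ : ℤ))) R q)

end Groth.Agent.R2.Lead.PnFinite
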