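import Mathlib
import Groth.Prelude.Def_Coh
import Groth.Prelude.Def_CohB1
import Groth.Agent.R2.H62ECore
import Groth.Agent.R2.H62ProjFin
import Groth.Agent.R2.H62RelSerre
import Groth.Agent.R2.H12Dev3C
import Groth.Agent.R2.H70EdgeLin
import Groth.Agent.R2.H79PnLaurentGlue
import Groth.Agent.R2.LeadPnFinite

/-!
# Finiteness of coherent cohomology of proper schemes, modulo steps A, C, D of relSerre (helper62)

Final assembly of `S0002`: strong dévissage (helper12) + degenerate Leray (helper70) + finiteness on `P^n`
(helper79, helper58, helper82, lead) + Chow (lead) + relSerre (helper55 B; A, C, D as hypotheses here).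
-/

set_option autoImplicit false
set_option linter.style.haveILetI false
universe u

open CategoryTheory CategoryTheory.Limits AlgebraicGeometry

namespace Groth.Agent.R2.H62.ECore

open Groth.Agent.R2.H62.RelSerreSpec

/-- finiteness on `P^n_B` (= S0038) -/
theorem hPn (B : Type u) [CommRing B] [IsNoetherianRing B] (n : ℕ)
    (M : (CohB1.ProjSpace n B).Modules) (hM : Coh.IsCoh M) (i : ℕ) :
    Module.Finite B (Coh.HH (CohB1.ProjSpace n B) M i) :=
  Groth.Agent.R2.Lead.PnFinite.projSpace_finite_of_twists n B
    (fun d q => Groth.Agent.R2.H79.PnLaurentGlue.finite_HH_twist n B d q) M hM i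

/-- finiteness for closed subschemes of `P^n_B` -/
theorem projFinite (B : Type u) [CommRing B] [IsNoetherianRing B] : ProjFinite B :=
  projFinite_of B (Groth.Agent.R2.H70.Edge.lerayLinear B) (fun n M hM i => hPn B n M hM i)

/-- relative Serre vanishing + coherence, from steps A, C, D -/
theorem relSerre_of_steps (hA : StepA.{u}) (hC : StepC.{u}) (hD : StepD.{u}) : RelSerre.{u} :=
  relSerre_of hA hC hD (fun B _ _ => projFinite B)

/-- **S0002 modulo steps A, C, D.** -/
theorem s0002_of (hA : StepA.{u}) (hC : StepC.{u}) (hD : StepD.{u})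
    (A : Type u) [CommRing A] [IsNoetherianRing A] (X : Scheme.{u})
    [X.Over (Spec (CommRingCat.of A))] [IsProper (X ↘ Spec (CommRingCat.of A))]
    (M : X.Modules) (hM : Coh.IsCoh M) (n : ℕ) : Module.Finite A (Coh.HH X M n) := by
  haveI : IsNoetherian X := by
    haveI : IsLocallyNoetherian X :=
      LocallyOfFiniteType.isLocallyNoetherian (X ↘ Spec (CommRingCat.of A))
    haveI : CompactSpace X :=
      QuasiCompact.compactSpace_of_compactSpace (X ↘ Spec (CommRingCat.of A))
    exact ⟨⟩
  exact finite_of_proper A X (Groth.Agent.R2.H12.Dev.strongDevissage X)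
    (Groth.Agent.R2.H70.Edge.lerayLinear A) (projFinite A) (relSerre_of_steps hA hC hD) M hM n

end Groth.Agent.R2.H62.ECore
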