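import Mathlib
import Groth.Agent.Lib.Helper16Restr
import Groth.Agent.Lib.Helper23PushAcyclic
import Groth.Agent.Lib.Helper23AffOpen2
import Groth.Agent.Lib.Helper23AffVanish7
import Groth.Agent.R2.H1CohLoc
import Groth.Agent.Lib.Helper23QCohLocal
import Groth.Agent.Lib.Helper23FinType2

/-!
# Relative Serre vanishing, steps C and D (helper64, coh-core E4/E5 insurance)

* `nonempty_HE_img_equiv`: change of ambient space for `H^n(U, F)`, `U ⊆ W ⊆ X` opens.
-/

set_option autoImplicit false
set_option linter.style.haveILetI false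
universe u

open CategoryTheory CategoryTheory.Limits Opposite TopologicalSpace Abelian

namespace Groth.Agent.R2.H64.RelSerreCD

open Groth.Agent.Lib.Helper16.Restr Groth.Agent.Lib.Helper16.ClosedEmb
  Groth.Agent.Lib.Helper16.SectSupp

section Top

variable {X : TopCat.{u}} (W : Opens X) (U : Opens (TopCat.of W))

/-- the comparison map `ℤ_U ⟶ (ℤ_{img U})|_W` -/
noncomputable def wImg :
    CohCx.freeSheaf (J (TopCat.of W)) U ⟶
      (CohTop.restrFunctor W).obj (CohCx.freeSheaf (J X) (img W U)) :=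
  CohFree.ofSect (J (TopCat.of W)) U
    ((CohTop.restrFunctor W).obj (CohCx.freeSheaf (J X) (img W U)))
    (CohFree.gen (J X) (img W U))

lemma evalGen_wImg_comp (F : CohTop.Ab X) (φ : CohCx.freeSheaf (J X) (img W U) ⟶ F) :
    CohFree.evalGen (J (TopCat.of W)) U ((CohTop.restrFunctor W).obj F)
      (wImg W U ≫ (CohTop.restrFunctor W).map φ) =
      CohFree.evalGen (J X) (img W U) F φ := by
  change (φ.hom.app (op (img W U))).hom
    (CohFree.evalGen (J (TopCat.of W)) U _ (wImg W U)) = _
  rw [wImg, CohFree.evalGen_ofSect]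
  rfl

lemma wImg_bijective (F : CohTop.Ab X) :
    Function.Bijective (fun φ : CohCx.freeSheaf (J X) (img W U) ⟶ F =>
      wImg W U ≫ (CohTop.restrFunctor W).map φ) := by
  constructor
  · intro φ φ' h
    have h' : wImg W U ≫ (CohTop.restrFunctor W).map φ =
        wImg W U ≫ (CohTop.restrFunctor W).map φ' := h
    have h2 := congrArg (CohFree.evalGen (J (TopCat.of W)) U ((CohTop.restrFunctor W).obj F)) h'
    rw [evalGen_wImg_comp, evalGen_wImg_comp] at h2
    exact (CohFree.homEquivSect (J X) (img W U) F).injective h2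
  · intro χ
    refine ⟨CohFree.ofSect (J X) (img W U) F
      (CohFree.evalGen (J (TopCat.of W)) U ((CohTop.restrFunctor W).obj F) χ), ?_⟩
    apply (CohFree.homEquivSect (J (TopCat.of W)) U ((CohTop.restrFunctor W).obj F)).injective
    rw [CohFree.homEquivSect_apply, CohFree.homEquivSect_apply]
    exact (evalGen_wImg_comp W U F _).trans (CohFree.evalGen_ofSect _ _ _ _)

/-- **Change of ambient space**: for opens `U ⊆ W ⊆ X`, `H^n(U, F)` computed on `X` agrees with
`H^n(U, F|_W)` computed on `W`. -/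
theorem nonempty_HE_img_equiv (F : CohTop.Ab X) (n : ℕ) :
    Nonempty (Ext.{u} (CohCx.freeSheaf (J X) (img W U)) F n ≃+
      Ext.{u} (CohCx.freeSheaf (J (TopCat.of W)) U) ((CohTop.restrFunctor W).obj F) n) := by
  haveI := restr_preservesFiniteLimits W
  haveI := restr_preservesFiniteColimits W
  have hb := Groth.Agent.Lib.Helper16.ExtCompare.cmp_bijective.{u, u} (CohTop.restrFunctor W)
    (wImg W U) (wImg_bijective W U) (fun I _ m => by
      haveI := Groth.Agent.Lib.Helper16.Flasque.injective_isFlasque I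
      exact Groth.Agent.Lib.Helper16.Flasque.HU_subsingleton ((CohTop.restrFunctor W).obj I) U m) n F
  exact ⟨AddEquiv.ofBijective _ hb⟩

end Top

section Sch

open AlgebraicGeometry Groth.Agent.Lib.Helper23.AffVanish Groth.Agent.R2.H1.CohLoc
  Groth.Agent.Lib.Helper6

variable {Y : Scheme.{u}}

/-- If `H^q(W, L) = 0` for a quasi-compact quasi-separated open `W` and `L` quasi-coherent, then
`H^q(W_f, L) = 0` for every `f ∈ Γ(Y, W)` (cohomology of the open `W_f = Y.basicOpen f` computed on `Y`). -/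
theorem subsingleton_HE_basicOpen_of_subsingleton (L : Y.Modules) [L.IsQuasicoherent] (W : Y.Opens)
    [CompactSpace W] [QuasiSeparatedSpace W] (f : Γ(Y, W)) (q : ℕ)
    (h : Subsingleton (Coh.HHon Y L W q)) :
    Subsingleton (HE (ab' L) q (Y.basicOpen f)) := by
  let X : Scheme.{u} := W
  let M : X.Modules := L.restrict W.ι
  haveI : CompactSpace X := inferInstanceAs (CompactSpace W)
  haveI : QuasiSeparatedSpace X := inferInstanceAs (QuasiSeparatedSpace W)
  let f' : Γ(X, ⊤) := W.topIso.inv f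
  have hloc := isLocalizedModule_resR_top M f' q
  have h1 : Subsingleton (HR M q ⊤) := by
    have e : HE (ab' M) q ⊤ ≃+ CohTop.H (ab' M) q := HETopEquivH X.carrier (ab' M) q
    have h' : Subsingleton (CohTop.H (ab' M) q) := h
    exact e.toEquiv.subsingleton
  have h2 : Subsingleton (HR M q (X.basicOpen f')) := by
    refine ⟨fun a b => ?_⟩
    have key : ∀ y : HR M q (X.basicOpen f'), y = 0 := by
      intro y
      obtain ⟨⟨x, s⟩, hx⟩ := IsLocalizedModule.surj (Submonoid.powers f')
        (resR M q (le_top : X.basicOpen f' ≤ ⊤)) y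
      have hx0 : x = 0 := Subsingleton.elim _ _
      have hu := IsLocalizedModule.map_units (resR M q (le_top : X.basicOpen f' ≤ ⊤)) s
      rw [Module.End.isUnit_iff] at hu
      apply hu.1
      rw [map_zero]
      have : s • y = 0 := by rw [hx, hx0, map_zero]
      exact this
    exact (key a).trans (key b).symm
  obtain ⟨e⟩ := nonempty_HE_img_equiv (X := Y.carrier) W (X.basicOpen f') (ab' L) q
  have himg : img W (X.basicOpen f') = Y.basicOpen f :=
    Scheme.Opens.ι_image_basicOpen_topIso_inv W f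
  rw [← himg]
  have h3 : Subsingleton (Ext.{u} (CohCx.freeSheaf (Opens.grothendieckTopology (TopCat.of W))
      (X.basicOpen f'))
      ((CohTop.restrFunctor W).obj (ab' L)) q) := h2
  exact @Equiv.subsingleton _ _ e.toEquiv h3

variable {Z : Scheme.{u}} (π : Y ⟶ Z)

lemma compactSpace_preimage [QuasiCompact π] {V : Z.Opens} (hV : IsAffineOpen V) :
    CompactSpace (π ⁻¹ᵁ V) :=
  isCompact_iff_compactSpace.mp (QuasiCompact.isCompact_preimage (f := π) _ V.2 hV.isCompact)

lemma quasiSeparatedSpace_preimage [QuasiSeparated π] {V : Z.Opens} (hV : IsAffineOpen V) :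
    QuasiSeparatedSpace (π ⁻¹ᵁ V) := by
  have : IsAffine V := hV
  have : QuasiSeparated (π ∣_ V) := inferInstance
  exact quasiSeparatedSpace_of_quasiSeparated (π ∣_ V)

/-- **Step C**: for a quasi-compact quasi-separated `π : Y ⟶ Z`, a quasi-coherent `L` on `Y` and a family of
affine opens `V k` covering `Z` with `H^q(π⁻¹(V k), L) = 0` for all `q > 0`, the higher direct images
`R^q π_* L` (of the underlying abelian sheaf) vanish for `q > 0`. -/
theorem isZero_RpushAb_of_affine_cover [QuasiCompact π] [QuasiSeparated π]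
    (L : Y.Modules) [L.IsQuasicoherent] {ι : Type*} (V : ι → Z.Opens)
    (hV : ∀ k, IsAffineOpen (V k)) (hcov : ∀ z : Z, ∃ k, z ∈ V k)
    (hvan : ∀ k q, 0 < q → Subsingleton (Coh.HHon Y L (π ⁻¹ᵁ V k) q))
    (q : ℕ) (hq : 0 < q) : IsZero ((Coh.RpushAb π q).obj (Coh.toAb L)) := by
  obtain ⟨n, rfl⟩ := Nat.exists_eq_succ_of_ne_zero hq.ne'
  let B : Set (Opens Z) := {D | ∃ (k : ι) (h : Γ(Z, V k)), D = Z.basicOpen h}
  have hB : Opens.IsBasis B := by
    rw [Opens.isBasis_iff_nbhd]
    intro O z hz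
    obtain ⟨k, hk⟩ := hcov z
    obtain ⟨h, hle, hzh⟩ := (hV k).exists_basicOpen_le (V := O) ⟨z, hz⟩ hk
    exact ⟨Z.basicOpen h, ⟨k, h, rfl⟩, hzh, hle⟩
  refine isZero_Rpush_of_basis π.base B hB (ab' L) ?_ n
  rintro D ⟨k, h, rfl⟩ i
  haveI := compactSpace_preimage π (hV k)
  haveI := quasiSeparatedSpace_preimage π (hV k)
  have key := subsingleton_HE_basicOpen_of_subsingleton L (π ⁻¹ᵁ V k) (π.app (V k) h) (i + 1)
    (hvan k (i + 1) (Nat.succ_pos i))
  have e : (Opens.map π.base).obj (Z.basicOpen h) = Y.basicOpen (π.app (V k) h) :=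
    Scheme.Hom.preimage_basicOpen π h
  rw [e]
  exact key

open Groth.Agent.Lib.Helper23.QCohLocal Groth.Agent.Lib.Helper23.FinType in
/-- **Step D**: for a quasi-compact quasi-separated `π : Y ⟶ Z`, a quasi-coherent `L` on `Y` and a family of
affine opens `V k` covering `Z` such that `Γ(π⁻¹(V k), L)` is a finite `Γ(Z, V k)`-module, the direct image
`π_* L` is coherent (quasi-coherent of finite type). -/
theorem isCoh_push_of_affine_cover [QuasiCompact π] [QuasiSeparated π]
    (L : Y.Modules) [L.IsQuasicoherent] {ι : Type u} (V : ι → Z.Opens)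
    (hV : ∀ k, IsAffineOpen (V k)) (hcov : ∀ z : Z, ∃ k, z ∈ V k)
    (hfin : ∀ k, Module.Finite Γ(Z, V k) Γ((Coh.push π).obj L, V k)) :
    Coh.IsCoh ((Coh.push π).obj L) := by
  haveI : ((Coh.push π).obj L).IsQuasicoherent := isQuasicoherent_pushforward π L
  refine ⟨inferInstance, isFiniteType_of_finite _ V ?_ hV hfin⟩
  rw [TopologicalSpace.IsOpenCover, eq_top_iff]
  intro z _
  obtain ⟨k, hk⟩ := hcov z
  exact Opens.mem_iSup.2 ⟨k, hk⟩

end Sch

end Groth.Agent.R2.H64.RelSerreCD
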