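import Mathlib
import Groth.Prelude.Def_Coh
import Groth.Prelude.Def_CohB1
import Groth.Agent.R2.H62RelSerreSpec
import Groth.Agent.R2.H64RelSerreCD
import Groth.Agent.Lib.Helper27PnSections
import Groth.Agent.Lib.Helper23SecTw
import Groth.Agent.Lib.Helper2Push

/-!
# Step D of relSerre in `HH`-form (helper62)

`H^0(π⁻¹V, L)` finite over `Γ(Z, V)` (frozen module structure for `π⁻¹V ⟶ V ≅ Spec Γ(Z, V)`) implies
`Γ(V, π_* L)` finite over `Γ(Z, V)`; with helper64's `isCoh_push_of_affine_cover` this is `StepD`.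
-/

set_option autoImplicit false
set_option linter.style.haveILetI false
universe u

open CategoryTheory CategoryTheory.Limits AlgebraicGeometry Opposite

namespace Groth.Agent.R2.H62.RelSerreSpec

variable {Y Z : Scheme.{u}} (π : Y ⟶ Z) (V : Z.Opens) (hV : IsAffineOpen V)

/-- the structure map `Γ(Z, V) → Γ(π⁻¹V, ⊤)` of `π⁻¹V ⟶ V ≅ Spec Γ(Z, V)` is `π^♯` -/
theorem key : (Scheme.ΓSpecIso Γ(Z, V)).inv ≫ ((π ∣_ V) ≫ hV.isoSpec.hom).appTop ≫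
    (π ⁻¹ᵁ V).topIso.hom = π.app V := by
  rw [Scheme.Hom.comp_appTop, IsAffineOpen.isoSpec_hom_appTop]
  simp only [Category.assoc, Iso.inv_hom_id_assoc]
  rw [Scheme.Hom.appTop, morphismRestrict_app']
  simp only [Scheme.Opens.topIso, Functor.mapIso_inv, Functor.mapIso_hom, Iso.op_inv, Iso.op_hom,
    eqToIso.inv, eqToIso.hom, eqToHom_op]
  erw [Scheme.Hom.map_appLE_assoc, Scheme.Hom.appLE_map]
  rw [Scheme.Hom.app_eq_appLE]

theorem key_apply (hle : π ⁻¹ᵁ V ≤ (π ⁻¹ᵁ V).ι ''ᵁ ⊤) (b : Γ(Z, V)) :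
    Y.presheaf.map (homOfLE hle).op
      (show Γ(Y, (π ⁻¹ᵁ V).ι ''ᵁ ⊤) from Coh.toGlobal ((π ∣_ V) ≫ hV.isoSpec.hom) b) =
      π.app V b := by
  have h := ConcreteCategory.congr_hom (key π V hV) b
  rw [← h]
  rfl

open Groth.Agent.Lib.Helper27PnSections in
/-- `H^0(π⁻¹V, L)` finite over `Γ(Z, V)` implies `Γ(V, π_* L)` finite over `Γ(Z, V)`. -/
theorem finite_sections_of_finite_HH (L : Y.Modules)
    (h : letI : ((π ⁻¹ᵁ V : Y.Opens) : Scheme.{u}).Over (Spec Γ(Z, V)) :=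
        ⟨(π ∣_ V) ≫ hV.isoSpec.hom⟩
      Module.Finite Γ(Z, V) (Coh.HHon Y L (π ⁻¹ᵁ V) 0)) :
    Module.Finite Γ(Z, V) Γ((Coh.push π).obj L, V) := by
  letI : ((π ⁻¹ᵁ V : Y.Opens) : Scheme.{u}).Over (Spec Γ(Z, V)) :=
    ⟨(π ∣_ V) ≫ hV.isoSpec.hom⟩
  haveI : Module.Finite Γ(Z, V) (Coh.HHon Y L (π ⁻¹ᵁ V) 0) := h
  have hle : π ⁻¹ᵁ V ≤ (π ⁻¹ᵁ V).ι ''ᵁ ⊤ := by rw [Scheme.Opens.ι_image_top]
  have hle' : (π ⁻¹ᵁ V).ι ''ᵁ ⊤ ≤ π ⁻¹ᵁ V := by rw [Scheme.Opens.ι_image_top]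
  let N : ((π ⁻¹ᵁ V : Y.Opens) : Scheme.{u}).Modules := L.restrict (π ⁻¹ᵁ V).ι
  let e₀ := hh0Equiv ((π ⁻¹ᵁ V : Y.Opens) : Scheme.{u}) N
  let g : Coh.HHon Y L (π ⁻¹ᵁ V) 0 →ₗ[Γ(Z, V)] Γ((Coh.push π).obj L, V) :=
    { toFun := fun x => L.presheaf.map (homOfLE hle).op (show Γ(L, (π ⁻¹ᵁ V).ι ''ᵁ ⊤) from e₀ x)
      map_add' := fun x y => by
        change L.presheaf.map (homOfLE hle).op (show Γ(L, (π ⁻¹ᵁ V).ι ''ᵁ ⊤) from e₀ (x + y)) = _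
        rw [map_add]
        exact map_add _ _ _
      map_smul' := fun b x => by
        change L.presheaf.map (homOfLE hle).op (show Γ(L, (π ⁻¹ᵁ V).ι ''ᵁ ⊤) from
          e₀ (Coh.toGlobal ((π ∣_ V) ≫ hV.isoSpec.hom) b • x)) = _
        rw [hh0Equiv_smul, Coh.smulAb_app, resTop_top]
        have h1 := Groth.Agent.Lib.Helper23.SecTw.smul_restrict_eq L (π ⁻¹ᵁ V) ⊤
          (Coh.toGlobal ((π ∣_ V) ≫ hV.isoSpec.hom) b) (e₀ x)
        erw [h1, Scheme.Modules.map_smul, key_apply π V hV hle b]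
        rfl }
  refine Module.Finite.of_surjective g ?_
  intro s
  refine ⟨e₀.symm (L.presheaf.map (homOfLE hle').op (show Γ(L, π ⁻¹ᵁ V) from s)), ?_⟩
  change L.presheaf.map (homOfLE hle).op (show Γ(L, (π ⁻¹ᵁ V).ι ''ᵁ ⊤) from
    e₀ (e₀.symm (L.presheaf.map (homOfLE hle').op (show Γ(L, π ⁻¹ᵁ V) from s)))) = s
  rw [AddEquiv.apply_symm_apply]
  change (L.presheaf.map (homOfLE hle').op ≫ L.presheaf.map (homOfLE hle).op) s = s
  rw [← Functor.map_comp]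
  have : (homOfLE hle').op ≫ (homOfLE hle).op = 𝟙 (op (π ⁻¹ᵁ V)) := Subsingleton.elim _ _
  rw [this]
  have h2 : L.presheaf.map (𝟙 (op (π ⁻¹ᵁ V))) = 𝟙 _ := L.presheaf.map_id _
  rw [h2]
  rfl

/-- **Step D** in `HH`-form. -/
theorem stepD : StepD.{u} := by
  intro Y Z π _ _ L _ ι V hV hcov h
  refine Groth.Agent.R2.H64.RelSerreCD.isCoh_push_of_affine_cover π L V hV ?_
    (fun k => finite_sections_of_finite_HH π (V k) (hV k) L (h k))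
  intro z
  have hz : z ∈ (⨆ k, V k) := by rw [hcov]; trivial
  exact TopologicalSpace.Opens.mem_iSup.1 hz

/-- **Step C**. -/
theorem stepC : StepC.{u} := by
  intro Y Z π _ _ L _ ι V hV hcov h q hq
  refine Groth.Agent.R2.H64.RelSerreCD.isZero_RpushAb_of_affine_cover π L V hV ?_ h q hq
  intro z
  have hz : z ∈ (⨆ k, V k) := by rw [hcov]; trivial
  exact TopologicalSpace.Opens.mem_iSup.1 hz

end Groth.Agent.R2.H62.RelSerreSpec
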