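import Mathlib
import Groth.Agent.R2.H16CbcFIGlob2
import Groth.Agent.R2.H16CbcFinal
import Groth.Agent.S0002
import Groth.Agent.Lib.Helper2PullbackSec3
import Groth.Agent.Lib.Helper26FlatLimC
import Groth.Agent.Lib.Helper23FinTypeLocal

/-!
# PROJ:cbc / FI — globalisation: the bridge complex over an affine open of a general base (helper16)

Namespace `Groth.Agent.R2.H16.CbcFIGlob`.

For `f : X ⟶ Y`, `V ⊆ Y` open with affine chart `φ : ↑V ≅ Spec A`, `X_V = f⁻¹V` over `Spec A` (`overV f φ`),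
`F_V = F.restrict (f⁻¹V).ι`:

* `isFlatOver_restrict`: `F` flat over `Y` ⇒ `F_V` flat over `Spec A`;
* `isCoh_restrict`: `F` coherent ⇒ `F_V` coherent;
* `isProper_overV`: `f` proper ⇒ `X_V → Spec A` proper;
* `exists_bridge_glob`: `f` proper, `A` Noetherian, `F` coherent and flat over `Y`, `H^n(X_V, F_V)` finite over `A`
  (this is `S0002`) ⇒ a bounded complex `L` of finite free `A`-modules with
  `T^n_{F_V} ≅ TFun L (-n) ⋙ forget₂` for all `n` and, for all `y ∈ V` and `p`,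
  `fiberRank f F p y = dRank L (-p) p_y` and `H^p(X_y, F_y) = 0 ↔ H_{-p}(L ⊗ k(p_y)) = 0`.
-/

set_option autoImplicit false
set_option linter.style.haveILetI false
set_option linter.unusedSectionVars false
universe u
open CategoryTheory CategoryTheory.Limits AlgebraicGeometry Opposite TopologicalSpace

namespace Groth.Agent.R2.H16.CbcFIGlob

open Groth.Agent.R2.H16.CbcFITerm Groth.Agent.R2.H16.CbcFINat Groth.Agent.R2.H16.CbcGeom
  Groth.Agent.R2.H16.CbcFI Groth.Agent.R2.H16.CbcFIRank Groth.Agent.R2.H16.CbcFIFib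

variable {X Y : Scheme.{u}} (f : X ⟶ Y) (F : X.Modules) {V : Y.Opens} {A : Type u} [CommRing A]
  (φ : V.toScheme ≅ Spec (CommRingCat.of A))

/-- the comparison `F.restrict (f⁻¹V).ι ≅ (pullback (f⁻¹V).ι).obj F`. -/
noncomputable def eRestrict :
    F.restrict (f ⁻¹ᵁ V).ι ≅ (Scheme.Modules.pullback (f ⁻¹ᵁ V).ι).obj F :=
  (Scheme.Modules.restrictFunctorIsoPullback (f ⁻¹ᵁ V).ι).app F

/-- flatness over the base restricts to `f⁻¹V → Spec A`. -/
theorem isFlatOver_restrict [F.IsQuasicoherent] (hfl : FlatMod.IsFlatOver f F) :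
    FlatMod.IsFlatOver ((f ∣_ V) ≫ φ.hom) (F.restrict (f ⁻¹ᵁ V).ι) := by
  refine Groth.Agent.Lib.Helper26.FlatLim.isFlatOver_of_iso _ (eRestrict f F).symm fun x => ?_
  exact Groth.Agent.Lib.Helper2.PullbackSec.isFlatOverAt_pullback_of_isPullback
    (isPullback_overV f φ) F x (hfl _)

/-- coherence restricts to `f⁻¹V`. -/
theorem isCoh_restrict (hF : Coh.IsCoh F) : Coh.IsCoh (F.restrict (f ⁻¹ᵁ V).ι) := by
  haveI : F.IsQuasicoherent := hF.1
  haveI : SheafOfModules.IsFiniteType (R := X.ringCatSheaf) F := hF.2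
  exact ⟨inferInstance, Groth.Agent.Lib.Helper23.FinType.isFiniteType_restrict _ F⟩

/-- properness restricts to `f⁻¹V → Spec A`. -/
theorem isProper_overV [IsProper f] : IsProper ((f ∣_ V) ≫ φ.hom) := inferInstance

/-- **The bridge complex over an affine chart of a general base** (finiteness of `H^n(X_V, F_V)` as a hypothesis). -/
theorem exists_bridge_glob_of [IsProper f] [IsNoetherianRing A] (hF : Coh.IsCoh F)
    (hfl : FlatMod.IsFlatOver f F)
    (hfin : letI := overV f φ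
      ∀ n : ℕ, Module.Finite A (Coh.HH (f ⁻¹ᵁ V).toScheme (F.restrict (f ⁻¹ᵁ V).ι) n)) :
    letI := overV f φ
    ∃ L : ChainComplex (ModuleCat.{u} A) ℤ,
      (∀ i, Module.Finite A (L.X i) ∧ Module.Free A (L.X i)) ∧
      (∃ d : ℕ, ∀ i : ℤ, i < -(d : ℤ) → IsZero (L.X i)) ∧
      (∀ n : ℕ, Nonempty (CohIII.tensorAFunctor A (F.restrict (f ⁻¹ᵁ V).ι) ⋙
          CohIII.HAb (f ⁻¹ᵁ V).toScheme n ≅
        CohIII.TFun L (-(n : ℤ)) ⋙ forget₂ (ModuleCat.{u} A) AddCommGrpCat.{u})) ∧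
      ∀ (p : ℕ) (y : Y) (hy : y ∈ V),
        CohIII.fiberRank f F p y = CohIII.dRank L (-(p : ℤ)) (yp (yA φ y hy)) ∧
        (Subsingleton (CohIII.fiberH f F y p) ↔
          Subsingleton ↥((CohIII.bcCx (algebraMap A (yp (yA φ y hy)).asIdeal.ResidueField) L).homology
            (-(p : ℤ)))) := by
  letI := overV f φ
  haveI hprop : IsProper ((f ⁻¹ᵁ V).toScheme ↘ Spec (CommRingCat.of A)) := isProper_overV f φ
  haveI : IsSeparated ((f ∣_ V) ≫ φ.hom) := (isProper_overV f φ).toIsSeparated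
  haveI : CompactSpace ↥(f ⁻¹ᵁ V).toScheme :=
    Groth.Agent.R2.H16.CbcFinal.compactSpace_of_isProper A (f ⁻¹ᵁ V).toScheme
  haveI : F.IsQuasicoherent := hF.1
  have hcoh := isCoh_restrict f F (V := V) hF
  haveI : (F.restrict (f ⁻¹ᵁ V).ι).IsQuasicoherent := hcoh.1
  obtain ⟨L, hL, hLb, hLiso⟩ := Groth.Agent.R2.H16.CbcFinal.exists_bridge_proper A
    (f ⁻¹ᵁ V).toScheme (F.restrict (f ⁻¹ᵁ V).ι) hcoh (isFlatOver_restrict f F φ hfl) hfin
  refine ⟨L, hL, hLb, hLiso, fun p y hy => ?_⟩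
  obtain ⟨γ⟩ := hLiso p
  exact ⟨fiberRank_eq_dRank_glob f F φ y hy _ (eRestrict f F) L p γ,
    subsingleton_fiberH_iff_glob f F φ y hy _ (eRestrict f F) L p γ⟩

/-- **The bridge complex over an affine chart of a general base**, for `f` proper, `A` Noetherian, `F` coherent and
flat over the base (finiteness from `S0002`). -/
theorem exists_bridge_glob [IsProper f] [IsNoetherianRing A] (hF : Coh.IsCoh F)
    (hfl : FlatMod.IsFlatOver f F) :
    letI := overV f φ
    ∃ L : ChainComplex (ModuleCat.{u} A) ℤ,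
      (∀ i, Module.Finite A (L.X i) ∧ Module.Free A (L.X i)) ∧
      (∃ d : ℕ, ∀ i : ℤ, i < -(d : ℤ) → IsZero (L.X i)) ∧
      (∀ n : ℕ, Nonempty (CohIII.tensorAFunctor A (F.restrict (f ⁻¹ᵁ V).ι) ⋙
          CohIII.HAb (f ⁻¹ᵁ V).toScheme n ≅
        CohIII.TFun L (-(n : ℤ)) ⋙ forget₂ (ModuleCat.{u} A) AddCommGrpCat.{u})) ∧
      ∀ (p : ℕ) (y : Y) (hy : y ∈ V),
        CohIII.fiberRank f F p y = CohIII.dRank L (-(p : ℤ)) (yp (yA φ y hy)) ∧
        (Subsingleton (CohIII.fiberH f F y p) ↔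
          Subsingleton ↥((CohIII.bcCx (algebraMap A (yp (yA φ y hy)).asIdeal.ResidueField) L).homology
            (-(p : ℤ)))) := by
  letI := overV f φ
  haveI hprop : IsProper ((f ⁻¹ᵁ V).toScheme ↘ Spec (CommRingCat.of A)) := isProper_overV f φ
  exact exists_bridge_glob_of f F φ hF hfl
    (fun n => Groth.Agent.S0002.result A (f ⁻¹ᵁ V).toScheme (F.restrict (f ⁻¹ᵁ V).ι)
      (isCoh_restrict f F (V := V) hF) n)

end Groth.Agent.R2.H16.CbcFIGlob
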