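import Mathlib
import Groth.Agent.R2.H16CbcFIGlob3
import Groth.Agent.R2.H11CbcFinal

/-!
# PROJ:cbc-global — the bridge complex over an affine open `V` of a locally Noetherian base, in the shape asked for by
helper11 (board #1843) (helper16)

Namespace `Groth.Agent.R2.H16.CbcFIGlob`.

`exists_bridge_glob'`: `f : X ⟶ Y` proper, `Y` locally Noetherian, `F` coherent and flat over `Y`, `V ⊆ Y` affine open,
`A = Γ(Y, V)`, `X_V = f⁻¹V` over `Spec A` through `overV f hV.isoSpec`, `F_V = F.restrict (f⁻¹V).ι`: ONE complex `L` of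
finite free `A`-modules, bounded below, with `T_i(L) = 0` for `i > 0`, computing `T^n_{F_V}` for all `n`, and with
`fiberRank f F p y = dRank L (-p) (hV.primeIdealOf ⟨y, hy⟩)` (and the vanishing criterion) for all `y ∈ V`.
-/

set_option autoImplicit false
set_option linter.style.haveILetI false
set_option linter.unusedSectionVars false
universe u
open CategoryTheory CategoryTheory.Limits AlgebraicGeometry Opposite TopologicalSpace

namespace Groth.Agent.R2.H16.CbcFIGlob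

open Groth.Agent.R2.H16.CbcFITerm Groth.Agent.R2.H16.CbcFINat Groth.Agent.R2.H16.CbcGeom
  Groth.Agent.R2.H16.CbcFI Groth.Agent.R2.H16.CbcFIRank Groth.Agent.R2.H16.CbcFIFib

variable {X Y : Scheme.{u}} (f : X ⟶ Y) (F : X.Modules) {V : Y.Opens} (hV : IsAffineOpen V)

/-- **The bridge complex over an affine open of a locally Noetherian base** (shape of board #1843). -/
theorem exists_bridge_glob' [IsProper f] [IsLocallyNoetherian Y] (hF : Coh.IsCoh F)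
    (hfl : FlatMod.IsFlatOver f F) :
    letI := overV (A := ↑Γ(Y, V)) f hV.isoSpec
    ∃ (L : ChainComplex (ModuleCat.{u} ↑Γ(Y, V)) ℤ) (d : ℕ),
      (∀ i, Module.Finite ↑Γ(Y, V) (L.X i) ∧ Module.Free ↑Γ(Y, V) (L.X i)) ∧
      (∀ i : ℤ, i < -(d : ℤ) → IsZero (L.X i)) ∧
      (∀ (i : ℤ) (M : ModuleCat.{u} ↑Γ(Y, V)), 0 < i → IsZero (CohIII.T L i M)) ∧
      (∀ n : ℕ, Nonempty (CohIII.tensorAFunctor ↑Γ(Y, V) (F.restrict (f ⁻¹ᵁ V).ι) ⋙
          CohIII.HAb (f ⁻¹ᵁ V).toScheme n ≅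
        CohIII.TFun L (-(n : ℤ)) ⋙ forget₂ (ModuleCat.{u} ↑Γ(Y, V)) AddCommGrpCat.{u})) ∧
      ∀ (p : ℕ) (y : Y) (hy : y ∈ V),
        CohIII.fiberRank f F p y = CohIII.dRank L (-(p : ℤ)) (hV.primeIdealOf ⟨y, hy⟩) ∧
        (Subsingleton (CohIII.fiberH f F y p) ↔
          Subsingleton ↥((CohIII.bcCx (algebraMap ↑Γ(Y, V)
            (yp (hV.primeIdealOf ⟨y, hy⟩)).asIdeal.ResidueField) L).homology (-(p : ℤ)))) := by
  letI := overV (A := ↑Γ(Y, V)) f hV.isoSpec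
  haveI : IsNoetherianRing ↑Γ(Y, V) := IsLocallyNoetherian.component_noetherian ⟨V, hV⟩
  haveI hprop : IsProper ((f ⁻¹ᵁ V).toScheme ↘ Spec (CommRingCat.of ↑Γ(Y, V))) :=
    isProper_overV (A := ↑Γ(Y, V)) f hV.isoSpec
  haveI : IsSeparated ((f ∣_ V) ≫ hV.isoSpec.hom) :=
    (isProper_overV (A := ↑Γ(Y, V)) f hV.isoSpec).toIsSeparated
  haveI : CompactSpace ↥(f ⁻¹ᵁ V).toScheme :=
    Groth.Agent.R2.H16.CbcFinal.compactSpace_of_isProper ↑Γ(Y, V) (f ⁻¹ᵁ V).toScheme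
  haveI : F.IsQuasicoherent := hF.1
  have hcoh := isCoh_restrict f F (V := V) hF
  haveI : (F.restrict (f ⁻¹ᵁ V).ι).IsQuasicoherent := hcoh.1
  obtain ⟨L, d, hL, hLb, hLpos, hLiso⟩ := Groth.Agent.R2.H11.CbcFinal.exists_bridge' ↑Γ(Y, V)
    (F.restrict (f ⁻¹ᵁ V).ι) hcoh.1 (isFlatOver_restrict (A := ↑Γ(Y, V)) f F hV.isoSpec hfl)
    (fun n => Groth.Agent.S0002.result ↑Γ(Y, V) (f ⁻¹ᵁ V).toScheme (F.restrict (f ⁻¹ᵁ V).ι) hcoh n)
  refine ⟨L, d, hL, hLb, hLpos, hLiso, fun p y hy => ?_⟩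
  obtain ⟨γ⟩ := hLiso p
  exact ⟨fiberRank_eq_dRank_glob (A := ↑Γ(Y, V)) f F hV.isoSpec y hy _ (eRestrict f F) L p γ,
    subsingleton_fiberH_iff_glob (A := ↑Γ(Y, V)) f F hV.isoSpec y hy _ (eRestrict f F) L p γ⟩

end Groth.Agent.R2.H16.CbcFIGlob
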