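import Mathlib
import Groth.Prelude.Def_ModSite
import Groth.Prelude.Def_Pic
import Groth.Prelude.Def_CohB1
import Groth.Prelude.Def_ClSub2
import Groth.Agent.Lib.Helper21Dual9
import Groth.Agent.Lib.Helper2TensorInv

/-!
# helper34: an invertible `O_X`-module has a tensor inverse (its dual)  (PROJ:curves-rr, package CR3)

* site level (`ModSite.Mod O`, any small site): `isIso_evStd_of_locally_unit` — if `L` is locally
  isomorphic to the unit on a covering family then the evaluation `L^∨ ⊗ L ⟶ O` is an isomorphism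
  (`L^∨ = Helper21.Dual.dual L`);
* schemes: `dualMod L`, `evMod L : L^∨ ⊗ L ⟶ O_X`, `isIso_evMod`, and
  `exists_inverse : PicF.IsInvertible L → ∃ M, PicF.IsInvertible M ∧ ClSub.IsInverseOf L M ∧ ClSub.IsInverseOf M L`.
-/

set_option autoImplicit false
set_option linter.style.haveILetI false

open CategoryTheory MonoidalCategory Opposite Limits AlgebraicGeometry

universe u

namespace Groth.Agent.R2.H34.InvDual

open Groth.Agent.Lib.Helper21.ModTensor Groth.Agent.Lib.Helper21.ModTensor2
  Groth.Agent.Lib.Helper21.ModTensor3 Groth.Agent.Lib.Helper21.ModTensor4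
  Groth.Agent.Lib.Helper21.ModTensor5
  Groth.Agent.Lib.Helper21.ModTensor6 Groth.Agent.Lib.Helper21.ModTensor7
  Groth.Agent.Lib.Helper21.ModRestr
  Groth.Agent.Lib.Helper21.LocFact Groth.Agent.Lib.Helper21.RestrExact
  Groth.Agent.Lib.Helper21.Dual

attribute [local instance] Groth.Agent.Lib.Helper21.ExtShDelta.hasSheafHom

section Site

variable {C : Type u} [SmallCategory C] {J : GrothendieckTopology C} (O : Sheaf J CommRingCat.{u})

/-- tensoring with a module isomorphic to the unit is an equivalence. -/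
theorem isEquivalence_tL_of_iso_unit (E : ModSite.Mod O) (e : E ≅ ModSite.unit O) :
    ((ModSite.tensorBi O).obj E).IsEquivalence := by
  have i : 𝟭 (ModSite.Mod O) ≅ (ModSite.tensorBi O).obj E :=
    (tLUnitIso O).symm ≪≫ (ModSite.tensorBi O).mapIso e.symm
  exact Functor.isEquivalence_of_iso i

/-- the evaluation `Hom(E, O) ⊗ E ⟶ O` is an isomorphism when `E ≅ O`. -/
theorem isIso_counit_of_iso_unit (E : ModSite.Mod O) (e : E ≅ ModSite.unit O) :
    IsIso ((ModSite.sheafHomAdj E).counit.app (ModSite.unit O)) :=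
  (invertible O E E (isEquivalence_tL_of_iso_unit O E e)).2.2

/-- A perfect pairing `D ⊗ E ⟶ O` with `E ≅ O` is an isomorphism. -/
theorem isIso_of_perfect_of_iso_unit {D E : ModSite.Mod O}
    (ev : ((ModSite.tensorBi O).obj D).obj E ⟶ ModSite.unit O)
    (hperf : IsIso ((ModSite.sheafHomAdj E).homEquiv D (ModSite.unit O) ev))
    (e : E ≅ ModSite.unit O) : IsIso ev := by
  have h1 : ev = ((ModSite.tensorBi O).flip.obj E).map
      ((ModSite.sheafHomAdj E).homEquiv D (ModSite.unit O) ev) ≫
      (ModSite.sheafHomAdj E).counit.app (ModSite.unit O) :=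
    (Equiv.symm_apply_apply ((ModSite.sheafHomAdj E).homEquiv D (ModSite.unit O)) ev).symm.trans
      (Adjunction.homEquiv_counit (ModSite.sheafHomAdj E) D (ModSite.unit O) _)
  rw [h1]
  have h2 := isIso_counit_of_iso_unit O E e
  have h3 : IsIso (((ModSite.tensorBi O).flip.obj E).map
      ((ModSite.sheafHomAdj E).homEquiv D (ModSite.unit O) ev)) := inferInstance
  exact IsIso.comp_isIso' h3 h2

/-- If `L` is locally isomorphic to the unit then the evaluation `L^∨ ⊗ L ⟶ O` is an isomorphism. -/
theorem isIso_evStd_of_locally_unit (L : ModSite.Mod O) {K : Type*} (X : K → C)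
    (hX : J.CoversTop X)
    (h : ∀ k, Nonempty ((ModSite.restr O (X k)).obj L ≅ ModSite.unit (O.over (X k)))) :
    IsIso (evStd L) := by
  refine Groth.Agent.Lib.Helper21.ModLocalIso.isIso_of_isIso_restr O X hX _ (fun k => ?_)
  obtain ⟨e⟩ := h k
  have h1 : IsIso (evRes O (X k) (D := dual L) (E := L) (evStd L)) :=
    isIso_of_perfect_of_iso_unit (O.over (X k)) _
      (isIso_adjunct_evRes O (X k) (evStd L) (hperf_std L)) e
  have h2 : (ModSite.restr O (X k)).map (evStd L) =
      (μP O (X k) ((fgt O).obj (dual L)) ((fgt O).obj L)).hom ≫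
        evRes O (X k) (D := dual L) (E := L) (evStd L) :=
    (Iso.hom_inv_id_assoc (μP O (X k) ((fgt O).obj (dual L)) ((fgt O).obj L)) _).symm
  rw [h2]
  exact IsIso.comp_isIso' (Iso.isIso_hom _) h1

end Site

section Scheme

variable {X : Scheme.{u}}

/-- a trivialization of `L` on `U` gives one of `L.over U`. -/
noncomputable def overIsoUnit (L : X.Modules) (U : X.Opens)
    (e : L.restrict U.ι ≅ Coh.structureModule (↑U)) :
    (SheafOfModules.overFunctor X.ringCatSheaf U).obj L ≅
      SheafOfModules.unit.{u} (X.ringCatSheaf.over U) := by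
  let Φ : SheafOfModules.{u} (X.ringCatSheaf.over U) ⥤ (↑U : Scheme.{u}).Modules :=
    (Scheme.Modules.overEquiv U).functor
  let i1 : Φ.obj ((SheafOfModules.overFunctor X.ringCatSheaf U).obj L) ≅ L.restrict U.ι :=
    (Scheme.Modules.overFunctorEquiv U).app L
  let i4 : Φ.obj (SheafOfModules.unit.{u} (X.ringCatSheaf.over U)) ≅ Coh.structureModule (↑U) :=
    Iso.refl _
  exact Φ.preimageIso (i1 ≪≫ e ≪≫ i4.symm)

/-- the dual of an `O_X`-module. -/
noncomputable def dualMod (L : X.Modules) : X.Modules := dual (O := X.sheaf) L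

/-- the evaluation `L^∨ ⊗ L ⟶ O_X`. -/
noncomputable def evMod (L : X.Modules) : CohB1.tensorMod (dualMod L) L ⟶ Coh.structureModule X :=
  evStd (O := X.sheaf) L

theorem isIso_evMod (L : X.Modules) (hL : PicF.IsInvertible L) : IsIso (evMod L) := by
  choose U hxU he using hL
  exact isIso_evStd_of_locally_unit X.sheaf L U (coversTop_of_mem U hxU)
    (fun x => ⟨overIsoUnit L (U x) (he x).some⟩)

/-- **CR3**: an invertible module has an invertible tensor inverse (its dual). -/
theorem exists_inverse (L : X.Modules) (hL : PicF.IsInvertible L) :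
    ∃ M : X.Modules, PicF.IsInvertible M ∧ ClSub.IsInverseOf L M ∧ ClSub.IsInverseOf M L := by
  haveI := isIso_evMod L hL
  let e : CohB1.tensorMod (dualMod L) L ≅ Coh.structureModule X := asIso (evMod L)
  let e' : CohB1.tensorMod L (dualMod L) ≅ Coh.structureModule X :=
    brdApp X.sheaf L (dualMod L) ≪≫ e
  exact ⟨dualMod L, Groth.Agent.Lib.Helper2.TensorInv.isInvertible_of_tensor_iso _ _ e, ⟨e'⟩, ⟨e⟩⟩

end Scheme

end Groth.Agent.R2.H34.InvDual
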