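import Mathlib
import Groth.Agent.R2.H11CbcInvNear

/-!
# PROJ:cbc / PROJ:nearfibre — LIFT: sections on a fibre with `H^1 = 0` lift to global sections (helper11)

Setting of the affine core: `A` Noetherian, `X` proper over `Spec A`, `N` coherent and flat over `A`, a cartesian square
`hc : IsPullback g' f' (X ↘ Spec A) (Spec.map ρ)` with `ρ : A → K`, `K` a field of fractions of a quotient of `A`
(`hK`), and `H^1` of all fibres of `N` zero (`hvan`, in bridge-complex form, or `hvan'`, in `CohIII.fiberH` form).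

* `exists_unitSec_lift`: every `u ∈ Γ(X', g'^*N)` is, up to a unit of `K`, the pullback of a global section of `N`:
  `unitSec g' N le_rfl z = αW f' _ (ρ a) • u` with `ρ a ≠ 0`.
* `exists_unitSec_lift'`: the same with the unit written through `X`: `… = g'^♯ (αW fX ⊤ a) • u`.
* `hvan_of_fiberH`: the hypothesis `hvan` from vanishing of `CohIII.fiberH (X ↘ Spec A) N y 1` for all `y`.
* `exists_fiber_lift`: the case of the fibre at `y : Spec A` (`g' = fiberι y`, `ρ = ρκ y`).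
* `surjective_unitSec_closedPoint`: `A` local, `H^1(X_y, N_y) = 0` at the closed point `y` ⇒ every section of `N_y` over the
  closed fibre is the restriction of a global section of `N`.
-/

set_option autoImplicit false
set_option linter.style.haveILetI false
universe u
open CategoryTheory CategoryTheory.Limits AlgebraicGeometry TopologicalSpace Opposite

namespace Groth.Agent.R2.H11.CbcLift

open Groth.Agent.R2.H11.CbcSpec Groth.Agent.R2.H16.CbcFISec Groth.Agent.R2.H16.CbcFITerm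
  Groth.Agent.R2.H16.CbcFINat Groth.Agent.Lib.Helper16.TensorCmp Groth.Agent.R2.H11.CbcGammaFI
  Groth.Agent.R2.H11.CbcInvLift Groth.Agent.R2.H11.CbcInvGen
  Groth.Agent.Lib.Helper23.SecTw Groth.Agent.Helper13PullbackUnit Groth.Agent.Lib.Helper23.AmpleIso
  Groth.Agent.Lib.Helper23.PB Groth.Agent.R2.H16.CbcFIFib

variable (A : Type u) [CommRing A] {X : Scheme.{u}} [X.Over (Spec (CommRingCat.of A))]
  (N : X.Modules)

theorem exists_unitSec_lift [IsNoetherianRing A] [IsProper (X ↘ Spec (CommRingCat.of A))]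
    (hN : Coh.IsCoh N)
    (hfl : FlatMod.IsFlatOver (X ↘ Spec (CommRingCat.of A)) N)
    (hvan : ∀ (L : ChainComplex (ModuleCat.{u} A) ℤ)
      (_ : CohIII.tensorAFunctor A N ⋙ CohIII.HAb X 1 ≅
        CohIII.TFun L (-((1 : ℕ) : ℤ)) ⋙ forget₂ (ModuleCat.{u} A) AddCommGrpCat.{u})
      (x : PrimeSpectrum A),
      Subsingleton ↥((CohIII.bcCx (algebraMap A x.asIdeal.ResidueField) L).homology
        (-((1 : ℕ) : ℤ))))
    {K : Type u} [Field K] (ρ : A →+* K) (hK : ∀ m : K, ∃ a b : A, ρ a ≠ 0 ∧ ρ a * m = ρ b)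
    {X' : Scheme.{u}} {g' : X' ⟶ X} {f' : X' ⟶ Spec (CommRingCat.of K)}
    (hc : IsPullback g' f' (X ↘ Spec (CommRingCat.of A)) (Spec.map (CommRingCat.ofHom ρ)))
    (u : Γ((Scheme.Modules.pullback g').obj N, g' ⁻¹ᵁ ⊤)) :
    ∃ (z : Γ(N, ⊤)) (a : A), ρ a ≠ 0 ∧
      unitSec g' N (le_refl (g' ⁻¹ᵁ ⊤)) z = αW f' (g' ⁻¹ᵁ ⊤) (ρ a) • u := by
  haveI : N.IsQuasicoherent := hN.1
  obtain ⟨ι₉⟩ := Groth.Agent.R2.H8.CbcG9.g9 A N
  let u₁ : ↑Γ(G₁ A g' N, g' ⁻¹ᵁ ⊤) :=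
    ((Scheme.Modules.pullback g').map ι₉.inv).app (g' ⁻¹ᵁ ⊤) u
  let t : ↑((TW A N ⊤).obj (MA' ρ)) := (fiInv N hc).app (op ⊤) u₁
  obtain ⟨z, a, ha, hz⟩ := exists_section_lift A N hN hfl hvan ρ hK t
  have k1 : (fiHom N hc).app (op ⊤) (φm A ρ N 1 ⊤ z) =
      (σ A g' f' N 1).app (op ⊤) (ηP A g' N ⊤ z) :=
    ConcreteCategory.congr_hom (congrArg (fun α => α.app (op ⊤)) (fiHom_gen N hc (1 : K))) z
  have k2 : (fiHom N hc).app (op ⊤) ((μ A ρ N (ρ a)).app (op ⊤) t) =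
      (σ A g' f' N (ρ a)).app (op ⊤) ((fiHom N hc).app (op ⊤) t) :=
    ConcreteCategory.congr_hom (congrArg (fun α => α.app (op ⊤)) (fiHom_mulEnd N hc (ρ a))) t
  have k3 : (fiHom N hc).app (op ⊤) t = u₁ :=
    ConcreteCategory.congr_hom (congrArg (fun α => α.app (op ⊤)) (fiIso N hc).inv_hom_id) u₁
  have k4 : ηP A g' N ⊤ z = αW f' (g' ⁻¹ᵁ ⊤) (ρ a) • u₁ := by
    have h1 : (σ A g' f' N 1).app (op ⊤) (ηP A g' N ⊤ z) =
        (σ A g' f' N (ρ a)).app (op ⊤) u₁ :=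
      k1.symm.trans ((congrArg ((fiHom N hc).app (op ⊤)) hz).trans (k2.trans
        (congrArg ((σ A g' f' N (ρ a)).app (op ⊤)) k3)))
    have h2 : (σ A g' f' N 1).app (op ⊤) (ηP A g' N ⊤ z) =
        αW f' (g' ⁻¹ᵁ ⊤) 1 • (show ↑Γ(G₁ A g' N, g' ⁻¹ᵁ ⊤) from ηP A g' N ⊤ z) :=
      σ_app_apply N 1 ⊤ _
    have h3 : (σ A g' f' N (ρ a)).app (op ⊤) u₁ = αW f' (g' ⁻¹ᵁ ⊤) (ρ a) • u₁ :=
      σ_app_apply N (ρ a) ⊤ u₁
    have h4 : αW f' (g' ⁻¹ᵁ ⊤) 1 • (show ↑Γ(G₁ A g' N, g' ⁻¹ᵁ ⊤) from ηP A g' N ⊤ z) =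
        (show ↑Γ(G₁ A g' N, g' ⁻¹ᵁ ⊤) from ηP A g' N ⊤ z) := by
      rw [map_one, one_smul]
    exact h4.symm.trans (h2.symm.trans (h1.trans h3))
  have h5a := unitSec_refl (g' := g') N ⊤ (show ↑Γ(F₁ A N, ⊤) from z)
  have h5 : unitSec g' (F₁ A N) (le_refl (g' ⁻¹ᵁ ⊤)) (show ↑Γ(F₁ A N, ⊤) from z) =
      αW f' (g' ⁻¹ᵁ ⊤) (ρ a) • u₁ := by
    rw [h5a]
    exact k4
  refine ⟨ι₉.hom.app ⊤ (show ↑Γ(F₁ A N, ⊤) from z), a, ha, ?_⟩
  have h6 := congrArg (((Scheme.Modules.pullback g').map ι₉.hom).app (g' ⁻¹ᵁ ⊤)) h5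
  rw [map_unitSec, Scheme.Modules.Hom.app_smul] at h6
  have h7 : ((Scheme.Modules.pullback g').map ι₉.hom).app (g' ⁻¹ᵁ ⊤) u₁ = u := by
    have h8 : (Scheme.Modules.pullback g').map ι₉.inv ≫ (Scheme.Modules.pullback g').map ι₉.hom =
        𝟙 _ := by
      rw [← (Scheme.Modules.pullback g').map_comp, Iso.inv_hom_id, (Scheme.Modules.pullback g').map_id]
    exact congrArg (fun ψ => Scheme.Modules.Hom.app ψ (g' ⁻¹ᵁ ⊤) u) h8
  rw [h7] at h6
  exact h6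

theorem exists_unitSec_lift' [IsNoetherianRing A] [IsProper (X ↘ Spec (CommRingCat.of A))]
    (hN : Coh.IsCoh N)
    (hfl : FlatMod.IsFlatOver (X ↘ Spec (CommRingCat.of A)) N)
    (hvan : ∀ (L : ChainComplex (ModuleCat.{u} A) ℤ)
      (_ : CohIII.tensorAFunctor A N ⋙ CohIII.HAb X 1 ≅
        CohIII.TFun L (-((1 : ℕ) : ℤ)) ⋙ forget₂ (ModuleCat.{u} A) AddCommGrpCat.{u})
      (x : PrimeSpectrum A),
      Subsingleton ↥((CohIII.bcCx (algebraMap A x.asIdeal.ResidueField) L).homology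
        (-((1 : ℕ) : ℤ))))
    {K : Type u} [Field K] (ρ : A →+* K) (hK : ∀ m : K, ∃ a b : A, ρ a ≠ 0 ∧ ρ a * m = ρ b)
    {X' : Scheme.{u}} {g' : X' ⟶ X} {f' : X' ⟶ Spec (CommRingCat.of K)}
    (hc : IsPullback g' f' (X ↘ Spec (CommRingCat.of A)) (Spec.map (CommRingCat.ofHom ρ)))
    (u : Γ((Scheme.Modules.pullback g').obj N, g' ⁻¹ᵁ ⊤)) :
    ∃ (z : Γ(N, ⊤)) (a : A), ρ a ≠ 0 ∧
      unitSec g' N (le_refl (g' ⁻¹ᵁ ⊤)) z =
        (g'.appLE ⊤ (g' ⁻¹ᵁ ⊤) le_rfl).hom (αW (X ↘ Spec (CommRingCat.of A)) ⊤ a) • u := by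
  obtain ⟨z, a, ha, h⟩ := exists_unitSec_lift A N hN hfl hvan ρ hK hc u
  refine ⟨z, a, ha, ?_⟩
  rw [h, αW_comm hc ⊤ a]

/-- the hypothesis `hvan` of `exists_unitSec_lift` from the vanishing of `H^1` of all fibres. -/
theorem hvan_of_fiberH [N.IsQuasicoherent] [CompactSpace X]
    [IsSeparated (X ↘ Spec (CommRingCat.of A))]
    (h : ∀ y : ↥(Spec (CommRingCat.of A)),
      Subsingleton (CohIII.fiberH (X ↘ Spec (CommRingCat.of A)) N y 1))
    (L : ChainComplex (ModuleCat.{u} A) ℤ)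
    (γ : CohIII.tensorAFunctor A N ⋙ CohIII.HAb X 1 ≅
      CohIII.TFun L (-((1 : ℕ) : ℤ)) ⋙ forget₂ (ModuleCat.{u} A) AddCommGrpCat.{u})
    (x : PrimeSpectrum A) :
    Subsingleton ↥((CohIII.bcCx (algebraMap A x.asIdeal.ResidueField) L).homology
      (-((1 : ℕ) : ℤ))) :=
  (subsingleton_fiberH_iff N (show ↥(Spec (CommRingCat.of A)) from x) L 1 γ).mp (h x)

section fibre

variable (y : ↥(Spec (CommRingCat.of A)))

theorem hK_ρκ (m : ↑((Spec (CommRingCat.of A)).residueField y)) :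
    ∃ a b : A, ρκ y a ≠ 0 ∧ ρκ y a * m = ρκ y b := by
  obtain ⟨a, b, ha, hab⟩ :=
    Groth.Agent.R2.H11.CbcInvNear.residueField_frac (yp y).asIdeal ((iκ y).symm m)
  have hρ : ∀ c : A, ρκ y c = (iκ y) (algebraMap A (yp y).asIdeal.ResidueField c) := fun c => rfl
  refine ⟨a, b, ?_, ?_⟩
  · rw [hρ]
    intro h0
    exact ha ((map_eq_zero_iff _ (iκ y).injective).mp h0)
  · rw [hρ, hρ, ← hab, map_mul, RingEquiv.apply_symm_apply]

theorem ρκ_ne_zero_iff (a : A) : ρκ y a ≠ 0 ↔ a ∉ (yp y).asIdeal := by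
  have hρ : ρκ y a = (iκ y) (algebraMap A (yp y).asIdeal.ResidueField a) := rfl
  rw [hρ, Ne, map_eq_zero_iff _ (iκ y).injective, Ideal.algebraMap_residueField_eq_zero]

/-- **LIFT at a point of an affine Noetherian base**: if `H^1` of all fibres of `N` vanishes then every section of
`N_y` over the fibre `X_y` is, up to a function `a ∉ p_y` on the base, the restriction of a global section of `N`. -/
theorem exists_fiber_lift [IsNoetherianRing A] [IsProper (X ↘ Spec (CommRingCat.of A))]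
    (hN : Coh.IsCoh N)
    (hfl : FlatMod.IsFlatOver (X ↘ Spec (CommRingCat.of A)) N)
    (h : ∀ y' : ↥(Spec (CommRingCat.of A)),
      Subsingleton (CohIII.fiberH (X ↘ Spec (CommRingCat.of A)) N y' 1))
    (u : Γ(CohIII.fiberMod (X ↘ Spec (CommRingCat.of A)) N y,
      ((X ↘ Spec (CommRingCat.of A)).fiberι y) ⁻¹ᵁ ⊤)) :
    ∃ (z : Γ(N, ⊤)) (a : A), a ∉ (yp y).asIdeal ∧
      unitSec ((X ↘ Spec (CommRingCat.of A)).fiberι y) N
          (le_refl (((X ↘ Spec (CommRingCat.of A)).fiberι y) ⁻¹ᵁ ⊤)) z =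
        (((X ↘ Spec (CommRingCat.of A)).fiberι y).appLE ⊤
          (((X ↘ Spec (CommRingCat.of A)).fiberι y) ⁻¹ᵁ ⊤) le_rfl).hom
            (αW (X ↘ Spec (CommRingCat.of A)) ⊤ a) • u := by
  haveI : N.IsQuasicoherent := hN.1
  haveI : CompactSpace X := Groth.Agent.R2.H16.CbcFinal.compactSpace_of_isProper A X
  obtain ⟨z, a, ha, hz⟩ := exists_unitSec_lift' A N hN hfl (hvan_of_fiberH A N h)
    (ρκ y) (hK_ρκ A y) (fiber_isPullback y) u
  exact ⟨z, a, (ρκ_ne_zero_iff A y a).mp ha, hz⟩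

end fibre

section local_base

/-- **LIFT over a local base**: `A` Noetherian local with closed point `y`, `X` proper over `A`, `N` coherent and flat
over `A` with `H^1(X_y, N_y) = 0`: every section of `N_y` over the closed fibre is the restriction of a global section
of `N` (the unit of the pullback–pushforward adjunction is surjective on global sections). -/
theorem surjective_unitSec_closedPoint [IsNoetherianRing A] [IsLocalRing A]
    [IsProper (X ↘ Spec (CommRingCat.of A))] (hN : Coh.IsCoh N)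
    (hfl : FlatMod.IsFlatOver (X ↘ Spec (CommRingCat.of A)) N)
    (h1 : Subsingleton (CohIII.fiberH (X ↘ Spec (CommRingCat.of A)) N
      (IsLocalRing.closedPoint A) 1)) :
    Function.Surjective (unitSec ((X ↘ Spec (CommRingCat.of A)).fiberι (IsLocalRing.closedPoint A)) N
      (le_refl (((X ↘ Spec (CommRingCat.of A)).fiberι (IsLocalRing.closedPoint A)) ⁻¹ᵁ ⊤))) := by
  obtain ⟨U, hyU, hU⟩ := Groth.Agent.R2.H11.CbcInvNear.exists_nhd_fiberH_subsingleton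
    (X ↘ Spec (CommRingCat.of A)) N hN hfl 1 (IsLocalRing.closedPoint A) h1
  have hall : ∀ y' : ↥(Spec (CommRingCat.of A)),
      Subsingleton (CohIII.fiberH (X ↘ Spec (CommRingCat.of A)) N y' 1) := by
    intro y'
    refine hU y' ?_
    have hsp : (show PrimeSpectrum A from y') ⤳ IsLocalRing.closedPoint A :=
      IsLocalRing.specializes_closedPoint _
    exact hsp.mem_open U.isOpen hyU
  intro u
  obtain ⟨z, a, ha, hz⟩ := exists_fiber_lift A N (IsLocalRing.closedPoint A) hN hfl hall u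
  have hunit : IsUnit a := by
    by_contra hna
    exact ha ((IsLocalRing.mem_maximalIdeal a).mpr hna)
  obtain ⟨b, hb⟩ := hunit.exists_left_inv
  refine ⟨αW (X ↘ Spec (CommRingCat.of A)) ⊤ b • z, ?_⟩
  rw [unitSec_smul, hz, ← mul_smul]
  have h2 : (((X ↘ Spec (CommRingCat.of A)).fiberι (IsLocalRing.closedPoint A)).appLE ⊤
      (((X ↘ Spec (CommRingCat.of A)).fiberι (IsLocalRing.closedPoint A)) ⁻¹ᵁ ⊤) le_rfl).hom
        (αW (X ↘ Spec (CommRingCat.of A)) ⊤ b) *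
      (((X ↘ Spec (CommRingCat.of A)).fiberι (IsLocalRing.closedPoint A)).appLE ⊤
      (((X ↘ Spec (CommRingCat.of A)).fiberι (IsLocalRing.closedPoint A)) ⁻¹ᵁ ⊤) le_rfl).hom
        (αW (X ↘ Spec (CommRingCat.of A)) ⊤ a) = 1 := by
    rw [← map_mul, ← map_mul, hb, map_one, map_one]
  exact (congrArg (· • u) h2).trans (one_smul _ u)

end local_base

section general_base

open Groth.Agent.R2.H16.CbcFIGlob

variable {X Y : Scheme.{u}} (f : X ⟶ Y)

/-- **LIFT over an affine open `V` of a locally Noetherian base** on which `H^1` of the fibres of `N` vanishes: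
every section `u` of `g_V^*(N|_{f⁻¹V})` over the fibre `X_y` (`g_V : X_y ⟶ f⁻¹V`, `y ∈ V`) is, up to a function
`a ∈ Γ(Y, V)` not vanishing at `y`, the pullback of a section `z` of `N` over `f⁻¹V`. -/
theorem exists_gV_lift_of_vanishing [IsProper f] [IsLocallyNoetherian Y] (N : X.Modules)
    (hN : Coh.IsCoh N) (hfl : FlatMod.IsFlatOver f N) {V : Y.Opens} (hV : IsAffineOpen V)
    (hvanV : ∀ y' ∈ V, Subsingleton (CohIII.fiberH f N y' 1)) (y : Y) (hyV : y ∈ V)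
    (u : Γ((Scheme.Modules.pullback (gV f hV.isoSpec y hyV)).obj (N.restrict (f ⁻¹ᵁ V).ι),
      (gV f hV.isoSpec y hyV) ⁻¹ᵁ ⊤)) :
    ∃ (z : Γ(N.restrict (f ⁻¹ᵁ V).ι, ⊤)) (a : ↑Γ(Y, V)), (ρYc hV.isoSpec y hyV).hom a ≠ 0 ∧
      unitSec (gV f hV.isoSpec y hyV) (N.restrict (f ⁻¹ᵁ V).ι)
          (le_refl ((gV f hV.isoSpec y hyV) ⁻¹ᵁ ⊤)) z =
        ((gV f hV.isoSpec y hyV).appLE ⊤ ((gV f hV.isoSpec y hyV) ⁻¹ᵁ ⊤) le_rfl).hom
          (αW ((f ∣_ V) ≫ hV.isoSpec.hom) ⊤ a) • u := by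
  letI := overV (A := ↑Γ(Y, V)) f hV.isoSpec
  haveI : IsNoetherianRing ↑Γ(Y, V) := IsLocallyNoetherian.component_noetherian ⟨V, hV⟩
  haveI hprop : IsProper ((f ⁻¹ᵁ V).toScheme ↘ Spec (CommRingCat.of ↑Γ(Y, V))) :=
    isProper_overV (A := ↑Γ(Y, V)) f hV.isoSpec
  haveI : IsSeparated ((f ∣_ V) ≫ hV.isoSpec.hom) :=
    (isProper_overV (A := ↑Γ(Y, V)) f hV.isoSpec).toIsSeparated
  haveI : CompactSpace ↥(f ⁻¹ᵁ V).toScheme :=
    Groth.Agent.R2.H16.CbcFinal.compactSpace_of_isProper ↑Γ(Y, V) (f ⁻¹ᵁ V).toScheme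
  haveI : N.IsQuasicoherent := hN.1
  have hcohV := isCoh_restrict f N (V := V) hN
  haveI : (N.restrict (f ⁻¹ᵁ V).ι).IsQuasicoherent := hcohV.1
  have hflV := isFlatOver_restrict (A := ↑Γ(Y, V)) f N hV.isoSpec hfl
  have hvan : ∀ (L : ChainComplex (ModuleCat.{u} ↑Γ(Y, V)) ℤ)
      (_ : CohIII.tensorAFunctor ↑Γ(Y, V) (N.restrict (f ⁻¹ᵁ V).ι) ⋙
          CohIII.HAb (f ⁻¹ᵁ V).toScheme 1 ≅
        CohIII.TFun L (-((1 : ℕ) : ℤ)) ⋙ forget₂ (ModuleCat.{u} ↑Γ(Y, V)) AddCommGrpCat.{u})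
      (x : PrimeSpectrum ↑Γ(Y, V)),
      Subsingleton ↥((CohIII.bcCx (algebraMap ↑Γ(Y, V) x.asIdeal.ResidueField) L).homology
        (-((1 : ℕ) : ℤ))) := by
    intro L γ x
    have hy' := Groth.Agent.Lib.Helper2.QCoh.fromSpec_mem hV x
    have h2 := (subsingleton_fiberH_iff_glob (A := ↑Γ(Y, V)) f N hV.isoSpec (hV.fromSpec x) hy' _
      (eRestrict f N) L 1 γ).mp (hvanV _ hy')
    have key : ∀ z : PrimeSpectrum ↑Γ(Y, V), z = x →
        Subsingleton ↥((CohIII.bcCx (algebraMap ↑Γ(Y, V) (yp z).asIdeal.ResidueField) L).homology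
          (-((1 : ℕ) : ℤ))) →
        Subsingleton ↥((CohIII.bcCx (algebraMap ↑Γ(Y, V) x.asIdeal.ResidueField) L).homology
          (-((1 : ℕ) : ℤ))) := by
      rintro z rfl h
      exact h
    exact key _ (Groth.Agent.Lib.Helper2.QCoh.primeIdealOf_fromSpec hV x) h2
  exact exists_unitSec_lift' ↑Γ(Y, V) (N.restrict (f ⁻¹ᵁ V).ι) hcohV hflV hvan
    (K := ↑(Y.residueField y)) (ρYc hV.isoSpec y hyV).hom
    (Groth.Agent.R2.H11.CbcInvNear.hK_ρYc hV.isoSpec y hyV) (isPullback_gV f hV.isoSpec y hyV) u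

/-- **LIFT near a fibre with `H^1(X_y, N_y) = 0`**: there is an affine open neighbourhood `V` of `y` over which the
lifting property `exists_gV_lift_of_vanishing` holds (at every point of `V`). -/
theorem exists_nhd_gV_lift [IsProper f] [IsLocallyNoetherian Y] (N : X.Modules)
    (hN : Coh.IsCoh N) (hfl : FlatMod.IsFlatOver f N) (y : Y)
    (h1 : Subsingleton (CohIII.fiberH f N y 1)) :
    ∃ (V : Y.Opens) (hV : IsAffineOpen V) (hyV : y ∈ V),
      (∀ y' ∈ V, Subsingleton (CohIII.fiberH f N y' 1)) ∧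
      ∀ u : Γ((Scheme.Modules.pullback (gV f hV.isoSpec y hyV)).obj (N.restrict (f ⁻¹ᵁ V).ι),
        (gV f hV.isoSpec y hyV) ⁻¹ᵁ ⊤),
      ∃ (z : Γ(N.restrict (f ⁻¹ᵁ V).ι, ⊤)) (a : ↑Γ(Y, V)), (ρYc hV.isoSpec y hyV).hom a ≠ 0 ∧
        unitSec (gV f hV.isoSpec y hyV) (N.restrict (f ⁻¹ᵁ V).ι)
            (le_refl ((gV f hV.isoSpec y hyV) ⁻¹ᵁ ⊤)) z =
          ((gV f hV.isoSpec y hyV).appLE ⊤ ((gV f hV.isoSpec y hyV) ⁻¹ᵁ ⊤) le_rfl).hom
            (αW ((f ∣_ V) ≫ hV.isoSpec.hom) ⊤ a) • u := by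
  obtain ⟨U₁, hyU₁, hU₁⟩ := Groth.Agent.R2.H11.CbcInvNear.exists_nhd_fiberH_subsingleton
    f N hN hfl 1 y h1
  obtain ⟨V, hV, hyV, hVU₁⟩ := exists_isAffineOpen_mem_and_subset (x := y) (U := U₁) hyU₁
  exact ⟨V, hV, hyV, fun y' hy' => hU₁ y' (hVU₁ hy'),
    exists_gV_lift_of_vanishing f N hN hfl hV (fun y' hy' => hU₁ y' (hVU₁ hy')) y hyV⟩

end general_base

end Groth.Agent.R2.H11.CbcLift
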