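import Mathlib
import Groth.Agent.R2.H11CbcFinal
import Groth.Agent.R2.H62CohLES

/-!
# PROJ:cbc — the Mumford complex in cohomological indexing (consumer S2414)   (helper11)
-/

set_option autoImplicit false
universe u

open CategoryTheory CategoryTheory.Limits AlgebraicGeometry Opposite TopologicalSpace MonoidalCategory

namespace Groth.Agent.R2.H11.CbcMumford

section Neg

variable {C : Type*} [Category C] [Abelian C]

/-- a chain complex indexed by `ℤ` as a cochain complex (`i ↦ -i`) -/
def negCx (K : ChainComplex C ℤ) : CochainComplex C ℤ where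
  X i := K.X (-i)
  d i j := K.d (-i) (-j)
  shape i j h := K.shape _ _ (by
    simp only [ComplexShape.up_Rel, ComplexShape.down_Rel] at h ⊢
    omega)
  d_comp_d' i j k _ _ := K.d_comp_d _ _ _

/-- homology of the reindexed complex -/
noncomputable def negCxHomologyIso (K : ChainComplex C ℤ) (p : ℤ) :
    (negCx K).homology p ≅ K.homology (-p) :=
  ShortComplex.homologyMapIso
    ((negCx K).isoSc' (p - 1) p (p + 1) (by simp) (by simp) ≪≫
      (K.isoSc' (-(p - 1)) (-p) (-(p + 1)) (by simp; omega) (by simp; omega)).symm)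

end Neg

section S2414

open Groth.Agent.R2.H62.CohLES

variable (A : Type u) [CommRing A] {X : Scheme.{u}} [X.Over (Spec (CommRingCat.of A))]
  (F : X.Modules)

/-- symmetry of the presheaf tensor product -/
noncomputable def tensorPreSymm (M N : X.Modules) : CohB1.tensorPre M N ≅ CohB1.tensorPre N M :=
  β_ (CohB1.toPMod M) (CohB1.toPMod N)

/-- symmetry of the tensor product of `O_X`-modules -/
noncomputable def tensorModSymm (M N : X.Modules) : CohB1.tensorMod M N ≅ CohB1.tensorMod N M :=
  (CohB1.sheafifyMod X).mapIso (show (show X.PresheafOfModules from CohB1.tensorPre M N) ≅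
    (show X.PresheafOfModules from CohB1.tensorPre N M) from tensorPreSymm M N)

/-- `F ⊗_A M` in its two incarnations -/
noncomputable def tensorAIso (M : Type u) [AddCommGroup M] [Module A M] :
    CohIII.tensorA A F M ≅ (CohIII.tensorAFunctor A F).obj (ModuleCat.of A M) :=
  tensorModSymm _ _

/-- the additive equivalence on cohomology induced by an isomorphism of modules -/
noncomputable def HHequiv {M N : X.Modules} (φ : M ≅ N) (p : ℕ) : Coh.HH X M p ≃+ Coh.HH X N p where
  toFun := HHmap φ.hom p
  invFun := HHmap φ.inv p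
  left_inv x := by
    rw [← HHmap_comp, φ.hom_inv_id]
    exact HHmap_id p x
  right_inv x := by
    rw [← HHmap_comp, φ.inv_hom_id]
    exact HHmap_id p x
  map_add' := map_add _

/-- **S2414 modulo finiteness of cohomology.** -/
theorem s2414_of [IsNoetherianRing A] [IsProper (X ↘ Spec (CommRingCat.of A))]
    (hF : Coh.IsCoh F) (hfl : FlatMod.IsFlatOver (X ↘ Spec (CommRingCat.of A)) F)
    (hfinH : ∀ n, Module.Finite A (Coh.HH X F n)) :
    ∃ L : CochainComplex (ModuleCat.{u} A) ℤ,
      (∀ i, Module.Finite A (L.X i) ∧ Module.Free A (L.X i)) ∧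
      (∃ b : ℤ, ∀ i, b < i → IsZero (L.X i)) ∧
      ∀ (M : Type u) [AddCommGroup M] [Module A M] (p : ℕ),
        Nonempty (Coh.HH X (CohIII.tensorA A F M) p ≃+
          CohIII.T L (p : ℤ) (ModuleCat.of A M)) := by
  obtain ⟨L, d, hL, hLz, -, hiso⟩ := Groth.Agent.R2.H11.CbcFinal.exists_bridge' A F hF.1 hfl hfinH
  refine ⟨negCx L, fun i => hL (-i), ⟨d, fun i hi => hLz (-i) (by omega)⟩, ?_⟩
  intro M _ _ p
  obtain ⟨e⟩ := hiso p
  let e1 : Coh.HH X (CohIII.tensorA A F M) p ≃+
      Coh.HH X ((CohIII.tensorAFunctor A F).obj (ModuleCat.of A M)) p :=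
    HHequiv (tensorAIso A F M) p
  let e2 : Coh.HH X ((CohIII.tensorAFunctor A F).obj (ModuleCat.of A M)) p ≃+
      CohIII.T L (-(p : ℤ)) (ModuleCat.of A M) :=
    (e.app (ModuleCat.of A M)).addCommGroupIsoToAddEquiv
  let e3 : CohIII.T (negCx L) (p : ℤ) (ModuleCat.of A M) ≃+
      CohIII.T L (-(p : ℤ)) (ModuleCat.of A M) :=
    (negCxHomologyIso (CohIII.tensorObj L (ModuleCat.of A M)) (p : ℤ)).toLinearEquiv.toAddEquiv
  exact ⟨(e1.trans e2).trans e3.symm⟩

end S2414

end Groth.Agent.R2.H11.CbcMumford
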