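import Mathlib
import Groth.Agent.R2.H12Dev3C

/-!
# Devissage with a length-one generic stalk, part A (helper12)

* `nonempty_tensor_equiv_of_away`: an isomorphism of localizations away from `r` gives an isomorphism of base changes
  to any localization away from `r`.
* `exists_restrict_iso_of_stalk_equiv`: two coherent modules on a locally Noetherian scheme with isomorphic stalks at
  `x` are isomorphic over an affine open neighbourhood of `x`.
-/

set_option autoImplicit false
universe u
open CategoryTheory Limits AlgebraicGeometry TopologicalSpace Opposite TensorProduct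

namespace Groth.Agent.R2.H12.Dev

open Groth.Agent.Lib.Helper2.FlatOver Groth.Agent.Lib.Helper2.QCoh
open Groth.Agent.Lib.Helper20.LocFree Groth.Agent.Lib.Helper20.PullbackAff Groth.Agent.Lib.Helper20.Thickening
open Groth.Agent.Lib.Helper23.FinType

theorem nonempty_tensor_equiv_of_away {A : Type u} [CommRing A] (r : A) (A' : Type u) [CommRing A'] [Algebra A A']
    [IsLocalization.Away r A'] (M N : Type u) [AddCommGroup M] [Module A M] [AddCommGroup N] [Module A N]
    (l : LocalizedModule.Away r M ≃ₗ[Localization.Away r] LocalizedModule.Away r N) :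
    Nonempty (A' ⊗[A] M ≃ₗ[A'] A' ⊗[A] N) := by
  have hM : IsLocalizedModule (Submonoid.powers r) (TensorProduct.mk A A' M 1) :=
    (isLocalizedModule_iff_isBaseChange (Submonoid.powers r) A' _).2 (TensorProduct.isBaseChange A M A')
  have hN : IsLocalizedModule (Submonoid.powers r) (TensorProduct.mk A A' N 1) :=
    (isLocalizedModule_iff_isBaseChange (Submonoid.powers r) A' _).2 (TensorProduct.isBaseChange A N A')
  let e : A' ⊗[A] M ≃ₗ[A] A' ⊗[A] N :=
    (IsLocalizedModule.iso (Submonoid.powers r) (TensorProduct.mk A A' M 1)).symm ≪≫ₗ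
      (l.restrictScalars A) ≪≫ₗ (IsLocalizedModule.iso (Submonoid.powers r) (TensorProduct.mk A A' N 1))
  exact ⟨LinearEquiv.extendScalarsOfIsLocalization (Submonoid.powers r) A' e⟩

set_option linter.style.haveILetI false in
/-- coherent modules with isomorphic stalks at `x` are isomorphic near `x` -/
theorem exists_restrict_iso_of_stalk_equiv {X : Scheme.{u}} [IsLocallyNoetherian X] (G E : X.Modules)
    (hG : Coh.IsCoh G) (hE : Coh.IsCoh E) (x : X)
    (l : G.presheaf.stalk x ≃ₗ[X.presheaf.stalk x] E.presheaf.stalk x) :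
    ∃ (D : X.Opens) (hD : IsAffineOpen D), x ∈ D ∧
      Nonempty ((Scheme.Modules.restrictFunctor hD.fromSpec).obj G ≅
        (Scheme.Modules.restrictFunctor hD.fromSpec).obj E) := by
  haveI hGq : G.IsQuasicoherent := hG.1
  haveI hEq : E.IsQuasicoherent := hE.1
  haveI hGf : SheafOfModules.IsFiniteType (R := X.ringCatSheaf) G := hG.2
  haveI hEf : SheafOfModules.IsFiniteType (R := X.ringCatSheaf) E := hE.2
  obtain ⟨U, hU, hxU, -⟩ := exists_isAffineOpen_mem_and_subset (x := x) (U := ⊤) trivial
  haveI hR : IsNoetherianRing Γ(X, U) := IsLocallyNoetherian.component_noetherian ⟨U, hU⟩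
  haveI hGfin : Module.Finite Γ(X, U) Γ(G, U) := finite_of_isFiniteType G hU
  haveI hEfin : Module.Finite Γ(X, U) Γ(E, U) := finite_of_isFiniteType E hU
  haveI hGfin' : Module.Finite Γ(X, U) ((ΓUF hU).obj G) := Module.Finite.equiv (ΓUEquiv hU G)
  haveI hEfin' : Module.Finite Γ(X, U) ((ΓUF hU).obj E) := Module.Finite.equiv (ΓUEquiv hU E)
  haveI hGfp : Module.FinitePresentation Γ(X, U) ((ΓUF hU).obj G) := Module.finitePresentation_of_finite _ _
  haveI hEfp : Module.FinitePresentation Γ(X, U) ((ΓUF hU).obj E) := Module.finitePresentation_of_finite _ _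
  set S := (hU.primeIdealOf ⟨x, hxU⟩).asIdeal.primeCompl with hS
  letI := X.presheaf.algebra_section_stalk ⟨x, hxU⟩
  letI mG := moduleStalkSections G U x hxU
  letI mE := moduleStalkSections E U x hxU
  haveI tG : IsScalarTower Γ(X, U) (X.presheaf.stalk x) (G.presheaf.stalk x) := by
    refine ⟨fun a b y => ?_⟩
    change (X.presheaf.germ U x hxU a * b) • y = X.presheaf.germ U x hxU a • (b • y)
    rw [mul_smul]
  haveI tE : IsScalarTower Γ(X, U) (X.presheaf.stalk x) (E.presheaf.stalk x) := by
    refine ⟨fun a b y => ?_⟩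
    change (X.presheaf.germ U x hxU a * b) • y = X.presheaf.germ U x hxU a • (b • y)
    rw [mul_smul]
  haveI := isLocalizedModule_germ hU G x hxU
  haveI := isLocalizedModule_germ hU E x hxU
  let gG : (ΓUF hU).obj G →ₗ[Γ(X, U)] G.presheaf.stalk x :=
    (germₗ G U x hxU).comp (ΓUEquiv hU G).symm.toLinearMap
  let gE : (ΓUF hU).obj E →ₗ[Γ(X, U)] E.presheaf.stalk x :=
    (germₗ E U x hxU).comp (ΓUEquiv hU E).symm.toLinearMap
  haveI : IsLocalizedModule S gG := IsLocalizedModule.of_linearEquiv_right S (germₗ G U x hxU) _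
  haveI : IsLocalizedModule S gE := IsLocalizedModule.of_linearEquiv_right S (germₗ E U x hxU) _
  obtain ⟨r, hr, l', -⟩ := Module.FinitePresentation.exists_lift_equiv_of_isLocalizedModule S gG gE
    (l.restrictScalars Γ(X, U))
  have hD : IsAffineOpen (X.basicOpen r) := hU.basicOpen r
  have hxD : x ∈ X.basicOpen r :=
    (Groth.Agent.Lib.Helper2.mem_basicOpen_iff_notMem_primeIdealOf hU x hxU r).2 hr
  have hle : X.basicOpen r ≤ (𝟙 X) ⁻¹ᵁ U := X.basicOpen_le r
  letI : Algebra Γ(X, U) Γ(X, X.basicOpen r) :=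
    (Scheme.Hom.appLE (𝟙 X) U (X.basicOpen r) hle).hom.toAlgebra
  haveI : IsLocalization.Away r Γ(X, X.basicOpen r) := by
    convert hU.isLocalization_basicOpen r using 1
    change RingHom.toAlgebra _ = RingHom.toAlgebra _
    congr 1
  obtain ⟨eT⟩ := nonempty_tensor_equiv_of_away r Γ(X, X.basicOpen r) ((ΓUF hU).obj G) ((ΓUF hU).obj E) l'
  let eM : (ModuleCat.extendScalars (Scheme.Hom.appLE (𝟙 X) U (X.basicOpen r) hle).hom).obj ((ΓUF hU).obj G) ≅
      (ModuleCat.extendScalars (Scheme.Hom.appLE (𝟙 X) U (X.basicOpen r) hle).hom).obj ((ΓUF hU).obj E) :=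
    eT.toModuleIso
  let iG : (Scheme.Modules.restrictFunctor hD.fromSpec).obj G ≅ _ :=
    (Scheme.Modules.restrictFunctor hD.fromSpec).mapIso ((Scheme.Modules.pullbackId X).app G).symm ≪≫
      restrictPullbackIso (𝟙 X) hU hD hle G
  let iE : (Scheme.Modules.restrictFunctor hD.fromSpec).obj E ≅ _ :=
    (Scheme.Modules.restrictFunctor hD.fromSpec).mapIso ((Scheme.Modules.pullbackId X).app E).symm ≪≫
      restrictPullbackIso (𝟙 X) hU hD hle E
  exact ⟨X.basicOpen r, hD, hxD, ⟨iG ≪≫ (tilde.functor _).mapIso eM ≪≫ iE.symm⟩⟩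

end Groth.Agent.R2.H12.Dev
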