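import Mathlib
import Groth.Prelude.Def_DerSch
import Groth.Prelude.Def_DTor2
import Groth.Agent.Lib.Helper1KBC4

/-!
# Stalks of the pushforward of a module along a topological embedding; the stalk functor on derived categories (helper27)
-/

set_option autoImplicit false
universe u
open CategoryTheory CategoryTheory.Limits AlgebraicGeometry Opposite TopologicalSpace
attribute [local instance] HasDerivedCategory.standard

namespace Groth.Agent.R2.H27.PushStalk

variable {X X' : Scheme.{u}} (i : X ⟶ X')

/-- germ/smul compatibility for modules over a scheme -/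
theorem germ_smul (F : X.Modules) (U : X.Opens) (x : X) (hx : x ∈ U) (r : Γ(X, U)) (m : Γ(F, U)) :
    F.presheaf.germ U x hx (r • m) = X.presheaf.germ U x hx r • F.presheaf.germ U x hx m :=
  PresheafOfModules.germ_smul (R := X.presheaf)
    (show PresheafOfModules (X.presheaf ⋙ forget₂ CommRingCat RingCat) from F.val) x U hx r m

/-- the canonical additive map `(i_* M)_{i x} → M_x` -/
noncomputable def pushStalkAb (M : X.Modules) (x : X) :
    ((Scheme.Modules.pushforward i).obj M).presheaf.stalk (i.base x) ⟶ M.presheaf.stalk x :=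
  TopCat.Presheaf.stalkPushforward Ab i.base M.presheaf x

theorem pushStalkAb_germ (M : X.Modules) (x : X) (U : X'.Opens) (hx : i.base x ∈ U)
    (s : Γ((Scheme.Modules.pushforward i).obj M, U)) :
    pushStalkAb i M x (((Scheme.Modules.pushforward i).obj M).presheaf.germ U (i.base x) hx s) =
      M.presheaf.germ (i ⁻¹ᵁ U) x hx s := by
  exact TopCat.Presheaf.stalkPushforward_germ_apply Ab i.base M.presheaf U x hx s

/-- the `O_{X'}`-action on sections of the pushforward is through `i^♯` -/
theorem pushforward_smul (M : X.Modules) (U : X'.Opens) (r : Γ(X', U))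
    (s : Γ((Scheme.Modules.pushforward i).obj M, U)) :
    (r • s : Γ((Scheme.Modules.pushforward i).obj M, U)) =
      ((i.app U r • (show Γ(M, i ⁻¹ᵁ U) from s) : Γ(M, i ⁻¹ᵁ U))) := rfl

theorem pushStalkAb_smul (M : X.Modules) (x : X) (r : X'.presheaf.stalk (i.base x))
    (m : ((Scheme.Modules.pushforward i).obj M).presheaf.stalk (i.base x)) :
    pushStalkAb i M x (r • m) = (i.stalkMap x r) • pushStalkAb i M x m := by
  obtain ⟨U, hU, s, rfl⟩ := X'.presheaf.exists_germ_eq (x := i.base x) r
  obtain ⟨V, hV, t, rfl⟩ := ((Scheme.Modules.pushforward i).obj M).presheaf.exists_germ_eq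
    (x := i.base x) m
  have hW : i.base x ∈ U ⊓ V := ⟨hU, hV⟩
  have hs := X'.presheaf.germ_res_apply (homOfLE inf_le_left : U ⊓ V ⟶ U) (i.base x) hW s
  have ht := ((Scheme.Modules.pushforward i).obj M).presheaf.germ_res_apply
    (homOfLE inf_le_right : U ⊓ V ⟶ V) (i.base x) hW t
  rw [← hs, ← ht]
  generalize X'.presheaf.map (homOfLE inf_le_left : U ⊓ V ⟶ U).op s = s'
  generalize ((Scheme.Modules.pushforward i).obj M).presheaf.map
    (homOfLE inf_le_right : U ⊓ V ⟶ V).op t = t'
  rw [← germ_smul, pushStalkAb_germ, pushStalkAb_germ, pushforward_smul, germ_smul]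
  congr 1
  exact (Scheme.Hom.germ_stalkMap_apply i (U ⊓ V) x hW s').symm

theorem pushStalkAb_bijective (hi : Topology.IsInducing i.base) (M : X.Modules) (x : X) :
    Function.Bijective (pushStalkAb i M x) := by
  have h2 : IsIso (pushStalkAb i M x) :=
    TopCat.Presheaf.stalkPushforward.stalkPushforward_iso_of_isInducing _ hi _ _
  exact ConcreteCategory.bijective_of_isIso _

/-- `(i_* M)_{i x} → M_x`, linear over `O_{X', i x}` -/
noncomputable def pushStalkLin (M : X.Modules) (x : X) :
    ((DerSch.stalkFunctor X' (i.base x)).obj ((Scheme.Modules.pushforward i).obj M)) →ₗ[X'.presheaf.stalk (i.base x)]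
      ((DerSch.stalkOver i x).obj M) where
  toFun := fun m => pushStalkAb i M x m
  map_add' := fun a b => map_add (pushStalkAb i M x).hom a b
  map_smul' := fun r m => pushStalkAb_smul i M x r m

/-- `(i_* M)_{i x} ≃ M_x`, linear over `O_{X', i x}` -/
noncomputable def pushStalkEquiv (hi : Topology.IsInducing i.base) (M : X.Modules) (x : X) :
    ((DerSch.stalkFunctor X' (i.base x)).obj ((Scheme.Modules.pushforward i).obj M)) ≃ₗ[X'.presheaf.stalk (i.base x)]
      ((DerSch.stalkOver i x).obj M) :=
  LinearEquiv.ofBijective (pushStalkLin i M x) (pushStalkAb_bijective i hi M x)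

/-- the stalk of `i_*` at `i x` is the stalk at `x`, as modules over `O_{X', i x}` -/
noncomputable def pushStalkIso (hi : Topology.IsInducing i.base) (x : X) :
    Scheme.Modules.pushforward i ⋙ DerSch.stalkFunctor X' (i.base x) ≅ DerSch.stalkOver i x :=
  NatIso.ofComponents (fun M => (pushStalkEquiv i hi M x).toModuleIso) (fun {M N} φ => by
    ext m
    obtain ⟨U, hU, s, rfl⟩ := ((Scheme.Modules.pushforward i).obj M).presheaf.exists_germ_eq
      (x := i.base x) m
    show pushStalkAb i N x ((DerSch.stalkFunctor X' (i.base x)).map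
        ((Scheme.Modules.pushforward i).map φ)
        (((Scheme.Modules.pushforward i).obj M).presheaf.germ U (i.base x) hU s)) =
      (DerSch.stalkFunctor X x).map φ (pushStalkAb i M x
        (((Scheme.Modules.pushforward i).obj M).presheaf.germ U (i.base x) hU s))
    rw [DerSch.stalkFunctor_map_germ, pushStalkAb_germ, pushStalkAb_germ,
      DerSch.stalkFunctor_map_germ]
    rfl)

/-- complex level: the stalk complex of `i_* F` at `i x` is the stalk complex of `F` at `x` over `O_{X', i x}` -/
noncomputable def pushStalkCxIso (hi : Topology.IsInducing i.base) (x : X)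
    (F : CochainComplex X.Modules ℤ) :
    ((DerSch.stalkFunctor X' (i.base x)).mapHomologicalComplex (ComplexShape.up ℤ)).obj
        (((Scheme.Modules.pushforward i).mapHomologicalComplex (ComplexShape.up ℤ)).obj F) ≅
      (DerSch.stalkCxOver i x).obj F :=
  (NatIso.mapHomologicalComplex (pushStalkIso i hi x) (ComplexShape.up ℤ)).app F

section Derived

variable (x : X)

instance : PreservesFiniteLimits (DerSch.stalkFunctor X x) :=
  preservesFiniteLimits_of_natIso (Groth.Agent.Lib.Helper1.KBC.stalkFunctorIso x).symm

instance : PreservesFiniteColimits (DerSch.stalkFunctor X x) :=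
  preservesFiniteColimits_of_natIso (Groth.Agent.Lib.Helper1.KBC.stalkFunctorIso x).symm

/-- the stalk functor on derived categories -/
noncomputable def stalkD : DCoh.D X ⥤ Dual.D (X.presheaf.stalk x) :=
  (DerSch.stalkFunctor X x).mapDerivedCategory

noncomputable def stalkDFactors :
    DerivedCategory.Q ⋙ stalkD x ≅
      (DerSch.stalkFunctor X x).mapHomologicalComplex (ComplexShape.up ℤ) ⋙ DerivedCategory.Q :=
  (DerSch.stalkFunctor X x).mapDerivedCategoryFactors

/-- an isomorphism in `D(O_X)` gives an isomorphism of stalk complexes in `D(O_{X,x})` -/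
noncomputable def stalkDIso {K L : CochainComplex X.Modules ℤ} (e : DCoh.toD X K ≅ DCoh.toD X L) :
    DRing.toD (((DerSch.stalkFunctor X x).mapHomologicalComplex (ComplexShape.up ℤ)).obj K) ≅
      DRing.toD (((DerSch.stalkFunctor X x).mapHomologicalComplex (ComplexShape.up ℤ)).obj L) :=
  ((stalkDFactors x).app K).symm ≪≫ (stalkD x).mapIso e ≪≫ (stalkDFactors x).app L

end Derived

/-- flat amplitude on `X` gives stalkwise tor amplitude -/
theorem hasTorAmp_stalk_of_hasFlatAmplitudeIn (K : CochainComplex X.Modules ℤ) (a b : ℤ)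
    (hK : DCoh.HasFlatAmplitudeIn a b (DCoh.toD X K)) (x : X) :
    DRing.HasTorAmplitudeIn (X.presheaf.stalk x) a b
      (DRing.toD (((DerSch.stalkFunctor X x).mapHomologicalComplex (ComplexShape.up ℤ)).obj K)) := by
  obtain ⟨E, hE, hflat, ⟨e⟩⟩ := hK
  refine ⟨((DerSch.stalkFunctor X x).mapHomologicalComplex (ComplexShape.up ℤ)).obj E, ?_, ?_,
    ⟨stalkDIso x e⟩⟩
  · intro j hj
    exact (DerSch.stalkFunctor X x).map_isZero (hE j hj)
  · intro j
    exact hflat j x

end Groth.Agent.R2.H27.PushStalk
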