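import Mathlib
import Groth.Agent.R2.H12Dev4A
import Groth.Agent.R2.H27PushStalk
import Groth.Agent.Lib.Helper23UnitStalk

/-!
# Devissage with a length-one generic stalk, part B (helper12)

* `isSimpleModule_stalk_push_structureModule`: the stalk of `i_* O_Z` at the image of the generic point of an integral
  closed subscheme is a simple module.
* `exists_zigzag_of_restrict_iso`: coherent modules isomorphic over an open are connected by a zigzag of morphisms of
  coherent modules which are isomorphisms over that open.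
* `transfer_on`, `push_structure_of_simple`, `push_ideal_of_simple`.
* `devissage_core_gen`: the chain induction, with the treatment of `i_* I` as a hypothesis.
* `devissage_core_simple`: the devissage theorem for a class closed under two-out-of-three, given for each integral
  closed subscheme a coherent member supported on it whose generic stalk is simple.
-/

set_option autoImplicit false
universe u
open CategoryTheory Limits AlgebraicGeometry TopologicalSpace Opposite TensorProduct

namespace Groth.Agent.R2.H12.Dev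

open Groth.Agent.Lib.Helper23.QCohLocal Groth.Agent.Lib.Helper2.Push Groth.Agent.Lib.Helper2.QCoh
  Groth.Agent.Lib.Helper23.FinType Groth.Agent.Lib.Helper23.ModLocal Groth.Agent.Lib.Helper23.Extend
open Groth.Agent.R2.H27.PushStalk Groth.Agent.Lib.Helper23.UnitStalk

attribute [local instance] restrictFunctor_isRightAdjoint

/-- the stalk of `i_* O_Z` at the image of the generic point of the integral closed subscheme `Z` is a simple module -/
theorem isSimpleModule_stalk_push_structureModule {X Z : Scheme.{u}} (i : Z ⟶ X) [IsClosedImmersion i]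
    [IsIntegral Z] :
    IsSimpleModule (X.presheaf.stalk (i (genericPoint Z)))
      (((Scheme.Modules.pushforward i).obj (Coh.structureModule Z)).presheaf.stalk (i (genericPoint Z))) := by
  have hKK : IsSimpleModule (Z.presheaf.stalk (genericPoint Z)) (Z.presheaf.stalk (genericPoint Z)) :=
    inferInstanceAs (IsSimpleModule Z.functionField Z.functionField)
  have hK : IsSimpleModule (Z.presheaf.stalk (genericPoint Z))
      ((Coh.structureModule Z).presheaf.stalk (genericPoint Z)) :=
    IsSimpleModule.congr (unitStalkEquiv (genericPoint Z)).symm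
  have hsurj : RingHomSurjective (i.stalkMap (genericPoint Z)).hom := ⟨i.stalkMap_surjective (genericPoint Z)⟩
  let ψ : ((Scheme.Modules.pushforward i).obj (Coh.structureModule Z)).presheaf.stalk (i (genericPoint Z))
      →ₛₗ[(i.stalkMap (genericPoint Z)).hom] (Coh.structureModule Z).presheaf.stalk (genericPoint Z) :=
    { toFun := fun m => pushStalkAb i (Coh.structureModule Z) (genericPoint Z) m
      map_add' := fun a b => map_add (pushStalkAb i (Coh.structureModule Z) (genericPoint Z)).hom a b
      map_smul' := fun r m => pushStalkAb_smul i (Coh.structureModule Z) (genericPoint Z) r m }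
  exact (LinearMap.isSimpleModule_iff_of_bijective ψ
    (pushStalkAb_bijective i i.isEmbedding.isInducing (Coh.structureModule Z) (genericPoint Z))).2 hK

/-- two simple modules over a local ring are isomorphic -/
theorem nonempty_linearEquiv_of_isSimpleModule {R : Type u} [CommRing R] [IsLocalRing R] (M N : Type u)
    [AddCommGroup M] [Module R M] [AddCommGroup N] [Module R N] (hM : IsSimpleModule R M)
    (hN : IsSimpleModule R N) : Nonempty (M ≃ₗ[R] N) := by
  obtain ⟨I, hI, ⟨e⟩⟩ := isSimpleModule_iff_quot_maximal.1 hM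
  obtain ⟨J, hJ, ⟨e'⟩⟩ := isSimpleModule_iff_quot_maximal.1 hN
  have h1 : I = IsLocalRing.maximalIdeal R := IsLocalRing.eq_maximalIdeal hI
  have h2 : J = IsLocalRing.maximalIdeal R := IsLocalRing.eq_maximalIdeal hJ
  subst h1
  subst h2
  exact ⟨e ≪≫ₗ e'.symm⟩

theorem VanOn.biprod {X : Scheme.{u}} {A B : X.Modules} {W : X.Opens} (hA : VanOn A W) (hB : VanOn B W) :
    VanOn (A ⊞ B) W := by
  intro W' hW' s
  have h1 : (biprod.fst ≫ biprod.inl + biprod.snd ≫ biprod.inr : A ⊞ B ⟶ A ⊞ B).app W' s = s := by
    rw [biprod.total]; rfl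
  rw [← h1, Scheme.Modules.Hom.add_app, Scheme.Modules.Hom.comp_app, Scheme.Modules.Hom.comp_app]
  have h2 : (biprod.fst : A ⊞ B ⟶ A).app W' s = 0 := hA W' hW' _
  have h3 : (biprod.snd : A ⊞ B ⟶ B).app W' s = 0 := hB W' hW' _
  change (biprod.inl : A ⟶ A ⊞ B).app W' ((biprod.fst : A ⊞ B ⟶ A).app W' s) +
    (biprod.inr : B ⟶ A ⊞ B).app W' ((biprod.snd : A ⊞ B ⟶ B).app W' s) = 0
  rw [h2, h3, map_zero, map_zero, add_zero]

section Zigzag
variable {X : Scheme.{u}} [IsLocallyNoetherian X]

/-- coherent modules isomorphic over an open are connected by a zigzag of morphisms of coherent modules which are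
isomorphisms over that open -/
theorem exists_zigzag_of_restrict_iso {W : Scheme.{u}} (j : W ⟶ X) [IsOpenImmersion j] [QuasiCompact j]
    [QuasiSeparated j] (G E : X.Modules) (hG : Coh.IsCoh G) (hE : Coh.IsCoh E)
    (θ : (Scheme.Modules.restrictFunctor j).obj E ≅ (Scheme.Modules.restrictFunctor j).obj G) :
    ∃ (H₀ : X.Modules) (pG : H₀ ⟶ G) (pE : H₀ ⟶ E),
      Coh.IsCoh H₀ ∧ IsoOn pG j.opensRange ∧ IsoOn pE j.opensRange ∧
        ∀ W₁ : X.Opens, VanOn G W₁ → VanOn E W₁ → VanOn H₀ W₁ := by
  have hGq : G.IsQuasicoherent := hG.1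
  have hGf : SheafOfModules.IsFiniteType (R := X.ringCatSheaf) G := hG.2
  have hEq : E.IsQuasicoherent := hE.1
  have hEf : SheafOfModules.IsFiniteType (R := X.ringCatSheaf) E := hE.2
  let a : E ⟶ (Scheme.Modules.pushforward j).obj ((Scheme.Modules.restrictFunctor j).obj G) :=
    unitJ j E ≫ (Scheme.Modules.pushforward j).map θ.hom
  have ha : IsoOn a j.opensRange := by
    refine (isoOn_unitJ j E).comp fun W' _ => ?_
    infer_instance
  have hη : IsoOn (unitJ j G) j.opensRange := isoOn_unitJ j G
  have hrq : ((Scheme.Modules.restrictFunctor j).obj G).IsQuasicoherent :=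
    Scheme.Modules.isQuasicoherent_restrictFunctor j G
  have hQq : ((Scheme.Modules.pushforward j).obj ((Scheme.Modules.restrictFunctor j).obj G)).IsQuasicoherent :=
    isQuasicoherent_pushforward j _
  have hHq : (pullback (unitJ j G) a).IsQuasicoherent := isQuasicoherent_pullback _ _
  have hGEq : (G ⊞ E : X.Modules).IsQuasicoherent := isQuasicoherent_biprod G E
  have hGEf : SheafOfModules.IsFiniteType (R := X.ringCatSheaf) (G ⊞ E : X.Modules) :=
    Groth.Agent.Lib.Helper23.FTsub.isFiniteType_biprod G E
  have hmono : Mono (biprod.lift (pullback.fst (unitJ j G) a) (pullback.snd (unitJ j G) a)) := by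
    constructor
    intro T x y hxy
    apply pullback.hom_ext
    · have := congrArg (· ≫ biprod.fst) hxy
      simpa using this
    · have := congrArg (· ≫ biprod.snd) hxy
      simpa using this
  have hHc : Coh.IsCoh (pullback (unitJ j G) a) :=
    ⟨hHq, isFiniteType_of_mono (biprod.lift (pullback.fst (unitJ j G) a) (pullback.snd (unitJ j G) a))⟩
  exact ⟨pullback (unitJ j G) a, pullback.fst _ _, pullback.snd _ _, hHc,
    isoOn_pullback_fst _ _ ha, isoOn_pullback_snd _ _ hη, fun W₁ h1 h2 =>
      (h1.biprod h2).of_mono (biprod.lift (pullback.fst (unitJ j G) a) (pullback.snd (unitJ j G) a))⟩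

end Zigzag

section Core
variable {X : Scheme.{u}} [IsNoetherian X] (P : X.Modules → Prop)
  (hiso : ∀ M N : X.Modules, Nonempty (M ≅ N) → P M → P N)
  (hex : ∀ S : ShortComplex X.Modules, S.ShortExact → Coh.IsCoh S.X₁ → Coh.IsCoh S.X₂ → Coh.IsCoh S.X₃ →
    (P S.X₁ → P S.X₃ → P S.X₂) ∧ (P S.X₁ → P S.X₂ → P S.X₃) ∧ (P S.X₂ → P S.X₃ → P S.X₁))

include hiso hex in
/-- generic comparison on `X`: a morphism of coherent modules vanishing on `W` which is an isomorphism over an open
`D` not contained in `W` -/
theorem transfer_on (W : X.Opens)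
    (IH : ∀ W' : X.Opens, W < W' → ∀ M : X.Modules, Coh.IsCoh M → VanOn M W' → P M)
    {A B : X.Modules} (hA : Coh.IsCoh A) (hB : Coh.IsCoh B) (hvA : VanOn A W) (hvB : VanOn B W)
    (u : A ⟶ B) (D : X.Opens) (hD : ¬ D ≤ W) (hu : IsoOn u D) : P A ↔ P B := by
  have hlt : W < W ⊔ D := lt_of_le_of_ne le_sup_left fun heq => hD (heq ▸ le_sup_right)
  have hk : P (kernel u) :=
    IH _ hlt _ (isCoh_kernel hA hB _) ((hvA.of_mono (kernel.ι _)).sup (vanOn_kernel_of_isoOn _ hu))
  have hc : P (cokernel u) :=
    IH _ hlt _ (isCoh_cokernel hA hB _) ((hvB.of_epi (cokernel.π _)).sup (vanOn_cokernel_of_isoOn _ hu))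
  exact transfer P hiso hex hA hB _ hk hc

include hiso hex in
/-- from a coherent `G` vanishing on `W` with simple stalk at the generic point of `Z` and `P G`, get `P (i_* O_Z)` -/
theorem push_structure_of_simple {Z : Scheme.{u}} (i : Z ⟶ X) [IsClosedImmersion i] [IsIntegral Z]
    (W : X.Opens) (hW : i ⁻¹ᵁ W = ⊥)
    (IH : ∀ W' : X.Opens, W < W' → ∀ M : X.Modules, Coh.IsCoh M → VanOn M W' → P M)
    (G : X.Modules) (hG : Coh.IsCoh G) (hGW : VanOn G W)
    (hs : IsSimpleModule (X.presheaf.stalk (i (genericPoint Z))) (G.presheaf.stalk (i (genericPoint Z))))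
    (hPG : P G) : P ((Scheme.Modules.pushforward i).obj (Coh.structureModule Z)) := by
  have hO : Coh.IsCoh (Coh.structureModule Z) := Groth.Agent.R2.H5.CohThick.isCoh_structureModule Z
  have hE : Coh.IsCoh ((Scheme.Modules.pushforward i).obj (Coh.structureModule Z)) :=
    Groth.Agent.S0019.result i _ hO
  have hvE := vanOn_push_of_preimage_eq_bot i (Coh.structureModule Z) W hW
  obtain ⟨l⟩ := nonempty_linearEquiv_of_isSimpleModule _ _ hs (isSimpleModule_stalk_push_structureModule i)
  obtain ⟨D, hD, hξD, ⟨θ⟩⟩ := exists_restrict_iso_of_stalk_equiv G _ hG hE (i (genericPoint Z)) l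
  obtain ⟨H₀, pG, pE, hH₀, hpG, hpE, hvan⟩ := exists_zigzag_of_restrict_iso hD.fromSpec G _ hG hE θ.symm
  rw [hD.opensRange_fromSpec] at hpG hpE
  have hDW : ¬ D ≤ W := by
    intro hle
    have h1 : genericPoint Z ∈ i ⁻¹ᵁ W := hle hξD
    rw [hW] at h1
    exact absurd h1 (by simp)
  have hvH : VanOn H₀ W := hvan W hGW hvE
  have h1 : P H₀ := (transfer_on P hiso hex W IH hH₀ hG hvH hGW pG D hDW hpG).2 hPG
  exact (transfer_on P hiso hex W IH hH₀ hE hvH hvE pE D hDW hpE).1 h1

include hiso hex in
/-- `P (i_* I)` for every nonzero quasi-coherent ideal `I` of the integral closed subscheme `Z`, given a coherent `G`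
vanishing on `W` with simple stalk at the generic point of `Z` and `P G`. -/
theorem push_ideal_of_simple {Z : Scheme.{u}} (i : Z ⟶ X) [IsClosedImmersion i] [IsIntegral Z]
    (W : X.Opens) (hW : i ⁻¹ᵁ W = ⊥)
    (IH : ∀ W' : X.Opens, W < W' → ∀ M : X.Modules, Coh.IsCoh M → VanOn M W' → P M)
    (G : X.Modules) (hG : Coh.IsCoh G) (hGW : VanOn G W)
    (hs : IsSimpleModule (X.presheaf.stalk (i (genericPoint Z))) (G.presheaf.stalk (i (genericPoint Z))))
    (hPG : P G)
    (I : Z.Modules) (ι : I ⟶ Coh.structureModule Z) [Mono ι] (hIq : Coh.IsQCoh I) (hI0 : ¬ IsZero I) :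
    P ((Scheme.Modules.pushforward i).obj I) := by
  have hZN : IsNoetherian Z := isNoetherian_of_isClosedImmersion i
  have hO : Coh.IsCoh (Coh.structureModule Z) := Groth.Agent.R2.H5.CohThick.isCoh_structureModule Z
  have h3 := push_structure_of_simple P hiso hex i W hW IH G hG hGW hs hPG
  have hIc : Coh.IsCoh I := Groth.Agent.S0046.result Z _ I ι hO hIq
  obtain ⟨D', hD', hι⟩ := exists_isoOn_of_ideal ι hI0
  exact (transfer_push P hiso hex i W hW IH hIc hO ι D' hD' hι).2 h3

include hiso hex in
/-- **Devissage, generic chain induction**: `P` is closed under isomorphisms, contains `0` and satisfies 2-out-of-3 on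
short exact sequences of coherent modules. Suppose that for every open `W ⊇ W₀` such that `P` holds for all coherent
modules vanishing on a strictly larger open, `P (i_* I)` holds for every integral closed subscheme `Z` not meeting `W`
and every nonzero quasi-coherent ideal `I` of `O_Z`. Then `P` holds for every coherent module vanishing on `W₀`. -/
theorem devissage_core_gen
    (h0 : ∀ M : X.Modules, IsZero M → P M) (W₀ : X.Opens)
    (hpush : ∀ W : X.Opens, W₀ ≤ W →
      (∀ W' : X.Opens, W < W' → ∀ M : X.Modules, Coh.IsCoh M → VanOn M W' → P M) →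
      ∀ (Z : Scheme.{u}) (i : Z ⟶ X) [IsClosedImmersion i] [IsIntegral Z], i ⁻¹ᵁ W = ⊥ →
      ∀ (I : Z.Modules) (ι : I ⟶ Coh.structureModule Z) [Mono ι], Coh.IsQCoh I → ¬ IsZero I →
        P ((Scheme.Modules.pushforward i).obj I))
    (M : X.Modules) (hM : Coh.IsCoh M) (hMW : VanOn M W₀) : P M := by
  have key : ∀ W : X.Opens, W₀ ≤ W → ∀ M : X.Modules, Coh.IsCoh M → VanOn M W → P M := by
    intro W
    induction W using WellFoundedGT.induction with
    | ind W IH =>
      intro hW₀ M hM hMW
      have IH' : ∀ W' : X.Opens, W < W' → ∀ M : X.Modules, Coh.IsCoh M → VanOn M W' → P M :=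
        fun W' hW' => IH W' hW' (hW₀.trans hW'.le)
      obtain ⟨m, hm⟩ := exists_chain_eq_top hM
      have hcoh : ∀ j, Coh.IsCoh (chain hM j : X.Modules) := fun j =>
        Groth.Agent.S0046.result X M _ (chain hM j).arrow hM (qcoh_chain hM j)
      have hall : ∀ j, P (chain hM j : X.Modules) := by
        intro j
        induction j with
        | zero => exact h0 _ (isZero_bot M)
        | succ j ih =>
          by_cases hne : chain hM j = ⊤
          · have heq : chain hM (j + 1) = chain hM j := stepFn_of_not hM _ (fun h => h.2 hne)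
            rw [heq]; exact ih
          · obtain ⟨hle, -, Z, i, hi, hZ, I, ι, hι, hIq, hI0, ⟨e⟩⟩ := chain_isStep hM j hne
            have hc3 : Coh.IsCoh (cokernel ((chain hM j).ofLE _ hle)) :=
              isCoh_cokernel (hcoh j) (hcoh (j + 1)) _
            have hv2 : VanOn (chain hM (j + 1) : X.Modules) W := hMW.of_mono (chain hM (j + 1)).arrow
            have hv3 : VanOn (cokernel ((chain hM j).ofLE _ hle)) W := hv2.of_epi (cokernel.π _)
            have hvI : VanOn ((Scheme.Modules.pushforward i).obj I) W := hv3.of_iso e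
            have hiW : i ⁻¹ᵁ W = ⊥ := preimage_eq_bot_of_vanOn i ι hI0 hvI
            have hPI : P ((Scheme.Modules.pushforward i).obj I) := hpush W hW₀ IH' Z i hiW I ι hIq hI0
            have hPc : P (cokernel ((chain hM j).ofLE _ hle)) := hiso _ _ ⟨e.symm⟩ hPI
            have hS : (ShortComplex.mk ((chain hM j).ofLE _ hle) (cokernel.π _)
                (cokernel.condition _)).ShortExact :=
              ShortComplex.ShortExact.mk' (ShortComplex.exact_cokernel _) inferInstance inferInstance
            exact (hex _ hS (hcoh j) (hcoh (j + 1)) hc3).1 ih hPc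
      have hiso' : IsIso (chain hM m).arrow := (Subobject.isIso_arrow_iff_eq_top _).2 hm
      exact hiso _ _ ⟨asIso (chain hM m).arrow⟩ (hall m)
  exact key W₀ le_rfl M hM hMW

omit [AlgebraicGeometry.IsNoetherian X] in
/-- a module whose support does not meet the open `W` vanishes on `W` -/
theorem vanOn_of_support_disjoint (G : X.Modules) (W : X.Opens) (h : ∀ x ∈ W, x ∉ CohB1.support G) :
    VanOn G W := fun W' hW' s =>
  Groth.Agent.Lib.Helper23.Support.eq_zero_of_disjoint_support G W' (fun x hx hxs => h x (hW' hx) hxs) s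

include hiso hex in
/-- **Devissage with simple generic stalks** (Stacks, Cohomology of Schemes, 30.12.4 and 30.12.6 in relative form):
`P` is closed under isomorphisms, contains `0` and satisfies 2-out-of-3 on short exact sequences of coherent modules;
if for every integral closed subscheme `Z` not meeting the open `W₀` there is a coherent `G` with `P G`, supported in
`Z`, whose stalk at the generic point of `Z` is a simple module, then `P` holds for every coherent module vanishing
on `W₀`. -/
theorem devissage_core_simple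
    (h0 : ∀ M : X.Modules, IsZero M → P M) (W₀ : X.Opens)
    (hgen : ∀ (Z : Scheme.{u}) (i : Z ⟶ X) [IsClosedImmersion i] [IsIntegral Z], i ⁻¹ᵁ W₀ = ⊥ →
      ∃ G : X.Modules, Coh.IsCoh G ∧ CohB1.support G ⊆ Set.range i ∧
        IsSimpleModule (X.presheaf.stalk (i (genericPoint Z))) (G.presheaf.stalk (i (genericPoint Z))) ∧ P G)
    (M : X.Modules) (hM : Coh.IsCoh M) (hMW : VanOn M W₀) : P M := by
  refine devissage_core_gen P hiso hex h0 W₀ ?_ M hM hMW
  intro W hW₀ IH Z i _ _ hiW I ι _ hIq hI0
  have hiW₀ : i ⁻¹ᵁ W₀ = ⊥ := le_bot_iff.1 (hiW ▸ Scheme.Hom.preimage_mono i hW₀)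
  obtain ⟨G, hG, hsupp, hs, hPG⟩ := hgen Z i hiW₀
  have hGW : VanOn G W := by
    refine vanOn_of_support_disjoint G W fun x hx hxs => ?_
    obtain ⟨z, rfl⟩ := hsupp hxs
    have hz : z ∈ i ⁻¹ᵁ W := hx
    rw [hiW] at hz
    exact absurd hz (by simp)
  exact push_ideal_of_simple P hiso hex i W hiW IH G hG hGW hs hPG I ι hIq hI0

end Core

end Groth.Agent.R2.H12.Dev
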