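import Mathlib
import Groth.Prelude.Def_Dual3
import Groth.Agent.Lib.Helper13UnitSub
import Groth.Agent.Lib.Helper20StalkExact
import Groth.Agent.R2.H12Dev4B

/-!
# The submodule sheaf `I · F` (`Dual3.idealMul`), part A: sections over affine opens (helper12)

* `mem_ker_iff_mem_smul_top`: algebra: the kernel of a base change map `M → Q` along a surjection `ψ` is `ker ψ • M`.
* `exists_app_kernel_ι_eq`: sections of a kernel.
* `unit_app_eq_zero_iff`: for `F` quasi-coherent, `U` affine: the kernel of `Γ(F, U) → Γ(i_* i^* F, U)` is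
  `I(U) • Γ(F, U)`.
* `mem_range_idealMulι_app_iff`, `idealMulι_app_injective`: `Γ(U, I·F) = I(U) • Γ(U, F)` inside `Γ(U, F)`.
* `isQuasicoherent_idealMul`, `isCoh_idealMul`.
-/

set_option autoImplicit false
universe u
open CategoryTheory Limits AlgebraicGeometry TopologicalSpace Opposite

namespace Groth.Agent.R2.H12.IdealMul

open Groth.Agent.R2.H12.Dev Scheme.Modules Groth.Agent.Helper13PullbackUnit

section Algebra

/-- the kernel of a base change map along a surjection `ψ` is `ker ψ • ⊤` -/
theorem mem_ker_iff_mem_smul_top {R R' : Type u} [CommRing R] [CommRing R'] (ψ : R →+* R')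
    (hψ : Function.Surjective ψ) {M Q : Type u} [AddCommGroup M] [Module R M] [AddCommGroup Q]
    [Module R' Q] (φ : M →+ Q) (hφ : ∀ (r : R) (m : M), φ (r • m) = ψ r • φ m)
    (huniv : ∀ (N : Type u) [AddCommGroup N] [Module R' N] (l : M →+ N),
      (∀ (r : R) (m : M), l (r • m) = ψ r • l m) → ∃! l' : Q →ₗ[R'] N, ∀ m, l' (φ m) = l m) (m : M) :
    φ m = 0 ↔ m ∈ (RingHom.ker ψ • ⊤ : Submodule R M) := by
  constructor
  · intro hm
    let N := M ⧸ (RingHom.ker ψ • ⊤ : Submodule R M)
    have htors : Module.IsTorsionBySet R N (RingHom.ker ψ : Set R) := by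
      rintro n ⟨r, hr⟩
      obtain ⟨m', rfl⟩ := Submodule.Quotient.mk_surjective _ n
      change r • Submodule.Quotient.mk m' = 0
      rw [← Submodule.Quotient.mk_smul, Submodule.Quotient.mk_eq_zero]
      exact Submodule.smul_mem_smul hr trivial
    let _i1 : Module (R ⧸ RingHom.ker ψ) N := htors.module
    let _i2 : Module R' N := Module.compHom N (RingHom.quotientKerEquivOfSurjective hψ).symm.toRingHom
    have hsm : ∀ (r : R) (n : N), ψ r • n = r • n := by
      intro r n
      change ((RingHom.quotientKerEquivOfSurjective hψ).symm (ψ r)) • n = r • n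
      have : (RingHom.quotientKerEquivOfSurjective hψ).symm (ψ r) =
          Ideal.Quotient.mk (RingHom.ker ψ) r := by
        rw [RingEquiv.symm_apply_eq]
        rfl
      rw [this]
      rfl
    obtain ⟨l', h1, -⟩ := huniv N (Submodule.mkQ (RingHom.ker ψ • ⊤ : Submodule R M)).toAddMonoidHom
      (fun r m' => by
        change Submodule.mkQ _ (r • m') = ψ r • Submodule.mkQ _ m'
        rw [hsm, LinearMap.map_smul])
    have h2 := h1 m
    rw [hm, map_zero] at h2
    exact (Submodule.Quotient.mk_eq_zero _).1 h2.symm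
  · intro hm
    refine Submodule.smul_induction_on hm ?_ ?_
    · intro r hr n _
      rw [hφ, (RingHom.mem_ker).1 hr, zero_smul]
    · intro x y hx hy
      rw [map_add, hx, hy, add_zero]

end Algebra

section Kernel
variable {X : Scheme.{u}}

/-- sections of a kernel -/
theorem exists_app_kernel_ι_eq {F Q : X.Modules} (g : F ⟶ Q) (V : X.Opens) (t : Γ(F, V))
    (ht : g.app V t = 0) : ∃ r : Γ(kernel g, V), (kernel.ι g).app V r = t := by
  have hS : (ShortComplex.mk (kernel.ι g) (cokernel.π (kernel.ι g)) (cokernel.condition _)).ShortExact :=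
    ShortComplex.ShortExact.mk' (ShortComplex.exact_cokernel _) inferInstance inferInstance
  have hfac : cokernel.π (kernel.ι g) ≫ Abelian.factorThruCoimage g = g := Abelian.coimage.fac g
  have h1 : (Abelian.factorThruCoimage g).app V ((cokernel.π (kernel.ι g)).app V t) = 0 := by
    have h0 : (cokernel.π (kernel.ι g) ≫ Abelian.factorThruCoimage g).app V t = 0 := by rw [hfac]; exact ht
    exact h0
  have h2 : (cokernel.π (kernel.ι g)).app V t = 0 := by
    apply Groth.Agent.Lib.Helper20.StalkExact.injective_app_of_mono (Abelian.factorThruCoimage g) V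
    rw [h1, map_zero]
  exact Groth.Agent.Lib.Helper20.StalkExact.exists_app_eq_of_exact _ hS V t h2

/-- for quasi-coherent `F` and affine `U`, the kernel of `Γ(F, U) → Γ(i_* i^* F, U)` (`i : V(J) → X`) is
`J(U) • Γ(F, U)` -/
theorem unit_app_eq_zero_iff (J : X.IdealSheafData) (F : X.Modules) [F.IsQuasicoherent] (U : X.affineOpens)
    (m : Γ(F, U.1)) :
    ((pullbackPushforwardAdjunction J.subschemeι).unit.app F).app U.1 m = 0 ↔
      m ∈ (J.ideal U • ⊤ : Submodule Γ(X, U.1) Γ(F, U.1)) := by
  have hU' : IsAffineOpen (J.subschemeι ⁻¹ᵁ U.1) := U.2.preimage J.subschemeι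
  have hle : J.subschemeι ⁻¹ᵁ U.1 ≤ J.subschemeι ⁻¹ᵁ U.1 := le_rfl
  have hfun : ((pullbackPushforwardAdjunction J.subschemeι).unit.app F).app U.1 m =
      unitSec J.subschemeι F hle m := by
    rw [unitSec_apply]
    have h1 : ∀ z : Γ((Scheme.Modules.pullback J.subschemeι).obj F, J.subschemeι ⁻¹ᵁ U.1),
        z = ((Scheme.Modules.pullback J.subschemeι).obj F).presheaf.map (homOfLE hle).op z := by
      intro z
      have h0 : (homOfLE hle).op = 𝟙 (op (J.subschemeι ⁻¹ᵁ U.1)) := rfl
      rw [h0, CategoryTheory.Functor.map_id]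
      rfl
    exact h1 _
  have hsurj : Function.Surjective (J.subschemeι.appLE U.1 (J.subschemeι ⁻¹ᵁ U.1) hle).hom := by
    rw [Scheme.Hom.appLE_eq_app]
    exact J.subschemeι_app_surjective U
  have hker : RingHom.ker (J.subschemeι.appLE U.1 (J.subschemeι ⁻¹ᵁ U.1) hle).hom = J.ideal U := by
    rw [Scheme.Hom.appLE_eq_app, J.ker_subschemeι_app U]
  have key := mem_ker_iff_mem_smul_top (J.subschemeι.appLE U.1 (J.subschemeι ⁻¹ᵁ U.1) hle).hom hsurj
    (unitSec J.subschemeι F hle) (unitSec_smul J.subschemeι F hle)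
    (fun N _ _ l hl => existsUnique_lift J.subschemeι F U.2 hU' hle N l hl) m
  rw [hker] at key
  refine Iff.trans ?_ key
  constructor
  · intro h; rw [← hfun]; exact h
  · intro h; rw [hfun]; exact h

/-- `Γ(U, J·F) → Γ(U, F)` is injective -/
theorem idealMulι_app_injective (J : X.IdealSheafData) (F : X.Modules) (V : X.Opens) :
    Function.Injective ((Dual3.idealMulι J F).app V) :=
  Groth.Agent.Lib.Helper20.StalkExact.injective_app_of_mono (Dual3.idealMulι J F) V

/-- `Γ(U, J·F) = J(U) • Γ(U, F)` inside `Γ(U, F)`, for `F` quasi-coherent and `U` affine -/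
theorem mem_range_idealMulι_app_iff (J : X.IdealSheafData) (F : X.Modules) [F.IsQuasicoherent]
    (U : X.affineOpens) (m : Γ(F, U.1)) :
    m ∈ Set.range ((Dual3.idealMulι J F).app U.1) ↔
      m ∈ (J.ideal U • ⊤ : Submodule Γ(X, U.1) Γ(F, U.1)) := by
  rw [← unit_app_eq_zero_iff]
  constructor
  · rintro ⟨t, rfl⟩
    have h0 : (Dual3.idealMulι J F ≫ (pullbackPushforwardAdjunction J.subschemeι).unit.app F).app U.1 t = 0 := by
      have : Dual3.idealMulι J F ≫ (pullbackPushforwardAdjunction J.subschemeι).unit.app F = 0 :=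
        kernel.condition _
      rw [this]; rfl
    exact h0
  · intro hm
    exact exists_app_kernel_ι_eq _ U.1 m hm

end Kernel

end Groth.Agent.R2.H12.IdealMul
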