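import Mathlib
import Groth.Agent.R2.H12IdealMulA

/-!
# The submodule sheaf `I · F` (`Dual3.idealMul`), part B: annihilation and Artin–Rees (helper12)

* `exists_pow_smul_eq_bot`, `exists_pow_smul_top_inf_eq_bot`: algebra (the second is a consequence of Artin–Rees).
* `isQuasicoherent_idealMul`, `isCoh_idealMul`.
* `vanOn_of_sections_eq_zero`: a quasi-coherent module with no sections over an affine open vanishes on it.
* `exists_pow_idealMul_isZero`: on a Noetherian scheme, a coherent module vanishing off `V(I)` is killed by a power of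
  `I`.
* `exists_pow_idealMul_inf_isZero`: on a Noetherian scheme, `I^n G ∩ T = 0` for `n` large if `T ⊆ G` vanishes off
  `V(I)`.
-/

set_option autoImplicit false
universe u
open CategoryTheory Limits AlgebraicGeometry TopologicalSpace Opposite

namespace Groth.Agent.R2.H12.IdealMul

open Groth.Agent.R2.H12.Dev Groth.Agent.Lib.Helper23.QCohLocal Groth.Agent.Lib.Helper2.QCoh
  Groth.Agent.Lib.Helper20.PullbackAff Groth.Agent.Lib.Helper20.Thickening

section Algebra
variable {A : Type u} [CommRing A] [IsNoetherianRing A] (I : Ideal A) {M : Type u} [AddCommGroup M] [Module A M]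

/-- if every element of `I` acts locally nilpotently on the finitely generated submodule `N`, a power of `I` kills
`N` -/
theorem exists_pow_smul_eq_bot (N : Submodule A M) (hfg : N.FG)
    (h : ∀ f ∈ I, ∀ m ∈ N, ∃ k : ℕ, f ^ k • m = 0) : ∃ n, ∀ n' ≥ n, (I ^ n' • N : Submodule A M) = ⊥ := by
  classical
  obtain ⟨S, hS⟩ := hfg
  have hrad : I ≤ (N.annihilator).radical := by
    intro f hf
    have hk : ∀ s : M, ∃ k : ℕ, s ∈ N → f ^ k • s = 0 := by
      intro s
      by_cases hs : s ∈ N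
      · obtain ⟨k, hk⟩ := h f hf s hs
        exact ⟨k, fun _ => hk⟩
      · exact ⟨0, fun h => absurd h hs⟩
    choose kf hkf using hk
    refine ⟨S.sup kf, ?_⟩
    rw [Submodule.mem_annihilator]
    intro m hm
    rw [← hS] at hm
    refine Submodule.span_induction ?_ ?_ ?_ ?_ hm
    · intro s hs
      have hsN : s ∈ N := hS ▸ Submodule.subset_span hs
      have hle : kf s ≤ S.sup kf := Finset.le_sup (f := kf) hs
      obtain ⟨d, hd⟩ := Nat.exists_eq_add_of_le hle
      rw [hd, pow_add, mul_comm, mul_smul, hkf s hsN, smul_zero]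
    · exact smul_zero _
    · intro x y _ _ hx hy
      rw [smul_add, hx, hy, add_zero]
    · intro a x _ hx
      rw [smul_comm, hx, smul_zero]
  obtain ⟨n, hn⟩ := Ideal.exists_pow_le_of_le_radical_of_fg hrad (IsNoetherian.noetherian I)
  refine ⟨n, fun n' hn' => ?_⟩
  rw [eq_bot_iff, Submodule.smul_le]
  intro r hr m hm
  have hr' : r ∈ N.annihilator := hn (Ideal.pow_le_pow_right hn' hr)
  rw [Submodule.mem_bot]
  exact (Submodule.mem_annihilator.1 hr') m hm

/-- a consequence of Artin–Rees -/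
theorem exists_pow_smul_top_inf_eq_bot [Module.Finite A M] (N : Submodule A M)
    (h : ∀ f ∈ I, ∀ m ∈ N, ∃ k : ℕ, f ^ k • m = 0) :
    ∃ n, ∀ n' ≥ n, (I ^ n' • ⊤ : Submodule A M) ⊓ N = ⊥ := by
  have hNfg : N.FG := IsNoetherian.noetherian N
  obtain ⟨k, hk⟩ := exists_pow_smul_eq_bot I N hNfg h
  obtain ⟨c, hc⟩ := Ideal.exists_pow_inf_eq_pow_smul I N
  refine ⟨c + k, fun n' hn' => ?_⟩
  rw [hc n' (by omega), eq_bot_iff]
  have h1 : (I ^ (n' - c) • (I ^ c • ⊤ ⊓ N) : Submodule A M) ≤ I ^ (n' - c) • N :=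
    Submodule.smul_mono le_rfl inf_le_right
  refine h1.trans ?_
  rw [hk (n' - c) (by omega)]

end Algebra

section QCoh
variable {X : Scheme.{u}}

theorem isQuasicoherent_idealMul (J : X.IdealSheafData) (F : X.Modules) [F.IsQuasicoherent] :
    ((Dual3.idealMul J).obj F).IsQuasicoherent := by
  have h1 : ((Scheme.Modules.pullback J.subschemeι).obj F).IsQuasicoherent :=
    Groth.Agent.Lib.Helper2.PullbackSec.isQuasicoherent_pullback J.subschemeι F
  have h2 : ((Scheme.Modules.pullback J.subschemeι ⋙ Scheme.Modules.pushforward J.subschemeι).obj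
      F).IsQuasicoherent := isQuasicoherent_pushforward J.subschemeι _
  have h3 : ((𝟭 X.Modules).obj F).IsQuasicoherent := ‹F.IsQuasicoherent›
  exact isQuasicoherent_kernel _

theorem isCoh_idealMul [IsLocallyNoetherian X] (J : X.IdealSheafData) (F : X.Modules) (hF : Coh.IsCoh F) :
    Coh.IsCoh ((Dual3.idealMul J).obj F) := by
  have hq : F.IsQuasicoherent := hF.1
  exact Groth.Agent.S0046.result X F _ (Dual3.idealMulι J F) hF (isQuasicoherent_idealMul J F)

/-- a quasi-coherent module with no nonzero sections over an affine open vanishes on it -/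
theorem vanOn_of_sections_eq_zero (M : X.Modules) [M.IsQuasicoherent] {U : X.Opens} (hU : IsAffineOpen U)
    (h : ∀ s : Γ(M, U), s = 0) : VanOn M U := by
  have hq : (M.restrict hU.fromSpec).IsQuasicoherent :=
    Scheme.Modules.isQuasicoherent_restrictFunctor hU.fromSpec M
  have hsub : Subsingleton ((ΓUF hU).obj M) :=
    ⟨fun a b => (ΓUEquiv hU M).symm.injective ((h _).trans (h _).symm)⟩
  have h0 : IsZero ((ΓUF hU).obj M) := ModuleCat.isZero_of_subsingleton _
  have h1 : IsZero ((tilde.functor Γ(X, U)).obj ((ΓUF hU).obj M)) := (tilde.functor _).map_isZero h0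
  have hiso : IsIso (M.restrict hU.fromSpec).fromTildeΓ := isIso_fromTildeΓ _
  have h2 : IsZero (M.restrict hU.fromSpec) := h1.of_iso (asIso (M.restrict hU.fromSpec).fromTildeΓ).symm
  have := vanOn_of_isZero_restrict hU.fromSpec M h2
  rwa [hU.opensRange_fromSpec] at this

/-- basic opens of elements of `I(U)` avoid the support of `I` -/
theorem basicOpen_le_of_mem_ideal (I : X.IdealSheafData) (U₀ : X.Opens)
    (hU₀ : (U₀ : Set X) = (I.support : Set X)ᶜ) (U : X.affineOpens) (f : Γ(X, U.1)) (hf : f ∈ I.ideal U) :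
    X.basicOpen f ≤ U₀ := by
  intro x hx
  have : x ∈ (U₀ : Set X) := by
    rw [hU₀]
    intro hxs
    have h1 := (Scheme.IdealSheafData.mem_support_iff.1 hxs) U
    rw [Scheme.mem_zeroLocus_iff] at h1
    exact h1 f hf hx
  exact this

/-- sections over an affine open of a quasi-coherent module vanishing off `V(I)` are killed by powers of elements
of `I` -/
theorem exists_pow_smul_eq_zero_of_vanOn (I : X.IdealSheafData) (U₀ : X.Opens)
    (hU₀ : (U₀ : Set X) = (I.support : Set X)ᶜ) (C : X.Modules) [C.IsQuasicoherent] (hC : VanOn C U₀)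
    (U : X.affineOpens) (f : Γ(X, U.1)) (hf : f ∈ I.ideal U) (m : Γ(C, U.1)) : ∃ k : ℕ, f ^ k • m = 0 :=
  exists_pow_smul_eq_zero U.2 C f m (hC _ (basicOpen_le_of_mem_ideal I U₀ hU₀ U f hf) _)

/-- sections of a morphism, as a linear map -/
noncomputable def appₗ {F G : X.Modules} (τ : F ⟶ G) (U : X.Opens) : Γ(F, U) →ₗ[Γ(X, U)] Γ(G, U) where
  toFun := τ.app U
  map_add' := fun a b => map_add _ a b
  map_smul' := fun r m => Scheme.Modules.Hom.app_smul τ r m

theorem appₗ_apply {F G : X.Modules} (τ : F ⟶ G) (U : X.Opens) (m : Γ(F, U)) : appₗ τ U m = τ.app U m := rfl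

/-- a finite affine cover and a uniform bound -/
theorem exists_uniform [CompactSpace X] (Q : X.affineOpens → ℕ → Prop)
    (hQ : ∀ U, ∃ n, ∀ n' ≥ n, Q U n') :
    ∃ s : Set X.affineOpens, s.Finite ∧ (⊤ : X.Opens) = ⨆ i ∈ s, (i : X.Opens) ∧
      ∃ n, ∀ n' ≥ n, ∀ U ∈ s, Q U n' := by
  classical
  obtain ⟨s, hs, hcov⟩ := (isCompact_iff_finite_and_eq_biUnion_affineOpens (U := (⊤ : X.Opens))).1
    (by simpa using isCompact_univ)
  choose N hN using hQ
  refine ⟨s, hs, hcov, hs.toFinset.sup N, fun n' hn' U hU => hN U n' ?_⟩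
  exact (Finset.le_sup (f := N) (hs.mem_toFinset.2 hU)).trans hn'

theorem isZero_of_vanOn_cover (K : X.Modules) (s : Set X.affineOpens)
    (hcov : (⊤ : X.Opens) = ⨆ i ∈ s, (i : X.Opens)) (h : ∀ U ∈ s, VanOn K U.1) : IsZero K := by
  apply isZero_of_vanOn_top
  have h1 : (⨆ i ∈ s, (i : X.Opens)) = sSup ((fun i : X.affineOpens => (i : X.Opens)) '' s) := by
    rw [sSup_image]
  rw [hcov, h1]
  refine vanOn_sSup K _ ?_
  rintro W ⟨U, hU, rfl⟩
  exact h U hU

end QCoh

section Noeth
variable {X : Scheme.{u}} [IsNoetherian X]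

/-- on a Noetherian scheme, a coherent module vanishing off `V(I)` is killed by a power of `I` -/
theorem exists_pow_idealMul_isZero (I : X.IdealSheafData) (U₀ : X.Opens)
    (hU₀ : (U₀ : Set X) = (I.support : Set X)ᶜ) (C : X.Modules) (hC : Coh.IsCoh C) (hv : VanOn C U₀) :
    ∃ n, ∀ n' ≥ n, IsZero ((Dual3.idealMul (I ^ n')).obj C) := by
  have hCq : C.IsQuasicoherent := hC.1
  have hCf : SheafOfModules.IsFiniteType (R := X.ringCatSheaf) C := hC.2
  obtain ⟨s, -, hcov, n, hn⟩ := exists_uniform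
    (fun (U : X.affineOpens) n => (I.ideal U ^ n • ⊤ : Submodule Γ(X, U.1) Γ(C, U.1)) = ⊥) (by
      intro U
      have hR : IsNoetherianRing Γ(X, U.1) := IsLocallyNoetherian.component_noetherian U
      have hfin : Module.Finite Γ(X, U.1) Γ(C, U.1) :=
        Groth.Agent.Lib.Helper23.FinType.finite_of_isFiniteType C U.2
      exact exists_pow_smul_eq_bot (I.ideal U) ⊤ Module.Finite.fg_top
        (fun f hf m _ => exists_pow_smul_eq_zero_of_vanOn I U₀ hU₀ C hv U f hf m))
  refine ⟨n, fun n' hn' => ?_⟩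
  have hq : ((Dual3.idealMul (I ^ n')).obj C).IsQuasicoherent := isQuasicoherent_idealMul _ C
  refine isZero_of_vanOn_cover _ s hcov fun U hU => ?_
  refine vanOn_of_sections_eq_zero _ U.2 fun t => ?_
  apply idealMulι_app_injective (I ^ n') C U.1
  rw [map_zero]
  have h1 : (Dual3.idealMulι (I ^ n') C).app U.1 t ∈
      ((I ^ n').ideal U • ⊤ : Submodule Γ(X, U.1) Γ(C, U.1)) :=
    (mem_range_idealMulι_app_iff (I ^ n') C U _).1 ⟨t, rfl⟩
  have h2 : (I ^ n').ideal U = I.ideal U ^ n' := rfl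
  rw [h2, hn n' hn' U hU] at h1
  exact (Submodule.mem_bot _).1 h1

/-- on a Noetherian scheme, `I^n G ∩ T = 0` for `n` large if the quasi-coherent submodule `T ⊆ G` of the coherent
module `G` vanishes off `V(I)` (a consequence of Artin–Rees) -/
theorem exists_pow_idealMul_inf_isZero (I : X.IdealSheafData) (U₀ : X.Opens)
    (hU₀ : (U₀ : Set X) = (I.support : Set X)ᶜ) (G : X.Modules) (hG : Coh.IsCoh G) {T : X.Modules}
    (τ : T ⟶ G) [Mono τ] [T.IsQuasicoherent] (hv : VanOn T U₀) :
    ∃ n, ∀ n' ≥ n, IsZero (pullback (Dual3.idealMulι (I ^ n') G) τ) := by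
  have hGq : G.IsQuasicoherent := hG.1
  have hGf : SheafOfModules.IsFiniteType (R := X.ringCatSheaf) G := hG.2
  obtain ⟨s, -, hcov, n, hn⟩ := exists_uniform
    (fun (U : X.affineOpens) n => (I.ideal U ^ n • ⊤ : Submodule Γ(X, U.1) Γ(G, U.1)) ⊓
      LinearMap.range (appₗ τ U.1) = ⊥) (by
      intro U
      have hR : IsNoetherianRing Γ(X, U.1) := IsLocallyNoetherian.component_noetherian U
      have hfin : Module.Finite Γ(X, U.1) Γ(G, U.1) :=
        Groth.Agent.Lib.Helper23.FinType.finite_of_isFiniteType G U.2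
      refine exists_pow_smul_top_inf_eq_bot (I.ideal U) _ ?_
      rintro f hf _ ⟨t, rfl⟩
      obtain ⟨k, hk⟩ := exists_pow_smul_eq_zero_of_vanOn I U₀ hU₀ T hv U f hf t
      exact ⟨k, by rw [← LinearMap.map_smul, hk, LinearMap.map_zero]⟩)
  refine ⟨n, fun n' hn' => ?_⟩
  have hq1 : ((Dual3.idealMul (I ^ n')).obj G).IsQuasicoherent := isQuasicoherent_idealMul _ G
  have hq : (pullback (Dual3.idealMulι (I ^ n') G) τ).IsQuasicoherent := isQuasicoherent_pullback _ _
  refine isZero_of_vanOn_cover _ s hcov fun U hU => ?_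
  refine vanOn_of_sections_eq_zero _ U.2 fun p => ?_
  have hmono : Mono (pullback.snd (Dual3.idealMulι (I ^ n') G) τ) := inferInstance
  apply Groth.Agent.Lib.Helper20.StalkExact.injective_app_of_mono
    (pullback.snd (Dual3.idealMulι (I ^ n') G) τ) U.1
  rw [map_zero]
  apply Groth.Agent.Lib.Helper20.StalkExact.injective_app_of_mono τ U.1
  rw [map_zero]
  have hc : (pullback.snd (Dual3.idealMulι (I ^ n') G) τ ≫ τ).app U.1 p =
      (pullback.fst (Dual3.idealMulι (I ^ n') G) τ ≫ Dual3.idealMulι (I ^ n') G).app U.1 p := by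
    rw [pullback.condition]
  have h1 : (τ.app U.1) ((pullback.snd (Dual3.idealMulι (I ^ n') G) τ).app U.1 p) ∈
      ((I ^ n').ideal U • ⊤ : Submodule Γ(X, U.1) Γ(G, U.1)) := by
    refine (mem_range_idealMulι_app_iff (I ^ n') G U _).1
      ⟨(pullback.fst (Dual3.idealMulι (I ^ n') G) τ).app U.1 p, ?_⟩
    exact hc.symm
  have h2 : (I ^ n').ideal U = I.ideal U ^ n' := rfl
  rw [h2] at h1
  have h3 : (τ.app U.1) ((pullback.snd (Dual3.idealMulι (I ^ n') G) τ).app U.1 p) ∈
      (I.ideal U ^ n' • ⊤ : Submodule Γ(X, U.1) Γ(G, U.1)) ⊓ LinearMap.range (appₗ τ U.1) :=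
    ⟨h1, ⟨_, rfl⟩⟩
  rw [hn n' hn' U hU] at h3
  exact (Submodule.mem_bot _).1 h3

end Noeth

end Groth.Agent.R2.H12.IdealMul
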