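import Mathlib
import Groth.Agent.R2.H12Dev4B
import Groth.Agent.R2.H12IdealMulB
import Groth.Agent.Lib.Helper2FibreCrit2

/-!
# Extension-only devissage, part A: stalk lemmas and the chain step (helper12)

* `stalk_bijective_of_isoOn`, `stalk_injective_of_mono`, `stalk_surjective_of_epi`: the stalk functor
  `DerSch.stalkFunctor` on morphisms.
* `not_mem_support_cokernel`: a morphism surjective on the stalk at `x` has cokernel not supported at `x`.
* `devissage_steps`: a property closed under isomorphisms and extensions, containing `0`, holds for every coherent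
  module vanishing on `W` as soon as it holds for `i_* I` for every integral closed subscheme `Z` not meeting `W` and
  every nonzero ideal `I ⊆ O_Z`.
-/

set_option autoImplicit false
universe u
open CategoryTheory Limits AlgebraicGeometry TopologicalSpace Opposite

namespace Groth.Agent.R2.H12.Dev

open Groth.Agent.Lib.Helper23.QCohLocal Groth.Agent.Lib.Helper2.Push Groth.Agent.Lib.Helper2.QCoh
  Groth.Agent.Lib.Helper23.FinType Groth.Agent.Lib.Helper23.ModLocal Groth.Agent.Lib.Helper23.Extend
open Groth.Agent.R2.H27.PushStalk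

section Stalk
variable {X : Scheme.{u}}

theorem stalk_bijective_of_isoOn {A B : X.Modules} (f : A ⟶ B) {D : X.Opens} (h : IsoOn f D) (x : X)
    (hx : x ∈ D) : Function.Bijective ((DerSch.stalkFunctor X x).map f).hom := by
  constructor
  · rw [injective_iff_map_eq_zero]
    intro y hy
    obtain ⟨V, hxV, t, rfl⟩ := A.presheaf.exists_germ_eq (x := x) y
    have hxW : x ∈ V ⊓ D := ⟨hxV, hx⟩
    have h1 : A.presheaf.germ V x hxV t = A.presheaf.germ (V ⊓ D) x hxW
        (A.presheaf.map (homOfLE inf_le_left).op t) :=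
      (TopCat.Presheaf.germ_res_apply A.presheaf (homOfLE inf_le_left) x hxW t).symm
    rw [h1] at hy ⊢
    generalize A.presheaf.map (homOfLE (inf_le_left : V ⊓ D ≤ V)).op t = t' at hy ⊢
    have h2 := DerSch.stalkFunctor_map_germ x f (V ⊓ D) hxW t'
    have h3 : B.presheaf.germ (V ⊓ D) x hxW (f.app (V ⊓ D) t') = 0 := h2.symm.trans hy
    have h4 : B.presheaf.germ (V ⊓ D) x hxW (f.app (V ⊓ D) t') = B.presheaf.germ (V ⊓ D) x hxW 0 := by
      rw [h3, map_zero]
    obtain ⟨W, hxW', i₁, i₂, hW⟩ := B.presheaf.germ_eq x hxW hxW _ 0 h4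
    have hiso : IsIso (f.app W) := h W (i₁.le.trans inf_le_right)
    have h5 : f.app W (A.presheaf.map i₁.op t') = 0 := by
      have := app_map f i₁ t'
      rw [this, hW, map_zero]
    have h6 : A.presheaf.map i₁.op t' = 0 := by
      have hinj := (ConcreteCategory.bijective_of_isIso (f.app W)).1
      apply hinj
      rw [h5, map_zero]
    have h7 : A.presheaf.germ (V ⊓ D) x hxW t' = A.presheaf.germ W x hxW' (A.presheaf.map i₁.op t') :=
      (TopCat.Presheaf.germ_res_apply A.presheaf i₁ x hxW' t').symm
    rw [h7, h6, map_zero]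
    rfl
  · intro y
    obtain ⟨V, hxV, t, rfl⟩ := B.presheaf.exists_germ_eq (x := x) y
    have hxW : x ∈ V ⊓ D := ⟨hxV, hx⟩
    have h1 : B.presheaf.germ V x hxV t = B.presheaf.germ (V ⊓ D) x hxW
        (B.presheaf.map (homOfLE inf_le_left).op t) :=
      (TopCat.Presheaf.germ_res_apply B.presheaf (homOfLE inf_le_left) x hxW t).symm
    rw [h1]
    have hiso : IsIso (f.app (V ⊓ D)) := h _ inf_le_right
    obtain ⟨s, hs⟩ := (ConcreteCategory.bijective_of_isIso (f.app (V ⊓ D))).2
      (B.presheaf.map (homOfLE inf_le_left).op t)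
    refine ⟨A.presheaf.germ (V ⊓ D) x hxW s, ?_⟩
    rw [← hs]
    exact DerSch.stalkFunctor_map_germ x f (V ⊓ D) hxW s

theorem stalk_injective_of_mono {A B : X.Modules} (f : A ⟶ B) [Mono f] (x : X) :
    Function.Injective ((DerSch.stalkFunctor X x).map f).hom := by
  have : Mono ((DerSch.stalkFunctor X x).map f) := inferInstance
  exact (ModuleCat.mono_iff_injective _).1 this

theorem stalk_surjective_of_epi {A B : X.Modules} (f : A ⟶ B) [Epi f] (x : X) :
    Function.Surjective ((DerSch.stalkFunctor X x).map f).hom := by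
  have : Epi ((DerSch.stalkFunctor X x).map f) := inferInstance
  exact (ModuleCat.epi_iff_surjective _).1 this

/-- a morphism surjective on the stalk at `x` has cokernel not supported at `x` -/
theorem not_mem_support_cokernel {A B : X.Modules} (f : A ⟶ B) (x : X)
    (h : Function.Surjective ((DerSch.stalkFunctor X x).map f).hom) : x ∉ CohB1.support (cokernel f) := by
  intro hx
  apply hx
  refine ⟨fun a b => ?_⟩
  have key : ∀ c : (cokernel f).presheaf.stalk x, c = 0 := by
    intro c
    obtain ⟨b, rfl⟩ := stalk_surjective_of_epi (cokernel.π f) x c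
    obtain ⟨a, rfl⟩ := h b
    have h1 : (DerSch.stalkFunctor X x).map f ≫ (DerSch.stalkFunctor X x).map (cokernel.π f) = 0 := by
      rw [← Functor.map_comp, cokernel.condition, Functor.map_zero]
    have h2 := congrArg (fun g => g.hom a) h1
    exact h2
  rw [key a, key b]

end Stalk

section Steps
variable {X : Scheme.{u}} [IsNoetherian X] (P : X.Modules → Prop)
  (hiso : ∀ M N : X.Modules, Nonempty (M ≅ N) → P M → P N)
  (h0 : ∀ M : X.Modules, IsZero M → P M)
  (hext : ∀ S : ShortComplex X.Modules, S.ShortExact → Coh.IsCoh S.X₁ → Coh.IsCoh S.X₂ →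
    Coh.IsCoh S.X₃ → P S.X₁ → P S.X₃ → P S.X₂)

include hiso h0 hext in
/-- **the chain step, extensions only**: `P` is closed under isomorphisms and extensions and contains `0`; if `P (i_* I)`
holds for every integral closed subscheme `Z` not meeting the open `W` and every nonzero quasi-coherent ideal `I` of
`O_Z`, then `P` holds for every coherent module vanishing on `W`. -/
theorem devissage_steps (W : X.Opens)
    (hpush : ∀ (Z : Scheme.{u}) (i : Z ⟶ X) [IsClosedImmersion i] [IsIntegral Z], i ⁻¹ᵁ W = ⊥ →
      ∀ (I : Z.Modules) (ι : I ⟶ Coh.structureModule Z) [Mono ι], Coh.IsQCoh I → ¬ IsZero I →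
        P ((Scheme.Modules.pushforward i).obj I))
    (M : X.Modules) (hM : Coh.IsCoh M) (hMW : VanOn M W) : P M := by
  obtain ⟨m, hm⟩ := exists_chain_eq_top hM
  have hcoh : ∀ j, Coh.IsCoh (chain hM j : X.Modules) := fun j =>
    Groth.Agent.S0046.result X M _ (chain hM j).arrow hM (qcoh_chain hM j)
  have hall : ∀ j, P (chain hM j : X.Modules) := by
    intro j
    induction j with
    | zero => exact h0 _ (isZero_bot M)
    | succ j ih =>
      by_cases hne : chain hM j = ⊤
      · have heq : chain hM (j + 1) = chain hM j := stepFn_of_not hM _ (fun h => h.2 hne)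
        rw [heq]; exact ih
      · obtain ⟨hle, -, Z, i, hi, hZ, I, ι, hι, hIq, hI0, ⟨e⟩⟩ := chain_isStep hM j hne
        have hc3 : Coh.IsCoh (cokernel ((chain hM j).ofLE _ hle)) :=
          isCoh_cokernel (hcoh j) (hcoh (j + 1)) _
        have hv2 : VanOn (chain hM (j + 1) : X.Modules) W := hMW.of_mono (chain hM (j + 1)).arrow
        have hv3 : VanOn (cokernel ((chain hM j).ofLE _ hle)) W := hv2.of_epi (cokernel.π _)
        have hvI : VanOn ((Scheme.Modules.pushforward i).obj I) W := hv3.of_iso e
        have hiW : i ⁻¹ᵁ W = ⊥ := preimage_eq_bot_of_vanOn i ι hI0 hvI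
        have hPI : P ((Scheme.Modules.pushforward i).obj I) := hpush Z i hiW I ι hIq hI0
        have hPc : P (cokernel ((chain hM j).ofLE _ hle)) := hiso _ _ ⟨e.symm⟩ hPI
        have hS : (ShortComplex.mk ((chain hM j).ofLE _ hle) (cokernel.π _)
            (cokernel.condition _)).ShortExact :=
          ShortComplex.ShortExact.mk' (ShortComplex.exact_cokernel _) inferInstance inferInstance
        exact hext _ hS (hcoh j) (hcoh (j + 1)) hc3 ih hPc
  have hiso' : IsIso (chain hM m).arrow := (Subobject.isIso_arrow_iff_eq_top _).2 hm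
  exact hiso _ _ ⟨asIso (chain hM m).arrow⟩ (hall m)

end Steps

end Groth.Agent.R2.H12.Dev
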