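import Mathlib
import Groth.Agent.R2.H12Dev5A
import Groth.Agent.Lib.Helper23QCohSum

/-!
# Extension-only devissage, part B: finite sums and the local structure at a point with residue-field stalk (helper12)

* `exists_equiv_pi_of_simple`: over a local ring, a nonzero finite module killed by the maximal ideal is a finite
  power of any simple module.
* `isCoh_sigma`: `E^{⊕ r}` is coherent if `E` is.
* `nonempty_stalk_sigma_equiv`: the stalk of `E^{⊕ r}`.
* `exists_sigma_restrict_iso`: a coherent `G` whose stalk at `x` is nonzero and killed by the maximal ideal is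
  isomorphic to `E^{⊕ r}`, `r ≥ 1`, over an affine open neighbourhood of `x`, for any coherent `E` with simple stalk
  at `x`.
-/

set_option autoImplicit false
universe u
open CategoryTheory Limits AlgebraicGeometry TopologicalSpace Opposite

namespace Groth.Agent.R2.H12.Dev

open Groth.Agent.Lib.Helper23.QCohLocal Groth.Agent.Lib.Helper2.Push Groth.Agent.Lib.Helper2.QCoh
  Groth.Agent.Lib.Helper23.FinType Groth.Agent.Lib.Helper23.ModLocal Groth.Agent.Lib.Helper23.Extend
open Groth.Agent.R2.H12.IdealMul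

attribute [local instance] Abelian.hasFiniteBiproducts

theorem exists_equiv_pi_of_simple {R : Type u} [CommRing R] [IsLocalRing R] (M N : Type u)
    [AddCommGroup M] [Module R M] [AddCommGroup N] [Module R N] [Module.Finite R M] [Nontrivial M]
    (hM : ∀ a ∈ IsLocalRing.maximalIdeal R, ∀ m : M, a • m = 0) (hN : IsSimpleModule R N) :
    ∃ r : ℕ, 1 ≤ r ∧ Nonempty (M ≃ₗ[R] (Fin r → N)) := by
  have htors : Module.IsTorsionBySet R M (IsLocalRing.maximalIdeal R : Set R) := fun m a => hM a.1 a.2 m
  let _ : Module (IsLocalRing.ResidueField R) M := htors.module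
  have : IsScalarTower R (IsLocalRing.ResidueField R) M := htors.isScalarTower
  have : Module.Finite (IsLocalRing.ResidueField R) M := Module.Finite.of_restrictScalars_finite R _ _
  let b := Module.finBasis (IsLocalRing.ResidueField R) M
  obtain ⟨I, hI, ⟨e⟩⟩ := isSimpleModule_iff_quot_maximal.1 hN
  have h1 : I = IsLocalRing.maximalIdeal R := IsLocalRing.eq_maximalIdeal hI
  subst h1
  refine ⟨Module.finrank (IsLocalRing.ResidueField R) M, Module.finrank_pos, ⟨?_⟩⟩
  exact (b.equivFun.restrictScalars R) ≪≫ₗ (LinearEquiv.piCongrRight fun _ => e.symm)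

variable {X : Scheme.{u}}

/-- evaluation of morphisms at a section, as an additive map -/
noncomputable def evalHom {A B : X.Modules} (U : X.Opens) (s : Γ(A, U)) : (A ⟶ B) →+ Γ(B, U) where
  toFun φ := φ.app U s
  map_zero' := rfl
  map_add' φ ψ := by rw [Scheme.Modules.Hom.add_app]; rfl

/-- a finite direct sum of copies of a coherent module is coherent -/
theorem isCoh_sigma (E : X.Modules) (hE : Coh.IsCoh E) (r : ℕ) : Coh.IsCoh (∐ fun _ : Fin r => E) := by
  have hEq : E.IsQuasicoherent := hE.1
  have hEf : SheafOfModules.IsFiniteType (R := X.ringCatSheaf) E := hE.2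
  have hq : (⨁ fun _ : Fin r => E).IsQuasicoherent :=
    isQuasicoherent_biproduct (fun _ : Fin r => E) (fun _ => hEq)
  have hf : SheafOfModules.IsFiniteType (R := X.ringCatSheaf) ((⨁ fun _ : Fin r => E : X.Modules)) := by
    rw [isFiniteType_iff_forall_affine]
    intro U hU
    have : Module.Finite Γ(X, U) Γ(E, U) := finite_of_isFiniteType E hU
    let φ : (Fin r → Γ(E, U)) →ₗ[Γ(X, U)] Γ(⨁ fun _ : Fin r => E, U) :=
      ∑ j, (appₗ (biproduct.ι (fun _ : Fin r => E) j) U) ∘ₗ LinearMap.proj j
    refine Module.Finite.of_surjective φ ?_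
    intro s
    refine ⟨fun j => (biproduct.π (fun _ : Fin r => E) j).app U s, ?_⟩
    have h1 : ∑ j, biproduct.π (fun _ : Fin r => E) j ≫ biproduct.ι (fun _ : Fin r => E) j = 𝟙 _ :=
      biproduct.total
    have h2 := congrArg (evalHom U s) h1
    rw [map_sum] at h2
    rw [LinearMap.sum_apply]
    exact h2
  exact isCoh_of_iso (biproduct.isoCoproduct _) ⟨hq, hf⟩

/-- the stalk of a finite direct sum of copies of `E` -/
theorem nonempty_stalk_sigma_equiv (E : X.Modules) (r : ℕ) (x : X) :
    Nonempty ((∐ fun _ : Fin r => E).presheaf.stalk x ≃ₗ[X.presheaf.stalk x]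
      (Fin r → E.presheaf.stalk x)) := by
  let F := DerSch.stalkFunctor X x
  let e1 : F.obj (∐ fun _ : Fin r => E) ≅ F.obj (⨁ fun _ : Fin r => E) :=
    F.mapIso (biproduct.isoCoproduct _).symm
  let e2 : F.obj (⨁ fun _ : Fin r => E) ≅ ⨁ fun _ : Fin r => F.obj E := F.mapBiproduct _
  let e3 := ModuleCat.biproductIsoPi (fun _ : Fin r => F.obj E)
  exact ⟨(e1 ≪≫ e2 ≪≫ e3).toLinearEquiv⟩

/-- a coherent `G` whose stalk at `x` is nonzero and killed by the maximal ideal is isomorphic to `E^{⊕ r}`, `r ≥ 1`,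
over an affine open neighbourhood of `x`, for any coherent `E` with simple stalk at `x` -/
theorem exists_sigma_restrict_iso [IsLocallyNoetherian X] (G E : X.Modules) (hG : Coh.IsCoh G)
    (hE : Coh.IsCoh E) (x : X) (hx : x ∈ CohB1.support G)
    (hGm : ∀ a ∈ IsLocalRing.maximalIdeal (X.presheaf.stalk x), ∀ m : ↑(G.presheaf.stalk x), a • m = 0)
    (hEs : IsSimpleModule (X.presheaf.stalk x) (E.presheaf.stalk x)) :
    ∃ (r : ℕ) (D : X.Opens) (hD : IsAffineOpen D), 1 ≤ r ∧ x ∈ D ∧
      Nonempty ((Scheme.Modules.restrictFunctor hD.fromSpec).obj G ≅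
        (Scheme.Modules.restrictFunctor hD.fromSpec).obj (∐ fun _ : Fin r => E)) := by
  have hGq : G.IsQuasicoherent := hG.1
  have hGf : SheafOfModules.IsFiniteType (R := X.ringCatSheaf) G := hG.2
  have hfin : Module.Finite (X.presheaf.stalk x) (G.presheaf.stalk x) :=
    Groth.Agent.Lib.Helper2.FibreCrit.finite_stalk G x
  have hnt : Nontrivial (G.presheaf.stalk x) := not_subsingleton_iff_nontrivial.1 hx
  obtain ⟨r, hr, ⟨l⟩⟩ := exists_equiv_pi_of_simple (G.presheaf.stalk x) (E.presheaf.stalk x) hGm hEs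
  obtain ⟨l'⟩ := nonempty_stalk_sigma_equiv E r x
  obtain ⟨D, hD, hxD, hθ⟩ := exists_restrict_iso_of_stalk_equiv G (∐ fun _ : Fin r => E) hG
    (isCoh_sigma E hE r) x (l ≪≫ₗ l'.symm)
  exact ⟨r, D, hD, hr, hxD, hθ⟩

end Groth.Agent.R2.H12.Dev
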