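import Mathlib
import Groth.Agent.R2.H12Dev5B

/-!
# Extension-only devissage, part C: embedding `I₀^n G` into a torsion-free module (helper12)

* `exists_mono_idealMul_pow`: `G` coherent, `a : G ⟶ Q` and `η : E' ⟶ Q` isomorphisms over the open `D`, `η` a
  monomorphism, `I₀` an ideal with `V(I₀) = X ∖ D`. Then for `n` large there is a monomorphism `φ : I₀^n G ⟶ E'` with
  `φ ≫ η = (I₀^n G ⟶ G) ≫ a`  (Deligne's formula + Artin–Rees).
* `mono_app_sigma`: a natural transformation `𝟭 ⟶ F` which is a monomorphism at `E` is one at `E^{⊕ r}`.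
* `isZero_of_vanOn_of_mono_push`: a quasi-coherent subobject of `i_* I` (`Z` integral, `I ⊆ O_Z`) vanishing on an open
  meeting `Z` is zero.
* `mono_unitJ_sigma_push`
-/

set_option autoImplicit false
universe u
open CategoryTheory Limits AlgebraicGeometry TopologicalSpace Opposite

namespace Groth.Agent.R2.H12.Dev

open Groth.Agent.Lib.Helper23.QCohLocal Groth.Agent.Lib.Helper2.Push Groth.Agent.Lib.Helper2.QCoh
  Groth.Agent.Lib.Helper23.FinType Groth.Agent.Lib.Helper23.ModLocal Groth.Agent.Lib.Helper23.Extend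
open Groth.Agent.R2.H12.IdealMul

attribute [local instance] Abelian.hasFiniteBiproducts

section Embed
variable {X : Scheme.{u}} [IsNoetherian X]

/-- `G` coherent, `a : G ⟶ Q` and `η : E' ⟶ Q` isomorphisms over the open `D`, `η` a monomorphism, `V(I₀) = X ∖ D`:
for `n` large there is a monomorphism `φ : I₀^n G ⟶ E'` with `φ ≫ η = (I₀^n G ⟶ G) ≫ a`. -/
theorem exists_mono_idealMul_pow (G E' Q : X.Modules) (hG : Coh.IsCoh G) (hE' : Coh.IsCoh E')
    [Q.IsQuasicoherent] (a : G ⟶ Q) (η : E' ⟶ Q) [Mono η] (D : X.Opens) (ha : IsoOn a D) (hη : IsoOn η D)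
    (I₀ : X.IdealSheafData) (hI₀ : (D : Set X) = (I₀.support : Set X)ᶜ) :
    ∃ n₀ : ℕ, ∀ n ≥ n₀, ∃ φ : (Dual3.idealMul (I₀ ^ n)).obj G ⟶ E', Mono φ ∧
      φ ≫ η = Dual3.idealMulι (I₀ ^ n) G ≫ a := by
  have hGq : G.IsQuasicoherent := hG.1
  have hE'q : E'.IsQuasicoherent := hE'.1
  have hcq : (cokernel η).IsQuasicoherent := isQuasicoherent_cokernel η
  -- the image `K` of `G` in `Q / E'`
  set f : G ⟶ cokernel η := a ≫ cokernel.π η with hf
  have hkq : (kernel f).IsQuasicoherent := isQuasicoherent_kernel f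
  have hkc : Coh.IsCoh (kernel f) := Groth.Agent.S0046.result X G _ (kernel.ι f) hG hkq
  have hK : Coh.IsCoh (Abelian.coimage f) := isCoh_cokernel hkc hG (kernel.ι f)
  have hKv : VanOn (Abelian.coimage f) D :=
    (vanOn_cokernel_of_isoOn η hη).of_mono (Abelian.factorThruCoimage f)
  obtain ⟨n₁, hn₁⟩ := exists_pow_idealMul_isZero I₀ D hI₀ _ hK hKv
  -- the kernel `T` of `a`
  have hTq : (kernel a).IsQuasicoherent := isQuasicoherent_kernel a
  have hTv : VanOn (kernel a) D := vanOn_kernel_of_isoOn a ha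
  obtain ⟨n₂, hn₂⟩ := exists_pow_idealMul_inf_isZero I₀ D hI₀ G hG (kernel.ι a) hTv
  refine ⟨max n₁ n₂, fun n hn => ?_⟩
  have hz₁ := hn₁ n ((le_max_left _ _).trans hn)
  have hz₂ := hn₂ n ((le_max_right _ _).trans hn)
  have h1 : Dual3.idealMulι (I₀ ^ n) G ≫ Abelian.coimage.π f = 0 := by
    rw [← Dual3.idealMul_map_ι, hz₁.eq_of_src (Dual3.idealMulι (I₀ ^ n) (Abelian.coimage f)) 0, comp_zero]
  have h2 : (Dual3.idealMulι (I₀ ^ n) G ≫ a) ≫ cokernel.π η = 0 := by
    rw [Category.assoc, ← hf, ← Abelian.coimage.fac f, ← Category.assoc, h1, zero_comp]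
  refine ⟨Abelian.monoLift η _ h2, ?_, Abelian.monoLift_comp η _ h2⟩
  set φ := Abelian.monoLift η _ h2 with hφ
  have hφη : φ ≫ η = Dual3.idealMulι (I₀ ^ n) G ≫ a := Abelian.monoLift_comp η _ h2
  apply Preadditive.mono_of_kernel_zero
  have h3 : (kernel.ι φ ≫ Dual3.idealMulι (I₀ ^ n) G) ≫ a = 0 := by
    rw [Category.assoc, ← hφη, ← Category.assoc, kernel.condition, zero_comp]
  have h4 : kernel.ι φ ≫ Dual3.idealMulι (I₀ ^ n) G =
      kernel.lift a (kernel.ι φ ≫ Dual3.idealMulι (I₀ ^ n) G) h3 ≫ kernel.ι a := (kernel.lift_ι _ _ _).symm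
  have h5 : kernel.ι φ = pullback.lift (kernel.ι φ) (kernel.lift a _ h3) h4 ≫
      pullback.fst (Dual3.idealMulι (I₀ ^ n) G) (kernel.ι a) := (pullback.lift_fst _ _ _).symm
  rw [h5, hz₂.eq_of_tgt (pullback.lift (kernel.ι φ) (kernel.lift a _ h3) h4) 0, zero_comp]

end Embed

section Sigma

/-- a natural transformation `𝟭 ⟶ F` which is a monomorphism at `E` is a monomorphism at `E^{⊕ r}` -/
theorem mono_app_sigma {C : Type*} [Category C] [Abelian C] {F : C ⥤ C} (η : 𝟭 C ⟶ F) (E : C) (r : ℕ)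
    (h : Mono (η.app E)) : Mono (η.app (∐ fun _ : Fin r => E)) := by
  have h1 : Mono (η.app (⨁ fun _ : Fin r => E)) := by
    apply Preadditive.mono_of_cancel_zero
    intro T x hx
    apply biproduct.hom_ext
    intro k
    rw [zero_comp]
    have hn := η.naturality (biproduct.π (fun _ : Fin r => E) k)
    have h2 : (x ≫ biproduct.π (fun _ : Fin r => E) k) ≫ η.app E = 0 := by
      rw [Category.assoc]
      erw [hn]
      rw [← Category.assoc, hx, zero_comp]
    exact (cancel_mono (η.app E)).1 (by rw [h2, zero_comp])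
  have hn := η.naturality (biproduct.isoCoproduct (fun _ : Fin r => E)).inv
  have h3 : η.app (∐ fun _ : Fin r => E) = (biproduct.isoCoproduct (fun _ : Fin r => E)).inv ≫
      η.app (⨁ fun _ : Fin r => E) ≫ F.map (biproduct.isoCoproduct (fun _ : Fin r => E)).hom := by
    rw [← Category.assoc]
    erw [hn]
    rw [Category.assoc, ← F.map_comp, Iso.inv_hom_id, F.map_id, Category.comp_id]
  rw [h3]
  infer_instance

end Sigma

section TorsionFree
variable {X Z : Scheme.{u}} (i : Z ⟶ X) [IsClosedImmersion i] [IsIntegral Z]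

/-- a quasi-coherent subobject of `i_* I` (`Z` integral, `I ⊆ O_Z`) vanishing on an open meeting `Z` is zero -/
theorem isZero_of_vanOn_of_mono_push {I : Z.Modules} (ι : I ⟶ Coh.structureModule Z) [Mono ι]
    (T : X.Modules) [T.IsQuasicoherent] (m : T ⟶ (Scheme.Modules.pushforward i).obj I) [Mono m]
    (D : X.Opens) (hD : i ⁻¹ᵁ D ≠ ⊥) (hv : VanOn T D) : IsZero T := by
  have : Mono ((Scheme.Modules.pushforward i).map ι) := inferInstance
  obtain ⟨I', ι', hι', hI'q, ⟨e⟩⟩ :=
    exists_ideal_of_mono_push i T (m ≫ (Scheme.Modules.pushforward i).map ι)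
  by_contra hT
  have hI'0 : ¬ IsZero I' := fun h => hT (((Scheme.Modules.pushforward i).map_isZero h).of_iso e.symm)
  exact hD (preimage_eq_bot_of_vanOn i ι' hI'0 (hv.of_iso e.symm))

/-- `i_* I` has no sections supported off an open meeting `Z`: the unit `i_* I ⟶ j_* j^* i_* I` is a monomorphism -/
theorem mono_unitJ_push {I : Z.Modules} (ι : I ⟶ Coh.structureModule Z) [Mono ι] [I.IsQuasicoherent]
    {W : Scheme.{u}} (j : W ⟶ X) [IsOpenImmersion j] [QuasiCompact j] [QuasiSeparated j]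
    (hj : i ⁻¹ᵁ j.opensRange ≠ ⊥) : Mono (unitJ j ((Scheme.Modules.pushforward i).obj I)) := by
  have hE : ((Scheme.Modules.pushforward i).obj I).IsQuasicoherent := isQuasicoherent_pushforward i I
  have hrq : ((Scheme.Modules.restrictFunctor j).obj ((Scheme.Modules.pushforward i).obj I)).IsQuasicoherent :=
    Scheme.Modules.isQuasicoherent_restrictFunctor j _
  have hQq : ((Scheme.Modules.pushforward j).obj
      ((Scheme.Modules.restrictFunctor j).obj ((Scheme.Modules.pushforward i).obj I))).IsQuasicoherent :=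
    isQuasicoherent_pushforward j _
  have hk : (kernel (unitJ j ((Scheme.Modules.pushforward i).obj I))).IsQuasicoherent :=
    isQuasicoherent_kernel _
  exact Preadditive.mono_of_isZero_kernel _
    (isZero_of_vanOn_of_mono_push i ι _ (kernel.ι _) j.opensRange hj (vanOn_kernel_unit j _))

/-- the same for `(i_* I)^{⊕ r}` -/
theorem mono_unitJ_sigma_push {I : Z.Modules} (ι : I ⟶ Coh.structureModule Z) [Mono ι] [I.IsQuasicoherent]
    {W : Scheme.{u}} (j : W ⟶ X) [IsOpenImmersion j] [QuasiCompact j] [QuasiSeparated j]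
    (hj : i ⁻¹ᵁ j.opensRange ≠ ⊥) (r : ℕ) :
    Mono (unitJ j (∐ fun _ : Fin r => (Scheme.Modules.pushforward i).obj I)) :=
  mono_app_sigma (Scheme.Modules.restrictAdjunction j).unit _ r (mono_unitJ_push i ι j hj)

end TorsionFree

end Groth.Agent.R2.H12.Dev
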