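import Mathlib
import Groth.Agent.R2.H12Dev5C

/-!
# Extension-only devissage, part D: the main step (helper12)

`push_ideal_ext_only`: let `P` be closed under extensions of coherent modules and such that `P (F^{⊕ r}) → P F`.
Let `i : Z ⟶ X` be an integral closed subscheme with generic point `ξ`, and suppose `P` holds for all coherent modules
supported in `Z` and not at `ξ`. If there is a coherent `G` with `G_ξ ≠ 0` killed by `𝔪_ξ`, having arbitrarily small
subobjects `G' ⊆ J G` (`ξ ∉ V(J)`) with `G'_ξ = G_ξ` and `P G'`, then `P (i_* I)` for every nonzero ideal `I ⊆ O_Z`.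
(Stacks 01YM / EGA III 3.1.3, using only the extension direction.)
-/

set_option autoImplicit false
universe u
open CategoryTheory Limits AlgebraicGeometry TopologicalSpace Opposite

namespace Groth.Agent.R2.H12.Dev

open Groth.Agent.Lib.Helper23.QCohLocal Groth.Agent.Lib.Helper2.Push Groth.Agent.Lib.Helper2.QCoh
  Groth.Agent.Lib.Helper23.FinType Groth.Agent.Lib.Helper23.ModLocal Groth.Agent.Lib.Helper23.Extend
open Groth.Agent.R2.H12.IdealMul

attribute [local instance] Abelian.hasFiniteBiproducts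

section VanSigma
variable {X : Scheme.{u}}

theorem VanOn.sigma {E : X.Modules} {W : X.Opens} (h : VanOn E W) (r : ℕ) :
    VanOn (∐ fun _ : Fin r => E) W := by
  have h1 : VanOn (⨁ fun _ : Fin r => E) W := by
    intro W' hW' s
    have h2 : ∑ j, biproduct.π (fun _ : Fin r => E) j ≫ biproduct.ι (fun _ : Fin r => E) j = 𝟙 _ :=
      biproduct.total
    have h3 := congrArg (evalHom W' s) h2
    rw [map_sum] at h3
    have h4 : ∀ j : Fin r, evalHom W' s
        (biproduct.π (fun _ : Fin r => E) j ≫ biproduct.ι (fun _ : Fin r => E) j) = 0 := by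
      intro j
      change (biproduct.ι (fun _ : Fin r => E) j).app W'
        ((biproduct.π (fun _ : Fin r => E) j).app W' s) = 0
      rw [h W' hW' ((biproduct.π (fun _ : Fin r => E) j).app W' s), map_zero]
    rw [Finset.sum_eq_zero (fun j _ => h4 j)] at h3
    exact h3.symm
  exact h1.of_iso (biproduct.isoCoproduct _)

end VanSigma

section Main
variable {X : Scheme.{u}} [IsNoetherian X] (P : X.Modules → Prop)
  (hext : ∀ S : ShortComplex X.Modules, S.ShortExact → Coh.IsCoh S.X₁ → Coh.IsCoh S.X₂ →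
    Coh.IsCoh S.X₃ → P S.X₁ → P S.X₃ → P S.X₂)
  (hsum : ∀ (F : X.Modules) (r : ℕ), Coh.IsCoh F → 1 ≤ r → P (∐ fun _ : Fin r => F) → P F)

include hext hsum in
theorem push_ideal_ext_only {Z : Scheme.{u}} (i : Z ⟶ X) [IsClosedImmersion i] [IsIntegral Z]
    (W : X.Opens) (hW : i ⁻¹ᵁ W = ⊥)
    (hsmall : ∀ C : X.Modules, Coh.IsCoh C → VanOn C W → i (genericPoint Z) ∉ CohB1.support C → P C)
    (G : X.Modules) (hG : Coh.IsCoh G) (hξG : i (genericPoint Z) ∈ CohB1.support G)
    (hGm : ∀ a ∈ IsLocalRing.maximalIdeal (X.presheaf.stalk (i (genericPoint Z))),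
      ∀ m : ↑(G.presheaf.stalk (i (genericPoint Z))), a • m = 0)
    (hGsub : ∀ J : X.IdealSheafData, i (genericPoint Z) ∉ (J.support : Set X) →
      ∃ (G' : X.Modules) (ι' : G' ⟶ (Dual3.idealMul J).obj G), Mono ι' ∧ Coh.IsQCoh G' ∧
        Function.Surjective
          ((DerSch.stalkFunctor X (i (genericPoint Z))).map (ι' ≫ Dual3.idealMulι J G)).hom ∧ P G')
    (I : Z.Modules) (ι : I ⟶ Coh.structureModule Z) [Mono ι] (hIq : Coh.IsQCoh I) (hI0 : ¬ IsZero I) :
    P ((Scheme.Modules.pushforward i).obj I) := by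
  have hZN : IsNoetherian Z := isNoetherian_of_isClosedImmersion i
  have hO : Coh.IsCoh (Coh.structureModule Z) := Groth.Agent.R2.H5.CohThick.isCoh_structureModule Z
  have hIc : Coh.IsCoh I := Groth.Agent.S0046.result Z _ I ι hO hIq
  have hIq' : I.IsQuasicoherent := hIq
  generalize hξ : i (genericPoint Z) = ξ at *
  have hE : Coh.IsCoh ((Scheme.Modules.pushforward i).obj I) := Groth.Agent.S0019.result i I hIc
  -- the stalk of `E` at `ξ` is simple
  have hEs : IsSimpleModule (X.presheaf.stalk ξ) (((Scheme.Modules.pushforward i).obj I).presheaf.stalk ξ) := by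
    obtain ⟨D', hD', hι⟩ := exists_isoOn_of_ideal ι hI0
    obtain ⟨t, ht, hDt⟩ := i.isEmbedding.isInducing.isOpen_iff.mp D'.isOpen
    have hWD : i ⁻¹ᵁ (⟨t, ht⟩ : X.Opens) = D' := Opens.ext hDt
    have hiso' : IsoOn ((Scheme.Modules.pushforward i).map ι) ⟨t, ht⟩ := isoOn_push i ι D' hι _ hWD.le
    have hξt : ξ ∈ (⟨t, ht⟩ : X.Opens) := by
      have h1 : genericPoint Z ∈ D' :=
        ((genericPoint_spec Z).mem_open_set_iff D'.isOpen).2 (by simpa using hD')
      rw [← hWD] at h1
      rw [← hξ]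
      exact h1
    have hb := stalk_bijective_of_isoOn _ hiso' ξ hξt
    have hs : IsSimpleModule (X.presheaf.stalk ξ)
        (((Scheme.Modules.pushforward i).obj (Coh.structureModule Z)).presheaf.stalk ξ) := by
      rw [← hξ]
      exact isSimpleModule_stalk_push_structureModule i
    let l : (((Scheme.Modules.pushforward i).obj I).presheaf.stalk ξ) ≃ₗ[X.presheaf.stalk ξ]
        (((Scheme.Modules.pushforward i).obj (Coh.structureModule Z)).presheaf.stalk ξ) :=
      LinearEquiv.ofBijective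
        ((DerSch.stalkFunctor X ξ).map ((Scheme.Modules.pushforward i).map ι)).hom hb
    exact IsSimpleModule.congr l
  obtain ⟨r, D, hD, hr, hξD, ⟨θ⟩⟩ := exists_sigma_restrict_iso G _ hG hE ξ hξG hGm hEs
  have hE' : Coh.IsCoh (∐ fun _ : Fin r => (Scheme.Modules.pushforward i).obj I) := isCoh_sigma _ hE r
  -- the comparison maps to `Q = j_* j^* E'`
  have hGq : G.IsQuasicoherent := hG.1
  have hE'q : (∐ fun _ : Fin r => (Scheme.Modules.pushforward i).obj I).IsQuasicoherent := hE'.1
  have hrq : ((Scheme.Modules.restrictFunctor hD.fromSpec).obj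
      (∐ fun _ : Fin r => (Scheme.Modules.pushforward i).obj I)).IsQuasicoherent :=
    Scheme.Modules.isQuasicoherent_restrictFunctor hD.fromSpec _
  have hQq : ((Scheme.Modules.pushforward hD.fromSpec).obj ((Scheme.Modules.restrictFunctor hD.fromSpec).obj
      (∐ fun _ : Fin r => (Scheme.Modules.pushforward i).obj I))).IsQuasicoherent :=
    isQuasicoherent_pushforward hD.fromSpec _
  have ha : IsoOn (unitJ hD.fromSpec G ≫ (Scheme.Modules.pushforward hD.fromSpec).map θ.hom) D := by
    have h1 := isoOn_unitJ hD.fromSpec G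
    rw [hD.opensRange_fromSpec] at h1
    refine h1.comp fun W' _ => ?_
    infer_instance
  have hη : IsoOn (unitJ hD.fromSpec (∐ fun _ : Fin r => (Scheme.Modules.pushforward i).obj I)) D := by
    have h1 := isoOn_unitJ hD.fromSpec (∐ fun _ : Fin r => (Scheme.Modules.pushforward i).obj I)
    rwa [hD.opensRange_fromSpec] at h1
  have hjD : i ⁻¹ᵁ hD.fromSpec.opensRange ≠ ⊥ := by
    rw [hD.opensRange_fromSpec]
    intro h
    have h1 : genericPoint Z ∈ i ⁻¹ᵁ D := by
      rw [← hξ] at hξD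
      exact hξD
    rw [h] at h1
    exact absurd h1 (by simp)
  have hmono : Mono (unitJ hD.fromSpec (∐ fun _ : Fin r => (Scheme.Modules.pushforward i).obj I)) :=
    mono_unitJ_sigma_push i ι hD.fromSpec hjD r
  -- the ideal of the complement of `D`
  obtain ⟨I₀, hI₀⟩ : ∃ I₀ : X.IdealSheafData, (D : Set X) = (I₀.support : Set X)ᶜ := by
    refine ⟨Scheme.IdealSheafData.vanishingIdeal ⟨(D : Set X)ᶜ, D.isOpen.isClosed_compl⟩, ?_⟩
    rw [Scheme.IdealSheafData.coe_support_vanishingIdeal]
    exact (compl_compl _).symm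
  obtain ⟨n, hn⟩ := exists_mono_idealMul_pow G _ _ hG hE'
    (unitJ hD.fromSpec G ≫ (Scheme.Modules.pushforward hD.fromSpec).map θ.hom)
    (unitJ hD.fromSpec (∐ fun _ : Fin r => (Scheme.Modules.pushforward i).obj I)) D ha hη I₀ hI₀
  obtain ⟨φ, hφ, hφη⟩ := hn (n + 1) (Nat.le_succ n)
  have hξJ : ξ ∉ ((I₀ ^ (n + 1)).support : Set X) := by
    rw [Scheme.IdealSheafData.support_pow_succ]
    intro h
    have h1 : ξ ∈ ((I₀.support : Set X)ᶜ) := hI₀ ▸ hξD
    exact h1 h
  obtain ⟨G', ι', hι', hG'q, hsurj, hPG'⟩ := hGsub (I₀ ^ (n + 1)) hξJ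
  -- the embedding `ψ : G' ⟶ E'`
  have hψmono : Mono (ι' ≫ φ) := mono_comp _ _
  have hG' : Coh.IsCoh G' := Groth.Agent.S0046.result X _ G' (ι' ≫ φ) hE' hG'q
  have hψsurj : Function.Surjective ((DerSch.stalkFunctor X ξ).map (ι' ≫ φ)).hom := by
    intro y
    have hbη := stalk_bijective_of_isoOn _ hη ξ hξD
    have hba := stalk_bijective_of_isoOn _ ha ξ hξD
    obtain ⟨z, hz⟩ := hba.2 (((DerSch.stalkFunctor X ξ).map
      (unitJ hD.fromSpec (∐ fun _ : Fin r => (Scheme.Modules.pushforward i).obj I))).hom y)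
    obtain ⟨w, rfl⟩ := hsurj z
    refine ⟨w, hbη.1 ?_⟩
    rw [← hz]
    have h1 : (ι' ≫ φ) ≫ unitJ hD.fromSpec (∐ fun _ : Fin r => (Scheme.Modules.pushforward i).obj I) =
        (ι' ≫ Dual3.idealMulι (I₀ ^ (n + 1)) G) ≫
          (unitJ hD.fromSpec G ≫ (Scheme.Modules.pushforward hD.fromSpec).map θ.hom) := by
      rw [Category.assoc, hφη, Category.assoc]
    have h2 : (DerSch.stalkFunctor X ξ).map (ι' ≫ φ) ≫ (DerSch.stalkFunctor X ξ).map
        (unitJ hD.fromSpec (∐ fun _ : Fin r => (Scheme.Modules.pushforward i).obj I)) =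
        (DerSch.stalkFunctor X ξ).map (ι' ≫ Dual3.idealMulι (I₀ ^ (n + 1)) G) ≫
          (DerSch.stalkFunctor X ξ).map
            (unitJ hD.fromSpec G ≫ (Scheme.Modules.pushforward hD.fromSpec).map θ.hom) := by
      rw [← Functor.map_comp, ← Functor.map_comp, h1]
    exact congrArg (fun g => g.hom w) h2
  have hC : Coh.IsCoh (cokernel (ι' ≫ φ)) := isCoh_cokernel hG' hE' _
  have hCv : VanOn (cokernel (ι' ≫ φ)) W :=
    ((vanOn_push_of_preimage_eq_bot i I W hW).sigma r).of_epi (cokernel.π _)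
  have hPC : P (cokernel (ι' ≫ φ)) := hsmall _ hC hCv (not_mem_support_cokernel _ ξ hψsurj)
  have hS : (ShortComplex.mk (ι' ≫ φ) (cokernel.π _) (cokernel.condition _)).ShortExact :=
    ShortComplex.ShortExact.mk' (ShortComplex.exact_cokernel _) inferInstance inferInstance
  exact hsum _ r hE hr (hext _ hS hG' hE' hC hPG' hPC)

end Main

end Groth.Agent.R2.H12.Dev
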