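import Mathlib
import Groth.Agent.R2.H12IdealMulB

/-!
# The submodule sheaf `I · F`, part C: sections lying in all `I^n F` (helper12)

* `mem_range_of_vanishing_near`: a global section of a quasi-coherent module vanishing on a neighbourhood of `V(I)`
  lies in `Γ(X, I^n F)` for every `n`.
* `exists_open_of_forall_mem_range`: on a locally Noetherian scheme, a global section of a coherent module lying in
  `Γ(X, I^n F)` for every `n` vanishes on a neighbourhood of `V(I)` (Krull's intersection theorem).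
-/

set_option autoImplicit false
universe u
open CategoryTheory Limits AlgebraicGeometry TopologicalSpace Opposite

namespace Groth.Agent.R2.H12.IdealMul

open Groth.Agent.R2.H12.Dev Groth.Agent.Lib.Helper23.QCohLocal Groth.Agent.Lib.Helper2.QCoh
  Groth.Agent.Lib.Helper23.Extend

variable {X : Scheme.{u}}

/-- membership in `Γ(X, J·F)` is local on affine opens -/
theorem mem_range_idealMulι_top_iff (J : X.IdealSheafData) (F : X.Modules) [F.IsQuasicoherent] (s : Γ(F, ⊤)) :
    s ∈ Set.range ((Dual3.idealMulι J F).app ⊤) ↔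
      ∀ U : X.affineOpens, F.presheaf.map (homOfLE (le_top : U.1 ≤ ⊤)).op s ∈
        (J.ideal U • ⊤ : Submodule Γ(X, U.1) Γ(F, U.1)) := by
  constructor
  · rintro ⟨t, rfl⟩ U
    rw [← mem_range_idealMulι_app_iff]
    exact ⟨((Dual3.idealMul J).obj F).presheaf.map (homOfLE (le_top : U.1 ≤ ⊤)).op t,
      app_map (Dual3.idealMulι J F) (homOfLE (le_top : U.1 ≤ ⊤)) t⟩
  · intro h
    refine exists_app_kernel_ι_eq _ ⊤ s ?_
    refine Groth.Agent.Lib.Helper2.QcPush.section_eq_zero_of_cover _ ⊤ _ fun x _ => ?_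
    obtain ⟨U, hU, hxU, -⟩ := exists_isAffineOpen_mem_and_subset (x := x) (U := ⊤) trivial
    refine ⟨U, le_top, hxU, ?_⟩
    rw [← app_map]
    exact (unit_app_eq_zero_iff J F ⟨U, hU⟩ _).2 (h ⟨U, hU⟩)

/-- a global section of a quasi-coherent module vanishing on a neighbourhood of `V(I)` lies in `Γ(X, I^n F)` for
every `n` -/
theorem mem_range_of_vanishing_near (I : X.IdealSheafData) (F : X.Modules) [F.IsQuasicoherent] (s : Γ(F, ⊤))
    (V : X.Opens) (hV : I.supportSet ⊆ (V : Set X))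
    (hs : F.presheaf.map (homOfLE (le_top : V ≤ ⊤)).op s = 0) (n : ℕ) :
    s ∈ Set.range ((Dual3.idealMulι (I ^ n) F).app ⊤) := by
  rw [mem_range_idealMulι_top_iff]
  intro U
  have hU : IsAffineOpen U.1 := U.2
  set m := F.presheaf.map (homOfLE (le_top : U.1 ≤ ⊤)).op s with hm
  have h2 : (I ^ n).ideal U = I.ideal U ^ n := rfl
  rw [h2]
  -- the ideal `Ann(m) + I(U)^n` is the unit ideal
  have htop : Groth.Agent.Lib.Helper2.QCoh.ann F m ⊔ I.ideal U ^ n = ⊤ := by
    by_contra hne
    obtain ⟨p, hp, hle⟩ := Ideal.exists_le_maximal _ hne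
    have hpp : p.IsPrime := hp.isPrime
    let q : PrimeSpectrum Γ(X, U.1) := ⟨p, hpp⟩
    have hxU : hU.fromSpec q ∈ U.1 := fromSpec_mem hU q
    -- the point lies in the support of `I`
    have hxs : hU.fromSpec q ∈ I.supportSet := by
      rw [Scheme.IdealSheafData.mem_supportSet_iff_of_mem (U := U) hxU, Scheme.mem_zeroLocus_iff]
      intro f hf hxf
      apply (mem_basicOpen_fromSpec_iff hU q f).1 hxf
      have h3 : f ^ n ∈ p := hle (Ideal.mem_sup_right (Ideal.pow_mem_pow hf n))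
      exact hpp.mem_of_pow_mem n h3
    have hxV : hU.fromSpec q ∈ V ⊓ U.1 := ⟨hV hxs, hxU⟩
    -- a basic open neighbourhood inside `V ∩ U`
    obtain ⟨g, hgle, hxg⟩ := hU.exists_basicOpen_le ⟨hU.fromSpec q, hxV⟩ hxU
    have hxg' : hU.fromSpec q ∈ X.basicOpen g := hxg
    have hg0 : F.presheaf.map (homOfLE (X.basicOpen_le g)).op m = 0 := by
      have h4 : F.presheaf.map (homOfLE (le_top : X.basicOpen g ≤ ⊤)).op s = 0 := by
        have h5 : (homOfLE (le_top : X.basicOpen g ≤ ⊤)).op =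
            (homOfLE (le_top : V ≤ ⊤)).op ≫ (homOfLE (hgle.trans inf_le_left)).op := rfl
        rw [h5, Functor.map_comp, ConcreteCategory.comp_apply, hs, map_zero]
      have h6 : (homOfLE (le_top : X.basicOpen g ≤ ⊤)).op =
          (homOfLE (le_top : U.1 ≤ ⊤)).op ≫ (homOfLE (X.basicOpen_le g)).op := rfl
      rw [h6, Functor.map_comp, ConcreteCategory.comp_apply] at h4
      exact h4
    obtain ⟨k, hk⟩ := exists_pow_smul_eq_zero hU F g m hg0
    have hgk : g ^ k ∈ p := hle (Ideal.mem_sup_left (Groth.Agent.Lib.Helper2.QCoh.mem_ann.2 hk))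
    have hgp : g ∈ p := hpp.mem_of_pow_mem k hgk
    exact (mem_basicOpen_fromSpec_iff hU q g).1 hxg' hgp
  have h1 : (1 : Γ(X, U.1)) ∈ Groth.Agent.Lib.Helper2.QCoh.ann F m ⊔ I.ideal U ^ n := htop ▸ Submodule.mem_top
  obtain ⟨a, ha, b, hb, hab⟩ := Submodule.mem_sup.1 h1
  have hm' : m = b • m := by
    have : (a + b) • m = m := by rw [hab, one_smul]
    rw [add_smul, Groth.Agent.Lib.Helper2.QCoh.mem_ann.1 ha, zero_add] at this
    exact this.symm
  rw [hm']
  exact Submodule.smul_mem_smul hb trivial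

/-- if `x ∈ U` is not in `D(r)` then it is in `D(1 - r)` -/
theorem mem_basicOpen_one_sub {U : X.Opens} (r : Γ(X, U)) (x : X) (hxU : x ∈ U) (hx : x ∉ X.basicOpen r) :
    x ∈ X.basicOpen (1 - r) := by
  rw [Scheme.mem_basicOpen _ _ x hxU] at hx ⊢
  rw [map_sub, map_one]
  exact (IsLocalRing.isUnit_or_isUnit_one_sub_self _).resolve_left hx

/-- a section killed by `g` vanishes on `D(g)` -/
theorem map_basicOpen_eq_zero_of_smul_eq_zero (F : X.Modules) {U : X.Opens} (g : Γ(X, U)) (m : Γ(F, U))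
    (h : g • m = 0) : F.presheaf.map (homOfLE (X.basicOpen_le g)).op m = 0 := by
  have h1 := Scheme.Modules.map_smul F (homOfLE (X.basicOpen_le g)) g m
  rw [h, map_zero] at h1
  have hu : IsUnit (X.presheaf.map (homOfLE (X.basicOpen_le g)).op g) :=
    X.toRingedSpace.isUnit_res_basicOpen g
  exact (hu.smul_eq_zero).mp h1.symm

/-- on a locally Noetherian scheme, a global section of a coherent module lying in `Γ(X, I^n F)` for every `n`
vanishes on a neighbourhood of `V(I)` (Krull's intersection theorem) -/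
theorem exists_open_of_forall_mem_range [IsLocallyNoetherian X] (I : X.IdealSheafData) (F : X.Modules)
    (hF : Coh.IsCoh F) (s : Γ(F, ⊤))
    (h : ∀ n : ℕ, s ∈ Set.range ((Dual3.idealMulι (I ^ n) F).app ⊤)) :
    ∃ V : X.Opens, I.supportSet ⊆ (V : Set X) ∧
      F.presheaf.map (homOfLE (le_top : V ≤ ⊤)).op s = 0 := by
  have hFq : F.IsQuasicoherent := hF.1
  have hFf : SheafOfModules.IsFiniteType (R := X.ringCatSheaf) F := hF.2
  -- for each affine open, an element `r ∈ I(U)` with `r • s|_U = s|_U`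
  have key : ∀ U : X.affineOpens, ∃ r : Γ(X, U.1), r ∈ I.ideal U ∧
      r • F.presheaf.map (homOfLE (le_top : U.1 ≤ ⊤)).op s =
        F.presheaf.map (homOfLE (le_top : U.1 ≤ ⊤)).op s := by
    intro U
    have hR : IsNoetherianRing Γ(X, U.1) := IsLocallyNoetherian.component_noetherian U
    have hfin : Module.Finite Γ(X, U.1) Γ(F, U.1) :=
      Groth.Agent.Lib.Helper23.FinType.finite_of_isFiniteType F U.2
    have hmem : F.presheaf.map (homOfLE (le_top : U.1 ≤ ⊤)).op s ∈
        (⨅ i : ℕ, I.ideal U ^ i • ⊤ : Submodule Γ(X, U.1) Γ(F, U.1)) := by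
      rw [Submodule.mem_iInf]
      intro n
      exact (mem_range_idealMulι_top_iff (I ^ n) F s).1 (h n) U
    obtain ⟨r, hr⟩ := (Ideal.mem_iInf_smul_pow_eq_bot_iff (I.ideal U) _).1 hmem
    exact ⟨r.1, r.2, hr⟩
  choose r hrI hrs using key
  refine ⟨⨆ U : X.affineOpens, X.basicOpen (1 - r U), ?_, ?_⟩
  · intro x hx
    obtain ⟨U, hU, hxU, -⟩ := exists_isAffineOpen_mem_and_subset (x := x) (U := ⊤) trivial
    have hx' : x ∉ X.basicOpen (r ⟨U, hU⟩) := by
      rw [Scheme.IdealSheafData.mem_supportSet_iff_of_mem (U := ⟨U, hU⟩) hxU,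
        Scheme.mem_zeroLocus_iff] at hx
      exact hx _ (hrI _)
    exact Opens.mem_iSup.2 ⟨⟨U, hU⟩, mem_basicOpen_one_sub _ x hxU hx'⟩
  · refine Groth.Agent.Lib.Helper2.QcPush.section_eq_zero_of_cover _ _ _ fun x hx => ?_
    obtain ⟨U, hxU⟩ := Opens.mem_iSup.1 hx
    refine ⟨X.basicOpen (1 - r U), le_iSup (fun U : X.affineOpens => X.basicOpen (1 - r U)) U, hxU, ?_⟩
    have h0 : (1 - r U) • F.presheaf.map (homOfLE (le_top : U.1 ≤ ⊤)).op s = 0 := by
      rw [sub_smul, one_smul, hrs, sub_self]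
    have h1 := map_basicOpen_eq_zero_of_smul_eq_zero F (1 - r U) _ h0
    rw [← ConcreteCategory.comp_apply, ← Functor.map_comp] at h1 ⊢
    exact h1

end Groth.Agent.R2.H12.IdealMul
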