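import Mathlib.CategoryTheory.Limits.FormalCoproducts.Cech
import Mathlib.AlgebraicTopology.SimplicialObject.Homotopy
import Mathlib.AlgebraicTopology.SimplicialObject.ChainHomotopy
import Mathlib.AlgebraicTopology.AlternatingFaceMapComplex

set_option autoImplicit false
set_option linter.unusedSectionVars false

open CategoryTheory CategoryTheory.Limits Opposite Simplicial

universe w v u

namespace Groth.Agent.R2.H13.CechHtpy

open FormalCoproduct

section Mix

variable {C : Type u} [Category.{v} C] {U V : FormalCoproduct.{w} C} (f g : U ⟶ V)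

/-- The morphism `U^α ⟶ V^α` which applies `f` on the coordinates where `c` is true and `g` on the
others. -/
noncomputable def mix (α : Type) [HasProductsOfShape α C] (c : α → Bool) :
    U.power α ⟶ V.power α :=
  Fan.IsLimit.lift (V.isLimitPowerFan α) (fun a => U.powerπ a ≫ cond (c a) f g)

lemma mix_π (α : Type) [HasProductsOfShape α C] (c : α → Bool) (a : α) :
    mix f g α c ≫ V.powerπ a = U.powerπ a ≫ cond (c a) f g :=
  Fan.IsLimit.fac (V.isLimitPowerFan α) _ a

lemma mix_mapPower {α β : Type} [HasProductsOfShape α C] [HasProductsOfShape β C]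
    (φ : α → β) (c : β → Bool) :
    mix f g β c ≫ V.mapPower φ = U.mapPower φ ≫ mix f g α (c ∘ φ) := by
  refine Fan.IsLimit.hom_ext (V.isLimitPowerFan α) _ _ (fun a => ?_)
  change (mix f g β c ≫ V.mapPower φ) ≫ V.powerπ a = (U.mapPower φ ≫ mix f g α (c ∘ φ)) ≫ V.powerπ a
  rw [Category.assoc, Category.assoc, mapPower_π, mix_π, mix_π, mapPower_π_assoc]
  rfl

lemma powerMap_π (α : Type) [HasProductsOfShape α C] (a : α) :
    powerMap f α ≫ V.powerπ a = U.powerπ a ≫ f := by
  ext i
  · rfl
  · simp
    erw [Category.comp_id]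
    exact Pi.map_π _ _

lemma mix_true (α : Type) [HasProductsOfShape α C] :
    mix f g α (fun _ => true) = powerMap f α := by
  refine Fan.IsLimit.hom_ext (V.isLimitPowerFan α) _ _ (fun a => ?_)
  change mix f g α (fun _ => true) ≫ V.powerπ a = powerMap f α ≫ V.powerπ a
  rw [mix_π, powerMap_π]
  rfl

lemma mix_false (α : Type) [HasProductsOfShape α C] :
    mix f g α (fun _ => false) = powerMap g α := by
  refine Fan.IsLimit.hom_ext (V.isLimitPowerFan α) _ _ (fun a => ?_)
  change mix f g α (fun _ => false) ≫ V.powerπ a = powerMap g α ≫ V.powerπ a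
  rw [mix_π, powerMap_π]
  rfl

end Mix

section Htpy

variable {C : Type u} [Category.{v} C] [HasFiniteProducts C] {U V : FormalCoproduct.{w} C}
  (f g : U ⟶ V)

/-- `mix` as a morphism between the terms of the Cech objects. -/
noncomputable def mixS (n : ℕ) (c : Fin (n + 1) → Bool) :
    (cechFunctor.obj U) _⦋n⦌ ⟶ (cechFunctor.obj V) _⦋n⦌ :=
  mix f g (Fin (n + 1)) c

lemma mixS_δ (n : ℕ) (c : Fin (n + 2) → Bool) (i : Fin (n + 2)) :
    mixS f g (n + 1) c ≫ (cechFunctor.obj V).δ i =
      (cechFunctor.obj U).δ i ≫ mixS f g n (fun k => c (Fin.succAbove i k)) :=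
  mix_mapPower f g (Fin.succAbove i) c

lemma mixS_σ (n : ℕ) (c : Fin (n + 1) → Bool) (i : Fin (n + 1)) :
    mixS f g n c ≫ (cechFunctor.obj V).σ i =
      (cechFunctor.obj U).σ i ≫ mixS f g (n + 1) (fun k => c (Fin.predAbove i k)) :=
  mix_mapPower f g (Fin.predAbove i) c

lemma mixS_true (n : ℕ) : mixS f g n (fun _ => true) = (cechFunctor.map f).app (op ⦋n⦌) :=
  mix_true f g _

lemma mixS_false (n : ℕ) : mixS f g n (fun _ => false) = (cechFunctor.map g).app (op ⦋n⦌) :=
  mix_false f g _

lemma mixS_congr (n : ℕ) {c c' : Fin (n + 1) → Bool} (h : ∀ a, c a = c' a) :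
    mixS f g n c = mixS f g n c' := by
  rw [funext h]

/-- The components of the simplicial homotopy. -/
noncomputable def hh {n : ℕ} (i : Fin (n + 1)) :
    (cechFunctor.obj U) _⦋n⦌ ⟶ (cechFunctor.obj V) _⦋n + 1⦌ :=
  (cechFunctor.obj U).σ i ≫ mixS f g (n + 1) (fun k => decide (k ≤ i.castSucc))

lemma hh_δ {n : ℕ} (j : Fin (n + 1)) (i : Fin (n + 2)) :
    hh f g j ≫ (cechFunctor.obj V).δ i = ((cechFunctor.obj U).σ j ≫ (cechFunctor.obj U).δ i) ≫
      mixS f g n (fun k => decide (Fin.succAbove i k ≤ j.castSucc)) := by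
  unfold hh
  rw [Category.assoc, Category.assoc, mixS_δ]

lemma hh_σ {n : ℕ} (j : Fin (n + 1)) (i : Fin (n + 2)) :
    hh f g j ≫ (cechFunctor.obj V).σ i = ((cechFunctor.obj U).σ j ≫ (cechFunctor.obj U).σ i) ≫
      mixS f g (n + 2) (fun k => decide (Fin.predAbove i k ≤ j.castSucc)) := by
  unfold hh
  rw [Category.assoc, Category.assoc, mixS_σ]

/-- Two morphisms of formal coproducts induce simplicially homotopic maps on Cech objects. -/
noncomputable def cechHomotopy :
    SimplicialObject.Homotopy (cechFunctor.map f) (cechFunctor.map g) where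
  h i := hh f g i
  h_zero_comp_δ_zero n := by
    have h1 := (cechFunctor.obj U).δ_comp_σ_self (i := (0 : Fin (n + 1)))
    rw [Fin.castSucc_zero] at h1
    rw [hh_δ, h1, Category.id_comp, ← mixS_false f g]
    apply mixS_congr
    intro a
    simp only [decide_eq_false_iff_not, not_le]
    rw [Fin.succAbove_zero, Fin.castSucc_zero]
    exact Fin.succ_pos a
  h_last_comp_δ_last n := by
    have h1 := (cechFunctor.obj U).δ_comp_σ_succ (i := Fin.last n)
    rw [Fin.succ_last] at h1
    rw [hh_δ, h1, Category.id_comp, ← mixS_true f g]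
    apply mixS_congr
    intro a
    simp only [decide_eq_true_eq]
    rw [Fin.succAbove_last, Fin.castSucc_le_castSucc_iff]
    exact Fin.le_last a
  h_succ_comp_δ_castSucc_of_lt i j hij := by
    rw [hh_δ, (cechFunctor.obj U).δ_comp_σ_of_le hij, Category.assoc]
    congr 1
    unfold hh
    congr 1
    apply mixS_congr
    intro a
    simp only [Fin.succAbove, Fin.le_def, Fin.lt_def, decide_eq_decide]
    simp only [Fin.le_def] at hij
    split_ifs with h <;> simp at h hij ⊢ <;> omega
  h_succ_comp_δ_castSucc_succ j := by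
    have h1 := (cechFunctor.obj U).δ_comp_σ_self (i := j.succ)
    have h2 := (cechFunctor.obj U).δ_comp_σ_succ (i := j.castSucc)
    rw [Fin.succ_castSucc] at h2 ⊢
    rw [hh_δ, hh_δ, h1, h2]
    congr 1
    apply mixS_congr
    intro a
    simp only [Fin.succAbove, Fin.le_def, Fin.lt_def, decide_eq_decide]
    split_ifs with h <;> simp at h ⊢ <;> omega
  h_castSucc_comp_δ_succ_of_lt i j hji := by
    rw [hh_δ, (cechFunctor.obj U).δ_comp_σ_of_gt hji, Category.assoc]
    congr 1
    unfold hh
    congr 1
    apply mixS_congr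
    intro a
    simp only [Fin.succAbove, Fin.le_def, Fin.lt_def, decide_eq_decide]
    simp only [Fin.lt_def] at hji
    split_ifs with h <;> simp at h hji ⊢ <;> omega
  h_comp_σ_castSucc_of_le i j hij := by
    rw [hh_σ, (cechFunctor.obj U).σ_comp_σ hij, Category.assoc]
    congr 1
    unfold hh
    congr 1
    apply mixS_congr
    intro a
    simp only [Fin.predAbove, Fin.le_def, Fin.lt_def, decide_eq_decide]
    simp only [Fin.le_def] at hij
    split_ifs with h <;> simp at h hij ⊢ <;> omega
  h_comp_σ_succ_of_lt i j hji := by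
    rw [hh_σ, ← (cechFunctor.obj U).σ_comp_σ hji, Category.assoc]
    congr 1
    unfold hh
    congr 1
    apply mixS_congr
    intro a
    simp only [Fin.predAbove, Fin.le_def, Fin.lt_def, decide_eq_decide]
    simp only [Fin.le_def] at hji
    split_ifs with h <;> simp at h hji ⊢ <;> omega

end Htpy

section Cochain

open AlgebraicTopology

variable {D : Type*} [Category D] {A : Type*} [Category A] [Preadditive A]
  {X Y : SimplicialObject D} (Φ : Dᵒᵖ ⥤ A)

/-- The cosimplicial object obtained by applying a contravariant functor to a simplicial object. -/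
def cosObj (X : SimplicialObject D) : CosimplicialObject A := X.rightOp ⋙ Φ

/-- The map of cosimplicial objects induced by a map of simplicial objects and a contravariant
functor. -/
def cosMap (f : X ⟶ Y) : cosObj Φ Y ⟶ cosObj Φ X :=
  Functor.whiskerRight (NatTrans.rightOp f) Φ

/-- The simplicial object in the opposite category. -/
abbrev opObj (X : SimplicialObject D) : SimplicialObject Aᵒᵖ :=
  ((SimplicialObject.whiskering D Aᵒᵖ).obj Φ.rightOp).obj X

/-- The cochain complex attached to `X` and `Φ`. -/
abbrev coCx (X : SimplicialObject D) : CochainComplex A ℕ :=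
  (alternatingCofaceMapComplex A).obj (cosObj Φ X)

/-- The chain complex in the opposite category attached to `X` and `Φ`. -/
abbrev opCx (X : SimplicialObject D) : ChainComplex Aᵒᵖ ℕ :=
  (alternatingFaceMapComplex Aᵒᵖ).obj (opObj Φ X)

/-- The differential of `coCx` expressed through `opCx`. -/
def coD (X : SimplicialObject D) (n : ℕ) : (coCx Φ X).X n ⟶ (coCx Φ X).X (n + 1) :=
  ((opCx Φ X).d (n + 1) n).unop

lemma coface_d_eq (X : SimplicialObject D) (n : ℕ) :
    (coCx Φ X).d n (n + 1) = coD Φ X n := by
  have h1 : (coCx Φ X).d n (n + 1) = AlternatingCofaceMapComplex.objD (cosObj Φ X) n :=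
    CochainComplex.of_d (fun n => (cosObj Φ X).obj ⦋n⦌)
      (AlternatingCofaceMapComplex.objD (cosObj Φ X)) n
  have h2 : (opCx Φ X).d (n + 1) n = AlternatingFaceMapComplex.objD (opObj Φ X) n :=
    alternatingFaceMapComplex_obj_d _ _
  have h3 : coD Φ X n = (AlternatingFaceMapComplex.objD (opObj Φ X) n).unop :=
    congrArg Quiver.Hom.unop h2
  rw [h1, h3]
  simp only [AlternatingCofaceMapComplex.objD, AlternatingFaceMapComplex.objD, unop_sum,
    unop_zsmul]
  rfl

/-- The map of cochain complexes expressed through the opposite category. -/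
def coF (f : X ⟶ Y) (n : ℕ) : (coCx Φ Y).X n ⟶ (coCx Φ X).X n :=
  (((alternatingFaceMapComplex Aᵒᵖ).map
    (((SimplicialObject.whiskering D Aᵒᵖ).obj Φ.rightOp).map f)).f n).unop

lemma coface_map_f (f : X ⟶ Y) (n : ℕ) :
    ((alternatingCofaceMapComplex A).map (cosMap Φ f)).f n = coF Φ f n := rfl

variable {f g : X ⟶ Y} (H : SimplicialObject.Homotopy f g)

/-- The chain homotopy in the opposite category. -/
noncomputable def opHomotopy :
    Homotopy ((alternatingFaceMapComplex Aᵒᵖ).map
        (((SimplicialObject.whiskering D Aᵒᵖ).obj Φ.rightOp).map f))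
      ((alternatingFaceMapComplex Aᵒᵖ).map
        (((SimplicialObject.whiskering D Aᵒᵖ).obj Φ.rightOp).map g)) :=
  (H.whiskerRight Φ.rightOp).toChainHomotopy

/-- The components of the cochain homotopy. -/
noncomputable def coHom (p q : ℕ) : (coCx Φ Y).X p ⟶ (coCx Φ X).X q :=
  ((opHomotopy Φ H).hom q p).unop

lemma coHom_zero (p q : ℕ) (hpq : ¬ (ComplexShape.up ℕ).Rel q p) : coHom Φ H p q = 0 := by
  have h : (opHomotopy Φ H).hom q p = 0 := (opHomotopy Φ H).zero q p (by simpa using hpq)
  unfold coHom
  rw [h]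
  rfl

lemma coHom_comm_zero : coF Φ f 0 = coD Φ Y 0 ≫ coHom Φ H 1 0 + coF Φ g 0 := by
  have h := (opHomotopy Φ H).comm 0
  rw [Homotopy.dNext_zero_chainComplex, zero_add, Homotopy.prevD_chainComplex] at h
  have h' := congrArg Quiver.Hom.unop h
  rw [unop_add, unop_comp] at h'
  exact h'

lemma coHom_comm_succ (n : ℕ) :
    coF Φ f (n + 1) = coD Φ Y (n + 1) ≫ coHom Φ H (n + 2) (n + 1) +
      coHom Φ H (n + 1) n ≫ coD Φ X n + coF Φ g (n + 1) := by
  have h := (opHomotopy Φ H).comm (n + 1)
  rw [Homotopy.dNext_succ_chainComplex, Homotopy.prevD_chainComplex] at h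
  have h' := congrArg Quiver.Hom.unop h
  rw [unop_add, unop_add, unop_comp, unop_comp] at h'
  rw [add_comm (_ ≫ _) (_ ≫ _)]
  exact h'

/-- A simplicial homotopy induces a homotopy between the maps of alternating coface map
complexes obtained by applying a contravariant functor. -/
noncomputable def cochainHomotopy :
    Homotopy ((alternatingCofaceMapComplex A).map (cosMap Φ f))
      ((alternatingCofaceMapComplex A).map (cosMap Φ g)) where
  hom p q := coHom Φ H p q
  zero p q hpq := coHom_zero Φ H p q hpq
  comm i := by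
    cases i with
    | zero =>
      rw [Homotopy.prevD_zero_cochainComplex, add_zero, Homotopy.dNext_cochainComplex,
        coface_d_eq, coface_map_f, coface_map_f]
      exact coHom_comm_zero Φ H
    | succ i =>
      rw [Homotopy.prevD_succ_cochainComplex, Homotopy.dNext_cochainComplex, coface_d_eq,
        coface_d_eq, coface_map_f, coface_map_f]
      exact coHom_comm_succ Φ H i

end Cochain

end Groth.Agent.R2.H13.CechHtpy
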