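import Groth.Prelude.Def_SGA4hB
import Mathlib

/-
helper13: characteristic series `det(1 - u t)` of an endomorphism of a bounded complex of finite
free modules is invariant under isomorphism in the derived category (S3139).

Main ingredients:
* `D g = det(1 - t g)` and the Sylvester identity `D (b ∘ a) = D (a ∘ b)` (`D_comp_comm`);
* triangular decomposition w.r.t. an idempotent (`D_triangular`);
* telescoping for a contractible complex (`detEven_eq_detOdd_of_homotopy`);
* mapping cone computation (`detEven_mappingCone`, `detOdd_mappingCone`);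
* K-projectivity of bounded-above complexes of projectives to lift a derived iso to a
  quasi-isomorphism commuting with the endomorphisms up to homotopy.
-/

universe u v w

open CategoryTheory Limits
attribute [local instance] HasDerivedCategory.standard

namespace Groth.Agent.R2.H13.CharSeries
open TensorProduct Polynomial

section LinAlg
variable {R : Type*} [CommRing R] {M N : Type*} [AddCommGroup M] [Module R M] [AddCommGroup N] [Module R N]
  [Module.Finite R M] [Module.Free R M] [Module.Finite R N] [Module.Free R N]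

theorem det_one_sub_comp_comm (a : M →ₗ[R] N) (b : N →ₗ[R] M) :
    LinearMap.det (LinearMap.id - b ∘ₗ a) = LinearMap.det (LinearMap.id - a ∘ₗ b) := by
  classical
  let bM := Module.Free.chooseBasis R M
  let bN := Module.Free.chooseBasis R N
  rw [← LinearMap.det_toMatrix bM, ← LinearMap.det_toMatrix bN]
  rw [map_sub, map_sub, LinearMap.toMatrix_comp bM bN bM, LinearMap.toMatrix_comp bN bM bN,
    LinearMap.toMatrix_id, LinearMap.toMatrix_id, Matrix.det_one_sub_mul_comm]

end LinAlg

section D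
variable {A : Type u} [CommRing A] {M : Type v} {N : Type w} [AddCommGroup M] [Module A M] [AddCommGroup N] [Module A N]

/-- `det(1 - t g)`. -/
noncomputable def D (g : M →ₗ[A] M) : A[X] :=
  LinearMap.det (LinearMap.id - (X : A[X]) • g.baseChange A[X])

theorem D_of_subsingleton [Subsingleton M] (g : M →ₗ[A] M) : D g = 1 := by
  unfold D
  have : (LinearMap.id - (X : A[X]) • g.baseChange A[X]) = LinearMap.id := by
    apply LinearMap.ext
    intro x
    exact Subsingleton.elim _ _
  rw [this]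
  exact LinearMap.det_id

theorem D_mul_of (α β g : M →ₗ[A] M) (h1 : α ∘ₗ β = 0) (h2 : α + β = g) :
    D g = D α * D β := by
  unfold D
  rw [← LinearMap.det_comp]
  congr 1
  subst h2
  have h1' : α.baseChange A[X] ∘ₗ β.baseChange A[X] = 0 := by
    rw [← LinearMap.baseChange_comp, h1, LinearMap.baseChange_zero]
  rw [LinearMap.baseChange_add]
  apply LinearMap.ext
  intro x
  have := LinearMap.congr_fun h1' x
  simp only [LinearMap.comp_apply, LinearMap.zero_apply] at this
  simp only [LinearMap.sub_apply, LinearMap.id_apply, LinearMap.smul_apply, LinearMap.add_apply,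
    LinearMap.comp_apply, map_sub, map_smul, this, smul_zero, sub_zero, smul_add]
  abel

/-- Triangular decomposition with respect to an idempotent `e` such that `(1 - e) g e = 0`. -/
theorem D_triangular (e g : M →ₗ[A] M) (he : e ∘ₗ e = e)
    (h : (LinearMap.id - e) ∘ₗ g ∘ₗ e = 0) :
    D g = D ((LinearMap.id - e) ∘ₗ g ∘ₗ (LinearMap.id - e)) * D (e ∘ₗ g) := by
  apply D_mul_of
  · -- (1-e) g (1-e) e g = 0
    have : (LinearMap.id - e) ∘ₗ e = 0 := by
      rw [LinearMap.sub_comp, LinearMap.id_comp, he, sub_self]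
    rw [LinearMap.comp_assoc, LinearMap.comp_assoc, ← LinearMap.comp_assoc _ e, this,
      LinearMap.zero_comp, LinearMap.comp_zero, LinearMap.comp_zero]
  · -- (1-e) g (1-e) + e g = g
    have h' : g ∘ₗ e = e ∘ₗ g ∘ₗ e := by
      have := h
      rw [LinearMap.sub_comp, LinearMap.id_comp, sub_eq_zero] at this
      exact this
    apply LinearMap.ext
    intro x
    have hx := LinearMap.congr_fun h' x
    simp only [LinearMap.comp_apply] at hx
    simp only [LinearMap.add_apply, LinearMap.comp_apply, LinearMap.sub_apply, LinearMap.id_apply,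
      map_sub]
    rw [← hx]
    abel

variable [Module.Finite A M] [Module.Free A M] [Module.Finite A N] [Module.Free A N]

theorem D_comp_comm (a : M →ₗ[A] N) (b : N →ₗ[A] M) : D (b ∘ₗ a) = D (a ∘ₗ b) := by
  unfold D
  rw [LinearMap.baseChange_comp, LinearMap.baseChange_comp]
  have h1 : (X : A[X]) • (b.baseChange A[X] ∘ₗ a.baseChange A[X]) =
      ((X : A[X]) • b.baseChange A[X]) ∘ₗ a.baseChange A[X] := by
    rw [LinearMap.smul_comp]
  have h2 : (X : A[X]) • (a.baseChange A[X] ∘ₗ b.baseChange A[X]) =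
      a.baseChange A[X] ∘ₗ ((X : A[X]) • b.baseChange A[X]) := by
    rw [LinearMap.comp_smul]
  rw [h1, h2]
  exact det_one_sub_comp_comm _ _

end D

section Steps
variable {A : Type u} [CommRing A]

/-- One step of the telescoping for a contractible complex. -/
theorem D_contractible_step {Ck Ci Cj : Type v} [AddCommGroup Ck] [Module A Ck]
    [AddCommGroup Ci] [Module A Ci] [AddCommGroup Cj] [Module A Cj]
    [Module.Finite A Ci] [Module.Free A Ci] [Module.Finite A Cj] [Module.Free A Cj]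
    (d1 : Ck →ₗ[A] Ci) (d2 : Ci →ₗ[A] Cj) (s1 : Ci →ₗ[A] Ck) (s2 : Cj →ₗ[A] Ci)
    (wi : Ci →ₗ[A] Ci) (wj : Cj →ₗ[A] Cj)
    (hdd : d2 ∘ₗ d1 = 0) (hw : wj ∘ₗ d2 = d2 ∘ₗ wi)
    (hid : s2 ∘ₗ d2 + d1 ∘ₗ s1 = LinearMap.id) (hj : d2 ∘ₗ s2 ∘ₗ d2 = d2) :
    D wi = D (wi ∘ₗ d1 ∘ₗ s1) * D (wj ∘ₗ d2 ∘ₗ s2) := by
  have hdd' : ∀ y, d2 (d1 y) = 0 := fun y => LinearMap.congr_fun hdd y
  have hw' : ∀ y, wj (d2 y) = d2 (wi y) := fun y => LinearMap.congr_fun hw y
  have hid' : ∀ y, s2 (d2 y) + d1 (s1 y) = y := fun y => LinearMap.congr_fun hid y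
  have hj' : ∀ y, d2 (s2 (d2 y)) = d2 y := fun y => LinearMap.congr_fun hj y
  have h1e : LinearMap.id - d1 ∘ₗ s1 = s2 ∘ₗ d2 := by
    rw [← hid]; abel
  have he : (d1 ∘ₗ s1) ∘ₗ (d1 ∘ₗ s1) = d1 ∘ₗ s1 := by
    apply LinearMap.ext
    intro x
    simp only [LinearMap.comp_apply]
    have h := hid' (d1 (s1 x))
    rw [hdd', map_zero, zero_add] at h
    exact h
  have hz : (LinearMap.id - d1 ∘ₗ s1) ∘ₗ wi ∘ₗ (d1 ∘ₗ s1) = 0 := by
    rw [h1e]
    apply LinearMap.ext
    intro x
    simp only [LinearMap.comp_apply, LinearMap.zero_apply]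
    rw [← hw', hdd', map_zero, map_zero]
  have hwe : ∀ x, wi (d1 (s1 x)) = d1 (s1 (wi (d1 (s1 x)))) := by
    intro x
    have h := hid' (wi (d1 (s1 x)))
    rw [← hw', hdd', map_zero, map_zero, zero_add] at h
    exact h.symm
  rw [D_triangular (d1 ∘ₗ s1) wi he hz]
  rw [mul_comm]
  congr 1
  · -- D (e wi) = D (wi e)
    have h1 : (d1 ∘ₗ s1) ∘ₗ wi = (d1 ∘ₗ s1) ∘ₗ ((d1 ∘ₗ s1) ∘ₗ wi) := by
      rw [← LinearMap.comp_assoc, he]
    rw [h1, D_comp_comm]
    congr 1
    apply LinearMap.ext
    intro x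
    simp only [LinearMap.comp_apply]
    exact (hwe x).symm
  · -- D ((1-e) wi (1-e)) = D (wj d2 s2)
    rw [h1e]
    have h2 : (s2 ∘ₗ d2) ∘ₗ wi ∘ₗ (s2 ∘ₗ d2) = s2 ∘ₗ (d2 ∘ₗ wi ∘ₗ s2 ∘ₗ d2) := by
      apply LinearMap.ext
      intro x
      simp only [LinearMap.comp_apply]
    rw [h2, D_comp_comm]
    congr 1
    apply LinearMap.ext
    intro x
    simp only [LinearMap.comp_apply]
    rw [← hw', hj']

/-- The determinant on a degree of a mapping cone. -/
theorem D_cone_step {M K1 L0 : Type v} [AddCommGroup M] [Module A M]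
    [AddCommGroup K1] [Module A K1] [AddCommGroup L0] [Module A L0]
    [Module.Finite A M] [Module.Free A M] [Module.Finite A K1] [Module.Free A K1]
    [Module.Finite A L0] [Module.Free A L0]
    (inl : K1 →ₗ[A] M) (fst : M →ₗ[A] K1) (inr : L0 →ₗ[A] M) (snd : M →ₗ[A] L0)
    (h1 : fst ∘ₗ inl = LinearMap.id) (h2 : snd ∘ₗ inr = LinearMap.id) (h3 : fst ∘ₗ inr = 0)
    (h5 : inl ∘ₗ fst + inr ∘ₗ snd = LinearMap.id)
    (g : M →ₗ[A] M) (a : K1 →ₗ[A] K1) (b : L0 →ₗ[A] L0)
    (hg1 : g ∘ₗ inr = inr ∘ₗ b) (hg2 : fst ∘ₗ g = a ∘ₗ fst) :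
    D g = D a * D b := by
  have h1' : ∀ y, fst (inl y) = y := fun y => LinearMap.congr_fun h1 y
  have h2' : ∀ y, snd (inr y) = y := fun y => LinearMap.congr_fun h2 y
  have h3' : ∀ y, fst (inr y) = 0 := fun y => LinearMap.congr_fun h3 y
  have hg1' : ∀ y, g (inr y) = inr (b y) := fun y => LinearMap.congr_fun hg1 y
  have hg2' : ∀ y, fst (g y) = a (fst y) := fun y => LinearMap.congr_fun hg2 y
  have h1e : LinearMap.id - inr ∘ₗ snd = inl ∘ₗ fst := by
    rw [← h5]; abel
  have he : (inr ∘ₗ snd) ∘ₗ (inr ∘ₗ snd) = inr ∘ₗ snd := by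
    apply LinearMap.ext
    intro x
    simp only [LinearMap.comp_apply, h2']
  have hz : (LinearMap.id - inr ∘ₗ snd) ∘ₗ g ∘ₗ (inr ∘ₗ snd) = 0 := by
    rw [h1e]
    apply LinearMap.ext
    intro x
    simp only [LinearMap.comp_apply, LinearMap.zero_apply, hg2', h3', map_zero]
  rw [D_triangular (inr ∘ₗ snd) g he hz]
  congr 1
  · rw [h1e]
    have h6 : (inl ∘ₗ fst) ∘ₗ g ∘ₗ (inl ∘ₗ fst) = inl ∘ₗ (fst ∘ₗ g ∘ₗ inl ∘ₗ fst) := by
      apply LinearMap.ext
      intro x
      simp only [LinearMap.comp_apply]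
    rw [h6, D_comp_comm]
    congr 1
    apply LinearMap.ext
    intro x
    simp only [LinearMap.comp_apply, h1', hg2']
  · have h7 : (inr ∘ₗ snd) ∘ₗ g = inr ∘ₗ (snd ∘ₗ g) := by
      apply LinearMap.ext
      intro x
      simp only [LinearMap.comp_apply]
    rw [h7, D_comp_comm]
    congr 1
    apply LinearMap.ext
    intro x
    simp only [LinearMap.comp_apply, hg1', h2']

end Steps

section Complex
variable {A : Type u} [CommRing A]
open CategoryTheory

variable (K : CochainComplex (ModuleCat.{u} A) ℤ) (w : K ⟶ K)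

theorem detOneSub_eq_D (M : ModuleCat.{u} A) (g : M ⟶ M) : SGA4h.detOneSub M g = D g.hom := rfl

theorem detOneSub_of_isZero (M : ModuleCat.{u} A) (g : M ⟶ M) (hM : Limits.IsZero M) :
    SGA4h.detOneSub M g = 1 := by
  have := ModuleCat.subsingleton_of_isZero hM
  rw [detOneSub_eq_D]
  exact D_of_subsingleton _

/-- The auxiliary factor. -/
noncomputable def P (h : Homotopy (𝟙 K) 0) (k i : ℤ) : A[X] :=
  D ((w.f i).hom ∘ₗ (K.d k i).hom ∘ₗ (h.hom i k).hom)

theorem P_of_isZero (h : Homotopy (𝟙 K) 0) (k i : ℤ) (hi : Limits.IsZero (K.X i)) :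
    P K w h k i = 1 := by
  have := ModuleCat.subsingleton_of_isZero hi
  exact D_of_subsingleton _

theorem detOneSub_eq_P_mul (h : Homotopy (𝟙 K) 0)
    [∀ i, Module.Finite A (K.X i)] [∀ i, Module.Free A (K.X i)]
    (k i j : ℤ) (hki : k + 1 = i) (hij : i + 1 = j) :
    SGA4h.detOneSub (K.X i) (w.f i) = P K w h k i * P K w h i j := by
  rw [detOneSub_eq_D]
  unfold P
  have hid : 𝟙 (K.X i) = K.d i j ≫ h.hom j i + h.hom i k ≫ K.d k i := by
    have := h.comm i
    rw [dNext_eq h.hom (show (ComplexShape.up ℤ).Rel i j from hij),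
      prevD_eq h.hom (show (ComplexShape.up ℤ).Rel k i from hki)] at this
    simpa using this
  have hidj : 𝟙 (K.X j) = K.d j (j + 1) ≫ h.hom (j + 1) j + h.hom j i ≫ K.d i j := by
    have := h.comm j
    rw [dNext_eq h.hom (show (ComplexShape.up ℤ).Rel j (j + 1) from rfl),
      prevD_eq h.hom (show (ComplexShape.up ℤ).Rel i j from hij)] at this
    simpa using this
  have hj : K.d i j ≫ h.hom j i ≫ K.d i j = K.d i j := by
    have := congrArg (fun t => K.d i j ≫ t) hidj
    simp only [Category.comp_id, Preadditive.comp_add, HomologicalComplex.d_comp_d_assoc,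
      Limits.zero_comp, zero_add] at this
    exact this.symm
  apply D_contractible_step (K.d k i).hom (K.d i j).hom (h.hom i k).hom (h.hom j i).hom
    (w.f i).hom (w.f j).hom
  · rw [← ModuleCat.hom_comp, K.d_comp_d]; rfl
  · rw [← ModuleCat.hom_comp, ← ModuleCat.hom_comp, w.comm]
  · have := congrArg ModuleCat.Hom.hom hid
    simp only [ModuleCat.hom_add, ModuleCat.hom_comp, ModuleCat.hom_id] at this
    exact this.symm
  · have := congrArg ModuleCat.Hom.hom hj
    simp only [ModuleCat.hom_comp] at this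
    rw [LinearMap.comp_assoc] at this
    exact this

end Complex

section Finprod
variable {M : Type*} [CommMonoid M]

/-- shift equivalence between even and odd integers -/
def evenOddEquiv : {i : ℤ // Even i} ≃ {j : ℤ // Odd j} where
  toFun i := ⟨i.1 + 1, i.2.add_one⟩
  invFun j := ⟨j.1 - 1, j.2.sub_odd odd_one⟩
  left_inv i := by ext; simp
  right_inv j := by ext; simp

/-- shift equivalence between odd and even integers -/
def oddEvenEquiv : {i : ℤ // Odd i} ≃ {j : ℤ // Even j} where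
  toFun i := ⟨i.1 + 1, i.2.add_one⟩
  invFun j := ⟨j.1 - 1, j.2.sub_odd odd_one⟩
  left_inv i := by ext; simp
  right_inv j := by ext; simp

theorem finite_mulSupport_comp {p : ℤ → Prop} (F : ℤ → M) (hF : (Function.mulSupport F).Finite)
    (c : ℤ) : (Function.mulSupport (fun n : {n : ℤ // p n} => F (n.1 + c))).Finite := by
  have hinj : Function.Injective (fun n : {n : ℤ // p n} => n.1 + c) := by
    intro x y hxy
    apply Subtype.ext
    simpa using hxy
  exact (hF.preimage hinj.injOn).subset (fun n hn => hn)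

theorem finprod_even_shift (F G : ℤ → M) (hF : (Function.mulSupport F).Finite)
    (hG : (Function.mulSupport G).Finite) :
    ∏ᶠ n : {n : ℤ // Even n}, (F (n.1 + 1) * G n.1) =
      (∏ᶠ i : {i : ℤ // Odd i}, F i.1) * (∏ᶠ i : {i : ℤ // Even i}, G i.1) := by
  rw [finprod_mul_distrib (finite_mulSupport_comp F hF 1)
    (by
      have := finite_mulSupport_comp (p := fun n => Even n) G hG 0
      simp only [add_zero] at this
      exact this)]
  congr 1
  exact finprod_comp_equiv evenOddEquiv (f := fun j : {j : ℤ // Odd j} => F j.1)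

theorem finprod_odd_shift (F G : ℤ → M) (hF : (Function.mulSupport F).Finite)
    (hG : (Function.mulSupport G).Finite) :
    ∏ᶠ n : {n : ℤ // Odd n}, (F (n.1 + 1) * G n.1) =
      (∏ᶠ i : {i : ℤ // Even i}, F i.1) * (∏ᶠ i : {i : ℤ // Odd i}, G i.1) := by
  rw [finprod_mul_distrib (finite_mulSupport_comp F hF 1)
    (by
      have := finite_mulSupport_comp (p := fun n => Odd n) G hG 0
      simp only [add_zero] at this
      exact this)]
  congr 1
  exact finprod_comp_equiv oddEvenEquiv (f := fun j : {j : ℤ // Even j} => F j.1)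

end Finprod

section Derived
variable {C : Type*} [Category C] [Abelian C] [HasDerivedCategory C]

open DerivedCategory

theorem exists_lift_of_isKProjective (K L : CochainComplex C ℤ) [K.IsKProjective]
    (φ : Q.obj K ⟶ Q.obj L) : ∃ f : K ⟶ L, Q.map f = φ := by
  obtain ⟨g, hg⟩ := (CochainComplex.IsKProjective.Qh_map_bijective K
    ((HomotopyCategory.quotient _ _).obj L)).surjective
      ((quotientCompQhIso C).hom.app K ≫ φ ≫ (quotientCompQhIso C).inv.app L)
  obtain ⟨f, rfl⟩ := (HomotopyCategory.quotient _ _).map_surjective g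
  refine ⟨f, ?_⟩
  have := (quotientCompQhIso C).hom.naturality f
  dsimp at this
  rw [hg] at this
  simp at this
  exact this.symm

noncomputable def homotopyOfQMapEq (K L : CochainComplex C ℤ) [K.IsKProjective]
    (f g : K ⟶ L) (h : Q.map f = Q.map g) : Homotopy f g := by
  apply HomotopyCategory.homotopyOfEq
  apply (CochainComplex.IsKProjective.Qh_map_bijective K
    ((HomotopyCategory.quotient _ _).obj L)).injective
  have h1 := (quotientCompQhIso C).hom.naturality f
  have h2 := (quotientCompQhIso C).hom.naturality g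
  dsimp at h1 h2
  rw [← cancel_mono ((quotientCompQhIso C).hom.app L), h1, h2, h]

omit [HasDerivedCategory C] in
theorem acyclic_mappingCone_of_quasiIso {K L : CochainComplex C ℤ} (f : K ⟶ L) [QuasiIso f] :
    (CochainComplex.mappingCone f).Acyclic := by
  rw [← HomotopyCategory.quotient_obj_mem_subcategoryAcyclic_iff_acyclic]
  have h1 : HomotopyCategory.quasiIso C (ComplexShape.up ℤ) ((HomotopyCategory.quotient _ _).map f) := by
    rw [HomotopyCategory.quotient_map_mem_quasiIso_iff]
    exact (HomologicalComplex.mem_quasiIso_iff f).2 inferInstance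
  rw [HomotopyCategory.quasiIso_eq_trW_subcategoryAcyclic] at h1
  exact ((HomotopyCategory.subcategoryAcyclic C).trW_iff_of_distinguished _
    (HomotopyCategory.mappingCone_triangleh_distinguished f)).1 h1

end Derived

section Cone
variable {A : Type u} [CommRing A]
open CategoryTheory CochainComplex HomComplex

theorem finite_free_of_split {M K1 L0 : Type v} [AddCommGroup M] [Module A M]
    [AddCommGroup K1] [Module A K1] [AddCommGroup L0] [Module A L0]
    [Module.Finite A K1] [Module.Free A K1] [Module.Finite A L0] [Module.Free A L0]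
    (inl : K1 →ₗ[A] M) (fst : M →ₗ[A] K1) (inr : L0 →ₗ[A] M) (snd : M →ₗ[A] L0)
    (h1 : fst ∘ₗ inl = LinearMap.id) (h2 : snd ∘ₗ inr = LinearMap.id) (h3 : fst ∘ₗ inr = 0)
    (h4 : snd ∘ₗ inl = 0) (h5 : inl ∘ₗ fst + inr ∘ₗ snd = LinearMap.id) :
    Module.Finite A M ∧ Module.Free A M := by
  have h1' : ∀ y, fst (inl y) = y := fun y => LinearMap.congr_fun h1 y
  have h2' : ∀ y, snd (inr y) = y := fun y => LinearMap.congr_fun h2 y
  have h3' : ∀ y, fst (inr y) = 0 := fun y => LinearMap.congr_fun h3 y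
  have h4' : ∀ y, snd (inl y) = 0 := fun y => LinearMap.congr_fun h4 y
  have h5' : ∀ y, inl (fst y) + inr (snd y) = y := fun y => LinearMap.congr_fun h5 y
  let e : M ≃ₗ[A] (K1 × L0) := LinearEquiv.ofLinearMap (fst.prod snd) (inl.coprod inr)
    (by
      apply LinearMap.ext
      rintro ⟨x, y⟩
      simp [h1', h2', h3', h4'])
    (by
      apply LinearMap.ext
      intro x
      simp [h5'])
  exact ⟨Module.Finite.equiv e.symm, Module.Free.of_equiv e.symm⟩

variable {K L : CochainComplex (ModuleCat.{u} A) ℤ} (f : K ⟶ L)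

theorem finite_free_mappingCone_X
    (hK : ∀ i : ℤ, Module.Finite A (K.X i) ∧ Module.Free A (K.X i))
    (hL : ∀ i : ℤ, Module.Finite A (L.X i) ∧ Module.Free A (L.X i)) (n : ℤ) :
    Module.Finite A ((mappingCone f).X n) ∧ Module.Free A ((mappingCone f).X n) := by
  have := (hK (n + 1)).1
  have := (hK (n + 1)).2
  have := (hL n).1
  have := (hL n).2
  refine finite_free_of_split ((mappingCone.inl f).v (n + 1) n (by omega)).hom
    ((mappingCone.fst f).1.v n (n + 1) rfl).hom ((mappingCone.inr f).f n).hom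
    ((mappingCone.snd f).v n n (add_zero n)).hom ?_ ?_ ?_ ?_ ?_
  · rw [← ModuleCat.hom_comp, mappingCone.inl_v_fst_v]; rfl
  · rw [← ModuleCat.hom_comp, mappingCone.inr_f_snd_v]; rfl
  · rw [← ModuleCat.hom_comp, mappingCone.inr_f_fst_v]; rfl
  · rw [← ModuleCat.hom_comp, mappingCone.inl_v_snd_v]; rfl
  · rw [← ModuleCat.hom_comp, ← ModuleCat.hom_comp, ← ModuleCat.hom_add, mappingCone.id_X]; rfl

variable {u₁ : K ⟶ K} {u₂ : L ⟶ L} (H : Homotopy (f ≫ u₂) (u₁ ≫ f))

theorem mapOfHomotopy_f_fst_v (n m : ℤ) (hnm : n + 1 = m) :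
    (mappingCone.mapOfHomotopy H).f n ≫ (mappingCone.fst f).1.v n m hnm =
      (mappingCone.fst f).1.v n m hnm ≫ u₁.f m := by
  rw [mappingCone.ext_from_iff _ m n hnm]
  constructor
  · simp [mappingCone.mapOfHomotopy]
  · simp [mappingCone.mapOfHomotopy]

theorem detOneSub_mapOfHomotopy
    (hK : ∀ i : ℤ, Module.Finite A (K.X i) ∧ Module.Free A (K.X i))
    (hL : ∀ i : ℤ, Module.Finite A (L.X i) ∧ Module.Free A (L.X i)) (n : ℤ) :
    SGA4h.detOneSub ((mappingCone f).X n) ((mappingCone.mapOfHomotopy H).f n) =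
      SGA4h.detOneSub (K.X (n + 1)) (u₁.f (n + 1)) * SGA4h.detOneSub (L.X n) (u₂.f n) := by
  have := (hK (n + 1)).1
  have := (hK (n + 1)).2
  have := (hL n).1
  have := (hL n).2
  have := (finite_free_mappingCone_X f hK hL n).1
  have := (finite_free_mappingCone_X f hK hL n).2
  rw [detOneSub_eq_D, detOneSub_eq_D, detOneSub_eq_D]
  refine D_cone_step ((mappingCone.inl f).v (n + 1) n (by omega)).hom
    ((mappingCone.fst f).1.v n (n + 1) rfl).hom ((mappingCone.inr f).f n).hom
    ((mappingCone.snd f).v n n (add_zero n)).hom ?_ ?_ ?_ ?_ _ _ _ ?_ ?_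
  · rw [← ModuleCat.hom_comp, mappingCone.inl_v_fst_v]; rfl
  · rw [← ModuleCat.hom_comp, mappingCone.inr_f_snd_v]; rfl
  · rw [← ModuleCat.hom_comp, mappingCone.inr_f_fst_v]; rfl
  · rw [← ModuleCat.hom_comp, ← ModuleCat.hom_comp, ← ModuleCat.hom_add, mappingCone.id_X]; rfl
  · rw [← ModuleCat.hom_comp, ← ModuleCat.hom_comp]
    congr 1
    have := congrArg (fun t => t.f n) (mappingCone.triangleMapOfHomotopy_comm₂ H)
    simpa using this
  · rw [← ModuleCat.hom_comp, ← ModuleCat.hom_comp]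
    congr 1
    exact mapOfHomotopy_f_fst_v f H n (n + 1) rfl

end Cone


section Main
variable {A : Type u} [CommRing A]
open CategoryTheory CochainComplex Polynomial

theorem finite_mulSupport_detOneSub (K : CochainComplex (ModuleCat.{u} A) ℤ) (w : K ⟶ K) (a b : ℤ)
    [K.IsStrictlyGE a] [K.IsStrictlyLE b] :
    (Function.mulSupport (fun i : ℤ => SGA4h.detOneSub (K.X i) (w.f i))).Finite := by
  refine (Set.finite_Icc a b).subset ?_
  intro i hi
  by_contra hcon
  apply hi
  rw [Set.mem_Icc, not_and_or, not_le, not_le] at hcon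
  rcases hcon with hcon | hcon
  · exact detOneSub_of_isZero _ _ (K.isZero_of_isStrictlyGE a i hcon)
  · exact detOneSub_of_isZero _ _ (K.isZero_of_isStrictlyLE b i hcon)

theorem detEven_eq_detOdd_of_homotopy (K : CochainComplex (ModuleCat.{u} A) ℤ) (w : K ⟶ K)
    (h : Homotopy (𝟙 K) 0) (a b : ℤ) [K.IsStrictlyGE a] [K.IsStrictlyLE b]
    (hK : ∀ i : ℤ, Module.Finite A (K.X i) ∧ Module.Free A (K.X i)) :
    SGA4h.detEven K w = SGA4h.detOdd K w := by
  haveI : ∀ i, Module.Finite A (K.X i) := fun i => (hK i).1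
  haveI : ∀ i, Module.Free A (K.X i) := fun i => (hK i).2
  let Q : ℤ → A[X] := fun i => P K w h (i - 1) i
  have hQ : (Function.mulSupport Q).Finite := by
    refine (Set.finite_Icc a b).subset ?_
    intro i hi
    by_contra hcon
    apply hi
    rw [Set.mem_Icc, not_and_or, not_le, not_le] at hcon
    rcases hcon with hcon | hcon
    · exact P_of_isZero _ _ _ _ _ (K.isZero_of_isStrictlyGE a i hcon)
    · exact P_of_isZero _ _ _ _ _ (K.isZero_of_isStrictlyLE b i hcon)
  have key : ∀ i : ℤ, SGA4h.detOneSub (K.X i) (w.f i) = Q (i + 1) * Q i := by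
    intro i
    rw [detOneSub_eq_P_mul K w h (i - 1) i (i + 1) (by omega) rfl, mul_comm]
    change P K w h i (i + 1) * _ = P K w h (i + 1 - 1) (i + 1) * _
    rw [add_sub_cancel_right]
  unfold SGA4h.detEven SGA4h.detOdd
  simp_rw [key]
  rw [finprod_even_shift Q Q hQ hQ, finprod_odd_shift Q Q hQ hQ, mul_comm]

variable {K L : CochainComplex (ModuleCat.{u} A) ℤ} (f : K ⟶ L)
  {u₁ : K ⟶ K} {u₂ : L ⟶ L} (H : Homotopy (f ≫ u₂) (u₁ ≫ f))

theorem detEven_mappingCone (a b : ℤ) [K.IsStrictlyGE a] [K.IsStrictlyLE b]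
    [L.IsStrictlyGE a] [L.IsStrictlyLE b]
    (hK : ∀ i : ℤ, Module.Finite A (K.X i) ∧ Module.Free A (K.X i))
    (hL : ∀ i : ℤ, Module.Finite A (L.X i) ∧ Module.Free A (L.X i)) :
    SGA4h.detEven (mappingCone f) (mappingCone.mapOfHomotopy H) =
      SGA4h.detOdd K u₁ * SGA4h.detEven L u₂ := by
  unfold SGA4h.detEven SGA4h.detOdd
  simp_rw [detOneSub_mapOfHomotopy f H hK hL]
  exact finprod_even_shift (fun i => SGA4h.detOneSub (K.X i) (u₁.f i))
    (fun i => SGA4h.detOneSub (L.X i) (u₂.f i)) (finite_mulSupport_detOneSub K u₁ a b)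
    (finite_mulSupport_detOneSub L u₂ a b)

theorem detOdd_mappingCone (a b : ℤ) [K.IsStrictlyGE a] [K.IsStrictlyLE b]
    [L.IsStrictlyGE a] [L.IsStrictlyLE b]
    (hK : ∀ i : ℤ, Module.Finite A (K.X i) ∧ Module.Free A (K.X i))
    (hL : ∀ i : ℤ, Module.Finite A (L.X i) ∧ Module.Free A (L.X i)) :
    SGA4h.detOdd (mappingCone f) (mappingCone.mapOfHomotopy H) =
      SGA4h.detEven K u₁ * SGA4h.detOdd L u₂ := by
  unfold SGA4h.detEven SGA4h.detOdd
  simp_rw [detOneSub_mapOfHomotopy f H hK hL]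
  exact finprod_odd_shift (fun i => SGA4h.detOneSub (K.X i) (u₁.f i))
    (fun i => SGA4h.detOneSub (L.X i) (u₂.f i)) (finite_mulSupport_detOneSub K u₁ a b)
    (finite_mulSupport_detOneSub L u₂ a b)

open DerivedCategory in
theorem charSeries_invariant
    (K K' : CochainComplex (ModuleCat.{u} A) ℤ) (a b : ℤ) [K.IsStrictlyGE a] [K.IsStrictlyLE b]
    [K'.IsStrictlyGE a] [K'.IsStrictlyLE b]
    (hK : ∀ i : ℤ, Module.Finite A (K.X i) ∧ Module.Free A (K.X i))
    (hK' : ∀ i : ℤ, Module.Finite A (K'.X i) ∧ Module.Free A (K'.X i))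
    (u : K ⟶ K) (u' : K' ⟶ K') (φ : DerivedCategory.Q.obj K ≅ DerivedCategory.Q.obj K')
    (hφ : DerivedCategory.Q.map u ≫ φ.hom = φ.hom ≫ DerivedCategory.Q.map u') :
    SGA4h.detEven K u * SGA4h.detOdd K' u' = SGA4h.detOdd K u * SGA4h.detEven K' u' := by
  haveI : ∀ n, Module.Free A (K.X n) := fun n => (hK n).2
  haveI : ∀ n, Projective (K.X n) := fun n => inferInstance
  haveI : K.IsKProjective := isKProjective_of_projective K b
  obtain ⟨f, hf⟩ := exists_lift_of_isKProjective K K' φ.hom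
  haveI : QuasiIso f := by
    rw [← DerivedCategory.isIso_Q_map_iff_quasiIso, hf]
    infer_instance
  let H : Homotopy (f ≫ u') (u ≫ f) := homotopyOfQMapEq K K' _ _ (by
    rw [Functor.map_comp, Functor.map_comp, hf, hφ])
  have hac := acyclic_mappingCone_of_quasiIso f
  haveI : (mappingCone f).IsStrictlyLE b := by
    rw [isStrictlyLE_iff]
    intro i hi
    rw [mappingCone.isZero_X_iff]
    exact ⟨K.isZero_of_isStrictlyLE b _ (by omega), K'.isZero_of_isStrictlyLE b _ hi⟩
  haveI : (mappingCone f).IsStrictlyGE (a - 1) := isStrictlyGE_mappingCone f a a (a - 1)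
  have hC := finite_free_mappingCone_X f hK hK'
  haveI : ∀ n, Module.Free A ((mappingCone f).X n) := fun n => (hC n).2
  haveI : ∀ n, Projective ((mappingCone f).X n) := fun n => inferInstance
  haveI : (mappingCone f).IsKProjective := isKProjective_of_projective _ b
  let h0 : Homotopy (𝟙 (mappingCone f)) 0 := IsKProjective.homotopyZero (𝟙 _) hac
  have := detEven_eq_detOdd_of_homotopy (mappingCone f) (mappingCone.mapOfHomotopy H) h0
    (a - 1) b hC
  rw [detEven_mappingCone f H a b hK hK', detOdd_mappingCone f H a b hK hK'] at this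
  exact this.symm

end Main

end Groth.Agent.R2.H13.CharSeries
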