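import Groth.Prelude.Def_EtBase
import Mathlib

/-!
# Étale schemes over a closed subscheme versus over the ambient scheme (helper3, round 2)

`closedImmersion_bc_almost_full`: a morphism between the restrictions to a closed subscheme of two
étale `X`-schemes lifts, after shrinking the source, to a morphism over `X`.
-/

set_option autoImplicit false
set_option linter.style.haveILetI false
open CategoryTheory CategoryTheory.Limits AlgebraicGeometry Opposite
universe u

namespace Groth.Agent.R2.H3.ClosedBC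

/-- base change of an `X`-morphism `a : W → U` to `Z` -/
noncomputable abbrev bcMap {Z X W U : Scheme.{u}} (i : Z ⟶ X) (w : W ⟶ X) (u : U ⟶ X) (a : W ⟶ U)
    (ha : a ≫ u = w) : pullback w i ⟶ pullback u i :=
  pullback.lift (pullback.fst w i ≫ a) (pullback.snd w i)
    (by rw [Category.assoc, ha, pullback.condition])

@[reassoc (attr := simp)]
lemma bcMap_fst {Z X W U : Scheme.{u}} (i : Z ⟶ X) (w : W ⟶ X) (u : U ⟶ X) (a : W ⟶ U)
    (ha : a ≫ u = w) : bcMap i w u a ha ≫ pullback.fst u i = pullback.fst w i ≫ a :=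
  pullback.lift_fst _ _ _

@[reassoc (attr := simp)]
lemma bcMap_snd {Z X W U : Scheme.{u}} (i : Z ⟶ X) (w : W ⟶ X) (u : U ⟶ X) (a : W ⟶ U)
    (ha : a ≫ u = w) : bcMap i w u a ha ≫ pullback.snd u i = pullback.snd w i :=
  pullback.lift_snd _ _ _

/-- Scheme-level form: a morphism between the restrictions to a closed subscheme `Z` of two étale
`X`-schemes is induced, after replacing the source by an étale `X`-scheme with the same restriction
to `Z`, by a morphism of `X`-schemes. -/
theorem exists_lift_of_closedImmersion {Z X U U' : Scheme.{u}} (i : Z ⟶ X) [IsClosedImmersion i]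
    (u : U ⟶ X) (u' : U' ⟶ X) [AlgebraicGeometry.Etale u] [AlgebraicGeometry.Etale u']
    (hl : pullback u i ⟶ pullback u' i) (hw : hl ≫ pullback.snd u' i = pullback.snd u i) :
    ∃ (W : Scheme.{u}) (w : W ⟶ X) (_ : AlgebraicGeometry.Etale w) (a : W ⟶ U) (b : W ⟶ U')
      (ha : a ≫ u = w) (hb : b ≫ u' = w),
      IsIso (bcMap i w u a ha) ∧ bcMap i w u a ha ≫ hl = bcMap i w u' b hb := by
  -- the fibre product `P = U ×_X U'`
  obtain ⟨p, hp₁⟩ : ∃ p : pullback u u' ⟶ X, pullback.fst u u' ≫ u = p := ⟨_, rfl⟩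
  have hp₂ : pullback.snd u u' ≫ u' = p := by rw [← hp₁, pullback.condition]
  haveI : AlgebraicGeometry.Etale p := by rw [← hp₁]; infer_instance
  -- the graph
  let γ : pullback u i ⟶ pullback u u' := pullback.lift (pullback.fst u i)
    (hl ≫ pullback.fst u' i) (by
      rw [Category.assoc, pullback.condition, pullback.condition, ← Category.assoc, hw])
  let γZ : pullback u i ⟶ pullback p i := pullback.lift γ (pullback.snd u i) (by
    rw [← hp₁, ← Category.assoc, pullback.lift_fst, pullback.condition])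
  -- the projections `P_Z → U_Z`, `P_Z → U'_Z`
  have hγq₁ : γZ ≫ bcMap i p u (pullback.fst u u') hp₁ = 𝟙 _ := by
    apply pullback.hom_ext
    · rw [Category.assoc, bcMap_fst, pullback.lift_fst_assoc, pullback.lift_fst, Category.id_comp]
    · rw [Category.assoc, bcMap_snd, pullback.lift_snd, Category.id_comp]
  have hγq₂ : γZ ≫ bcMap i p u' (pullback.snd u u') hp₂ = hl := by
    apply pullback.hom_ext
    · rw [Category.assoc, bcMap_fst, pullback.lift_fst_assoc, pullback.lift_snd]
    · rw [Category.assoc, bcMap_snd, pullback.lift_snd, hw]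
  -- `γZ` is an open immersion
  haveI : Mono γZ := mono_of_mono_fac hγq₁
  haveI : AlgebraicGeometry.Etale (γZ ≫ pullback.snd p i) := by
    rw [pullback.lift_snd]; infer_instance
  haveI : AlgebraicGeometry.Etale γZ := AlgebraicGeometry.Etale.of_comp γZ (pullback.snd p i)
  haveI : IsOpenImmersion γZ := IsOpenImmersion.of_flat_of_mono γZ
  -- choose an open of `P` cutting out the image of the graph
  obtain ⟨t, ht, hteq⟩ := (pullback.fst p i).isClosedEmbedding.isInducing.isOpen_iff.1
    γZ.isOpenEmbedding.isOpen_range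
  let O : (pullback u u').Opens := ⟨t, ht⟩
  let w : (O : Scheme.{u}) ⟶ X := O.ι ≫ p
  -- the base change of `O → P` to `Z`
  let wZ : pullback w i ⟶ pullback p i := bcMap i w p O.ι rfl
  have sq : IsPullback wZ (pullback.fst w i) (pullback.fst p i) O.ι := by
    refine IsPullback.of_right (h₁₂ := pullback.snd p i) (v₁₃ := i) (h₂₂ := p) ?_ ?_
      (IsPullback.of_hasPullback p i).flip
    · rw [bcMap_snd]
      exact (IsPullback.of_hasPullback w i).flip
    · exact bcMap_fst _ _ _ _ _
  haveI : IsOpenImmersion wZ := MorphismProperty.of_isPullback (P := @IsOpenImmersion) sq.flip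
    inferInstance
  have hrange : Set.range γZ.base = Set.range wZ.base := by
    have := Scheme.image_preimage_eq_of_isPullback sq.flip Set.univ
    rw [Set.preimage_univ, Set.image_univ, Set.image_univ] at this
    rw [this, ← hteq]
    congr 1
    exact (Scheme.Opens.range_ι O).symm
  let θ : pullback u i ≅ pullback w i := IsOpenImmersion.isoOfRangeEq γZ wZ hrange
  have hθ : θ.hom ≫ wZ = γZ := IsOpenImmersion.isoOfRangeEq_hom_fac γZ wZ hrange
  have ha : (O.ι ≫ pullback.fst u u') ≫ u = w := by rw [Category.assoc, hp₁]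
  have hb : (O.ι ≫ pullback.snd u u') ≫ u' = w := by rw [Category.assoc, hp₂]
  have hfac₁ : bcMap i w u (O.ι ≫ pullback.fst u u') ha =
      wZ ≫ bcMap i p u (pullback.fst u u') hp₁ := by
    apply pullback.hom_ext
    · rw [bcMap_fst, Category.assoc, bcMap_fst, bcMap_fst_assoc]
    · rw [bcMap_snd, Category.assoc, bcMap_snd, bcMap_snd]
  have hfac₂ : bcMap i w u' (O.ι ≫ pullback.snd u u') hb =
      wZ ≫ bcMap i p u' (pullback.snd u u') hp₂ := by
    apply pullback.hom_ext
    · rw [bcMap_fst, Category.assoc, bcMap_fst, bcMap_fst_assoc]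
    · rw [bcMap_snd, Category.assoc, bcMap_snd, bcMap_snd]
  have h1 : θ.hom ≫ bcMap i w u (O.ι ≫ pullback.fst u u') ha = 𝟙 _ := by
    rw [hfac₁, ← Category.assoc, hθ, hγq₁]
  have h2 : bcMap i w u (O.ι ≫ pullback.fst u u') ha = θ.inv := by
    rw [← Category.id_comp (bcMap i w u (O.ι ≫ pullback.fst u u') ha), ← θ.inv_hom_id,
      Category.assoc, h1, Category.comp_id]
  refine ⟨O, w, inferInstance, O.ι ≫ pullback.fst u u', O.ι ≫ pullback.snd u u', ha, hb, ?_, ?_⟩
  · rw [h2]; infer_instance
  · rw [h2, hfac₂, ← hγq₂, ← hθ, Category.assoc, Iso.inv_hom_id_assoc]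

theorem closedImmersion_bc_almost_full {Z X : Scheme.{u}} (i : Z ⟶ X) [IsClosedImmersion i]
    (U U' : X.Etale) (h : (EtCoh.bc i).obj U ⟶ (EtCoh.bc i).obj U') :
    ∃ (W : X.Etale) (a : W ⟶ U) (b : W ⟶ U'), IsIso ((EtCoh.bc i).map a) ∧
      (EtCoh.bc i).map a ≫ h = (EtCoh.bc i).map b := by
  have hw : h.left ≫ pullback.snd U'.hom i = pullback.snd U.hom i := MorphismProperty.Over.w h
  obtain ⟨W, w, hwet, a, b, ha, hb, hiso, hcomp⟩ :=
    exists_lift_of_closedImmersion i U.hom U'.hom h.left hw
  let W' : X.Etale := Scheme.Etale.mk w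
  let a' : W' ⟶ U := MorphismProperty.Over.homMk a ha trivial
  let b' : W' ⟶ U' := MorphismProperty.Over.homMk b hb trivial
  refine ⟨W', a', b', ?_, ?_⟩
  · have h1 : IsIso ((Scheme.Etale.forget Z ⋙ Over.forget Z).map ((EtCoh.bc i).map a')) := hiso
    exact isIso_of_reflects_iso _ (Scheme.Etale.forget Z ⋙ Over.forget Z)
  · apply MorphismProperty.Over.Hom.ext
    exact hcomp

end Groth.Agent.R2.H3.ClosedBC
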