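import Mathlib
import Groth.Prelude.Def_EtBase
import Groth.Agent.R2.H3ClosedBC

/-!
# Base change along a closed immersion is a dense subsite, part A (helper13)

`EtCoh.bc i : X.Etale ⥤ Z.Etale` for a closed immersion `i : Z ⟶ X`:
* locally full (from helper3's `closedImmersion_bc_almost_full`),
* locally faithful (formal: `bc i` preserves equalizers),
* membership lemmas for the small étale topology.
-/

set_option autoImplicit false
open CategoryTheory CategoryTheory.Limits AlgebraicGeometry Opposite
universe u

namespace Groth.Agent.R2.H13.ClosedPush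

section General

variable {C D : Type*} [Category C] [Category D]

/-- A sieve on `G.obj U` of the form `S.functorPushforward G` which contains an arrow `G.map a`
with `G.map a` an isomorphism (and `a ∈ S`) is the maximal sieve. -/
lemma functorPushforward_eq_top_of_isIso (G : C ⥤ D) {U W : C} (S : Sieve U) (a : W ⟶ U)
    (ha : S a) [IsIso (G.map a)] : S.functorPushforward G = ⊤ := by
  rw [← Sieve.id_mem_iff_eq_top]
  exact ⟨W, a, inv (G.map a), ha, by simp⟩

/-- A functor preserving equalizers (from a category which has them) is locally faithful for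
any topology. -/
lemma isLocallyFaithful_of_preservesEqualizers (G : C ⥤ D) (K : GrothendieckTopology D)
    [HasEqualizers C] [PreservesLimitsOfShape WalkingParallelPair G] :
    G.IsLocallyFaithful K where
  functorPushforward_equalizer_mem {U V} f₁ f₂ e := by
    have h : IsIso (G.map (equalizer.ι f₁ f₂)) := by
      let c : Fork (G.map f₁) (G.map f₂) := Fork.ofι (G.map (equalizer.ι f₁ f₂))
        (by rw [← G.map_comp, ← G.map_comp, equalizer.condition])
      have hc : IsLimit c := isLimitForkMapOfIsLimit G _ (equalizerIsEqualizer f₁ f₂)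
      exact isIso_limit_cone_parallelPair_of_eq e hc
    have : (Sieve.equalizer f₁ f₂).functorPushforward G = ⊤ :=
      functorPushforward_eq_top_of_isIso G _ (equalizer.ι f₁ f₂) (equalizer.condition f₁ f₂)
    rw [this]
    exact K.top_mem _

end General

section Topology

/-- A sieve on an étale `X`-scheme `W` is covering for the small étale topology as soon as every
point of `W` is in the image of a member of the sieve. -/
lemma mem_smallEtaleTopology_of_forall {X : Scheme.{u}} {W : X.Etale} (S : Sieve W)
    (h : ∀ w : W.left, ∃ (V : X.Etale) (g : V ⟶ W), S g ∧ w ∈ Set.range g.left) :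
    S ∈ X.smallEtaleTopology W := by
  choose V g hg hw using h
  refine X.smallEtaleTopology.superset_covering ?_
    ((Scheme.ofArrows_mem_smallEtaleTopology_iff (fun w => g w)).2 ?_)
  · rintro Y f ⟨T, a, _, ⟨w⟩, rfl⟩
    exact S.downward_closed (hg w) a
  · ext w
    simp only [Set.mem_iUnion, Set.mem_univ, iff_true]
    exact ⟨w, hw w⟩

/-- Conversely every point of `W` is hit by a member of a covering sieve. -/
lemma exists_of_mem_smallEtaleTopology {X : Scheme.{u}} {W : X.Etale} (S : Sieve W)
    (hS : S ∈ X.smallEtaleTopology W) (w : W.left) :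
    ∃ (V : X.Etale) (g : V ⟶ W), S g ∧ w ∈ Set.range g.left := by
  obtain ⟨α, T, f, rfl⟩ := S.exists_eq_ofArrows
  have := (Scheme.ofArrows_mem_smallEtaleTopology_iff f).1 hS
  have hw : w ∈ ⋃ i, Set.range (f i).left := by rw [this]; trivial
  obtain ⟨i, hi⟩ := Set.mem_iUnion.1 hw
  exact ⟨T i, f i, Sieve.ofArrows_mk _ _ i, hi⟩

end Topology

section Bc

variable {Z X : Scheme.{u}} (i : Z ⟶ X)

instance isLocallyFull_bc [IsClosedImmersion i] :
    (EtCoh.bc i).IsLocallyFull Z.smallEtaleTopology where
  functorPushforward_imageSieve_mem {U V} f := by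
    obtain ⟨W, a, b, hiso, hcomp⟩ := Groth.Agent.R2.H3.ClosedBC.closedImmersion_bc_almost_full i U V f
    have : ((EtCoh.bc i).imageSieve f).functorPushforward (EtCoh.bc i) = ⊤ :=
      functorPushforward_eq_top_of_isIso (EtCoh.bc i) _ a ⟨b, hcomp.symm⟩
    rw [this]
    exact Z.smallEtaleTopology.top_mem _

end Bc

end Groth.Agent.R2.H13.ClosedPush
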