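import Mathlib
import Groth.Prelude.Def_ProEtW
import Groth.Agent.Lib.Helper3IndEtFP

/-!
# Rings whose faithfully flat étale algebras have retractions: stability under
"localization onto the specializing locus" (helper3, round 2)

Also: binary products of étale algebras are étale; an étale algebra over a localization
`S⁻¹A` descends to an étale algebra over some `A_s`.
-/

set_option autoImplicit false
set_option linter.style.haveILetI false
open CategoryTheory CategoryTheory.Limits TensorProduct AlgebraicGeometry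
universe u
namespace Groth.Agent.R2.H3.EtRetLoc

open Groth.Agent.Lib.Helper3.IndEt

lemma etale_SpecMap_iff (R S : Type u) [CommRing R] [CommRing S] [Algebra R S] :
    AlgebraicGeometry.Etale (Spec.map (CommRingCat.ofHom (algebraMap R S))) ↔ Algebra.Etale R S := by
  rw [HasRingHomProperty.Spec_iff (P := @AlgebraicGeometry.Etale)]
  exact RingHom.etale_algebraMap

/-- A binary product of étale algebras is étale. -/
theorem etale_prod {A : Type u} [CommRing A] (R S : Type u) [CommRing R] [CommRing S]
    [Algebra A R] [Algebra A S] [Algebra.Etale A R] [Algebra.Etale A S] :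
    Algebra.Etale A (R × S) := by
  rw [← etale_SpecMap_iff]
  have hR : AlgebraicGeometry.Etale (Spec.map (CommRingCat.ofHom (algebraMap A R))) :=
    (etale_SpecMap_iff A R).2 inferInstance
  have hS : AlgebraicGeometry.Etale (Spec.map (CommRingCat.ofHom (algebraMap A S))) :=
    (etale_SpecMap_iff A S).2 inferInstance
  have h : AlgebraicGeometry.Etale (coprodSpec R S ≫ Spec.map (CommRingCat.ofHom (algebraMap A (R × S)))) := by
    rw [IsZariskiLocalAtSource.iff_of_openCover (P := @AlgebraicGeometry.Etale) (coprodOpenCover.{_, 0} _ _)]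
    rintro (x | x)
    · show AlgebraicGeometry.Etale (coprod.inl ≫ coprodSpec R S ≫ _)
      rw [coprodSpec_inl_assoc, ← Spec.map_comp]
      exact hR
    · show AlgebraicGeometry.Etale (coprod.inr ≫ coprodSpec R S ≫ _)
      rw [coprodSpec_inr_assoc, ← Spec.map_comp]
      exact hS
  exact (MorphismProperty.cancel_left_of_respectsIso @AlgebraicGeometry.Etale _ _).1 h


set_option maxHeartbeats 1000000 in
/-- An étale algebra `E` over a localization `B = S⁻¹A` comes from an étale `A`-algebra `E₁`
(étale over some `A_s`): there is an `A`-algebra map `E₁ → E` such that every `A`-algebra map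
`E₁ → B` induces a `B`-algebra map `E → B`. -/
theorem exists_descent_etale_localization {A B : Type u} [CommRing A] [CommRing B] [Algebra A B]
    (S : Submonoid A) [IsLocalization S B] (E : Type u) [CommRing E] [Algebra B E]
    [Algebra A E] [IsScalarTower A B E] [Algebra.Etale B E] :
    ∃ (E₁ : Type u) (_ : CommRing E₁) (_ : Algebra A E₁) (_ : Algebra.Etale A E₁)
      (_ : E₁ →ₐ[A] E), ∀ (_ : E₁ →ₐ[A] B), Nonempty (E →ₐ[B] B) := by
  obtain ⟨A₀, E₀, _, _, hfg, _, ⟨e⟩⟩ := Algebra.Etale.exists_subalgebra_fg ℤ B E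
  haveI : Algebra.FiniteType ℤ A₀ := (Subalgebra.fg_iff_finiteType A₀).mp hfg
  haveI : Algebra.FinitePresentation ℤ A₀ := Algebra.FinitePresentation.of_finiteType.mp inferInstance
  let φ : A ⊗[ℤ] A₀ →ₐ[A] B :=
    Algebra.TensorProduct.lift (Algebra.ofId A B) A₀.val (fun _ _ => Commute.all _ _)
  obtain ⟨s, ψs, hψs⟩ := exists_factor_localization (R := A) (C := A) (L := B) S φ
  let A₁ := Localization.Away (s : A)
  let β : A₁ →ₐ[A] B := awayTo S s
  letI : Algebra A₁ B := β.toRingHom.toAlgebra
  haveI : IsScalarTower A A₁ B := IsScalarTower.of_algebraMap_eq (fun a => (β.commutes a).symm)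
  letI : Algebra A₀ A₁ :=
    (ψs.toRingHom.comp (Algebra.TensorProduct.includeRight : A₀ →ₐ[ℤ] A ⊗[ℤ] A₀).toRingHom).toAlgebra
  haveI : IsScalarTower A₀ A₁ B := IsScalarTower.of_algebraMap_eq (fun a₀ => by
    show (a₀ : B) = β (ψs ((1 : A) ⊗ₜ[ℤ] a₀))
    have := congr($hψs ((1 : A) ⊗ₜ[ℤ] a₀))
    rw [AlgHom.comp_apply] at this
    rw [this]
    simp [φ])
  let E₁ := A₁ ⊗[A₀] E₀
  haveI : Algebra.Etale A₁ E₁ := inferInstance
  letI : Algebra A E₁ := inferInstance
  haveI : IsScalarTower A A₁ E₁ := inferInstance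
  haveI : Algebra.Etale A E₁ := Algebra.Etale.comp A A₁ E₁
  -- the comparison map
  let j₀ : E₁ →ₐ[A₀] B ⊗[A₀] E₀ :=
    Algebra.TensorProduct.map (IsScalarTower.toAlgHom A₀ A₁ B) (AlgHom.id A₀ E₀)
  let j₁ : E₁ →+* E := (e.symm : B ⊗[A₀] E₀ →+* E).comp j₀.toRingHom
  have hj₁ : ∀ a : A, j₁ (algebraMap A E₁ a) = algebraMap A E a := by
    intro a
    have h1 : algebraMap A E₁ a = (algebraMap A A₁ a) ⊗ₜ[A₀] (1 : E₀) := by
      rw [IsScalarTower.algebraMap_apply A A₁ E₁, Algebra.TensorProduct.algebraMap_apply]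
      rfl
    show e.symm (j₀ (algebraMap A E₁ a)) = _
    rw [h1]
    show e.symm ((algebraMap A₁ B (algebraMap A A₁ a)) ⊗ₜ[A₀] (1 : E₀)) = _
    rw [← IsScalarTower.algebraMap_apply A A₁ B]
    have h2 : (algebraMap A B a) ⊗ₜ[A₀] (1 : E₀) = algebraMap B (B ⊗[A₀] E₀) (algebraMap A B a) := by
      rw [Algebra.TensorProduct.algebraMap_apply]
      rfl
    rw [h2, AlgEquiv.commutes, ← IsScalarTower.algebraMap_apply A B E]
  let j : E₁ →ₐ[A] E := { j₁ with commutes' := hj₁ }
  refine ⟨E₁, inferInstance, inferInstance, inferInstance, j, fun g => ?_⟩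
  -- `g` restricted to `A₁` is the canonical map
  have hgβ : g.toRingHom.comp (algebraMap A₁ E₁) = algebraMap A₁ B := by
    apply IsLocalization.ringHom_ext (Submonoid.powers (s : A))
    ext a
    show g (algebraMap A₁ E₁ (algebraMap A A₁ a)) = algebraMap A₁ B (algebraMap A A₁ a)
    rw [← IsScalarTower.algebraMap_apply A A₁ E₁, ← IsScalarTower.algebraMap_apply A A₁ B,
      g.commutes]
  let g₀ : E₀ →+* B := g.toRingHom.comp
    (Algebra.TensorProduct.includeRight : E₀ →ₐ[A₀] A₁ ⊗[A₀] E₀).toRingHom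
  have hg₀ : ∀ a₀ : A₀, g₀ (algebraMap A₀ E₀ a₀) = algebraMap A₀ B a₀ := by
    intro a₀
    show g ((1 : A₁) ⊗ₜ[A₀] (algebraMap A₀ E₀ a₀)) = _
    have h1 : (1 : A₁) ⊗ₜ[A₀] (algebraMap A₀ E₀ a₀) =
        algebraMap A₁ E₁ (algebraMap A₀ A₁ a₀) := by
      rw [Algebra.TensorProduct.algebraMap_apply, Algebra.algebraMap_eq_smul_one a₀,
        TensorProduct.tmul_smul, TensorProduct.smul_tmul', Algebra.algebraMap_eq_smul_one a₀]
      rfl
    rw [h1]
    have := congr($hgβ (algebraMap A₀ A₁ a₀))
    rw [RingHom.comp_apply] at this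
    rw [IsScalarTower.algebraMap_apply A₀ A₁ B]
    exact this
  let g' : E₀ →ₐ[A₀] B := { g₀ with commutes' := hg₀ }
  exact ⟨(Algebra.TensorProduct.lift (AlgHom.id B B) g' (fun _ _ => Commute.all _ _)).comp
    e.toAlgHom⟩

section
variable {A : Type u} [CommRing A]

lemma range_comap_le_fst' (R S : Type u) [CommRing R] [CommRing S] [Algebra A R] [Algebra A S] :
    Set.range (PrimeSpectrum.comap (algebraMap A R)) ⊆
      Set.range (PrimeSpectrum.comap (algebraMap A (R × S))) := by
  rintro _ ⟨q, rfl⟩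
  refine ⟨PrimeSpectrum.comap (RingHom.fst R S) q, ?_⟩
  rw [← PrimeSpectrum.comap_comp_apply]
  rfl

lemma range_comap_le_snd' (R S : Type u) [CommRing R] [CommRing S] [Algebra A R] [Algebra A S] :
    Set.range (PrimeSpectrum.comap (algebraMap A S)) ⊆
      Set.range (PrimeSpectrum.comap (algebraMap A (R × S))) := by
  rintro _ ⟨q, rfl⟩
  refine ⟨PrimeSpectrum.comap (RingHom.snd R S) q, ?_⟩
  rw [← PrimeSpectrum.comap_comp_apply]
  rfl

end

theorem hasEtaleRetractions_localization {A B : Type u} [CommRing A] [CommRing B]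
    [Algebra A B] (S : Submonoid A) [IsLocalization S B] (I : Ideal A)
    (hB : Set.range (PrimeSpectrum.comap (algebraMap A B)) =
      {x | ∃ z : PrimeSpectrum A, z ∈ PrimeSpectrum.zeroLocus (R := A) I ∧ x ⤳ z})
    (hA : ProEtW.HasEtaleRetractions A) : ProEtW.HasEtaleRetractions B := by
  intro E _ _ hff het
  letI : Algebra A E := ((algebraMap B E).comp (algebraMap A B)).toAlgebra
  haveI : IsScalarTower A B E := IsScalarTower.of_algebraMap_eq (fun _ => rfl)
  obtain ⟨E₁, _, _, _, j, hj⟩ := exists_descent_etale_localization (A := A) (B := B) S E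
  suffices h : Nonempty (E₁ →ₐ[A] B) by
    obtain ⟨g⟩ := h
    exact hj g
  -- the image of `Spec E₁` is open and contains the image of `Spec B`
  haveI : Module.Flat A E₁ := Algebra.Smooth.flat A E₁
  have hopen : IsOpen (Set.range (PrimeSpectrum.comap (algebraMap A E₁))) :=
    (PrimeSpectrum.isOpenMap_comap_of_hasGoingDown_of_finitePresentation (R := A) (S := E₁)).isOpen_range
  have hsub : Set.range (PrimeSpectrum.comap (algebraMap A B)) ⊆
      Set.range (PrimeSpectrum.comap (algebraMap A E₁)) := by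
    rintro _ ⟨q, rfl⟩
    obtain ⟨q', rfl⟩ := PrimeSpectrum.comap_surjective_of_faithfullyFlat (A := B) (B := E) q
    refine ⟨PrimeSpectrum.comap j.toRingHom q', ?_⟩
    rw [← PrimeSpectrum.comap_comp_apply, ← PrimeSpectrum.comap_comp_apply]
    congr 1
    ext a
    show j (algebraMap A E₁ a) = algebraMap B E (algebraMap A B a)
    rw [j.commutes]
    rfl
  -- the closed complement is `V(J)`
  obtain ⟨J, hJ⟩ := (PrimeSpectrum.isClosed_iff_zeroLocus_ideal _).1 hopen.isClosed_compl
  have hdisj : PrimeSpectrum.zeroLocus (R := A) (I ⊔ J : Ideal A) = ∅ := by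
    rw [PrimeSpectrum.zeroLocus_sup, ← hJ, Set.eq_empty_iff_forall_notMem]
    rintro z ⟨hz1, hz2⟩
    apply hz2
    apply hsub
    rw [hB]
    exact ⟨z, hz1, specializes_rfl⟩
  rw [PrimeSpectrum.zeroLocus_empty_iff_eq_top] at hdisj
  obtain ⟨b, hb, a, ha, hab⟩ := Submodule.mem_sup.1 (hdisj ▸ (Submodule.mem_top : (1 : A) ∈ ⊤))
  -- the faithfully flat étale cover `E₁ × A_b`
  haveI : Algebra.Etale A (E₁ × Localization.Away b) := etale_prod _ _
  haveI : Module.Flat A (E₁ × Localization.Away b) := Algebra.Smooth.flat A _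
  have hsurj : Function.Surjective
      (PrimeSpectrum.comap (algebraMap A (E₁ × Localization.Away b))) := by
    intro p
    by_cases hp : p ∈ Set.range (PrimeSpectrum.comap (algebraMap A E₁))
    · exact range_comap_le_fst' E₁ (Localization.Away b) hp
    · apply range_comap_le_snd' E₁ (Localization.Away b)
      rw [PrimeSpectrum.localization_away_comap_range (Localization.Away b) b]
      have hpJ : p ∈ PrimeSpectrum.zeroLocus (R := A) J := by
        rw [← hJ]
        exact hp
      intro hbp
      have h1 : (1 : A) ∈ p.asIdeal := by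
        rw [← hab]
        exact Ideal.add_mem _ hbp (hpJ ha)
      exact p.isPrime.ne_top ((Ideal.eq_top_iff_one _).2 h1)
  haveI : Module.FaithfullyFlat A (E₁ × Localization.Away b) :=
    Module.FaithfullyFlat.of_comap_surjective hsurj
  obtain ⟨r⟩ := hA (E₁ × Localization.Away b) inferInstance inferInstance
  set ε₁ : A := r ((1 : E₁), (0 : Localization.Away b)) with hε₁
  set ε₂ : A := r ((0 : E₁), (1 : Localization.Away b)) with hε₂
  have hidem : ε₂ * ε₂ = ε₂ := by
    rw [hε₂, ← map_mul, Prod.mk_mul_mk, mul_zero, mul_one]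
  have hsum : ε₁ + ε₂ = 1 := by
    rw [hε₁, hε₂, ← map_add, Prod.mk_add_mk, add_zero, zero_add]
    exact map_one r
  have h1 : ∀ p : PrimeSpectrum A,
      p ∈ Set.range (PrimeSpectrum.comap (algebraMap A B)) → ε₂ ∈ p.asIdeal := by
    intro p hp
    rw [hB] at hp
    obtain ⟨z, hz, hpz⟩ := hp
    have hbz : b ∈ z.asIdeal := hz hb
    have hle : p.asIdeal ≤ z.asIdeal := (PrimeSpectrum.le_iff_specializes p z).2 hpz
    have hg : (b • (((0 : E₁), (1 : Localization.Away b)) : E₁ × Localization.Away b)) *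
        ((0 : E₁), IsLocalization.Away.invSelf b) = ((0 : E₁), (1 : Localization.Away b)) := by
      rw [Prod.smul_mk, Prod.mk_mul_mk, smul_zero, mul_zero, Algebra.smul_def, mul_one]
      congr 1
      exact IsLocalization.Away.mul_invSelf b
    have hg' : b * (ε₂ * r ((0 : E₁), IsLocalization.Away.invSelf b)) = ε₂ := by
      have := congrArg r hg
      rw [map_mul, map_smul, smul_eq_mul] at this
      rw [← mul_assoc]
      exact this
    have hεz : ε₂ ∈ z.asIdeal := by
      rw [← hg']
      exact Ideal.mul_mem_right _ _ hbz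
    by_contra hεp
    have h0 : (1 - ε₂) * ε₂ ∈ p.asIdeal := by
      rw [sub_mul, one_mul, hidem, sub_self]
      exact Ideal.zero_mem _
    have h2 : 1 - ε₂ ∈ p.asIdeal := (p.isPrime.mem_or_mem h0).resolve_right hεp
    have h3 : (1 : A) ∈ z.asIdeal := by
      have := Ideal.add_mem _ (hle h2) hεz
      rwa [sub_add_cancel] at this
    exact z.isPrime.ne_top ((Ideal.eq_top_iff_one _).2 h3)
  have h2 : algebraMap A B ε₂ = 0 := by
    have hid : IsIdempotentElem (algebraMap A B ε₂) := by
      show algebraMap A B ε₂ * algebraMap A B ε₂ = algebraMap A B ε₂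
      rw [← map_mul, hidem]
    have hnil : IsNilpotent (algebraMap A B ε₂) := by
      rw [nilpotent_iff_mem_prime]
      intro J hJ
      exact h1 (PrimeSpectrum.comap (algebraMap A B) ⟨J, hJ⟩) ⟨_, rfl⟩
    obtain ⟨n, hn⟩ := hnil
    cases n with
    | zero =>
      rw [pow_zero] at hn
      have : algebraMap A B ε₂ = algebraMap A B ε₂ * 1 := (mul_one _).symm
      rw [this, hn, mul_zero]
    | succ n => rw [← hid.pow_succ_eq n, hn]
  have h3 : algebraMap A B ε₁ = 1 := by
    have := congrArg (algebraMap A B) hsum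
    rw [map_add, h2, add_zero, map_one] at this
    exact this
  let g₀ : E₁ →+* B :=
    { toFun := fun x => algebraMap A B (r (x, (0 : Localization.Away b)))
      map_one' := h3
      map_mul' := fun x y => by
        rw [← map_mul, ← map_mul, Prod.mk_mul_mk, mul_zero]
      map_zero' := by
        rw [show (((0 : E₁), (0 : Localization.Away b)) : E₁ × Localization.Away b) = 0 from rfl,
          map_zero, map_zero]
      map_add' := fun x y => by
        rw [← map_add, ← map_add, Prod.mk_add_mk, add_zero] }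
  refine ⟨{ g₀ with commutes' := fun a => ?_ }⟩
  show algebraMap A B (r (algebraMap A E₁ a, (0 : Localization.Away b))) = algebraMap A B a
  have : ((algebraMap A E₁ a, (0 : Localization.Away b)) : E₁ × Localization.Away b) =
      a • ((1 : E₁), (0 : Localization.Away b)) := by
    rw [Prod.smul_mk, smul_zero, Algebra.smul_def, mul_one]
  rw [this, map_smul, smul_eq_mul, map_mul, h3, mul_one]

end Groth.Agent.R2.H3.EtRetLoc
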