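import Mathlib
import Groth.Agent.R2.H3EtRetLoc

/-!
# Lifting étale algebras along a surjection, Zariski-locally (helper3)

* `exists_lift_pair`: a standard étale pair over `B'` lifts along a surjection `B → B'` to a standard
  étale pair over `B` (after replacing `g` by a power), compatibly with base change.
* `exists_etale_lift_away`: for `B → B'` surjective, `B' → C` étale and a prime `q` of `C` there is
  `g ∉ q` and an étale `B`-algebra `D` with `B' ⊗_B D ≅ C_g`, stated as a pushout in `CommRingCat`.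
* `exists_etale_lift_scheme`: scheme-level consequence (closed immersion `X → Y`, étale `U → X`).
-/

set_option autoImplicit false
open CategoryTheory CategoryTheory.Limits AlgebraicGeometry Opposite
open Polynomial TensorProduct
universe u

namespace Groth.Agent.R2.H3.EtLift

section Ring

variable {R : Type*} [CommRing R]

/-- Two standard étale pairs whose universal elements satisfy each other's conditions have isomorphic
rings. -/
noncomputable def equivOfHasMap (P Q : StandardEtalePair R) (h1 : P.HasMap Q.X) (h2 : Q.HasMap P.X) :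
    P.Ring ≃ₐ[R] Q.Ring :=
  AlgEquiv.ofAlgHom (P.lift Q.X h1) (Q.lift P.X h2) (Q.hom_ext (by simp)) (P.hom_ext (by simp))

theorem exists_lift_pair {B B' : Type*} [CommRing B] [CommRing B'] [Algebra B B']
    (hs : Function.Surjective (algebraMap B B')) (P' : StandardEtalePair B') :
    ∃ P : StandardEtalePair B, Nonempty (B' ⊗[B] P.Ring ≃ₐ[B'] P'.Ring) := by
  obtain ⟨p₁, p₂, n, e⟩ := P'.cond
  have hsp := Polynomial.map_surjective _ hs
  obtain ⟨f, hf, -, hfm⟩ := lifts_and_natDegree_eq_and_monic (f := algebraMap B B')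
    ((Polynomial.mem_lifts _).mpr (hsp P'.f)) P'.monic_f
  obtain ⟨g, hg⟩ := hsp P'.g
  obtain ⟨q₁, hq₁⟩ := hsp p₁
  obtain ⟨q₂, hq₂⟩ := hsp p₂
  let P : StandardEtalePair B :=
    ⟨f, hfm, g * (derivative f * q₁ + f * q₂), q₁ * g, q₂ * g, 1, by ring⟩
  let Q : StandardEtalePair B' := P.map (algebraMap B B')
  have hQf : Q.f = P'.f := hf
  have hQg : Q.g = P'.g ^ (n + 1) := by
    simp only [Q, P, StandardEtalePair.map_g, Polynomial.map_mul, Polynomial.map_add, hg,
      ← Polynomial.derivative_map, hf, hq₁, hq₂, e, pow_succ']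
  have key : ∀ {S : Type _} [CommRing S] [Algebra B' S] (x : S), Q.HasMap x ↔ P'.HasMap x := by
    intro S _ _ x
    simp only [StandardEtalePair.HasMap, hQf, hQg, map_pow, isUnit_pow_iff (Nat.succ_ne_zero n)]
  let Pres : StandardEtalePresentation B P.Ring :=
    ⟨P, P.X, P.hasMap_X, by simpa [StandardEtalePair.lift_X_left] using Function.bijective_id⟩
  let e1 : B' ⊗[B] P.Ring ≃ₐ[B'] Q.Ring := (Pres.baseChange (T := B')).equivRing
  exact ⟨P, ⟨e1.trans (equivOfHasMap Q P' ((key _).mpr P'.hasMap_X) ((key _).mp Q.hasMap_X))⟩⟩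

end Ring

section Cat

theorem exists_etale_lift_away {B B' C : CommRingCat.{u}} (φ : B ⟶ B')
    (hφ : Function.Surjective φ.hom) (ψ : B' ⟶ C) (hψ : ψ.hom.Etale) (q : PrimeSpectrum C) :
    ∃ (g : C) (_ : g ∉ q.asIdeal) (D : CommRingCat.{u}) (β : B ⟶ D)
      (δ : D ⟶ CommRingCat.of (Localization.Away g)),
      β.hom.Etale ∧
      IsPushout β φ δ (ψ ≫ CommRingCat.ofHom (algebraMap C (Localization.Away g))) := by
  algebraize [φ.hom, ψ.hom]
  have : Algebra.IsEtaleAt B' q.asIdeal := by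
    have : q ∈ Algebra.etaleLocus B' C := by
      rw [Algebra.etaleLocus_eq_univ_iff.mpr inferInstance]; trivial
    exact this
  obtain ⟨g, hg, hstd⟩ := Algebra.IsEtaleAt.exists_isStandardEtale (R := B') q.asIdeal
  obtain ⟨P'⟩ := hstd.nonempty_standardEtalePresentation
  obtain ⟨P, ⟨e⟩⟩ := exists_lift_pair hφ P'.P
  let e' : B' ⊗[B] P.Ring ≃ₐ[B'] Localization.Away g := e.trans P'.equivRing.symm
  refine ⟨g, hg, .of P.Ring, CommRingCat.ofHom (algebraMap B P.Ring),
    CommRingCat.ofHom (e'.toRingHom.comp Algebra.TensorProduct.includeRight.toRingHom), ?_, ?_⟩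
  · rw [CommRingCat.hom_ofHom, RingHom.etale_algebraMap]
    infer_instance
  · have h0 := (CommRingCat.isPushout_tensorProduct B B' P.Ring).flip
    refine h0.of_iso (Iso.refl _) (Iso.refl _) (Iso.refl _) e'.toCommRingCatIso ?_ ?_ ?_ ?_
    · ext x; rfl
    · ext x; rfl
    · ext x; rfl
    · ext x
      have h1 : (x ⊗ₜ[B] (1 : P.Ring)) = algebraMap B' (B' ⊗[B] P.Ring) x := by
        rw [Algebra.TensorProduct.algebraMap_apply]; rfl
      have h2 : e' (x ⊗ₜ[B] (1 : P.Ring)) = algebraMap B' (Localization.Away g) x := by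
        rw [h1, e'.commutes]
      simp only [Iso.refl_hom, Category.id_comp]
      refine h2.trans ?_
      rw [IsScalarTower.algebraMap_apply B' C (Localization.Away g)]
      rfl

end Cat

section Sch

/-- The local lifting property of an étale `u : U ⟶ X` along `f : X ⟶ Y` at a point `x` of `U`: an open
neighbourhood `W` of `x` in `U` is the base change of an étale `Y`-scheme `V`. -/
def LiftAt {X Y U : Scheme.{u}} (f : X ⟶ Y) (u : U ⟶ X) (x : U) : Prop :=
  ∃ (V : Scheme.{u}) (v : V ⟶ Y) (_ : Etale v) (W : Scheme.{u}) (a : W ⟶ V) (h : W ⟶ U),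
    IsPullback a (h ≫ u) v f ∧ IsOpenImmersion h ∧ x ∈ Set.range h.base

theorem LiftAt.of_isOpenImmersion {X Y U X₀ Y₀ U₀ : Scheme.{u}} {f : X ⟶ Y} {u : U ⟶ X}
    {f₀ : X₀ ⟶ Y₀} {u₀ : U₀ ⟶ X₀} (jU : U₀ ⟶ U) (jX : X₀ ⟶ X) (jY : Y₀ ⟶ Y)
    [IsOpenImmersion jU] [IsOpenImmersion jY] (hu : u₀ ≫ jX = jU ≫ u)
    (hf : IsPullback f₀ jX jY f) (x₀ : U₀) (H : LiftAt f₀ u₀ x₀) : LiftAt f u (jU.base x₀) := by
  obtain ⟨V, v, hv, W, a, h, hpb, hh, y, hy⟩ := H
  refine ⟨V, v ≫ jY, inferInstance, W, a, h ≫ jU, ?_, inferInstance, y, ?_⟩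
  · have := hpb.paste_vert hf
    rwa [Category.assoc, hu, ← Category.assoc] at this
  · rw [Scheme.Hom.comp_base, TopCat.comp_app, hy]

theorem liftAt_Spec {B B' C : CommRingCat.{u}} (φ : B ⟶ B') (hφ : Function.Surjective φ.hom)
    (ψ : B' ⟶ C) (hψ : ψ.hom.Etale) (x : Spec C) : LiftAt (Spec.map φ) (Spec.map ψ) x := by
  obtain ⟨g, hg, D, β, δ, hβ, hpo⟩ := exists_etale_lift_away φ hφ ψ hψ x
  refine ⟨Spec D, Spec.map β, (HasRingHomProperty.Spec_iff (P := @Etale)).mpr hβ, Spec (.of (Localization.Away g)),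
    Spec.map δ, Spec.map (CommRingCat.ofHom (algebraMap C (Localization.Away g))), ?_,
    inferInstance, ?_⟩
  · rw [← Spec.map_comp]
    exact isPullback_SpecMap_of_isPushout _ _ _ _ hpo
  · have := PrimeSpectrum.localization_away_comap_range (Localization.Away g) g
    change x ∈ Set.range (PrimeSpectrum.comap (algebraMap C (Localization.Away g)))
    rw [this]
    exact hg

theorem liftAt_of_isAffine {X Y U : Scheme.{u}} [IsAffine Y] [IsAffine U] (f : X ⟶ Y)
    [IsClosedImmersion f] (u : U ⟶ X) [Etale u] (x : U) : LiftAt f u x := by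
  obtain ⟨hX, hf⟩ := IsClosedImmersion.isAffine_surjective_of_isAffine f
  have hu : u.appTop.hom.Etale := HasRingHomProperty.appTop @Etale u inferInstance
  have H := liftAt_Spec f.appTop hf u.appTop hu (U.isoSpec.hom.base x)
  have := H.of_isOpenImmersion (f := f) (u := u) U.isoSpec.inv X.isoSpec.inv Y.isoSpec.inv
    (Scheme.isoSpec_inv_naturality u)
    (IsPullback.of_vert_isIso ⟨Scheme.isoSpec_inv_naturality f⟩)
  rwa [← Scheme.Hom.comp_apply, Iso.hom_inv_id] at this

theorem liftAt {X Y U : Scheme.{u}} (f : X ⟶ Y) [IsClosedImmersion f] (u : U ⟶ X) [Etale u]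
    (x : U) : LiftAt f u x := by
  obtain ⟨Y₀, hY₀, hxY₀, -⟩ := exists_isAffineOpen_mem_and_subset
    (TopologicalSpace.Opens.mem_top (f.base (u.base x)))
  have hx1 : x ∈ u ⁻¹ᵁ (f ⁻¹ᵁ Y₀) := hxY₀
  obtain ⟨U₀, hU₀, hxU₀, hle⟩ := exists_isAffineOpen_mem_and_subset hx1
  haveI : IsAffine Y₀.toScheme := hY₀
  haveI : IsAffine U₀.toScheme := hU₀
  have H := liftAt_of_isAffine (f ∣_ Y₀) (u.resLE (f ⁻¹ᵁ Y₀) U₀ hle) ⟨x, hxU₀⟩
  exact H.of_isOpenImmersion (f := f) (u := u) U₀.ι (f ⁻¹ᵁ Y₀).ι Y₀.ι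
    (Scheme.Hom.resLE_comp_ι _ _) (isPullback_morphismRestrict f Y₀)

/-- **Main scheme-level statement**: for a closed immersion `f : X ⟶ Y` and an étale `u : U ⟶ X`,
every point of `U` has an open neighbourhood which is the base change of an étale `Y`-scheme. -/
theorem exists_etale_lift_scheme {X Y U : Scheme.{u}} (f : X ⟶ Y) [IsClosedImmersion f]
    (u : U ⟶ X) [Etale u] (x : U) :
    ∃ (V : Scheme.{u}) (v : V ⟶ Y) (_ : Etale v) (h : pullback v f ⟶ U),
      h ≫ u = pullback.snd v f ∧ IsOpenImmersion h ∧ x ∈ Set.range h.base := by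
  obtain ⟨V, v, hv, W, a, h, hpb, hh, hx⟩ := liftAt f u x
  refine ⟨V, v, hv, hpb.isoPullback.inv ≫ h, ?_, inferInstance, ?_⟩
  · rw [Category.assoc, hpb.isoPullback_inv_snd]
  · obtain ⟨y, rfl⟩ := hx
    exact ⟨hpb.isoPullback.hom.base y, by
      rw [← Scheme.Hom.comp_apply, Iso.hom_inv_id_assoc]⟩

end Sch

end Groth.Agent.R2.H3.EtLift
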