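import Mathlib
import Groth.Prelude.Def_EtBase
import Groth.Agent.R2.H3EtLift
import Groth.Agent.R2.H13ClosedPushA

/-!
# Base change along a closed immersion is a dense subsite (helper13)

For a closed immersion `i : Z ⟶ X` the base change functor `EtCoh.bc i : X.Etale ⥤ Z.Etale` is
cover dense (helper3's `exists_etale_lift_scheme`), locally full and locally faithful. Hence
`EtCoh.push i` is fully faithful (Mathlib's `IsCoverDense.full_sheafPushforwardContinuous`).
-/

set_option autoImplicit false
open CategoryTheory CategoryTheory.Limits AlgebraicGeometry Opposite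
universe u

namespace Groth.Agent.R2.H13.ClosedPush

variable {Z X : Scheme.{u}} (i : Z ⟶ X)

instance isCoverDense_bc [IsClosedImmersion i] :
    (EtCoh.bc i).IsCoverDense Z.smallEtaleTopology where
  is_cover U := by
    apply mem_smallEtaleTopology_of_forall
    intro x
    obtain ⟨V, v, hv, h, hcomp, hopen, hx⟩ :=
      Groth.Agent.R2.H3.EtLift.exists_etale_lift_scheme i U.hom x
    let V' : X.Etale := Scheme.Etale.mk v
    let g : (EtCoh.bc i).obj V' ⟶ U := MorphismProperty.Over.homMk h hcomp trivial
    exact ⟨(EtCoh.bc i).obj V', g, Presieve.in_coverByImage _ g, hx⟩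

instance isLocallyFaithful_bc : (EtCoh.bc i).IsLocallyFaithful Z.smallEtaleTopology :=
  isLocallyFaithful_of_preservesEqualizers _ _

theorem push_full [IsClosedImmersion i] : (EtCoh.push i).Full :=
  Functor.IsCoverDense.full_sheafPushforwardContinuous (EtCoh.bc i)
    (J := X.smallEtaleTopology) (K := Z.smallEtaleTopology) (A := AddCommGrpCat.{u + 1})

theorem push_faithful [IsClosedImmersion i] : (EtCoh.push i).Faithful :=
  Functor.IsCoverDense.faithful_sheafPushforwardContinuous (EtCoh.bc i)
    (J := X.smallEtaleTopology) (K := Z.smallEtaleTopology) (A := AddCommGrpCat.{u + 1})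

end Groth.Agent.R2.H13.ClosedPush
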