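import Mathlib
import Groth.Prelude.Def_EtBase
import Groth.Agent.R2.H13ClosedPush

/-!
# Essential image of the pushforward along a closed immersion (helper13)

An abelian étale sheaf `F` on `X` is of the form `i_* G` (`i : Z ⟶ X` a closed immersion) iff
`F(U) = 0` for every étale `U ⟶ X` whose image misses `Z`.

Route: `EtCoh.bc i` is a dense subsite for the induced topology `J'` on `X.Etale`, so
`Sheaf J' ≌ Sheaf Z_et` (Mathlib). A `J_X`-sheaf vanishing off `Z` is a `J'`-sheaf.
-/

set_option autoImplicit false
open CategoryTheory CategoryTheory.Limits AlgebraicGeometry Opposite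
universe u w

namespace Groth.Agent.R2.H13.ClosedPush

section General

variable {C : Type*} [Category C]

/-- If `P` is a sheaf for `S ⊔ T` and `P` has exactly one section over the source of every arrow
of `T`, then `P` is a sheaf for `S`. -/
lemma isSheafFor_of_sup (P : Cᵒᵖ ⥤ Type w) {U : C} (S T : Sieve U)
    (hST : Presieve.IsSheafFor P (S ⊔ T : Sieve U).arrows)
    (hT : ∀ ⦃Y : C⦄ ⦃f : Y ⟶ U⦄, T f → Nonempty (Unique (P.obj (op Y)))) :
    Presieve.IsSheafFor P S.arrows := by
  refine Presieve.isSheafFor_trans P (S ⊔ T) S hST ?_ ?_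
  · intro Y f hf
    have : (S ⊔ T : Sieve U).pullback f = ⊤ :=
      Sieve.pullback_eq_top_of_mem _ ((Sieve.union_apply f).2 (Or.inl hf))
    rw [this]
    exact Presieve.isSeparatedFor_top P
  · intro Y f hf
    rcases (Sieve.union_apply f).1 hf with hf | hf
    · have : S.pullback f = ⊤ := Sieve.pullback_eq_top_of_mem _ hf
      rw [this]
      exact Presieve.isSheafFor_top P
    · obtain ⟨hu⟩ := hT hf
      intro x _
      refine ⟨default, ?_, fun y _ => Subsingleton.elim _ _⟩
      intro W g hg
      obtain ⟨hu'⟩ := hT (T.downward_closed hf g)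
      exact Subsingleton.elim _ _

end General

section Bc

variable {Z X : Scheme.{u}} (i : Z ⟶ X)

/-- The sieve on `U : X.Etale` of arrows from étale `X`-schemes whose image misses `Z`. -/
def offSieve (U : X.Etale) : Sieve U where
  arrows W _ := Disjoint (Set.range W.hom.base) (Set.range i.base)
  downward_closed := by
    intro W W' f hf g
    refine Set.disjoint_of_subset_left ?_ hf
    rintro _ ⟨y, rfl⟩
    refine ⟨g.left.base y, ?_⟩
    have : g.left ≫ W.hom = W'.hom := Over.w g.hom
    rw [← this]
    rfl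

lemma bc_map_fst {U V : X.Etale} (a : V ⟶ U) :
    ((EtCoh.bc i).map a).left ≫ (pullback.fst U.hom i : ((EtCoh.bc i).obj U).left ⟶ U.left) =
      (pullback.fst V.hom i : ((EtCoh.bc i).obj V).left ⟶ V.left) ≫ a.left :=
  (EtCoh.isPullback_bc_map i a).w

/-- A sieve covering for the induced topology, together with the étale schemes missing `Z`,
covers for the étale topology of `X`. -/
lemma sup_offSieve_mem [IsClosedImmersion i] {U : X.Etale} (S : Sieve U)
    (hS : S.functorPushforward (EtCoh.bc i) ∈ Z.smallEtaleTopology ((EtCoh.bc i).obj U)) :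
    S ⊔ offSieve i U ∈ X.smallEtaleTopology U := by
  apply mem_smallEtaleTopology_of_forall
  intro x
  by_cases hx : U.hom.base x ∈ Set.range i.base
  · obtain ⟨z, hz⟩ := hx
    obtain ⟨z', hz1, -⟩ := Scheme.Pullback.exists_preimage_pullback (f := U.hom) (g := i) x z hz.symm
    obtain ⟨V', g', ⟨W, a, b, ha, rfl⟩, v', hv'⟩ :=
      exists_of_mem_smallEtaleTopology _ hS z'
    refine ⟨W, a, (Sieve.union_apply a).2 (Or.inl ha),
      ⟨(pullback.fst W.hom i : ((EtCoh.bc i).obj W).left ⟶ W.left).base (b.left.base v'), ?_⟩⟩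
    have h1 := bc_map_fst i a
    have h2 : (b ≫ (EtCoh.bc i).map a).left = b.left ≫ ((EtCoh.bc i).map a).left := rfl
    rw [← hz1, ← hv', h2]
    change (pullback.fst W.hom i ≫ a.left).base (b.left.base v') = _
    rw [← h1]
    rfl
  · let O : U.left.Opens := ⟨(U.hom.base ⁻¹' Set.range i.base)ᶜ,
      (i.isClosedEmbedding.isClosed_range.preimage U.hom.continuous).isOpen_compl⟩
    let W : X.Etale := Scheme.Etale.mk (O.ι ≫ U.hom)
    let f : W ⟶ U := MorphismProperty.Over.homMk O.ι rfl trivial
    refine ⟨W, f, (Sieve.union_apply f).2 (Or.inr ?_), ?_⟩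
    · change Disjoint (Set.range (O.ι ≫ U.hom).base) (Set.range i.base)
      rw [Set.disjoint_left]
      rintro _ ⟨y, rfl⟩ hy
      exact y.2 hy
    · change x ∈ Set.range O.ι.base
      rw [Scheme.Opens.range_ι]
      exact hx

/-- An abelian étale sheaf on `X` vanishing on étale schemes missing `Z` is a sheaf for the
topology induced from `Z` along base change. -/
lemma isSheaf_inducedTopology [IsClosedImmersion i] (F : EtCoh.Ab X)
    (hF : ∀ U : X.Etale, Disjoint (Set.range U.hom.base) (Set.range i.base) →
      IsZero (F.obj.obj (op U))) :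
    Presheaf.IsSheaf ((EtCoh.bc i).inducedTopology Z.smallEtaleTopology) F.obj := by
  intro E U S hS
  rw [Functor.mem_inducedTopology_iff_of_isCoverDense] at hS
  have h1 := sup_offSieve_mem i S hS
  refine isSheafFor_of_sup _ S (offSieve i U) (F.property E _ h1) ?_
  intro W f hf
  exact (hF W hf).unique_from E

/-- **Essential image of `i_*`** for a closed immersion `i`. -/
theorem essImage_push_iff [IsClosedImmersion i] (F : EtCoh.Ab X) :
    (EtCoh.push i).essImage F ↔
      ∀ U : X.Etale, Disjoint (Set.range U.hom.base) (Set.range i.base) →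
        IsZero (F.obj.obj (op U)) := by
  constructor
  · rintro ⟨G, ⟨e⟩⟩ U hU
    have hbot : (⊥ : Sieve ((EtCoh.bc i).obj U)) ∈ Z.smallEtaleTopology ((EtCoh.bc i).obj U) := by
      apply mem_smallEtaleTopology_of_forall
      intro z
      exfalso
      have hz : U.hom.base ((pullback.fst U.hom i : ((EtCoh.bc i).obj U).left ⟶ U.left).base z) =
          i.base ((pullback.snd U.hom i : ((EtCoh.bc i).obj U).left ⟶ Z).base z) := by
        change (pullback.fst U.hom i ≫ U.hom).base z = (pullback.snd U.hom i ≫ i).base z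
        rw [pullback.condition]
      exact Set.disjoint_left.1 hU ⟨_, rfl⟩ ⟨_, hz.symm⟩
    have hz : IsZero (G.obj.obj (op ((EtCoh.bc i).obj U))) :=
      (Sheaf.isTerminalOfBotCover G _ hbot).isZero
    exact hz.of_iso (((sheafToPresheaf _ _).mapIso e.symm).app (op U))
  · intro hF
    let F' : Sheaf ((EtCoh.bc i).inducedTopology Z.smallEtaleTopology) AddCommGrpCat.{u + 1} :=
      ⟨F.obj, isSheaf_inducedTopology i F hF⟩
    let Φ := (EtCoh.bc i).sheafPushforwardContinuous AddCommGrpCat.{u + 1}
      ((EtCoh.bc i).inducedTopology Z.smallEtaleTopology) Z.smallEtaleTopology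
    have : Φ.IsEquivalence := inferInstance
    let G := Φ.objPreimage F'
    let e : Φ.obj G ≅ F' := Φ.objObjPreimageIso F'
    refine ⟨G, ⟨(fullyFaithfulSheafToPresheaf _ _).preimageIso ?_⟩⟩
    exact (sheafToPresheaf ((EtCoh.bc i).inducedTopology Z.smallEtaleTopology) _).mapIso e

end Bc

end Groth.Agent.R2.H13.ClosedPush
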