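import Mathlib
import Groth.Prelude.Def_EtBase
import Groth.Prelude.Def_SGA4b
import Groth.Prelude.Def_EtShriek2
import Groth.Agent.R2.H13ClosedPushEss
import Groth.Agent.S0651

/-!
# Closed immersion pushforward for sheaves with values in a general category (helper13)

* `essImage_pushA_iff`: value-category-generic version of `essImage_push_iff`
  (sections over étale schemes missing `Z` are terminal objects).
* `rhoSh`: for an open immersion `j`, inverse image of sheaves of sets is restriction.
* `isIso_terminal_from_pullSh_iff`: `j^* F` is terminal iff `F(W)` is a singleton for all `W` missing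
  the closed complement.
-/

set_option autoImplicit false
open CategoryTheory CategoryTheory.Limits AlgebraicGeometry Opposite
universe u w v

namespace Groth.Agent.R2.H13.ClosedPush

section GeneralA

variable {A : Type w} [Category.{v} A] {Z X : Scheme.{u}} (i : Z ⟶ X)

lemma isSheaf_inducedTopologyA [IsClosedImmersion i] (F : Sheaf X.smallEtaleTopology A)
    (hF : ∀ U : X.Etale, Disjoint (Set.range U.hom.base) (Set.range i.base) →
      Nonempty (IsTerminal (F.obj.obj (op U)))) :
    Presheaf.IsSheaf ((EtCoh.bc i).inducedTopology Z.smallEtaleTopology) F.obj := by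
  intro E U S hS
  rw [Functor.mem_inducedTopology_iff_of_isCoverDense] at hS
  have h1 := sup_offSieve_mem i S hS
  refine isSheafFor_of_sup _ S (offSieve i U) (F.property E _ h1) ?_
  intro W f hf
  obtain ⟨hW⟩ := hF W hf
  exact ⟨⟨⟨hW.from E⟩, fun a => hW.hom_ext _ _⟩⟩

theorem essImage_pushA_iff [IsClosedImmersion i]
    [∀ V, HasLimitsOfShape (StructuredArrow V (EtCoh.bc i).op) A]
    (F : Sheaf X.smallEtaleTopology A) :
    ((EtCoh.bc i).sheafPushforwardContinuous A X.smallEtaleTopology
        Z.smallEtaleTopology).essImage F ↔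
      ∀ U : X.Etale, Disjoint (Set.range U.hom.base) (Set.range i.base) →
        Nonempty (IsTerminal (F.obj.obj (op U))) := by
  constructor
  · rintro ⟨G, ⟨e⟩⟩ U hU
    have hbot : (⊥ : Sieve ((EtCoh.bc i).obj U)) ∈ Z.smallEtaleTopology ((EtCoh.bc i).obj U) := by
      apply mem_smallEtaleTopology_of_forall
      intro z
      exfalso
      have hz : U.hom.base ((pullback.fst U.hom i : ((EtCoh.bc i).obj U).left ⟶ U.left).base z) =
          i.base ((pullback.snd U.hom i : ((EtCoh.bc i).obj U).left ⟶ Z).base z) := by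
        change (pullback.fst U.hom i ≫ U.hom).base z = (pullback.snd U.hom i ≫ i).base z
        rw [pullback.condition]
      exact Set.disjoint_left.1 hU ⟨_, rfl⟩ ⟨_, hz.symm⟩
    have hz : IsTerminal (G.obj.obj (op ((EtCoh.bc i).obj U))) :=
      Sheaf.isTerminalOfBotCover G _ hbot
    exact ⟨hz.ofIso (((sheafToPresheaf _ _).mapIso e).app (op U))⟩
  · intro hF
    let F' : Sheaf ((EtCoh.bc i).inducedTopology Z.smallEtaleTopology) A :=
      ⟨F.obj, isSheaf_inducedTopologyA i F hF⟩
    let Φ := (EtCoh.bc i).sheafPushforwardContinuous A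
      ((EtCoh.bc i).inducedTopology Z.smallEtaleTopology) Z.smallEtaleTopology
    have : Φ.IsEquivalence := inferInstance
    let G := Φ.objPreimage F'
    let e : Φ.obj G ≅ F' := Φ.objObjPreimageIso F'
    refine ⟨G, ⟨(fullyFaithfulSheafToPresheaf _ _).preimageIso ?_⟩⟩
    exact (sheafToPresheaf ((EtCoh.bc i).inducedTopology Z.smallEtaleTopology) _).mapIso e

end GeneralA

section Terminal

variable {C : Type*} [Category C] (J : GrothendieckTopology C)

lemma isTerminal_sheaf_iff (P : Sheaf J (Type w)) :
    Nonempty (IsTerminal P) ↔ ∀ V : C, Nonempty (IsTerminal (P.obj.obj (op V))) := by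
  constructor
  · rintro ⟨hP⟩ V
    have hX : IsTerminal (PUnit.{w + 1} : Type w) := Types.isTerminalPUnit
    let e : P ≅ Sheaf.terminal J hX := hP.uniqueUpToIso (Sheaf.isTerminalTerminal J hX)
    exact ⟨hX.ofIso (((sheafToPresheaf _ _).mapIso e).app (op V)).symm⟩
  · intro h
    exact ⟨IsTerminal.isTerminalOfObj (sheafToPresheaf _ _) _
      (Functor.isTerminal fun X => (h X.unop).some)⟩

lemma isIso_terminal_from_iff {D : Type*} [Category D] [HasTerminal D] (P : D) :
    IsIso (terminal.from P) ↔ Nonempty (IsTerminal P) := by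
  constructor
  · intro h
    exact ⟨terminalIsTerminal.ofIso (asIso (terminal.from P)).symm⟩
  · rintro ⟨hP⟩
    exact isIso_of_isTerminal hP terminalIsTerminal _

end Terminal

section Open

open Groth.Agent.S0651

variable {U X : Scheme.{u}} (j : U ⟶ X) [IsOpenImmersion j]

/-- Restriction of sheaves of sets along an open immersion. -/
noncomputable abbrev restrSh : EtDesc.Sh X ⥤ EtDesc.Sh U :=
  (EtShriek.compEtale j).sheafPushforwardContinuous (Type (u + 1)) U.smallEtaleTopology
    X.smallEtaleTopology

/-- `j^{-1} ⊣ j_*` for sheaves of sets, with `j^{-1}` restriction. -/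
noncomputable def restrPushAdjSh : restrSh j ⊣ EtDesc.pushSh j :=
  (compBcAdj j).sheafPushforwardContinuous (E := Type (u + 1))
    U.smallEtaleTopology X.smallEtaleTopology

/-- Inverse image along an open immersion is restriction (sheaves of sets). -/
noncomputable def rhoSh : EtDesc.pullSh j ≅ restrSh j :=
  Adjunction.leftAdjointUniq (EtDesc.adjSh j) (restrPushAdjSh j)

theorem isIso_terminal_from_pullSh_iff {Z : Scheme.{u}} (i : Z ⟶ X)
    (hU : Set.range j.base = (Set.range i.base)ᶜ) (F : EtDesc.Sh X) :
    IsIso (terminal.from ((EtDesc.pullSh j).obj F)) ↔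
      ∀ W : X.Etale, Disjoint (Set.range W.hom.base) (Set.range i.base) →
        Nonempty (IsTerminal (F.obj.obj (op W))) := by
  rw [isIso_terminal_from_iff]
  have h1 : Nonempty (IsTerminal ((EtDesc.pullSh j).obj F)) ↔
      Nonempty (IsTerminal ((restrSh j).obj F)) :=
    ⟨fun ⟨h⟩ => ⟨h.ofIso ((rhoSh j).app F)⟩, fun ⟨h⟩ => ⟨h.ofIso ((rhoSh j).app F).symm⟩⟩
  rw [h1, isTerminal_sheaf_iff]
  constructor
  · intro h W hW
    have hsub : Set.range W.hom.base ⊆ Set.range j.base := by
      rw [hU]
      exact fun x hx hx' => Set.disjoint_left.1 hW hx hx'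
    let l : W.left ⟶ U := IsOpenImmersion.lift j W.hom hsub
    have hl : l ≫ j = W.hom := IsOpenImmersion.lift_fac j W.hom hsub
    have hjet : EtCoh.etaleMP j := inferInstanceAs (AlgebraicGeometry.Etale j)
    have hW' : EtCoh.etaleMP (l ≫ j) := by rw [hl]; exact W.prop
    let V : U.Etale := MorphismProperty.Over.mk ⊤ l
      (EtCoh.etaleMP.of_postcomp (W' := EtCoh.etaleMP) l j hjet hW')
    let e : (EtShriek.compEtale j).obj V ≅ W :=
      MorphismProperty.Over.isoMk (Iso.refl _) (by
        change 𝟙 W.left ≫ W.hom = l ≫ j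
        rw [Category.id_comp, hl])
    obtain ⟨hV⟩ := h V
    exact ⟨hV.ofIso (F.obj.mapIso e.symm.op)⟩
  · intro h V
    apply h
    rw [Set.disjoint_left]
    rintro _ ⟨y, rfl⟩ hy
    have : (V.hom ≫ j).base y ∈ Set.range j.base := ⟨V.hom.base y, rfl⟩
    rw [hU] at this
    exact this hy

end Open

end Groth.Agent.R2.H13.ClosedPush
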