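import Mathlib
import Groth.Prelude.Def_EtAcyc
import Groth.Agent.Lib.Helper16SmallEtale

/-!
# Multiplication by an integer prime to `L` is an isomorphism on `L`-torsion sheaves (helper13)
-/

set_option autoImplicit false
open CategoryTheory CategoryTheory.Limits AlgebraicGeometry Opposite
universe u

namespace Groth.Agent.R2.H13.CoprimeIso

open Groth.Agent.Lib.Helper16.SmallEtale

lemma coprime_of_primesIn {L : Set ℕ} {d m : ℕ} (hL : ∀ p : ℕ, p.Prime → p ∈ L → ¬ p ∣ d)
    (hm : EtAcyc.PrimesIn L m) : Nat.Coprime d m := by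
  apply Nat.Coprime.symm
  exact Nat.coprime_of_dvd (fun k hk hkm hkd => hL k hk (hm.2 k hk hkm) hkd)

lemma eq_zero_of_coprime {M : Type*} [AddCommGroup M] {d m : ℕ} (h : Nat.Coprime d m) (x : M)
    (h1 : d • x = 0) (h2 : m • x = 0) : x = 0 := by
  have e := Nat.gcd_eq_gcd_ab d m
  rw [h] at e
  have e2 : x = ((d : ℤ) * d.gcdA m + (m : ℤ) * d.gcdB m) • x := by
    rw [← e]
    simp
  rw [e2, add_smul, mul_comm, mul_smul, mul_comm, mul_smul, natCast_zsmul, natCast_zsmul, h1, h2,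
    smul_zero, smul_zero, add_zero]

lemma exists_smul_of_coprime {M : Type*} [AddCommGroup M] {d m : ℕ} (h : Nat.Coprime d m) (x : M)
    (h2 : m • x = 0) : ∃ y : M, d • y = x := by
  have e := Nat.gcd_eq_gcd_ab d m
  rw [h] at e
  have e2 : x = ((d : ℤ) * d.gcdA m + (m : ℤ) * d.gcdB m) • x := by
    rw [← e]
    simp
  refine ⟨d.gcdA m • x, ?_⟩
  conv_rhs => rw [e2]
  rw [add_smul, mul_smul, natCast_zsmul, mul_comm, mul_smul, natCast_zsmul, h2, smul_zero,
    add_zero]

variable {X : Scheme.{u}}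

lemma nsmul_id_app (F : EtCoh.Ab X) (d : ℕ) (U : X.Etale) (s : F.obj.obj (op U)) :
    ((d • 𝟙 F : F ⟶ F).hom.app (op U)) s = d • s := by
  have : (d • 𝟙 F : F ⟶ F).hom = d • (𝟙 F : F ⟶ F).hom := NatTrans.ext' rfl
  rw [this, NatTrans.app_nsmul]
  rfl

set_option backward.isDefEq.respectTransparency.types false in
/-- multiplication by `d` on an `L`-torsion sheaf is an isomorphism if no prime of `L` divides
`d` -/
theorem isIso_nsmul (L : Set ℕ) (d : ℕ) (hL : ∀ p : ℕ, p.Prime → p ∈ L → ¬ p ∣ d)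
    (F : EtCoh.Ab X) (hF : EtAcyc.IsLTorsion L F) : IsIso (d • 𝟙 F : F ⟶ F) := by
  have hinj : Sheaf.IsLocallyInjective (d • 𝟙 F : F ⟶ F) := by
    constructor
    intro U x y hxy
    induction U using Opposite.rec with | _ U => ?_
    rw [mem_smallEtale_iff]
    intro p
    obtain ⟨V, g, m, ⟨v, hv⟩, hm, hms⟩ := hF U (x - y) p
    refine ⟨V, g, v, ?_, hv⟩
    have h1 : d • (x - y) = 0 := by
      have hx := nsmul_id_app F d U x
      have hy := nsmul_id_app F d U y
      rw [smul_sub, ← hx, ← hy]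
      exact sub_eq_zero.2 hxy
    have h2 : d • (F.obj.map g.op (x - y)) = 0 := by
      rw [← map_nsmul, h1, map_zero]
    have h3 := eq_zero_of_coprime (coprime_of_primesIn hL hm) _ h2 hms
    rw [map_sub, sub_eq_zero] at h3
    exact h3
  have hsurj : Sheaf.IsLocallySurjective (d • 𝟙 F : F ⟶ F) := by
    constructor
    intro U t
    rw [mem_smallEtale_iff]
    intro p
    obtain ⟨V, g, m, ⟨v, hv⟩, hm, hms⟩ := hF U t p
    obtain ⟨y, hy⟩ := exists_smul_of_coprime (coprime_of_primesIn hL hm) _ hms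
    refine ⟨V, g, v, ⟨y, ?_⟩, hv⟩
    exact (nsmul_id_app F d V y).trans hy
  haveI := Sheaf.mono_of_isLocallyInjective (d • 𝟙 F : F ⟶ F)
  haveI := Sheaf.epi_of_isLocallySurjective (d • 𝟙 F : F ⟶ F)
  exact isIso_of_mono_of_epi _

end Groth.Agent.R2.H13.CoprimeIso
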