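import Mathlib.CategoryTheory.Sites.Point.Basic
import Mathlib.CategoryTheory.Sites.Point.Conservative
import Mathlib.CategoryTheory.Sites.LocallyBijective

/-!
# Families of points of a site which detect coverings (helper13)

A family of points `Φ i` of a site `(C, J)` *reflects covers* when a sieve `R` on `U` is covering as
soon as every element of every fibre `(Φ i).fiber.obj U` lifts along some arrow of `R`
(SGA 4 IV 6.5 (a)).  For such a family, morphisms of sheaves with values in a concrete category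
(in any universe in which the fibres exist) are detected on fibres: local injectivity, local
surjectivity and equality.
-/

set_option autoImplicit false
set_option linter.unusedSectionVars false

universe w' w v v' u u'

open CategoryTheory CategoryTheory.Limits Opposite

namespace Groth.Agent.R2.H13.Points

variable {C : Type u} [Category.{v} C] {J : GrothendieckTopology C}
  {ι : Type*} (Φ : ι → GrothendieckTopology.Point.{w} J)

/-- The family of points `Φ` detects covering sieves. -/
def ReflectsCovers : Prop :=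
  ∀ (U : C) (R : Sieve U),
    (∀ (i : ι) (x : (Φ i).fiber.obj U), ∃ (W : C) (g : W ⟶ U) (y : (Φ i).fiber.obj W),
      (Φ i).fiber.map g y = x ∧ R g) → R ∈ J U

variable {A : Type u'} [Category.{v'} A] [HasColimitsOfSize.{w, w} A]
  {FC : A → A → Type*} {CC : A → Type w'} [∀ X Y : A, FunLike (FC X Y) (CC X) (CC Y)]
  [ConcreteCategory.{w'} A FC] [PreservesFilteredColimitsOfSize.{w, w} (forget A)]
  [LocallySmall.{w} C]

variable {Φ} (hΦ : ReflectsCovers Φ)

include hΦ in
theorem isLocallyInjective_of_fibers {F G : Cᵒᵖ ⥤ A} (a : F ⟶ G)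
    (h : ∀ i, Function.Injective ((Φ i).presheafFiber.map a)) :
    Presheaf.IsLocallyInjective J a := by
  constructor
  intro U x y hxy
  induction U using Opposite.rec with | _ U => ?_
  apply hΦ
  intro i x₀
  have e1 : (Φ i).presheafFiber.map a ((Φ i).toPresheafFiber U x₀ F x) =
      (Φ i).presheafFiber.map a ((Φ i).toPresheafFiber U x₀ F y) := by
    have n1 := (Φ i).toPresheafFiber_naturality_apply a U x₀ x
    have n2 := (Φ i).toPresheafFiber_naturality_apply a U x₀ y
    exact n1.trans ((congrArg _ hxy).trans n2.symm)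
  have e2 := h i e1
  obtain ⟨W, g, w, hw, hg⟩ := ((Φ i).toPresheafFiber_eq_iff' U x₀ x y).mp e2
  exact ⟨W, g, w, hw, hg⟩

include hΦ in
theorem isLocallySurjective_of_fibers {F G : Cᵒᵖ ⥤ A} (a : F ⟶ G)
    (h : ∀ i, Function.Surjective ((Φ i).presheafFiber.map a)) :
    Presheaf.IsLocallySurjective J a := by
  constructor
  intro U t
  apply hΦ
  intro i x₀
  obtain ⟨σ, hσ⟩ := h i ((Φ i).toPresheafFiber U x₀ G t)
  obtain ⟨V, v, s, rfl⟩ := (Φ i).toPresheafFiber_jointly_surjective (P := F) σ
  have n1 : (Φ i).presheafFiber.map a ((Φ i).toPresheafFiber V v F s) =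
      (Φ i).toPresheafFiber V v G (a.app (op V) s) :=
    (Φ i).toPresheafFiber_naturality_apply a V v s
  let m : (Φ i).fiber.Elements := IsCofiltered.min (⟨V, v⟩ : (Φ i).fiber.Elements) ⟨U, x₀⟩
  let gV : m ⟶ ⟨V, v⟩ := IsCofiltered.minToLeft _ _
  let gU : m ⟶ ⟨U, x₀⟩ := IsCofiltered.minToRight _ _
  have hgV : (Φ i).fiber.map gV.1 m.2 = v := gV.2
  have hgU : (Φ i).fiber.map gU.1 m.2 = x₀ := gU.2
  have e1 : (Φ i).toPresheafFiber m.1 m.2 G (G.map gU.1.op t) =
      (Φ i).toPresheafFiber m.1 m.2 G (G.map gV.1.op (a.app (op V) s)) := by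
    rw [(Φ i).toPresheafFiber_w_apply, (Φ i).toPresheafFiber_w_apply, hgV, hgU, ← hσ, n1]
  obtain ⟨W', g, w', hw', hg⟩ := ((Φ i).toPresheafFiber_eq_iff' m.1 m.2 _ _).mp e1
  refine ⟨W', g ≫ gU.1, w', ?_, ⟨F.map (g ≫ gV.1).op s, ?_⟩⟩
  · rw [Functor.map_comp]
    change (Φ i).fiber.map gU.1 ((Φ i).fiber.map g w') = x₀
    rw [hw', hgU]
  · have n2 := NatTrans.naturality_apply a (g ≫ gV.1).op s
    rw [n2]
    rw [op_comp, Functor.map_comp, ConcreteCategory.comp_apply, ← hg,
      ← ConcreteCategory.comp_apply, ← Functor.map_comp, ← op_comp]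

include hΦ in
/-- Two morphisms to a separated presheaf which agree on all fibres are equal. -/
theorem eq_of_fibers {F G : Cᵒᵖ ⥤ A} (a b : F ⟶ G)
    (hsep : Presieve.IsSeparated J (G ⋙ forget A))
    (h : ∀ i, (Φ i).presheafFiber.map a = (Φ i).presheafFiber.map b) : a = b := by
  refine NatTrans.ext (funext fun U => ?_)
  induction U using Opposite.rec with | _ U => ?_
  apply ConcreteCategory.hom_ext
  intro s
  have hR : Presheaf.equalizerSieve (F := G) (X := op U) (a.app (op U) s) (b.app (op U) s) ∈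
      J U := by
    apply hΦ
    intro i x₀
    have n1 := (Φ i).toPresheafFiber_naturality_apply a U x₀ s
    have n2 := (Φ i).toPresheafFiber_naturality_apply b U x₀ s
    rw [h i] at n1
    have e := n1.symm.trans n2
    obtain ⟨W, g, w, hw, hg⟩ := ((Φ i).toPresheafFiber_eq_iff' U x₀ _ _).mp e
    exact ⟨W, g, w, hw, hg⟩
  exact (hsep _ hR).ext (fun _ _ hf => hf)

section Corep

variable (Ψ : GrothendieckTopology.Point.{w} J) (T : C) (x₀ : Ψ.fiber.obj T)
  (hlift : ∀ (U : C) (x : Ψ.fiber.obj U), ∃ g : T ⟶ U, Ψ.fiber.map g x₀ = x)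
  (hend : ∀ h : T ⟶ T, h = 𝟙 T)

include hlift hend in
/-- If the fibre functor of a point is "corepresented" by `(T, x₀)`, the fibre of a presheaf is its
value at `T`. -/
theorem toPresheafFiber_bijective (P : Cᵒᵖ ⥤ A) :
    Function.Bijective (Ψ.toPresheafFiber T x₀ P) := by
  constructor
  · intro z₁ z₂ h
    obtain ⟨Y, f, y, hy, hz⟩ := (Ψ.toPresheafFiber_eq_iff' T x₀ z₁ z₂).mp h
    obtain ⟨g, hg⟩ := hlift Y y
    have h1 : g ≫ f = 𝟙 T := hend _
    have h2 := congrArg (P.map g.op) hz
    rw [← ConcreteCategory.comp_apply, ← ConcreteCategory.comp_apply, ← Functor.map_comp,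
      ← op_comp, h1, op_id] at h2
    simpa using h2
  · intro p
    obtain ⟨U, x, z, rfl⟩ := Ψ.toPresheafFiber_jointly_surjective (P := P) p
    obtain ⟨g, hg⟩ := hlift U x
    refine ⟨P.map g.op z, ?_⟩
    rw [Ψ.toPresheafFiber_w_apply, hg]

end Corep

section Equiv

variable [HasColimitsOfSize.{w, w} (Type w')] [HasProducts.{w} (Type w')]
  (Ψ : GrothendieckTopology.Point.{w} J) (T : C) (x₀ : Ψ.fiber.obj T)
  (hlift : ∀ (U : C) (x : Ψ.fiber.obj U), ∃ g : T ⟶ U, Ψ.fiber.map g x₀ = x)
  (hend : ∀ h : T ⟶ T, h = 𝟙 T)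
  (hcov : ReflectsCovers (fun _ : Unit => Ψ))

include hcov in
theorem isIso_of_isIso_sheafFiber_map {F G : Sheaf J (Type w')} (a : F ⟶ G)
    (h : IsIso ((Ψ.sheafFiber (A := Type w')).map a)) : IsIso a := by
  have hb : Function.Bijective (Ψ.presheafFiber.map a.hom) := (isIso_iff_bijective _).1 h
  have h1 : Sheaf.IsLocallyInjective a :=
    isLocallyInjective_of_fibers hcov a.hom (fun _ => hb.1)
  have h2 : Sheaf.IsLocallySurjective a :=
    isLocallySurjective_of_fibers hcov a.hom (fun _ => hb.2)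
  exact (Sheaf.isLocallyBijective_iff_isIso a).1 ⟨h1, h2⟩

include hlift hend in
theorem isIso_toPresheafFiber (P : Cᵒᵖ ⥤ Type w') : IsIso (Ψ.toPresheafFiber T x₀ P) :=
  (isIso_iff_bijective _).2 (toPresheafFiber_bijective Ψ T x₀ hlift hend P)

include hlift hend in
theorem subsingleton_fiber : Subsingleton (Ψ.fiber.obj T) := by
  constructor
  intro a b
  obtain ⟨g, hg⟩ := hlift T a
  obtain ⟨g', hg'⟩ := hlift T b
  rw [← hg, ← hg', hend g, hend g']

include hlift hend in
theorem isIso_counit_app (M : Type w') :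
    IsIso ((Ψ.skyscraperSheafAdjunction (A := Type w')).counit.app M) := by
  have h1 : Ψ.toPresheafFiber T x₀ (Ψ.skyscraperPresheaf M) ≫
      (Ψ.skyscraperSheafAdjunction (A := Type w')).counit.app M =
      Pi.π (fun _ : Ψ.fiber.obj T => M) x₀ := by
    have e1 := (Ψ.skyscraperSheafAdjunction (A := Type w')).homEquiv_symm_id M
    have e2 := Ψ.skyscraperSheafAdjunction_homEquiv_symm_apply (A := Type w')
      (F := Ψ.skyscraperSheaf M) (M := M) (𝟙 _)
    have e3 := Ψ.toPresheafFiber_skyscraperPresheafHomEquiv_symm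
      (P := Ψ.skyscraperPresheaf M) (M := M) (𝟙 _) T x₀
    have e4 : (Ψ.skyscraperSheafAdjunction (A := Type w')).counit.app M =
        Ψ.skyscraperPresheafHomEquiv.symm (𝟙 (Ψ.skyscraperPresheaf M)) := e1.symm.trans e2
    exact (congrArg (fun m => Ψ.toPresheafFiber T x₀ (Ψ.skyscraperPresheaf M) ≫ m) e4).trans
      (e3.trans (Category.id_comp _))
  have h2 : IsIso (Pi.π (fun _ : Ψ.fiber.obj T => M) x₀) := by
    have : Subsingleton (Ψ.fiber.obj T) := subsingleton_fiber Ψ T x₀ hlift hend
    let _ : Unique (Ψ.fiber.obj T) := ⟨⟨x₀⟩, fun a => Subsingleton.elim a x₀⟩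
    have h := productUniqueIso_hom (fun _ : Ψ.fiber.obj T => M)
    have hx : (default : Ψ.fiber.obj T) = x₀ := Subsingleton.elim _ _
    rw [hx] at h
    rw [← h]
    infer_instance
  have h3 := isIso_toPresheafFiber Ψ T x₀ hlift hend (Ψ.skyscraperPresheaf M)
  rw [← h1] at h2
  exact @IsIso.of_isIso_comp_left _ _ _ _ _ (Ψ.toPresheafFiber T x₀ (Ψ.skyscraperPresheaf M)) _ h3 h2

include hlift hend hcov in
theorem isIso_unit_app (F : Sheaf J (Type w')) :
    IsIso ((Ψ.skyscraperSheafAdjunction (A := Type w')).unit.app F) := by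
  apply isIso_of_isIso_sheafFiber_map Ψ hcov
  have h := (Ψ.skyscraperSheafAdjunction (A := Type w')).left_triangle_components F
  have h1 := isIso_counit_app Ψ T x₀ hlift hend ((Ψ.sheafFiber (A := Type w')).obj F)
  have h2 : IsIso ((Ψ.sheafFiber (A := Type w')).map
      ((Ψ.skyscraperSheafAdjunction (A := Type w')).unit.app F) ≫
      (Ψ.skyscraperSheafAdjunction (A := Type w')).counit.app
        ((Ψ.sheafFiber (A := Type w')).obj F)) := by
    rw [h]; exact IsIso.id _
  exact @IsIso.of_isIso_comp_right _ _ _ _ _ _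
    ((Ψ.skyscraperSheafAdjunction (A := Type w')).counit.app _) h1 h2

include hlift hend hcov in
theorem sheafFiber_isEquivalence : (Ψ.sheafFiber (A := Type w')).IsEquivalence := by
  have h1 := isIso_unit_app Ψ T x₀ hlift hend hcov
  have h2 := isIso_counit_app Ψ T x₀ hlift hend
  exact ((Ψ.skyscraperSheafAdjunction (A := Type w')).toEquivalence).isEquivalence_functor

/-- Sections over `T` are the fibre. -/
noncomputable def sectionsIsoSheafFiber :
    (sheafSections J (Type w')).obj (op T) ≅ Ψ.sheafFiber (A := Type w') :=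
  NatIso.ofComponents (fun F => @asIso _ _ _ _ (Ψ.toPresheafFiber T x₀ F.obj)
      (isIso_toPresheafFiber Ψ T x₀ hlift hend F.obj))
    (fun a => (Ψ.toPresheafFiber_naturality a.hom T x₀).symm)

include hlift hend hcov in
theorem sheafSections_isEquivalence : ((sheafSections J (Type w')).obj (op T)).IsEquivalence := by
  have := sheafFiber_isEquivalence Ψ T x₀ hlift hend hcov
  exact Functor.isEquivalence_of_iso (sectionsIsoSheafFiber Ψ T x₀ hlift hend).symm

end Equiv

end Groth.Agent.R2.H13.Points
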