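import Mathlib
import Groth.Prelude.Def_SGA4b
import Groth.Agent.S0100
import Groth.Agent.Lib.Helper16EtStalk
import Groth.Agent.R2.H13Points

/-!
# Geometric points of the small etale site and sheaves of sets (helper13)
-/

set_option autoImplicit false
set_option linter.unusedSectionVars false

open CategoryTheory CategoryTheory.Limits AlgebraicGeometry Opposite

universe u

namespace Groth.Agent.R2.H13.EtPoints

open Groth.Agent.R2.H13.Points Groth.Agent.Lib.Helper16.SmallEtale

/-- A geometric point of a scheme. -/
structure GeomPt (X : Scheme.{u}) where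
  Ω : Type u
  [field : Field Ω]
  [sepClosed : IsSepClosed Ω]
  pt : Spec (CommRingCat.of Ω) ⟶ X

attribute [instance] GeomPt.field GeomPt.sepClosed

/-- The point of the small etale site attached to a geometric point. -/
noncomputable def GeomPt.point {X : Scheme.{u}} (ξ : GeomPt X) :
    GrothendieckTopology.Point.{u} X.smallEtaleTopology :=
  Scheme.pointSmallEtale ξ.pt

/-- The image of a geometric point. -/
noncomputable def GeomPt.map {X' X : Scheme.{u}} (f : X' ⟶ X) (ξ : GeomPt X') : GeomPt X where
  Ω := ξ.Ω
  pt := ξ.pt ≫ f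

set_option backward.isDefEq.respectTransparency.types false in
lemma exists_geomPt (X : Scheme.{u}) (x : X) :
    ∃ ξ : GeomPt X, ξ.pt (default : Spec (CommRingCat.of ξ.Ω)) = x := by
  let Ω := SeparableClosure (X.residueField x)
  let l : Spec (CommRingCat.of Ω) ⟶ X :=
    Spec.map (CommRingCat.ofHom (algebraMap (X.residueField x) Ω)) ≫ X.fromSpecResidueField x
  refine ⟨⟨Ω, l⟩, ?_⟩
  change l default = x
  dsimp only [l]
  rw [Scheme.Hom.comp_apply]
  exact Scheme.fromSpecResidueField_apply _ _

set_option backward.isDefEq.respectTransparency.types false in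
/-- The images under a surjective morphism of the geometric points of the source detect coverings
of the small etale site of the target. -/
theorem reflectsCovers_of_surjective {X' X : Scheme.{u}} (f : X' ⟶ X) [Surjective f] :
    ReflectsCovers (fun ξ : GeomPt X' => (ξ.map f).point) := by
  intro U R hR
  rw [mem_smallEtale_iff]
  intro p
  obtain ⟨x', hx'⟩ := f.surjective (U.hom p)
  obtain ⟨ξ, hξ⟩ := exists_geomPt X' x'
  have h1 : U.hom p = (ξ.pt ≫ f) default := by
    rw [Scheme.Hom.comp_apply, hξ, hx']
  obtain ⟨l, hl, hl'⟩ := Scheme.exists_fac_of_etale_of_isSepClosed U.hom (ξ.pt ≫ f) p h1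
  obtain ⟨W, g, y, hy, hg⟩ := hR ξ (Over.homMk l hl)
  refine ⟨W, g, (y.left : Spec (CommRingCat.of ξ.Ω) ⟶ W.left)
    (default : Spec (CommRingCat.of ξ.Ω)), hg, ?_⟩
  have e3 : y.left ≫ g.left = l := congrArg (fun m => m.left) hy
  rw [← hl']
  exact congrArg (fun m : Spec (CommRingCat.of ξ.Ω) ⟶ U.left => m default) e3

set_option backward.isDefEq.respectTransparency.types false in
/-- A jointly surjective family of geometric points detects coverings of the small etale site. -/
theorem reflectsCovers_of_jointly_surjective {X : Scheme.{u}} {ι : Type*} (s : ι → GeomPt X)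
    (hs : ∀ x : X, ∃ i, (s i).pt (default : Spec (CommRingCat.of (s i).Ω)) = x) :
    ReflectsCovers (fun i => (s i).point) := by
  intro U R hR
  rw [mem_smallEtale_iff]
  intro p
  obtain ⟨i, hi⟩ := hs (U.hom p)
  obtain ⟨l, hl, hl'⟩ := Scheme.exists_fac_of_etale_of_isSepClosed U.hom (s i).pt p hi.symm
  obtain ⟨W, g, y, hy, hg⟩ := hR i (Over.homMk l hl)
  refine ⟨W, g, (y.left : Spec (CommRingCat.of (s i).Ω) ⟶ W.left)
    (default : Spec (CommRingCat.of (s i).Ω)), hg, ?_⟩
  have e3 : y.left ≫ g.left = l := congrArg (fun m => m.left) hy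
  rw [← hl']
  exact congrArg (fun m : Spec (CommRingCat.of (s i).Ω) ⟶ U.left => m default) e3

section StalkPull

open Groth.Agent.S0100

variable {X' X : Scheme.{u}} (f : X' ⟶ X) {Ω : Type u} [Field Ω] [IsSepClosed Ω]
  (ξ : Spec (CommRingCat.of Ω) ⟶ X')

set_option backward.isDefEq.respectTransparency.types false in
/-- the key isomorphism of right adjoints, for sheaves of sets -/
noncomputable def skySheafIsoT :
    (Scheme.pointSmallEtale ξ).skyscraperSheafFunctor (A := Type (u + 1)) ⋙ EtDesc.pushSh f ≅
      (Scheme.pointSmallEtale (ξ ≫ f)).skyscraperSheafFunctor :=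
  NatIso.ofComponents
    (fun M => (fullyFaithfulSheafToPresheaf _ _).preimageIso ((skyIso (fiberIso f ξ)).app M))
    (by
      intro M N g
      apply Sheaf.hom_ext
      exact (skyIso (A := Type (u + 1)) (fiberIso f ξ)).hom.naturality g)

set_option backward.isDefEq.respectTransparency.types false in
/-- The stalk of an inverse image of a sheaf of sets. -/
noncomputable def stalkPullIsoT :
    (Scheme.pointSmallEtale (ξ ≫ f)).sheafFiber (A := Type (u + 1)) ≅
      EtDesc.pullSh f ⋙ (Scheme.pointSmallEtale ξ).sheafFiber :=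
  (conjugateIsoEquiv ((EtDesc.adjSh f).comp
      ((Scheme.pointSmallEtale ξ).skyscraperSheafAdjunction (A := Type (u + 1))))
    ((Scheme.pointSmallEtale (ξ ≫ f)).skyscraperSheafAdjunction (A := Type (u + 1)))).symm
    (skySheafIsoT f ξ)

end StalkPull

section Main

variable {X' X : Scheme.{u}} (f : X' ⟶ X)

lemma sheafFiber_map_eq_of_pull_eq {F G : EtDesc.Sh X} (a b : F ⟶ G)
    (h : (EtDesc.pullSh f).map a = (EtDesc.pullSh f).map b) (ξ : GeomPt X') :
    (ξ.map f).point.presheafFiber.map a.hom = (ξ.map f).point.presheafFiber.map b.hom := by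
  have ha := (stalkPullIsoT f ξ.pt).hom.naturality a
  have hb := (stalkPullIsoT f ξ.pt).hom.naturality b
  have h' : (EtDesc.pullSh f ⋙ (Scheme.pointSmallEtale ξ.pt).sheafFiber).map a =
      (EtDesc.pullSh f ⋙ (Scheme.pointSmallEtale ξ.pt).sheafFiber).map b := by
    simp only [Functor.comp_map, h]
  rw [h', ← hb] at ha
  exact (cancel_mono ((stalkPullIsoT f ξ.pt).hom.app G)).1 ha

lemma isIso_sheafFiber_map_of_isIso_pull {F G : EtDesc.Sh X} (a : F ⟶ G)
    (h : IsIso ((EtDesc.pullSh f).map a)) (ξ : GeomPt X') :
    IsIso ((ξ.map f).point.presheafFiber.map a.hom) := by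
  have h' : IsIso ((EtDesc.pullSh f ⋙ (Scheme.pointSmallEtale ξ.pt).sheafFiber).map a) := by
    rw [Functor.comp_map]
    infer_instance
  exact (NatIso.isIso_map_iff (stalkPullIsoT f ξ.pt) a).2 h'

variable [Surjective f]

theorem pullSh_faithful : (EtDesc.pullSh f).Faithful where
  map_injective {F G} a b h := by
    apply Sheaf.hom_ext
    refine eq_of_fibers (reflectsCovers_of_surjective f) a.hom b.hom ?_
      (fun ξ => sheafFiber_map_eq_of_pull_eq f a b h ξ)
    exact ((isSheaf_iff_isSheaf_of_type _ G.obj).1 G.property).isSeparated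

theorem pullSh_reflectsIsomorphisms : (EtDesc.pullSh f).ReflectsIsomorphisms where
  reflects {F G} a h := by
    have hb : ∀ ξ : GeomPt X', Function.Bijective ((ξ.map f).point.presheafFiber.map a.hom) :=
      fun ξ => (isIso_iff_bijective _).1 (isIso_sheafFiber_map_of_isIso_pull f a h ξ)
    have h1 : Sheaf.IsLocallyInjective a :=
      isLocallyInjective_of_fibers (reflectsCovers_of_surjective f) a.hom (fun ξ => (hb ξ).1)
    have h2 : Sheaf.IsLocallySurjective a :=
      isLocallySurjective_of_fibers (reflectsCovers_of_surjective f) a.hom (fun ξ => (hb ξ).2)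
    exact (Sheaf.isLocallyBijective_iff_isIso a).1 ⟨h1, h2⟩

end Main

section SepClosed

variable (k : Type u) [Field k] [IsSepClosed k]

/-- The identity geometric point of the spectrum of a separably closed field. -/
noncomputable def idGeomPt : GeomPt (Spec (CommRingCat.of k)) where
  Ω := k
  pt := 𝟙 _

/-- The tautological element of the fibre over the final object. -/
noncomputable def idElt : (idGeomPt k).point.fiber.obj (EtCoh.top (Spec (CommRingCat.of k))) :=
  Over.homMk (𝟙 (Spec (CommRingCat.of k))) (Category.id_comp _)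

set_option backward.isDefEq.respectTransparency.types false in
lemma idElt_lift (U : (Spec (CommRingCat.of k)).Etale) (x : (idGeomPt k).point.fiber.obj U) :
    ∃ g : EtCoh.top (Spec (CommRingCat.of k)) ⟶ U, (idGeomPt k).point.fiber.map g (idElt k) = x := by
  have hx : x.left ≫ U.hom = 𝟙 (Spec (CommRingCat.of k)) := Over.w x
  refine ⟨MorphismProperty.Over.homMk x.left hx trivial, ?_⟩
  apply Over.OverMorphism.ext
  exact Category.id_comp _

set_option backward.isDefEq.respectTransparency.types false in
lemma top_end (h : EtCoh.top (Spec (CommRingCat.of k)) ⟶ EtCoh.top (Spec (CommRingCat.of k))) :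
    h = 𝟙 _ := by
  apply MorphismProperty.Over.Hom.ext
  have h1 : h.left ≫ 𝟙 (Spec (CommRingCat.of k)) = 𝟙 (Spec (CommRingCat.of k)) :=
    MorphismProperty.Over.w h
  exact (Category.comp_id _).symm.trans h1

lemma idGeomPt_reflectsCovers : ReflectsCovers (fun _ : Unit => (idGeomPt k).point) :=
  reflectsCovers_of_jointly_surjective (fun _ : Unit => idGeomPt k)
    (fun _ => ⟨(), Subsingleton.elim _ _⟩)

theorem sections_isEquivalence_of_sepClosed :
    ((sheafSections (Spec (CommRingCat.of k)).smallEtaleTopology (Type (u + 1))).obj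
      (op (EtCoh.top (Spec (CommRingCat.of k))))).IsEquivalence :=
  sheafSections_isEquivalence.{u + 1, u, u, u + 1} (idGeomPt k).point _ (idElt k) (idElt_lift k)
    (top_end k) (idGeomPt_reflectsCovers k)

end SepClosed

end Groth.Agent.R2.H13.EtPoints
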