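import Mathlib

/-!
# helper29: constant sheaves on a site and their restrictions to slice sites

Generic (site-theoretic) toolkit used for locally constant sheaves on the small etale site:
* `constSec`: the canonical map `M ⟶ (const M)(V)`;
* `pushforwardConstantIso`: restriction of a constant sheaf along a continuous and cocontinuous
  functor is constant (compatibly with `constSec`);
* `constDesc`, `constantSheaf_hom_ext`: maps out of a constant sheaf on a site with a terminal object;
* `trivMap`, `IsTriv`: trivializations `τ : M ⟶ F(V)` of a sheaf `F` over an object `V`,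
  i.e. `const_V M ≅ F|_V`, and their restriction along `W ⟶ V`.
-/

set_option autoImplicit false
set_option linter.style.haveILetI false
universe u
open CategoryTheory CategoryTheory.Limits Opposite

namespace Groth.Agent.R2.H29.ConstSheaf

section Generic

variable {C : Type (u+1)} [Category.{u} C] (J : GrothendieckTopology C)
  (A : Type (u+2)) [Category.{u+1} A] [HasWeakSheafify J A]

/-- the canonical map `M ⟶ (const M)(V)` -/
noncomputable def constSec (M : A) (V : C) : M ⟶ ((constantSheaf J A).obj M).obj.obj (op V) :=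
  (toSheafify J ((Functor.const Cᵒᵖ).obj M)).app (op V)

variable {A} in
@[reassoc]
lemma constSec_map (M : A) {V W : C} (g : W ⟶ V) :
    constSec J A M V ≫ ((constantSheaf J A).obj M).obj.map g.op = constSec J A M W := by
  have := (toSheafify J ((Functor.const Cᵒᵖ).obj M)).naturality g.op
  dsimp at this
  rw [Category.id_comp] at this
  exact this.symm

variable {A} in
@[reassoc]
lemma constSec_naturality {M N : A} (h : M ⟶ N) (V : C) :
    constSec J A M V ≫ ((constantSheaf J A).map h).hom.app (op V) = h ≫ constSec J A N V := by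
  have := congr_app (toSheafify_naturality J ((Functor.const Cᵒᵖ).map h)) (op V)
  dsimp at this
  exact this.symm

variable {D : Type (u+1)} [Category.{u} D] (K : GrothendieckTopology D) (G : C ⥤ D)
  [G.IsCocontinuous J K] [G.IsContinuous J K]
  [∀ F : Cᵒᵖ ⥤ A, G.op.HasPointwiseRightKanExtension F] [HasWeakSheafify K A]

/-- precomposing a constant presheaf gives a constant presheaf -/
def constWhisker (M : A) : (Functor.const Cᵒᵖ).obj M ≅ G.op ⋙ (Functor.const Dᵒᵖ).obj M :=
  NatIso.ofComponents (fun _ => Iso.refl _)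

variable {A} in
/-- restriction of a constant sheaf along a continuous and cocontinuous functor is constant -/
noncomputable def pushforwardConstantIso (M : A) :
    (constantSheaf J A).obj M ≅ (G.sheafPushforwardContinuous A J K).obj ((constantSheaf K A).obj M) :=
  (presheafToSheaf J A).mapIso (constWhisker A G M) ≪≫
    (G.pushforwardContinuousSheafificationCompatibility A J K).app ((Functor.const Dᵒᵖ).obj M)

variable {A} in
lemma toSheafify_pushforwardConstantIso_hom (M : A) :
    toSheafify J ((Functor.const Cᵒᵖ).obj M) ≫ (pushforwardConstantIso J K G M).hom.hom =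
      (constWhisker A G M).hom ≫ Functor.whiskerLeft G.op (toSheafify K ((Functor.const Dᵒᵖ).obj M)) := by
  rw [← G.toSheafify_pullbackSheafificationCompatibility A J K]
  show toSheafify J ((Functor.const Cᵒᵖ).obj M) ≫
    ((presheafToSheaf J A).map (constWhisker A G M).hom ≫
      (G.pushforwardContinuousSheafificationCompatibility A J K).hom.app ((Functor.const Dᵒᵖ).obj M)).hom = _
  rw [ObjectProperty.FullSubcategory.comp_hom, ← Category.assoc]
  have h := toSheafify_naturality J (constWhisker A G M).hom
  exact (congrArg (· ≫ ((G.pushforwardContinuousSheafificationCompatibility A J K).hom.app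
    ((Functor.const Dᵒᵖ).obj M)).hom) h.symm).trans (Category.assoc _ _ _)

variable {A} in
@[reassoc]
lemma constSec_pushforwardConstantIso_hom (M : A) (W : C) :
    constSec J A M W ≫ (pushforwardConstantIso J K G M).hom.hom.app (op W) =
      constSec K A M (G.obj W) := by
  have := congr_app (toSheafify_pushforwardConstantIso_hom J K G M) (op W)
  dsimp [constWhisker] at this
  rw [Category.id_comp] at this
  exact this

end Generic

section Adj

variable {C : Type (u+1)} [Category.{u} C] (J : GrothendieckTopology C)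
  {A : Type (u+2)} [Category.{u+1} A] [HasWeakSheafify J A] {T : C} (hT : IsTerminal T)

lemma constantSheafAdj_homEquiv_apply (M : A) (G : Sheaf J A) (φ : (constantSheaf J A).obj M ⟶ G) :
    (constantSheafAdj J A hT).homEquiv M G φ = constSec J A M T ≫ φ.hom.app (op T) := by
  rw [Adjunction.homEquiv_unit]
  simp [constantSheafAdj, constSec, Adjunction.comp_unit_app]

include hT in
/-- morphisms out of a constant sheaf are determined by their effect on constant global sections -/
lemma constantSheaf_hom_ext {M : A} {G : Sheaf J A} {φ ψ : (constantSheaf J A).obj M ⟶ G}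
    (h : constSec J A M T ≫ φ.hom.app (op T) = constSec J A M T ≫ ψ.hom.app (op T)) : φ = ψ := by
  apply ((constantSheafAdj J A hT).homEquiv M G).injective
  rw [constantSheafAdj_homEquiv_apply, constantSheafAdj_homEquiv_apply, h]

/-- the morphism from a constant sheaf attached to a morphism into global sections -/
noncomputable def constDesc {M : A} {G : Sheaf J A} (τ : M ⟶ G.obj.obj (op T)) :
    (constantSheaf J A).obj M ⟶ G :=
  ((constantSheafAdj J A hT).homEquiv M G).symm τ

@[reassoc]
lemma constSec_constDesc {M : A} {G : Sheaf J A} (τ : M ⟶ G.obj.obj (op T)) :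
    constSec J A M T ≫ (constDesc J hT τ).hom.app (op T) = τ := by
  rw [← constantSheafAdj_homEquiv_apply J hT, constDesc, Equiv.apply_symm_apply]

lemma constDesc_eq_iff {M : A} {G : Sheaf J A} (τ : M ⟶ G.obj.obj (op T))
    (φ : (constantSheaf J A).obj M ⟶ G) :
    φ = constDesc J hT τ ↔ constSec J A M T ≫ φ.hom.app (op T) = τ := by
  constructor
  · rintro rfl
    exact constSec_constDesc J hT τ
  · intro h
    apply constantSheaf_hom_ext J hT
    rw [h, constSec_constDesc]

end Adj

section Triv

variable {C : Type (u+1)} [Category.{u} C] (J : GrothendieckTopology C)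
  {A : Type (u+2)} [Category.{u+1} A] [∀ V : C, HasWeakSheafify (J.over V) A]

/-- the morphism `const_V M ⟶ F|_V` attached to `τ : M ⟶ F(V)` -/
noncomputable def trivMap (F : Sheaf J A) (V : C) {M : A} (τ : M ⟶ F.obj.obj (op V)) :
    (constantSheaf (J.over V) A).obj M ⟶ F.over V :=
  constDesc (J.over V) (T := Over.mk (𝟙 V)) Over.mkIdTerminal (G := F.over V) τ

/-- `τ : M ⟶ F(V)` trivializes `F` over `V` -/
def IsTriv (F : Sheaf J A) (V : C) {M : A} (τ : M ⟶ F.obj.obj (op V)) : Prop :=
  IsIso (trivMap J F V τ)

lemma constSec_trivMap (F : Sheaf J A) (V : C) {M : A} (τ : M ⟶ F.obj.obj (op V)) :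
    constSec (J.over V) A M (Over.mk (𝟙 V)) ≫ (trivMap J F V τ).hom.app (op (Over.mk (𝟙 V))) = τ :=
  constSec_constDesc (J.over V) Over.mkIdTerminal (G := F.over V) τ

lemma eq_trivMap_iff (F : Sheaf J A) (V : C) {M : A} (τ : M ⟶ F.obj.obj (op V))
    (φ : (constantSheaf (J.over V) A).obj M ⟶ F.over V) :
    φ = trivMap J F V τ ↔
      constSec (J.over V) A M (Over.mk (𝟙 V)) ≫ φ.hom.app (op (Over.mk (𝟙 V))) = τ :=
  constDesc_eq_iff (J.over V) Over.mkIdTerminal (G := F.over V) τ φ

/-- the value of `trivMap` on constant sections over an arbitrary object of the slice -/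
lemma constSec_trivMap_app (F : Sheaf J A) (V : C) {M : A} (τ : M ⟶ F.obj.obj (op V)) (Y : Over V) :
    constSec (J.over V) A M Y ≫ (trivMap J F V τ).hom.app (op Y) = τ ≫ F.obj.map Y.hom.op := by
  let e : Y ⟶ Over.mk (𝟙 V) := Over.homMk Y.hom
  rw [← constSec_map (J.over V) M e, Category.assoc, (trivMap J F V τ).hom.naturality e.op,
    ← Category.assoc, constSec_trivMap]
  rfl

variable [HasLimitsOfSize.{u, u+1} A]

/-- restriction of a trivialization along `g : W ⟶ V` -/
lemma trivMap_restrict (F : Sheaf J A) {V W : C} (g : W ⟶ V) {M : A} (τ : M ⟶ F.obj.obj (op V)) :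
    trivMap J F W (τ ≫ F.obj.map g.op) =
      (pushforwardConstantIso (J.over W) (J.over V) (Over.map g) M).hom ≫
        (J.overMapPullback A g).map (trivMap J F V τ) ≫ (F.pushforwardOverMapIso g).hom := by
  symm
  rw [eq_trivMap_iff]
  rw [ObjectProperty.FullSubcategory.comp_hom, ObjectProperty.FullSubcategory.comp_hom,
    NatTrans.comp_app, NatTrans.comp_app]
  rw [constSec_pushforwardConstantIso_hom_assoc]
  have h1 : ((J.overMapPullback A g).map (trivMap J F V τ)).hom.app (op (Over.mk (𝟙 W))) =
      (trivMap J F V τ).hom.app (op ((Over.map g).obj (Over.mk (𝟙 W)))) := rfl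
  have h2 : (F.pushforwardOverMapIso g).hom.hom.app (op (Over.mk (𝟙 W))) = 𝟙 _ := rfl
  rw [h1, h2]
  erw [Category.comp_id, constSec_trivMap_app]
  have h3 : ((Over.map g).obj (Over.mk (𝟙 W))).hom = g := by simp
  rw [h3]

lemma IsTriv.restrict {F : Sheaf J A} {V W : C} (g : W ⟶ V) {M : A} {τ : M ⟶ F.obj.obj (op V)}
    (h : IsTriv J F V τ) : IsTriv J F W (τ ≫ F.obj.map g.op) := by
  unfold IsTriv at h ⊢
  rw [trivMap_restrict]
  infer_instance

omit [HasLimitsOfSize.{u, u+1} A] in
/-- an isomorphism of `F|_V` with a constant sheaf gives a trivialization -/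
lemma isTriv_of_iso (F : Sheaf J A) (V : C) {M : A}
    (α : F.over V ≅ (constantSheaf (J.over V) A).obj M) :
    IsTriv J F V (constSec (J.over V) A M (Over.mk (𝟙 V)) ≫ α.inv.hom.app (op (Over.mk (𝟙 V)))) := by
  have e : α.inv = trivMap J F V
      (constSec (J.over V) A M (Over.mk (𝟙 V)) ≫ α.inv.hom.app (op (Over.mk (𝟙 V)))) :=
    (eq_trivMap_iff J F V _ α.inv).2 rfl
  unfold IsTriv
  exact e ▸ (inferInstance : IsIso α.inv)

omit [HasLimitsOfSize.{u, u+1} A] in
/-- the isomorphism attached to a trivialization -/
noncomputable def IsTriv.iso {F : Sheaf J A} {V : C} {M : A} {τ : M ⟶ F.obj.obj (op V)}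
    (h : IsTriv J F V τ) : F.over V ≅ (constantSheaf (J.over V) A).obj M :=
  haveI : IsIso (trivMap J F V τ) := h
  (asIso (trivMap J F V τ)).symm

omit [HasLimitsOfSize.{u, u+1} A] in
/-- criterion for a morphism of trivialized sheaves to be induced by a morphism of values -/
lemma trivMap_comp_eq {F G : Sheaf J A} (φ : F ⟶ G) (V : C) {M N : A}
    (τF : M ⟶ F.obj.obj (op V)) (τG : N ⟶ G.obj.obj (op V)) (h : M ⟶ N)
    (w : τF ≫ φ.hom.app (op V) = h ≫ τG) :
    trivMap J F V τF ≫ (J.overPullback A V).map φ =
      (constantSheaf (J.over V) A).map h ≫ trivMap J G V τG := by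
  apply constantSheaf_hom_ext (J.over V) (T := Over.mk (𝟙 V)) Over.mkIdTerminal
  rw [ObjectProperty.FullSubcategory.comp_hom, ObjectProperty.FullSubcategory.comp_hom,
    NatTrans.comp_app, NatTrans.comp_app, constSec_naturality_assoc]
  erw [constSec_trivMap J G V τG, ← Category.assoc, constSec_trivMap J F V τF]
  exact w

omit [HasLimitsOfSize.{u, u+1} A] in
lemma IsTriv.iso_comp_eq {F G : Sheaf J A} (φ : F ⟶ G) (V : C) {M N : A}
    {τF : M ⟶ F.obj.obj (op V)} {τG : N ⟶ G.obj.obj (op V)} (hF : IsTriv J F V τF)
    (hG : IsTriv J G V τG) (h : M ⟶ N) (w : τF ≫ φ.hom.app (op V) = h ≫ τG) :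
    (J.overPullback A V).map φ ≫ hG.iso.hom = hF.iso.hom ≫ (constantSheaf (J.over V) A).map h := by
  have := trivMap_comp_eq J φ V τF τG h w
  dsimp only [IsTriv.iso, Iso.symm_hom]
  rw [Iso.comp_inv_eq, Category.assoc, Iso.eq_inv_comp]
  exact this

end Triv

section Concrete

variable {C : Type (u+1)} [Category.{u} C] (J : GrothendieckTopology C)
  {A : Type (u+2)} [Category.{u+1} A] [∀ V : C, HasWeakSheafify (J.over V) A]
  {FA : A → A → Type*} {CA : A → Type (u+1)} [∀ X Y, FunLike (FA X Y) (CA X) (CA Y)]
  [ConcreteCategory.{u+1} A FA] [∀ V : C, (J.over V).WEqualsLocallyBijective A]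

/-- the sieve of those `g : W ⟶ V` over which the section `x` becomes a "constant section" -/
def constSieve (G : Sheaf J A) (V : C) {N : A} (τ : N ⟶ G.obj.obj (op V))
    (x : ToType (G.obj.obj (op V))) : Sieve V where
  arrows W g := ∃ n : ToType N, G.obj.map g.op x = G.obj.map g.op (τ n)
  downward_closed := by
    rintro W W' g ⟨n, hn⟩ k
    refine ⟨n, ?_⟩
    rw [op_comp, G.obj.map_comp, ConcreteCategory.comp_apply, hn, ConcreteCategory.comp_apply]

lemma IsTriv.constSieve_mem {G : Sheaf J A} {V : C} {N : A} {τ : N ⟶ G.obj.obj (op V)}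
    (h : IsTriv J G V τ) (x : ToType (G.obj.obj (op V))) : constSieve J G V τ x ∈ J V := by
  haveI : IsIso (trivMap J G V τ) := h
  let T : Over V := Over.mk (𝟙 V)
  haveI : IsIso (trivMap J G V τ).hom :=
    (inferInstance : IsIso ((sheafToPresheaf _ _).map (trivMap J G V τ)))
  haveI : IsIso ((trivMap J G V τ).hom.app (op T)) := inferInstance
  obtain ⟨y, hy⟩ := (ConcreteCategory.bijective_of_isIso ((trivMap J G V τ).hom.app (op T))).2 x
  have hS := Presheaf.imageSieve_mem (J.over V) (toSheafify (J.over V) ((Functor.const _).obj N)) (U := op T) y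
  rw [GrothendieckTopology.mem_over_iff] at hS
  refine J.superset_covering ?_ hS
  intro W g hg
  rw [Sieve.overEquiv_iff] at hg
  obtain ⟨n, hn⟩ := hg
  refine ⟨n, ?_⟩
  let Y : Over V := Over.mk (g ≫ T.hom)
  let e : Y ⟶ T := Over.homMk g
  have h1 := congrArg (fun f => (ConcreteCategory.hom f) y) ((trivMap J G V τ).hom.naturality e.op)
  have h2 := congrArg (fun f => (ConcreteCategory.hom f) n) (constSec_trivMap_app J G V τ Y)
  simp only [ConcreteCategory.comp_apply] at h1 h2
  rw [hy] at h1
  have hn' : (constSec (J.over V) A N Y) n =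
      ((constantSheaf (J.over V) A).obj N).obj.map e.op y := hn
  have hY : Y.hom = g := Category.comp_id g
  have h3 : (ConcreteCategory.hom (τ ≫ G.obj.map Y.hom.op)) n = G.obj.map g.op (τ n) := by
    rw [hY, ConcreteCategory.comp_apply]
  exact h1.symm.trans ((congrArg _ hn'.symm).trans (h2.trans h3))

lemma IsTriv.injective {G : Sheaf J A} {V : C} {N : A} {τ : N ⟶ G.obj.obj (op V)}
    (h : IsTriv J G V τ) (hV : ⊥ ∉ J V) : Function.Injective τ := by
  haveI : IsIso (trivMap J G V τ) := h
  let T : Over V := Over.mk (𝟙 V)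
  haveI : IsIso (trivMap J G V τ).hom :=
    (inferInstance : IsIso ((sheafToPresheaf _ _).map (trivMap J G V τ)))
  haveI : IsIso ((trivMap J G V τ).hom.app (op T)) := inferInstance
  have hinj := (ConcreteCategory.bijective_of_isIso ((trivMap J G V τ).hom.app (op T))).1
  intro n n' hnn
  have h2 := fun m => congrArg (fun f => (ConcreteCategory.hom f) m) (constSec_trivMap J G V τ)
  simp only [ConcreteCategory.comp_apply] at h2
  have h3 : constSec (J.over V) A N T n = constSec (J.over V) A N T n' := by
    apply hinj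
    exact (h2 n).trans (hnn.trans (h2 n').symm)
  have hS := Presheaf.equalizerSieve_mem (J.over V)
    (toSheafify (J.over V) ((Functor.const _).obj N)) (X := op T) n n' h3
  rw [GrothendieckTopology.mem_over_iff] at hS
  by_contra hne
  apply hV
  refine J.superset_covering ?_ hS
  intro W g hg
  rw [Sieve.overEquiv_iff] at hg
  have hg' : (𝟙 N : N ⟶ N) n = (𝟙 N : N ⟶ N) n' := hg
  rw [ConcreteCategory.id_apply, ConcreteCategory.id_apply] at hg'
  exact (hne hg').elim

/-- finite intersections of sieves -/
def finSieve {V : C} {ι : Type*} (S : ι → Sieve V) (s : Finset ι) : Sieve V where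
  arrows _ g := ∀ i ∈ s, S i g
  downward_closed := fun h k i hi => (S i).downward_closed (h i hi) k

omit [∀ V : C, HasWeakSheafify (J.over V) A] [ConcreteCategory.{u+1} A FA]
  [∀ V : C, (J.over V).WEqualsLocallyBijective A] in
lemma finSieve_mem {V : C} {ι : Type*} [DecidableEq ι] (S : ι → Sieve V) (h : ∀ i, S i ∈ J V)
    (s : Finset ι) : finSieve S s ∈ J V := by
  induction s using Finset.induction_on with
  | empty => exact J.superset_covering (fun _ _ _ i hi => by simp at hi) (J.top_mem V)
  | insert a s _ ih =>
    refine J.superset_covering ?_ (J.intersection_covering (h a) ih)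
    intro W g hg i hi
    rcases Finset.mem_insert.1 hi with rfl | hi
    · exact hg.1
    · exact hg.2 i hi

/-- finitely many sections of a trivialized sheaf become constant on a covering -/
lemma IsTriv.finSieve_constSieve_mem {G : Sheaf J A} {V : C} {N : A} {τ : N ⟶ G.obj.obj (op V)}
    (h : IsTriv J G V τ) {ι : Type*} [DecidableEq ι] (x : ι → ToType (G.obj.obj (op V)))
    (s : Finset ι) : finSieve (fun i => constSieve J G V τ (x i)) s ∈ J V :=
  finSieve_mem J _ (fun i => h.constSieve_mem J (x i)) s

end Concrete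

end Groth.Agent.R2.H29.ConstSheaf
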