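import Groth.Prelude.Def_EtBase
import Groth.Agent.R2.H29ConstSheaf

set_option autoImplicit false
set_option linter.style.haveILetI false
universe u
open CategoryTheory CategoryTheory.Limits AlgebraicGeometry Opposite
open Groth.Agent.R2.H29.ConstSheaf

namespace Groth.Agent.R2.H29.EtLocConst

theorem mem_smallEtale_iff {X : Scheme.{u}} (U : X.Etale) (R : Sieve U) :
    R ∈ X.smallEtaleTopology U ↔
      ∀ x : U.left, ∃ (V : X.Etale) (f : V ⟶ U) (y : V.left), R f ∧ f.left y = x := by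
  have eX : X.smallEtaleTopology =
      (X.smallPretopology (P := EtCoh.etaleMP) (Q := EtCoh.etaleMP)).toGrothendieck :=
    Scheme.smallGrothendieckTopology_eq_toGrothendieck_smallPretopology X le_rfl
  constructor
  · intro h x
    rw [eX] at h
    replace h := (Scheme.mem_toGrothendieck_smallPretopology U R).1 h
    obtain ⟨V, f, y, hf, -, hy⟩ := h x
    exact ⟨V, f, y, hf, hy⟩
  · intro h
    rw [eX]
    refine (Scheme.mem_toGrothendieck_smallPretopology U R).2 ?_
    intro x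
    obtain ⟨V, f, y, hf, hy⟩ := h x
    exact ⟨V, f, y, hf, inferInstance, hy⟩

/-- the empty sieve does not cover an etale scheme having a point -/
lemma bot_not_mem {X : Scheme.{u}} (U : X.Etale) (x : U.left) :
    (⊥ : Sieve U) ∉ X.smallEtaleTopology U := by
  intro h
  obtain ⟨V, f, y, hf, -⟩ := (mem_smallEtale_iff U ⊥).1 h x
  exact hf

/-- two etale neighbourhoods of a point have a common refinement -/
lemma exists_common {X : Scheme.{u}} (U₁ U₂ : X.Etale) (y₁ : U₁.left) (y₂ : U₂.left)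
    (h : U₁.hom.base y₁ = U₂.hom.base y₂) :
    ∃ (V : X.Etale) (p₁ : V ⟶ U₁) (p₂ : V ⟶ U₂) (z : V.left), p₁.left z = y₁ ∧ p₂.left z = y₂ := by
  obtain ⟨z, hz1, hz2⟩ := Scheme.Pullback.exists_preimage_pullback (f := U₁.hom) (g := U₂.hom) y₁ y₂ h
  let V : X.Etale := Scheme.Etale.mk (pullback.fst U₁.hom U₂.hom ≫ U₁.hom)
  refine ⟨V, MorphismProperty.Over.homMk (pullback.fst U₁.hom U₂.hom) rfl trivial,
    MorphismProperty.Over.homMk (pullback.snd U₁.hom U₂.hom) pullback.condition.symm trivial, z, hz1, hz2⟩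

section

variable {X : Scheme.{u}} {A : Type (u+2)} [Category.{u+1} A]
  [∀ V : X.Etale, HasWeakSheafify (X.smallEtaleTopology.over V) A]
  {FA : A → A → Type*} {CA : A → Type (u+1)} [∀ X Y, FunLike (FA X Y) (CA X) (CA Y)]
  [ConcreteCategory.{u+1} A FA] [∀ V : X.Etale, (X.smallEtaleTopology.over V).WEqualsLocallyBijective A]

/-- finitely many sections of a trivialized sheaf become constant on an etale neighbourhood of a
given point -/
lemma exists_refine_const {G : Sheaf X.smallEtaleTopology A} {V : X.Etale} {N : A}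
    {τ : N ⟶ G.obj.obj (op V)} (h : IsTriv X.smallEtaleTopology G V τ) {ι : Type*} [DecidableEq ι]
    (x : ι → ToType (G.obj.obj (op V))) (s : Finset ι) (z : V.left) :
    ∃ (W : X.Etale) (g : W ⟶ V) (w : W.left), g.left w = z ∧
      ∀ i ∈ s, ∃ n : ToType N, G.obj.map g.op (x i) = G.obj.map g.op (τ n) := by
  obtain ⟨W, g, w, hg, hw⟩ := (mem_smallEtale_iff V _).1
    (h.finSieve_constSieve_mem X.smallEtaleTopology x s) z
  exact ⟨W, g, w, hw, hg⟩

variable [HasLimitsOfSize.{u, u+1} A]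

lemma exists_local {F G : Sheaf X.smallEtaleTopology A} (φ : F ⟶ G) {U₁ U₂ : X.Etale} {M N : A}
    {τF : M ⟶ F.obj.obj (op U₁)} {τG : N ⟶ G.obj.obj (op U₂)}
    (hG : IsTriv X.smallEtaleTopology G U₂ τG)
    (y₁ : U₁.left) (y₂ : U₂.left) (hy : U₁.hom.base y₁ = U₂.hom.base y₂)
    {ι : Type*} [DecidableEq ι] (m : ι → ToType M) (s : Finset ι) :
    ∃ (W : X.Etale) (g₁ : W ⟶ U₁) (g₂ : W ⟶ U₂) (w : W.left), g₁.left w = y₁ ∧ g₂.left w = y₂ ∧
      ∀ i ∈ s, ∃ n : ToType N,
        (φ.hom.app (op W)) (F.obj.map g₁.op (τF (m i))) = G.obj.map g₂.op (τG n) := by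
  obtain ⟨V, p₁, p₂, z, hz₁, hz₂⟩ := exists_common U₁ U₂ y₁ y₂ hy
  have hGV := hG.restrict X.smallEtaleTopology p₂
  obtain ⟨W, g, w, hw, hs⟩ := exists_refine_const hGV
    (fun i => (φ.hom.app (op V)) (F.obj.map p₁.op (τF (m i)))) s z
  refine ⟨W, g ≫ p₁, g ≫ p₂, w, ?_, ?_, ?_⟩
  · rw [← hz₁, ← hw]
    rfl
  · rw [← hz₂, ← hw]
    rfl
  · intro i hi
    obtain ⟨n, hn⟩ := hs i hi
    refine ⟨n, ?_⟩
    have h1 := congrArg (fun f => (ConcreteCategory.hom f) (F.obj.map p₁.op (τF (m i))))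
      (φ.hom.naturality g.op)
    simp only [ConcreteCategory.comp_apply] at h1
    rw [op_comp, op_comp, F.obj.map_comp, G.obj.map_comp, ConcreteCategory.comp_apply,
      ConcreteCategory.comp_apply, h1, hn, ConcreteCategory.comp_apply]

end

/-- factoring a linear map through an injective one, given the generators land in its range -/
lemma exists_linearMap_factor {Λ : Type*} [Ring Λ] {M N P : Type*} [AddCommGroup M]
    [AddCommGroup N] [AddCommGroup P] [Module Λ M] [Module Λ N] [Module Λ P]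
    (ψ : M →ₗ[Λ] P) (t : N →ₗ[Λ] P) (ht : Function.Injective t) (s : Set M)
    (hs : Submodule.span Λ s = ⊤) (h : ∀ m ∈ s, ∃ n, ψ m = t n) :
    ∃ f : M →ₗ[Λ] N, ∀ m, ψ m = t (f m) := by
  have hle : LinearMap.range ψ ≤ LinearMap.range t := by
    rw [LinearMap.range_eq_map, ← hs, Submodule.map_span, Submodule.span_le]
    rintro _ ⟨m, hm, rfl⟩
    obtain ⟨n, hn⟩ := h m hm
    exact ⟨n, hn.symm⟩
  refine ⟨(LinearEquiv.ofInjective t ht).symm.toLinearMap ∘ₗ
    (ψ.codRestrict (LinearMap.range t) (fun m => hle ⟨m, rfl⟩)), fun m => ?_⟩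
  have := (LinearEquiv.ofInjective t ht).apply_symm_apply
    (ψ.codRestrict (LinearMap.range t) (fun m => hle ⟨m, rfl⟩) m)
  exact (congrArg Subtype.val this).symm

section Mod

variable {Λ : Type (u+1)} [CommRing Λ] {X : Scheme.{u}}

/-- a map of sheaves of modules, trivialized near a point with finitely generated source value,
is near that point induced by a linear map -/
lemma exists_local_mod {F G : Sheaf X.smallEtaleTopology (ModuleCat.{u+1} Λ)} (φ : F ⟶ G)
    {U₁ U₂ : X.Etale} {M N : Type (u+1)} [AddCommGroup M] [AddCommGroup N] [Module Λ M]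
    [Module Λ N] [Module.Finite Λ M]
    (α₁ : F.over U₁ ≅ (constantSheaf (X.smallEtaleTopology.over U₁) (ModuleCat.{u+1} Λ)).obj
      (ModuleCat.of Λ M))
    (β₁ : G.over U₂ ≅ (constantSheaf (X.smallEtaleTopology.over U₂) (ModuleCat.{u+1} Λ)).obj
      (ModuleCat.of Λ N))
    (y₁ : U₁.left) (y₂ : U₂.left) (hy : U₁.hom.base y₁ = U₂.hom.base y₂) :
    ∃ (W : X.Etale) (w : W.left), W.hom.base w = U₁.hom.base y₁ ∧ ∃ (h : M →ₗ[Λ] N)
      (α : F.over W ≅ (constantSheaf (X.smallEtaleTopology.over W) (ModuleCat.{u+1} Λ)).obj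
        (ModuleCat.of Λ M))
      (β : G.over W ≅ (constantSheaf (X.smallEtaleTopology.over W) (ModuleCat.{u+1} Λ)).obj
        (ModuleCat.of Λ N)),
      (X.smallEtaleTopology.overPullback (ModuleCat.{u+1} Λ) W).map φ ≫ β.hom =
        α.hom ≫ (constantSheaf (X.smallEtaleTopology.over W) (ModuleCat.{u+1} Λ)).map
          (ModuleCat.ofHom h) := by
  classical
  have hF := isTriv_of_iso X.smallEtaleTopology F U₁ α₁
  have hG := isTriv_of_iso X.smallEtaleTopology G U₂ β₁
  set τF := constSec (X.smallEtaleTopology.over U₁) _ (ModuleCat.of Λ M) (Over.mk (𝟙 U₁)) ≫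
    α₁.inv.hom.app (op (Over.mk (𝟙 U₁))) with hτF
  set τG := constSec (X.smallEtaleTopology.over U₂) _ (ModuleCat.of Λ N) (Over.mk (𝟙 U₂)) ≫
    β₁.inv.hom.app (op (Over.mk (𝟙 U₂))) with hτG
  obtain ⟨s, hs⟩ := (Module.Finite.fg_top : (⊤ : Submodule Λ M).FG)
  obtain ⟨W, g₁, g₂, w, hw₁, hw₂, hloc⟩ := exists_local φ (τF := τF) hG y₁ y₂ hy
    (fun m : M => (m : ToType (ModuleCat.of Λ M))) s
  have hFW := hF.restrict X.smallEtaleTopology g₁
  have hGW := hG.restrict X.smallEtaleTopology g₂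
  have hinj := hGW.injective X.smallEtaleTopology (bot_not_mem W w)
  obtain ⟨h, hh⟩ := exists_linearMap_factor ((τF ≫ F.obj.map g₁.op) ≫ φ.hom.app (op W)).hom
    (τG ≫ G.obj.map g₂.op).hom hinj (s : Set M) hs (by
      intro m hm
      obtain ⟨n, hn⟩ := hloc m hm
      exact ⟨n, hn⟩)
  refine ⟨W, w, ?_, h, hFW.iso, hGW.iso, ?_⟩
  · rw [← hw₁]
    have e : g₁.left ≫ U₁.hom = W.hom := Over.w g₁.hom
    rw [← e]
    rfl
  · refine IsTriv.iso_comp_eq X.smallEtaleTopology φ W hFW hGW (ModuleCat.ofHom h) ?_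
    ext m
    exact hh m

end Mod

section Ab

variable {X : Scheme.{u}}

/-- factoring a group homomorphism through an injective one -/
lemma exists_addMonoidHom_factor {M N P : Type*} [AddCommGroup M] [AddCommGroup N]
    [AddCommGroup P] (ψ : M →+ P) (t : N →+ P) (ht : Function.Injective t)
    (h : ∀ m, ∃ n, ψ m = t n) : ∃ f : M →+ N, ∀ m, ψ m = t (f m) := by
  obtain ⟨f, hf⟩ := exists_linearMap_factor ψ.toIntLinearMap t.toIntLinearMap ht Set.univ
    (by simp) (fun m _ => h m)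
  exact ⟨f.toAddMonoidHom, hf⟩

/-- a map of abelian sheaves, trivialized near a point with finite source value,
is near that point induced by a group homomorphism -/
lemma exists_local_ab {F G : Sheaf X.smallEtaleTopology AddCommGrpCat.{u+1}} (φ : F ⟶ G)
    {U₁ U₂ : X.Etale} {M N : Type (u+1)} [AddCommGroup M] [AddCommGroup N] [Finite M]
    (α₁ : F.over U₁ ≅ (constantSheaf (X.smallEtaleTopology.over U₁) AddCommGrpCat.{u+1}).obj
      (AddCommGrpCat.of M))
    (β₁ : G.over U₂ ≅ (constantSheaf (X.smallEtaleTopology.over U₂) AddCommGrpCat.{u+1}).obj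
      (AddCommGrpCat.of N))
    (y₁ : U₁.left) (y₂ : U₂.left) (hy : U₁.hom.base y₁ = U₂.hom.base y₂) :
    ∃ (W : X.Etale) (w : W.left), W.hom.base w = U₁.hom.base y₁ ∧ ∃ (h : M →+ N)
      (α : F.over W ≅ (constantSheaf (X.smallEtaleTopology.over W) AddCommGrpCat.{u+1}).obj
        (AddCommGrpCat.of M))
      (β : G.over W ≅ (constantSheaf (X.smallEtaleTopology.over W) AddCommGrpCat.{u+1}).obj
        (AddCommGrpCat.of N)),
      (X.smallEtaleTopology.overPullback AddCommGrpCat.{u+1} W).map φ ≫ β.hom =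
        α.hom ≫ (constantSheaf (X.smallEtaleTopology.over W) AddCommGrpCat.{u+1}).map
          (AddCommGrpCat.ofHom h) := by
  classical
  have hF := isTriv_of_iso X.smallEtaleTopology F U₁ α₁
  have hG := isTriv_of_iso X.smallEtaleTopology G U₂ β₁
  set τF := constSec (X.smallEtaleTopology.over U₁) _ (AddCommGrpCat.of M) (Over.mk (𝟙 U₁)) ≫
    α₁.inv.hom.app (op (Over.mk (𝟙 U₁))) with hτF
  set τG := constSec (X.smallEtaleTopology.over U₂) _ (AddCommGrpCat.of N) (Over.mk (𝟙 U₂)) ≫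
    β₁.inv.hom.app (op (Over.mk (𝟙 U₂))) with hτG
  letI : Fintype M := Fintype.ofFinite M
  obtain ⟨W, g₁, g₂, w, hw₁, hw₂, hloc⟩ := exists_local φ (τF := τF) hG y₁ y₂ hy
    (fun m : M => (m : ToType (AddCommGrpCat.of M))) Finset.univ
  have hFW := hF.restrict X.smallEtaleTopology g₁
  have hGW := hG.restrict X.smallEtaleTopology g₂
  have hinj := hGW.injective X.smallEtaleTopology (bot_not_mem W w)
  obtain ⟨h, hh⟩ := exists_addMonoidHom_factor ((τF ≫ F.obj.map g₁.op) ≫ φ.hom.app (op W)).hom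
    (τG ≫ G.obj.map g₂.op).hom hinj (by
      intro m
      obtain ⟨n, hn⟩ := hloc m (Finset.mem_univ m)
      exact ⟨n, hn⟩)
  refine ⟨W, w, ?_, h, hFW.iso, hGW.iso, ?_⟩
  · rw [← hw₁]
    have e : g₁.left ≫ U₁.hom = W.hom := Over.w g₁.hom
    rw [← e]
    rfl
  · refine IsTriv.iso_comp_eq X.smallEtaleTopology φ W hFW hGW (AddCommGrpCat.ofHom h) ?_
    ext m
    exact hh m

end Ab

end Groth.Agent.R2.H29.EtLocConst
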