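import Mathlib
import Groth.Agent.Lib.Helper3HenselN

/-!
# Lifting maps out of étale algebras into finite algebras over henselian local rings (helper13)

Namespace `Groth.Agent.R2.H13.FinHens`.

* `exists_eq_comap_eval` : maximal ideals of a ring isomorphic to a finite product of local rings.
* `exists_algHom_lift` : `A` henselian local, `C` a finite `A`-algebra which is also an `S`-algebra,
  `T` an étale `S`-algebra.  Every family of `S`-algebra maps `T → C/m` (`m` running through the maximal
  ideals of `C`) lifts to an `S`-algebra map `T → C`.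
* `nontrivial_tensor_of_comap_eq` : `K ⊗[S] T` is nontrivial when some prime of `T` lies over the kernel
  of `S → K` (`K` a field).
* `exists_algHom_of_isSepClosed` : for `K` separably closed and `T` étale over `S` having a prime over
  `ker (S → K)` there is an `S`-algebra map `T → K`.
* `exists_algHom_factor_of_isSepClosed` : every `S`-algebra map from an étale `S`-algebra `T` to a field
  extension `Ω` of a separably closed field `K` (an `S`-algebra) factors through `K`.
-/

set_option autoImplicit false
set_option linter.style.haveILetI false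
universe u

namespace Groth.Agent.R2.H13.FinHens

open IsLocalRing TensorProduct CategoryTheory CategoryTheory.Limits AlgebraicGeometry
open Groth.Agent.Lib.Helper3.Hensel

/-- every maximal ideal of (a ring isomorphic to) a finite product of local rings is the preimage of
the maximal ideal of one of the factors -/
lemma exists_eq_comap_eval {C : Type*} [CommRing C] {ι : Type*} [Fintype ι] [DecidableEq ι]
    {B : ι → Type*} [∀ i, CommRing (B i)] [∀ i, IsLocalRing (B i)] (Φ : C ≃+* (∀ i, B i))
    (m : Ideal C) [hm : m.IsMaximal] :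
    ∃ i, m = (maximalIdeal (B i)).comap ((Pi.evalRingHom B i).comp Φ.toRingHom) := by
  let e : ι → C := fun i => Φ.symm (Pi.single i 1)
  have hsum : ∑ i, e i = 1 := by
    apply Φ.injective
    rw [map_sum, map_one]
    simp only [e, RingEquiv.apply_symm_apply]
    exact Finset.univ_sum_single (1 : ∀ i, B i)
  obtain ⟨i, hi⟩ : ∃ i, e i ∉ m := by
    by_contra hcon
    push Not at hcon
    have : (1 : C) ∈ m := hsum ▸ Ideal.sum_mem _ (fun i _ => hcon i)
    exact hm.ne_top ((Ideal.eq_top_iff_one _).mpr this)
  refine ⟨i, ?_⟩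
  have hmax : ((maximalIdeal (B i)).comap ((Pi.evalRingHom B i).comp Φ.toRingHom)).IsMaximal := by
    apply Ideal.comap_isMaximal_of_surjective
    intro y
    exact ⟨Φ.symm (Pi.single i y), by simp⟩
  refine hm.eq_of_le hmax.ne_top ?_
  intro z hz
  rw [Ideal.mem_comap]
  by_contra hnu
  have hu : IsUnit (Φ z i) := by
    by_contra h
    exact hnu h
  obtain ⟨w, hw⟩ := hu.exists_right_inv
  have : e i = z * Φ.symm (Pi.single i w) := by
    apply Φ.injective
    rw [map_mul]
    simp only [e, RingEquiv.apply_symm_apply]
    funext j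
    by_cases hj : j = i
    · subst hj
      simp [hw]
    · simp [Pi.single_eq_of_ne hj]
  exact hi (this ▸ Ideal.mul_mem_right _ _ hz)

set_option maxHeartbeats 1000000 in
/-- **Henselian lifting for finite algebras**: `A` henselian local, `C` a finite `A`-algebra and an
`S`-algebra, `T` étale over `S`.  Any family of `S`-algebra maps `T → C/m`, one for each maximal ideal
`m` of `C`, lifts to an `S`-algebra map `T → C`. -/
theorem exists_algHom_lift (A : Type u) [CommRing A] [HenselianLocalRing A]
    (C : Type u) [CommRing C] [Algebra A C] [Module.Finite A C]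
    {S : Type*} [CommRing S] [Algebra S C]
    {T : Type*} [CommRing T] [Algebra S T] [Algebra.Etale S T]
    (v : ∀ m : MaximalSpectrum C, T →ₐ[S] (C ⧸ m.asIdeal)) :
    ∃ τ : T →ₐ[S] C, ∀ (m : MaximalSpectrum C) (t : T),
      Ideal.Quotient.mk m.asIdeal (τ t) = v m t := by
  classical
  obtain ⟨ι, _, B, _, hloc, ⟨Φ⟩⟩ := exists_pi_isLocalRing_of_finite A C
  letI : ∀ i, Algebra A (B i) := fun i =>
    ((Pi.evalRingHom B i).comp (Φ.toRingHom.comp (algebraMap A C))).toAlgebra
  let ρ : ∀ i, C →ₐ[A] B i := fun i =>
    { (Pi.evalRingHom B i).comp Φ.toRingHom with commutes' := fun a => rfl }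
  have hρ : ∀ i z, ρ i z = Φ z i := fun i z => rfl
  have hρsurj : ∀ i, Function.Surjective (ρ i) := by
    intro i y
    refine ⟨Φ.symm (Pi.single i y), ?_⟩
    rw [hρ, RingEquiv.apply_symm_apply, Pi.single_eq_same]
  haveI : ∀ i, Module.Finite A (B i) := fun i =>
    Module.Finite.of_surjective (ρ i).toLinearMap (hρsurj i)
  haveI : ∀ i, HenselianLocalRing (B i) := fun i => Groth.Agent.S0505.result A (B i)
  letI : ∀ i, Algebra S (B i) := fun i =>
    ((ρ i).toRingHom.comp (algebraMap S C)).toAlgebra
  have halg : ∀ i s, algebraMap S (B i) s = ρ i (algebraMap S C s) := fun i s => rfl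
  -- the maximal ideals of `C`
  let mi : ι → MaximalSpectrum C := fun i =>
    ⟨(maximalIdeal (B i)).comap (ρ i).toRingHom,
      Ideal.comap_isMaximal_of_surjective _ (hρsurj i)⟩
  let π : ∀ i, C ⧸ (mi i).asIdeal →+* ResidueField (B i) := fun i =>
    Ideal.Quotient.lift _ ((residue (B i)).comp (ρ i).toRingHom)
      (fun z hz => (residue_eq_zero_iff _).mpr hz)
  have hπ : ∀ i z, π i (Ideal.Quotient.mk _ z) = residue (B i) (ρ i z) := fun i z => rfl
  let χ : ∀ i, T →ₐ[S] ResidueField (B i) := fun i =>
    { (π i).comp (v (mi i)).toRingHom with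
      commutes' := fun s => by
        change π i (v (mi i) (algebraMap S T s)) = _
        rw [(v (mi i)).commutes]
        rfl }
  have hχ : ∀ i t, χ i t = π i (v (mi i) t) := fun i t => rfl
  have hex : ∀ i, ∃ f : T →ₐ[S] B i, ∀ t, residue (B i) (f t) = χ i t := fun i =>
    (existsUnique_algHom_residue (R := S) (S := B i) (χ i)).exists
  choose fi hfi using hex
  let τ : T →ₐ[S] C :=
    { toRingHom := Φ.symm.toRingHom.comp (RingHom.pi fun i => (fi i).toRingHom)
      commutes' := fun s => by
        change Φ.symm (fun i => fi i (algebraMap S T s)) = _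
        apply Φ.injective
        rw [RingEquiv.apply_symm_apply]
        funext i
        rw [(fi i).commutes, halg, hρ] }
  have hτ : ∀ t i, Φ (τ t) i = fi i t := by
    intro t i
    change Φ (Φ.symm (fun i => fi i t)) i = _
    rw [RingEquiv.apply_symm_apply]
  refine ⟨τ, ?_⟩
  intro m t
  haveI := m.isMaximal
  obtain ⟨i, hi⟩ := exists_eq_comap_eval Φ m.asIdeal
  have hmi : m = mi i := MaximalSpectrum.ext hi
  subst hmi
  have hinj : Function.Injective (π i) := by
    letI : Field (C ⧸ (mi i).asIdeal) := Ideal.Quotient.field _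
    exact (π i).injective
  apply hinj
  rw [hπ, hρ, hτ, hfi, hχ]

/-- `K ⊗[S] T` is nontrivial if some prime of `T` lies over the kernel of `S → K`, `K` a field. -/
theorem nontrivial_tensor_of_comap_eq {S T K : Type u} [CommRing S] [CommRing T] [Field K]
    [Algebra S K] [Algebra S T] (q : Ideal T) [hq : q.IsPrime]
    (h : q.comap (algebraMap S T) = RingHom.ker (algebraMap S K)) :
    Nontrivial (K ⊗[S] T) := by
  let x : Spec (CommRingCat.of K) := ⟨⊥, Ideal.isPrime_bot⟩
  let y : Spec (CommRingCat.of T) := ⟨q, hq⟩
  have hxy : Spec.map (CommRingCat.ofHom (algebraMap S K)) x =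
      Spec.map (CommRingCat.ofHom (algebraMap S T)) y := by
    apply PrimeSpectrum.ext
    change Ideal.comap (algebraMap S K) ⊥ = Ideal.comap (algebraMap S T) q
    rw [h]
    rfl
  obtain ⟨z, -, -⟩ := Scheme.Pullback.exists_preimage_pullback
    (f := Spec.map (CommRingCat.ofHom (algebraMap S K)))
    (g := Spec.map (CommRingCat.ofHom (algebraMap S T))) x y hxy
  have z' : Spec (CommRingCat.of (K ⊗[S] T)) := (pullbackSpecIso S K T).hom z
  exact (PrimeSpectrum.nonempty_iff_nontrivial).mp ⟨z'⟩

/-- For `K` separably closed (an `S`-algebra) and `T` étale over `S` with a prime lying over the kernel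
of `S → K`, there is an `S`-algebra map `T → K`. -/
theorem exists_algHom_of_isSepClosed {S T K : Type u} [CommRing S] [CommRing T] [Field K]
    [IsSepClosed K] [Algebra S K] [Algebra S T] [Algebra.Etale S T] (q : Ideal T) [q.IsPrime]
    (h : q.comap (algebraMap S T) = RingHom.ker (algebraMap S K)) :
    Nonempty (T →ₐ[S] K) := by
  haveI := nontrivial_tensor_of_comap_eq q h
  obtain ⟨P⟩ := (PrimeSpectrum.nonempty_iff_nontrivial (R := K ⊗[S] T)).mpr inferInstance
  let ev : K ⊗[S] T →ₐ[K] K :=
    (Pi.evalAlgHom K (fun _ : PrimeSpectrum (K ⊗[S] T) => K) P).comp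
      (Algebra.FormallyEtale.equivPiOfIsSepClosed K (K ⊗[S] T)).toAlgHom
  exact ⟨(ev.restrictScalars S).comp Algebra.TensorProduct.includeRight⟩

/-- Every `S`-algebra map from an étale `S`-algebra to a field extension `Ω` of a separably closed
field `K` (itself an `S`-algebra) factors through `K`. -/
theorem exists_algHom_factor_of_isSepClosed {S T K Ω : Type*} [CommRing S] [CommRing T] [Field K]
    [IsSepClosed K] [Field Ω] [Algebra S K] [Algebra S T] [Algebra.Etale S T] [Algebra K Ω]
    [Algebra S Ω] [IsScalarTower S K Ω] (w : T →ₐ[S] Ω) :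
    ∃ v : T →ₐ[S] K, ∀ t, algebraMap K Ω (v t) = w t := by
  let χ : K ⊗[S] T →ₐ[K] Ω :=
    Algebra.TensorProduct.lift (Algebra.ofId K Ω) w (fun _ _ => Commute.all _ _)
  have hχ : ∀ t, χ (1 ⊗ₜ t) = w t := fun t => by simp [χ]
  have hrange : ∀ t, w t ∈ (algebraMap K Ω).range := fun t => by
    rw [← hχ]
    exact mem_range_algebraMap_of_unramified χ _
  choose v hv using hrange
  have hinj : Function.Injective (algebraMap K Ω) := (algebraMap K Ω).injective
  refine ⟨{ toFun := v
            map_one' := hinj (by rw [hv, map_one, map_one])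
            map_mul' := fun a b => hinj (by rw [hv, map_mul, map_mul, hv, hv])
            map_zero' := hinj (by rw [hv, map_zero, map_zero])
            map_add' := fun a b => hinj (by rw [hv, map_add, map_add, hv, hv])
            commutes' := fun s => hinj (by
              rw [hv, w.commutes, ← IsScalarTower.algebraMap_apply]) }, hv⟩

section Finite

variable {R : Type u} [CommRing R] (A : Type u) [CommRing A] [Algebra R A]
  (C : Type u) [CommRing C] [Algebra A C] [Algebra R C] [IsScalarTower R A C]
  (S : Type u) [CommRing S] [Algebra R S] [Module.Finite R S] [Algebra S C] [IsScalarTower R S C]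

/-- the finite `A`-subalgebra of `C` generated by the image of `S` -/
noncomputable def imSub : Subalgebra A C :=
  Algebra.adjoin A ((algebraMap S C) '' ((Module.Finite.fg_top (R := R) (M := S)).choose : Set S))

lemma algebraMap_mem_imSub (s : S) : algebraMap S C s ∈ imSub (R := R) A C S := by
  have hs : s ∈ Submodule.span R
      ((Module.Finite.fg_top (R := R) (M := S)).choose : Set S) := by
    rw [(Module.Finite.fg_top (R := R) (M := S)).choose_spec]; trivial
  induction hs using Submodule.span_induction with
  | mem x hx => exact Algebra.subset_adjoin ⟨x, hx, rfl⟩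
  | zero => rw [map_zero]; exact zero_mem _
  | add x y _ _ hx hy => rw [map_add]; exact add_mem hx hy
  | smul r x _ hx =>
    have : algebraMap S C (r • x) = algebraMap R A r • algebraMap S C x := by
      rw [Algebra.smul_def, map_mul, ← IsScalarTower.algebraMap_apply R S C,
        IsScalarTower.algebraMap_apply R A C, Algebra.smul_def]
    rw [this]
    exact Subalgebra.smul_mem _ hx _

instance finite_imSub : Module.Finite A (imSub (R := R) A C S) := by
  apply Algebra.finite_adjoin_of_finite_of_isIntegral
  · exact (Finset.finite_toSet _).image _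
  · rintro _ ⟨x, -, rfl⟩
    have h1 : IsIntegral R x := IsIntegral.of_finite R x
    have h2 : IsIntegral R (algebraMap S C x) := h1.map (IsScalarTower.toAlgHom R S C)
    exact h2.tower_top

/-- the `S`-algebra structure on `imSub` -/
noncomputable instance algebraImSub : Algebra S (imSub (R := R) A C S) :=
  ((algebraMap S C).codRestrict (imSub (R := R) A C S)
    (algebraMap_mem_imSub A C S)).toAlgebra

lemma coe_algebraMap_imSub (s : S) :
    ((algebraMap S (imSub (R := R) A C S) s : imSub (R := R) A C S) : C) = algebraMap S C s := rfl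

end Finite

set_option maxHeartbeats 1000000 in
/-- **Key algebraic lemma (unpointed)**.  `A` strictly henselian local, an `R`-algebra; `S` a finite
`R`-algebra; `C` a ring with compatible maps from `A` and `S`; `T` étale over `S` such that every prime
of `S` lying over the prime `m_A ∩ R` of `R` is in the image of `Spec T`.  Then there is an `S`-algebra
map `T → C`. -/
theorem exists_algHom_of_finite {R : Type u} [CommRing R] (A : Type u) [CommRing A]
    [HenselianLocalRing A] [IsSepClosed (ResidueField A)] [Algebra R A]
    (C : Type u) [CommRing C] [Algebra A C] [Algebra R C] [IsScalarTower R A C]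
    (S : Type u) [CommRing S] [Algebra R S] [Module.Finite R S] [Algebra S C] [IsScalarTower R S C]
    (T : Type u) [CommRing T] [Algebra S T] [Algebra.Etale S T]
    (hcov : ∀ r : Ideal S, r.IsPrime →
      r.comap (algebraMap R S) = (maximalIdeal A).comap (algebraMap R A) →
      ∃ q : Ideal T, q.IsPrime ∧ q.comap (algebraMap S T) = r) :
    Nonempty (T →ₐ[S] C) := by
  classical
  let C₀ := imSub (R := R) A C S
  have key : ∀ m : MaximalSpectrum C₀, Nonempty (T →ₐ[S] (C₀ ⧸ m.asIdeal)) := by
    intro m
    haveI := m.isMaximal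
    letI : Field (C₀ ⧸ m.asIdeal) := Ideal.Quotient.field _
    -- `m ∩ A` is the maximal ideal
    haveI : Algebra.IsIntegral A C₀ := Algebra.IsIntegral.of_finite A C₀
    have hmA : m.asIdeal.comap (algebraMap A C₀) = maximalIdeal A :=
      IsLocalRing.eq_maximalIdeal (Ideal.isMaximal_comap_of_isIntegral_of_isMaximal m.asIdeal)
    have hker : ∀ a : A, algebraMap A (C₀ ⧸ m.asIdeal) a = 0 ↔ a ∈ maximalIdeal A := by
      intro a
      rw [← hmA, Ideal.mem_comap, IsScalarTower.algebraMap_apply A C₀ (C₀ ⧸ m.asIdeal),
        Ideal.Quotient.algebraMap_eq, Ideal.Quotient.eq_zero_iff_mem]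
    letI : Algebra (ResidueField A) (C₀ ⧸ m.asIdeal) :=
      (Ideal.Quotient.lift (maximalIdeal A) (algebraMap A (C₀ ⧸ m.asIdeal))
        (fun a ha => (hker a).mpr ha)).toAlgebra
    haveI : IsScalarTower A (ResidueField A) (C₀ ⧸ m.asIdeal) :=
      IsScalarTower.of_algebraMap_eq (fun a => rfl)
    haveI : Module.Finite A (C₀ ⧸ m.asIdeal) :=
      Module.Finite.of_surjective (Ideal.Quotient.mkₐ A m.asIdeal).toLinearMap
        Ideal.Quotient.mk_surjective
    haveI : Algebra.IsIntegral A (C₀ ⧸ m.asIdeal) := Algebra.IsIntegral.of_finite A _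
    haveI : Algebra.IsIntegral (ResidueField A) (C₀ ⧸ m.asIdeal) :=
      ⟨fun x => (Algebra.IsIntegral.isIntegral (R := A) x).tower_top⟩
    haveI : Algebra.IsAlgebraic (ResidueField A) (C₀ ⧸ m.asIdeal) :=
      Algebra.IsIntegral.isAlgebraic
    haveI : IsSepClosed (C₀ ⧸ m.asIdeal) :=
      Algebra.IsAlgebraic.isSepClosed (F := ResidueField A)
    -- the prime of `S`
    let r : Ideal S := RingHom.ker (algebraMap S (C₀ ⧸ m.asIdeal))
    have hr : r.IsPrime := RingHom.ker_isPrime _
    have hrR : r.comap (algebraMap R S) = (maximalIdeal A).comap (algebraMap R A) := by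
      ext x
      rw [Ideal.mem_comap, Ideal.mem_comap, RingHom.mem_ker, ← hker]
      have e1 : algebraMap S (C₀ ⧸ m.asIdeal) (algebraMap R S x) =
          Ideal.Quotient.mk m.asIdeal (algebraMap S C₀ (algebraMap R S x)) := rfl
      have e2 : algebraMap A (C₀ ⧸ m.asIdeal) (algebraMap R A x) =
          Ideal.Quotient.mk m.asIdeal (algebraMap A C₀ (algebraMap R A x)) := rfl
      have e3 : algebraMap S C₀ (algebraMap R S x) = algebraMap A C₀ (algebraMap R A x) := by
        apply Subtype.ext
        rw [coe_algebraMap_imSub]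
        change _ = algebraMap A C (algebraMap R A x)
        rw [← IsScalarTower.algebraMap_apply, ← IsScalarTower.algebraMap_apply]
      rw [e1, e2, e3]
    obtain ⟨q, hq, hqr⟩ := hcov r hr hrR
    exact exists_algHom_of_isSepClosed q hqr
  obtain ⟨τ, -⟩ := exists_algHom_lift A C₀ (S := S) (T := T) (fun m => (key m).some)
  exact ⟨{ toRingHom := C₀.val.toRingHom.comp τ.toRingHom
           commutes' := fun s => by
             change ((τ (algebraMap S T s) : C₀) : C) = _
             rw [τ.commutes]
             rfl }⟩

set_option maxHeartbeats 1000000 in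
/-- **Key algebraic lemma (unpointed, integral version)**: same as `exists_algHom_of_finite` with `S`
only integral over `R` (reduction to the finite case by descending the étale algebra `T` to a finitely
generated subalgebra of `S`). -/
theorem exists_algHom_of_integral {R : Type u} [CommRing R] (A : Type u) [CommRing A]
    [HenselianLocalRing A] [IsSepClosed (ResidueField A)] [Algebra R A]
    (C : Type u) [CommRing C] [Algebra A C] [Algebra R C] [IsScalarTower R A C]
    (S : Type u) [CommRing S] [Algebra R S] [Algebra.IsIntegral R S] [Algebra S C]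
    [IsScalarTower R S C]
    (T : Type u) [CommRing T] [Algebra S T] [Algebra.Etale S T]
    (hcov : ∀ r : Ideal S, r.IsPrime →
      r.comap (algebraMap R S) = (maximalIdeal A).comap (algebraMap R A) →
      ∃ q : Ideal T, q.IsPrime ∧ q.comap (algebraMap S T) = r) :
    Nonempty (T →ₐ[S] C) := by
  obtain ⟨S₀, T₀, _, _, hfg, het, ⟨ε⟩⟩ := Algebra.Etale.exists_subalgebra_fg R S T
  haveI : Algebra.FiniteType R S₀ := (Subalgebra.fg_iff_finiteType S₀).mp hfg
  haveI : Algebra.IsIntegral R S₀ :=
    Algebra.IsIntegral.of_injective S₀.val Subtype.val_injective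
  haveI : Module.Finite R S₀ := Algebra.IsIntegral.finite
  haveI : Algebra.IsIntegral S₀ S := Algebra.IsIntegral.tower_top (R := R)
  -- the map `T₀ → T`
  let κ : T₀ →ₐ[S₀] T :=
    (ε.symm.toAlgHom.restrictScalars S₀).comp Algebra.TensorProduct.includeRight
  obtain ⟨τ₀⟩ := exists_algHom_of_finite (R := R) A C S₀ T₀ (by
    intro r₀ hr₀ hr₀p
    have hker : (⊥ : Ideal S).comap (algebraMap S₀ S) ≤ r₀ := by
      rw [← RingHom.ker_eq_comap_bot, (RingHom.injective_iff_ker_eq_bot _).mp
        (show Function.Injective (algebraMap S₀ S) from Subtype.val_injective)]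
      exact bot_le
    obtain ⟨r, -, hr, hrr₀⟩ := Ideal.exists_ideal_over_prime_of_isIntegral
      (S := S) r₀ ⊥ hker
    have hrp : r.comap (algebraMap R S) = (maximalIdeal A).comap (algebraMap R A) := by
      rw [← hr₀p, ← hrr₀, Ideal.comap_comap]
      rfl
    obtain ⟨q, hq, hqr⟩ := hcov r hr hrp
    refine ⟨q.comap κ.toRingHom, Ideal.comap_isPrime _ _, ?_⟩
    rw [Ideal.comap_comap, ← hrr₀, ← hqr, Ideal.comap_comap]
    congr 1
    ext x
    change κ (algebraMap S₀ T₀ x) = algebraMap S T (algebraMap S₀ S x)
    rw [κ.commutes]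
    rfl)
  exact ⟨(Algebra.TensorProduct.lift (Algebra.ofId S C) τ₀ (fun _ _ => Commute.all _ _)).comp
    ε.toAlgHom⟩

end Groth.Agent.R2.H13.FinHens
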