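import Mathlib
import Groth.Prelude.Def_EtBaseX

set_option autoImplicit false
universe u
open CategoryTheory CategoryTheory.Limits AlgebraicGeometry Opposite

namespace Groth.Agent.R2.H1.EtLocalRing

variable {X : Scheme.{u}} {Ω : Type u} [Field Ω] [IsSepClosed Ω] (ξ : Spec (CommRingCat.of Ω) ⟶ X)

/-- the point of the small etale site -/
noncomputable abbrev Φ := Scheme.pointSmallEtale ξ

/-- evaluation of functions on an etale neighbourhood at the geometric point -/
noncomputable def evAt (U : X.Etale) (x : (Φ ξ).fiber.obj U) :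
    (EtBase.OO X).obj (op U) ⟶ CommRingCat.of Ω :=
  x.left.appTop ≫ (Scheme.ΓSpecIso (CommRingCat.of Ω)).hom

lemma evAt_w {U V : X.Etale} (f : U ⟶ V) (x : (Φ ξ).fiber.obj U) :
    (EtBase.OO X).map f.op ≫ evAt ξ U x = evAt ξ V ((Φ ξ).fiber.map f x) := by
  exact (Category.assoc _ _ _).symm.trans
    (congrArg (· ≫ (Scheme.ΓSpecIso (CommRingCat.of Ω)).hom)
      (Scheme.Hom.comp_appTop x.left f.left).symm)

/-- evaluation at the geometric point on the etale local ring -/
noncomputable def ev : EtBase.etaleLocalRing ξ ⟶ CommRingCat.of Ω :=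
  (Φ ξ).presheafFiberDesc (fun U x => evAt ξ U x) (fun _ _ f x => evAt_w ξ f x)

lemma toFiber_ev (U : X.Etale) (x : (Φ ξ).fiber.obj U) :
    (Φ ξ).toPresheafFiber U x (EtBase.OO X) ≫ ev ξ = evAt ξ U x :=
  (Φ ξ).toPresheafFiber_presheafFiberDesc _ _ U x


/-- an affine etale neighbourhood of the geometric point -/
structure Stage where
  /-- the ring of functions -/
  B : CommRingCat.{u}
  /-- the structure map -/
  p : Spec B ⟶ X
  et : Etale p
  /-- the lift of the geometric point -/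
  y : Spec (CommRingCat.of Ω) ⟶ Spec B
  hy : y ≫ p = ξ

attribute [instance] Stage.et

variable {ξ}

/-- the underlying object of the small etale site -/
noncomputable abbrev Stage.obj (S : Stage ξ) : X.Etale := Scheme.Etale.mk S.p

/-- the underlying point of the fibre -/
noncomputable abbrev Stage.pt (S : Stage ξ) : (Φ ξ).fiber.obj S.obj := Over.homMk S.y S.hy

/-- the canonical map from the functions on a stage to the etale local ring -/
noncomputable def Stage.θ (S : Stage ξ) : S.B ⟶ EtBase.etaleLocalRing ξ :=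
  (Scheme.ΓSpecIso S.B).inv ≫ (Φ ξ).toPresheafFiber S.obj S.pt (EtBase.OO X)

/-- evaluation at the geometric point on a stage -/
noncomputable def Stage.ψ (S : Stage ξ) : S.B ⟶ CommRingCat.of Ω := Spec.preimage S.y

omit [IsSepClosed Ω] in
lemma Stage.map_ψ (S : Stage ξ) : Spec.map S.ψ = S.y := Spec.map_preimage _

lemma Stage.θ_ev (S : Stage ξ) : S.θ ≫ ev ξ = S.ψ := by
  have h1 : (Spec.map S.ψ).appTop = S.y.appTop := by rw [S.map_ψ]
  calc S.θ ≫ ev ξ
      = (Scheme.ΓSpecIso S.B).inv ≫ ((Φ ξ).toPresheafFiber S.obj S.pt (EtBase.OO X) ≫ ev ξ) :=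
        Category.assoc _ _ _
    _ = (Scheme.ΓSpecIso S.B).inv ≫ (S.y.appTop ≫ (Scheme.ΓSpecIso (CommRingCat.of Ω)).hom) :=
        congrArg ((Scheme.ΓSpecIso S.B).inv ≫ ·) (toFiber_ev ξ S.obj S.pt)
    _ = ((Scheme.ΓSpecIso S.B).inv ≫ (Spec.map S.ψ).appTop) ≫
          (Scheme.ΓSpecIso (CommRingCat.of Ω)).hom := by rw [h1, Category.assoc]
    _ = S.ψ := by
        rw [← Scheme.ΓSpecIso_inv_naturality, Category.assoc, Iso.inv_hom_id, Category.comp_id]

/-- every etale neighbourhood is refined by a stage -/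
lemma exists_stage (U : X.Etale) (x : (Φ ξ).fiber.obj U) :
    ∃ (S : Stage ξ) (k : S.obj ⟶ U), (Φ ξ).fiber.map k S.pt = x := by
  obtain ⟨xl, hxl, hxw⟩ : ∃ xl : Spec (CommRingCat.of Ω) ⟶ U.left,
      xl = x.left ∧ xl ≫ U.hom = ξ := ⟨x.left, rfl, Over.w x⟩
  obtain ⟨V, hV, hyV, -⟩ :=
    exists_isAffineOpen_mem_and_subset (x := xl default) (U := ⊤) trivial
  have hrange : Set.range xl ⊆ Set.range hV.fromSpec := by
    rintro _ ⟨a, rfl⟩
    rw [hV.range_fromSpec, Subsingleton.elim a default]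
    exact hyV
  let y : Spec (CommRingCat.of Ω) ⟶ Spec Γ(U.left, V) := IsOpenImmersion.lift hV.fromSpec xl hrange
  have hy : y ≫ hV.fromSpec = xl := IsOpenImmersion.lift_fac _ _ _
  let S : Stage ξ :=
    { B := Γ(U.left, V)
      p := hV.fromSpec ≫ U.hom
      et := inferInstance
      y := y
      hy := by rw [← Category.assoc, hy]; exact hxw }
  refine ⟨S, MorphismProperty.Over.homMk hV.fromSpec rfl trivial, ?_⟩
  apply Over.OverMorphism.ext
  exact hy.trans hxl


/-- transition maps between stages are compatible with the maps to the etale local ring -/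
lemma Stage.θ_of_hom (S S' : Stage ξ) (k : S'.obj ⟶ S.obj)
    (hk : (Φ ξ).fiber.map k S'.pt = S.pt) : Spec.preimage k.left ≫ S'.θ = S.θ := by
  have hg : Spec.map (Spec.preimage k.left) = k.left := Spec.map_preimage _
  have hw : (EtBase.OO X).map k.op ≫ (Φ ξ).toPresheafFiber S'.obj S'.pt (EtBase.OO X) =
      (Φ ξ).toPresheafFiber S.obj S.pt (EtBase.OO X) := by
    rw [(Φ ξ).toPresheafFiber_w, hk]
  have h2 : (EtBase.OO X).map k.op = (Spec.map (Spec.preimage k.left)).appTop := by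
    rw [hg]; rfl
  calc Spec.preimage k.left ≫ S'.θ
      = (Spec.preimage k.left ≫ (Scheme.ΓSpecIso S'.B).inv) ≫
          (Φ ξ).toPresheafFiber S'.obj S'.pt (EtBase.OO X) := (Category.assoc _ _ _).symm
    _ = ((Scheme.ΓSpecIso S.B).inv ≫ (Spec.map (Spec.preimage k.left)).appTop) ≫
          (Φ ξ).toPresheafFiber S'.obj S'.pt (EtBase.OO X) := by
        rw [Scheme.ΓSpecIso_inv_naturality]
    _ = (Scheme.ΓSpecIso S.B).inv ≫ ((Spec.map (Spec.preimage k.left)).appTop ≫
          (Φ ξ).toPresheafFiber S'.obj S'.pt (EtBase.OO X)) := Category.assoc _ _ _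
    _ = (Scheme.ΓSpecIso S.B).inv ≫ ((EtBase.OO X).map k.op ≫
          (Φ ξ).toPresheafFiber S'.obj S'.pt (EtBase.OO X)) :=
        congrArg (fun t => (Scheme.ΓSpecIso S.B).inv ≫ (t ≫
          (Φ ξ).toPresheafFiber S'.obj S'.pt (EtBase.OO X))) h2.symm
    _ = S.θ := congrArg (fun t => (Scheme.ΓSpecIso S.B).inv ≫ t) hw

instance pfcRing : PreservesFilteredColimitsOfSize.{u, u} (forget CommRingCat.{u}) :=
  inferInstance

/-- every element of the etale local ring comes from a stage -/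
lemma exists_rep (a : EtBase.etaleLocalRing ξ) : ∃ (S : Stage ξ) (b : S.B), S.θ b = a := by
  obtain ⟨U, x, z, rfl⟩ := (Φ ξ).toPresheafFiber_jointly_surjective (P := EtBase.OO X) a
  obtain ⟨S, k, hk⟩ := exists_stage U x
  refine ⟨S, (Scheme.ΓSpecIso S.B).hom ((EtBase.OO X).map k.op z), ?_⟩
  unfold Stage.θ
  rw [← hk, ← (Φ ξ).toPresheafFiber_w_apply]
  change (Φ ξ).toPresheafFiber S.obj S.pt (EtBase.OO X)
    ((Scheme.ΓSpecIso S.B).inv ((Scheme.ΓSpecIso S.B).hom ((EtBase.OO X).map k.op z))) = _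
  rw [← ConcreteCategory.comp_apply (Scheme.ΓSpecIso S.B).hom, Iso.hom_inv_id]
  rfl

/-- two stages have a common refinement -/
lemma exists_common (S₁ S₂ : Stage ξ) : ∃ (S₃ : Stage ξ) (g₁ : S₁.B ⟶ S₃.B) (g₂ : S₂.B ⟶ S₃.B),
    g₁ ≫ S₃.θ = S₁.θ ∧ g₂ ≫ S₃.θ = S₂.θ := by
  let m : (Φ ξ).fiber.Elements :=
    IsCofiltered.min (⟨S₁.obj, S₁.pt⟩ : (Φ ξ).fiber.Elements) ⟨S₂.obj, S₂.pt⟩
  let a₁ : m ⟶ ⟨S₁.obj, S₁.pt⟩ := IsCofiltered.minToLeft _ _
  let a₂ : m ⟶ ⟨S₂.obj, S₂.pt⟩ := IsCofiltered.minToRight _ _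
  obtain ⟨S₃, k, hk⟩ := exists_stage m.1 m.2
  refine ⟨S₃, Spec.preimage (k ≫ a₁.1).left, Spec.preimage (k ≫ a₂.1).left, ?_, ?_⟩
  · apply Stage.θ_of_hom
    rw [Functor.map_comp]
    change (Φ ξ).fiber.map a₁.1 ((Φ ξ).fiber.map k S₃.pt) = _
    rw [hk]
    exact a₁.2
  · apply Stage.θ_of_hom
    rw [Functor.map_comp]
    change (Φ ξ).fiber.map a₂.1 ((Φ ξ).fiber.map k S₃.pt) = _
    rw [hk]
    exact a₂.2

/-- finitely many elements of the etale local ring come from a common stage -/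
lemma exists_rep_finset (s : Finset (EtBase.etaleLocalRing ξ)) :
    ∃ S : Stage ξ, ∀ a ∈ s, ∃ b : S.B, S.θ b = a := by
  classical
  induction s using Finset.induction_on with
  | empty =>
    obtain ⟨S, -, -⟩ := exists_rep (ξ := ξ) 0
    exact ⟨S, fun a ha => absurd ha (Finset.notMem_empty a)⟩
  | insert a s _ ih =>
    obtain ⟨S₁, h₁⟩ := ih
    obtain ⟨S₂, b₂, hb₂⟩ := exists_rep a
    obtain ⟨S₃, g₁, g₂, e₁, e₂⟩ := exists_common S₁ S₂
    refine ⟨S₃, fun c hc => ?_⟩
    rcases Finset.mem_insert.mp hc with rfl | hc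
    · exact ⟨g₂ b₂, by rw [← ConcreteCategory.comp_apply, e₂, hb₂]⟩
    · obtain ⟨b, hb⟩ := h₁ c hc
      exact ⟨g₁ b, by rw [← ConcreteCategory.comp_apply, e₁, hb]⟩


/-- extend a stage along an etale ring map through which the evaluation factors -/
noncomputable def Stage.extend (S : Stage ξ) {B' : CommRingCat.{u}} (g : S.B ⟶ B')
    (hg : Etale (Spec.map g)) (χ : B' ⟶ CommRingCat.of Ω) (h : g ≫ χ = S.ψ) : Stage ξ where
  B := B'
  p := Spec.map g ≫ S.p
  et := inferInstance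
  y := Spec.map χ
  hy := by rw [← Category.assoc, ← Spec.map_comp, h, S.map_ψ, S.hy]

omit [IsSepClosed Ω] in
lemma Stage.extend_ψ (S : Stage ξ) {B' : CommRingCat.{u}} (g : S.B ⟶ B')
    (hg : Etale (Spec.map g)) (χ : B' ⟶ CommRingCat.of Ω) (h : g ≫ χ = S.ψ) :
    (S.extend g hg χ h).ψ = χ := Spec.preimage_map _

lemma Stage.extend_θ (S : Stage ξ) {B' : CommRingCat.{u}} (g : S.B ⟶ B')
    (hg : Etale (Spec.map g)) (χ : B' ⟶ CommRingCat.of Ω) (h : g ≫ χ = S.ψ) :
    g ≫ (S.extend g hg χ h).θ = S.θ := by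
  let k : (S.extend g hg χ h).obj ⟶ S.obj := MorphismProperty.Over.homMk (Spec.map g) rfl trivial
  have hk : (Φ ξ).fiber.map k (S.extend g hg χ h).pt = S.pt := by
    apply Over.OverMorphism.ext
    change Spec.map χ ≫ Spec.map g = S.y
    rw [← Spec.map_comp, h, S.map_ψ]
  have := Stage.θ_of_hom S (S.extend g hg χ h) k hk
  have e : Spec.preimage k.left = g := Spec.preimage_map g
  rwa [e] at this

/-- an element of the etale local ring which does not vanish at the geometric point is a unit -/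
lemma isUnit_of_ev_ne_zero (a : EtBase.etaleLocalRing ξ) (h : ev ξ a ≠ 0) : IsUnit a := by
  obtain ⟨S, b, rfl⟩ := exists_rep a
  have hb : S.ψ b ≠ 0 := by
    rw [← S.θ_ev]
    exact h
  have hbu : IsUnit (S.ψ.hom b) := isUnit_iff_ne_zero.mpr hb
  let B' : CommRingCat.{u} := CommRingCat.of (Localization.Away b)
  let g : S.B ⟶ B' := CommRingCat.ofHom (algebraMap S.B (Localization.Away b))
  let χ : B' ⟶ CommRingCat.of Ω := CommRingCat.ofHom (IsLocalization.Away.lift b hbu)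
  have hχ : g ≫ χ = S.ψ := by
    ext r
    exact IsLocalization.Away.lift_eq b hbu r
  have hg : Etale (Spec.map g) := inferInstance
  have e := S.extend_θ g hg χ hχ
  rw [← e]
  have hu : IsUnit (algebraMap S.B (Localization.Away b) b) :=
    IsLocalization.Away.algebraMap_isUnit b
  exact hu.map (S.extend g hg χ hχ).θ.hom


lemma ev_one_ne_zero : ev ξ (1 : EtBase.etaleLocalRing ξ) ≠ 0 := by
  rw [map_one]
  exact one_ne_zero

instance : Nontrivial (EtBase.etaleLocalRing ξ) :=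
  nontrivial_of_ne 1 0 (fun h => ev_one_ne_zero (ξ := ξ) (by rw [h, map_zero]))

instance isLocalRing : IsLocalRing (EtBase.etaleLocalRing ξ) := by
  refine IsLocalRing.of_isUnit_or_isUnit_one_sub_self fun a => ?_
  by_cases h : ev ξ a = 0
  · right
    apply isUnit_of_ev_ne_zero
    rw [map_sub, h, sub_zero]
    exact ev_one_ne_zero
  · left
    exact isUnit_of_ev_ne_zero a h

lemma isUnit_iff_ev_ne_zero (a : EtBase.etaleLocalRing ξ) : IsUnit a ↔ ev ξ a ≠ 0 :=
  ⟨fun h => (h.map (ev ξ).hom).ne_zero, isUnit_of_ev_ne_zero a⟩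

lemma mem_maximalIdeal_iff (a : EtBase.etaleLocalRing ξ) :
    a ∈ IsLocalRing.maximalIdeal (EtBase.etaleLocalRing ξ) ↔ ev ξ a = 0 := by
  rw [IsLocalRing.mem_maximalIdeal, mem_nonunits_iff, isUnit_iff_ev_ne_zero, not_not]

open Polynomial in
/-- monic polynomials over the etale local ring come from a stage -/
lemma exists_monic_lift (f : (EtBase.etaleLocalRing ξ)[X]) (hf : f.Monic) :
    ∃ (S : Stage ξ) (F : (S.B)[X]), F.Monic ∧ F.map S.θ.hom = f := by
  classical
  obtain ⟨S, hS⟩ := exists_rep_finset ((Finset.range f.natDegree).image f.coeff)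
  have hb : ∀ i : Fin f.natDegree, ∃ b : S.B, S.θ b = f.coeff i :=
    fun i => hS _ (Finset.mem_image.mpr ⟨i, Finset.mem_range.mpr i.2, rfl⟩)
  choose b hb using hb
  refine ⟨S, (Polynomial.X : (S.B)[X]) ^ f.natDegree + ∑ i : Fin f.natDegree, C (b i) * (Polynomial.X : (S.B)[X]) ^ (i : ℕ),
    monic_X_pow_add (degree_sum_fin_lt b), ?_⟩
  rw [Polynomial.map_add, Polynomial.map_pow, map_X, Polynomial.map_sum]
  conv_rhs => rw [hf.as_sum]
  congr 1
  rw [← Fin.sum_univ_eq_sum_range (fun i => C (f.coeff i) * (Polynomial.X : (EtBase.etaleLocalRing ξ)[X]) ^ i)]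
  refine Finset.sum_congr rfl fun i _ => ?_
  rw [Polynomial.map_mul, Polynomial.map_pow, map_X, map_C]
  congr 2
  exact hb i


open Polynomial in
/-- simple roots in `Ω` of monic polynomials over the etale local ring lift to roots -/
lemma exists_root (f : (EtBase.etaleLocalRing ξ)[X]) (hf : f.Monic) (ω : Ω)
    (h0 : f.eval₂ (ev ξ).hom ω = 0) (h1 : f.derivative.eval₂ (ev ξ).hom ω ≠ 0) :
    ∃ a : EtBase.etaleLocalRing ξ, f.IsRoot a ∧ ev ξ a = ω := by
  obtain ⟨S, F, hF, rfl⟩ := exists_monic_lift f hf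
  let P : StandardEtalePair S.B := ⟨F, hF, derivative F, ⟨1, 0, 1, by ring⟩⟩
  let _ : Algebra S.B Ω := S.ψ.hom.toAlgebra
  have hψ : (ev ξ).hom.comp S.θ.hom = S.ψ.hom := by rw [← CommRingCat.hom_comp, S.θ_ev]
  have hmap : P.HasMap ω := by
    constructor
    · change aeval ω F = 0
      rw [aeval_def]
      change eval₂ S.ψ.hom ω F = 0
      rw [← hψ, ← eval₂_map]; exact h0
    · change IsUnit (aeval ω (derivative F))
      rw [isUnit_iff_ne_zero, aeval_def]
      change eval₂ S.ψ.hom ω (derivative F) ≠ 0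
      rw [← hψ, ← eval₂_map, ← derivative_map]; exact h1
  let lift := P.lift ω hmap
  let B' : CommRingCat.{u} := CommRingCat.of P.Ring
  let g : S.B ⟶ B' := CommRingCat.ofHom (algebraMap S.B P.Ring)
  let χ : B' ⟶ CommRingCat.of Ω := CommRingCat.ofHom lift.toRingHom
  have hχ : g ≫ χ = S.ψ := by
    ext r
    exact lift.commutes r
  have hg : Etale (Spec.map g) := by
    rw [HasRingHomProperty.Spec_iff (P := @Etale)]
    exact RingHom.etale_algebraMap.mpr inferInstance
  obtain ⟨θ', e1, e2⟩ : ∃ θ' : B' ⟶ EtBase.etaleLocalRing ξ, g ≫ θ' = S.θ ∧ θ' ≫ ev ξ = χ :=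
    ⟨(S.extend g hg χ hχ).θ, S.extend_θ g hg χ hχ,
      ((S.extend g hg χ hχ).θ_ev).trans (S.extend_ψ g hg χ hχ)⟩
  refine ⟨θ' P.X, ?_, ?_⟩
  · rw [IsRoot, Polynomial.eval_map, ← e1, CommRingCat.hom_comp]
    change eval₂ (θ'.hom.comp g.hom) (θ'.hom P.X) F = 0
    rw [← hom_eval₂]
    have h := P.hasMap_X.1
    rw [aeval_def] at h
    change eval₂ g.hom P.X F = 0 at h
    rw [h, map_zero]
  · have : ev ξ (θ' P.X) = χ P.X := congrArg (fun t : B' ⟶ CommRingCat.of Ω => t.hom P.X) e2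
    rw [this]
    exact P.lift_X ω hmap


open Polynomial in
instance henselian : HenselianLocalRing (EtBase.etaleLocalRing ξ) where
  is_henselian f hf a₀ h₁ h₂ := by
    have h0 : f.eval₂ (ev ξ).hom ((ev ξ).hom a₀) = 0 := by
      rw [eval₂_hom]
      exact (mem_maximalIdeal_iff _).mp h₁
    have h1 : f.derivative.eval₂ (ev ξ).hom ((ev ξ).hom a₀) ≠ 0 := by
      rw [eval₂_hom]
      exact (isUnit_iff_ev_ne_zero _).mp h₂
    obtain ⟨a, ha, hae⟩ := exists_root f hf _ h0 h1
    refine ⟨a, ha, ?_⟩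
    rw [mem_maximalIdeal_iff, map_sub, hae]
    exact sub_self _

instance isLocalHom_ev : IsLocalHom (ev ξ).hom :=
  ⟨fun a ha => (isUnit_iff_ev_ne_zero a).mpr ha.ne_zero⟩

open Polynomial in
lemma isSepClosed_residueField :
    IsSepClosed (IsLocalRing.ResidueField (EtBase.etaleLocalRing ξ)) := by
  let ev' : IsLocalRing.ResidueField (EtBase.etaleLocalRing ξ) →+* Ω :=
    IsLocalRing.ResidueField.lift (ev ξ).hom
  have hev' : ev'.comp (IsLocalRing.residue (EtBase.etaleLocalRing ξ)) = (ev ξ).hom :=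
    IsLocalRing.ResidueField.lift_comp_residue _
  refine IsSepClosed.of_exists_root _ fun p hp hirr hsep => ?_
  obtain ⟨f, hfp, -, hf⟩ := lifts_and_natDegree_eq_and_monic
    (mem_lifts_of_surjective (IsLocalRing.residue_surjective) p) hp
  have hdeg : (p.map ev').degree ≠ 0 := by
    rw [degree_map]
    exact (degree_pos_of_irreducible hirr).ne'
  obtain ⟨ω, hω⟩ := IsSepClosed.exists_root (p.map ev') hdeg hsep.map
  have h0' : p.eval₂ ev' ω = 0 := by rwa [IsRoot, Polynomial.eval_map] at hω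
  have h0 : f.eval₂ (ev ξ).hom ω = 0 := by
    rw [← hev', ← eval₂_map, hfp]
    exact h0'
  have h1 : f.derivative.eval₂ (ev ξ).hom ω ≠ 0 := by
    rw [← hev', ← eval₂_map, ← derivative_map, hfp]
    exact hsep.eval₂_derivative_ne_zero ev' h0'
  obtain ⟨a, ha, -⟩ := exists_root f hf ω h0 h1
  refine ⟨IsLocalRing.residue _ a, ?_⟩
  rw [← hfp, Polynomial.eval_map, eval₂_hom, ha, map_zero]

theorem isStrictlyHenselian :
    EtCoh.IsStrictlyHenselianLocalRing (EtBase.etaleLocalRing ξ) :=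
  ⟨henselian, isSepClosed_residueField⟩

end Groth.Agent.R2.H1.EtLocalRing
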