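import Mathlib
import Groth.Prelude.Def_EtBaseX
import Groth.Prelude.Def_EtShriek2
import Groth.Agent.R2.H1EtLocalRing
import Groth.Agent.R2.H13FinHens

/-!
# The germ ring of a finite morphism at a geometric point of the base (helper13)

Namespace `Groth.Agent.R2.H13.FinGerm`.

For `f : X ⟶ Y`, an étale `e : Y' ⟶ Y` and a geometric point `ξ : Spec Ω ⟶ Y'`:
* `G f e : Y'.Etale ⥤ X.Etale`, `U ↦ X ×_Y U` (`U → Y' → Y`);
* `P f e` : the presheaf of rings `U ↦ Γ(X ×_Y U)` on `Y'.Etale`;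
* `germ f e ξ` : its fibre at `ξ` (the filtered colimit over the étale neighbourhoods of `ξ`);
* `exists_germ_lift` : if `Γ(Y') ⟶ Γ(X ×_Y Y')` is integral, `ψ : Γ(X ×_Y Y') ⟶ T` étale and every prime
  of `Γ(X ×_Y Y')` over the point of `ξ` is in the image of `Spec T`, then for some étale neighbourhood
  `(U, u)` of `ξ` there is a ring map `T ⟶ Γ(X ×_Y U)` of `Γ(X ×_Y Y')`-algebras.
-/

set_option autoImplicit false
set_option linter.style.haveILetI false
universe u

namespace Groth.Agent.R2.H13.FinGerm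

open CategoryTheory CategoryTheory.Limits AlgebraicGeometry Opposite
open Groth.Agent.R2.H1.EtLocalRing

variable {X Y Y' : Scheme.{u}} (f : X ⟶ Y) (e : Y' ⟶ Y) [Etale e]

/-- base change to `X` of the étale `Y'`-schemes (regarded as `Y`-schemes) -/
noncomputable abbrev G : Y'.Etale ⥤ X.Etale := EtShriek.compEtale e ⋙ EtCoh.bc f

/-- the presheaf of rings `U ↦ Γ(X ×_Y U)` on the small étale site of `Y'` -/
noncomputable abbrev P : Y'.Etaleᵒᵖ ⥤ CommRingCat.{u} := (G f e).op ⋙ EtBase.OO X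

/-- the canonical morphism to the terminal object of `Y'.Etale` -/
noncomputable def toTop (U : Y'.Etale) : U ⟶ EtCoh.top Y' :=
  MorphismProperty.Over.homMk U.hom (Category.comp_id _) trivial

lemma toTop_comp {U V : Y'.Etale} (g : V ⟶ U) : g ≫ toTop U = toTop V := by
  apply MorphismProperty.Over.Hom.ext
  exact Over.w g.hom

set_option backward.isDefEq.respectTransparency.types false in
lemma G_map_left_fst {U V : Y'.Etale} (g : V ⟶ U) :
    ((G f e).map g).left ≫ pullback.fst (U.hom ≫ e) f = pullback.fst (V.hom ≫ e) f ≫ g.left := by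
  dsimp [G, EtCoh.bc]
  exact pullback.lift_fst _ _ _

set_option backward.isDefEq.respectTransparency.types false in
lemma G_map_left_snd {U V : Y'.Etale} (g : V ⟶ U) :
    ((G f e).map g).left ≫ pullback.snd (U.hom ≫ e) f = pullback.snd (V.hom ≫ e) f := by
  dsimp [G, EtCoh.bc]
  exact pullback.lift_snd _ _ _

set_option backward.isDefEq.respectTransparency.types false in
/-- the natural map `Γ(U) ⟶ Γ(X ×_Y U)` -/
noncomputable def ν : EtBase.OO Y' ⟶ P f e where
  app U := (pullback.fst (U.unop.hom ≫ e) f).appTop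
  naturality _ _ g :=
    (Scheme.Hom.comp_appTop _ _).symm.trans
      ((congrArg Scheme.Hom.appTop (G_map_left_fst f e g.unop).symm).trans
        (Scheme.Hom.comp_appTop _ _))

/-- the ring of functions of `X ×_Y Y'` -/
noncomputable abbrev S : CommRingCat.{u} := (P f e).obj (op (EtCoh.top Y'))

/-- the structure map `Γ(Y') ⟶ Γ(X ×_Y Y')` -/
noncomputable abbrev φ : Γ(Y', ⊤) ⟶ S f e := (ν f e).app (op (EtCoh.top Y'))

/-- the structure map `Γ(X ×_Y Y') ⟶ Γ(X ×_Y U)` -/
noncomputable def σ (U : Y'.Etale) : S f e ⟶ (P f e).obj (op U) := (P f e).map (toTop U).op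

lemma σ_map {U V : Y'.Etale} (g : V ⟶ U) : σ f e U ≫ (P f e).map g.op = σ f e V := by
  unfold σ
  rw [← Functor.map_comp, ← op_comp, toTop_comp]

variable {Ω : Type u} [Field Ω] [IsSepClosed Ω] (ξ : Spec (CommRingCat.of Ω) ⟶ Y')

/-- the germ ring: the fibre of `P f e` at the geometric point `ξ` -/
noncomputable abbrev germ : CommRingCat.{u} := (Φ ξ).presheafFiber.obj (P f e)

/-- the map from the étale local ring to the germ ring -/
noncomputable def a2c : EtBase.etaleLocalRing ξ ⟶ germ f e ξ := (Φ ξ).presheafFiber.map (ν f e)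

/-- the point of the trivial étale neighbourhood -/
noncomputable def topPt : (Φ ξ).fiber.obj (EtCoh.top Y') := Over.homMk ξ (Category.comp_id _)

lemma fiber_map_toTop (U : Y'.Etale) (u : (Φ ξ).fiber.obj U) :
    (Φ ξ).fiber.map (toTop U) u = topPt ξ := by
  apply Over.OverMorphism.ext
  exact Over.w u

/-- the canonical map `Γ(Y') ⟶ etaleLocalRing ξ` -/
noncomputable def r2a : Γ(Y', ⊤) ⟶ EtBase.etaleLocalRing ξ :=
  (Φ ξ).toPresheafFiber (EtCoh.top Y') (topPt ξ) (EtBase.OO Y')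

/-- the canonical map `Γ(X ×_Y Y') ⟶ germ` -/
noncomputable def s2c : S f e ⟶ germ f e ξ :=
  (Φ ξ).toPresheafFiber (EtCoh.top Y') (topPt ξ) (P f e)

lemma σ_toPresheafFiber (U : Y'.Etale) (u : (Φ ξ).fiber.obj U) :
    σ f e U ≫ (Φ ξ).toPresheafFiber U u (P f e) = s2c f e ξ := by
  unfold σ s2c
  rw [(Φ ξ).toPresheafFiber_w, fiber_map_toTop]

lemma r2a_a2c : r2a ξ ≫ a2c f e ξ = φ f e ≫ s2c f e ξ :=
  (Φ ξ).toPresheafFiber_naturality (ν f e) _ _

/-- the ring map `Γ(Y') ⟶ Ω` of the geometric point -/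
noncomputable abbrev ptHom : Γ(Y', ⊤) ⟶ CommRingCat.of Ω :=
  ξ.appTop ≫ (Scheme.ΓSpecIso (CommRingCat.of Ω)).hom

lemma r2a_ev : r2a ξ ≫ ev ξ = ptHom ξ := toFiber_ev ξ _ _

lemma comap_maximalIdeal_r2a :
    (IsLocalRing.maximalIdeal (EtBase.etaleLocalRing ξ)).comap (r2a ξ).hom =
      RingHom.ker (ptHom ξ).hom := by
  ext x
  rw [Ideal.mem_comap, mem_maximalIdeal_iff, RingHom.mem_ker, ← r2a_ev]
  rfl

/-- the diagram of rings `(U, u) ↦ Γ(X ×_Y U)` whose colimit is the germ ring -/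
noncomputable abbrev F : (Φ ξ).fiber.Elementsᵒᵖ ⥤ CommRingCat.{u} :=
  (CategoryOfElements.π (Φ ξ).fiber).op ⋙ P f e

/-- the structure maps from `S`, as a natural transformation -/
noncomputable def α : (Functor.const _).obj (S f e) ⟶ F f e ξ where
  app i := σ f e i.unop.1
  naturality i j g := by
    refine (Category.id_comp _).trans ?_
    exact (σ_map f e g.unop.1).symm

open Groth.Agent.R2.H13.FinHens in
set_option backward.isDefEq.respectTransparency.types false in
set_option maxHeartbeats 1000000 in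
/-- **Key lemma (ring form)**: if `φ : Γ(Y') ⟶ Γ(X ×_Y Y')` is integral, `ψ : Γ(X ×_Y Y') ⟶ T` is étale,
and every prime of `Γ(X ×_Y Y')` lying over the point of the geometric point `ξ` of `Y'` is in the
image of `Spec T`, then for some étale neighbourhood `(U, u)` of `ξ` there is a map
`T ⟶ Γ(X ×_Y U)` of `Γ(X ×_Y Y')`-algebras. -/
theorem exists_germ_lift (hφ : (φ f e).hom.IsIntegral) {T : CommRingCat.{u}} (ψ : S f e ⟶ T)
    (hψ : ψ.hom.Etale)
    (hcov : ∀ r : Ideal (S f e), r.IsPrime → r.comap (φ f e).hom = RingHom.ker (ptHom ξ).hom →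
      ∃ q : Ideal T, q.IsPrime ∧ q.comap ψ.hom = r) :
    ∃ (U : Y'.Etale) (_ : (Φ ξ).fiber.obj U) (g' : T ⟶ (P f e).obj (op U)),
      ψ ≫ g' = σ f e U := by
  letI : Algebra Γ(Y', ⊤) (S f e) := (φ f e).hom.toAlgebra
  letI : Algebra Γ(Y', ⊤) (EtBase.etaleLocalRing ξ) := (r2a ξ).hom.toAlgebra
  letI : Algebra (EtBase.etaleLocalRing ξ) (germ f e ξ) := (a2c f e ξ).hom.toAlgebra
  letI : Algebra (S f e) (germ f e ξ) := (s2c f e ξ).hom.toAlgebra
  letI : Algebra Γ(Y', ⊤) (germ f e ξ) := (φ f e ≫ s2c f e ξ).hom.toAlgebra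
  haveI : IsScalarTower Γ(Y', ⊤) (S f e) (germ f e ξ) :=
    IsScalarTower.of_algebraMap_eq (fun _ => rfl)
  haveI : IsScalarTower Γ(Y', ⊤) (EtBase.etaleLocalRing ξ) (germ f e ξ) :=
    IsScalarTower.of_algebraMap_eq (fun x => by
      change (φ f e ≫ s2c f e ξ).hom x = (r2a ξ ≫ a2c f e ξ).hom x
      rw [r2a_a2c])
  letI : Algebra (S f e) T := ψ.hom.toAlgebra
  haveI : Algebra.Etale (S f e) T := hψ
  haveI : Algebra.IsIntegral Γ(Y', ⊤) (S f e) := ⟨hφ⟩
  haveI : IsSepClosed (IsLocalRing.ResidueField (EtBase.etaleLocalRing ξ)) :=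
    isSepClosed_residueField
  obtain ⟨τ⟩ := exists_algHom_of_integral (R := Γ(Y', ⊤)) (EtBase.etaleLocalRing ξ) (germ f e ξ)
    (S f e) T (by
      intro r hr hrp
      refine hcov r hr (hrp.trans ?_)
      exact comap_maximalIdeal_r2a ξ)
  let g : T ⟶ germ f e ξ := CommRingCat.ofHom τ.toRingHom
  have hg : ψ ≫ g = s2c f e ξ := by
    ext s
    exact τ.commutes s
  have hfp : ψ.hom.FinitePresentation := hψ.finitePresentation
  obtain ⟨i, g', h1, -⟩ := RingHom.EssFiniteType.exists_eq_comp_ι_app_of_isColimit (S f e)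
    (F f e ξ) (α f e ξ) ψ ((Φ ξ).presheafFiberCocone (P f e))
    ((Φ ξ).isColimitPresheafFiberCocone (P f e)) hfp g (by
      intro i
      exact hg.trans (σ_toPresheafFiber f e ξ i.unop.1 i.unop.2).symm)
  exact ⟨i.unop.1, i.unop.2, g', h1⟩

end Groth.Agent.R2.H13.FinGerm
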