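import Mathlib
import Groth.Agent.R2.H13FinHens

/-!
# Pointed henselian lifting (helper13)

Namespace `Groth.Agent.R2.H13.FinPt`.

* `exists_algHom_pointed` : **pointed key algebraic lemma**.  `A` strictly henselian local with a local
  map `e₀ : A → Ω` to an algebraically closed field, `S` a finite `R`-algebra, `C` a ring with
  compatible maps from `A` and `S`, `T` étale over `S`.  Suppose that for every `σ : S → Ω` over `e₀`
  we can choose an extension `t : T → Ω` of `σ` with a property `Q σ t`.  Then there is an `S`-algebra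
  map `τ : T → C` such that `Q (ε ∘ (S → C)) (ε ∘ τ)` for every `ε : C → Ω` over `e₀`.
-/

set_option autoImplicit false
set_option linter.style.haveILetI false
universe u

namespace Groth.Agent.R2.H13.FinPt

open IsLocalRing TensorProduct
open Groth.Agent.R2.H13.FinHens

set_option maxHeartbeats 2000000 in
theorem exists_algHom_pointed {R : Type u} [CommRing R] (A : Type u) [CommRing A]
    [HenselianLocalRing A] [IsSepClosed (ResidueField A)] [Algebra R A]
    (C : Type u) [CommRing C] [Algebra A C] [Algebra R C] [IsScalarTower R A C]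
    (S : Type u) [CommRing S] [Algebra R S] [Module.Finite R S] [Algebra S C] [IsScalarTower R S C]
    (T : Type u) [CommRing T] [Algebra S T] [Algebra.Etale S T]
    (Ω : Type u) [Field Ω] [IsAlgClosed Ω] (e₀ : A →+* Ω)
    (he₀ : ∀ a, e₀ a = 0 ↔ a ∈ maximalIdeal A)
    (Q : (S →+* Ω) → (T →+* Ω) → Prop)
    (hQ : ∀ σ : S →+* Ω, σ.comp (algebraMap R S) = e₀.comp (algebraMap R A) →
      ∃ t : T →+* Ω, t.comp (algebraMap S T) = σ ∧ Q σ t) :
    ∃ τ : T →ₐ[S] C, ∀ ε : C →+* Ω, ε.comp (algebraMap A C) = e₀ →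
      Q (ε.comp (algebraMap S C)) (ε.comp τ.toRingHom) := by
  classical
  let κ := ResidueField A
  let C₀ := imSub (R := R) A C S
  -- `Ω` as a `κ`-algebra
  let eκ : κ →+* Ω := Ideal.Quotient.lift (maximalIdeal A) e₀ (fun a ha => (he₀ a).mpr ha)
  have heκ : ∀ a : A, eκ (residue A a) = e₀ a := fun a => rfl
  haveI : Algebra.IsIntegral A C₀ := Algebra.IsIntegral.of_finite A C₀
  have e3 : ∀ x : R, algebraMap S C₀ (algebraMap R S x) = algebraMap A C₀ (algebraMap R A x) := by
    intro x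
    apply Subtype.ext
    rw [coe_algebraMap_imSub]
    change _ = algebraMap A C (algebraMap R A x)
    rw [← IsScalarTower.algebraMap_apply, ← IsScalarTower.algebraMap_apply]
  -- data attached to a maximal ideal of `C₀`
  have key : ∀ m : MaximalSpectrum C₀, ∃ (ι : C₀ ⧸ m.asIdeal →+* Ω) (t : T →+* Ω)
      (v : T →ₐ[S] (C₀ ⧸ m.asIdeal)),
      (∀ a : A, ι (Ideal.Quotient.mk m.asIdeal (algebraMap A C₀ a)) = e₀ a) ∧
      (∀ ι' : C₀ ⧸ m.asIdeal →+* Ω,
        (∀ a : A, ι' (Ideal.Quotient.mk m.asIdeal (algebraMap A C₀ a)) = e₀ a) → ι' = ι) ∧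
      Q (ι.comp ((Ideal.Quotient.mk m.asIdeal).comp (algebraMap S C₀))) t ∧
      ∀ x, ι (v x) = t x := by
    intro m
    haveI := m.isMaximal
    letI : Field (C₀ ⧸ m.asIdeal) := Ideal.Quotient.field _
    have hmA : m.asIdeal.comap (algebraMap A C₀) = maximalIdeal A :=
      IsLocalRing.eq_maximalIdeal (Ideal.isMaximal_comap_of_isIntegral_of_isMaximal m.asIdeal)
    have hker : ∀ a : A, algebraMap A (C₀ ⧸ m.asIdeal) a = 0 ↔ a ∈ maximalIdeal A := by
      intro a
      rw [← hmA, Ideal.mem_comap, IsScalarTower.algebraMap_apply A C₀ (C₀ ⧸ m.asIdeal),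
        Ideal.Quotient.algebraMap_eq, Ideal.Quotient.eq_zero_iff_mem]
    letI : Algebra κ (C₀ ⧸ m.asIdeal) :=
      (Ideal.Quotient.lift (maximalIdeal A) (algebraMap A (C₀ ⧸ m.asIdeal))
        (fun a ha => (hker a).mpr ha)).toAlgebra
    haveI : IsScalarTower A κ (C₀ ⧸ m.asIdeal) :=
      IsScalarTower.of_algebraMap_eq (fun a => rfl)
    haveI : Module.Finite A (C₀ ⧸ m.asIdeal) :=
      Module.Finite.of_surjective (Ideal.Quotient.mkₐ A m.asIdeal).toLinearMap
        Ideal.Quotient.mk_surjective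
    haveI : Algebra.IsIntegral A (C₀ ⧸ m.asIdeal) := Algebra.IsIntegral.of_finite A _
    haveI : Algebra.IsIntegral κ (C₀ ⧸ m.asIdeal) :=
      ⟨fun x => (Algebra.IsIntegral.isIntegral (R := A) x).tower_top⟩
    haveI : Algebra.IsAlgebraic κ (C₀ ⧸ m.asIdeal) := Algebra.IsIntegral.isAlgebraic
    haveI : IsSepClosed (C₀ ⧸ m.asIdeal) := Algebra.IsAlgebraic.isSepClosed (F := κ)
    haveI : IsPurelyInseparable κ (C₀ ⧸ m.asIdeal) := inferInstance
    have hbij := IsPurelyInseparable.bijective_comp_algebraMap κ (C₀ ⧸ m.asIdeal) Ω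
    obtain ⟨ι, hι'⟩ := hbij.2 eκ
    have hι : ι.comp (algebraMap κ (C₀ ⧸ m.asIdeal)) = eκ := hι'
    have hιA : ∀ a : A, ι (Ideal.Quotient.mk m.asIdeal (algebraMap A C₀ a)) = e₀ a := by
      intro a
      have h1 : Ideal.Quotient.mk m.asIdeal (algebraMap A C₀ a) =
          algebraMap κ (C₀ ⧸ m.asIdeal) (residue A a) := rfl
      rw [h1]
      exact (RingHom.congr_fun hι (residue A a)).trans (heκ a)
    have huniq : ∀ ι' : C₀ ⧸ m.asIdeal →+* Ω,
        (∀ a : A, ι' (Ideal.Quotient.mk m.asIdeal (algebraMap A C₀ a)) = e₀ a) → ι' = ι := by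
      intro ι' hι'
      apply hbij.1
      change ι'.comp (algebraMap κ (C₀ ⧸ m.asIdeal)) = ι.comp (algebraMap κ (C₀ ⧸ m.asIdeal))
      rw [hι]
      apply Ideal.Quotient.ringHom_ext
      ext a
      exact hι' a
    let σ : S →+* Ω := ι.comp ((Ideal.Quotient.mk m.asIdeal).comp (algebraMap S C₀))
    have hσ : σ.comp (algebraMap R S) = e₀.comp (algebraMap R A) := by
      ext x
      change ι (Ideal.Quotient.mk m.asIdeal (algebraMap S C₀ (algebraMap R S x))) = _
      rw [e3, hιA]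
      rfl
    obtain ⟨t, ht, hQt⟩ := hQ σ hσ
    letI : Algebra (C₀ ⧸ m.asIdeal) Ω := ι.toAlgebra
    letI : Algebra S Ω := σ.toAlgebra
    haveI : IsScalarTower S (C₀ ⧸ m.asIdeal) Ω := IsScalarTower.of_algebraMap_eq (fun _ => rfl)
    let tA : T →ₐ[S] Ω := { t with commutes' := fun s => RingHom.congr_fun ht s }
    obtain ⟨v, hv⟩ := exists_algHom_factor_of_isSepClosed (S := S) (T := T)
      (K := C₀ ⧸ m.asIdeal) (Ω := Ω) tA
    exact ⟨ι, t, v, hιA, huniq, hQt, hv⟩
  choose ι t v hιA huniq hQt hv using key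
  obtain ⟨τ₀, hτ₀⟩ := exists_algHom_lift A C₀ (S := S) (T := T) v
  let τ : T →ₐ[S] C :=
    { toRingHom := C₀.val.toRingHom.comp τ₀.toRingHom
      commutes' := fun s => by
        change ((τ₀ (algebraMap S T s) : C₀) : C) = _
        rw [τ₀.commutes]
        rfl }
  refine ⟨τ, ?_⟩
  intro ε hε
  let ε₀ : C₀ →+* Ω := ε.comp C₀.val.toRingHom
  have hε₀ : ∀ a : A, ε₀ (algebraMap A C₀ a) = e₀ a := fun a => RingHom.congr_fun hε a
  have hprime : (RingHom.ker ε₀).IsPrime := RingHom.ker_isPrime ε₀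
  have hcomap : (RingHom.ker ε₀).comap (algebraMap A C₀) = maximalIdeal A := by
    ext a
    rw [Ideal.mem_comap, RingHom.mem_ker, hε₀, he₀]
  have hmax : (RingHom.ker ε₀).IsMaximal :=
    Ideal.isMaximal_of_isIntegral_of_isMaximal_comap (R := A) (RingHom.ker ε₀)
      (hcomap ▸ IsLocalRing.maximalIdeal.isMaximal A)
  let m : MaximalSpectrum C₀ := ⟨RingHom.ker ε₀, hmax⟩
  let ε' : C₀ ⧸ m.asIdeal →+* Ω := Ideal.Quotient.lift m.asIdeal ε₀ (fun z hz => hz)
  have hε' : ε' = ι m := huniq m ε' (fun a => hε₀ a)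
  have h1 : ε.comp (algebraMap S C) =
      (ι m).comp ((Ideal.Quotient.mk m.asIdeal).comp (algebraMap S C₀)) := by
    rw [← hε']
    rfl
  have h2 : ε.comp τ.toRingHom = t m := by
    ext x
    change ε' (Ideal.Quotient.mk m.asIdeal (τ₀ x)) = _
    rw [hτ₀, hε', hv]
  rw [h1, h2]
  exact hQt m

end Groth.Agent.R2.H13.FinPt
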