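import Mathlib
import Groth.Agent.R2.H13FinGerm
import Groth.Agent.R2.H13FinPt

/-!
# Pointed lifting into the germ ring (helper13)

Namespace `Groth.Agent.R2.H13.FinPtGerm`.

Setting of `H13FinGerm`: `f : X ⟶ Y`, `e : Y' ⟶ Y` étale, `η : Spec Ω ⟶ Y'` a geometric point.  For a
geometric point `ζ : Spec Ω ⟶ X` with `ζ ≫ f = η ≫ e`:
* `ptG` : the point `(u, ζ)` of `X ×_Y U` for an étale neighbourhood `(U, u)` of `η`;
* `εpt` : the evaluation `germ f e η ⟶ Ω` at `ζ`;
* `exists_germ_lift_pointed` : pointed version of `FinGerm.exists_germ_lift` (for `φ` finite, `Ω`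
  algebraically closed).
-/

set_option autoImplicit false
set_option linter.style.haveILetI false
universe u

namespace Groth.Agent.R2.H13.FinPtGerm

open CategoryTheory CategoryTheory.Limits AlgebraicGeometry Opposite
open Groth.Agent.R2.H1.EtLocalRing Groth.Agent.R2.H13.FinGerm

variable {X Y Y' : Scheme.{u}} (f : X ⟶ Y) (e : Y' ⟶ Y) [Etale e]
variable {Ω : Type u} [Field Ω] [IsSepClosed Ω] (η : Spec (CommRingCat.of Ω) ⟶ Y')
  (ζ : Spec (CommRingCat.of Ω) ⟶ X)

lemma fiber_w (U : Y'.Etale) (u : (Scheme.pointSmallEtale η).fiber.obj U) :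
    u.left ≫ U.hom = η := Over.w u

variable (hζ : ζ ≫ f = η ≫ e)

set_option backward.isDefEq.respectTransparency.types false in
/-- the point `(u, ζ)` of `X ×_Y U` -/
noncomputable def ptG (U : Y'.Etale) (u : (Φ η).fiber.obj U) : (Φ ζ).fiber.obj ((G f e).obj U) :=
  Over.homMk (pullback.lift u.left ζ
    (show u.left ≫ U.hom ≫ e = ζ ≫ f from
      ((Category.assoc _ _ _).symm.trans (congrArg (· ≫ e) (fiber_w η U u))).trans hζ.symm))
    (pullback.lift_snd _ _ _)

set_option backward.isDefEq.respectTransparency.types false in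
lemma ptG_left_fst (U : Y'.Etale) (u : (Φ η).fiber.obj U) :
    (ptG f e η ζ hζ U u).left ≫ pullback.fst (U.hom ≫ e) f = u.left :=
  pullback.lift_fst _ _ _

set_option backward.isDefEq.respectTransparency.types false in
lemma ptG_left_snd (U : Y'.Etale) (u : (Φ η).fiber.obj U) :
    (ptG f e η ζ hζ U u).left ≫ pullback.snd (U.hom ≫ e) f = ζ :=
  pullback.lift_snd _ _ _

set_option backward.isDefEq.respectTransparency.types false in
lemma ptG_map {U V : Y'.Etale} (g : V ⟶ U) (v : (Φ η).fiber.obj V) :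
    (Φ ζ).fiber.map ((G f e).map g) (ptG f e η ζ hζ V v) =
      ptG f e η ζ hζ U ((Φ η).fiber.map g v) := by
  apply Over.OverMorphism.ext
  apply pullback.hom_ext
  · exact ((Category.assoc _ _ _).trans
      ((congrArg ((ptG f e η ζ hζ V v).left ≫ ·) (G_map_left_fst f e g)).trans
        ((Category.assoc _ _ _).symm.trans
          (congrArg (· ≫ g.left) (ptG_left_fst f e η ζ hζ V v))))).trans
      (ptG_left_fst f e η ζ hζ U ((Φ η).fiber.map g v)).symm
  · exact ((Category.assoc _ _ _).trans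
      ((congrArg ((ptG f e η ζ hζ V v).left ≫ ·) (G_map_left_snd f e g)).trans
        (ptG_left_snd f e η ζ hζ V v))).trans
      (ptG_left_snd f e η ζ hζ U ((Φ η).fiber.map g v)).symm

/-- evaluation at `ζ` on the germ ring -/
noncomputable def εpt : germ f e η ⟶ CommRingCat.of Ω :=
  (Φ η).presheafFiberDesc (fun U u => evAt ζ ((G f e).obj U) (ptG f e η ζ hζ U u))
    (fun V U g v => by
      have h1 := evAt_w ζ ((G f e).map g) (ptG f e η ζ hζ V v)
      rw [ptG_map] at h1
      exact h1)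

lemma toFiber_εpt (U : Y'.Etale) (u : (Φ η).fiber.obj U) :
    (Φ η).toPresheafFiber U u (P f e) ≫ εpt f e η ζ hζ =
      evAt ζ ((G f e).obj U) (ptG f e η ζ hζ U u) :=
  (Φ η).toPresheafFiber_presheafFiberDesc _ _ U u

/-- the evaluation at the point `(η, ζ)` of `X ×_Y Y'` -/
noncomputable abbrev σpt : S f e ⟶ CommRingCat.of Ω :=
  evAt ζ ((G f e).obj (EtCoh.top Y')) (ptG f e η ζ hζ (EtCoh.top Y') (topPt η))

lemma s2c_εpt : s2c f e η ≫ εpt f e η ζ hζ = σpt f e η ζ hζ :=
  toFiber_εpt f e η ζ hζ _ _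

set_option backward.isDefEq.respectTransparency.types false in
lemma a2c_εpt : a2c f e η ≫ εpt f e η ζ hζ = ev η := by
  apply (Φ η).presheafFiber_hom_ext
  intro U u
  have h1 : (Φ η).toPresheafFiber U u (EtBase.OO Y') ≫ a2c f e η =
      (ν f e).app (op U) ≫ (Φ η).toPresheafFiber U u (P f e) :=
    (Φ η).toPresheafFiber_naturality (ν f e) U u
  rw [← Category.assoc, h1, Category.assoc, toFiber_εpt, toFiber_ev]
  unfold evAt
  rw [← Category.assoc]
  congr 1
  exact (Scheme.Hom.comp_appTop _ _).symm.trans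
    (congrArg Scheme.Hom.appTop (ptG_left_fst f e η ζ hζ U u))

open Groth.Agent.R2.H13.FinPt in
set_option backward.isDefEq.respectTransparency.types false in
set_option maxHeartbeats 1000000 in
/-- **Pointed key lemma (ring form)**. -/
theorem exists_germ_lift_pointed [IsAlgClosed Ω] (hφ : (φ f e).hom.Finite) {T : CommRingCat.{u}}
    (ψ : S f e ⟶ T) (hψ : ψ.hom.Etale)
    (Q : (S f e ⟶ CommRingCat.of Ω) → (T ⟶ CommRingCat.of Ω) → Prop)
    (hQ : ∀ σ : S f e ⟶ CommRingCat.of Ω, φ f e ≫ σ = ptHom η →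
      ∃ t : T ⟶ CommRingCat.of Ω, ψ ≫ t = σ ∧ Q σ t) :
    ∃ (U : Y'.Etale) (u : (Φ η).fiber.obj U) (g' : T ⟶ (P f e).obj (op U)),
      ψ ≫ g' = σ f e U ∧
      ∀ (ζ : Spec (CommRingCat.of Ω) ⟶ X) (hζ : ζ ≫ f = η ≫ e),
        Q (σpt f e η ζ hζ) (g' ≫ evAt ζ ((G f e).obj U) (ptG f e η ζ hζ U u)) := by
  letI : Algebra Γ(Y', ⊤) (S f e) := (φ f e).hom.toAlgebra
  letI : Algebra Γ(Y', ⊤) (EtBase.etaleLocalRing η) := (r2a η).hom.toAlgebra
  letI : Algebra (EtBase.etaleLocalRing η) (germ f e η) := (a2c f e η).hom.toAlgebra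
  letI : Algebra (S f e) (germ f e η) := (s2c f e η).hom.toAlgebra
  letI : Algebra Γ(Y', ⊤) (germ f e η) := (φ f e ≫ s2c f e η).hom.toAlgebra
  haveI : IsScalarTower Γ(Y', ⊤) (S f e) (germ f e η) :=
    IsScalarTower.of_algebraMap_eq (fun _ => rfl)
  haveI : IsScalarTower Γ(Y', ⊤) (EtBase.etaleLocalRing η) (germ f e η) :=
    IsScalarTower.of_algebraMap_eq (fun x => by
      change (φ f e ≫ s2c f e η).hom x = (r2a η ≫ a2c f e η).hom x
      rw [r2a_a2c])
  letI : Algebra (S f e) T := ψ.hom.toAlgebra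
  haveI : Algebra.Etale (S f e) T := hψ
  haveI : Module.Finite Γ(Y', ⊤) (S f e) := hφ
  haveI : IsSepClosed (IsLocalRing.ResidueField (EtBase.etaleLocalRing η)) :=
    isSepClosed_residueField
  obtain ⟨τ, hτ⟩ := exists_algHom_pointed (R := Γ(Y', ⊤)) (EtBase.etaleLocalRing η) (germ f e η)
    (S f e) T Ω (ev η).hom (fun a => (mem_maximalIdeal_iff a).symm)
    (fun σ t => Q (CommRingCat.ofHom σ) (CommRingCat.ofHom t))
    (by
      intro σ hσ
      obtain ⟨t, ht, hQt⟩ := hQ (CommRingCat.ofHom σ) (by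
        ext x
        have := RingHom.congr_fun hσ x
        rw [← r2a_ev]
        exact this)
      refine ⟨t.hom, ?_, hQt⟩
      ext x
      exact congrArg (fun m : S f e ⟶ CommRingCat.of Ω => m.hom x) ht)
  let g : T ⟶ germ f e η := CommRingCat.ofHom τ.toRingHom
  have hg : ψ ≫ g = s2c f e η := by
    ext s
    exact τ.commutes s
  have hfp : ψ.hom.FinitePresentation := hψ.finitePresentation
  obtain ⟨i, g', h1, h2⟩ := RingHom.EssFiniteType.exists_eq_comp_ι_app_of_isColimit (S f e)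
    (F f e η) (α f e η) ψ ((Φ η).presheafFiberCocone (P f e))
    ((Φ η).isColimitPresheafFiberCocone (P f e)) hfp g (by
      intro i
      exact hg.trans (σ_toPresheafFiber f e η i.unop.1 i.unop.2).symm)
  refine ⟨i.unop.1, i.unop.2, g', h1, ?_⟩
  intro ζ hζ
  have h3 := hτ (εpt f e η ζ hζ).hom (by
    ext a
    exact congrArg (fun m : EtBase.etaleLocalRing η ⟶ CommRingCat.of Ω => m.hom a)
      (a2c_εpt f e η ζ hζ))
  have e1 : CommRingCat.ofHom ((εpt f e η ζ hζ).hom.comp (algebraMap (S f e) (germ f e η))) =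
      σpt f e η ζ hζ := s2c_εpt f e η ζ hζ
  have e2 : CommRingCat.ofHom ((εpt f e η ζ hζ).hom.comp τ.toRingHom) =
      g' ≫ evAt ζ ((G f e).obj i.unop.1) (ptG f e η ζ hζ i.unop.1 i.unop.2) := by
    change g ≫ εpt f e η ζ hζ = _
    exact (congrArg (· ≫ εpt f e η ζ hζ) h2).trans ((Category.assoc _ _ _).trans
      (congrArg (g' ≫ ·) (toFiber_εpt f e η ζ hζ i.unop.1 i.unop.2)))
  exact Eq.mp (congrArg₂ Q e1 e2) h3

end Groth.Agent.R2.H13.FinPtGerm
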