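import Mathlib
import Groth.Agent.R2.H13FinGerm

/-!
# Étale-local splitting of étale coverings over a finite morphism (helper13)

Namespace `Groth.Agent.R2.H13.FinSplit`.

* `exists_lift_of_integral` : `f : X ⟶ Y` integral, `e : Y' ⟶ Y` étale with `Y'` affine, `ξ` a geometric point
  of `Y'`, `p : V ⟶ X ×_Y Y'` étale with `V` affine, covering the fibre over `ξ`.  Then for some étale
  neighbourhood `(U, u)` of `ξ` in `Y'` there is a morphism `X ×_Y U ⟶ V` over `X ×_Y Y'`.
-/

set_option autoImplicit false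
set_option linter.style.haveILetI false
universe u

namespace Groth.Agent.R2.H13.FinSplit

open CategoryTheory CategoryTheory.Limits AlgebraicGeometry Opposite
open Groth.Agent.R2.H1.EtLocalRing Groth.Agent.R2.H13.FinGerm

variable {X Y Y' : Scheme.{u}} (f : X ⟶ Y) (e : Y' ⟶ Y) [Etale e]

/-- `X ×_Y Y'` -/
noncomputable abbrev X' : Scheme.{u} := ((G f e).obj (EtCoh.top Y')).left

/-- the projection `X ×_Y Y' ⟶ Y'` -/
noncomputable abbrev f' : X' f e ⟶ Y' := pullback.fst (𝟙 Y' ≫ e) f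

instance [IsIntegralHom f] : IsIntegralHom (f' f e) :=
  MorphismProperty.pullback_fst (P := @IsIntegralHom) _ _ inferInstance

instance [IsIntegralHom f] [IsAffine Y'] : IsAffine (X' f e) :=
  isAffine_of_isAffineHom (f' f e)

lemma integral_φ [IsIntegralHom f] [IsAffine Y'] : (φ f e).hom.IsIntegral :=
  ((HasAffineProperty.iff_of_isAffine (P := @IsIntegralHom) (f := f' f e)).mp inferInstance).2

lemma asIdeal_SpecMap {A B : CommRingCat.{u}} (g : A ⟶ B) (x : Spec B) :
    (Spec.map g x).asIdeal = x.asIdeal.comap g.hom := rfl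

variable {Ω : Type u} [Field Ω] [IsSepClosed Ω] (ξ : Spec (CommRingCat.of Ω) ⟶ Y')

omit [IsSepClosed Ω] in
/-- the image of the geometric point in `Spec Γ(Y')` is the kernel of `ptHom ξ` -/
lemma toSpecΓ_pt :
    (Y'.toSpecΓ (ξ default)).asIdeal = RingHom.ker (ptHom ξ).hom := by
  have h1 : ξ ≫ Y'.toSpecΓ = Spec.map (ptHom ξ) := by
    rw [Scheme.toSpecΓ_naturality, ← SpecMap_ΓSpecIso_hom, ← Spec.map_comp]
  have h2 : Y'.toSpecΓ (ξ default) = Spec.map (ptHom ξ) default := by
    rw [← h1]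
    rfl
  rw [h2, asIdeal_SpecMap]
  have : (default : Spec (CommRingCat.of Ω)).asIdeal = ⊥ :=
    ((Ideal.eq_bot_or_top _).resolve_right (default : Spec (CommRingCat.of Ω)).2.ne_top)
  rw [this]
  rfl

set_option backward.isDefEq.respectTransparency.types false in
/-- **Key lemma (scheme form, affine base)**. -/
theorem exists_lift_of_integral [IsIntegralHom f] [IsAffine Y'] {V : Scheme.{u}} [IsAffine V]
    (p : V ⟶ X' f e) [Etale p]
    (hcov : ∀ x' : X' f e, f' f e x' = ξ default → x' ∈ Set.range p) :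
    ∃ (U : Y'.Etale) (_ : (Φ ξ).fiber.obj U) (h : ((G f e).obj U).left ⟶ V),
      h ≫ p = ((G f e).map (toTop U)).left := by
  have hψ : p.appTop.hom.Etale := (HasRingHomProperty.iff_of_isAffine (P := @Etale)).mp inferInstance
  obtain ⟨U, u, g', hg'⟩ := exists_germ_lift f e ξ (integral_φ f e) p.appTop hψ (by
    intro r hr hrp
    let x' : X' f e := (X' f e).isoSpec.inv ⟨r, hr⟩
    have hx' : (X' f e).toSpecΓ x' = ⟨r, hr⟩ := by
      change ((X' f e).isoSpec.inv ≫ (X' f e).toSpecΓ) ⟨r, hr⟩ = _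
      rw [Scheme.isoSpec_inv_toSpecΓ]
      rfl
    have hfx : f' f e x' = ξ default := by
      have hinj : Function.Injective Y'.toSpecΓ := by
        have : IsIso Y'.toSpecΓ := inferInstance
        exact (ConcreteCategory.bijective_of_isIso Y'.toSpecΓ.base).1
      apply hinj
      apply PrimeSpectrum.ext
      rw [toSpecΓ_pt]
      have h1 : Y'.toSpecΓ (f' f e x') = Spec.map (φ f e) ((X' f e).toSpecΓ x') := by
        change (f' f e ≫ Y'.toSpecΓ) x' = _
        rw [Scheme.toSpecΓ_naturality]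
        rfl
      rw [h1, hx', asIdeal_SpecMap]
      exact hrp
    obtain ⟨v, hv⟩ := hcov x' hfx
    refine ⟨(V.toSpecΓ v).asIdeal, (V.toSpecΓ v).2, ?_⟩
    have h2 : Spec.map p.appTop (V.toSpecΓ v) = (X' f e).toSpecΓ (p v) := by
      change _ = (p ≫ (X' f e).toSpecΓ) v
      rw [Scheme.toSpecΓ_naturality]
      rfl
    have h3 : (X' f e).toSpecΓ (p v) = ⟨r, hr⟩ := (congrArg (X' f e).toSpecΓ hv).trans hx'
    exact congrArg PrimeSpectrum.asIdeal (h2.trans h3))
  let W := ((G f e).obj U).left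
  let t : W ⟶ X' f e := ((G f e).map (toTop U)).left
  have hσ : σ f e U = t.appTop := rfl
  refine ⟨U, u, W.toSpecΓ ≫ Spec.map g' ≫ V.isoSpec.inv, ?_⟩
  have hmono : Mono (X' f e).toSpecΓ := inferInstance
  rw [← cancel_mono (X' f e).toSpecΓ]
  have e1 : V.isoSpec.inv ≫ p ≫ (X' f e).toSpecΓ = Spec.map p.appTop := by
    rw [Scheme.toSpecΓ_naturality, ← Category.assoc, Scheme.isoSpec_inv_toSpecΓ, Category.id_comp]
  calc (W.toSpecΓ ≫ Spec.map g' ≫ V.isoSpec.inv) ≫ p ≫ (X' f e).toSpecΓ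
      = W.toSpecΓ ≫ Spec.map g' ≫ (V.isoSpec.inv ≫ p ≫ (X' f e).toSpecΓ) := by
        simp only [Category.assoc]
    _ = W.toSpecΓ ≫ Spec.map (p.appTop ≫ g') := by rw [e1, Spec.map_comp]
    _ = W.toSpecΓ ≫ Spec.map t.appTop :=
        congrArg (fun z => W.toSpecΓ ≫ Spec.map z) (hg'.trans hσ)
    _ = t ≫ (X' f e).toSpecΓ := (Scheme.toSpecΓ_naturality t).symm

end Groth.Agent.R2.H13.FinSplit
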