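import Mathlib
import Groth.Agent.R2.H13FinPtGerm
import Groth.Agent.R2.H13FinSplit

/-!
# Pointed étale-local splitting over a finite morphism (helper13)

Namespace `Groth.Agent.R2.H13.FinPtSplit`.

* `evΓ`, `ofΓ` : `Ω`-points of (affine) schemes versus ring maps `Γ(Z) ⟶ Ω`.
* `ptB` : the point `(v, ζ)` of `X ×_Y V` for an étale neighbourhood `(V, v)` of `η` in `Y` and a
  geometric point `ζ` of `X` over `η`.
* `finite_pts` : a finite morphism has finitely many geometric points over a geometric point.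
* `exists_pointed_split` : **pointed splitting lemma**.
-/

set_option autoImplicit false
set_option linter.style.haveILetI false
universe u

namespace Groth.Agent.R2.H13.FinPtSplit

open CategoryTheory CategoryTheory.Limits AlgebraicGeometry Opposite
open Groth.Agent.R2.H1.EtLocalRing Groth.Agent.R2.H13.FinGerm Groth.Agent.R2.H13.FinSplit
open Groth.Agent.R2.H13.FinPtGerm

section Points

variable {Ω : Type u} [Field Ω]

/-- evaluation of global functions at an `Ω`-point -/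
noncomputable def evΓ {Z : Scheme.{u}} (z : Spec (CommRingCat.of Ω) ⟶ Z) :
    Γ(Z, ⊤) ⟶ CommRingCat.of Ω :=
  z.appTop ≫ (Scheme.ΓSpecIso (CommRingCat.of Ω)).hom

lemma evΓ_comp {Z Z' : Scheme.{u}} (z : Spec (CommRingCat.of Ω) ⟶ Z) (h : Z ⟶ Z') :
    evΓ (z ≫ h) = h.appTop ≫ evΓ z :=
  (congrArg (· ≫ (Scheme.ΓSpecIso (CommRingCat.of Ω)).hom) (Scheme.Hom.comp_appTop z h)).trans
    (Category.assoc _ _ _)

lemma evΓ_injective {Z : Scheme.{u}} [IsAffine Z] {z₁ z₂ : Spec (CommRingCat.of Ω) ⟶ Z}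
    (h : evΓ z₁ = evΓ z₂) : z₁ = z₂ := by
  apply ext_of_isAffine
  exact (cancel_mono (Scheme.ΓSpecIso (CommRingCat.of Ω)).hom).mp h

/-- the `Ω`-point of an affine scheme defined by a ring map -/
noncomputable def ofΓ {Z : Scheme.{u}} [IsAffine Z] (σ : Γ(Z, ⊤) ⟶ CommRingCat.of Ω) :
    Spec (CommRingCat.of Ω) ⟶ Z :=
  Spec.map σ ≫ Z.isoSpec.inv

lemma isoSpec_inv_appTop (Z : Scheme.{u}) [IsAffine Z] :
    Z.isoSpec.inv.appTop = (Scheme.ΓSpecIso Γ(Z, ⊤)).inv := by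
  have h2 : Z.isoSpec.hom.appTop = (Scheme.ΓSpecIso Γ(Z, ⊤)).hom := Scheme.toSpecΓ_appTop Z
  have h3 : Z.isoSpec.hom.appTop ≫ Z.isoSpec.inv.appTop = 𝟙 _ := by
    rw [← Scheme.Hom.comp_appTop, Iso.inv_hom_id]
    rfl
  rw [h2] at h3
  exact (Iso.eq_inv_comp _).mpr h3 |>.trans (Category.comp_id _)

lemma evΓ_ofΓ {Z : Scheme.{u}} [IsAffine Z] (σ : Γ(Z, ⊤) ⟶ CommRingCat.of Ω) :
    evΓ (ofΓ σ) = σ := by
  unfold evΓ ofΓ
  rw [Scheme.Hom.comp_appTop, Category.assoc, Scheme.ΓSpecIso_naturality, isoSpec_inv_appTop,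
    Iso.inv_hom_id_assoc]

/-- the morphism to an affine scheme attached to a ring map has that ring map as global sections -/
lemma appTop_toSpecΓ_map_isoSpec_inv {W V : Scheme.{u}} [IsAffine V] (g' : Γ(V, ⊤) ⟶ Γ(W, ⊤)) :
    (W.toSpecΓ ≫ Spec.map g' ≫ V.isoSpec.inv).appTop = g' := by
  rw [Scheme.Hom.comp_appTop, Scheme.Hom.comp_appTop, isoSpec_inv_appTop, Scheme.toSpecΓ_appTop,
    Category.assoc, Scheme.ΓSpecIso_naturality, Iso.inv_hom_id_assoc]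

end Points

section PtB

variable {X Y : Scheme.{u}} (f : X ⟶ Y) {Ω : Type u} [Field Ω] [IsSepClosed Ω]
  (η₀ : Spec (CommRingCat.of Ω) ⟶ Y) (ζ : Spec (CommRingCat.of Ω) ⟶ X) (hζ : ζ ≫ f = η₀)

set_option backward.isDefEq.respectTransparency.types false in
/-- the point `(v, ζ)` of `X ×_Y V` -/
noncomputable def ptB (V : Y.Etale) (v : (Φ η₀).fiber.obj V) :
    (Φ ζ).fiber.obj ((EtCoh.bc f).obj V) :=
  Over.homMk (pullback.lift v.left ζ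
    (show v.left ≫ V.hom = ζ ≫ f from (fiber_w η₀ V v).trans hζ.symm))
    (pullback.lift_snd _ _ _)

set_option backward.isDefEq.respectTransparency.types false in
lemma ptB_left_fst (V : Y.Etale) (v : (Φ η₀).fiber.obj V) :
    (ptB f η₀ ζ hζ V v).left ≫ pullback.fst V.hom f = v.left :=
  pullback.lift_fst _ _ _

set_option backward.isDefEq.respectTransparency.types false in
lemma ptB_left_snd (V : Y.Etale) (v : (Φ η₀).fiber.obj V) :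
    (ptB f η₀ ζ hζ V v).left ≫ pullback.snd V.hom f = ζ :=
  pullback.lift_snd _ _ _

set_option backward.isDefEq.respectTransparency.types false in
lemma bc_map_left_snd {V V' : Y.Etale} (g : V' ⟶ V) :
    ((EtCoh.bc f).map g).left ≫ pullback.snd V.hom f = pullback.snd V'.hom f := by
  dsimp [EtCoh.bc]
  exact pullback.lift_snd _ _ _

set_option backward.isDefEq.respectTransparency.types false in
lemma bc_map_left_fst {V V' : Y.Etale} (g : V' ⟶ V) :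
    ((EtCoh.bc f).map g).left ≫ pullback.fst V.hom f = pullback.fst V'.hom f ≫ g.left := by
  dsimp [EtCoh.bc]
  exact pullback.lift_fst _ _ _

set_option backward.isDefEq.respectTransparency.types false in
lemma ptB_map {V V' : Y.Etale} (g : V' ⟶ V) (v' : (Φ η₀).fiber.obj V') :
    (Φ ζ).fiber.map ((EtCoh.bc f).map g) (ptB f η₀ ζ hζ V' v') =
      ptB f η₀ ζ hζ V ((Φ η₀).fiber.map g v') := by
  apply Over.OverMorphism.ext
  apply pullback.hom_ext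
  · exact ((Category.assoc _ _ _).trans
      ((congrArg ((ptB f η₀ ζ hζ V' v').left ≫ ·) (bc_map_left_fst f g)).trans
        ((Category.assoc _ _ _).symm.trans
          (congrArg (· ≫ g.left) (ptB_left_fst f η₀ ζ hζ V' v'))))).trans
      (ptB_left_fst f η₀ ζ hζ V ((Φ η₀).fiber.map g v')).symm
  · exact ((Category.assoc _ _ _).trans
      ((congrArg ((ptB f η₀ ζ hζ V' v').left ≫ ·) (bc_map_left_snd f g)).trans
        (ptB_left_snd f η₀ ζ hζ V' v'))).trans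
      (ptB_left_snd f η₀ ζ hζ V ((Φ η₀).fiber.map g v')).symm

end PtB

section Affine

variable {X Y Y' : Scheme.{u}} (f : X ⟶ Y) (e : Y' ⟶ Y) [IsOpenImmersion e]
variable {Ω : Type u} [Field Ω] [IsSepClosed Ω] (η : Spec (CommRingCat.of Ω) ⟶ Y')

instance [IsFinite f] : IsFinite (f' f e) :=
  MorphismProperty.pullback_fst (P := @IsFinite) _ _ inferInstance

lemma finite_φ [IsFinite f] [IsAffine Y'] : (φ f e).hom.Finite :=
  ((HasAffineProperty.iff_of_isAffine (P := @IsFinite) (f := f' f e)).mp inferInstance).2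

/-- the projection `X ×_Y Y' ⟶ X` -/
noncomputable abbrev s' : X' f e ⟶ X := pullback.snd (𝟙 Y' ≫ e) f

instance : IsOpenImmersion (s' f e) := inferInstanceAs (IsOpenImmersion (pullback.snd (𝟙 Y' ≫ e) f))

/-- the point `(η, ζ)` of `X ×_Y Y'` -/
noncomputable abbrev zpt (ζ : Spec (CommRingCat.of Ω) ⟶ X) (hζ : ζ ≫ f = η ≫ e) :
    Spec (CommRingCat.of Ω) ⟶ X' f e :=
  (ptG f e η ζ hζ (EtCoh.top Y') (topPt η)).left

lemma zpt_f' (ζ : Spec (CommRingCat.of Ω) ⟶ X) (hζ : ζ ≫ f = η ≫ e) :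
    zpt f e η ζ hζ ≫ f' f e = η :=
  ptG_left_fst f e η ζ hζ _ _

lemma zpt_s' (ζ : Spec (CommRingCat.of Ω) ⟶ X) (hζ : ζ ≫ f = η ≫ e) :
    zpt f e η ζ hζ ≫ s' f e = ζ :=
  ptG_left_snd f e η ζ hζ _ _

lemma σpt_eq (ζ : Spec (CommRingCat.of Ω) ⟶ X) (hζ : ζ ≫ f = η ≫ e) :
    σpt f e η ζ hζ = evΓ (zpt f e η ζ hζ) := rfl

lemma φ_σpt (ζ : Spec (CommRingCat.of Ω) ⟶ X) (hζ : ζ ≫ f = η ≫ e) :
    φ f e ≫ σpt f e η ζ hζ = ptHom η := by
  rw [σpt_eq]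
  exact (evΓ_comp (zpt f e η ζ hζ) (f' f e)).symm.trans (congrArg evΓ (zpt_f' f e η ζ hζ))

lemma σpt_injective [IsIntegralHom f] [IsAffine Y'] {ζ₁ ζ₂ : Spec (CommRingCat.of Ω) ⟶ X}
    (h₁ : ζ₁ ≫ f = η ≫ e) (h₂ : ζ₂ ≫ f = η ≫ e)
    (h : σpt f e η ζ₁ h₁ = σpt f e η ζ₂ h₂) : ζ₁ = ζ₂ := by
  have h3 : zpt f e η ζ₁ h₁ = zpt f e η ζ₂ h₂ := evΓ_injective h
  rw [← zpt_s' f e η ζ₁ h₁, ← zpt_s' f e η ζ₂ h₂, h3]

/-- every ring map `Γ(X ×_Y Y') ⟶ Ω` over the point `η` is the evaluation at a geometric point of `X`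
over `η` -/
lemma exists_σpt_eq [IsIntegralHom f] [IsAffine Y'] (σ : S f e ⟶ CommRingCat.of Ω)
    (hσ : φ f e ≫ σ = ptHom η) :
    ∃ (ζ : Spec (CommRingCat.of Ω) ⟶ X) (hζ : ζ ≫ f = η ≫ e), σpt f e η ζ hζ = σ := by
  let z : Spec (CommRingCat.of Ω) ⟶ X' f e := ofΓ σ
  have hz : z ≫ f' f e = η := by
    apply evΓ_injective
    rw [evΓ_comp, evΓ_ofΓ]
    exact hσ
  have hc : f' f e ≫ (𝟙 Y' ≫ e) = s' f e ≫ f := pullback.condition
  have hζ : (z ≫ s' f e) ≫ f = η ≫ e :=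
    (Category.assoc _ _ _).trans ((congrArg (z ≫ ·) hc.symm).trans
      ((Category.assoc _ _ _).symm.trans
        ((congrArg (· ≫ (𝟙 Y' ≫ e)) hz).trans (congrArg (η ≫ ·) (Category.id_comp e)))))
  refine ⟨z ≫ s' f e, hζ, ?_⟩
  have hzz : zpt f e η (z ≫ s' f e) hζ = z := by
    apply pullback.hom_ext
    · exact (zpt_f' f e η _ hζ).trans hz.symm
    · exact zpt_s' f e η _ hζ
  rw [σpt_eq, hzz]
  exact evΓ_ofΓ (Z := X' f e) σ

/-- a finite morphism has finitely many geometric points over a given geometric point -/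
lemma finite_pts_aux [IsFinite f] [IsAffine Y'] :
    Finite {ζ : Spec (CommRingCat.of Ω) ⟶ X // ζ ≫ f = η ≫ e} := by
  letI : Algebra Γ(Y', ⊤) (S f e) := (φ f e).hom.toAlgebra
  letI : Algebra Γ(Y', ⊤) Ω := (ptHom η).hom.toAlgebra
  haveI : Module.Finite Γ(Y', ⊤) (S f e) := finite_φ f e
  let F : {ζ : Spec (CommRingCat.of Ω) ⟶ X // ζ ≫ f = η ≫ e} → (S f e →ₐ[Γ(Y', ⊤)] Ω) :=
    fun ζ => { (σpt f e η ζ.1 ζ.2).hom with
      commutes' := fun r =>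
        congrArg (fun m : Γ(Y', ⊤) ⟶ CommRingCat.of Ω => m.hom r) (φ_σpt f e η ζ.1 ζ.2) }
  apply Finite.of_injective F
  intro ζ₁ ζ₂ h
  apply Subtype.ext
  apply σpt_injective f e η ζ₁.2 ζ₂.2
  ext x
  exact congrArg (fun m : S f e →ₐ[Γ(Y', ⊤)] Ω => m x) h

set_option backward.isDefEq.respectTransparency.types false in
set_option maxHeartbeats 4000000 in
/-- **Pointed splitting lemma (affine base)**. -/
theorem exists_pointed_split_aux [IsFinite f] [IsAffine Y'] [IsAlgClosed Ω]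
    (W : {ζ : Spec (CommRingCat.of Ω) ⟶ X // ζ ≫ f = η ≫ e} → X.Etale)
    (w : ∀ ζ, (Φ ζ.1).fiber.obj (W ζ)) :
    ∃ (U : Y'.Etale) (u : (Φ η).fiber.obj U)
      (W' : {ζ : Spec (CommRingCat.of Ω) ⟶ X // ζ ≫ f = η ≫ e} → X.Etale)
      (a : ∀ ζ, W' ζ ⟶ (G f e).obj U) (h : ∀ ζ, W' ζ ⟶ W ζ)
      (p : ∀ ζ, (Φ ζ.1).fiber.obj (W' ζ)),
      (∀ ζ, IsOpenImmersion (a ζ).left) ∧
      (∀ ζ ζ', ζ ≠ ζ' → Disjoint (Set.range (a ζ).left) (Set.range (a ζ').left)) ∧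
      (⋃ ζ, Set.range (a ζ).left) = Set.univ ∧
      (∀ ζ, (Φ ζ.1).fiber.map (a ζ) (p ζ) = ptG f e η ζ.1 ζ.2 U u) ∧
      (∀ ζ, (Φ ζ.1).fiber.map (h ζ) (p ζ) = w ζ) := by
  classical
  haveI : Finite {ζ : Spec (CommRingCat.of Ω) ⟶ X // ζ ≫ f = η ≫ e} := finite_pts_aux f e η
  -- affine neighbourhoods of the chosen points
  obtain ⟨wl, hwdef⟩ : ∃ wl : ∀ ζ : {ζ : Spec (CommRingCat.of Ω) ⟶ X // ζ ≫ f = η ≫ e},
      Spec (CommRingCat.of Ω) ⟶ (W ζ).left, ∀ ζ, wl ζ = (w ζ).left := ⟨_, fun _ => rfl⟩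
  have hwl : ∀ ζ : {ζ : Spec (CommRingCat.of Ω) ⟶ X // ζ ≫ f = η ≫ e},
      wl ζ ≫ (W ζ).hom = ζ.1 := fun ζ => (hwdef ζ).symm ▸ Over.w (w ζ)
  have hmem : ∀ ζ : {ζ : Spec (CommRingCat.of Ω) ⟶ X // ζ ≫ f = η ≫ e},
      (wl ζ).base (default : Spec (CommRingCat.of Ω)) ∈
        ((W ζ).hom ⁻¹ᵁ (s' f e).opensRange : (W ζ).left.Opens) := by
    intro ζ
    refine ⟨(zpt f e η ζ.1 ζ.2).base (default : Spec (CommRingCat.of Ω)), ?_⟩
    change (zpt f e η ζ.1 ζ.2 ≫ s' f e).base (default : Spec (CommRingCat.of Ω)) =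
      (wl ζ ≫ (W ζ).hom).base (default : Spec (CommRingCat.of Ω))
    rw [zpt_s', hwl]
  have haff : ∀ ζ : {ζ : Spec (CommRingCat.of Ω) ⟶ X // ζ ≫ f = η ≫ e},
      ∃ O : (W ζ).left.Opens, IsAffineOpen O ∧
        (wl ζ).base (default : Spec (CommRingCat.of Ω)) ∈ O ∧
        O ≤ (W ζ).hom ⁻¹ᵁ (s' f e).opensRange := fun ζ =>
    exists_isAffineOpen_mem_and_subset (hmem ζ)
  choose O hO hwO hOle using haff
  -- the maps `O ζ ⟶ X'`
  have hsubr : ∀ ζ : {ζ : Spec (CommRingCat.of Ω) ⟶ X // ζ ≫ f = η ≫ e},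
      Set.range ((O ζ).ι ≫ (W ζ).hom) ⊆ Set.range (s' f e) := by
    rintro ζ _ ⟨x, rfl⟩
    exact hOle ζ x.2
  let pO : ∀ ζ : {ζ : Spec (CommRingCat.of Ω) ⟶ X // ζ ≫ f = η ≫ e},
      ((O ζ : (W ζ).left.Opens) : Scheme.{u}) ⟶ X' f e := fun ζ =>
    IsOpenImmersion.lift (s' f e) ((O ζ).ι ≫ (W ζ).hom) (hsubr ζ)
  have hpO : ∀ ζ, pO ζ ≫ s' f e = (O ζ).ι ≫ (W ζ).hom := fun ζ => IsOpenImmersion.lift_fac _ _ _
  have hpOet : ∀ ζ, Etale (pO ζ) := by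
    intro ζ
    have h1 : EtCoh.etaleMP (s' f e) := inferInstanceAs (Etale (s' f e))
    have h2 : EtCoh.etaleMP (pO ζ ≫ s' f e) := by
      rw [hpO]
      exact inferInstanceAs (Etale ((O ζ).ι ≫ (W ζ).hom))
    exact EtCoh.etaleMP.of_postcomp (W' := EtCoh.etaleMP) (pO ζ) (s' f e) h1 h2
  -- the points of `O ζ`
  have hsubo : ∀ ζ : {ζ : Spec (CommRingCat.of Ω) ⟶ X // ζ ≫ f = η ≫ e},
      Set.range (wl ζ) ⊆ Set.range (O ζ).ι := by
    rintro ζ _ ⟨x, rfl⟩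
    rw [Scheme.Opens.range_ι, Subsingleton.elim x (default : Spec (CommRingCat.of Ω))]
    exact hwO ζ
  let o : ∀ ζ : {ζ : Spec (CommRingCat.of Ω) ⟶ X // ζ ≫ f = η ≫ e},
      Spec (CommRingCat.of Ω) ⟶ ((O ζ : (W ζ).left.Opens) : Scheme.{u}) := fun ζ =>
    IsOpenImmersion.lift (O ζ).ι (wl ζ) (hsubo ζ)
  have ho : ∀ ζ, o ζ ≫ (O ζ).ι = wl ζ := fun ζ => IsOpenImmersion.lift_fac _ _ _
  have hop : ∀ ζ, o ζ ≫ pO ζ = zpt f e η ζ.1 ζ.2 := by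
    intro ζ
    refine (cancel_mono (s' f e)).mp ?_
    exact (Category.assoc _ _ _).trans ((congrArg (o ζ ≫ ·) (hpO ζ)).trans
      ((Category.assoc _ _ _).symm.trans ((congrArg (· ≫ (W ζ).hom) (ho ζ)).trans
        ((hwl ζ).trans (zpt_s' f e η ζ.1 ζ.2).symm))))
  -- the affine étale `X'`-scheme `V = ∐ O ζ`
  let OS : {ζ : Spec (CommRingCat.of Ω) ⟶ X // ζ ≫ f = η ≫ e} → Scheme.{u} :=
    fun ζ => (O ζ : (W ζ).left.Opens)
  haveI : ∀ ζ, IsAffine (OS ζ) := fun ζ => hO ζ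
  let V : Scheme.{u} := ∐ OS
  haveI : IsAffine V := inferInstance
  let p : V ⟶ X' f e := Sigma.desc pO
  haveI : Etale p := IsZariskiLocalAtSource.sigmaDesc (fun ζ => hpOet ζ)
  have hp : ∀ ζ, Sigma.ι OS ζ ≫ p = pO ζ := fun ζ => Sigma.ι_desc _ _
  have hψ : p.appTop.hom.Etale :=
    (HasRingHomProperty.iff_of_isAffine (P := @Etale)).mp inferInstance
  let ov : ∀ ζ : {ζ : Spec (CommRingCat.of Ω) ⟶ X // ζ ≫ f = η ≫ e},
      Spec (CommRingCat.of Ω) ⟶ V := fun ζ => o ζ ≫ Sigma.ι OS ζ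
  have hovp : ∀ ζ, ov ζ ≫ p = zpt f e η ζ.1 ζ.2 := fun ζ =>
    (Category.assoc _ _ _).trans ((congrArg (o ζ ≫ ·) (hp ζ)).trans (hop ζ))
  obtain ⟨U, u, g', hg', hpt⟩ := exists_germ_lift_pointed f e η (finite_φ f e) p.appTop hψ
    (fun σ t => ∀ ζ : {ζ : Spec (CommRingCat.of Ω) ⟶ X // ζ ≫ f = η ≫ e},
      σ = σpt f e η ζ.1 ζ.2 → t = evΓ (ov ζ))
    (by
      intro σ hσ
      obtain ⟨ζ₀, hζ₀, hσ₀⟩ := exists_σpt_eq f e η σ hσ
      refine ⟨evΓ (ov ⟨ζ₀, hζ₀⟩), ?_, ?_⟩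
      · rw [← hσ₀, σpt_eq, ← hovp ⟨ζ₀, hζ₀⟩]
        exact (evΓ_comp _ _).symm
      · intro ζ hζ
        have : ζ = ⟨ζ₀, hζ₀⟩ :=
          Subtype.ext (σpt_injective f e η ζ.2 hζ₀ (hζ.symm.trans hσ₀.symm))
        rw [this])
  let Wsch : Scheme.{u} := ((G f e).obj U).left
  let t : Wsch ⟶ X' f e := ((G f e).map (toTop U)).left
  have hσt : σ f e U = t.appTop := rfl
  let h : Wsch ⟶ V := Wsch.toSpecΓ ≫ Spec.map g' ≫ V.isoSpec.inv
  have hh : h ≫ p = t := by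
    have hmono : Mono (X' f e).toSpecΓ := inferInstance
    rw [← cancel_mono (X' f e).toSpecΓ]
    have e1 : V.isoSpec.inv ≫ p ≫ (X' f e).toSpecΓ = Spec.map p.appTop := by
      rw [Scheme.toSpecΓ_naturality, ← Category.assoc, Scheme.isoSpec_inv_toSpecΓ,
        Category.id_comp]
    calc (Wsch.toSpecΓ ≫ Spec.map g' ≫ V.isoSpec.inv) ≫ p ≫ (X' f e).toSpecΓ
        = Wsch.toSpecΓ ≫ Spec.map g' ≫ (V.isoSpec.inv ≫ p ≫ (X' f e).toSpecΓ) := by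
          simp only [Category.assoc]
      _ = Wsch.toSpecΓ ≫ Spec.map (p.appTop ≫ g') := by rw [e1, Spec.map_comp]
      _ = Wsch.toSpecΓ ≫ Spec.map t.appTop :=
          congrArg (fun z => Wsch.toSpecΓ ≫ Spec.map z) (hg'.trans hσt)
      _ = t ≫ (X' f e).toSpecΓ := (Scheme.toSpecΓ_naturality t).symm
  have happ : h.appTop = g' := appTop_toSpecΓ_map_isoSpec_inv g'
  have hpth : ∀ ζ : {ζ : Spec (CommRingCat.of Ω) ⟶ X // ζ ≫ f = η ≫ e},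
      (ptG f e η ζ.1 ζ.2 U u).left ≫ h = ov ζ := by
    intro ζ
    apply evΓ_injective
    rw [evΓ_comp, happ]
    exact hpt ζ.1 ζ.2 ζ rfl
  -- the decomposition of `X ×_Y U`
  let Wop : {ζ : Spec (CommRingCat.of Ω) ⟶ X // ζ ≫ f = η ≫ e} → Wsch.Opens :=
    fun ζ => h ⁻¹ᵁ (Sigma.ι OS ζ).opensRange
  let W' : {ζ : Spec (CommRingCat.of Ω) ⟶ X // ζ ≫ f = η ≫ e} → X.Etale :=
    fun ζ => Scheme.Etale.mk ((Wop ζ).ι ≫ ((G f e).obj U).hom)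
  let a : ∀ ζ, W' ζ ⟶ (G f e).obj U :=
    fun ζ => MorphismProperty.Over.homMk (Wop ζ).ι rfl trivial
  have hrange : ∀ ζ, Set.range (a ζ).left = (Wop ζ : Set Wsch) :=
    fun ζ => Scheme.Opens.range_ι _
  have hsubl : ∀ ζ, Set.range ((Wop ζ).ι ≫ h) ⊆ Set.range (Sigma.ι OS ζ) := by
    rintro ζ _ ⟨z, rfl⟩
    exact z.2
  let l : ∀ ζ, ((Wop ζ : Wsch.Opens) : Scheme.{u}) ⟶ OS ζ :=
    fun ζ => IsOpenImmersion.lift (Sigma.ι OS ζ) ((Wop ζ).ι ≫ h) (hsubl ζ)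
  have hl : ∀ ζ, l ζ ≫ Sigma.ι OS ζ = (Wop ζ).ι ≫ h := fun ζ => IsOpenImmersion.lift_fac _ _ _
  have hGU : ((G f e).obj U).hom = t ≫ s' f e := (Over.w ((G f e).map (toTop U)).hom).symm
  have hkey : ∀ ζ, (l ζ ≫ (O ζ).ι) ≫ (W ζ).hom = (Wop ζ).ι ≫ ((G f e).obj U).hom := by
    intro ζ
    calc (l ζ ≫ (O ζ).ι) ≫ (W ζ).hom
        = l ζ ≫ ((O ζ).ι ≫ (W ζ).hom) := Category.assoc _ _ _
      _ = l ζ ≫ (pO ζ ≫ s' f e) := congrArg (l ζ ≫ ·) (hpO ζ).symm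
      _ = l ζ ≫ ((Sigma.ι OS ζ ≫ p) ≫ s' f e) :=
          congrArg (fun m => l ζ ≫ (m ≫ s' f e)) (hp ζ).symm
      _ = (l ζ ≫ Sigma.ι OS ζ) ≫ (p ≫ s' f e) := by simp only [Category.assoc]
      _ = ((Wop ζ).ι ≫ h) ≫ (p ≫ s' f e) := congrArg (· ≫ (p ≫ s' f e)) (hl ζ)
      _ = (Wop ζ).ι ≫ ((h ≫ p) ≫ s' f e) := by simp only [Category.assoc]
      _ = (Wop ζ).ι ≫ (t ≫ s' f e) := congrArg (fun m => (Wop ζ).ι ≫ (m ≫ s' f e)) hh
      _ = (Wop ζ).ι ≫ ((G f e).obj U).hom := congrArg ((Wop ζ).ι ≫ ·) hGU.symm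
  let hm : ∀ ζ, W' ζ ⟶ W ζ :=
    fun ζ => MorphismProperty.Over.homMk (l ζ ≫ (O ζ).ι) (hkey ζ) trivial
  -- the points
  obtain ⟨pg, hpg⟩ : ∃ pg : ∀ ζ : {ζ : Spec (CommRingCat.of Ω) ⟶ X // ζ ≫ f = η ≫ e},
      Spec (CommRingCat.of Ω) ⟶ Wsch, ∀ ζ, pg ζ = (ptG f e η ζ.1 ζ.2 U u).left :=
    ⟨_, fun _ => rfl⟩
  have hpgh : ∀ ζ, pg ζ ≫ h = ov ζ := fun ζ => (hpg ζ).symm ▸ hpth ζ
  have hpgw : ∀ ζ : {ζ : Spec (CommRingCat.of Ω) ⟶ X // ζ ≫ f = η ≫ e},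
      pg ζ ≫ ((G f e).obj U).hom = ζ.1 := fun ζ =>
    (hpg ζ).symm ▸ ptG_left_snd f e η ζ.1 ζ.2 U u
  have hsubp : ∀ ζ : {ζ : Spec (CommRingCat.of Ω) ⟶ X // ζ ≫ f = η ≫ e},
      Set.range (pg ζ) ⊆ Set.range (Wop ζ).ι := by
    rintro ζ _ ⟨x, rfl⟩
    rw [Scheme.Opens.range_ι]
    change (pg ζ ≫ h).base x ∈ Set.range (Sigma.ι OS ζ)
    rw [hpgh]
    exact ⟨(o ζ).base x, rfl⟩
  let pl : ∀ ζ : {ζ : Spec (CommRingCat.of Ω) ⟶ X // ζ ≫ f = η ≫ e},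
      Spec (CommRingCat.of Ω) ⟶ ((Wop ζ : Wsch.Opens) : Scheme.{u}) :=
    fun ζ => IsOpenImmersion.lift (Wop ζ).ι (pg ζ) (hsubp ζ)
  have hpl : ∀ ζ, pl ζ ≫ (Wop ζ).ι = pg ζ :=
    fun ζ => IsOpenImmersion.lift_fac _ _ _
  have hplw : ∀ ζ : {ζ : Spec (CommRingCat.of Ω) ⟶ X // ζ ≫ f = η ≫ e},
      pl ζ ≫ (Wop ζ).ι ≫ ((G f e).obj U).hom = ζ.1 := fun ζ =>
    (Category.assoc _ _ _).symm.trans ((congrArg (· ≫ ((G f e).obj U).hom) (hpl ζ)).trans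
      (hpgw ζ))
  let pp : ∀ ζ : {ζ : Spec (CommRingCat.of Ω) ⟶ X // ζ ≫ f = η ≫ e},
      (Φ ζ.1).fiber.obj (W' ζ) := fun ζ => Over.homMk (pl ζ) (hplw ζ)
  refine ⟨U, u, W', a, hm, pp, fun ζ => inferInstanceAs (IsOpenImmersion (Wop ζ).ι), ?_, ?_, ?_, ?_⟩
  · intro i i' hii'
    rw [hrange, hrange]
    have hd := disjoint_opensRange_sigmaι OS i i' hii'
    rw [Set.disjoint_iff]
    rintro z ⟨hz1, hz2⟩
    have : h z ∈ ((Sigma.ι OS i).opensRange ⊓ (Sigma.ι OS i').opensRange : V.Opens) := ⟨hz1, hz2⟩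
    rw [disjoint_iff.mp hd] at this
    exact this
  · apply Set.eq_univ_of_forall
    intro z
    obtain ⟨i, w', hw'⟩ := (sigmaOpenCover OS).exists_eq (h z)
    refine Set.mem_iUnion.2 ⟨i, ?_⟩
    rw [hrange]
    exact ⟨w', hw'⟩
  · intro ζ
    apply Over.OverMorphism.ext
    exact (hpl ζ).trans (hpg ζ)
  · intro ζ
    apply Over.OverMorphism.ext
    have h1 : pl ζ ≫ l ζ = o ζ := by
      refine (cancel_mono (Sigma.ι OS ζ)).mp ?_
      exact (Category.assoc _ _ _).trans ((congrArg (pl ζ ≫ ·) (hl ζ)).trans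
        ((Category.assoc _ _ _).symm.trans ((congrArg (· ≫ h) (hpl ζ)).trans (hpgh ζ))))
    have h2 : pl ζ ≫ (l ζ ≫ (O ζ).ι) = wl ζ :=
      (Category.assoc _ _ _).symm.trans ((congrArg (· ≫ (O ζ).ι) h1).trans (ho ζ))
    exact h2.trans (hwdef ζ)

end Affine

set_option backward.isDefEq.respectTransparency.types false in
/-- a finite morphism has finitely many geometric points over a given geometric point -/
theorem finite_pts {X Y : Scheme.{u}} (f : X ⟶ Y) [IsFinite f]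
    {Ω : Type u} [Field Ω] [IsSepClosed Ω] (η₀ : Spec (CommRingCat.of Ω) ⟶ Y) :
    Finite {ζ : Spec (CommRingCat.of Ω) ⟶ X // ζ ≫ f = η₀} := by
  obtain ⟨V₀, hV₀, hy₀, -⟩ := exists_isAffineOpen_mem_and_subset
    (x := η₀.base (default : Spec (CommRingCat.of Ω))) (U := (⊤ : Y.Opens)) trivial
  let Y' : Scheme.{u} := V₀
  haveI : IsAffine Y' := hV₀
  let e : Y' ⟶ Y := V₀.ι
  have hrange : Set.range η₀ ⊆ Set.range e := by
    rintro _ ⟨x, rfl⟩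
    rw [Scheme.Opens.range_ι, Subsingleton.elim x (default : Spec (CommRingCat.of Ω))]
    exact hy₀
  obtain ⟨η, hη⟩ : ∃ η : Spec (CommRingCat.of Ω) ⟶ Y', η ≫ e = η₀ :=
    ⟨IsOpenImmersion.lift e η₀ hrange, IsOpenImmersion.lift_fac _ _ _⟩
  subst hη
  exact finite_pts_aux f e η

set_option backward.isDefEq.respectTransparency.types false in
set_option maxHeartbeats 2000000 in
/-- **Pointed splitting lemma**.  `f : X ⟶ Y` finite, `η₀` a geometric point of `Y` with values in an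
algebraically closed field.  Given, for every geometric point `ζ` of `X` over `η₀`, an étale
neighbourhood `(W ζ, w ζ)` of `ζ`, there are an étale neighbourhood `(V, v)` of `η₀` and a
decomposition of `X ×_Y V` into pairwise disjoint open pieces `W' ζ ∋ (v, ζ)` together with morphisms
of pointed étale `X`-schemes `W' ζ ⟶ W ζ`. -/
theorem exists_pointed_split {X Y : Scheme.{u}} (f : X ⟶ Y) [IsFinite f]
    {Ω : Type u} [Field Ω] [IsAlgClosed Ω] (η₀ : Spec (CommRingCat.of Ω) ⟶ Y)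
    (W : {ζ : Spec (CommRingCat.of Ω) ⟶ X // ζ ≫ f = η₀} → X.Etale)
    (w : ∀ ζ, (Φ ζ.1).fiber.obj (W ζ)) :
    ∃ (V : Y.Etale) (v : (Φ η₀).fiber.obj V)
      (W' : {ζ : Spec (CommRingCat.of Ω) ⟶ X // ζ ≫ f = η₀} → X.Etale)
      (a : ∀ ζ, W' ζ ⟶ (EtCoh.bc f).obj V) (h : ∀ ζ, W' ζ ⟶ W ζ)
      (p : ∀ ζ, (Φ ζ.1).fiber.obj (W' ζ)),
      (∀ ζ, IsOpenImmersion (a ζ).left) ∧
      (∀ ζ ζ', ζ ≠ ζ' → Disjoint (Set.range (a ζ).left) (Set.range (a ζ').left)) ∧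
      (⋃ ζ, Set.range (a ζ).left) = Set.univ ∧
      (∀ ζ, (Φ ζ.1).fiber.map (a ζ) (p ζ) = ptB f η₀ ζ.1 ζ.2 V v) ∧
      (∀ ζ, (Φ ζ.1).fiber.map (h ζ) (p ζ) = w ζ) := by
  obtain ⟨V₀, hV₀, hy₀, -⟩ := exists_isAffineOpen_mem_and_subset
    (x := η₀.base (default : Spec (CommRingCat.of Ω))) (U := (⊤ : Y.Opens)) trivial
  let Y' : Scheme.{u} := V₀
  haveI : IsAffine Y' := hV₀
  let e : Y' ⟶ Y := V₀.ι
  have hrange : Set.range η₀ ⊆ Set.range e := by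
    rintro _ ⟨x, rfl⟩
    rw [Scheme.Opens.range_ι, Subsingleton.elim x (default : Spec (CommRingCat.of Ω))]
    exact hy₀
  obtain ⟨η, hη⟩ : ∃ η : Spec (CommRingCat.of Ω) ⟶ Y', η ≫ e = η₀ :=
    ⟨IsOpenImmersion.lift e η₀ hrange, IsOpenImmersion.lift_fac _ _ _⟩
  subst hη
  obtain ⟨U, u, W', a, h, p, h1, h2, h3, h4, h5⟩ := exists_pointed_split_aux f e η W w
  have hu : u.left ≫ U.hom ≫ e = η ≫ e :=
    (Category.assoc _ _ _).symm.trans (congrArg (· ≫ e) (fiber_w η U u))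
  exact ⟨(EtShriek.compEtale e).obj U, Over.homMk u.left hu, W', a, h, p, h1, h2, h3, h4, h5⟩

end Groth.Agent.R2.H13.FinPtSplit
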