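import Mathlib
import Groth.Agent.R2.H13FinSplit
import Groth.Agent.R2.H13ClosedPushA

/-!
# Étale-local splitting of covering sieves over an integral morphism (helper13)

Namespace `Groth.Agent.R2.H13.FinSieve`.

* `exists_split_of_integral` : `f : X ⟶ Y` integral, `U₀` an étale `Y`-scheme, `𝒮` a covering sieve of
  `X ×_Y U₀` in the small étale site of `X`, `y₀` a point of `U₀`.  Then there are an étale neighbourhood
  `g : U ⟶ U₀` of `y₀` and a finite decomposition of `X ×_Y U` into pairwise disjoint open subschemes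
  `W i` such that every `W i ⟶ X ×_Y U ⟶ X ×_Y U₀` belongs to `𝒮`.
-/

set_option autoImplicit false
set_option linter.style.haveILetI false
universe u

namespace Groth.Agent.R2.H13.FinSieve

open CategoryTheory CategoryTheory.Limits AlgebraicGeometry Opposite
open Groth.Agent.R2.H1.EtLocalRing Groth.Agent.R2.H13.FinGerm Groth.Agent.R2.H13.FinSplit
open Groth.Agent.R2.H13.ClosedPush

set_option backward.isDefEq.respectTransparency.types false in
set_option maxHeartbeats 2000000 in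
/-- **Key lemma (sieve form)**. -/
theorem exists_split_of_integral {X Y : Scheme.{u}} (f : X ⟶ Y) [IsIntegralHom f] (U₀ : Y.Etale)
    (𝒮 : Sieve ((EtCoh.bc f).obj U₀)) (h𝒮 : 𝒮 ∈ X.smallEtaleTopology _) (y₀ : U₀.left) :
    ∃ (U : Y.Etale) (g : U ⟶ U₀) (y : U.left), g.left y = y₀ ∧
      ∃ (ι : Type u) (_ : Finite ι) (W : ι → X.Etale) (a : ∀ i, W i ⟶ (EtCoh.bc f).obj U),
        (∀ i, IsOpenImmersion (a i).left) ∧
        (∀ i j, i ≠ j → Disjoint (Set.range (a i).left) (Set.range (a j).left)) ∧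
        (⋃ i, Set.range (a i).left) = Set.univ ∧
        ∀ i, 𝒮 (a i ≫ (EtCoh.bc f).map g) := by
  classical
  obtain ⟨V₀, hV₀, hy₀, -⟩ :=
    exists_isAffineOpen_mem_and_subset (x := y₀) (U := (⊤ : U₀.left.Opens)) trivial
  let Y' : Scheme.{u} := V₀
  haveI : IsAffine Y' := hV₀
  let e : Y' ⟶ Y := V₀.ι ≫ U₀.hom
  haveI : Etale e := inferInstance
  let T₀ : Y.Etale := (EtShriek.compEtale e).obj (EtCoh.top Y')
  let j : T₀ ⟶ U₀ := MorphismProperty.Over.homMk V₀.ι (Category.id_comp _).symm trivial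
  let 𝒮' : Sieve ((G f e).obj (EtCoh.top Y')) := 𝒮.pullback ((EtCoh.bc f).map j)
  have h𝒮' : 𝒮' ∈ X.smallEtaleTopology _ := X.smallEtaleTopology.pullback_stable _ h𝒮
  let y₀' : Y' := ⟨y₀, hy₀⟩
  -- a geometric point over `y₀`
  let Ω := SeparableClosure (Y'.residueField y₀')
  let ξ : Spec (CommRingCat.of Ω) ⟶ Y' :=
    Spec.map (CommRingCat.ofHom (algebraMap (Y'.residueField y₀') Ω)) ≫
      Y'.fromSpecResidueField y₀'
  have hξ : ξ default = y₀' := by
    dsimp only [ξ]
    rw [Scheme.Hom.comp_apply]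
    exact Scheme.fromSpecResidueField_apply _ _
  -- choose members of the sieve through every point
  have hex : ∀ x' : X' f e, ∃ (Wx : X.Etale) (ax : Wx ⟶ (G f e).obj (EtCoh.top Y')),
      𝒮' ax ∧ x' ∈ Set.range ax.left :=
    fun x' => exists_of_mem_smallEtaleTopology 𝒮' h𝒮' x'
  choose Wx ax hax hx using hex
  choose wx hwx using hx
  have haff : ∀ x', ∃ O : (Wx x').left.Opens, IsAffineOpen O ∧ wx x' ∈ O := fun x' => by
    obtain ⟨O, hO, hw, -⟩ :=
      exists_isAffineOpen_mem_and_subset (x := wx x') (U := (⊤ : (Wx x').left.Opens)) trivial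
    exact ⟨O, hO, hw⟩
  choose O hO hwO using haff
  have hopen : ∀ x', IsOpen ((ax x').left '' (O x' : Set (Wx x').left)) :=
    fun x' => (ax x').left.isOpenMap _ (O x').2
  have hK : IsCompact (f' f e ⁻¹' {y₀'}) := (f' f e).isCompact_preimage_singleton y₀'
  obtain ⟨t, ht⟩ := hK.elim_finite_subcover
    (fun x' => (ax x').left '' (O x' : Set (Wx x').left)) hopen (by
      intro x' _
      exact Set.mem_iUnion.2 ⟨x', ⟨wx x', hwO x', hwx x'⟩⟩)
  let ι : Type u := {x // x ∈ t}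
  let OS : ι → Scheme.{u} := fun i => (O i.1 : (Wx i.1).left.Opens)
  haveI : ∀ i : ι, IsAffine (OS i) := fun i => hO i.1
  let V : Scheme.{u} := ∐ OS
  haveI : IsAffine V := inferInstance
  let p : V ⟶ X' f e := Sigma.desc fun i : ι => (O i.1).ι ≫ (ax i.1).left
  haveI : Etale p := IsZariskiLocalAtSource.sigmaDesc (fun i => inferInstance)
  have hp : ∀ i : ι, Sigma.ι OS i ≫ p = (O i.1).ι ≫ (ax i.1).left := fun i => Sigma.ι_desc _ _
  have hcov : ∀ x' : X' f e, f' f e x' = ξ default → x' ∈ Set.range p := by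
    intro x' hx'
    have hxK : x' ∈ f' f e ⁻¹' {y₀'} := by
      rw [Set.mem_preimage, hx', hξ]
      rfl
    obtain ⟨x₁, hx₁⟩ := Set.mem_iUnion.1 (ht hxK)
    obtain ⟨hx₁t, hx₁'⟩ := Set.mem_iUnion.1 hx₁
    obtain ⟨w, hwO', hw⟩ := hx₁'
    refine ⟨Sigma.ι OS ⟨x₁, hx₁t⟩ ⟨w, hwO'⟩, ?_⟩
    rw [← Scheme.Hom.comp_apply, hp]
    exact hw
  obtain ⟨U, u, h, hh⟩ := exists_lift_of_integral f e ξ p hcov
  let UY : Y.Etale := (EtShriek.compEtale e).obj U
  let g : UY ⟶ U₀ := (EtShriek.compEtale e).map (toTop U) ≫ j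
  let ul : Spec (CommRingCat.of Ω) ⟶ U.left := u.left
  have hu : ul ≫ U.hom = ξ := Over.w u
  refine ⟨UY, g, ul default, ?_, ?_⟩
  · have h1 : U.hom (ul default) = ξ default := by
      rw [← hu]
      rfl
    change V₀.ι (U.hom (ul default)) = y₀
    rw [h1, hξ]
    rfl
  let Wop : ι → ((G f e).obj U).left.Opens := fun i => h ⁻¹ᵁ (Sigma.ι OS i).opensRange
  let W : ι → X.Etale := fun i => Scheme.Etale.mk ((Wop i).ι ≫ ((G f e).obj U).hom)
  let a : ∀ i, W i ⟶ (G f e).obj U := fun i => MorphismProperty.Over.homMk (Wop i).ι rfl trivial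
  have hrange : ∀ i, Set.range (a i).left = (Wop i : Set ((G f e).obj U).left) :=
    fun i => Scheme.Opens.range_ι _
  refine ⟨ι, inferInstance, W, a, fun i => inferInstanceAs (IsOpenImmersion (Wop i).ι), ?_, ?_, ?_⟩
  · intro i i' hii'
    rw [hrange, hrange]
    have hd := disjoint_opensRange_sigmaι OS i i' hii'
    rw [Set.disjoint_iff]
    rintro z ⟨hz1, hz2⟩
    have : h z ∈ ((Sigma.ι OS i).opensRange ⊓ (Sigma.ι OS i').opensRange : V.Opens) := ⟨hz1, hz2⟩
    rw [disjoint_iff.mp hd] at this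
    exact this
  · apply Set.eq_univ_of_forall
    intro z
    obtain ⟨i, w, hw⟩ := (sigmaOpenCover OS).exists_eq (h z)
    refine Set.mem_iUnion.2 ⟨i, ?_⟩
    rw [hrange]
    exact ⟨w, hw⟩
  · intro i
    -- the comparison map `W i ⟶ Wx i`
    have hsub : Set.range ((Wop i).ι ≫ h) ⊆ Set.range (Sigma.ι OS i) := by
      rintro _ ⟨z, rfl⟩
      exact z.2
    let l : (Wop i : Scheme.{u}) ⟶ OS i := IsOpenImmersion.lift (Sigma.ι OS i) ((Wop i).ι ≫ h) hsub
    have hl : l ≫ Sigma.ι OS i = (Wop i).ι ≫ h := IsOpenImmersion.lift_fac _ _ _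
    have key : (l ≫ (O i.1).ι) ≫ (ax i.1).left = (Wop i).ι ≫ ((G f e).map (toTop U)).left := by
      rw [Category.assoc, ← hp, ← Category.assoc, hl, Category.assoc, hh]
    let b : W i ⟶ Wx i.1 := MorphismProperty.Over.homMk (l ≫ (O i.1).ι) (by
      have h1 : (Wx i.1).hom = (ax i.1).left ≫ ((G f e).obj (EtCoh.top Y')).hom :=
        (Over.w (ax i.1).hom).symm
      have h2 : ((G f e).obj U).hom =
          ((G f e).map (toTop U)).left ≫ ((G f e).obj (EtCoh.top Y')).hom :=
        (Over.w ((G f e).map (toTop U)).hom).symm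
      change (l ≫ (O i.1).ι) ≫ (Wx i.1).hom = (Wop i).ι ≫ ((G f e).obj U).hom
      rw [h1, h2, ← Category.assoc, key, Category.assoc]) trivial
    have hb : b ≫ ax i.1 = a i ≫ (G f e).map (toTop U) := by
      apply MorphismProperty.Over.Hom.ext
      exact key
    have h3 : 𝒮 ((b ≫ ax i.1) ≫ (EtCoh.bc f).map j) := by
      rw [Category.assoc]
      exact 𝒮.downward_closed (hax i.1) b
    have h4 : (EtCoh.bc f).map g = (G f e).map (toTop U) ≫ (EtCoh.bc f).map j :=
      (EtCoh.bc f).map_comp _ _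
    rw [h4, ← Category.assoc, ← hb]
    exact h3

end Groth.Agent.R2.H13.FinSieve
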