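import Mathlib
import Groth.Agent.R2.H13FinSieve

/-!
# Direct image along an integral morphism preserves local surjectivity (helper13)

Namespace `Groth.Agent.R2.H13.FinPush`.

* `existsUnique_glue` : a sheaf of types on the small étale site turns a decomposition of an étale
  `X`-scheme into pairwise disjoint open subschemes into a product.
* `exists_lift_of_disjoint` : lifting sections along a morphism of sheaves can be done piecewise on such a
  decomposition.
* `isLocallySurjective_whiskerLeft_bc` : for `f : X ⟶ Y` integral and `φ : F ⟶ G` a locally surjective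
  morphism of sheaves of types on `X_ét`, the morphism `f_* φ` is locally surjective on `Y_ét`.
* `push_preservesEpimorphisms` : `EtCoh.push f` preserves epimorphisms for `f` integral.
-/

set_option autoImplicit false
set_option linter.style.haveILetI false
universe u w

namespace Groth.Agent.R2.H13.FinPush

open CategoryTheory CategoryTheory.Limits AlgebraicGeometry Opposite
open Groth.Agent.R2.H13.ClosedPush Groth.Agent.R2.H13.FinSieve

section Glue

variable {X : Scheme.{u}}

/-- a sheaf of types has at most one section over an empty étale `X`-scheme -/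
lemma subsingleton_of_isEmpty {F : X.Etaleᵒᵖ ⥤ Type w}
    (hF : Presieve.IsSheaf X.smallEtaleTopology F) (V : X.Etale) [IsEmpty V.left] :
    Subsingleton (F.obj (op V)) := by
  have hbot : (⊥ : Sieve V) ∈ X.smallEtaleTopology V :=
    mem_smallEtaleTopology_of_forall _ (fun v => isEmptyElim v)
  refine ⟨fun s t => ?_⟩
  exact (hF _ hbot).isSeparatedFor.ext (fun _ _ hf => hf.elim)

variable {Z : X.Etale} {ι : Type*} {W : ι → X.Etale} (a : ∀ i, W i ⟶ Z)

include a in
lemma generate_ofArrows_mem (hcov : (⋃ i, Set.range (a i).left) = Set.univ) :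
    Sieve.generate (Presieve.ofArrows W a) ∈ X.smallEtaleTopology Z := by
  apply mem_smallEtaleTopology_of_forall
  intro z
  have hz : z ∈ ⋃ i, Set.range (a i).left := by rw [hcov]; trivial
  obtain ⟨i, hi⟩ := Set.mem_iUnion.1 hz
  exact ⟨W i, a i, ⟨W i, 𝟙 _, a i, Presieve.ofArrows.mk i, Category.id_comp _⟩, hi⟩

set_option backward.isDefEq.respectTransparency.types false in
/-- **Gluing over a disjoint open decomposition.** -/
lemma existsUnique_glue (hopen : ∀ i, IsOpenImmersion (a i).left)
    (hdisj : ∀ i j, i ≠ j → Disjoint (Set.range (a i).left) (Set.range (a j).left))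
    (hcov : (⋃ i, Set.range (a i).left) = Set.univ)
    {F : X.Etaleᵒᵖ ⥤ Type w} (hF : Presieve.IsSheaf X.smallEtaleTopology F)
    (x : ∀ i, F.obj (op (W i))) : ∃! s : F.obj (op Z), ∀ i, F.map (a i).op s = x i := by
  classical
  have hsf : Presieve.IsSheafFor F (Presieve.ofArrows W a) :=
    hF.isSheafFor _ (generate_ofArrows_mem a hcov)
  refine (Presieve.isSheafFor_arrows_iff (P := F) (π := a)).mp hsf x ?_
  intro i j V gi gj hg
  by_cases hij : i = j
  · subst hij
    have h1 : gi.left ≫ (a i).left = gj.left ≫ (a i).left := congrArg (fun k => k.left) hg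
    haveI := hopen i
    have h2 : gi.left = gj.left := (cancel_mono (a i).left).mp h1
    have h3 : gi = gj := MorphismProperty.Over.Hom.ext h2
    rw [h3]
  · haveI : IsEmpty V.left := by
      refine ⟨fun v => ?_⟩
      have h1 : (a i).left (gi.left v) = (a j).left (gj.left v) := by
        have h0 : gi.left ≫ (a i).left = gj.left ≫ (a j).left := congrArg (fun k => k.left) hg
        change (gi.left ≫ (a i).left) v = (gj.left ≫ (a j).left) v
        rw [h0]
      exact Set.disjoint_iff.mp (hdisj i j hij) ⟨⟨gi.left v, rfl⟩, ⟨gj.left v, h1.symm⟩⟩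
    exact (subsingleton_of_isEmpty hF V).elim _ _

/-- lifting sections piecewise on a disjoint open decomposition -/
lemma exists_lift_of_disjoint (hopen : ∀ i, IsOpenImmersion (a i).left)
    (hdisj : ∀ i j, i ≠ j → Disjoint (Set.range (a i).left) (Set.range (a j).left))
    (hcov : (⋃ i, Set.range (a i).left) = Set.univ)
    {F G : X.Etaleᵒᵖ ⥤ Type w} (hF : Presieve.IsSheaf X.smallEtaleTopology F)
    (hG : Presieve.IsSheaf X.smallEtaleTopology G) (φ : F ⟶ G) (s : G.obj (op Z))
    (h : ∀ i, ∃ t : F.obj (op (W i)), φ.app _ t = G.map (a i).op s) :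
    ∃ t : F.obj (op Z), φ.app _ t = s := by
  choose t ht using h
  obtain ⟨T, hT, -⟩ := existsUnique_glue a hopen hdisj hcov hF t
  refine ⟨T, ?_⟩
  obtain ⟨s', -, hs'⟩ := existsUnique_glue a hopen hdisj hcov hG (fun i => G.map (a i).op s)
  have e1 : φ.app _ T = s' := hs' _ (fun i => by
    rw [← NatTrans.naturality_apply, hT, ht])
  have e2 : s = s' := hs' _ (fun i => rfl)
  rw [e1, e2]

end Glue

section Push

variable {X Y : Scheme.{u}} (f : X ⟶ Y) [IsIntegralHom f]

set_option backward.isDefEq.respectTransparency.types false in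
/-- **Direct image along an integral morphism preserves local surjectivity** (sheaves of types). -/
theorem isLocallySurjective_whiskerLeft_bc {F G : X.Etaleᵒᵖ ⥤ Type w}
    (hF : Presieve.IsSheaf X.smallEtaleTopology F) (hG : Presieve.IsSheaf X.smallEtaleTopology G)
    (φ : F ⟶ G) [hφ : Presheaf.IsLocallySurjective X.smallEtaleTopology φ] :
    Presheaf.IsLocallySurjective Y.smallEtaleTopology (Functor.whiskerLeft (EtCoh.bc f).op φ) := by
  constructor
  intro U₀ s
  apply mem_smallEtaleTopology_of_forall
  intro y₀
  have h𝒮 : Presheaf.imageSieve φ (s : G.obj (op ((EtCoh.bc f).obj U₀))) ∈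
      X.smallEtaleTopology ((EtCoh.bc f).obj U₀) := Presheaf.imageSieve_mem _ φ _
  obtain ⟨U, g, y, hy, ι, _, W, a, hopen, hdisj, hcov, hmem⟩ :=
    exists_split_of_integral f U₀ _ h𝒮 y₀
  refine ⟨U, g, ?_, ⟨y, hy⟩⟩
  have hlift := exists_lift_of_disjoint a hopen hdisj hcov hF hG φ
    (G.map ((EtCoh.bc f).map g).op s) (fun i => by
      obtain ⟨t, ht⟩ := hmem i
      refine ⟨t, ht.trans ?_⟩
      rw [op_comp, G.map_comp]
      rfl)
  obtain ⟨t, ht⟩ := hlift
  exact ⟨t, ht⟩

lemma isSheaf_forget (F : EtCoh.Ab X) :
    Presieve.IsSheaf X.smallEtaleTopology (F.obj ⋙ forget AddCommGrpCat.{u + 1}) := by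
  rw [← isSheaf_iff_isSheaf_of_type]
  exact ((sheafCompose X.smallEtaleTopology (forget AddCommGrpCat.{u + 1})).obj F).2

set_option backward.isDefEq.respectTransparency.types false in
/-- **Direct image of abelian étale sheaves along an integral morphism preserves epimorphisms.** -/
theorem push_preservesEpimorphisms : (EtCoh.push f).PreservesEpimorphisms where
  preserves {F G} φ hφ := by
    have hls : Sheaf.IsLocallySurjective φ := (Sheaf.isLocallySurjective_iff_epi' (φ := φ)).2 hφ
    haveI h1 : Presheaf.IsLocallySurjective X.smallEtaleTopology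
        (Functor.whiskerRight φ.hom (forget AddCommGrpCat.{u + 1})) :=
      (Presheaf.isLocallySurjective_iff_whisker_forget _ φ.hom).1 hls
    have h2 := isLocallySurjective_whiskerLeft_bc f (isSheaf_forget F) (isSheaf_forget G)
      (Functor.whiskerRight φ.hom (forget AddCommGrpCat.{u + 1}))
    apply (Sheaf.isLocallySurjective_iff_epi' (φ := (EtCoh.push f).map φ)).1
    change Presheaf.IsLocallySurjective _ ((EtCoh.push f).map φ).hom
    rw [Presheaf.isLocallySurjective_iff_whisker_forget]
    exact h2

/-- Direct image along an integral morphism preserves finite colimits (it is exact). -/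
theorem push_preservesFiniteColimits : PreservesFiniteColimits (EtCoh.push f) := by
  haveI := push_preservesEpimorphisms f
  haveI : PreservesLimits (EtCoh.push f) := (EtCoh.pullPushAdj f).rightAdjoint_preservesLimits
  rw [Functor.preservesFiniteColimits_iff_forall_exact_map_and_epi]
  intro S hS
  haveI := hS.epi_g
  exact ⟨((Functor.preservesFiniteLimits_iff_forall_exact_map_and_mono (EtCoh.push f)).mp
    inferInstance S hS).1, inferInstance⟩

theorem push_preservesHomology : (EtCoh.push f).PreservesHomology := by
  haveI := push_preservesFiniteColimits f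
  haveI : PreservesLimits (EtCoh.push f) := (EtCoh.pullPushAdj f).rightAdjoint_preservesLimits
  have h : PreservesFiniteLimits (EtCoh.push f) ∧ PreservesFiniteColimits (EtCoh.push f) :=
    ⟨inferInstance, inferInstance⟩
  exact ((Functor.exact_tfae (EtCoh.push f)).out 2 3).mpr h

end Push

section Derived

open CategoryTheory.Abelian

/-- The higher right derived functors of an exact functor vanish. -/
lemma isZero_rightDerived_succ_of_preservesHomology {C D : Type*} [Category C] [Category D]
    [Abelian C] [Abelian D] [HasInjectiveResolutions C] (F : C ⥤ D) [F.Additive]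
    [F.PreservesHomology] (n : ℕ) (X : C) : IsZero ((F.rightDerived (n + 1)).obj X) := by
  let I : InjectiveResolution X := Classical.choice (HasInjectiveResolution.out)
  refine IsZero.of_iso ?_ (I.isoRightDerivedObj F (n + 1))
  erw [← HomologicalComplex.exactAt_iff_isZero_homology]
  rw [HomologicalComplex.exactAt_iff' _ n (n + 1) (n + 2) (by simp)
    (by simp only [CochainComplex.next]; rfl)]
  exact (I.exact_succ n).map F

/-- `R^q f_* = 0` for `q > 0` and `f` integral. -/
theorem isZero_Rpush {X Y : Scheme.{u}} (f : X ⟶ Y) [IsIntegralHom f] (F : EtCoh.Ab X) (q : ℕ)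
    (hq : 0 < q) : IsZero ((EtCoh.Rpush f q).obj F) := by
  haveI := push_preservesHomology f
  obtain ⟨n, rfl⟩ : ∃ n, q = n + 1 := ⟨q - 1, by omega⟩
  exact isZero_rightDerived_succ_of_preservesHomology (EtCoh.push f) n F

end Derived

end Groth.Agent.R2.H13.FinPush
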