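import Mathlib
import Groth.Agent.R2.H13FinPtSplit
import Groth.Agent.R2.H13FinPush

/-!
# The stalk formula for a finite morphism (helper13)

Namespace `Groth.Agent.R2.H13.FinStalk`.

* `exists_point_lift` : geometric points with values in an algebraically closed field lift along
  integral morphisms, through any prescribed point of the fibre.
* `can` : the canonical map `(f_* P)_η ⟶ P_ζ` for a geometric point `ζ` of `X` over `η`.
* `can_injective`, `can_surjective` : for `f` finite, `Ω` algebraically closed and `P` a sheaf, the map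
  `(f_* P)_η ⟶ ∏_ζ P_ζ` is bijective.
-/

set_option autoImplicit false
set_option linter.style.haveILetI false
universe u

namespace Groth.Agent.R2.H13.FinStalk

open CategoryTheory CategoryTheory.Limits AlgebraicGeometry Opposite
open Groth.Agent.R2.H1.EtLocalRing Groth.Agent.R2.H13.FinPtGerm Groth.Agent.R2.H13.FinPtSplit
open Groth.Agent.R2.H13.ClosedPush

section PointLift

variable {Ω : Type u} [Field Ω] [IsAlgClosed Ω]

omit [IsAlgClosed Ω] in
set_option backward.isDefEq.respectTransparency.types false in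
/-- the point of `Spec Ω` -/
lemma asIdeal_default : (default : Spec (CommRingCat.of Ω)).asIdeal = ⊥ :=
  (Ideal.eq_bot_or_top _).resolve_right (default : Spec (CommRingCat.of Ω)).2.ne_top

set_option maxHeartbeats 1000000 in
/-- sections through a given point of an integral scheme over an algebraically closed field -/
lemma exists_section_of_integral {Z : Scheme.{u}} (q : Z ⟶ Spec (CommRingCat.of Ω))
    [IsIntegralHom q] (z : Z) :
    ∃ l : Spec (CommRingCat.of Ω) ⟶ Z, l ≫ q = 𝟙 _ ∧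
      l.base (default : Spec (CommRingCat.of Ω)) = z := by
  haveI : IsAffine Z := isAffine_of_isAffineHom q
  have hint : q.appTop.hom.IsIntegral :=
    ((HasAffineProperty.iff_of_isAffine (P := @IsIntegralHom) (f := q)).mp inferInstance).2
  let ω : CommRingCat.of Ω ⟶ Γ(Z, ⊤) := (Scheme.ΓSpecIso (CommRingCat.of Ω)).inv ≫ q.appTop
  have hω : ω.hom.IsIntegral := by
    have h1 : (Scheme.ΓSpecIso (CommRingCat.of Ω)).inv.hom.IsIntegral :=
      RingHom.isIntegral_of_surjective _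
        (ConcreteCategory.bijective_of_isIso (Scheme.ΓSpecIso (CommRingCat.of Ω)).inv).2
    exact RingHom.IsIntegral.trans _ _ h1 hint
  let 𝔮 : Ideal Γ(Z, ⊤) := (Z.toSpecΓ.base z).asIdeal
  haveI h𝔮 : 𝔮.IsPrime := (Z.toSpecΓ.base z).2
  let ω' : Ω →+* Γ(Z, ⊤) ⧸ 𝔮 := (Ideal.Quotient.mk 𝔮).comp ω.hom
  have hω' : ω'.IsIntegral :=
    RingHom.IsIntegral.trans _ _ hω (RingHom.isIntegral_of_surjective _ Ideal.Quotient.mk_surjective)
  have hbij : Function.Bijective ω' := IsAlgClosed.ringHom_bijective_of_isIntegral ω' hω'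
  let E : Ω ≃+* Γ(Z, ⊤) ⧸ 𝔮 := RingEquiv.ofBijective ω' hbij
  let ρ : Γ(Z, ⊤) →+* Ω := E.symm.toRingHom.comp (Ideal.Quotient.mk 𝔮)
  have hρω : ∀ x : Ω, ρ (ω.hom x) = x := fun x => E.symm_apply_apply x
  have hker : RingHom.ker ρ = 𝔮 := by
    ext y
    rw [RingHom.mem_ker]
    change E.symm (Ideal.Quotient.mk 𝔮 y) = 0 ↔ _
    rw [map_eq_zero_iff E.symm E.symm.injective, Ideal.Quotient.eq_zero_iff_mem]
  let l : Spec (CommRingCat.of Ω) ⟶ Z := ofΓ (CommRingCat.ofHom ρ)
  refine ⟨l, ?_, ?_⟩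
  · apply evΓ_injective
    rw [evΓ_comp, evΓ_ofΓ]
    have h2 : ω ≫ CommRingCat.ofHom ρ = 𝟙 _ := by
      ext x
      exact hρω x
    have h3 : q.appTop ≫ CommRingCat.ofHom ρ = (Scheme.ΓSpecIso (CommRingCat.of Ω)).hom := by
      have := congrArg ((Scheme.ΓSpecIso (CommRingCat.of Ω)).hom ≫ ·) h2
      simpa [ω] using this
    rw [h3]
    unfold evΓ
    have h4 : (𝟙 (Spec (CommRingCat.of Ω)) : Spec (CommRingCat.of Ω) ⟶ _).appTop = 𝟙 _ := rfl
    rw [h4, Category.id_comp]
  · have hinj : Function.Injective Z.toSpecΓ.base :=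
      (ConcreteCategory.bijective_of_isIso Z.toSpecΓ.base).1
    apply hinj
    have h5 : l ≫ Z.toSpecΓ = Spec.map (CommRingCat.ofHom ρ) := by
      change (Spec.map (CommRingCat.ofHom ρ) ≫ Z.isoSpec.inv) ≫ Z.toSpecΓ = _
      exact (Category.assoc _ _ _).trans
        ((congrArg (Spec.map (CommRingCat.ofHom ρ) ≫ ·) (Scheme.isoSpec_inv_toSpecΓ Z)).trans
          (Category.comp_id _))
    have h6 : Z.toSpecΓ.base (l.base (default : Spec (CommRingCat.of Ω))) =
        (Spec.map (CommRingCat.ofHom ρ)).base (default : Spec (CommRingCat.of Ω)) := by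
      rw [← h5]
      rfl
    rw [h6]
    apply PrimeSpectrum.ext
    change Ideal.comap ρ (default : Spec (CommRingCat.of Ω)).asIdeal = 𝔮
    rw [asIdeal_default, ← RingHom.ker_eq_comap_bot, hker]

/-- geometric points lift along integral morphisms through any point of the fibre -/
lemma exists_point_lift {Z V : Scheme.{u}} (q : Z ⟶ V) [IsIntegralHom q]
    (v : Spec (CommRingCat.of Ω) ⟶ V) (x : Z)
    (hx : q.base x = v.base (default : Spec (CommRingCat.of Ω))) :
    ∃ l : Spec (CommRingCat.of Ω) ⟶ Z, l ≫ q = v ∧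
      l.base (default : Spec (CommRingCat.of Ω)) = x := by
  haveI : IsIntegralHom (pullback.fst v q) :=
    MorphismProperty.pullback_fst (P := @IsIntegralHom) _ _ inferInstance
  obtain ⟨z, -, hz2⟩ := Scheme.Pullback.exists_preimage_pullback (f := v) (g := q)
    (default : Spec (CommRingCat.of Ω)) x hx.symm
  obtain ⟨l₀, hl1, hl2⟩ := exists_section_of_integral (pullback.fst v q) z
  refine ⟨l₀ ≫ pullback.snd v q, ?_, ?_⟩
  · rw [Category.assoc, ← pullback.condition, ← Category.assoc, hl1, Category.id_comp]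
  · change (pullback.snd v q).base (l₀.base (default : Spec (CommRingCat.of Ω))) = x
    rw [hl2, hz2]

end PointLift

section LocEq

universe w

variable {X : Scheme.{u}} (Q : X.Etaleᵒᵖ ⥤ Type w)

/-- `s` and `t` agree on an étale neighbourhood of `x` -/
def LocEq {W : X.Etale} (s t : Q.obj (op W)) (x : W.left) : Prop :=
  ∃ (N : X.Etale) (g : N ⟶ W), (∃ n : N.left, g.left.base n = x) ∧ Q.map g.op s = Q.map g.op t

lemma isOpen_locEq {W : X.Etale} (s t : Q.obj (op W)) : IsOpen {x : W.left | LocEq Q s t x} := by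
  rw [isOpen_iff_forall_mem_open]
  rintro x ⟨N, g, ⟨n, hn⟩, hg⟩
  refine ⟨Set.range g.left, ?_, g.left.isOpenMap.isOpen_range, ⟨n, hn⟩⟩
  rintro _ ⟨n', rfl⟩
  exact ⟨N, g, ⟨n', rfl⟩, hg⟩

lemma eq_of_locEq (hQ : Presieve.IsSeparated X.smallEtaleTopology Q) {W : X.Etale}
    (s t : Q.obj (op W)) (h : ∀ x, LocEq Q s t x) : s = t := by
  let S : Sieve W :=
    { arrows := fun N g => Q.map g.op s = Q.map g.op t
      downward_closed := by
        intro N N' g hg k
        rw [op_comp, Q.map_comp]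
        exact congrArg (Q.map k.op) hg }
  have hmem : S ∈ X.smallEtaleTopology W := by
    apply mem_smallEtaleTopology_of_forall
    intro x
    obtain ⟨N, g, ⟨n, hn⟩, hg⟩ := h x
    exact ⟨N, g, hg, ⟨n, hn⟩⟩
  exact (hQ _ hmem).ext (fun _ _ hf => hf)

set_option backward.isDefEq.respectTransparency.types false in
lemma LocEq.pullback {W V : X.Etale} (a : W ⟶ V) (s t : Q.obj (op V)) (x : W.left)
    (h : LocEq Q s t (a.left.base x)) : LocEq Q (Q.map a.op s) (Q.map a.op t) x := by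
  obtain ⟨N, g, ⟨n, hn⟩, hg⟩ := h
  let P : X.Etale := Scheme.Etale.mk (pullback.fst a.left g.left ≫ W.hom)
  let p₁ : P ⟶ W := MorphismProperty.Over.homMk (pullback.fst a.left g.left) rfl trivial
  have hN : pullback.snd a.left g.left ≫ N.hom = pullback.fst a.left g.left ≫ W.hom := by
    have e1 : g.left ≫ V.hom = N.hom := MorphismProperty.Over.w g
    have e2 : a.left ≫ V.hom = W.hom := MorphismProperty.Over.w a
    rw [← e1, ← e2, ← Category.assoc, ← Category.assoc, pullback.condition]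
  let p₂ : P ⟶ N := MorphismProperty.Over.homMk (pullback.snd a.left g.left) hN trivial
  have hc : p₁ ≫ a = p₂ ≫ g := by
    apply MorphismProperty.Over.Hom.ext
    exact pullback.condition
  obtain ⟨z, hz1, -⟩ := Scheme.Pullback.exists_preimage_pullback (f := a.left) (g := g.left)
    x n hn.symm
  refine ⟨P, p₁, ⟨z, hz1⟩, ?_⟩
  have e1 : ∀ r : Q.obj (op V), Q.map p₁.op (Q.map a.op r) = Q.map p₂.op (Q.map g.op r) := by
    intro r
    have h1 : Q.map p₁.op (Q.map a.op r) = Q.map (p₁ ≫ a).op r := by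
      rw [op_comp, Q.map_comp]; rfl
    have h2 : Q.map p₂.op (Q.map g.op r) = Q.map (p₂ ≫ g).op r := by
      rw [op_comp, Q.map_comp]; rfl
    rw [h1, h2, hc]
  rw [e1, e1, hg]

end LocEq

section Closedness

universe w

variable {X Y : Scheme.{u}} (f : X ⟶ Y)

set_option backward.isDefEq.respectTransparency.types false in
/-- **Closedness lemma** for sections of sheaves of types. -/
theorem locEq_push [IsIntegralHom f] (Q : X.Etaleᵒᵖ ⥤ Type w)
    (hQ : Presieve.IsSeparated X.smallEtaleTopology Q) (W : Y.Etale)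
    (s t : Q.obj (op ((EtCoh.bc f).obj W))) (y : W.left)
    (h : ∀ x : ((EtCoh.bc f).obj W).left, (pullback.fst W.hom f).base x = y → LocEq Q s t x) :
    ∃ (N : Y.Etale) (g : N ⟶ W), (∃ n : N.left, g.left.base n = y) ∧
      Q.map ((EtCoh.bc f).map g).op s = Q.map ((EtCoh.bc f).map g).op t := by
  let p : ((EtCoh.bc f).obj W).left ⟶ W.left := pullback.fst W.hom f
  haveI : IsIntegralHom p := MorphismProperty.pullback_fst (P := @IsIntegralHom) _ _ inferInstance
  let Zc : Set ((EtCoh.bc f).obj W).left := {x | LocEq Q s t x}ᶜ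
  have hZc : IsClosed Zc := (isOpen_locEq Q s t).isClosed_compl
  have hC : IsClosed (p '' Zc) := p.isClosedMap _ hZc
  have hy : y ∉ p '' Zc := by
    rintro ⟨x, hx, hxy⟩
    exact hx (h x hxy)
  let O : W.left.Opens := ⟨(p '' Zc)ᶜ, hC.isOpen_compl⟩
  let N : Y.Etale := Scheme.Etale.mk (O.ι ≫ W.hom)
  let g : N ⟶ W := MorphismProperty.Over.homMk O.ι rfl trivial
  refine ⟨N, g, ⟨⟨y, hy⟩, rfl⟩, ?_⟩
  apply eq_of_locEq Q hQ
  intro x'
  apply LocEq.pullback
  by_contra hcon
  have h1 : p (((EtCoh.bc f).map g).left x') ∈ p '' Zc := ⟨_, hcon, rfl⟩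
  have h2 : p (((EtCoh.bc f).map g).left x') = g.left (pullback.fst N.hom f x') :=
    congrArg (fun m : ((EtCoh.bc f).obj N).left ⟶ W.left => m.base x') (bc_map_left_fst f g)
  rw [h2] at h1
  exact (pullback.fst N.hom f x').2 h1

end Closedness

section Can

universe v' u' w'

variable {X Y : Scheme.{u}} (f : X ⟶ Y) {Ω : Type u} [Field Ω] [IsSepClosed Ω]
  (η₀ : Spec (CommRingCat.of Ω) ⟶ Y) (ζ : Spec (CommRingCat.of Ω) ⟶ X) (hζ : ζ ≫ f = η₀)
variable {A : Type u'} [Category.{v'} A] [HasColimitsOfSize.{u, u} A]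

/-- the canonical map `(f_* P)_η ⟶ P_ζ` for a geometric point `ζ` of `X` over `η` -/
noncomputable def can (P : X.Etaleᵒᵖ ⥤ A) :
    (Φ η₀).presheafFiber.obj ((EtCoh.bc f).op ⋙ P) ⟶ (Φ ζ).presheafFiber.obj P :=
  (Φ η₀).presheafFiberDesc
    (fun V v => (Φ ζ).toPresheafFiber ((EtCoh.bc f).obj V) (ptB f η₀ ζ hζ V v) P)
    (fun V' V g v' => by
      have h1 := (Φ ζ).toPresheafFiber_w ((EtCoh.bc f).map g) (ptB f η₀ ζ hζ V' v') P
      rw [ptB_map] at h1
      exact h1)

lemma toFiber_can (P : X.Etaleᵒᵖ ⥤ A) (V : Y.Etale) (v : (Φ η₀).fiber.obj V) :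
    (Φ η₀).toPresheafFiber V v ((EtCoh.bc f).op ⋙ P) ≫ can f η₀ ζ hζ P =
      (Φ ζ).toPresheafFiber ((EtCoh.bc f).obj V) (ptB f η₀ ζ hζ V v) P :=
  (Φ η₀).toPresheafFiber_presheafFiberDesc _ _ V v

lemma can_naturality {P P' : X.Etaleᵒᵖ ⥤ A} (φ : P ⟶ P') :
    (Φ η₀).presheafFiber.map (Functor.whiskerLeft (EtCoh.bc f).op φ) ≫ can f η₀ ζ hζ P' =
      can f η₀ ζ hζ P ≫ (Φ ζ).presheafFiber.map φ := by
  apply (Φ η₀).presheafFiber_hom_ext
  intro V v
  rw [← Category.assoc, (Φ η₀).toPresheafFiber_naturality, Category.assoc, toFiber_can,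
    ← Category.assoc, toFiber_can, (Φ ζ).toPresheafFiber_naturality]
  rfl

variable {FC : A → A → Type*} {CC : A → Type w'} [∀ X Y, FunLike (FC X Y) (CC X) (CC Y)]
  [ConcreteCategory.{w'} A FC] [PreservesFilteredColimitsOfSize.{u, u} (forget A)]

omit [PreservesFilteredColimitsOfSize.{u, u} (forget A)] in
lemma toFiber_can_apply (P : X.Etaleᵒᵖ ⥤ A) (V : Y.Etale) (v : (Φ η₀).fiber.obj V)
    (s : ToType (P.obj (op ((EtCoh.bc f).obj V)))) :
    can f η₀ ζ hζ P ((Φ η₀).toPresheafFiber V v ((EtCoh.bc f).op ⋙ P) s) =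
      (Φ ζ).toPresheafFiber ((EtCoh.bc f).obj V) (ptB f η₀ ζ hζ V v) P s :=
  (ConcreteCategory.comp_apply _ _ s).symm.trans
    (ConcreteCategory.congr_hom (toFiber_can f η₀ ζ hζ P V v) s)

set_option backward.isDefEq.respectTransparency.types false in
set_option maxHeartbeats 1000000 in
/-- **Stalk formula, injectivity**: for `f` finite and `Ω` algebraically closed, an element of
`(f_* P)_η` is determined by its images in the stalks `P_ζ`, `ζ` over `η` (`P` separated). -/
theorem can_injective [IsFinite f] [IsAlgClosed Ω] (P : X.Etaleᵒᵖ ⥤ A)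
    (hP : Presieve.IsSeparated X.smallEtaleTopology (P ⋙ forget A))
    (a b : ToType ((Φ η₀).presheafFiber.obj ((EtCoh.bc f).op ⋙ P)))
    (h : ∀ (ζ : Spec (CommRingCat.of Ω) ⟶ X) (hζ : ζ ≫ f = η₀),
      can f η₀ ζ hζ P a = can f η₀ ζ hζ P b) : a = b := by
  obtain ⟨V, v, s, t, rfl, rfl⟩ := (Φ η₀).toPresheafFiber_jointly_surjective₂ a b
  obtain ⟨vl, hvl⟩ : ∃ vl : Spec (CommRingCat.of Ω) ⟶ V.left, vl = v.left := ⟨_, rfl⟩
  have hvw : vl ≫ V.hom = η₀ := hvl ▸ fiber_w η₀ V v
  have hloc : ∀ x : ((EtCoh.bc f).obj V).left,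
      (pullback.fst V.hom f).base x = vl.base (default : Spec (CommRingCat.of Ω)) →
      LocEq (P ⋙ forget A) s t x := by
    intro x hx
    haveI : IsIntegralHom (pullback.fst V.hom f) :=
      MorphismProperty.pullback_fst (P := @IsIntegralHom) _ _ inferInstance
    obtain ⟨l, hl1, hl2⟩ := exists_point_lift (pullback.fst V.hom f) vl x hx
    have hζ : (l ≫ pullback.snd V.hom f) ≫ f = η₀ :=
      (Category.assoc _ _ _).trans ((congrArg (l ≫ ·) pullback.condition.symm).trans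
        ((Category.assoc _ _ _).symm.trans ((congrArg (· ≫ V.hom) hl1).trans hvw)))
    have hpt : (ptB f η₀ (l ≫ pullback.snd V.hom f) hζ V v).left = l := by
      apply pullback.hom_ext
      · exact (ptB_left_fst f η₀ _ hζ V v).trans (hvl.symm.trans hl1.symm)
      · exact ptB_left_snd f η₀ _ hζ V v
    have h1 := h _ hζ
    rw [toFiber_can_apply, toFiber_can_apply] at h1
    obtain ⟨N, g, n, hn, hg⟩ := ((Φ (l ≫ pullback.snd V.hom f)).toPresheafFiber_eq_iff' _ _ s t).mp h1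
    refine ⟨N, g, ⟨(n.left : Spec (CommRingCat.of Ω) ⟶ N.left).base
      (default : Spec (CommRingCat.of Ω)), ?_⟩, hg⟩
    have e3 : n.left ≫ g.left = l := (congrArg (fun m => m.left) hn).trans hpt
    rw [← hl2]
    exact congrArg (fun m : Spec (CommRingCat.of Ω) ⟶ ((EtCoh.bc f).obj V).left =>
      m.base (default : Spec (CommRingCat.of Ω))) e3
  obtain ⟨N, g, ⟨n, hn⟩, hg⟩ := locEq_push f (P ⋙ forget A) hP V s t _ hloc
  obtain ⟨l', hl'1, hl'2⟩ := Scheme.exists_fac_of_etale_of_isSepClosed g.left vl n hn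
  have hv'w : l' ≫ N.hom = η₀ := by
    have e1 : g.left ≫ V.hom = N.hom := MorphismProperty.Over.w g
    rw [← e1, ← Category.assoc, hl'1, hvw]
  let v' : (Φ η₀).fiber.obj N := Over.homMk l' hv'w
  have hv' : (Φ η₀).fiber.map g v' = v := by
    apply Over.OverMorphism.ext
    exact hl'1.trans hvl
  rw [← hv', ← (Φ η₀).toPresheafFiber_w_apply, ← (Φ η₀).toPresheafFiber_w_apply]
  exact congrArg _ hg

set_option backward.isDefEq.respectTransparency.types false in
set_option maxHeartbeats 1000000 in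
/-- **Stalk formula, surjectivity**: for `f` finite, `Ω` algebraically closed and `P` a sheaf, every
family of germs `(c_ζ ∈ P_ζ)`, `ζ` over `η`, comes from an element of `(f_* P)_η`. -/
theorem can_surjective [IsFinite f] [IsAlgClosed Ω] (P : X.Etaleᵒᵖ ⥤ A)
    (hP : Presieve.IsSheaf X.smallEtaleTopology (P ⋙ forget A))
    (c : ∀ ζ : {ζ : Spec (CommRingCat.of Ω) ⟶ X // ζ ≫ f = η₀},
      ToType ((Φ ζ.1).presheafFiber.obj P)) :
    ∃ a : ToType ((Φ η₀).presheafFiber.obj ((EtCoh.bc f).op ⋙ P)),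
      ∀ ζ : {ζ : Spec (CommRingCat.of Ω) ⟶ X // ζ ≫ f = η₀}, can f η₀ ζ.1 ζ.2 P a = c ζ := by
  have hrep : ∀ ζ : {ζ : Spec (CommRingCat.of Ω) ⟶ X // ζ ≫ f = η₀},
      ∃ (W : X.Etale) (w : (Φ ζ.1).fiber.obj W) (s : ToType (P.obj (op W))),
        (Φ ζ.1).toPresheafFiber W w P s = c ζ :=
    fun ζ => (Φ ζ.1).toPresheafFiber_jointly_surjective (c ζ)
  choose W w s hs using hrep
  obtain ⟨V, v, W', a, h, p, hopen, hdisj, hcov, hap, hhp⟩ := exists_pointed_split f η₀ W w
  obtain ⟨S, hS, -⟩ := Groth.Agent.R2.H13.FinPush.existsUnique_glue a hopen hdisj hcov hP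
    (fun ζ => (P ⋙ forget A).map (h ζ).op (s ζ))
  refine ⟨(Φ η₀).toPresheafFiber V v ((EtCoh.bc f).op ⋙ P) S, ?_⟩
  intro ζ
  rw [toFiber_can_apply, ← hap ζ, ← (Φ ζ.1).toPresheafFiber_w_apply]
  have h1 : P.map (a ζ).op S = P.map (h ζ).op (s ζ) := hS ζ
  rw [h1, (Φ ζ.1).toPresheafFiber_w_apply, hhp ζ]
  exact hs ζ

end Can

end Groth.Agent.R2.H13.FinStalk
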