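import Mathlib
import Groth.Agent.R2.H13FinStalk
import Groth.Agent.Lib.Helper16StalkPull
import Groth.Agent.S14622

/-!
# Base change for finite morphisms (abelian étale sheaves) (helper13)

Namespace `Groth.Agent.R2.H13.FinBC`.

* `mono_of_stalks_algClosed`, `epi_of_stalks_algClosed` : stalks at geometric points with values in
  algebraically closed fields detect monomorphisms and epimorphisms.
* `can_baseChange` : compatibility of the base change map with the canonical maps `can`.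
* `isIso_baseChange0_of_finite` : the base change map `g⁻¹ f_* F ⟶ f'_* g'⁻¹ F` is an isomorphism
  for `f` finite.
-/

set_option autoImplicit false
set_option linter.style.haveILetI false
universe u

namespace Groth.Agent.R2.H13.FinBC

open CategoryTheory CategoryTheory.Limits AlgebraicGeometry Opposite
open Groth.Agent.R2.H1.EtLocalRing Groth.Agent.R2.H13.FinPtGerm Groth.Agent.R2.H13.FinPtSplit
open Groth.Agent.R2.H13.FinStalk
open Groth.Agent.Lib.Helper16.EtStalk Groth.Agent.Lib.Helper16.SmallEtale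
open Groth.Agent.Lib.Helper16.StalkPull Groth.Agent.S0100 Groth.Agent.S0101

section Stalks

set_option backward.isDefEq.respectTransparency.types false in
/-- every point of an etale `X`-scheme is the image of a geometric point with values in an
algebraically closed field -/
lemma exists_geometric_point_algClosed {X : Scheme.{u}} (U : X.Etale) (p : U.left) :
    ∃ (Ω : Type u) (_ : Field Ω) (_ : IsAlgClosed Ω) (ξ : Spec (CommRingCat.of Ω) ⟶ X)
      (x : (Scheme.pointSmallEtale ξ).fiber.obj U),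
      (x.left : Spec (CommRingCat.of Ω) ⟶ U.left) (default : Spec (CommRingCat.of Ω)) = p := by
  let Ω := AlgebraicClosure (U.left.residueField p)
  let l : Spec (CommRingCat.of Ω) ⟶ U.left :=
    Spec.map (CommRingCat.ofHom (algebraMap (U.left.residueField p) Ω)) ≫
      U.left.fromSpecResidueField p
  refine ⟨Ω, inferInstance, inferInstance, l ≫ U.hom, Over.homMk l rfl, ?_⟩
  change l default = p
  dsimp only [l]
  rw [Scheme.Hom.comp_apply]
  exact Scheme.fromSpecResidueField_apply _ _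

set_option backward.isDefEq.respectTransparency.types false in
lemma isLocallyInjective_of_stalks_algClosed {X : Scheme.{u}} {F G : EtCoh.Ab X} (a : F ⟶ G)
    (h : ∀ (Ω : Type u) [Field Ω] [IsAlgClosed Ω] (ξ : Spec (CommRingCat.of Ω) ⟶ X),
      Function.Injective ((EtCoh.stalk ξ).map a)) :
    Sheaf.IsLocallyInjective a := by
  constructor
  intro U x y hxy
  induction U using Opposite.rec with | _ U => ?_
  rw [mem_smallEtale_iff]
  intro p
  obtain ⟨Ω, _, _, ξ, x₀, hx₀⟩ := exists_geometric_point_algClosed U p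
  let Φ' := Scheme.pointSmallEtale ξ
  have e1 : (EtCoh.stalk ξ).map a (Φ'.toPresheafFiber U x₀ F.obj x) =
      (EtCoh.stalk ξ).map a (Φ'.toPresheafFiber U x₀ F.obj y) := by
    have n1 := Φ'.toPresheafFiber_naturality_apply a.hom U x₀ x
    have n2 := Φ'.toPresheafFiber_naturality_apply a.hom U x₀ y
    exact n1.trans ((congrArg _ hxy).trans n2.symm)
  have e2 := h Ω ξ e1
  obtain ⟨W, g, w, hw, hg⟩ := (Φ'.toPresheafFiber_eq_iff' U x₀ x y).mp e2
  refine ⟨W, g, (w.left : Spec (CommRingCat.of Ω) ⟶ W.left) (default : Spec (CommRingCat.of Ω)),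
    hg, ?_⟩
  have e3 : w.left ≫ g.left = x₀.left := congrArg (fun m => m.left) hw
  rw [← hx₀]
  exact congrArg (fun m : Spec (CommRingCat.of Ω) ⟶ U.left => m default) e3

set_option backward.isDefEq.respectTransparency.types false in
lemma isLocallySurjective_of_stalks_algClosed {X : Scheme.{u}} {F G : EtCoh.Ab X} (a : F ⟶ G)
    (h : ∀ (Ω : Type u) [Field Ω] [IsAlgClosed Ω] (ξ : Spec (CommRingCat.of Ω) ⟶ X),
      Function.Surjective ((EtCoh.stalk ξ).map a)) :
    Sheaf.IsLocallySurjective a := by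
  constructor
  intro U t
  rw [mem_smallEtale_iff]
  intro p
  obtain ⟨Ω, _, _, ξ, x₀, hx₀⟩ := exists_geometric_point_algClosed U p
  let Φ' := Scheme.pointSmallEtale ξ
  obtain ⟨σ, hσ⟩ := h Ω ξ (Φ'.toPresheafFiber U x₀ G.obj t)
  obtain ⟨V, v, s, rfl⟩ := Φ'.toPresheafFiber_jointly_surjective (P := F.obj) σ
  have n1 : (EtCoh.stalk ξ).map a (Φ'.toPresheafFiber V v F.obj s) =
      Φ'.toPresheafFiber V v G.obj (a.hom.app (op V) s) :=
    Φ'.toPresheafFiber_naturality_apply a.hom V v s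
  let m : Φ'.fiber.Elements := IsCofiltered.min (⟨V, v⟩ : Φ'.fiber.Elements) ⟨U, x₀⟩
  let gV : m ⟶ ⟨V, v⟩ := IsCofiltered.minToLeft _ _
  let gU : m ⟶ ⟨U, x₀⟩ := IsCofiltered.minToRight _ _
  have hgV : Φ'.fiber.map gV.1 m.2 = v := gV.2
  have hgU : Φ'.fiber.map gU.1 m.2 = x₀ := gU.2
  have e1 : Φ'.toPresheafFiber m.1 m.2 G.obj (G.obj.map gU.1.op t) =
      Φ'.toPresheafFiber m.1 m.2 G.obj (G.obj.map gV.1.op (a.hom.app (op V) s)) := by
    rw [Φ'.toPresheafFiber_w_apply, Φ'.toPresheafFiber_w_apply, hgV, hgU, ← hσ, n1]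
  obtain ⟨W', g, w', hw', hg⟩ := (Φ'.toPresheafFiber_eq_iff' m.1 m.2 _ _).mp e1
  refine ⟨W', g ≫ gU.1, (w'.left : Spec (CommRingCat.of Ω) ⟶ W'.left)
    (default : Spec (CommRingCat.of Ω)), ⟨F.obj.map (g ≫ gV.1).op s, ?_⟩, ?_⟩
  · have n2 := NatTrans.naturality_apply a.hom (g ≫ gV.1).op s
    rw [n2]
    rw [op_comp, Functor.map_comp, ConcreteCategory.comp_apply, ← hg,
      ← ConcreteCategory.comp_apply, ← Functor.map_comp, ← op_comp]
  · have e3 : w'.left ≫ (g ≫ gU.1).left = x₀.left := by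
      have h1 : Φ'.fiber.map (g ≫ gU.1) w' = x₀ := by
        rw [Functor.map_comp]
        change Φ'.fiber.map gU.1 (Φ'.fiber.map g w') = x₀
        rw [hw', hgU]
      exact congrArg (fun m => m.left) h1
    rw [← hx₀]
    exact congrArg (fun m : Spec (CommRingCat.of Ω) ⟶ U.left => m default) e3

lemma mono_of_stalks_algClosed {X : Scheme.{u}} {F G : EtCoh.Ab X} (a : F ⟶ G)
    (h : ∀ (Ω : Type u) [Field Ω] [IsAlgClosed Ω] (ξ : Spec (CommRingCat.of Ω) ⟶ X),
      Function.Injective ((EtCoh.stalk ξ).map a)) : Mono a := by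
  have := isLocallyInjective_of_stalks_algClosed a h
  exact Sheaf.mono_of_isLocallyInjective a

lemma epi_of_stalks_algClosed {X : Scheme.{u}} {F G : EtCoh.Ab X} (a : F ⟶ G)
    (h : ∀ (Ω : Type u) [Field Ω] [IsAlgClosed Ω] (ξ : Spec (CommRingCat.of Ω) ⟶ X),
      Function.Surjective ((EtCoh.stalk ξ).map a)) : Epi a := by
  have := isLocallySurjective_of_stalks_algClosed a h
  exact Sheaf.epi_of_isLocallySurjective a

lemma isIso_of_stalks_algClosed {X : Scheme.{u}} {F G : EtCoh.Ab X} (a : F ⟶ G)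
    (h : ∀ (Ω : Type u) [Field Ω] [IsAlgClosed Ω] (ξ : Spec (CommRingCat.of Ω) ⟶ X),
      Function.Bijective ((EtCoh.stalk ξ).map a)) : IsIso a := by
  haveI := mono_of_stalks_algClosed a (fun Ω _ _ ξ => (h Ω ξ).1)
  haveI := epi_of_stalks_algClosed a (fun Ω _ _ ξ => (h Ω ξ).2)
  exact isIso_of_mono_of_epi a

end Stalks

section FiberIso

variable {X Y : Scheme.{u}} (f : X ⟶ Y) {Ω : Type u} [Field Ω] [IsSepClosed Ω]
  (ξ : Spec (CommRingCat.of Ω) ⟶ X)

set_option backward.isDefEq.respectTransparency.types false in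
lemma fiberIso_inv_left_fst (U : Y.Etale) (u : (Scheme.pointSmallEtale (ξ ≫ f)).fiber.obj U) :
    (((fiberIso f ξ).inv.app U u).left : Spec (CommRingCat.of Ω) ⟶ ((EtCoh.bc f).obj U).left) ≫
      pullback.fst U.hom f = u.left := by
  have h1 := Groth.Agent.S14622.fiberIso_hom_left f ξ U ((fiberIso f ξ).inv.app U u)
  have h2 : (fiberIso f ξ).hom.app U ((fiberIso f ξ).inv.app U u) = u :=
    Groth.Agent.S0634.iso_inv_hom_apply (fiberIso f ξ).symm U u
  exact (h1.symm.trans (congrArg (fun m => (m.left : Spec (CommRingCat.of Ω) ⟶ U.left)) h2))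

set_option backward.isDefEq.respectTransparency.types false in
lemma fiberIso_inv_left_snd (U : Y.Etale) (u : (Scheme.pointSmallEtale (ξ ≫ f)).fiber.obj U) :
    (((fiberIso f ξ).inv.app U u).left : Spec (CommRingCat.of Ω) ⟶ ((EtCoh.bc f).obj U).left) ≫
      pullback.snd U.hom f = ξ :=
  Over.w ((fiberIso f ξ).inv.app U u)

end FiberIso

section Theta

variable {X Y X' Y' : Scheme.{u}} (f : X ⟶ Y) (g : Y' ⟶ Y) (f' : X' ⟶ Y') (g' : X' ⟶ X)
  (w : g' ≫ f = f' ≫ g)

set_option backward.isDefEq.respectTransparency.types false in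
/-- the comparison morphism `(V ×_Y Y') ×_{Y'} X' ⟶ (V ×_Y X) ×_X X'` -/
noncomputable def θ (V : Y.Etale) :
    (EtCoh.bc f').obj ((EtCoh.bc g).obj V) ⟶ (EtCoh.bc g').obj ((EtCoh.bc f).obj V) :=
  (MorphismProperty.Over.pullbackComp (P := EtCoh.etaleMP) (Q := ⊤) f' g).inv.app V ≫
    (MorphismProperty.Over.pullbackCongr (P := EtCoh.etaleMP) (Q := ⊤) w).inv.app V ≫
    (MorphismProperty.Over.pullbackComp (P := EtCoh.etaleMP) (Q := ⊤) g' f).hom.app V

set_option backward.isDefEq.respectTransparency.types false in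
lemma θ_left_snd (V : Y.Etale) :
    (θ f g f' g' w V).left ≫ pullback.snd (pullback.snd V.hom f) g' =
      pullback.snd (pullback.snd V.hom g) f' :=
  Over.w (θ f g f' g' w V).hom

set_option backward.isDefEq.respectTransparency.types false in
lemma θ_left_fst_fst (V : Y.Etale) :
    (θ f g f' g' w V).left ≫ pullback.fst (pullback.snd V.hom f) g' ≫ pullback.fst V.hom f =
      pullback.fst (pullback.snd V.hom g) f' ≫ pullback.fst V.hom g := by
  have h1 := MorphismProperty.Over.pullbackComp_left_fst_fst (P := EtCoh.etaleMP) (Q := ⊤) g' f V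
  have h2 := MorphismProperty.Over.pullbackCongr_hom_app_left_fst (P := EtCoh.etaleMP) (Q := ⊤)
    w V
  have h3 := MorphismProperty.Over.pullbackComp_left_fst_fst (P := EtCoh.etaleMP) (Q := ⊤) f' g V
  have i2 : ((MorphismProperty.Over.pullbackCongr (P := EtCoh.etaleMP) (Q := ⊤) w).inv.app V).left ≫
      ((MorphismProperty.Over.pullbackCongr (P := EtCoh.etaleMP) (Q := ⊤) w).hom.app V).left =
        𝟙 _ := by
    rw [← MorphismProperty.Comma.comp_left, Iso.inv_hom_id_app]
    rfl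
  have i3 : ((MorphismProperty.Over.pullbackComp (P := EtCoh.etaleMP) (Q := ⊤) f' g).inv.app V).left ≫
      ((MorphismProperty.Over.pullbackComp (P := EtCoh.etaleMP) (Q := ⊤) f' g).hom.app V).left =
        𝟙 _ := by
    rw [← MorphismProperty.Comma.comp_left, Iso.inv_hom_id_app]
    rfl
  have hθ : (θ f g f' g' w V).left =
      ((MorphismProperty.Over.pullbackComp (P := EtCoh.etaleMP) (Q := ⊤) f' g).inv.app V).left ≫
      ((MorphismProperty.Over.pullbackCongr (P := EtCoh.etaleMP) (Q := ⊤) w).inv.app V).left ≫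
      ((MorphismProperty.Over.pullbackComp (P := EtCoh.etaleMP) (Q := ⊤) g' f).hom.app V).left :=
    rfl
  rw [hθ]
  obtain ⟨A, hA⟩ : ∃ A, A = ((MorphismProperty.Over.pullbackComp (P := EtCoh.etaleMP) (Q := ⊤)
    f' g).inv.app V).left := ⟨_, rfl⟩
  obtain ⟨A', hA'⟩ : ∃ A', A' = ((MorphismProperty.Over.pullbackComp (P := EtCoh.etaleMP) (Q := ⊤)
    f' g).hom.app V).left := ⟨_, rfl⟩
  obtain ⟨B, hB⟩ : ∃ B, B = ((MorphismProperty.Over.pullbackCongr (P := EtCoh.etaleMP) (Q := ⊤)
    w).inv.app V).left := ⟨_, rfl⟩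
  obtain ⟨B', hB'⟩ : ∃ B', B' = ((MorphismProperty.Over.pullbackCongr (P := EtCoh.etaleMP) (Q := ⊤)
    w).hom.app V).left := ⟨_, rfl⟩
  obtain ⟨C, hC⟩ : ∃ C, C = ((MorphismProperty.Over.pullbackComp (P := EtCoh.etaleMP) (Q := ⊤)
    g' f).hom.app V).left := ⟨_, rfl⟩
  rw [← hA, ← hB, ← hC]
  rw [← hC] at h1
  rw [← hB'] at h2
  rw [← hA'] at h3
  rw [← hB, ← hB'] at i2
  rw [← hA, ← hA'] at i3
  calc (A ≫ B ≫ C) ≫ pullback.fst (pullback.snd V.hom f) g' ≫ pullback.fst V.hom f
      = A ≫ B ≫ (C ≫ pullback.fst (pullback.snd V.hom f) g' ≫ pullback.fst V.hom f) := by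
        simp only [Category.assoc]
    _ = A ≫ B ≫ (B' ≫ pullback.fst V.hom (f' ≫ g)) := by rw [h1, h2]
    _ = A ≫ (B ≫ B') ≫ pullback.fst V.hom (f' ≫ g) := by simp only [Category.assoc]
    _ = A ≫ pullback.fst V.hom (f' ≫ g) := by rw [i2, Category.id_comp]
    _ = A ≫ (A' ≫ pullback.fst (pullback.snd V.hom g) f' ≫ pullback.fst V.hom g) := by rw [h3]
    _ = (A ≫ A') ≫ pullback.fst (pullback.snd V.hom g) f' ≫ pullback.fst V.hom g := by
        simp only [Category.assoc]
    _ = _ := by rw [i3, Category.id_comp]; rfl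

end Theta

section CanBC

variable {X Y X' Y' : Scheme.{u}} (f : X ⟶ Y) (g : Y' ⟶ Y) (f' : X' ⟶ Y') (g' : X' ⟶ X)
  (w : g' ≫ f = f' ≫ g)
variable {Ω : Type u} [Field Ω] [IsSepClosed Ω]
  (η' : Spec (CommRingCat.of Ω) ⟶ Y') (ξ' : Spec (CommRingCat.of Ω) ⟶ X') (hξ' : ξ' ≫ f' = η')

omit [IsSepClosed Ω] in
include w hξ' in
lemma hζ_aux : (ξ' ≫ g') ≫ f = η' ≫ g := by
  rw [Category.assoc, w, ← Category.assoc, hξ']

set_option backward.isDefEq.respectTransparency.types false in
lemma sections_formula (K : EtCoh.Ab X') (V : Y.Etale)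
    (τ : K.obj.obj (op ((EtCoh.bc g').obj ((EtCoh.bc f).obj V)))) :
    (((EtCoh.pushComp f g').hom.app K ≫ (EtCoh.pushCongr w).hom.app K ≫
      (EtCoh.pushComp g f').inv.app K).hom.app (op V)) τ = K.obj.map (θ f g f' g' w V).op τ := by
  unfold θ
  rw [op_comp, op_comp, Functor.map_comp, Functor.map_comp]
  rfl

set_option backward.isDefEq.respectTransparency.types false in
lemma pt_eq (V : Y.Etale) (v : (Φ (η' ≫ g)).fiber.obj V) :
    (Φ ξ').fiber.map (θ f g f' g' w V)
      (ptB f' η' ξ' hξ' ((EtCoh.bc g).obj V) ((fiberIso g η').inv.app V v)) =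
    (fiberIso g' ξ').inv.app ((EtCoh.bc f).obj V)
      (ptB f (η' ≫ g) (ξ' ≫ g') (hζ_aux f g f' g' w η' ξ' hξ') V v) := by
  obtain ⟨pL, hpL⟩ : ∃ pL, pL = (ptB f' η' ξ' hξ' ((EtCoh.bc g).obj V)
    ((fiberIso g η').inv.app V v)).left := ⟨_, rfl⟩
  obtain ⟨tL, htL⟩ : ∃ tL, tL = (θ f g f' g' w V).left := ⟨_, rfl⟩
  obtain ⟨rL, hrL⟩ : ∃ rL, rL = ((fiberIso g' ξ').inv.app ((EtCoh.bc f).obj V)
      (ptB f (η' ≫ g) (ξ' ≫ g') (hζ_aux f g f' g' w η' ξ' hξ') V v)).left := ⟨_, rfl⟩
  have a1 : pL ≫ pullback.fst (pullback.snd V.hom g) f' =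
      ((fiberIso g η').inv.app V v).left := hpL ▸ ptB_left_fst f' η' ξ' hξ' _ _
  have a2 : pL ≫ pullback.snd (pullback.snd V.hom g) f' = ξ' :=
    hpL ▸ ptB_left_snd f' η' ξ' hξ' _ _
  have a3 : ((fiberIso g η').inv.app V v).left ≫ pullback.fst V.hom g = v.left :=
    fiberIso_inv_left_fst g η' V v
  have b1 : tL ≫ pullback.fst (pullback.snd V.hom f) g' ≫ pullback.fst V.hom f =
      pullback.fst (pullback.snd V.hom g) f' ≫ pullback.fst V.hom g :=
    htL ▸ θ_left_fst_fst f g f' g' w V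
  have b2 : tL ≫ pullback.snd (pullback.snd V.hom f) g' =
      pullback.snd (pullback.snd V.hom g) f' := htL ▸ θ_left_snd f g f' g' w V
  have c1 : rL ≫ pullback.fst (pullback.snd V.hom f) g' =
      (ptB f (η' ≫ g) (ξ' ≫ g') (hζ_aux f g f' g' w η' ξ' hξ') V v).left :=
    hrL ▸ fiberIso_inv_left_fst g' ξ' _ _
  have c2 : rL ≫ pullback.snd (pullback.snd V.hom f) g' = ξ' :=
    hrL ▸ fiberIso_inv_left_snd g' ξ' _ _
  have d1 : (ptB f (η' ≫ g) (ξ' ≫ g') (hζ_aux f g f' g' w η' ξ' hξ') V v).left ≫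
      pullback.fst V.hom f = v.left := ptB_left_fst f _ _ _ V v
  have d2 : (ptB f (η' ≫ g) (ξ' ≫ g') (hζ_aux f g f' g' w η' ξ' hξ') V v).left ≫
      pullback.snd V.hom f = ξ' ≫ g' := ptB_left_snd f _ _ _ V v
  apply Over.OverMorphism.ext
  have e1 : ((Φ ξ').fiber.map (θ f g f' g' w V)
      (ptB f' η' ξ' hξ' ((EtCoh.bc g).obj V) ((fiberIso g η').inv.app V v))).left = pL ≫ tL := by
    rw [hpL, htL]; rfl
  refine e1.trans (Eq.trans ?_ hrL)
  apply pullback.hom_ext
  · apply pullback.hom_ext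
    · exact (Category.assoc _ _ _).trans
        ((Category.assoc _ _ _).trans
        ((congrArg (pL ≫ ·) b1).trans
        ((Category.assoc _ _ _).symm.trans
        ((congrArg (· ≫ pullback.fst V.hom g) a1).trans
        (a3.trans
        (d1.symm.trans
        (congrArg (· ≫ pullback.fst V.hom f) c1.symm)))))))
    · exact (Category.assoc _ _ _).trans
        ((congrArg ((pL ≫ tL) ≫ ·) pullback.condition).trans
        ((Category.assoc _ _ _).symm.trans
        ((congrArg (· ≫ g') ((Category.assoc _ _ _).trans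
          ((congrArg (pL ≫ ·) b2).trans a2))).trans
        (d2.symm.trans (congrArg (· ≫ pullback.snd V.hom f) c1.symm)))))
  · exact (Category.assoc _ _ _).trans ((congrArg (pL ≫ ·) b2).trans (a2.trans c2.symm))

set_option backward.isDefEq.respectTransparency.types false in
/-- the adjoint of the base change map, on sections -/
lemma baseChange0_unit_apply (F : EtCoh.Ab X) (V : Y.Etale)
    (σ : ((EtCoh.push f).obj F).obj.obj (op V)) :
    (EtCoh.baseChange0 f g f' g' w F).hom.app (op ((EtCoh.bc g).obj V))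
      (((EtCoh.pullPushAdj g).unit.app ((EtCoh.push f).obj F)).hom.app (op V) σ) =
    ((EtCoh.pull g').obj F).obj.map (θ f g f' g' w V).op
      (((EtCoh.pullPushAdj g').unit.app F).hom.app (op ((EtCoh.bc f).obj V)) σ) := by
  have h1 : (EtCoh.pullPushAdj g).unit.app ((EtCoh.push f).obj F) ≫
      (EtCoh.push g).map (EtCoh.baseChange0 f g f' g' w F) =
      (EtCoh.push f).map ((EtCoh.pullPushAdj g').unit.app F) ≫ (EtCoh.pushComp f g').hom.app _ ≫
      (EtCoh.pushCongr w).hom.app _ ≫ (EtCoh.pushComp g f').inv.app _ := by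
    refine ((EtCoh.pullPushAdj g).homEquiv_unit _ _ _).symm.trans ?_
    exact Equiv.apply_symm_apply _ _
  have h2 := congrArg (fun m => m.hom.app (op V) σ) h1
  refine h2.trans ?_
  exact sections_formula f g f' g' w ((EtCoh.pull g').obj F) V _

set_option backward.isDefEq.respectTransparency.types false in
/-- compatibility of the base change map with the canonical maps `can` on stalks -/
theorem can_baseChange (F : EtCoh.Ab X)
    (b : ToType ((EtCoh.stalk (η' ≫ g)).obj ((EtCoh.push f).obj F))) :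
    can f' η' ξ' hξ' ((EtCoh.pull g').obj F).obj
      ((EtCoh.stalk η').map (EtCoh.baseChange0 f g f' g' w F)
        ((stalkPullIso g η').hom.app ((EtCoh.push f).obj F) b)) =
    (stalkPullIso g' ξ').hom.app F
      (can f (η' ≫ g) (ξ' ≫ g') (hζ_aux f g f' g' w η' ξ' hξ') F.obj b) := by
  obtain ⟨V, v, σ, rfl⟩ := (Φ (η' ≫ g)).toPresheafFiber_jointly_surjective
    (P := ((EtCoh.push f).obj F).obj) b
  have s1 := germ_compat g η' ((EtCoh.push f).obj F) V v σ
  have s2 := (Φ η').toPresheafFiber_naturality_apply (EtCoh.baseChange0 f g f' g' w F).hom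
    ((EtCoh.bc g).obj V) ((fiberIso g η').inv.app V v)
    (((EtCoh.pullPushAdj g).unit.app ((EtCoh.push f).obj F)).hom.app (op V) σ)
  have s3 := baseChange0_unit_apply f g f' g' w F V σ
  have s4 := toFiber_can_apply f' η' ξ' hξ' ((EtCoh.pull g').obj F).obj ((EtCoh.bc g).obj V)
    ((fiberIso g η').inv.app V v)
    (((EtCoh.pull g').obj F).obj.map (θ f g f' g' w V).op
      (((EtCoh.pullPushAdj g').unit.app F).hom.app (op ((EtCoh.bc f).obj V)) σ))
  have s5 := (Φ ξ').toPresheafFiber_w_apply (θ f g f' g' w V)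
    (ptB f' η' ξ' hξ' ((EtCoh.bc g).obj V) ((fiberIso g η').inv.app V v))
    (P := ((EtCoh.pull g').obj F).obj)
    (((EtCoh.pullPushAdj g').unit.app F).hom.app (op ((EtCoh.bc f).obj V)) σ)
  have s6 := pt_eq f g f' g' w η' ξ' hξ' V v
  have s7 := toFiber_can_apply f (η' ≫ g) (ξ' ≫ g') (hζ_aux f g f' g' w η' ξ' hξ') F.obj V v σ
  have s8 := germ_compat g' ξ' F ((EtCoh.bc f).obj V)
    (ptB f (η' ≫ g) (ξ' ≫ g') (hζ_aux f g f' g' w η' ξ' hξ') V v) σ
  refine (congrArg (fun x => can f' η' ξ' hξ' ((EtCoh.pull g').obj F).obj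
    ((EtCoh.stalk η').map (EtCoh.baseChange0 f g f' g' w F) x)) s1).trans ?_
  refine (congrArg (fun x => can f' η' ξ' hξ' ((EtCoh.pull g').obj F).obj x) s2).trans ?_
  refine (congrArg (fun x => can f' η' ξ' hξ' ((EtCoh.pull g').obj F).obj
    ((Φ η').toPresheafFiber ((EtCoh.bc g).obj V) ((fiberIso g η').inv.app V v)
          ((EtCoh.push f').obj ((EtCoh.pull g').obj F)).obj x)) s3).trans ?_
  refine s4.trans ?_
  refine s5.trans ?_
  refine (congrArg (fun p => (Φ ξ').toPresheafFiber ((EtCoh.bc g').obj ((EtCoh.bc f).obj V)) p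
    ((EtCoh.pull g').obj F).obj
    (((EtCoh.pullPushAdj g').unit.app F).hom.app (op ((EtCoh.bc f).obj V)) σ)) s6).trans ?_
  refine s8.symm.trans ?_
  exact congrArg (fun x => (stalkPullIso g' ξ').hom.app F x) s7.symm

end CanBC

section Main

variable {X Y X' Y' : Scheme.{u}} (f : X ⟶ Y) [IsFinite f] (g : Y' ⟶ Y) (f' : X' ⟶ Y')
  (g' : X' ⟶ X) (h : IsPullback g' f' f g)

set_option backward.isDefEq.respectTransparency.types false in
set_option maxHeartbeats 1000000 in
/-- on stalks at geometric points with algebraically closed residue field the base change map of a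
finite morphism is bijective -/
theorem stalk_baseChange0_bijective {Ω : Type u} [Field Ω] [IsAlgClosed Ω]
    (η' : Spec (CommRingCat.of Ω) ⟶ Y') (F : EtCoh.Ab X) :
    Function.Bijective ((EtCoh.stalk η').map (EtCoh.baseChange0 f g f' g' h.w F)) := by
  haveI : IsFinite f' := MorphismProperty.of_isPullback (P := @IsFinite) h inferInstance
  have hiso1 : Function.Bijective ((stalkPullIso g η').hom.app ((EtCoh.push f).obj F)) :=
    ConcreteCategory.bijective_of_isIso _
  have hiso2 : ∀ ξ' : Spec (CommRingCat.of Ω) ⟶ X',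
      Function.Bijective ((stalkPullIso g' ξ').hom.app F) :=
    fun ξ' => ConcreteCategory.bijective_of_isIso _
  constructor
  · intro a a' haa'
    obtain ⟨b, rfl⟩ := hiso1.2 a
    obtain ⟨b', rfl⟩ := hiso1.2 a'
    refine congrArg _ ?_
    apply can_injective f (η' ≫ g) F.obj
      (Groth.Agent.R2.H13.FinPush.isSheaf_forget F).isSeparated b b'
    intro ξ hξ
    have hl1 : h.lift ξ η' hξ ≫ g' = ξ := h.lift_fst _ _ _
    have hl2 : h.lift ξ η' hξ ≫ f' = η' := h.lift_snd _ _ _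
    have c1 := can_baseChange f g f' g' h.w η' (h.lift ξ η' hξ) hl2 F b
    have c2 := can_baseChange f g f' g' h.w η' (h.lift ξ η' hξ) hl2 F b'
    have c3 := c1.symm.trans ((congrArg _ haa').trans c2)
    have c4 := (hiso2 _).1 c3
    have key : ∀ (ζ : Spec (CommRingCat.of Ω) ⟶ X) (hζ : ζ ≫ f = η' ≫ g), ζ = ξ →
        can f (η' ≫ g) ζ hζ F.obj b = can f (η' ≫ g) ζ hζ F.obj b' →
        can f (η' ≫ g) ξ hξ F.obj b = can f (η' ≫ g) ξ hξ F.obj b' := by
      rintro ζ hζ rfl h0
      exact h0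
    exact key _ _ hl1 c4
  · intro c
    let I' := {ξ' : Spec (CommRingCat.of Ω) ⟶ X' // ξ' ≫ f' = η'}
    let I := {ξ : Spec (CommRingCat.of Ω) ⟶ X // ξ ≫ f = η' ≫ g}
    let ρ : I' → I := fun ξ' => ⟨ξ'.1 ≫ g', hζ_aux f g f' g' h.w η' ξ'.1 ξ'.2⟩
    have hρ : Function.Bijective ρ := by
      constructor
      · intro ξ₁ ξ₂ h12
        apply Subtype.ext
        apply h.hom_ext
        · exact congrArg Subtype.val h12
        · exact ξ₁.2.trans ξ₂.2.symm
      · intro ξ
        exact ⟨⟨h.lift ξ.1 η' ξ.2, h.lift_snd _ _ _⟩, Subtype.ext (h.lift_fst _ _ _)⟩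
    let e : I' ≃ I := Equiv.ofBijective ρ hρ
    let T : I → Type (u + 1) := fun ξ => ToType ((Φ ξ.1).presheafFiber.obj F.obj)
    let d : ∀ ξ : I, T ξ := Equiv.piCongrLeft T e
      (fun ξ' => (stalkPullIso g' ξ'.1).inv.app F
        (can f' η' ξ'.1 ξ'.2 ((EtCoh.pull g').obj F).obj c))
    have hd : ∀ ξ' : I', d (ρ ξ') = (stalkPullIso g' ξ'.1).inv.app F
        (can f' η' ξ'.1 ξ'.2 ((EtCoh.pull g').obj F).obj c) :=
      fun ξ' => Equiv.piCongrLeft_apply_apply T e _ ξ'
    obtain ⟨b, hb⟩ := can_surjective f (η' ≫ g) F.obj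
      (Groth.Agent.R2.H13.FinPush.isSheaf_forget F) d
    refine ⟨(stalkPullIso g η').hom.app _ b, ?_⟩
    apply can_injective f' η' ((EtCoh.pull g').obj F).obj
      (Groth.Agent.R2.H13.FinPush.isSheaf_forget ((EtCoh.pull g').obj F)).isSeparated
    intro ξ' hξ'
    refine (can_baseChange f g f' g' h.w η' ξ' hξ' F b).trans ?_
    have h1 := hb (ρ ⟨ξ', hξ'⟩)
    have h2 := hd ⟨ξ', hξ'⟩
    refine (congrArg (fun x => (stalkPullIso g' ξ').hom.app F x) (h1.trans h2)).trans ?_
    exact ConcreteCategory.congr_hom ((stalkPullIso g' ξ').inv_hom_id_app F)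
      (can f' η' ξ' hξ' ((EtCoh.pull g').obj F).obj c)

/-- **Finite base change in degree zero**: for `f` finite the base change map
`g⁻¹ f_* F ⟶ f'_* g'⁻¹ F` is an isomorphism. -/
theorem isIso_baseChange0_of_finite (F : EtCoh.Ab X) :
    IsIso (EtCoh.baseChange0 f g f' g' h.w F) :=
  isIso_of_stalks_algClosed _ (fun _ _ _ η' => stalk_baseChange0_bijective f g f' g' h η' F)

end Main

end Groth.Agent.R2.H13.FinBC
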