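import Mathlib
import Groth.Prelude.Def_W4decUnivBdd

set_option autoImplicit false
set_option linter.style.haveILetI false
universe u
open CategoryTheory CategoryTheory.Limits AlgebraicGeometry

namespace Groth.Agent.R2.H46.FinField

/-- An affine scheme over the spectrum of a field is the spectrum of an algebra over it. -/
lemma exists_algebra_of_isAffine {K : Type u} [Field K] {T : Scheme.{u}}
    (c : T ⟶ Spec (CommRingCat.of K)) [IsAffine T] :
    ∃ (A : Type u) (_ : CommRing A) (_ : Algebra K A) (e : T ≅ Spec (CommRingCat.of A)),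
      e.inv ≫ c = Spec.map (CommRingCat.ofHom (algebraMap K A)) := by
  let ψ : K →+* Γ(T, ⊤) := ((Scheme.ΓSpecIso (CommRingCat.of K)).inv ≫ c.appTop).hom
  let alg : Algebra K Γ(T, ⊤) := ψ.toAlgebra
  refine ⟨Γ(T, ⊤), inferInstance, alg, T.isoSpec, ?_⟩
  have h1 : CommRingCat.ofHom (algebraMap K Γ(T, ⊤)) =
      (Scheme.ΓSpecIso (CommRingCat.of K)).inv ≫ c.appTop := by
    rw [RingHom.algebraMap_toAlgebra]
    rfl
  rw [h1, Spec.map_comp, ← Scheme.isoSpec_Spec_inv, Scheme.isoSpec_inv_naturality]

/-- The degree bound on a morphism to the spectrum of a field, in algebra form. -/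
def DegLE {K : Type u} [Field K] {T : Scheme.{u}} (n : ℕ) (c : T ⟶ Spec (CommRingCat.of K)) : Prop :=
  IsFinite c ∧ ∀ s, c.finrank s ≤ n

lemma finrank_SpecMap_field {K A : Type u} [Field K] [CommRing A] [Algebra K A] [Module.Finite K A]
    (s : ↥(Spec (CommRingCat.of K))) :
    (Spec.map (CommRingCat.ofHom (algebraMap K A))).finrank s = Module.finrank K A := by
  have := Scheme.Hom.finrank_SpecMap_algebraMap K A s
  rw [this, Module.rankAtStalk_eq_finrank_of_free]
  rfl

/-- algebra form of `DegLE`. -/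
lemma degLE_SpecMap_iff {K A : Type u} [Field K] [CommRing A] [Algebra K A] (n : ℕ) :
    DegLE n (Spec.map (CommRingCat.ofHom (algebraMap K A))) ↔
      Module.Finite K A ∧ Module.finrank K A ≤ n := by
  constructor
  · rintro ⟨h1, h2⟩
    have hf : Module.Finite K A := by
      have := (IsFinite.SpecMap_iff _).1 h1
      exact RingHom.finite_algebraMap.1 this
    refine ⟨hf, ?_⟩
    exact (finrank_SpecMap_field (K := K) (A := A) (IsLocalRing.closedPoint K)).symm.trans_le (h2 _)
  · rintro ⟨hf, h2⟩
    refine ⟨(IsFinite.SpecMap_iff _).2 (RingHom.finite_algebraMap.2 hf), fun s => ?_⟩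
    rw [finrank_SpecMap_field]
    exact h2

lemma degLE_iso_comp {K : Type u} [Field K] {T T' : Scheme.{u}} (n : ℕ) (e : T' ⟶ T) [IsIso e]
    (c : T ⟶ Spec (CommRingCat.of K)) : DegLE n (e ≫ c) ↔ DegLE n c := by
  constructor
  · rintro ⟨h1, h2⟩
    have hc : IsFinite c := by
      have : c = inv e ≫ (e ≫ c) := by simp
      rw [this]
      infer_instance
    refine ⟨hc, fun s => ?_⟩
    have := h2 s
    rwa [Scheme.Hom.finrank_comp_left_of_isIso] at this
  · rintro ⟨h1, h2⟩
    refine ⟨inferInstance, fun s => ?_⟩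
    rw [Scheme.Hom.finrank_comp_left_of_isIso]
    exact h2 s

/-- every `DegLE` morphism has an algebra form. -/
lemma DegLE.exists_algebra {K : Type u} [Field K] {T : Scheme.{u}} {n : ℕ}
    {c : T ⟶ Spec (CommRingCat.of K)} (h : DegLE n c) :
    ∃ (A : Type u) (_ : CommRing A) (_ : Algebra K A) (e : T ≅ Spec (CommRingCat.of A)),
      e.inv ≫ c = Spec.map (CommRingCat.ofHom (algebraMap K A)) ∧ Module.Finite K A ∧
        Module.finrank K A ≤ n := by
  have := h.1
  have : IsAffine T := isAffine_of_isAffineHom c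
  obtain ⟨A, _, _, e, he⟩ := exists_algebra_of_isAffine c
  refine ⟨A, inferInstance, inferInstance, e, he, ?_⟩
  rw [← degLE_SpecMap_iff, ← he, degLE_iso_comp]
  exact h

/-- conversely. -/
lemma degLE_of_algebra {K : Type u} [Field K] {T : Scheme.{u}} {n : ℕ}
    (c : T ⟶ Spec (CommRingCat.of K)) (A : Type u) [CommRing A] [Algebra K A]
    (e : T ≅ Spec (CommRingCat.of A))
    (he : e.inv ≫ c = Spec.map (CommRingCat.ofHom (algebraMap K A))) [Module.Finite K A]
    (hn : Module.finrank K A ≤ n) : DegLE n c := by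
  have : c = e.hom ≫ Spec.map (CommRingCat.ofHom (algebraMap K A)) := by
    rw [← he, Iso.hom_inv_id_assoc]
  rw [this, degLE_iso_comp, degLE_SpecMap_iff]
  exact ⟨inferInstance, hn⟩

/-- the number of primes of a finite-dimensional algebra over a field is at most its dimension. -/
lemma natCard_primeSpectrum_le_finrank (K A : Type u) [Field K] [CommRing A] [Algebra K A]
    [Module.Finite K A] : Nat.card (PrimeSpectrum A) ≤ Module.finrank K A := by
  haveI : IsArtinianRing A := IsArtinianRing.of_finite K A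
  haveI : Finite (MaximalSpectrum A) :=
    Finite.of_equiv _ IsArtinianRing.primeSpectrumEquivMaximalSpectrum
  haveI : Fintype (MaximalSpectrum A) := Fintype.ofFinite _
  rw [Nat.card_congr IsArtinianRing.primeSpectrumEquivMaximalSpectrum]
  let e := (IsArtinianRing.quotNilradicalEquivPi A).toLinearEquiv.restrictScalars K
  have h1 : Module.finrank K (A ⧸ nilradical A) =
      Module.finrank K (∀ I : MaximalSpectrum A, A ⧸ I.asIdeal) := e.finrank_eq
  have h2 : Module.finrank K (A ⧸ nilradical A) ≤ Module.finrank K A := by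
    have := LinearMap.finrank_range_le ((Ideal.Quotient.mkₐ K (nilradical A)).toLinearMap)
    rwa [LinearMap.range_eq_top.2 (Ideal.Quotient.mkₐ_surjective K _), finrank_top] at this
  rw [Module.finrank_pi_fintype] at h1
  have h3 : ∀ I : MaximalSpectrum A, 1 ≤ Module.finrank K (A ⧸ I.asIdeal) := by
    intro I
    haveI : Nontrivial (A ⧸ I.asIdeal) := Ideal.Quotient.nontrivial_iff.2 I.isMaximal.ne_top
    exact Module.finrank_pos
  calc Nat.card (MaximalSpectrum A) = ∑ _I : MaximalSpectrum A, 1 := by simp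
    _ ≤ ∑ I : MaximalSpectrum A, Module.finrank K (A ⧸ I.asIdeal) :=
        Finset.sum_le_sum fun I _ => h3 I
    _ = Module.finrank K (A ⧸ nilradical A) := h1.symm
    _ ≤ _ := h2

/-- a scheme finite of degree at most `n` over a field has at most `n` points. -/
lemma DegLE.encard_univ_le {K : Type u} [Field K] {T : Scheme.{u}} {n : ℕ}
    {c : T ⟶ Spec (CommRingCat.of K)} (h : DegLE n c) : (Set.univ : Set ↥T).encard ≤ n := by
  obtain ⟨A, _, _, e, -, hf, hn⟩ := h.exists_algebra
  haveI : IsArtinianRing A := IsArtinianRing.of_finite K A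
  rw [Set.encard_univ, ENat.card_congr (Scheme.homeoOfIso e).toEquiv]
  change ENat.card (PrimeSpectrum A) ≤ n
  rw [ENat.card_eq_coe_natCard]
  exact_mod_cast (natCard_primeSpectrum_le_finrank K A).trans hn

lemma DegLE.finite_univ {K : Type u} [Field K] {T : Scheme.{u}} {n : ℕ}
    {c : T ⟶ Spec (CommRingCat.of K)} (h : DegLE n c) : Finite ↥T := by
  obtain ⟨A, _, _, e, -, hf, hn⟩ := h.exists_algebra
  haveI : IsArtinianRing A := IsArtinianRing.of_finite K A
  haveI : Finite (PrimeSpectrum A) := inferInstance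
  exact Finite.of_equiv (PrimeSpectrum A) (Scheme.homeoOfIso e).toEquiv.symm

end Groth.Agent.R2.H46.FinField
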