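import Mathlib
import Groth.Prelude.Def_EtBase
import Groth.Prelude.Def_EtShriek2
import Groth.Agent.R2.H13ClosedPushEss
import Groth.Agent.S0651
import Groth.Agent.S0101

/-!
# Recollement toolkit for a closed immersion and its open complement (helper13)

`i : Z ⟶ X` closed immersion, `j : U ⟶ X` open immersion with `range j = (range i)ᶜ`.
* `isZero_restr_push` : `j⁻¹ i_* = 0`
* `isZero_pull_extZero` : `i⁻¹ j_! = 0`
* `isZero_of_pull_restr` : `i⁻¹ H = 0` and `j⁻¹ H = 0` imply `H = 0`
* `exact_of_pull_restr` : a short complex is exact if its images under `i⁻¹` and `j⁻¹` are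
* `shortExact_extZero_push` : `0 → j_! j⁻¹ F → F → i_* i⁻¹ F → 0`.
-/

set_option autoImplicit false
open CategoryTheory CategoryTheory.Limits AlgebraicGeometry Opposite
universe u

namespace Groth.Agent.R2.H13.Recoll

open Groth.Agent.R2.H13.ClosedPush Groth.Agent.S0651

section Sheaf

variable {C : Type*} [Category C] {J : GrothendieckTopology C}

lemma isZero_sheaf_of_sections (P : Sheaf J AddCommGrpCat.{u + 1})
    (h : ∀ V : C, IsZero (P.obj.obj (op V))) : IsZero P := by
  rw [IsZero.iff_id_eq_zero]
  apply Sheaf.hom_ext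
  ext V : 2
  exact (h V.unop).eq_of_src _ _

lemma isZero_sections_of_isZero (P : Sheaf J AddCommGrpCat.{u + 1}) (h : IsZero P) (V : C) :
    IsZero (P.obj.obj (op V)) := by
  rw [IsZero.iff_id_eq_zero]
  have h1 : 𝟙 P = 0 := (IsZero.iff_id_eq_zero P).1 h
  have h2 := congrArg (fun a : P ⟶ P => a.hom.app (op V)) h1
  exact h2

end Sheaf

variable {Z X U : Scheme.{u}} (i : Z ⟶ X) (j : U ⟶ X)

instance restrAlong_additive [IsOpenImmersion j] : (EtShriek.restrAlong j).Additive where

section Main

variable [IsClosedImmersion i] [IsOpenImmersion j]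
  (hU : Set.range j.base = (Set.range i.base)ᶜ)

include hU

omit [IsClosedImmersion i] in
/-- An étale `X`-scheme missing `Z` comes from an étale `U`-scheme. -/
lemma exists_compEtale_iso (W : X.Etale)
    (hW : Disjoint (Set.range W.hom.base) (Set.range i.base)) :
    ∃ V : U.Etale, Nonempty ((EtShriek.compEtale j).obj V ≅ W) := by
  have hsub : Set.range W.hom.base ⊆ Set.range j.base := by
    rw [hU]
    exact fun x hx hx' => Set.disjoint_left.1 hW hx hx'
  let l : W.left ⟶ U := IsOpenImmersion.lift j W.hom hsub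
  have hl : l ≫ j = W.hom := IsOpenImmersion.lift_fac j W.hom hsub
  have hjet : EtCoh.etaleMP j := inferInstanceAs (AlgebraicGeometry.Etale j)
  have hW' : EtCoh.etaleMP (l ≫ j) := by rw [hl]; exact W.prop
  let V : U.Etale := MorphismProperty.Over.mk ⊤ l
    (EtCoh.etaleMP.of_postcomp (W' := EtCoh.etaleMP) l j hjet hW')
  exact ⟨V, ⟨MorphismProperty.Over.isoMk (Iso.refl _) (by
    change 𝟙 W.left ≫ W.hom = l ≫ j
    rw [Category.id_comp, hl])⟩⟩

omit [IsClosedImmersion i] in
lemma disjoint_compEtale (V : U.Etale) :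
    Disjoint (Set.range ((EtShriek.compEtale j).obj V).hom.base) (Set.range i.base) := by
  rw [Set.disjoint_left]
  rintro _ ⟨y, rfl⟩ hy
  have : (V.hom ≫ j).base y ∈ Set.range j.base := ⟨V.hom.base y, rfl⟩
  rw [hU] at this
  exact this hy

/-- `j⁻¹ i_* = 0`. -/
lemma isZero_restr_push (G : EtCoh.Ab Z) :
    IsZero ((EtShriek.restrAlong j).obj ((EtCoh.push i).obj G)) := by
  apply isZero_sheaf_of_sections
  intro V
  exact (essImage_push_iff i ((EtCoh.push i).obj G)).1 ((EtCoh.push i).obj_mem_essImage G) _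
    (disjoint_compEtale i j hU V)

/-- `i⁻¹ j_! = 0`. -/
lemma isZero_pull_extZero (G : EtCoh.Ab U) :
    IsZero ((EtCoh.pull i).obj ((EtShriek.extZero j).obj G)) := by
  rw [IsZero.iff_id_eq_zero]
  apply ((EtCoh.pullPushAdj i).homEquiv _ _).injective
  apply ((EtShriek.extZeroAdj j).homEquiv _ _).injective
  exact (isZero_restr_push i j hU _).eq_of_tgt _ _

/-- `i⁻¹ H = 0` and `j⁻¹ H = 0` imply `H = 0`. -/
lemma isZero_of_pull_restr (H : EtCoh.Ab X) (h1 : IsZero ((EtCoh.pull i).obj H))
    (h2 : IsZero ((EtShriek.restrAlong j).obj H)) : IsZero H := by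
  have hess : (EtCoh.push i).essImage H := by
    rw [essImage_push_iff]
    intro W hW
    obtain ⟨V, ⟨e⟩⟩ := exists_compEtale_iso i j hU W hW
    exact (isZero_sections_of_isZero _ h2 V).of_iso (H.obj.mapIso e.op)
  obtain ⟨G, ⟨e⟩⟩ := hess
  have : (EtCoh.push i).Full := push_full i
  have : (EtCoh.push i).Faithful := push_faithful i
  have hc : IsIso ((EtCoh.pullPushAdj i).counit.app G) := inferInstance
  have hG : IsZero G :=
    (h1.of_iso ((EtCoh.pull i).mapIso e)).of_iso (asIso ((EtCoh.pullPushAdj i).counit.app G)).symm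
  exact ((EtCoh.push i).map_isZero hG).of_iso e.symm

omit [IsClosedImmersion i] [IsOpenImmersion j] hU in
instance pull_preservesFiniteLimits : PreservesFiniteLimits (EtCoh.pull i) :=
  Groth.Agent.S0101.result i

omit [IsClosedImmersion i] [IsOpenImmersion j] hU in
instance pull_preservesFiniteColimits : PreservesFiniteColimits (EtCoh.pull i) :=
  have := (EtCoh.pullPushAdj i).leftAdjoint_preservesColimits
  inferInstance

omit [IsClosedImmersion i] [IsOpenImmersion j] hU in
instance pull_additive : (EtCoh.pull i).Additive :=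
  (EtCoh.pullPushAdj i).left_adjoint_additive

omit [IsClosedImmersion i] hU in
instance restr_preservesFiniteLimits : PreservesFiniteLimits (EtShriek.restrAlong j) :=
  have := (EtShriek.extZeroAdj j).rightAdjoint_preservesLimits
  inferInstance

omit [IsClosedImmersion i] hU in
instance restr_preservesFiniteColimits : PreservesFiniteColimits (EtShriek.restrAlong j) :=
  have := (restrPushAdj j).leftAdjoint_preservesColimits
  inferInstance

/-- A short complex of abelian sheaves on `X` is exact as soon as its images under `i⁻¹` and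
`j⁻¹` are exact. -/
lemma exact_of_pull_restr (S : ShortComplex (EtCoh.Ab X))
    (h1 : (S.map (EtCoh.pull i)).Exact) (h2 : (S.map (EtShriek.restrAlong j)).Exact) :
    S.Exact := by
  rw [ShortComplex.exact_iff_isZero_homology] at h1 h2 ⊢
  apply isZero_of_pull_restr i j hU
  · exact h1.of_iso (S.mapHomologyIso (EtCoh.pull i)).symm
  · exact h2.of_iso (S.mapHomologyIso (EtShriek.restrAlong j)).symm

/-- A morphism is mono if its images under `i⁻¹` and `j⁻¹` are. -/
lemma mono_of_pull_restr {A B : EtCoh.Ab X} (f : A ⟶ B) (h1 : Mono ((EtCoh.pull i).map f))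
    (h2 : Mono ((EtShriek.restrAlong j).map f)) : Mono f := by
  let S : ShortComplex (EtCoh.Ab X) := ShortComplex.mk (0 : A ⟶ A) f zero_comp
  have hS : S.Exact := by
    apply exact_of_pull_restr i j hU
    · exact ((S.map (EtCoh.pull i)).exact_iff_mono ((EtCoh.pull i).map_zero _ _)).2 h1
    · exact ((S.map (EtShriek.restrAlong j)).exact_iff_mono
        ((EtShriek.restrAlong j).map_zero _ _)).2 h2
  exact (S.exact_iff_mono rfl).1 hS

/-- A morphism is epi if its images under `i⁻¹` and `j⁻¹` are. -/
lemma epi_of_pull_restr {A B : EtCoh.Ab X} (f : A ⟶ B) (h1 : Epi ((EtCoh.pull i).map f))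
    (h2 : Epi ((EtShriek.restrAlong j).map f)) : Epi f := by
  let S : ShortComplex (EtCoh.Ab X) := ShortComplex.mk f (0 : B ⟶ B) comp_zero
  have hS : S.Exact := by
    apply exact_of_pull_restr i j hU
    · exact ((S.map (EtCoh.pull i)).exact_iff_epi ((EtCoh.pull i).map_zero _ _)).2 h1
    · exact ((S.map (EtShriek.restrAlong j)).exact_iff_epi
        ((EtShriek.restrAlong j).map_zero _ _)).2 h2
  exact (S.exact_iff_epi rfl).1 hS

omit [IsOpenImmersion j] hU in
/-- `i⁻¹` of the unit `F ⟶ i_* i⁻¹ F` is an isomorphism. -/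
lemma isIso_pull_map_unit (F : EtCoh.Ab X) :
    IsIso ((EtCoh.pull i).map ((EtCoh.pullPushAdj i).unit.app F)) := by
  have : (EtCoh.push i).Full := push_full i
  have : (EtCoh.push i).Faithful := push_faithful i
  have hc : IsIso ((EtCoh.pullPushAdj i).counit.app ((EtCoh.pull i).obj F)) := inferInstance
  have ht := (EtCoh.pullPushAdj i).left_triangle_components F
  rw [IsIso.eq_inv_of_inv_hom_id ht]
  infer_instance

omit [IsClosedImmersion i] hU in
/-- `j⁻¹` of the counit `j_! j⁻¹ F ⟶ F` is an isomorphism. -/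
lemma isIso_restr_map_counit (F : EtCoh.Ab X) :
    IsIso ((EtShriek.restrAlong j).map ((EtShriek.extZeroAdj j).counit.app F)) := by
  have := isIso_unit_extZero j
  have hc : IsIso ((EtShriek.extZeroAdj j).unit.app ((EtShriek.restrAlong j).obj F)) :=
    inferInstance
  have ht := (EtShriek.extZeroAdj j).right_triangle_components F
  rw [IsIso.eq_inv_of_hom_inv_id ht]
  infer_instance

/-- The composite `j_! j⁻¹ F ⟶ F ⟶ i_* i⁻¹ F` vanishes. -/
lemma counit_comp_unit (F : EtCoh.Ab X) :
    (EtShriek.extZeroAdj j).counit.app F ≫ (EtCoh.pullPushAdj i).unit.app F = 0 := by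
  apply ((EtShriek.extZeroAdj j).homEquiv _ _).injective
  exact (isZero_restr_push i j hU _).eq_of_tgt _ _

/-- `0 → j_! j⁻¹ F → F → i_* i⁻¹ F → 0` is short exact. -/
theorem shortExact_extZero_push (F : EtCoh.Ab X) :
    (ShortComplex.mk _ _ (counit_comp_unit i j hU F)).ShortExact := by
  have hu := isIso_pull_map_unit i F
  have hc := isIso_restr_map_counit j F
  have hz1 := isZero_pull_extZero i j hU ((EtShriek.restrAlong j).obj F)
  have hz2 := isZero_restr_push i j hU ((EtCoh.pull i).obj F)
  refine ShortComplex.ShortExact.mk' ?_ ?_ ?_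
  · apply exact_of_pull_restr i j hU
    · refine (ShortComplex.exact_iff_mono _ (hz1.eq_of_src _ _)).2 ?_
      change Mono ((EtCoh.pull i).map ((EtCoh.pullPushAdj i).unit.app F))
      infer_instance
    · refine (ShortComplex.exact_iff_epi _ (hz2.eq_of_tgt _ _)).2 ?_
      change Epi ((EtShriek.restrAlong j).map ((EtShriek.extZeroAdj j).counit.app F))
      infer_instance
  · apply mono_of_pull_restr i j hU
    · exact ⟨fun _ _ _ => hz1.eq_of_tgt _ _⟩
    · infer_instance
  · apply epi_of_pull_restr i j hU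
    · infer_instance
    · exact ⟨fun _ _ _ => hz2.eq_of_src _ _⟩

end Main

end Groth.Agent.R2.H13.Recoll
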