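import Mathlib
import Groth.Prelude.Def_EtBase
import Groth.Prelude.Def_EtShriek2
import Groth.Agent.R2.H13ClosedPushA

/-!
# Sections with support in a closed subset: excision (helper13)

`LocZero F t w`: the section `t` vanishes on an étale neighbourhood of `w`.
Main result `bijOn_restrict_supported`: restriction along `φ : U' ⟶ U` identifies sections over `U`
supported in a closed `Z` with sections over `U'` supported in `φ⁻¹ Z` when `φ⁻¹ Z → Z` is
bijective with trivial residue field extensions.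
-/

set_option autoImplicit false
open CategoryTheory CategoryTheory.Limits AlgebraicGeometry Opposite
universe u

namespace Groth.Agent.R2.H13.Supp

open Groth.Agent.R2.H13.ClosedPush

section Points

open AlgebraicGeometry.Scheme.Pullback

variable {A B : Scheme.{u}} (f : A ⟶ B)

lemma subsingleton_Spec_tensor (T : Triplet f f)
    (hb : Function.Bijective (f.residueFieldMap T.x)) : Subsingleton (Spec T.tensor) := by
  have h1 : IsIso (f.residueFieldMap T.x) := (ConcreteCategory.isIso_iff_bijective _).2 hb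
  have h2 : IsIso ((B.residueFieldCongr T.hx).inv ≫ f.residueFieldMap T.x) := inferInstance
  have h3 : IsIso T.tensorInr := by
    unfold Triplet.tensorInr
    exact @pushout_inr_iso_of_left_iso _ _ _ _ _ _ _ h2
  let e : Spec T.tensor ≅ Spec (A.residueField T.y) := (asIso (Spec.map T.tensorInr))
  have : Subsingleton (Spec (A.residueField T.y)) :=
    (inferInstance : Subsingleton (PrimeSpectrum (A.residueField T.y)))
  exact (e.hom.homeomorph.injective).subsingleton

/-- Two points of `A ×_B A` with the same projections, where the residue field extension of `f`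
at the first projection is trivial, are equal. -/
lemma eq_of_fst_eq_of_snd_eq (d₁ d₂ : ↑(pullback f f))
    (h1 : pullback.fst f f d₁ = pullback.fst f f d₂)
    (h2 : pullback.snd f f d₁ = pullback.snd f f d₂)
    (hb : Function.Bijective (f.residueFieldMap (pullback.fst f f d₂))) : d₁ = d₂ := by
  apply (carrierEquiv (f := f) (g := f)).injective
  have e : Triplet.ofPoint d₁ = Triplet.ofPoint d₂ := Triplet.ext h1 h2
  have hs : Subsingleton (Spec (Triplet.ofPoint d₂).tensor) :=
    subsingleton_Spec_tensor f (Triplet.ofPoint d₂) hb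
  exact carrierEquiv_eq_iff.2 ⟨e, @Subsingleton.elim _ hs _ _⟩

end Points

variable {X : Scheme.{u}} (F : EtCoh.Ab X)

/-- `t` vanishes on an étale neighbourhood of `w`. -/
def LocZero {W : X.Etale} (t : F.obj.obj (op W)) (w : W.left) : Prop :=
  ∃ (N : X.Etale) (g : N ⟶ W), (∃ n : N.left, g.left.base n = w) ∧ F.obj.map g.op t = 0

lemma not_mem_sectSupp_iff {U : X.Etale} (s : F.obj.obj (op U)) (x : U.left) :
    x ∉ EtShriek.sectSupp F U s ↔ LocZero F s x := by
  unfold EtShriek.sectSupp LocZero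
  simp only [Set.mem_ofPred_eq]
  push Not
  rfl

lemma map_comp_apply' {W V N : X.Etale} (a : W ⟶ V) (g : N ⟶ W) (t : F.obj.obj (op V)) :
    F.obj.map (g ≫ a).op t = F.obj.map g.op (F.obj.map a.op t) := by
  rw [op_comp, F.obj.map_comp]
  rfl

lemma eq_zero_of_locZero {W : X.Etale} (t : F.obj.obj (op W)) (h : ∀ w, LocZero F t w) :
    t = 0 := by
  have hsep : Presieve.IsSeparated X.smallEtaleTopology
      (F.obj ⋙ forget AddCommGrpCat.{u + 1}) := by
    apply Presieve.IsSheaf.isSeparated
    rw [← isSheaf_iff_isSheaf_of_type]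
    exact ((sheafCompose X.smallEtaleTopology (forget AddCommGrpCat.{u + 1})).obj F).2
  have hmem : Presheaf.equalizerSieve (F := F.obj) t 0 ∈ X.smallEtaleTopology W := by
    apply mem_smallEtaleTopology_of_forall
    intro w
    obtain ⟨N, g, ⟨n, hn⟩, hg⟩ := h w
    refine ⟨N, g, ?_, ⟨n, hn⟩⟩
    change F.obj.map g.op t = F.obj.map g.op 0
    rw [hg, map_zero]
  exact (hsep _ hmem).ext (fun _ _ hf => hf)

/-- Local vanishing is stable under pullback. -/
lemma LocZero.pullback {W V : X.Etale} (a : W ⟶ V) (t : F.obj.obj (op V)) (w : W.left)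
    (h : LocZero F t (a.left.base w)) : LocZero F (F.obj.map a.op t) w := by
  obtain ⟨N, g, ⟨n, hn⟩, hg⟩ := h
  let P : X.Etale := Scheme.Etale.mk (pullback.fst a.left g.left ≫ W.hom)
  let p₁ : P ⟶ W := MorphismProperty.Over.homMk (pullback.fst a.left g.left) rfl trivial
  have hN : pullback.snd a.left g.left ≫ N.hom = pullback.fst a.left g.left ≫ W.hom := by
    have e1 : g.left ≫ V.hom = N.hom := MorphismProperty.Over.w g
    have e2 : a.left ≫ V.hom = W.hom := MorphismProperty.Over.w a
    rw [← e1, ← e2, ← Category.assoc, ← Category.assoc, pullback.condition]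
  let p₂ : P ⟶ N := MorphismProperty.Over.homMk (pullback.snd a.left g.left) hN trivial
  have hc : p₁ ≫ a = p₂ ≫ g := by
    apply MorphismProperty.Over.Hom.ext
    exact pullback.condition
  obtain ⟨z, hz1, -⟩ := Scheme.Pullback.exists_preimage_pullback (f := a.left) (g := g.left)
    w n hn.symm
  refine ⟨P, p₁, ⟨z, hz1⟩, ?_⟩
  rw [← map_comp_apply', hc, map_comp_apply', hg, map_zero]

lemma LocZero.sub {W : X.Etale} (t₁ t₂ : F.obj.obj (op W)) (w : W.left)
    (h1 : LocZero F t₁ w) (h2 : LocZero F t₂ w) : LocZero F (t₁ - t₂) w := by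
  obtain ⟨N₁, g₁, ⟨n₁, hn₁⟩, hg₁⟩ := h1
  have h2' : LocZero F (F.obj.map g₁.op t₂) n₁ :=
    LocZero.pullback F g₁ t₂ n₁ (by rw [hn₁]; exact h2)
  obtain ⟨N₂, g₂, ⟨n₂, hn₂⟩, hg₂⟩ := h2'
  refine ⟨N₂, g₂ ≫ g₁, ⟨n₂, ?_⟩, ?_⟩
  · change (g₂.left ≫ g₁.left).base n₂ = w
    rw [Scheme.Hom.comp_base, TopCat.comp_app, hn₂, hn₁]
  · rw [map_comp_apply', map_sub, map_sub, hg₁, hg₂, map_zero, sub_zero]

/-- Two maps `a b : W ⟶ U'` of étale `X`-schemes which agree after composing with `φ : U' ⟶ U`, and
which agree at a point `w` at which `φ` has trivial residue field extension, agree on an étale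
(in fact open) neighbourhood of `w`. -/
lemma exists_nhd_eq {U U' W : X.Etale} (φ : U' ⟶ U) (a b : W ⟶ U') (hab : a ≫ φ = b ≫ φ)
    (w : W.left) (hw : a.left.base w = b.left.base w)
    (hres : Function.Bijective (φ.left.residueFieldMap (a.left.base w))) :
    ∃ (N : X.Etale) (g : N ⟶ W), (∃ n : N.left, g.left.base n = w) ∧ g ≫ a = g ≫ b := by
  have hab' : a.left ≫ φ.left = b.left ≫ φ.left := congrArg (fun k => k.left) hab
  let Δ : U'.left ⟶ pullback φ.left φ.left := pullback.diagonal φ.left
  have hΔ : IsOpenImmersion Δ := inferInstance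
  let m : W.left ⟶ pullback φ.left φ.left := pullback.lift a.left b.left hab'
  have hm1 : m ≫ pullback.fst φ.left φ.left = a.left := pullback.lift_fst _ _ _
  have hm2 : m ≫ pullback.snd φ.left φ.left = b.left := pullback.lift_snd _ _ _
  have hΔ1 : Δ ≫ pullback.fst φ.left φ.left = 𝟙 _ := pullback.diagonal_fst _
  have hΔ2 : Δ ≫ pullback.snd φ.left φ.left = 𝟙 _ := pullback.diagonal_snd _
  -- the point `m w` is the diagonal point
  have f1 : (pullback.fst φ.left φ.left).base (m.base w) = a.left.base w := by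
    rw [← hm1]; rfl
  have f2 : (pullback.snd φ.left φ.left).base (m.base w) = b.left.base w := by
    rw [← hm2]; rfl
  have g1 : (pullback.fst φ.left φ.left).base (Δ.base (a.left.base w)) = a.left.base w := by
    change (Δ ≫ pullback.fst φ.left φ.left).base (a.left.base w) = _
    rw [hΔ1]; rfl
  have g2 : (pullback.snd φ.left φ.left).base (Δ.base (a.left.base w)) = a.left.base w := by
    change (Δ ≫ pullback.snd φ.left φ.left).base (a.left.base w) = _
    rw [hΔ2]; rfl
  have hb : ∀ y : U'.left, y = a.left.base w →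
      Function.Bijective (φ.left.residueFieldMap y) := by
    rintro y rfl; exact hres
  have hpt : m.base w = Δ.base (a.left.base w) :=
    eq_of_fst_eq_of_snd_eq φ.left _ _ (f1.trans g1.symm) ((f2.trans hw.symm).trans g2.symm)
      (hb _ g1)
  -- the open where `m` lands in the diagonal
  let E : W.left.Opens := m ⁻¹ᵁ Δ.opensRange
  have hwE : w ∈ E := by
    change m.base w ∈ Set.range Δ.base
    rw [hpt]; exact ⟨_, rfl⟩
  have hsub : Set.range (E.ι ≫ m).base ⊆ Set.range Δ.base := by
    rintro _ ⟨e, rfl⟩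
    exact e.2
  let c : (E : Scheme.{u}) ⟶ U'.left := IsOpenImmersion.lift Δ (E.ι ≫ m) hsub
  have hc : c ≫ Δ = E.ι ≫ m := IsOpenImmersion.lift_fac Δ (E.ι ≫ m) hsub
  have e1 : E.ι ≫ a.left = c := by
    rw [← hm1, ← Category.assoc, ← hc, Category.assoc, hΔ1, Category.comp_id]
  have e2 : E.ι ≫ b.left = c := by
    rw [← hm2, ← Category.assoc, ← hc, Category.assoc, hΔ2, Category.comp_id]
  let N : X.Etale := Scheme.Etale.mk (E.ι ≫ W.hom)
  let g : N ⟶ W := MorphismProperty.Over.homMk E.ι rfl trivial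
  refine ⟨N, g, ⟨⟨w, hwE⟩, rfl⟩, ?_⟩
  apply MorphismProperty.Over.Hom.ext
  exact e1.trans e2.symm

section Main

variable {U U' : X.Etale} (φ : U' ⟶ U) (Z : Set ↥U.left)
  (hbij : Set.BijOn φ.left.base (φ.left.base ⁻¹' Z) Z)
  (hres : ∀ x ∈ φ.left.base ⁻¹' Z, Function.Bijective (φ.left.residueFieldMap x))
  (s' : F.obj.obj (op U')) (hs' : EtShriek.sectSupp F U' s' ⊆ φ.left.base ⁻¹' Z)

include hs' in
/-- (B) the restriction of `s'` along a map landing outside `φ⁻¹ Z` vanishes. -/
lemma map_eq_zero_of_forall_notMem {W : X.Etale} (a : W ⟶ U')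
    (hW : ∀ w : W.left, φ.left.base (a.left.base w) ∉ Z) : F.obj.map a.op s' = 0 := by
  apply eq_zero_of_locZero
  intro w
  exact LocZero.pullback F a s' w ((not_mem_sectSupp_iff F s' _).1 (fun h => hW w (hs' h)))

include hbij hres hs' in
/-- (A) two maps to `U'` which agree after `φ` pull `s'` back to the same section. -/
lemma map_eq_of_comp_eq {W : X.Etale} (a b : W ⟶ U') (hab : a ≫ φ = b ≫ φ) :
    F.obj.map a.op s' = F.obj.map b.op s' := by
  rw [← sub_eq_zero]
  apply eq_zero_of_locZero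
  intro w
  have hφ : φ.left.base (a.left.base w) = φ.left.base (b.left.base w) := by
    change (a.left ≫ φ.left).base w = (b.left ≫ φ.left).base w
    have : a.left ≫ φ.left = b.left ≫ φ.left := congrArg (fun k => k.left) hab
    rw [this]
  by_cases hw : a.left.base w ∈ φ.left.base ⁻¹' Z
  · have hw' : b.left.base w ∈ φ.left.base ⁻¹' Z := by
      change φ.left.base (b.left.base w) ∈ Z
      rw [← hφ]; exact hw
    have heq : a.left.base w = b.left.base w := hbij.injOn hw hw' hφ
    obtain ⟨N, g, hn, hg⟩ := exists_nhd_eq φ a b hab w heq (hres _ hw)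
    refine ⟨N, g, hn, ?_⟩
    rw [map_sub, ← map_comp_apply', ← map_comp_apply', hg, sub_self]
  · have hw' : b.left.base w ∉ φ.left.base ⁻¹' Z := by
      intro h
      apply hw
      change φ.left.base (a.left.base w) ∈ Z
      rw [hφ]; exact h
    have h1 : LocZero F s' (a.left.base w) :=
      (not_mem_sectSupp_iff F s' _).1 (fun h => hw (hs' h))
    have h2 : LocZero F s' (b.left.base w) :=
      (not_mem_sectSupp_iff F s' _).1 (fun h => hw' (hs' h))
    exact LocZero.sub F _ _ w (LocZero.pullback F a s' w h1) (LocZero.pullback F b s' w h2)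

include hbij hres hs' in
/-- Gluing: a section over `U'` supported in `φ⁻¹ Z` extends to a section over `U` supported
in `Z`. -/
theorem exists_extension (hZ : IsClosed Z) :
    ∃ s : F.obj.obj (op U), F.obj.map φ.op s = s' ∧ EtShriek.sectSupp F U s ⊆ Z := by
  classical
  let O : U.left.Opens := ⟨Zᶜ, hZ.isOpen_compl⟩
  let OE : X.Etale := Scheme.Etale.mk (O.ι ≫ U.hom)
  let ι : OE ⟶ U := MorphismProperty.Over.homMk O.ι rfl trivial
  let S : Sieve U :=
    { arrows := fun W f => (∃ g : W ⟶ U', f = g ≫ φ) ∨ (∃ c : W ⟶ OE, f = c ≫ ι)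
      downward_closed := by
        rintro W W' f (⟨g, rfl⟩ | ⟨c, rfl⟩) h
        · exact Or.inl ⟨h ≫ g, (Category.assoc _ _ _).symm⟩
        · exact Or.inr ⟨h ≫ c, (Category.assoc _ _ _).symm⟩ }
  have hS : S ∈ X.smallEtaleTopology U := by
    apply mem_smallEtaleTopology_of_forall
    intro x
    by_cases hx : x ∈ Z
    · obtain ⟨x', hx', rfl⟩ := hbij.surjOn hx
      exact ⟨U', φ, Or.inl ⟨𝟙 _, (Category.id_comp _).symm⟩, ⟨x', rfl⟩⟩
    · exact ⟨OE, ι, Or.inr ⟨𝟙 _, (Category.id_comp _).symm⟩, ⟨⟨x, hx⟩, rfl⟩⟩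
  have hsh : Presieve.IsSheaf X.smallEtaleTopology (F.obj ⋙ forget AddCommGrpCat.{u + 1}) := by
    rw [← isSheaf_iff_isSheaf_of_type]
    exact ((sheafCompose X.smallEtaleTopology (forget AddCommGrpCat.{u + 1})).obj F).2
  have key : ∀ (W : X.Etale) (a : W ⟶ U') (c : W ⟶ OE), a ≫ φ = c ≫ ι →
      F.obj.map a.op s' = 0 := by
    intro W a c hac
    apply map_eq_zero_of_forall_notMem F φ Z s' hs' a
    intro w
    have : φ.left.base (a.left.base w) = O.ι.base (c.left.base w) := by
      change (a.left ≫ φ.left).base w = (c.left ≫ ι.left).base w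
      have : a.left ≫ φ.left = c.left ≫ ι.left := congrArg (fun k => k.left) hac
      rw [this]
    rw [this]
    exact (c.left.base w).2
  let fam : Presieve.FamilyOfElements (F.obj ⋙ forget AddCommGrpCat.{u + 1}) S.arrows :=
    fun W f _ => if h : ∃ g : W ⟶ U', f = g ≫ φ then F.obj.map h.choose.op s' else
      (0 : F.obj.obj (op W))
  have hcompat : fam.Compatible := by
    rw [Presieve.compatible_iff_sieveCompatible]
    intro W W' f h hf
    change fam (h ≫ f) (S.downward_closed hf h) = F.obj.map h.op (fam f hf)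
    by_cases h1 : ∃ g : W ⟶ U', f = g ≫ φ
    · have h2 : ∃ g : W' ⟶ U', h ≫ f = g ≫ φ :=
        ⟨h ≫ h1.choose, by rw [Category.assoc, ← h1.choose_spec]⟩
      simp only [fam, dif_pos h1, dif_pos h2]
      rw [← map_comp_apply']
      apply map_eq_of_comp_eq F φ Z hbij hres s' hs'
      rw [← h2.choose_spec, Category.assoc, ← h1.choose_spec]
    · obtain ⟨c, hc⟩ := hf.resolve_left h1
      simp only [fam, dif_neg h1]
      rw [map_zero]
      by_cases h2 : ∃ g : W' ⟶ U', h ≫ f = g ≫ φ
      · rw [dif_pos h2]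
        exact key _ h2.choose (h ≫ c) (by rw [← h2.choose_spec, hc, Category.assoc])
      · rw [dif_neg h2]
  obtain ⟨s, hs, -⟩ := hsh S hS fam hcompat
  refine ⟨s, ?_, ?_⟩
  · have h0 : S.arrows φ := Or.inl ⟨𝟙 _, (Category.id_comp _).symm⟩
    have h1 : ∃ g : U' ⟶ U', φ = g ≫ φ := ⟨𝟙 _, (Category.id_comp _).symm⟩
    have e := hs φ h0
    change F.obj.map φ.op s = fam φ h0 at e
    rw [e]
    simp only [fam, dif_pos h1]
    have := map_eq_of_comp_eq F φ Z hbij hres s' hs' h1.choose (𝟙 _)
      (by rw [← h1.choose_spec, Category.id_comp])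
    rw [this]
    simp
  · intro x hx
    by_contra hxZ
    apply hx OE ι ⟨⟨x, hxZ⟩, rfl⟩
    have h0 : S.arrows ι := Or.inr ⟨𝟙 _, (Category.id_comp _).symm⟩
    have e := hs ι h0
    change F.obj.map ι.op s = fam ι h0 at e
    rw [e]
    by_cases h1 : ∃ g : OE ⟶ U', ι = g ≫ φ
    · simp only [fam, dif_pos h1]
      exact key _ h1.choose (𝟙 _) (by rw [← h1.choose_spec, Category.id_comp])
    · simp only [fam, dif_neg h1]

include hbij hres in
/-- **Excision for sections with support.** -/
theorem bijOn_restrict_supported (hZ : IsClosed Z) :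
    Set.BijOn (F.obj.map φ.op) {s | EtShriek.sectSupp F U s ⊆ Z}
      {s' | EtShriek.sectSupp F U' s' ⊆ φ.left.base ⁻¹' Z} := by
  refine ⟨?_, ?_, ?_⟩
  · intro s hs x' hx'
    by_contra hxZ
    have h1 : LocZero F s (φ.left.base x') :=
      (not_mem_sectSupp_iff F s _).1 (fun h => hxZ (hs h))
    exact (not_mem_sectSupp_iff F _ _).2 (LocZero.pullback F φ s x' h1) hx'
  · intro s₁ hs₁ s₂ hs₂ h12
    rw [← sub_eq_zero]
    apply eq_zero_of_locZero
    intro x
    by_cases hx : x ∈ Z
    · obtain ⟨x', hx', rfl⟩ := hbij.surjOn hx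
      refine ⟨U', φ, ⟨x', rfl⟩, ?_⟩
      rw [map_sub, h12, sub_self]
    · exact LocZero.sub F _ _ x ((not_mem_sectSupp_iff F s₁ _).1 (fun h => hx (hs₁ h)))
        ((not_mem_sectSupp_iff F s₂ _).1 (fun h => hx (hs₂ h)))
  · intro s' hs'
    obtain ⟨s, h1, h2⟩ := exists_extension F φ Z hbij hres s' hs' hZ
    exact ⟨s, h2, h1⟩

end Main

end Groth.Agent.R2.H13.Supp
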