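import Mathlib
import Groth.Prelude.Def_EtBase
import Groth.Prelude.Def_EtShriek2
import Groth.Agent.R2.H13Supp
import Groth.Agent.R2.H13Recoll
import Groth.Agent.S0647
import Groth.Agent.Lib.Helper16EtStalk

/-!
# Local vanishing of sections of direct images under integral morphisms (helper13)

Namespace `Groth.Agent.R2.H13.FinLoc`.

* `isOpen_locZero` : the locus where a section vanishes étale locally is open.
* `locZero_push` : **closedness lemma**.  `f : X ⟶ Y` integral, `s` a section of `f_* H` over `W`;
  if `s` vanishes étale locally (on `X ×_Y W`) at every point over `y : W`, then `s` vanishes on an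
  étale (in fact open) neighbourhood of `y` in `W`.
* `isZero_pull_of_locZero`, `isIso_counit_of_locZero` : **criterion** for `j_! j⁻¹ G ⟶ G` to be an
  isomorphism (`j` an open immersion with closed complement `i`): every section of `G` vanishes
  étale locally at the points over the complement.
* `locZero_extZero` : sections of `j_! F` vanish étale locally at the points outside `j`.
-/

set_option autoImplicit false
open CategoryTheory CategoryTheory.Limits AlgebraicGeometry Opposite
universe u

namespace Groth.Agent.R2.H13.FinLoc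

open Groth.Agent.R2.H13.Supp Groth.Agent.R2.H13.ClosedPush Groth.Agent.R2.H13.Recoll
open Groth.Agent.Lib.Helper16.EtStalk

section Open

variable {X : Scheme.{u}} (H : EtCoh.Ab X)

/-- the locus where a section vanishes étale locally is open -/
lemma isOpen_locZero {W : X.Etale} (t : H.obj.obj (op W)) :
    IsOpen {w : W.left | LocZero H t w} := by
  rw [isOpen_iff_forall_mem_open]
  rintro w ⟨N, g, ⟨n, hn⟩, hg⟩
  refine ⟨Set.range g.left, ?_, g.left.isOpenMap.isOpen_range, ⟨n, hn⟩⟩
  rintro _ ⟨n', rfl⟩
  exact ⟨N, g, ⟨n', rfl⟩, hg⟩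

end Open

section Closedness

variable {X Y : Scheme.{u}} (f : X ⟶ Y)

set_option backward.isDefEq.respectTransparency.types false in
lemma bc_map_left_fst {W N : Y.Etale} (g : N ⟶ W) :
    ((EtCoh.bc f).map g).left ≫ pullback.fst W.hom f = pullback.fst N.hom f ≫ g.left :=
  (EtCoh.isPullback_bc_map f g).w

set_option backward.isDefEq.respectTransparency.types false in
/-- **Closedness lemma**: for `f` integral, a section of `f_* H` over `W` which vanishes étale locally
at all points of `X ×_Y W` over `y : W` vanishes over an open neighbourhood of `y`. -/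
theorem locZero_push [IsIntegralHom f] (H : EtCoh.Ab X) (W : Y.Etale)
    (s : H.obj.obj (op ((EtCoh.bc f).obj W))) (y : W.left)
    (h : ∀ x : ((EtCoh.bc f).obj W).left, (pullback.fst W.hom f) x = y → LocZero H s x) :
    ∃ (N : Y.Etale) (g : N ⟶ W), (∃ n : N.left, g.left.base n = y) ∧ IsOpenImmersion g.left ∧
      H.obj.map ((EtCoh.bc f).map g).op s = 0 := by
  let p : ((EtCoh.bc f).obj W).left ⟶ W.left := pullback.fst W.hom f
  haveI : IsIntegralHom p := MorphismProperty.pullback_fst (P := @IsIntegralHom) _ _ inferInstance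
  let Zc : Set ((EtCoh.bc f).obj W).left := {x | LocZero H s x}ᶜ
  have hZc : IsClosed Zc := (isOpen_locZero H s).isClosed_compl
  have hC : IsClosed (p '' Zc) := p.isClosedMap _ hZc
  have hy : y ∉ p '' Zc := by
    rintro ⟨x, hx, hxy⟩
    exact hx (h x hxy)
  let O : W.left.Opens := ⟨(p '' Zc)ᶜ, hC.isOpen_compl⟩
  let N : Y.Etale := Scheme.Etale.mk (O.ι ≫ W.hom)
  let g : N ⟶ W := MorphismProperty.Over.homMk O.ι rfl trivial
  refine ⟨N, g, ⟨⟨y, hy⟩, rfl⟩, inferInstanceAs (IsOpenImmersion O.ι), ?_⟩
  apply eq_zero_of_locZero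
  intro x'
  apply LocZero.pullback
  by_contra hcon
  have h1 : p (((EtCoh.bc f).map g).left x') ∈ p '' Zc := ⟨_, hcon, rfl⟩
  have h2 : p (((EtCoh.bc f).map g).left x') = g.left (pullback.fst N.hom f x') := by
    change (((EtCoh.bc f).map g).left ≫ pullback.fst W.hom f) x' = _
    rw [bc_map_left_fst]
    rfl
  rw [h2] at h1
  exact (pullback.fst N.hom f x').2 h1

set_option backward.isDefEq.respectTransparency.types false in
/-- points lift along the base change of a morphism of étale schemes -/
lemma exists_bc_lift {W N : Y.Etale} (g : N ⟶ W) (z : ((EtCoh.bc f).obj W).left) (n : N.left)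
    (hn : g.left.base n = (pullback.fst W.hom f).base z) :
    ∃ z' : ((EtCoh.bc f).obj N).left, ((EtCoh.bc f).map g).left.base z' = z := by
  have sq := EtCoh.isPullback_bc_map f g
  obtain ⟨z₀, hz1, -⟩ := Scheme.Pullback.exists_preimage_pullback
    (f := (pullback.fst W.hom f : ((EtCoh.bc f).obj W).left ⟶ W.left)) (g := g.left) z n hn.symm
  refine ⟨sq.isoPullback.inv z₀, ?_⟩
  have h1 : ((EtCoh.bc f).map g).left.base (sq.isoPullback.inv.base z₀) =
      (pullback.fst (pullback.fst W.hom f) g.left).base z₀ :=
    congrArg (fun m : pullback (pullback.fst W.hom f) g.left ⟶ ((EtCoh.bc f).obj W).left =>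
      m.base z₀) sq.isoPullback_inv_fst
  exact h1.trans hz1

end Closedness

section Criterion

variable {Z Y V : Scheme.{u}} (i : Z ⟶ Y) (j : V ⟶ Y)

set_option backward.isDefEq.respectTransparency.types false in
/-- if every section of `G` vanishes étale locally at the points over `Z`, then `i⁻¹ G = 0` -/
theorem isZero_pull_of_locZero (G : EtCoh.Ab Y)
    (h : ∀ (W : Y.Etale) (s : G.obj.obj (op W)) (w : W.left), W.hom.base w ∈ Set.range i.base →
      LocZero G s w) :
    IsZero ((EtCoh.pull i).obj G) := by
  have hunit : (EtCoh.pullPushAdj i).unit.app G = 0 := by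
    apply Sheaf.hom_ext
    ext W s
    induction W using Opposite.rec with | _ W => ?_
    change ((EtCoh.pullPushAdj i).unit.app G).hom.app (op W) s = 0
    let K := (EtCoh.pull i).obj G
    let t : K.obj.obj (op ((EtCoh.bc i).obj W)) := ((EtCoh.pullPushAdj i).unit.app G).hom.app (op W) s
    change t = 0
    apply eq_zero_of_locZero K
    intro z
    have hw : W.hom.base ((pullback.fst W.hom i).base z) ∈ Set.range i.base := by
      refine ⟨(pullback.snd W.hom i).base z, ?_⟩
      change (pullback.snd W.hom i ≫ i).base z = (pullback.fst W.hom i ≫ W.hom).base z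
      rw [pullback.condition]
    obtain ⟨N, g, ⟨n, hn⟩, hg⟩ := h W s _ hw
    obtain ⟨z', hz'⟩ := exists_bc_lift i g z n hn
    refine ⟨(EtCoh.bc i).obj N, (EtCoh.bc i).map g, ⟨z', hz'⟩, ?_⟩
    have nat := ConcreteCategory.congr_hom (((EtCoh.pullPushAdj i).unit.app G).hom.naturality g.op) s
    change ((EtCoh.pullPushAdj i).unit.app G).hom.app (op N) (G.obj.map g.op s) =
      K.obj.map ((EtCoh.bc i).map g).op t at nat
    rw [← nat, hg]
    exact map_zero _
  rw [IsZero.iff_id_eq_zero]
  have ht := (EtCoh.pullPushAdj i).left_triangle_components G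
  rw [← ht, hunit, Functor.map_zero, zero_comp]

/-- **Criterion**: `j_! j⁻¹ G ⟶ G` is an isomorphism as soon as every section of `G` vanishes étale
locally at the points over the closed complement. -/
theorem isIso_counit_of_locZero [IsClosedImmersion i] [IsOpenImmersion j]
    (hU : Set.range j.base = (Set.range i.base)ᶜ) (G : EtCoh.Ab Y)
    (h : ∀ (W : Y.Etale) (s : G.obj.obj (op W)) (w : W.left), W.hom.base w ∈ Set.range i.base →
      LocZero G s w) :
    IsIso ((EtShriek.extZeroAdj j).counit.app G) := by
  have hS := shortExact_extZero_push i j hU G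
  have hz : IsZero ((EtCoh.push i).obj ((EtCoh.pull i).obj G)) :=
    (EtCoh.push i).map_isZero (isZero_pull_of_locZero i G h)
  exact hS.isIso_f_iff.2 hz

end Criterion

section ExtZero

variable {U X : Scheme.{u}} (j : U ⟶ X) [IsOpenImmersion j]

set_option backward.isDefEq.respectTransparency.types false in
/-- sections of `j_! F` vanish étale locally at the points outside `j` -/
theorem locZero_extZero (F : EtCoh.Ab U) (M : X.Etale)
    (t : ((EtShriek.extZero j).obj F).obj.obj (op M)) (x : M.left)
    (hx : M.hom.base x ∉ Set.range j.base) :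
    LocZero ((EtShriek.extZero j).obj F) t x := by
  obtain ⟨Ω, _, _, ξ, x₀, hx₀⟩ := exists_geometric_point M x
  obtain ⟨e⟩ := Groth.Agent.S0647.result j F ξ
  have hw : x₀.left ≫ M.hom = ξ := Over.w x₀
  have hempty : IsEmpty {u : Spec (CommRingCat.of Ω) ⟶ U // u ≫ j = ξ} := by
    constructor
    rintro ⟨u, hu⟩
    apply hx
    refine ⟨u.base (default : Spec (CommRingCat.of Ω)), ?_⟩
    rw [← hx₀]
    change (u ≫ j).base (default : Spec (CommRingCat.of Ω)) =
      (x₀.left ≫ M.hom).base (default : Spec (CommRingCat.of Ω))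
    rw [hu, hw]
  have hz : IsZero ((EtCoh.stalk ξ).obj ((EtShriek.extZero j).obj F)) := by
    refine IsZero.of_iso ?_ e
    rw [IsZero.iff_id_eq_zero]
    exact Sigma.hom_ext _ _ (fun u => hempty.elim u)
  let Φ := Scheme.pointSmallEtale ξ
  have e2 : Φ.toPresheafFiber M x₀ ((EtShriek.extZero j).obj F).obj t =
      Φ.toPresheafFiber M x₀ ((EtShriek.extZero j).obj F).obj 0 := by
    exact (AddCommGrpCat.isZero_iff_subsingleton.mp hz).elim _ _
  obtain ⟨N, g, n, hn, hg⟩ := (Φ.toPresheafFiber_eq_iff' M x₀ t 0).mp e2
  refine ⟨N, g, ⟨(n.left : Spec (CommRingCat.of Ω) ⟶ N.left).base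
    (default : Spec (CommRingCat.of Ω)), ?_⟩, ?_⟩
  · have e3 : n.left ≫ g.left = x₀.left := congrArg (fun m => m.left) hn
    rw [← hx₀]
    exact congrArg (fun m : Spec (CommRingCat.of Ω) ⟶ M.left =>
      m.base (default : Spec (CommRingCat.of Ω))) e3
  · rw [hg]
    exact map_zero _

end ExtZero

section OpenBC

variable {U X V Y : Scheme.{u}} {f : X ⟶ Y} {j : V ⟶ Y} {j' : U ⟶ X} {g : U ⟶ V}
  (h : IsPullback j' g f j) [Etale j] [Etale j']

omit [Etale j] [Etale j'] in
include h in
/-- the pasted cartesian square `U ×_V N = X ×_Y N` -/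
lemma isPullback_paste (N : V.Etale) :
    IsPullback (pullback.fst N.hom g) (pullback.snd N.hom g ≫ j') (N.hom ≫ j) f :=
  (IsPullback.of_hasPullback N.hom g).paste_vert h.flip

set_option backward.isDefEq.respectTransparency.types false in
/-- `U ×_V N ≅ X ×_Y N` as étale `X`-schemes -/
noncomputable def θobj (N : V.Etale) :
    (EtCoh.bc g ⋙ EtShriek.compEtale j').obj N ≅ (EtShriek.compEtale j ⋙ EtCoh.bc f).obj N :=
  MorphismProperty.Over.isoMk (isPullback_paste h N).isoPullback
    ((isPullback_paste h N).isoPullback_hom_snd)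

set_option backward.isDefEq.respectTransparency.types false in
lemma θobj_hom_left_fst (N : V.Etale) :
    (θobj h N).hom.left ≫ pullback.fst (N.hom ≫ j) f = pullback.fst N.hom g :=
  (isPullback_paste h N).isoPullback_hom_fst

set_option backward.isDefEq.respectTransparency.types false in
lemma θobj_hom_left_snd (N : V.Etale) :
    (θobj h N).hom.left ≫ pullback.snd (N.hom ≫ j) f = pullback.snd N.hom g ≫ j' :=
  (isPullback_paste h N).isoPullback_hom_snd

set_option backward.isDefEq.respectTransparency.types false in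
/-- the natural isomorphism `bc g ⋙ compEtale j' ≅ compEtale j ⋙ bc f` -/
noncomputable def θ : EtCoh.bc g ⋙ EtShriek.compEtale j' ≅ EtShriek.compEtale j ⋙ EtCoh.bc f :=
  NatIso.ofComponents (θobj h) (by
    intro N N' a
    apply MorphismProperty.Over.Hom.ext
    have l1 := θobj_hom_left_fst h N'
    have l2 := bc_map_left_fst g a
    have l3 := bc_map_left_fst f ((EtShriek.compEtale j).map a)
    have l4 := θobj_hom_left_fst h N
    have m1 := θobj_hom_left_snd h N'
    have m3 : ((EtCoh.bc f).map ((EtShriek.compEtale j).map a)).left ≫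
        pullback.snd (N'.hom ≫ j) f = pullback.snd (N.hom ≫ j) f :=
      (EtCoh.isPullback_bc_map f ((EtShriek.compEtale j).map a)) |> fun _ => by
        dsimp [EtCoh.bc]
        exact pullback.lift_snd _ _ _
    have m2 : ((EtCoh.bc g).map a).left ≫ pullback.snd N'.hom g = pullback.snd N.hom g := by
      dsimp [EtCoh.bc]
      exact pullback.lift_snd _ _ _
    have m4 := θobj_hom_left_snd h N
    apply pullback.hom_ext
    · exact (Category.assoc _ _ _).trans ((congrArg (((EtCoh.bc g).map a).left ≫ ·) l1).trans
        (l2.trans ((congrArg (· ≫ a.left) l4).symm.trans ((Category.assoc _ _ _).trans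
          ((congrArg ((θobj h N).hom.left ≫ ·) l3).symm.trans (Category.assoc _ _ _).symm)))))
    · exact (Category.assoc _ _ _).trans ((congrArg (((EtCoh.bc g).map a).left ≫ ·) m1).trans
        ((Category.assoc _ _ _).symm.trans ((congrArg (· ≫ j') m2).trans (m4.symm.trans
          ((congrArg ((θobj h N).hom.left ≫ ·) m3).symm.trans (Category.assoc _ _ _).symm))))))

set_option backward.isDefEq.respectTransparency.types false in
/-- base change along an open immersion: `j⁻¹ f_* H ≅ g_* j'⁻¹ H` -/
noncomputable def restrPushIso [EtShriek.JCont j] [EtShriek.JCont j'] (H : EtCoh.Ab X) :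
    (EtShriek.restrAlong j).obj ((EtCoh.push f).obj H) ≅
      (EtCoh.push g).obj ((EtShriek.restrAlong j').obj H) :=
  (fullyFaithfulSheafToPresheaf _ _).preimageIso
    (Functor.isoWhiskerRight (NatIso.op (θ h)) H.obj)

end OpenBC

end Groth.Agent.R2.H13.FinLoc
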