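import Mathlib

open BigOperators Finset

namespace Groth.Agent.R2.H13.GaussJacobi

variable {F : Type*} [Field F] [Fintype F] [DecidableEq F] {R : Type*} [CommRing R]

theorem sum_units_eq (h : F → R) (h0 : h 0 = 0) : ∑ y : Fˣ, h y = ∑ y : F, h y := by
  apply Fintype.sum_of_injective (fun y : Fˣ => (y : F)) Units.val_injective
  · intro y hy
    have : y = 0 := by
      by_contra hne
      exact hy ⟨Units.mk0 y hne, rfl⟩
    rw [this, h0]
  · intro y; rfl

omit [Field F] [Fintype F] [DecidableEq F] in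
theorem addChar_map_sum {A : Type*} [AddCommMonoid A] {ι : Type*} (ψ : AddChar A R) (f : ι → A)
    (s : Finset ι) : ψ (∑ i ∈ s, f i) = ∏ i ∈ s, ψ (f i) := by
  classical
  induction s using Finset.induction_on with
  | empty => simp
  | insert a s ha ih =>
    rw [Finset.sum_insert ha, Finset.prod_insert ha, AddChar.map_add_eq_mul, ih]

/-- evaluation of characters at a unit, as a monoid hom -/
def evalHom (t : Fˣ) : MulChar F R →* R where
  toFun χ := χ t
  map_one' := MulChar.one_apply_coe t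
  map_mul' χ ψ := MulChar.mul_apply χ ψ t

omit [Fintype F] [DecidableEq F] in
theorem prod_apply_unit {N : ℕ} (θ : Fin N → MulChar F R) (t : Fˣ) :
    (∏ i, θ i) t = ∏ i, θ i t := by
  have := map_prod (evalHom (R := R) t) θ Finset.univ
  exact this

/-- the (generalised) Jacobi sum with prescribed sum `s`. -/
noncomputable def J {N : ℕ} (θ : Fin N → MulChar F R) (s : F) : R :=
  ∑ x ∈ (Finset.univ : Finset (Fin N → Fˣ)).filter (fun x => ∑ i, ((x i : Fˣ) : F) = s),
    ∏ i : Fin N, θ i ((x i : Fˣ) : F)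

theorem prod_gaussSum_eq {N : ℕ} (θ : Fin N → MulChar F R) (Ψ : AddChar F R) :
    ∏ i : Fin N, gaussSum (θ i) Ψ = ∑ s : F, Ψ s * J θ s := by
  have h1 : ∀ i, gaussSum (θ i) Ψ = ∑ y : Fˣ, θ i y * Ψ y := by
    intro i
    rw [gaussSum]
    exact (sum_units_eq (fun y => θ i y * Ψ y) (by rw [MulChar.map_zero, zero_mul])).symm
  simp_rw [h1]
  rw [Finset.prod_univ_sum, Fintype.piFinset_univ]
  rw [← Finset.sum_fiberwise (Finset.univ : Finset (Fin N → Fˣ))
    (fun x => ∑ i, ((x i : Fˣ) : F))]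
  apply Finset.sum_congr rfl
  intro s _
  unfold J
  rw [Finset.mul_sum]
  apply Finset.sum_congr rfl
  intro x hx
  rw [Finset.mem_filter] at hx
  rw [Finset.prod_mul_distrib, ← addChar_map_sum, hx.2, mul_comm]

theorem J_mul {N : ℕ} (θ : Fin N → MulChar F R) (t : Fˣ) (s : F) :
    J θ (t * s) = (∏ i, θ i) t * J θ s := by
  unfold J
  rw [Finset.mul_sum]
  symm
  apply Finset.sum_bij (fun x _ => fun i => t * x i)
  · intro x hx
    rw [Finset.mem_filter] at hx ⊢
    refine ⟨Finset.mem_univ _, ?_⟩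
    simp only [Units.val_mul]
    rw [← Finset.mul_sum, hx.2]
  · intro x _ y _ hxy
    funext i
    have := congrFun hxy i
    exact mul_left_cancel this
  · intro y hy
    rw [Finset.mem_filter] at hy
    refine ⟨fun i => t⁻¹ * y i, ?_, ?_⟩
    · rw [Finset.mem_filter]
      refine ⟨Finset.mem_univ _, ?_⟩
      simp only [Units.val_mul]
      rw [← Finset.mul_sum, hy.2, ← mul_assoc, ← Units.val_mul, inv_mul_cancel, Units.val_one,
        one_mul]
    · funext i
      simp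
  · intro x _
    rw [prod_apply_unit]
    simp only [Units.val_mul, map_mul]
    rw [Finset.prod_mul_distrib]


theorem sum_J_eq_zero [IsDomain R] {N : ℕ} (θ : Fin N → MulChar F R) (h : ∃ i, θ i ≠ 1) :
    ∑ s : F, J θ s = 0 := by
  unfold J
  rw [Finset.sum_fiberwise (Finset.univ : Finset (Fin N → Fˣ))
    (fun x => ∑ i, ((x i : Fˣ) : F)) (fun x => ∏ i : Fin N, θ i ((x i : Fˣ) : F))]
  have := (Finset.prod_univ_sum (fun _ : Fin N => (Finset.univ : Finset Fˣ))
    (fun i y => θ i ((y : Fˣ) : F))).symm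
  rw [Fintype.piFinset_univ] at this
  rw [this]
  obtain ⟨i, hi⟩ := h
  apply Finset.prod_eq_zero (Finset.mem_univ i)
  rw [sum_units_eq (fun y => θ i y) (MulChar.map_zero _)]
  exact MulChar.sum_eq_zero_of_ne_one hi

theorem J_eq_of_ne_zero {N : ℕ} (θ : Fin N → MulChar F R) (s : F) (hs : s ≠ 0) :
    J θ s = (∏ i, θ i) (-s) * J θ (-1) := by
  have := J_mul θ (Units.mk0 (-s) (neg_ne_zero.2 hs)) (-1)
  simp only [Units.val_mk0, mul_neg, mul_one, neg_neg] at this
  exact this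

theorem prod_gaussSum_eq' {N : ℕ} (θ : Fin N → MulChar F R) (Ψ : AddChar F R) :
    ∏ i : Fin N, gaussSum (θ i) Ψ =
      J θ 0 + J θ (-1) * ((∏ i, θ i) (-1) * gaussSum (∏ i, θ i) Ψ) := by
  rw [prod_gaussSum_eq, ← Finset.add_sum_erase Finset.univ _ (Finset.mem_univ (0 : F)),
    AddChar.map_zero_eq_one, one_mul]
  congr 1
  have h1 : ∀ s ∈ (Finset.univ : Finset F).erase 0,
      Ψ s * J θ s = J θ (-1) * (Ψ s * (∏ i, θ i) (-s)) := by
    intro s hs
    rw [J_eq_of_ne_zero θ s (Finset.ne_of_mem_erase hs)]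
    ring
  rw [Finset.sum_congr rfl h1, ← Finset.mul_sum]
  congr 1
  rw [Finset.sum_erase _ (by rw [neg_zero, MulChar.map_zero, mul_zero]), gaussSum, Finset.mul_sum]
  apply Finset.sum_congr rfl
  intro s _
  rw [show -s = (-1) * s by ring, map_mul]
  ring

theorem main [IsDomain R] (N : ℕ) (hN : 1 ≤ N) (η : Fin (N + 1) → MulChar F R)
    (hprod : ∏ i, η i = 1) (hnt : ∃ i, η i ≠ 1) (Ψ : AddChar F R) (hΨ : Ψ ≠ 1) :
    (Fintype.card F : R) * ((-1) ^ (N - 1) * J (fun i : Fin N => η i.succ) (-1)) =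
      ∏ i : Fin (N + 1), (-(gaussSum (η i) Ψ)) := by
  set θ : Fin N → MulChar F R := fun i => η i.succ with hθ
  set Θ : MulChar F R := ∏ i, θ i with hΘdef
  have hΘ : η 0 * Θ = 1 := by
    rw [← hprod, Fin.prod_univ_succ]
  have hpow : ((-1 : R)) ^ (N + 1) = (-1) ^ (N - 1) := by
    obtain ⟨m, rfl⟩ : ∃ m, N = m + 1 := ⟨N - 1, by omega⟩
    simp [pow_succ]
  rw [Fin.prod_univ_succ]
  have hneg : ∏ i : Fin N, (-(gaussSum (η i.succ) Ψ)) = (-1) ^ N * ∏ i, gaussSum (θ i) Ψ := by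
    rw [Finset.prod_neg]
    simp [hθ]
  rw [hneg, prod_gaussSum_eq' θ Ψ, ← hΘdef]
  by_cases h0 : η 0 = 1
  · -- η 0 = 1, so Θ = 1
    have hΘ1 : Θ = 1 := by rw [h0, one_mul] at hΘ; exact hΘ
    have hθnt : ∃ i, θ i ≠ 1 := by
      obtain ⟨i, hi⟩ := hnt
      refine Fin.cases ?_ (fun j hj => ⟨j, hj⟩) i hi
      intro h; exact absurd h0 h
    have hsum := sum_J_eq_zero θ hθnt
    rw [← Finset.add_sum_erase Finset.univ _ (Finset.mem_univ (0 : F))] at hsum
    have h2 : ∀ s ∈ (Finset.univ : Finset F).erase 0, J θ s = J θ (-1) := by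
      intro s hs
      rw [J_eq_of_ne_zero θ s (Finset.ne_of_mem_erase hs), ← hΘdef, hΘ1]
      have : (1 : MulChar F R) (-s) = 1 := by
        have := MulChar.one_apply_coe (R' := R) (Units.mk0 (-s) (neg_ne_zero.2 (Finset.ne_of_mem_erase hs)))
        simpa using this
      rw [this, one_mul]
    rw [Finset.sum_congr rfl h2, Finset.sum_const, Finset.card_erase_of_mem (Finset.mem_univ _),
      Finset.card_univ, nsmul_eq_mul, Nat.cast_sub Fintype.card_pos, Nat.cast_one] at hsum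
    rw [h0, hΘ1, gaussSum_one_left hΨ]
    have h3 : (1 : MulChar F R) (-1) = 1 := by
      have := MulChar.one_apply_coe (R' := R) (-1 : Fˣ)
      simpa using this
    rw [h3, ← hpow]
    have hJ0 : J θ 0 = -(((Fintype.card F : R) - 1) * J θ (-1)) := eq_neg_of_add_eq_zero_left hsum
    rw [hJ0, pow_succ]
    ring
  · -- η 0 ≠ 1
    have hΘinv : Θ = (η 0)⁻¹ := eq_inv_of_mul_eq_one_right hΘ
    have hΘne : Θ ≠ 1 := by
      rw [hΘinv]
      intro h
      exact h0 (inv_eq_one.1 h)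
    have hJ0 : J θ 0 = 0 := by
      obtain ⟨t, ht⟩ := MulChar.ne_one_iff.1 hΘne
      have := J_mul θ t 0
      rw [mul_zero, ← hΘdef] at this
      have h4 : (Θ t - 1) * J θ 0 = 0 := by rw [sub_mul, one_mul, ← this, sub_self]
      rcases mul_eq_zero.1 h4 with h5 | h5
      · exact absurd (sub_eq_zero.1 h5) ht
      · exact h5
    have hcard : gaussSum (η 0) Ψ * (Θ (-1) * gaussSum Θ Ψ) = (Fintype.card F : R) := by
      have h6 := gaussSum_mul_gaussSum_eq_card h0 (AddChar.IsPrimitive.of_ne_one hΨ)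
      have h7 := mul_gaussSum_inv_eq_gaussSum (η 0)⁻¹ Ψ⁻¹
      rw [inv_inv] at h7
      rw [hΘinv, h7, h6]
    rw [hJ0, zero_add, ← hpow, pow_succ]
    calc (Fintype.card F : R) * ((-1) ^ N * -1 * J θ (-1))
        = (gaussSum (η 0) Ψ * (Θ (-1) * gaussSum Θ Ψ)) * ((-1) ^ N * -1 * J θ (-1)) := by
          rw [hcard]
      _ = -gaussSum (η 0) Ψ * ((-1) ^ N * (J θ (-1) * (Θ (-1) * gaussSum Θ Ψ))) := by ring

end Groth.Agent.R2.H13.GaussJacobi
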