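import Mathlib
import Groth.Prelude.Def_SGA4b
import Groth.Prelude.Def_EtShriek2
import Groth.Agent.R2.H13ClosedPushSet

/-!
# Direct image of étale sheaves of sets along an immersion is fully faithful (helper13)
-/

set_option autoImplicit false
open CategoryTheory CategoryTheory.Limits AlgebraicGeometry Opposite
universe u

namespace Groth.Agent.R2.H13.ClosedPush

open Groth.Agent.S0651

section Open

variable {U X : Scheme.{u}} (j : U ⟶ X) [IsOpenImmersion j]

set_option backward.isDefEq.respectTransparency.types false in
lemma isIso_counit_restrPushAdjSh (F : EtDesc.Sh U) :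
    IsIso ((restrPushAdjSh j).counit.app F) := by
  have h1 : IsIso ((sheafToPresheaf _ _).map ((restrPushAdjSh j).counit.app F)) := by
    apply (config := { allowSynthFailures := true }) NatIso.isIso_of_isIso_app
    intro V
    have h0 : IsIso ((compBcAdj j).unit.app (unop V)) := inferInstance
    have h2 : IsIso (F.obj.map ((compBcAdj j).unit.app (unop V)).op) := inferInstance
    simp [restrPushAdjSh]
    exact h2
  exact isIso_of_reflects_iso _ (sheafToPresheaf _ _)

/-- `j_*` is fully faithful on sheaves of sets for an open immersion `j`. -/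
noncomputable def pushSh_fullyFaithful_of_isOpenImmersion : (EtDesc.pushSh j).FullyFaithful := by
  have : IsIso (restrPushAdjSh j).counit :=
    have h : ∀ F, IsIso ((restrPushAdjSh j).counit.app F) := isIso_counit_restrPushAdjSh j
    NatIso.isIso_of_isIso_app _
  exact (restrPushAdjSh j).fullyFaithfulROfIsIsoCounit

end Open

section Closed

variable {Z X : Scheme.{u}} (i : Z ⟶ X) [IsClosedImmersion i]

/-- `i_*` is fully faithful on sheaves of sets for a closed immersion `i`. -/
noncomputable def pushSh_fullyFaithful_of_isClosedImmersion : (EtDesc.pushSh i).FullyFaithful := by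
  have h1 : (EtDesc.pushSh i).Full :=
    Functor.IsCoverDense.full_sheafPushforwardContinuous (EtCoh.bc i)
      (J := X.smallEtaleTopology) (K := Z.smallEtaleTopology) (A := Type (u + 1))
  have h2 : (EtDesc.pushSh i).Faithful :=
    Functor.IsCoverDense.faithful_sheafPushforwardContinuous (EtCoh.bc i)
      (J := X.smallEtaleTopology) (K := Z.smallEtaleTopology) (A := Type (u + 1))
  exact Functor.FullyFaithful.ofFullyFaithful _

end Closed

section Imm

variable {X Y : Scheme.{u}} (f : X ⟶ Y) [IsImmersion f]

/-- `f_*` is fully faithful on sheaves of sets for an immersion `f`. -/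
noncomputable def pushSh_fullyFaithful_of_isImmersion : (EtDesc.pushSh f).FullyFaithful := by
  have h1 := pushSh_fullyFaithful_of_isClosedImmersion f.liftCoborder
  have h2 := pushSh_fullyFaithful_of_isOpenImmersion f.coborderRange.ι
  have h3 : (EtDesc.pushSh (f.liftCoborder ≫ f.coborderRange.ι)).FullyFaithful :=
    (h1.comp h2).ofIso (EtDesc.pushCompSh f.coborderRange.ι f.liftCoborder)
  have e : f.liftCoborder ≫ f.coborderRange.ι = f := f.liftCoborder_ι
  rw [e] at h3
  exact h3

theorem isIso_counit_adjSh_of_isImmersion (F : EtDesc.Sh X) :
    IsIso ((EtDesc.adjSh f).counit.app F) := by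
  have h := pushSh_fullyFaithful_of_isImmersion f
  have : (EtDesc.pushSh f).Full := h.full
  have : (EtDesc.pushSh f).Faithful := h.faithful
  infer_instance

end Imm

end Groth.Agent.R2.H13.ClosedPush
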