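import Mathlib
import Groth.Agent.R2.H13FinPt

/-!
# Pointed henselian lifting, integral case (helper13)

Namespace `Groth.Agent.R2.H13.IntPt`.

* `exists_algHom_pointed_integral` : `A` strictly henselian local with a local map `e₀ : A → Ω` to an
  algebraically closed field, `S` an integral `R`-algebra, `C` a ring with compatible maps from `A` and
  `S`, `T` étale over `S` covering the fibre of `Spec S` over the closed point.  Given `σ₀ : S → Ω` and an
  extension `t₀ : T → Ω` of `σ₀`, there is an `S`-algebra map `τ : T → C` with `ε ∘ τ = t₀` for every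
  `ε : C → Ω` over `e₀` whose restriction to `S` is `σ₀`.
-/

set_option autoImplicit false
set_option linter.style.haveILetI false
universe u

namespace Groth.Agent.R2.H13.IntPt

open IsLocalRing TensorProduct
open Groth.Agent.R2.H13.FinHens Groth.Agent.R2.H13.FinPt

set_option maxHeartbeats 2000000 in
theorem exists_algHom_pointed_integral {R : Type u} [CommRing R] (A : Type u) [CommRing A]
    [HenselianLocalRing A] [IsSepClosed (ResidueField A)] [Algebra R A]
    (C : Type u) [CommRing C] [Algebra A C] [Algebra R C] [IsScalarTower R A C]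
    (S : Type u) [CommRing S] [Algebra R S] [Algebra.IsIntegral R S] [Algebra S C]
    [IsScalarTower R S C]
    (T : Type u) [CommRing T] [Algebra S T] [Algebra.Etale S T]
    (Ω : Type u) [Field Ω] [IsAlgClosed Ω] (e₀ : A →+* Ω)
    (he₀ : ∀ a, e₀ a = 0 ↔ a ∈ maximalIdeal A)
    (hcov : ∀ r : Ideal S, r.IsPrime →
      r.comap (algebraMap R S) = (maximalIdeal A).comap (algebraMap R A) →
      ∃ q : Ideal T, q.IsPrime ∧ q.comap (algebraMap S T) = r)
    (σ₀ : S →+* Ω) (t₀ : T →+* Ω) (ht₀ : t₀.comp (algebraMap S T) = σ₀) :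
    ∃ τ : T →ₐ[S] C, ∀ ε : C →+* Ω, ε.comp (algebraMap A C) = e₀ →
      ε.comp (algebraMap S C) = σ₀ → ε.comp τ.toRingHom = t₀ := by
  classical
  obtain ⟨S₀, T₀, _, _, hfg, het, ⟨ε⟩⟩ := Algebra.Etale.exists_subalgebra_fg R S T
  haveI : Algebra.FiniteType R S₀ := (Subalgebra.fg_iff_finiteType S₀).mp hfg
  haveI : Algebra.IsIntegral R S₀ :=
    Algebra.IsIntegral.of_injective S₀.val Subtype.val_injective
  haveI : Module.Finite R S₀ := Algebra.IsIntegral.finite
  haveI : Algebra.IsIntegral S₀ S := Algebra.IsIntegral.tower_top (R := R)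
  -- the map `T₀ → T`
  let κ : T₀ →ₐ[S₀] T :=
    (ε.symm.toAlgHom.restrictScalars S₀).comp Algebra.TensorProduct.includeRight
  have hκ : ∀ x : S₀, κ (algebraMap S₀ T₀ x) = algebraMap S T (algebraMap S₀ S x) := by
    intro x
    rw [κ.commutes]
    rfl
  let σ₀' : S₀ →+* Ω := σ₀.comp (algebraMap S₀ S)
  obtain ⟨τ₀, hτ₀⟩ := exists_algHom_pointed (R := R) A C S₀ T₀ Ω e₀ he₀
    (fun σ' t' => σ' = σ₀' → t' = t₀.comp κ.toRingHom) (by
      intro σ' hσ'
      by_cases hc : σ' = σ₀'
      · refine ⟨t₀.comp κ.toRingHom, ?_, fun _ => rfl⟩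
        rw [hc]
        ext x
        change t₀ (κ (algebraMap S₀ T₀ x)) = σ₀ (algebraMap S₀ S x)
        rw [hκ, ← ht₀]
        rfl
      · -- any extension will do
        have hr₀ : (RingHom.ker σ').IsPrime := RingHom.ker_isPrime σ'
        have hr₀p : (RingHom.ker σ').comap (algebraMap R S₀) =
            (maximalIdeal A).comap (algebraMap R A) := by
          ext x
          rw [Ideal.mem_comap, RingHom.mem_ker, Ideal.mem_comap, ← he₀]
          exact (RingHom.congr_fun hσ' x) ▸ Iff.rfl
        have hker : (⊥ : Ideal S).comap (algebraMap S₀ S) ≤ RingHom.ker σ' := by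
          rw [← RingHom.ker_eq_comap_bot, (RingHom.injective_iff_ker_eq_bot _).mp
            (show Function.Injective (algebraMap S₀ S) from Subtype.val_injective)]
          exact bot_le
        obtain ⟨r, -, hr, hrr₀⟩ := Ideal.exists_ideal_over_prime_of_isIntegral
          (S := S) (RingHom.ker σ') ⊥ hker
        have hrp : r.comap (algebraMap R S) = (maximalIdeal A).comap (algebraMap R A) := by
          rw [← hr₀p, ← hrr₀, Ideal.comap_comap]
          rfl
        obtain ⟨q, hq, hqr⟩ := hcov r hr hrp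
        letI : Algebra S₀ Ω := σ'.toAlgebra
        haveI : (q.comap κ.toRingHom).IsPrime := Ideal.comap_isPrime _ _
        obtain ⟨t'⟩ := exists_algHom_of_isSepClosed (S := S₀) (T := T₀) (K := Ω)
          (q.comap κ.toRingHom) (by
            rw [Ideal.comap_comap]
            change _ = RingHom.ker σ'
            rw [← hrr₀, ← hqr, Ideal.comap_comap]
            congr 1
            ext x
            exact hκ x)
        refine ⟨t'.toRingHom, ?_, fun h => absurd h hc⟩
        ext x
        exact t'.commutes x)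
  let τ : T →ₐ[S] C :=
    (Algebra.TensorProduct.lift (Algebra.ofId S C) τ₀ (fun _ _ => Commute.all _ _)).comp
      ε.toAlgHom
  refine ⟨τ, ?_⟩
  intro ε' hε' hε'S
  have h1 := hτ₀ ε' hε' (by
    ext x
    change ε' (algebraMap S₀ C x) = σ₀ (algebraMap S₀ S x)
    rw [← hε'S]
    rfl)
  -- two ring maps out of `T ≅ S ⊗[S₀] T₀` agreeing on `S` and on `T₀`
  suffices h : (ε'.comp τ.toRingHom).comp ε.symm.toAlgHom.toRingHom =
      t₀.comp ε.symm.toAlgHom.toRingHom by
    ext x
    have := RingHom.congr_fun h (ε x)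
    simpa using this
  have h1' : ∀ t : T₀, ε' (τ₀ t) = t₀ (κ t) := fun t => RingHom.congr_fun h1 t
  have hS : ∀ s : S, ε' (algebraMap S C s) = σ₀ s := fun s => RingHom.congr_fun hε'S s
  refine RingHom.ext (fun x => ?_)
  induction x using TensorProduct.induction_on with
  | zero => simp
  | tmul s t =>
    have e1 : τ (ε.symm (s ⊗ₜ[S₀] t)) = algebraMap S C s * τ₀ t := by
      change (Algebra.TensorProduct.lift (Algebra.ofId S C) τ₀ (fun _ _ => Commute.all _ _))
        (ε (ε.symm (s ⊗ₜ[S₀] t))) = _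
      rw [AlgEquiv.apply_symm_apply, Algebra.TensorProduct.lift_tmul]
      rfl
    have e2 : ε.symm (s ⊗ₜ[S₀] t) = algebraMap S T s * κ t := by
      have : (s ⊗ₜ[S₀] t : S ⊗[S₀] T₀) = s • ((1 : S) ⊗ₜ[S₀] t) := by
        rw [TensorProduct.smul_tmul', smul_eq_mul, mul_one]
      rw [this, map_smul, Algebra.smul_def]
      rfl
    change ε' (τ (ε.symm (s ⊗ₜ[S₀] t))) = t₀ (ε.symm (s ⊗ₜ[S₀] t))
    rw [e1, e2, map_mul, map_mul, hS, h1', ← ht₀]
    rfl
  | add x y hx hy =>
    rw [map_add, map_add, hx, hy]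

end Groth.Agent.R2.H13.IntPt
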