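import Mathlib
import Groth.Agent.R2.H13IntPt

/-!
# Henselian lifting with prescribed values on the whole fibre, integral case (helper13)

Namespace `Groth.Agent.R2.H13.IntFam`.

* `exists_model_with_finsets` : descent of an étale algebra to a finitely generated subalgebra which
  contains prescribed finite sets attached to the generators.
* `exists_algHom_family_integral` : `A` strictly henselian local, `S` integral over `R`, `T` étale over
  `S`; a family of points `tt i : T → Ω` over points `σ_ i : S → Ω` which is continuous (each coordinate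
  depends on finitely many coordinates of `σ_ i`) is induced by an `S`-algebra map `T → C`.
-/

set_option autoImplicit false
set_option linter.style.haveILetI false
universe u

namespace Groth.Agent.R2.H13.IntFam

open IsLocalRing TensorProduct
open Groth.Agent.R2.H13.FinHens Groth.Agent.R2.H13.FinPt

set_option maxHeartbeats 1000000 in
/-- descent of an étale algebra to a finitely generated subalgebra containing prescribed finite sets -/
theorem exists_model_with_finsets (R S T : Type u) [CommRing R] [CommRing S] [CommRing T]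
    [Algebra R S] [Algebra S T] [Algebra.Etale S T] (Bx : T → Finset S) :
    ∃ (S₁ : Subalgebra R S) (T₁ : Type u) (_ : CommRing T₁) (_ : Algebra S₁ T₁),
      S₁.FG ∧ Algebra.Etale S₁ T₁ ∧ ∃ (ε : T ≃ₐ[S] S ⊗[S₁] T₁) (G : Set T₁),
        Algebra.adjoin S₁ G = ⊤ ∧ ∀ x ∈ G, ∀ b ∈ Bx (ε.symm (1 ⊗ₜ[S₁] x)), b ∈ S₁ := by
  classical
  have h0 : Algebra.IsStandardSmoothOfRelativeDimension 0 S T :=
    Algebra.Etale.iff_isStandardSmoothOfRelativeDimension_zero.mp inferInstance
  obtain ⟨ι, σ, _, _, P, hP⟩ := h0.out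
  haveI : Fintype ι := Fintype.ofFinite ι
  let B : Finset S := Finset.univ.biUnion (fun k : ι => Bx (P.val k))
  let S₁ : Subalgebra R S := Algebra.adjoin R ((P.coeffs : Set S) ∪ (B : Set S))
  haveI : P.HasCoeffs S₁ := ⟨by
    intro x hx
    exact ⟨⟨x, Algebra.subset_adjoin (Or.inl hx)⟩, rfl⟩⟩
  have hfg : S₁.FG := by
    refine ⟨P.finite_coeffs.toFinset ∪ B, ?_⟩
    simp [S₁]
  have het : Algebra.Etale S₁ (P.ModelOfHasCoeffs S₁) :=
    Algebra.Etale.iff_isStandardSmoothOfRelativeDimension_zero.mpr
      ⟨_, _, _, inferInstance, P.ofHasCoeffs S₁, hP⟩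
  refine ⟨S₁, P.ModelOfHasCoeffs S₁, inferInstance, inferInstance, hfg, het,
    (P.tensorModelOfHasCoeffsEquiv S₁).symm,
    Set.range (fun k : ι => (Ideal.Quotient.mk _ (MvPolynomial.X k) : P.ModelOfHasCoeffs S₁)), ?_, ?_⟩
  · -- generation
    rw [eq_top_iff]
    rintro x -
    obtain ⟨y, rfl⟩ := Ideal.Quotient.mk_surjective x
    induction y using MvPolynomial.induction_on with
    | C a =>
      exact Subalgebra.algebraMap_mem _ a
    | add p q hp hq =>
      rw [map_add]
      exact Subalgebra.add_mem _ hp hq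
    | mul_X p k hp =>
      rw [map_mul]
      exact Subalgebra.mul_mem _ hp (Algebra.subset_adjoin ⟨k, rfl⟩)
  · rintro _ ⟨k, rfl⟩ b hb
    have h1 : (P.tensorModelOfHasCoeffsEquiv S₁).symm.symm
        (1 ⊗ₜ[S₁] (Ideal.Quotient.mk _ (MvPolynomial.X k) : P.ModelOfHasCoeffs S₁)) = P.val k := by
      change (P.tensorModelOfHasCoeffsEquiv S₁) (1 ⊗ₜ[S₁] _) = _
      rw [Algebra.Presentation.tensorModelOfHasCoeffsEquiv_tmul]
      simp
    rw [h1] at hb
    apply Algebra.subset_adjoin
    refine Or.inr ?_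
    exact Finset.mem_coe.mpr (Finset.mem_biUnion.mpr ⟨k, Finset.mem_univ _, hb⟩)

set_option maxHeartbeats 2000000 in
/-- **Henselian lifting with prescribed values on the whole fibre (integral case).** -/
theorem exists_algHom_family_integral {R : Type u} [CommRing R] (A : Type u) [CommRing A]
    [HenselianLocalRing A] [IsSepClosed (ResidueField A)] [Algebra R A]
    (C : Type u) [CommRing C] [Algebra A C] [Algebra R C] [IsScalarTower R A C]
    (S : Type u) [CommRing S] [Algebra R S] [Algebra.IsIntegral R S] [Algebra S C]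
    [IsScalarTower R S C]
    (T : Type u) [CommRing T] [Algebra S T] [Algebra.Etale S T]
    (Ω : Type u) [Field Ω] [IsAlgClosed Ω] (e₀ : A →+* Ω)
    (he₀ : ∀ a, e₀ a = 0 ↔ a ∈ maximalIdeal A)
    (hcov : ∀ r : Ideal S, r.IsPrime →
      r.comap (algebraMap R S) = (maximalIdeal A).comap (algebraMap R A) →
      ∃ q : Ideal T, q.IsPrime ∧ q.comap (algebraMap S T) = r)
    {ι : Type*} (σ_ : ι → S →+* Ω) (tt : ι → T →+* Ω)
    (htt : ∀ i, (tt i).comp (algebraMap S T) = σ_ i)
    (hcont : ∀ x : T, ∃ B : Finset S, ∀ i j, (∀ b ∈ B, σ_ i b = σ_ j b) → tt i x = tt j x) :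
    ∃ τ : T →ₐ[S] C, ∀ (ε : C →+* Ω) (i : ι), ε.comp (algebraMap A C) = e₀ →
      ε.comp (algebraMap S C) = σ_ i → ε.comp τ.toRingHom = tt i := by
  classical
  choose Bx hBx using hcont
  obtain ⟨S₀, T₀, _, _, hfg, het, ε, G, hG, hGB⟩ := exists_model_with_finsets R S T Bx
  haveI : Algebra.FiniteType R S₀ := (Subalgebra.fg_iff_finiteType S₀).mp hfg
  haveI : Algebra.IsIntegral R S₀ :=
    Algebra.IsIntegral.of_injective S₀.val Subtype.val_injective
  haveI : Module.Finite R S₀ := Algebra.IsIntegral.finite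
  haveI : Algebra.IsIntegral S₀ S := Algebra.IsIntegral.tower_top (R := R)
  -- the map `T₀ → T`
  let κ : T₀ →ₐ[S₀] T :=
    (ε.symm.toAlgHom.restrictScalars S₀).comp Algebra.TensorProduct.includeRight
  have hκ : ∀ x : S₀, κ (algebraMap S₀ T₀ x) = algebraMap S T (algebraMap S₀ S x) := by
    intro x
    rw [κ.commutes]
    rfl
  have hκG : ∀ x : T₀, κ x = ε.symm (1 ⊗ₜ[S₀] x) := fun x => rfl
  have hS : ∀ (i : ι) (s : S), tt i (algebraMap S T s) = σ_ i s :=
    fun i s => RingHom.congr_fun (htt i) s
  -- independence of the chosen point over a given point of `S₀`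
  have hind : ∀ i j, (σ_ i).comp (algebraMap S₀ S) = (σ_ j).comp (algebraMap S₀ S) →
      (tt i).comp κ.toRingHom = (tt j).comp κ.toRingHom := by
    intro i j hij
    have hij' : ∀ s : S₀, σ_ i (s : S) = σ_ j (s : S) := fun s => RingHom.congr_fun hij s
    have key : ∀ x : T₀, tt i (κ x) = tt j (κ x) := by
      intro x
      have hx : x ∈ Algebra.adjoin S₀ G := hG ▸ Algebra.mem_top
      induction hx using Algebra.adjoin_induction with
      | mem x hx =>
        apply hBx
        intro b hb
        rw [hκG] at hb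
        exact hij' ⟨b, hGB x hx b hb⟩
      | algebraMap s =>
        rw [hκ, hS, hS]
        exact hij' s
      | add x y _ _ hx hy => rw [map_add, map_add, map_add, hx, hy]
      | mul x y _ _ hx hy => rw [map_mul, map_mul, map_mul, hx, hy]
    exact RingHom.ext key
  obtain ⟨τ₀, hτ₀⟩ := exists_algHom_pointed (R := R) A C S₀ T₀ Ω e₀ he₀
    (fun σ' t' => ∀ i, (σ_ i).comp (algebraMap S₀ S) = σ' → t' = (tt i).comp κ.toRingHom) (by
      intro σ' hσ'
      by_cases hc : ∃ i, (σ_ i).comp (algebraMap S₀ S) = σ'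
      · obtain ⟨i, hi⟩ := hc
        refine ⟨(tt i).comp κ.toRingHom, ?_, fun j hj => hind i j (hi.trans hj.symm)⟩
        rw [← hi]
        ext x
        change tt i (κ (algebraMap S₀ T₀ x)) = σ_ i (algebraMap S₀ S x)
        rw [hκ, hS]
      · -- any extension will do
        have hr₀ : (RingHom.ker σ').IsPrime := RingHom.ker_isPrime σ'
        have hr₀p : (RingHom.ker σ').comap (algebraMap R S₀) =
            (maximalIdeal A).comap (algebraMap R A) := by
          ext x
          rw [Ideal.mem_comap, RingHom.mem_ker, Ideal.mem_comap, ← he₀]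
          exact (RingHom.congr_fun hσ' x) ▸ Iff.rfl
        have hker : (⊥ : Ideal S).comap (algebraMap S₀ S) ≤ RingHom.ker σ' := by
          rw [← RingHom.ker_eq_comap_bot, (RingHom.injective_iff_ker_eq_bot _).mp
            (show Function.Injective (algebraMap S₀ S) from Subtype.val_injective)]
          exact bot_le
        obtain ⟨r, -, hr, hrr₀⟩ := Ideal.exists_ideal_over_prime_of_isIntegral
          (S := S) (RingHom.ker σ') ⊥ hker
        have hrp : r.comap (algebraMap R S) = (maximalIdeal A).comap (algebraMap R A) := by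
          rw [← hr₀p, ← hrr₀, Ideal.comap_comap]
          rfl
        obtain ⟨q, hq, hqr⟩ := hcov r hr hrp
        letI : Algebra S₀ Ω := σ'.toAlgebra
        haveI : (q.comap κ.toRingHom).IsPrime := Ideal.comap_isPrime _ _
        obtain ⟨t'⟩ := exists_algHom_of_isSepClosed (S := S₀) (T := T₀) (K := Ω)
          (q.comap κ.toRingHom) (by
            rw [Ideal.comap_comap]
            change _ = RingHom.ker σ'
            rw [← hrr₀, ← hqr, Ideal.comap_comap]
            congr 1
            ext x
            exact hκ x)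
        refine ⟨t'.toRingHom, ?_, fun i hi => absurd ⟨i, hi⟩ hc⟩
        ext x
        exact t'.commutes x)
  let τ : T →ₐ[S] C :=
    (Algebra.TensorProduct.lift (Algebra.ofId S C) τ₀ (fun _ _ => Commute.all _ _)).comp
      ε.toAlgHom
  refine ⟨τ, ?_⟩
  intro ε' i hε' hε'S
  have h1 := hτ₀ ε' hε' i (by
    ext x
    change σ_ i (algebraMap S₀ S x) = ε' (algebraMap S₀ C x)
    rw [← hε'S]
    rfl)
  -- two ring maps out of `T ≅ S ⊗[S₀] T₀` agreeing on `S` and on `T₀`
  suffices h : (ε'.comp τ.toRingHom).comp ε.symm.toAlgHom.toRingHom =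
      (tt i).comp ε.symm.toAlgHom.toRingHom by
    ext x
    have := RingHom.congr_fun h (ε x)
    simpa using this
  have h1' : ∀ t : T₀, ε' (τ₀ t) = tt i (κ t) := fun t => RingHom.congr_fun h1 t
  have hS' : ∀ s : S, ε' (algebraMap S C s) = σ_ i s := fun s => RingHom.congr_fun hε'S s
  refine RingHom.ext (fun x => ?_)
  induction x using TensorProduct.induction_on with
  | zero => simp
  | tmul s t =>
    have e1 : τ (ε.symm (s ⊗ₜ[S₀] t)) = algebraMap S C s * τ₀ t := by
      change (Algebra.TensorProduct.lift (Algebra.ofId S C) τ₀ (fun _ _ => Commute.all _ _))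
        (ε (ε.symm (s ⊗ₜ[S₀] t))) = _
      rw [AlgEquiv.apply_symm_apply, Algebra.TensorProduct.lift_tmul]
      rfl
    have e2 : ε.symm (s ⊗ₜ[S₀] t) = algebraMap S T s * κ t := by
      have : (s ⊗ₜ[S₀] t : S ⊗[S₀] T₀) = s • ((1 : S) ⊗ₜ[S₀] t) := by
        rw [TensorProduct.smul_tmul', smul_eq_mul, mul_one]
      rw [this, map_smul, Algebra.smul_def]
      rfl
    change ε' (τ (ε.symm (s ⊗ₜ[S₀] t))) = tt i (ε.symm (s ⊗ₜ[S₀] t))
    rw [e1, e2, map_mul, map_mul, hS', h1', hS]
  | add x y hx hy =>
    rw [map_add, map_add, hx, hy]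

end Groth.Agent.R2.H13.IntFam
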