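import Mathlib
import Groth.Agent.R2.H13FinPtGerm
import Groth.Agent.R2.H13IntFam

/-!
# Lifting into the germ ring with prescribed values on the whole fibre (helper13)

Namespace `Groth.Agent.R2.H13.IntFamGerm`.

* `exists_germ_lift_family_integral` : version of `IntPtGerm.exists_germ_lift_pointed_integral` in which
  the values at all geometric points of the fibre are prescribed (by a continuous family).
-/

set_option autoImplicit false
set_option linter.style.haveILetI false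
universe u

namespace Groth.Agent.R2.H13.IntFamGerm

open CategoryTheory CategoryTheory.Limits AlgebraicGeometry Opposite
open Groth.Agent.R2.H1.EtLocalRing Groth.Agent.R2.H13.FinGerm Groth.Agent.R2.H13.FinPtGerm
open Groth.Agent.R2.H13.IntFam

variable {X Y Y' : Scheme.{u}} (f : X ⟶ Y) (e : Y' ⟶ Y) [Etale e]
variable {Ω : Type u} [Field Ω] [IsSepClosed Ω] (η : Spec (CommRingCat.of Ω) ⟶ Y')

set_option backward.isDefEq.respectTransparency.types false in
set_option maxHeartbeats 1000000 in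
/-- **Key lemma with prescribed values on the fibre (ring form, integral case)**. -/
theorem exists_germ_lift_family_integral [IsAlgClosed Ω] (hφ : (φ f e).hom.IsIntegral)
    {T : CommRingCat.{u}} (ψ : S f e ⟶ T) (hψ : ψ.hom.Etale)
    (hcov : ∀ r : Ideal (S f e), r.IsPrime → r.comap (φ f e).hom = RingHom.ker (ptHom η).hom →
      ∃ q : Ideal T, q.IsPrime ∧ q.comap ψ.hom = r)
    (t : ∀ _ : {ζ : Spec (CommRingCat.of Ω) ⟶ X // ζ ≫ f = η ≫ e}, T ⟶ CommRingCat.of Ω)
    (ht : ∀ ζ, ψ ≫ t ζ = σpt f e η ζ.1 ζ.2)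
    (hcont : ∀ x : T, ∃ B : Finset (S f e), ∀ ζ₁ ζ₂,
      (∀ b ∈ B, (σpt f e η ζ₁.1 ζ₁.2).hom b = (σpt f e η ζ₂.1 ζ₂.2).hom b) →
      (t ζ₁).hom x = (t ζ₂).hom x) :
    ∃ (U : Y'.Etale) (u : (Φ η).fiber.obj U) (g' : T ⟶ (P f e).obj (op U)),
      ψ ≫ g' = σ f e U ∧
      ∀ ζ : {ζ : Spec (CommRingCat.of Ω) ⟶ X // ζ ≫ f = η ≫ e},
        g' ≫ evAt ζ.1 ((G f e).obj U) (ptG f e η ζ.1 ζ.2 U u) = t ζ := by
  letI : Algebra Γ(Y', ⊤) (S f e) := (φ f e).hom.toAlgebra
  letI : Algebra Γ(Y', ⊤) (EtBase.etaleLocalRing η) := (r2a η).hom.toAlgebra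
  letI : Algebra (EtBase.etaleLocalRing η) (germ f e η) := (a2c f e η).hom.toAlgebra
  letI : Algebra (S f e) (germ f e η) := (s2c f e η).hom.toAlgebra
  letI : Algebra Γ(Y', ⊤) (germ f e η) := (φ f e ≫ s2c f e η).hom.toAlgebra
  haveI : IsScalarTower Γ(Y', ⊤) (S f e) (germ f e η) :=
    IsScalarTower.of_algebraMap_eq (fun _ => rfl)
  haveI : IsScalarTower Γ(Y', ⊤) (EtBase.etaleLocalRing η) (germ f e η) :=
    IsScalarTower.of_algebraMap_eq (fun x => by
      change (φ f e ≫ s2c f e η).hom x = (r2a η ≫ a2c f e η).hom x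
      rw [r2a_a2c])
  letI : Algebra (S f e) T := ψ.hom.toAlgebra
  haveI : Algebra.Etale (S f e) T := hψ
  haveI : Algebra.IsIntegral Γ(Y', ⊤) (S f e) := ⟨hφ⟩
  haveI : IsSepClosed (IsLocalRing.ResidueField (EtBase.etaleLocalRing η)) :=
    isSepClosed_residueField
  obtain ⟨τ, hτ⟩ := exists_algHom_family_integral (R := Γ(Y', ⊤)) (EtBase.etaleLocalRing η)
    (germ f e η) (S f e) T Ω (ev η).hom (fun a => (mem_maximalIdeal_iff a).symm)
    (by
      intro r hr hrp
      refine hcov r hr (hrp.trans ?_)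
      exact comap_maximalIdeal_r2a η)
    (ι := {ζ : Spec (CommRingCat.of Ω) ⟶ X // ζ ≫ f = η ≫ e})
    (fun ζ => (σpt f e η ζ.1 ζ.2).hom) (fun ζ => (t ζ).hom)
    (by
      intro ζ
      ext x
      exact congrArg (fun m : S f e ⟶ CommRingCat.of Ω => m.hom x) (ht ζ))
    hcont
  let g : T ⟶ germ f e η := CommRingCat.ofHom τ.toRingHom
  have hg : ψ ≫ g = s2c f e η := by
    ext s
    exact τ.commutes s
  have hfp : ψ.hom.FinitePresentation := hψ.finitePresentation
  obtain ⟨i, g', h1, h2⟩ := RingHom.EssFiniteType.exists_eq_comp_ι_app_of_isColimit (S f e)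
    (F f e η) (α f e η) ψ ((Φ η).presheafFiberCocone (P f e))
    ((Φ η).isColimitPresheafFiberCocone (P f e)) hfp g (by
      intro i
      exact hg.trans (σ_toPresheafFiber f e η i.unop.1 i.unop.2).symm)
  refine ⟨i.unop.1, i.unop.2, g', h1, ?_⟩
  intro ζ
  have h3 := hτ (εpt f e η ζ.1 ζ.2).hom ζ (by
    ext a
    exact congrArg (fun m : EtBase.etaleLocalRing η ⟶ CommRingCat.of Ω => m.hom a)
      (a2c_εpt f e η ζ.1 ζ.2)) (by
    ext s
    exact congrArg (fun m : S f e ⟶ CommRingCat.of Ω => m.hom s) (s2c_εpt f e η ζ.1 ζ.2))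
  have e2 : CommRingCat.ofHom ((εpt f e η ζ.1 ζ.2).hom.comp τ.toRingHom) =
      g' ≫ evAt ζ.1 ((G f e).obj i.unop.1) (ptG f e η ζ.1 ζ.2 i.unop.1 i.unop.2) := by
    change g ≫ εpt f e η ζ.1 ζ.2 = _
    exact (congrArg (· ≫ εpt f e η ζ.1 ζ.2) h2).trans ((Category.assoc _ _ _).trans
      (congrArg (g' ≫ ·) (toFiber_εpt f e η ζ.1 ζ.2 i.unop.1 i.unop.2)))
  exact e2.symm.trans (congrArg CommRingCat.ofHom h3)

end Groth.Agent.R2.H13.IntFamGerm
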