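import Mathlib
import Groth.Agent.R2.H13FinPtGerm
import Groth.Agent.R2.H13IntPt

/-!
# Pointed lifting into the germ ring, integral case (helper13)

Namespace `Groth.Agent.R2.H13.IntPtGerm`.

* `exists_germ_lift_pointed_integral` : single-pointed version of `FinGerm.exists_germ_lift` (for `φ`
  integral, `Ω` algebraically closed).
-/

set_option autoImplicit false
set_option linter.style.haveILetI false
universe u

namespace Groth.Agent.R2.H13.IntPtGerm

open CategoryTheory CategoryTheory.Limits AlgebraicGeometry Opposite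
open Groth.Agent.R2.H1.EtLocalRing Groth.Agent.R2.H13.FinGerm Groth.Agent.R2.H13.FinPtGerm
open Groth.Agent.R2.H13.IntPt

variable {X Y Y' : Scheme.{u}} (f : X ⟶ Y) (e : Y' ⟶ Y) [Etale e]
variable {Ω : Type u} [Field Ω] [IsSepClosed Ω] (η : Spec (CommRingCat.of Ω) ⟶ Y')

set_option backward.isDefEq.respectTransparency.types false in
set_option maxHeartbeats 1000000 in
/-- **Pointed key lemma (ring form, integral case)**. -/
theorem exists_germ_lift_pointed_integral [IsAlgClosed Ω] (hφ : (φ f e).hom.IsIntegral)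
    {T : CommRingCat.{u}} (ψ : S f e ⟶ T) (hψ : ψ.hom.Etale)
    (hcov : ∀ r : Ideal (S f e), r.IsPrime → r.comap (φ f e).hom = RingHom.ker (ptHom η).hom →
      ∃ q : Ideal T, q.IsPrime ∧ q.comap ψ.hom = r)
    (ζ₀ : Spec (CommRingCat.of Ω) ⟶ X) (hζ₀ : ζ₀ ≫ f = η ≫ e)
    (t₀ : T ⟶ CommRingCat.of Ω) (ht₀ : ψ ≫ t₀ = σpt f e η ζ₀ hζ₀) :
    ∃ (U : Y'.Etale) (u : (Φ η).fiber.obj U) (g' : T ⟶ (P f e).obj (op U)),
      ψ ≫ g' = σ f e U ∧
      g' ≫ evAt ζ₀ ((G f e).obj U) (ptG f e η ζ₀ hζ₀ U u) = t₀ := by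
  letI : Algebra Γ(Y', ⊤) (S f e) := (φ f e).hom.toAlgebra
  letI : Algebra Γ(Y', ⊤) (EtBase.etaleLocalRing η) := (r2a η).hom.toAlgebra
  letI : Algebra (EtBase.etaleLocalRing η) (germ f e η) := (a2c f e η).hom.toAlgebra
  letI : Algebra (S f e) (germ f e η) := (s2c f e η).hom.toAlgebra
  letI : Algebra Γ(Y', ⊤) (germ f e η) := (φ f e ≫ s2c f e η).hom.toAlgebra
  haveI : IsScalarTower Γ(Y', ⊤) (S f e) (germ f e η) :=
    IsScalarTower.of_algebraMap_eq (fun _ => rfl)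
  haveI : IsScalarTower Γ(Y', ⊤) (EtBase.etaleLocalRing η) (germ f e η) :=
    IsScalarTower.of_algebraMap_eq (fun x => by
      change (φ f e ≫ s2c f e η).hom x = (r2a η ≫ a2c f e η).hom x
      rw [r2a_a2c])
  letI : Algebra (S f e) T := ψ.hom.toAlgebra
  haveI : Algebra.Etale (S f e) T := hψ
  haveI : Algebra.IsIntegral Γ(Y', ⊤) (S f e) := ⟨hφ⟩
  haveI : IsSepClosed (IsLocalRing.ResidueField (EtBase.etaleLocalRing η)) :=
    isSepClosed_residueField
  obtain ⟨τ, hτ⟩ := exists_algHom_pointed_integral (R := Γ(Y', ⊤)) (EtBase.etaleLocalRing η)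
    (germ f e η) (S f e) T Ω (ev η).hom (fun a => (mem_maximalIdeal_iff a).symm)
    (by
      intro r hr hrp
      refine hcov r hr (hrp.trans ?_)
      exact comap_maximalIdeal_r2a η)
    (σpt f e η ζ₀ hζ₀).hom t₀.hom (by
      ext x
      exact congrArg (fun m : S f e ⟶ CommRingCat.of Ω => m.hom x) ht₀)
  let g : T ⟶ germ f e η := CommRingCat.ofHom τ.toRingHom
  have hg : ψ ≫ g = s2c f e η := by
    ext s
    exact τ.commutes s
  have hfp : ψ.hom.FinitePresentation := hψ.finitePresentation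
  obtain ⟨i, g', h1, h2⟩ := RingHom.EssFiniteType.exists_eq_comp_ι_app_of_isColimit (S f e)
    (F f e η) (α f e η) ψ ((Φ η).presheafFiberCocone (P f e))
    ((Φ η).isColimitPresheafFiberCocone (P f e)) hfp g (by
      intro i
      exact hg.trans (σ_toPresheafFiber f e η i.unop.1 i.unop.2).symm)
  refine ⟨i.unop.1, i.unop.2, g', h1, ?_⟩
  have h3 := hτ (εpt f e η ζ₀ hζ₀).hom (by
    ext a
    exact congrArg (fun m : EtBase.etaleLocalRing η ⟶ CommRingCat.of Ω => m.hom a)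
      (a2c_εpt f e η ζ₀ hζ₀)) (by
    ext s
    exact congrArg (fun m : S f e ⟶ CommRingCat.of Ω => m.hom s) (s2c_εpt f e η ζ₀ hζ₀))
  have e2 : CommRingCat.ofHom ((εpt f e η ζ₀ hζ₀).hom.comp τ.toRingHom) =
      g' ≫ evAt ζ₀ ((G f e).obj i.unop.1) (ptG f e η ζ₀ hζ₀ i.unop.1 i.unop.2) := by
    change g ≫ εpt f e η ζ₀ hζ₀ = _
    exact (congrArg (· ≫ εpt f e η ζ₀ hζ₀) h2).trans ((Category.assoc _ _ _).trans
      (congrArg (g' ≫ ·) (toFiber_εpt f e η ζ₀ hζ₀ i.unop.1 i.unop.2)))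
  exact e2.symm.trans (congrArg CommRingCat.ofHom h3)

end Groth.Agent.R2.H13.IntPtGerm
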