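import Mathlib
import Groth.Agent.R2.H13IntPtGerm
import Groth.Agent.R2.H13FinSplit
import Groth.Agent.R2.H13FinPtSplit

/-!
# Pointed étale-local sections over an integral morphism (helper13)

Namespace `Groth.Agent.R2.H13.IntSplit`.

* `exists_lift_pointed_of_integral` : pointed version of `FinSplit.exists_lift_of_integral`.
-/

set_option autoImplicit false
set_option linter.style.haveILetI false
universe u

namespace Groth.Agent.R2.H13.IntSplit

open CategoryTheory CategoryTheory.Limits AlgebraicGeometry Opposite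
open Groth.Agent.R2.H1.EtLocalRing Groth.Agent.R2.H13.FinGerm Groth.Agent.R2.H13.FinPtGerm
open Groth.Agent.R2.H13.FinSplit Groth.Agent.R2.H13.FinPtSplit Groth.Agent.R2.H13.IntPtGerm

variable {X Y Y' : Scheme.{u}} (f : X ⟶ Y) (e : Y' ⟶ Y) [Etale e]
variable {Ω : Type u} [Field Ω] [IsAlgClosed Ω] (η : Spec (CommRingCat.of Ω) ⟶ Y')
  (ζ₀ : Spec (CommRingCat.of Ω) ⟶ X) (hζ₀ : ζ₀ ≫ f = η ≫ e)

/-- the point `(η, ζ₀)` of `X ×_Y Y'` -/
noncomputable abbrev zpt' : Spec (CommRingCat.of Ω) ⟶ X' f e :=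
  (ptG f e η ζ₀ hζ₀ (EtCoh.top Y') (topPt η)).left

set_option backward.isDefEq.respectTransparency.types false in
set_option maxHeartbeats 1000000 in
/-- **Pointed key lemma (scheme form, affine base, integral case)**. -/
theorem exists_lift_pointed_of_integral [IsIntegralHom f] [IsAffine Y'] {V : Scheme.{u}}
    [IsAffine V] (p : V ⟶ X' f e) [Etale p]
    (hcov : ∀ x' : X' f e, f' f e x' = η default → x' ∈ Set.range p)
    (v₀ : Spec (CommRingCat.of Ω) ⟶ V) (hv₀ : v₀ ≫ p = zpt' f e η ζ₀ hζ₀) :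
    ∃ (U : Y'.Etale) (u : (Φ η).fiber.obj U) (h : ((G f e).obj U).left ⟶ V),
      h ≫ p = ((G f e).map (toTop U)).left ∧ (ptG f e η ζ₀ hζ₀ U u).left ≫ h = v₀ := by
  have hψ : p.appTop.hom.Etale := (HasRingHomProperty.iff_of_isAffine (P := @Etale)).mp inferInstance
  obtain ⟨U, u, g', hg', hpt⟩ := exists_germ_lift_pointed_integral f e η (integral_φ f e) p.appTop hψ
    (by
      intro r hr hrp
      let x' : X' f e := (X' f e).isoSpec.inv ⟨r, hr⟩
      have hx' : (X' f e).toSpecΓ x' = ⟨r, hr⟩ := by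
        change ((X' f e).isoSpec.inv ≫ (X' f e).toSpecΓ) ⟨r, hr⟩ = _
        rw [Scheme.isoSpec_inv_toSpecΓ]
        rfl
      have hfx : f' f e x' = η default := by
        have hinj : Function.Injective Y'.toSpecΓ := by
          have : IsIso Y'.toSpecΓ := inferInstance
          exact (ConcreteCategory.bijective_of_isIso Y'.toSpecΓ.base).1
        apply hinj
        apply PrimeSpectrum.ext
        rw [toSpecΓ_pt]
        have h1 : Y'.toSpecΓ (f' f e x') = Spec.map (φ f e) ((X' f e).toSpecΓ x') := by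
          change (f' f e ≫ Y'.toSpecΓ) x' = _
          rw [Scheme.toSpecΓ_naturality]
          rfl
        rw [h1, hx', asIdeal_SpecMap]
        exact hrp
      obtain ⟨v, hv⟩ := hcov x' hfx
      refine ⟨(V.toSpecΓ v).asIdeal, (V.toSpecΓ v).2, ?_⟩
      have h2 : Spec.map p.appTop (V.toSpecΓ v) = (X' f e).toSpecΓ (p v) := by
        change _ = (p ≫ (X' f e).toSpecΓ) v
        rw [Scheme.toSpecΓ_naturality]
        rfl
      have h3 : (X' f e).toSpecΓ (p v) = ⟨r, hr⟩ := (congrArg (X' f e).toSpecΓ hv).trans hx'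
      exact congrArg PrimeSpectrum.asIdeal (h2.trans h3))
    ζ₀ hζ₀ (evΓ v₀) (by
      have h1 : σpt f e η ζ₀ hζ₀ = evΓ (zpt' f e η ζ₀ hζ₀) := rfl
      rw [h1, ← hv₀]
      exact (evΓ_comp v₀ p).symm)
  let W := ((G f e).obj U).left
  let t : W ⟶ X' f e := ((G f e).map (toTop U)).left
  have hσ : σ f e U = t.appTop := rfl
  let h : W ⟶ V := W.toSpecΓ ≫ Spec.map g' ≫ V.isoSpec.inv
  have hh : h ≫ p = t := by
    have hmono : Mono (X' f e).toSpecΓ := inferInstance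
    rw [← cancel_mono (X' f e).toSpecΓ]
    have e1 : V.isoSpec.inv ≫ p ≫ (X' f e).toSpecΓ = Spec.map p.appTop := by
      rw [Scheme.toSpecΓ_naturality, ← Category.assoc, Scheme.isoSpec_inv_toSpecΓ,
        Category.id_comp]
    calc (W.toSpecΓ ≫ Spec.map g' ≫ V.isoSpec.inv) ≫ p ≫ (X' f e).toSpecΓ
        = W.toSpecΓ ≫ Spec.map g' ≫ (V.isoSpec.inv ≫ p ≫ (X' f e).toSpecΓ) := by
          simp only [Category.assoc]
      _ = W.toSpecΓ ≫ Spec.map (p.appTop ≫ g') := by rw [e1, Spec.map_comp]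
      _ = W.toSpecΓ ≫ Spec.map t.appTop :=
          congrArg (fun z => W.toSpecΓ ≫ Spec.map z) (hg'.trans hσ)
      _ = t ≫ (X' f e).toSpecΓ := (Scheme.toSpecΓ_naturality t).symm
  have happ : h.appTop = g' := appTop_toSpecΓ_map_isoSpec_inv g'
  refine ⟨U, u, h, hh, ?_⟩
  apply evΓ_injective
  rw [evΓ_comp, happ]
  exact hpt

lemma etale_coprodDesc {A B Z : Scheme.{u}} (g₁ : A ⟶ Z) (g₂ : B ⟶ Z) [Etale g₁] [Etale g₂] :
    Etale (coprod.desc g₁ g₂) := by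
  rw [IsZariskiLocalAtSource.iff_of_openCover (P := @Etale) (coprodOpenCover.{_, 0} A B)]
  rintro (⟨⟩ | ⟨⟩)
  · change Etale (coprod.inl ≫ coprod.desc g₁ g₂)
    rw [coprod.inl_desc]
    infer_instance
  · change Etale (coprod.inr ≫ coprod.desc g₁ g₂)
    rw [coprod.inr_desc]
    infer_instance

set_option backward.isDefEq.respectTransparency.types false in
set_option maxHeartbeats 2000000 in
/-- **Pointed clopen sections (affine base)**: `f` integral, `N ⟶ X ×_Y Y'` étale with a geometric point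
`n₀` over the point `(η, ζ₀)`.  Then over some étale neighbourhood `(U, u)` of `η` there is an open and
closed subscheme `W` of `X ×_Y U` containing `(u, ζ₀)` and a section `W ⟶ N` sending `(u, ζ₀)` to
`n₀`. -/
theorem exists_clopen_section [IsIntegralHom f] [IsAffine Y']
    (N : X.Etale) (a : N ⟶ (G f e).obj (EtCoh.top Y')) (n₀ : (Φ ζ₀).fiber.obj N)
    (hn₀ : (Φ ζ₀).fiber.map a n₀ = ptG f e η ζ₀ hζ₀ (EtCoh.top Y') (topPt η)) :
    ∃ (U : Y'.Etale) (u : (Φ η).fiber.obj U) (W : X.Etale) (i : W ⟶ (G f e).obj U) (h : W ⟶ N)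
      (w₀ : (Φ ζ₀).fiber.obj W),
      IsOpenImmersion i.left ∧ IsClosed (Set.range i.left) ∧
      h ≫ a = i ≫ (G f e).map (toTop U) ∧
      (Φ ζ₀).fiber.map i w₀ = ptG f e η ζ₀ hζ₀ U u ∧ (Φ ζ₀).fiber.map h w₀ = n₀ := by
  classical
  obtain ⟨nl, hnl⟩ : ∃ nl : Spec (CommRingCat.of Ω) ⟶ N.left, nl = n₀.left := ⟨_, rfl⟩
  obtain ⟨al, hal⟩ : ∃ al : N.left ⟶ X' f e, al = a.left := ⟨_, rfl⟩
  haveI : Etale al := hal ▸ (inferInstance : Etale a.left)
  have hnla : nl ≫ al = zpt' f e η ζ₀ hζ₀ := by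
    rw [hnl, hal]
    exact congrArg (fun m => m.left) hn₀
  have hNhom : N.hom = al ≫ ((G f e).obj (EtCoh.top Y')).hom := by
    rw [hal]
    exact (Over.w a.hom).symm
  -- an affine neighbourhood of the point
  obtain ⟨O, hO, hnO, -⟩ := exists_isAffineOpen_mem_and_subset
    (x := nl.base (default : Spec (CommRingCat.of Ω))) (U := (⊤ : N.left.Opens)) trivial
  let OS : Scheme.{u} := O
  haveI : IsAffine OS := hO
  let pO : OS ⟶ X' f e := O.ι ≫ al
  haveI : Etale pO := inferInstance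
  have hsubo : Set.range nl ⊆ Set.range O.ι := by
    rintro _ ⟨x, rfl⟩
    rw [Scheme.Opens.range_ι, Subsingleton.elim x (default : Spec (CommRingCat.of Ω))]
    exact hnO
  let o : Spec (CommRingCat.of Ω) ⟶ OS := IsOpenImmersion.lift O.ι nl hsubo
  have ho : o ≫ O.ι = nl := IsOpenImmersion.lift_fac _ _ _
  have hop : o ≫ pO = zpt' f e η ζ₀ hζ₀ :=
    (Category.assoc _ _ _).symm.trans ((congrArg (· ≫ al) ho).trans hnla)
  -- the affine étale `X'`-scheme `V = O ⨿ X'`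
  let V : Scheme.{u} := OS ⨿ X' f e
  haveI : IsAffine V := inferInstance
  let p : V ⟶ X' f e := coprod.desc pO (𝟙 _)
  haveI : Etale p := etale_coprodDesc pO (𝟙 _)
  have hpl : (coprod.inl : OS ⟶ V) ≫ p = pO := coprod.inl_desc _ _
  have hpr : (coprod.inr : X' f e ⟶ V) ≫ p = 𝟙 _ := coprod.inr_desc _ _
  have hcov : ∀ x' : X' f e, f' f e x' = η default → x' ∈ Set.range p := by
    intro x' _
    refine ⟨(coprod.inr : X' f e ⟶ V) x', ?_⟩
    rw [← Scheme.Hom.comp_apply, hpr]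
    rfl
  let v₀ : Spec (CommRingCat.of Ω) ⟶ V := o ≫ coprod.inl
  have hv₀ : v₀ ≫ p = zpt' f e η ζ₀ hζ₀ :=
    (Category.assoc _ _ _).trans ((congrArg (o ≫ ·) hpl).trans hop)
  obtain ⟨U, u, h, hh, hpt⟩ := exists_lift_pointed_of_integral f e η ζ₀ hζ₀ p hcov v₀ hv₀
  let Wsch : Scheme.{u} := ((G f e).obj U).left
  obtain ⟨t, ht⟩ : ∃ t : Wsch ⟶ X' f e, t = ((G f e).map (toTop U)).left := ⟨_, rfl⟩
  have hh' : h ≫ p = t := hh.trans ht.symm
  have hGU : ((G f e).obj U).hom = t ≫ ((G f e).obj (EtCoh.top Y')).hom := by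
    rw [ht]
    exact (Over.w ((G f e).map (toTop U)).hom).symm
  let Wop : Wsch.Opens := h ⁻¹ᵁ (coprod.inl : OS ⟶ V).opensRange
  have hWclosed : IsClosed (Wop : Set Wsch) := by
    have hc := isCompl_opensRange_inl_inr OS (X' f e)
    have hcompl : (Wop : Set Wsch)ᶜ =
        ((h ⁻¹ᵁ (coprod.inr : X' f e ⟶ V).opensRange : Wsch.Opens) : Set Wsch) := by
      ext z
      constructor
      · intro hz
        have : h z ∈ ((coprod.inl : OS ⟶ V).opensRange ⊔ (coprod.inr : X' f e ⟶ V).opensRange :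
            V.Opens) := by rw [hc.sup_eq_top]; trivial
        rcases this with h1 | h1
        · exact absurd h1 hz
        · exact h1
      · intro hz hz'
        have : h z ∈ ((coprod.inl : OS ⟶ V).opensRange ⊓ (coprod.inr : X' f e ⟶ V).opensRange :
            V.Opens) := ⟨hz', hz⟩
        rw [hc.inf_eq_bot] at this
        exact this
    rw [← isOpen_compl_iff, hcompl]
    exact (h ⁻¹ᵁ (coprod.inr : X' f e ⟶ V).opensRange).2
  let W : X.Etale := Scheme.Etale.mk (Wop.ι ≫ ((G f e).obj U).hom)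
  let i : W ⟶ (G f e).obj U := MorphismProperty.Over.homMk Wop.ι rfl trivial
  have hsubl : Set.range (Wop.ι ≫ h) ⊆ Set.range (coprod.inl : OS ⟶ V) := by
    rintro _ ⟨z, rfl⟩
    exact z.2
  let l : (Wop : Scheme.{u}) ⟶ OS := IsOpenImmersion.lift coprod.inl (Wop.ι ≫ h) hsubl
  have hl : l ≫ coprod.inl = Wop.ι ≫ h := IsOpenImmersion.lift_fac _ _ _
  have hkey0 : (l ≫ O.ι) ≫ al = Wop.ι ≫ t :=
    calc (l ≫ O.ι) ≫ al = l ≫ pO := Category.assoc _ _ _
      _ = l ≫ (coprod.inl ≫ p) := congrArg (l ≫ ·) hpl.symm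
      _ = (l ≫ coprod.inl) ≫ p := (Category.assoc _ _ _).symm
      _ = (Wop.ι ≫ h) ≫ p := congrArg (· ≫ p) hl
      _ = Wop.ι ≫ (h ≫ p) := Category.assoc _ _ _
      _ = Wop.ι ≫ t := congrArg (Wop.ι ≫ ·) hh'
  have hkey : (l ≫ O.ι) ≫ N.hom = Wop.ι ≫ ((G f e).obj U).hom :=
    calc (l ≫ O.ι) ≫ N.hom = (l ≫ O.ι) ≫ (al ≫ ((G f e).obj (EtCoh.top Y')).hom) :=
          congrArg ((l ≫ O.ι) ≫ ·) hNhom
      _ = ((l ≫ O.ι) ≫ al) ≫ ((G f e).obj (EtCoh.top Y')).hom := (Category.assoc _ _ _).symm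
      _ = (Wop.ι ≫ t) ≫ ((G f e).obj (EtCoh.top Y')).hom :=
          congrArg (· ≫ ((G f e).obj (EtCoh.top Y')).hom) hkey0
      _ = Wop.ι ≫ (t ≫ ((G f e).obj (EtCoh.top Y')).hom) := Category.assoc _ _ _
      _ = Wop.ι ≫ ((G f e).obj U).hom := congrArg (Wop.ι ≫ ·) hGU.symm
  let hm : W ⟶ N := MorphismProperty.Over.homMk (l ≫ O.ι) hkey trivial
  -- the point
  obtain ⟨pg, hpg⟩ : ∃ pg : Spec (CommRingCat.of Ω) ⟶ Wsch,
      pg = (ptG f e η ζ₀ hζ₀ U u).left := ⟨_, rfl⟩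
  have hpgh : pg ≫ h = v₀ := hpg ▸ hpt
  have hpgw : pg ≫ ((G f e).obj U).hom = ζ₀ := hpg ▸ ptG_left_snd f e η ζ₀ hζ₀ U u
  have hsubp : Set.range pg ⊆ Set.range Wop.ι := by
    rintro _ ⟨x, rfl⟩
    rw [Scheme.Opens.range_ι]
    change (pg ≫ h).base x ∈ Set.range (coprod.inl : OS ⟶ V)
    rw [hpgh]
    exact ⟨o.base x, rfl⟩
  let pl : Spec (CommRingCat.of Ω) ⟶ (Wop : Scheme.{u}) := IsOpenImmersion.lift Wop.ι pg hsubp
  have hplι : pl ≫ Wop.ι = pg := IsOpenImmersion.lift_fac _ _ _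
  have hplw : pl ≫ Wop.ι ≫ ((G f e).obj U).hom = ζ₀ :=
    (Category.assoc _ _ _).symm.trans ((congrArg (· ≫ ((G f e).obj U).hom) hplι).trans hpgw)
  let w₀ : (Φ ζ₀).fiber.obj W := Over.homMk pl hplw
  refine ⟨U, u, W, i, hm, w₀, inferInstanceAs (IsOpenImmersion Wop.ι), ?_, ?_, ?_, ?_⟩
  · have : Set.range i.left = (Wop : Set Wsch) := Scheme.Opens.range_ι _
    rw [this]
    exact hWclosed
  · apply MorphismProperty.Over.Hom.ext
    change (l ≫ O.ι) ≫ a.left = Wop.ι ≫ ((G f e).map (toTop U)).left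
    rw [← hal, ← ht]
    exact hkey0
  · apply Over.OverMorphism.ext
    exact hplι.trans hpg
  · apply Over.OverMorphism.ext
    have h1 : pl ≫ l = o := by
      refine (cancel_mono (coprod.inl : OS ⟶ V)).mp ?_
      exact (Category.assoc _ _ _).trans ((congrArg (pl ≫ ·) hl).trans
        ((Category.assoc _ _ _).symm.trans ((congrArg (· ≫ h) hplι).trans hpgh)))
    have h2 : pl ≫ (l ≫ O.ι) = nl :=
      (Category.assoc _ _ _).symm.trans ((congrArg (· ≫ O.ι) h1).trans ho)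
    exact h2.trans hnl

section General

variable {X Y : Scheme.{u}} (f : X ⟶ Y) [IsIntegralHom f] {Ω : Type u} [Field Ω] [IsAlgClosed Ω]
  (η₀ : Spec (CommRingCat.of Ω) ⟶ Y) (ζ₀ : Spec (CommRingCat.of Ω) ⟶ X) (hζ₀ : ζ₀ ≫ f = η₀)

set_option backward.isDefEq.respectTransparency.types false in
set_option maxHeartbeats 2000000 in
/-- **Pointed clopen sections**: `f : X ⟶ Y` integral, `(V₀, v₀)` an étale neighbourhood of the geometric
point `η₀` of `Y`, `a : N ⟶ X ×_Y V₀` étale and `n₀` a geometric point of `N` over `(v₀, ζ₀)`.  Then over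
some finer étale neighbourhood `(V, v)` there is an open and closed subscheme `W ∋ (v, ζ₀)` of
`X ×_Y V` and a morphism `W ⟶ N` over `X ×_Y V₀` sending `(v, ζ₀)` to `n₀`. -/
theorem exists_clopen_section' (V₀ : Y.Etale) (v₀ : (Φ η₀).fiber.obj V₀)
    (N : X.Etale) (a : N ⟶ (EtCoh.bc f).obj V₀) (n₀ : (Φ ζ₀).fiber.obj N)
    (hn₀ : (Φ ζ₀).fiber.map a n₀ = ptB f η₀ ζ₀ hζ₀ V₀ v₀) :
    ∃ (V : Y.Etale) (r : V ⟶ V₀) (v : (Φ η₀).fiber.obj V) (W : X.Etale)
      (i : W ⟶ (EtCoh.bc f).obj V) (h : W ⟶ N) (w₀ : (Φ ζ₀).fiber.obj W),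
      (Φ η₀).fiber.map r v = v₀ ∧ IsOpenImmersion i.left ∧ IsClosed (Set.range i.left) ∧
      h ≫ a = i ≫ (EtCoh.bc f).map r ∧
      (Φ ζ₀).fiber.map i w₀ = ptB f η₀ ζ₀ hζ₀ V v ∧ (Φ ζ₀).fiber.map h w₀ = n₀ := by
  obtain ⟨vl, hvl⟩ : ∃ vl : Spec (CommRingCat.of Ω) ⟶ V₀.left, vl = v₀.left := ⟨_, rfl⟩
  have hvw : vl ≫ V₀.hom = η₀ := hvl ▸ fiber_w η₀ V₀ v₀
  obtain ⟨O, hO, hvO, -⟩ := exists_isAffineOpen_mem_and_subset
    (x := vl.base (default : Spec (CommRingCat.of Ω))) (U := (⊤ : V₀.left.Opens)) trivial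
  let Y' : Scheme.{u} := O
  haveI : IsAffine Y' := hO
  let e : Y' ⟶ Y := O.ι ≫ V₀.hom
  haveI : Etale e := inferInstance
  have hsub : Set.range vl ⊆ Set.range O.ι := by
    rintro _ ⟨x, rfl⟩
    rw [Scheme.Opens.range_ι, Subsingleton.elim x (default : Spec (CommRingCat.of Ω))]
    exact hvO
  let η : Spec (CommRingCat.of Ω) ⟶ Y' := IsOpenImmersion.lift O.ι vl hsub
  have hη : η ≫ O.ι = vl := IsOpenImmersion.lift_fac _ _ _
  have hηe : η ≫ e = η₀ := (Category.assoc _ _ _).symm.trans ((congrArg (· ≫ V₀.hom) hη).trans hvw)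
  have hζe : ζ₀ ≫ f = η ≫ e := hζ₀.trans hηe.symm
  let T₀ : Y.Etale := (EtShriek.compEtale e).obj (EtCoh.top Y')
  let j : T₀ ⟶ V₀ := MorphismProperty.Over.homMk O.ι (Category.id_comp _).symm trivial
  -- the open immersion `X ×_Y Y' ⟶ X ×_Y V₀`
  obtain ⟨bj, hbj⟩ : ∃ bj : X' f e ⟶ ((EtCoh.bc f).obj V₀).left,
      bj = ((EtCoh.bc f).map j).left := ⟨_, rfl⟩
  have hbj1 : bj ≫ pullback.fst V₀.hom f = f' f e ≫ O.ι := hbj ▸ bc_map_left_fst f j
  have hbj2 : bj ≫ pullback.snd V₀.hom f = pullback.snd (𝟙 Y' ≫ e) f :=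
    hbj ▸ bc_map_left_snd f j
  haveI : IsOpenImmersion bj := by
    rw [hbj]
    have sq := EtCoh.isPullback_bc_map f j
    exact MorphismProperty.of_isPullback (P := @IsOpenImmersion) sq.flip
      (inferInstanceAs (IsOpenImmersion O.ι))
  obtain ⟨al, hal⟩ : ∃ al : N.left ⟶ ((EtCoh.bc f).obj V₀).left, al = a.left := ⟨_, rfl⟩
  obtain ⟨nl, hnl⟩ : ∃ nl : Spec (CommRingCat.of Ω) ⟶ N.left, nl = n₀.left := ⟨_, rfl⟩
  have hnlw : nl ≫ N.hom = ζ₀ := hnl ▸ Over.w n₀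
  have hNhom : N.hom = al ≫ pullback.snd V₀.hom f := by
    rw [hal]
    exact (Over.w a.hom).symm
  have hnla1 : nl ≫ al ≫ pullback.fst V₀.hom f = vl := by
    have h1 : nl ≫ al = (ptB f η₀ ζ₀ hζ₀ V₀ v₀).left := by
      rw [hnl, hal]
      exact congrArg (fun m => m.left) hn₀
    rw [← Category.assoc, h1, hvl]
    exact ptB_left_fst f η₀ ζ₀ hζ₀ V₀ v₀
  -- the part of `N` over `X ×_Y Y'`
  let Nop : N.left.Opens := al ⁻¹ᵁ bj.opensRange
  let N' : X.Etale := Scheme.Etale.mk (Nop.ι ≫ N.hom)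
  let incl : N' ⟶ N := MorphismProperty.Over.homMk Nop.ι rfl trivial
  have hsubN : Set.range (Nop.ι ≫ al) ⊆ Set.range bj := by
    rintro _ ⟨z, rfl⟩
    exact z.2
  let a'l : (Nop : Scheme.{u}) ⟶ X' f e := IsOpenImmersion.lift bj (Nop.ι ≫ al) hsubN
  have ha'l : a'l ≫ bj = Nop.ι ≫ al := IsOpenImmersion.lift_fac _ _ _
  have ha'w : a'l ≫ pullback.snd (𝟙 Y' ≫ e) f = Nop.ι ≫ N.hom :=
    calc a'l ≫ pullback.snd (𝟙 Y' ≫ e) f = a'l ≫ (bj ≫ pullback.snd V₀.hom f) :=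
          congrArg (a'l ≫ ·) hbj2.symm
      _ = (a'l ≫ bj) ≫ pullback.snd V₀.hom f := (Category.assoc _ _ _).symm
      _ = (Nop.ι ≫ al) ≫ pullback.snd V₀.hom f := congrArg (· ≫ pullback.snd V₀.hom f) ha'l
      _ = Nop.ι ≫ (al ≫ pullback.snd V₀.hom f) := Category.assoc _ _ _
      _ = Nop.ι ≫ N.hom := congrArg (Nop.ι ≫ ·) hNhom.symm
  let a' : N' ⟶ (G f e).obj (EtCoh.top Y') := MorphismProperty.Over.homMk a'l ha'w trivial
  have ha'j : a' ≫ (EtCoh.bc f).map j = incl ≫ a := by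
    apply MorphismProperty.Over.Hom.ext
    change a'l ≫ ((EtCoh.bc f).map j).left = Nop.ι ≫ a.left
    rw [← hbj, ← hal]
    exact ha'l
  -- the point of `X ×_Y Y'`
  obtain ⟨zp, hzp⟩ : ∃ zp : Spec (CommRingCat.of Ω) ⟶ X' f e, zp = zpt' f e η ζ₀ hζe := ⟨_, rfl⟩
  have hzp1 : zp ≫ f' f e = η := hzp ▸ ptG_left_fst f e η ζ₀ hζe _ _
  have hzp2 : zp ≫ pullback.snd (𝟙 Y' ≫ e) f = ζ₀ := hzp ▸ ptG_left_snd f e η ζ₀ hζe _ _
  have hzpbj : zp ≫ bj = nl ≫ al := by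
    apply pullback.hom_ext
    · exact (Category.assoc _ _ _).trans ((congrArg (zp ≫ ·) hbj1).trans
        ((Category.assoc _ _ _).symm.trans ((congrArg (· ≫ O.ι) hzp1).trans
          (hη.trans (hnla1.symm.trans (Category.assoc _ _ _).symm)))))
    · exact (Category.assoc _ _ _).trans ((congrArg (zp ≫ ·) hbj2).trans
        (hzp2.trans (hnlw.symm.trans ((congrArg (nl ≫ ·) hNhom).trans
          (Category.assoc _ _ _).symm))))
  have hsubn : Set.range nl ⊆ Set.range Nop.ι := by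
    rintro _ ⟨x, rfl⟩
    rw [Scheme.Opens.range_ι]
    change (nl ≫ al).base x ∈ Set.range bj
    rw [← hzpbj]
    exact ⟨zp.base x, rfl⟩
  let n'l : Spec (CommRingCat.of Ω) ⟶ (Nop : Scheme.{u}) := IsOpenImmersion.lift Nop.ι nl hsubn
  have hn'l : n'l ≫ Nop.ι = nl := IsOpenImmersion.lift_fac _ _ _
  have hn'w : n'l ≫ Nop.ι ≫ N.hom = ζ₀ :=
    (Category.assoc _ _ _).symm.trans ((congrArg (· ≫ N.hom) hn'l).trans hnlw)
  let n₀' : (Φ ζ₀).fiber.obj N' := Over.homMk n'l hn'w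
  have hn₀' : (Φ ζ₀).fiber.map a' n₀' = ptG f e η ζ₀ hζe (EtCoh.top Y') (topPt η) := by
    apply Over.OverMorphism.ext
    have h1 : n'l ≫ a'l = zp := by
      refine (cancel_mono bj).mp ?_
      exact (Category.assoc _ _ _).trans ((congrArg (n'l ≫ ·) ha'l).trans
        ((Category.assoc _ _ _).symm.trans ((congrArg (· ≫ al) hn'l).trans hzpbj.symm)))
    exact h1.trans hzp
  obtain ⟨U, u, W, i, h, w₀, hopen, hclosed, hsec, hi, hh⟩ :=
    exists_clopen_section f e η ζ₀ hζe N' a' n₀' hn₀'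
  obtain ⟨ul, hul⟩ : ∃ ul : Spec (CommRingCat.of Ω) ⟶ U.left, ul = u.left := ⟨_, rfl⟩
  have hulw : ul ≫ U.hom = η := hul ▸ fiber_w η U u
  have hu : ul ≫ U.hom ≫ e = η₀ :=
    (Category.assoc _ _ _).symm.trans ((congrArg (· ≫ e) hulw).trans hηe)
  let V : Y.Etale := (EtShriek.compEtale e).obj U
  let r : V ⟶ V₀ := (EtShriek.compEtale e).map (toTop U) ≫ j
  let v : (Φ η₀).fiber.obj V := Over.homMk ul hu
  refine ⟨V, r, v, W, i, h ≫ incl, w₀, ?_, hopen, hclosed, ?_, ?_, ?_⟩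
  · apply Over.OverMorphism.ext
    change ul ≫ (U.hom ≫ O.ι) = v₀.left
    rw [← hvl]
    exact (Category.assoc _ _ _).symm.trans ((congrArg (· ≫ O.ι) hulw).trans hη)
  · have h1 : (EtCoh.bc f).map r = (G f e).map (toTop U) ≫ (EtCoh.bc f).map j :=
      (EtCoh.bc f).map_comp _ _
    rw [h1, Category.assoc, ← ha'j, ← Category.assoc, hsec, Category.assoc]
  · refine hi.trans ?_
    apply Over.OverMorphism.ext
    apply pullback.hom_ext
    · exact (ptG_left_fst f e η ζ₀ hζe U u).trans (hul.symm.trans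
        (ptB_left_fst f η₀ ζ₀ hζ₀ V v).symm)
    · exact (ptG_left_snd f e η ζ₀ hζe U u).trans (ptB_left_snd f η₀ ζ₀ hζ₀ V v).symm
  · apply Over.OverMorphism.ext
    have h1 : ((Φ ζ₀).fiber.map h w₀).left = n'l := congrArg (fun m => m.left) hh
    change (w₀.left ≫ h.left) ≫ Nop.ι = n₀.left
    rw [← hnl]
    exact (congrArg (· ≫ Nop.ι) h1).trans hn'l

end General

end Groth.Agent.R2.H13.IntSplit
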