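import Mathlib
import Groth.Agent.R2.H13IntFamGerm
import Groth.Agent.R2.H13IntSplit
import Groth.Agent.R2.H13FinStalk

/-!
# Lifting continuous families of geometric points over an integral morphism (helper13)

Namespace `Groth.Agent.R2.H13.IntFamSplit`.

* `exists_lift_family_of_integral` : version of `IntSplit.exists_lift_pointed_of_integral` in which the
  images of all geometric points of the fibre are prescribed (by a continuous family).
* `exists_finset_of_isPullback` : continuity of evaluation at the points of a fibre product of affine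
  schemes.
-/

set_option autoImplicit false
set_option linter.style.haveILetI false
universe u

namespace Groth.Agent.R2.H13.IntFamSplit

open CategoryTheory CategoryTheory.Limits AlgebraicGeometry Opposite
open Groth.Agent.R2.H1.EtLocalRing Groth.Agent.R2.H13.FinGerm Groth.Agent.R2.H13.FinPtGerm
open Groth.Agent.R2.H13.FinSplit Groth.Agent.R2.H13.FinPtSplit Groth.Agent.R2.H13.IntFamGerm
open Groth.Agent.R2.H13.IntSplit Groth.Agent.R2.H13.FinStalk

section Lift

variable {X Y Y' : Scheme.{u}} (f : X ⟶ Y) (e : Y' ⟶ Y) [Etale e]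
variable {Ω : Type u} [Field Ω] [IsAlgClosed Ω] (η : Spec (CommRingCat.of Ω) ⟶ Y')

set_option backward.isDefEq.respectTransparency.types false in
set_option maxHeartbeats 1000000 in
/-- **Key lemma with prescribed values on the fibre (scheme form, affine base, integral case)**. -/
theorem exists_lift_family_of_integral [IsIntegralHom f] [IsAffine Y'] {V : Scheme.{u}}
    [IsAffine V] (p : V ⟶ X' f e) [Etale p]
    (n : ∀ _ : {ζ : Spec (CommRingCat.of Ω) ⟶ X // ζ ≫ f = η ≫ e}, Spec (CommRingCat.of Ω) ⟶ V)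
    (hn : ∀ ζ, n ζ ≫ p = zpt' f e η ζ.1 ζ.2)
    (hcont : ∀ x : Γ(V, ⊤), ∃ B : Finset (S f e), ∀ ζ₁ ζ₂,
      (∀ b ∈ B, (σpt f e η ζ₁.1 ζ₁.2).hom b = (σpt f e η ζ₂.1 ζ₂.2).hom b) →
      (evΓ (n ζ₁)).hom x = (evΓ (n ζ₂)).hom x) :
    ∃ (U : Y'.Etale) (u : (Φ η).fiber.obj U) (h : ((G f e).obj U).left ⟶ V),
      h ≫ p = ((G f e).map (toTop U)).left ∧
      ∀ ζ : {ζ : Spec (CommRingCat.of Ω) ⟶ X // ζ ≫ f = η ≫ e},
        (ptG f e η ζ.1 ζ.2 U u).left ≫ h = n ζ := by
  have hψ : p.appTop.hom.Etale := (HasRingHomProperty.iff_of_isAffine (P := @Etale)).mp inferInstance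
  obtain ⟨U, u, g', hg', hpt⟩ := exists_germ_lift_family_integral f e η (integral_φ f e) p.appTop hψ
    (by
      intro r hr hrp
      let x' : X' f e := (X' f e).isoSpec.inv ⟨r, hr⟩
      have hx' : (X' f e).toSpecΓ x' = ⟨r, hr⟩ := by
        change ((X' f e).isoSpec.inv ≫ (X' f e).toSpecΓ) ⟨r, hr⟩ = _
        rw [Scheme.isoSpec_inv_toSpecΓ]
        rfl
      have hfx : f' f e x' = η default := by
        have hinj : Function.Injective Y'.toSpecΓ := by
          have : IsIso Y'.toSpecΓ := inferInstance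
          exact (ConcreteCategory.bijective_of_isIso Y'.toSpecΓ.base).1
        apply hinj
        apply PrimeSpectrum.ext
        rw [toSpecΓ_pt]
        have h1 : Y'.toSpecΓ (f' f e x') = Spec.map (φ f e) ((X' f e).toSpecΓ x') := by
          change (f' f e ≫ Y'.toSpecΓ) x' = _
          rw [Scheme.toSpecΓ_naturality]
          rfl
        rw [h1, hx', asIdeal_SpecMap]
        exact hrp
      -- a geometric point through `x'`
      obtain ⟨l, hl1, hl2⟩ := exists_point_lift (f' f e) η x' hfx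
      have hc : f' f e ≫ (𝟙 Y' ≫ e) = pullback.snd (𝟙 Y' ≫ e) f ≫ f := pullback.condition
      have hζ : (l ≫ pullback.snd (𝟙 Y' ≫ e) f) ≫ f = η ≫ e :=
        (Category.assoc _ _ _).trans ((congrArg (l ≫ ·) hc.symm).trans
          ((Category.assoc _ _ _).symm.trans
            ((congrArg (· ≫ (𝟙 Y' ≫ e)) hl1).trans (congrArg (η ≫ ·) (Category.id_comp e)))))
      have hzl : zpt' f e η (l ≫ pullback.snd (𝟙 Y' ≫ e) f) hζ = l := by
        apply pullback.hom_ext
        · exact (ptG_left_fst f e η _ hζ _ _).trans hl1.symm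
        · exact ptG_left_snd f e η _ hζ _ _
      let v : V := (n ⟨_, hζ⟩).base (default : Spec (CommRingCat.of Ω))
      have hv : p v = x' := by
        have h1 : (n ⟨_, hζ⟩ ≫ p).base (default : Spec (CommRingCat.of Ω)) = x' := by
          rw [hn, hzl]
          exact hl2
        exact h1
      refine ⟨(V.toSpecΓ v).asIdeal, (V.toSpecΓ v).2, ?_⟩
      have h2 : Spec.map p.appTop (V.toSpecΓ v) = (X' f e).toSpecΓ (p v) := by
        change _ = (p ≫ (X' f e).toSpecΓ) v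
        rw [Scheme.toSpecΓ_naturality]
        rfl
      have h3 : (X' f e).toSpecΓ (p v) = ⟨r, hr⟩ := (congrArg (X' f e).toSpecΓ hv).trans hx'
      exact congrArg PrimeSpectrum.asIdeal (h2.trans h3))
    (fun ζ => evΓ (n ζ)) (by
      intro ζ
      have h1 : σpt f e η ζ.1 ζ.2 = evΓ (zpt' f e η ζ.1 ζ.2) := rfl
      rw [h1, ← hn ζ]
      exact (evΓ_comp (n ζ) p).symm)
    hcont
  let W := ((G f e).obj U).left
  let t : W ⟶ X' f e := ((G f e).map (toTop U)).left
  have hσ : σ f e U = t.appTop := rfl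
  let h : W ⟶ V := W.toSpecΓ ≫ Spec.map g' ≫ V.isoSpec.inv
  have hh : h ≫ p = t := by
    have hmono : Mono (X' f e).toSpecΓ := inferInstance
    rw [← cancel_mono (X' f e).toSpecΓ]
    have e1 : V.isoSpec.inv ≫ p ≫ (X' f e).toSpecΓ = Spec.map p.appTop := by
      rw [Scheme.toSpecΓ_naturality, ← Category.assoc, Scheme.isoSpec_inv_toSpecΓ,
        Category.id_comp]
    calc (W.toSpecΓ ≫ Spec.map g' ≫ V.isoSpec.inv) ≫ p ≫ (X' f e).toSpecΓ
        = W.toSpecΓ ≫ Spec.map g' ≫ (V.isoSpec.inv ≫ p ≫ (X' f e).toSpecΓ) := by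
          simp only [Category.assoc]
      _ = W.toSpecΓ ≫ Spec.map (p.appTop ≫ g') := by rw [e1, Spec.map_comp]
      _ = W.toSpecΓ ≫ Spec.map t.appTop :=
          congrArg (fun z => W.toSpecΓ ≫ Spec.map z) (hg'.trans hσ)
      _ = t ≫ (X' f e).toSpecΓ := (Scheme.toSpecΓ_naturality t).symm
  have happ : h.appTop = g' := appTop_toSpecΓ_map_isoSpec_inv g'
  refine ⟨U, u, h, hh, ?_⟩
  intro ζ
  apply evΓ_injective
  rw [evΓ_comp, happ]
  exact hpt ζ

end Lift

section Cont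

variable {Ω : Type u} [Field Ω]

set_option backward.isDefEq.respectTransparency.types false in
set_option maxHeartbeats 1000000 in
/-- **Continuity of evaluation**: in a cartesian square of affine schemes `P = A ×_C B`, the value of a
function `y` on `P` at the `Ω`-points of `P` over a fixed point `u` of `B` depends only on the values of
finitely many functions on `A`. -/
theorem exists_finset_of_isPullback {P A B C : Scheme.{u}} [IsAffine A] [IsAffine B] [IsAffine C]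
    {pa : P ⟶ A} {pb : P ⟶ B} {a : A ⟶ C} {b : B ⟶ C} (sq : IsPullback pa pb a b)
    (u : Spec (CommRingCat.of Ω) ⟶ B) (y : Γ(P, ⊤)) :
    ∃ Bs : Finset Γ(A, ⊤), ∀ p₁ p₂ : Spec (CommRingCat.of Ω) ⟶ P, p₁ ≫ pb = u → p₂ ≫ pb = u →
      (∀ m ∈ Bs, (evΓ (p₁ ≫ pa)).hom m = (evΓ (p₂ ≫ pa)).hom m) →
      (evΓ p₁).hom y = (evΓ p₂).hom y := by
  classical
  have po : IsPushout a.appTop b.appTop pa.appTop pb.appTop := isPushout_appTop_of_isPullback sq
  letI : Algebra Γ(C, ⊤) Γ(A, ⊤) := a.appTop.hom.toAlgebra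
  letI : Algebra Γ(C, ⊤) Γ(B, ⊤) := b.appTop.hom.toAlgebra
  letI : Algebra Γ(A, ⊤) Γ(P, ⊤) := pa.appTop.hom.toAlgebra
  letI : Algebra Γ(B, ⊤) Γ(P, ⊤) := pb.appTop.hom.toAlgebra
  letI : Algebra Γ(C, ⊤) Γ(P, ⊤) := (a.appTop ≫ pa.appTop).hom.toAlgebra
  haveI : IsScalarTower Γ(C, ⊤) Γ(A, ⊤) Γ(P, ⊤) := IsScalarTower.of_algebraMap_eq (fun _ => rfl)
  haveI : IsScalarTower Γ(C, ⊤) Γ(B, ⊤) Γ(P, ⊤) := IsScalarTower.of_algebraMap_eq (fun x => by
    change (a.appTop ≫ pa.appTop).hom x = (b.appTop ≫ pb.appTop).hom x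
    rw [po.w])
  have hpo : Algebra.IsPushout Γ(C, ⊤) Γ(B, ⊤) Γ(A, ⊤) Γ(P, ⊤) :=
    CommRingCat.isPushout_iff_isPushout.mp po.flip
  have hbc := hpo.out
  refine IsBaseChange.inductionOn hbc y
    (fun y => ∃ Bs : Finset Γ(A, ⊤), ∀ p₁ p₂ : Spec (CommRingCat.of Ω) ⟶ P, p₁ ≫ pb = u →
      p₂ ≫ pb = u → (∀ m ∈ Bs, (evΓ (p₁ ≫ pa)).hom m = (evΓ (p₂ ≫ pa)).hom m) →
      (evΓ p₁).hom y = (evΓ p₂).hom y) ?_ ?_ ?_ ?_
  · exact ⟨∅, fun p₁ p₂ _ _ _ => by rw [map_zero, map_zero]⟩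
  · intro m
    refine ⟨{m}, fun p₁ p₂ _ _ hm => ?_⟩
    have h1 := hm m (Finset.mem_singleton_self m)
    rw [evΓ_comp, evΓ_comp] at h1
    exact h1
  · rintro r y ⟨Bs, hBs⟩
    refine ⟨Bs, fun p₁ p₂ h₁ h₂ hm => ?_⟩
    have e1 : ∀ p : Spec (CommRingCat.of Ω) ⟶ P, p ≫ pb = u →
        (evΓ p).hom (r • y) = (evΓ u).hom r * (evΓ p).hom y := by
      intro p hp
      rw [Algebra.smul_def, map_mul, ← hp, evΓ_comp]
      rfl
    rw [e1 p₁ h₁, e1 p₂ h₂, hBs p₁ p₂ h₁ h₂ hm]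
  · rintro y₁ y₂ ⟨B₁, hB₁⟩ ⟨B₂, hB₂⟩
    refine ⟨B₁ ∪ B₂, fun p₁ p₂ h₁ h₂ hm => ?_⟩
    rw [map_add, map_add, hB₁ p₁ p₂ h₁ h₂ (fun m hm' => hm m (Finset.mem_union_left _ hm')),
      hB₂ p₁ p₂ h₁ h₂ (fun m hm' => hm m (Finset.mem_union_right _ hm'))]

end Cont

end Groth.Agent.R2.H13.IntFamSplit
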