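import Mathlib
import Groth.Agent.R2.H13FinSieve
import Groth.Agent.R2.H13FinPtGerm

/-!
# Étale-local lifting into members of covering sieves over an integral morphism (helper13)

Namespace `Groth.Agent.R2.H13.IntSieve`.

* `exists_affine_refinement` : étale neighbourhoods of a geometric point can be shrunk to affine ones
  inside a prescribed open subset.
* `exists_lift_sieve` : variant of `FinSieve.exists_split_of_integral` which keeps the morphism into the
  disjoint union of the members of the sieve.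
-/

set_option autoImplicit false
set_option linter.style.haveILetI false
universe u

namespace Groth.Agent.R2.H13.IntSieve

open CategoryTheory CategoryTheory.Limits AlgebraicGeometry Opposite
open Groth.Agent.R2.H1.EtLocalRing Groth.Agent.R2.H13.FinGerm Groth.Agent.R2.H13.FinSplit
open Groth.Agent.R2.H13.ClosedPush Groth.Agent.R2.H13.FinPtGerm

set_option backward.isDefEq.respectTransparency.types false in
/-- étale neighbourhoods of a geometric point can be shrunk to affine ones inside a prescribed open -/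
theorem exists_affine_refinement {Y : Scheme.{u}} {Ω : Type u} [Field Ω] [IsSepClosed Ω]
    (η₀ : Spec (CommRingCat.of Ω) ⟶ Y) (U : Y.Etale) (u : (Φ η₀).fiber.obj U) (W : U.left.Opens)
    (hW : (u.left : Spec (CommRingCat.of Ω) ⟶ U.left).base (default : Spec (CommRingCat.of Ω)) ∈ W) :
    ∃ (U' : Y.Etale) (ρ : U' ⟶ U) (u' : (Φ η₀).fiber.obj U'),
      IsAffine U'.left ∧ (Φ η₀).fiber.map ρ u' = u ∧ Set.range ρ.left ⊆ (W : Set U.left) := by
  obtain ⟨ul, hul⟩ : ∃ ul : Spec (CommRingCat.of Ω) ⟶ U.left, ul = u.left := ⟨_, rfl⟩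
  have hulw : ul ≫ U.hom = η₀ := hul ▸ fiber_w η₀ U u
  rw [← hul] at hW
  obtain ⟨O, hO, huO, hOW⟩ := exists_isAffineOpen_mem_and_subset hW
  let U' : Y.Etale := Scheme.Etale.mk (O.ι ≫ U.hom)
  let ρ : U' ⟶ U := MorphismProperty.Over.homMk O.ι rfl trivial
  have hsub : Set.range ul ⊆ Set.range O.ι := by
    rintro _ ⟨x, rfl⟩
    rw [Scheme.Opens.range_ι, Subsingleton.elim x (default : Spec (CommRingCat.of Ω))]
    exact huO
  let l : Spec (CommRingCat.of Ω) ⟶ (O : Scheme.{u}) := IsOpenImmersion.lift O.ι ul hsub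
  have hl : l ≫ O.ι = ul := IsOpenImmersion.lift_fac _ _ _
  have hlw : l ≫ O.ι ≫ U.hom = η₀ :=
    (Category.assoc _ _ _).symm.trans ((congrArg (· ≫ U.hom) hl).trans hulw)
  let u' : (Φ η₀).fiber.obj U' := Over.homMk l hlw
  refine ⟨U', ρ, u', hO, ?_, ?_⟩
  · apply Over.OverMorphism.ext
    exact hl.trans hul
  · rintro _ ⟨z, rfl⟩
    exact hOW z.2

set_option backward.isDefEq.respectTransparency.types false in
set_option maxHeartbeats 2000000 in
/-- **Key lemma (sieve form, with the lifting morphism)**. -/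
theorem exists_lift_sieve {X Y : Scheme.{u}} (f : X ⟶ Y) [IsIntegralHom f] (U₀ : Y.Etale)
    (𝒮 : Sieve ((EtCoh.bc f).obj U₀)) (h𝒮 : 𝒮 ∈ X.smallEtaleTopology _) (y₀ : U₀.left) :
    ∃ (U : Y.Etale) (g : U ⟶ U₀) (y : U.left), g.left y = y₀ ∧
      ∃ (ι : Type u) (_ : Finite ι) (M : ι → X.Etale) (m : ∀ i, M i ⟶ (EtCoh.bc f).obj U₀)
        (h : ((EtCoh.bc f).obj U).left ⟶ ∐ fun i => (M i).left),
        (∀ i, 𝒮 (m i)) ∧ h ≫ Sigma.desc (fun i => (m i).left) = ((EtCoh.bc f).map g).left := by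
  classical
  obtain ⟨V₀, hV₀, hy₀, -⟩ :=
    exists_isAffineOpen_mem_and_subset (x := y₀) (U := (⊤ : U₀.left.Opens)) trivial
  let Y' : Scheme.{u} := V₀
  haveI : IsAffine Y' := hV₀
  let e : Y' ⟶ Y := V₀.ι ≫ U₀.hom
  haveI : Etale e := inferInstance
  let T₀ : Y.Etale := (EtShriek.compEtale e).obj (EtCoh.top Y')
  let j : T₀ ⟶ U₀ := MorphismProperty.Over.homMk V₀.ι (Category.id_comp _).symm trivial
  let 𝒮' : Sieve ((G f e).obj (EtCoh.top Y')) := 𝒮.pullback ((EtCoh.bc f).map j)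
  have h𝒮' : 𝒮' ∈ X.smallEtaleTopology _ := X.smallEtaleTopology.pullback_stable _ h𝒮
  let y₀' : Y' := ⟨y₀, hy₀⟩
  -- a geometric point over `y₀`
  let Ω := SeparableClosure (Y'.residueField y₀')
  let ξ : Spec (CommRingCat.of Ω) ⟶ Y' :=
    Spec.map (CommRingCat.ofHom (algebraMap (Y'.residueField y₀') Ω)) ≫
      Y'.fromSpecResidueField y₀'
  have hξ : ξ default = y₀' := by
    dsimp only [ξ]
    rw [Scheme.Hom.comp_apply]
    exact Scheme.fromSpecResidueField_apply _ _
  -- choose members of the sieve through every point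
  have hex : ∀ x' : X' f e, ∃ (Wx : X.Etale) (ax : Wx ⟶ (G f e).obj (EtCoh.top Y')),
      𝒮' ax ∧ x' ∈ Set.range ax.left :=
    fun x' => exists_of_mem_smallEtaleTopology 𝒮' h𝒮' x'
  choose Wx ax hax hx using hex
  choose wx hwx using hx
  have haff : ∀ x', ∃ O : (Wx x').left.Opens, IsAffineOpen O ∧ wx x' ∈ O := fun x' => by
    obtain ⟨O, hO, hw, -⟩ :=
      exists_isAffineOpen_mem_and_subset (x := wx x') (U := (⊤ : (Wx x').left.Opens)) trivial
    exact ⟨O, hO, hw⟩
  choose O hO hwO using haff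
  have hopen : ∀ x', IsOpen ((ax x').left '' (O x' : Set (Wx x').left)) :=
    fun x' => (ax x').left.isOpenMap _ (O x').2
  have hK : IsCompact (f' f e ⁻¹' {y₀'}) := (f' f e).isCompact_preimage_singleton y₀'
  obtain ⟨t, ht⟩ := hK.elim_finite_subcover
    (fun x' => (ax x').left '' (O x' : Set (Wx x').left)) hopen (by
      intro x' _
      exact Set.mem_iUnion.2 ⟨x', ⟨wx x', hwO x', hwx x'⟩⟩)
  let ι : Type u := {x // x ∈ t}
  let M : ι → X.Etale := fun i => Scheme.Etale.mk ((O i.1).ι ≫ (Wx i.1).hom)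
  let incl : ∀ i : ι, M i ⟶ Wx i.1 := fun i => MorphismProperty.Over.homMk (O i.1).ι rfl trivial
  let OS : ι → Scheme.{u} := fun i => (O i.1 : (Wx i.1).left.Opens)
  haveI : ∀ i : ι, IsAffine (OS i) := fun i => hO i.1
  let V : Scheme.{u} := ∐ OS
  haveI : IsAffine V := inferInstance
  let p : V ⟶ X' f e := Sigma.desc fun i : ι => (O i.1).ι ≫ (ax i.1).left
  haveI : Etale p := IsZariskiLocalAtSource.sigmaDesc (fun i => inferInstance)
  have hp : ∀ i : ι, Sigma.ι OS i ≫ p = (O i.1).ι ≫ (ax i.1).left := fun i => Sigma.ι_desc _ _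
  have hcov : ∀ x' : X' f e, f' f e x' = ξ default → x' ∈ Set.range p := by
    intro x' hx'
    have hxK : x' ∈ f' f e ⁻¹' {y₀'} := by
      rw [Set.mem_preimage, hx', hξ]
      rfl
    obtain ⟨x₁, hx₁⟩ := Set.mem_iUnion.1 (ht hxK)
    obtain ⟨hx₁t, hx₁'⟩ := Set.mem_iUnion.1 hx₁
    obtain ⟨w, hwO', hw⟩ := hx₁'
    refine ⟨Sigma.ι OS ⟨x₁, hx₁t⟩ ⟨w, hwO'⟩, ?_⟩
    rw [← Scheme.Hom.comp_apply, hp]
    exact hw
  obtain ⟨U, u, h, hh⟩ := exists_lift_of_integral f e ξ p hcov
  let UY : Y.Etale := (EtShriek.compEtale e).obj U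
  let g : UY ⟶ U₀ := (EtShriek.compEtale e).map (toTop U) ≫ j
  let ul : Spec (CommRingCat.of Ω) ⟶ U.left := u.left
  have hu : ul ≫ U.hom = ξ := Over.w u
  refine ⟨UY, g, ul default, ?_, ι, inferInstance, M,
    fun i => incl i ≫ ax i.1 ≫ (EtCoh.bc f).map j, h, ?_, ?_⟩
  · have h1 : U.hom (ul default) = ξ default := by
      rw [← hu]
      rfl
    change V₀.ι (U.hom (ul default)) = y₀
    rw [h1, hξ]
    rfl
  · intro i
    exact 𝒮.downward_closed (hax i.1) (incl i)
  · have h4 : (EtCoh.bc f).map g = (G f e).map (toTop U) ≫ (EtCoh.bc f).map j :=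
      (EtCoh.bc f).map_comp _ _
    have h5 : Sigma.desc (fun i : ι => (incl i ≫ ax i.1 ≫ (EtCoh.bc f).map j).left) =
        p ≫ ((EtCoh.bc f).map j).left := by
      apply Sigma.hom_ext
      intro i
      refine (Sigma.ι_desc _ _).trans ?_
      refine Eq.trans ?_ (Category.assoc _ _ _)
      refine Eq.trans ?_ (congrArg (· ≫ ((EtCoh.bc f).map j).left) (hp i).symm)
      rfl
    refine (congrArg (h ≫ ·) h5).trans ?_
    refine (Category.assoc _ _ _).symm.trans ?_
    refine (congrArg (· ≫ ((EtCoh.bc f).map j).left) hh).trans ?_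
    rw [h4]
    rfl

end Groth.Agent.R2.H13.IntSieve
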