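import Mathlib
import Groth.Agent.R2.H13IntSplit
import Groth.Agent.R2.H13FinBC
import Groth.Prelude.Def_BigSite

/-!
# Condition (A) for integral morphisms (helper13)

Namespace `Groth.Agent.R2.H13.PropA`.

* `exists_clopen_nbhd` : `f` integral, `(N, n₀)` an étale neighbourhood of a geometric point `ζ₀` of `X`.
  Then for some étale neighbourhood `(V, v)` of `ζ₀ ≫ f` there is an open and closed `W ⊆ X ×_Y V`
  containing `(v, ζ₀)` with a pointed `X`-morphism `W ⟶ N`.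
* `propA_of_integral` : an integral morphism satisfies `BigSite.PropA`.
-/

set_option autoImplicit false
set_option linter.style.haveILetI false
universe u

namespace Groth.Agent.R2.H13.PropA

open CategoryTheory CategoryTheory.Limits AlgebraicGeometry Opposite
open Groth.Agent.R2.H1.EtLocalRing Groth.Agent.R2.H13.FinPtGerm Groth.Agent.R2.H13.FinPtSplit
open Groth.Agent.R2.H13.IntSplit

variable {X Y : Scheme.{u}} (f : X ⟶ Y) [IsIntegralHom f] {Ω : Type u} [Field Ω] [IsAlgClosed Ω]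
  (η₀ : Spec (CommRingCat.of Ω) ⟶ Y) (ζ₀ : Spec (CommRingCat.of Ω) ⟶ X) (hζ₀ : ζ₀ ≫ f = η₀)

set_option backward.isDefEq.respectTransparency.types false in
theorem exists_clopen_nbhd (N : X.Etale) (n₀ : (Φ ζ₀).fiber.obj N) :
    ∃ (V : Y.Etale) (v : (Φ η₀).fiber.obj V) (W : X.Etale) (i : W ⟶ (EtCoh.bc f).obj V)
      (h : W ⟶ N) (w₀ : (Φ ζ₀).fiber.obj W),
      IsOpenImmersion i.left ∧ IsClosed (Set.range i.left) ∧
      (Φ ζ₀).fiber.map i w₀ = ptB f η₀ ζ₀ hζ₀ V v ∧ (Φ ζ₀).fiber.map h w₀ = n₀ := by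
  let v₀ : (Φ η₀).fiber.obj (EtCoh.top Y) := Over.homMk η₀ (Category.comp_id _)
  obtain ⟨nl, hnl⟩ : ∃ nl : Spec (CommRingCat.of Ω) ⟶ N.left, nl = n₀.left := ⟨_, rfl⟩
  have hnlw : nl ≫ N.hom = ζ₀ := hnl ▸ Over.w n₀
  let a : N ⟶ (EtCoh.bc f).obj (EtCoh.top Y) :=
    MorphismProperty.Over.homMk (pullback.lift (N.hom ≫ f) N.hom (Category.comp_id _))
      (pullback.lift_snd _ _ _) trivial
  have hn₀ : (Φ ζ₀).fiber.map a n₀ = ptB f η₀ ζ₀ hζ₀ (EtCoh.top Y) v₀ := by
    apply Over.OverMorphism.ext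
    change n₀.left ≫ pullback.lift (N.hom ≫ f) N.hom (Category.comp_id _) = _
    rw [← hnl]
    apply pullback.hom_ext
    · refine (Category.assoc _ _ _).trans ((congrArg (nl ≫ ·) (pullback.lift_fst _ _ _)).trans ?_)
      refine (Category.assoc _ _ _).symm.trans ((congrArg (· ≫ f) hnlw).trans (hζ₀.trans ?_))
      exact (ptB_left_fst f η₀ ζ₀ hζ₀ (EtCoh.top Y) v₀).symm
    · refine (Category.assoc _ _ _).trans ((congrArg (nl ≫ ·) (pullback.lift_snd _ _ _)).trans ?_)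
      exact hnlw.trans (ptB_left_snd f η₀ ζ₀ hζ₀ (EtCoh.top Y) v₀).symm
  obtain ⟨V, r, v, W, i, h, w₀, -, h2, h3, -, h5, h6⟩ :=
    exists_clopen_section' f η₀ ζ₀ hζ₀ (EtCoh.top Y) v₀ N a n₀ hn₀
  exact ⟨V, v, W, i, h, w₀, h2, h3, h5, h6⟩

set_option backward.isDefEq.respectTransparency.types false in
set_option maxHeartbeats 1000000 in
omit [Field Ω] [IsAlgClosed Ω] in
/-- **An integral morphism satisfies condition (A).** -/
theorem propA_of_integral : BigSite.PropA f := by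
  intro U g _ u
  let N : X.Etale := Scheme.Etale.mk g
  obtain ⟨Ω, _, _, ζ₀, n₀, hn₀⟩ := Groth.Agent.R2.H13.FinBC.exists_geometric_point_algClosed N u
  obtain ⟨V, v, W, i, h, w₀, hopen, hclosed, hi, hh⟩ :=
    exists_clopen_nbhd f (ζ₀ ≫ f) ζ₀ rfl N n₀
  obtain ⟨il, hil⟩ : ∃ il : W.left ⟶ pullback V.hom f, il = i.left := ⟨_, rfl⟩
  obtain ⟨hl, hhl⟩ : ∃ hl : W.left ⟶ U, hl = h.left := ⟨_, rfl⟩
  obtain ⟨wl, hwl⟩ : ∃ wl : Spec (CommRingCat.of Ω) ⟶ W.left, wl = w₀.left := ⟨_, rfl⟩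
  haveI : IsOpenImmersion il := hil ▸ hopen
  have hclosed' : IsClosed (Set.range il) := hil ▸ hclosed
  have hiw : il ≫ pullback.snd V.hom f = W.hom := by
    rw [hil]
    exact Over.w i.hom
  have hhw : hl ≫ g = W.hom := by
    rw [hhl]
    exact Over.w h.hom
  have hpt : hl (wl (default : Spec (CommRingCat.of Ω))) = u := by
    have h1 : wl ≫ hl = n₀.left := by
      rw [hwl, hhl]
      exact congrArg (fun m => m.left) hh
    rw [← hn₀, ← h1]
    rfl
  let σ : pullback V.hom f ≅ pullback f V.hom := pullbackSymmetry V.hom f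
  have hσ1 : σ.hom ≫ pullback.fst f V.hom = pullback.snd V.hom f :=
    pullbackSymmetry_hom_comp_fst _ _
  haveI : IsOpenImmersion (il ≫ σ.hom) := inferInstance
  refine ⟨V.left, V.hom, inferInstance, (il ≫ σ.hom).opensRange, ?_,
    (il ≫ σ.hom).isoOpensRange.inv ≫ hl, ?_, ?_⟩
  · -- closedness
    have hr : ((il ≫ σ.hom).opensRange : Set ↥(pullback f V.hom)) = σ.hom '' Set.range il := by
      change Set.range (il ≫ σ.hom) = _
      rw [Scheme.Hom.comp_base, TopCat.coe_comp, Set.range_comp]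
    rw [hr]
    exact (σ.hom.homeomorph).isClosedMap _ hclosed'
  · have e1 : ((il ≫ σ.hom).opensRange).ι = (il ≫ σ.hom).isoOpensRange.inv ≫ (il ≫ σ.hom) :=
      (Scheme.Hom.isoOpensRange_inv_comp (il ≫ σ.hom)).symm
    rw [e1]
    exact (Category.assoc _ _ _).trans ((congrArg ((il ≫ σ.hom).isoOpensRange.inv ≫ ·)
      (hhw.trans (hiw.symm.trans ((congrArg (il ≫ ·) hσ1.symm).trans
        (Category.assoc _ _ _).symm)))).trans (Category.assoc _ _ _).symm)
  · refine ⟨(il ≫ σ.hom).isoOpensRange.hom (wl (default : Spec (CommRingCat.of Ω))), ?_⟩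
    rw [← Scheme.Hom.comp_apply, ← Category.assoc, Iso.hom_inv_id, Category.id_comp]
    exact hpt

end Groth.Agent.R2.H13.PropA
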