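import Mathlib
import Groth.Agent.R2.H13PropA
import Groth.Agent.R2.H13FinBC

/-!
# Stalks of the direct image along an integral morphism (helper13)

Namespace `Groth.Agent.R2.H13.IntStalk`.

* `germ_eq_of_locEq` : two sections of `f_* P` near a geometric point `η` which agree étale locally around
  every point of the fibre have the same germ at `η` (`f` integral).
* `can_injective_int` : injectivity of `(f_* P)_η ⟶ ∏_ζ P_ζ` for `f` integral.
* `eq_of_not_mem_range` : `(f_* P)_η` is a singleton when `η` does not meet the image of `f`.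
* `can_surjective_pt` : `(f_* F)_η ⟶ F_ζ` is surjective for `f` integral and `F` abelian.
* `can_bijective_of_univInj` : `(f_* F)_η ⟶ F_ζ` is bijective for `f` integral and universally injective.
* `counit_stalk` : the counit `f⁻¹ f_* F ⟶ F` on stalks is `can`.
* `isIso_counit` : the counit is an isomorphism for `f` integral and universally injective.
-/

set_option autoImplicit false
set_option linter.style.haveILetI false
universe u

namespace Groth.Agent.R2.H13.IntStalk

open CategoryTheory CategoryTheory.Limits AlgebraicGeometry Opposite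
open Groth.Agent.R2.H1.EtLocalRing Groth.Agent.R2.H13.FinPtGerm Groth.Agent.R2.H13.FinPtSplit
open Groth.Agent.R2.H13.FinStalk
open Groth.Agent.Lib.Helper16.EtStalk Groth.Agent.Lib.Helper16.SmallEtale
open Groth.Agent.Lib.Helper16.StalkPull Groth.Agent.S0100 Groth.Agent.S0101

section Inj

universe v' u' w'

variable {X Y : Scheme.{u}} (f : X ⟶ Y) {Ω : Type u} [Field Ω] [IsSepClosed Ω]
  (η₀ : Spec (CommRingCat.of Ω) ⟶ Y)
variable {A : Type u'} [Category.{v'} A] [HasColimitsOfSize.{u, u} A]
variable {FC : A → A → Type*} {CC : A → Type w'} [∀ X Y, FunLike (FC X Y) (CC X) (CC Y)]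
  [ConcreteCategory.{w'} A FC] [PreservesFilteredColimitsOfSize.{u, u} (forget A)]

omit [PreservesFilteredColimitsOfSize.{u, u} (forget A)] in
set_option backward.isDefEq.respectTransparency.types false in
set_option maxHeartbeats 1000000 in
/-- sections of `f_* P` which agree étale locally around every point of the fibre over `η` have the same
germ at `η` -/
theorem germ_eq_of_locEq [IsIntegralHom f] (P : X.Etaleᵒᵖ ⥤ A)
    (hP : Presieve.IsSeparated X.smallEtaleTopology (P ⋙ forget A))
    (V : Y.Etale) (v : (Φ η₀).fiber.obj V) (s t : ToType (P.obj (op ((EtCoh.bc f).obj V))))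
    (hloc : ∀ x : ((EtCoh.bc f).obj V).left,
      (pullback.fst V.hom f).base x =
        (v.left : Spec (CommRingCat.of Ω) ⟶ V.left).base (default : Spec (CommRingCat.of Ω)) →
      LocEq (P ⋙ forget A) s t x) :
    (Φ η₀).toPresheafFiber V v ((EtCoh.bc f).op ⋙ P) s =
      (Φ η₀).toPresheafFiber V v ((EtCoh.bc f).op ⋙ P) t := by
  obtain ⟨vl, hvl⟩ : ∃ vl : Spec (CommRingCat.of Ω) ⟶ V.left, vl = v.left := ⟨_, rfl⟩
  have hvw : vl ≫ V.hom = η₀ := hvl ▸ fiber_w η₀ V v
  have hloc' : ∀ x : ((EtCoh.bc f).obj V).left,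
      (pullback.fst V.hom f).base x = vl.base (default : Spec (CommRingCat.of Ω)) →
      LocEq (P ⋙ forget A) s t x := by
    intro x hx
    exact hloc x (hx.trans (congrArg (fun m : Spec (CommRingCat.of Ω) ⟶ V.left =>
      m.base (default : Spec (CommRingCat.of Ω))) hvl))
  obtain ⟨N, g, ⟨n, hn⟩, hg⟩ := locEq_push f (P ⋙ forget A) hP V s t _ hloc'
  obtain ⟨l', hl'1, hl'2⟩ := Scheme.exists_fac_of_etale_of_isSepClosed g.left vl n hn
  have hv'w : l' ≫ N.hom = η₀ := by
    have e1 : g.left ≫ V.hom = N.hom := MorphismProperty.Over.w g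
    rw [← e1, ← Category.assoc, hl'1, hvw]
  let v' : (Φ η₀).fiber.obj N := Over.homMk l' hv'w
  have hv' : (Φ η₀).fiber.map g v' = v := by
    apply Over.OverMorphism.ext
    exact hl'1.trans hvl
  rw [← hv', ← (Φ η₀).toPresheafFiber_w_apply, ← (Φ η₀).toPresheafFiber_w_apply]
  exact congrArg _ hg

set_option backward.isDefEq.respectTransparency.types false in
set_option maxHeartbeats 1000000 in
/-- **Stalk formula, injectivity**, for `f` integral. -/
theorem can_injective_int [IsIntegralHom f] [IsAlgClosed Ω] (P : X.Etaleᵒᵖ ⥤ A)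
    (hP : Presieve.IsSeparated X.smallEtaleTopology (P ⋙ forget A))
    (a b : ToType ((Φ η₀).presheafFiber.obj ((EtCoh.bc f).op ⋙ P)))
    (h : ∀ (ζ : Spec (CommRingCat.of Ω) ⟶ X) (hζ : ζ ≫ f = η₀),
      can f η₀ ζ hζ P a = can f η₀ ζ hζ P b) : a = b := by
  obtain ⟨V, v, s, t, rfl, rfl⟩ := (Φ η₀).toPresheafFiber_jointly_surjective₂ a b
  obtain ⟨vl, hvl⟩ : ∃ vl : Spec (CommRingCat.of Ω) ⟶ V.left, vl = v.left := ⟨_, rfl⟩
  have hvw : vl ≫ V.hom = η₀ := hvl ▸ fiber_w η₀ V v
  apply germ_eq_of_locEq f η₀ P hP V v s t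
  rw [← hvl]
  intro x hx
  haveI : IsIntegralHom (pullback.fst V.hom f) :=
    MorphismProperty.pullback_fst (P := @IsIntegralHom) _ _ inferInstance
  obtain ⟨l, hl1, hl2⟩ := exists_point_lift (pullback.fst V.hom f) vl x hx
  have hζ : (l ≫ pullback.snd V.hom f) ≫ f = η₀ :=
    (Category.assoc _ _ _).trans ((congrArg (l ≫ ·) pullback.condition.symm).trans
      ((Category.assoc _ _ _).symm.trans ((congrArg (· ≫ V.hom) hl1).trans hvw)))
  have hpt : (ptB f η₀ (l ≫ pullback.snd V.hom f) hζ V v).left = l := by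
    apply pullback.hom_ext
    · exact (ptB_left_fst f η₀ _ hζ V v).trans (hvl.symm.trans hl1.symm)
    · exact ptB_left_snd f η₀ _ hζ V v
  have h1 := h _ hζ
  rw [toFiber_can_apply, toFiber_can_apply] at h1
  obtain ⟨N, g, n, hn, hg⟩ := ((Φ (l ≫ pullback.snd V.hom f)).toPresheafFiber_eq_iff' _ _ s t).mp h1
  refine ⟨N, g, ⟨(n.left : Spec (CommRingCat.of Ω) ⟶ N.left).base
    (default : Spec (CommRingCat.of Ω)), ?_⟩, hg⟩
  have e3 : n.left ≫ g.left = l := (congrArg (fun m => m.left) hn).trans hpt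
  rw [← hl2]
  exact congrArg (fun m : Spec (CommRingCat.of Ω) ⟶ ((EtCoh.bc f).obj V).left =>
    m.base (default : Spec (CommRingCat.of Ω))) e3

set_option backward.isDefEq.respectTransparency.types false in
set_option maxHeartbeats 1000000 in
/-- the stalk of `f_* P` at a geometric point not meeting the image of `f` has at most one element -/
theorem eq_of_not_mem_range [IsIntegralHom f] (P : X.Etaleᵒᵖ ⥤ A)
    (hP : Presieve.IsSeparated X.smallEtaleTopology (P ⋙ forget A))
    (hη : η₀.base (default : Spec (CommRingCat.of Ω)) ∉ Set.range f.base)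
    (a b : ToType ((Φ η₀).presheafFiber.obj ((EtCoh.bc f).op ⋙ P))) : a = b := by
  obtain ⟨V, v, s, t, rfl, rfl⟩ := (Φ η₀).toPresheafFiber_jointly_surjective₂ a b
  obtain ⟨vl, hvl⟩ : ∃ vl : Spec (CommRingCat.of Ω) ⟶ V.left, vl = v.left := ⟨_, rfl⟩
  have hvw : vl ≫ V.hom = η₀ := hvl ▸ fiber_w η₀ V v
  apply germ_eq_of_locEq f η₀ P hP V v s t
  rw [← hvl]
  intro x hx
  exfalso
  apply hη
  refine ⟨(pullback.snd V.hom f).base x, ?_⟩
  have h1 : (pullback.snd V.hom f ≫ f).base x = (pullback.fst V.hom f ≫ V.hom).base x := by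
    rw [pullback.condition]
  have h2 : (pullback.fst V.hom f ≫ V.hom).base x =
      V.hom.base (vl.base (default : Spec (CommRingCat.of Ω))) :=
    congrArg (fun y => V.hom.base y) hx
  have h3 : V.hom.base (vl.base (default : Spec (CommRingCat.of Ω))) =
      η₀.base (default : Spec (CommRingCat.of Ω)) := by
    rw [← hvw]
    rfl
  exact (h1.trans (h2.trans h3))

end Inj

section Surj

variable {X Y : Scheme.{u}} (f : X ⟶ Y) {Ω : Type u} [Field Ω] [IsAlgClosed Ω]
  (η₀ : Spec (CommRingCat.of Ω) ⟶ Y) (ζ : Spec (CommRingCat.of Ω) ⟶ X) (hζ : ζ ≫ f = η₀)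

set_option backward.isDefEq.respectTransparency.types false in
set_option maxHeartbeats 1000000 in
/-- **Stalk formula, surjectivity at one point**: for `f` integral and `F` an abelian sheaf, every germ
of `F` at a geometric point `ζ` over `η` comes from `(f_* F)_η`. -/
theorem can_surjective_pt [IsIntegralHom f] (F : EtCoh.Ab X)
    (c : ToType ((Φ ζ).presheafFiber.obj F.obj)) :
    ∃ a : ToType ((Φ η₀).presheafFiber.obj ((EtCoh.bc f).op ⋙ F.obj)),
      can f η₀ ζ hζ F.obj a = c := by
  classical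
  obtain ⟨N, n₀, s, hs⟩ := (Φ ζ).toPresheafFiber_jointly_surjective c
  obtain ⟨V, v, W, i, h, w₀, hopen, hclosed, hi, hh⟩ :=
    Groth.Agent.R2.H13.PropA.exists_clopen_nbhd f η₀ ζ hζ N n₀
  obtain ⟨Z, hZ⟩ : ∃ Z : X.Etale, Z = (EtCoh.bc f).obj V := ⟨_, rfl⟩
  subst hZ
  let Oc : ((EtCoh.bc f).obj V).left.Opens := ⟨(Set.range i.left)ᶜ, hclosed.isOpen_compl⟩
  let Wc : X.Etale := Scheme.Etale.mk (Oc.ι ≫ ((EtCoh.bc f).obj V).hom)
  let ic : Wc ⟶ (EtCoh.bc f).obj V := MorphismProperty.Over.homMk Oc.ι rfl trivial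
  have hic : Set.range ic.left = (Set.range i.left)ᶜ := Scheme.Opens.range_ι Oc
  let Wf : Bool → X.Etale := fun b => Bool.rec Wc W b
  let af : ∀ b, Wf b ⟶ (EtCoh.bc f).obj V := fun b =>
    Bool.rec (motive := fun b => Wf b ⟶ (EtCoh.bc f).obj V) ic i b
  have hopen' : ∀ b, IsOpenImmersion (af b).left := by
    rintro (_ | _)
    · exact inferInstanceAs (IsOpenImmersion Oc.ι)
    · exact hopen
  have hdisj : ∀ b b', b ≠ b' → Disjoint (Set.range (af b).left) (Set.range (af b').left) := by
    rintro (_ | _) (_ | _) hbb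
    · exact absurd rfl hbb
    · change Disjoint (Set.range ic.left) (Set.range i.left)
      rw [hic]
      exact disjoint_compl_left
    · change Disjoint (Set.range i.left) (Set.range ic.left)
      rw [hic]
      exact disjoint_compl_right
    · exact absurd rfl hbb
  have hcov : (⋃ b, Set.range (af b).left) = Set.univ := by
    apply Set.eq_univ_of_forall
    intro z
    by_cases hz : z ∈ Set.range i.left
    · exact Set.mem_iUnion.2 ⟨true, hz⟩
    · refine Set.mem_iUnion.2 ⟨false, ?_⟩
      change z ∈ Set.range ic.left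
      rw [hic]
      exact hz
  let xs : ∀ b, (F.obj ⋙ forget AddCommGrpCat.{u + 1}).obj (op (Wf b)) := fun b =>
    Bool.rec (motive := fun b => (F.obj ⋙ forget AddCommGrpCat.{u + 1}).obj (op (Wf b)))
      (0 : F.obj.obj (op Wc)) ((F.obj ⋙ forget AddCommGrpCat.{u + 1}).map h.op s) b
  obtain ⟨S, hS, -⟩ := Groth.Agent.R2.H13.FinPush.existsUnique_glue af hopen' hdisj hcov
    (Groth.Agent.R2.H13.FinPush.isSheaf_forget F) xs
  refine ⟨(Φ η₀).toPresheafFiber V v ((EtCoh.bc f).op ⋙ F.obj) S, ?_⟩
  rw [toFiber_can_apply, ← hi, ← (Φ ζ).toPresheafFiber_w_apply]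
  have h1 : F.obj.map i.op S = F.obj.map h.op s := hS true
  rw [h1, (Φ ζ).toPresheafFiber_w_apply, hh]
  exact hs

end Surj

section UnivInj

variable {X Y : Scheme.{u}} (f : X ⟶ Y)

/-- points with values in a field are determined by their images under a universally injective
morphism -/
lemma point_unique [UniversallyInjective f] {Ω : Type u} [Field Ω]
    (ζ₁ ζ₂ : Spec (CommRingCat.of Ω) ⟶ X) (h : ζ₁ ≫ f = ζ₂ ≫ f) : ζ₁ = ζ₂ := by
  have h0 : UniversallyInjective f := inferInstance
  have h1 : ∀ (K : Type u) [Field K], Function.Injective (fun g : Spec (.of K) ⟶ X ↦ g ≫ f) :=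
    ((tfae_universallyInjective f).out 0 1).mp h0
  exact h1 Ω h

variable {Ω : Type u} [Field Ω] [IsAlgClosed Ω]
  (η₀ : Spec (CommRingCat.of Ω) ⟶ Y) (ζ : Spec (CommRingCat.of Ω) ⟶ X) (hζ : ζ ≫ f = η₀)

set_option backward.isDefEq.respectTransparency.types false in
/-- **Stalk formula** for `f` integral and universally injective: `(f_* F)_η ≅ F_ζ`. -/
theorem can_bijective_of_univInj [IsIntegralHom f] [UniversallyInjective f] (F : EtCoh.Ab X) :
    Function.Bijective (can f η₀ ζ hζ F.obj) := by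
  constructor
  · intro a b hab
    apply can_injective_int f η₀ F.obj
      (Groth.Agent.R2.H13.FinPush.isSheaf_forget F).isSeparated a b
    intro ζ' hζ'
    obtain rfl : ζ' = ζ := point_unique f ζ' ζ (hζ'.trans hζ.symm)
    exact hab
  · intro c
    exact can_surjective_pt f η₀ ζ hζ F c

end UnivInj

section Counit

variable {X Y : Scheme.{u}} (f : X ⟶ Y) {Ω : Type u} [Field Ω] [IsSepClosed Ω]
  (ζ : Spec (CommRingCat.of Ω) ⟶ X)

set_option backward.isDefEq.respectTransparency.types false in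
/-- the geometric point `(v, ζ)` of `X ×_Y V` attached by `fiberIso` is `ptB` -/
lemma fiberIso_inv_eq_ptB (V : Y.Etale) (v : (Φ (ζ ≫ f)).fiber.obj V) :
    (fiberIso f ζ).inv.app V v = ptB f (ζ ≫ f) ζ rfl V v := by
  apply Over.OverMorphism.ext
  apply pullback.hom_ext
  · exact (Groth.Agent.R2.H13.FinBC.fiberIso_inv_left_fst f ζ V v).trans
      (ptB_left_fst f (ζ ≫ f) ζ rfl V v).symm
  · exact (Groth.Agent.R2.H13.FinBC.fiberIso_inv_left_snd f ζ V v).trans
      (ptB_left_snd f (ζ ≫ f) ζ rfl V v).symm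

set_option backward.isDefEq.respectTransparency.types false in
/-- the counit `f⁻¹ f_* F ⟶ F` on sections over `X ×_Y V`, applied to the unit, is the identity -/
lemma counit_unit_apply (F : EtCoh.Ab X) (V : Y.Etale)
    (σ : ((EtCoh.push f).obj F).obj.obj (op V)) :
    ((EtCoh.pullPushAdj f).counit.app F).hom.app (op ((EtCoh.bc f).obj V))
      (((EtCoh.pullPushAdj f).unit.app ((EtCoh.push f).obj F)).hom.app (op V) σ) = σ := by
  have h1 := (EtCoh.pullPushAdj f).right_triangle_components F
  exact congrArg (fun m => m.hom.app (op V) σ) h1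

set_option backward.isDefEq.respectTransparency.types false in
/-- **the counit on stalks is the canonical map `can`** -/
theorem counit_stalk (F : EtCoh.Ab X)
    (b : ToType ((EtCoh.stalk (ζ ≫ f)).obj ((EtCoh.push f).obj F))) :
    (EtCoh.stalk ζ).map ((EtCoh.pullPushAdj f).counit.app F)
      ((stalkPullIso f ζ).hom.app ((EtCoh.push f).obj F) b) =
    can f (ζ ≫ f) ζ rfl F.obj b := by
  obtain ⟨V, v, σ, rfl⟩ := (Φ (ζ ≫ f)).toPresheafFiber_jointly_surjective
    (P := ((EtCoh.push f).obj F).obj) b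
  have s1 := germ_compat f ζ ((EtCoh.push f).obj F) V v σ
  have s2 := (Φ ζ).toPresheafFiber_naturality_apply ((EtCoh.pullPushAdj f).counit.app F).hom
    ((EtCoh.bc f).obj V) ((fiberIso f ζ).inv.app V v)
    (((EtCoh.pullPushAdj f).unit.app ((EtCoh.push f).obj F)).hom.app (op V) σ)
  have s3 := counit_unit_apply f F V σ
  have s4 := toFiber_can_apply f (ζ ≫ f) ζ rfl F.obj V v σ
  have s5 := fiberIso_inv_eq_ptB f ζ V v
  refine (congrArg (fun x => (EtCoh.stalk ζ).map ((EtCoh.pullPushAdj f).counit.app F) x) s1).trans ?_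
  refine s2.trans ?_
  refine (congrArg (fun x => (Φ ζ).toPresheafFiber ((EtCoh.bc f).obj V)
    ((fiberIso f ζ).inv.app V v) F.obj x) s3).trans ?_
  refine (congrArg (fun p => (Φ ζ).toPresheafFiber ((EtCoh.bc f).obj V) p F.obj σ) s5).trans ?_
  exact s4.symm

end Counit

section Main

variable {X Y : Scheme.{u}} (f : X ⟶ Y) [IsIntegralHom f] [UniversallyInjective f]

set_option backward.isDefEq.respectTransparency.types false in
/-- **the counit `f⁻¹ f_* F ⟶ F` is an isomorphism** for `f` integral and universally injective -/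
theorem isIso_counit (F : EtCoh.Ab X) : IsIso ((EtCoh.pullPushAdj f).counit.app F) := by
  apply Groth.Agent.R2.H13.FinBC.isIso_of_stalks_algClosed
  intro Ω _ _ ζ
  have h1 := can_bijective_of_univInj f (ζ ≫ f) ζ rfl F
  have h2 : Function.Bijective ((stalkPullIso f ζ).hom.app ((EtCoh.push f).obj F)) :=
    ConcreteCategory.bijective_of_isIso _
  have h3 : (fun b => (EtCoh.stalk ζ).map ((EtCoh.pullPushAdj f).counit.app F)
      ((stalkPullIso f ζ).hom.app ((EtCoh.push f).obj F) b)) =
      fun b => can f (ζ ≫ f) ζ rfl F.obj b := funext (counit_stalk f ζ F)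
  have h4 : Function.Bijective (fun b => (EtCoh.stalk ζ).map ((EtCoh.pullPushAdj f).counit.app F)
      ((stalkPullIso f ζ).hom.app ((EtCoh.push f).obj F) b)) := by
    rw [h3]
    exact h1
  exact (Function.Bijective.of_comp_iff _ h2).mp h4

end Main

end Groth.Agent.R2.H13.IntStalk
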