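import Mathlib
import Groth.Agent.R2.H13IntFamSplit
import Groth.Agent.R2.H13IntSieve
import Groth.Agent.R2.H13IntStalk

/-!
# Base change for integral morphisms (abelian étale sheaves, degree zero) (helper13)

Namespace `Groth.Agent.R2.H13.IntBC`.

* `secSieve_mem` : sections of a pullback sheaf `g'⁻¹ F` are étale locally of the form `q^* (unit s)`.
* `isPullback_pr` : the cartesian square `X' ×_{Y'} U' = (X ×_Y Y₀) ×_{Y₀} U'`.
* `isIso_baseChange0_of_integral` : the base change map `g⁻¹ f_* F ⟶ f'_* g'⁻¹ F` is an isomorphism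
  for `f` integral.
-/

set_option autoImplicit false
set_option linter.style.haveILetI false
universe u

namespace Groth.Agent.R2.H13.IntBC

open CategoryTheory CategoryTheory.Limits AlgebraicGeometry Opposite
open Groth.Agent.R2.H1.EtLocalRing Groth.Agent.R2.H13.FinGerm Groth.Agent.R2.H13.FinPtGerm
open Groth.Agent.R2.H13.FinSplit Groth.Agent.R2.H13.FinPtSplit Groth.Agent.R2.H13.FinStalk
open Groth.Agent.R2.H13.IntSplit Groth.Agent.R2.H13.IntFamSplit Groth.Agent.R2.H13.IntSieve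
open Groth.Agent.R2.H13.ClosedPush Groth.Agent.R2.H13.FinBC Groth.Agent.R2.H13.IntStalk
open Groth.Agent.Lib.Helper16.EtStalk Groth.Agent.Lib.Helper16.SmallEtale
open Groth.Agent.Lib.Helper16.StalkPull Groth.Agent.S0100 Groth.Agent.S0101

section Sieve

variable {X XT : Scheme.{u}} (gT : XT ⟶ X) (F : EtCoh.Ab X)

/-- the section `unit s` of `g⁻¹ F` over `N ×_X X'` attached to a section `s` of `F` over `N` -/
noncomputable abbrev unitSec (N : X.Etale) (s : F.obj.obj (op N)) :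
    ((EtCoh.pull gT).obj F).obj.obj (op ((EtCoh.bc gT).obj N)) :=
  ((EtCoh.pullPushAdj gT).unit.app F).hom.app (op N) s

set_option backward.isDefEq.respectTransparency.types false in
/-- the sieve of those étale maps `m : M ⟶ Z₀` over which the section `τ` of `g⁻¹ F` comes from a section
of `F` over an affine étale `X`-scheme lying over the open `Xo` -/
def secSieve (Xo : X.Opens) (Z₀ : XT.Etale) (τ : ((EtCoh.pull gT).obj F).obj.obj (op Z₀)) :
    Sieve Z₀ where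
  arrows M m := ∃ (N : X.Etale) (_ : IsAffine N.left) (_ : Set.range N.hom ⊆ (Xo : Set X))
    (q : M ⟶ (EtCoh.bc gT).obj N) (s : F.obj.obj (op N)),
    ((EtCoh.pull gT).obj F).obj.map m.op τ = ((EtCoh.pull gT).obj F).obj.map q.op (unitSec gT F N s)
  downward_closed := by
    rintro M M' m ⟨N, hN, hNo, q, s, hs⟩ k
    refine ⟨N, hN, hNo, k ≫ q, s, ?_⟩
    rw [op_comp, op_comp, Functor.map_comp, Functor.map_comp, ConcreteCategory.comp_apply,
      ConcreteCategory.comp_apply, hs]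

set_option backward.isDefEq.respectTransparency.types false in
set_option maxHeartbeats 1000000 in
theorem secSieve_mem (Xo : X.Opens) (Z₀ : XT.Etale)
    (hZ₀ : Set.range (Z₀.hom ≫ gT) ⊆ (Xo : Set X))
    (τ : ((EtCoh.pull gT).obj F).obj.obj (op Z₀)) :
    secSieve gT F Xo Z₀ τ ∈ XT.smallEtaleTopology Z₀ := by
  apply mem_smallEtaleTopology_of_forall
  intro x
  obtain ⟨Ω, _, _, ξ, x₀, hx₀⟩ := exists_geometric_point_algClosed Z₀ x
  have hbij : Function.Bijective ((stalkPullIso gT ξ).hom.app F) :=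
    ConcreteCategory.bijective_of_isIso _
  obtain ⟨d, hd⟩ := hbij.2 ((Φ ξ).toPresheafFiber Z₀ x₀ ((EtCoh.pull gT).obj F).obj τ)
  obtain ⟨N, n, s, rfl⟩ := (Φ (ξ ≫ gT)).toPresheafFiber_jointly_surjective (P := F.obj) d
  -- shrink `N`
  have hmem : (n.left : Spec (CommRingCat.of Ω) ⟶ N.left).base (default : Spec (CommRingCat.of Ω)) ∈
      (N.hom ⁻¹ᵁ Xo : N.left.Opens) := by
    have h1 : (n.left : Spec (CommRingCat.of Ω) ⟶ N.left) ≫ N.hom = ξ ≫ gT := Over.w n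
    have h2 : (x₀.left : Spec (CommRingCat.of Ω) ⟶ Z₀.left) ≫ Z₀.hom = ξ := Over.w x₀
    change ((n.left : Spec (CommRingCat.of Ω) ⟶ N.left) ≫ N.hom).base
      (default : Spec (CommRingCat.of Ω)) ∈ (Xo : Set X)
    rw [h1, ← h2]
    exact hZ₀ ⟨(x₀.left : Spec (CommRingCat.of Ω) ⟶ Z₀.left).base
      (default : Spec (CommRingCat.of Ω)), rfl⟩
  obtain ⟨N', ρ, n', hN'aff, hn', hρ⟩ :=
    exists_affine_refinement (ξ ≫ gT) N n (N.hom ⁻¹ᵁ Xo) hmem
  have hN'o : Set.range N'.hom ⊆ (Xo : Set X) := by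
    rintro _ ⟨z, rfl⟩
    have h1 : ρ.left ≫ N.hom = N'.hom := MorphismProperty.Over.w ρ
    rw [← h1]
    exact hρ ⟨z, rfl⟩
  have e1 : (Φ (ξ ≫ gT)).toPresheafFiber N n F.obj s =
      (Φ (ξ ≫ gT)).toPresheafFiber N' n' F.obj (F.obj.map ρ.op s) := by
    rw [(Φ (ξ ≫ gT)).toPresheafFiber_w_apply, hn']
  have e2 := germ_compat gT ξ F N' n' (F.obj.map ρ.op s)
  have e3 : (Φ ξ).toPresheafFiber Z₀ x₀ ((EtCoh.pull gT).obj F).obj τ =
      (Φ ξ).toPresheafFiber ((EtCoh.bc gT).obj N') ((fiberIso gT ξ).inv.app N' n')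
        ((EtCoh.pull gT).obj F).obj (unitSec gT F N' (F.obj.map ρ.op s)) :=
    hd.symm.trans ((congrArg _ e1).trans e2)
  -- a common refinement
  let mm : (Φ ξ).fiber.Elements := IsCofiltered.min (⟨Z₀, x₀⟩ : (Φ ξ).fiber.Elements)
    ⟨(EtCoh.bc gT).obj N', (fiberIso gT ξ).inv.app N' n'⟩
  let gZ : mm ⟶ ⟨Z₀, x₀⟩ := IsCofiltered.minToLeft _ _
  let gN : mm ⟶ ⟨(EtCoh.bc gT).obj N', (fiberIso gT ξ).inv.app N' n'⟩ :=
    IsCofiltered.minToRight _ _
  have hgZ : (Φ ξ).fiber.map gZ.1 mm.2 = x₀ := gZ.2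
  have hgN : (Φ ξ).fiber.map gN.1 mm.2 = (fiberIso gT ξ).inv.app N' n' := gN.2
  have e4 : (Φ ξ).toPresheafFiber mm.1 mm.2 ((EtCoh.pull gT).obj F).obj
        (((EtCoh.pull gT).obj F).obj.map gZ.1.op τ) =
      (Φ ξ).toPresheafFiber mm.1 mm.2 ((EtCoh.pull gT).obj F).obj
        (((EtCoh.pull gT).obj F).obj.map gN.1.op (unitSec gT F N' (F.obj.map ρ.op s))) := by
    rw [(Φ ξ).toPresheafFiber_w_apply, (Φ ξ).toPresheafFiber_w_apply, hgZ, hgN]
    exact e3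
  obtain ⟨M, k, w, hw, hk⟩ := ((Φ ξ).toPresheafFiber_eq_iff' mm.1 mm.2 _ _).mp e4
  refine ⟨M, k ≫ gZ.1, ⟨N', hN'aff, hN'o, k ≫ gN.1, F.obj.map ρ.op s, ?_⟩, ?_⟩
  · rw [op_comp, op_comp, Functor.map_comp, Functor.map_comp, ConcreteCategory.comp_apply,
      ConcreteCategory.comp_apply]
    exact hk
  · have h1 : (Φ ξ).fiber.map (k ≫ gZ.1) w = x₀ := by
      rw [Functor.map_comp]
      change (Φ ξ).fiber.map gZ.1 ((Φ ξ).fiber.map k w) = x₀
      rw [hw, hgZ]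
    have h2 : (w.left : Spec (CommRingCat.of Ω) ⟶ M.left) ≫ (k ≫ gZ.1).left = x₀.left :=
      congrArg (fun m => m.left) h1
    rw [← hx₀]
    exact ⟨(w.left : Spec (CommRingCat.of Ω) ⟶ M.left).base (default : Spec (CommRingCat.of Ω)),
      congrArg (fun m : Spec (CommRingCat.of Ω) ⟶ Z₀.left => m default) h2⟩

end Sieve

section Square

variable {X Y XT T : Scheme.{u}} (f : X ⟶ Y) (g : T ⟶ Y) (fT : XT ⟶ T) (gT : XT ⟶ X)
  (h : IsPullback gT fT f g)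
variable {Y₀ : Scheme.{u}} (e : Y₀ ⟶ Y) [Etale e]
variable (U' : T.Etale) (β : U'.left ⟶ Y₀) (hβ : β ≫ e = U'.hom ≫ g)

omit [Etale e] in
include h hβ in
lemma pr_aux : (pullback.fst U'.hom fT ≫ β) ≫ (𝟙 Y₀ ≫ e) = (pullback.snd U'.hom fT ≫ gT) ≫ f := by
  have c1 : pullback.fst U'.hom fT ≫ U'.hom = pullback.snd U'.hom fT ≫ fT := pullback.condition
  calc (pullback.fst U'.hom fT ≫ β) ≫ (𝟙 Y₀ ≫ e)
      = pullback.fst U'.hom fT ≫ (β ≫ e) := by rw [Category.id_comp, Category.assoc]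
    _ = pullback.fst U'.hom fT ≫ (U'.hom ≫ g) := by rw [hβ]
    _ = (pullback.fst U'.hom fT ≫ U'.hom) ≫ g := (Category.assoc _ _ _).symm
    _ = (pullback.snd U'.hom fT ≫ fT) ≫ g := by rw [c1]
    _ = pullback.snd U'.hom fT ≫ (fT ≫ g) := Category.assoc _ _ _
    _ = pullback.snd U'.hom fT ≫ (gT ≫ f) := by rw [h.w]
    _ = (pullback.snd U'.hom fT ≫ gT) ≫ f := (Category.assoc _ _ _).symm

set_option backward.isDefEq.respectTransparency.types false in
/-- the projection `X' ×_{Y'} U' ⟶ X ×_Y Y₀` -/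
noncomputable def pr : ((EtCoh.bc fT).obj U').left ⟶ X' f e :=
  pullback.lift (pullback.fst U'.hom fT ≫ β) (pullback.snd U'.hom fT ≫ gT)
    (pr_aux f g fT gT h e U' β hβ)

set_option backward.isDefEq.respectTransparency.types false in
lemma pr_fst : pr f g fT gT h e U' β hβ ≫ f' f e = pullback.fst U'.hom fT ≫ β :=
  pullback.lift_fst _ _ _

set_option backward.isDefEq.respectTransparency.types false in
lemma pr_snd : pr f g fT gT h e U' β hβ ≫ pullback.snd (𝟙 Y₀ ≫ e) f =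
    pullback.snd U'.hom fT ≫ gT :=
  pullback.lift_snd _ _ _

set_option backward.isDefEq.respectTransparency.types false in
/-- the cartesian square `X' ×_{Y'} U' = (X ×_Y Y₀) ×_{Y₀} U'` -/
theorem isPullback_pr :
    IsPullback (pr f g fT gT h e U' β hβ) (pullback.fst U'.hom fT) (f' f e) β := by
  have t : IsPullback (pullback.snd (𝟙 Y₀ ≫ e) f) (f' f e) f (𝟙 Y₀ ≫ e) :=
    (IsPullback.of_hasPullback (𝟙 Y₀ ≫ e) f).flip
  have s0 : IsPullback (pullback.snd U'.hom fT ≫ gT) (pullback.fst U'.hom fT) f (U'.hom ≫ g) :=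
    (IsPullback.of_hasPullback U'.hom fT).flip.paste_horiz h
  have e1 : pr f g fT gT h e U' β hβ ≫ pullback.snd (𝟙 Y₀ ≫ e) f = pullback.snd U'.hom fT ≫ gT :=
    pr_snd f g fT gT h e U' β hβ
  have e2 : β ≫ (𝟙 Y₀ ≫ e) = U'.hom ≫ g := by rw [Category.id_comp, hβ]
  have s : IsPullback (pr f g fT gT h e U' β hβ ≫ pullback.snd (𝟙 Y₀ ≫ e) f)
      (pullback.fst U'.hom fT) f (β ≫ (𝟙 Y₀ ≫ e)) := by
    rw [e1, e2]
    exact s0
  exact IsPullback.of_right s (pr_fst f g fT gT h e U' β hβ) t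

end Square

section Component

variable {Ω : Type u} [Field Ω]

set_option backward.isDefEq.respectTransparency.types false in
/-- a point of a disjoint union lies in one of the components -/
lemma exists_factor_sigma {ι : Type u} (A : ι → Scheme.{u})
    (z : Spec (CommRingCat.of Ω) ⟶ ∐ A) :
    ∃ (i : ι) (w : Spec (CommRingCat.of Ω) ⟶ A i), w ≫ Sigma.ι A i = z := by
  obtain ⟨i, a, ha⟩ := (sigmaOpenCover A).exists_eq (z.base (default : Spec (CommRingCat.of Ω)))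
  have hsub : Set.range z ⊆ Set.range (Sigma.ι A i) := by
    rintro _ ⟨x, rfl⟩
    rw [Subsingleton.elim x (default : Spec (CommRingCat.of Ω))]
    exact ⟨a, ha⟩
  exact ⟨i, IsOpenImmersion.lift (Sigma.ι A i) z hsub, IsOpenImmersion.lift_fac _ _ _⟩

end Component

section Congr

variable {XT T : Scheme.{u}} (fT : XT ⟶ T) {Ω : Type u} [Field Ω] [IsSepClosed Ω]
  (ηT : Spec (CommRingCat.of Ω) ⟶ T) (U' : T.Etale) (u' : (Φ ηT).fiber.obj U')

lemma ptB_left_congr {ξ₁ ξ₂ : Spec (CommRingCat.of Ω) ⟶ XT} (h₁ : ξ₁ ≫ fT = ηT)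
    (h₂ : ξ₂ ≫ fT = ηT) (h12 : ξ₁ = ξ₂) :
    (ptB fT ηT ξ₁ h₁ U' u').left = (ptB fT ηT ξ₂ h₂ U' u').left := by
  subst h12
  rfl

end Congr

section LiftMap

variable {X Y XT T : Scheme.{u}} (f : X ⟶ Y) [IsIntegralHom f] (g : T ⟶ Y) (fT : XT ⟶ T)
  (gT : XT ⟶ X) (h : IsPullback gT fT f g)
variable {Ω : Type u} [Field Ω] [IsAlgClosed Ω] (ηT : Spec (CommRingCat.of Ω) ⟶ T)
variable {Y₀ : Scheme.{u}} (e : Y₀ ⟶ Y) [IsOpenImmersion e] [IsAffine Y₀]
  (η : Spec (CommRingCat.of Ω) ⟶ Y₀) (hηe : η ≫ e = ηT ≫ g)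
variable (U' : T.Etale) [IsAffine U'.left] (u' : (Φ ηT).fiber.obj U')
  (β : U'.left ⟶ Y₀) (hβ : β ≫ e = U'.hom ≫ g)

include hηe in
set_option backward.isDefEq.respectTransparency.types false in
set_option maxHeartbeats 1000000 in
/-- a morphism `X' ×_{Y'} U' ⟶ Ñ` over `X ×_Y Y₀` (`Ñ` affine étale over `X ×_Y Y₀`) descends, on geometric
points over `η`, to a morphism `X ×_Y U ⟶ Ñ` for some étale neighbourhood `U` of `η` in `Y₀` -/
theorem exists_lift_of_map {Ñ : Scheme.{u}} [IsAffine Ñ] (p : Ñ ⟶ X' f e) [Etale p]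
    (Φm : ((EtCoh.bc fT).obj U').left ⟶ Ñ) (hΦ : Φm ≫ p = pr f g fT gT h e U' β hβ) :
    ∃ (U : Y₀.Etale) (u : (Φ η).fiber.obj U) (h' : ((G f e).obj U).left ⟶ Ñ),
      h' ≫ p = ((G f e).map (toTop U)).left ∧
      ∀ (ξ' : Spec (CommRingCat.of Ω) ⟶ XT) (hξ' : ξ' ≫ fT = ηT) (hζ : (ξ' ≫ gT) ≫ f = η ≫ e),
        (ptG f e η (ξ' ≫ gT) hζ U u).left ≫ h' = (ptB fT ηT ξ' hξ' U' u').left ≫ Φm := by
  haveI : IsAffine ((𝟭 Scheme).obj U'.left) := ‹IsAffine U'.left›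
  have hl1 : ∀ ζ : {ζ : Spec (CommRingCat.of Ω) ⟶ X // ζ ≫ f = η ≫ e},
      h.lift ζ.1 ηT (ζ.2.trans hηe) ≫ gT = ζ.1 := fun ζ => h.lift_fst _ _ _
  have hl2 : ∀ ζ : {ζ : Spec (CommRingCat.of Ω) ⟶ X // ζ ≫ f = η ≫ e},
      h.lift ζ.1 ηT (ζ.2.trans hηe) ≫ fT = ηT := fun ζ => h.lift_snd _ _ _
  obtain ⟨pt', hpt'⟩ : ∃ pt' : ∀ _ : {ζ : Spec (CommRingCat.of Ω) ⟶ X // ζ ≫ f = η ≫ e},
      Spec (CommRingCat.of Ω) ⟶ ((EtCoh.bc fT).obj U').left,
      ∀ ζ, pt' ζ = (ptB fT ηT (h.lift ζ.1 ηT (ζ.2.trans hηe)) (hl2 ζ) U' u').left :=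
    ⟨_, fun _ => rfl⟩
  obtain ⟨ul, hul⟩ : ∃ ul : Spec (CommRingCat.of Ω) ⟶ U'.left, ul = u'.left := ⟨_, rfl⟩
  have hulw : ul ≫ U'.hom = ηT := hul ▸ fiber_w ηT U' u'
  have hpt1 : ∀ ζ, pt' ζ ≫ pullback.fst U'.hom fT = ul := fun ζ =>
    (congrArg (· ≫ pullback.fst U'.hom fT) (hpt' ζ)).trans
      ((ptB_left_fst fT ηT _ (hl2 ζ) U' u').trans hul.symm)
  have hpt2 : ∀ ζ, pt' ζ ≫ pullback.snd U'.hom fT = h.lift ζ.1 ηT (ζ.2.trans hηe) := fun ζ =>
    (congrArg (· ≫ pullback.snd U'.hom fT) (hpt' ζ)).trans (ptB_left_snd fT ηT _ (hl2 ζ) U' u')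
  have hulβ : ul ≫ β = η := by
    refine (cancel_mono e).mp ?_
    exact (Category.assoc _ _ _).trans ((congrArg (ul ≫ ·) hβ).trans
      ((Category.assoc _ _ _).symm.trans ((congrArg (· ≫ g) hulw).trans hηe.symm)))
  have hptpr : ∀ ζ : {ζ : Spec (CommRingCat.of Ω) ⟶ X // ζ ≫ f = η ≫ e},
      pt' ζ ≫ pr f g fT gT h e U' β hβ = zpt' f e η ζ.1 ζ.2 := by
    intro ζ
    apply pullback.hom_ext
    · refine (Category.assoc _ _ _).trans ((congrArg (pt' ζ ≫ ·) (pr_fst f g fT gT h e U' β hβ)).trans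
        ((Category.assoc _ _ _).symm.trans ((congrArg (· ≫ β) (hpt1 ζ)).trans (hulβ.trans ?_))))
      exact (ptG_left_fst f e η ζ.1 ζ.2 (EtCoh.top Y₀) (topPt η)).symm
    · refine (Category.assoc _ _ _).trans ((congrArg (pt' ζ ≫ ·) (pr_snd f g fT gT h e U' β hβ)).trans
        ((Category.assoc _ _ _).symm.trans ((congrArg (· ≫ gT) (hpt2 ζ)).trans ((hl1 ζ).trans ?_))))
      exact (ptG_left_snd f e η ζ.1 ζ.2 (EtCoh.top Y₀) (topPt η)).symm
  have sq := isPullback_pr f g fT gT h e U' β hβ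
  obtain ⟨U, u, h', hh', hpt⟩ := exists_lift_family_of_integral f e η p (fun ζ => pt' ζ ≫ Φm)
    (fun ζ => (Category.assoc _ _ _).trans ((congrArg (pt' ζ ≫ ·) hΦ).trans (hptpr ζ)))
    (by
      intro x
      obtain ⟨Bs, hBs⟩ := exists_finset_of_isPullback sq ul (Φm.appTop.hom x)
      refine ⟨Bs, fun ζ₁ ζ₂ hb => ?_⟩
      have h1 := hBs (pt' ζ₁) (pt' ζ₂) (hpt1 ζ₁) (hpt1 ζ₂) (by
        intro m hm
        rw [hptpr, hptpr]
        exact hb m hm)
      rw [evΓ_comp, evΓ_comp]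
      exact h1)
  refine ⟨U, u, h', hh', ?_⟩
  intro ξ' hξ' hζ
  refine (hpt ⟨ξ' ≫ gT, hζ⟩).trans ?_
  refine congrArg (· ≫ Φm) ?_
  refine (hpt' ⟨ξ' ≫ gT, hζ⟩).trans ?_
  apply ptB_left_congr
  apply h.hom_ext
  · exact h.lift_fst _ _ _
  · exact (h.lift_snd _ _ _).trans hξ'.symm

end LiftMap

section Core

variable {X Y XT T : Scheme.{u}} (f : X ⟶ Y) [IsIntegralHom f] (g : T ⟶ Y) (fT : XT ⟶ T)
  (gT : XT ⟶ X) (h : IsPullback gT fT f g)
variable {Ω : Type u} [Field Ω] [IsAlgClosed Ω] (ηT : Spec (CommRingCat.of Ω) ⟶ T)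
variable {Y₀ : Scheme.{u}} (e : Y₀ ⟶ Y) [IsOpenImmersion e] [IsAffine Y₀]
  (η : Spec (CommRingCat.of Ω) ⟶ Y₀) (hηe : η ≫ e = ηT ≫ g)

include hηe in
set_option backward.isDefEq.respectTransparency.types false in
set_option maxHeartbeats 4000000 in
/-- the core of the surjectivity of the base change map on stalks -/
theorem core (F : EtCoh.Ab X)
    (V' : T.Etale) (v' : (Φ ηT).fiber.obj V')
    (τ : ((EtCoh.pull gT).obj F).obj.obj (op ((EtCoh.bc fT).obj V')))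
    (U' : T.Etale) [IsAffine U'.left] (u' : (Φ ηT).fiber.obj U') (r : U' ⟶ V')
    (hr : (Φ ηT).fiber.map r u' = v')
    (β : U'.left ⟶ Y₀) (hβ : β ≫ e = U'.hom ≫ g)
    {ι : Type u} [Finite ι] (M : ι → XT.Etale) (m : ∀ i, M i ⟶ (EtCoh.bc fT).obj V')
    (hh : ((EtCoh.bc fT).obj U').left ⟶ ∐ fun i => (M i).left)
    (hfac : hh ≫ Sigma.desc (fun i => (m i).left) = ((EtCoh.bc fT).map r).left)
    (N : ι → X.Etale) (hNaff : ∀ i, IsAffine (N i).left)
    (hNo : ∀ i, Set.range (N i).hom ⊆ Set.range (s' f e))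
    (q : ∀ i, M i ⟶ (EtCoh.bc gT).obj (N i)) (s : ∀ i, F.obj.obj (op (N i)))
    (hs : ∀ i, ((EtCoh.pull gT).obj F).obj.map (m i).op τ =
      ((EtCoh.pull gT).obj F).obj.map (q i).op (unitSec gT F (N i) (s i))) :
    ∃ b : ToType ((Φ (ηT ≫ g)).presheafFiber.obj ((EtCoh.bc f).op ⋙ F.obj)),
      ∀ (ξ' : Spec (CommRingCat.of Ω) ⟶ XT) (hξ' : ξ' ≫ fT = ηT),
        (stalkPullIso gT ξ').hom.app F
          (can f (ηT ≫ g) (ξ' ≫ gT) (hζ_aux f g fT gT h.w ηT ξ' hξ') F.obj b) =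
        can fT ηT ξ' hξ' ((EtCoh.pull gT).obj F).obj
          ((Φ ηT).toPresheafFiber V' v' ((EtCoh.bc fT).op ⋙ ((EtCoh.pull gT).obj F).obj) τ) := by
  classical
  -- the affine étale scheme `Ñ` over `X ×_Y Y₀`
  let NS : ι → Scheme.{u} := fun i => (N i).left
  haveI : ∀ i, IsAffine (NS i) := hNaff
  let Ñ : Scheme.{u} := ∐ NS
  haveI : IsAffine Ñ := inferInstance
  let pN : ∀ i, NS i ⟶ X' f e := fun i => IsOpenImmersion.lift (s' f e) (N i).hom (hNo i)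
  have hpN : ∀ i, pN i ≫ s' f e = (N i).hom := fun i => IsOpenImmersion.lift_fac _ _ _
  have hpNet : ∀ i, Etale (pN i) := by
    intro i
    have h1 : EtCoh.etaleMP (s' f e) := inferInstanceAs (Etale (s' f e))
    have h2 : EtCoh.etaleMP (pN i ≫ s' f e) := by
      rw [hpN]
      exact (N i).prop
    exact EtCoh.etaleMP.of_postcomp (W' := EtCoh.etaleMP) (pN i) (s' f e) h1 h2
  let p : Ñ ⟶ X' f e := Sigma.desc pN
  haveI : Etale p := IsZariskiLocalAtSource.sigmaDesc (fun i => hpNet i)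
  have hp : ∀ i, Sigma.ι NS i ≫ p = pN i := fun i => Sigma.ι_desc _ _
  have hιps : ∀ i, Sigma.ι NS i ≫ p ≫ s' f e = (N i).hom := fun i =>
    (Category.assoc _ _ _).symm.trans ((congrArg (· ≫ s' f e) (hp i)).trans (hpN i))
  -- the map `Φm`
  let κ : ∀ i, (M i).left ⟶ Ñ := fun i =>
    (q i).left ≫ pullback.fst (N i).hom gT ≫ Sigma.ι NS i
  let Φm : ((EtCoh.bc fT).obj U').left ⟶ Ñ := hh ≫ Sigma.desc κ
  have hq : ∀ i, (q i).left ≫ pullback.snd (N i).hom gT = (M i).hom :=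
    fun i => MorphismProperty.Over.w (q i)
  have hm : ∀ i, (m i).left ≫ pullback.snd V'.hom fT = (M i).hom :=
    fun i => MorphismProperty.Over.w (m i)
  have hκ : ∀ i, κ i ≫ p ≫ s' f e = (m i).left ≫ pullback.snd V'.hom fT ≫ gT := by
    intro i
    have c1 : pullback.fst (N i).hom gT ≫ (N i).hom = pullback.snd (N i).hom gT ≫ gT :=
      pullback.condition
    have e0 : κ i ≫ p ≫ s' f e =
        (q i).left ≫ pullback.fst (N i).hom gT ≫ (Sigma.ι NS i ≫ p ≫ s' f e) :=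
      (Category.assoc _ _ _).trans (congrArg ((q i).left ≫ ·) (Category.assoc _ _ _))
    have e1 : (q i).left ≫ pullback.fst (N i).hom gT ≫ (Sigma.ι NS i ≫ p ≫ s' f e) =
        (q i).left ≫ pullback.fst (N i).hom gT ≫ (N i).hom :=
      congrArg (fun z => (q i).left ≫ pullback.fst (N i).hom gT ≫ z) (hιps i)
    have e2 : (q i).left ≫ pullback.fst (N i).hom gT ≫ (N i).hom =
        (q i).left ≫ pullback.snd (N i).hom gT ≫ gT := congrArg ((q i).left ≫ ·) c1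
    have e3 : (q i).left ≫ pullback.snd (N i).hom gT ≫ gT = (M i).hom ≫ gT :=
      (Category.assoc _ _ _).symm.trans (congrArg (· ≫ gT) (hq i))
    have e4 : (M i).hom ≫ gT = (m i).left ≫ pullback.snd V'.hom fT ≫ gT :=
      (congrArg (· ≫ gT) (hm i).symm).trans (Category.assoc _ _ _)
    exact e0.trans (e1.trans (e2.trans (e3.trans e4)))
  have hκ' : Sigma.desc κ ≫ p ≫ s' f e =
      Sigma.desc (fun i => (m i).left) ≫ pullback.snd V'.hom fT ≫ gT := by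
    apply Sigma.hom_ext
    intro i
    refine (Category.assoc _ _ _).symm.trans ((congrArg (· ≫ p ≫ s' f e) (Sigma.ι_desc κ i)).trans ?_)
    refine (hκ i).trans ?_
    refine Eq.trans ?_ (Category.assoc _ _ _)
    exact (congrArg (· ≫ pullback.snd V'.hom fT ≫ gT)
      (Sigma.ι_desc (fun i => (m i).left) i)).symm
  have hΦ : Φm ≫ p = pr f g fT gT h e U' β hβ := by
    refine (cancel_mono (s' f e)).mp ?_
    have r1 : ((EtCoh.bc fT).map r).left ≫ pullback.snd V'.hom fT = pullback.snd U'.hom fT :=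
      Groth.Agent.R2.H13.FinPtSplit.bc_map_left_snd fT r
    have e0 : (Φm ≫ p) ≫ s' f e = hh ≫ (Sigma.desc κ ≫ p ≫ s' f e) :=
      (Category.assoc _ _ _).trans (Category.assoc _ _ _)
    have e1 : hh ≫ (Sigma.desc κ ≫ p ≫ s' f e) =
        hh ≫ (Sigma.desc (fun i => (m i).left) ≫ pullback.snd V'.hom fT ≫ gT) :=
      congrArg (hh ≫ ·) hκ'
    have e2 : hh ≫ (Sigma.desc (fun i => (m i).left) ≫ pullback.snd V'.hom fT ≫ gT) =
        ((EtCoh.bc fT).map r).left ≫ pullback.snd V'.hom fT ≫ gT :=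
      (Category.assoc _ _ _).symm.trans (congrArg (· ≫ pullback.snd V'.hom fT ≫ gT) hfac)
    have e3 : ((EtCoh.bc fT).map r).left ≫ pullback.snd V'.hom fT ≫ gT =
        pullback.snd U'.hom fT ≫ gT :=
      (Category.assoc _ _ _).symm.trans (congrArg (· ≫ gT) r1)
    exact e0.trans (e1.trans (e2.trans (e3.trans (pr_snd f g fT gT h e U' β hβ).symm)))
  obtain ⟨U, u, h', hh', hpt⟩ := exists_lift_of_map f g fT gT h ηT e η hηe U' u' β hβ p Φm hΦ
  -- `Ñ` as an étale `X`-scheme, and the glued section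
  let ÑX : X.Etale := Scheme.Etale.mk (p ≫ s' f e)
  let aN : ∀ i, N i ⟶ ÑX := fun i => MorphismProperty.Over.homMk (Sigma.ι NS i) (hιps i) trivial
  have hopen : ∀ i, IsOpenImmersion (aN i).left :=
    fun i => inferInstanceAs (IsOpenImmersion (Sigma.ι NS i))
  have hdisj : ∀ i j, i ≠ j → Disjoint (Set.range (aN i).left) (Set.range (aN j).left) := by
    intro i j hij
    have hd := disjoint_opensRange_sigmaι NS i j hij
    rw [Set.disjoint_iff]
    rintro z ⟨hz1, hz2⟩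
    have : z ∈ ((Sigma.ι NS i).opensRange ⊓ (Sigma.ι NS j).opensRange : Ñ.Opens) := ⟨hz1, hz2⟩
    rw [disjoint_iff.mp hd] at this
    exact this
  have hcov : (⋃ i, Set.range (aN i).left) = Set.univ := by
    apply Set.eq_univ_of_forall
    intro z
    obtain ⟨i, w', hw'⟩ := (sigmaOpenCover NS).exists_eq z
    exact Set.mem_iUnion.2 ⟨i, ⟨w', hw'⟩⟩
  obtain ⟨sg, hsg, -⟩ := Groth.Agent.R2.H13.FinPush.existsUnique_glue aN hopen hdisj hcov
    (Groth.Agent.R2.H13.FinPush.isSheaf_forget F)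
    (fun i => (s i : (F.obj ⋙ forget AddCommGrpCat.{u + 1}).obj (op (N i))))
  have hGU : ((G f e).obj U).hom = ((G f e).map (toTop U)).left ≫ s' f e :=
    (Over.w ((G f e).map (toTop U)).hom).symm
  have hh'w : h' ≫ p ≫ s' f e = ((G f e).obj U).hom :=
    (Category.assoc _ _ _).symm.trans ((congrArg (· ≫ s' f e) hh').trans hGU.symm)
  let h'X : (G f e).obj U ⟶ ÑX := MorphismProperty.Over.homMk h' hh'w trivial
  let S : F.obj.obj (op ((G f e).obj U)) := F.obj.map h'X.op sg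
  obtain ⟨ul, hul⟩ : ∃ ul : Spec (CommRingCat.of Ω) ⟶ U.left, ul = u.left := ⟨_, rfl⟩
  have hulw : ul ≫ U.hom = η := hul ▸ fiber_w η U u
  have hu : ul ≫ U.hom ≫ e = ηT ≫ g :=
    (Category.assoc _ _ _).symm.trans ((congrArg (· ≫ e) hulw).trans hηe)
  let V : Y.Etale := (EtShriek.compEtale e).obj U
  let v : (Φ (ηT ≫ g)).fiber.obj V := Over.homMk ul hu
  refine ⟨(Φ (ηT ≫ g)).toPresheafFiber V v ((EtCoh.bc f).op ⋙ F.obj) S, ?_⟩
  intro ξ' hξ'
  have hζ0 : (ξ' ≫ gT) ≫ f = ηT ≫ g := hζ_aux f g fT gT h.w ηT ξ' hξ'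
  have hζ : (ξ' ≫ gT) ≫ f = η ≫ e := hζ0.trans hηe.symm
  -- the component containing the point
  obtain ⟨ptU, hptU⟩ : ∃ ptU : Spec (CommRingCat.of Ω) ⟶ ((EtCoh.bc fT).obj U').left,
      ptU = (ptB fT ηT ξ' hξ' U' u').left := ⟨_, rfl⟩
  have hptUw : ptU ≫ pullback.snd U'.hom fT = ξ' := hptU ▸ ptB_left_snd fT ηT ξ' hξ' U' u'
  obtain ⟨i, w, hw⟩ := exists_factor_sigma (fun i => (M i).left) (ptU ≫ hh)
  have hwm : w ≫ (m i).left = ptU ≫ ((EtCoh.bc fT).map r).left :=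
    (congrArg (w ≫ ·) (Sigma.ι_desc (fun i => (m i).left) i).symm).trans
      ((Category.assoc _ _ _).symm.trans ((congrArg (· ≫ Sigma.desc (fun i => (m i).left)) hw).trans
        ((Category.assoc _ _ _).trans (congrArg (ptU ≫ ·) hfac))))
  have r1 : ((EtCoh.bc fT).map r).left ≫ pullback.snd V'.hom fT = pullback.snd U'.hom fT :=
    Groth.Agent.R2.H13.FinPtSplit.bc_map_left_snd fT r
  have hwM : w ≫ (M i).hom = ξ' :=
    (congrArg (w ≫ ·) (hm i).symm).trans ((Category.assoc _ _ _).symm.trans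
      ((congrArg (· ≫ pullback.snd V'.hom fT) hwm).trans ((Category.assoc _ _ _).trans
        ((congrArg (ptU ≫ ·) r1).trans hptUw))))
  let wM : (Φ ξ').fiber.obj (M i) := Over.homMk w hwM
  have c1 : pullback.fst (N i).hom gT ≫ (N i).hom = pullback.snd (N i).hom gT ≫ gT :=
    pullback.condition
  have hwN : (w ≫ (q i).left ≫ pullback.fst (N i).hom gT) ≫ (N i).hom = ξ' ≫ gT :=
    (Category.assoc _ _ _).trans ((congrArg (w ≫ ·) ((Category.assoc _ _ _).trans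
      ((congrArg ((q i).left ≫ ·) c1).trans ((Category.assoc _ _ _).symm.trans
        (congrArg (· ≫ gT) (hq i)))))).trans
      ((Category.assoc _ _ _).symm.trans (congrArg (· ≫ gT) hwM)))
  let nN : (Φ (ξ' ≫ gT)).fiber.obj (N i) :=
    Over.homMk (w ≫ (q i).left ≫ pullback.fst (N i).hom gT) hwN
  -- the left hand side
  have L1 : can f (ηT ≫ g) (ξ' ≫ gT) hζ0 F.obj
      ((Φ (ηT ≫ g)).toPresheafFiber V v ((EtCoh.bc f).op ⋙ F.obj) S) =
      (Φ (ξ' ≫ gT)).toPresheafFiber ((EtCoh.bc f).obj V) (ptB f (ηT ≫ g) (ξ' ≫ gT) hζ0 V v)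
        F.obj S :=
    toFiber_can_apply f (ηT ≫ g) (ξ' ≫ gT) hζ0 F.obj V v S
  have L2 : (Φ (ξ' ≫ gT)).toPresheafFiber ((EtCoh.bc f).obj V)
      (ptB f (ηT ≫ g) (ξ' ≫ gT) hζ0 V v) F.obj S =
      (Φ (ξ' ≫ gT)).toPresheafFiber ÑX
        ((Φ (ξ' ≫ gT)).fiber.map h'X (ptB f (ηT ≫ g) (ξ' ≫ gT) hζ0 V v)) F.obj sg :=
    (Φ (ξ' ≫ gT)).toPresheafFiber_w_apply h'X (ptB f (ηT ≫ g) (ξ' ≫ gT) hζ0 V v) (P := F.obj) sg
  have L3 : (Φ (ξ' ≫ gT)).fiber.map h'X (ptB f (ηT ≫ g) (ξ' ≫ gT) hζ0 V v) =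
      (Φ (ξ' ≫ gT)).fiber.map (aN i) nN := by
    apply Over.OverMorphism.ext
    have a1 : (ptB f (ηT ≫ g) (ξ' ≫ gT) hζ0 V v).left = (ptG f e η (ξ' ≫ gT) hζ U u).left := by
      apply pullback.hom_ext
      · exact (ptB_left_fst f (ηT ≫ g) (ξ' ≫ gT) hζ0 V v).trans
          (hul.trans (ptG_left_fst f e η (ξ' ≫ gT) hζ U u).symm)
      · exact (ptB_left_snd f (ηT ≫ g) (ξ' ≫ gT) hζ0 V v).trans
          (ptG_left_snd f e η (ξ' ≫ gT) hζ U u).symm
    have a2 : (ptG f e η (ξ' ≫ gT) hζ U u).left ≫ h' = ptU ≫ Φm :=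
      (hpt ξ' hξ' hζ).trans (congrArg (· ≫ Φm) hptU.symm)
    have a3 : ptU ≫ Φm = (w ≫ (q i).left ≫ pullback.fst (N i).hom gT) ≫ Sigma.ι NS i :=
      (Category.assoc _ _ _).symm.trans ((congrArg (· ≫ Sigma.desc κ) hw.symm).trans
        ((Category.assoc _ _ _).trans ((congrArg (w ≫ ·) (Sigma.ι_desc κ i)).trans
          ((congrArg (w ≫ ·) (Category.assoc _ _ _).symm).trans (Category.assoc _ _ _).symm))))
    exact (congrArg (· ≫ h') a1).trans (a2.trans a3)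
  have L4 : (Φ (ξ' ≫ gT)).toPresheafFiber ÑX ((Φ (ξ' ≫ gT)).fiber.map (aN i) nN) F.obj sg =
      (Φ (ξ' ≫ gT)).toPresheafFiber (N i) nN F.obj (F.obj.map (aN i).op sg) :=
    ((Φ (ξ' ≫ gT)).toPresheafFiber_w_apply (aN i) nN (P := F.obj) sg).symm
  have L5 : F.obj.map (aN i).op sg = s i := hsg i
  have L6 := germ_compat gT ξ' F (N i) nN (s i)
  -- the right hand side
  have R0 : (Φ ηT).toPresheafFiber V' v' ((EtCoh.bc fT).op ⋙ ((EtCoh.pull gT).obj F).obj) τ =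
      (Φ ηT).toPresheafFiber U' u' ((EtCoh.bc fT).op ⋙ ((EtCoh.pull gT).obj F).obj)
        (((EtCoh.pull gT).obj F).obj.map ((EtCoh.bc fT).map r).op τ) := by
    rw [← hr]
    exact ((Φ ηT).toPresheafFiber_w_apply r u'
      (P := (EtCoh.bc fT).op ⋙ ((EtCoh.pull gT).obj F).obj) τ).symm
  have R1 : can fT ηT ξ' hξ' ((EtCoh.pull gT).obj F).obj
      ((Φ ηT).toPresheafFiber U' u' ((EtCoh.bc fT).op ⋙ ((EtCoh.pull gT).obj F).obj)
        (((EtCoh.pull gT).obj F).obj.map ((EtCoh.bc fT).map r).op τ)) =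
      (Φ ξ').toPresheafFiber ((EtCoh.bc fT).obj U') (ptB fT ηT ξ' hξ' U' u')
        ((EtCoh.pull gT).obj F).obj (((EtCoh.pull gT).obj F).obj.map ((EtCoh.bc fT).map r).op τ) :=
    toFiber_can_apply fT ηT ξ' hξ' ((EtCoh.pull gT).obj F).obj U' u' _
  have R2 : (Φ ξ').toPresheafFiber ((EtCoh.bc fT).obj U') (ptB fT ηT ξ' hξ' U' u')
        ((EtCoh.pull gT).obj F).obj (((EtCoh.pull gT).obj F).obj.map ((EtCoh.bc fT).map r).op τ) =
      (Φ ξ').toPresheafFiber ((EtCoh.bc fT).obj V')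
        ((Φ ξ').fiber.map ((EtCoh.bc fT).map r) (ptB fT ηT ξ' hξ' U' u'))
        ((EtCoh.pull gT).obj F).obj τ :=
    (Φ ξ').toPresheafFiber_w_apply ((EtCoh.bc fT).map r) (ptB fT ηT ξ' hξ' U' u')
      (P := ((EtCoh.pull gT).obj F).obj) τ
  have R3 : (Φ ξ').fiber.map ((EtCoh.bc fT).map r) (ptB fT ηT ξ' hξ' U' u') =
      (Φ ξ').fiber.map (m i) wM := by
    apply Over.OverMorphism.ext
    exact (congrArg (· ≫ ((EtCoh.bc fT).map r).left) hptU.symm).trans hwm.symm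
  have R4 : (Φ ξ').toPresheafFiber ((EtCoh.bc fT).obj V') ((Φ ξ').fiber.map (m i) wM)
        ((EtCoh.pull gT).obj F).obj τ =
      (Φ ξ').toPresheafFiber (M i) wM ((EtCoh.pull gT).obj F).obj
        (((EtCoh.pull gT).obj F).obj.map (m i).op τ) :=
    ((Φ ξ').toPresheafFiber_w_apply (m i) wM (P := ((EtCoh.pull gT).obj F).obj) τ).symm
  have R6 : (Φ ξ').toPresheafFiber (M i) wM ((EtCoh.pull gT).obj F).obj
        (((EtCoh.pull gT).obj F).obj.map (q i).op (unitSec gT F (N i) (s i))) =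
      (Φ ξ').toPresheafFiber ((EtCoh.bc gT).obj (N i)) ((Φ ξ').fiber.map (q i) wM)
        ((EtCoh.pull gT).obj F).obj (unitSec gT F (N i) (s i)) :=
    (Φ ξ').toPresheafFiber_w_apply (q i) wM (P := ((EtCoh.pull gT).obj F).obj) _
  have R7 : (Φ ξ').fiber.map (q i) wM = (fiberIso gT ξ').inv.app (N i) nN := by
    apply Over.OverMorphism.ext
    apply pullback.hom_ext
    · exact (Category.assoc _ _ _).trans (fiberIso_inv_left_fst gT ξ' (N i) nN).symm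
    · exact (Category.assoc _ _ _).trans ((congrArg (w ≫ ·) (hq i)).trans
        (hwM.trans (fiberIso_inv_left_snd gT ξ' (N i) nN).symm))
  -- conclusion
  refine (congrArg (fun x => (stalkPullIso gT ξ').hom.app F x)
    (L1.trans (L2.trans ((congrArg (fun pt => (Φ (ξ' ≫ gT)).toPresheafFiber ÑX pt F.obj sg) L3).trans
      (L4.trans (congrArg (fun x => (Φ (ξ' ≫ gT)).toPresheafFiber (N i) nN F.obj x) L5)))))).trans ?_
  refine L6.trans ?_
  refine Eq.trans ?_ (congrArg (fun x => can fT ηT ξ' hξ' ((EtCoh.pull gT).obj F).obj x) R0.symm)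
  refine Eq.trans ?_ R1.symm
  refine Eq.trans ?_ R2.symm
  refine Eq.trans ?_ (congrArg (fun pt => (Φ ξ').toPresheafFiber ((EtCoh.bc fT).obj V') pt
    ((EtCoh.pull gT).obj F).obj τ) R3.symm)
  refine Eq.trans ?_ R4.symm
  refine Eq.trans ?_ (congrArg (fun x => (Φ ξ').toPresheafFiber (M i) wM
    ((EtCoh.pull gT).obj F).obj x) (hs i).symm)
  refine Eq.trans ?_ R6.symm
  exact congrArg (fun pt => (Φ ξ').toPresheafFiber ((EtCoh.bc gT).obj (N i)) pt
    ((EtCoh.pull gT).obj F).obj (unitSec gT F (N i) (s i))) R7.symm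

end Core

section Main

variable {X Y XT T : Scheme.{u}} (f : X ⟶ Y) [IsIntegralHom f] (g : T ⟶ Y) (fT : XT ⟶ T)
  (gT : XT ⟶ X) (h : IsPullback gT fT f g)
variable {Ω : Type u} [Field Ω] [IsAlgClosed Ω] (ηT : Spec (CommRingCat.of Ω) ⟶ T)

set_option backward.isDefEq.respectTransparency.types false in
set_option maxHeartbeats 4000000 in
/-- every element of the stalk of `f'_* g'⁻¹ F` has the same images in the stalks of `g'⁻¹ F` as an element
coming from the stalk of `f_* F` -/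
theorem exists_preimage (F : EtCoh.Ab X)
    (c : ToType ((Φ ηT).presheafFiber.obj ((EtCoh.bc fT).op ⋙ ((EtCoh.pull gT).obj F).obj))) :
    ∃ b : ToType ((Φ (ηT ≫ g)).presheafFiber.obj ((EtCoh.bc f).op ⋙ F.obj)),
      ∀ (ξ' : Spec (CommRingCat.of Ω) ⟶ XT) (hξ' : ξ' ≫ fT = ηT),
        (stalkPullIso gT ξ').hom.app F
          (can f (ηT ≫ g) (ξ' ≫ gT) (hζ_aux f g fT gT h.w ηT ξ' hξ') F.obj b) =
        can fT ηT ξ' hξ' ((EtCoh.pull gT).obj F).obj c := by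
  classical
  haveI : IsIntegralHom fT := MorphismProperty.of_isPullback (P := @IsIntegralHom) h inferInstance
  obtain ⟨V'₀, v'₀, τ₀, rfl⟩ := (Φ ηT).toPresheafFiber_jointly_surjective c
  -- an affine open neighbourhood of the point in `Y`
  obtain ⟨O, hO, hyO, -⟩ := exists_isAffineOpen_mem_and_subset
    (x := (ηT ≫ g).base (default : Spec (CommRingCat.of Ω))) (U := (⊤ : Y.Opens)) trivial
  let Y₀ : Scheme.{u} := O
  haveI : IsAffine Y₀ := hO
  let e : Y₀ ⟶ Y := O.ι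
  have hrange : Set.range (ηT ≫ g) ⊆ Set.range e := by
    rintro _ ⟨x, rfl⟩
    rw [Scheme.Opens.range_ι, Subsingleton.elim x (default : Spec (CommRingCat.of Ω))]
    exact hyO
  obtain ⟨η, hηe⟩ : ∃ η : Spec (CommRingCat.of Ω) ⟶ Y₀, η ≫ e = ηT ≫ g :=
    ⟨IsOpenImmersion.lift e (ηT ≫ g) hrange, IsOpenImmersion.lift_fac _ _ _⟩
  -- shrink the neighbourhood so that it lies over `O`
  obtain ⟨vl₀, hvl₀⟩ : ∃ vl₀ : Spec (CommRingCat.of Ω) ⟶ V'₀.left, vl₀ = v'₀.left := ⟨_, rfl⟩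
  have hvl₀w : vl₀ ≫ V'₀.hom = ηT := hvl₀ ▸ fiber_w ηT V'₀ v'₀
  have hmem : (v'₀.left : Spec (CommRingCat.of Ω) ⟶ V'₀.left).base
      (default : Spec (CommRingCat.of Ω)) ∈ ((V'₀.hom ≫ g) ⁻¹ᵁ O : V'₀.left.Opens) := by
    rw [← hvl₀]
    change (vl₀ ≫ V'₀.hom ≫ g).base (default : Spec (CommRingCat.of Ω)) ∈ O
    have h1 : vl₀ ≫ V'₀.hom ≫ g = ηT ≫ g :=
      (Category.assoc _ _ _).symm.trans (congrArg (· ≫ g) hvl₀w)
    rw [h1]
    exact hyO
  obtain ⟨V', ρ₀, v', -, hv', hρ₀⟩ :=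
    exists_affine_refinement ηT V'₀ v'₀ ((V'₀.hom ≫ g) ⁻¹ᵁ O) hmem
  obtain ⟨τ, hτ⟩ : ∃ τ : ((EtCoh.pull gT).obj F).obj.obj (op ((EtCoh.bc fT).obj V')),
      τ = ((EtCoh.pull gT).obj F).obj.map ((EtCoh.bc fT).map ρ₀).op τ₀ := ⟨_, rfl⟩
  have hc : (Φ ηT).toPresheafFiber V'₀ v'₀ ((EtCoh.bc fT).op ⋙ ((EtCoh.pull gT).obj F).obj) τ₀ =
      (Φ ηT).toPresheafFiber V' v' ((EtCoh.bc fT).op ⋙ ((EtCoh.pull gT).obj F).obj) τ := by
    rw [← hv', hτ]
    exact ((Φ ηT).toPresheafFiber_w_apply ρ₀ v'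
      (P := (EtCoh.bc fT).op ⋙ ((EtCoh.pull gT).obj F).obj) τ₀).symm
  have hρ₀w : ρ₀.left ≫ V'₀.hom = V'.hom := MorphismProperty.Over.w ρ₀
  have hsubV : Set.range (V'.hom ≫ g) ⊆ Set.range e := by
    rintro _ ⟨z, rfl⟩
    rw [Scheme.Opens.range_ι]
    have h1 : (V'.hom ≫ g).base z = (V'₀.hom ≫ g).base (ρ₀.left.base z) := by
      rw [← hρ₀w]
      rfl
    rw [h1]
    exact hρ₀ ⟨z, rfl⟩
  let βV : V'.left ⟶ Y₀ := IsOpenImmersion.lift e (V'.hom ≫ g) hsubV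
  have hβV : βV ≫ e = V'.hom ≫ g := IsOpenImmersion.lift_fac _ _ _
  -- the covering sieve
  have hZ₀ : Set.range (((EtCoh.bc fT).obj V').hom ≫ gT) ⊆
      (((s' f e).opensRange : X.Opens) : Set X) := by
    rintro _ ⟨z, rfl⟩
    refine ⟨(pr f g fT gT h e V' βV hβV).base z, ?_⟩
    exact congrArg (fun k : ((EtCoh.bc fT).obj V').left ⟶ X => k.base z)
      (pr_snd f g fT gT h e V' βV hβV)
  have h𝒮 := secSieve_mem gT F (s' f e).opensRange ((EtCoh.bc fT).obj V') hZ₀ τ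
  obtain ⟨vl, hvl⟩ : ∃ vl : Spec (CommRingCat.of Ω) ⟶ V'.left, vl = v'.left := ⟨_, rfl⟩
  have hvlw : vl ≫ V'.hom = ηT := hvl ▸ fiber_w ηT V' v'
  obtain ⟨U'₁, r₁, y, hy, ι, hfin, M, m, hh₁, h𝒮m, hfac₁⟩ := exists_lift_sieve fT V'
    (secSieve gT F (s' f e).opensRange ((EtCoh.bc fT).obj V') τ) h𝒮
    (vl.base (default : Spec (CommRingCat.of Ω)))
  haveI : Finite ι := hfin
  -- lift the geometric point
  obtain ⟨l', hl'1, -⟩ := Scheme.exists_fac_of_etale_of_isSepClosed r₁.left vl y hy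
  have hr₁w : r₁.left ≫ V'.hom = U'₁.hom := MorphismProperty.Over.w r₁
  have hl'w : l' ≫ U'₁.hom = ηT :=
    (congrArg (l' ≫ ·) hr₁w.symm).trans ((Category.assoc _ _ _).symm.trans
      ((congrArg (· ≫ V'.hom) hl'1).trans hvlw))
  let u'₁ : (Φ ηT).fiber.obj U'₁ := Over.homMk l' hl'w
  have hu'₁ : (Φ ηT).fiber.map r₁ u'₁ = v' := by
    apply Over.OverMorphism.ext
    exact hl'1.trans hvl
  obtain ⟨U', ρ₁, u', hU'aff, hu', -⟩ := exists_affine_refinement ηT U'₁ u'₁ ⊤ trivial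
  haveI : IsAffine U'.left := hU'aff
  have hr : (Φ ηT).fiber.map (ρ₁ ≫ r₁) u' = v' := by
    rw [Functor.map_comp]
    change (Φ ηT).fiber.map r₁ ((Φ ηT).fiber.map ρ₁ u') = v'
    rw [hu', hu'₁]
  have hfac : (((EtCoh.bc fT).map ρ₁).left ≫ hh₁) ≫ Sigma.desc (fun i => (m i).left) =
      ((EtCoh.bc fT).map (ρ₁ ≫ r₁)).left := by
    refine (Category.assoc _ _ _).trans ((congrArg (((EtCoh.bc fT).map ρ₁).left ≫ ·) hfac₁).trans ?_)
    rw [Functor.map_comp]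
    rfl
  have hrw : (ρ₁ ≫ r₁).left ≫ V'.hom = U'.hom := MorphismProperty.Over.w (ρ₁ ≫ r₁)
  have hβ : ((ρ₁ ≫ r₁).left ≫ βV) ≫ e = U'.hom ≫ g :=
    (Category.assoc _ _ _).trans ((congrArg ((ρ₁ ≫ r₁).left ≫ ·) hβV).trans
      ((Category.assoc _ _ _).symm.trans (congrArg (· ≫ g) hrw)))
  choose N hNaff hNo q s hs using h𝒮m
  obtain ⟨b, hb⟩ := core f g fT gT h ηT e η hηe F V' v' τ U' u' (ρ₁ ≫ r₁) hr
    ((ρ₁ ≫ r₁).left ≫ βV) hβ M m (((EtCoh.bc fT).map ρ₁).left ≫ hh₁) hfac N hNaff hNo q s hs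
  refine ⟨b, fun ξ' hξ' => (hb ξ' hξ').trans ?_⟩
  exact congrArg (fun x => can fT ηT ξ' hξ' ((EtCoh.pull gT).obj F).obj x) hc.symm

set_option backward.isDefEq.respectTransparency.types false in
set_option maxHeartbeats 1000000 in
/-- on stalks at geometric points with algebraically closed residue field the base change map of an
integral morphism is bijective -/
theorem stalk_baseChange0_bijective (F : EtCoh.Ab X) :
    Function.Bijective ((EtCoh.stalk ηT).map (EtCoh.baseChange0 f g fT gT h.w F)) := by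
  haveI : IsIntegralHom fT := MorphismProperty.of_isPullback (P := @IsIntegralHom) h inferInstance
  have hiso1 : Function.Bijective ((stalkPullIso g ηT).hom.app ((EtCoh.push f).obj F)) :=
    ConcreteCategory.bijective_of_isIso _
  have hiso2 : ∀ ξ' : Spec (CommRingCat.of Ω) ⟶ XT,
      Function.Bijective ((stalkPullIso gT ξ').hom.app F) :=
    fun ξ' => ConcreteCategory.bijective_of_isIso _
  constructor
  · intro a a' haa'
    obtain ⟨b, rfl⟩ := hiso1.2 a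
    obtain ⟨b', rfl⟩ := hiso1.2 a'
    refine congrArg _ ?_
    apply can_injective_int f (ηT ≫ g) F.obj
      (Groth.Agent.R2.H13.FinPush.isSheaf_forget F).isSeparated b b'
    intro ξ hξ
    have hl1 : h.lift ξ ηT hξ ≫ gT = ξ := h.lift_fst _ _ _
    have hl2 : h.lift ξ ηT hξ ≫ fT = ηT := h.lift_snd _ _ _
    have c1 := can_baseChange f g fT gT h.w ηT (h.lift ξ ηT hξ) hl2 F b
    have c2 := can_baseChange f g fT gT h.w ηT (h.lift ξ ηT hξ) hl2 F b'
    have c3 := c1.symm.trans ((congrArg _ haa').trans c2)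
    have c4 := (hiso2 _).1 c3
    have key : ∀ (ζ : Spec (CommRingCat.of Ω) ⟶ X) (hζ : ζ ≫ f = ηT ≫ g), ζ = ξ →
        can f (ηT ≫ g) ζ hζ F.obj b = can f (ηT ≫ g) ζ hζ F.obj b' →
        can f (ηT ≫ g) ξ hξ F.obj b = can f (ηT ≫ g) ξ hξ F.obj b' := by
      rintro ζ hζ rfl h0
      exact h0
    exact key _ _ hl1 c4
  · intro c
    obtain ⟨b, hb⟩ := exists_preimage f g fT gT h ηT F c
    refine ⟨(stalkPullIso g ηT).hom.app _ b, ?_⟩
    apply can_injective_int fT ηT ((EtCoh.pull gT).obj F).obj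
      (Groth.Agent.R2.H13.FinPush.isSheaf_forget ((EtCoh.pull gT).obj F)).isSeparated
    intro ξ' hξ'
    exact (can_baseChange f g fT gT h.w ηT ξ' hξ' F b).trans (hb ξ' hξ')

/-- **Integral base change in degree zero**: for `f` integral the base change map
`g⁻¹ f_* F ⟶ f'_* g'⁻¹ F` is an isomorphism. -/
theorem isIso_baseChange0_of_integral (F : EtCoh.Ab X) :
    IsIso (EtCoh.baseChange0 f g fT gT h.w F) :=
  isIso_of_stalks_algClosed _ (fun _ _ _ ηT => stalk_baseChange0_bijective f g fT gT h ηT F)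

end Main

end Groth.Agent.R2.H13.IntBC
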