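import Groth.Agent.R2.H93KoszulLow
import Groth.Agent.S2103
import Groth.Agent.Lib.Helper13KzTor
import Groth.Agent.Lib.Helper5KoszulGor
import Groth.Agent.Lib.Helper13Tor
import Groth.Prelude.Def_CAlgX
import Groth.Prelude.Def_LCI2
import Mathlib

/-!
# Tor of powers of an ideal generated by a Koszul-regular sequence (helper13, S3196)

* `isH1Regular_of_isZero`: `H⁻¹(K(l)) = 0` implies `l` is `H₁`-regular (every relation is a combination
  of the trivial ones); builds on helper93's `H93KoszulLow`.
* `grEquiv`: for a quasi-regular sequence, `J^n/J^(n+1) ≃ (A/J) ⊗ H_n` with `H_n` the (free) module of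
  homogeneous polynomials of degree `n`.
* `isZero_tor_tensor_flat`: `Tor_i(H ⊗ Q, Y) = 0` if `Tor_i(Q, Y) = 0` and `H` flat.
* `nonempty_tor_iso_KH'`: Koszul homology computes `Tor(A/(l), -)` for Koszul-regular `l`.
* `isZero_tor_quot`, `tor_pow_vanish`, `tor_gr_vanish`: the vanishing statements.
-/

set_option autoImplicit false
universe u

namespace Groth.Agent.R2.H13.KoszulTor

open CategoryTheory CategoryTheory.Limits CochainComplex HomComplex MonoidalCategory TensorProduct CohIII
open Groth.Agent.Helper13Tor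

section H1
open Groth.Agent.R2.H93.KoszulLow

variable (A : Type u) [CommRing A]

/-- the submodule of trivial (Koszul) relations of a list -/
def triv (l : List A) : Submodule A (Fin l.length → A) :=
  Submodule.span A {v | ∃ i j : Fin l.length, v = Pi.single i (l.get j) - Pi.single j (l.get i)}

/-- prepend a zero coordinate -/
def shiftL (n : ℕ) : (Fin n → A) →ₗ[A] (Fin (n + 1) → A) where
  toFun v := Fin.cons 0 v
  map_add' v w := by
    funext i
    refine Fin.cases ?_ (fun j => ?_) i <;> simp
  map_smul' a v := by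
    funext i
    refine Fin.cases ?_ (fun j => ?_) i <;> simp

lemma shiftL_single (n : ℕ) (i : Fin n) (a : A) :
    shiftL A n (Pi.single i a) = Pi.single i.succ a := by
  funext k
  refine Fin.cases ?_ (fun j => ?_) k
  · simp [shiftL, Fin.succ_ne_zero, eq_comm]
  · simp [shiftL, Pi.single_apply]

lemma shiftL_mem_triv (f : A) (l : List A) (w : Fin l.length → A) (hw : w ∈ triv A l) :
    (shiftL A l.length w : Fin (f :: l).length → A) ∈ triv A (f :: l) := by
  unfold triv at hw
  induction hw using Submodule.span_induction with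
  | mem v hv =>
    obtain ⟨i, j, rfl⟩ := hv
    rw [map_sub, shiftL_single, shiftL_single]
    exact Submodule.subset_span ⟨i.succ, j.succ, rfl⟩
  | zero => rw [map_zero]; exact Submodule.zero_mem _
  | add x y _ _ hx hy => rw [map_add]; exact Submodule.add_mem _ hx hy
  | smul a x _ hx => rw [map_smul]; exact Submodule.smul_mem _ a hx

/-- boundaries from `K⁻²` have coordinates in the span of the trivial relations -/
lemma coord_d_mem_triv : ∀ (l : List A) (y : (Koszul.koszul A l).X (-2)),
    coord A l (((Koszul.koszul A l).d (-2) (-1)).hom y) ∈ triv A l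
  | [], y => by
      have : coord A [] (((Koszul.koszul A []).d (-2) (-1)).hom y) = 0 := by
        funext i; exact i.elim0
      rw [this]; exact Submodule.zero_mem _
  | f :: l, y => by
      set φ := (f • 𝟙 (Koszul.koszul A l)) with hφ
      set c := coord A l (cfst φ (-2) (-1) (by norm_num) y) with hc
      set w := coord A l (((Koszul.koszul A l).d (-2) (-1)).hom (csnd φ (-2) y)) with hw
      have key : coord A (f :: l) (((Koszul.koszul A (f :: l)).d (-2) (-1)).hom y) =
          (∑ k : Fin l.length, c k • ((Pi.single k.succ f - Pi.single 0 (l.get k) :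
            Fin (l.length + 1) → A))) + shiftL A l.length w := by
        funext i
        refine Fin.cases ?_ (fun j => ?_) (i : Fin (l.length + 1))
        · rw [coord_cons_zero]
          change eps A l (cfst φ (-1) 0 (by norm_num)
            (((mappingCone φ).d (-2) (-1)).hom y)) = _
          rw [cfst_d φ (-2) (-1) 0 (by norm_num) (by norm_num) y, map_neg, eps_d]
          simp only [Pi.add_apply, Finset.sum_apply, Pi.smul_apply, Pi.sub_apply, smul_eq_mul]
          simp [shiftL, Fin.succ_ne_zero, hc]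
        · rw [coord_cons_succ]
          change coord A l (csnd φ (-1) (((mappingCone φ).d (-2) (-1)).hom y)) j = _
          rw [csnd_d φ (-2) (-1) (by norm_num) y, map_add, smul_id_f_apply, map_smul]
          simp only [Pi.add_apply, Finset.sum_apply, Pi.smul_apply, Pi.sub_apply, smul_eq_mul]
          simp [shiftL, Pi.single_apply, hc, hw, Fin.succ_ne_zero, mul_comm]
      rw [key]
      refine Submodule.add_mem _ (Submodule.sum_mem _ fun k _ => Submodule.smul_mem _ _ ?_)
        (shiftL_mem_triv A f l w (coord_d_mem_triv l _))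
      exact Submodule.subset_span ⟨k.succ, 0, rfl⟩

/-- if `H⁻¹` of the Koszul complex vanishes, the sequence is `H₁`-regular -/
theorem isH1Regular_of_isZero (l : List A) (hH : IsZero ((Koszul.koszul A l).homology (-1))) :
    CAlgX.IsH1Regular (fun i : Fin l.length => l.get i) := by
  intro a ha
  obtain ⟨z, rfl⟩ := coord_surjective A l a
  have hdz : ((Koszul.koszul A l).d (-1) 0).hom z = 0 := by
    rw [← unit_eps A l (((Koszul.koszul A l).d (-1) 0).hom z), eps_d, ha, map_zero]
  have hex : (Koszul.koszul A l).ExactAt (-1) :=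
    (HomologicalComplex.exactAt_iff_isZero_homology _ _).2 hH
  rw [HomologicalComplex.exactAt_iff' _ (-2) (-1) 0 (by simp) (by simp),
    ShortComplex.moduleCat_exact_iff] at hex
  obtain ⟨y, hy⟩ := hex z hdz
  rw [← hy]
  exact coord_d_mem_triv A l y

end H1

section Gr

variable {A : Type u} [CommRing A] {c : ℕ} (f : Fin c → A)

/-- homogeneous polynomials of degree `n` -/
abbrev Hn (A : Type u) [CommRing A] (c n : ℕ) : Submodule A (MvPolynomial (Fin c) A) :=
  MvPolynomial.homogeneousSubmodule (Fin c) A n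

instance (n : ℕ) : Module.Free A (Hn A c n) :=
  Module.Free.of_equiv
    ((LinearEquiv.ofEq _ _ (MvPolynomial.homogeneousSubmodule_eq_finsupp_supported (Fin c) A n)).trans
      (AddMonoidAlgebra.supportedEquivFinsupp (R := A) (S := A) {d : Fin c →₀ ℕ | d.degree = n})).symm

/-- the submodule `J^(n+1)` of `J^n` -/
abbrev Kn (n : ℕ) : Submodule A ↥(Ideal.span (Set.range f) ^ n) :=
  Submodule.comap (Ideal.span (Set.range f) ^ n).subtype (Ideal.span (Set.range f) ^ (n + 1))

/-- evaluation of homogeneous polynomials of degree `n` at `f`, with values in `J^n` -/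
noncomputable def evPow (n : ℕ) : Hn A c n →ₗ[A] ↥(Ideal.span (Set.range f) ^ n) :=
  LinearMap.codRestrict (Ideal.span (Set.range f) ^ n)
    ((MvPolynomial.aeval f).toLinearMap.comp (Hn A c n).subtype) (fun P => by
      have := (Ideal.mem_span_pow_iff_exists_isHomogeneous f (MvPolynomial.eval f P.1)).2
        ⟨P.1, P.2, rfl⟩
      simpa [MvPolynomial.coe_aeval_eq_eval] using this)

lemma evPow_apply (n : ℕ) (P : Hn A c n) : ((evPow f n P : ↥(Ideal.span (Set.range f) ^ n)) : A) =
    MvPolynomial.eval f P.1 := by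
  simp [evPow]

/-- the map to the graded piece -/
noncomputable def Psi (n : ℕ) : Hn A c n →ₗ[A] (↥(Ideal.span (Set.range f) ^ n) ⧸ Kn f n) :=
  (Kn f n).mkQ ∘ₗ evPow f n

lemma Psi_surjective (n : ℕ) : Function.Surjective (Psi f n) := by
  intro y
  obtain ⟨x, rfl⟩ := (Kn f n).mkQ_surjective y
  obtain ⟨P, hP, hPx⟩ := (Ideal.mem_span_pow_iff_exists_isHomogeneous f x.1).1 x.2
  refine ⟨⟨P, hP⟩, ?_⟩
  change (Kn f n).mkQ (evPow f n ⟨P, hP⟩) = _
  congr 1
  apply Subtype.ext
  rw [evPow_apply, hPx]

lemma mem_smul_top_iff (n : ℕ) (I : Ideal A) (P : Hn A c n) :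
    P ∈ I • (⊤ : Submodule A (Hn A c n)) ↔ ∀ d, P.1.coeff d ∈ I := by
  rw [Submodule.mem_smul_top_iff]
  constructor
  · intro h
    refine Submodule.smul_induction_on h ?_ ?_
    · intro a ha Q _ d
      rw [MvPolynomial.coeff_smul]
      exact I.mul_mem_right _ ha
    · intro x y hx hy d
      rw [MvPolynomial.coeff_add]
      exact I.add_mem (hx d) (hy d)
  · intro h
    rw [← MvPolynomial.support_sum_monomial_coeff P.1]
    refine Submodule.sum_mem _ fun d hd => ?_
    have h1 : MvPolynomial.monomial d (P.1.coeff d) =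
        P.1.coeff d • (MvPolynomial.monomial d (1 : A)) := by
      rw [MvPolynomial.smul_monomial, smul_eq_mul, mul_one]
    rw [h1]
    refine Submodule.smul_mem_smul (h d) ?_
    have hdeg : d.degree = n := by
      by_contra hne
      exact (MvPolynomial.mem_support_iff.1 hd) (P.2.coeff_eq_zero hne)
    exact MvPolynomial.isHomogeneous_monomial 1 hdeg

lemma ker_Psi (hqr : CAlgX.IsQuasiRegular f) (n : ℕ) :
    LinearMap.ker (Psi f n) = Ideal.span (Set.range f) • (⊤ : Submodule A (Hn A c n)) := by
  ext P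
  rw [mem_smul_top_iff, LinearMap.mem_ker]
  change (Kn f n).mkQ (evPow f n P) = 0 ↔ _
  rw [Submodule.mkQ_apply, Submodule.Quotient.mk_eq_zero, Submodule.mem_comap,
    Submodule.subtype_apply, evPow_apply]
  constructor
  · intro h d
    exact hqr n P.1 P.2 h d
  · intro h
    -- eval f P = Σ coeff_d * f^d ∈ J * J^n
    rw [← MvPolynomial.support_sum_monomial_coeff P.1, map_sum]
    refine Ideal.sum_mem _ fun d hd => ?_
    have hdeg : d.degree = n := by
      by_contra hne
      exact (MvPolynomial.mem_support_iff.1 hd) (P.2.coeff_eq_zero hne)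
    have h1 : MvPolynomial.eval f (MvPolynomial.monomial d (1 : A)) ∈
        Ideal.span (Set.range f) ^ n :=
      (Ideal.mem_span_pow_iff_exists_isHomogeneous f _).2
        ⟨_, MvPolynomial.isHomogeneous_monomial 1 hdeg, rfl⟩
    have h2 : MvPolynomial.monomial d (P.1.coeff d) =
        MvPolynomial.C (P.1.coeff d) * (MvPolynomial.monomial d (1 : A)) := by
      rw [MvPolynomial.C_mul_monomial, mul_one]
    rw [h2, map_mul, MvPolynomial.eval_C, pow_succ']
    exact Ideal.mul_mem_mul (h d) h1

/-- the graded piece `J^n/J^(n+1)` of a quasi-regular sequence is `(A/J) ⊗ H_n` -/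
noncomputable def grEquiv (hqr : CAlgX.IsQuasiRegular f) (n : ℕ) :
    ((A ⧸ Ideal.span (Set.range f)) ⊗[A] Hn A c n) ≃ₗ[A]
      (↥(Ideal.span (Set.range f) ^ n) ⧸ Kn f n) :=
  (TensorProduct.quotTensorEquivQuotSMul (Hn A c n) (Ideal.span (Set.range f))) ≪≫ₗ
    (Submodule.quotEquivOfEq _ _ (ker_Psi f hqr n).symm) ≪≫ₗ
    (LinearMap.quotKerEquivOfSurjective (Psi f n) (Psi_surjective f n))

end Gr

section TorFlat

variable {R : Type u} [CommRing R]

/-- `Tor_i(H ⊗ Q, Y) = 0` if `Tor_i(Q, Y) = 0` and `H` is flat. -/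
theorem isZero_tor_tensor_flat (H Q Y : ModuleCat.{u} R) [Module.Flat R H] (i : ℕ)
    (h : IsZero (((Tor (ModuleCat.{u} R) i).obj Q).obj Y)) :
    IsZero (((Tor (ModuleCat.{u} R) i).obj (H ⊗ Q)).obj Y) := by
  let P := ProjectiveResolution.of Y
  have h1 : IsZero ((tC Q P.complex).homology i) := IsZero.of_iso h (torIso P Q i).symm
  refine IsZero.of_iso ?_ (torIso P (H ⊗ Q) i)
  rw [← HomologicalComplex.exactAt_iff_isZero_homology] at h1 ⊢
  have h1' : ((P.complex.sc i).map (tL Q)).Exact := h1
  have h2 : (((P.complex.sc i).map (tL Q)).map (tensorLeft H)).Exact :=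
    Module.Flat.lTensor_shortComplex_exact H _ h1'
  have e : (P.complex.sc i).map (tL (H ⊗ Q)) ≅ ((P.complex.sc i).map (tL Q)).map (tensorLeft H) :=
    (P.complex.sc i).mapNatIso (tensorLeftTensor H Q)
  exact (ShortComplex.exact_iff_of_iso e).2 h2

/-- `Tor` in the first variable is invariant under isomorphism -/
theorem isZero_tor_of_iso {X X' : ModuleCat.{u} R} (e : X ≅ X') (Y : ModuleCat.{u} R) (i : ℕ)
    (h : IsZero (((Tor (ModuleCat.{u} R) i).obj X).obj Y)) :
    IsZero (((Tor (ModuleCat.{u} R) i).obj X').obj Y) :=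
  IsZero.of_iso h (((Tor (ModuleCat.{u} R) i).mapIso e).app Y).symm

end TorFlat

section Main

variable {A : Type u} [CommRing A] {c : ℕ} (f : Fin c → A)

lemma pow_succ_le (n : ℕ) :
    Ideal.span (Set.range f) ^ (n + 1) ≤ Ideal.span (Set.range f) ^ n :=
  Ideal.pow_le_pow_right (Nat.le_succ n)

/-- the short exact sequence `0 → J^(n+1) → J^n → J^n/J^(n+1) → 0` -/
noncomputable def powSC (n : ℕ) : ShortComplex (ModuleCat.{u} A) :=
  ShortComplex.mk
    (ModuleCat.ofHom (Submodule.inclusion (pow_succ_le f n)))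
    (ModuleCat.ofHom (Kn f n).mkQ) (by
      ext x
      change (Kn f n).mkQ (Submodule.inclusion (pow_succ_le f n) x) = 0
      rw [Submodule.mkQ_apply, Submodule.Quotient.mk_eq_zero, Submodule.mem_comap]
      exact x.2)

theorem powSC_shortExact (n : ℕ) : (powSC f n).ShortExact := by
  refine ModuleCat.shortComplex_shortExact _ ?_ ?_ ?_
  · intro y
    constructor
    · intro hy
      change (Kn f n).mkQ y = 0 at hy
      rw [Submodule.mkQ_apply, Submodule.Quotient.mk_eq_zero, Submodule.mem_comap] at hy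
      exact ⟨⟨y.1, hy⟩, rfl⟩
    · rintro ⟨x, rfl⟩
      change (Kn f n).mkQ (Submodule.inclusion (pow_succ_le f n) x) = 0
      rw [Submodule.mkQ_apply, Submodule.Quotient.mk_eq_zero, Submodule.mem_comap]
      exact x.2
  · exact Submodule.inclusion_injective (pow_succ_le f n)
  · exact (Kn f n).mkQ_surjective

theorem tor_gr_vanish (hqr : CAlgX.IsQuasiRegular f) (Y : ModuleCat.{u} A)
    (i : ℕ)
    (h0 : IsZero (((Tor (ModuleCat.{u} A) i).obj
      (ModuleCat.of A (A ⧸ Ideal.span (Set.range f)))).obj Y))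
    (n : ℕ) :
    IsZero (((Tor (ModuleCat.{u} A) i).obj
      (ModuleCat.of A (↥(Ideal.span (Set.range f) ^ n) ⧸ Kn f n))).obj Y) := by
  have h1 := isZero_tor_tensor_flat (ModuleCat.of A (Hn A c n))
    (ModuleCat.of A (A ⧸ Ideal.span (Set.range f))) Y i h0
  let e : (ModuleCat.of A (Hn A c n)) ⊗ (ModuleCat.of A (A ⧸ Ideal.span (Set.range f))) ≅
      ModuleCat.of A (↥(Ideal.span (Set.range f) ^ n) ⧸ Kn f n) :=
    ((TensorProduct.comm A (Hn A c n) (A ⧸ Ideal.span (Set.range f))).trans
      (grEquiv f hqr n)).toModuleIso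
  exact isZero_tor_of_iso e Y i h1

theorem tor_pow_vanish (hqr : CAlgX.IsQuasiRegular f) (Y : ModuleCat.{u} A)
    (h0 : ∀ i : ℕ, 1 ≤ i → IsZero (((Tor (ModuleCat.{u} A) i).obj
      (ModuleCat.of A (A ⧸ Ideal.span (Set.range f)))).obj Y)) :
    ∀ (n i : ℕ), 1 ≤ i → IsZero (((Tor (ModuleCat.{u} A) i).obj
      (ModuleCat.of A ↥(Ideal.span (Set.range f) ^ n))).obj Y) := by
  intro n
  induction n with
  | zero =>
    intro i hi
    have : Module.Flat A ↥(Ideal.span (Set.range f) ^ 0) := by
      have e : ↥(Ideal.span (Set.range f) ^ 0) ≃ₗ[A] A :=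
        (LinearEquiv.ofEq _ _ (by rw [pow_zero, Ideal.one_eq_top])).trans Submodule.topEquiv
      exact Module.Flat.of_linearEquiv e
    exact isZero_tor_of_flat Y (ModuleCat.of A ↥(Ideal.span (Set.range f) ^ 0)) i hi
  | succ n ih =>
    intro i hi
    exact isZero_tor_X₁ (powSC f n) (powSC_shortExact f n) Y i
      (tor_gr_vanish f hqr Y (i + 1) (h0 (i + 1) (by omega)) n) (ih i hi)

end Main

section TorKoszul
open Groth.Agent.Helper13Kz Groth.Agent.Helper13KzLift Groth.Agent.Lib.Helper21

variable {A : Type u} [CommRing A]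

theorem isEffDelta_TK' (l : List A)
    (hl : ∀ i : ℤ, i ≠ 0 → IsZero ((koszulCx (ModuleCat.of A A) l).homology i)) :
    Helper13Delta.IsEffDelta (TK l) where
  exists_δ S hS n := by
    have hf : Function.Injective S.f.hom := (ModuleCat.mono_iff_injective _).mp hS.mono_f
    have hg : Function.Surjective S.g.hom := (ModuleCat.epi_iff_surjective _).mp hS.epi_g
    have hfg : Function.Exact S.f.hom S.g.hom :=
      (ShortComplex.ShortExact.moduleCat_exact_iff_function_exact S).mp hS.exact
    have hK := koszul_shortExact S.f S.g hf hg hfg l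
    have hij : (ComplexShape.up ℤ).Rel (-((n + 1 : ℕ) : ℤ)) (-(n : ℤ)) := by
      show -((n + 1 : ℕ) : ℤ) + 1 = -(n : ℤ)
      push_cast
      ring
    exact ⟨hK.δ _ _ hij, hK.comp_δ _ _ hij, hK.δ_comp _ _ hij, hK.homology_exact₃ _ _ hij,
      hK.homology_exact₁ _ _ hij⟩
  isZero_of_projective X _ n := by
    have : Module.Flat A X := inferInstance
    have h1 := isZero_homology_tensor_flat X (ModuleCat.of A A) l (-((n + 1 : ℕ) : ℤ))
      (hl _ (by push_cast; omega))
    exact IsZero.of_iso h1 ((TK l (n + 1)).mapIso (λ_ X)).symm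

/-- **Koszul homology of a Koszul-regular sequence computes Tor**. -/
theorem nonempty_tor_iso_KH' (l : List A)
    (hl : ∀ i : ℤ, i ≠ 0 → IsZero ((koszulCx (ModuleCat.of A A) l).homology i))
    (M : ModuleCat.{u} A) (n : ℕ) :
    Nonempty (((Tor (ModuleCat.{u} A) n).obj (ModuleCat.of A (A ⧸ Ideal.ofList l))).obj M ≅
      (koszulCx M l).homology (-(n : ℤ))) := by
  obtain ⟨e⟩ := nonempty_TK_zero_iso (A := A) l
  let P : ProjectiveResolution M := ProjectiveResolution.of M
  obtain ⟨e2⟩ := Helper13Delta.nonempty_iso (isEffDelta_TK' l hl) _ e P n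
  exact ⟨torIso P _ n ≪≫ e2.symm⟩

variable {A' : Type u} [CommRing A'] [Algebra A A']

/-- `Tor_i^A(A/(fs), A') = 0` for `i ≥ 1` when `fs` is Koszul-regular in `A` and its image is
Koszul-regular in `A'`. -/
theorem isZero_tor_quot (fs : List A) (hfs : LCI.IsKoszulRegularSeq A fs)
    (hfs' : LCI.IsKoszulRegularSeq A' (fs.map (algebraMap A A'))) (i : ℕ) (hi : 1 ≤ i) :
    IsZero (((Tor (ModuleCat.{u} A) i).obj (ModuleCat.of A (A ⧸ Ideal.ofList fs))).obj
      (ModuleCat.of A A')) := by
  have hl : ∀ i : ℤ, i ≠ 0 → IsZero ((koszulCx (ModuleCat.of A A) fs).homology i) := by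
    intro j hj
    exact (isZero_congr (koszul_eq A fs) j).mp (hfs j hj)
  obtain ⟨e⟩ := nonempty_tor_iso_KH' fs hl (ModuleCat.of A A') i
  refine IsZero.of_iso ?_ e
  have h1 : IsZero ((koszulCx (ModuleCat.of A' A') (fs.map (algebraMap A A'))).homology
      (-(i : ℤ))) :=
    (isZero_congr (koszul_eq A' _) _).mp (hfs' _ (by omega))
  have h2 := isZero_homology_restrict (algebraMap A A') (ModuleCat.of A' A') fs (-(i : ℤ)) h1
  let e0 : A' ≃ₗ[A] ((ModuleCat.restrictScalars (algebraMap A A')).obj (ModuleCat.of A' A')) :=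
    { toFun := fun t => t
      invFun := fun t => t
      left_inv := fun _ => rfl
      right_inv := fun _ => rfl
      map_add' := fun _ _ => rfl
      map_smul' := fun r t => Algebra.smul_def r t }
  let e' : ModuleCat.of A A' ≅
      ((ModuleCat.restrictScalars (algebraMap A A')).obj (ModuleCat.of A' A')) :=
    e0.toModuleIso
  exact IsZero.of_iso h2 ((TK fs i).mapIso e')

end TorKoszul

section Final

variable {A : Type u} [CommRing A] {A' : Type u} [CommRing A'] [Algebra A A']

theorem tor_vanish_of_koszulRegular (fs : List A) (hfs : LCI.IsKoszulRegularSeq A fs)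
    (hfs' : LCI.IsKoszulRegularSeq A' (fs.map (algebraMap A A'))) (n i : ℕ) (hi : 1 ≤ i) :
    IsZero (((Tor (ModuleCat.{u} A) i).obj
      (ModuleCat.of A ↥(Ideal.span {x | x ∈ fs} ^ n))).obj (ModuleCat.of A A')) ∧
    IsZero (((Tor (ModuleCat.{u} A) i).obj (ModuleCat.of A
      (↥(Ideal.span {x | x ∈ fs} ^ n) ⧸ Submodule.comap (Ideal.span {x | x ∈ fs} ^ n).subtype
        (Ideal.span {x | x ∈ fs} ^ (n + 1))))).obj (ModuleCat.of A A')) := by
  have h1reg := isH1Regular_of_isZero A fs (hfs (-1) (by norm_num))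
  have hqr := Groth.Agent.S2103.result (fun i : Fin fs.length => fs.get i) h1reg
  have hset : {x | x ∈ fs} = Set.range (fun i : Fin fs.length => fs.get i) :=
    (Set.range_list_get fs).symm
  have h0 : ∀ i : ℕ, 1 ≤ i → IsZero (((Tor (ModuleCat.{u} A) i).obj
      (ModuleCat.of A (A ⧸ Ideal.span (Set.range (fun i : Fin fs.length => fs.get i))))).obj
        (ModuleCat.of A A')) := by
    intro j hj
    have := isZero_tor_quot (A' := A') fs hfs hfs' j hj
    rw [← hset]
    exact this
  rw [hset]
  exact ⟨tor_pow_vanish _ hqr _ h0 n i hi, tor_gr_vanish _ hqr _ i (h0 i hi) n⟩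

end Final

end Groth.Agent.R2.H13.KoszulTor
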