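/-
helper13: pullback of the sheaf of locally constant functions; a criterion for the unit
`const ⟶ j_* j^* const` to be an isomorphism.
-/
import Mathlib
import Groth.Agent.R2.H13LCSheaf
import Groth.Agent.R2.H13FinBC

set_option autoImplicit false
set_option linter.style.haveILetI false
universe u

namespace Groth.Agent.R2.H13.LCPull

open CategoryTheory CategoryTheory.Limits AlgebraicGeometry Opposite
open Groth.Agent.R2.H13.LCSheaf
open Groth.Agent.Lib.Helper16.StalkPull Groth.Agent.S0100 Groth.Agent.S0101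

variable {X Y : Scheme.{u}} (f : X ⟶ Y) (M : Type) [AddCommGroup M]

/-- the projection `X ×_Y V → V` -/
noncomputable abbrev pr (V : Y.Etale) : ((EtCoh.bc f).obj V).left ⟶ V.left :=
  (pullback.fst V.hom f : ((EtCoh.bc f).obj V).left ⟶ V.left)

lemma bc_map_pr {V W : Y.Etale} (g : W ⟶ V) :
    ((EtCoh.bc f).map g).left ≫ pr f V = pr f W ≫ g.left :=
  (EtCoh.isPullback_bc_map f g).w

set_option backward.isDefEq.respectTransparency.types false in
/-- composition with the projections: `LC_Y ⟶ f_* LC_X` -/
noncomputable def aMap : LC Y M ⟶ (EtCoh.push f).obj (LC X M) where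
  hom :=
    { app := fun V => AddCommGrpCat.ofHom (AddEquiv.ulift.symm.toAddMonoidHom.comp
        ((LocallyConstant.comapAddMonoidHom (pr f V.unop).base.hom).comp
          AddEquiv.ulift.toAddMonoidHom))
      naturality := by
        intro V W g
        ext ⟨s⟩
        apply lcPre_ext
        intro z
        have h := congrArg (fun m => m.base z) (bc_map_pr f g.unop)
        exact congrArg s h.symm }

lemma aMap_down (V : Y.Etale) (s : ULift.{u + 1} (LocallyConstant V.left M))
    (z : ((EtCoh.bc f).obj V).left) :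
    (((aMap f M).hom.app (op V)).hom s).down z = s.down ((pr f V).base z) := rfl


section Ev

variable {Z : Scheme.{u}} {Ω : Type u} [Field Ω] [IsSepClosed Ω] (ζ : Spec (CommRingCat.of Ω) ⟶ Z)

/-- the image point of a geometric point of an étale `Z`-scheme -/
noncomputable def ptOf (V : Z.Etale) (v : (Scheme.pointSmallEtale ζ).fiber.obj V) : V.left :=
  (v.left : Spec (CommRingCat.of Ω) ⟶ V.left).base (default : Spec (CommRingCat.of Ω))

lemma ptOf_map {V W : Z.Etale} (g : W ⟶ V) (w : (Scheme.pointSmallEtale ζ).fiber.obj W) :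
    ptOf ζ V ((Scheme.pointSmallEtale ζ).fiber.map g w) = g.left.base (ptOf ζ W w) := rfl

/-- evaluation of a locally constant function at a geometric point -/
noncomputable def evAt (V : Z.Etale) (v : (Scheme.pointSmallEtale ζ).fiber.obj V) :
    (lcPre Z M).obj (op V) ⟶ AddCommGrpCat.of (ULift.{u + 1} M) :=
  AddCommGrpCat.ofHom
    { toFun := fun s => ULift.up (s.down (ptOf ζ V v))
      map_zero' := rfl
      map_add' := fun _ _ => rfl }

/-- evaluation on the stalk -/
noncomputable def ev : (EtCoh.stalk ζ).obj (LC Z M) ⟶ AddCommGrpCat.of (ULift.{u + 1} M) :=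
  (Scheme.pointSmallEtale ζ).presheafFiberDesc (P := lcPre Z M) (fun V v => evAt M ζ V v)
    (by
      intro V W g v
      ext ⟨s⟩
      rfl)

lemma ev_germ (V : Z.Etale) (v : (Scheme.pointSmallEtale ζ).fiber.obj V)
    (s : ULift.{u + 1} (LocallyConstant V.left M)) :
    (ev M ζ).hom ((Scheme.pointSmallEtale ζ).toPresheafFiber V v (lcPre Z M) s) =
      ULift.up (s.down (ptOf ζ V v)) := by
  have h := (Scheme.pointSmallEtale ζ).toPresheafFiber_presheafFiberDesc (P := lcPre Z M)
    (fun V v => evAt M ζ V v) (by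
      intro V W g v
      ext ⟨s⟩
      rfl) V v
  exact ConcreteCategory.congr_hom h s


set_option backward.isDefEq.respectTransparency.types false in
/-- a geometric point of `V` whose image lies in the open `N` lifts to `N` -/
lemma exists_lift_opens (V : Z.Etale) (v : (Scheme.pointSmallEtale ζ).fiber.obj V)
    (N : V.left.Opens) (hv : ptOf ζ V v ∈ N) :
    ∃ w : (Scheme.pointSmallEtale ζ).fiber.obj (opensObj V N),
      (Scheme.pointSmallEtale ζ).fiber.map (opensHom V N) w = v := by
  obtain ⟨vl, hvl⟩ : ∃ vl : Spec (CommRingCat.of Ω) ⟶ V.left, vl = v.left := ⟨_, rfl⟩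
  have hv' : vl.base (default : Spec (CommRingCat.of Ω)) ∈ (N : Set V.left) := by
    subst hvl
    exact hv
  have hsub : Set.range vl ⊆ Set.range N.ι := by
    rintro _ ⟨x, rfl⟩
    have hx : x = (default : Spec (CommRingCat.of Ω)) := Subsingleton.elim _ _
    have e : Set.range N.ι = (N : Set V.left) := Scheme.Opens.range_ι N
    rw [e, hx]
    exact hv'
  let l : Spec (CommRingCat.of Ω) ⟶ (N : Scheme.{u}) := IsOpenImmersion.lift N.ι vl hsub
  have hl : l ≫ N.ι = vl := IsOpenImmersion.lift_fac _ _ _
  have hw : l ≫ (N.ι ≫ V.hom) = ζ := by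
    rw [← Category.assoc, hl, hvl]
    exact Over.w v
  refine ⟨Over.homMk l hw, ?_⟩
  apply Over.OverMorphism.ext
  exact hl.trans hvl

set_option backward.isDefEq.respectTransparency.types false in
theorem ev_injective : Function.Injective (ev M ζ).hom := by
  intro p₁ p₂ h
  obtain ⟨V, v, s₁, s₂, rfl, rfl⟩ :=
    (Scheme.pointSmallEtale ζ).toPresheafFiber_jointly_surjective₂ (P := lcPre Z M) p₁ p₂
  have h' : s₁.down (ptOf ζ V v) = s₂.down (ptOf ζ V v) := by
    have := (ev_germ M ζ V v s₁).symm.trans (h.trans (ev_germ M ζ V v s₂))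
    exact congrArg ULift.down this
  -- the open set where `s₁ = s₂`
  obtain ⟨N₁, hN₁o, hvN₁, hN₁⟩ := (IsLocallyConstant.iff_exists_open _).1
    s₁.down.isLocallyConstant (ptOf ζ V v)
  obtain ⟨N₂, hN₂o, hvN₂, hN₂⟩ := (IsLocallyConstant.iff_exists_open _).1
    s₂.down.isLocallyConstant (ptOf ζ V v)
  let N : V.left.Opens := ⟨N₁ ∩ N₂, hN₁o.inter hN₂o⟩
  obtain ⟨w, hw⟩ := exists_lift_opens ζ V v N ⟨hvN₁, hvN₂⟩
  refine ((Scheme.pointSmallEtale ζ).toPresheafFiber_eq_iff' (P := lcPre Z M) V v s₁ s₂).2 ?_
  refine ⟨opensObj V N, opensHom V N, w, hw, ?_⟩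
  apply lcPre_ext
  intro n
  have l1 : (((lcPre Z M).map (opensHom V N).op).hom s₁).down n =
      s₁.down ((opensHom V N).left.base n) := rfl
  have l2 : (((lcPre Z M).map (opensHom V N).op).hom s₂).down n =
      s₂.down ((opensHom V N).left.base n) := rfl
  refine l1.trans (Eq.trans ?_ l2.symm)
  exact (hN₁ _ n.2.1).trans (h'.trans (hN₂ _ n.2.2).symm)

set_option backward.isDefEq.respectTransparency.types false in
theorem ev_surjective : Function.Surjective (ev M ζ).hom := by
  intro m
  let v : (Scheme.pointSmallEtale ζ).fiber.obj (EtCoh.top Z) :=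
    Over.homMk ζ (Category.comp_id ζ)
  refine ⟨(Scheme.pointSmallEtale ζ).toPresheafFiber (EtCoh.top Z) v (lcPre Z M)
    (ULift.up (LocallyConstant.const _ m.down)), ?_⟩
  exact ev_germ M ζ (EtCoh.top Z) v _

theorem ev_bijective : Function.Bijective (ev M ζ).hom :=
  ⟨ev_injective M ζ, ev_surjective M ζ⟩

end Ev


section PullLC

/-- the adjoint `f^* LC_Y ⟶ LC_X` of `aMap` -/
noncomputable def aAdj : (EtCoh.pull f).obj (LC Y M) ⟶ LC X M :=
  ((EtCoh.pullPushAdj f).homEquiv _ _).symm (aMap f M)

lemma unit_aAdj :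
    (EtCoh.pullPushAdj f).unit.app (LC Y M) ≫ (EtCoh.push f).map (aAdj f M) = aMap f M := by
  have h1 : ((EtCoh.pullPushAdj f).homEquiv _ _) (aAdj f M) = aMap f M :=
    Equiv.apply_symm_apply _ _
  exact ((EtCoh.pullPushAdj f).homEquiv_unit (f := aAdj f M)).symm.trans h1

set_option backward.isDefEq.respectTransparency.types false in
lemma aAdj_unit_apply (V : Y.Etale) (s : ULift.{u + 1} (LocallyConstant V.left M)) :
    ((aAdj f M).hom.app (op ((EtCoh.bc f).obj V))).hom
      ((((EtCoh.pullPushAdj f).unit.app (LC Y M)).hom.app (op V)).hom s) =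
    ((aMap f M).hom.app (op V)).hom s := by
  have h := congrArg (fun m => (m.hom.app (op V)).hom s) (unit_aAdj f M)
  exact h

variable {Ω : Type u} [Field Ω] [IsSepClosed Ω] (ξ : Spec (CommRingCat.of Ω) ⟶ X)

set_option backward.isDefEq.respectTransparency.types false in
lemma pr_ptOf (V : Y.Etale) (v : (Scheme.pointSmallEtale (ξ ≫ f)).fiber.obj V) :
    (pr f V).base (ptOf ξ ((EtCoh.bc f).obj V) ((fiberIso f ξ).inv.app V v)) =
      ptOf (ξ ≫ f) V v := by
  have h := Groth.Agent.R2.H13.FinBC.fiberIso_inv_left_fst f ξ V v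
  exact congrArg (fun m : Spec (CommRingCat.of Ω) ⟶ V.left =>
    m.base (default : Spec (CommRingCat.of Ω))) h

set_option backward.isDefEq.respectTransparency.types false in
/-- the stalk of `aAdj` is compatible with evaluation -/
theorem ev_stalk_aAdj (b : ToType ((EtCoh.stalk (ξ ≫ f)).obj (LC Y M))) :
    (ev M ξ).hom (((EtCoh.stalk ξ).map (aAdj f M)).hom
      (((stalkPullIso f ξ).hom.app (LC Y M)).hom b)) = (ev M (ξ ≫ f)).hom b := by
  obtain ⟨V, v, s, rfl⟩ := (Scheme.pointSmallEtale (ξ ≫ f)).toPresheafFiber_jointly_surjective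
    (P := lcPre Y M) b
  have s1 := germ_compat f ξ (LC Y M) V v s
  have s2 := (Scheme.pointSmallEtale ξ).toPresheafFiber_naturality_apply (aAdj f M).hom
    ((EtCoh.bc f).obj V) ((fiberIso f ξ).inv.app V v)
    ((((EtCoh.pullPushAdj f).unit.app (LC Y M)).hom.app (op V)).hom s)
  have s3 := aAdj_unit_apply f M V s
  have s4 := ev_germ M ξ ((EtCoh.bc f).obj V) ((fiberIso f ξ).inv.app V v)
    (((aMap f M).hom.app (op V)).hom s)
  have s5 := ev_germ M (ξ ≫ f) V v s
  have s6 := aMap_down f M V s (ptOf ξ ((EtCoh.bc f).obj V) ((fiberIso f ξ).inv.app V v))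
  have s7 := pr_ptOf f ξ V v
  refine (congrArg (fun x => (ev M ξ).hom (((EtCoh.stalk ξ).map (aAdj f M)).hom x)) s1).trans ?_
  refine (congrArg (fun x => (ev M ξ).hom x) s2).trans ?_
  refine (congrArg (fun x => (ev M ξ).hom ((Scheme.pointSmallEtale ξ).toPresheafFiber
    ((EtCoh.bc f).obj V) ((fiberIso f ξ).inv.app V v) (lcPre X M) x)) s3).trans ?_
  refine s4.trans ?_
  refine Eq.trans ?_ s5.symm
  exact congrArg ULift.up (s6.trans (congrArg (fun x => s.down x) s7))

set_option backward.isDefEq.respectTransparency.types false in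
/-- **the pullback of the sheaf of locally constant functions is the sheaf of locally constant
functions** -/
theorem isIso_aAdj : IsIso (aAdj f M) := by
  apply Groth.Agent.R2.H13.FinBC.isIso_of_stalks_algClosed
  intro Ω _ _ ξ
  have h2 : Function.Bijective ((stalkPullIso f ξ).hom.app (LC Y M)).hom :=
    ConcreteCategory.bijective_of_isIso _
  have h3 : (fun b => (ev M ξ).hom (((EtCoh.stalk ξ).map (aAdj f M)).hom
      (((stalkPullIso f ξ).hom.app (LC Y M)).hom b))) = fun b => (ev M (ξ ≫ f)).hom b :=
    funext (ev_stalk_aAdj f M ξ)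
  have h4 : Function.Bijective (fun b => (ev M ξ).hom (((EtCoh.stalk ξ).map (aAdj f M)).hom
      (((stalkPullIso f ξ).hom.app (LC Y M)).hom b))) := by
    rw [h3]
    exact ev_bijective M (ξ ≫ f)
  -- cancel the bijections on both sides
  have hEB : Function.Bijective ((fun c => (ev M ξ).hom c) ∘
      (fun c => ((EtCoh.stalk ξ).map (aAdj f M)).hom c)) :=
    (Function.Bijective.of_comp_iff _ h2).1 h4
  exact (Function.Bijective.of_comp_iff' (ev_bijective M ξ) _).1 hEB

end PullLC


section Master

set_option backward.isDefEq.respectTransparency.types false in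
theorem isIso_aMap (hbij : ∀ V : Y.Etale, Function.Bijective
    (fun φ : LocallyConstant V.left M => LocallyConstant.comap (pr f V).base.hom φ)) :
    IsIso (aMap f M) := by
  have h1 : IsIso (aMap f M).hom := by
    rw [NatTrans.isIso_iff_isIso_app]
    intro V
    rw [ConcreteCategory.isIso_iff_bijective]
    have hb := hbij V.unop
    constructor
    · intro s t hst
      apply lcPre_ext
      intro v
      have e : LocallyConstant.comap (pr f V.unop).base.hom s.down =
          LocallyConstant.comap (pr f V.unop).base.hom t.down := by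
        ext z
        exact congrArg (fun r : ULift.{u + 1} (LocallyConstant ((EtCoh.bc f).obj V.unop).left M) =>
          r.down z) hst
      exact congrArg (fun r : LocallyConstant V.unop.left M => r v) (hb.1 e)
    · intro t
      obtain ⟨φ, hφ⟩ := hb.2 t.down
      refine ⟨ULift.up φ, ?_⟩
      apply lcPre_ext
      intro z
      exact congrArg (fun r : LocallyConstant ((EtCoh.bc f).obj V.unop).left M => r z) hφ
  have h2 : IsIso ((sheafToPresheaf Y.smallEtaleTopology AddCommGrpCat.{u + 1}).map (aMap f M)) :=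
    h1
  exact isIso_of_reflects_iso (aMap f M)
    (sheafToPresheaf Y.smallEtaleTopology AddCommGrpCat.{u + 1})

set_option backward.isDefEq.respectTransparency.types false in
/-- **Criterion**: if for every étale `V → Y` composition with `X ×_Y V → V` is a bijection on
locally constant `M`-valued functions, then `const_Y M ⟶ f_* f^* const_Y M` is an isomorphism. -/
theorem isIso_unit_const (hbij : ∀ V : Y.Etale, Function.Bijective
    (fun φ : LocallyConstant V.left M => LocallyConstant.comap (pr f V).base.hom φ)) :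
    IsIso ((EtCoh.pullPushAdj f).unit.app (EtCoh.const Y M)) := by
  have h1 := isIso_aMap f M hbij
  have h2 := isIso_aAdj f M
  have h3 : IsIso ((EtCoh.pullPushAdj f).unit.app (LC Y M)) := by
    have e : (EtCoh.pullPushAdj f).unit.app (LC Y M) =
        aMap f M ≫ inv ((EtCoh.push f).map (aAdj f M)) := by
      rw [IsIso.eq_comp_inv]
      exact unit_aAdj f M
    rw [e]
    infer_instance
  have nat := (EtCoh.pullPushAdj f).unit.naturality (constToLC Y M)
  have e : (EtCoh.pullPushAdj f).unit.app (EtCoh.const Y M) =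
      constToLC Y M ≫ (EtCoh.pullPushAdj f).unit.app (LC Y M) ≫
        inv ((EtCoh.push f).map ((EtCoh.pull f).map (constToLC Y M))) := by
    rw [← Category.assoc, IsIso.eq_comp_inv]
    exact nat.symm
  rw [e]
  infer_instance

end Master

end Groth.Agent.R2.H13.LCPull
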