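/-
helper13: a topological criterion for restriction of locally constant functions along an
embedding to be bijective (used for `const ⟶ j_* j^* const` on normal schemes).
-/
import Mathlib.Topology.LocallyConstant.Basic
import Mathlib.Topology.Connected.Clopen
import Mathlib.Topology.Inseparable

set_option autoImplicit false

namespace Groth.Agent.R2.H13.LCTop

open Topology

variable {T T' : Type*} [TopologicalSpace T] [TopologicalSpace T'] {M : Type*}

/-- a set squeezed between a point and its closure is preconnected -/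
lemma isPreconnected_of_subset_closure_singleton {g : T} {S : Set T} (hg : g ∈ S)
    (hS : S ⊆ closure {g}) : IsPreconnected S :=
  (isPreconnected_singleton (x := g)).subset_closure (Set.singleton_subset_iff.mpr hg) hS

/-- **Restriction of locally constant functions along an embedding `p : T' → T` is bijective**
when every point of `T` has an open neighbourhood `N` contained in the closure of a point
`g ∈ N` which lies in the range of `p`. -/
theorem comap_bijective (p : T' → T) (hp : IsEmbedding p)
    (H : ∀ x : T, ∃ N : Set T, IsOpen N ∧ x ∈ N ∧ ∃ g ∈ N, g ∈ Set.range p ∧ N ⊆ closure {g}) :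
    Function.Bijective
      (fun φ : LocallyConstant T M => LocallyConstant.comap ⟨p, hp.continuous⟩ φ) := by
  classical
  choose N hNo hxN g hgN hgr hNg using H
  choose g' hg' using hgr
  -- key: a locally constant function on `T'` is constant on `p ⁻¹' (N x)`
  have hpre : ∀ x, IsPreconnected (p ⁻¹' (N x)) := by
    intro x
    have h1 : IsPreconnected (N x ∩ Set.range p) :=
      isPreconnected_of_subset_closure_singleton (g := g x) ⟨hgN x, ⟨g' x, hg' x⟩⟩
        (Set.inter_subset_left.trans (hNg x))
    rw [← hp.isInducing.isPreconnected_image, Set.image_preimage_eq_inter_range]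
    exact h1
  constructor
  · intro φ ψ h
    ext x
    have h1 : φ (g x) = ψ (g x) := by
      have := congrArg (fun f : LocallyConstant T' M => f (g' x)) h
      simpa [LocallyConstant.coe_comap, hg' x] using this
    have hx : x ∈ closure {g x} := hNg x (hxN x)
    have hS : IsPreconnected ({g x, x} : Set T) :=
      isPreconnected_of_subset_closure_singleton (g := g x) (Set.mem_insert _ _) (by
        intro y hy
        rcases hy with rfl | rfl
        · exact subset_closure rfl
        · exact hx)
    have e1 : φ x = φ (g x) :=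
      φ.isLocallyConstant.apply_eq_of_isPreconnected hS (Set.mem_insert_of_mem _ rfl)
        (Set.mem_insert _ _)
    have e2 : ψ x = ψ (g x) :=
      ψ.isLocallyConstant.apply_eq_of_isPreconnected hS (Set.mem_insert_of_mem _ rfl)
        (Set.mem_insert _ _)
    rw [e1, e2, h1]
  · intro χ
    let φ : T → M := fun x => χ (g' x)
    have hconst : ∀ x x', x' ∈ N x → φ x' = φ x := by
      intro x x' hx'
      -- `g x ⤳ x'`, so `g x ∈ N x'`
      have hsp : g x ⤳ x' := specializes_iff_mem_closure.mpr (hNg x hx')
      have h1 : g x ∈ N x' := hsp.mem_open (hNo x') (hxN x')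
      have h2 : g' x ∈ p ⁻¹' (N x') := by
        show p (g' x) ∈ N x'
        rw [hg' x]; exact h1
      have h3 : g' x' ∈ p ⁻¹' (N x') := by
        show p (g' x') ∈ N x'
        rw [hg' x']; exact hgN x'
      exact χ.isLocallyConstant.apply_eq_of_isPreconnected (hpre x') h3 h2
    have hφ : IsLocallyConstant φ := by
      rw [IsLocallyConstant.iff_exists_open]
      intro x
      exact ⟨N x, hNo x, hxN x, fun x' hx' => hconst x x' hx'⟩
    refine ⟨⟨φ, hφ⟩, ?_⟩
    ext t
    show χ (g' (p t)) = χ t
    have h2 : g' (p t) ∈ p ⁻¹' (N (p t)) := by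
      show p (g' (p t)) ∈ N (p t)
      rw [hg' (p t)]; exact hgN (p t)
    have h3 : t ∈ p ⁻¹' (N (p t)) := hxN (p t)
    exact χ.isLocallyConstant.apply_eq_of_isPreconnected (hpre (p t)) h2 h3


/-- the locus where two locally constant functions agree is clopen -/
lemma isClopen_eqLocus (φ ψ : LocallyConstant T M) : IsClopen {x | φ x = ψ x} := by
  constructor
  · rw [← isOpen_compl_iff, isOpen_iff_forall_mem_open]
    intro x hx
    obtain ⟨N₁, hN₁o, hxN₁, hN₁⟩ := (IsLocallyConstant.iff_exists_open _).1 φ.isLocallyConstant x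
    obtain ⟨N₂, hN₂o, hxN₂, hN₂⟩ := (IsLocallyConstant.iff_exists_open _).1 ψ.isLocallyConstant x
    refine ⟨N₁ ∩ N₂, ?_, hN₁o.inter hN₂o, ⟨hxN₁, hxN₂⟩⟩
    intro y hy hy'
    exact hx ((hN₁ y hy.1).symm.trans (hy'.trans (hN₂ y hy.2)))
  · rw [isOpen_iff_forall_mem_open]
    intro x hx
    obtain ⟨N₁, hN₁o, hxN₁, hN₁⟩ := (IsLocallyConstant.iff_exists_open _).1 φ.isLocallyConstant x
    obtain ⟨N₂, hN₂o, hxN₂, hN₂⟩ := (IsLocallyConstant.iff_exists_open _).1 ψ.isLocallyConstant x
    refine ⟨N₁ ∩ N₂, ?_, hN₁o.inter hN₂o, ⟨hxN₁, hxN₂⟩⟩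
    intro y hy
    exact (hN₁ y hy.1).trans (hx.trans (hN₂ y hy.2).symm)

/-- **Restriction of locally constant functions along a dense open embedding `p : T' → T` is
bijective** when the range is locally quasi-compact in `T` and complementary open pieces of the
range have disjoint closures. -/
theorem comap_bijective_of_qc (p : T' → T) (hp : IsOpenEmbedding p) (hd : DenseRange p)
    (hqc : ∀ x : T, ∃ N : Set T, IsOpen N ∧ x ∈ N ∧ IsCompact (N ∩ Set.range p))
    (hQ : ∀ O O' : Set T, IsOpen O → IsOpen O' → O ∪ O' = Set.range p → Disjoint O O' →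
      Disjoint (closure O) (closure O')) :
    Function.Bijective
      (fun φ : LocallyConstant T M => LocallyConstant.comap ⟨p, hp.continuous⟩ φ) := by
  classical
  constructor
  · intro φ ψ h
    ext x
    have hcl := isClopen_eqLocus φ ψ
    have hsub : Set.range p ⊆ {x | φ x = ψ x} := by
      rintro _ ⟨t, rfl⟩
      have := congrArg (fun f : LocallyConstant T' M => f t) h
      simpa [LocallyConstant.coe_comap] using this
    have : closure (Set.range p) ⊆ {x | φ x = ψ x} := hcl.1.closure_subset_iff.2 hsub
    exact this (hd x)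
  · intro χ
    let O : M → Set T := fun m => p '' (χ ⁻¹' {m})
    let O' : M → Set T := fun m => p '' (χ ⁻¹' {m})ᶜ
    have hOo : ∀ m, IsOpen (O m) := fun m =>
      hp.isOpenMap _ (χ.isLocallyConstant.isOpen_fiber m)
    have hO'o : ∀ m, IsOpen (O' m) := fun m =>
      hp.isOpenMap _ (χ.isLocallyConstant.isClopen_fiber m).compl.isOpen
    have hunion : ∀ m, O m ∪ O' m = Set.range p := by
      intro m
      rw [← Set.image_union, Set.union_compl_self, Set.image_univ]
    have hdisj : ∀ m, Disjoint (O m) (O' m) := by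
      intro m
      exact (Set.disjoint_image_iff hp.injective).2 disjoint_compl_right
    have hcl : ∀ m, Disjoint (closure (O m)) (closure (O' m)) := fun m =>
      hQ _ _ (hOo m) (hO'o m) (hunion m) (hdisj m)
    have hsub : ∀ m m', m' ≠ m → O m' ⊆ O' m := by
      intro m m' hne
      apply Set.image_mono
      intro t ht
      simp only [Set.mem_preimage, Set.mem_singleton_iff] at ht
      simp only [Set.mem_compl_iff, Set.mem_preimage, Set.mem_singleton_iff]
      rw [ht]; exact hne
    have hAdisj : ∀ m m', m' ≠ m → Disjoint (closure (O m)) (closure (O m')) := fun m m' hne =>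
      (hcl m).mono_right (closure_mono (hsub m m' hne))
    -- local finiteness
    have hloc : ∀ x : T, ∃ (N : Set T) (F : Finset M), IsOpen N ∧ x ∈ N ∧
        N ⊆ ⋃ m ∈ F, closure (O m) := by
      intro x
      obtain ⟨N, hNo, hxN, hNc⟩ := hqc x
      obtain ⟨F, hF⟩ := hNc.elim_finite_subcover O hOo (by
        rintro _ ⟨-, t, rfl⟩
        exact Set.mem_iUnion.2 ⟨χ t, ⟨t, rfl, rfl⟩⟩)
      refine ⟨N, F, hNo, hxN, ?_⟩
      intro y hy
      have h1 : y ∈ closure (N ∩ Set.range p) :=
        hNo.inter_closure ⟨hy, hd y⟩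
      have h2 : closure (N ∩ Set.range p) ⊆ ⋃ m ∈ F, closure (O m) := by
        rw [← Finset.closure_biUnion]
        exact closure_mono hF
      exact h2 h1
    have hex : ∀ x : T, ∃ m, x ∈ closure (O m) := by
      intro x
      obtain ⟨N, F, -, hxN, hNF⟩ := hloc x
      obtain ⟨m, -, hm⟩ := Set.mem_iUnion₂.1 (hNF hxN)
      exact ⟨m, hm⟩
    choose φ hφ using hex
    have huniq : ∀ x m, x ∈ closure (O m) → φ x = m := by
      intro x m hm
      by_contra hne
      exact Set.disjoint_left.1 (hAdisj m (φ x) hne) hm (hφ x)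
    have hφlc : IsLocallyConstant φ := by
      rw [IsLocallyConstant.iff_exists_open]
      intro x
      obtain ⟨N, F, hNo, hxN, hNF⟩ := hloc x
      let C : Set T := ⋃ m ∈ F.erase (φ x), closure (O m)
      have hC : IsClosed C :=
        (F.erase (φ x)).finite_toSet.isClosed_biUnion (fun m _ => isClosed_closure)
      refine ⟨N ∩ Cᶜ, hNo.inter hC.isOpen_compl, ⟨hxN, ?_⟩, ?_⟩
      · intro hx
        obtain ⟨m, hm, hxm⟩ := Set.mem_iUnion₂.1 hx
        exact (Finset.ne_of_mem_erase hm) (huniq x m hxm).symm
      · rintro y ⟨hyN, hyC⟩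
        obtain ⟨m, hm, hym⟩ := Set.mem_iUnion₂.1 (hNF hyN)
        by_cases hmx : m = φ x
        · rw [huniq y m hym, hmx]
        · exfalso
          apply hyC
          exact Set.mem_iUnion₂.2 ⟨m, Finset.mem_erase.2 ⟨hmx, hm⟩, hym⟩
    refine ⟨⟨φ, hφlc⟩, ?_⟩
    ext t
    show φ (p t) = χ t
    exact huniq (p t) (χ t) (subset_closure ⟨t, rfl, rfl⟩)

end Groth.Agent.R2.H13.LCTop
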