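/-
helper13: étale algebras over a normal domain are locally irreducible (algebraic part).
-/
import Mathlib
import Groth.Agent.Lib.Helper3EtNormal

set_option autoImplicit false
set_option linter.style.haveILetI false
universe u

namespace Groth.Agent.R2.H13.NormalAlg

open TensorProduct

section Unique

variable {B : Type*} [CommRing B]

/-- if `B_q` is a domain there is only one minimal prime below `q` -/
theorem eq_comap_bot_of_mem_minimalPrimes (q : Ideal B) [q.IsPrime]
    [IsDomain (Localization.AtPrime q)] {p : Ideal B} (hp : p ∈ minimalPrimes B) (hpq : p ≤ q) :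
    p = (⊥ : Ideal (Localization.AtPrime q)).comap (algebraMap B (Localization.AtPrime q)) := by
  have hpp : p.IsPrime := hp.1.1
  have hk : ((⊥ : Ideal (Localization.AtPrime q)).comap
      (algebraMap B (Localization.AtPrime q))).IsPrime :=
    Ideal.comap_isPrime _ _
  have hkp : (⊥ : Ideal (Localization.AtPrime q)).comap (algebraMap B (Localization.AtPrime q)) ≤ p := by
    intro x hx
    rw [Ideal.mem_comap, Ideal.mem_bot] at hx
    obtain ⟨⟨s, hs⟩, hsx⟩ := (IsLocalization.map_eq_zero_iff q.primeCompl _ x).1 hx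
    have h1 : s * x ∈ p := by rw [hsx]; exact p.zero_mem
    rcases hpp.mem_or_mem h1 with h | h
    · exact absurd (hpq h) hs
    · exact h
  exact le_antisymm (hp.2 ⟨hk, bot_le⟩ hkp) hkp

theorem minimalPrime_unique (q : Ideal B) [q.IsPrime] [IsDomain (Localization.AtPrime q)]
    {p p' : Ideal B} (hp : p ∈ minimalPrimes B) (hp' : p' ∈ minimalPrimes B)
    (hpq : p ≤ q) (hp'q : p' ≤ q) : p = p' :=
  (eq_comap_bot_of_mem_minimalPrimes q hp hpq).trans
    (eq_comap_bot_of_mem_minimalPrimes q hp' hp'q).symm

end Unique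

section Etale

variable (A B : Type u) [CommRing A] [IsDomain A] [CommRing B] [Algebra A B] [Algebra.Etale A B]

/-- every minimal prime of an étale algebra over a domain is the contraction of a prime of
`K ⊗ B`, `K` the fraction field -/
theorem exists_comap_of_mem_minimalPrimes {p : Ideal B} (hp : p ∈ minimalPrimes B) :
    ∃ P : PrimeSpectrum (FractionRing A ⊗[A] B),
      P.asIdeal.comap (Algebra.TensorProduct.includeRight (R := A) (A := FractionRing A) (B := B)).toRingHom
        = p := by
  have hinj : Function.Injective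
      (Algebra.TensorProduct.includeRight (R := A) (A := FractionRing A) (B := B)).toRingHom :=
    Algebra.TensorProduct.includeRight_injective (IsFractionRing.injective A (FractionRing A))
  obtain ⟨P, hP, hPp⟩ := Ideal.exists_comap_eq_of_mem_minimalPrimes_of_injective hinj p hp
  exact ⟨⟨P, hP⟩, hPp⟩

include A in
theorem finite_minimalPrimes : (minimalPrimes B).Finite := by
  haveI : Module.Finite (FractionRing A) (FractionRing A ⊗[A] B) :=
    Algebra.FormallyUnramified.finite_of_free (FractionRing A) (FractionRing A ⊗[A] B)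
  haveI : IsArtinianRing (FractionRing A ⊗[A] B) := IsArtinianRing.of_finite (FractionRing A) _
  refine (Set.finite_range (fun P : PrimeSpectrum (FractionRing A ⊗[A] B) =>
    P.asIdeal.comap (Algebra.TensorProduct.includeRight (R := A) (A := FractionRing A)
      (B := B)).toRingHom)).subset ?_
  intro p hp
  exact exists_comap_of_mem_minimalPrimes A B hp

theorem comap_eq_bot_of_mem_minimalPrimes {p : Ideal B} (hp : p ∈ minimalPrimes B) :
    p.comap (algebraMap A B) = ⊥ := by
  obtain ⟨P, rfl⟩ := exists_comap_of_mem_minimalPrimes A B hp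
  rw [eq_bot_iff]
  intro a ha
  rw [Ideal.mem_bot]
  by_contra hne
  rw [Ideal.mem_comap, Ideal.mem_comap] at ha
  have h1 : (Algebra.TensorProduct.includeRight (R := A) (A := FractionRing A) (B := B)).toRingHom
      (algebraMap A B a) = algebraMap (FractionRing A) (FractionRing A ⊗[A] B)
        (algebraMap A (FractionRing A) a) := by
    have e1 : (Algebra.TensorProduct.includeRight (R := A) (A := FractionRing A) (B := B)).toRingHom
        (algebraMap A B a) = algebraMap A (FractionRing A ⊗[A] B) a :=
      (Algebra.TensorProduct.includeRight (R := A) (A := FractionRing A) (B := B)).commutes a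
    exact e1.trans (IsScalarTower.algebraMap_apply A (FractionRing A) (FractionRing A ⊗[A] B) a)
  rw [h1] at ha
  have hu : IsUnit (algebraMap A (FractionRing A) a) :=
    IsUnit.mk0 _ (by simpa using hne)
  have hu' : IsUnit (algebraMap (FractionRing A) (FractionRing A ⊗[A] B)
      (algebraMap A (FractionRing A) a)) := hu.map _
  exact P.isPrime.ne_top (Ideal.eq_top_of_isUnit_mem _ ha hu')


/-- **local irreducibility**: every point of `Spec B` (`B` étale over the domain `A`, with all local
rings of `B` domains) has an open neighbourhood contained in the closure of a point lying over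
the generic point of `Spec A`. -/
theorem exists_irreducible_nhd
    (hB : ∀ (Q : Ideal B) [Q.IsPrime], IsDomain (Localization.AtPrime Q)) (q : PrimeSpectrum B) :
    ∃ N : Set (PrimeSpectrum B), IsOpen N ∧ q ∈ N ∧ ∃ g ∈ N,
      g.asIdeal.comap (algebraMap A B) = ⊥ ∧ N ⊆ closure {g} := by
  classical
  haveI := hB q.asIdeal
  obtain ⟨p₀, hp₀, hp₀q⟩ := Ideal.exists_minimalPrimes_le (bot_le : (⊥ : Ideal B) ≤ q.asIdeal)
  have hp₀p : p₀.IsPrime := hp₀.1.1
  let g : PrimeSpectrum B := ⟨p₀, hp₀p⟩
  have hfin := finite_minimalPrimes A B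
  -- the closed set: union of the other irreducible components
  let C : Set (PrimeSpectrum B) := ⋃ p ∈ (minimalPrimes B) \ {p₀}, PrimeSpectrum.zeroLocus (p : Set B)
  have hC : IsClosed C :=
    (hfin.subset Set.diff_subset).isClosed_biUnion (fun p _ => PrimeSpectrum.isClosed_zeroLocus _)
  have hmin : ∀ r : PrimeSpectrum B, ∃ p ∈ minimalPrimes B, p ≤ r.asIdeal := fun r =>
    Ideal.exists_minimalPrimes_le (bot_le : (⊥ : Ideal B) ≤ r.asIdeal)
  refine ⟨Cᶜ, hC.isOpen_compl, ?_, g, ?_, comap_eq_bot_of_mem_minimalPrimes A B hp₀, ?_⟩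
  · -- `q ∉ C`
    intro hq
    simp only [C, Set.mem_iUnion, exists_prop] at hq
    obtain ⟨p, ⟨hp, hpne⟩, hpq⟩ := hq
    rw [PrimeSpectrum.mem_zeroLocus] at hpq
    exact hpne (minimalPrime_unique q.asIdeal hp hp₀ hpq hp₀q)
  · -- `g ∉ C`
    intro hg
    simp only [C, Set.mem_iUnion, exists_prop] at hg
    obtain ⟨p, ⟨hp, hpne⟩, hpg⟩ := hg
    rw [PrimeSpectrum.mem_zeroLocus] at hpg
    have hpp : p.IsPrime := hp.1.1
    exact hpne (le_antisymm hpg (hp₀.2 ⟨hpp, bot_le⟩ hpg))
  · intro r hr
    rw [PrimeSpectrum.closure_singleton, PrimeSpectrum.mem_zeroLocus]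
    obtain ⟨p, hp, hpr⟩ := hmin r
    by_cases hpe : p = p₀
    · subst hpe
      exact hpr
    · exfalso
      apply hr
      simp only [C, Set.mem_iUnion, exists_prop]
      exact ⟨p, ⟨hp, hpe⟩, (PrimeSpectrum.mem_zeroLocus _ _).2 hpr⟩

/-- the same for étale algebras over a **normal** domain -/
theorem exists_irreducible_nhd_of_normal [IsIntegrallyClosed A] (q : PrimeSpectrum B) :
    ∃ N : Set (PrimeSpectrum B), IsOpen N ∧ q ∈ N ∧ ∃ g ∈ N,
      g.asIdeal.comap (algebraMap A B) = ⊥ ∧ N ⊆ closure {g} :=
  exists_irreducible_nhd A B (fun Q _ =>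
    (Groth.Agent.Lib.Helper3.EtNormal.isDomain_and_isIntegrallyClosed_localization A B Q).1) q

end Etale

end Groth.Agent.R2.H13.NormalAlg
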