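/-
helper13: schemes étale over a normal integral scheme are locally irreducible, with generic
points over the generic point of the base.
-/
import Mathlib
import Groth.Prelude.Def_Pi1
import Groth.Agent.R2.H13NormalAlg
import Groth.Agent.Lib.Helper4NormIso

set_option autoImplicit false
set_option linter.style.haveILetI false
universe u

namespace Groth.Agent.R2.H13.NormalLI

open CategoryTheory CategoryTheory.Limits AlgebraicGeometry

set_option backward.isDefEq.respectTransparency.types false in
/-- **Local irreducibility of étale schemes over a normal integral scheme**: every point of `V`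
has an open neighbourhood contained in the closure of a point lying over the generic point. -/
theorem exists_irreducible_nhd {V X : Scheme.{u}} [IsIntegral X] (hX : Pi1.IsNormalScheme X)
    (h : V ⟶ X) [Etale h] (v : V) :
    ∃ N : Set V, IsOpen N ∧ v ∈ N ∧ ∃ g ∈ N, h.base g = genericPoint X ∧ N ⊆ closure {g} := by
  obtain ⟨_, ⟨U, hU, rfl⟩, hvU, -⟩ := X.isBasis_affineOpens.exists_subset_of_mem_open
    (Set.mem_univ (h.base v)) isOpen_univ
  obtain ⟨_, ⟨W, hW, rfl⟩, hvW, hWU⟩ := V.isBasis_affineOpens.exists_subset_of_mem_open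
    (show v ∈ (h ⁻¹ᵁ U : Set V) from hvU) (h ⁻¹ᵁ U).isOpen
  haveI : Nonempty U := ⟨⟨h.base v, hvU⟩⟩
  haveI : IsDomain Γ(X, U) := IsIntegral.component_integral U
  haveI : IsIntegrallyClosed Γ(X, U) :=
    Groth.Agent.Lib.Helper4.NormIso.isIntegrallyClosed_sections hX U hU
  have het : (h.appLE U W hWU).hom.Etale := Etale.etale_appLE h hU hW hWU
  letI := (h.appLE U W hWU).hom.toAlgebra
  haveI : Algebra.Etale Γ(X, U) Γ(V, W) := het
  obtain ⟨N', hN'o, hqN', g', hg'N', hg'bot, hN'cl⟩ :=
    Groth.Agent.R2.H13.NormalAlg.exists_irreducible_nhd_of_normal Γ(X, U) Γ(V, W)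
      (hW.primeIdealOf ⟨v, hvW⟩)
  refine ⟨hW.fromSpec.base '' N', hW.fromSpec.isOpenEmbedding.isOpenMap _ hN'o,
    ⟨_, hqN', hW.fromSpec_primeIdealOf ⟨v, hvW⟩⟩, hW.fromSpec.base g', ⟨g', hg'N', rfl⟩, ?_, ?_⟩
  · -- the image of `g'` in `X` is the generic point
    have e1 : h.base (hW.fromSpec.base g') =
        hU.fromSpec.base ((Spec.map (h.appLE U W hWU)).base g') := by
      have := congrArg (fun m => m.base g') (IsAffineOpen.SpecMap_appLE_fromSpec h hU hW hWU)
      exact this.symm
    have e2 : (Spec.map (h.appLE U W hWU)).base g' = (⊥ : PrimeSpectrum Γ(X, U)) := by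
      apply PrimeSpectrum.ext
      exact hg'bot
    have e3 : hU.fromSpec.base (genericPoint (Spec Γ(X, U))) = genericPoint X :=
      genericPoint_eq_of_isOpenImmersion hU.fromSpec
    rw [e1, e2, ← genericPoint_eq_bot_of_affine Γ(X, U)]
    exact e3
  · have hc := image_closure_subset_closure_image (s := ({g'} : Set (Spec Γ(V, W))))
      hW.fromSpec.continuous
    have e : (hW.fromSpec.base '' ({g'} : Set (Spec Γ(V, W)))) = {hW.fromSpec.base g'} :=
      Set.image_singleton
    exact (Set.image_mono hN'cl).trans (hc.trans (le_of_eq (congrArg closure e)))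

end Groth.Agent.R2.H13.NormalLI
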