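/-
helper13: on a normal integral scheme `X`, the constant sheaf is `j_* j^*` of itself for every
preimmersion `j` whose image contains the generic point.
-/
import Mathlib
import Groth.Agent.R2.H13LCPull
import Groth.Agent.R2.H13LCTop
import Groth.Agent.R2.H13NormalLI

set_option autoImplicit false
set_option linter.style.haveILetI false
universe u

namespace Groth.Agent.R2.H13.NormalConst

open CategoryTheory CategoryTheory.Limits AlgebraicGeometry Opposite
open Groth.Agent.R2.H13.LCPull

set_option backward.isDefEq.respectTransparency.types false in
/-- the topological input: restriction of locally constant functions along `U ×_X V → V` -/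
theorem comap_pr_bijective {U X : Scheme.{u}} [IsIntegral X] (hX : Pi1.IsNormalScheme X)
    (j : U ⟶ X) [IsPreimmersion j] (hη : genericPoint X ∈ Set.range j.base)
    (M : Type) (V : X.Etale) :
    Function.Bijective (fun φ : LocallyConstant V.left M =>
      LocallyConstant.comap (pr j V).base.hom φ) := by
  have hpre : IsPreimmersion (pr j V) :=
    inferInstanceAs (IsPreimmersion (pullback.fst V.hom j))
  have hemb : Topology.IsEmbedding (pr j V).base := (pr j V).isEmbedding
  have hrange : Set.range (pr j V).base = V.hom.base ⁻¹' Set.range j.base :=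
    Scheme.Pullback.range_fst V.hom j
  have H : ∀ x : V.left, ∃ N : Set V.left, IsOpen N ∧ x ∈ N ∧ ∃ g ∈ N,
      g ∈ Set.range (pr j V).base ∧ N ⊆ closure {g} := by
    intro x
    obtain ⟨N, hNo, hxN, g, hgN, hg, hNg⟩ :=
      Groth.Agent.R2.H13.NormalLI.exists_irreducible_nhd hX V.hom x
    refine ⟨N, hNo, hxN, g, hgN, ?_, hNg⟩
    rw [hrange]
    show V.hom.base g ∈ Set.range j.base
    rw [hg]
    exact hη
  exact Groth.Agent.R2.H13.LCTop.comap_bijective (pr j V).base hemb H

/-- **Main theorem**: for `X` normal integral and `j : U → X` a preimmersion through which the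
generic point factors, `const_X M ⟶ j_* j^* const_X M` is an isomorphism. -/
theorem isIso_unit_const_of_normal {U X : Scheme.{u}} [IsIntegral X] (hX : Pi1.IsNormalScheme X)
    (j : U ⟶ X) [IsPreimmersion j] (hη : genericPoint X ∈ Set.range j.base)
    (M : Type) [AddCommGroup M] :
    IsIso ((EtCoh.pullPushAdj j).unit.app (EtCoh.const X M)) :=
  isIso_unit_const j M (fun V => comap_pr_bijective hX j hη M V)

end Groth.Agent.R2.H13.NormalConst
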