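/-
helper13: closures of quasi-compact opens in spectra; extension of locally constant functions
from retrocompact dense opens of schemes with domain local rings.
-/
import Mathlib

set_option autoImplicit false
set_option linter.style.haveILetI false
universe u

namespace Groth.Agent.R2.H13.NormalQc

open PrimeSpectrum

section Spec

variable {B : Type*} [CommRing B]

/-- points in the closure of a basic open are specializations of its points -/
theorem exists_le_of_mem_closure_basicOpen (f : B) (x : PrimeSpectrum B)
    (hx : x ∈ closure (basicOpen f : Set (PrimeSpectrum B))) :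
    ∃ y : PrimeSpectrum B, y ∈ (basicOpen f : Set (PrimeSpectrum B)) ∧ y ≤ x := by
  rw [← localization_away_comap_range (Localization.Away f) f, closure_range_comap,
    mem_zeroLocus, SetLike.coe_subset_coe] at hx
  obtain ⟨p, hp, hpx⟩ := Ideal.exists_minimalPrimes_le hx
  rw [RingHom.ker_eq_comap_bot] at hp
  obtain ⟨p', hp', -, hpp'⟩ := Ideal.exists_comap_eq_of_mem_minimalPrimes
    (algebraMap B (Localization.Away f)) p hp
  refine ⟨comap (algebraMap B (Localization.Away f)) ⟨p', hp'⟩, ?_, ?_⟩
  · rw [← localization_away_comap_range (Localization.Away f) f]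
    exact ⟨_, rfl⟩
  · show (comap (algebraMap B (Localization.Away f)) ⟨p', hp'⟩).asIdeal ≤ x.asIdeal
    rw [comap_asIdeal, hpp']
    exact hpx

/-- points in the closure of a quasi-compact open are specializations of its points -/
theorem exists_le_of_mem_closure {O : Set (PrimeSpectrum B)} (hO : IsOpen O) (hc : IsCompact O)
    (x : PrimeSpectrum B) (hx : x ∈ closure O) : ∃ y ∈ O, y ≤ x := by
  obtain ⟨s, hs, rfl⟩ := (isCompact_open_iff_eq_finite_iUnion_of_isTopologicalBasis
    (fun r : B => (basicOpen r : Set (PrimeSpectrum B)))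
    isTopologicalBasis_basic_opens (fun r => isCompact_basicOpen r) O).1 ⟨hc, hO⟩
  rw [hs.closure_biUnion] at hx
  simp only [Set.mem_iUnion, exists_prop] at hx
  obtain ⟨r, hr, hxr⟩ := hx
  obtain ⟨y, hy, hyx⟩ := exists_le_of_mem_closure_basicOpen r x hxr
  exact ⟨y, Set.mem_biUnion hr hy, hyx⟩

/-- if the local ring at `x` is a domain, two quasi-compact opens whose closures both contain `x`
meet -/
theorem not_disjoint_of_mem_closure (x : PrimeSpectrum B)
    [IsDomain (Localization.AtPrime x.asIdeal)] {O O' : Set (PrimeSpectrum B)}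
    (hO : IsOpen O) (hc : IsCompact O) (hO' : IsOpen O') (hc' : IsCompact O')
    (hx : x ∈ closure O) (hx' : x ∈ closure O') : (O ∩ O').Nonempty := by
  obtain ⟨y, hy, hyx⟩ := exists_le_of_mem_closure hO hc x hx
  obtain ⟨y', hy', hy'x⟩ := exists_le_of_mem_closure hO' hc' x hx'
  -- the generic point of the local ring at `x`
  have hk : ((⊥ : Ideal (Localization.AtPrime x.asIdeal)).comap
      (algebraMap B (Localization.AtPrime x.asIdeal))).IsPrime := Ideal.comap_isPrime _ _
  let g : PrimeSpectrum B := ⟨_, hk⟩
  have hg : ∀ z : PrimeSpectrum B, z ≤ x → g ≤ z := by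
    intro z hzx a ha
    have ha' : algebraMap B (Localization.AtPrime x.asIdeal) a = 0 := ha
    obtain ⟨⟨s, hs⟩, hsa⟩ := (IsLocalization.map_eq_zero_iff x.asIdeal.primeCompl _ a).1 ha'
    have h1 : s * a ∈ z.asIdeal := by rw [hsa]; exact z.asIdeal.zero_mem
    rcases z.isPrime.mem_or_mem h1 with h | h
    · exact absurd (hzx h) hs
    · exact h
  have h1 : g ∈ O := ((le_iff_specializes g y).1 (hg y hyx)).mem_open hO hy
  have h2 : g ∈ O' := ((le_iff_specializes g y').1 (hg y' hy'x)).mem_open hO' hy'
  exact ⟨g, h1, h2⟩

end Spec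

end Groth.Agent.R2.H13.NormalQc
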