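/-
helper13: on a normal scheme `X`, `const_X M ⟶ j_* j^* const_X M` is an isomorphism for every
quasi-compact dense open immersion `j`.
-/
import Mathlib
import Groth.Prelude.Def_Pi1
import Groth.Agent.R2.H13LCPull
import Groth.Agent.R2.H13LCTop
import Groth.Agent.R2.H13NormalQc
import Groth.Agent.Lib.Helper6SmNorm

set_option autoImplicit false
set_option linter.style.haveILetI false
universe u

namespace Groth.Agent.R2.H13.NormalQcSch

open CategoryTheory CategoryTheory.Limits AlgebraicGeometry Opposite
open Groth.Agent.R2.H13.LCPull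

set_option backward.isDefEq.respectTransparency.types false in
/-- sections of a normal scheme over an affine open form a normal ring -/
theorem isNormalRing_sections {X : Scheme.{u}} (hX : Pi1.IsNormalScheme X) (U : X.Opens)
    (hU : IsAffineOpen U) : EGA4.IsNormalRing Γ(X, U) := by
  intro p hp
  let y : PrimeSpectrum Γ(X, U) := ⟨p, hp⟩
  have hy : hU.fromSpec y ∈ (U : Set X) := by
    rw [← hU.range_fromSpec]; exact ⟨y, rfl⟩
  letI := TopCat.Presheaf.algebra_section_stalk X.presheaf ⟨hU.fromSpec y, hy⟩
  haveI : IsLocalization p.primeCompl (X.presheaf.stalk (hU.fromSpec y)) :=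
    hU.isLocalization_stalk' y hy
  let e : Localization.AtPrime p ≃ₐ[Γ(X, U)] X.presheaf.stalk (hU.fromSpec y) :=
    IsLocalization.algEquiv p.primeCompl _ _
  exact Groth.Agent.Lib.Helper6.EtNormal.normal_of_ringEquiv e.toRingEquiv (hX (hU.fromSpec y))

set_option backward.isDefEq.respectTransparency.types false in
/-- every point of a scheme étale over a normal scheme has an affine open neighbourhood whose
ring of sections has domain local rings -/
theorem exists_affine_nhd_isDomain {V X : Scheme.{u}} (hX : Pi1.IsNormalScheme X)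
    (h : V ⟶ X) [Etale h] (v : V) :
    ∃ (W : V.Opens) (_ : IsAffineOpen W), v ∈ W ∧
      ∀ (Q : Ideal Γ(V, W)) [Q.IsPrime], IsDomain (Localization.AtPrime Q) := by
  obtain ⟨_, ⟨U, hU, rfl⟩, hvU, -⟩ := X.isBasis_affineOpens.exists_subset_of_mem_open
    (Set.mem_univ (h.base v)) isOpen_univ
  obtain ⟨_, ⟨W, hW, rfl⟩, hvW, hWU⟩ := V.isBasis_affineOpens.exists_subset_of_mem_open
    (show v ∈ (h ⁻¹ᵁ U : Set V) from hvU) (h ⁻¹ᵁ U).isOpen
  have hA := isNormalRing_sections hX U hU
  have het : (h.appLE U W hWU).hom.Etale := Etale.etale_appLE h hU hW hWU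
  letI := (h.appLE U W hWU).hom.toAlgebra
  haveI : Algebra.Etale Γ(X, U) Γ(V, W) := het
  have hB := Groth.Agent.Lib.Helper6.SmNorm.isNormalRing_of_smooth Γ(X, U) Γ(V, W) hA
  exact ⟨W, hW, hvW, fun Q _ => (hB Q).1⟩


set_option backward.isDefEq.respectTransparency.types false in
/-- the topological input for quasi-compact dense open immersions into normal schemes -/
theorem comap_pr_bijective {U X : Scheme.{u}} (hX : Pi1.IsNormalScheme X)
    (j : U ⟶ X) [IsOpenImmersion j] [QuasiCompact j] (hj : Dense (Set.range j.base))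
    (M : Type) (V : X.Etale) :
    Function.Bijective (fun φ : LocallyConstant V.left M =>
      LocallyConstant.comap (pr j V).base.hom φ) := by
  have hoi : IsOpenImmersion (pr j V) :=
    inferInstanceAs (IsOpenImmersion (pullback.fst V.hom j))
  have hqc : QuasiCompact (pr j V) :=
    inferInstanceAs (QuasiCompact (pullback.fst V.hom j))
  have hrange : Set.range (pr j V).base = V.hom.base ⁻¹' Set.range j.base :=
    Scheme.Pullback.range_fst V.hom j
  -- compactness of `N ∩ range` for affine opens `N`
  have hK : ∀ N : V.left.Opens, IsAffineOpen N →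
      IsCompact ((N : Set V.left) ∩ Set.range (pr j V).base) := by
    intro N hN
    have h1 : IsCompact ((pr j V).base ⁻¹' (N : Set V.left)) :=
      hqc.isCompact_preimage _ N.2 hN.isCompact
    have h2 := h1.image (pr j V).continuous
    rwa [Set.image_preimage_eq_inter_range] at h2
  refine Groth.Agent.R2.H13.LCTop.comap_bijective_of_qc (pr j V).base
    (pr j V).isOpenEmbedding ?_ ?_ ?_
  · rw [DenseRange, hrange]
    exact hj.preimage V.hom.isOpenMap
  · intro x
    obtain ⟨_, ⟨N, hN, rfl⟩, hxN, -⟩ := V.left.isBasis_affineOpens.exists_subset_of_mem_open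
      (Set.mem_univ x) isOpen_univ
    exact ⟨N, N.2, hxN, hK N hN⟩
  · intro O O' hO hO' hun hdis
    rw [Set.disjoint_left]
    intro x hx hx'
    obtain ⟨W, hW, hxW, hdom⟩ := exists_affine_nhd_isDomain (V := V.left) (X := X) hX V.hom x
    have hι : hW.fromSpec.base (hW.primeIdealOf ⟨x, hxW⟩) = x := hW.fromSpec_primeIdealOf ⟨x, hxW⟩
    have hopen := hW.fromSpec.isOpenEmbedding
    -- the two pieces in the chart
    have hcomp : ∀ P P' : Set V.left, IsOpen P → IsOpen P' → P ∪ P' = Set.range (pr j V).base →
        Disjoint P P' → IsCompact (hW.fromSpec.base ⁻¹' P) := by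
      intro P P' hP hP' hPun hPdis
      have e1 : P ∩ (W : Set V.left) = ((W : Set V.left) ∩ Set.range (pr j V).base) \ P' := by
        ext z
        constructor
        · rintro ⟨hzP, hzW⟩
          exact ⟨⟨hzW, hPun ▸ Or.inl hzP⟩, fun hzP' => Set.disjoint_left.1 hPdis hzP hzP'⟩
        · rintro ⟨⟨hzW, hzr⟩, hzP'⟩
          rw [← hPun] at hzr
          rcases hzr with h | h
          · exact ⟨h, hzW⟩
          · exact absurd h hzP'
      have h1 : IsCompact (P ∩ (W : Set V.left)) := by
        rw [e1]; exact (hK W hW).diff hP'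
      have e2 : hW.fromSpec.base ⁻¹' P = hW.fromSpec.base ⁻¹' (P ∩ (W : Set V.left)) := by
        ext z
        simp only [Set.mem_preimage, Set.mem_inter_iff, iff_self_and]
        intro _
        rw [← hW.range_fromSpec]
        exact ⟨z, rfl⟩
      rw [e2]
      refine (hopen.isInducing.isCompact_preimage_iff ?_).2 h1
      rw [hW.range_fromSpec]
      exact Set.inter_subset_right
    have hcl : ∀ P : Set V.left, x ∈ closure P →
        hW.primeIdealOf ⟨x, hxW⟩ ∈ closure (hW.fromSpec.base ⁻¹' P) := by
      intro P hP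
      rw [← hopen.isOpenMap.preimage_closure_eq_closure_preimage hW.fromSpec.continuous]
      show hW.fromSpec.base (hW.primeIdealOf ⟨x, hxW⟩) ∈ closure P
      rw [hι]; exact hP
    haveI := hdom (hW.primeIdealOf ⟨x, hxW⟩).asIdeal
    obtain ⟨g, hg, hg'⟩ := Groth.Agent.R2.H13.NormalQc.not_disjoint_of_mem_closure
      (hW.primeIdealOf ⟨x, hxW⟩)
      (hO.preimage hW.fromSpec.continuous) (hcomp O O' hO hO' hun hdis)
      (hO'.preimage hW.fromSpec.continuous)
      (hcomp O' O hO' hO ((Set.union_comm _ _).trans hun) hdis.symm)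
      (hcl O hx) (hcl O' hx')
    exact Set.disjoint_left.1 hdis hg hg'

/-- **S3104-type statement**: for `X` normal and `j` a quasi-compact dense open immersion,
`const_X M ⟶ j_* j^* const_X M` is an isomorphism. -/
theorem isIso_unit_const_of_normal_qc {U X : Scheme.{u}} (hX : Pi1.IsNormalScheme X)
    (j : U ⟶ X) [IsOpenImmersion j] [QuasiCompact j] (hj : Dense (Set.range j.base))
    (M : Type) [AddCommGroup M] :
    IsIso ((EtCoh.pullPushAdj j).unit.app (EtCoh.const X M)) :=
  isIso_unit_const j M (fun V => comap_pr_bijective hX j hj M V)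

end Groth.Agent.R2.H13.NormalQcSch
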