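import Mathlib
import Groth.Agent.R2.H13PropA

/-!
# Condition (A) for separated locally quasi-finite morphisms (helper13)

Namespace `Groth.Agent.R2.H13.PropAQF`.

* `propA_of_lqf` : a separated locally quasi-finite morphism satisfies condition (A), by the étale-local
  structure of quasi-finite morphisms (`exists_etale_isCompl_of_quasiFiniteAt`) and the case of finite
  morphisms (`PropA.propA_of_integral`).
-/

set_option autoImplicit false
set_option linter.style.haveILetI false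
universe u

namespace Groth.Agent.R2.H13.PropAQF

open CategoryTheory CategoryTheory.Limits AlgebraicGeometry Opposite

set_option backward.isDefEq.respectTransparency.types false in
set_option maxHeartbeats 2000000 in
/-- **A separated locally quasi-finite morphism satisfies condition (A).** -/
theorem propA_of_lqf {X Y : Scheme.{u}} (f : X ⟶ Y) [IsSeparated f] [LocallyQuasiFinite f]
    [LocallyOfFiniteType f] : BigSite.PropA f := by
  intro U₀ g₀ _ u
  obtain ⟨S', g, hg, -, V₁, W₁, v₁, hcompl, hfin, hv₁⟩ :=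
    exists_etale_isCompl_of_quasiFiniteAt f (x := g₀ u) rfl (f.quasiFiniteAt _)
  haveI : Etale g := hg
  -- the finite morphism `f₁ : V₁ ⟶ S'`
  let P : Scheme.{u} := pullback f g
  let f₁ : (V₁ : Scheme.{u}) ⟶ S' := V₁.ι ≫ pullback.snd f g
  haveI : IsFinite f₁ := hfin
  let a : (V₁ : Scheme.{u}) ⟶ X := V₁.ι ≫ pullback.fst f g
  let U₁ : Scheme.{u} := pullback g₀ a
  let g₁ : U₁ ⟶ (V₁ : Scheme.{u}) := pullback.snd g₀ a
  haveI : Etale g₁ := MorphismProperty.pullback_snd (P := @Etale) _ _ inferInstance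
  have hav : g₀ u = a v₁ := hv₁.symm
  obtain ⟨u₁, hu₁a, -⟩ := Scheme.Pullback.exists_preimage_pullback (f := g₀) (g := a) u v₁ hav
  obtain ⟨V₂, v₂, hv₂, W, hWclosed, h, hh, hu⟩ :=
    Groth.Agent.R2.H13.PropA.propA_of_integral f₁ U₁ g₁ u₁
  haveI : Etale v₂ := hv₂
  -- the comparison with `X ×_Y V₂`
  let Q : Scheme.{u} := pullback f (v₂ ≫ g)
  have cP : pullback.fst f g ≫ f = pullback.snd f g ≫ g := pullback.condition
  have cQ : pullback.fst f (v₂ ≫ g) ≫ f = pullback.snd f (v₂ ≫ g) ≫ v₂ ≫ g := pullback.condition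
  have c₁ : pullback.fst f₁ v₂ ≫ f₁ = pullback.snd f₁ v₂ ≫ v₂ := pullback.condition
  let π : Q ⟶ P := pullback.lift (pullback.fst f (v₂ ≫ g)) (pullback.snd f (v₂ ≫ g) ≫ v₂)
    (cQ.trans (Category.assoc _ _ _).symm)
  have hπ1 : π ≫ pullback.fst f g = pullback.fst f (v₂ ≫ g) := pullback.lift_fst _ _ _
  have hπ2 : π ≫ pullback.snd f g = pullback.snd f (v₂ ≫ g) ≫ v₂ := pullback.lift_snd _ _ _
  have hj0 : (pullback.fst f₁ v₂ ≫ a) ≫ f = pullback.snd f₁ v₂ ≫ v₂ ≫ g :=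
    calc (pullback.fst f₁ v₂ ≫ a) ≫ f
        = pullback.fst f₁ v₂ ≫ V₁.ι ≫ (pullback.fst f g ≫ f) := by simp only [a, Category.assoc]
      _ = pullback.fst f₁ v₂ ≫ V₁.ι ≫ (pullback.snd f g ≫ g) := by rw [cP]
      _ = (pullback.fst f₁ v₂ ≫ f₁) ≫ g := by simp only [f₁, Category.assoc]
      _ = (pullback.snd f₁ v₂ ≫ v₂) ≫ g := by rw [c₁]
      _ = pullback.snd f₁ v₂ ≫ v₂ ≫ g := Category.assoc _ _ _
  let j : pullback f₁ v₂ ⟶ Q := pullback.lift (pullback.fst f₁ v₂ ≫ a) (pullback.snd f₁ v₂) hj0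
  have hj1 : j ≫ pullback.fst f (v₂ ≫ g) = pullback.fst f₁ v₂ ≫ a := pullback.lift_fst _ _ _
  have hj2 : j ≫ pullback.snd f (v₂ ≫ g) = pullback.snd f₁ v₂ := pullback.lift_snd _ _ _
  have hjπ : j ≫ π = pullback.fst f₁ v₂ ≫ V₁.ι := by
    apply pullback.hom_ext
    · rw [Category.assoc, hπ1, hj1, Category.assoc]
    · rw [Category.assoc, hπ2, ← Category.assoc, hj2, ← c₁, Category.assoc]
  -- the open and closed subscheme `O = π⁻¹ V₁`
  let O : Q.Opens := π ⁻¹ᵁ V₁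
  have hOclosed : IsClosed (O : Set Q) := by
    have hcomplS : (O : Set Q)ᶜ = ((π ⁻¹ᵁ W₁ : Q.Opens) : Set Q) := by
      ext z
      constructor
      · intro hz
        have : π z ∈ (V₁ ⊔ W₁ : P.Opens) := by rw [hcompl.sup_eq_top]; trivial
        rcases this with h1 | h1
        · exact absurd h1 hz
        · exact h1
      · intro hz hz'
        have : π z ∈ (V₁ ⊓ W₁ : P.Opens) := ⟨hz', hz⟩
        rw [hcompl.inf_eq_bot] at this
        exact this
    rw [← isOpen_compl_iff, hcomplS]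
    exact (π ⁻¹ᵁ W₁).2
  have hsubl : Set.range (O.ι ≫ π) ⊆ Set.range V₁.ι := by
    rintro _ ⟨z, rfl⟩
    rw [Scheme.Opens.range_ι]
    exact z.2
  let l : (O : Scheme.{u}) ⟶ (V₁ : Scheme.{u}) := IsOpenImmersion.lift V₁.ι (O.ι ≫ π) hsubl
  have hl : l ≫ V₁.ι = O.ι ≫ π := IsOpenImmersion.lift_fac _ _ _
  have hk0 : l ≫ f₁ = (O.ι ≫ pullback.snd f (v₂ ≫ g)) ≫ v₂ :=
    calc l ≫ f₁ = (l ≫ V₁.ι) ≫ pullback.snd f g := (Category.assoc _ _ _).symm
      _ = (O.ι ≫ π) ≫ pullback.snd f g := by rw [hl]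
      _ = O.ι ≫ (π ≫ pullback.snd f g) := Category.assoc _ _ _
      _ = O.ι ≫ (pullback.snd f (v₂ ≫ g) ≫ v₂) := by rw [hπ2]
      _ = (O.ι ≫ pullback.snd f (v₂ ≫ g)) ≫ v₂ := (Category.assoc _ _ _).symm
  let k : (O : Scheme.{u}) ⟶ pullback f₁ v₂ :=
    pullback.lift l (O.ι ≫ pullback.snd f (v₂ ≫ g)) hk0
  have hk1 : k ≫ pullback.fst f₁ v₂ = l := pullback.lift_fst _ _ _
  have hk2 : k ≫ pullback.snd f₁ v₂ = O.ι ≫ pullback.snd f (v₂ ≫ g) := pullback.lift_snd _ _ _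
  have hsubj : Set.range j ⊆ Set.range O.ι := by
    rintro _ ⟨z, rfl⟩
    rw [Scheme.Opens.range_ι]
    change (j ≫ π) z ∈ V₁
    rw [hjπ]
    exact (pullback.fst f₁ v₂ z).2
  let j' : pullback f₁ v₂ ⟶ (O : Scheme.{u}) := IsOpenImmersion.lift O.ι j hsubj
  have hj' : j' ≫ O.ι = j := IsOpenImmersion.lift_fac _ _ _
  have hj'k : j' ≫ k = 𝟙 _ := by
    apply pullback.hom_ext
    · rw [Category.assoc, hk1, Category.id_comp]
      refine (cancel_mono V₁.ι).mp ?_
      rw [Category.assoc, hl, ← Category.assoc, hj', hjπ]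
    · rw [Category.assoc, hk2, ← Category.assoc, hj', hj2, Category.id_comp]
  have hkj : k ≫ j = O.ι := by
    apply pullback.hom_ext
    · rw [Category.assoc, hj1, ← Category.assoc, hk1]
      change l ≫ V₁.ι ≫ pullback.fst f g = _
      rw [← Category.assoc, hl, Category.assoc, hπ1]
    · rw [Category.assoc, hj2, hk2]
  have hkj' : k ≫ j' = 𝟙 _ := by
    refine (cancel_mono O.ι).mp ?_
    rw [Category.assoc, hj', hkj, Category.id_comp]
  haveI : IsIso j' := ⟨⟨k, hj'k, hkj'⟩⟩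
  haveI : IsOpenImmersion j := by
    rw [← hj']
    infer_instance
  -- the open and closed subscheme `W' = j(W)`
  let W' : Q.Opens := j ''ᵁ W
  have hW'closed : IsClosed (W' : Set Q) := by
    have h1 : (W' : Set Q) = O.ι '' (j' '' (W : Set ↥(pullback f₁ v₂))) := by
      rw [Set.image_image]
      change j '' (W : Set ↥(pullback f₁ v₂)) = _
      rw [← hj']
      rfl
    rw [h1]
    have h2 : IsClosed (j' '' (W : Set ↥(pullback f₁ v₂))) :=
      j'.homeomorph.isClosedMap _ hWclosed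
    have h3 : Topology.IsClosedEmbedding O.ι :=
      ⟨O.ι.isEmbedding, by rw [Scheme.Opens.range_ι]; exact hOclosed⟩
    exact h3.isClosedMap _ h2
  let e : (W : Scheme.{u}) ≅ (W' : Scheme.{u}) := j.isoImage W
  have he : e.inv ≫ W.ι ≫ j = W'.ι := Scheme.Hom.isoImage_inv_ι j W
  let h' : (W' : Scheme.{u}) ⟶ U₀ := e.inv ≫ h ≫ pullback.fst g₀ a
  have cU : pullback.fst g₀ a ≫ g₀ = g₁ ≫ a := pullback.condition
  refine ⟨V₂, v₂ ≫ g, inferInstance, W', hW'closed, h', ?_, ?_⟩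
  · calc h' ≫ g₀ = e.inv ≫ h ≫ (pullback.fst g₀ a ≫ g₀) := by simp only [h', Category.assoc]
      _ = e.inv ≫ h ≫ (g₁ ≫ a) := by rw [cU]
      _ = e.inv ≫ (h ≫ g₁) ≫ a := by simp only [Category.assoc]
      _ = e.inv ≫ (W.ι ≫ pullback.fst f₁ v₂) ≫ a := by rw [hh]
      _ = e.inv ≫ W.ι ≫ (pullback.fst f₁ v₂ ≫ a) := by simp only [Category.assoc]
      _ = e.inv ≫ W.ι ≫ (j ≫ pullback.fst f (v₂ ≫ g)) := by rw [hj1]
      _ = (e.inv ≫ W.ι ≫ j) ≫ pullback.fst f (v₂ ≫ g) := by simp only [Category.assoc]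
      _ = W'.ι ≫ pullback.fst f (v₂ ≫ g) := by rw [he]
  · obtain ⟨w, hw⟩ := hu
    refine ⟨e.hom w, ?_⟩
    have h1 : (e.hom ≫ h') = h ≫ pullback.fst g₀ a := by
      simp only [h', Iso.hom_inv_id_assoc]
    change (e.hom ≫ h') w = u
    rw [h1]
    change pullback.fst g₀ a (h w) = u
    have hw' : h w = u₁ := hw
    rw [hw']
    exact hu₁a

end Groth.Agent.R2.H13.PropAQF
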