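import Mathlib
import Groth.Agent.R2.H13FinPush
import Groth.Agent.R2.H13FinPtSplit
import Groth.Prelude.Def_BigSite

/-!
# Condition (B) for integral morphisms (helper13)

Namespace `Groth.Agent.R2.H13.PropB`.

* `propB_of_integral` : an integral morphism satisfies `BigSite.PropB` (repackaging of
  `FinSieve.exists_split_of_integral`).
-/

set_option autoImplicit false
set_option linter.style.haveILetI false
universe u

namespace Groth.Agent.R2.H13.PropB

open CategoryTheory CategoryTheory.Limits AlgebraicGeometry Opposite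
open Groth.Agent.R2.H13.FinSieve Groth.Agent.R2.H13.FinPush

variable {X Y : Scheme.{u}} (f : X ⟶ Y)

set_option backward.isDefEq.respectTransparency.types false in
set_option maxHeartbeats 2000000 in
theorem propB_of_integral [IsIntegralHom f] : BigSite.PropB f := by
  intro V v _ ι U g hg hcov
  -- the étale `Y`-scheme `V`
  let U₀ : Y.Etale := Scheme.Etale.mk v
  let σ : pullback v f ≅ pullback f v := pullbackSymmetry v f
  -- the members of the covering as étale `X`-schemes
  let Ũ : ι → X.Etale := fun i =>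
    haveI := hg i
    Scheme.Etale.mk (g i ≫ pullback.fst f v)
  let m : ∀ i, Ũ i ⟶ (EtCoh.bc f).obj U₀ := fun i =>
    MorphismProperty.Over.homMk (g i ≫ σ.inv) (by
      change (g i ≫ σ.inv) ≫ pullback.snd v f = g i ≫ pullback.fst f v
      rw [Category.assoc, pullbackSymmetry_inv_comp_snd]) trivial
  let 𝒮 : Sieve ((EtCoh.bc f).obj U₀) := Sieve.generate (Presieve.ofArrows Ũ m)
  have h𝒮 : 𝒮 ∈ X.smallEtaleTopology _ := by
    apply generate_ofArrows_mem m
    apply Set.eq_univ_of_forall
    intro z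
    obtain ⟨i, u, hu⟩ := hcov (σ.hom z)
    refine Set.mem_iUnion.2 ⟨i, u, ?_⟩
    change (g i ≫ σ.inv) u = z
    rw [Scheme.Hom.comp_apply, hu, ← Scheme.Hom.comp_apply, Iso.hom_inv_id]
    rfl
  have key := fun y₀ : V => exists_split_of_integral f U₀ 𝒮 h𝒮 y₀
  choose Uy gy y hy μ hμ W a hopen hdisj hcovW hS using key
  refine ⟨V, fun y₀ => (Uy y₀).left, fun y₀ => (gy y₀).left,
    fun y₀ => (inferInstance : Etale (gy y₀).left), fun y₀ => ⟨y₀, y y₀, hy y₀⟩, ?_⟩
  intro j
  -- the comparison isomorphism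
  have hw : (Uy j).hom = (gy j).left ≫ v := (Over.w (gy j).hom).symm
  obtain ⟨τ, hτ1, hτ2⟩ : ∃ τ : pullback (Uy j).hom f ≅ pullback f ((gy j).left ≫ v),
      τ.hom ≫ pullback.fst f ((gy j).left ≫ v) = pullback.snd (Uy j).hom f ∧
      τ.hom ≫ pullback.snd f ((gy j).left ≫ v) = pullback.fst (Uy j).hom f := by
    refine ⟨pullbackSymmetry _ _ ≪≫ pullback.congrHom rfl hw, ?_, ?_⟩
    · dsimp only [Iso.trans_hom]
      rw [Category.assoc, pullback.congrHom_hom, pullback.lift_fst, Category.comp_id,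
        pullbackSymmetry_hom_comp_fst]
    · dsimp only [Iso.trans_hom]
      rw [Category.assoc, pullback.congrHom_hom, pullback.lift_snd, Category.comp_id,
        pullbackSymmetry_hom_comp_snd]
  obtain ⟨al, hal⟩ : ∃ al : ∀ i, (W j i).left ⟶ pullback (Uy j).hom f,
      ∀ i, al i = (a j i).left := ⟨fun i => (a j i).left, fun i => rfl⟩
  have hopen' : ∀ i, IsOpenImmersion (al i) := fun i => by rw [hal]; exact hopen j i
  have hdisj' : ∀ i i', i ≠ i' → Disjoint (Set.range (al i)) (Set.range (al i')) :=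
    fun i i' h => by rw [hal, hal]; exact hdisj j i i' h
  have hcov' : ∀ z : ↥(pullback (Uy j).hom f), ∃ i p, al i p = z := by
    intro z
    have hz : z ∈ ⋃ i, Set.range (a j i).left := by rw [hcovW j]; trivial
    obtain ⟨i, p, hp⟩ := Set.mem_iUnion.1 hz
    exact ⟨i, p, by rw [hal]; exact hp⟩
  have hτinj : ∀ z z' : ↥(pullback (Uy j).hom f), τ.hom z = τ.hom z' → z = z' := by
    intro z z' h
    have h1 := congrArg (fun t => τ.inv t) h
    have e : ∀ t : ↥(pullback (Uy j).hom f), τ.inv (τ.hom t) = t := fun t => by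
      rw [← Scheme.Hom.comp_apply, Iso.hom_inv_id]; rfl
    exact (e z).symm.trans (h1.trans (e z'))
  have hτsurj : ∀ z : ↥(pullback f ((gy j).left ≫ v)), τ.hom (τ.inv z) = z := fun z => by
    rw [← Scheme.Hom.comp_apply, Iso.inv_hom_id]; rfl
  haveI : ∀ i, IsOpenImmersion (al i ≫ τ.hom) := fun i => by
    haveI := hopen' i
    infer_instance
  refine ⟨μ j, fun i => (al i ≫ τ.hom).opensRange, ?_, ?_, ?_⟩
  · intro i i' hii'
    refine disjoint_iff.2 (TopologicalSpace.Opens.ext ?_)
    apply Set.eq_empty_iff_forall_notMem.2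
    rintro z ⟨⟨p, hp⟩, ⟨q, hq⟩⟩
    have h1 : τ.hom (al i p) = τ.hom (al i' q) := by
      rw [← Scheme.Hom.comp_apply, ← Scheme.Hom.comp_apply]
      exact hp.trans hq.symm
    have h2 : al i p = al i' q := hτinj _ _ h1
    exact Set.disjoint_iff.1 (hdisj' i i' hii') ⟨⟨p, rfl⟩, ⟨q, h2.symm⟩⟩
  · rw [eq_top_iff]
    intro z _
    obtain ⟨i, p, hp⟩ := hcov' (τ.inv z)
    refine TopologicalSpace.Opens.mem_iSup.2 ⟨i, p, ?_⟩
    rw [Scheme.Hom.comp_apply, hp]
    exact hτsurj z
  · intro i
    obtain ⟨Z, h₁, m', hm', hfac⟩ := hS j i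
    obtain ⟨i'⟩ := hm'
    refine ⟨i', (al i ≫ τ.hom).isoOpensRange.inv ≫ h₁.left, ?_⟩
    -- the factorisation on underlying schemes
    obtain ⟨bcm, hbcm, hb1, hb2⟩ : ∃ bcm : pullback (Uy j).hom f ⟶ pullback v f,
        bcm = ((EtCoh.bc f).map (gy j)).left ∧
        bcm ≫ pullback.snd v f = pullback.snd (Uy j).hom f ∧
        bcm ≫ pullback.fst v f = pullback.fst (Uy j).hom f ≫ (gy j).left :=
      ⟨_, rfl, Groth.Agent.R2.H13.FinPtSplit.bc_map_left_snd f (gy j),
        Groth.Agent.R2.H13.FinPtSplit.bc_map_left_fst f (gy j)⟩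
    have σh1 : σ.hom ≫ pullback.fst f v = pullback.snd v f := pullbackSymmetry_hom_comp_fst v f
    have σh2 : σ.hom ≫ pullback.snd f v = pullback.fst v f := pullbackSymmetry_hom_comp_snd v f
    have hfacL : h₁.left ≫ (g i' ≫ σ.inv) = al i ≫ bcm := by
      rw [hal, hbcm]
      exact congrArg (fun t => t.left) hfac
    -- the comparison of the two maps to `pullback f v`
    have hcmp : bcm ≫ σ.hom =
        τ.hom ≫ pullback.map f ((gy j).left ≫ v) f v (𝟙 _) ((gy j).left) (𝟙 _)
          ((Category.comp_id _).trans (Category.id_comp _).symm) (Category.comp_id _) := by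
      apply pullback.hom_ext
      · exact (Category.assoc _ _ _).trans ((congrArg (bcm ≫ ·) σh1).trans (hb1.trans
          (hτ1.symm.trans ((congrArg (τ.hom ≫ ·) ((pullback.lift_fst _ _ _).trans
            (Category.comp_id _)).symm).trans (Category.assoc _ _ _).symm))))
      · exact (Category.assoc _ _ _).trans ((congrArg (bcm ≫ ·) σh2).trans (hb2.trans
          ((congrArg (· ≫ (gy j).left) hτ2.symm).trans ((Category.assoc _ _ _).trans
            ((congrArg (τ.hom ≫ ·) (pullback.lift_snd _ _ _).symm).trans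
              (Category.assoc _ _ _).symm)))))
    have e1 : h₁.left ≫ g i' = al i ≫ bcm ≫ σ.hom := by
      have := congrArg (fun t => t ≫ σ.hom) hfacL
      simp only [Category.assoc, Iso.inv_hom_id, Category.comp_id] at this
      exact this
    exact (Category.assoc _ _ _).trans
      ((congrArg ((al i ≫ τ.hom).isoOpensRange.inv ≫ ·) e1).trans
      ((congrArg (fun t => (al i ≫ τ.hom).isoOpensRange.inv ≫ al i ≫ t) hcmp).trans
      ((congrArg ((al i ≫ τ.hom).isoOpensRange.inv ≫ ·) (Category.assoc _ _ _).symm).trans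
      ((Category.assoc _ _ _).symm.trans
      (congrArg (· ≫ _) (Scheme.Hom.isoOpensRange_inv_comp (al i ≫ τ.hom)))))))

end Groth.Agent.R2.H13.PropB
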