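import Mathlib
import Groth.Agent.R2.H13IntSplit
import Groth.Agent.R2.H13FinBC
import Groth.Prelude.Def_BigSite

/-!
# Condition (C) for integral closed topological embeddings (helper13)

Namespace `Groth.Agent.R2.H13.PropC`.

* `exists_section_through_point` : `f` integral and a closed topological embedding, `g : U ⟶ X` étale,
  `u ∈ U`.  Then there are an étale `v : V ⟶ Y` and an `X`-morphism `X ×_Y V ⟶ U` whose image contains
  `u`.
* `propC_of_integral` : such an `f` satisfies `BigSite.PropC`.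
-/

set_option autoImplicit false
set_option linter.style.haveILetI false
universe u

namespace Groth.Agent.R2.H13.PropC

open CategoryTheory CategoryTheory.Limits AlgebraicGeometry Opposite
open Groth.Agent.R2.H1.EtLocalRing Groth.Agent.R2.H13.FinGerm Groth.Agent.R2.H13.FinPtGerm
open Groth.Agent.R2.H13.FinSplit Groth.Agent.R2.H13.FinPtSplit Groth.Agent.R2.H13.IntSplit

variable {X Y : Scheme.{u}} (f : X ⟶ Y) [IsIntegralHom f]

set_option backward.isDefEq.respectTransparency.types false in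
set_option maxHeartbeats 2000000 in
theorem exists_section_through_point (hf : Topology.IsClosedEmbedding f.base)
    (U : Scheme.{u}) (g : U ⟶ X) [Etale g] (u : U) :
    ∃ (V : Scheme.{u}) (v : V ⟶ Y) (_ : Etale v) (h : pullback f v ⟶ U),
      h ≫ g = pullback.fst f v ∧ u ∈ Set.range h := by
  let N : X.Etale := Scheme.Etale.mk g
  obtain ⟨Ω, _, _, ζ₀, n₀, hn₀⟩ := Groth.Agent.R2.H13.FinBC.exists_geometric_point_algClosed N u
  obtain ⟨nl, hnl⟩ : ∃ nl : Spec (CommRingCat.of Ω) ⟶ U, nl = n₀.left := ⟨_, rfl⟩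
  have hnlw : nl ≫ g = ζ₀ := hnl ▸ Over.w n₀
  have hnlu : nl (default : Spec (CommRingCat.of Ω)) = u := hnl ▸ hn₀
  -- an open of `Y` whose preimage is the image of `g`
  have hgo : IsOpen (Set.range g) := g.isOpenMap.isOpen_range
  obtain ⟨V₀s, hV₀o, hV₀⟩ := hf.toIsInducing.isOpen_iff.mp hgo
  let V₀ : Y.Opens := ⟨V₀s, hV₀o⟩
  have hyV₀ : f (g u) ∈ V₀ := by
    change g u ∈ f ⁻¹' V₀s
    rw [hV₀]
    exact ⟨u, rfl⟩
  obtain ⟨O, hO, hyO, hOV₀⟩ := exists_isAffineOpen_mem_and_subset (x := f (g u)) (U := V₀) hyV₀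
  let Y' : Scheme.{u} := O
  haveI : IsAffine Y' := hO
  let e : Y' ⟶ Y := O.ι
  haveI : Etale e := inferInstance
  have hη₀ : (ζ₀ ≫ f) (default : Spec (CommRingCat.of Ω)) = f (g u) := by
    rw [← hnlw, ← hnlu]
    rfl
  have hsub : Set.range (ζ₀ ≫ f) ⊆ Set.range O.ι := by
    rintro _ ⟨x, rfl⟩
    rw [Scheme.Opens.range_ι, Subsingleton.elim x (default : Spec (CommRingCat.of Ω)), hη₀]
    exact hyO
  let η : Spec (CommRingCat.of Ω) ⟶ Y' := IsOpenImmersion.lift O.ι (ζ₀ ≫ f) hsub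
  have hηe : η ≫ e = ζ₀ ≫ f := IsOpenImmersion.lift_fac _ _ _
  have hζe : ζ₀ ≫ f = η ≫ e := hηe.symm
  have hηpt : e (η (default : Spec (CommRingCat.of Ω))) = f (g u) := by
    rw [← hη₀, ← hηe]
    rfl
  -- the open immersion `X ×_Y Y' ⟶ X`
  let s' : X' f e ⟶ X := pullback.snd (𝟙 Y' ≫ e) f
  haveI : IsOpenImmersion s' := inferInstanceAs (IsOpenImmersion (pullback.snd (𝟙 Y' ≫ e) f))
  have hcond : f' f e ≫ (𝟙 Y' ≫ e) = s' ≫ f := pullback.condition
  obtain ⟨zp, hzp⟩ : ∃ zp : Spec (CommRingCat.of Ω) ⟶ X' f e, zp = zpt' f e η ζ₀ hζe := ⟨_, rfl⟩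
  have hzp2 : zp ≫ s' = ζ₀ := hzp ▸ ptG_left_snd f e η ζ₀ hζe _ _
  have hgu : g u ∈ (s'.opensRange : Set X) := by
    refine ⟨zp (default : Spec (CommRingCat.of Ω)), ?_⟩
    rw [← Scheme.Hom.comp_apply, hzp2, ← hnlw, ← hnlu]
    rfl
  obtain ⟨O', hO', huO', hO'le⟩ := exists_isAffineOpen_mem_and_subset
    (x := u) (U := g ⁻¹ᵁ s'.opensRange) hgu
  let U' : Scheme.{u} := O'
  haveI : IsAffine U' := hO'
  have hsubr : Set.range (O'.ι ≫ g) ⊆ Set.range s' := by
    rintro _ ⟨x, rfl⟩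
    exact hO'le x.2
  let p : U' ⟶ X' f e := IsOpenImmersion.lift s' (O'.ι ≫ g) hsubr
  have hp : p ≫ s' = O'.ι ≫ g := IsOpenImmersion.lift_fac _ _ _
  haveI : Etale p := by
    have h1 : EtCoh.etaleMP s' := inferInstanceAs (Etale s')
    have h2 : EtCoh.etaleMP (p ≫ s') := by
      rw [hp]
      exact inferInstanceAs (Etale (O'.ι ≫ g))
    exact EtCoh.etaleMP.of_postcomp (W' := EtCoh.etaleMP) p s' h1 h2
  -- the fibre is a single point
  have hs'inj : Function.Injective s' := s'.isOpenEmbedding.injective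
  have hcov : ∀ x' : X' f e, f' f e x' = η default → x' ∈ Set.range p := by
    intro x' hx'
    refine ⟨⟨u, huO'⟩, ?_⟩
    apply hs'inj
    rw [← Scheme.Hom.comp_apply, hp]
    apply hf.injective
    change f (g u) = f (s' x')
    rw [← hηpt, ← hx']
    change _ = (s' ≫ f) x'
    rw [← hcond]
    rfl
  -- the geometric point of `U'`
  have hsubn : Set.range nl ⊆ Set.range O'.ι := by
    rintro _ ⟨x, rfl⟩
    rw [Scheme.Opens.range_ι, Subsingleton.elim x (default : Spec (CommRingCat.of Ω)), hnlu]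
    exact huO'
  let v₀ : Spec (CommRingCat.of Ω) ⟶ U' := IsOpenImmersion.lift O'.ι nl hsubn
  have hv₀ι : v₀ ≫ O'.ι = nl := IsOpenImmersion.lift_fac _ _ _
  have hv₀ : v₀ ≫ p = zpt' f e η ζ₀ hζe := by
    rw [← hzp]
    refine (cancel_mono s').mp ?_
    exact (Category.assoc _ _ _).trans ((congrArg (v₀ ≫ ·) hp).trans
      ((Category.assoc _ _ _).symm.trans ((congrArg (· ≫ g) hv₀ι).trans (hnlw.trans hzp2.symm))))
  obtain ⟨U'', u'', h, hh, hpt⟩ := exists_lift_pointed_of_integral f e η ζ₀ hζe p hcov v₀ hv₀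
  obtain ⟨t, ht⟩ : ∃ t : ((G f e).obj U'').left ⟶ X' f e,
      t = ((G f e).map (toTop U'')).left := ⟨_, rfl⟩
  have hh' : h ≫ p = t := hh.trans ht.symm
  have hts : t ≫ s' = pullback.snd (U''.hom ≫ e) f := ht ▸ G_map_left_snd f e (toTop U'')
  obtain ⟨pg, hpg⟩ : ∃ pg : Spec (CommRingCat.of Ω) ⟶ ((G f e).obj U'').left,
      pg = (ptG f e η ζ₀ hζe U'' u'').left := ⟨_, rfl⟩
  have hpgh : pg ≫ h = v₀ := hpg ▸ hpt
  let σ : pullback (U''.hom ≫ e) f ≅ pullback f (U''.hom ≫ e) := pullbackSymmetry _ _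
  have hσ : σ.inv ≫ pullback.snd (U''.hom ≫ e) f = pullback.fst f (U''.hom ≫ e) :=
    pullbackSymmetry_inv_comp_snd _ _
  refine ⟨U''.left, U''.hom ≫ e, inferInstance, σ.inv ≫ h ≫ O'.ι, ?_, ?_⟩
  · calc (σ.inv ≫ h ≫ O'.ι) ≫ g = σ.inv ≫ h ≫ (O'.ι ≫ g) := by simp only [Category.assoc]
      _ = σ.inv ≫ h ≫ (p ≫ s') := congrArg (fun m => σ.inv ≫ h ≫ m) hp.symm
      _ = σ.inv ≫ (h ≫ p) ≫ s' := congrArg (σ.inv ≫ ·) (Category.assoc _ _ _).symm
      _ = σ.inv ≫ t ≫ s' := congrArg (fun m => σ.inv ≫ m ≫ s') hh'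
      _ = σ.inv ≫ pullback.snd (U''.hom ≫ e) f := congrArg (σ.inv ≫ ·) hts
      _ = pullback.fst f (U''.hom ≫ e) := hσ
  · refine ⟨σ.hom (pg (default : Spec (CommRingCat.of Ω))), ?_⟩
    have e0 : σ.hom ≫ σ.inv ≫ h ≫ O'.ι = h ≫ O'.ι :=
      (Category.assoc _ _ _).symm.trans ((congrArg (· ≫ h ≫ O'.ι) σ.hom_inv_id).trans
        (Category.id_comp _))
    have e2 : pg ≫ h ≫ O'.ι = nl :=
      (Category.assoc _ _ _).symm.trans ((congrArg (· ≫ O'.ι) hpgh).trans hv₀ι)
    have e1 : (σ.inv ≫ h ≫ O'.ι) (σ.hom (pg (default : Spec (CommRingCat.of Ω)))) =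
        (h ≫ O'.ι) (pg (default : Spec (CommRingCat.of Ω))) :=
      congrArg (fun m : pullback (U''.hom ≫ e) f ⟶ U =>
        m (pg (default : Spec (CommRingCat.of Ω)))) e0
    refine e1.trans ?_
    have e3 : (h ≫ O'.ι) (pg (default : Spec (CommRingCat.of Ω))) =
        nl (default : Spec (CommRingCat.of Ω)) :=
      congrArg (fun m : Spec (CommRingCat.of Ω) ⟶ U =>
        m (default : Spec (CommRingCat.of Ω))) e2
    exact e3.trans hnlu

set_option backward.isDefEq.respectTransparency.types false in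
set_option maxHeartbeats 2000000 in
/-- **An integral morphism which is a closed topological embedding satisfies condition (C).** -/
theorem propC_of_integral (hf : Topology.IsClosedEmbedding f.base) : BigSite.PropC f := by
  classical
  intro U g _
  choose V v hv h hh hu using fun u : U => exists_section_through_point f hf U g u
  let VV : Scheme.{u} := ∐ V
  let vv : VV ⟶ Y := Sigma.desc v
  haveI : Etale vv := IsZariskiLocalAtSource.sigmaDesc (fun u => hv u)
  have hιv : ∀ u, Sigma.ι V u ≫ vv = v u := fun u => Sigma.ι_desc _ _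
  let 𝒲 : (pullback f vv).OpenCover := Scheme.Pullback.openCoverOfRight (sigmaOpenCover V) f vv
  have h𝒲snd : ∀ x : U, 𝒲.f x ≫ pullback.snd f vv =
      pullback.snd f (Sigma.ι V x ≫ vv) ≫ Sigma.ι V x := fun x => pullback.lift_snd _ _ _
  have h𝒲fst : ∀ x : U, 𝒲.f x ≫ pullback.fst f vv = pullback.fst f (Sigma.ι V x ≫ vv) :=
    fun x => (pullback.lift_fst _ _ _).trans (Category.comp_id _)
  let c : ∀ x : U, pullback f (Sigma.ι V x ≫ vv) ≅ pullback f (v x) :=
    fun x => pullback.congrHom rfl (hιv x)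
  have hc1 : ∀ x : U, (c x).hom ≫ pullback.fst f (v x) = pullback.fst f (Sigma.ι V x ≫ vv) :=
    fun x => by
      dsimp only [c]
      rw [pullback.congrHom_hom, pullback.lift_fst, Category.comp_id]
  let k : ∀ x : U, 𝒲.X x ⟶ U := fun x => (c x).hom ≫ h x
  have hk : ∀ x y, pullback.fst (𝒲.f x) (𝒲.f y) ≫ k x = pullback.snd _ _ ≫ k y := by
    intro x y
    by_cases hxy : x = y
    · subst hxy
      rw [fst_eq_snd_of_mono_eq]
    · haveI : IsEmpty ↑(pullback (𝒲.f x) (𝒲.f y)) := by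
        refine isEmpty_of_commSq_sigmaι_of_ne (g := V) (i := x) (j := y)
          (a := pullback.fst (𝒲.f x) (𝒲.f y) ≫ pullback.snd f (Sigma.ι V x ≫ vv))
          (b := pullback.snd (𝒲.f x) (𝒲.f y) ≫ pullback.snd f (Sigma.ι V y ≫ vv)) ⟨?_⟩ hxy
        exact (Category.assoc _ _ _).trans
          ((congrArg (pullback.fst (𝒲.f x) (𝒲.f y) ≫ ·) (h𝒲snd x).symm).trans
          ((Category.assoc _ _ _).symm.trans
          ((congrArg (· ≫ pullback.snd f vv) pullback.condition).trans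
          ((Category.assoc _ _ _).trans
          ((congrArg (pullback.snd (𝒲.f x) (𝒲.f y) ≫ ·) (h𝒲snd y)).trans
          (Category.assoc _ _ _).symm)))))
      exact (isInitialOfIsEmpty (X := pullback (𝒲.f x) (𝒲.f y))).hom_ext _ _
  let H : pullback f vv ⟶ U := 𝒲.glueMorphisms k hk
  have hH : ∀ x, 𝒲.f x ≫ H = k x := fun x => 𝒲.ι_glueMorphisms k hk x
  refine ⟨VV, vv, inferInstance, H, ?_, ⟨?_⟩⟩
  · apply Scheme.Cover.hom_ext 𝒲
    intro x
    rw [← Category.assoc, hH, h𝒲fst]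
    change ((c x).hom ≫ h x) ≫ g = _
    rw [Category.assoc, hh, hc1]
  · intro u
    obtain ⟨z, hz⟩ := hu u
    refine ⟨𝒲.f u ((c u).inv z), ?_⟩
    rw [← Scheme.Hom.comp_apply, hH]
    change ((c u).hom ≫ h u) ((c u).inv z) = u
    rw [Scheme.Hom.comp_apply, ← Scheme.Hom.comp_apply (c u).inv, Iso.inv_hom_id]
    exact hz

end Groth.Agent.R2.H13.PropC
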