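import Mathlib

/-!
# Abstract recollement (gluing) equivalence (helper13)

Given adjunctions `Li ⊣ Ri` (`𝒳 ⇄ 𝒵`) and `Lj ⊣ Rj` (`𝒳 ⇄ 𝒰`) such that
* both counits are isomorphisms (`Ri`, `Rj` fully faithful),
* `Lj ∘ Ri = 0`,
* `Li`, `Lj` preserve pullbacks and are jointly conservative,
the functor `F ↦ (Li F, Lj F, Li (F ⟶ Rj Lj F))` to the comma category `Comma (𝟭 𝒵) (Rj ⋙ Li)` is an
equivalence.
-/

set_option autoImplicit false
open CategoryTheory CategoryTheory.Limits

namespace Groth.Agent.R2.H13.RecollAbs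

universe v₁ v₂ v₃ u₁ u₂ u₃

section Comma

variable {A : Type*} [Category A] {B : Type*} [Category B] {T : Type*} [Category T]
  {L : A ⥤ T} {R : B ⥤ T}

lemma comma_isIso {X Y : Comma L R} (e : X ⟶ Y) (h1 : IsIso e.left) (h2 : IsIso e.right) :
    IsIso e := by
  have : e = (Comma.isoMk (asIso e.left) (asIso e.right) (by simp)).hom := by
    ext <;> simp
  rw [this]
  infer_instance

end Comma

variable {𝒳 : Type u₁} [Category.{v₁} 𝒳] {𝒵 : Type u₂} [Category.{v₂} 𝒵]
  {𝒰 : Type u₃} [Category.{v₃} 𝒰]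
  {Li : 𝒳 ⥤ 𝒵} {Ri : 𝒵 ⥤ 𝒳} {Lj : 𝒳 ⥤ 𝒰} {Rj : 𝒰 ⥤ 𝒳}
  (adjI : Li ⊣ Ri) (adjJ : Lj ⊣ Rj)

/-- The triple functor `F ↦ (Li F, Lj F, Li (unit))`. -/
def triple : 𝒳 ⥤ Comma (𝟭 𝒵) (Rj ⋙ Li) where
  obj F :=
    { left := Li.obj F
      right := Lj.obj F
      hom := Li.map (adjJ.unit.app F) }
  map {F G} φ :=
    { left := Li.map φ
      right := Lj.map φ
      w := by
        dsimp
        rw [← Functor.map_comp, ← Functor.map_comp]
        congr 1
        exact (adjJ.unit.naturality φ) }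
  map_id F := by ext <;> simp
  map_comp φ ψ := by ext <;> simp

include adjI adjJ in
/-- The compatibility condition of a morphism of triples, transposed along `Li ⊣ Ri`. -/
lemma key {X : 𝒳} {G : 𝒵} {H : 𝒰} (l : Li.obj X ⟶ G) (r : Lj.obj X ⟶ H)
    (φ : G ⟶ Li.obj (Rj.obj H)) :
    l ≫ φ = Li.map (adjJ.unit.app X) ≫ Li.map (Rj.map r) ↔
      adjI.homEquiv _ _ l ≫ Ri.map φ = adjJ.homEquiv _ _ r ≫ adjI.unit.app (Rj.obj H) := by
  have h1 : adjI.homEquiv _ _ l ≫ Ri.map φ = adjI.homEquiv _ _ (l ≫ φ) :=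
    (adjI.homEquiv_naturality_right l φ).symm
  have h2 : adjJ.homEquiv _ _ r ≫ adjI.unit.app (Rj.obj H) =
      adjI.homEquiv _ _ (Li.map (adjJ.unit.app X) ≫ Li.map (Rj.map r)) := by
    rw [← Functor.map_comp, Adjunction.homEquiv_unit, Adjunction.homEquiv_unit]
    exact adjI.unit.naturality _
  rw [h1, h2]
  exact ⟨fun h => congrArg _ h, fun h => (adjI.homEquiv _ _).injective h⟩

variable [HasPullbacks 𝒳]

/-- The structure map of a triple, with its type normalised. -/
abbrev chom (c : Comma (𝟭 𝒵) (Rj ⋙ Li)) : c.left ⟶ Li.obj (Rj.obj c.right) := c.hom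

/-- The unit of `Li ⊣ Ri`, with its type normalised. -/
abbrev unitI (Y : 𝒳) : Y ⟶ Ri.obj (Li.obj Y) := adjI.unit.app Y

/-- The glued object attached to a triple `(G, H, φ)`: `Ri G ×_{Ri Li Rj H} Rj H`. -/
noncomputable abbrev glueObj (c : Comma (𝟭 𝒵) (Rj ⋙ Li)) : 𝒳 :=
  pullback (Ri.map (chom c)) (unitI adjI (Rj.obj c.right))

/-- first projection of the glued object -/
noncomputable abbrev gfst (c : Comma (𝟭 𝒵) (Rj ⋙ Li)) : glueObj adjI c ⟶ Ri.obj c.left :=
  pullback.fst (Ri.map (chom c)) (unitI adjI (Rj.obj c.right))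

/-- second projection of the glued object -/
noncomputable abbrev gsnd (c : Comma (𝟭 𝒵) (Rj ⋙ Li)) : glueObj adjI c ⟶ Rj.obj c.right :=
  pullback.snd (Ri.map (chom c)) (unitI adjI (Rj.obj c.right))

omit [HasPullbacks 𝒳] in
lemma triple_w {X : 𝒳} {c : Comma (𝟭 𝒵) (Rj ⋙ Li)} (f : (triple adjJ).obj X ⟶ c) :
    f.left ≫ chom c = Li.map (adjJ.unit.app X) ≫ Li.map (Rj.map f.right) := f.w

/-- The hom-set bijection `Hom(triple X, c) ≃ Hom(X, glueObj c)`. -/
noncomputable def homEquiv (X : 𝒳) (c : Comma (𝟭 𝒵) (Rj ⋙ Li)) :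
    ((triple adjJ).obj X ⟶ c) ≃ (X ⟶ glueObj adjI c) where
  toFun f := pullback.lift (adjI.homEquiv _ _ f.left) (adjJ.homEquiv _ _ f.right)
    ((key adjI adjJ f.left f.right (chom c)).1 (triple_w adjJ f))
  invFun g :=
    { left := (adjI.homEquiv _ _).symm (g ≫ gfst adjI c)
      right := (adjJ.homEquiv _ _).symm (g ≫ gsnd adjI c)
      w := by
        refine (key adjI adjJ ((adjI.homEquiv _ _).symm (g ≫ gfst adjI c))
          ((adjJ.homEquiv _ _).symm (g ≫ gsnd adjI c)) (chom c)).2 ?_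
        rw [Equiv.apply_symm_apply, Equiv.apply_symm_apply, Category.assoc, Category.assoc]
        congr 1
        exact pullback.condition }
  left_inv f := by
    apply Comma.hom_ext
    · change (adjI.homEquiv _ _).symm (pullback.lift _ _ _ ≫ gfst adjI c) = f.left
      rw [pullback.lift_fst, Equiv.symm_apply_apply]
    · change (adjJ.homEquiv _ _).symm (pullback.lift _ _ _ ≫ gsnd adjI c) = f.right
      rw [pullback.lift_snd, Equiv.symm_apply_apply]
  right_inv g := by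
    apply pullback.hom_ext
    · change pullback.lift ((adjI.homEquiv _ _) ((adjI.homEquiv _ _).symm (g ≫ gfst adjI c)))
        ((adjJ.homEquiv _ _) ((adjJ.homEquiv _ _).symm (g ≫ gsnd adjI c))) _ ≫ gfst adjI c = _
      rw [pullback.lift_fst, Equiv.apply_symm_apply]
    · change pullback.lift ((adjI.homEquiv _ _) ((adjI.homEquiv _ _).symm (g ≫ gfst adjI c)))
        ((adjJ.homEquiv _ _) ((adjJ.homEquiv _ _).symm (g ≫ gsnd adjI c))) _ ≫ gsnd adjI c = _
      rw [pullback.lift_snd, Equiv.apply_symm_apply]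

lemma homEquiv_fst (X : 𝒳) (c : Comma (𝟭 𝒵) (Rj ⋙ Li)) (f : (triple adjJ).obj X ⟶ c) :
    homEquiv adjI adjJ X c f ≫ gfst adjI c = adjI.homEquiv _ _ f.left :=
  pullback.lift_fst _ _ _

lemma homEquiv_snd (X : 𝒳) (c : Comma (𝟭 𝒵) (Rj ⋙ Li)) (f : (triple adjJ).obj X ⟶ c) :
    homEquiv adjI adjJ X c f ≫ gsnd adjI c = adjJ.homEquiv _ _ f.right :=
  pullback.lift_snd _ _ _

lemma homEquiv_naturality {X' X : 𝒳} (c : Comma (𝟭 𝒵) (Rj ⋙ Li)) (f : X' ⟶ X)
    (g : (triple adjJ).obj X ⟶ c) :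
    homEquiv adjI adjJ X' c ((triple adjJ).map f ≫ g) = f ≫ homEquiv adjI adjJ X c g := by
  apply pullback.hom_ext
  · change _ ≫ gfst adjI c = _ ≫ gfst adjI c
    rw [homEquiv_fst, Category.assoc, homEquiv_fst]
    exact adjI.homEquiv_naturality_left f g.left
  · change _ ≫ gsnd adjI c = _ ≫ gsnd adjI c
    rw [homEquiv_snd, Category.assoc, homEquiv_snd]
    exact adjJ.homEquiv_naturality_left f g.right

/-- The gluing functor, right adjoint to `triple`. -/
noncomputable def glue : Comma (𝟭 𝒵) (Rj ⋙ Li) ⥤ 𝒳 :=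
  Adjunction.rightAdjointOfEquiv (homEquiv adjI adjJ)
    (fun _ _ c f g => homEquiv_naturality adjI adjJ c f g)

/-- `triple ⊣ glue`. -/
noncomputable def tripleGlueAdj : triple adjJ ⊣ glue adjI adjJ :=
  Adjunction.adjunctionOfEquivRight (homEquiv adjI adjJ)
    (fun _ _ c f g => homEquiv_naturality adjI adjJ c f g)

lemma counit_eq (c : Comma (𝟭 𝒵) (Rj ⋙ Li)) :
    (tripleGlueAdj adjI adjJ).counit.app c = (homEquiv adjI adjJ _ c).symm (𝟙 _) := rfl

lemma counit_left (c : Comma (𝟭 𝒵) (Rj ⋙ Li)) :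
    ((tripleGlueAdj adjI adjJ).counit.app c).left =
      Li.map (gfst adjI c) ≫ adjI.counit.app c.left := by
  rw [counit_eq]
  change (adjI.homEquiv _ _).symm (𝟙 _ ≫ gfst adjI c) = _
  rw [Category.id_comp, Adjunction.homEquiv_counit]

lemma counit_right (c : Comma (𝟭 𝒵) (Rj ⋙ Li)) :
    ((tripleGlueAdj adjI adjJ).counit.app c).right =
      Lj.map (gsnd adjI c) ≫ adjJ.counit.app c.right := by
  rw [counit_eq]
  change (adjJ.homEquiv _ _).symm (𝟙 _ ≫ gsnd adjI c) = _
  rw [Category.id_comp, Adjunction.homEquiv_counit]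

section Equivalence

variable [PreservesLimitsOfShape WalkingCospan Li] [PreservesLimitsOfShape WalkingCospan Lj]
  (hI : ∀ G, IsIso (adjI.counit.app G)) (hJ : ∀ H, IsIso (adjJ.counit.app H))
  (hz : ∀ G, IsZero (Lj.obj (Ri.obj G)))
  (hcons : ∀ ⦃A B : 𝒳⦄ (f : A ⟶ B), IsIso (Li.map f) → IsIso (Lj.map f) → IsIso f)

include hI in
omit [HasPullbacks 𝒳] [PreservesLimitsOfShape WalkingCospan Li] in
lemma isIso_Li_map_unit (F : 𝒳) : IsIso (Li.map (adjI.unit.app F)) := by
  have := hI (Li.obj F)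
  have ht := adjI.left_triangle_components F
  rw [IsIso.eq_inv_of_inv_hom_id ht]
  infer_instance

include hI hJ hz in
lemma isIso_counit (c : Comma (𝟭 𝒵) (Rj ⋙ Li)) :
    IsIso ((tripleGlueAdj adjI adjJ).counit.app c) := by
  have sq : IsPullback (gfst adjI c) (gsnd adjI c) (Ri.map (chom c))
      (unitI adjI (Rj.obj c.right)) := IsPullback.of_hasPullback _ _
  apply comma_isIso
  · rw [counit_left]
    have h1 : IsIso (Li.map (unitI adjI (Rj.obj c.right))) :=
      isIso_Li_map_unit adjI hI _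
    have h2 : IsIso (Li.map (gfst adjI c)) := (sq.map Li).isIso_fst_of_isIso
    exact IsIso.comp_isIso' h2 (hI c.left)
  · rw [counit_right]
    have h1 : IsIso (Lj.map (Ri.map (chom c))) := by
      refine ⟨(hz _).to_ _, (hz _).eq_of_src _ _, (hz _).eq_of_src _ _⟩
    have h2 : IsIso (Lj.map (gsnd adjI c)) := (sq.map Lj).isIso_snd_of_isIso
    exact IsIso.comp_isIso' h2 (hJ c.right)

include hI hJ hz hcons in
lemma isIso_unit (F : 𝒳) : IsIso ((tripleGlueAdj adjI adjJ).unit.app F) := by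
  have hc := isIso_counit adjI adjJ hI hJ hz ((triple adjJ).obj F)
  have ht := (tripleGlueAdj adjI adjJ).left_triangle_components F
  have h : IsIso ((triple (Li := Li) adjJ).map ((tripleGlueAdj adjI adjJ).unit.app F)) := by
    rw [IsIso.eq_inv_of_inv_hom_id ht]
    infer_instance
  apply hcons
  · exact (Comma.fst _ _).map_isIso
      ((triple (Li := Li) adjJ).map ((tripleGlueAdj adjI adjJ).unit.app F))
  · exact (Comma.snd _ _).map_isIso
      ((triple (Li := Li) adjJ).map ((tripleGlueAdj adjI adjJ).unit.app F))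

include hI hJ hz hcons in
/-- **Abstract recollement**: the triple functor is an equivalence. -/
theorem triple_isEquivalence : (triple (Li := Li) adjJ).IsEquivalence := by
  have h1 : ∀ F, IsIso ((tripleGlueAdj adjI adjJ).unit.app F) :=
    isIso_unit adjI adjJ hI hJ hz hcons
  have h2 : ∀ c, IsIso ((tripleGlueAdj adjI adjJ).counit.app c) :=
    isIso_counit adjI adjJ hI hJ hz
  exact (tripleGlueAdj adjI adjJ).toEquivalence.isEquivalence_functor

end Equivalence

end Groth.Agent.R2.H13.RecollAbs
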