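import Mathlib
import Groth.Prelude.Def_W4c1etweilhu916Glue
import Groth.Agent.R2.H13Recoll
import Groth.Agent.R2.H13RecollAbs

/-!
# The recollement (gluing) equivalence for abelian étale sheaves (helper13)

`EtCore.recollTriple i j` is an equivalence for a closed immersion `i` and the open immersion `j` of
the complement.
-/

set_option autoImplicit false
open CategoryTheory CategoryTheory.Limits AlgebraicGeometry Opposite
universe u

namespace Groth.Agent.R2.H13.Recoll

open Groth.Agent.R2.H13.ClosedPush Groth.Agent.S0651

variable {Z X U : Scheme.{u}} (i : Z ⟶ X) (j : U ⟶ X) [IsClosedImmersion i] [IsOpenImmersion j]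

/-- for an open immersion `j`, inverse image is restriction -/
noncomputable def rho' : EtCoh.pull j ≅ EtShriek.restrAlong j :=
  Adjunction.leftAdjointUniq (EtCoh.pullPushAdj j) (restrPushAdj j)

omit [IsClosedImmersion i] in
lemma isIso_restr_map_of_isIso_pull_map {A B : EtCoh.Ab X} (f : A ⟶ B)
    (h : IsIso ((EtCoh.pull j).map f)) : IsIso ((EtShriek.restrAlong j).map f) := by
  have nat := (rho' j).hom.naturality f
  have e : (EtShriek.restrAlong j).map f =
      (rho' j).inv.app A ≫ (EtCoh.pull j).map f ≫ (rho' j).hom.app B := by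
    rw [nat, Iso.inv_hom_id_app_assoc]
  rw [e]
  infer_instance

variable (hU : Set.range j.base = (Set.range i.base)ᶜ)

include hU

lemma isIso_of_pull (A B : EtCoh.Ab X) (f : A ⟶ B) (h1 : IsIso ((EtCoh.pull i).map f))
    (h2 : IsIso ((EtCoh.pull j).map f)) : IsIso f := by
  have h3 := isIso_restr_map_of_isIso_pull_map j f h2
  have hm : Mono f := mono_of_pull_restr i j hU f inferInstance inferInstance
  have he : Epi f := epi_of_pull_restr i j hU f inferInstance inferInstance
  exact isIso_of_mono_of_epi f

lemma isZero_pull_push (G : EtCoh.Ab Z) :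
    IsZero ((EtCoh.pull j).obj ((EtCoh.push i).obj G)) :=
  (isZero_restr_push i j hU G).of_iso ((rho' j).app _)

theorem recollTriple_isEquivalence : (EtCore.recollTriple i j).IsEquivalence := by
  have : (EtCoh.push i).Full := push_full i
  have : (EtCoh.push i).Faithful := push_faithful i
  have hI : ∀ G, IsIso ((EtCoh.pullPushAdj i).counit.app G) := fun G => inferInstance
  have hJ : ∀ H, IsIso ((EtCoh.pullPushAdj j).counit.app H) := fun H => isIso_counit_pull j H
  exact RecollAbs.triple_isEquivalence (EtCoh.pullPushAdj i) (EtCoh.pullPushAdj j) hI hJ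
    (isZero_pull_push i j hU) (isIso_of_pull i j hU)

end Groth.Agent.R2.H13.Recoll
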