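import Mathlib
import Groth.Prelude.Def_SGA4b
import Groth.Agent.S0101
import Groth.Agent.Lib.Helper16StalkPull
import Groth.Agent.R2.H13FinBC

/-!
# Stalks of étale sheaves of sets and inverse images (helper13)

Namespace `Groth.Agent.R2.H13.ShStalk`.  Sheaf-of-sets versions of `S0100.skySheafIso`,
`S0101.stalkPullIso`, `Helper16.StalkPull.germ_compat` and `FinBC.isIso_of_stalks_algClosed`.
-/

set_option autoImplicit false
set_option linter.style.haveILetI false
universe u

namespace Groth.Agent.R2.H13.ShStalk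

open CategoryTheory CategoryTheory.Limits AlgebraicGeometry Opposite
open Groth.Agent.Lib.Helper16.EtStalk Groth.Agent.Lib.Helper16.SmallEtale
open Groth.Agent.S0100

variable {X Y : Scheme.{u}} (f : X ⟶ Y) {Ω : Type u} [Field Ω] [IsSepClosed Ω]
  (ξ : Spec (CommRingCat.of Ω) ⟶ X)

/-- the stalk functor on sheaves of sets -/
noncomputable abbrev stalkSh {Z : Scheme.{u}} (ζ : Spec (CommRingCat.of Ω) ⟶ Z) :
    EtDesc.Sh Z ⥤ Type (u + 1) :=
  (Scheme.pointSmallEtale ζ).sheafFiber

set_option backward.isDefEq.respectTransparency.types false in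
/-- the key isomorphism of right adjoints (sheaves of sets) -/
noncomputable def skySheafIsoSh :
    (Scheme.pointSmallEtale ξ).skyscraperSheafFunctor (A := Type (u + 1)) ⋙ EtDesc.pushSh f ≅
      (Scheme.pointSmallEtale (ξ ≫ f)).skyscraperSheafFunctor :=
  NatIso.ofComponents
    (fun M => (fullyFaithfulSheafToPresheaf _ _).preimageIso ((skyIso (fiberIso f ξ)).app M))
    (by
      intro M N g
      apply Sheaf.hom_ext
      exact (skyIso (A := Type (u + 1)) (fiberIso f ξ)).hom.naturality g)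

set_option backward.isDefEq.respectTransparency.types false in
/-- the stalk of the inverse image (sheaves of sets) -/
noncomputable def stalkPullIsoSh :
    stalkSh (ξ ≫ f) ≅ EtDesc.pullSh f ⋙ stalkSh ξ :=
  let adj₁ := (EtDesc.adjSh f).comp
    ((Scheme.pointSmallEtale ξ).skyscraperSheafAdjunction (A := Type (u + 1)))
  let adj₂ := (Scheme.pointSmallEtale (ξ ≫ f)).skyscraperSheafAdjunction (A := Type (u + 1))
  (conjugateIsoEquiv adj₁ adj₂).symm (skySheafIsoSh f ξ)

set_option backward.isDefEq.respectTransparency.types false in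
/-- the basic identity of sheaf morphisms -/
lemma keySh (G : EtDesc.Sh Y) :
    ((EtDesc.adjSh f).comp
      ((Scheme.pointSmallEtale ξ).skyscraperSheafAdjunction (A := Type (u + 1)))).unit.app G ≫
      (skySheafIsoSh f ξ).hom.app _ =
    ((Scheme.pointSmallEtale (ξ ≫ f)).skyscraperSheafAdjunction (A := Type (u + 1))).unit.app G ≫
      ((Scheme.pointSmallEtale (ξ ≫ f)).skyscraperSheafFunctor).map
        ((stalkPullIsoSh f ξ).hom.app G) := by
  have := unit_conjugateEquiv_symm ((EtDesc.adjSh f).comp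
      ((Scheme.pointSmallEtale ξ).skyscraperSheafAdjunction (A := Type (u + 1))))
      ((Scheme.pointSmallEtale (ξ ≫ f)).skyscraperSheafAdjunction (A := Type (u + 1)))
      (skySheafIsoSh f ξ).hom G
  exact this

/-- germ of a section at a geometric point -/
noncomputable def germSh {Z : Scheme.{u}} (ζ : Spec (CommRingCat.of Ω) ⟶ Z) (G : EtDesc.Sh Z)
    (U : Z.Etale) (u : (Scheme.pointSmallEtale ζ).fiber.obj U) :
    G.obj.obj (op U) ⟶ (stalkSh ζ).obj G :=
  (Scheme.pointSmallEtale ζ).toPresheafFiber U u G.obj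

set_option backward.isDefEq.respectTransparency.types false in
lemma unit_sky_πSh {Z : Scheme.{u}} (ζ : Spec (CommRingCat.of Ω) ⟶ Z) (G : EtDesc.Sh Z)
    (U : Z.Etale) (u : (Scheme.pointSmallEtale ζ).fiber.obj U) :
    (((Scheme.pointSmallEtale ζ).skyscraperSheafAdjunction
      (A := Type (u + 1))).unit.app G).hom.app (op U) ≫
      Pi.π (fun _ : (Scheme.pointSmallEtale ζ).fiber.obj U => (stalkSh ζ).obj G) u =
    germSh ζ G U u := by
  have h := (Scheme.pointSmallEtale ζ).skyscraperSheafAdjunction_homEquiv_apply_hom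
    (A := Type (u + 1)) (F := G) (𝟙 _)
  have e : ((Scheme.pointSmallEtale ζ).skyscraperSheafAdjunction
      (A := Type (u + 1))).unit.app G =
      ((Scheme.pointSmallEtale ζ).skyscraperSheafAdjunction
      (A := Type (u + 1))).homEquiv G _ (𝟙 _) := (Adjunction.homEquiv_id _ _).symm
  rw [e]
  refine (congrArg (fun m => m.app (op U) ≫
    Pi.π (fun _ : (Scheme.pointSmallEtale ζ).fiber.obj U => (stalkSh ζ).obj G) u) h).trans ?_
  exact ((Scheme.pointSmallEtale ζ).skyscraperPresheafHomEquiv_app_π _ U u).trans (Category.comp_id _)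

set_option backward.isDefEq.respectTransparency.types false in
lemma skySheafIso_πSh (M : Type (u + 1)) (U : Y.Etale)
    (u : (Scheme.pointSmallEtale (ξ ≫ f)).fiber.obj U) :
    ((skySheafIsoSh f ξ).hom.app M).hom.app (op U) ≫
      Pi.π (fun _ : (Scheme.pointSmallEtale (ξ ≫ f)).fiber.obj U => M) u =
    Pi.π (fun _ : (Scheme.pointSmallEtale ξ).fiber.obj ((EtCoh.bc f).obj U) => M)
      ((fiberIso f ξ).inv.app U u) := by
  simp [skySheafIsoSh, skyIso]
  exact (Pi.map'_comp_π _ _ _).trans (Category.comp_id _)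

set_option backward.isDefEq.respectTransparency.types false in
lemma skyFunctor_map_πSh {Z : Scheme.{u}} (ζ : Spec (CommRingCat.of Ω) ⟶ Z)
    {M N : Type (u + 1)} (b : M ⟶ N) (U : Z.Etale) (u : (Scheme.pointSmallEtale ζ).fiber.obj U) :
    (((Scheme.pointSmallEtale ζ).skyscraperSheafFunctor).map b).hom.app (op U) ≫
      Pi.π (fun _ : (Scheme.pointSmallEtale ζ).fiber.obj U => N) u =
    Pi.π (fun _ : (Scheme.pointSmallEtale ζ).fiber.obj U => M) u ≫ b := by
  simp only [GrothendieckTopology.Point.skyscraperSheafFunctor_map_hom,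
    GrothendieckTopology.Point.skyscraperPresheafFunctor_map_app]
  exact Pi.map_π _ _

set_option backward.isDefEq.respectTransparency.types false in
/-- compatibility of the stalk isomorphism with germs of sections -/
lemma germ_compatSh (G : EtDesc.Sh Y) (U : Y.Etale)
    (u : (Scheme.pointSmallEtale (ξ ≫ f)).fiber.obj U) (σ : G.obj.obj (op U)) :
    (stalkPullIsoSh f ξ).hom.app G (germSh (ξ ≫ f) G U u σ) =
      germSh ξ ((EtDesc.pullSh f).obj G) ((EtCoh.bc f).obj U) ((fiberIso f ξ).inv.app U u)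
        (((EtDesc.adjSh f).unit.app G).hom.app (op U) σ) := by
  have k := congrArg (fun m => (Pi.π (fun _ : (Scheme.pointSmallEtale (ξ ≫ f)).fiber.obj U =>
      (stalkSh ξ).obj ((EtDesc.pullSh f).obj G)) u) (m.hom.app (op U) σ)) (keySh f ξ G)
  -- left side
  have hL : (Pi.π (fun _ : (Scheme.pointSmallEtale (ξ ≫ f)).fiber.obj U =>
      (stalkSh ξ).obj ((EtDesc.pullSh f).obj G)) u)
      ((((EtDesc.adjSh f).comp
      ((Scheme.pointSmallEtale ξ).skyscraperSheafAdjunction (A := Type (u + 1)))).unit.app G ≫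
      (skySheafIsoSh f ξ).hom.app _).hom.app (op U) σ) =
      germSh ξ ((EtDesc.pullSh f).obj G) ((EtCoh.bc f).obj U) ((fiberIso f ξ).inv.app U u)
        (((EtDesc.adjSh f).unit.app G).hom.app (op U) σ) := by
    have e1 := ConcreteCategory.congr_hom (skySheafIso_πSh f ξ
      ((stalkSh ξ).obj ((EtDesc.pullSh f).obj G)) U u)
      ((((EtDesc.adjSh f).comp
      ((Scheme.pointSmallEtale ξ).skyscraperSheafAdjunction (A := Type (u + 1)))).unit.app G).hom.app
        (op U) σ)
    refine e1.trans ?_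
    rw [Adjunction.comp_unit_app]
    have e2 := ConcreteCategory.congr_hom (unit_sky_πSh ξ ((EtDesc.pullSh f).obj G)
      ((EtCoh.bc f).obj U) ((fiberIso f ξ).inv.app U u))
      (((EtDesc.adjSh f).unit.app G).hom.app (op U) σ)
    exact e2
  have hR : (Pi.π (fun _ : (Scheme.pointSmallEtale (ξ ≫ f)).fiber.obj U =>
      (stalkSh ξ).obj ((EtDesc.pullSh f).obj G)) u)
      ((((Scheme.pointSmallEtale (ξ ≫ f)).skyscraperSheafAdjunction
        (A := Type (u + 1))).unit.app G ≫
      ((Scheme.pointSmallEtale (ξ ≫ f)).skyscraperSheafFunctor).map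
        ((stalkPullIsoSh f ξ).hom.app G)).hom.app (op U) σ) =
      (stalkPullIsoSh f ξ).hom.app G (germSh (ξ ≫ f) G U u σ) := by
    have e1 := ConcreteCategory.congr_hom (skyFunctor_map_πSh (ξ ≫ f)
      ((stalkPullIsoSh f ξ).hom.app G) U u)
      ((((Scheme.pointSmallEtale (ξ ≫ f)).skyscraperSheafAdjunction
        (A := Type (u + 1))).unit.app G).hom.app (op U) σ)
    refine e1.trans ?_
    have e2 := ConcreteCategory.congr_hom (unit_sky_πSh (ξ ≫ f) G U u) σ
    exact congrArg ((stalkPullIsoSh f ξ).hom.app G) e2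
  exact hR.symm.trans (k.symm.trans hL)

section Detect

open Groth.Agent.R2.H13.FinBC

set_option backward.isDefEq.respectTransparency.types false in
lemma isLocallyInjective_of_stalks_algClosedSh {X : Scheme.{u}} {F G : EtDesc.Sh X} (a : F ⟶ G)
    (h : ∀ (Ω : Type u) [Field Ω] [IsAlgClosed Ω] (ξ : Spec (CommRingCat.of Ω) ⟶ X),
      Function.Injective ((stalkSh ξ).map a)) :
    Sheaf.IsLocallyInjective a := by
  constructor
  intro U x y hxy
  induction U using Opposite.rec with | _ U => ?_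
  rw [mem_smallEtale_iff]
  intro p
  obtain ⟨Ω, _, _, ξ, x₀, hx₀⟩ := exists_geometric_point_algClosed U p
  let Φ' := Scheme.pointSmallEtale ξ
  have e1 : (stalkSh ξ).map a (Φ'.toPresheafFiber U x₀ F.obj x) =
      (stalkSh ξ).map a (Φ'.toPresheafFiber U x₀ F.obj y) := by
    have n1 := Φ'.toPresheafFiber_naturality_apply a.hom U x₀ x
    have n2 := Φ'.toPresheafFiber_naturality_apply a.hom U x₀ y
    exact n1.trans ((congrArg _ hxy).trans n2.symm)
  have e2 := h Ω ξ e1
  obtain ⟨W, g, w, hw, hg⟩ := (Φ'.toPresheafFiber_eq_iff' U x₀ x y).mp e2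
  refine ⟨W, g, (w.left : Spec (CommRingCat.of Ω) ⟶ W.left) (default : Spec (CommRingCat.of Ω)),
    hg, ?_⟩
  have e3 : w.left ≫ g.left = x₀.left := congrArg (fun m => m.left) hw
  rw [← hx₀]
  exact congrArg (fun m : Spec (CommRingCat.of Ω) ⟶ U.left => m default) e3

set_option backward.isDefEq.respectTransparency.types false in
lemma isLocallySurjective_of_stalks_algClosedSh {X : Scheme.{u}} {F G : EtDesc.Sh X} (a : F ⟶ G)
    (h : ∀ (Ω : Type u) [Field Ω] [IsAlgClosed Ω] (ξ : Spec (CommRingCat.of Ω) ⟶ X),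
      Function.Surjective ((stalkSh ξ).map a)) :
    Sheaf.IsLocallySurjective a := by
  constructor
  intro U t
  rw [mem_smallEtale_iff]
  intro p
  obtain ⟨Ω, _, _, ξ, x₀, hx₀⟩ := exists_geometric_point_algClosed U p
  let Φ' := Scheme.pointSmallEtale ξ
  obtain ⟨σ, hσ⟩ := h Ω ξ (Φ'.toPresheafFiber U x₀ G.obj t)
  obtain ⟨V, v, s, rfl⟩ := Φ'.toPresheafFiber_jointly_surjective (P := F.obj) σ
  have n1 : (stalkSh ξ).map a (Φ'.toPresheafFiber V v F.obj s) =
      Φ'.toPresheafFiber V v G.obj (a.hom.app (op V) s) :=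
    Φ'.toPresheafFiber_naturality_apply a.hom V v s
  let m : Φ'.fiber.Elements := IsCofiltered.min (⟨V, v⟩ : Φ'.fiber.Elements) ⟨U, x₀⟩
  let gV : m ⟶ ⟨V, v⟩ := IsCofiltered.minToLeft _ _
  let gU : m ⟶ ⟨U, x₀⟩ := IsCofiltered.minToRight _ _
  have hgV : Φ'.fiber.map gV.1 m.2 = v := gV.2
  have hgU : Φ'.fiber.map gU.1 m.2 = x₀ := gU.2
  have e1 : Φ'.toPresheafFiber m.1 m.2 G.obj (G.obj.map gU.1.op t) =
      Φ'.toPresheafFiber m.1 m.2 G.obj (G.obj.map gV.1.op (a.hom.app (op V) s)) := by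
    rw [Φ'.toPresheafFiber_w_apply, Φ'.toPresheafFiber_w_apply, hgV, hgU, ← hσ, n1]
  obtain ⟨W', g, w', hw', hg⟩ := (Φ'.toPresheafFiber_eq_iff' m.1 m.2 _ _).mp e1
  refine ⟨W', g ≫ gU.1, (w'.left : Spec (CommRingCat.of Ω) ⟶ W'.left)
    (default : Spec (CommRingCat.of Ω)), ⟨F.obj.map (g ≫ gV.1).op s, ?_⟩, ?_⟩
  · have n2 := NatTrans.naturality_apply a.hom (g ≫ gV.1).op s
    rw [n2]
    rw [op_comp, Functor.map_comp, ConcreteCategory.comp_apply, ← hg,
      ← ConcreteCategory.comp_apply, ← Functor.map_comp, ← op_comp]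
  · have e3 : w'.left ≫ (g ≫ gU.1).left = x₀.left := by
      have h1 : Φ'.fiber.map (g ≫ gU.1) w' = x₀ := by
        rw [Functor.map_comp]
        change Φ'.fiber.map gU.1 (Φ'.fiber.map g w') = x₀
        rw [hw', hgU]
      exact congrArg (fun m => m.left) h1
    rw [← hx₀]
    exact congrArg (fun m : Spec (CommRingCat.of Ω) ⟶ U.left => m default) e3

lemma isIso_of_stalks_algClosedSh {X : Scheme.{u}} {F G : EtDesc.Sh X} (a : F ⟶ G)
    (h : ∀ (Ω : Type u) [Field Ω] [IsAlgClosed Ω] (ξ : Spec (CommRingCat.of Ω) ⟶ X),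
      Function.Bijective ((stalkSh ξ).map a)) : IsIso a := by
  have h1 := isLocallyInjective_of_stalks_algClosedSh a (fun Ω _ _ ξ => (h Ω ξ).1)
  have h2 := isLocallySurjective_of_stalks_algClosedSh a (fun Ω _ _ ξ => (h Ω ξ).2)
  exact (Sheaf.isLocallyBijective_iff_isIso a).mp ⟨h1, h2⟩

end Detect

end Groth.Agent.R2.H13.ShStalk
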