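import Mathlib
import Groth.Prelude.Def_EtBCD
import Groth.Agent.R2.H13ShStalk
import Groth.Agent.R2.H13FinBC

/-!
# The base change map for sheaves of sets on stalks (helper13)

Namespace `Groth.Agent.R2.H13.ShBC`.  Sheaf-of-sets version of `FinBC.can_baseChange`.
-/

set_option autoImplicit false
set_option linter.style.haveILetI false
universe u

namespace Groth.Agent.R2.H13.ShBC

open CategoryTheory CategoryTheory.Limits AlgebraicGeometry Opposite
open Groth.Agent.R2.H1.EtLocalRing Groth.Agent.R2.H13.FinPtGerm Groth.Agent.R2.H13.FinPtSplit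
open Groth.Agent.R2.H13.FinStalk Groth.Agent.R2.H13.FinBC Groth.Agent.R2.H13.ShStalk
open Groth.Agent.Lib.Helper16.EtStalk Groth.Agent.Lib.Helper16.SmallEtale
open Groth.Agent.S0100

section CanBC

variable {X Y X' Y' : Scheme.{u}} (f : X ⟶ Y) (g : Y' ⟶ Y) (f' : X' ⟶ Y') (g' : X' ⟶ X)
  (w : g' ≫ f = f' ≫ g)
variable {Ω : Type u} [Field Ω] [IsSepClosed Ω]
  (η' : Spec (CommRingCat.of Ω) ⟶ Y') (ξ' : Spec (CommRingCat.of Ω) ⟶ X') (hξ' : ξ' ≫ f' = η')

set_option backward.isDefEq.respectTransparency.types false in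
lemma sections_formulaSh (K : EtDesc.Sh X') (V : Y.Etale)
    (τ : K.obj.obj (op ((EtCoh.bc g').obj ((EtCoh.bc f).obj V)))) :
    (((EtDesc.pushCompSh f g').hom.app K ≫ (EtBC.pushCongrSh w).hom.app K ≫
      (EtDesc.pushCompSh g f').inv.app K).hom.app (op V)) τ = K.obj.map (θ f g f' g' w V).op τ := by
  unfold θ
  rw [op_comp, op_comp, Functor.map_comp, Functor.map_comp]
  rfl

set_option backward.isDefEq.respectTransparency.types false in
/-- the adjoint of the base change map, on sections -/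
lemma baseChange0Sh_unit_apply (F : EtDesc.Sh X) (V : Y.Etale)
    (σ : ((EtDesc.pushSh f).obj F).obj.obj (op V)) :
    (EtBC.baseChange0Sh f g f' g' w F).hom.app (op ((EtCoh.bc g).obj V))
      (((EtDesc.adjSh g).unit.app ((EtDesc.pushSh f).obj F)).hom.app (op V) σ) =
    ((EtDesc.pullSh g').obj F).obj.map (θ f g f' g' w V).op
      (((EtDesc.adjSh g').unit.app F).hom.app (op ((EtCoh.bc f).obj V)) σ) := by
  have h1 : (EtDesc.adjSh g).unit.app ((EtDesc.pushSh f).obj F) ≫
      (EtDesc.pushSh g).map (EtBC.baseChange0Sh f g f' g' w F) =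
      (EtDesc.pushSh f).map ((EtDesc.adjSh g').unit.app F) ≫ (EtDesc.pushCompSh f g').hom.app _ ≫
      (EtBC.pushCongrSh w).hom.app _ ≫ (EtDesc.pushCompSh g f').inv.app _ := by
    refine ((EtDesc.adjSh g).homEquiv_unit _ _ _).symm.trans ?_
    exact Equiv.apply_symm_apply _ _
  have h2 := congrArg (fun m => m.hom.app (op V) σ) h1
  refine h2.trans ?_
  exact sections_formulaSh f g f' g' w ((EtDesc.pullSh g').obj F) V _

set_option backward.isDefEq.respectTransparency.types false in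
/-- compatibility of the base change map with the canonical maps `can` on stalks -/
theorem can_baseChangeSh (F : EtDesc.Sh X)
    (b : ToType ((stalkSh (η' ≫ g)).obj ((EtDesc.pushSh f).obj F))) :
    can f' η' ξ' hξ' ((EtDesc.pullSh g').obj F).obj
      ((stalkSh η').map (EtBC.baseChange0Sh f g f' g' w F)
        ((stalkPullIsoSh g η').hom.app ((EtDesc.pushSh f).obj F) b)) =
    (stalkPullIsoSh g' ξ').hom.app F
      (can f (η' ≫ g) (ξ' ≫ g') (hζ_aux f g f' g' w η' ξ' hξ') F.obj b) := by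
  obtain ⟨V, v, σ, rfl⟩ := (Φ (η' ≫ g)).toPresheafFiber_jointly_surjective
    (P := ((EtDesc.pushSh f).obj F).obj) b
  have s1 := germ_compatSh g η' ((EtDesc.pushSh f).obj F) V v σ
  have s2 := (Φ η').toPresheafFiber_naturality_apply (EtBC.baseChange0Sh f g f' g' w F).hom
    ((EtCoh.bc g).obj V) ((fiberIso g η').inv.app V v)
    (((EtDesc.adjSh g).unit.app ((EtDesc.pushSh f).obj F)).hom.app (op V) σ)
  have s3 := baseChange0Sh_unit_apply f g f' g' w F V σ
  have s4 := toFiber_can_apply f' η' ξ' hξ' ((EtDesc.pullSh g').obj F).obj ((EtCoh.bc g).obj V)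
    ((fiberIso g η').inv.app V v)
    (((EtDesc.pullSh g').obj F).obj.map (θ f g f' g' w V).op
      (((EtDesc.adjSh g').unit.app F).hom.app (op ((EtCoh.bc f).obj V)) σ))
  have s5 := (Φ ξ').toPresheafFiber_w_apply (θ f g f' g' w V)
    (ptB f' η' ξ' hξ' ((EtCoh.bc g).obj V) ((fiberIso g η').inv.app V v))
    (P := ((EtDesc.pullSh g').obj F).obj)
    (((EtDesc.adjSh g').unit.app F).hom.app (op ((EtCoh.bc f).obj V)) σ)
  have s6 := pt_eq f g f' g' w η' ξ' hξ' V v
  have s7 := toFiber_can_apply f (η' ≫ g) (ξ' ≫ g') (hζ_aux f g f' g' w η' ξ' hξ') F.obj V v σ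
  have s8 := germ_compatSh g' ξ' F ((EtCoh.bc f).obj V)
    (ptB f (η' ≫ g) (ξ' ≫ g') (hζ_aux f g f' g' w η' ξ' hξ') V v) σ
  refine (congrArg (fun x => can f' η' ξ' hξ' ((EtDesc.pullSh g').obj F).obj
    ((stalkSh η').map (EtBC.baseChange0Sh f g f' g' w F) x)) s1).trans ?_
  refine (congrArg (fun x => can f' η' ξ' hξ' ((EtDesc.pullSh g').obj F).obj x) s2).trans ?_
  refine (congrArg (fun x => can f' η' ξ' hξ' ((EtDesc.pullSh g').obj F).obj
    ((Φ η').toPresheafFiber ((EtCoh.bc g).obj V) ((fiberIso g η').inv.app V v)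
          ((EtDesc.pushSh f').obj ((EtDesc.pullSh g').obj F)).obj x)) s3).trans ?_
  refine s4.trans ?_
  refine s5.trans ?_
  refine (congrArg (fun p => (Φ ξ').toPresheafFiber ((EtCoh.bc g').obj ((EtCoh.bc f).obj V)) p
    ((EtDesc.pullSh g').obj F).obj
    (((EtDesc.adjSh g').unit.app F).hom.app (op ((EtCoh.bc f).obj V)) σ)) s6).trans ?_
  refine s8.symm.trans ?_
  exact congrArg (fun x => (stalkPullIsoSh g' ξ').hom.app F x) s7.symm

end CanBC

end Groth.Agent.R2.H13.ShBC
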