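import Mathlib
import Groth.Prelude.Def_EtCore

/-!
# Strictly henselian local schemes (helper1, round 2)

* `exists_lift_etale`: for `R` henselian local and `B` an etale `R`-algebra, every `R`-algebra map
  `B → κ` to the residue field lifts to an `R`-algebra map `B → R`.
* `exists_section`: the scheme version (sections of etale `Spec R`-schemes through rational points
  of the closed fibre).
* `toPresheafFiber_bijective`: global sections = stalk at the closed geometric point.
* `surjective_top_of_epi`, `H_subsingleton`: exactness of global sections and vanishing of higher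
  etale cohomology on a strictly henselian local scheme.
-/

set_option autoImplicit false
universe u

namespace Groth.Agent.R2.H1.HensSection

open Polynomial IsLocalRing CategoryTheory CategoryTheory.Limits AlgebraicGeometry Opposite

variable (R : Type u) [CommRing R] [HenselianLocalRing R]

/-- the residue map as an `R`-algebra map -/
noncomputable abbrev resAlg : R →ₐ[R] ResidueField R := Algebra.ofId R (ResidueField R)

lemma resAlg_apply (r : R) : resAlg R r = residue R r := rfl

variable {R}

/-- Henselian lifting of residue-field points of a standard etale algebra. -/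
lemma exists_lift_pair (P : StandardEtalePair R) (ψ₀ : P.Ring →ₐ[R] ResidueField R) :
    ∃ ψ : P.Ring →ₐ[R] R, (resAlg R).comp ψ = ψ₀ := by
  have hx₀ : P.HasMap (ψ₀ P.X) := StandardEtalePair.hasMap_X.map ψ₀
  have H := ((HenselianLocalRing.TFAE R).out 0 1).mp ‹HenselianLocalRing R›
  obtain ⟨a, ha, hax⟩ := H P.f P.monic_f (ψ₀ P.X) hx₀.1 hx₀.isUnit_derivative_f.ne_zero
  have hmap : P.HasMap a := by
    refine ⟨by rw [coe_aeval_eq_eval]; exact ha, ?_⟩
    have h1 : resAlg R (aeval a P.g) = aeval (ψ₀ P.X) P.g := by
      rw [← aeval_algHom_apply, resAlg_apply, hax]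
    have h2 : IsUnit (residue R (aeval a P.g)) := by
      rw [← resAlg_apply, h1]; exact hx₀.2
    exact (isUnit_map_iff (residue R) _).mp h2
  refine ⟨P.lift a hmap, ?_⟩
  apply StandardEtalePair.hom_ext
  simp only [AlgHom.comp_apply, StandardEtalePair.lift_X, resAlg_apply, hax]


/-- Henselian lifting of residue-field points of an etale algebra over a henselian local ring:
every `R`-algebra map `B → κ` lifts to an `R`-algebra map `B → R`. -/
theorem exists_lift_etale (B : Type u) [CommRing B] [Algebra R B] [Algebra.Etale R B]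
    (ψ₀ : B →ₐ[R] ResidueField R) : ∃ ψ : B →ₐ[R] R, (resAlg R).comp ψ = ψ₀ := by
  let Q : Ideal B := RingHom.ker ψ₀.toRingHom
  have hQ : Q.IsPrime := RingHom.ker_isPrime _
  have hloc : (⟨Q, hQ⟩ : PrimeSpectrum B) ∈ Algebra.etaleLocus R B := by
    rw [Algebra.etaleLocus_eq_univ_iff_etale.mpr inferInstance]; trivial
  have : Algebra.IsEtaleAt R Q := hloc
  obtain ⟨f, hfQ, hstd⟩ := Algebra.IsEtaleAt.exists_isStandardEtale (R := R) Q
  have hfu : IsUnit (ψ₀ f) := by
    rw [isUnit_iff_ne_zero]
    exact fun h => hfQ h
  let ψ₀' : Localization.Away f →ₐ[R] ResidueField R := IsLocalization.Away.liftAlgHom f hfu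
  let Pr : StandardEtalePresentation R (Localization.Away f) :=
    hstd.nonempty_standardEtalePresentation.some
  obtain ⟨ψ', hψ'⟩ := exists_lift_pair Pr.P (ψ₀'.comp Pr.equivRing.symm.toAlgHom)
  refine ⟨(ψ'.comp Pr.equivRing.toAlgHom).comp (IsScalarTower.toAlgHom R B (Localization.Away f)), ?_⟩
  ext b
  have h1 : (resAlg R) (ψ' (Pr.equivRing (algebraMap B (Localization.Away f) b))) =
      ψ₀' (Pr.equivRing.symm (Pr.equivRing (algebraMap B (Localization.Away f) b))) :=
    congrArg (fun φ => φ (Pr.equivRing (algebraMap B (Localization.Away f) b))) hψ'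
  rw [AlgEquiv.symm_apply_apply] at h1
  refine h1.trans ?_
  exact IsLocalization.Away.lift_eq f hfu b

variable (R : Type u) [CommRing R] [HenselianLocalRing R]

/-- the closed point of `Spec R` as a morphism from the spectrum of the residue field -/
noncomputable abbrev closedPt : Spec (CommRingCat.of (ResidueField R)) ⟶ Spec (CommRingCat.of R) :=
  Spec.map (CommRingCat.ofHom (IsLocalRing.residue R))

variable {R}

set_option backward.isDefEq.respectTransparency.types false in
/-- an etale `Spec R`-scheme with a point over the closed point with trivial residue field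
extension admits a section through that point (`R` henselian local). -/
theorem exists_section {Y : Scheme.{u}} (p : Y ⟶ Spec (CommRingCat.of R)) [Etale p]
    (y : Spec (CommRingCat.of (ResidueField R)) ⟶ Y) (hy : y ≫ p = closedPt R) :
    ∃ σ : Spec (CommRingCat.of R) ⟶ Y, σ ≫ p = 𝟙 _ ∧ closedPt R ≫ σ = y := by
  obtain ⟨V, hV, hyV, -⟩ := exists_isAffineOpen_mem_and_subset (x := y default) (U := ⊤) trivial
  let B := Γ(Y, V)
  let j : Spec B ⟶ Spec (CommRingCat.of R) := hV.fromSpec ≫ p
  let φ : CommRingCat.of R ⟶ B := Spec.preimage j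
  have hφ : Spec.map φ = j := Spec.map_preimage j
  have hφet : φ.hom.Etale := by
    rw [← HasRingHomProperty.Spec_iff (P := @Etale), hφ]
    infer_instance
  let _ : Algebra R B := φ.hom.toAlgebra
  have hB : Algebra.Etale R B := hφet
  have hrange : Set.range y ⊆ Set.range hV.fromSpec := by
    rintro _ ⟨a, rfl⟩
    rw [hV.range_fromSpec, Subsingleton.elim a default]
    exact hyV
  let y' : Spec (CommRingCat.of (ResidueField R)) ⟶ Spec B := IsOpenImmersion.lift hV.fromSpec y hrange
  have hy' : y' ≫ hV.fromSpec = y := IsOpenImmersion.lift_fac _ _ _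
  let ψ₀c : B ⟶ CommRingCat.of (ResidueField R) := Spec.preimage y'
  have hψ₀c : Spec.map ψ₀c = y' := Spec.map_preimage y'
  have hcomp : φ ≫ ψ₀c = CommRingCat.ofHom (IsLocalRing.residue R) := by
    apply Spec.map_injective
    rw [Spec.map_comp, hψ₀c, hφ, ← Category.assoc, hy', hy]
  let ψ₀ : B →ₐ[R] ResidueField R :=
    { ψ₀c.hom with
      commutes' := fun r => by
        change (φ ≫ ψ₀c).hom r = _
        rw [hcomp]
        rfl }
  obtain ⟨ψ, hψ⟩ := exists_lift_etale B ψ₀
  have h1 : φ ≫ CommRingCat.ofHom ψ.toRingHom = 𝟙 _ := by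
    ext r
    exact ψ.commutes r
  have h2 : CommRingCat.ofHom ψ.toRingHom ≫ CommRingCat.ofHom (IsLocalRing.residue R) = ψ₀c := by
    ext b
    exact congrArg (fun χ => χ b) hψ
  refine ⟨Spec.map (CommRingCat.ofHom ψ.toRingHom) ≫ hV.fromSpec, ?_, ?_⟩
  · rw [Category.assoc]
    change Spec.map _ ≫ j = _
    rw [← hφ, ← Spec.map_comp, h1, Spec.map_id]
  · rw [← Category.assoc, ← Spec.map_comp, h2, hψ₀c, hy']

variable (R : Type u) [CommRing R] [HenselianLocalRing R] [IsSepClosed (ResidueField R)]

/-- the closed geometric point of `Spec R`, as an element of the fibre of the terminal object -/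
noncomputable abbrev closedFib :
    (Scheme.pointSmallEtale (closedPt R)).fiber.obj (EtCoh.top (Spec (CommRingCat.of R))) :=
  Over.homMk (closedPt R) (Category.comp_id _)

variable {R}

set_option backward.isDefEq.respectTransparency.types false in
/-- every etale neighbourhood of the closed geometric point of a strictly henselian local scheme
receives a map from the trivial neighbourhood -/
theorem exists_section_fib (Y : (Spec (CommRingCat.of R)).Etale)
    (y : (Scheme.pointSmallEtale (closedPt R)).fiber.obj Y) :
    ∃ σ : EtCoh.top (Spec (CommRingCat.of R)) ⟶ Y,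
      (Scheme.pointSmallEtale (closedPt R)).fiber.map σ (closedFib R) = y := by
  obtain ⟨σ₀, h1, h2⟩ := exists_section Y.hom y.left (Over.w y)
  refine ⟨MorphismProperty.Over.homMk σ₀ h1 trivial, ?_⟩
  apply Over.OverMorphism.ext
  exact h2


instance pfcAb : PreservesFilteredColimitsOfSize.{u, u} (forget AddCommGrpCat.{u + 1}) :=
  preservesFilteredColimitsOfSize_shrink.{u, u + 1, u, u + 1} _

set_option backward.isDefEq.respectTransparency.types false in
/-- global sections over a strictly henselian local scheme map bijectively to the stalk at the closed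
geometric point -/
theorem toPresheafFiber_bijective (F : EtCoh.Ab (Spec (CommRingCat.of R))) :
    Function.Bijective ((Scheme.pointSmallEtale (closedPt R)).toPresheafFiber
      (EtCoh.top (Spec (CommRingCat.of R))) (closedFib R) F.obj) := by
  let Φ := Scheme.pointSmallEtale (closedPt R)
  let T := EtCoh.top (Spec (CommRingCat.of R))
  constructor
  · intro z₁ z₂ h
    obtain ⟨Y, f, y, -, hf⟩ := (Φ.toPresheafFiber_eq_iff' T (closedFib R) z₁ z₂).mp h
    obtain ⟨σ, -⟩ := exists_section_fib Y y
    have hσ : σ ≫ f = 𝟙 T := (EtCore.topIsTerminal _).hom_ext _ _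
    have e : ∀ z : ToType (F.obj.obj (op T)), F.obj.map σ.op (F.obj.map f.op z) = z := by
      intro z
      rw [← ConcreteCategory.comp_apply, ← Functor.map_comp, ← op_comp, hσ, op_id,
        CategoryTheory.Functor.map_id]
      rfl
    rw [← e z₁, hf, e z₂]
  · intro p
    obtain ⟨Y, y, z, rfl⟩ := Φ.toPresheafFiber_jointly_surjective (P := F.obj) p
    obtain ⟨σ, hσ⟩ := exists_section_fib Y y
    refine ⟨F.obj.map σ.op z, ?_⟩
    rw [Φ.toPresheafFiber_w_apply, hσ]

open Abelian

variable {R : Type u} [CommRing R] [HenselianLocalRing R] [IsSepClosed (ResidueField R)]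

set_option backward.isDefEq.respectTransparency.types false in
/-- on a strictly henselian local scheme, epimorphisms of abelian etale sheaves are surjective on
global sections -/
theorem surjective_top_of_epi {F G : EtCoh.Ab (Spec (CommRingCat.of R))} (g : F ⟶ G) [Epi g] :
    Function.Surjective (g.hom.app (op (EtCoh.top (Spec (CommRingCat.of R))))) := by
  intro q
  have hls : Sheaf.IsLocallySurjective g := (Sheaf.isLocallySurjective_iff_epi' (φ := g)).2 inferInstance
  let Φ := Scheme.pointSmallEtale (closedPt R)
  obtain ⟨Y, f, ⟨t', ht'⟩, y, -⟩ := Φ.jointly_surjective _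
    (Presheaf.imageSieve_mem (Spec (CommRingCat.of R)).smallEtaleTopology g.hom q) (closedFib R)
  obtain ⟨σ, -⟩ := exists_section_fib Y y
  have hσ : σ ≫ f = 𝟙 _ := (EtCore.topIsTerminal _).hom_ext _ _
  refine ⟨F.obj.map σ.op t', ?_⟩
  have n1 := NatTrans.naturality_apply g.hom σ.op t'
  rw [n1, ht', ← ConcreteCategory.comp_apply, ← Functor.map_comp, ← op_comp, hσ, op_id,
    CategoryTheory.Functor.map_id]
  rfl


set_option backward.isDefEq.respectTransparency.types false in
/-- etale cohomology of a strictly henselian local scheme vanishes in positive degrees -/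
theorem H_subsingleton (p : ℕ) : ∀ (F : EtCoh.Ab (Spec (CommRingCat.of R))),
    Subsingleton (EtCoh.H (Spec (CommRingCat.of R)) F (p + 1)) := by
  induction p with
  | zero =>
    intro F
    refine subsingleton_of_forall_eq 0 fun x₁ => ?_
    let S : ShortComplex (EtCoh.Ab (Spec (CommRingCat.of R))) :=
      ShortComplex.mk (Injective.ι F) (cokernel.π (Injective.ι F)) (cokernel.condition _)
    have hS : S.ShortExact :=
      { exact := ShortComplex.exact_cokernel (Injective.ι F)
        mono_f := inferInstanceAs (Mono (Injective.ι F))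
        epi_g := inferInstanceAs (Epi (cokernel.π (Injective.ι F))) }
    have h0 : x₁.comp (Ext.mk₀ S.f) (add_zero 1) = 0 :=
      Ext.eq_zero_of_injective (I := Injective.under F) _
    obtain ⟨x₃, hx₃⟩ := Ext.covariant_sequence_exact₁ _ hS x₁ h0 (zero_add 1)
    -- lift `x₃` to the injective
    let T := EtCoh.top (Spec (CommRingCat.of R))
    have hT := EtCore.topIsTerminal (Spec (CommRingCat.of R))
    obtain ⟨t, ht⟩ := surjective_top_of_epi S.g (Sheaf.H.equiv₀ S.X₃ hT x₃)
    have e1 : Sheaf.H.map S.g 0 ((Sheaf.H.equiv₀ S.X₂ hT).symm t) = x₃ := by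
      rw [Sheaf.H.equiv₀_symm_naturality, ht, AddEquiv.symm_apply_apply]
    rw [← hx₃, ← e1, Sheaf.H.map_apply, Ext.comp_assoc_of_second_deg_zero, hS.comp_extClass,
      Ext.comp_zero]
  | succ m ih =>
    intro F
    refine subsingleton_of_forall_eq 0 fun x₁ => ?_
    let S : ShortComplex (EtCoh.Ab (Spec (CommRingCat.of R))) :=
      ShortComplex.mk (Injective.ι F) (cokernel.π (Injective.ι F)) (cokernel.condition _)
    have hS : S.ShortExact :=
      { exact := ShortComplex.exact_cokernel (Injective.ι F)
        mono_f := inferInstanceAs (Mono (Injective.ι F))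
        epi_g := inferInstanceAs (Epi (cokernel.π (Injective.ι F))) }
    have h0 : x₁.comp (Ext.mk₀ S.f) (add_zero (m + 1 + 1)) = 0 :=
      Ext.eq_zero_of_injective (I := Injective.under F) _
    obtain ⟨x₃, hx₃⟩ := Ext.covariant_sequence_exact₁ _ hS x₁ h0 (rfl : m + 1 + 1 = m + 1 + 1)
    have := ih S.X₃
    rw [← hx₃, Subsingleton.elim x₃ 0, Ext.zero_comp]

end Groth.Agent.R2.H1.HensSection
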