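import Mathlib
import Groth.Agent.R2.H13ShStalk
import Groth.Agent.R2.H1HensSection

/-!
# Sheaves of sets on a strictly henselian local scheme (helper13)

Namespace `Groth.Agent.R2.H13.ShHens`.

* `toPresheafFiber_bijectiveSh` : global sections = stalk at the closed geometric point (sheaves of sets).
* `sectionsIsoStalk` : the natural isomorphism `Γ(Spec R, -) ≅ stalk`.
-/

set_option autoImplicit false
set_option linter.style.haveILetI false
universe u

namespace Groth.Agent.R2.H13.ShHens

open CategoryTheory CategoryTheory.Limits AlgebraicGeometry Opposite IsLocalRing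
open Groth.Agent.R2.H1.HensSection Groth.Agent.R2.H13.ShStalk

variable {R : Type u} [CommRing R] [HenselianLocalRing R] [IsSepClosed (ResidueField R)]

set_option backward.isDefEq.respectTransparency.types false in
/-- global sections over a strictly henselian local scheme map bijectively to the stalk at the closed
geometric point (sheaves of sets) -/
theorem toPresheafFiber_bijectiveSh (F : EtDesc.Sh (Spec (CommRingCat.of R))) :
    Function.Bijective ((Scheme.pointSmallEtale (closedPt R)).toPresheafFiber
      (EtCoh.top (Spec (CommRingCat.of R))) (closedFib R) F.obj) := by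
  let Φ := Scheme.pointSmallEtale (closedPt R)
  let T := EtCoh.top (Spec (CommRingCat.of R))
  constructor
  · intro z₁ z₂ h
    obtain ⟨Y, f, y, -, hf⟩ := (Φ.toPresheafFiber_eq_iff' (P := F.obj) T (closedFib R) z₁ z₂).mp h
    obtain ⟨σ, -⟩ := exists_section_fib Y y
    have hσ : σ ≫ f = 𝟙 T := (EtCore.topIsTerminal _).hom_ext _ _
    have e : ∀ z : ToType (F.obj.obj (op T)), F.obj.map σ.op (F.obj.map f.op z) = z := by
      intro z
      rw [← ConcreteCategory.comp_apply, ← Functor.map_comp, ← op_comp, hσ, op_id,
        CategoryTheory.Functor.map_id]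
      rfl
    rw [← e z₁, hf, e z₂]
  · intro p
    obtain ⟨Y, y, z, rfl⟩ := Φ.toPresheafFiber_jointly_surjective (P := F.obj) p
    obtain ⟨σ, hσ⟩ := exists_section_fib Y y
    refine ⟨F.obj.map σ.op z, ?_⟩
    rw [Φ.toPresheafFiber_w_apply, hσ]

set_option backward.isDefEq.respectTransparency.types false in
/-- on a strictly henselian local scheme, global sections of sheaves of sets are naturally isomorphic
to the stalk at the closed geometric point -/
noncomputable def sectionsIsoStalk :
    (sheafSections (Spec (CommRingCat.of R)).smallEtaleTopology (Type (u + 1))).obj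
      (op (EtCoh.top (Spec (CommRingCat.of R)))) ≅ stalkSh (closedPt R) :=
  NatIso.ofComponents
    (fun F => @asIso _ _ _ _ ((Scheme.pointSmallEtale (closedPt R)).toPresheafFiber
      (EtCoh.top (Spec (CommRingCat.of R))) (closedFib R) F.obj)
      ((isIso_iff_bijective _).mpr (toPresheafFiber_bijectiveSh F)))
    (by
      intro F G a
      exact ((Scheme.pointSmallEtale (closedPt R)).toPresheafFiber_naturality a.hom
        (EtCoh.top (Spec (CommRingCat.of R))) (closedFib R)).symm)

end Groth.Agent.R2.H13.ShHens
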