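import Mathlib
import Groth.Agent.Lib.LeadCSA

/-!
# Étale monogenic subalgebras of central simple algebras (helper25)

Namespace `Groth.Agent.R2.H25.EtaleSub`.

* `adjoinRoot_separable`: every element of `k[X]/(f)` is separable over `k` when `f` is separable.
* `adjoinRootEquivAdjoin x : AdjoinRoot (minpoly k x) ≃ₐ[k] Algebra.adjoin k {x}` for `x` in any `k`-algebra.
* `isSeparable_adjoin_singleton`, `finrank_adjoin_singleton`.
* `exists_separable_monic`: a monic separable polynomial of every positive degree over any field.
* `exists_matrix_separable`, `exists_sep_seq`, `minpoly_pi_eq_prod`, `exists_pi_separable`.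
* `exists_separable_minpoly`, `exists_etale_adjoin`: a central simple algebra of dimension `r²` contains
  an element `x` with `k[x]` étale of dimension `r` (statement of S5702).
-/

set_option autoImplicit false
set_option linter.style.haveILetI false
universe u v

open Polynomial

namespace Groth.Agent.R2.H25.EtaleSub

section PartI

variable {k : Type*} [Field k]

/-- all elements of `k[X]/(f)` are separable over `k` when `f` is separable -/
theorem adjoinRoot_separable {f : k[X]} (hf : f.Separable) (z : AdjoinRoot f) :
    (minpoly k z).Separable := by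
  classical
  obtain ⟨q, rfl⟩ := AdjoinRoot.mk_surjective z
  let K := AlgebraicClosure k
  let fK : K[X] := f.map (algebraMap k K)
  have hfK0 : fK ≠ 0 := (Polynomial.map_ne_zero hf.ne_zero)
  let R : Finset K := fK.roots.toFinset
  let g : K → k[X] := fun α => minpoly k (aeval α q)
  let S : Finset k[X] := R.image g
  let G : k[X] := ∏ p ∈ S, p
  have hint : ∀ α : K, IsIntegral k (aeval α q) := fun α =>
    (Algebra.IsIntegral.isIntegral (R := k) (A := K) _)
  have hsepα : ∀ α ∈ R, IsSeparable k (aeval α q) := by
    intro α hα
    have hα' : aeval α f = 0 := by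
      have : IsRoot fK α := (mem_roots hfK0).1 (Multiset.mem_toFinset.1 hα)
      rwa [IsRoot, eval_map_algebraMap] at this
    have h1 : IsSeparable k α := hf.of_dvd (minpoly.dvd k α hα')
    have h2 : α ∈ separableClosure k K := mem_separableClosure_iff.2 h1
    have h3 : aeval α q ∈ (separableClosure k K).toSubalgebra := by
      have hle : Algebra.adjoin k {α} ≤ (separableClosure k K).toSubalgebra :=
        Algebra.adjoin_le (by simpa using h2)
      exact hle (Polynomial.aeval_mem_adjoin_singleton k α)
    exact mem_separableClosure_iff.1 h3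
  have hGsep : G.Separable := by
    refine Polynomial.separable_prod' ?_ ?_
    · intro p hp p' hp' hne
      obtain ⟨α, hα, rfl⟩ := Finset.mem_image.1 hp
      obtain ⟨α', hα', rfl⟩ := Finset.mem_image.1 hp'
      have hi := minpoly.irreducible (hint α)
      have hi' := minpoly.irreducible (hint α')
      rw [hi.coprime_iff_not_dvd]
      intro hdvd
      exact hne (eq_of_monic_of_associated (minpoly.monic (hint α)) (minpoly.monic (hint α'))
        (hi.associated_of_dvd hi' hdvd))
    · intro p hp
      obtain ⟨α, hα, rfl⟩ := Finset.mem_image.1 hp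
      exact hsepα α hα
  have hdvd : f ∣ G.comp q := by
    by_cases h0 : G.comp q = 0
    · rw [h0]; exact dvd_zero _
    rw [← Polynomial.map_dvd_map' (algebraMap k K)]
    have h0' : (G.comp q).map (algebraMap k K) ≠ 0 := Polynomial.map_ne_zero h0
    refine Polynomial.Splits.dvd_of_roots_le_roots (IsAlgClosed.splits _) hfK0 ?_
    rw [Multiset.le_iff_subset (nodup_roots hf.map)]
    intro α hα
    rw [mem_roots h0', IsRoot, eval_map_algebraMap, aeval_comp]
    have hαR : α ∈ R := Multiset.mem_toFinset.2 hα
    have hmem : g α ∈ S := Finset.mem_image_of_mem g hαR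
    obtain ⟨c, hc⟩ := Finset.dvd_prod_of_mem (fun p => p) hmem
    have hc' : G = g α * c := hc
    rw [hc', map_mul]
    simp [g]
  have hz : aeval (AdjoinRoot.mk f q) G = 0 := by
    rw [← AdjoinRoot.aeval_eq, ← aeval_comp, AdjoinRoot.aeval_eq, AdjoinRoot.mk_eq_zero]
    exact hdvd
  exact hGsep.of_dvd (minpoly.dvd k _ hz)

variable {A : Type*} [Ring A] [Algebra k A]

/-- `k[x] ≅ k[X]/(minpoly x)`, for `x` in any (possibly noncommutative) `k`-algebra -/
noncomputable def adjoinRootEquivAdjoin (x : A) :
    AdjoinRoot (minpoly k x) ≃ₐ[k] Algebra.adjoin k ({x} : Set A) :=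
  ((Ideal.quotientEquivAlgOfEq k (show Ideal.span {minpoly k x} = RingHom.ker (aeval (R := k) x) by
      rw [minpoly.ker_aeval_eq_span_minpoly])).trans
    (Ideal.quotientKerEquivRange (aeval (R := k) x))).trans
    (Subalgebra.equivOfEq _ _ (Algebra.adjoin_singleton_eq_range_aeval k x).symm)

theorem isSeparable_adjoin_singleton (x : A) (hx : (minpoly k x).Separable) :
    Algebra.IsSeparable k (Algebra.adjoin k ({x} : Set A)) := by
  refine ⟨fun y => ?_⟩
  obtain ⟨z, rfl⟩ := (adjoinRootEquivAdjoin x).surjective y
  unfold IsSeparable
  rw [minpoly.algEquiv_eq]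
  exact adjoinRoot_separable hx z

theorem finrank_adjoin_singleton (x : A) :
    Module.finrank k (Algebra.adjoin k ({x} : Set A)) = (minpoly k x).natDegree := by
  rw [← (adjoinRootEquivAdjoin x).toLinearEquiv.finrank_eq]
  exact finrank_quotient_span_eq_natDegree

end PartI

section SplitCase

variable (k : Type*) [Field k]

/-- over any field there is a monic separable polynomial of each positive degree -/
theorem exists_separable_monic (r : ℕ) (hr : 1 ≤ r) :
    ∃ f : k[X], f.Monic ∧ f.Separable ∧ f.natDegree = r := by
  by_cases hrk : (r : k) = 0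
  · -- `X ^ r - (X + 1)`
    have hr2 : 2 ≤ r := by
      rcases Nat.lt_or_ge r 2 with h | h
      · have : r = 1 := by omega
        subst this
        simp at hrk
      · exact h
    have hdeg : degree (X + 1 : k[X]) < (r : WithBot ℕ) := by
      rw [show (X + 1 : k[X]) = X + C 1 by simp, degree_X_add_C]
      exact_mod_cast hr2
    refine ⟨X ^ r - (X + 1), monic_X_pow_sub hdeg, ?_, ?_⟩
    · rw [separable_def]
      have hXr : derivative (X ^ r : k[X]) = 0 := by
        rw [derivative_X_pow, hrk, C_0, zero_mul]
      have hder : derivative (X ^ r - (X + 1) : k[X]) = -1 := by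
        simp [hXr]
      rw [hder]
      exact (isCoprime_one_right).neg_right
    · rw [natDegree_sub_eq_left_of_natDegree_lt, natDegree_X_pow]
      rw [natDegree_X_pow]
      have : (X + 1 : k[X]).natDegree ≤ 1 := by
        rw [show (X + 1 : k[X]) = X + C 1 by simp]
        exact (natDegree_X_add_C (1 : k)).le
      omega
  · refine ⟨X ^ r - C 1, monic_X_pow_sub_C 1 (by omega), separable_X_pow_sub_C 1 hrk one_ne_zero,
      natDegree_X_pow_sub_C⟩

/-- a matrix with separable minimal polynomial of full degree -/
theorem exists_matrix_separable (r : ℕ) (hr : 1 ≤ r) :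
    ∃ v : Matrix (Fin r) (Fin r) k, (minpoly k v).Separable ∧ (minpoly k v).natDegree = r := by
  obtain ⟨f, hmon, hsep, hdeg⟩ := exists_separable_monic k r hr
  let pb := AdjoinRoot.powerBasis' hmon
  have hdim : pb.dim = r := by rw [AdjoinRoot.powerBasis'_dim, hdeg]
  let b : Module.Basis (Fin r) k (AdjoinRoot f) := pb.basis.reindex (finCongr hdim)
  refine ⟨Algebra.leftMulMatrix b (AdjoinRoot.root f), ?_⟩
  have h1 : minpoly k (Algebra.leftMulMatrix b (AdjoinRoot.root f)) = f := by
    rw [minpoly.algHom_eq (Algebra.leftMulMatrix b) (Algebra.leftMulMatrix_injective b),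
      AdjoinRoot.minpoly_root hmon.ne_zero, hmon.leadingCoeff]
    simp
  rw [h1]
  exact ⟨hsep, hdeg⟩

end SplitCase

section InfiniteCase

variable {k : Type*} [Field k]

/-- in an infinite field one can choose `n` elements whose pairwise differences avoid a finite set -/
theorem exists_sep_seq [Infinite k] (G : Finset k) (n : ℕ) :
    ∃ c : Fin n → k, ∀ i j, i ≠ j → c i - c j ∉ G := by
  classical
  induction n with
  | zero => exact ⟨Fin.elim0, fun i => i.elim0⟩
  | succ n ih =>
    obtain ⟨c, hc⟩ := ih
    let bad : Finset k := (Finset.univ.biUnion fun j : Fin n => G.image (fun g => c j + g)) ∪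
      (Finset.univ.biUnion fun j : Fin n => G.image (fun g => c j - g))
    obtain ⟨t, ht⟩ := Infinite.exists_notMem_finset bad
    refine ⟨Fin.snoc c t, ?_⟩
    intro i j hij
    induction i using Fin.lastCases with
    | last =>
      induction j using Fin.lastCases with
      | last => exact absurd rfl hij
      | cast j =>
        simp only [Fin.snoc_last, Fin.snoc_castSucc]
        intro hmem
        apply ht
        refine Finset.mem_union_left _ (Finset.mem_biUnion.2 ⟨j, Finset.mem_univ _, ?_⟩)
        exact Finset.mem_image.2 ⟨t - c j, hmem, by ring⟩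
    | cast i =>
      induction j using Fin.lastCases with
      | last =>
        simp only [Fin.snoc_last, Fin.snoc_castSucc]
        intro hmem
        apply ht
        refine Finset.mem_union_right _ (Finset.mem_biUnion.2 ⟨i, Finset.mem_univ _, ?_⟩)
        exact Finset.mem_image.2 ⟨c i - t, hmem, by ring⟩
      | cast j =>
        simp only [Fin.snoc_castSucc]
        exact hc i j (fun h => hij (by rw [h]))

variable {L : Type*} [Field L] [Algebra k L] [FiniteDimensional k L]

/-- minimal polynomial of a tuple with pairwise coprime minimal polynomials -/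
theorem minpoly_pi_eq_prod {n : ℕ} (v : Fin n → L)
    (hcop : ∀ i j, i ≠ j → IsCoprime (minpoly k (v i)) (minpoly k (v j))) :
    minpoly k v = ∏ i, minpoly k (v i) := by
  have hint : ∀ i, IsIntegral k (v i) := fun i => Algebra.IsIntegral.isIntegral _
  have hintv : IsIntegral k v := Algebra.IsIntegral.isIntegral _
  have hev : ∀ (q : k[X]) (i : Fin n), (aeval v q) i = aeval (v i) q := fun q i =>
    (aeval_algHom_apply (Pi.evalAlgHom k (fun _ : Fin n => L) i) v q).symm
  have h1 : minpoly k v ∣ ∏ i, minpoly k (v i) := by
    apply minpoly.dvd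
    funext i
    rw [hev]
    obtain ⟨c, hc⟩ := Finset.dvd_prod_of_mem (fun i => minpoly k (v i)) (Finset.mem_univ i)
    rw [hc, map_mul, minpoly.aeval, zero_mul]
    rfl
  have h2 : (∏ i, minpoly k (v i)) ∣ minpoly k v := by
    refine Finset.prod_dvd_of_coprime (fun i _ j _ hij => hcop i j hij) (fun i _ => ?_)
    apply minpoly.dvd
    rw [← hev, minpoly.aeval]
    rfl
  exact eq_of_monic_of_associated (minpoly.monic hintv)
    (monic_prod_of_monic _ _ fun i _ => minpoly.monic (hint i)) (associated_of_dvd_dvd h1 h2)

theorem exists_pi_separable [Infinite k] [Algebra.IsSeparable k L] (n : ℕ) :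
    ∃ v : Fin n → L, (minpoly k v).Separable ∧
      (minpoly k v).natDegree = n * Module.finrank k L := by
  classical
  obtain ⟨θ, hθ⟩ := Field.exists_primitive_element k L
  have hintθ : IsIntegral k θ := Algebra.IsIntegral.isIntegral _
  set μ := minpoly k θ with hμ
  have hd : Module.finrank k L = μ.natDegree := by
    rw [← IntermediateField.adjoin.finrank hintθ, hθ, IntermediateField.finrank_top']
  -- the bad differences
  let RL : Finset L := (μ.map (algebraMap k L)).roots.toFinset
  have hinj : Function.Injective (fun c : k => θ + algebraMap k L c) := fun a b h =>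
    (algebraMap k L).injective (add_left_cancel h)
  let G : Finset k := RL.preimage (fun c : k => θ + algebraMap k L c) hinj.injOn
  have hG : ∀ c : k, aeval (θ + algebraMap k L c) μ = 0 → c ∈ G := by
    intro c hc
    rw [Finset.mem_preimage, Multiset.mem_toFinset, mem_roots (Polynomial.map_ne_zero
      (minpoly.ne_zero hintθ)), IsRoot, eval_map_algebraMap]
    exact hc
  obtain ⟨c, hc⟩ := exists_sep_seq G n
  let v : Fin n → L := fun i => θ + algebraMap k L (c i)
  have hv : ∀ i, minpoly k (v i) = μ.comp (X - C (c i)) := fun i => minpoly.add_algebraMap θ (c i)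
  have hint : ∀ i, IsIntegral k (v i) := fun i => Algebra.IsIntegral.isIntegral _
  have hcop : ∀ i j, i ≠ j → IsCoprime (minpoly k (v i)) (minpoly k (v j)) := by
    intro i j hij
    rw [(minpoly.irreducible (hint i)).coprime_iff_not_dvd]
    intro hdvd
    apply hc i j hij
    apply hG
    obtain ⟨w, hw⟩ := hdvd
    have h0 : aeval (v i) (minpoly k (v j)) = 0 := by
      rw [hw, map_mul, minpoly.aeval, zero_mul]
    rw [hv j, aeval_comp] at h0
    have : aeval (v i) (X - C (c j) : k[X]) = θ + algebraMap k L (c i - c j) := by
      simp [v]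
      ring
    rwa [this] at h0
  refine ⟨v, ?_, ?_⟩
  · rw [minpoly_pi_eq_prod v hcop]
    exact separable_prod' (fun i _ j _ hij => hcop i j hij)
      (fun i _ => Algebra.IsSeparable.isSeparable k (v i))
  · rw [minpoly_pi_eq_prod v hcop, natDegree_prod_of_monic _ _ (fun i _ => minpoly.monic (hint i))]
    have : ∀ i ∈ (Finset.univ : Finset (Fin n)), (minpoly k (v i)).natDegree = μ.natDegree := by
      intro i _
      rw [hv i, natDegree_comp, natDegree_X_sub_C, mul_one]
    rw [Finset.sum_congr rfl this, Finset.sum_const, Finset.card_univ, Fintype.card_fin, hd,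
      smul_eq_mul]

end InfiniteCase

section Main

variable (k : Type u) [Field k] (A : Type v) [Ring A] [Algebra k A]

omit A [Ring A] [Algebra k A] in
theorem exists_of_injective {A : Type*} [Ring A] [Algebra k A] {B : Type*} [Ring B] [Algebra k B] (ι : B →ₐ[k] A)
    (hι : Function.Injective ι) (w : B) (r : ℕ)
    (h : (minpoly k w).Separable ∧ (minpoly k w).natDegree = r) :
    ∃ x : A, (minpoly k x).Separable ∧ (minpoly k x).natDegree = r :=
  ⟨ι w, by rw [minpoly.algHom_eq ι hι]; exact h⟩

variable [Algebra.IsCentral k A] [IsSimpleRing A] [FiniteDimensional k A]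

open Groth.Agent.Lib.LeadCSA in
theorem exists_separable_minpoly (r : ℕ) (hA : Module.finrank k A = r ^ 2) :
    ∃ x : A, (minpoly k x).Separable ∧ (minpoly k x).natDegree = r := by
  classical
  haveI : IsArtinianRing A := IsArtinianRing.of_finite k A
  obtain ⟨n, hn, D, _, _, _, ⟨e⟩⟩ := IsSimpleRing.exists_algEquiv_matrix_divisionRing_finite k A
  haveI : Algebra.IsCentral k (Matrix (Fin n) (Fin n) D) := Algebra.IsCentral.of_algEquiv k _ _ e
  haveI : Algebra.IsCentral k D := isCentral_of_matrix (n := n)
  have hdim : r ^ 2 = n * n * Module.finrank k D := by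
    rw [← hA, e.toLinearEquiv.finrank_eq, Module.finrank_matrix]
    simp
  have hn1 : 1 ≤ n := Nat.one_le_iff_ne_zero.2 (NeZero.ne n)
  rcases finite_or_infinite k with hfin | hinf
  · -- finite field: `D = k`
    haveI : Finite D := Module.finite_of_finite k
    have hcomm : ∀ a b : D, a * b = b * a := fun a b => (littleWedderburn D).mul_comm a b
    have hsurj : Function.Surjective (algebraMap k D) := by
      intro d
      have hd : d ∈ Subalgebra.center k D := by
        rw [Subalgebra.mem_center_iff]
        intro b
        exact hcomm b d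
      exact Algebra.mem_bot.1 (Algebra.IsCentral.out hd)
    have hD1 : Module.finrank k D = 1 := by
      apply le_antisymm
      · have := LinearMap.finrank_le_finrank_of_surjective (f := Algebra.linearMap k D) hsurj
        simpa using this
      · exact Module.finrank_pos
    have hrn : r = n := by
      rw [hD1, mul_one, ← sq] at hdim
      exact Nat.pow_left_injective (n := 2) (by norm_num) hdim
    obtain ⟨v, hv1, hv2⟩ := exists_matrix_separable k n hn1
    refine exists_of_injective k (e.symm.toAlgHom.comp ((Algebra.ofId k D).mapMatrix)) ?_ v r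
      ⟨hv1, by rw [hv2, hrn]⟩
    refine e.symm.injective.comp ?_
    intro a b hab
    ext i j
    have := congrFun (congrFun hab i) j
    exact (algebraMap k D).injective this
  · -- infinite field: a separable maximal subfield of `D`
    obtain ⟨L, hLc, hLs, hLcent⟩ := exists_separable_self_centralizing (k := k) (D := D)
    letI : Field L := fieldOfComm L hLc
    have hfr : Module.finrank k D = Module.finrank k L * Module.finrank k L := by
      have := centralizer_finrank (k := k) (A := D) L
      rw [hLcent] at this
      exact this
    have hrn : r = n * Module.finrank k L := by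
      have : r ^ 2 = (n * Module.finrank k L) ^ 2 := by rw [hdim, hfr]; ring
      exact Nat.pow_left_injective (n := 2) (by norm_num) this
    obtain ⟨v, hv1, hv2⟩ := exists_pi_separable (k := k) (L := L) n
    refine exists_of_injective k (e.symm.toAlgHom.comp ((Matrix.diagonalAlgHom k).comp
      (AlgHom.compLeft L.val (Fin n)))) ?_ v r ⟨hv1, by rw [hv2, hrn]⟩
    refine e.symm.injective.comp ?_
    refine (Matrix.diagonal_injective).comp ?_
    intro a b hab
    funext i
    exact Subtype.val_injective (congrFun hab i)


theorem exists_etale_adjoin (r : ℕ) (hA : Module.finrank k A = r ^ 2) :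
    ∃ x : A, Algebra.IsSeparable k (Algebra.adjoin k ({x} : Set A)) ∧
      Module.finrank k (Algebra.adjoin k ({x} : Set A)) = r := by
  obtain ⟨x, h1, h2⟩ := exists_separable_minpoly k A r hA
  exact ⟨x, isSeparable_adjoin_singleton x h1, by rw [finrank_adjoin_singleton, h2]⟩

end Main

end Groth.Agent.R2.H25.EtaleSub
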