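import Mathlib
import Groth.Agent.Lib.LeadAzumaya
import Groth.Agent.Lib.LeadAzumayaLocal
import Groth.Agent.R2.H25EtaleSub

/-!
# Regular elements of central simple algebras (helper14)

Field-level input for the maximal étale subalgebra rows (S5713, S5710, ...):
if `B` is an Azumaya (= central simple) algebra of dimension `r²` over a field `k` and `x : B`
generates a separable commutative subalgebra `k[x]` of dimension `r`, then the centralizer of `x`
is `k[x]`.
-/

set_option autoImplicit false
universe u

open TensorProduct Polynomial

namespace Groth.Agent.R2.H14.AzRegField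

section Commutator

variable (R : Type*) [CommRing R] {A : Type*} [Ring A] [Algebra R A]

/-- `ad x : y ↦ x * y - y * x` as a linear map. -/
def ad (x : A) : A →ₗ[R] A := LinearMap.mulLeft R x - LinearMap.mulRight R x

@[simp] lemma ad_apply (x y : A) : ad R x y = x * y - y * x := rfl

lemma mem_ker_ad {x y : A} : y ∈ LinearMap.ker (ad R x) ↔ x * y = y * x := by
  rw [LinearMap.mem_ker, ad_apply, sub_eq_zero]

end Commutator

section EndAlgClosed

variable {K : Type*} [Field K] [IsAlgClosed K] {V : Type*} [AddCommGroup V] [Module K V]
  [FiniteDimensional K V]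

/-- An endomorphism whose minimal polynomial is separable of degree `dim V` has a centralizer of
dimension at most `dim V`. -/
theorem finrank_ker_ad_le (f : Module.End K V) (hsep : (minpoly K f).Separable)
    (hdeg : (minpoly K f).natDegree = Module.finrank K V) :
    Module.finrank K (LinearMap.ker (ad K f)) ≤ Module.finrank K V := by
  classical
  set n := Module.finrank K V with hn
  -- the roots of the minimal polynomial
  have hcard : (minpoly K f).roots.toFinset.card = n := by
    rw [Multiset.toFinset_card_of_nodup (nodup_roots hsep), IsAlgClosed.card_roots_eq_natDegree,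
      hdeg]
  let eq := Finset.equivFinOfCardEq hcard
  let μ : Fin n → K := fun i => ((eq.symm i : (minpoly K f).roots.toFinset) : K)
  have hμinj : Function.Injective μ := fun i j hij =>
    eq.symm.injective (Subtype.ext hij)
  have hμroot : ∀ i, (minpoly K f).IsRoot (μ i) := fun i => by
    have := (eq.symm i).2
    rw [Multiset.mem_toFinset] at this
    exact isRoot_of_mem_roots this
  have hev : ∀ i, ∃ v, f.HasEigenvector (μ i) v := fun i =>
    (Module.End.hasEigenvalue_of_isRoot (hμroot i)).exists_hasEigenvector
  choose v hv using hev
  have hli : LinearIndependent K v := Module.End.eigenvectors_linearIndependent' f μ hμinj v hv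
  rcases Nat.eq_zero_or_pos n with hn0 | hnpos
  · have h1 := Submodule.finrank_le (LinearMap.ker (ad K f))
    have h2 : Module.finrank K (Module.End K V) = n * n := by
      rw [Module.finrank_linearMap]
    rw [h2, hn0] at h1
    rw [hn0]
    simpa using h1
  haveI : Nonempty (Fin n) := ⟨⟨0, hnpos⟩⟩
  let b : Module.Basis (Fin n) K V :=
    basisOfLinearIndependentOfCardEqFinrank hli (by rw [Fintype.card_fin])
  have hb : ∀ i, b i = v i := fun i => by
    simp only [b, coe_basisOfLinearIndependentOfCardEqFinrank]
  have hfb : ∀ i, f (b i) = μ i • b i := fun i => by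
    rw [hb]; exact (hv i).apply_eq_smul
  -- the coordinate map
  let Φ : LinearMap.ker (ad K f) →ₗ[K] (Fin n → K) :=
    { toFun := fun g i => b.repr (g.1 (b i)) i
      map_add' := fun g h => by ext i; simp
      map_smul' := fun c g => by ext i; simp }
  have hΦ : Function.Injective Φ := by
    rw [← LinearMap.ker_eq_bot, LinearMap.ker_eq_bot']
    intro g hg
    have hcomm : ∀ w, f (g.1 w) = g.1 (f w) := fun w => by
      have := (mem_ker_ad K).mp g.2
      exact congrArg (fun φ : Module.End K V => φ w) this
    apply Subtype.ext
    apply b.ext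
    intro i
    change g.1 (b i) = 0
    set w := g.1 (b i) with hw
    have hfw : f w = μ i • w := by rw [hw, hcomm, hfb, map_smul]
    -- coordinates of w
    have hcoord : ∀ j, j ≠ i → b.repr w j = 0 := by
      intro j hji
      have h1 : b.repr (f w) j = μ j * b.repr w j := by
        have hlm : (b.coord j) ∘ₗ f = μ j • b.coord j := by
          apply b.ext
          intro l
          simp only [LinearMap.comp_apply, hfb, map_smul, LinearMap.smul_apply,
            Module.Basis.coord_apply, Module.Basis.repr_self, smul_eq_mul]
          by_cases hlj : l = j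
          · rw [hlj]
          · rw [Finsupp.single_eq_of_ne' hlj, mul_zero, mul_zero]
        have := congrArg (fun φ : V →ₗ[K] K => φ w) hlm
        simpa [Module.Basis.coord_apply] using this
      have h2 : b.repr (f w) j = μ i * b.repr w j := by
        rw [hfw, map_smul, Finsupp.smul_apply, smul_eq_mul]
      have h3 : (μ j - μ i) * b.repr w j = 0 := by rw [sub_mul, ← h1, ← h2, sub_self]
      rcases mul_eq_zero.mp h3 with h | h
      · exact absurd (hμinj (sub_eq_zero.mp h)) hji
      · exact h
    have hi : b.repr w i = 0 := congrFun hg i
    have : b.repr w = 0 := by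
      ext j
      by_cases hji : j = i
      · rw [hji, hi]; rfl
      · rw [hcoord j hji]; rfl
    exact b.repr.map_eq_zero_iff.mp this
  calc Module.finrank K (LinearMap.ker (ad K f))
      ≤ Module.finrank K (Fin n → K) := LinearMap.finrank_le_finrank_of_injective hΦ
    _ = n := by simp

end EndAlgClosed

section Field

open Groth.Agent.Lib.LeadAzumaya

variable {k : Type u} [Field k] {B : Type u} [Ring B] [Algebra k B]

/-- `k[x]` commutes with `x`. -/
lemma adjoin_le_ker_ad (x : B) :
    Subalgebra.toSubmodule (Algebra.adjoin k ({x} : Set B)) ≤ LinearMap.ker (ad k x) := by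
  intro y hy
  rw [mem_ker_ad]
  have hle : Algebra.adjoin k ({x} : Set B) ≤ Subalgebra.centralizer k ({x} : Set B) :=
    Algebra.adjoin_le (by
      intro z hz
      rw [Set.mem_singleton_iff] at hz
      subst hz
      rw [SetLike.mem_coe, Subalgebra.mem_centralizer_iff]
      intro g hg
      rw [Set.mem_singleton_iff] at hg
      rw [hg])
  exact (Subalgebra.mem_centralizer_iff k).mp (hle hy) x rfl

/-- powers below the degree of a polynomial relation: if `x^i`, `i < r`, are linearly independent
then a nonzero polynomial killing `x` has degree at least `r`. -/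
lemma le_natDegree_of_linearIndependent_pow {F : Type*} [Field F] {C : Type*} [Ring C]
    [Algebra F C] (x : C) (r : ℕ) (hli : LinearIndependent F (fun i : Fin r => x ^ (i : ℕ)))
    (p : F[X]) (hp : p ≠ 0) (hpx : aeval x p = 0) : r ≤ p.natDegree := by
  by_contra hlt
  rw [not_le] at hlt
  rw [aeval_eq_sum_range' hlt, ← Fin.sum_univ_eq_sum_range (fun i => p.coeff i • x ^ i)] at hpx
  have h0 := Fintype.linearIndependent_iff.mp hli (fun i => p.coeff i) hpx
  apply hp
  ext i
  rw [coeff_zero]
  by_cases hi : i < r
  · exact h0 ⟨i, hi⟩
  · exact coeff_eq_zero_of_natDegree_lt (lt_of_lt_of_le hlt (not_lt.mp hi))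

variable [IsAzumaya k B]

/-- **Centralizer of a regular element.**  In a central simple algebra of dimension `r²`, an
element `x` generating a separable subalgebra of dimension `r` has centralizer of dimension at
most `r`. -/
theorem finrank_ker_ad_le_of_regular (r : ℕ) (hB : Module.finrank k B = r ^ 2) (x : B)
    (hsep : Algebra.IsSeparable k (Algebra.adjoin k ({x} : Set B)))
    (hrk : Module.finrank k (Algebra.adjoin k ({x} : Set B)) = r) :
    Module.finrank k (LinearMap.ker (ad k x)) ≤ r := by
  classical
  have : Module.Finite k B := inferInstance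
  have hxint : IsIntegral k x := Algebra.IsIntegral.isIntegral x
  -- the minimal polynomial of `x`
  have hμdeg : (minpoly k x).natDegree = r := by
    rw [← hrk, Groth.Agent.R2.H25.EtaleSub.finrank_adjoin_singleton]
  have hμsep : (minpoly k x).Separable := by
    have h1 := Algebra.IsSeparable.isSeparable k
      (⟨x, Algebra.self_mem_adjoin_singleton k x⟩ : Algebra.adjoin k ({x} : Set B))
    have h2 : minpoly k (⟨x, Algebra.self_mem_adjoin_singleton k x⟩ :
        Algebra.adjoin k ({x} : Set B)) = minpoly k x :=
      (minpoly.algHom_eq (Algebra.adjoin k ({x} : Set B)).val Subtype.coe_injective _).symm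
    rw [IsSeparable, h2] at h1
    exact h1
  have hli : LinearIndependent k (fun i : Fin r => x ^ (i : ℕ)) := by
    have := linearIndependent_pow (K := k) x
    rw [hμdeg] at this
    exact this
  -- base change to the algebraic closure
  let K := AlgebraicClosure k
  haveI : IsAzumaya K (K ⊗[k] B) := isAzumaya_baseChange K B
  haveI : IsSimpleRing (K ⊗[k] B) := isSimpleRing_of_isAzumaya_field (k := K)
  obtain ⟨n, hn, ⟨e⟩⟩ := IsSimpleRing.exists_algEquiv_matrix_of_isAlgClosed K (K ⊗[k] B)
  let E : (K ⊗[k] B) ≃ₐ[K] Module.End K (Fin n → K) := e.trans Matrix.toLinAlgEquiv'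
  have hnr : n = r := by
    have h1 : Module.finrank K (K ⊗[k] B) = r ^ 2 := by
      rw [Module.finrank_baseChange, hB]
    have h2 : Module.finrank K (K ⊗[k] B) = n * n := by
      rw [E.toLinearEquiv.finrank_eq, Module.finrank_linearMap, Module.finrank_fin_fun]
    have h3 : n ^ 2 = r ^ 2 := by rw [sq, ← h2, h1]
    exact Nat.pow_left_injective (by norm_num : 2 ≠ 0) h3
  subst hnr
  set xK : K ⊗[k] B := (1 : K) ⊗ₜ[k] x with hxK
  set f : Module.End K (Fin n → K) := E xK with hf
  -- the minimal polynomial of `f`
  have hmin : minpoly K f = minpoly K xK := minpoly.algEquiv_eq E xK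
  have hkill : aeval xK ((minpoly k x).map (algebraMap k K)) = 0 := by
    rw [aeval_map_algebraMap]
    have : xK = (Algebra.TensorProduct.includeRight : B →ₐ[k] K ⊗[k] B) x := rfl
    rw [this, aeval_algHom_apply, minpoly.aeval, map_zero]
  have hmap0 : (minpoly k x).map (algebraMap k K) ≠ 0 :=
    (Polynomial.map_ne_zero_iff (algebraMap k K).injective).mpr (minpoly.ne_zero hxint)
  have hdvd : minpoly K xK ∣ (minpoly k x).map (algebraMap k K) := minpoly.dvd K xK hkill
  have hsepK : (minpoly K f).Separable := by
    rw [hmin]
    exact (hμsep.map (f := algebraMap k K)).of_dvd hdvd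
  have hxKint : IsIntegral K xK := Algebra.IsIntegral.isIntegral xK
  have hdegK : (minpoly K f).natDegree = Module.finrank K (Fin n → K) := by
    rw [Module.finrank_fin_fun, hmin]
    apply le_antisymm
    · have := natDegree_le_of_dvd hdvd hmap0
      rwa [natDegree_map, hμdeg] at this
    · have hliK : LinearIndependent K (fun i : Fin n => xK ^ (i : ℕ)) := by
        have := Module.Flat.linearIndependent_one_tmul (S := K) hli
        convert this using 2 with i
        rw [hxK, Algebra.TensorProduct.tmul_pow, one_pow]
      exact le_natDegree_of_linearIndependent_pow xK n hliK _ (minpoly.ne_zero hxKint)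
        (minpoly.aeval K xK)
  have hmain := finrank_ker_ad_le f hsepK hdegK
  rw [Module.finrank_fin_fun] at hmain
  -- transport back
  let C := LinearMap.ker (ad k x)
  let ι : K ⊗[k] C →ₗ[K] K ⊗[k] B := LinearMap.baseChange K C.subtype
  have hιinj : Function.Injective ι := by
    have := Module.Flat.lTensor_preserves_injective_linearMap (M := K) C.subtype
      C.injective_subtype
    intro a b hab
    apply this
    simpa [ι, LinearMap.baseChange_eq_ltensor] using hab
  have hιmem : ∀ z, E (ι z) ∈ LinearMap.ker (ad K f) := by
    intro z
    rw [mem_ker_ad, hf, ← map_mul, ← map_mul]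
    congr 1
    induction z using TensorProduct.induction_on with
    | zero => simp
    | add a b ha hb => rw [map_add, mul_add, add_mul, ha, hb]
    | tmul a c =>
      have hc : x * c.1 = c.1 * x := (mem_ker_ad k).mp c.2
      simp only [ι, LinearMap.baseChange_tmul, Submodule.coe_subtype, hxK,
        Algebra.TensorProduct.tmul_mul_tmul, one_mul, mul_one, hc]
  let ψ : K ⊗[k] C →ₗ[K] LinearMap.ker (ad K f) :=
    LinearMap.codRestrict _ (E.toLinearMap ∘ₗ ι) hιmem
  have hψinj : Function.Injective ψ := by
    intro a b hab
    have := congrArg Subtype.val hab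
    simp only [ψ, LinearMap.codRestrict_apply, LinearMap.comp_apply, AlgEquiv.toLinearMap_apply]
      at this
    exact hιinj (E.injective this)
  calc Module.finrank k C = Module.finrank K (K ⊗[k] C) := (Module.finrank_baseChange).symm
    _ ≤ Module.finrank K (LinearMap.ker (ad K f)) :=
        LinearMap.finrank_le_finrank_of_injective hψinj
    _ ≤ n := hmain

/-- **Centralizer of a regular element**, equality form. -/
theorem ker_ad_eq_adjoin (r : ℕ) (hB : Module.finrank k B = r ^ 2) (x : B)
    (hsep : Algebra.IsSeparable k (Algebra.adjoin k ({x} : Set B)))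
    (hrk : Module.finrank k (Algebra.adjoin k ({x} : Set B)) = r) :
    LinearMap.ker (ad k x) = Subalgebra.toSubmodule (Algebra.adjoin k ({x} : Set B)) := by
  have : Module.Finite k B := inferInstance
  symm
  apply Submodule.eq_of_le_of_finrank_le (adjoin_le_ker_ad x)
  have h1 : Module.finrank k (Subalgebra.toSubmodule (Algebra.adjoin k ({x} : Set B))) = r := hrk
  rw [h1]
  exact finrank_ker_ad_le_of_regular r hB x hsep hrk

end Field

end Groth.Agent.R2.H14.AzRegField
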