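import Mathlib
import Groth.Agent.R2.H14AzRegField

/-!
# Étale subalgebras of maximal dimension in central simple algebras are self-centralizing
(helper14)

`mem_range_of_commute`: `B` Azumaya (central simple) of dimension `r²` over a field `k`, `L` an
étale commutative `k`-algebra of dimension `r`, `u : L →ₐ[k] B` injective.  Then every element of
`B` commuting with `u(L)` lies in `u(L)`.
-/

set_option autoImplicit false
universe u

open TensorProduct Polynomial Module

namespace Groth.Agent.R2.H14.AzCentEtale

open Groth.Agent.R2.H14.AzRegField Groth.Agent.Lib.LeadAzumaya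

/-- the minimal polynomial of a tuple of pairwise distinct scalars. -/
theorem minpoly_pi_const {K : Type*} [Field K] {I : Type*} [Fintype I] (c : I → K)
    (hc : Function.Injective c) :
    (minpoly K c).Separable ∧ (minpoly K c).natDegree = Fintype.card I := by
  classical
  have hint : IsIntegral K c := Algebra.IsIntegral.isIntegral c
  set p : K[X] := ∏ i, (X - C (c i)) with hp
  have hev : ∀ (q : K[X]) (i : I), (aeval c q) i = q.eval (c i) := fun q i => by
    have := (aeval_algHom_apply (Pi.evalAlgHom K (fun _ : I => K) i) c q).symm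
    rw [Pi.evalAlgHom_apply, Pi.evalAlgHom_apply] at this
    rw [this, coe_aeval_eq_eval]
  have h1 : minpoly K c ∣ p := by
    apply minpoly.dvd
    funext i
    rw [hev, hp, eval_prod]
    exact Finset.prod_eq_zero (Finset.mem_univ i) (by simp)
  have h2 : p ∣ minpoly K c := by
    refine Finset.prod_dvd_of_coprime (fun i _ j _ hij => pairwise_coprime_X_sub_C hc hij)
      (fun i _ => ?_)
    rw [dvd_iff_isRoot, IsRoot, ← hev, minpoly.aeval]
    rfl
  have hpm : p.Monic := monic_prod_of_monic _ _ fun i _ => monic_X_sub_C (c i)
  have heq : minpoly K c = p :=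
    eq_of_monic_of_associated (minpoly.monic hint) hpm (associated_of_dvd_dvd h1 h2)
  rw [heq]
  refine ⟨separable_prod_X_sub_C_iff.mpr hc, ?_⟩
  rw [hp, natDegree_finsetProd_X_sub_C_eq_card, Finset.card_univ]

section Field

variable {k : Type u} [Field k] {B : Type u} [Ring B] [Algebra k B] [IsAzumaya k B]
  {L : Type u} [CommRing L] [Algebra k L] [Algebra.Etale k L]

/-- the centralizer of `u(L)` as the kernel of all the `ad (u l)`. -/
def centralizerRange (u : L →ₐ[k] B) : Submodule k B :=
  ⨅ l : L, LinearMap.ker (ad k (u l))

omit [IsAzumaya k B] [Algebra.Etale k L] in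
lemma mem_centralizerRange {u : L →ₐ[k] B} {y : B} :
    y ∈ centralizerRange u ↔ ∀ l, u l * y = y * u l := by
  simp only [centralizerRange, Submodule.mem_iInf, mem_ker_ad]

omit [IsAzumaya k B] [Algebra.Etale k L] in
lemma range_le_centralizerRange (u : L →ₐ[k] B) :
    LinearMap.range u.toLinearMap ≤ centralizerRange u := by
  rintro _ ⟨l', rfl⟩
  rw [mem_centralizerRange]
  intro l
  simp only [AlgHom.toLinearMap_apply, ← map_mul, mul_comm]

/-- dimension bound for the centralizer of a maximal étale subalgebra. -/
theorem finrank_centralizerRange_le (r : ℕ) (hB : Module.finrank k B = r ^ 2)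
    (hL : Module.finrank k L = r) (u : L →ₐ[k] B) (hu : Function.Injective u) :
    Module.finrank k (centralizerRange u) ≤ r := by
  classical
  have : Module.Finite k B := inferInstance
  have : Module.Finite k L := Algebra.FormallyUnramified.finite_of_free k L
  let K := AlgebraicClosure k
  haveI : IsAzumaya K (K ⊗[k] B) := isAzumaya_baseChange K B
  haveI : IsSimpleRing (K ⊗[k] B) := isSimpleRing_of_isAzumaya_field (k := K)
  obtain ⟨n, hn, ⟨e⟩⟩ := IsSimpleRing.exists_algEquiv_matrix_of_isAlgClosed K (K ⊗[k] B)
  let E : (K ⊗[k] B) ≃ₐ[K] Module.End K (Fin n → K) := e.trans Matrix.toLinAlgEquiv'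
  have hnr : n = r := by
    have h1 : Module.finrank K (K ⊗[k] B) = r ^ 2 := by
      rw [Module.finrank_baseChange, hB]
    have h2 : Module.finrank K (K ⊗[k] B) = n * n := by
      rw [E.toLinearEquiv.finrank_eq, Module.finrank_linearMap, Module.finrank_fin_fun]
    have h3 : n ^ 2 = r ^ 2 := by rw [sq, ← h2, h1]
    exact Nat.pow_left_injective (by norm_num : 2 ≠ 0) h3
  subst hnr
  -- the split étale algebra
  let LK := K ⊗[k] L
  let eL : LK ≃ₐ[K] (PrimeSpectrum LK → K) := Algebra.FormallyEtale.equivPiOfIsSepClosed K LK
  haveI : Module.Finite K LK := inferInstance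
  haveI : IsArtinianRing LK := IsArtinianRing.of_finite K LK
  haveI : Fintype (PrimeSpectrum LK) := Fintype.ofFinite _
  have hcard : Fintype.card (PrimeSpectrum LK) = n := by
    have h1 : Module.finrank K LK = n := by rw [Module.finrank_baseChange, hL]
    rw [← h1, eL.toLinearEquiv.finrank_eq, Module.finrank_pi]
  -- a generic element
  obtain ⟨c, hc⟩ : ∃ c : PrimeSpectrum LK → K, Function.Injective c :=
    ⟨_, (Function.Embedding.trans (Fintype.equivFin (PrimeSpectrum LK)).toEmbedding
      (Function.Embedding.trans Fin.valEmbedding (Infinite.natEmbedding K))).injective⟩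
  let uK : LK →ₐ[K] K ⊗[k] B := Algebra.TensorProduct.map (AlgHom.id K K) u
  have huK : Function.Injective uK := by
    have := Module.Flat.lTensor_preserves_injective_linearMap (M := K) u.toLinearMap hu
    intro a b hab
    apply this
    exact hab
  let θ : LK := eL.symm c
  set f : Module.End K (Fin n → K) := E (uK θ) with hf
  have hmin : minpoly K f = minpoly K c := by
    have h1 : f = ((E.toAlgHom.comp uK).comp eL.symm.toAlgHom) c := rfl
    rw [h1, minpoly.algHom_eq _ ((E.injective.comp huK).comp eL.symm.injective)]
  obtain ⟨hsep, hdeg⟩ := minpoly_pi_const c hc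
  have hmain := finrank_ker_ad_le f (by rw [hmin]; exact hsep)
    (by rw [hmin, hdeg, hcard, Module.finrank_fin_fun])
  rw [Module.finrank_fin_fun] at hmain
  -- transport back
  let Cz := centralizerRange u
  let ι : K ⊗[k] Cz →ₗ[K] K ⊗[k] B := LinearMap.baseChange K Cz.subtype
  have hιinj : Function.Injective ι := by
    have := Module.Flat.lTensor_preserves_injective_linearMap (M := K) Cz.subtype
      Cz.injective_subtype
    intro a b hab
    apply this
    simpa [ι, LinearMap.baseChange_eq_ltensor] using hab
  have hcomm : ∀ (t : LK) (z : K ⊗[k] Cz), uK t * ι z = ι z * uK t := by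
    intro t z
    induction t using TensorProduct.induction_on with
    | zero => simp
    | add a b ha hb => rw [map_add, add_mul, mul_add, ha, hb]
    | tmul a l =>
      induction z using TensorProduct.induction_on with
      | zero => simp
      | add a b ha hb => rw [map_add, add_mul, mul_add, ha, hb]
      | tmul a' y =>
        have hy : u l * y.1 = y.1 * u l := mem_centralizerRange.mp y.2 l
        have h1 : uK (a ⊗ₜ[k] l) = a ⊗ₜ[k] u l := rfl
        have h2 : ι (a' ⊗ₜ[k] y) = a' ⊗ₜ[k] y.1 := rfl
        rw [h1, h2, Algebra.TensorProduct.tmul_mul_tmul, Algebra.TensorProduct.tmul_mul_tmul, hy,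
          mul_comm a a']
  have hιmem : ∀ z, E (ι z) ∈ LinearMap.ker (ad K f) := by
    intro z
    rw [mem_ker_ad, hf, ← map_mul, ← map_mul, hcomm]
  let ψ : K ⊗[k] Cz →ₗ[K] LinearMap.ker (ad K f) :=
    LinearMap.codRestrict _ (E.toLinearMap ∘ₗ ι) hιmem
  have hψinj : Function.Injective ψ := by
    intro a b hab
    have := congrArg Subtype.val hab
    simp only [ψ, LinearMap.codRestrict_apply, LinearMap.comp_apply, AlgEquiv.toLinearMap_apply]
      at this
    exact hιinj (E.injective this)
  calc Module.finrank k Cz = Module.finrank K (K ⊗[k] Cz) := (Module.finrank_baseChange).symm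
    _ ≤ Module.finrank K (LinearMap.ker (ad K f)) :=
        LinearMap.finrank_le_finrank_of_injective hψinj
    _ ≤ n := hmain

/-- **a maximal étale subalgebra of a central simple algebra is self-centralizing.** -/
theorem mem_range_of_commute (r : ℕ) (hB : Module.finrank k B = r ^ 2)
    (hL : Module.finrank k L = r) (u : L →ₐ[k] B) (hu : Function.Injective u) (y : B)
    (hy : ∀ l, u l * y = y * u l) : y ∈ LinearMap.range u.toLinearMap := by
  have : Module.Finite k B := inferInstance
  have : Module.Finite k L := Algebra.FormallyUnramified.finite_of_free k L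
  have heq : LinearMap.range u.toLinearMap = centralizerRange u := by
    apply Submodule.eq_of_le_of_finrank_le (range_le_centralizerRange u)
    have h1 : Module.finrank k (LinearMap.range u.toLinearMap) = r := by
      rw [LinearMap.finrank_range_of_inj (f := u.toLinearMap) hu, hL]
    rw [h1]
    exact finrank_centralizerRange_le r hB hL u hu
  rw [heq]
  exact mem_centralizerRange.mpr hy

end Field

end Groth.Agent.R2.H14.AzCentEtale
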