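import Mathlib

/-!
# Flat / faithfully flat descent lemmas used for Clifford algebras
-/

set_option autoImplicit false
set_option linter.unusedSectionVars false

namespace Groth.Agent.R2.H14.Cl

open scoped TensorProduct

universe u u' v

section Mem

variable {A : Type u} [CommRing A] {A' : Type u'} [CommRing A'] [Algebra A A']
  {M : Type v} [AddCommGroup M] [Module A M]

/-- Faithfully flat descent of membership in a submodule. -/
theorem mem_of_one_tmul_mem_baseChange [Module.FaithfullyFlat A A'] (q : Submodule A M) (x : M)
    (h : (1 : A') ⊗ₜ[A] x ∈ q.baseChange A') : x ∈ q := by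
  have h1 : (Submodule.span A {x}).baseChange A' ≤ q.baseChange A' := by
    rw [Submodule.baseChange_span, Submodule.span_le]
    rintro _ ⟨y, hy, rfl⟩
    rw [Set.mem_singleton_iff] at hy
    subst hy
    exact h
  exact (Submodule.baseChange_le_iff.mp h1) (Submodule.mem_span_singleton_self x)

theorem baseChange_sup_eq_top (p q : Submodule A M) (h : p ⊔ q = ⊤) :
    p.baseChange A' ⊔ q.baseChange A' = ⊤ := by
  rw [eq_top_iff]
  intro w hw
  clear hw
  induction w using TensorProduct.induction_on with
  | zero => exact Submodule.zero_mem _
  | tmul a m =>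
    have hm : m ∈ p ⊔ q := h ▸ Submodule.mem_top
    obtain ⟨m₀, h₀, m₁, h₁, rfl⟩ := Submodule.mem_sup.mp hm
    rw [TensorProduct.tmul_add]
    exact Submodule.add_mem _
      (Submodule.mem_sup_left (Submodule.tmul_mem_baseChange_of_mem a h₀))
      (Submodule.mem_sup_right (Submodule.tmul_mem_baseChange_of_mem a h₁))
  | add x y hx hy => exact Submodule.add_mem _ hx hy

end Mem

section Center

variable {A : Type u} [CommRing A] {A' : Type u'} [CommRing A'] [Algebra A A']
  {D : Type v} [Ring D] [Algebra A D]

/-- Flat base change of the centre: an element of `A' ⊗ D` commuting with all `1 ⊗ d` lies in the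
base change of the centre of `D`, when `D` is a finite `A`-module and `A'` is flat. -/
theorem mem_baseChange_center [Module.Flat A A'] [Module.Finite A D] (w : A' ⊗[A] D)
    (hw : ∀ d : D, w * (1 ⊗ₜ d) = (1 ⊗ₜ d) * w) :
    w ∈ (Subalgebra.toSubmodule (Subalgebra.center A D)).baseChange A' := by
  obtain ⟨n, s, hs⟩ := Module.Finite.exists_fin (R := A) (M := D)
  -- the commutator map
  let φ : D →ₗ[A] (Fin n → D) :=
    LinearMap.pi fun i => LinearMap.mulRight A (s i) - LinearMap.mulLeft A (s i)
  have hφ : ∀ x i, φ x i = x * s i - s i * x := fun x i => rfl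
  have hker : LinearMap.ker φ = Subalgebra.toSubmodule (Subalgebra.center A D) := by
    ext x
    rw [LinearMap.mem_ker, Subalgebra.mem_toSubmodule, Subalgebra.mem_center_iff]
    constructor
    · intro hx d
      have hd : d ∈ Submodule.span A (Set.range s) := hs ▸ Submodule.mem_top
      induction hd using Submodule.span_induction with
      | mem y hy =>
        obtain ⟨i, rfl⟩ := hy
        have := congrFun hx i
        rw [hφ, Pi.zero_apply, sub_eq_zero] at this
        exact this.symm
      | zero => rw [zero_mul, mul_zero]
      | add y z _ _ hy hz => rw [add_mul, mul_add, hy, hz]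
      | smul a y _ hy => rw [smul_mul_assoc, mul_smul_comm, hy]
    · intro hx
      funext i
      rw [hφ, Pi.zero_apply, hx (s i), sub_self]
  have hflat := Module.Flat.ker_lTensor_eq (R := A) A' A' φ
  have hmem : w ∈ LinearMap.ker (TensorProduct.AlgebraTensorModule.lTensor A' A' φ) := by
    rw [LinearMap.mem_ker]
    apply (TensorProduct.piRight A A' A' (fun _ : Fin n => D)).injective
    rw [map_zero]
    funext i
    rw [Pi.zero_apply]
    have key : ∀ w : A' ⊗[A] D,
        (TensorProduct.piRight A A' A' (fun _ : Fin n => D))
          (TensorProduct.AlgebraTensorModule.lTensor A' A' φ w) i =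
        w * (1 ⊗ₜ s i) - (1 ⊗ₜ s i) * w := by
      intro w
      induction w using TensorProduct.induction_on with
      | zero => simp
      | tmul a x =>
        simp only [TensorProduct.AlgebraTensorModule.lTensor_tmul, TensorProduct.piRight_apply,
          TensorProduct.piRightHom_tmul, hφ, Algebra.TensorProduct.tmul_mul_tmul, mul_one, one_mul,
          TensorProduct.tmul_sub]
      | add x y hx hy =>
        rw [map_add, map_add, Pi.add_apply, hx, hy]
        noncomm_ring
    rw [key, hw, sub_self]
  rw [hflat, hker] at hmem
  exact hmem

end Center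

end Groth.Agent.R2.H14.Cl
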