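import Mathlib
import Groth.Agent.R2.H14ClDescent
import Groth.Agent.Lib.LeadAzumaya

/-!
# Algebras which are fppf-locally matrix algebras over a finite étale algebra (helper14)

Let `A → A'` be faithfully flat, `D` an `A`-algebra which is a finite `A`-module, `Z` (the centre
of `D`) and `Ψ : A' ⊗[A] D ≃ₐ[A'] Matrix K K (I → A')`.  Then `A' ⊗[A] Z ≃ₐ[A'] (I → A')`, so `Z` is
finite étale of rank `card I` over `A`, and `D` is an Azumaya algebra over `Z`.
-/

set_option autoImplicit false
set_option linter.unusedSectionVars false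
set_option linter.style.haveILetI false

namespace Groth.Agent.R2.H14.AzCenter

open scoped TensorProduct

universe u u' v w

section Centre

variable {A : Type u} [CommRing A] {A' : Type u'} [CommRing A'] [Algebra A A']
  {Z : Type w} [CommRing Z] [Algebra A Z]
  {D : Type v} [Ring D] [Algebra A D] [Algebra Z D] [IsScalarTower A Z D]

variable (A A' Z D) in
/-- the base change of the structure map `Z → D`. -/
noncomputable def incl : A' ⊗[A] Z →ₐ[A'] A' ⊗[A] D :=
  Algebra.TensorProduct.map (AlgHom.id A' A') (IsScalarTower.toAlgHom A Z D)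

@[simp] theorem incl_tmul (a : A') (z : Z) : incl A A' Z D (a ⊗ₜ[A] z) = a ⊗ₜ algebraMap Z D z := rfl

theorem incl_injective [Module.Flat A A'] (hinj : Function.Injective (algebraMap Z D)) :
    Function.Injective (incl A A' Z D) := by
  have h := Module.Flat.lTensor_preserves_injective_linearMap (M := A')
    (IsScalarTower.toAlgHom A Z D).toLinearMap hinj
  intro x y hxy
  apply h
  have key : ∀ w : A' ⊗[A] Z, (IsScalarTower.toAlgHom A Z D).toLinearMap.lTensor A' w =
      incl A A' Z D w := by
    intro w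
    induction w using TensorProduct.induction_on with
    | zero => simp
    | tmul a z => rfl
    | add x y hx hy => rw [map_add, map_add, hx, hy]
  rw [key, key, hxy]

theorem incl_comm (s : A' ⊗[A] Z) (w : A' ⊗[A] D) : incl A A' Z D s * w = w * incl A A' Z D s := by
  induction s using TensorProduct.induction_on with
  | zero => simp
  | add x y hx hy => rw [map_add, add_mul, mul_add, hx, hy]
  | tmul a z =>
    induction w using TensorProduct.induction_on with
    | zero => simp
    | add x y hx hy => rw [mul_add, add_mul, hx, hy]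
    | tmul b d =>
      rw [incl_tmul, Algebra.TensorProduct.tmul_mul_tmul, Algebra.TensorProduct.tmul_mul_tmul,
        mul_comm a b, Algebra.commutes]

theorem exists_incl_eq [Module.Flat A A'] [Module.Finite A D]
    (hcen : ∀ x ∈ Subalgebra.center A D, ∃ z, algebraMap Z D z = x)
    (w : A' ⊗[A] D) (hw : ∀ d : D, w * (1 ⊗ₜ d) = (1 ⊗ₜ d) * w) : ∃ s, incl A A' Z D s = w := by
  have h1 := Groth.Agent.R2.H14.Cl.mem_baseChange_center w hw
  have h2 : (Subalgebra.toSubmodule (Subalgebra.center A D)).baseChange A' ≤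
      LinearMap.range (incl A A' Z D).toLinearMap := by
    rw [Submodule.baseChange_eq_span, Submodule.span_le]
    rintro _ ⟨c, hc, rfl⟩
    obtain ⟨z, rfl⟩ := hcen c hc
    exact ⟨1 ⊗ₜ z, rfl⟩
  obtain ⟨s, hs⟩ := h2 h1
  exact ⟨s, hs⟩

end Centre

section Beta

variable {A : Type u} [CommRing A] {A' : Type u'} [CommRing A'] [Algebra A A']
  {Z : Type w} [CommRing Z] [Algebra A Z]
  {D : Type v} [Ring D] [Algebra A D] [Algebra Z D] [IsScalarTower A Z D]
  {K : Type} [Fintype K] [DecidableEq K] [Nonempty K] {I : Type} [Fintype I]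
  (Ψ : A' ⊗[A] D ≃ₐ[A'] Matrix K K (I → A'))

theorem algebraMap_matrix_injective {B : Type*} [CommRing B] :
    Function.Injective (algebraMap B (Matrix K K B)) := by
  intro b c h
  obtain ⟨k⟩ := (inferInstance : Nonempty K)
  have := congrFun (congrFun h k) k
  simpa [Matrix.algebraMap_matrix_apply] using this

theorem exists_algebraMap_eq_of_comm {B : Type*} [CommRing B] (x : Matrix K K B)
    (hx : ∀ y, y * x = x * y) : ∃ b, algebraMap B (Matrix K K B) b = x := by
  have h1 : x ∈ Set.center (Matrix K K B) := Semigroup.mem_center_iff.mpr hx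
  rw [Matrix.center_eq_range] at h1
  obtain ⟨b, rfl⟩ := h1
  exact ⟨b, rfl⟩

include Ψ in
/-- the centre of `D` becomes `I → A'` after the base change. -/
theorem exists_beta [Module.Flat A A'] [Module.Finite A D]
    (hinj : Function.Injective (algebraMap Z D))
    (hcen : ∀ x ∈ Subalgebra.center A D, ∃ z, algebraMap Z D z = x) :
    ∃ β : A' ⊗[A] Z ≃ₐ[A'] (I → A'), ∀ s, Ψ (incl A A' Z D s) =
      algebraMap (I → A') (Matrix K K (I → A')) (β s) := by
  have hinjM := algebraMap_matrix_injective (K := K) (B := I → A')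
  have hf : ∀ s, ∃ b, algebraMap (I → A') (Matrix K K (I → A')) b = Ψ (incl A A' Z D s) := by
    intro s
    apply exists_algebraMap_eq_of_comm
    intro y
    obtain ⟨w, rfl⟩ := Ψ.surjective y
    rw [← map_mul, ← map_mul, incl_comm]
  choose b hb using hf
  let β₀ : A' ⊗[A] Z →ₐ[A'] (I → A') :=
    { toFun := b
      map_one' := by
        apply hinjM
        rw [hb, map_one, map_one, map_one]
      map_mul' := by
        intro s t
        apply hinjM
        rw [hb, map_mul, map_mul, map_mul, hb, hb]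
      map_zero' := by
        apply hinjM
        rw [hb, map_zero, map_zero, map_zero]
      map_add' := by
        intro s t
        apply hinjM
        rw [hb, map_add, map_add, map_add, hb, hb]
      commutes' := by
        intro a
        apply hinjM
        rw [hb, AlgHom.commutes, AlgEquiv.commutes]
        exact (IsScalarTower.algebraMap_apply A' (I → A') (Matrix K K (I → A')) a) }
  have hβ₀ : ∀ s, β₀ s = b s := fun s => rfl
  have hbij : Function.Bijective β₀ := by
    constructor
    · intro s t hst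
      apply incl_injective hinj
      apply Ψ.injective
      rw [← hb, ← hb, ← hβ₀, ← hβ₀, hst]
    · intro c
      obtain ⟨s, hs⟩ := exists_incl_eq (A' := A') hcen (Ψ.symm (algebraMap _ _ c)) (by
        intro d
        apply Ψ.injective
        rw [map_mul, map_mul, AlgEquiv.apply_symm_apply, Algebra.commutes])
      refine ⟨s, ?_⟩
      apply hinjM
      rw [hβ₀, hb, hs, AlgEquiv.apply_symm_apply]
  refine ⟨AlgEquiv.ofBijective β₀ hbij, fun s => ?_⟩
  rw [AlgEquiv.coe_ofBijective, hβ₀, hb]

end Beta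

section Cons

variable {A : Type u} [CommRing A] {A' : Type u'} [CommRing A'] [Algebra A A']
  {Z : Type w} [CommRing Z] [Algebra A Z] {I : Type} [Fintype I]
  (β : A' ⊗[A] Z ≃ₐ[A'] (I → A'))

include β in
theorem etale_of_beta [Module.FaithfullyFlat A A'] : Algebra.Etale A Z := by
  haveI : Algebra.Etale A' (A' ⊗[A] Z) := Algebra.Etale.of_equiv β.symm
  exact Algebra.Etale.of_etale_tensorProduct_of_faithfullyFlat A'

include β in
theorem finite_projective_of_beta [Module.FaithfullyFlat A A'] :
    Module.Finite A Z ∧ Module.Projective A Z := by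
  haveI : Module.Finite A' (A' ⊗[A] Z) := Module.Finite.equiv β.symm.toLinearEquiv
  haveI : Module.Projective A' (A' ⊗[A] Z) := Module.Projective.of_equiv β.symm.toLinearEquiv
  exact Groth.Agent.Lib.LeadAzumaya.finite_projective_of_faithfullyFlat_baseChange A' Z

include β in
theorem rankAtStalk_of_beta [Module.FaithfullyFlat A A'] (p : PrimeSpectrum A) :
    Module.rankAtStalk Z p = Fintype.card I := by
  obtain ⟨hfin, hproj⟩ := finite_projective_of_beta β
  obtain ⟨p', rfl⟩ := PrimeSpectrum.comap_surjective_of_faithfullyFlat (A := A) (B := A') p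
  rw [← Module.rankAtStalk_baseChange (R := A) (M := Z) (S := A') p',
    Module.rankAtStalk_eq_of_equiv β.toLinearEquiv, Module.rankAtStalk_eq_finrank_of_free]
  haveI : Nontrivial A' := ⟨⟨0, 1, fun h => p'.2.ne_top (by
    rw [Ideal.eq_top_iff_one, ← h]; exact zero_mem _)⟩⟩
  simp

end Cons

section Azumaya

variable {A : Type u} [CommRing A] {A' : Type u'} [CommRing A'] [Algebra A A']
  {Z : Type w} [CommRing Z] [Algebra A Z]
  {D : Type v} [Ring D] [Algebra A D] [Algebra Z D] [IsScalarTower A Z D]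

variable (A A' Z D) in
/-- `D ⊗[Z] (Z ⊗[A] A') ≃ D ⊗[A] A'` as algebras, for a not necessarily commutative `D`. -/
noncomputable def cancelAlg : D ⊗[Z] (Z ⊗[A] A') ≃ₐ[Z] D ⊗[A] A' :=
  AlgEquiv.symm <| AlgEquiv.ofLinearEquiv
    (TensorProduct.AlgebraTensorModule.cancelBaseChange A Z Z D A').symm
    (by simp [Algebra.TensorProduct.one_def]) <|
      LinearMap.map_mul_of_map_mul_tmul (fun _ _ _ _ ↦ by simp)

theorem cancelAlg_tmul (d : D) (z : Z) (a : A') :
    cancelAlg A A' Z D (d ⊗ₜ (z ⊗ₜ a)) = (z • d) ⊗ₜ a :=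
  TensorProduct.AlgebraTensorModule.cancelBaseChange_tmul A Z Z d a z

variable {K : Type} [Fintype K] [DecidableEq K] {I : Type} [Fintype I]
  (Ψ : A' ⊗[A] D ≃ₐ[A'] Matrix K K (I → A'))
  (β : A' ⊗[A] Z ≃ₐ[A'] (I → A'))

/-- the ring isomorphism `(I → A') ≃ Z ⊗[A] A'` attached to `β`. -/
noncomputable def gam : (I → A') ≃+* Z ⊗[A] A' :=
  β.symm.toRingEquiv.trans (Algebra.TensorProduct.comm A A' Z).toRingEquiv

theorem gam_beta (a : A') (z : Z) : gam β (β (a ⊗ₜ z)) = z ⊗ₜ a := by
  simp [gam]

/-- the composite ring isomorphism `(Z ⊗[A] A') ⊗[Z] D ≃ Matrix K K (Z ⊗[A] A')`. -/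
noncomputable def theta : (Z ⊗[A] A') ⊗[Z] D ≃+* Matrix K K (Z ⊗[A] A') :=
  (Algebra.TensorProduct.comm Z (Z ⊗[A] A') D).toRingEquiv.trans <|
    (cancelAlg A A' Z D).toRingEquiv.trans <|
      (Algebra.TensorProduct.comm A D A').toRingEquiv.trans <|
        Ψ.toRingEquiv.trans (RingEquiv.mapMatrix (gam β))

theorem theta_tmul_one
    (hβ : ∀ s, Ψ (incl A A' Z D s) = algebraMap (I → A') (Matrix K K (I → A')) (β s))
    (s : Z ⊗[A] A') :
    theta Ψ β (s ⊗ₜ[Z] (1 : D)) = algebraMap (Z ⊗[A] A') (Matrix K K (Z ⊗[A] A')) s := by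
  induction s using TensorProduct.induction_on with
  | zero => simp
  | add x y hx hy => rw [TensorProduct.add_tmul, map_add, map_add, hx, hy]
  | tmul z a =>
    have h1 : theta Ψ β ((z ⊗ₜ[A] a) ⊗ₜ[Z] (1 : D)) =
        (Ψ (a ⊗ₜ[A] (z • (1 : D)))).map (gam β) := by
      simp only [theta, RingEquiv.trans_apply, AlgEquiv.coe_ringEquiv,
        Algebra.TensorProduct.comm_tmul, cancelAlg_tmul, RingEquiv.mapMatrix_apply]
    rw [h1]
    have h2 : a ⊗ₜ[A] (z • (1 : D)) = incl A A' Z D (a ⊗ₜ z) := by
      rw [incl_tmul, Algebra.algebraMap_eq_smul_one]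
    rw [h2, hβ]
    ext j k
    rw [Matrix.map_apply, Matrix.algebraMap_matrix_apply, Matrix.algebraMap_matrix_apply]
    split_ifs
    · exact gam_beta β a z
    · exact map_zero _

include Ψ β in
theorem isAzumaya_of_beta [Nonempty K] [Module.FaithfullyFlat A A']
    (hβ : ∀ s, Ψ (incl A A' Z D s) = algebraMap (I → A') (Matrix K K (I → A')) (β s)) :
    IsAzumaya Z D := by
  let e : (Z ⊗[A] A') ⊗[Z] D ≃ₐ[Z ⊗[A] A'] Matrix K K (Z ⊗[A] A') :=
    AlgEquiv.ofRingEquiv (f := theta Ψ β) (fun s => by
      rw [Algebra.TensorProduct.algebraMap_apply, Algebra.algebraMap_self_apply]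
      exact theta_tmul_one Ψ β hβ s)
  haveI : IsAzumaya (Z ⊗[A] A') (Matrix K K (Z ⊗[A] A')) := IsAzumaya.matrix _ K
  haveI : IsAzumaya (Z ⊗[A] A') ((Z ⊗[A] A') ⊗[Z] D) := IsAzumaya.of_AlgEquiv _ _ _ e.symm
  exact Groth.Agent.Lib.LeadAzumaya.isAzumaya_of_faithfullyFlat (R := Z) (Z ⊗[A] A') D

end Azumaya

section Main

variable {A : Type u} [CommRing A] {A' : Type u'} [CommRing A'] [Algebra A A']
  [Module.FaithfullyFlat A A']
  {Z : Type w} [CommRing Z] [Algebra A Z]
  {D : Type v} [Ring D] [Algebra A D] [Algebra Z D] [IsScalarTower A Z D] [Module.Finite A D]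
  {K : Type} [Fintype K] [DecidableEq K] [Nonempty K] {I : Type} [Fintype I]

/-- **Main theorem.**  If `D` becomes a matrix algebra over `I → A'` after a faithfully flat base
change `A → A'`, then its centre `Z` is finite étale of rank `card I` over `A`, and `D` is Azumaya
over `Z`. -/
theorem main (Ψ : A' ⊗[A] D ≃ₐ[A'] Matrix K K (I → A'))
    (hinj : Function.Injective (algebraMap Z D))
    (hcen : ∀ x ∈ Subalgebra.center A D, ∃ z, algebraMap Z D z = x) :
    Algebra.Etale A Z ∧ Module.Finite A Z ∧ Module.Projective A Z ∧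
      (∀ p : PrimeSpectrum A, Module.rankAtStalk Z p = Fintype.card I) ∧ IsAzumaya Z D := by
  obtain ⟨β, hβ⟩ := exists_beta Ψ hinj hcen
  obtain ⟨h1, h2⟩ := finite_projective_of_beta β
  exact ⟨etale_of_beta β, h1, h2, rankAtStalk_of_beta β, isAzumaya_of_beta Ψ β hβ⟩

end Main

end Groth.Agent.R2.H14.AzCenter
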