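import Mathlib
import Groth.Agent.R2.H14AzRegField

/-!
# Regular sections of Azumaya algebras over a local ring (helper14)

* `mem_span_of_apply_eq_zero`: Nakayama-type lemma: if `φ : A → A` kills the `v i`, the residues
  of the `v i` are linearly independent and span the kernel of `φ` mod `𝔪`, then the kernel of `φ`
  is the span of the `v i`.
* `regular_powers` (= S5713): for `ξ` in an Azumaya algebra of rank `r²` over a local ring whose
  residue generates an étale subalgebra of dimension `r`, the powers `1, ξ, …, ξ^(r-1)` are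
  linearly independent and `ξ^r` lies in their span.
-/

set_option autoImplicit false
universe u

open TensorProduct Polynomial Module

namespace Groth.Agent.R2.H14.AzRegLocal

open Groth.Agent.R2.H14.AzRegField

theorem sumExtend_inl {K V ι : Type*} [DivisionRing K] [AddCommGroup V] [Module K V] {v : ι → V}
    (hs : LinearIndependent K v) (i : ι) : Basis.sumExtend hs (Sum.inl i) = v i := by
  simp only [Basis.sumExtend, Basis.reindex_apply, Equiv.symm_symm, Basis.coe_extend]
  rfl

section Nak

variable {R : Type*} [CommRing R] [IsLocalRing R] {A : Type*} [AddCommGroup A] [Module R A]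
  [Module.Finite R A] [Module.Flat R A]

omit [Module.Flat R A] in
theorem mem_span_of_apply_eq_zero {A' : Type*} [AddCommGroup A'] [Module R A'] [Module.Flat R A']
    (φ : A →ₗ[R] A') {r : ℕ} (v : Fin r → A)
    (hv : LinearIndependent (IsLocalRing.ResidueField R)
      (fun i => (1 : IsLocalRing.ResidueField R) ⊗ₜ[R] v i))
    (hker : LinearMap.ker (φ.baseChange (IsLocalRing.ResidueField R)) ≤
      Submodule.span (IsLocalRing.ResidueField R)
        (Set.range fun i => (1 : IsLocalRing.ResidueField R) ⊗ₜ[R] v i))
    (hφv : ∀ i, φ (v i) = 0) (a : A) (ha : φ a = 0) : a ∈ Submodule.span R (Set.range v) := by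
  classical
  set k := IsLocalRing.ResidueField R with hk
  let b := Basis.sumExtend hv
  have hbl : ∀ i, b (Sum.inl i) = (1 : k) ⊗ₜ[R] v i := fun i => sumExtend_inl hv i
  -- lift the complementary basis vectors
  have hsurj : Function.Surjective (TensorProduct.mk R k A 1) :=
    TensorProduct.mk_surjective R A k Ideal.Quotient.mk_surjective
  choose c hc using fun j => hsurj (b (Sum.inr j))
  let w : Fin r ⊕ _ → A := Sum.elim v c
  have hwb : ∀ x, (1 : k) ⊗ₜ[R] w x = b x := by
    rintro (i | j)
    · exact (hbl i).symm
    · exact hc j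
  have hspan : Submodule.span R (Set.range w) = ⊤ :=
    IsLocalRing.span_eq_top_of_tmul_eq_basis w b hwb
  -- `φ ∘ c` is linearly independent
  have hφc : LinearIndependent R (φ ∘ c) := by
    apply IsLocalRing.linearIndependent_of_flat
    have h1 : (TensorProduct.mk R k A' 1 ∘ (φ ∘ c)) =
        (φ.baseChange k) ∘ (b ∘ Sum.inr) := by
      funext j
      simp only [Function.comp_apply, TensorProduct.mk_apply, ← hc j, LinearMap.baseChange_tmul]
    rw [h1]
    have hli : LinearIndependent k (b ∘ Sum.inr) :=
      b.linearIndependent.comp _ Sum.inr_injective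
    apply hli.map
    refine Disjoint.mono_right hker ?_
    have hdisj := b.linearIndependent.disjoint_span_image
      (s := Set.range Sum.inr) (t := Set.range Sum.inl) (by
        rw [Set.disjoint_left]
        rintro _ ⟨j, rfl⟩ ⟨i, hi⟩
        exact Sum.inl_ne_inr hi)
    rw [← Set.range_comp, ← Set.range_comp] at hdisj
    have hfun : (fun i => (1 : k) ⊗ₜ[R] v i) = b ∘ Sum.inl := funext fun i => (hbl i).symm
    rw [← hfun] at hdisj
    exact hdisj
  -- decompose `a`
  have ha' : a ∈ Submodule.span R (Set.range w) := hspan ▸ Submodule.mem_top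
  rw [Set.Sum.elim_range, Submodule.span_union, Submodule.mem_sup] at ha'
  obtain ⟨m, hm, n, hn, rfl⟩ := ha'
  have hφm : φ m = 0 := by
    refine Submodule.span_induction ?_ ?_ ?_ ?_ hm
    · rintro _ ⟨i, rfl⟩; exact hφv i
    · exact map_zero φ
    · intro x y _ _ hx hy; rw [map_add, hx, hy, add_zero]
    · intro t x _ hx; rw [map_smul, hx, smul_zero]
  have hφn : φ n = 0 := by rw [map_add, hφm, zero_add] at ha; exact ha
  obtain ⟨l, rfl⟩ := (Finsupp.mem_span_range_iff_exists_finsupp).mp hn
  have hl : l = 0 := by
    apply linearIndependent_iff.mp hφc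
    rw [Finsupp.linearCombination_apply]
    rw [Finsupp.sum, map_sum] at hφn
    simpa [Finsupp.sum, map_smul] using hφn
  rw [hl, Finsupp.sum_zero_index, add_zero]
  exact hm

end Nak

section Azumaya

open Groth.Agent.Lib.LeadAzumaya

variable (R : Type u) [CommRing R] [IsLocalRing R] (A : Type u) [Ring A] [Algebra R A]
  [IsAzumaya R A]

omit [IsLocalRing R] [IsAzumaya R A] in
/-- the base change of `ad ξ` is `ad (1 ⊗ ξ)`. -/
lemma baseChange_ad (S : Type*) [CommRing S] [Algebra R S] (ξ : A) (z : S ⊗[R] A) :
    (ad R ξ).baseChange S z = ad S ((1 : S) ⊗ₜ[R] ξ) z := by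
  induction z using TensorProduct.induction_on with
  | zero => simp
  | add a b ha hb => rw [map_add, map_add, ha, hb]
  | tmul c a =>
    simp only [LinearMap.baseChange_tmul, ad_apply, Algebra.TensorProduct.tmul_mul_tmul, one_mul,
      mul_one, TensorProduct.tmul_sub]

omit [IsLocalRing R] [IsAzumaya R A] in
lemma ad_pow_self (ξ : A) (n : ℕ) : ad R ξ (ξ ^ n) = 0 := by
  rw [ad_apply, ← pow_succ', ← pow_succ, sub_self]

/-- **S5713**: a section of an Azumaya algebra of rank `r²` over a local ring which is regular
on the special fibre generates a free subalgebra of rank `r` with basis `1, ξ, …, ξ^(r-1)`. -/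
theorem regular_powers (r : ℕ) (hA : Module.finrank R A = r ^ 2) (ξ : A)
    (hsep : Algebra.IsSeparable (IsLocalRing.ResidueField R)
      (Algebra.adjoin (IsLocalRing.ResidueField R)
        ({(1 : IsLocalRing.ResidueField R) ⊗ₜ[R] ξ} : Set (IsLocalRing.ResidueField R ⊗[R] A))))
    (hrk : Module.finrank (IsLocalRing.ResidueField R)
      (Algebra.adjoin (IsLocalRing.ResidueField R)
        ({(1 : IsLocalRing.ResidueField R) ⊗ₜ[R] ξ} : Set (IsLocalRing.ResidueField R ⊗[R] A)))
      = r) :
    LinearIndependent R (fun i : Fin r => ξ ^ (i : ℕ)) ∧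
      ξ ^ r ∈ Submodule.span R (Set.range (fun i : Fin r => ξ ^ (i : ℕ))) := by
  classical
  set k := IsLocalRing.ResidueField R with hk
  have : Module.Finite R A := inferInstance
  have : Module.Projective R A := inferInstance
  have : Module.Free R A := Module.free_of_flat_of_isLocalRing
  haveI : IsAzumaya k (k ⊗[R] A) := isAzumaya_baseChange k A
  have : Module.Finite k (k ⊗[R] A) := inferInstance
  have hkA : Module.finrank k (k ⊗[R] A) = r ^ 2 := by
    rw [Module.finrank_baseChange, hA]
  set x : k ⊗[R] A := (1 : k) ⊗ₜ[R] ξ with hx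
  have hkerad := ker_ad_eq_adjoin r hkA x hsep hrk
  have hμdeg : (minpoly k x).natDegree = r := by
    rw [← hrk, Groth.Agent.R2.H25.EtaleSub.finrank_adjoin_singleton]
  have hlik : LinearIndependent k (fun i : Fin r => x ^ (i : ℕ)) := by
    have := linearIndependent_pow (K := k) x
    rw [hμdeg] at this
    exact this
  let v : Fin r → A := fun i => ξ ^ (i : ℕ)
  have hv1 : (fun i => (1 : k) ⊗ₜ[R] v i) = fun i : Fin r => x ^ (i : ℕ) := by
    funext i
    rw [hx, Algebra.TensorProduct.tmul_pow, one_pow]
  have hvk : LinearIndependent k (fun i => (1 : k) ⊗ₜ[R] v i) := by rw [hv1]; exact hlik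
  refine ⟨IsLocalRing.linearIndependent_of_flat v hvk, ?_⟩
  -- the span of the powers is the whole of `k[x]`
  have hspan : Subalgebra.toSubmodule (Algebra.adjoin k ({x} : Set (k ⊗[R] A))) ≤
      Submodule.span k (Set.range fun i : Fin r => x ^ (i : ℕ)) := by
    have hle : Submodule.span k (Set.range fun i : Fin r => x ^ (i : ℕ)) ≤
        Subalgebra.toSubmodule (Algebra.adjoin k ({x} : Set (k ⊗[R] A))) := by
      rw [Submodule.span_le]
      rintro _ ⟨i, rfl⟩
      exact pow_mem (Algebra.self_mem_adjoin_singleton k x) _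
    have hfr : Module.finrank k (Submodule.span k (Set.range fun i : Fin r => x ^ (i : ℕ))) = r := by
      rw [finrank_span_eq_card hlik, Fintype.card_fin]
    have heq := Submodule.eq_of_le_of_finrank_le hle (by
      rw [hfr]
      exact hrk.le)
    rw [heq]
  apply mem_span_of_apply_eq_zero (ad R ξ) v hvk ?_ (fun i => ad_pow_self R A ξ i) (ξ ^ r)
    (ad_pow_self R A ξ r)
  intro z hz
  rw [LinearMap.mem_ker, baseChange_ad] at hz
  rw [hv1]
  apply hspan
  rw [← hkerad]
  exact hz

end Azumaya

end Groth.Agent.R2.H14.AzRegLocal
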