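import Mathlib
import Groth.Agent.R2.H14AzRegLocal

/-!
# Maximal étale subalgebras of Azumaya algebras over a local ring (helper14)

* `separable_of_map_residue`: a monic polynomial over a local ring which is separable over the
  residue field is separable.
* `etale_adjoinRoot`: `R[X]/(P)` is étale for `P` monic separable.
* `exists_maximal_etale` (= S5710).
-/

set_option autoImplicit false
universe u

open TensorProduct Polynomial Module

namespace Groth.Agent.R2.H14.AzMaxEtale

section Sep

variable {R : Type*} [CommRing R] [IsLocalRing R]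

/-- an element of `𝔪 R[X]/(P)`: a polynomial all of whose coefficients lie in `𝔪`. -/
lemma mk_mem_smul_top (P h : R[X]) (hh : h.map (IsLocalRing.residue R) = 0) :
    AdjoinRoot.mk P h ∈
      (IsLocalRing.maximalIdeal R • ⊤ : Submodule R (AdjoinRoot P)) := by
  have hcoeff : ∀ i, h.coeff i ∈ IsLocalRing.maximalIdeal R := fun i => by
    have := congrArg (fun q => q.coeff i) hh
    simpa [coeff_map, IsLocalRing.residue_eq_zero_iff] using this
  rw [h.as_sum_range_C_mul_X_pow, map_sum]
  refine Submodule.sum_mem _ fun i _ => ?_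
  rw [map_mul, AdjoinRoot.mk_C, ← AdjoinRoot.algebraMap_eq, ← Algebra.smul_def]
  exact Submodule.smul_mem_smul (hcoeff i) Submodule.mem_top

/-- a monic polynomial over a local ring whose reduction is separable is separable. -/
theorem separable_of_map_residue (P : R[X]) (hP : P.Monic)
    (hsep : (P.map (IsLocalRing.residue R)).Separable) : P.Separable := by
  obtain ⟨a', b', hab⟩ := hsep
  obtain ⟨a, rfl⟩ := Polynomial.map_surjective _ IsLocalRing.residue_surjective a'
  obtain ⟨b, rfl⟩ := Polynomial.map_surjective _ IsLocalRing.residue_surjective b'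
  set h : R[X] := a * P + b * derivative P - 1 with hh
  have hh0 : h.map (IsLocalRing.residue R) = 0 := by
    rw [hh, Polynomial.map_sub, Polynomial.map_add, Polynomial.map_mul, Polynomial.map_mul,
      Polynomial.map_one, ← derivative_map, hab, sub_self]
  haveI : Module.Finite R (AdjoinRoot P) := hP.finite_adjoinRoot
  -- `1 + h` is a unit of `R[X]/(P)`
  have hunit : IsUnit (AdjoinRoot.mk P (1 + h)) := by
    have hsurj : Function.Surjective
        (LinearMap.mulLeft R (AdjoinRoot.mk P (1 + h))) := by
      rw [← LinearMap.range_eq_top, eq_top_iff]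
      apply Submodule.le_of_le_smul_of_le_jacobson_bot (I := IsLocalRing.maximalIdeal R)
        Module.Finite.fg_top
        (by rw [IsLocalRing.jacobson_eq_maximalIdeal ⊥ bot_ne_top])
      intro e _
      have h1 : e = AdjoinRoot.mk P (1 + h) * e - AdjoinRoot.mk P h * e := by
        rw [map_add, map_one]; ring
      rw [h1]
      refine Submodule.sub_mem _ (Submodule.mem_sup_left ⟨e, rfl⟩) (Submodule.mem_sup_right ?_)
      have h2 := mk_mem_smul_top P h hh0
      -- `𝔪 • ⊤` is stable under multiplication
      have h3 : ∀ y ∈ (IsLocalRing.maximalIdeal R • ⊤ : Submodule R (AdjoinRoot P)),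
          y * e ∈ (IsLocalRing.maximalIdeal R • ⊤ : Submodule R (AdjoinRoot P)) := by
        intro y hy
        refine Submodule.smul_induction_on hy ?_ ?_
        · intro r hr n _
          rw [smul_mul_assoc]
          exact Submodule.smul_mem_smul hr Submodule.mem_top
        · intro x y hx hy
          rw [add_mul]
          exact Submodule.add_mem _ hx hy
      exact h3 _ h2
    obtain ⟨y, hy⟩ := hsurj 1
    exact IsUnit.of_mul_eq_one y hy
  have hunit' : IsUnit (AdjoinRoot.mk P (derivative P)) := by
    have : AdjoinRoot.mk P (1 + h) = AdjoinRoot.mk P b * AdjoinRoot.mk P (derivative P) := by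
      rw [← map_mul, AdjoinRoot.mk_eq_mk]
      exact ⟨a, by rw [hh]; ring⟩
    rw [this] at hunit
    exact isUnit_of_mul_isUnit_right hunit
  obtain ⟨q, hq⟩ := hunit'.exists_right_inv
  obtain ⟨q, rfl⟩ := AdjoinRoot.mk_surjective q
  rw [← map_mul, ← map_one (AdjoinRoot.mk P), AdjoinRoot.mk_eq_mk] at hq
  obtain ⟨s, hs⟩ := hq
  exact ⟨-s, q, by linear_combination hs⟩

end Sep

section Etale

variable {R : Type*} [CommRing R]

/-- `R[X]/(P)` is étale over `R` for `P` monic and separable. -/
theorem etale_adjoinRoot (P : R[X]) (hP : P.Monic) (hsep : P.Separable) :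
    Algebra.Etale R (AdjoinRoot P) := by
  obtain ⟨a, b, hab⟩ := hsep
  let Pair : StandardEtalePair R :=
    { f := P, monic_f := hP, g := 1, cond := ⟨b, a, 0, by rw [pow_zero, ← hab]; ring⟩ }
  let e1 : Pair.Ring ≃ₐ[R] Localization.Away (AdjoinRoot.mk P (1 : R[X])) :=
    Pair.equivAwayAdjoinRoot
  have hle : Submonoid.powers (AdjoinRoot.mk P (1 : R[X])) ≤ IsUnit.submonoid (AdjoinRoot P) := by
    rintro _ ⟨n, rfl⟩
    simp
  let e2 : AdjoinRoot P ≃ₐ[AdjoinRoot P] Localization.Away (AdjoinRoot.mk P (1 : R[X])) :=
    IsLocalization.atUnits (AdjoinRoot P) (Submonoid.powers (AdjoinRoot.mk P (1 : R[X]))) hle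
  exact Algebra.Etale.of_equiv (e1.trans (e2.restrictScalars R).symm)

end Etale

section Main

open Groth.Agent.Lib.LeadAzumaya Groth.Agent.R2.H14.AzRegLocal Groth.Agent.R2.H25.EtaleSub

/-- a linear map sending a basis to a linearly independent family is injective. -/
lemma injective_of_basis_linearIndependent {K V W ι : Type*} [Ring K] [AddCommGroup V]
    [Module K V] [AddCommGroup W] [Module K W] (b : Basis ι K V) (f : V →ₗ[K] W)
    (h : LinearIndependent K (f ∘ b)) : Function.Injective f := by
  have hf : f = (Finsupp.linearCombination K (f ∘ b)) ∘ₗ b.repr.toLinearMap := by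
    apply b.ext
    intro i
    simp
  rw [hf, LinearMap.coe_comp]
  exact Function.Injective.comp (g := ⇑(Finsupp.linearCombination K (f ∘ b))) h b.repr.injective

variable (R : Type u) [CommRing R] [IsLocalRing R] (A : Type u) [Ring A] [Algebra R A]
  [IsAzumaya R A]

/-- **S5710**: an Azumaya algebra of rank `r²` over a local ring has a maximal étale subalgebra,
generated by one element. -/
theorem exists_maximal_etale (r : ℕ) (hA : Module.finrank R A = r ^ 2) :
    ∃ (E : Type u) (_ : CommRing E) (_ : Algebra R E), Algebra.Etale R E ∧ Module.Finite R E ∧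
      Module.Free R E ∧ Module.finrank R E = r ∧
      ∃ u : E →ₐ[R] A, Function.Injective
        (u.toLinearMap.lTensor (IsLocalRing.ResidueField R)) := by
  classical
  set k := IsLocalRing.ResidueField R with hk
  have : Module.Finite R A := inferInstance
  have : Module.Projective R A := inferInstance
  have : Module.Free R A := Module.free_of_flat_of_isLocalRing
  haveI : IsAzumaya k (k ⊗[R] A) := isAzumaya_baseChange k A
  haveI : IsSimpleRing (k ⊗[R] A) := isSimpleRing_of_isAzumaya_field (k := k)
  have : Module.Finite k (k ⊗[R] A) := inferInstance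
  have hkA : Module.finrank k (k ⊗[R] A) = r ^ 2 := by
    rw [Module.finrank_baseChange, hA]
  obtain ⟨x, hxsep, hxdeg⟩ := exists_separable_minpoly k (k ⊗[R] A) r hkA
  obtain ⟨ξ, rfl⟩ := TensorProduct.mk_surjective R A k Ideal.Quotient.mk_surjective x
  set x : k ⊗[R] A := (1 : k) ⊗ₜ[R] ξ with hx
  replace hxsep : (minpoly k x).Separable := hxsep
  replace hxdeg : (minpoly k x).natDegree = r := hxdeg
  have hsepA := isSeparable_adjoin_singleton x hxsep
  have hrk : Module.finrank k (Algebra.adjoin k ({x} : Set (k ⊗[R] A))) = r := by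
    rw [finrank_adjoin_singleton, hxdeg]
  obtain ⟨hli, hmem⟩ := regular_powers R A r hA ξ hsepA hrk
  obtain ⟨c, hc⟩ := (Submodule.mem_span_range_iff_exists_fun R).mp hmem
  -- the polynomial
  set S : R[X] := ∑ i : Fin r, C (c i) * X ^ (i : ℕ) with hS
  have hSdeg : S.degree < r := degree_sum_fin_lt c
  set P : R[X] := X ^ r - S with hPdef
  have hPmonic : P.Monic := monic_X_pow_sub hSdeg
  have hPdeg : P.natDegree = r := by
    have h1 : (X ^ r - S).degree = ((X : R[X]) ^ r).degree :=
      degree_sub_eq_left_of_degree_lt (by rw [degree_X_pow]; exact hSdeg)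
    rw [degree_X_pow] at h1
    exact natDegree_eq_of_degree_eq_some h1
  have hPξ : aeval ξ P = 0 := by
    rw [hPdef, hS, map_sub, map_pow, aeval_X, map_sum, ← hc, sub_eq_zero]
    refine (Finset.sum_congr rfl fun i _ => ?_).symm
    rw [map_mul, aeval_C, map_pow, aeval_X, Algebra.smul_def]
  -- its reduction is the minimal polynomial of `x`
  have hPx : aeval x (P.map (IsLocalRing.residue R)) = 0 := by
    have h1 : aeval x (P.map (algebraMap R k)) = 0 := by
      rw [aeval_map_algebraMap]
      have : x = (Algebra.TensorProduct.includeRight : A →ₐ[R] k ⊗[R] A) ξ := rfl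
      rw [this, aeval_algHom_apply, hPξ, map_zero]
    exact h1
  have hPbar : P.map (IsLocalRing.residue R) = minpoly k x := by
    have hxint : IsIntegral k x := Algebra.IsIntegral.isIntegral x
    apply Polynomial.eq_of_monic_of_dvd_of_natDegree_le (minpoly.monic hxint)
      (hPmonic.map _) (minpoly.dvd k x hPx)
    rw [hPmonic.natDegree_map, hPdeg, hxdeg]
  have hPsep : P.Separable := by
    apply separable_of_map_residue P hPmonic
    rw [hPbar]
    exact hxsep
  -- the algebra
  let E := AdjoinRoot P
  have hEet : Algebra.Etale R E := etale_adjoinRoot P hPmonic hPsep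
  have hEfin : Module.Finite R E := hPmonic.finite_adjoinRoot
  have hEfree : Module.Free R E := hPmonic.free_adjoinRoot
  have hErk : Module.finrank R E = r := by
    rw [(AdjoinRoot.powerBasis' hPmonic).finrank, AdjoinRoot.powerBasis'_dim, hPdeg]
  let u : E →ₐ[R] A := Ideal.Quotient.liftₐ (Ideal.span {P}) (aeval ξ) (by
    intro a ha
    obtain ⟨q, rfl⟩ := Ideal.mem_span_singleton.mp ha
    rw [map_mul, hPξ, zero_mul])
  have hu : ∀ q : R[X], u (AdjoinRoot.mk P q) = aeval ξ q := fun q => rfl
  refine ⟨E, inferInstance, inferInstance, hEet, hEfin, hEfree, hErk, u, ?_⟩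
  -- injectivity on the special fibre
  let b := (AdjoinRoot.powerBasis' hPmonic).basis
  let bk := b.baseChange k
  have hF : Function.Injective (u.toLinearMap.baseChange k) := by
    apply injective_of_basis_linearIndependent bk
    have hdeg : P.natDegree = (minpoly k x).natDegree := hPdeg.trans hxdeg.symm
    have h1 : (u.toLinearMap.baseChange k) ∘ bk =
        (fun i : Fin (minpoly k x).natDegree => x ^ (i : ℕ)) ∘ Fin.cast hdeg := by
      funext i
      simp only [Function.comp_apply, bk, b, Basis.baseChange_apply, LinearMap.baseChange_tmul,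
        PowerBasis.coe_basis, AdjoinRoot.powerBasis'_gen, AlgHom.toLinearMap_apply, Fin.val_cast]
      rw [← AdjoinRoot.mk_X, ← map_pow, hu, map_pow, aeval_X, hx,
        Algebra.TensorProduct.tmul_pow, one_pow]
    rw [h1]
    exact (linearIndependent_pow (K := k) x).comp _ (Fin.cast_injective hdeg)
  intro a b hab
  apply hF
  rw [LinearMap.baseChange_eq_ltensor]
  exact hab

end Main

end Groth.Agent.R2.H14.AzMaxEtale
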