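import Mathlib
import Groth.Agent.Lib.LeadAzumaya
import Groth.Agent.R2.H14AzRegLocal
import Groth.Agent.R2.H14AzCentEtale

/-!
# An Azumaya algebra over a local ring is split by a maximal étale subalgebra (helper14)

`R` local, `A` Azumaya of rank `r²`, `E` finite étale free of rank `r`, `u : E → A` injective on the
special fibre.  Then
* `mem_range_of_commute_local`: `u(E)` is self-centralizing in `A`;
* `splitMap_bijective`: `E ⊗ A → End_E(A)`, `e ⊗ a ↦ (y ↦ a y u(e))` is bijective;
* `free_of_etale`: `A` is free of rank `r` over `E`.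
-/

set_option autoImplicit false
universe u

open TensorProduct Polynomial Module

namespace Groth.Agent.R2.H14.AzSplitEtale

open Groth.Agent.R2.H14.AzRegField Groth.Agent.R2.H14.AzRegLocal Groth.Agent.R2.H14.AzCentEtale
  Groth.Agent.Lib.LeadAzumaya

section TC

/-- an element of `M ⊗ N` (with `M` flat) killed by finitely many `M ⊗ ψ j` comes from
`M ⊗ ⋂ ker ψ j`. -/
theorem mem_range_lTensor_iInf_ker {R M N N' : Type*} [CommRing R] [AddCommGroup M] [Module R M]
    [Module.Flat R M] [AddCommGroup N] [Module R N] [AddCommGroup N'] [Module R N']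
    {ι : Type*} [Finite ι] (ψ : ι → (N →ₗ[R] N')) (z : M ⊗[R] N)
    (hz : ∀ j, (ψ j).lTensor M z = 0) :
    z ∈ LinearMap.range ((⨅ j, LinearMap.ker (ψ j)).subtype.lTensor M) := by
  classical
  have := Fintype.ofFinite ι
  let Ψ : N →ₗ[R] (ι → N') := LinearMap.pi ψ
  have hker : LinearMap.ker Ψ = ⨅ j, LinearMap.ker (ψ j) := LinearMap.ker_pi ψ
  have hex : Function.Exact (LinearMap.ker Ψ).subtype Ψ := LinearMap.exact_subtype_ker_map Ψ
  have hex' := Module.Flat.lTensor_exact M hex
  have hΨz : Ψ.lTensor M z = 0 := by
    apply (TensorProduct.piRight R R M (fun _ : ι => N')).injective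
    rw [map_zero]
    funext j
    rw [Pi.zero_apply, ← hz j]
    have : ∀ w : M ⊗[R] N, (TensorProduct.piRight R R M (fun _ : ι => N')) (Ψ.lTensor M w) j
        = (ψ j).lTensor M w := by
      intro w
      induction w using TensorProduct.induction_on with
      | zero => simp
      | add a b ha hb => simp only [map_add, Pi.add_apply, ha, hb]
      | tmul m n => simp [Ψ]
    exact this z
  obtain ⟨w, hw⟩ := (hex' z).mp hΨz
  rw [← hker]
  exact ⟨w, hw⟩

end TC

section SC

variable (R : Type u) [CommRing R] [IsLocalRing R] (A : Type u) [Ring A] [Algebra R A]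
  [IsAzumaya R A] (r : ℕ) (hA : Module.finrank R A = r ^ 2)
  (E : Type u) [CommRing E] [Algebra R E] [Algebra.Etale R E] [Module.Finite R E]
  [Module.Free R E] (hE : Module.finrank R E = r) (u : E →ₐ[R] A)
  (hu : Function.Injective (u.toLinearMap.lTensor (IsLocalRing.ResidueField R)))

include hA hE hu in
/-- **a maximal étale subalgebra of an Azumaya algebra over a local ring is self-centralizing.** -/
theorem mem_range_of_commute_local (y : A) (hy : ∀ e, u e * y = y * u e) :
    y ∈ LinearMap.range u.toLinearMap := by
  classical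
  set k := IsLocalRing.ResidueField R with hk
  let b : Basis (Fin r) R E := Module.finBasisOfFinrankEq R E hE
  let φ : A →ₗ[R] (Fin r → A) := LinearMap.pi fun j => ad R (u (b j))
  let v : Fin r → A := fun j => u (b j)
  let uk : k ⊗[R] E →ₐ[k] k ⊗[R] A := Algebra.TensorProduct.map (AlgHom.id k k) u
  have huk : ∀ z, uk z = u.toLinearMap.lTensor k z := by
    intro z
    induction z using TensorProduct.induction_on with
    | zero => simp
    | add a b ha hb => rw [map_add, map_add, ha, hb]
    | tmul c e => simp [uk]
  have hukinj : Function.Injective uk := by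
    intro z z' h
    rw [huk, huk] at h
    exact hu h
  let bk : Basis (Fin r) k (k ⊗[R] E) := b.baseChange k
  have hbk : ∀ j, bk j = (1 : k) ⊗ₜ[R] b j := fun j => Basis.baseChange_apply _ _ _
  have hvk : ∀ j, (1 : k) ⊗ₜ[R] v j = uk (bk j) := by
    intro j
    rw [hbk]
    simp [uk, v]
  have hv : LinearIndependent k (fun i => (1 : k) ⊗ₜ[R] v i) := by
    have h1 : LinearIndependent k (fun j => uk.toLinearMap (bk j)) :=
      bk.linearIndependent.map' uk.toLinearMap (LinearMap.ker_eq_bot.mpr hukinj)
    convert h1 using 2 with j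
    exact hvk j
  have : IsAzumaya k (k ⊗[R] A) := isAzumaya_baseChange k A
  have : Module.Free R A := Module.free_of_flat_of_isLocalRing
  have hfA : Module.finrank k (k ⊗[R] A) = r ^ 2 := by
    rw [Module.finrank_baseChange, hA]
  have hfE : Module.finrank k (k ⊗[R] E) = r := by
    rw [Module.finrank_baseChange, hE]
  have hker : LinearMap.ker (φ.baseChange k) ≤
      Submodule.span k (Set.range fun i => (1 : k) ⊗ₜ[R] v i) := by
    intro z hz
    rw [LinearMap.mem_ker] at hz
    have hzj : ∀ j, ad k ((1 : k) ⊗ₜ[R] u (b j)) z = 0 := by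
      intro j
      rw [← baseChange_ad]
      have h1 : (ad R (u (b j))).baseChange k = ((LinearMap.proj j).baseChange k) ∘ₗ
          (φ.baseChange k) := by
        rw [← LinearMap.baseChange_comp]
        congr 1
      rw [h1, LinearMap.comp_apply, hz, map_zero]
    have hcomm : ∀ l : k ⊗[R] E, uk l * z = z * uk l := by
      intro l
      have hl : l ∈ Submodule.span k (Set.range bk) := by
        rw [bk.span_eq]; trivial
      induction hl using Submodule.span_induction with
      | mem x hx =>
        obtain ⟨j, rfl⟩ := hx
        have := hzj j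
        rw [ad_apply, sub_eq_zero] at this
        rw [← hvk]
        exact this
      | zero => simp
      | add x y _ _ hx hy => rw [map_add, add_mul, mul_add, hx, hy]
      | smul c x _ hx => rw [map_smul, smul_mul_assoc, mul_smul_comm, hx]
    obtain ⟨l, hl⟩ := mem_range_of_commute r hfA hfE uk hukinj z hcomm
    rw [← hl]
    have hl' : l ∈ Submodule.span k (Set.range bk) := by
      rw [bk.span_eq]; trivial
    have : uk.toLinearMap l ∈ Submodule.map uk.toLinearMap (Submodule.span k (Set.range bk)) :=
      Submodule.mem_map_of_mem hl'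
    rw [Submodule.map_span, ← Set.range_comp] at this
    have heq : (fun i => (1 : k) ⊗ₜ[R] v i) = (uk.toLinearMap ∘ bk) := by
      funext j
      exact hvk j
    rw [heq]
    exact this
  have hφv : ∀ i, φ (v i) = 0 := by
    intro i
    funext j
    simp only [φ, v, LinearMap.pi_apply, Pi.zero_apply, ad_apply, ← map_mul, mul_comm, sub_self]
  have hφy : φ y = 0 := by
    funext j
    simp only [φ, LinearMap.pi_apply, Pi.zero_apply, ad_apply, hy, sub_self]
  have hmem := mem_span_of_apply_eq_zero φ v hv hker hφv y hφy
  have hle : Submodule.span R (Set.range v) ≤ LinearMap.range u.toLinearMap := by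
    rw [Submodule.span_le]
    rintro _ ⟨j, rfl⟩
    exact ⟨b j, rfl⟩
  exact hle hmem

include hA hE hu in
/-- variant: it is enough to commute with a basis of `E`. -/
theorem mem_range_of_commute_basis {ι : Type*} (b : Basis ι R E) (y : A)
    (hy : ∀ j, u (b j) * y = y * u (b j)) : y ∈ LinearMap.range u.toLinearMap := by
  apply mem_range_of_commute_local R A r hA E hE u hu y
  intro e
  have he : e ∈ Submodule.span R (Set.range b) := by rw [b.span_eq]; trivial
  induction he using Submodule.span_induction with
  | mem x hx =>
    obtain ⟨j, rfl⟩ := hx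
    exact hy j
  | zero => simp
  | add x y _ _ hx hy => rw [map_add, add_mul, mul_add, hx, hy]
  | smul c x _ hx => rw [map_smul, smul_mul_assoc, mul_smul_comm, hx]

include hu in
theorem injective_of_lTensor_injective : Function.Injective u := by
  have : Module.Free R A := Module.free_of_flat_of_isLocalRing
  obtain ⟨l', hl'⟩ :=
    (IsLocalRing.split_injective_iff_lTensor_residueField_injective u.toLinearMap).mpr hu
  intro x y hxy
  have := congrArg l' (show u.toLinearMap x = u.toLinearMap y from hxy)
  rwa [← LinearMap.comp_apply, ← LinearMap.comp_apply, hl'] at this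

end SC

section Split

variable (R : Type u) [CommRing R] [IsLocalRing R] (A : Type u) [Ring A] [Algebra R A]
  [IsAzumaya R A] (r : ℕ) (hA : Module.finrank R A = r ^ 2)
  (E : Type u) [CommRing E] [Algebra R E] [Algebra.Etale R E] [Module.Finite R E]
  [Module.Free R E] (hE : Module.finrank R E = r) (u : E →ₐ[R] A)
  (hu : Function.Injective (u.toLinearMap.lTensor (IsLocalRing.ResidueField R)))
  [Module E A] (hmod : ∀ (e : E) (a : A), e • a = a * u e)

include hmod in
omit [IsLocalRing R] [IsAzumaya R A] [Algebra.Etale R E] [Module.Finite R E] [Module.Free R E] in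
theorem isScalarTower_of_hmod : IsScalarTower R E A :=
  ⟨fun c e a => by rw [hmod, hmod, map_smul, mul_smul_comm]⟩

include hmod in
omit [IsLocalRing R] [IsAzumaya R A] [Algebra.Etale R E] [Module.Finite R E] [Module.Free R E] in
theorem smulCommClass_of_hmod : SMulCommClass E R A :=
  ⟨fun e c a => by rw [hmod, hmod, smul_mul_assoc]⟩

variable [IsScalarTower R E A] [SMulCommClass E R A]

/-- left multiplication as an `E`-linear endomorphism. -/
def leftMulE : A →ₐ[R] Module.End E A where
  toFun a :=
    { toFun := fun y => a * y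
      map_add' := mul_add a
      map_smul' := fun e y => by simp only [hmod, RingHom.id_apply, mul_assoc] }
  map_one' := by ext y; simp
  map_mul' a a' := by ext y; simp [mul_assoc]
  map_zero' := by ext y; simp
  map_add' a a' := by ext y; simp [add_mul]
  commutes' c := by ext y; simp [Algebra.smul_def]

/-- the splitting map `E ⊗ A → End_E(A)`, `e ⊗ a ↦ (y ↦ a y u(e))`. -/
def splitMap : E ⊗[R] A →ₐ[E] Module.End E A :=
  Algebra.TensorProduct.lift (Algebra.ofId E (Module.End E A)) (leftMulE R A E u hmod)
    (fun e a => Algebra.commute_algebraMap_left e _)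

omit [IsLocalRing R] [IsAzumaya R A] [Algebra.Etale R E] [Module.Finite R E] [Module.Free R E] in
theorem splitMap_tmul_apply (e : E) (a y : A) :
    splitMap R A E u hmod (e ⊗ₜ a) y = a * y * u e := by
  simp [splitMap, leftMulE, Algebra.ofId_apply, hmod]

omit [IsLocalRing R] [IsAzumaya R A] in
/-- `M ⊗ ad x` is the commutator with `1 ⊗ x`. -/
lemma lTensor_ad (B : Type*) [Ring B] [Algebra R B] (x : B) (z : A ⊗[R] B) :
    (ad R x).lTensor A z = (1 ⊗ₜ[R] x) * z - z * (1 ⊗ₜ[R] x) := by
  induction z using TensorProduct.induction_on with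
  | zero => simp
  | add a b ha hb => rw [map_add, ha, hb, mul_add, add_mul]; abel
  | tmul a b =>
    simp only [LinearMap.lTensor_tmul, ad_apply, Algebra.TensorProduct.tmul_mul_tmul, one_mul,
      mul_one, TensorProduct.tmul_sub]

include hA hE hu in
/-- **the splitting map is bijective.** -/
theorem splitMap_bijective : Function.Bijective (splitMap R A E u hmod) := by
  classical
  have hΘ := IsAzumaya.bij (R := R) (A := A)
  set Θ := AlgHom.mulLeftRight R A with hΘdef
  let ou : E →ₗ[R] Aᵐᵒᵖ := (MulOpposite.opLinearEquiv R).toLinearMap ∘ₗ u.toLinearMap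
  let J : E ⊗[R] A →ₗ[R] A ⊗[R] Aᵐᵒᵖ := (ou.lTensor A) ∘ₗ (TensorProduct.comm R E A).toLinearMap
  have hcomp : ∀ w : E ⊗[R] A, ∀ y, splitMap R A E u hmod w y = Θ (J w) y := by
    intro w
    induction w using TensorProduct.induction_on with
    | zero => simp
    | add a b ha hb =>
      intro y
      rw [map_add, map_add, map_add, LinearMap.add_apply, LinearMap.add_apply, ha, hb]
    | tmul e a =>
      intro y
      simp [splitMap_tmul_apply, J, ou, hΘdef, AlgHom.mulLeftRight_apply]
  have huinj := injective_of_lTensor_injective R A E u hu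
  have houinj : Function.Injective ou := by
    intro x y hxy
    exact huinj (MulOpposite.op_injective hxy)
  have hJinj : Function.Injective J := by
    have h1 : Function.Injective (ou.lTensor A) :=
      Module.Flat.lTensor_preserves_injective_linearMap ou houinj
    exact h1.comp (TensorProduct.comm R E A).injective
  constructor
  · intro w w' h
    apply hJinj
    apply hΘ.1
    ext y
    rw [← hcomp, ← hcomp, h]
  · intro φ
    obtain ⟨z, hz⟩ := hΘ.2 (φ.restrictScalars R)
    let b : Basis (Fin r) R E := Module.finBasisOfFinrankEq R E hE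
    let ψ : Fin r → (Aᵐᵒᵖ →ₗ[R] Aᵐᵒᵖ) := fun j => ad R (MulOpposite.op (u (b j)))
    have hzψ : ∀ j, (ψ j).lTensor A z = 0 := by
      intro j
      apply hΘ.1
      rw [map_zero, lTensor_ad, map_sub, map_mul, map_mul, hz]
      ext y
      simp only [LinearMap.sub_apply, Module.End.mul_apply, LinearMap.coe_restrictScalars,
        LinearMap.zero_apply, hΘdef, AlgHom.mulLeftRight_apply, one_mul, MulOpposite.unop_op]
      rw [← hmod, ← hmod, map_smul, sub_self]
    have hmem := mem_range_lTensor_iInf_ker ψ z hzψ
    set K : Submodule R Aᵐᵒᵖ := ⨅ j, LinearMap.ker (ψ j) with hK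
    have hKle : K ≤ LinearMap.range ou := by
      intro x hx
      rw [hK, Submodule.mem_iInf] at hx
      have hx' : ∀ j, u (b j) * x.unop = x.unop * u (b j) := by
        intro j
        have := hx j
        rw [LinearMap.mem_ker, ad_apply, sub_eq_zero] at this
        have h2 := congrArg MulOpposite.unop this
        simpa using h2.symm
      obtain ⟨e, he⟩ := mem_range_of_commute_basis R A r hA E hE u hu b x.unop hx'
      refine ⟨e, ?_⟩
      have he' : u e = x.unop := he
      simp [ou, he']
    obtain ⟨w, hw⟩ := hmem
    -- factor through the range of `ou`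
    have hfac : K.subtype = (LinearMap.range ou).subtype ∘ₗ Submodule.inclusion hKle := by
      ext x; rfl
    have hsurj : Function.Surjective (ou.rangeRestrict.lTensor A) :=
      LinearMap.lTensor_surjective A (LinearMap.surjective_rangeRestrict ou)
    obtain ⟨w', hw'⟩ := hsurj ((Submodule.inclusion hKle).lTensor A w)
    have hz' : z = ou.lTensor A w' := by
      rw [← hw, hfac, LinearMap.lTensor_comp, LinearMap.comp_apply, ← hw',
        ← LinearMap.comp_apply, ← LinearMap.lTensor_comp]
      congr 2
    refine ⟨(TensorProduct.comm R E A).symm w', ?_⟩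
    ext y
    rw [hcomp]
    have : J ((TensorProduct.comm R E A).symm w') = z := by
      simp only [J, LinearMap.comp_apply, LinearEquiv.coe_coe, LinearEquiv.apply_symm_apply, hz']
    rw [this, hz]
    rfl

/-- a finite algebra over a local ring is semilocal. -/
theorem finite_maximalSpectrum_of_finite (R : Type*) [CommRing R] [IsLocalRing R]
    (E : Type*) [CommRing E] [Algebra R E] [Module.Finite R E] : Finite (MaximalSpectrum E) := by
  have hfin := Algebra.QuasiFinite.finite_primesOver (R := R) (S := E) (IsLocalRing.maximalIdeal R)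
  have : Finite ((IsLocalRing.maximalIdeal R).primesOver E) := hfin
  have hcomap : ∀ q : MaximalSpectrum E,
      q.asIdeal.comap (algebraMap R E) = IsLocalRing.maximalIdeal R := by
    intro q
    have := q.isMaximal
    exact IsLocalRing.eq_maximalIdeal (Ideal.isMaximal_comap_of_isIntegral_of_isMaximal q.asIdeal)
  let F : MaximalSpectrum E → ((IsLocalRing.maximalIdeal R).primesOver E) := fun q =>
    ⟨q.asIdeal, q.isMaximal.isPrime, ⟨(hcomap q).symm⟩⟩
  refine Finite.of_injective F ?_
  intro q q' h
  ext1
  exact congrArg Subtype.val h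

include hA hE hu hmod in
/-- the rank of `A` over `E` at each maximal ideal is `r`. -/
theorem finrank_quotient_tensor (P : Ideal E) [P.IsMaximal] :
    Module.finrank (E ⧸ P) ((E ⧸ P) ⊗[E] A) = r := by
  let _ : Field (E ⧸ P) := Ideal.Quotient.field P
  have : Module.Finite E A := Module.Finite.of_restrictScalars_finite R E A
  have : Module.Projective E A := Algebra.FormallyUnramified.projective_of_restrictScalars R E A
  have : Module.Free R A := Module.free_of_flat_of_isLocalRing
  have : Module.Free (E ⧸ P) ((E ⧸ P) ⊗[E] A) := inferInstance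
  set κ := E ⧸ P with hκ
  set d := Module.finrank κ (κ ⊗[E] A) with hd
  have h1 : Module.finrank κ (κ ⊗[E] Module.End E A) = d * d := by
    rw [LinearEquiv.finrank_eq (LinearEquiv.ofBijective _ (tensorProductEnd_bijective κ A)),
      Module.finrank_linearMap]
  let Φ : (E ⊗[R] A) ≃ₗ[E] Module.End E A :=
    LinearEquiv.ofBijective (splitMap R A E u hmod).toLinearMap
      (splitMap_bijective R A r hA E hE u hu hmod)
  have e1 : κ ⊗[E] (E ⊗[R] A) ≃ₗ[κ] κ ⊗[E] Module.End E A :=
    TensorProduct.AlgebraTensorModule.congr (LinearEquiv.refl κ κ) Φ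
  have e2 : κ ⊗[E] (E ⊗[R] A) ≃ₗ[κ] κ ⊗[R] A :=
    TensorProduct.AlgebraTensorModule.cancelBaseChange R E κ κ A
  have h2 : Module.finrank κ (κ ⊗[R] A) = r ^ 2 := by
    rw [Module.finrank_baseChange, hA]
  have h3 : d * d = r ^ 2 := by
    rw [← h1, ← h2, ← LinearEquiv.finrank_eq e1, LinearEquiv.finrank_eq e2]
  rw [← sq] at h3
  exact Nat.pow_left_injective (n := 2) (by norm_num) h3

include hA hE hu hmod in
/-- **`A` is free of rank `r` over `E`.** -/
theorem nonempty_basis_over_etale : Nonempty (Basis (Fin r) E A) := by
  have := finite_maximalSpectrum_of_finite R E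
  have : Module.Finite E A := Module.Finite.of_restrictScalars_finite R E A
  have : Module.Projective E A := Algebra.FormallyUnramified.projective_of_restrictScalars R E A
  apply Module.nonempty_basis_of_flat_of_finrank_eq E A r
  intro P
  have := P.isMaximal
  exact finrank_quotient_tensor R A r hA E hE u hu hmod P.asIdeal

end Split

end Groth.Agent.R2.H14.AzSplitEtale
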