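import Mathlib
import Groth.Agent.Lib.LeadAzumaya
import Groth.Agent.Lib.LeadAzumayaLocal
import Groth.Agent.R2.H14AzSplitEtale

/-!
# Splitting an Azumaya algebra by a commutative subalgebra over which it is free (helper14)

* `bijective_of_forall_injective_baseChange`: a linear map between free modules of the same finite
  rank which is injective modulo every maximal ideal is bijective.
* `exists_algEquiv_matrix_of_basis`: `A` Azumaya over `R`, `P` monic of degree `r`, `ξ ∈ A` a root
  of `P`, `v : Fin r → A` with `(v j * ξ ^ i)` an `R`-basis of `A`.  Then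
  `R[X]/(P) ⊗ A ≃ M_r(R[X]/(P))`.
-/

set_option autoImplicit false
universe u

open TensorProduct Polynomial Module

namespace Groth.Agent.R2.H14.AzSplitGlobal

open Groth.Agent.Lib.LeadAzumaya Groth.Agent.R2.H14.AzSplitEtale

section DetCrit

/-- a linear map between free modules of the same finite rank which is injective modulo every
maximal ideal is bijective. -/
theorem bijective_of_forall_injective_baseChange {E : Type*} [CommRing E] {ι : Type*} [Fintype ι]
    [DecidableEq ι] {B C : Type*} [AddCommGroup B] [Module E B] [AddCommGroup C] [Module E C]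
    (b : Basis ι E B) (c : Basis ι E C) (ρ : B →ₗ[E] C)
    (h : ∀ n : Ideal E, n.IsMaximal → Function.Injective (ρ.baseChange (E ⧸ n))) :
    Function.Bijective ρ := by
  have hdet : IsUnit (LinearMap.toMatrix b c ρ).det := by
    by_contra hnu
    obtain ⟨n, hn, hmem⟩ := exists_max_ideal_of_mem_nonunits hnu
    let _ : Field (E ⧸ n) := Ideal.Quotient.field n
    have hinj := h n hn
    have hfr : Module.finrank (E ⧸ n) ((E ⧸ n) ⊗[E] B) = Module.finrank (E ⧸ n) ((E ⧸ n) ⊗[E] C) := by
      rw [Module.finrank_eq_card_basis (Algebra.TensorProduct.basis (E ⧸ n) b),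
        Module.finrank_eq_card_basis (Algebra.TensorProduct.basis (E ⧸ n) c)]
    have : Module.Finite (E ⧸ n) ((E ⧸ n) ⊗[E] B) :=
      Module.Finite.of_basis (Algebra.TensorProduct.basis (E ⧸ n) b)
    have : Module.Finite (E ⧸ n) ((E ⧸ n) ⊗[E] C) :=
      Module.Finite.of_basis (Algebra.TensorProduct.basis (E ⧸ n) c)
    have hsurj := (LinearMap.injective_iff_surjective_of_finrank_eq_finrank hfr).mp hinj
    let e := LinearEquiv.ofBijective (ρ.baseChange (E ⧸ n)) ⟨hinj, hsurj⟩
    have hu := LinearEquiv.isUnit_det e (Algebra.TensorProduct.basis (E ⧸ n) b)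
      (Algebra.TensorProduct.basis (E ⧸ n) c)
    have he : (e : (E ⧸ n) ⊗[E] B →ₗ[E ⧸ n] (E ⧸ n) ⊗[E] C) = ρ.baseChange (E ⧸ n) := by
      ext x; rfl
    rw [he, LinearMap.toMatrix_baseChange, ← RingHom.mapMatrix_apply, ← RingHom.map_det] at hu
    have h0 : algebraMap E (E ⧸ n) (LinearMap.toMatrix b c ρ).det = 0 :=
      Ideal.Quotient.eq_zero_iff_mem.mpr hmem
    rw [h0] at hu
    exact not_isUnit_zero hu
  have := (LinearEquiv.ofIsUnitDet hdet).bijective
  exact this

end DetCrit

section RightModule

variable {R : Type*} [CommRing R] {E : Type*} [CommRing E] [Algebra R E] {A : Type*} [Ring A]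
  [Algebra R A]

/-- the `E`-module structure on `A` by right multiplication through `u`. -/
@[reducible] def rightModule (u : E →ₐ[R] A) : Module E A :=
  Module.compHom A (u.toRingHom.toOpposite (fun x y => by
    show u x * u y = u y * u x
    rw [← map_mul, ← map_mul, mul_comm]))

lemma rightModule_smul (u : E →ₐ[R] A) (e : E) (a : A) :
    letI := rightModule u
    e • a = a * u e := rfl

end RightModule

section Global

variable (R : Type u) [CommRing R] (A : Type u) [Ring A] [Algebra R A] [IsAzumaya R A]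

/-- the evaluation map `R[X]/(P) → A` at a root `ξ` of `P`. -/
noncomputable def evalRoot (P : R[X]) (ξ : A) (hξ : aeval ξ P = 0) : AdjoinRoot P →ₐ[R] A :=
  Ideal.Quotient.liftₐ (Ideal.span {P}) (aeval ξ) (by
    intro a ha
    obtain ⟨q, rfl⟩ := Ideal.mem_span_singleton.mp ha
    rw [map_mul, hξ, zero_mul])

omit [IsAzumaya R A] in
lemma evalRoot_mk (P : R[X]) (ξ : A) (hξ : aeval ξ P = 0) (q : R[X]) :
    evalRoot R A P ξ hξ (AdjoinRoot.mk P q) = aeval ξ q := rfl

omit [IsAzumaya R A] in
lemma evalRoot_root_pow (P : R[X]) (ξ : A) (hξ : aeval ξ P = 0) (i : ℕ) :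
    evalRoot R A P ξ hξ (AdjoinRoot.root P ^ i) = ξ ^ i := by
  rw [← AdjoinRoot.mk_X, ← map_pow, evalRoot_mk, map_pow, aeval_X]

variable (r : ℕ) (P : R[X]) (hP : P.Monic) (hdeg : P.natDegree = r) (ξ : A) (hξ : aeval ξ P = 0)
  (v : Fin r → A)

omit [IsAzumaya R A] in
lemma linearCombination_key (c : Fin r × Fin r → R) :
    letI := rightModule (evalRoot R A P ξ hξ)
    Fintype.linearCombination (AdjoinRoot P) v
        (fun j => ∑ i : Fin r, c (i, j) • AdjoinRoot.root P ^ (i : ℕ)) =
      Fintype.linearCombination R (fun ij : Fin r × Fin r => v ij.2 * ξ ^ (ij.1 : ℕ)) c := by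
  letI := rightModule (evalRoot R A P ξ hξ)
  rw [Fintype.linearCombination_apply, Fintype.linearCombination_apply, Fintype.sum_prod_type,
    Finset.sum_comm]
  refine Finset.sum_congr rfl fun j _ => ?_
  rw [rightModule_smul, map_sum, Finset.mul_sum]
  refine Finset.sum_congr rfl fun i _ => ?_
  rw [map_smul, evalRoot_root_pow, mul_smul_comm]

include hP hdeg in
omit [IsAzumaya R A] in
/-- if `(v j * ξ ^ i)` is an `R`-basis of `A` then `v` is a basis of `A` over `R[X]/(P)`. -/
theorem linearCombination_bijective_of_basis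
    (hv : Function.Bijective
      (Fintype.linearCombination R (fun ij : Fin r × Fin r => v ij.2 * ξ ^ (ij.1 : ℕ)))) :
    letI := rightModule (evalRoot R A P ξ hξ)
    Function.Bijective (Fintype.linearCombination (AdjoinRoot P) v) := by
  letI := rightModule (evalRoot R A P ξ hξ)
  let pb := AdjoinRoot.powerBasis' hP
  let bE : Basis (Fin r) R (AdjoinRoot P) := pb.basis.reindex (finCongr hdeg)
  have hbE : ∀ i : Fin r, bE i = AdjoinRoot.root P ^ (i : ℕ) := by
    intro i
    simp [bE, pb]
  constructor
  · rw [injective_iff_map_eq_zero]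
    intro e he
    let c : Fin r × Fin r → R := fun ij => bE.repr (e ij.2) ij.1
    have hec : e = fun j => ∑ i : Fin r, c (i, j) • AdjoinRoot.root P ^ (i : ℕ) := by
      funext j
      conv_lhs => rw [← bE.sum_repr (e j)]
      refine Finset.sum_congr rfl fun i _ => ?_
      rw [hbE]
    rw [hec, linearCombination_key] at he
    have hc : c = 0 := by
      apply hv.1
      rw [he, map_zero]
    rw [hec]
    funext j
    simp [hc]
  · intro a
    obtain ⟨c, rfl⟩ := hv.2 a
    exact ⟨_, linearCombination_key R A r P ξ hξ v c⟩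

include hP hdeg hξ in
/-- **an Azumaya algebra of rank `r²` is split by a commutative subalgebra `R[ξ] ≅ R[X]/(P)` over
which it is free of rank `r`.** -/
theorem exists_algEquiv_matrix_of_basis (hr : 1 ≤ r)
    (hv : Function.Bijective
      (Fintype.linearCombination R (fun ij : Fin r × Fin r => v ij.2 * ξ ^ (ij.1 : ℕ)))) :
    Nonempty (AdjoinRoot P ⊗[R] A ≃ₐ[AdjoinRoot P] Matrix (Fin r) (Fin r) (AdjoinRoot P)) := by
  classical
  let E := AdjoinRoot P
  let u := evalRoot R A P ξ hξ
  letI : Module E A := rightModule u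
  have hmod : ∀ (e : E) (a : A), e • a = a * u e := fun e a => rfl
  have h1 : IsScalarTower R E A := isScalarTower_of_hmod R A E u hmod
  have h2 : SMulCommClass E R A := smulCommClass_of_hmod R A E u hmod
  have hbij := linearCombination_bijective_of_basis R A r P hP hdeg ξ hξ v hv
  let bE : Basis (Fin r) E A :=
    Basis.ofEquivFun (LinearEquiv.ofBijective (Fintype.linearCombination E v) hbij).symm
  let bR : Basis (Fin r × Fin r) R A := Basis.ofEquivFun (LinearEquiv.ofBijective _ hv).symm
  let b1 : Basis (Fin r × Fin r) E (E ⊗[R] A) := Algebra.TensorProduct.basis E bR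
  let eM : Module.End E A ≃ₐ[E] Matrix (Fin r) (Fin r) E := algEquivMatrix bE
  let b2 : Basis (Fin r × Fin r) E (Module.End E A) :=
    (Matrix.stdBasis E (Fin r) (Fin r)).map eM.symm.toLinearEquiv
  let ρ := splitMap R A E u hmod
  have hρ : Function.Bijective ρ := by
    refine bijective_of_forall_injective_baseChange b1 b2 ρ.toLinearMap ?_
    intro n hn
    let _ : Field (E ⧸ n) := Ideal.Quotient.field n
    have : IsAzumaya E (E ⊗[R] A) := isAzumaya_baseChange E A
    have : IsAzumaya (E ⧸ n) ((E ⧸ n) ⊗[E] (E ⊗[R] A)) :=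
      isAzumaya_baseChange (E ⧸ n) (E ⊗[R] A)
    have : IsSimpleRing ((E ⧸ n) ⊗[E] (E ⊗[R] A)) :=
      isSimpleRing_of_isAzumaya_field (k := E ⧸ n)
    have : Nontrivial ((E ⧸ n) ⊗[E] Module.End E A) := by
      have hfr : Module.finrank (E ⧸ n) ((E ⧸ n) ⊗[E] Module.End E A) = r * r := by
        rw [Module.finrank_eq_card_basis (Algebra.TensorProduct.basis (E ⧸ n) b2)]
        simp
      have : Module.Finite (E ⧸ n) ((E ⧸ n) ⊗[E] Module.End E A) :=
        Module.Finite.of_basis (Algebra.TensorProduct.basis (E ⧸ n) b2)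
      apply Module.nontrivial_of_finrank_pos (R := E ⧸ n)
      rw [hfr]
      positivity
    let ρκ : (E ⧸ n) ⊗[E] (E ⊗[R] A) →ₐ[E ⧸ n] (E ⧸ n) ⊗[E] Module.End E A :=
      Algebra.TensorProduct.map (AlgHom.id _ _) ρ
    have hinj : Function.Injective ρκ := RingHom.injective ρκ.toRingHom
    have heq : ∀ z, ρ.toLinearMap.baseChange (E ⧸ n) z = ρκ z := by
      intro z
      induction z using TensorProduct.induction_on with
      | zero => simp
      | add a b ha hb => rw [map_add, map_add, ha, hb]
      | tmul c a => simp [ρκ]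
    intro z z' hzz'
    apply hinj
    rw [← heq, ← heq, hzz']
  exact ⟨(AlgEquiv.ofBijective ρ hρ).trans eM⟩

end Global

end Groth.Agent.R2.H14.AzSplitGlobal
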