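import Mathlib

/-!
# Spreading-out tools near a prime (helper14)

* `bijective_baseChange_away_of_atPrime`: a linear map from a finite module to a finitely presented
  module whose base change to `R_p` is bijective has bijective base change to `R_t` for all
  multiples `t` of some `g ∉ p`.
-/

set_option autoImplicit false

open TensorProduct

namespace Groth.Agent.R2.H14.SpreadTools

section Bij

variable {R : Type*} [CommRing R]

/-- `LocalizedModule.map` corresponds to `baseChange` under `LocalizedModule.equivTensorProduct`. -/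
lemma equivTensorProduct_map (S : Submonoid R) {M N : Type*} [AddCommGroup M] [Module R M]
    [AddCommGroup N] [Module R N] (l : M →ₗ[R] N) (x : LocalizedModule S M) :
    LocalizedModule.equivTensorProduct S N (LocalizedModule.map S l x) =
      l.baseChange (Localization S) (LocalizedModule.equivTensorProduct S M x) := by
  induction x using LocalizedModule.induction_on with
  | h m s =>
    rw [LocalizedModule.map_mk, LocalizedModule.equivTensorProduct_apply_mk,
      LocalizedModule.equivTensorProduct_apply_mk, LinearMap.baseChange_tmul]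

theorem bijective_baseChange_away_of_atPrime (p : Ideal R) [p.IsPrime]
    {M N : Type*} [AddCommGroup M] [Module R M] [AddCommGroup N] [Module R N]
    [Module.Finite R M] [Module.FinitePresentation R N] (l : M →ₗ[R] N)
    (h : Function.Bijective (l.baseChange (Localization.AtPrime p))) :
    ∃ g, g ∉ p ∧ ∀ t, g ∣ t → Function.Bijective (l.baseChange (Localization.Away t)) := by
  let Rp := Localization.AtPrime p
  let fM : M →ₗ[R] Rp ⊗[R] M := TensorProduct.mk R Rp M 1
  let fN : N →ₗ[R] Rp ⊗[R] N := TensorProduct.mk R Rp N 1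
  have hmap : IsLocalizedModule.map p.primeCompl fM fN l = (l.baseChange Rp).restrictScalars R := by
    apply IsLocalizedModule.ext p.primeCompl fM (IsLocalizedModule.map_units fN)
    ext m
    simp only [LinearMap.coe_comp, Function.comp_apply, IsLocalizedModule.map_apply,
      LinearMap.coe_restrictScalars]
    simp [fM, fN]
  obtain ⟨g, hg, H⟩ := exists_bijective_map_powers p.primeCompl fM fN l (by
    rw [hmap]; exact h)
  refine ⟨g, hg, fun t ht => ?_⟩
  have hb := H t ht
  let eM := LocalizedModule.equivTensorProduct (Submonoid.powers t) M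
  let eN := LocalizedModule.equivTensorProduct (Submonoid.powers t) N
  have hcomp : ⇑(l.baseChange (Localization.Away t)) =
      eN ∘ (LocalizedModule.map (Submonoid.powers t) l) ∘ eM.symm := by
    funext z
    obtain ⟨x, rfl⟩ := eM.surjective z
    simp only [Function.comp_apply, LinearEquiv.symm_apply_apply]
    exact (equivTensorProduct_map (Submonoid.powers t) l x).symm
  rw [hcomp]
  exact eN.bijective.comp (hb.comp eM.symm.bijective)

end Bij

section LC

/-- base change of a `linearCombination` map. -/
lemma baseChange_linearCombination_bijective_iff {R : Type*} [CommRing R] (S : Type*) [CommRing S]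
    [Algebra R S] {A : Type*} [AddCommGroup A] [Module R A] {ι : Type*} [Fintype ι]
    [DecidableEq ι] (F : ι → A) :
    Function.Bijective ((Fintype.linearCombination R F).baseChange S) ↔
      Function.Bijective (Fintype.linearCombination S (fun i => (1 : S) ⊗ₜ[R] F i)) := by
  let bι : Module.Basis ι S (S ⊗[R] (ι → R)) := Algebra.TensorProduct.basis S (Pi.basisFun R ι)
  have hcomp : ⇑(Fintype.linearCombination S (fun i => (1 : S) ⊗ₜ[R] F i)) =
      ⇑((Fintype.linearCombination R F).baseChange S) ∘ ⇑bι.equivFun.symm := by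
    funext c
    rw [Function.comp_apply, Fintype.linearCombination_apply, Module.Basis.equivFun_symm_apply,
      map_sum]
    refine Finset.sum_congr rfl fun i _ => ?_
    rw [map_smul]
    congr 1
    simp [bι, Fintype.linearCombination_apply_single]
  rw [hcomp, Function.Bijective.of_comp_iff _ bι.equivFun.symm.bijective]

end LC

section Clear

variable {R : Type*} [CommRing R] (p : Ideal R) [p.IsPrime]

/-- clearing the denominator of an element of `R_p ⊗ A`. -/
lemma exists_tmul_eq_smul {A : Type*} [AddCommGroup A] [Module R A]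
    (z : Localization.AtPrime p ⊗[R] A) :
    ∃ s, s ∉ p ∧ ∃ a : A, (1 : Localization.AtPrime p) ⊗ₜ[R] a = s • z := by
  obtain ⟨⟨a, s⟩, h⟩ := IsLocalizedModule.surj p.primeCompl
    (TensorProduct.mk R (Localization.AtPrime p) A 1) z
  exact ⟨s.1, s.2, a, h.symm⟩

lemma exists_smul_eq_zero_of_tmul_eq_zero {A : Type*} [AddCommGroup A] [Module R A] (a : A)
    (h : (1 : Localization.AtPrime p) ⊗ₜ[R] a = 0) : ∃ s, s ∉ p ∧ s • a = 0 := by
  obtain ⟨s, hs⟩ := (IsLocalizedModule.eq_zero_iff p.primeCompl
    (TensorProduct.mk R (Localization.AtPrime p) A 1)).mp h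
  exact ⟨s.1, s.2, hs⟩

open Polynomial in
/-- a polynomial vanishing over `R_p` is killed by some `s ∉ p`. -/
lemma exists_C_mul_eq_zero_of_map_eq_zero (Q : R[X])
    (h : Q.map (algebraMap R (Localization.AtPrime p)) = 0) : ∃ s, s ∉ p ∧ C s * Q = 0 := by
  classical
  have hi : ∀ i, ∃ s : p.primeCompl, (s : R) * Q.coeff i = 0 := by
    intro i
    have : algebraMap R (Localization.AtPrime p) (Q.coeff i) = 0 := by
      rw [← Polynomial.coeff_map, h, Polynomial.coeff_zero]
    exact (IsLocalization.map_eq_zero_iff p.primeCompl (Localization.AtPrime p) _).mp this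
  choose σ hσ using hi
  refine ⟨∏ i ∈ Q.support, (σ i : R), ?_, ?_⟩
  · have : (∏ i ∈ Q.support, (σ i : R)) ∈ p.primeCompl :=
      Submonoid.prod_mem _ fun i _ => (σ i).2
    exact this
  · ext i
    rw [Polynomial.coeff_C_mul, Polynomial.coeff_zero]
    by_cases hmem : i ∈ Q.support
    · rw [← Finset.mul_prod_erase _ _ hmem, mul_comm (σ i : R), mul_assoc, hσ, mul_zero]
    · rw [Polynomial.notMem_support_iff.mp hmem, mul_zero]

open Polynomial in
/-- spreading out separability. -/
theorem separable_spread (Ph : R[X]) (s₀ : R) (Pp : (Localization.AtPrime p)[X])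
    (hPp : Ph.map (algebraMap R (Localization.AtPrime p)) =
      C (algebraMap R (Localization.AtPrime p) s₀) * Pp) (hsep : Pp.Separable) :
    ∃ s, s ∉ p ∧ ∀ (S' : Type*) [CommRing S'] [Algebra R S'] (P' : S'[X]),
      IsUnit (algebraMap R S' s₀) → IsUnit (algebraMap R S' s) →
      Ph.map (algebraMap R S') = C (algebraMap R S' s₀) * P' → P'.Separable := by
  obtain ⟨a, b, hab⟩ := hsep
  obtain ⟨s₂, hs₂, ha⟩ := IsLocalization.integerNormalization_spec p.primeCompl a
  obtain ⟨s₃, hs₃, hb⟩ := IsLocalization.integerNormalization_spec p.primeCompl b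
  set a₀ := IsLocalization.integerNormalization p.primeCompl a
  set b₀ := IsLocalization.integerNormalization p.primeCompl b
  rw [Algebra.smul_def, Polynomial.algebraMap_apply] at ha hb
  let Q : R[X] := C s₃ * a₀ * Ph + C s₂ * b₀ * derivative Ph - C (s₀ * s₂ * s₃)
  have hQ : Q.map (algebraMap R (Localization.AtPrime p)) = 0 := by
    simp only [Q, Polynomial.map_sub, Polynomial.map_add, Polynomial.map_mul, Polynomial.map_C,
      ← Polynomial.derivative_map, hPp, ha, hb, Polynomial.derivative_mul,
      Polynomial.derivative_C, zero_mul, zero_add, map_mul]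
    linear_combination (C (algebraMap R (Localization.AtPrime p) s₀) *
      C (algebraMap R (Localization.AtPrime p) s₂) *
      C (algebraMap R (Localization.AtPrime p) s₃)) * hab
  obtain ⟨s₄, hs₄, hQ4⟩ := exists_C_mul_eq_zero_of_map_eq_zero p Q hQ
  refine ⟨s₂ * s₃ * s₄, ?_, ?_⟩
  · exact (p.primeCompl.mul_mem (p.primeCompl.mul_mem hs₂ hs₃) hs₄ : _ ∈ p.primeCompl)
  intro S' _ _ P' hu₀ hu hP'
  rw [map_mul, map_mul, IsUnit.mul_iff, IsUnit.mul_iff] at hu
  obtain ⟨⟨hu₂, hu₃⟩, hu₄⟩ := hu
  have hQS : Q.map (algebraMap R S') = 0 := by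
    have h1 := congrArg (Polynomial.map (algebraMap R S')) hQ4
    rw [Polynomial.map_mul, Polynomial.map_C, Polynomial.map_zero] at h1
    have hC : IsUnit (C (algebraMap R S' s₄)) := hu₄.map C
    exact (hC.mul_right_eq_zero).mp h1
  simp only [Q, Polynomial.map_sub, Polynomial.map_add, Polynomial.map_mul, Polynomial.map_C,
    ← Polynomial.derivative_map, hP', Polynomial.derivative_mul,
    Polynomial.derivative_C, zero_mul, zero_add, map_mul] at hQS
  have hw : IsUnit (algebraMap R S' s₀ * algebraMap R S' s₂ * algebraMap R S' s₃) :=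
    (hu₀.mul hu₂).mul hu₃
  obtain ⟨w, hw⟩ := hw
  refine ⟨C (↑w⁻¹ : S') * C (algebraMap R S' s₃) * a₀.map (algebraMap R S') *
      C (algebraMap R S' s₀),
    C (↑w⁻¹ : S') * C (algebraMap R S' s₂) * b₀.map (algebraMap R S') * C (algebraMap R S' s₀), ?_⟩
  have hw1 : C (↑w⁻¹ : S') * (C (algebraMap R S' s₀) * C (algebraMap R S' s₂) *
      C (algebraMap R S' s₃)) = 1 := by
    rw [← C_mul, ← C_mul, ← C_mul, ← hw, Units.inv_mul, C_1]
  linear_combination (C (↑w⁻¹ : S')) * hQS + hw1

end Clear

end Groth.Agent.R2.H14.SpreadTools
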