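import Mathlib
import Groth.Agent.Lib.LeadAzumaya
import Groth.Agent.Lib.LeadAzumayaLocal
import Groth.Agent.R2.H25EtaleSub
import Groth.Agent.R2.H14AzRegLocal
import Groth.Agent.R2.H14AzMaxEtale
import Groth.Agent.R2.H14AzSplitEtale
import Groth.Agent.R2.H14AzSplitGlobal
import Groth.Agent.R2.H14SpreadTools

/-!
# Splitting data for an Azumaya algebra near a prime (helper14)
-/

set_option autoImplicit false
universe u

open TensorProduct Polynomial Module

namespace Groth.Agent.R2.H14.AzSplitNear

open Groth.Agent.Lib.LeadAzumaya Groth.Agent.R2.H14.AzRegLocal Groth.Agent.R2.H25.EtaleSub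
  Groth.Agent.R2.H14.AzMaxEtale Groth.Agent.R2.H14.AzSplitEtale Groth.Agent.R2.H14.AzSplitGlobal
  Groth.Agent.R2.H14.SpreadTools

section Poly

variable {R : Type*} [CommRing R]

/-- the monic polynomial `X^r - ∑ c_i X^i`. -/
noncomputable def monicOf {r : ℕ} (c : Fin r → R) : R[X] :=
  X ^ r - ∑ i : Fin r, C (c i) * X ^ (i : ℕ)

lemma monicOf_monic {r : ℕ} (c : Fin r → R) : (monicOf c).Monic :=
  monic_X_pow_sub (degree_sum_fin_lt c)

lemma monicOf_natDegree [Nontrivial R] {r : ℕ} (c : Fin r → R) : (monicOf c).natDegree = r := by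
  have h1 : (X ^ r - ∑ i : Fin r, C (c i) * X ^ (i : ℕ)).degree = ((X : R[X]) ^ r).degree :=
    degree_sub_eq_left_of_degree_lt (by rw [degree_X_pow]; exact degree_sum_fin_lt c)
  rw [degree_X_pow] at h1
  exact natDegree_eq_of_degree_eq_some h1

lemma aeval_monicOf {A : Type*} [Ring A] [Algebra R A] {r : ℕ} (c : Fin r → R) (ξ : A) :
    aeval ξ (monicOf c) = ξ ^ r - ∑ i : Fin r, c i • ξ ^ (i : ℕ) := by
  rw [monicOf, map_sub, map_pow, aeval_X, map_sum]
  congr 1
  refine Finset.sum_congr rfl fun i _ => ?_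
  rw [map_mul, aeval_C, map_pow, aeval_X, Algebra.smul_def]

lemma monicOf_map {S : Type*} [CommRing S] (φ : R →+* S) {r : ℕ} (c : Fin r → R) :
    (monicOf c).map φ = monicOf (fun i => φ (c i)) := by
  simp [monicOf, Polynomial.map_sub, Polynomial.map_sum]

end Poly

section Field

variable {k : Type*} [Field k] {B : Type*} [Ring B] [Algebra k B]

/-- scaling a regular element by a nonzero scalar. -/
theorem regular_smul (x : B) (c : k) (hc : c ≠ 0) (r : ℕ) (hsep : (minpoly k x).Separable)
    (hdeg : (minpoly k x).natDegree = r) :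
    (minpoly k (c • x)).Separable ∧ (minpoly k (c • x)).natDegree = r := by
  have hmem : c • x ∈ Algebra.adjoin k ({x} : Set B) :=
    Subalgebra.smul_mem _ (Algebra.self_mem_adjoin_singleton k x) c
  have heq : Algebra.adjoin k ({c • x} : Set B) = Algebra.adjoin k ({x} : Set B) := by
    apply le_antisymm
    · exact Algebra.adjoin_le (Set.singleton_subset_iff.mpr hmem)
    · apply Algebra.adjoin_le
      rw [Set.singleton_subset_iff]
      have hx : c⁻¹ • (c • x) = x := by rw [smul_smul, inv_mul_cancel₀ hc, one_smul]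
      have := Subalgebra.smul_mem _ (Algebra.self_mem_adjoin_singleton k (c • x)) c⁻¹
      rwa [hx] at this
  constructor
  · have hS := isSeparable_adjoin_singleton x hsep
    have := Algebra.IsSeparable.isSeparable k (⟨c • x, hmem⟩ : Algebra.adjoin k ({x} : Set B))
    unfold IsSeparable at this
    rwa [← minpoly.algHom_eq (Algebra.adjoin k ({x} : Set B)).val Subtype.val_injective] at this
  · rw [← finrank_adjoin_singleton, heq, finrank_adjoin_singleton, hdeg]

end Field

section Local

variable (R : Type u) [CommRing R] [IsLocalRing R] (A : Type u) [Ring A] [Algebra R A]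
  [IsAzumaya R A]

/-- the rank of an Azumaya algebra over a local ring is a positive square. -/
theorem exists_finrank_eq_sq : ∃ r : ℕ, 1 ≤ r ∧ Module.finrank R A = r ^ 2 := by
  set k := IsLocalRing.ResidueField R with hk
  have : Module.Free R A := Module.free_of_flat_of_isLocalRing
  let K := AlgebraicClosure k
  have : IsAzumaya k (k ⊗[R] A) := isAzumaya_baseChange k A
  have : IsAzumaya K (K ⊗[k] (k ⊗[R] A)) := isAzumaya_baseChange K (k ⊗[R] A)
  have : IsSimpleRing (K ⊗[k] (k ⊗[R] A)) := isSimpleRing_of_isAzumaya_field (k := K)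
  obtain ⟨n, hn, ⟨e⟩⟩ :=
    IsSimpleRing.exists_algEquiv_matrix_of_isAlgClosed K (K ⊗[k] (k ⊗[R] A))
  refine ⟨n, Nat.one_le_iff_ne_zero.mpr hn.ne, ?_⟩
  have h1 : Module.finrank K (K ⊗[k] (k ⊗[R] A)) = Module.finrank R A := by
    rw [Module.finrank_baseChange, Module.finrank_baseChange]
  rw [← h1, e.toLinearEquiv.finrank_eq, Module.finrank_matrix]
  simp [pow_two]

/-- local splitting data attached to a section `ξ` regular on the special fibre. -/
theorem exists_local_basis (r : ℕ) (hA : Module.finrank R A = r ^ 2) (ξ : A)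
    (hsep : (minpoly (IsLocalRing.ResidueField R)
      ((1 : IsLocalRing.ResidueField R) ⊗ₜ[R] ξ)).Separable)
    (hdeg : (minpoly (IsLocalRing.ResidueField R)
      ((1 : IsLocalRing.ResidueField R) ⊗ₜ[R] ξ)).natDegree = r) :
    ∃ c : Fin r → R, (monicOf c).Separable ∧ aeval ξ (monicOf c) = 0 ∧
      ∃ v : Fin r → A, Function.Bijective
        (Fintype.linearCombination R (fun ij : Fin r × Fin r => v ij.2 * ξ ^ (ij.1 : ℕ))) := by
  classical
  set k := IsLocalRing.ResidueField R with hk
  have : Module.Finite R A := inferInstance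
  have : Module.Projective R A := inferInstance
  have : Module.Free R A := Module.free_of_flat_of_isLocalRing
  have : IsAzumaya k (k ⊗[R] A) := isAzumaya_baseChange k A
  have : IsSimpleRing (k ⊗[R] A) := isSimpleRing_of_isAzumaya_field (k := k)
  have : Module.Finite k (k ⊗[R] A) := inferInstance
  set x : k ⊗[R] A := (1 : k) ⊗ₜ[R] ξ with hx
  have hsepA := isSeparable_adjoin_singleton x hsep
  have hrk : Module.finrank k (Algebra.adjoin k ({x} : Set (k ⊗[R] A))) = r := by
    rw [finrank_adjoin_singleton, hdeg]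
  obtain ⟨hli, hmem⟩ := regular_powers R A r hA ξ hsepA hrk
  obtain ⟨c, hc⟩ := (Submodule.mem_span_range_iff_exists_fun R).mp hmem
  set P : R[X] := monicOf c with hPdef
  have hPmonic : P.Monic := monicOf_monic c
  have hPdeg : P.natDegree = r := monicOf_natDegree c
  have hPξ : aeval ξ P = 0 := by
    rw [hPdef, aeval_monicOf, ← hc, sub_self]
  have hPx : aeval x (P.map (IsLocalRing.residue R)) = 0 := by
    have h1 : aeval x (P.map (algebraMap R k)) = 0 := by
      rw [aeval_map_algebraMap]
      have : x = (Algebra.TensorProduct.includeRight : A →ₐ[R] k ⊗[R] A) ξ := rfl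
      rw [this, aeval_algHom_apply, hPξ, map_zero]
    exact h1
  have hPbar : P.map (IsLocalRing.residue R) = minpoly k x := by
    have hxint : IsIntegral k x := Algebra.IsIntegral.isIntegral x
    apply Polynomial.eq_of_monic_of_dvd_of_natDegree_le (minpoly.monic hxint)
      (hPmonic.map _) (minpoly.dvd k x hPx)
    rw [hPmonic.natDegree_map, hPdeg, hdeg]
  have hPsep : P.Separable := by
    apply separable_of_map_residue P hPmonic
    rw [hPbar]
    exact hsep
  refine ⟨c, hPsep, hPξ, ?_⟩
  -- the algebra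
  let E := AdjoinRoot P
  have hEet : Algebra.Etale R E := etale_adjoinRoot P hPmonic hPsep
  have hEfin : Module.Finite R E := hPmonic.finite_adjoinRoot
  have hEfree : Module.Free R E := hPmonic.free_adjoinRoot
  have hErk : Module.finrank R E = r := by
    rw [(AdjoinRoot.powerBasis' hPmonic).finrank, AdjoinRoot.powerBasis'_dim, hPdeg]
  let u : E →ₐ[R] A := evalRoot R A P ξ hPξ
  have hu : ∀ q : R[X], u (AdjoinRoot.mk P q) = aeval ξ q := fun q => rfl
  let b := (AdjoinRoot.powerBasis' hPmonic).basis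
  let bk := b.baseChange k
  have hF : Function.Injective (u.toLinearMap.baseChange k) := by
    apply injective_of_basis_linearIndependent bk
    have hdeg' : P.natDegree = (minpoly k x).natDegree := hPdeg.trans hdeg.symm
    have h1 : (u.toLinearMap.baseChange k) ∘ bk =
        (fun i : Fin (minpoly k x).natDegree => x ^ (i : ℕ)) ∘ Fin.cast hdeg' := by
      funext i
      simp only [Function.comp_apply, bk, b, Basis.baseChange_apply, LinearMap.baseChange_tmul,
        PowerBasis.coe_basis, AdjoinRoot.powerBasis'_gen, AlgHom.toLinearMap_apply, Fin.val_cast]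
      rw [← AdjoinRoot.mk_X, ← map_pow, hu, map_pow, aeval_X, hx,
        Algebra.TensorProduct.tmul_pow, one_pow]
    rw [h1]
    exact (linearIndependent_pow (K := k) x).comp _ (Fin.cast_injective hdeg')
  have huinj : Function.Injective (u.toLinearMap.lTensor k) := by
    intro a b hab
    apply hF
    rw [LinearMap.baseChange_eq_ltensor]
    exact hab
  -- the basis over `E`
  letI : Module E A := rightModule u
  have hmod : ∀ (e : E) (a : A), e • a = a * u e := fun e a => rfl
  have h1 : IsScalarTower R E A := isScalarTower_of_hmod R A E u hmod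
  have h2 : SMulCommClass E R A := smulCommClass_of_hmod R A E u hmod
  obtain ⟨bE⟩ := nonempty_basis_over_etale R A r hA E hErk u huinj hmod
  let pbasis : Basis (Fin r) R E := b.reindex (finCongr hPdeg)
  have hpb : ∀ i : Fin r, pbasis i = AdjoinRoot.root P ^ (i : ℕ) := by
    intro i
    simp [pbasis, b]
  let B₀ : Basis (Fin r × Fin r) R A := pbasis.smulTower bE
  refine ⟨fun j => bE j, ?_⟩
  have hfun : ⇑(Fintype.linearCombination R
      (fun ij : Fin r × Fin r => bE ij.2 * ξ ^ (ij.1 : ℕ))) = ⇑B₀.equivFun.symm := by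
    funext c
    rw [Fintype.linearCombination_apply, Basis.equivFun_symm_apply]
    refine Finset.sum_congr rfl fun ij _ => ?_
    rw [Basis.smulTower_apply, hpb, hmod, evalRoot_root_pow]
  rw [hfun]
  exact B₀.equivFun.symm.bijective

end Local

section Near

variable (R : Type u) [CommRing R] (A : Type u) [Ring A] [Algebra R A] [IsAzumaya R A]
  (p : Ideal R) [p.IsPrime]

/-- local data at `R_p`, with a section and vectors coming from `A`. -/
theorem exists_atPrime_data :
    ∃ r : ℕ, 1 ≤ r ∧ ∃ (ξ : A) (c' : Fin r → Localization.AtPrime p) (v : Fin r → A),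
      (monicOf c').Separable ∧
      aeval ((1 : Localization.AtPrime p) ⊗ₜ[R] ξ) (monicOf c') = 0 ∧
      Function.Bijective ((Fintype.linearCombination R
        (fun ij : Fin r × Fin r => v ij.2 * ξ ^ (ij.1 : ℕ))).baseChange
          (Localization.AtPrime p)) := by
  classical
  set Rp := Localization.AtPrime p with hRp
  set Ap := Rp ⊗[R] A with hAp
  have : IsAzumaya Rp Ap := isAzumaya_baseChange Rp A
  obtain ⟨r, hr, hA⟩ := exists_finrank_eq_sq Rp Ap
  refine ⟨r, hr, ?_⟩
  set k := IsLocalRing.ResidueField Rp with hk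
  have : Module.Free Rp Ap := Module.free_of_flat_of_isLocalRing
  have : IsAzumaya k (k ⊗[Rp] Ap) := isAzumaya_baseChange k Ap
  have : IsSimpleRing (k ⊗[Rp] Ap) := isSimpleRing_of_isAzumaya_field (k := k) (A := k ⊗[Rp] Ap)
  have hkA : Module.finrank k (k ⊗[Rp] Ap) = r ^ 2 := by rw [Module.finrank_baseChange, hA]
  obtain ⟨x, hxsep, hxdeg⟩ := exists_separable_minpoly k (k ⊗[Rp] Ap) r hkA
  obtain ⟨z, rfl⟩ := TensorProduct.mk_surjective Rp Ap k Ideal.Quotient.mk_surjective x
  obtain ⟨s, hs, ξ, hξz⟩ := exists_tmul_eq_smul p z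
  set ξp : Ap := (1 : Rp) ⊗ₜ[R] ξ with hξp
  have hξk : (1 : k) ⊗ₜ[Rp] ξp = (algebraMap R k s) • ((1 : k) ⊗ₜ[Rp] z) := by
    rw [hξz, TensorProduct.tmul_smul, algebraMap_smul]
  have hsne : algebraMap R k s ≠ 0 := by
    have hu : IsUnit (algebraMap R Rp s) := IsLocalization.map_units Rp (⟨s, hs⟩ : p.primeCompl)
    rw [IsScalarTower.algebraMap_apply R Rp k]
    exact (hu.map (algebraMap Rp k)).ne_zero
  obtain ⟨hsep', hdeg'⟩ := regular_smul _ _ hsne r hxsep hxdeg
  change (minpoly k ((algebraMap R k s) • ((1 : k) ⊗ₜ[Rp] z))).Separable at hsep'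
  change (minpoly k ((algebraMap R k s) • ((1 : k) ⊗ₜ[Rp] z))).natDegree = r at hdeg'
  rw [← hξk] at hsep' hdeg'
  obtain ⟨c', hPsep, hPξ, v', hv'⟩ := exists_local_basis Rp Ap r hA ξp hsep' hdeg'
  choose sv hsv vv hvv using fun j => exists_tmul_eq_smul p (v' j)
  refine ⟨ξ, c', vv, hPsep, hPξ, ?_⟩
  rw [baseChange_linearCombination_bijective_iff]
  -- compare with the basis `v' j * ξp ^ i`
  let w : Fin r × Fin r → Rp := fun ij => algebraMap R Rp (sv ij.2)
  have hw : IsUnit w := by
    rw [Pi.isUnit_iff]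
    intro ij
    exact IsLocalization.map_units Rp (⟨sv ij.2, hsv ij.2⟩ : p.primeCompl)
  have hF : ∀ ij : Fin r × Fin r, (1 : Rp) ⊗ₜ[R] (vv ij.2 * ξ ^ (ij.1 : ℕ)) =
      w ij • (v' ij.2 * ξp ^ (ij.1 : ℕ)) := by
    intro ij
    have h1 : (1 : Rp) ⊗ₜ[R] (vv ij.2 * ξ ^ (ij.1 : ℕ)) =
        ((1 : Rp) ⊗ₜ[R] vv ij.2) * ξp ^ (ij.1 : ℕ) := by
      rw [hξp, Algebra.TensorProduct.tmul_pow, one_pow, Algebra.TensorProduct.tmul_mul_tmul,
        one_mul]
    rw [h1, hvv, smul_mul_assoc, algebraMap_smul]
  have hcomp : ⇑(Fintype.linearCombination Rp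
      (fun ij : Fin r × Fin r => (1 : Rp) ⊗ₜ[R] (vv ij.2 * ξ ^ (ij.1 : ℕ)))) =
      ⇑(Fintype.linearCombination Rp (fun ij : Fin r × Fin r => v' ij.2 * ξp ^ (ij.1 : ℕ))) ∘
        ⇑(hw.unit.mulRight) := by
    funext c
    rw [Function.comp_apply, Fintype.linearCombination_apply, Fintype.linearCombination_apply]
    refine Finset.sum_congr rfl fun ij _ => ?_
    rw [hF, smul_smul]
    rfl
  rw [hcomp]
  exact hv'.comp (hw.unit.mulRight).bijective

/-- **splitting data over a principal open neighbourhood of `p`.** -/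
theorem exists_near_data :
    ∃ f : R, f ∉ p ∧ ∃ r : ℕ, 1 ≤ r ∧ ∃ P : (Localization.Away f)[X], P.Monic ∧
      P.natDegree = r ∧ P.Separable ∧ ∃ ξ : Localization.Away f ⊗[R] A, aeval ξ P = 0 ∧
      ∃ v : Fin r → Localization.Away f ⊗[R] A, Function.Bijective
        (Fintype.linearCombination (Localization.Away f)
          (fun ij : Fin r × Fin r => v ij.2 * ξ ^ (ij.1 : ℕ))) := by
  classical
  obtain ⟨r, hr, ξ, c', v, hPsep, hPξ, hbij⟩ := exists_atPrime_data R A p
  -- spreading the basis
  have : Module.FinitePresentation R A := Module.finitePresentation_of_projective R A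
  obtain ⟨g, hg, hgt⟩ := bijective_baseChange_away_of_atPrime p _ hbij
  -- clearing the denominators of the coefficients
  obtain ⟨⟨s₀, hs₀⟩, hint⟩ := IsLocalization.exist_integer_multiples_of_finite p.primeCompl c'
  choose c hc using hint
  have hc' : ∀ i, algebraMap R (Localization.AtPrime p) (c i) =
      algebraMap R (Localization.AtPrime p) s₀ * c' i := by
    intro i
    rw [hc i, Algebra.smul_def]
  -- the relation
  have hrel : (1 : Localization.AtPrime p) ⊗ₜ[R] (s₀ • ξ ^ r - ∑ i : Fin r, c i • ξ ^ (i : ℕ)) =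
      0 := by
    rw [aeval_monicOf, sub_eq_zero] at hPξ
    have hpow : ∀ n : ℕ, ((1 : Localization.AtPrime p) ⊗ₜ[R] ξ) ^ n =
        (1 : Localization.AtPrime p) ⊗ₜ[R] (ξ ^ n) := by
      intro n
      rw [Algebra.TensorProduct.tmul_pow, one_pow]
    rw [TensorProduct.tmul_sub, TensorProduct.tmul_smul, TensorProduct.tmul_sum, ← hpow, hPξ,
      Finset.smul_sum, sub_eq_zero]
    refine Finset.sum_congr rfl fun i _ => ?_
    rw [TensorProduct.tmul_smul, hpow, ← algebraMap_smul (Localization.AtPrime p) (c i), hc',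
      mul_smul, algebraMap_smul]
  obtain ⟨s₁, hs₁, hrel₁⟩ := exists_smul_eq_zero_of_tmul_eq_zero p _ hrel
  -- separability
  let Ph : R[X] := C s₀ * X ^ r - ∑ i : Fin r, C (c i) * X ^ (i : ℕ)
  have hPh : Ph.map (algebraMap R (Localization.AtPrime p)) =
      C (algebraMap R (Localization.AtPrime p) s₀) * monicOf c' := by
    simp only [Ph, monicOf, Polynomial.map_sub, Polynomial.map_mul, Polynomial.map_C,
      Polynomial.map_pow, Polynomial.map_X, Polynomial.map_sum, hc', mul_sub, Finset.mul_sum,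
      C_mul, mul_assoc]
  obtain ⟨s₅, hs₅, hsp⟩ := separable_spread p Ph s₀ (monicOf c') hPh hPsep
  -- the neighbourhood
  obtain ⟨f, hf⟩ : ∃ f, f = s₀ * s₁ * s₅ * g := ⟨_, rfl⟩
  have hfp : f ∉ p := by
    rw [hf]
    exact (p.primeCompl.mul_mem (p.primeCompl.mul_mem (p.primeCompl.mul_mem hs₀ hs₁) hs₅) hg :
      _ ∈ p.primeCompl)
  refine ⟨f, hfp, r, hr, ?_⟩
  have hu₀ : IsUnit (algebraMap R (Localization.Away f) s₀) :=
    IsLocalization.Away.isUnit_of_dvd f ⟨s₁ * s₅ * g, by rw [hf]; ring⟩
  have hu₁ : IsUnit (algebraMap R (Localization.Away f) s₁) :=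
    IsLocalization.Away.isUnit_of_dvd f ⟨s₀ * s₅ * g, by rw [hf]; ring⟩
  have hu₅ : IsUnit (algebraMap R (Localization.Away f) s₅) :=
    IsLocalization.Away.isUnit_of_dvd f ⟨s₀ * s₁ * g, by rw [hf]; ring⟩
  have hgf : g ∣ f := ⟨s₀ * s₁ * s₅, by rw [hf]; ring⟩
  have hnt : Nontrivial (Localization.Away f) := by
    by_contra hn
    rw [not_nontrivial_iff_subsingleton] at hn
    have h01 : algebraMap R (Localization.Away f) 1 = algebraMap R (Localization.Away f) 0 :=
      Subsingleton.elim _ _
    obtain ⟨⟨_, n, rfl⟩, hn'⟩ :=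
      (IsLocalization.eq_iff_exists (Submonoid.powers f) (Localization.Away f)).mp h01
    simp only [mul_one, mul_zero] at hn'
    exact hfp (Ideal.IsPrime.mem_of_pow_mem inferInstance n (hn' ▸ p.zero_mem))
  let ct : Fin r → Localization.Away f :=
    fun i => (↑hu₀.unit⁻¹ : Localization.Away f) * algebraMap R (Localization.Away f) (c i)
  have hct : ∀ i, algebraMap R (Localization.Away f) s₀ * ct i =
      algebraMap R (Localization.Away f) (c i) := by
    intro i
    simp only [ct]
    rw [← mul_assoc, IsUnit.mul_val_inv, one_mul]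
  refine ⟨monicOf ct, monicOf_monic ct, monicOf_natDegree ct, ?_,
    (1 : Localization.Away f) ⊗ₜ[R] ξ, ?_, fun j => (1 : Localization.Away f) ⊗ₜ[R] v j, ?_⟩
  · -- separable
    apply hsp (Localization.Away f) (monicOf ct) hu₀ hu₅
    simp only [Ph, monicOf, Polynomial.map_sub, Polynomial.map_mul, Polynomial.map_C,
      Polynomial.map_pow, Polynomial.map_X, Polynomial.map_sum, ← hct, mul_sub, Finset.mul_sum,
      C_mul, mul_assoc]
  · -- the relation
    have hpow : ∀ n : ℕ, ((1 : Localization.Away f) ⊗ₜ[R] ξ) ^ n =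
        (1 : Localization.Away f) ⊗ₜ[R] (ξ ^ n) := by
      intro n
      rw [Algebra.TensorProduct.tmul_pow, one_pow]
    have h1 := congrArg (fun a => (1 : Localization.Away f) ⊗ₜ[R] a) hrel₁
    simp only [TensorProduct.tmul_smul, TensorProduct.tmul_zero, TensorProduct.tmul_sub,
      TensorProduct.tmul_sum] at h1
    rw [← algebraMap_smul (Localization.Away f) s₁, hu₁.smul_eq_zero, sub_eq_zero] at h1
    rw [aeval_monicOf, sub_eq_zero, hpow]
    have h2 : algebraMap R (Localization.Away f) s₀ •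
        ((1 : Localization.Away f) ⊗ₜ[R] (ξ ^ r)) =
        algebraMap R (Localization.Away f) s₀ •
          ∑ i : Fin r, ct i • ((1 : Localization.Away f) ⊗ₜ[R] ξ) ^ (i : ℕ) := by
      rw [algebraMap_smul, h1, Finset.smul_sum]
      refine Finset.sum_congr rfl fun i _ => ?_
      rw [smul_smul, hct, algebraMap_smul, hpow]
    exact (hu₀.smul_left_cancel).mp h2
  · -- the basis
    have h1 := (baseChange_linearCombination_bijective_iff (Localization.Away f) _).mp
      (hgt f hgf)
    have hfun : (fun ij : Fin r × Fin r => ((1 : Localization.Away f) ⊗ₜ[R] v ij.2) *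
        ((1 : Localization.Away f) ⊗ₜ[R] ξ) ^ (ij.1 : ℕ)) =
        fun ij => (1 : Localization.Away f) ⊗ₜ[R] (v ij.2 * ξ ^ (ij.1 : ℕ)) := by
      funext ij
      rw [Algebra.TensorProduct.tmul_pow, one_pow, Algebra.TensorProduct.tmul_mul_tmul, one_mul]
    rw [hfun]
    exact h1

end Near

end Groth.Agent.R2.H14.AzSplitNear
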