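import Mathlib

/-!
# Clifford algebras of finite free modules: freeness, rank, and the summand `ι`

Characteristic-free (no `Invertible 2`): uses `CliffordAlgebra.changeFormEquiv` to the exterior
algebra, with a bilinear form `B` such that `B.toQuadraticMap = Q`.
-/

set_option autoImplicit false

namespace Groth.Agent.R2.H14.Cl

open CliffordAlgebra

universe u v w

variable {R : Type u} [CommRing R] {M : Type v} [AddCommGroup M] [Module R M]

/-- Linear isomorphism with the exterior algebra, for a quadratic form that comes from a bilinear
form. -/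
noncomputable def toExterior (Q : QuadraticForm R M) (B : LinearMap.BilinForm R M)
    (h : B.toQuadraticMap = Q) : CliffordAlgebra Q ≃ₗ[R] ExteriorAlgebra R M :=
  CliffordAlgebra.changeFormEquiv (Q := Q) (Q' := 0) (B := -B) (by
    rw [LinearMap.BilinMap.toQuadraticMap_neg, h, zero_sub])

theorem toExterior_ι (Q : QuadraticForm R M) (B : LinearMap.BilinForm R M)
    (h : B.toQuadraticMap = Q) (v : M) :
    toExterior Q B h (ι Q v) = ExteriorAlgebra.ι R v := by
  unfold toExterior
  rw [changeFormEquiv_apply]
  exact changeForm_ι _ v

/-- Every quadratic form on a free module comes from a bilinear form. -/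
theorem exists_bilin (Q : QuadraticForm R M) [Module.Free R M] :
    ∃ B : LinearMap.BilinForm R M, B.toQuadraticMap = Q := by
  classical
  let I := Module.Free.ChooseBasisIndex R M
  let _ : LinearOrder I := linearOrderOfSTO WellOrderingRel
  exact ⟨Q.toBilin (Module.Free.chooseBasis R M), QuadraticMap.toQuadraticMap_toBilin Q _⟩

/-- `ι` has a linear left inverse when the module is free. -/
theorem exists_leftInverse_ι (Q : QuadraticForm R M) [Module.Free R M] :
    ∃ g : CliffordAlgebra Q →ₗ[R] M, ∀ v, g (ι Q v) = v := by
  obtain ⟨B, hB⟩ := exists_bilin Q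
  refine ⟨ExteriorAlgebra.ιInv ∘ₗ (toExterior Q B hB).toLinearMap, fun v => ?_⟩
  simp only [LinearMap.coe_comp, LinearEquiv.coe_coe, Function.comp_apply, toExterior_ι]
  exact ExteriorAlgebra.ι_leftInverse v

theorem ι_injective_and_isCompl (Q : QuadraticForm R M) [Module.Free R M] :
    Function.Injective (ι Q) ∧
      ∃ W : Submodule R (CliffordAlgebra Q), IsCompl (LinearMap.range (ι Q)) W := by
  obtain ⟨g, hg⟩ := exists_leftInverse_ι Q
  refine ⟨fun a b hab => by rw [← hg a, ← hg b, hab], LinearMap.ker g, ?_⟩
  constructor
  · rw [Submodule.disjoint_def]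
    rintro x ⟨v, rfl⟩ hx
    rw [LinearMap.mem_ker, hg] at hx
    rw [hx, map_zero]
  · rw [codisjoint_iff, eq_top_iff]
    intro x _
    rw [Submodule.mem_sup]
    refine ⟨ι Q (g x), ⟨_, rfl⟩, x - ι Q (g x), ?_, by abel⟩
    rw [LinearMap.mem_ker, map_sub, hg, sub_self]

/-- The basis of the Clifford algebra indexed by finite subsets of the index set of a basis. -/
noncomputable def basis {I : Type w} [LinearOrder I] (b : Module.Basis I R M)
    (Q : QuadraticForm R M) : Module.Basis (Finset I) R (CliffordAlgebra Q) :=
  b.ExteriorAlgebra.map (toExterior Q (Q.toBilin b) (QuadraticMap.toQuadraticMap_toBilin Q b)).symm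

section Free

variable (Q : QuadraticForm R M) [Module.Free R M]

instance free : Module.Free R (CliffordAlgebra Q) := by
  classical
  let I := Module.Free.ChooseBasisIndex R M
  let _ : LinearOrder I := linearOrderOfSTO WellOrderingRel
  exact Module.Free.of_basis (basis (Module.Free.chooseBasis R M) Q)

instance finite [Module.Finite R M] : Module.Finite R (CliffordAlgebra Q) := by
  classical
  let I := Module.Free.ChooseBasisIndex R M
  let _ : LinearOrder I := linearOrderOfSTO WellOrderingRel
  exact Module.Finite.of_basis (basis (Module.Free.chooseBasis R M) Q)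

end Free

/-- A surjective linear map between free modules with bases of the same finite cardinality is
bijective. -/
theorem bijective_of_surjective_of_card {N : Type*} [AddCommGroup N] [Module R N]
    {I J : Type*} [Fintype I] [Fintype J] (bM : Module.Basis I R M) (bN : Module.Basis J R N)
    (hcard : Fintype.card I = Fintype.card J) (f : M →ₗ[R] N) (hf : Function.Surjective f) :
    Function.Bijective f := by
  classical
  let e : I ≃ J := Fintype.equivOfCardEq hcard
  let σ : N ≃ₗ[R] M := bN.equiv bM e.symm
  haveI : Module.Finite R N := Module.Finite.of_basis bN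
  have h1 : Function.Surjective (f ∘ₗ σ.toLinearMap) := hf.comp σ.surjective
  have h2 : Function.Injective (f ∘ₗ σ.toLinearMap) :=
    OrzechProperty.injective_of_surjective_endomorphism _ h1
  refine ⟨fun a b hab => ?_, hf⟩
  obtain ⟨a', rfl⟩ := σ.surjective a
  obtain ⟨b', rfl⟩ := σ.surjective b
  exact congrArg σ (h2 hab)

end Groth.Agent.R2.H14.Cl
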