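import Mathlib
import Groth.Agent.R2.H14ClBasic

/-!
# Base change of Clifford algebras of finite free modules (characteristic free)

Given `c : V →ₗ[A] W` with `Q' (c v) = algebraMap (Q v)`, where `W` is a free `A'`-module whose
rank equals that of the free `A`-module `V` and the image of `c` spans `W`, the induced map
`A' ⊗[A] C(Q) → C(Q')` is bijective.
-/

set_option autoImplicit false
set_option linter.unusedSectionVars false

namespace Groth.Agent.R2.H14.Cl

open CliffordAlgebra
open scoped TensorProduct

universe u u' v w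

section BC

variable {A : Type u} [CommRing A] {A' : Type u'} [CommRing A'] [Algebra A A']
  {V : Type v} [AddCommGroup V] [Module A V]
  {W : Type w} [AddCommGroup W] [Module A' W] [Module A W] [IsScalarTower A A' W]
  (Q : QuadraticForm A V) (Q' : QuadraticForm A' W) (c : V →ₗ[A] W)
  (hc : ∀ v, Q' (c v) = algebraMap A A' (Q v))

/-- the `A`-algebra map `C(Q) → C(Q')` induced by `c` -/
noncomputable def bcAux : CliffordAlgebra Q →ₐ[A] CliffordAlgebra Q' :=
  CliffordAlgebra.lift Q ⟨(ι Q').restrictScalars A ∘ₗ c, fun v => by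
    refine (CliffordAlgebra.ι_sq_scalar Q' (c v)).trans ?_
    rw [hc, ← IsScalarTower.algebraMap_apply]⟩

theorem bcAux_ι (v : V) : bcAux Q Q' c hc (ι Q v) = ι Q' (c v) :=
  CliffordAlgebra.lift_ι_apply _ _ v

/-- the `A'`-algebra map `A' ⊗ C(Q) → C(Q')` induced by `c` -/
noncomputable def bc : A' ⊗[A] CliffordAlgebra Q →ₐ[A'] CliffordAlgebra Q' :=
  Algebra.TensorProduct.lift (Algebra.ofId _ _) (bcAux Q Q' c hc) fun _ _ => Algebra.commutes _ _

theorem bc_tmul (a : A') (x : CliffordAlgebra Q) :
    bc Q Q' c hc (a ⊗ₜ x) = a • bcAux Q Q' c hc x := by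
  unfold bc
  rw [Algebra.TensorProduct.lift_tmul, Algebra.ofId_apply, ← Algebra.smul_def]

theorem bc_one_tmul_ι (v : V) : bc Q Q' c hc (1 ⊗ₜ ι Q v) = ι Q' (c v) := by
  rw [bc_tmul, one_smul, bcAux_ι]

theorem bc_surjective (hspan : Submodule.span A' (Set.range c) = ⊤) :
    Function.Surjective (bc Q Q' c hc) := by
  have hι : ∀ w : W, ι Q' w ∈ (bc Q Q' c hc).range := by
    intro w
    have hw : w ∈ Submodule.span A' (Set.range c) := hspan ▸ Submodule.mem_top
    induction hw using Submodule.span_induction with
    | mem x hx =>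
      obtain ⟨v, rfl⟩ := hx
      exact ⟨1 ⊗ₜ ι Q v, bc_one_tmul_ι Q Q' c hc v⟩
    | zero => rw [map_zero]; exact Subalgebra.zero_mem _
    | add x y _ _ hx hy => rw [map_add]; exact Subalgebra.add_mem _ hx hy
    | smul a x _ hx => rw [map_smul]; exact Subalgebra.smul_mem _ hx a
  intro y
  have : y ∈ (bc Q Q' c hc).range := by
    induction y using CliffordAlgebra.induction with
    | algebraMap r => exact Subalgebra.algebraMap_mem _ r
    | ι w => exact hι w
    | mul a b ha hb => exact Subalgebra.mul_mem _ ha hb
    | add a b ha hb => exact Subalgebra.add_mem _ ha hb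
  exact this

theorem bc_bijective {I I' : Type} [Fintype I] [LinearOrder I] [Fintype I'] [LinearOrder I']
    (bV : Module.Basis I A V) (bW : Module.Basis I' A' W)
    (hcard : Fintype.card I = Fintype.card I')
    (hspan : Submodule.span A' (Set.range c) = ⊤) :
    Function.Bijective (bc Q Q' c hc) := by
  refine bijective_of_surjective_of_card ((basis bV Q).baseChange A') (basis bW Q') ?_
    (bc Q Q' c hc).toLinearMap (bc_surjective Q Q' c hc hspan)
  rw [Fintype.card_finset, Fintype.card_finset, hcard]

end BC

end Groth.Agent.R2.H14.Cl
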