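import Mathlib

/-!
# Checkerboard `ℤ/2`-gradings on matrix algebras and graded maps out of Clifford algebras
-/

set_option autoImplicit false
set_option linter.unusedSectionVars false

namespace Groth.Agent.R2.H14.Cl

open CliffordAlgebra Matrix

universe u v w

section Gr

variable {R : Type u} [CommRing R] {J : Type w} [Fintype J] [DecidableEq J]

/-- The checkerboard grading on `Matrix J J R` attached to a parity function `p`:
the degree-`i` part consists of the matrices whose `(j,k)` entry vanishes unless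
`p j + p k = i`. -/
def gr (R : Type u) [CommRing R] {J : Type w} (p : J → ZMod 2) (i : ZMod 2) :
    Submodule R (Matrix J J R) where
  carrier := {X | ∀ j k, p j + p k ≠ i → X j k = 0}
  add_mem' := by
    intro X Y hX hY j k h
    rw [Matrix.add_apply, hX j k h, hY j k h, add_zero]
  zero_mem' := by
    intro j k _
    rfl
  smul_mem' := by
    intro c X hX j k h
    rw [Matrix.smul_apply, hX j k h, smul_zero]

theorem mem_gr {p : J → ZMod 2} {i : ZMod 2} {X : Matrix J J R} :
    X ∈ gr R p i ↔ ∀ j k, p j + p k ≠ i → X j k = 0 := Iff.rfl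

theorem one_mem_gr (p : J → ZMod 2) : (1 : Matrix J J R) ∈ gr R p 0 := by
  intro j k h
  rw [Matrix.one_apply_ne]
  rintro rfl
  exact h (CharTwo.add_self_eq_zero _)

theorem mul_mem_gr {p : J → ZMod 2} {i i' : ZMod 2} {X Y : Matrix J J R}
    (hX : X ∈ gr R p i) (hY : Y ∈ gr R p i') : X * Y ∈ gr R p (i + i') := by
  intro j l h
  rw [Matrix.mul_apply]
  refine Finset.sum_eq_zero fun k _ => ?_
  by_cases h1 : p j + p k = i
  · have h2 : p k + p l ≠ i' := by
      intro h2
      apply h
      rw [← h1, ← h2]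
      have := CharTwo.add_self_eq_zero (p k)
      linear_combination (-1 : ZMod 2) * this
    rw [hY k l h2, mul_zero]
  · rw [hX j k h1, zero_mul]

theorem gr_disjoint {p : J → ZMod 2} {X : Matrix J J R} (h0 : X ∈ gr R p 0)
    (h1 : X ∈ gr R p 1) : X = 0 := by
  ext j k
  by_cases h : p j + p k = 0
  · exact h1 j k (by rw [h]; exact zero_ne_one)
  · exact h0 j k h

theorem algebraMap_mem_gr (p : J → ZMod 2) (r : R) :
    algebraMap R (Matrix J J R) r ∈ gr R p 0 := by
  rw [Algebra.algebraMap_eq_smul_one]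
  exact Submodule.smul_mem _ _ (one_mem_gr p)

end Gr

section GradedHom

variable {R : Type u} [CommRing R] {M : Type v} [AddCommGroup M] [Module R M]
  {B : Type w} [Ring B] [Algebra R B]

/-- An algebra map out of a Clifford algebra sending vectors to odd elements (for some
`ℤ/2`-grading-like family of submodules `G`) sends `evenOdd i` into `G i`. -/
theorem map_evenOdd_mem {Q : QuadraticForm R M} (G : ZMod 2 → Submodule R B)
    (hone : (1 : B) ∈ G 0) (hmul : ∀ i j x y, x ∈ G i → y ∈ G j → x * y ∈ G (i + j))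
    (f : CliffordAlgebra Q →ₐ[R] B) (hf : ∀ v, f (ι Q v) ∈ G 1) :
    ∀ (i : ZMod 2) (x : CliffordAlgebra Q), x ∈ evenOdd Q i → f x ∈ G i := by
  have h2 : ∀ m₁ m₂, f (ι Q m₁ * ι Q m₂) ∈ G 0 := by
    intro m₁ m₂
    rw [map_mul]
    have := hmul 1 1 _ _ (hf m₁) (hf m₂)
    rwa [show (1 : ZMod 2) + 1 = 0 from by decide] at this
  intro i
  fin_cases i
  · intro x hx
    induction x, hx using even_induction with
    | algebraMap r =>
      rw [AlgHom.commutes, Algebra.algebraMap_eq_smul_one]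
      exact Submodule.smul_mem _ _ hone
    | add x y hx hy ihx ihy =>
      rw [map_add]
      exact Submodule.add_mem _ ihx ihy
    | ι_mul_ι_mul m₁ m₂ x hx ih =>
      rw [map_mul]
      have := hmul 0 0 _ _ (h2 m₁ m₂) ih
      rwa [add_zero] at this
  · intro x hx
    induction x, hx using odd_induction with
    | ι v => exact hf v
    | add x y hx hy ihx ihy =>
      rw [map_add]
      exact Submodule.add_mem _ ihx ihy
    | ι_mul_ι_mul m₁ m₂ x hx ih =>
      rw [map_mul]
      have := hmul 0 1 _ _ (h2 m₁ m₂) ih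
      rwa [zero_add] at this

end GradedHom

section Abstract

variable {R : Type u} [CommRing R] {M : Type v} [AddCommGroup M] [Module R M]
  {N : Type w} [AddCommGroup N] [Module R N]

/-- If an injective linear map sends a decomposition `M₀ ⊔ M₁ = ⊤` into two disjoint submodules
`N₀, N₁`, then the preimage of `N₀` is exactly `M₀`. -/
theorem mem_of_map_mem_of_graded (f : M →ₗ[R] N) (hf : Function.Injective f)
    (M₀ M₁ : Submodule R M) (hM : M₀ ⊔ M₁ = ⊤) (N₀ N₁ : Submodule R N)
    (hN : ∀ y, y ∈ N₀ → y ∈ N₁ → y = 0)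
    (h0 : ∀ x ∈ M₀, f x ∈ N₀) (h1 : ∀ x ∈ M₁, f x ∈ N₁) (x : M) (hx : f x ∈ N₀) : x ∈ M₀ := by
  have hx' : x ∈ M₀ ⊔ M₁ := hM ▸ Submodule.mem_top
  obtain ⟨a, ha, b, hb, rfl⟩ := Submodule.mem_sup.mp hx'
  have hfb : f b = 0 := by
    apply hN _ _ (h1 b hb)
    have : f b = f (a + b) - f a := by rw [map_add]; abel
    rw [this]
    exact Submodule.sub_mem _ hx (h0 a ha)
  have : b = 0 := hf (by rw [hfb, map_zero])
  rw [this, add_zero]
  exact ha

theorem mem_of_map_mem_of_graded' (f : M →ₗ[R] N) (hf : Function.Injective f)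
    (M₀ M₁ : Submodule R M) (hM : M₀ ⊔ M₁ = ⊤) (N₀ N₁ : Submodule R N)
    (hN : ∀ y, y ∈ N₀ → y ∈ N₁ → y = 0)
    (h0 : ∀ x ∈ M₀, f x ∈ N₀) (h1 : ∀ x ∈ M₁, f x ∈ N₁) (x : M) (hx : f x ∈ N₁) : x ∈ M₁ :=
  mem_of_map_mem_of_graded f hf M₁ M₀ (by rw [sup_comm]; exact hM) N₁ N₀
    (fun y h1' h0' => hN y h0' h1') h1 h0 x hx

end Abstract

end Groth.Agent.R2.H14.Cl
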