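import Mathlib
import Groth.Agent.R2.H14ClBasic
import Groth.Agent.R2.H14ClMat
import Groth.Agent.R2.H14ClDescent

/-!
# Consequences of a graded fppf-local matrix structure on a Clifford algebra (even rank)
-/

set_option autoImplicit false
set_option linter.unusedSectionVars false

namespace Groth.Agent.R2.H14.Cl

open CliffordAlgebra Matrix
open scoped TensorProduct

universe u u' v

section Eps

variable {R : Type u} [CommRing R] {J : Type} [Fintype J] [DecidableEq J] (p : J → ZMod 2)

/-- the diagonal idempotent `ε` cutting out the parity-`0` indices -/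
def eps (R : Type u) [CommRing R] {J : Type} [DecidableEq J] (p : J → ZMod 2) : Matrix J J R :=
  Matrix.diagonal fun j => if p j = 0 then 1 else 0

theorem eps_mem_gr : eps R p ∈ gr R p 0 := by
  intro j k h
  unfold eps
  rw [Matrix.diagonal_apply_ne]
  rintro rfl
  exact h (CharTwo.add_self_eq_zero _)

theorem eps_comm_of_mem_gr_zero {X : Matrix J J R} (hX : X ∈ gr R p 0) :
    eps R p * X = X * eps R p := by
  ext j k
  unfold eps
  rw [Matrix.diagonal_mul, Matrix.mul_diagonal]
  by_cases h : p j + p k = 0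
  · have hjk : p j = p k := by
      have := CharTwo.add_self_eq_zero (p k)
      linear_combination h - this
    rw [hjk, mul_comm]
  · rw [hX j k h, mul_zero, zero_mul]

theorem eq_zero_of_mem_gr_one_of_comm {X : Matrix J J R} (hX : X ∈ gr R p 1)
    (hc : eps R p * X = X * eps R p) : X = 0 := by
  ext j k
  by_cases h : p j + p k = 1
  · have := congrFun (congrFun hc j) k
    unfold eps at this
    rw [Matrix.diagonal_mul, Matrix.mul_diagonal] at this
    by_cases hj : p j = 0
    · have hk : p k ≠ 0 := by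
        intro hk
        rw [hj, hk, add_zero] at h
        exact zero_ne_one h
      rw [if_pos hj, if_neg hk, one_mul, mul_zero] at this
      exact this
    · have hk : p k = 0 := by
        have h01 : ∀ a b : ZMod 2, a + b = 1 → a ≠ 0 → b = 0 := by decide
        exact h01 _ _ h hj
      rw [if_neg hj, if_pos hk, zero_mul, mul_one] at this
      exact this.symm
  · exact hX j k h

end Eps

section Cons

variable {A : Type u} [CommRing A] {A' : Type u'} [CommRing A'] [Algebra A A']
  {V : Type v} [AddCommGroup V] [Module A V] (Q : QuadraticForm A V)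
  {J : Type} [Fintype J] [DecidableEq J] (p : J → ZMod 2)
  (Φ : A' ⊗[A] CliffordAlgebra Q →ₐ[A'] Matrix J J A')
  (hgr : ∀ v, Φ (1 ⊗ₜ ι Q v) ∈ gr A' p 1)

include hgr in
theorem Φ_tmul_mem (i : ZMod 2) (x : CliffordAlgebra Q) (hx : x ∈ evenOdd Q i) (a : A') :
    Φ (a ⊗ₜ x) ∈ gr A' p i := by
  let f : CliffordAlgebra Q →ₐ[A] Matrix J J A' :=
    (Φ.restrictScalars A).comp Algebra.TensorProduct.includeRight
  have hf : ∀ y, f y = Φ (1 ⊗ₜ y) := fun y => rfl
  have h1 : f x ∈ (gr A' p i).restrictScalars A := by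
    refine map_evenOdd_mem (fun i => (gr A' p i).restrictScalars A) (one_mem_gr p) ?_ f
      (fun v => by rw [hf]; exact hgr v) i x hx
    intro i j x y hx hy
    exact mul_mem_gr hx hy
  rw [hf] at h1
  have : a ⊗ₜ[A] x = a • ((1 : A') ⊗ₜ[A] x) := by
    rw [TensorProduct.smul_tmul', smul_eq_mul, mul_one]
  rw [this, map_smul]
  exact Submodule.smul_mem _ _ h1

include hgr in
theorem Φ_mem_of_mem_baseChange (i : ZMod 2) (w : A' ⊗[A] CliffordAlgebra Q)
    (hw : w ∈ (evenOdd Q i).baseChange A') : Φ w ∈ gr A' p i := by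
  rw [Submodule.baseChange_eq_span] at hw
  induction hw using Submodule.span_induction with
  | mem y hy =>
    obtain ⟨x, hx, rfl⟩ := hy
    exact Φ_tmul_mem Q p Φ hgr i x hx 1
  | zero => rw [map_zero]; exact Submodule.zero_mem _
  | add y z _ _ hy hz => rw [map_add]; exact Submodule.add_mem _ hy hz
  | smul a y _ hy => rw [map_smul]; exact Submodule.smul_mem _ _ hy

variable (hΦ : Function.Bijective Φ)

include hgr hΦ in
theorem mem_baseChange_of_Φ_mem (i : ZMod 2) (w : A' ⊗[A] CliffordAlgebra Q)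
    (hw : Φ w ∈ gr A' p i) : w ∈ (evenOdd Q i).baseChange A' := by
  have hsup : (evenOdd Q 0).baseChange A' ⊔ (evenOdd Q 1).baseChange A' = ⊤ :=
    baseChange_sup_eq_top _ _ (evenOdd_isCompl Q).sup_eq_top
  have hN : ∀ y : Matrix J J A', y ∈ gr A' p 0 → y ∈ gr A' p 1 → y = 0 :=
    fun y h0 h1 => gr_disjoint h0 h1
  fin_cases i
  · exact mem_of_map_mem_of_graded Φ.toLinearMap hΦ.1 _ _ hsup _ _ hN
      (fun x hx => Φ_mem_of_mem_baseChange Q p Φ hgr 0 x hx)
      (fun x hx => Φ_mem_of_mem_baseChange Q p Φ hgr 1 x hx) w hw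
  · exact mem_of_map_mem_of_graded' Φ.toLinearMap hΦ.1 _ _ hsup _ _ hN
      (fun x hx => Φ_mem_of_mem_baseChange Q p Φ hgr 0 x hx)
      (fun x hx => Φ_mem_of_mem_baseChange Q p Φ hgr 1 x hx) w hw

include hΦ in
/-- The centre of the Clifford algebra is the base ring. -/
theorem center_eq_bot [Module.FaithfullyFlat A A'] :
    Subalgebra.center A (CliffordAlgebra Q) = ⊥ := by
  rw [eq_bot_iff]
  intro x hx
  rw [Subalgebra.mem_center_iff] at hx
  have h1 : ∀ w : A' ⊗[A] CliffordAlgebra Q, w * (1 ⊗ₜ x) = (1 ⊗ₜ x) * w := by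
    intro w
    induction w using TensorProduct.induction_on with
    | zero => rw [zero_mul, mul_zero]
    | tmul a y =>
      rw [Algebra.TensorProduct.tmul_mul_tmul, Algebra.TensorProduct.tmul_mul_tmul, mul_one,
        one_mul, hx y]
    | add y z hy hz => rw [add_mul, mul_add, hy, hz]
  have h2 : Φ (1 ⊗ₜ x) ∈ Set.center (Matrix J J A') := by
    rw [Semigroup.mem_center_iff]
    intro Y
    obtain ⟨w, rfl⟩ := hΦ.2 Y
    rw [← map_mul, ← map_mul, h1]
  rw [Matrix.center_eq_range] at h2
  obtain ⟨a', ha'⟩ := h2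
  have h3 : (1 : A') ⊗ₜ[A] x = a' ⊗ₜ 1 := by
    apply hΦ.1
    rw [← ha']
    have : a' ⊗ₜ[A] (1 : CliffordAlgebra Q) = a' • (1 : A' ⊗[A] CliffordAlgebra Q) := by
      rw [Algebra.TensorProduct.one_def, TensorProduct.smul_tmul', smul_eq_mul, mul_one]
    rw [this, map_smul, map_one]
    ext j k
    simp [Matrix.one_apply, Matrix.diagonal_apply]
  have h4 : x ∈ Subalgebra.toSubmodule (⊥ : Subalgebra A (CliffordAlgebra Q)) := by
    apply mem_of_one_tmul_mem_baseChange (A' := A')
    rw [h3]
    exact Submodule.tmul_mem_baseChange_of_mem a' (Subalgebra.one_mem _)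
  exact h4

end Cons

end Groth.Agent.R2.H14.Cl
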