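import Mathlib
import Groth.Agent.R2.H14ClEvenCons

/-!
# Consequences of a graded fppf-local matrix structure, II: the even part
-/

set_option autoImplicit false
set_option linter.unusedSectionVars false

namespace Groth.Agent.R2.H14.Cl

open CliffordAlgebra Matrix
open scoped TensorProduct

universe u u' v

section Cons

variable {A : Type u} [CommRing A] {A' : Type u'} [CommRing A'] [Algebra A A']
  {V : Type v} [AddCommGroup V] [Module A V] (Q : QuadraticForm A V)

instance finite_even [Module.Free A V] [Module.Finite A V] : Module.Finite A ↥(even Q) := by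
  have hc := evenOdd_isCompl Q
  have : Module.Finite A ↥(evenOdd Q 0) :=
    Module.Finite.of_surjective (Submodule.projectionOnto (evenOdd Q 0) (evenOdd Q 1) hc)
      (Submodule.projectionOnto_surjective hc)
  exact this

/-- the map `A' ⊗ C⁺(Q) → A' ⊗ C(Q)` -/
noncomputable def evenIncl : A' ⊗[A] ↥(even Q) →ₐ[A'] A' ⊗[A] CliffordAlgebra Q :=
  Algebra.TensorProduct.map (AlgHom.id A' A') (even Q).val

theorem evenIncl_tmul (a : A') (d : ↥(even Q)) :
    evenIncl (A' := A') Q (a ⊗ₜ d) = a ⊗ₜ (d : CliffordAlgebra Q) := rfl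

theorem evenIncl_injective [Module.Flat A A'] : Function.Injective (evenIncl (A' := A') Q) := by
  have h := Module.Flat.lTensor_preserves_injective_linearMap (M := A') (even Q).val.toLinearMap
    Subtype.val_injective
  intro x y hxy
  apply h
  have key : ∀ w, (LinearMap.lTensor A' (even Q).val.toLinearMap) w = evenIncl (A' := A') Q w := by
    intro w
    induction w using TensorProduct.induction_on with
    | zero => rw [map_zero, map_zero]
    | tmul a d => rfl
    | add x y hx hy => rw [map_add, map_add, hx, hy]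
  rw [key, key, hxy]

theorem evenIncl_mem (w : A' ⊗[A] ↥(even Q)) :
    evenIncl (A' := A') Q w ∈ (evenOdd Q 0).baseChange A' := by
  induction w using TensorProduct.induction_on with
  | zero => rw [map_zero]; exact Submodule.zero_mem _
  | tmul a d => exact Submodule.tmul_mem_baseChange_of_mem a d.2
  | add x y hx hy => rw [map_add]; exact Submodule.add_mem _ hx hy

theorem exists_evenIncl_eq (w : A' ⊗[A] CliffordAlgebra Q)
    (hw : w ∈ (evenOdd Q 0).baseChange A') : ∃ w', evenIncl (A' := A') Q w' = w := by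
  rw [Submodule.baseChange_eq_span] at hw
  induction hw using Submodule.span_induction with
  | mem y hy =>
    obtain ⟨x, hx, rfl⟩ := hy
    exact ⟨1 ⊗ₜ ⟨x, hx⟩, rfl⟩
  | zero => exact ⟨0, map_zero _⟩
  | add y z _ _ hy hz =>
    obtain ⟨y', rfl⟩ := hy
    obtain ⟨z', rfl⟩ := hz
    exact ⟨y' + z', map_add _ _ _⟩
  | smul a y _ hy =>
    obtain ⟨y', rfl⟩ := hy
    exact ⟨a • y', map_smul _ _ _⟩

variable {J : Type} [Fintype J] [DecidableEq J] (p : J → ZMod 2)
  (Φ : A' ⊗[A] CliffordAlgebra Q →ₐ[A'] Matrix J J A')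
  (hgr : ∀ v, Φ (1 ⊗ₜ ι Q v) ∈ gr A' p 1)
  (hΦ : Function.Bijective Φ)

include hgr hΦ in
/-- The even part is the centralizer of its own centre. -/
theorem centralizer_eq [Module.Free A V] [Module.Finite A V] [Module.FaithfullyFlat A A'] :
    Subalgebra.centralizer A
        ((even Q).val '' (Subalgebra.center A ↥(even Q) : Set ↥(even Q))) = even Q := by
  apply le_antisymm
  · intro x hx
    rw [Subalgebra.mem_centralizer_iff] at hx
    have hx' : x ∈ evenOdd Q 0 ⊔ evenOdd Q 1 := (evenOdd_isCompl Q).sup_eq_top ▸ Submodule.mem_top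
    obtain ⟨x₀, h₀, x₁, h₁, rfl⟩ := Submodule.mem_sup.mp hx'
    -- `x₁` commutes with the centre of the even part
    have hx₁ : ∀ z ∈ Subalgebra.center A ↥(even Q),
        (z : CliffordAlgebra Q) * x₁ = x₁ * (z : CliffordAlgebra Q) := by
      intro z hz
      have h := hx z ⟨z, hz, rfl⟩
      have hz0 : (z : CliffordAlgebra Q) * x₀ = x₀ * (z : CliffordAlgebra Q) := by
        have := (Subalgebra.mem_center_iff.mp hz) ⟨x₀, h₀⟩
        exact (congrArg Subtype.val this).symm
      rw [mul_add, add_mul, hz0] at h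
      exact add_left_cancel h
    -- the idempotent
    obtain ⟨e', he'⟩ := hΦ.2 (eps A' p)
    have he'mem : e' ∈ (evenOdd Q 0).baseChange A' :=
      mem_baseChange_of_Φ_mem Q p Φ hgr hΦ 0 e' (by rw [he']; exact eps_mem_gr p)
    obtain ⟨w', hw'⟩ := exists_evenIncl_eq Q e' he'mem
    have hinj := evenIncl_injective (A' := A') Q
    have hcent : ∀ d : ↥(even Q), w' * (1 ⊗ₜ d) = (1 ⊗ₜ d) * w' := by
      intro d
      apply hinj
      apply hΦ.1
      rw [map_mul, map_mul, map_mul, map_mul, hw', he']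
      apply eps_comm_of_mem_gr_zero
      exact Φ_mem_of_mem_baseChange Q p Φ hgr 0 _ (evenIncl_mem Q _)
    have hw'mem := mem_baseChange_center (A' := A') w' hcent
    -- `1 ⊗ x₁` commutes with `e'`
    have hgen : ∀ y ∈ (Subalgebra.toSubmodule (Subalgebra.center A ↥(even Q))).baseChange A',
        evenIncl (A' := A') Q y * (1 ⊗ₜ x₁) = (1 ⊗ₜ x₁) * evenIncl (A' := A') Q y := by
      intro y hy
      rw [Submodule.baseChange_eq_span] at hy
      induction hy using Submodule.span_induction with
      | mem y hy =>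
        obtain ⟨z, hz, rfl⟩ := hy
        change evenIncl Q ((1 : A') ⊗ₜ z) * _ = _ * evenIncl Q ((1 : A') ⊗ₜ z)
        rw [evenIncl_tmul, Algebra.TensorProduct.tmul_mul_tmul,
          Algebra.TensorProduct.tmul_mul_tmul, hx₁ z hz]
      | zero => rw [map_zero, zero_mul, mul_zero]
      | add y z _ _ hy hz => rw [map_add, add_mul, mul_add, hy, hz]
      | smul a y _ hy => rw [map_smul, smul_mul_assoc, mul_smul_comm, hy]
    have hcomm : e' * (1 ⊗ₜ x₁) = (1 ⊗ₜ x₁) * e' := by
      have := hgen w' hw'mem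
      rwa [hw'] at this
    have hX₁ : Φ (1 ⊗ₜ x₁) = 0 := by
      apply eq_zero_of_mem_gr_one_of_comm p (Φ_tmul_mem Q p Φ hgr 1 x₁ h₁ 1)
      rw [← he', ← map_mul, ← map_mul, hcomm]
    have h1x : (1 : A') ⊗ₜ[A] x₁ = 0 := hΦ.1 (by rw [hX₁, map_zero])
    have : x₁ = 0 := (Module.FaithfullyFlat.one_tmul_eq_zero_iff A _ x₁).mp h1x
    rw [this, add_zero]
    exact h₀
  · intro x hx
    rw [Subalgebra.mem_centralizer_iff]
    rintro _ ⟨z, hz, rfl⟩
    have := (Subalgebra.mem_center_iff.mp hz) ⟨x, hx⟩
    exact (congrArg Subtype.val this).symm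

end Cons

end Groth.Agent.R2.H14.Cl
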