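import Mathlib
import Groth.Agent.R2.H14ClEvenCons2

/-!
# Consequences of a graded fppf-local matrix structure, III: the even part is a product of two
matrix algebras
-/

set_option autoImplicit false
set_option linter.unusedSectionVars false

namespace Groth.Agent.R2.H14.Cl

open CliffordAlgebra Matrix
open scoped TensorProduct

universe u u' v

section BlockDiag

variable {R : Type u} [CommRing R] {K₀ K₁ : Type} [Fintype K₀] [Fintype K₁] [DecidableEq K₀]
  [DecidableEq K₁]

/-- block diagonal embedding as an algebra hom -/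
noncomputable def blockDiag :
    (Matrix K₀ K₀ R × Matrix K₁ K₁ R) →ₐ[R] Matrix (K₀ ⊕ K₁) (K₀ ⊕ K₁) R :=
  AlgHom.ofLinearMap
    { toFun := fun X => fromBlocks X.1 0 0 X.2
      map_add' := by
        intro X Y
        simp [fromBlocks_add]
      map_smul' := by
        intro c X
        simp [fromBlocks_smul] }
    (by simp [fromBlocks_one])
    (by
      intro X Y
      simp [fromBlocks_multiply])

theorem blockDiag_apply (X : Matrix K₀ K₀ R × Matrix K₁ K₁ R) :
    blockDiag X = fromBlocks X.1 0 0 X.2 := rfl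

variable {J : Type} [Fintype J] [DecidableEq J] (p : J → ZMod 2)

/-- block diagonal embedding into `Matrix J J R` along the parity decomposition of `J` -/
noncomputable def blockDiagJ :
    (Matrix {j // p j = 0} {j // p j = 0} R × Matrix {j // ¬ p j = 0} {j // ¬ p j = 0} R) →ₐ[R]
      Matrix J J R :=
  (Matrix.reindexAlgEquiv R R (Equiv.sumCompl fun j => p j = 0)).toAlgHom.comp blockDiag

theorem blockDiagJ_apply
    (X : Matrix {j // p j = 0} {j // p j = 0} R × Matrix {j // ¬ p j = 0} {j // ¬ p j = 0} R) :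
    blockDiagJ p X = (fromBlocks X.1 0 0 X.2).submatrix (Equiv.sumCompl fun j => p j = 0).symm
      (Equiv.sumCompl fun j => p j = 0).symm := rfl

theorem blockDiagJ_injective : Function.Injective (blockDiagJ (R := R) p) := by
  intro X Y h
  have h' : blockDiag X = blockDiag Y :=
    (Matrix.reindexAlgEquiv R R (Equiv.sumCompl fun j => p j = 0)).injective h
  rw [blockDiag_apply, blockDiag_apply, Matrix.fromBlocks_inj] at h'
  exact Prod.ext h'.1 h'.2.2.2

theorem blockDiagJ_mem_gr
    (X : Matrix {j // p j = 0} {j // p j = 0} R × Matrix {j // ¬ p j = 0} {j // ¬ p j = 0} R) :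
    blockDiagJ p X ∈ gr R p 0 := by
  intro j k h
  rw [blockDiagJ_apply, Matrix.submatrix_apply]
  by_cases hj : p j = 0 <;> by_cases hk : p k = 0
  · exact absurd (by rw [hj, hk, add_zero]) h
  · rw [Equiv.sumCompl_symm_apply_of_pos (p := fun j => p j = 0) hj,
      Equiv.sumCompl_symm_apply_of_neg (p := fun j => p j = 0) hk, Matrix.fromBlocks_apply₁₂]
    rfl
  · rw [Equiv.sumCompl_symm_apply_of_neg (p := fun j => p j = 0) hj,
      Equiv.sumCompl_symm_apply_of_pos (p := fun j => p j = 0) hk, Matrix.fromBlocks_apply₂₁]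
    rfl
  · have h01 : ∀ a b : ZMod 2, a ≠ 0 → b ≠ 0 → a + b = 0 := by decide
    exact absurd (h01 _ _ hj hk) h

theorem exists_blockDiagJ_eq (X : Matrix J J R) (hX : X ∈ gr R p 0) :
    ∃ Y, blockDiagJ p Y = X := by
  set e := Equiv.sumCompl fun j => p j = 0 with he
  let Y := X.submatrix e e
  refine ⟨(Y.toBlocks₁₁, Y.toBlocks₂₂), ?_⟩
  have h12 : Y.toBlocks₁₂ = 0 := by
    ext a b
    simp only [Y, Matrix.toBlocks₁₂, Matrix.of_apply, Matrix.submatrix_apply, Matrix.zero_apply]
    apply hX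
    rw [he, Equiv.sumCompl_apply_inl, Equiv.sumCompl_apply_inr, a.2, zero_add]
    exact b.2
  have h21 : Y.toBlocks₂₁ = 0 := by
    ext a b
    simp only [Y, Matrix.toBlocks₂₁, Matrix.of_apply, Matrix.submatrix_apply, Matrix.zero_apply]
    apply hX
    rw [he, Equiv.sumCompl_apply_inl, Equiv.sumCompl_apply_inr, b.2, add_zero]
    exact a.2
  rw [blockDiagJ_apply]
  have hY : fromBlocks Y.toBlocks₁₁ 0 0 Y.toBlocks₂₂ = Y := by
    rw [← h12, ← h21, Matrix.fromBlocks_toBlocks]
  rw [hY]
  ext j k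
  simp only [Y, Matrix.submatrix_apply]
  rw [← he, Equiv.apply_symm_apply, Equiv.apply_symm_apply]

end BlockDiag

section Cons

variable {A : Type u} [CommRing A] {A' : Type u'} [CommRing A'] [Algebra A A']
  {V : Type v} [AddCommGroup V] [Module A V] (Q : QuadraticForm A V)
  {J : Type} [Fintype J] [DecidableEq J] (p : J → ZMod 2)
  (Φ : A' ⊗[A] CliffordAlgebra Q →ₐ[A'] Matrix J J A')
  (hgr : ∀ v, Φ (1 ⊗ₜ ι Q v) ∈ gr A' p 1)
  (hΦ : Function.Bijective Φ)

include hgr hΦ in
theorem nonempty_even_algEquiv [Module.Flat A A'] :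
    Nonempty (A' ⊗[A] ↥(even Q) ≃ₐ[A']
      (Matrix {j // p j = 0} {j // p j = 0} A' ×
        Matrix {j // ¬ p j = 0} {j // ¬ p j = 0} A')) := by
  let F₀ : A' ⊗[A] ↥(even Q) →ₐ[A'] Matrix J J A' := Φ.comp (evenIncl Q)
  have hF₀ : Function.Injective F₀ := hΦ.1.comp (evenIncl_injective Q)
  have hrange : F₀.range = (blockDiagJ (R := A') p).range := by
    ext X
    constructor
    · rintro ⟨w, rfl⟩
      obtain ⟨Y, hY⟩ := exists_blockDiagJ_eq p (F₀ w)
        (Φ_mem_of_mem_baseChange Q p Φ hgr 0 _ (evenIncl_mem Q w))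
      exact ⟨Y, hY⟩
    · rintro ⟨Y, rfl⟩
      obtain ⟨w, hw⟩ := hΦ.2 (blockDiagJ p Y)
      have hmem := mem_baseChange_of_Φ_mem Q p Φ hgr hΦ 0 w
        (by rw [hw]; exact blockDiagJ_mem_gr p Y)
      obtain ⟨w', rfl⟩ := exists_evenIncl_eq Q w hmem
      exact ⟨w', hw⟩
  exact ⟨(AlgEquiv.ofInjective F₀ hF₀).trans
    ((Subalgebra.equivOfEq _ _ hrange).trans
      (AlgEquiv.ofInjective (blockDiagJ (R := A') p) (blockDiagJ_injective p)).symm)⟩

end Cons

end Groth.Agent.R2.H14.Cl
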