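import Mathlib
import Groth.Agent.R2.H14ClBasic
import Groth.Agent.R2.H14ClMat

/-!
# The `2 × 2` step: `C(H ⊥ Q') ≃ M₂(C(Q'))`, in the form needed for induction
-/

set_option autoImplicit false
set_option linter.unusedSectionVars false

namespace Groth.Agent.R2.H14.Cl

open CliffordAlgebra Matrix

universe u v w

section Step

variable {R : Type u} [CommRing R] {M : Type v} [AddCommGroup M] [Module R M]
  {M' : Type v} [AddCommGroup M'] [Module R M']
  {J : Type w} [Fintype J] [DecidableEq J]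
  (Q : QuadraticForm R M) (Q' : QuadraticForm R M')
  (Ψ' : CliffordAlgebra Q' →ₐ[R] Matrix J J R)
  (α β : M →ₗ[R] R) (π : M →ₗ[R] M')

/-- the linear map `x ↦ [[Ψ'(ι (π x)), α x],[β x, -Ψ'(ι (π x))]]` -/
noncomputable def stepLin : M →ₗ[R] Matrix (J ⊕ J) (J ⊕ J) R where
  toFun x := fromBlocks (Ψ' (ι Q' (π x))) (α x • 1) (β x • 1) (-Ψ' (ι Q' (π x)))
  map_add' x y := by
    rw [map_add, map_add, map_add, map_add, map_add, add_smul, add_smul, neg_add,
      Matrix.fromBlocks_add]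
  map_smul' c x := by
    rw [map_smul, map_smul, map_smul, map_smul, map_smul, RingHom.id_apply, Matrix.fromBlocks_smul,
      smul_neg, smul_eq_mul, smul_eq_mul, mul_smul, mul_smul]

theorem stepLin_apply (x : M) : stepLin Q' Ψ' α β π x =
    fromBlocks (Ψ' (ι Q' (π x))) (α x • 1) (β x • 1) (-Ψ' (ι Q' (π x))) := rfl

variable (hQ : ∀ x, Q x = α x * β x + Q' (π x))

include hQ in
theorem stepLin_sq (x : M) :
    stepLin Q' Ψ' α β π x * stepLin Q' Ψ' α β π x =
      algebraMap R (Matrix (J ⊕ J) (J ⊕ J) R) (Q x) := by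
  have hP : Ψ' (ι Q' (π x)) * Ψ' (ι Q' (π x)) = Q' (π x) • (1 : Matrix J J R) := by
    rw [← map_mul, ι_sq_scalar, AlgHom.commutes, Algebra.algebraMap_eq_smul_one]
  rw [stepLin_apply, Matrix.fromBlocks_multiply, Algebra.algebraMap_eq_smul_one,
    ← Matrix.fromBlocks_one, Matrix.fromBlocks_smul, hQ x]
  congr 1
  · rw [hP, smul_mul_smul_comm, one_mul, add_smul, add_comm]
  · rw [mul_smul_comm, mul_one, smul_mul_assoc, one_mul, smul_neg, add_neg_cancel, smul_zero]
  · rw [mul_smul_comm, mul_one, smul_mul_assoc, one_mul, smul_neg, add_neg_cancel, smul_zero]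
  · rw [neg_mul_neg, hP, smul_mul_smul_comm, one_mul, add_smul, mul_comm]

/-- The algebra map `C(Q) → M₂(M_J(R))` of the `2 × 2` step. -/
noncomputable def stepHom : CliffordAlgebra Q →ₐ[R] Matrix (J ⊕ J) (J ⊕ J) R :=
  CliffordAlgebra.lift Q ⟨stepLin Q' Ψ' α β π, stepLin_sq Q Q' Ψ' α β π hQ⟩

theorem stepHom_ι (x : M) : stepHom Q Q' Ψ' α β π hQ (ι Q x) =
    fromBlocks (Ψ' (ι Q' (π x))) (α x • 1) (β x • 1) (-Ψ' (ι Q' (π x))) := by
  unfold stepHom
  rw [CliffordAlgebra.lift_ι_apply]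
  rfl

/-- parity function on `J ⊕ J` -/
def stepPar (p : J → ZMod 2) : J ⊕ J → ZMod 2 := Sum.elim p (fun j => p j + 1)

theorem stepHom_ι_mem_gr (p : J → ZMod 2) (hΨ' : ∀ v, Ψ' (ι Q' v) ∈ gr R p 1) (x : M) :
    stepHom Q Q' Ψ' α β π hQ (ι Q x) ∈ gr R (stepPar p) 1 := by
  rw [stepHom_ι]
  have hc : ∀ a : ZMod 2, a + a = 0 := fun a => CharTwo.add_self_eq_zero a
  rintro (j | j) (k | k) h
  · simp only [stepPar, Sum.elim_inl, Matrix.fromBlocks_apply₁₁] at h ⊢
    exact hΨ' _ j k h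
  · simp only [stepPar, Sum.elim_inl, Sum.elim_inr, Matrix.fromBlocks_apply₁₂] at h ⊢
    rw [Matrix.smul_apply, Matrix.one_apply_ne, smul_zero]
    rintro rfl
    apply h
    linear_combination hc (p j)
  · simp only [stepPar, Sum.elim_inl, Sum.elim_inr, Matrix.fromBlocks_apply₂₁] at h ⊢
    rw [Matrix.smul_apply, Matrix.one_apply_ne, smul_zero]
    rintro rfl
    apply h
    linear_combination hc (p j)
  · simp only [stepPar, Sum.elim_inr, Matrix.fromBlocks_apply₂₂] at h ⊢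
    rw [Matrix.neg_apply, hΨ' _ j k, neg_zero]
    intro h'
    apply h
    linear_combination h' + hc 1

variable (e f : M) (j : M' → M)
  (he : α e = 1 ∧ β e = 0 ∧ π e = 0) (hf : α f = 0 ∧ β f = 1 ∧ π f = 0)
  (hj : ∀ v, α (j v) = 0 ∧ β (j v) = 0 ∧ π (j v) = v)

include he hf hj in
theorem stepHom_surjective (hΨ' : Function.Surjective Ψ') :
    Function.Surjective (stepHom Q Q' Ψ' α β π hQ) := by
  set Ψ := stepHom Q Q' Ψ' α β π hQ with hΨdef
  have hE12 : (fromBlocks 0 1 0 0 : Matrix (J ⊕ J) (J ⊕ J) R) ∈ Ψ.range := by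
    refine ⟨ι Q e, ?_⟩
    rw [AlgHom.toRingHom_eq_coe, RingHom.coe_coe, hΨdef, stepHom_ι, he.1, he.2.1, he.2.2, map_zero,
      map_zero, one_smul, zero_smul, neg_zero]
  have hE21 : (fromBlocks 0 0 1 0 : Matrix (J ⊕ J) (J ⊕ J) R) ∈ Ψ.range := by
    refine ⟨ι Q f, ?_⟩
    rw [AlgHom.toRingHom_eq_coe, RingHom.coe_coe, hΨdef, stepHom_ι, hf.1, hf.2.1, hf.2.2, map_zero,
      map_zero, one_smul, zero_smul, neg_zero]
  have hE11 : (fromBlocks 1 0 0 0 : Matrix (J ⊕ J) (J ⊕ J) R) ∈ Ψ.range := by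
    have := Ψ.range.mul_mem hE12 hE21
    rw [Matrix.fromBlocks_multiply] at this
    simpa using this
  have hdiag : ∀ v, (fromBlocks (Ψ' (ι Q' v)) 0 0 (-Ψ' (ι Q' v)) :
      Matrix (J ⊕ J) (J ⊕ J) R) ∈ Ψ.range := by
    intro v
    refine ⟨ι Q (j v), ?_⟩
    rw [AlgHom.toRingHom_eq_coe, RingHom.coe_coe, hΨdef, stepHom_ι, (hj v).1, (hj v).2.1,
      (hj v).2.2, zero_smul]
  have h11 : ∀ c : CliffordAlgebra Q',
      (fromBlocks (Ψ' c) 0 0 0 : Matrix (J ⊕ J) (J ⊕ J) R) ∈ Ψ.range := by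
    intro c
    induction c using CliffordAlgebra.induction with
    | algebraMap r =>
      rw [AlgHom.commutes, Algebra.algebraMap_eq_smul_one]
      have := Ψ.range.smul_mem hE11 r
      rw [Matrix.fromBlocks_smul] at this
      simpa using this
    | ι v =>
      have := Ψ.range.mul_mem hE11 (hdiag v)
      rw [Matrix.fromBlocks_multiply] at this
      simpa using this
    | mul a b ha hb =>
      have := Ψ.range.mul_mem ha hb
      rw [Matrix.fromBlocks_multiply] at this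
      simpa using this
    | add a b ha hb =>
      have := Ψ.range.add_mem ha hb
      rw [Matrix.fromBlocks_add] at this
      simpa using this
  have h11' : ∀ X : Matrix J J R, (fromBlocks X 0 0 0 : Matrix (J ⊕ J) (J ⊕ J) R) ∈ Ψ.range := by
    intro X
    obtain ⟨c, rfl⟩ := hΨ' X
    exact h11 c
  have h12' : ∀ X : Matrix J J R, (fromBlocks 0 X 0 0 : Matrix (J ⊕ J) (J ⊕ J) R) ∈ Ψ.range := by
    intro X
    have := Ψ.range.mul_mem (h11' X) hE12
    rw [Matrix.fromBlocks_multiply] at this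
    simpa using this
  have h21' : ∀ X : Matrix J J R, (fromBlocks 0 0 X 0 : Matrix (J ⊕ J) (J ⊕ J) R) ∈ Ψ.range := by
    intro X
    have := Ψ.range.mul_mem hE21 (h11' X)
    rw [Matrix.fromBlocks_multiply] at this
    simpa using this
  have h22' : ∀ X : Matrix J J R, (fromBlocks 0 0 0 X : Matrix (J ⊕ J) (J ⊕ J) R) ∈ Ψ.range := by
    intro X
    have := Ψ.range.mul_mem (h21' X) hE12
    rw [Matrix.fromBlocks_multiply] at this
    simpa using this
  intro Y
  have hY : Y ∈ Ψ.range := by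
    rw [← Matrix.fromBlocks_toBlocks Y]
    have := Ψ.range.add_mem (Ψ.range.add_mem (h11' Y.toBlocks₁₁) (h12' Y.toBlocks₁₂))
      (Ψ.range.add_mem (h21' Y.toBlocks₂₁) (h22' Y.toBlocks₂₂))
    rw [Matrix.fromBlocks_add, Matrix.fromBlocks_add, Matrix.fromBlocks_add] at this
    simpa using this
  exact hY

end Step

end Groth.Agent.R2.H14.Cl
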