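import Mathlib.LinearAlgebra.Matrix.SesquilinearForm
import Mathlib.LinearAlgebra.Matrix.Block
import Mathlib.LinearAlgebra.Matrix.Transvection
import Mathlib.Tactic.LinearCombination
import Mathlib.Tactic.Ring

/-!
# Elementary bilinear algebra for splitting quadratic forms (helper14)

For a bilinear form `β` on a module `V` over a commutative ring we write `qf β y = β y y` (the
quadratic form) and `pf β y z = β y z + β z y` (its polar form), and prove the identities used to split
off a hyperbolic plane.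
-/

universe u v

namespace Groth.Agent.R2.H14.QuadForm

section Abstract

variable {R : Type u} {V : Type v} [CommRing R] [AddCommGroup V] [Module R V]
  (β : V →ₗ[R] V →ₗ[R] R)

/-- the quadratic form of a bilinear form -/
def qf (y : V) : R := β y y

/-- the polar form of `qf β` -/
def pf (y z : V) : R := β y z + β z y

theorem qf_add (y z : V) : qf β (y + z) = qf β y + qf β z + pf β y z := by
  simp only [qf, pf, map_add, LinearMap.add_apply]; ring

theorem qf_smul (c : R) (y : V) : qf β (c • y) = c * c * qf β y := by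
  simp only [qf, map_smul, LinearMap.smul_apply, smul_eq_mul]; ring

theorem qf_neg (y : V) : qf β (-y) = qf β y := by
  simp only [qf, map_neg, LinearMap.neg_apply, neg_neg]

theorem pf_comm (y z : V) : pf β y z = pf β z y := by
  simp only [pf]; ring

theorem pf_self (y : V) : pf β y y = 2 * qf β y := by
  simp only [pf, qf]; ring

theorem pf_add_left (y y' z : V) : pf β (y + y') z = pf β y z + pf β y' z := by
  simp only [pf, map_add, LinearMap.add_apply]; ring

theorem pf_add_right (y z z' : V) : pf β y (z + z') = pf β y z + pf β y z' := by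
  simp only [pf, map_add, LinearMap.add_apply]; ring

theorem pf_smul_left (c : R) (y z : V) : pf β (c • y) z = c * pf β y z := by
  simp only [pf, map_smul, LinearMap.smul_apply, smul_eq_mul]; ring

theorem pf_smul_right (c : R) (y z : V) : pf β y (c • z) = c * pf β y z := by
  simp only [pf, map_smul, LinearMap.smul_apply, smul_eq_mul]; ring

theorem pf_sub_left (y y' z : V) : pf β (y - y') z = pf β y z - pf β y' z := by
  simp only [pf, map_sub, LinearMap.sub_apply]; ring

theorem pf_sub_right (y z z' : V) : pf β y (z - z') = pf β y z - pf β y z' := by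
  simp only [pf, map_sub, LinearMap.sub_apply]; ring

theorem pf_sum_right {ι : Type*} (s : Finset ι) (y : V) (z : ι → V) :
    pf β y (∑ i ∈ s, z i) = ∑ i ∈ s, pf β y (z i) := by
  simp only [pf, map_sum, LinearMap.sum_apply, Finset.sum_add_distrib]

theorem qf_sub (y z : V) : qf β (y - z) = qf β y + qf β z - pf β y z := by
  rw [sub_eq_add_neg, qf_add, qf_neg]
  have : pf β y (-z) = - pf β y z := by
    simp only [pf, map_neg, LinearMap.neg_apply]; ring
  rw [this]; ring

/-- From an isotropic vector `v` and `w₀` with `b(v, w₀) = 1` one gets a hyperbolic pair. -/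
theorem hyperbolic_pair (v w₀ : V) (hv : qf β v = 0) (h1 : pf β v w₀ = 1) :
    qf β (w₀ - qf β w₀ • v) = 0 ∧ pf β v (w₀ - qf β w₀ • v) = 1 := by
  constructor
  · rw [qf_sub, qf_smul, hv, pf_smul_right, pf_comm β w₀ v, h1]; ring
  · rw [pf_sub_right, pf_smul_right, pf_self, hv, h1]; ring

/-- Orthogonal projection away from a nondegenerate plane spanned by `e₁, e₂`. -/
theorem plane_complement (e₁ e₂ e : V) (Δ' : R)
    (hΔ : ((pf β e₁ e₂) ^ 2 - 4 * qf β e₁ * qf β e₂) * Δ' = 1) :
    pf β (e - (-Δ' * (2 * qf β e₂ * pf β e e₁ - pf β e₁ e₂ * pf β e e₂)) • e₁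
        - (-Δ' * (2 * qf β e₁ * pf β e e₂ - pf β e₁ e₂ * pf β e e₁)) • e₂) e₁ = 0 ∧
    pf β (e - (-Δ' * (2 * qf β e₂ * pf β e e₁ - pf β e₁ e₂ * pf β e e₂)) • e₁
        - (-Δ' * (2 * qf β e₁ * pf β e e₂ - pf β e₁ e₂ * pf β e e₁)) • e₂) e₂ = 0 := by
  constructor
  · rw [pf_sub_left, pf_sub_left, pf_smul_left, pf_smul_left, pf_self, pf_comm β e₂ e₁]
    linear_combination (- pf β e e₁) * hΔ
  · rw [pf_sub_left, pf_sub_left, pf_smul_left, pf_smul_left, pf_self]
    linear_combination (- pf β e e₂) * hΔ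

/-- Expansion of the quadratic form on `S v + T w + c` for a hyperbolic pair `v, w` orthogonal to `c`. -/
theorem qf_hyperbolic_add (v w c : V) (S T : R) (hv : qf β v = 0) (hw : qf β w = 0)
    (hvw : pf β v w = 1) (hvc : pf β v c = 0) (hwc : pf β w c = 0) :
    qf β (S • v + T • w + c) = S * T + qf β c := by
  rw [qf_add, qf_add, qf_smul, qf_smul, hv, hw, pf_add_left, pf_smul_left, pf_smul_left,
    pf_smul_left, pf_smul_right, hvw, hvc, hwc]
  ring

/-- the isotropic vector `r e₁ + e₂` in a plane with `α r² + b r + γ = 0` -/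
theorem qf_root (e₁ e₂ : V) (r : R)
    (hr : qf β e₁ * r ^ 2 + pf β e₁ e₂ * r + qf β e₂ = 0) : qf β (r • e₁ + e₂) = 0 := by
  rw [qf_add, qf_smul, pf_smul_left]
  linear_combination hr

theorem pf_root (e₁ e₂ : V) (r u' : R)
    (hu : (2 * qf β e₁ * r + pf β e₁ e₂) * u' = 1) : pf β (r • e₁ + e₂) (u' • e₁) = 1 := by
  rw [pf_smul_right, pf_add_left, pf_smul_left, pf_self, pf_comm β e₂ e₁]
  linear_combination hu

end Abstract

end Groth.Agent.R2.H14.QuadForm

namespace Groth.Agent.R2.H14.QuadForm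

section Coord

open Matrix

variable {B : Type u} [CommRing B] {ι κ : Type} [Fintype ι] [DecidableEq ι] [Fintype κ]
  [DecidableEq κ]

/-- the bilinear form `y, z ↦ yᵀ N z` -/
noncomputable abbrev bil (N : Matrix ι ι B) : (ι → B) →ₗ[B] (ι → B) →ₗ[B] B :=
  Matrix.toLinearMap₂' B N

/-- the quadratic form `y ↦ yᵀ N y` -/
noncomputable abbrev QF (N : Matrix ι ι B) (y : ι → B) : B := qf (bil N) y

theorem bil_apply (N : Matrix ι ι B) (y z : ι → B) : bil N y z = y ⬝ᵥ (N *ᵥ z) :=
  Matrix.toLinearMap₂'_apply' N y z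

theorem QF_apply (N : Matrix ι ι B) (y : ι → B) : QF N y = y ⬝ᵥ (N *ᵥ y) :=
  bil_apply N y y

theorem pf_apply (N : Matrix ι ι B) (y z : ι → B) :
    pf (bil N) y z = y ⬝ᵥ ((N + Nᵀ) *ᵥ z) := by
  rw [pf, bil_apply, bil_apply, Matrix.add_mulVec, dotProduct_add]
  congr 1
  rw [Matrix.mulVec_transpose, Matrix.dotProduct_mulVec, dotProduct_comm]

/-- congruence: `bil (Gᵀ N G) y z = bil N (G y) (G z)` for a (possibly rectangular) `G` -/
theorem bil_congr (N : Matrix ι ι B) (G : Matrix ι κ B) (y z : κ → B) :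
    bil (Gᵀ * N * G) y z = bil N (G *ᵥ y) (G *ᵥ z) := by
  rw [bil_apply, bil_apply, ← Matrix.mulVec_mulVec, ← Matrix.mulVec_mulVec,
    Matrix.dotProduct_mulVec y, Matrix.vecMul_transpose]

theorem QF_congr (N : Matrix ι ι B) (G : Matrix ι κ B) (y : κ → B) :
    QF (Gᵀ * N * G) y = QF N (G *ᵥ y) := bil_congr N G y y

/-- the hyperbolic form `Σ_j x_j x_{m+j}` -/
def hyp (m : ℕ) (X : Fin m ⊕ Fin m → B) : B := ∑ j : Fin m, X (Sum.inl j) * X (Sum.inr j)

theorem hyp_succ (m : ℕ) (X : Fin (m + 1) ⊕ Fin (m + 1) → B) :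
    hyp (m + 1) X = X (Sum.inl (Fin.last m)) * X (Sum.inr (Fin.last m)) +
      hyp m (fun a => X (Sum.map Fin.castSucc Fin.castSucc a)) := by
  simp only [hyp, Fin.sum_univ_castSucc, Sum.map_inl, Sum.map_inr]
  ring

/-- `N` is split of rank `2m`: there are `2m` vectors on which the form is the hyperbolic form. -/
def Split (N : Matrix ι ι B) (m : ℕ) : Prop :=
  ∃ V : Matrix ι (Fin m ⊕ Fin m) B, ∀ X : Fin m ⊕ Fin m → B, QF N (V *ᵥ X) = hyp m X

theorem Split.of_congr {N : Matrix ι ι B} {m : ℕ} (G : Matrix ι κ B)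
    (h : Split (Gᵀ * N * G) m) : Split N m := by
  obtain ⟨V, hV⟩ := h
  refine ⟨G * V, fun X => ?_⟩
  rw [← Matrix.mulVec_mulVec, ← QF_congr, hV]

end Coord

end Groth.Agent.R2.H14.QuadForm
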