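import Mathlib
import Groth.Agent.R2.H14QuadForm
import Groth.Agent.R2.H14ClStep

/-!
# The Clifford algebra of the hyperbolic form is a matrix algebra (with checkerboard grading)
-/

set_option autoImplicit false
set_option linter.unusedSectionVars false

namespace Groth.Agent.R2.H14.Cl

open CliffordAlgebra Matrix Groth.Agent.R2.H14.QuadForm

universe u

variable (R : Type u) [CommRing R]

/-- The hyperbolic form `Σ_j x_j y_j` as a quadratic form. -/
noncomputable def hypForm (m : ℕ) : QuadraticForm R (Fin m ⊕ Fin m → R) :=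
  ∑ j : Fin m, QuadraticMap.linMulLin (LinearMap.proj (Sum.inl j)) (LinearMap.proj (Sum.inr j))

theorem hypForm_apply (m : ℕ) (x : Fin m ⊕ Fin m → R) : hypForm R m x = hyp m x := by
  unfold hypForm hyp
  rw [_root_.sum_apply]
  rfl

variable {R}

theorem card_stepPar {J : Type} [Fintype J] [DecidableEq J] (p : J → ZMod 2) (i : ZMod 2) :
    Fintype.card {x : J ⊕ J // stepPar p x = i} = Fintype.card J := by
  rw [Fintype.card_subtype, Finset.card_filter, Fintype.sum_sum_type, ← Finset.sum_add_distrib]
  simp only [stepPar, Sum.elim_inl, Sum.elim_inr]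
  rw [← Finset.card_univ, Finset.card_eq_sum_ones]
  refine Finset.sum_congr rfl fun j _ => ?_
  have : ∀ a i : ZMod 2, (if a = i then 1 else 0) + (if a + 1 = i then 1 else 0) = 1 := by decide
  exact this (p j) i

theorem bijective_of_surjective_hyp (m : ℕ) {J : Type} [Fintype J] [DecidableEq J]
    (hJ : Fintype.card J = 2 ^ m) (Ψ : CliffordAlgebra (hypForm R m) →ₐ[R] Matrix J J R)
    (hs : Function.Surjective Ψ) : Function.Bijective Ψ := by
  refine bijective_of_surjective_of_card
    (basis ((Pi.basisFun R (Fin m ⊕ Fin m)).reindex finSumFinEquiv) (hypForm R m))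
    (Matrix.stdBasis R J J) ?_ Ψ.toLinearMap hs
  rw [Fintype.card_finset, Fintype.card_fin, Fintype.card_prod, hJ, pow_add]

theorem exists_matrix_iso (m : ℕ) :
    ∃ (J : Type) (_ : Fintype J) (_ : DecidableEq J) (p : J → ZMod 2)
      (Ψ : CliffordAlgebra (hypForm R m) →ₐ[R] Matrix J J R),
      Function.Bijective Ψ ∧ (∀ v, Ψ (ι _ v) ∈ gr R p 1) ∧ Fintype.card J = 2 ^ m ∧
      (1 ≤ m → Fintype.card {j // p j = 0} = 2 ^ (m - 1) ∧
        Fintype.card {j // p j = 1} = 2 ^ (m - 1)) := by
  induction m with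
  | zero =>
    have h0 : ∀ v : Fin 0 ⊕ Fin 0 → R, hypForm R 0 v = 0 := by
      intro v
      rw [hypForm_apply]
      simp [hyp]
    let Ψ : CliffordAlgebra (hypForm R 0) →ₐ[R] Matrix Unit Unit R :=
      CliffordAlgebra.lift _ ⟨0, fun v => by rw [h0]; simp⟩
    refine ⟨Unit, inferInstance, inferInstance, fun _ => 0, Ψ, ?_, ?_, by simp, ?_⟩
    · apply bijective_of_surjective_hyp 0 (by simp)
      intro X
      refine ⟨algebraMap R _ (X () ()), ?_⟩
      rw [AlgHom.commutes]
      ext ⟨⟩ ⟨⟩
      simp [Matrix.algebraMap_matrix_apply]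
    · intro v
      have : Ψ (ι _ v) = 0 := by
        simp only [Ψ]
        rw [CliffordAlgebra.lift_ι_apply]
        rfl
      rw [this]
      exact Submodule.zero_mem _
    · intro h
      omega
  | succ m ih =>
    obtain ⟨J, instF, instD, p, Ψ', hbij, hgr, hcard, -⟩ := ih
    let s : Fin m ⊕ Fin m → Fin (m + 1) ⊕ Fin (m + 1) := Sum.map Fin.castSucc Fin.castSucc
    have hs : Function.Injective s :=
      Sum.map_injective.mpr ⟨Fin.castSucc_injective m, Fin.castSucc_injective m⟩
    have hsl : ∀ a, s a ≠ Sum.inl (Fin.last m) := by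
      rintro (a | a) h
      · simp only [s, Sum.map_inl, Sum.inl.injEq] at h
        exact (Fin.castSucc_lt_last a).ne h
      · simp [s] at h
    have hsr : ∀ a, s a ≠ Sum.inr (Fin.last m) := by
      rintro (a | a) h
      · simp [s] at h
      · simp only [s, Sum.map_inr, Sum.inr.injEq] at h
        exact (Fin.castSucc_lt_last a).ne h
    let α : (Fin (m + 1) ⊕ Fin (m + 1) → R) →ₗ[R] R := LinearMap.proj (Sum.inl (Fin.last m))
    let β : (Fin (m + 1) ⊕ Fin (m + 1) → R) →ₗ[R] R := LinearMap.proj (Sum.inr (Fin.last m))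
    let π : (Fin (m + 1) ⊕ Fin (m + 1) → R) →ₗ[R] (Fin m ⊕ Fin m → R) := LinearMap.funLeft R R s
    have hQ : ∀ x, hypForm R (m + 1) x = α x * β x + hypForm R m (π x) := by
      intro x
      rw [hypForm_apply, hypForm_apply, hyp_succ]
      rfl
    refine ⟨J ⊕ J, inferInstance, inferInstance, stepPar p,
      stepHom (hypForm R (m + 1)) (hypForm R m) Ψ' α β π hQ, ?_, ?_, ?_, ?_⟩
    · apply bijective_of_surjective_hyp (m + 1) (by rw [Fintype.card_sum, hcard, pow_succ]; ring)
      refine stepHom_surjective (hypForm R (m + 1)) (hypForm R m) Ψ' α β π hQ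
        (Pi.single (Sum.inl (Fin.last m)) 1) (Pi.single (Sum.inr (Fin.last m)) 1)
        (fun v => Function.extend s v 0) ⟨?_, ?_, ?_⟩ ⟨?_, ?_, ?_⟩ (fun v => ⟨?_, ?_, ?_⟩) hbij.2
      · simp [α]
      · simp [β]
      · funext a
        simp only [π, LinearMap.funLeft_apply, Pi.zero_apply]
        exact Pi.single_eq_of_ne (hsl a) _
      · simp [α]
      · simp [β]
      · funext a
        simp only [π, LinearMap.funLeft_apply, Pi.zero_apply]
        exact Pi.single_eq_of_ne (hsr a) _
      · simp only [α, LinearMap.proj_apply]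
        rw [Function.extend_apply' _ _ _ (fun ⟨a, ha⟩ => hsl a ha)]
        rfl
      · simp only [β, LinearMap.proj_apply]
        rw [Function.extend_apply' _ _ _ (fun ⟨a, ha⟩ => hsr a ha)]
        rfl
      · funext a
        simp only [π, LinearMap.funLeft_apply]
        exact hs.extend_apply _ _ a
    · exact stepHom_ι_mem_gr (hypForm R (m + 1)) (hypForm R m) Ψ' α β π hQ p hgr
    · rw [Fintype.card_sum, hcard, pow_succ]
      ring
    · intro _
      rw [card_stepPar, card_stepPar, hcard, Nat.add_sub_cancel]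
      exact ⟨rfl, rfl⟩

end Groth.Agent.R2.H14.Cl
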