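import Groth.Agent.R2.H14QuadLoc

universe u

namespace Groth.Agent.R2.H14.QuadForm

open Matrix Groth.Agent.R2.H14.QuadEtale

/-- A quadratic form in `2m` variables with unit polar determinant is split over an etale
algebra hitting any given prime. -/
theorem locSplit_all (m : ℕ) : ∀ (ι : Type) [Fintype ι] [DecidableEq ι], Fintype.card ι = 2 * m →
    ∀ (A : Type u) [CommRing A] (M : Matrix ι ι A), IsUnit (M + Mᵀ).det →
    ∀ p : PrimeSpectrum A, LocSplit M m p := by
  induction m with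
  | zero =>
    intro ι _ _ hcard A _ M _ p
    have : IsEmpty ι := Fintype.card_eq_zero_iff.mp (by simpa using hcard)
    exact locSplit_base M p
  | succ m ih =>
    intro ι _ _ hcard A _ M hdet p
    obtain ⟨G, i, k, hG, hik, hα, hΔ⟩ := exists_good_plane_at_prime M hdet (by omega) p
    apply LocSplit.of_congr (castMat A G)
    have hdet₀ := isUnit_det_polar_congr M (castMat A G) (by rw [det_castMat, hG]; simp) hdet
    set M₀ := (castMat A G)ᵀ * M * castMat A G with hM₀
    set α := M₀ i i with hαdef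
    set Δ := (M₀ i k + M₀ k i) ^ 2 - 4 * M₀ i i * M₀ k k with hΔdef
    have hf : α * Δ ∉ p.asIdeal := fun h => (p.isPrime.mem_or_mem h).elim hα hΔ
    obtain ⟨p₁, hp₁⟩ := exists_prime_comap_away (α * Δ) p hf
    apply LocSplit.trans (Localization.Away (α * Δ)) p₁ hp₁
    set ψ₁ := algebraMap A (Localization.Away (α * Δ)) with hψ₁
    have hunit : IsUnit (ψ₁ α * ψ₁ Δ) := by
      rw [← map_mul]
      exact IsLocalization.Away.algebraMap_isUnit (α * Δ)
    obtain ⟨α', hα'⟩ := (isUnit_of_mul_isUnit_left hunit).exists_right_inv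
    obtain ⟨Δ', hΔ'⟩ := (isUnit_of_mul_isUnit_right hunit).exists_right_inv
    refine locSplit_of_units (i := i) (k := k) (M₀.map ψ₁) (isUnit_det_polar_map ψ₁ M₀ hdet₀) α' Δ' ?_ ?_ p₁ m ?_
    · rw [Matrix.map_apply]; exact hα'
    · simp only [Matrix.map_apply]
      have hmapΔ : ψ₁ Δ = (ψ₁ (M₀ i k) + ψ₁ (M₀ k i)) ^ 2 - 4 * ψ₁ (M₀ i i) * ψ₁ (M₀ k k) := by
        show ψ₁ ((M₀ i k + M₀ k i) ^ 2 - 4 * M₀ i i * M₀ k k) = _
        simp only [map_mul, map_sub, map_pow, map_add, map_ofNat]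
      rw [← hmapΔ]
      exact hΔ'
    · intro B _ M₂ hM₂ p₂
      refine ih _ ?_ B M₂ hM₂ p₂
      rw [card_compl_pair hik, hcard]
      omega

theorem isOpen_range_comap_of_etale {A B : Type u} [CommRing A] [CommRing B] [Algebra A B]
    [Algebra.Etale A B] : IsOpen (Set.range (PrimeSpectrum.comap (algebraMap A B))) := by
  have : Module.Flat A B := inferInstance
  have := PrimeSpectrum.isOpenMap_comap_of_hasGoingDown_of_finitePresentation (R := A) (S := B)
  exact this.isOpen_range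

theorem polar_eq_of_QF_eq {B : Type u} [CommRing B] {κ : Type} [Fintype κ] [DecidableEq κ]
    (N₁ N₂ : Matrix κ κ B) (h : ∀ X, QF N₁ X = QF N₂ X) : N₁ + N₁ᵀ = N₂ + N₂ᵀ := by
  ext a b
  have h1 := qf_add (bil N₁) (Pi.single a 1) (Pi.single b 1)
  have h2 := qf_add (bil N₂) (Pi.single a 1) (Pi.single b 1)
  rw [pf_single] at h1 h2
  have e1 : qf (bil N₁) (Pi.single a 1 + Pi.single b 1) = qf (bil N₂) (Pi.single a 1 + Pi.single b 1) :=
    h _
  have e2 : qf (bil N₁) (Pi.single a 1) = qf (bil N₂) (Pi.single a 1) := h _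
  have e3 : qf (bil N₁) (Pi.single b 1) = qf (bil N₂) (Pi.single b 1) := h _
  simp only [Matrix.add_apply, Matrix.transpose_apply]
  linear_combination e1 - e2 - e3 - h1 + h2

/-- the matrix of the hyperbolic form -/
def hypMat (B : Type u) [CommRing B] (m : ℕ) : Matrix (Fin m ⊕ Fin m) (Fin m ⊕ Fin m) B :=
  Matrix.fromBlocks 0 1 0 0

theorem QF_hypMat {B : Type u} [CommRing B] (m : ℕ) (X : Fin m ⊕ Fin m → B) :
    QF (hypMat B m) X = hyp m X := by
  simp [QF_apply, hyp, hypMat, dotProduct, Fintype.sum_sum_type,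
    Matrix.mulVec, Matrix.one_apply]

theorem isUnit_det_polar_hypMat (B : Type u) [CommRing B] (m : ℕ) :
    IsUnit (hypMat B m + (hypMat B m)ᵀ).det := by
  have h : (hypMat B m + (hypMat B m)ᵀ) * (hypMat B m + (hypMat B m)ᵀ) = 1 := by
    simp [hypMat, Matrix.fromBlocks_transpose, Matrix.fromBlocks_add, Matrix.fromBlocks_multiply]
  have := congrArg Matrix.det h
  rw [Matrix.det_mul, Matrix.det_one] at this
  exact IsUnit.of_mul_eq_one _ this

theorem isUnit_det_of_split {B : Type u} [CommRing B] {m : ℕ}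
    (N : Matrix (Fin m ⊕ Fin m) (Fin m ⊕ Fin m) B)
    (V : Matrix (Fin m ⊕ Fin m) (Fin m ⊕ Fin m) B) (hV : ∀ X, QF N (V *ᵥ X) = hyp m X) :
    IsUnit V.det := by
  have h1 : Vᵀ * N * V + (Vᵀ * N * V)ᵀ = hypMat B m + (hypMat B m)ᵀ :=
    polar_eq_of_QF_eq _ _ (fun X => by rw [QF_congr, hV, QF_hypMat])
  rw [polar_congr] at h1
  have h2 := isUnit_det_polar_hypMat B m
  rw [← h1, Matrix.det_mul] at h2
  exact isUnit_of_mul_isUnit_right h2


/-- Global form: finitely many etale algebras covering `Spec A` over each of which the form with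
matrix `U` becomes the hyperbolic form after an invertible substitution. -/
theorem exists_finite_etale_cover_split (A : Type u) [CommRing A] (m : ℕ)
    (U : Matrix (Fin m ⊕ Fin m) (Fin m ⊕ Fin m) A) (hdet : IsUnit (U + Uᵀ).det) :
    ∃ (n : ℕ) (B : Fin n → Type u) (_ : ∀ t, CommRing (B t)) (_ : ∀ t, Algebra A (B t)),
      (∀ t, Algebra.Etale A (B t)) ∧
      (∀ p : PrimeSpectrum A, ∃ (t : Fin n) (q : PrimeSpectrum (B t)),
        q.asIdeal.comap (algebraMap A (B t)) = p.asIdeal) ∧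
      ∀ t, ∃ g : Matrix (Fin m ⊕ Fin m) (Fin m ⊕ Fin m) (B t), IsUnit g.det ∧
        ∀ x : Fin m ⊕ Fin m → B t, QF (U.map (algebraMap A (B t))) (g *ᵥ x) = hyp m x := by
  have h : ∀ p : PrimeSpectrum A, LocSplit U m p :=
    locSplit_all m (Fin m ⊕ Fin m) (by simp; omega) A U hdet
  unfold LocSplit at h
  choose Bp instR instA het hq hs using h
  have hopen : ∀ p, IsOpen (Set.range (PrimeSpectrum.comap (algebraMap A (Bp p)))) := fun p =>
    @isOpen_range_comap_of_etale A (Bp p) _ (instR p) (instA p) (het p)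
  have hcov : (Set.univ : Set (PrimeSpectrum A)) ⊆
      ⋃ p, Set.range (PrimeSpectrum.comap (algebraMap A (Bp p))) := by
    intro p _
    obtain ⟨q, hq'⟩ := hq p
    exact Set.mem_iUnion.mpr ⟨p, q, PrimeSpectrum.ext hq'⟩
  obtain ⟨s, hs'⟩ := isCompact_univ.elim_finite_subcover _ hopen hcov
  refine ⟨s.card, fun t => Bp (s.equivFin.symm t).1, fun t => instR _, fun t => instA _,
    fun t => het _, ?_, ?_⟩
  · intro p
    have hp := hs' (Set.mem_univ p)
    simp only [Set.mem_iUnion] at hp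
    obtain ⟨p', hp's, q, hq'⟩ := hp
    obtain ⟨t, ht⟩ := s.equivFin.symm.surjective ⟨p', hp's⟩
    have hp'eq : (s.equivFin.symm t).1 = p' := by rw [ht]
    subst hp'eq
    exact ⟨t, q, congrArg PrimeSpectrum.asIdeal hq'⟩
  · intro t
    obtain ⟨V, hV⟩ := hs (s.equivFin.symm t).1
    exact ⟨V, isUnit_det_of_split _ V hV, hV⟩

end Groth.Agent.R2.H14.QuadForm
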