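import Mathlib
import Groth.Agent.R2.H14QuadMain
import Groth.Agent.R2.H14ClHyp
import Groth.Agent.R2.H14ClBC
import Groth.Agent.R2.H14ClEvenCons3

/-!
# Regular quadratic forms of even rank: fppf-local graded matrix structure of the Clifford algebra
-/

set_option autoImplicit false
set_option linter.unusedSectionVars false

namespace Groth.Agent.R2.H14.Cl

open CliffordAlgebra Matrix Groth.Agent.R2.H14.QuadForm
open scoped TensorProduct

universe u

section Dict

variable {A : Type u} [CommRing A] {ι : Type} [Fintype ι] [DecidableEq ι]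

theorem QF_map {S : Type u} [CommRing S] (φ : A →+* S) (N : Matrix ι ι A) (x : ι → A) :
    φ (QF N x) = QF (N.map φ) (φ ∘ x) := by
  rw [QF_apply, QF_apply, RingHom.map_dotProduct]
  congr 1
  funext i
  rw [Function.comp_apply, RingHom.map_mulVec]

/-- A quadratic form on a module with a finite basis is given by a matrix. -/
theorem exists_matrix {V : Type u} [AddCommGroup V] [Module A V] (b : Module.Basis ι A V)
    (Q : QuadraticForm A V) (B : LinearMap.BilinForm A V) (hB : B.toQuadraticMap = Q) :
    ∀ v, Q v = QF (Matrix.of fun i j => B (b i) (b j)) (b.equivFun v) := by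
  intro v
  rw [QF_apply]
  conv_lhs => rw [← hB, LinearMap.BilinMap.toQuadraticMap_apply, ← b.sum_equivFun v]
  simp only [map_sum, LinearMap.sum_apply, map_smul, LinearMap.smul_apply, smul_eq_mul, dotProduct,
    mulVec, Matrix.of_apply, Finset.mul_sum]
  rw [Finset.sum_comm]
  refine Finset.sum_congr rfl fun i _ => Finset.sum_congr rfl fun j _ => ?_
  ring

theorem isUnit_det_polar {V : Type u} [AddCommGroup V] [Module A V] (b : Module.Basis ι A V)
    (Q : QuadraticForm A V) (B : LinearMap.BilinForm A V) (hB : B.toQuadraticMap = Q)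
    (hQ : Function.Surjective (QuadraticMap.polarBilin Q)) :
    IsUnit ((Matrix.of fun i j => B (b i) (b j)) + (Matrix.of fun i j => B (b i) (b j))ᵀ).det := by
  set P := (Matrix.of fun i j => B (b i) (b j)) + (Matrix.of fun i j => B (b i) (b j))ᵀ with hP
  have hPij : ∀ i j, P i j = QuadraticMap.polar Q (b i) (b j) := by
    intro i j
    rw [hP, ← hB, LinearMap.BilinMap.polar_toQuadraticMap]
    rfl
  rw [← Matrix.isUnit_iff_isUnit_det, ← Matrix.mulVec_surjective_iff_isUnit]
  intro y
  obtain ⟨v, hv⟩ := hQ (b.constr A y)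
  refine ⟨b.equivFun v, ?_⟩
  funext i
  have h1 : QuadraticMap.polarBilin Q v (b i) = y i := by
    rw [hv, Module.Basis.constr_basis]
  rw [← h1, QuadraticMap.polarBilin_apply_apply, QuadraticMap.polar_comm]
  conv_rhs => rw [← b.sum_equivFun v]
  rw [← QuadraticMap.polarBilin_apply_apply, map_sum]
  simp only [mulVec, dotProduct, hPij, map_smul, smul_eq_mul, QuadraticMap.polarBilin_apply_apply]
  refine Finset.sum_congr rfl fun j _ => ?_
  ring

end Dict

section Cover

variable (A : Type u) [CommRing A] (m : ℕ)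

/-- fppf-local (in fact étale-local) splitting of a regular matrix form, over a single faithfully
flat finitely presented algebra. -/
theorem exists_fppf_split (N : Matrix (Fin m ⊕ Fin m) (Fin m ⊕ Fin m) A)
    (hdet : IsUnit (N + Nᵀ).det) :
    ∃ (A' : Type u) (_ : CommRing A') (_ : Algebra A A'), Module.FaithfullyFlat A A' ∧
      Algebra.FinitePresentation A A' ∧
      ∃ G : Matrix (Fin m ⊕ Fin m) (Fin m ⊕ Fin m) A', IsUnit G.det ∧
        ∀ x : Fin m ⊕ Fin m → A', QF (N.map (algebraMap A A')) (G *ᵥ x) = hyp m x := by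
  obtain ⟨n, B, instR, instA, het, hcov, hsplit⟩ := exists_finite_etale_cover_split A m N hdet
  choose g hgdet hg using hsplit
  refine ⟨∀ t, B t, inferInstance, inferInstance, ?_, ?_, ?_⟩
  · have hflat : Module.Flat A (∀ t, B t) := inferInstance
    apply Module.FaithfullyFlat.of_comap_surjective
    intro p
    obtain ⟨t, q, hq⟩ := hcov p
    refine ⟨PrimeSpectrum.comap (Pi.evalRingHom B t) q, ?_⟩
    apply PrimeSpectrum.ext
    rw [← hq]
    rfl
  · infer_instance
  · refine ⟨Matrix.of fun i j t => g t i j, ?_, ?_⟩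
    · rw [Pi.isUnit_iff]
      intro t
      have h1 := RingHom.map_det (Pi.evalRingHom B t) (Matrix.of fun i j t => g t i j)
      have h2 : (Pi.evalRingHom B t).mapMatrix (Matrix.of fun i j t => g t i j) = g t := by
        ext i j
        rfl
      rw [h2] at h1
      have h3 : (Pi.evalRingHom B t) (Matrix.of fun i j t => g t i j).det =
          (Matrix.of fun i j t => g t i j).det t := rfl
      rw [← h3, h1]
      exact hgdet t
    · intro x
      funext t
      have h1 := QF_map (Pi.evalRingHom B t) (N.map (algebraMap A (∀ t, B t)))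
        ((Matrix.of fun i j t => g t i j) *ᵥ x)
      have h2 : (N.map (algebraMap A (∀ t, B t))).map (Pi.evalRingHom B t) =
          N.map (algebraMap A (B t)) := by
        ext i j
        rfl
      have h3 : (Pi.evalRingHom B t) ∘ ((Matrix.of fun i j t => g t i j) *ᵥ x) =
          g t *ᵥ (fun i => x i t) := by
        have := RingHom.map_mulVec (Pi.evalRingHom B t) (Matrix.of fun i j t => g t i j) x
        funext i
        rw [Function.comp_apply, this]
        rfl
      rw [h2, h3, hg t] at h1
      have h4 : (Pi.evalRingHom B t) (QF (N.map (algebraMap A (∀ t, B t)))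
          ((Matrix.of fun i j t => g t i j) *ᵥ x)) =
          QF (N.map (algebraMap A (∀ t, B t))) ((Matrix.of fun i j t => g t i j) *ᵥ x) t := rfl
      rw [← h4, h1]
      simp only [hyp, Finset.sum_apply, Pi.mul_apply]

end Cover

end Groth.Agent.R2.H14.Cl

namespace Groth.Agent.R2.H14.Cl

open CliffordAlgebra Matrix Groth.Agent.R2.H14.QuadForm
open scoped TensorProduct

universe u

/-- **Structure theorem (even rank).** For a regular quadratic form on a free module of rank `2m`,
there is a faithfully flat finitely presented algebra `A'` over which the Clifford algebra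
becomes a matrix algebra of size `2^m`, compatibly with a checkerboard grading. -/
theorem exists_even_structure (A : Type u) [CommRing A] (V : Type u) [AddCommGroup V] [Module A V]
    [Module.Free A V] [Module.Finite A V] (m : ℕ) (hm : 1 ≤ m)
    (hV : Module.finrank A V = 2 * m) (Q : QuadraticForm A V)
    (hQ : Function.Bijective (QuadraticMap.polarBilin Q)) :
    ∃ (A' : Type u) (_ : CommRing A') (_ : Algebra A A'), Module.FaithfullyFlat A A' ∧
      Algebra.FinitePresentation A A' ∧
      ∃ (J : Type) (_ : Fintype J) (_ : DecidableEq J) (p : J → ZMod 2)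
        (Φ : A' ⊗[A] CliffordAlgebra Q →ₐ[A'] Matrix J J A'),
        Function.Bijective Φ ∧ (∀ v, Φ (1 ⊗ₜ ι Q v) ∈ gr A' p 1) ∧ Fintype.card J = 2 ^ m ∧
        Fintype.card {j // p j = 0} = 2 ^ (m - 1) ∧ Fintype.card {j // p j = 1} = 2 ^ (m - 1) := by
  have hnt : Nontrivial A := by
    by_contra h
    rw [not_nontrivial_iff_subsingleton] at h
    rw [Module.finrank_subsingleton] at hV
    omega
  -- basis
  let b0 : Module.Basis (Fin (2 * m)) A V := Module.finBasisOfFinrankEq A V hV
  let e : Fin (2 * m) ≃ Fin m ⊕ Fin m := (finCongr (two_mul m)).trans finSumFinEquiv.symm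
  let b : Module.Basis (Fin m ⊕ Fin m) A V := b0.reindex e
  obtain ⟨B, hB⟩ := exists_bilin Q
  set N : Matrix (Fin m ⊕ Fin m) (Fin m ⊕ Fin m) A := Matrix.of fun i j => B (b i) (b j) with hNdef
  have hN : ∀ v, Q v = QF N (b.equivFun v) := exists_matrix b Q B hB
  have hdet : IsUnit (N + Nᵀ).det := isUnit_det_polar b Q B hB hQ.2
  obtain ⟨A', instR, instA, hff, hfp, G, hGdet, hG⟩ := exists_fppf_split A m N hdet
  refine ⟨A', instR, instA, hff, hfp, ?_⟩
  -- the comparison map
  have hGinv : G * G⁻¹ = 1 := Matrix.mul_nonsing_inv G hGdet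
  let coord : V →ₗ[A] (Fin m ⊕ Fin m → A') :=
    LinearMap.pi fun i => (Algebra.linearMap A A') ∘ₗ (b.coord i)
  have hcoord : ∀ v, coord v = (algebraMap A A') ∘ (b.equivFun v) := by
    intro v
    funext i
    rfl
  let c : V →ₗ[A] (Fin m ⊕ Fin m → A') := ((Matrix.toLin' G⁻¹).restrictScalars A) ∘ₗ coord
  have hcv : ∀ v, c v = G⁻¹ *ᵥ ((algebraMap A A') ∘ (b.equivFun v)) := by
    intro v
    simp only [c, LinearMap.coe_comp, Function.comp_apply, LinearMap.coe_restrictScalars,
      Matrix.toLin'_apply, hcoord]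
  have hc : ∀ v, hypForm A' m (c v) = algebraMap A A' (Q v) := by
    intro v
    rw [hypForm_apply, hcv, ← hG, Matrix.mulVec_mulVec, hGinv, Matrix.one_mulVec, hN, QF_map]
  have hspan : Submodule.span A' (Set.range c) = ⊤ := by
    rw [eq_top_iff]
    intro w _
    have hw : w = ∑ i, (G *ᵥ w) i • c (b i) := by
      have h1 : ∀ i, c (b i) = G⁻¹ *ᵥ Pi.single i 1 := by
        intro i
        rw [hcv]
        congr 1
        funext j
        simp only [Function.comp_apply, Module.Basis.equivFun_apply, Module.Basis.repr_self]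
        rw [Finsupp.single_apply, Pi.single_apply]
        split_ifs with h1 h2 h2
        · exact map_one _
        · exact absurd h1.symm h2
        · exact absurd h2.symm h1
        · exact map_zero _
      have h2 : w = G⁻¹ *ᵥ (G *ᵥ w) := by
        rw [Matrix.mulVec_mulVec, Matrix.nonsing_inv_mul G hGdet, Matrix.one_mulVec]
      calc w = G⁻¹ *ᵥ (G *ᵥ w) := h2
        _ = G⁻¹ *ᵥ (∑ i, (G *ᵥ w) i • (Pi.single i 1 : Fin m ⊕ Fin m → A')) := by
          rw [← pi_eq_sum_univ' (G *ᵥ w)]
        _ = ∑ i, (G *ᵥ w) i • c (b i) := by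
          rw [Matrix.mulVec_sum]
          refine Finset.sum_congr rfl fun i _ => ?_
          rw [Matrix.mulVec_smul, h1]
    rw [hw]
    exact Submodule.sum_mem _ fun i _ => Submodule.smul_mem _ _ (Submodule.subset_span ⟨b i, rfl⟩)
  obtain ⟨J, instF, instD, p, Ψ, hΨbij, hΨgr, hcardJ, hpar⟩ := exists_matrix_iso (R := A') m
  refine ⟨J, instF, instD, p, Ψ.comp (bc Q (hypForm A' m) c hc), ?_, ?_, hcardJ, hpar hm⟩
  · have hbc : Function.Bijective (bc Q (hypForm A' m) c hc) :=
      bc_bijective Q (hypForm A' m) c hc b0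
        ((Pi.basisFun A' (Fin m ⊕ Fin m)).reindex finSumFinEquiv)
        (by rw [Fintype.card_fin, Fintype.card_fin, two_mul]) hspan
    exact hΨbij.comp hbc
  · intro v
    rw [AlgHom.comp_apply, bc_one_tmul_ι]
    exact hΨgr _

end Groth.Agent.R2.H14.Cl
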