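import Mathlib
import Groth.Agent.R2.H14ClEvenMain

/-!
# Universe-general version of the even-rank structure theorem
-/

set_option autoImplicit false
set_option linter.unusedSectionVars false

namespace Groth.Agent.R2.H14.Cl

open CliffordAlgebra Matrix
open scoped TensorProduct

universe u v

/-- **Structure theorem (even rank), any universes.** -/
theorem exists_even_structure' (A : Type u) [CommRing A] (V : Type v) [AddCommGroup V] [Module A V]
    [Module.Free A V] [Module.Finite A V] (m : ℕ) (hm : 1 ≤ m)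
    (hV : Module.finrank A V = 2 * m) (Q : QuadraticForm A V)
    (hQ : Function.Bijective (QuadraticMap.polarBilin Q)) :
    ∃ (A' : Type u) (_ : CommRing A') (_ : Algebra A A'), Module.FaithfullyFlat A A' ∧
      Algebra.FinitePresentation A A' ∧
      ∃ (J : Type) (_ : Fintype J) (_ : DecidableEq J) (p : J → ZMod 2)
        (Φ : A' ⊗[A] CliffordAlgebra Q →ₐ[A'] Matrix J J A'),
        Function.Bijective Φ ∧ (∀ v, Φ (1 ⊗ₜ ι Q v) ∈ gr A' p 1) ∧ Fintype.card J = 2 ^ m ∧
        Fintype.card {j // p j = 0} = 2 ^ (m - 1) ∧ Fintype.card {j // p j = 1} = 2 ^ (m - 1) := by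
  have hnt : Nontrivial A := by
    by_contra h
    rw [not_nontrivial_iff_subsingleton] at h
    rw [Module.finrank_subsingleton] at hV
    omega
  let b : Module.Basis (Fin (2 * m)) A V := Module.finBasisOfFinrankEq A V hV
  let e : V ≃ₗ[A] (Fin (2 * m) → A) := b.equivFun
  let Q' : QuadraticForm A (Fin (2 * m) → A) := Q.comp e.symm.toLinearMap
  have hQ' : Function.Bijective (QuadraticMap.polarBilin Q') := by
    have hpol : ∀ x y, QuadraticMap.polarBilin Q' x y =
        QuadraticMap.polarBilin Q (e.symm x) (e.symm y) := by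
      intro x y
      simp only [QuadraticMap.polarBilin_apply_apply, QuadraticMap.polar, Q',
        QuadraticMap.comp_apply, LinearEquiv.coe_coe, map_add]
    constructor
    · rw [injective_iff_map_eq_zero]
      intro x hx
      have h0 : QuadraticMap.polarBilin Q (e.symm x) = 0 := by
        ext z
        have := congrArg (fun f => f (e z)) hx
        simp only [hpol, LinearEquiv.symm_apply_apply, LinearMap.zero_apply] at this
        exact this
      have := (injective_iff_map_eq_zero _).mp hQ.1 _ h0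
      exact (LinearEquiv.map_eq_zero_iff e.symm).mp this
    · intro f
      obtain ⟨z, hz⟩ := hQ.2 (f.comp e.toLinearMap)
      refine ⟨e z, LinearMap.ext fun y => ?_⟩
      rw [hpol, LinearEquiv.symm_apply_apply, hz]
      simp
  have hrk : Module.finrank A (Fin (2 * m) → A) = 2 * m := Module.finrank_fin_fun A
  obtain ⟨A', iR, iA, hff, hfp, J, iF, iD, p, Φ, hΦ, hgr, hc, hc0, hc1⟩ :=
    exists_even_structure A (Fin (2 * m) → A) m hm hrk Q' hQ'
  refine ⟨A', iR, iA, hff, hfp, J, iF, iD, p, ?_⟩
  let ie : Q.IsometryEquiv Q' :=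
    { e with map_app' := fun x => by simp [Q'] }
  let E : CliffordAlgebra Q ≃ₐ[A] CliffordAlgebra Q' := equivOfIsometry ie
  have hE : ∀ v, E (ι Q v) = ι Q' (e v) := by
    intro v
    change CliffordAlgebra.map ie.toIsometry (ι Q v) = _
    rw [CliffordAlgebra.map_apply_ι]
    rfl
  let T : A' ⊗[A] CliffordAlgebra Q ≃ₐ[A'] A' ⊗[A] CliffordAlgebra Q' :=
    Algebra.TensorProduct.congr AlgEquiv.refl E
  refine ⟨Φ.comp T.toAlgHom, ?_, ?_, hc, hc0, hc1⟩
  · exact hΦ.comp T.bijective
  · intro v
    change Φ (T (1 ⊗ₜ ι Q v)) ∈ _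
    have : T ((1 : A') ⊗ₜ[A] ι Q v) = 1 ⊗ₜ ι Q' (e v) := by
      have h1 : T ((1 : A') ⊗ₜ[A] ι Q v) = (1 : A') ⊗ₜ[A] E (ι Q v) := by
        simp [T]
      rw [h1, hE]
    rw [this]
    exact hgr _

end Groth.Agent.R2.H14.Cl
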