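import Mathlib
import Groth.Agent.R2.H14AzCenter
import Groth.Agent.R2.H14ClEvenCons3
import Groth.Agent.R2.H14ClEvenMain2

/-!
# The even Clifford algebra of a regular form of even rank is Azumaya over its finite étale centre
(helper14)
-/

set_option autoImplicit false
set_option linter.unusedSectionVars false
set_option linter.style.haveILetI false

namespace Groth.Agent.R2.H14.Cl

open CliffordAlgebra Matrix
open scoped TensorProduct

universe u u' v

section ProdMat

variable {R : Type u} [CommRing R] {K : Type} [Fintype K] [DecidableEq K]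

/-- `M_K(R) × M_K(R) ≃ M_K(R × R)`, with `R × R` written as `Fin 2 → R`. -/
noncomputable def prodMatEquiv₀ : (Matrix K K R × Matrix K K R) ≃ₐ[R] Matrix K K (Fin 2 → R) where
  toFun XY := Matrix.of fun a b => ![XY.1 a b, XY.2 a b]
  invFun M := (M.map (fun f => f 0), M.map (fun f => f 1))
  left_inv XY := by
    ext a b <;> simp
  right_inv M := by
    ext a b i
    fin_cases i <;> simp
  map_mul' X Y := by
    ext a b i
    fin_cases i <;> simp [Matrix.mul_apply, Finset.sum_apply]
  map_add' X Y := by
    ext a b i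
    fin_cases i <;> simp
  commutes' r := by
    ext a b i
    fin_cases i <;> simp [Matrix.algebraMap_matrix_apply] <;> split_ifs <;> simp

variable {K₁ : Type} [Fintype K₁] [DecidableEq K₁]

/-- `M_{K}(R) × M_{K₁}(R) ≃ M_K(R × R)` for equinumerous `K`, `K₁`. -/
noncomputable def prodMatEquiv (σ : K ≃ K₁) :
    (Matrix K K R × Matrix K₁ K₁ R) ≃ₐ[R] Matrix K K (Fin 2 → R) :=
  (AlgEquiv.prodCongr AlgEquiv.refl (Matrix.reindexAlgEquiv R R σ.symm)).trans prodMatEquiv₀

end ProdMat

section Main

/-- **The even Clifford algebra of a regular quadratic form of even rank** is an Azumaya algebra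
over its centre, which is finite étale of rank two. -/
theorem even_azumaya (A : Type u) [CommRing A] (V : Type v) [AddCommGroup V] [Module A V]
    [Module.Free A V] [Module.Finite A V] (m : ℕ) (hm : 1 ≤ m) (hV : Module.finrank A V = 2 * m)
    (Q : QuadraticForm A V) (hQ : Function.Bijective (QuadraticMap.polarBilin Q)) :
    letI : Algebra ↥(Subalgebra.center A ↥(CliffordAlgebra.even Q)) ↥(CliffordAlgebra.even Q) :=
      (Subalgebra.center A ↥(CliffordAlgebra.even Q)).val.toRingHom.toAlgebra'
        (fun c x => (Subalgebra.mem_center_iff.mp c.2 x).symm)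
    Algebra.Etale A ↥(Subalgebra.center A ↥(CliffordAlgebra.even Q)) ∧
      Module.Finite A ↥(Subalgebra.center A ↥(CliffordAlgebra.even Q)) ∧
      Module.Projective A ↥(Subalgebra.center A ↥(CliffordAlgebra.even Q)) ∧
      (∀ p : PrimeSpectrum A,
        Module.rankAtStalk ↥(Subalgebra.center A ↥(CliffordAlgebra.even Q)) p = 2) ∧
      IsAzumaya ↥(Subalgebra.center A ↥(CliffordAlgebra.even Q)) ↥(CliffordAlgebra.even Q) := by
  letI inst : Algebra ↥(Subalgebra.center A ↥(CliffordAlgebra.even Q))
      ↥(CliffordAlgebra.even Q) :=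
    (Subalgebra.center A ↥(CliffordAlgebra.even Q)).val.toRingHom.toAlgebra'
      (fun c x => (Subalgebra.mem_center_iff.mp c.2 x).symm)
  obtain ⟨A', _, _, hff, -, J, _, _, p, Φ, hΦ, hgr, -, h0, h1⟩ :=
    exists_even_structure' A V m hm hV Q hQ
  obtain ⟨Ψ₀⟩ := nonempty_even_algEquiv Q p Φ hgr hΦ
  have hc : Fintype.card {j // p j = 0} = Fintype.card {j // ¬ p j = 0} := by
    rw [h0, ← h1]
    refine Fintype.card_congr (Equiv.subtypeEquivRight fun j => ?_)
    have h01 : ∀ x : ZMod 2, x = 1 ↔ ¬ x = 0 := by decide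
    exact h01 _
  let σ : {j // p j = 0} ≃ {j // ¬ p j = 0} := Fintype.equivOfCardEq hc
  let Ψ := Ψ₀.trans (prodMatEquiv σ)
  haveI : Nonempty {j // p j = 0} := by
    rw [← Fintype.card_pos_iff, h0]
    positivity
  haveI : @IsScalarTower A ↥(Subalgebra.center A ↥(CliffordAlgebra.even Q))
      ↥(CliffordAlgebra.even Q) _ inst.toSMul _ :=
    @IsScalarTower.of_algebraMap_eq A ↥(Subalgebra.center A ↥(CliffordAlgebra.even Q))
      ↥(CliffordAlgebra.even Q) _ _ _ _ inst _ (fun a => rfl)
  have key := Groth.Agent.R2.H14.AzCenter.main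
    (Z := ↥(Subalgebra.center A ↥(CliffordAlgebra.even Q))) (D := ↥(CliffordAlgebra.even Q)) Ψ
    Subtype.val_injective (fun x hx => ⟨⟨x, hx⟩, rfl⟩)
  rw [Fintype.card_fin] at key
  exact key

end Main

end Groth.Agent.R2.H14.Cl
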