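import Mathlib
import Groth.Agent.R2.H14ClBasic

/-!
# The centre of a Clifford algebra is graded; consequences of "even central ⇒ scalar" and of
"the odd part of the centre is invertible"
-/

set_option autoImplicit false
set_option linter.unusedSectionVars false

namespace Groth.Agent.R2.H14.Cl

open CliffordAlgebra
open scoped TensorProduct

universe u v

section Graded

variable {R : Type u} [CommRing R] {M : Type v} [AddCommGroup M] [Module R M]
  (Q : QuadraticForm R M)

theorem evenOdd_disjoint' (j : ZMod 2) (x : CliffordAlgebra Q) (h0 : x ∈ evenOdd Q j)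
    (h1 : x ∈ evenOdd Q (j + 1)) : x = 0 := by
  have hd := (evenOdd_isCompl Q).disjoint
  rw [Submodule.disjoint_def] at hd
  fin_cases j
  · exact hd x h0 h1
  · exact hd x h1 h0

theorem mul_mem_evenOdd {i j : ZMod 2} {x y : CliffordAlgebra Q} (hx : x ∈ evenOdd Q i)
    (hy : y ∈ evenOdd Q j) : x * y ∈ evenOdd Q (i + j) :=
  evenOdd_mul_le Q i j (Submodule.mul_mem_mul hx hy)

/-- the even projection -/
noncomputable def P0 : CliffordAlgebra Q →ₗ[R] CliffordAlgebra Q :=
  (evenOdd Q 0).projection (evenOdd Q 1) (evenOdd_isCompl Q)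

/-- the odd projection -/
noncomputable def P1 : CliffordAlgebra Q →ₗ[R] CliffordAlgebra Q :=
  (evenOdd Q 1).projection (evenOdd Q 0) (evenOdd_isCompl Q).symm

theorem P0_mem (x : CliffordAlgebra Q) : P0 Q x ∈ evenOdd Q 0 :=
  Submodule.projection_apply_mem _ x

theorem P1_mem (x : CliffordAlgebra Q) : P1 Q x ∈ evenOdd Q 1 :=
  Submodule.projection_apply_mem _ x

theorem P0_add_P1 (x : CliffordAlgebra Q) : P0 Q x + P1 Q x = x :=
  Submodule.projection_add_projection_eq_self (evenOdd_isCompl Q) x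

theorem P0_of_even {x : CliffordAlgebra Q} (hx : x ∈ evenOdd Q 0) : P0 Q x = x :=
  Submodule.projection_apply_of_mem_left _ hx

theorem P0_of_odd {x : CliffordAlgebra Q} (hx : x ∈ evenOdd Q 1) : P0 Q x = 0 :=
  Submodule.projection_apply_of_mem_right _ hx

theorem P1_of_odd {x : CliffordAlgebra Q} (hx : x ∈ evenOdd Q 1) : P1 Q x = x :=
  Submodule.projection_apply_of_mem_left _ hx

theorem P1_of_even {x : CliffordAlgebra Q} (hx : x ∈ evenOdd Q 0) : P1 Q x = 0 :=
  Submodule.projection_apply_of_mem_right _ hx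

/-- the homogeneous components of a central element are central -/
theorem P_mem_center {z : CliffordAlgebra Q} (hz : z ∈ Subalgebra.center R (CliffordAlgebra Q)) :
    P0 Q z ∈ Subalgebra.center R (CliffordAlgebra Q) ∧
      P1 Q z ∈ Subalgebra.center R (CliffordAlgebra Q) := by
  rw [Subalgebra.mem_center_iff] at hz
  set z₀ := P0 Q z with hz₀
  set z₁ := P1 Q z with hz₁
  have h0 : z₀ ∈ evenOdd Q 0 := P0_mem Q z
  have h1 : z₁ ∈ evenOdd Q 1 := P1_mem Q z
  have hsum : z₀ + z₁ = z := P0_add_P1 Q z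
  -- homogeneous `y`
  have key : ∀ (j : ZMod 2) (y : CliffordAlgebra Q), y ∈ evenOdd Q j →
      y * z₀ = z₀ * y ∧ y * z₁ = z₁ * y := by
    intro j y hy
    have h := hz y
    rw [← hsum, mul_add, add_mul] at h
    have ha : y * z₀ - z₀ * y ∈ evenOdd Q j := by
      refine Submodule.sub_mem _ ?_ ?_
      · have := mul_mem_evenOdd Q hy h0
        rwa [add_zero] at this
      · have := mul_mem_evenOdd Q h0 hy
        rwa [zero_add] at this
    have hb : z₁ * y - y * z₁ ∈ evenOdd Q (j + 1) := by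
      refine Submodule.sub_mem _ ?_ ?_
      · have := mul_mem_evenOdd Q h1 hy
        rwa [add_comm] at this
      · exact mul_mem_evenOdd Q hy h1
    have hab : y * z₀ - z₀ * y = z₁ * y - y * z₁ := by
      have : y * z₀ - z₀ * y - (z₁ * y - y * z₁) = (y * z₀ + y * z₁) - (z₀ * y + z₁ * y) := by abel
      rw [← sub_eq_zero, this, h, sub_self]
    have h00 : y * z₀ - z₀ * y = 0 := evenOdd_disjoint' Q j _ ha (hab ▸ hb)
    have h11 : z₁ * y - y * z₁ = 0 := by rw [← hab, h00]
    exact ⟨sub_eq_zero.mp h00, (sub_eq_zero.mp h11).symm⟩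
  have key' : ∀ y : CliffordAlgebra Q, y * z₀ = z₀ * y ∧ y * z₁ = z₁ * y := by
    intro y
    have hy := P0_add_P1 Q y
    have k0 := key 0 _ (P0_mem Q y)
    have k1 := key 1 _ (P1_mem Q y)
    rw [← hy]
    constructor
    · rw [add_mul, mul_add, k0.1, k1.1]
    · rw [add_mul, mul_add, k0.2, k1.2]
  exact ⟨Subalgebra.mem_center_iff.mpr fun y => (key' y).1,
    Subalgebra.mem_center_iff.mpr fun y => (key' y).2⟩

/-- the odd part of the centre -/
noncomputable def Lodd : Submodule R (CliffordAlgebra Q) :=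
  Subalgebra.toSubmodule (Subalgebra.center R (CliffordAlgebra Q)) ⊓ evenOdd Q 1

theorem mem_Lodd {x : CliffordAlgebra Q} :
    x ∈ Lodd Q ↔ x ∈ Subalgebra.center R (CliffordAlgebra Q) ∧ x ∈ evenOdd Q 1 := Iff.rfl

theorem P1_mem_Lodd {z : CliffordAlgebra Q}
    (hz : z ∈ Subalgebra.center R (CliffordAlgebra Q)) : P1 Q z ∈ Lodd Q :=
  ⟨(P_mem_center Q hz).2, P1_mem Q z⟩

theorem mul_mem_of_mem_Lodd {l l' : CliffordAlgebra Q} (hl : l ∈ Lodd Q) (hl' : l' ∈ Lodd Q) :
    l * l' ∈ Subalgebra.center R (CliffordAlgebra Q) ∧ l * l' ∈ evenOdd Q 0 := by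
  refine ⟨Subalgebra.mul_mem _ hl.1 hl'.1, ?_⟩
  have := mul_mem_evenOdd Q hl.2 hl'.2
  rwa [show (1 : ZMod 2) + 1 = 0 from by decide] at this

/-- the products of two odd central elements span ... -/
noncomputable def LL : Submodule R (CliffordAlgebra Q) :=
  Submodule.span R {x | ∃ l ∈ Lodd Q, ∃ l' ∈ Lodd Q, l * l' = x}

/-- a "partition of unity" from `1 ∈ L·L` -/
theorem exists_partition (h : (1 : CliffordAlgebra Q) ∈ LL Q) :
    ∃ (n : ℕ) (l l' : Fin n → CliffordAlgebra Q), (∀ i, l i ∈ Lodd Q) ∧ (∀ i, l' i ∈ Lodd Q) ∧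
      ∑ i, l i * l' i = 1 := by
  unfold LL at h
  rw [Submodule.mem_span_set'] at h
  obtain ⟨n, r, g, hg⟩ := h
  have hex : ∀ i, ∃ l ∈ Lodd Q, ∃ l' ∈ Lodd Q, l * l' = (g i : CliffordAlgebra Q) := fun i => (g i).2
  choose l hl l' hl' hll' using hex
  refine ⟨n, fun i => r i • l i, l', fun i => Submodule.smul_mem _ _ (hl i), hl', ?_⟩
  rw [← hg]
  refine Finset.sum_congr rfl fun i _ => ?_
  rw [smul_mul_assoc, hll']

end Graded

section AlgebraMap

variable {R : Type u} [CommRing R] {M : Type v} [AddCommGroup M] [Module R M]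
  (Q : QuadraticForm R M)

theorem algebraMap_injective' [Module.Free R M] :
    Function.Injective (algebraMap R (CliffordAlgebra Q)) := by
  obtain ⟨B, hB⟩ := exists_bilin Q
  intro a b hab
  have h := congrArg (toExterior Q B hB) hab
  unfold toExterior at h
  rw [changeFormEquiv_apply, changeFormEquiv_apply, changeForm_algebraMap,
    changeForm_algebraMap] at h
  exact (ExteriorAlgebra.algebraMap_leftInverse M).injective h

end AlgebraMap

end Groth.Agent.R2.H14.Cl
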