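import Mathlib
import Groth.Prelude.Def_QuadGrp
import Groth.Agent.R2.H14ClOddCenter

/-!
# Units of a Clifford algebra normalising the module: basic facts
-/

set_option autoImplicit false
set_option linter.unusedSectionVars false

namespace Groth.Agent.R2.H14.Cl

open CliffordAlgebra
open scoped Pointwise

universe u v

section GPin

variable {R : Type u} [CommRing R] {M : Type v} [AddCommGroup M] [Module R M]
  (Q : QuadraticForm R M)

theorem mem_center_of_comm_ι' (r : CliffordAlgebra Q) (h : ∀ v, r * ι Q v = ι Q v * r) :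
    r ∈ Subalgebra.center R (CliffordAlgebra Q) := by
  rw [Subalgebra.mem_center_iff]
  intro x
  induction x using CliffordAlgebra.induction with
  | algebraMap a => exact Algebra.commutes a r
  | ι v => exact (h v).symm
  | mul a b ha hb => rw [mul_assoc, hb, ← mul_assoc, ha, mul_assoc]
  | add a b ha hb => rw [add_mul, mul_add, ha, hb]

theorem star_mem_evenOdd {x : CliffordAlgebra Q} {i : ZMod 2} (hx : x ∈ evenOdd Q i) :
    star x ∈ evenOdd Q i := by
  rw [star_def, reverse_mem_evenOdd_iff, involute_mem_evenOdd_iff]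
  exact hx

theorem gPin'_conj (u : (CliffordAlgebra Q)ˣ) (hu : u ∈ QuadGrp.GPin' Q) (v : M) :
    ∃ w, ι Q w = (u : CliffordAlgebra Q) * ι Q v * ↑u⁻¹ := by
  rw [QuadGrp.mem_GPin'] at hu
  have hmem : ConjAct.toConjAct u • ι Q v ∈ ConjAct.toConjAct u • LinearMap.range (ι Q) :=
    Submodule.smul_mem_pointwise_smul _ _ _ ⟨v, rfl⟩
  rw [hu] at hmem
  obtain ⟨w, hw⟩ := hmem
  exact ⟨w, hw.trans (ConjAct.units_smul_def _ _)⟩

/-- for `u` normalising `M`, `u⁻¹ u₀` and `u⁻¹ u₁` are central -/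
theorem inv_mul_P_mem_center (u : (CliffordAlgebra Q)ˣ) (hu : u ∈ QuadGrp.GPin' Q) :
    (↑u⁻¹ : CliffordAlgebra Q) * P0 Q u ∈ Subalgebra.center R (CliffordAlgebra Q) ∧
      (↑u⁻¹ : CliffordAlgebra Q) * P1 Q u ∈ Subalgebra.center R (CliffordAlgebra Q) := by
  set u' : CliffordAlgebra Q := (u : CliffordAlgebra Q) with hu'
  set ui : CliffordAlgebra Q := (↑u⁻¹ : CliffordAlgebra Q) with hui
  have huu : u' * ui = 1 := Units.mul_inv u
  have hiu : ui * u' = 1 := Units.inv_mul u
  set u0 := P0 Q u' with hu0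
  set u1 := P1 Q u' with hu1
  have h0 : u0 ∈ evenOdd Q 0 := P0_mem Q u'
  have h1 : u1 ∈ evenOdd Q 1 := P1_mem Q u'
  have hsum : u0 + u1 = u' := P0_add_P1 Q u'
  -- both components intertwine
  have hint : ∀ v w, ι Q w = u' * ι Q v * ui → u0 * ι Q v = ι Q w * u0 ∧ u1 * ι Q v = ι Q w * u1 := by
    intro v w hw
    have e1 : u' * ι Q v = ι Q w * u' := by
      rw [hw, mul_assoc, mul_assoc, hiu, mul_one]
    have hv : ι Q v ∈ evenOdd Q 1 := ι_mem_evenOdd_one Q v
    have hwm : ι Q w ∈ evenOdd Q 1 := ι_mem_evenOdd_one Q w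
    rw [← hsum, add_mul, mul_add] at e1
    have ha : u0 * ι Q v - ι Q w * u0 ∈ evenOdd Q 1 := by
      refine Submodule.sub_mem _ ?_ ?_
      · have := mul_mem_evenOdd Q h0 hv
        rwa [zero_add] at this
      · have := mul_mem_evenOdd Q hwm h0
        rwa [add_zero] at this
    have hb : ι Q w * u1 - u1 * ι Q v ∈ evenOdd Q (1 + 1) := by
      refine Submodule.sub_mem _ ?_ ?_
      · exact mul_mem_evenOdd Q hwm h1
      · exact mul_mem_evenOdd Q h1 hv
    have hab : u0 * ι Q v - ι Q w * u0 = ι Q w * u1 - u1 * ι Q v := by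
      have : u0 * ι Q v - ι Q w * u0 - (ι Q w * u1 - u1 * ι Q v) =
          (u0 * ι Q v + u1 * ι Q v) - (ι Q w * u0 + ι Q w * u1) := by abel
      rw [← sub_eq_zero, this, e1, sub_self]
    have h00 : u0 * ι Q v - ι Q w * u0 = 0 := evenOdd_disjoint' Q 1 _ ha (hab ▸ hb)
    have h11 : ι Q w * u1 - u1 * ι Q v = 0 := by rw [← hab, h00]
    exact ⟨sub_eq_zero.mp h00, (sub_eq_zero.mp h11).symm⟩
  have key : ∀ x : CliffordAlgebra Q,
      (∀ v w, ι Q w = u' * ι Q v * ui → x * ι Q v = ι Q w * x) →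
      ui * x ∈ Subalgebra.center R (CliffordAlgebra Q) := by
    intro x hx
    apply mem_center_of_comm_ι'
    intro v
    obtain ⟨w, hw⟩ := gPin'_conj Q u hu v
    have h2 : ui * ι Q w * u' = ι Q v := by
      rw [hw, ← mul_assoc, ← mul_assoc, hiu, one_mul, mul_assoc, hiu, mul_one]
    calc ui * x * ι Q v = ui * (x * ι Q v) := mul_assoc _ _ _
      _ = ui * (ι Q w * x) := by rw [hx v w hw]
      _ = (ui * ι Q w * u') * (ui * x) := by
        rw [mul_assoc (ui * ι Q w), ← mul_assoc u', huu, one_mul, mul_assoc]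
      _ = ι Q v * (ui * x) := by rw [h2]
  exact ⟨key u0 (fun v w hw => (hint v w hw).1), key u1 (fun v w hw => (hint v w hw).2)⟩

/-- central units normalise `M` -/
theorem central_unit_mem_GPin' (w : (CliffordAlgebra Q)ˣ)
    (hw : (w : CliffordAlgebra Q) ∈ Subalgebra.center R (CliffordAlgebra Q)) :
    w ∈ QuadGrp.GPin' Q := by
  rw [QuadGrp.mem_GPin']
  have hc : ∀ x : CliffordAlgebra Q, ConjAct.toConjAct w • x = x := by
    intro x
    rw [ConjAct.units_smul_def, ConjAct.ofConjAct_toConjAct,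
      ← (Subalgebra.mem_center_iff.mp hw) x, mul_assoc, Units.mul_inv, mul_one]
  ext x
  rw [Submodule.mem_smul_pointwise_iff_exists]
  constructor
  · rintro ⟨b, hb, rfl⟩
    rwa [hc]
  · intro hx
    exact ⟨x, hx, hc x⟩

end GPin

end Groth.Agent.R2.H14.Cl
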