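import Mathlib
import Groth.Agent.R2.H14ClOddCenter

/-!
# `Z(C) ⊗ C⁺ → C` is bijective when even central elements are scalars and `1 ∈ L·L`
-/

set_option autoImplicit false
set_option linter.unusedSectionVars false

namespace Groth.Agent.R2.H14.Cl

open CliffordAlgebra
open scoped TensorProduct

universe u v

section Mul

variable {R : Type u} [CommRing R] {M : Type v} [AddCommGroup M] [Module R M]
  (Q : QuadraticForm R M)

/-- the multiplication map `Z(C) ⊗ C⁺ → C` -/
noncomputable def μZ :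
    ↥(Subalgebra.center R (CliffordAlgebra Q)) ⊗[R] ↥(even Q) →ₗ[R] CliffordAlgebra Q :=
  TensorProduct.lift
    (((LinearMap.mul R (CliffordAlgebra Q)).comp
      (Subalgebra.center R (CliffordAlgebra Q)).val.toLinearMap).compl₂
        (CliffordAlgebra.even Q).val.toLinearMap)

theorem μZ_tmul (z : ↥(Subalgebra.center R (CliffordAlgebra Q))) (x : ↥(even Q)) :
    μZ Q (z ⊗ₜ x) = (z : CliffordAlgebra Q) * (x : CliffordAlgebra Q) := by
  unfold μZ
  rw [TensorProduct.lift.tmul]
  rfl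

variable (hb : ∀ z ∈ Subalgebra.center R (CliffordAlgebra Q), z ∈ evenOdd Q 0 →
    z ∈ (algebraMap R (CliffordAlgebra Q)).range)

include hb in
theorem μZ_bijective (h1 : (1 : CliffordAlgebra Q) ∈ LL Q) : Function.Bijective (μZ Q) := by
  obtain ⟨n, l, l', hl, hl', hsum⟩ := exists_partition Q h1
  set Z := Subalgebra.center R (CliffordAlgebra Q) with hZ
  set E := even Q with hE
  -- maps into `E`
  let e0 : CliffordAlgebra Q →ₗ[R] ↥E :=
    (Subalgebra.toSubmoduleEquiv E).toLinearMap ∘ₗ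
      LinearMap.codRestrict (Subalgebra.toSubmodule E) (P0 Q) (fun x => P0_mem Q x)
  have he0 : ∀ x, ((e0 x : ↥E) : CliffordAlgebra Q) = P0 Q x := fun x => rfl
  have hmem : ∀ i x, ((LinearMap.mulLeft R (l' i)) ∘ₗ P1 Q) x ∈ Subalgebra.toSubmodule E := by
    intro i x
    have := mul_mem_evenOdd Q (((mem_Lodd Q).mp (hl' i)).2) (P1_mem Q x)
    rwa [show (1 : ZMod 2) + 1 = 0 from by decide] at this
  let e : Fin n → CliffordAlgebra Q →ₗ[R] ↥E := fun i =>
    (Subalgebra.toSubmoduleEquiv E).toLinearMap ∘ₗ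
      LinearMap.codRestrict (Subalgebra.toSubmodule E) ((LinearMap.mulLeft R (l' i)) ∘ₗ P1 Q)
        (hmem i)
  have he : ∀ i x, ((e i x : ↥E) : CliffordAlgebra Q) = l' i * P1 Q x := fun i x => rfl
  have hlZ : ∀ i, l i ∈ Z := fun i => ((mem_Lodd Q).mp (hl i)).1
  have hlo : ∀ i, l i ∈ evenOdd Q 1 := fun i => ((mem_Lodd Q).mp (hl i)).2
  have hl'o : ∀ i, l' i ∈ evenOdd Q 1 := fun i => ((mem_Lodd Q).mp (hl' i)).2
  let lz : Fin n → ↥Z := fun i => ⟨l i, hlZ i⟩
  have hlz : ∀ i, ((lz i : ↥Z) : CliffordAlgebra Q) = l i := fun i => rfl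
  let ν : CliffordAlgebra Q →ₗ[R] ↥Z ⊗[R] ↥E :=
    (TensorProduct.mk R ↥Z ↥E 1) ∘ₗ e0 + ∑ i, (TensorProduct.mk R ↥Z ↥E (lz i)) ∘ₗ e i
  have hν : ∀ x, ν x = (1 : ↥Z) ⊗ₜ[R] e0 x + ∑ i, lz i ⊗ₜ[R] e i x := by
    intro x
    simp only [ν, LinearMap.add_apply, LinearMap.coe_comp, Function.comp_apply,
      TensorProduct.mk_apply, LinearMap.coe_sum, Finset.sum_apply]
  -- `μ ∘ ν = id`
  have h_right : ∀ x, μZ Q (ν x) = x := by
    intro x
    rw [hν, map_add, map_sum, μZ_tmul, he0]
    have : ∑ i, μZ Q (lz i ⊗ₜ[R] e i x) = (∑ i, l i * l' i) * P1 Q x := by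
      rw [Finset.sum_mul]
      refine Finset.sum_congr rfl fun i _ => ?_
      rw [μZ_tmul, he, hlz, mul_assoc]
    rw [this, hsum, one_mul, Subalgebra.coe_one, one_mul, P0_add_P1]
  -- `ν ∘ μ = id`
  have h_left : ∀ t, ν (μZ Q t) = t := by
    intro t
    induction t using TensorProduct.induction_on with
    | zero => rw [map_zero, map_zero]
    | add x y hx hy => rw [map_add, map_add, hx, hy]
    | tmul z x =>
      rw [μZ_tmul]
      obtain ⟨hz0c, hz1c⟩ := P_mem_center Q z.2
      set z₀ := P0 Q (z : CliffordAlgebra Q) with hz₀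
      set z₁ := P1 Q (z : CliffordAlgebra Q) with hz₁
      have hz01 : z₀ + z₁ = z := P0_add_P1 Q _
      have hz0e : z₀ ∈ evenOdd Q 0 := P0_mem Q _
      have hz1o : z₁ ∈ evenOdd Q 1 := P1_mem Q _
      have hz1L : z₁ ∈ Lodd Q := (mem_Lodd Q).mpr ⟨hz1c, hz1o⟩
      obtain ⟨r₀, hr₀⟩ := hb z₀ hz0c hz0e
      have hs : ∀ i, ∃ s : R, algebraMap R (CliffordAlgebra Q) s = l' i * z₁ := by
        intro i
        obtain ⟨h1, h2⟩ := mul_mem_of_mem_Lodd Q (hl' i) hz1L
        exact hb _ h1 h2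
      choose s hs using hs
      have hxe : (x : CliffordAlgebra Q) ∈ evenOdd Q 0 := x.2
      have hz0x : z₀ * (x : CliffordAlgebra Q) ∈ evenOdd Q 0 := by
        have := mul_mem_evenOdd Q hz0e hxe
        rwa [add_zero] at this
      have hz1x : z₁ * (x : CliffordAlgebra Q) ∈ evenOdd Q 1 := by
        have := mul_mem_evenOdd Q hz1o hxe
        rwa [add_zero] at this
      have hzx : (z : CliffordAlgebra Q) * x = z₀ * x + z₁ * x := by
        rw [← add_mul, hz01]
      have hP0 : P0 Q ((z : CliffordAlgebra Q) * x) = z₀ * x := by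
        rw [hzx, map_add, P0_of_even Q hz0x, P0_of_odd Q hz1x, add_zero]
      have hP1 : P1 Q ((z : CliffordAlgebra Q) * x) = z₁ * x := by
        rw [hzx, map_add, P1_of_even Q hz0x, P1_of_odd Q hz1x, zero_add]
      have h0 : e0 ((z : CliffordAlgebra Q) * x) = r₀ • x := by
        apply Subtype.ext
        rw [he0, hP0, ← hr₀, Subalgebra.coe_smul, Algebra.smul_def]
      have hi : ∀ i, e i ((z : CliffordAlgebra Q) * x) = s i • x := by
        intro i
        apply Subtype.ext
        rw [he, hP1, ← mul_assoc, ← hs, Subalgebra.coe_smul, Algebra.smul_def]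
      rw [hν, h0]
      simp only [hi]
      have hz : z = r₀ • (1 : ↥Z) + ∑ i, s i • lz i := by
        apply Subtype.ext
        rw [Subalgebra.coe_add, Subalgebra.coe_smul, Subalgebra.coe_one,
          AddSubmonoidClass.coe_finsetSum]
        have : ∑ i, ((s i • lz i : ↥Z) : CliffordAlgebra Q) = (∑ i, l i * l' i) * z₁ := by
          rw [Finset.sum_mul]
          refine Finset.sum_congr rfl fun i _ => ?_
          rw [Subalgebra.coe_smul, hlz, mul_assoc, ← hs, ← Algebra.commutes, Algebra.smul_def]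
        rw [this, hsum, one_mul, ← Algebra.algebraMap_eq_smul_one, hr₀, hz01]
      conv_rhs => rw [hz]
      rw [TensorProduct.add_tmul, TensorProduct.sum_tmul, TensorProduct.tmul_smul,
        TensorProduct.smul_tmul']
      congr 1
      refine Finset.sum_congr rfl fun i _ => ?_
      rw [TensorProduct.tmul_smul, TensorProduct.smul_tmul']
  exact ⟨Function.LeftInverse.injective h_left, Function.RightInverse.surjective h_right⟩

end Mul

end Groth.Agent.R2.H14.Cl
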