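import Mathlib
import Groth.Agent.R2.H14ClEvenCons2
import Groth.Agent.R2.H14ClOddCenter

/-!
# Consequences of a graded fppf-local structure `A' ⊗ C(Q) ≃ T` with an abstract graded target
-/

set_option autoImplicit false
set_option linter.unusedSectionVars false

namespace Groth.Agent.R2.H14.Cl

open CliffordAlgebra
open scoped TensorProduct

universe u u' v w w'

section Abs

variable {A : Type u} [CommRing A] {A' : Type u'} [CommRing A'] [Algebra A A']
  {V : Type v} [AddCommGroup V] [Module A V] (Q : QuadraticForm A V)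
  {T : Type w} [Ring T] [Algebra A' T] [Algebra A T] [IsScalarTower A A' T]
  (G : ZMod 2 → Submodule A' T)
  (hone : (1 : T) ∈ G 0) (hmul : ∀ i j x y, x ∈ G i → y ∈ G j → x * y ∈ G (i + j))
  (hdisj : ∀ y, y ∈ G 0 → y ∈ G 1 → y = 0)
  (Φ : A' ⊗[A] CliffordAlgebra Q →ₐ[A'] T)
  (hgr : ∀ v, Φ (1 ⊗ₜ ι Q v) ∈ G 1)

include hone hmul hgr in
theorem abs_tmul_mem (i : ZMod 2) (x : CliffordAlgebra Q) (hx : x ∈ evenOdd Q i) (a : A') :
    Φ (a ⊗ₜ x) ∈ G i := by
  let f : CliffordAlgebra Q →ₐ[A] T :=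
    (Φ.restrictScalars A).comp Algebra.TensorProduct.includeRight
  have hf : ∀ y, f y = Φ (1 ⊗ₜ y) := fun y => rfl
  have h1 : f x ∈ (G i).restrictScalars A := by
    refine map_evenOdd_mem (fun i => (G i).restrictScalars A) hone ?_ f
      (fun v => by rw [hf]; exact hgr v) i x hx
    intro i j x y hx hy
    exact hmul i j x y hx hy
  rw [hf] at h1
  have : a ⊗ₜ[A] x = a • ((1 : A') ⊗ₜ[A] x) := by
    rw [TensorProduct.smul_tmul', smul_eq_mul, mul_one]
  rw [this, map_smul]
  exact Submodule.smul_mem _ _ h1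

include hone hmul hgr in
theorem abs_mem_of_mem_baseChange (i : ZMod 2) (w : A' ⊗[A] CliffordAlgebra Q)
    (hw : w ∈ (evenOdd Q i).baseChange A') : Φ w ∈ G i := by
  rw [Submodule.baseChange_eq_span] at hw
  induction hw using Submodule.span_induction with
  | mem y hy =>
    obtain ⟨x, hx, rfl⟩ := hy
    exact abs_tmul_mem Q G hone hmul Φ hgr i x hx 1
  | zero => rw [map_zero]; exact Submodule.zero_mem _
  | add y z _ _ hy hz => rw [map_add]; exact Submodule.add_mem _ hy hz
  | smul a y _ hy => rw [map_smul]; exact Submodule.smul_mem _ _ hy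

variable (hΦ : Function.Bijective Φ)

include hone hmul hdisj hgr hΦ in
theorem abs_mem_baseChange_of_mem (i : ZMod 2) (w : A' ⊗[A] CliffordAlgebra Q)
    (hw : Φ w ∈ G i) : w ∈ (evenOdd Q i).baseChange A' := by
  have hsup : (evenOdd Q 0).baseChange A' ⊔ (evenOdd Q 1).baseChange A' = ⊤ :=
    baseChange_sup_eq_top _ _ (evenOdd_isCompl Q).sup_eq_top
  fin_cases i
  · exact mem_of_map_mem_of_graded Φ.toLinearMap hΦ.1 _ _ hsup _ _ hdisj
      (fun x hx => abs_mem_of_mem_baseChange Q G hone hmul Φ hgr 0 x hx)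
      (fun x hx => abs_mem_of_mem_baseChange Q G hone hmul Φ hgr 1 x hx) w hw
  · exact mem_of_map_mem_of_graded' Φ.toLinearMap hΦ.1 _ _ hsup _ _ hdisj
      (fun x hx => abs_mem_of_mem_baseChange Q G hone hmul Φ hgr 0 x hx)
      (fun x hx => abs_mem_of_mem_baseChange Q G hone hmul Φ hgr 1 x hx) w hw

include hone hmul hdisj hgr hΦ in
/-- the even part is (fppf-locally) the degree-zero part of the target -/
theorem abs_even_algEquiv [Module.Flat A A'] {T₀ : Type w'} [Ring T₀] [Algebra A' T₀]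
    (inc : T₀ →ₐ[A'] T) (hinc : Function.Injective inc)
    (hrange : ∀ X, X ∈ G 0 ↔ ∃ Y, inc Y = X) :
    Nonempty (A' ⊗[A] ↥(even Q) ≃ₐ[A'] T₀) := by
  let F₀ : A' ⊗[A] ↥(even Q) →ₐ[A'] T := Φ.comp (evenIncl Q)
  have hF₀ : Function.Injective F₀ := hΦ.1.comp (evenIncl_injective Q)
  have hr : F₀.range = inc.range := by
    ext X
    constructor
    · rintro ⟨w, rfl⟩
      obtain ⟨Y, hY⟩ := (hrange (F₀ w)).mp
        (abs_mem_of_mem_baseChange Q G hone hmul Φ hgr 0 _ (evenIncl_mem Q w))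
      exact ⟨Y, hY⟩
    · rintro ⟨Y, rfl⟩
      obtain ⟨w, hw⟩ := hΦ.2 (inc Y)
      have hmem := abs_mem_baseChange_of_mem Q G hone hmul hdisj Φ hgr hΦ 0 w
        (by rw [hw]; exact (hrange _).mpr ⟨Y, rfl⟩)
      obtain ⟨w', rfl⟩ := exists_evenIncl_eq Q w hmem
      exact ⟨w', hw⟩
  exact ⟨(AlgEquiv.ofInjective F₀ hF₀).trans
    ((Subalgebra.equivOfEq _ _ hr).trans (AlgEquiv.ofInjective inc hinc).symm)⟩

/-- `1 ⊗ z` is central when `z` is -/
theorem one_tmul_comm {z : CliffordAlgebra Q}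
    (hz : z ∈ Subalgebra.center A (CliffordAlgebra Q)) (w : A' ⊗[A] CliffordAlgebra Q) :
    w * (1 ⊗ₜ z) = (1 ⊗ₜ z) * w := by
  rw [Subalgebra.mem_center_iff] at hz
  induction w using TensorProduct.induction_on with
  | zero => rw [zero_mul, mul_zero]
  | tmul a y =>
    rw [Algebra.TensorProduct.tmul_mul_tmul, Algebra.TensorProduct.tmul_mul_tmul, mul_one,
      one_mul, hz y]
  | add y z hy hz => rw [add_mul, mul_add, hy, hz]

include hone hmul hgr hΦ in
/-- even central elements are scalars, if this holds in the target -/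
theorem abs_even_center_scalar [Module.FaithfullyFlat A A']
    (hcent : ∀ X : T, (∀ Y, Y * X = X * Y) → X ∈ G 0 → ∃ a' : A', X = algebraMap A' T a')
    (z : CliffordAlgebra Q) (hz : z ∈ Subalgebra.center A (CliffordAlgebra Q))
    (hz0 : z ∈ evenOdd Q 0) : z ∈ (algebraMap A (CliffordAlgebra Q)).range := by
  have h1 := one_tmul_comm (A' := A') Q hz
  have h2 : ∀ Y, Y * Φ (1 ⊗ₜ z) = Φ (1 ⊗ₜ z) * Y := by
    intro Y
    obtain ⟨w, rfl⟩ := hΦ.2 Y
    rw [← map_mul, ← map_mul, h1]
  obtain ⟨a', ha'⟩ := hcent _ h2 (abs_tmul_mem Q G hone hmul Φ hgr 0 z hz0 1)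
  have h3 : (1 : A') ⊗ₜ[A] z = a' ⊗ₜ 1 := by
    apply hΦ.1
    rw [ha']
    have : a' ⊗ₜ[A] (1 : CliffordAlgebra Q) = a' • (1 : A' ⊗[A] CliffordAlgebra Q) := by
      rw [Algebra.TensorProduct.one_def, TensorProduct.smul_tmul', smul_eq_mul, mul_one]
    rw [this, map_smul, map_one, Algebra.algebraMap_eq_smul_one]
  have h4 : z ∈ Subalgebra.toSubmodule (⊥ : Subalgebra A (CliffordAlgebra Q)) := by
    apply mem_of_one_tmul_mem_baseChange (A' := A')
    rw [h3]
    exact Submodule.tmul_mem_baseChange_of_mem a' (Subalgebra.one_mem _)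
  exact h4

include hone hmul hdisj hgr hΦ in
/-- `1 ∈ L · L` if the target has an odd central square root of `-1` -/
theorem abs_one_mem_LL [Module.FaithfullyFlat A A'] [Module.Free A V] [Module.Finite A V]
    (W : T) (hWc : ∀ Y, Y * W = W * Y) (hW1 : W ∈ G 1) (hWW : W * W = -1) :
    (1 : CliffordAlgebra Q) ∈ LL Q := by
  obtain ⟨ζ, hζ⟩ := hΦ.2 W
  -- `ζ` commutes with everything
  have hcomm : ∀ d : CliffordAlgebra Q, ζ * (1 ⊗ₜ d) = (1 ⊗ₜ d) * ζ := by
    intro d
    apply hΦ.1
    rw [map_mul, map_mul, hζ, hWc]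
  have hζZ := mem_baseChange_center (A' := A') ζ hcomm
  have hζ1 : ζ ∈ (evenOdd Q 1).baseChange A' :=
    abs_mem_baseChange_of_mem Q G hone hmul hdisj Φ hgr hΦ 1 ζ (by rw [hζ]; exact hW1)
  -- `ζ ∈ L.baseChange`
  have hP1a : ∀ w ∈ (evenOdd Q 1).baseChange A', (P1 Q).baseChange A' w = w := by
    intro w hw
    rw [Submodule.baseChange_eq_span] at hw
    induction hw using Submodule.span_induction with
    | mem y hy =>
      obtain ⟨x, hx, rfl⟩ := hy
      change (P1 Q).baseChange A' ((1 : A') ⊗ₜ x) = _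
      rw [LinearMap.baseChange_tmul, P1_of_odd Q hx]
      rfl
    | zero => rw [map_zero]
    | add y z _ _ hy hz => rw [map_add, hy, hz]
    | smul a y _ hy => rw [map_smul, hy]
  have hP1b : ∀ w ∈ (Subalgebra.toSubmodule (Subalgebra.center A (CliffordAlgebra Q))).baseChange A',
      (P1 Q).baseChange A' w ∈ (Lodd Q).baseChange A' := by
    intro w hw
    rw [Submodule.baseChange_eq_span] at hw
    induction hw using Submodule.span_induction with
    | mem y hy =>
      obtain ⟨x, hx, rfl⟩ := hy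
      change (P1 Q).baseChange A' ((1 : A') ⊗ₜ x) ∈ _
      rw [LinearMap.baseChange_tmul]
      exact Submodule.tmul_mem_baseChange_of_mem 1 (P1_mem_Lodd Q hx)
    | zero => rw [map_zero]; exact Submodule.zero_mem _
    | add y z _ _ hy hz => rw [map_add]; exact Submodule.add_mem _ hy hz
    | smul a y _ hy => rw [map_smul]; exact Submodule.smul_mem _ _ hy
  have hζL : ζ ∈ (Lodd Q).baseChange A' := by
    have := hP1b ζ hζZ
    rwa [hP1a ζ hζ1] at this
  -- products
  have hprod : ∀ w ∈ (Lodd Q).baseChange A', ∀ w' ∈ (Lodd Q).baseChange A',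
      w * w' ∈ (LL Q).baseChange A' := by
    intro w hw
    rw [Submodule.baseChange_eq_span] at hw
    induction hw using Submodule.span_induction with
    | mem y hy =>
      obtain ⟨l, hl, rfl⟩ := hy
      intro w' hw'
      rw [Submodule.baseChange_eq_span] at hw'
      induction hw' using Submodule.span_induction with
      | mem y' hy' =>
        obtain ⟨l', hl', rfl⟩ := hy'
        change ((1 : A') ⊗ₜ[A] l) * ((1 : A') ⊗ₜ[A] l') ∈ _
        rw [Algebra.TensorProduct.tmul_mul_tmul, mul_one]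
        exact Submodule.tmul_mem_baseChange_of_mem 1
          (Submodule.subset_span ⟨l, hl, l', hl', rfl⟩)
      | zero => rw [mul_zero]; exact Submodule.zero_mem _
      | add y z _ _ hy hz => rw [mul_add]; exact Submodule.add_mem _ hy hz
      | smul a y _ hy => rw [mul_smul_comm]; exact Submodule.smul_mem _ _ hy
    | zero => intro w' _; rw [zero_mul]; exact Submodule.zero_mem _
    | add y z _ _ hy hz =>
      intro w' hw'
      rw [add_mul]
      exact Submodule.add_mem _ (hy w' hw') (hz w' hw')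
    | smul a y _ hy =>
      intro w' hw'
      rw [smul_mul_assoc]
      exact Submodule.smul_mem _ _ (hy w' hw')
  have hζζ : ζ * ζ = -1 := by
    apply hΦ.1
    rw [map_mul, hζ, hWW, map_neg, map_one]
  apply mem_of_one_tmul_mem_baseChange (A' := A')
  have h11 : (1 : A') ⊗ₜ[A] (1 : CliffordAlgebra Q) = -(ζ * ζ) := by
    rw [hζζ, neg_neg, Algebra.TensorProduct.one_def]
  rw [h11]
  exact Submodule.neg_mem _ (hprod ζ hζL ζ hζL)

end Abs

end Groth.Agent.R2.H14.Cl
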