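import Mathlib
import Groth.Agent.Lib.Helper25HalfDisc
import Groth.Agent.R2.H14QuadMain

/-!
# Dictionary between quadratic forms on `ι → S` and matrices; the half-discriminant of a matrix
-/

set_option autoImplicit false
set_option linter.unusedSectionVars false

namespace Groth.Agent.R2.H14.Odd

open Matrix Groth.Agent.R2.H14.QuadForm

universe u v

section Basic

variable {S : Type u} [CommRing S] {ι : Type} [Fintype ι] [DecidableEq ι]

/-- the quadratic form `x ↦ xᵀ N x` -/
noncomputable def qfOf (N : Matrix ι ι S) : QuadraticForm S (ι → S) :=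
  LinearMap.BilinMap.toQuadraticMap (bil N)

theorem qfOf_apply (N : Matrix ι ι S) (x : ι → S) : qfOf N x = QF N x := rfl

theorem polar_qfOf (N : Matrix ι ι S) (x y : ι → S) :
    QuadraticMap.polar (qfOf N) x y = pf (bil N) x y := by
  simp only [QuadraticMap.polar, qfOf_apply]
  rw [QF, qf_add]
  ring

theorem qfOf_single (N : Matrix ι ι S) (i : ι) : qfOf N (Pi.single i 1) = N i i := by
  rw [qfOf_apply]
  exact qf_single N i

theorem polar_qfOf_single (N : Matrix ι ι S) (i j : ι) :
    QuadraticMap.polar (qfOf N) (Pi.single i 1) (Pi.single j 1) = N i j + N j i := by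
  rw [polar_qfOf, pf_single]

theorem qfOf_comp (N G : Matrix ι ι S) :
    (qfOf N).comp (Matrix.toLin' G) = qfOf (Gᵀ * N * G) := by
  ext x
  rw [QuadraticMap.comp_apply, qfOf_apply, qfOf_apply, QF_congr, Matrix.toLin'_apply]

theorem qfOf_map_apply {T : Type u} [CommRing T] (φ : S →+* T) (N : Matrix ι ι S) (x : ι → S) :
    qfOf (N.map φ) (φ ∘ x) = φ (qfOf N x) := by
  rw [qfOf_apply, qfOf_apply, QF_apply, QF_apply, RingHom.map_dotProduct]
  congr 1
  funext i
  rw [Function.comp_apply, RingHom.map_mulVec]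

/-- Two quadratic forms agreeing on a basis and with polar forms agreeing on pairs of basis
vectors are equal. -/
theorem qf_ext_basis {M : Type v} [AddCommGroup M] [Module S M] {κ : Type*} [LinearOrder κ]
    (b : Module.Basis κ S M) (Q₁ Q₂ : QuadraticForm S M) (h1 : ∀ i, Q₁ (b i) = Q₂ (b i))
    (h2 : ∀ i j, QuadraticMap.polar Q₁ (b i) (b j) = QuadraticMap.polar Q₂ (b i) (b j)) :
    Q₁ = Q₂ := by
  rw [← QuadraticMap.toQuadraticMap_toBilin Q₁ b, ← QuadraticMap.toQuadraticMap_toBilin Q₂ b]
  congr 1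
  refine b.ext fun i => b.ext fun j => ?_
  rw [QuadraticMap.toBilin_apply, QuadraticMap.toBilin_apply, h1, h2]

end Basic

section FinN

variable {S : Type u} [CommRing S] {n : ℕ}

theorem qfOf_eq_of_tbl_eq (N N' : Matrix (Fin n) (Fin n) S) (h1 : ∀ i, N i i = N' i i)
    (h2 : ∀ i j, N i j + N j i = N' i j + N' j i) : qfOf N = qfOf N' := by
  refine qf_ext_basis (Pi.basisFun S (Fin n)) _ _ (fun i => ?_) (fun i j => ?_)
  · rw [Pi.basisFun_apply, qfOf_single, qfOf_single, h1]
  · rw [Pi.basisFun_apply, Pi.basisFun_apply, polar_qfOf_single, polar_qfOf_single, h2]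

/-- the upper triangular matrix of a quadratic form on `Fin n → S` -/
noncomputable def matOf (Q : QuadraticForm S (Fin n → S)) : Matrix (Fin n) (Fin n) S :=
  Matrix.of fun i j => if i = j then Q (Pi.single i 1) else
    if i < j then QuadraticMap.polar Q (Pi.single i 1) (Pi.single j 1) else 0

theorem qfOf_matOf (Q : QuadraticForm S (Fin n → S)) : qfOf (matOf Q) = Q := by
  refine qf_ext_basis (Pi.basisFun S (Fin n)) _ _ (fun i => ?_) (fun i j => ?_)
  · rw [Pi.basisFun_apply, qfOf_single]
    simp [matOf]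
  · rw [Pi.basisFun_apply, Pi.basisFun_apply, polar_qfOf_single]
    simp only [matOf, Matrix.of_apply]
    rcases lt_trichotomy i j with h | h | h
    · rw [if_neg h.ne, if_pos h, if_neg h.ne', if_neg h.not_gt, add_zero]
    · subst h
      rw [if_pos rfl, QuadraticMap.polar_self, two_smul]
    · rw [if_neg h.ne', if_neg h.not_gt, if_neg h.ne, if_pos h, zero_add, QuadraticMap.polar_comm]

end FinN

section HD

open MvPolynomial QuadGrp Groth.Agent.S17014.Aux.HD Groth.Agent.Lib.Helper25.HalfDisc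

variable {S : Type u} [CommRing S] {m : ℕ}

/-- the half-discriminant of a square matrix of odd size (as a quadratic form) -/
noncomputable def hdM (N : Matrix (Fin (2 * m + 1)) (Fin (2 * m + 1)) S) : S :=
  QuadGrp.halfDisc (Pi.basisFun S (Fin (2 * m + 1))) (LinearEquiv.refl S S) (qfOf N)

theorem coeffs_qfOf (N : Matrix (Fin (2 * m + 1)) (Fin (2 * m + 1)) S) (i j : Fin (2 * m + 1)) :
    coeffs (Pi.basisFun S (Fin (2 * m + 1))) (LinearEquiv.refl S S) (qfOf N) s(i, j) =
      if i = j then N i i else N i j + N j i := by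
  rw [coeffs_mk]
  simp only [LinearEquiv.refl_apply, Pi.basisFun_apply, qfOf_single, polar_qfOf_single]

theorem hdM_congr (N G : Matrix (Fin (2 * m + 1)) (Fin (2 * m + 1)) S) :
    hdM (Gᵀ * N * G) = G.det ^ 2 * hdM N := by
  unfold hdM
  rw [← qfOf_comp, Groth.Agent.S17014.Aux.HD.main, LinearMap.det_toLin']

theorem hdM_map {T : Type u} [CommRing T] (φ : S →+* T)
    (N : Matrix (Fin (2 * m + 1)) (Fin (2 * m + 1)) S) : hdM (N.map φ) = φ (hdM N) := by
  unfold hdM
  rw [halfDisc, halfDisc]
  have hco : coeffs (Pi.basisFun T (Fin (2 * m + 1))) (LinearEquiv.refl T T) (qfOf (N.map φ)) =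
      φ ∘ coeffs (Pi.basisFun S (Fin (2 * m + 1))) (LinearEquiv.refl S S) (qfOf N) := by
    funext p
    induction p using Sym2.ind with
    | _ i j =>
      rw [Function.comp_apply, coeffs_qfOf, coeffs_qfOf]
      split_ifs
      · rfl
      · simp only [Matrix.map_apply, map_add]
  rw [hco, eval₂_comp_left]
  congr 1
  exact RingHom.ext_int _ _

theorem PM_coeffs_qfOf (N : Matrix (Fin (2 * m + 1)) (Fin (2 * m + 1)) S) :
    PM (coeffs (Pi.basisFun S (Fin (2 * m + 1))) (LinearEquiv.refl S S) (qfOf N)) = N + Nᵀ := by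
  ext k l
  simp only [PM, Matrix.of_apply, coeffs_qfOf, Matrix.add_apply, Matrix.transpose_apply]
  split_ifs with h
  · subst h
    ring
  · rfl

theorem hdM_of_row_zero (N : Matrix (Fin (2 * m + 1)) (Fin (2 * m + 1)) S) (i : Fin (2 * m + 1))
    (h0 : ∀ j, j ≠ i → N i j + N j i = 0) :
    hdM N = N i i * ((N + Nᵀ).submatrix i.succAbove i.succAbove).det := by
  unfold hdM
  rw [halfDisc, halfDisc_of_row_zero _ i]
  · rw [coeffs_qfOf, if_pos rfl, minor, PM_coeffs_qfOf]
  · intro j hj
    rw [coeffs_qfOf, if_neg (Ne.symm hj)]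
    exact h0 j hj

theorem two_mul_hdM (N : Matrix (Fin (2 * m + 1)) (Fin (2 * m + 1)) S) :
    2 * hdM N = (N + Nᵀ).det := by
  unfold hdM
  rw [halfDisc, ← PM_coeffs_qfOf, ← eval_disc, disc_eq_two_mul, eval₂_mul, eval_two]

end HD

end Groth.Agent.R2.H14.Odd
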