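import Groth.Agent.R2.H14QuadForm

/-!
# One step of the splitting of a quadratic form (helper14)
-/

universe u

namespace Groth.Agent.R2.H14.QuadForm

open Matrix

variable {C : Type u} [CommRing C] {ι : Type} [Fintype ι] [DecidableEq ι]

/-- the inclusion matrix of the coordinates outside `{i, k}` -/
def incl (C : Type u) [CommRing C] (i k : ι) : Matrix ι {x : ι // ¬ (x = i ∨ x = k)} C :=
  fun x a => if x = a.val then 1 else 0

theorem incl_transpose_mul_mul (i k : ι) (M : Matrix ι ι C) :
    (incl C i k)ᵀ * M * incl C i k = M.submatrix Subtype.val Subtype.val := by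
  ext a b
  simp only [Matrix.mul_apply, Matrix.transpose_apply, incl, Matrix.submatrix_apply]
  simp [Finset.sum_ite_eq']

theorem vecMul_incl (i k : ι) (f : ι → C) (a : {x : ι // ¬ (x = i ∨ x = k)}) :
    (f ᵥ* incl C i k) a = f a.val := by
  simp [Matrix.vecMul, dotProduct, incl, Finset.sum_ite_eq']

/-- the polar form vanishes between `{e_i, e_k}` and the other coordinates -/
def CrossZero (N : Matrix ι ι C) (i k : ι) : Prop :=
  ∀ x, ¬ (x = i ∨ x = k) → N i x + N x i = 0 ∧ N k x + N x k = 0

theorem pf_single_incl (N : Matrix ι ι C) (i k j : ι)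
    (h : ∀ x, ¬ (x = i ∨ x = k) → N j x + N x j = 0)
    (c : {x : ι // ¬ (x = i ∨ x = k)} → C) :
    pf (bil N) (Pi.single j 1) (incl C i k *ᵥ c) = 0 := by
  rw [pf_apply, Matrix.dotProduct_mulVec, Matrix.dotProduct_mulVec]
  have : (Pi.single j 1 ᵥ* (N + Nᵀ)) ᵥ* incl C i k = 0 := by
    funext a
    rw [vecMul_incl, Matrix.single_one_vecMul]
    change N j a.val + N a.val j = 0
    exact h a.val a.property
  rw [this, zero_dotProduct]

theorem bil_single (N : Matrix ι ι C) (j l : ι) :
    bil N (Pi.single j 1) (Pi.single l 1) = N j l := by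
  rw [bil_apply, Matrix.mulVec_single_one, single_one_dotProduct]
  rfl

theorem qf_single (N : Matrix ι ι C) (j : ι) : qf (bil N) (Pi.single j 1) = N j j := by
  rw [qf, bil_single]

theorem pf_single (N : Matrix ι ι C) (j l : ι) :
    pf (bil N) (Pi.single j 1) (Pi.single l 1) = N j l + N l j := by
  rw [pf, bil_single, bil_single]

/-- Splitting step: a form which is `(binary form with a root) ⊥ (split form)` is split. -/
theorem Split.step {N : Matrix ι ι C} {i k : ι} (hcross : CrossZero N i k) (r u' : C)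
    (hr : N i i * r ^ 2 + (N i k + N k i) * r + N k k = 0)
    (hu : (2 * N i i * r + (N i k + N k i)) * u' = 1) {m : ℕ}
    (hsplit : Split (N.submatrix (Subtype.val : {x : ι // ¬ (x = i ∨ x = k)} → ι) Subtype.val) m) :
    Split N (m + 1) := by
  classical
  obtain ⟨V₂, hV₂⟩ := hsplit
  set ei : ι → C := Pi.single i 1 with hei
  set ek : ι → C := Pi.single k 1 with hek
  set β := bil N with hβ
  have hqi : qf β ei = N i i := qf_single N i
  have hqk : qf β ek = N k k := qf_single N k
  have hpik : pf β ei ek = N i k + N k i := pf_single N i k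
  set v : ι → C := r • ei + ek with hv
  set w₀ : ι → C := u' • ei with hw₀
  have hqv : qf β v = 0 := qf_root β ei ek r (by rw [hqi, hqk, hpik]; exact hr)
  have hpvw₀ : pf β v w₀ = 1 := pf_root β ei ek r u' (by rw [hqi, hpik]; exact hu)
  set w : ι → C := w₀ - qf β w₀ • v with hw
  obtain ⟨hqw, hpvw⟩ := hyperbolic_pair β v w₀ hqv hpvw₀
  set J := incl C i k with hJ
  have hci : ∀ c, pf β ei (J *ᵥ c) = 0 :=
    fun c => pf_single_incl N i k i (fun x hx => (hcross x hx).1) c
  have hck : ∀ c, pf β ek (J *ᵥ c) = 0 :=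
    fun c => pf_single_incl N i k k (fun x hx => (hcross x hx).2) c
  have hvc : ∀ c, pf β v (J *ᵥ c) = 0 := by
    intro c
    rw [hv, pf_add_left, pf_smul_left, hci, hck]; ring
  have hwc : ∀ c, pf β w (J *ᵥ c) = 0 := by
    intro c
    rw [hw, pf_sub_left, pf_smul_left β (qf β w₀) v, hvc, hw₀, pf_smul_left, hci]; ring
  -- the new family of vectors
  let W : Matrix ι (Fin m ⊕ Fin m) C := J * V₂
  let V : Matrix ι (Fin (m + 1) ⊕ Fin (m + 1)) C := fun x a =>
    Sum.elim (Fin.lastCases (v x) (fun j => W x (Sum.inl j)))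
      (Fin.lastCases (w x) (fun j => W x (Sum.inr j))) a
  refine ⟨V, fun X => ?_⟩
  have hVX : V *ᵥ X = X (Sum.inl (Fin.last m)) • v + X (Sum.inr (Fin.last m)) • w +
      J *ᵥ (V₂ *ᵥ (fun a => X (Sum.map Fin.castSucc Fin.castSucc a))) := by
    funext x
    rw [Matrix.mulVec_mulVec]
    simp only [Matrix.mulVec, dotProduct, Fintype.sum_sum_type, Fin.sum_univ_castSucc, V,
      Sum.elim_inl, Sum.elim_inr, Fin.lastCases_castSucc, Fin.lastCases_last, Pi.add_apply,
      Pi.smul_apply, smul_eq_mul, Sum.map_inl, Sum.map_inr, W]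
    ring
  rw [hVX, QF, qf_hyperbolic_add β v w _ _ _ hqv hqw hpvw (hvc _) (hwc _), hyp_succ]
  congr 1
  rw [← hV₂, ← incl_transpose_mul_mul, QF_congr]

/-- columns of the elimination matrix: `e_x` for `x ∈ {i,k}`, and the projection of `e_x` to the
orthogonal complement of the plane `⟨e_i, e_k⟩` otherwise -/
noncomputable def elimCol (N : Matrix ι ι C) (i k : ι) (Δ' : C) (x : ι) : ι → C :=
  if x = i ∨ x = k then Pi.single x 1 else
    Pi.single x 1
      - (-Δ' * (2 * qf (bil N) (Pi.single k 1) * pf (bil N) (Pi.single x 1) (Pi.single i 1)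
          - pf (bil N) (Pi.single i 1) (Pi.single k 1) *
            pf (bil N) (Pi.single x 1) (Pi.single k 1))) • Pi.single i 1
      - (-Δ' * (2 * qf (bil N) (Pi.single i 1) * pf (bil N) (Pi.single x 1) (Pi.single k 1)
          - pf (bil N) (Pi.single i 1) (Pi.single k 1) *
            pf (bil N) (Pi.single x 1) (Pi.single i 1))) • Pi.single k 1

/-- the elimination matrix -/
noncomputable def elim (N : Matrix ι ι C) (i k : ι) (Δ' : C) : Matrix ι ι C :=
  fun y x => elimCol N i k Δ' x y

theorem elim_mulVec_single (N : Matrix ι ι C) (i k : ι) (Δ' : C) (x : ι) :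
    elim N i k Δ' *ᵥ Pi.single x 1 = elimCol N i k Δ' x := by
  rw [Matrix.mulVec_single_one]
  rfl

theorem congr_apply (N G : Matrix ι ι C) (a b : ι) :
    (Gᵀ * N * G) a b = bil N (G *ᵥ Pi.single a 1) (G *ᵥ Pi.single b 1) := by
  rw [← bil_congr, bil_single]

theorem elimCol_of_mem (N : Matrix ι ι C) (i k : ι) (Δ' : C) {x : ι} (hx : x = i ∨ x = k) :
    elimCol N i k Δ' x = Pi.single x 1 := by
  rw [elimCol, if_pos hx]

theorem elim_congr_apply_of_mem (N : Matrix ι ι C) (i k : ι) (Δ' : C) {a b : ι}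
    (ha : a = i ∨ a = k) (hb : b = i ∨ b = k) :
    ((elim N i k Δ')ᵀ * N * elim N i k Δ') a b = N a b := by
  rw [congr_apply, elim_mulVec_single, elim_mulVec_single, elimCol_of_mem N i k Δ' ha,
    elimCol_of_mem N i k Δ' hb, bil_single]

theorem crossZero_elim (N : Matrix ι ι C) {i k : ι} (Δ' : C)
    (hΔ : ((N i k + N k i) ^ 2 - 4 * N i i * N k k) * Δ' = 1) :
    CrossZero ((elim N i k Δ')ᵀ * N * elim N i k Δ') i k := by
  intro x hx
  have hΔ' : ((pf (bil N) (Pi.single i 1) (Pi.single k 1)) ^ 2 -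
      4 * qf (bil N) (Pi.single i 1) * qf (bil N) (Pi.single k 1)) * Δ' = 1 := by
    rw [pf_single, qf_single, qf_single]; exact hΔ
  obtain ⟨h1, h2⟩ := plane_complement (bil N) (Pi.single i 1) (Pi.single k 1) (Pi.single x 1) Δ' hΔ'
  have hcx : elimCol N i k Δ' x = _ := if_neg hx
  constructor
  · rw [congr_apply, congr_apply, elim_mulVec_single, elim_mulVec_single,
      elimCol_of_mem N i k Δ' (Or.inl rfl), hcx]
    have := h1
    rw [pf] at this
    rw [add_comm]
    exact this
  · rw [congr_apply, congr_apply, elim_mulVec_single, elim_mulVec_single,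
      elimCol_of_mem N i k Δ' (Or.inr rfl), hcx]
    have := h2
    rw [pf] at this
    rw [add_comm]
    exact this

theorem det_elim (N : Matrix ι ι C) (i k : ι) (Δ' : C) : (elim N i k Δ').det = 1 := by
  classical
  rw [Matrix.twoBlockTriangular_det (elim N i k Δ') (fun x => x = i ∨ x = k)]
  · have h1 : Matrix.toSquareBlockProp (elim N i k Δ') (fun x => x = i ∨ x = k) = 1 := by
      ext ⟨y, hy⟩ ⟨x, hx⟩
      simp only [Matrix.toSquareBlockProp_def, Matrix.of_apply, elim, elimCol, if_pos hx,
        Matrix.one_apply, Subtype.mk.injEq, Pi.single_apply]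
    have h2 : Matrix.toSquareBlockProp (elim N i k Δ') (fun x => ¬ (x = i ∨ x = k)) = 1 := by
      ext ⟨y, hy⟩ ⟨x, hx⟩
      have hyi : y ≠ i := fun h => hy (Or.inl h)
      have hyk : y ≠ k := fun h => hy (Or.inr h)
      simp only [Matrix.toSquareBlockProp_def, Matrix.of_apply, elim, elimCol, if_neg hx,
        Matrix.one_apply, Subtype.mk.injEq, Pi.single_apply, Pi.sub_apply, Pi.smul_apply,
        smul_eq_mul, if_neg hyi, if_neg hyk, mul_zero, sub_zero]
    rw [h1, h2, Matrix.det_one, Matrix.det_one, one_mul]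
  · intro y hy x hx
    have hyx : y ≠ x := fun h => hy (h ▸ hx)
    simp only [elim, elimCol, if_pos hx, Pi.single_apply, if_neg hyx]

/-- the complement block of a form with `CrossZero` is again nondegenerate -/
theorem isUnit_det_compl {N : Matrix ι ι C} {i k : ι} (hcross : CrossZero N i k)
    (hdet : IsUnit (N + Nᵀ).det) :
    IsUnit ((N.submatrix (Subtype.val : {x : ι // ¬ (x = i ∨ x = k)} → ι) Subtype.val) +
      (N.submatrix (Subtype.val : {x : ι // ¬ (x = i ∨ x = k)} → ι) Subtype.val)ᵀ).det := by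
  classical
  have h := Matrix.twoBlockTriangular_det (N + Nᵀ) (fun x => x = i ∨ x = k) (by
    intro y hy x hx
    simp only [Matrix.add_apply, Matrix.transpose_apply]
    rcases hx with rfl | rfl
    · rw [add_comm]; exact (hcross y hy).1
    · rw [add_comm]; exact (hcross y hy).2)
  rw [h] at hdet
  have h2 := isUnit_of_mul_isUnit_right hdet
  convert h2 using 2
  ext a b
  rfl

end Groth.Agent.R2.H14.QuadForm
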