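import Mathlib
import Groth.Agent.R2.H14OddDict
import Groth.Agent.R2.H14QuadStep

/-!
# Field lemma for odd rank: a hyperplane on which the polar form is nondegenerate
-/

set_option autoImplicit false
set_option linter.unusedSectionVars false

namespace Groth.Agent.R2.H14.Odd

open Matrix Groth.Agent.R2.H14.QuadForm

universe u

section Cols

variable {S : Type u} [CommRing S] {n : ℕ}

/-- the matrix whose column `j` is `v` and whose column `l ≠ j` is `e_l - lam l • v` -/
noncomputable def colMat (v lam : Fin n → S) (j : Fin n) : Matrix (Fin n) (Fin n) S :=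
  (Matrix.of fun l r => if l = j then v r else ((Pi.single l 1 : Fin n → S) - lam l • v) r)ᵀ

theorem colMat_mulVec_single (v lam : Fin n → S) (j l : Fin n) :
    colMat v lam j *ᵥ Pi.single l 1 = if l = j then v else Pi.single l 1 - lam l • v := by
  rw [Matrix.mulVec_single_one]
  funext r
  simp only [colMat, Matrix.col_apply, Matrix.transpose_apply, Matrix.of_apply]
  split_ifs <;> rfl

theorem det_colMat (v lam : Fin n → S) (j : Fin n) : (colMat v lam j).det = v j := by
  unfold colMat
  rw [Matrix.det_transpose]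
  have h := Matrix.det_eq_of_forall_row_eq_smul_add_const
    (A := Matrix.of fun l r => if l = j then v r else ((Pi.single l 1 : Fin n → S) - lam l • v) r)
    (B := (1 : Matrix (Fin n) (Fin n) S).updateRow j v)
    (fun l => if l = j then 0 else - lam l) j (if_pos rfl) ?_
  · rw [h, ← Matrix.cramer_transpose_apply, Matrix.transpose_one, Matrix.cramer_one]
    rfl
  · intro l r
    simp only [Matrix.of_apply, Matrix.updateRow_apply]
    by_cases hl : l = j
    · subst hl
      simp
    · rw [if_neg hl, if_neg hl, if_neg hl]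
      simp only [if_true, Pi.sub_apply, Pi.smul_apply, smul_eq_mul, Matrix.one_apply,
        Pi.single_apply]
      by_cases hlr : l = r
      · subst hlr
        simp
        ring
      · rw [if_neg hlr, if_neg (fun h => hlr h.symm)]
        ring

end Cols

section Field

variable {K : Type u} [Field K] {m : ℕ}

/-- the minor (delete row and column `0`) of the polar matrix -/
noncomputable def minor0 {S : Type u} [CommRing S]
    (N : Matrix (Fin (2 * m + 1)) (Fin (2 * m + 1)) S) : Matrix (Fin (2 * m)) (Fin (2 * m)) S :=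
  (N + Nᵀ).submatrix Fin.succ Fin.succ

theorem exists_vec (N : Matrix (Fin (2 * m + 1)) (Fin (2 * m + 1)) K) (h : hdM N ≠ 0) :
    ∃ (v lam : Fin (2 * m + 1) → K) (j : Fin (2 * m + 1)), v j ≠ 0 ∧
      ∀ l, l ≠ j → pf (bil N) v (Pi.single l 1 - lam l • v) = 0 := by
  by_cases h2 : (2 : K) = 0
  · have hdet : (N + Nᵀ).det = 0 := by rw [← two_mul_hdM, h2, zero_mul]
    obtain ⟨v, hv, hSv⟩ := Matrix.exists_mulVec_eq_zero_iff.mpr hdet
    obtain ⟨j, hj⟩ := Function.ne_iff.mp hv
    refine ⟨v, 0, j, hj, fun l _ => ?_⟩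
    rw [Pi.zero_apply, zero_smul, sub_zero, pf_comm, pf_apply, hSv, dotProduct_zero]
  · have hv : ∃ v, QF N v ≠ 0 := by
      by_contra hcon
      push Not at hcon
      apply h
      rw [hdM_of_row_zero N 0]
      · have := hcon (Pi.single 0 1)
        rw [QF, qf_single] at this
        rw [this, zero_mul]
      · intro l _
        have h1 := hcon (Pi.single 0 1 + Pi.single l 1)
        rw [QF, qf_add, ← QF, ← QF, hcon, hcon, pf_single] at h1
        simpa using h1
    obtain ⟨v, hv⟩ := hv
    have hpv : pf (bil N) v v ≠ 0 := by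
      rw [pf_self]
      exact mul_ne_zero h2 hv
    have hv0 : v ≠ 0 := by
      rintro rfl
      apply hv
      rw [QF, qf]
      simp
    obtain ⟨j, hj⟩ := Function.ne_iff.mp hv0
    refine ⟨v, fun l => pf (bil N) v (Pi.single l 1) / pf (bil N) v v, j, hj, fun l _ => ?_⟩
    rw [pf_sub_right, pf_smul_right]
    field_simp
    ring

/-- **Field lemma.** Over a field, a form of odd rank with nonzero half-discriminant has, after an
invertible substitution, a nonzero principal minor (deleting index `0`) of its polar matrix. -/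
theorem exists_minor_ne_zero (N : Matrix (Fin (2 * m + 1)) (Fin (2 * m + 1)) K) (h : hdM N ≠ 0) :
    ∃ G : Matrix (Fin (2 * m + 1)) (Fin (2 * m + 1)) K, G.det ≠ 0 ∧
      (minor0 (Gᵀ * N * G)).det ≠ 0 := by
  obtain ⟨v, lam, j, hvj, hlam⟩ := exists_vec N h
  set G₁ := colMat v lam j with hG₁
  have hdetG₁ : G₁.det ≠ 0 := by rw [hG₁, det_colMat]; exact hvj
  set N₁ := G₁ᵀ * N * G₁ with hN₁
  have hrow : ∀ l, l ≠ j → N₁ j l + N₁ l j = 0 := by
    intro l hl
    rw [hN₁, congr_apply, congr_apply, hG₁, colMat_mulVec_single, colMat_mulVec_single,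
      if_pos rfl, if_neg hl]
    exact hlam l hl
  have hhd : hdM N₁ ≠ 0 := by
    rw [hN₁, hdM_congr]
    exact mul_ne_zero (pow_ne_zero 2 hdetG₁) h
  rw [hdM_of_row_zero N₁ j hrow] at hhd
  have hminor : ((N₁ + N₁ᵀ).submatrix j.succAbove j.succAbove).det ≠ 0 := right_ne_zero_of_mul hhd
  -- move index `j` to `0`
  set τ : Equiv.Perm (Fin (2 * m + 1)) := (Fin.cycleRange j).symm with hτ
  refine ⟨G₁.submatrix id τ, ?_, ?_⟩
  · rw [Matrix.det_permute']
    exact mul_ne_zero (by
      rcases Int.units_eq_one_or (Equiv.Perm.sign τ) with h1 | h1 <;> rw [h1] <;> simp) hdetG₁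
  · have h1 : (G₁.submatrix id τ)ᵀ * N * (G₁.submatrix id τ) = N₁.submatrix τ τ := by
      ext a b
      simp only [hN₁, Matrix.mul_apply, Matrix.transpose_apply, Matrix.submatrix_apply, id_eq]
    rw [h1]
    have h2 : minor0 (N₁.submatrix τ τ) = (N₁ + N₁ᵀ).submatrix j.succAbove j.succAbove := by
      ext a b
      simp only [minor0, Matrix.submatrix_apply, Matrix.add_apply, Matrix.transpose_apply, hτ,
        Fin.cycleRange_symm_succ]
    rw [h2]
    exact hminor

end Field

end Groth.Agent.R2.H14.Odd
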