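import Mathlib
import Groth.Agent.R2.H14OddField

/-!
# The generic-matrix fppf cover on which a principal minor of the polar matrix becomes a unit
-/

set_option autoImplicit false
set_option linter.unusedSectionVars false

namespace Groth.Agent.R2.H14.Odd

open Matrix Groth.Agent.R2.H14.QuadForm

universe u

section Generic

variable {m : ℕ}

theorem minor0_map {S T : Type u} [CommRing S] [CommRing T] (φ : S →+* T)
    (N : Matrix (Fin (2 * m + 1)) (Fin (2 * m + 1)) S) : minor0 (N.map φ) = (minor0 N).map φ := by
  ext a b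
  simp only [minor0, Matrix.submatrix_apply, Matrix.add_apply, Matrix.transpose_apply,
    Matrix.map_apply, map_add]

theorem congrmap {S T : Type u} [CommRing S] [CommRing T] (φ : S →+* T)
    (N G : Matrix (Fin (2 * m + 1)) (Fin (2 * m + 1)) S) :
    (Gᵀ * N * G).map φ = (G.map φ)ᵀ * N.map φ * G.map φ := by
  rw [Matrix.map_mul, Matrix.map_mul, Matrix.transpose_map]

theorem det_map' {S T : Type u} [CommRing S] [CommRing T] (φ : S →+* T) {k : ℕ}
    (M : Matrix (Fin k) (Fin k) S) : (M.map φ).det = φ M.det := by
  have := RingHom.map_det φ M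
  rw [RingHom.mapMatrix_apply] at this
  exact this.symm

/-- There is a faithfully flat finitely presented algebra with an invertible substitution making
the principal minor (deleting index `0`) of the polar matrix a unit. -/
theorem exists_generic (R : Type u) [CommRing R]
    (N : Matrix (Fin (2 * m + 1)) (Fin (2 * m + 1)) R) (hN : IsUnit (hdM N)) :
    ∃ (A₁ : Type u) (_ : CommRing A₁) (_ : Algebra R A₁), Module.FaithfullyFlat R A₁ ∧
      Algebra.FinitePresentation R A₁ ∧
      ∃ G : Matrix (Fin (2 * m + 1)) (Fin (2 * m + 1)) A₁, IsUnit G.det ∧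
        IsUnit (minor0 (Gᵀ * N.map (algebraMap R A₁) * G)).det := by
  classical
  let P := MvPolynomial (Fin (2 * m + 1) × Fin (2 * m + 1)) R
  let Gp : Matrix (Fin (2 * m + 1)) (Fin (2 * m + 1)) P := Matrix.of fun i j => MvPolynomial.X (i, j)
  let Np : Matrix (Fin (2 * m + 1)) (Fin (2 * m + 1)) P := N.map (algebraMap R P)
  let f : P := Gp.det * (minor0 (Gpᵀ * Np * Gp)).det
  let A₁ := Localization.Away f
  have hflat : Module.Flat R A₁ := Module.Flat.trans R P A₁
  have hfpP : Algebra.FinitePresentation P A₁ := IsLocalization.Away.finitePresentation f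
  have hfp : Algebra.FinitePresentation R A₁ := Algebra.FinitePresentation.trans R P A₁
  refine ⟨A₁, inferInstance, inferInstance, ?_, hfp, ?_⟩
  · apply Module.FaithfullyFlat.of_comap_surjective
    intro p
    let K := p.asIdeal.ResidueField
    let Nb : Matrix (Fin (2 * m + 1)) (Fin (2 * m + 1)) K := N.map (algebraMap R K)
    have hNb : hdM Nb ≠ 0 := by
      rw [hdM_map]
      exact (hN.map (algebraMap R K)).ne_zero
    obtain ⟨Gb, hGb, hminor⟩ := exists_minor_ne_zero Nb hNb
    let ψ₀ : P →ₐ[R] K := MvPolynomial.aeval fun ij => Gb ij.1 ij.2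
    have hGp : Gp.map ψ₀ = Gb := by
      ext i j
      simp only [Gp, ψ₀, Matrix.map_apply, Matrix.of_apply]
      exact MvPolynomial.aeval_X _ _
    have hNp : Np.map ψ₀ = Nb := by
      ext i j
      simp [Np, Nb, ψ₀]
    have hψf : ψ₀ f ≠ 0 := by
      have h1 : ψ₀ f = Gb.det * (minor0 (Gbᵀ * Nb * Gb)).det := by
        show (ψ₀ : P →+* K) f = _
        simp only [f, map_mul]
        rw [← det_map', ← det_map', ← minor0_map, congrmap]
        simp only [RingHom.coe_coe, hGp, hNp]
      rw [h1]
      exact mul_ne_zero hGb hminor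
    let ψ : A₁ →+* K := IsLocalization.Away.lift (S := A₁) f (g := (ψ₀ : P →+* K))
      (isUnit_iff_ne_zero.mpr hψf)
    have hψ : ∀ x : P, ψ (algebraMap P A₁ x) = ψ₀ x := fun x => IsLocalization.Away.lift_eq _ _ x
    refine ⟨⟨RingHom.ker ψ, RingHom.ker_isPrime ψ⟩, ?_⟩
    apply PrimeSpectrum.ext
    ext r
    change algebraMap R A₁ r ∈ RingHom.ker ψ ↔ r ∈ p.asIdeal
    rw [RingHom.mem_ker, IsScalarTower.algebraMap_apply R P A₁, hψ, AlgHom.commutes,
      Ideal.algebraMap_residueField_eq_zero]
  · refine ⟨Gp.map (algebraMap P A₁), ?_, ?_⟩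
    · rw [det_map']
      have hu : IsUnit (algebraMap P A₁ f) := IsLocalization.Away.algebraMap_isUnit f
      simp only [f, map_mul] at hu
      exact isUnit_of_mul_isUnit_left hu
    · have h1 : N.map (algebraMap R A₁) = Np.map (algebraMap P A₁) := by
        ext i j
        simp only [Np, Matrix.map_apply]
        exact IsScalarTower.algebraMap_apply R P A₁ _
      rw [h1, ← congrmap, minor0_map, det_map']
      have hu : IsUnit (algebraMap P A₁ f) := IsLocalization.Away.algebraMap_isUnit f
      simp only [f, map_mul] at hu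
      exact isUnit_of_mul_isUnit_right hu

end Generic

end Groth.Agent.R2.H14.Odd
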