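import Mathlib
import Groth.Agent.R2.H14OddGeneric

/-!
# Orthogonalisation: splitting off a rank-one summand; block matrices `blk c N₀`
-/

set_option autoImplicit false
set_option linter.unusedSectionVars false

namespace Groth.Agent.R2.H14.Odd

open Matrix Groth.Agent.R2.H14.QuadForm

universe u

section Blk

variable {S : Type u} [CommRing S] {k : ℕ}

/-- the block matrix `[[c, 0], [0, N₀]]` on `Fin (k + 1)` -/
def blk (c : S) (N₀ : Matrix (Fin k) (Fin k) S) : Matrix (Fin (k + 1)) (Fin (k + 1)) S :=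
  Matrix.of fun i j => Fin.cases (Fin.cases c (fun _ => 0) j) (fun i' => Fin.cases 0 (fun j' => N₀ i' j') j) i

@[simp] theorem blk_zero_zero (c : S) (N₀ : Matrix (Fin k) (Fin k) S) : blk c N₀ 0 0 = c := rfl
@[simp] theorem blk_zero_succ (c : S) (N₀ : Matrix (Fin k) (Fin k) S) (j : Fin k) :
    blk c N₀ 0 j.succ = 0 := rfl
@[simp] theorem blk_succ_zero (c : S) (N₀ : Matrix (Fin k) (Fin k) S) (i : Fin k) :
    blk c N₀ i.succ 0 = 0 := rfl
@[simp] theorem blk_succ_succ (c : S) (N₀ : Matrix (Fin k) (Fin k) S) (i j : Fin k) :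
    blk c N₀ i.succ j.succ = N₀ i j := rfl

theorem blk_map {T : Type u} [CommRing T] (φ : S →+* T) (c : S) (N₀ : Matrix (Fin k) (Fin k) S) :
    (blk c N₀).map φ = blk (φ c) (N₀.map φ) := by
  ext i j
  refine Fin.cases ?_ (fun i' => ?_) i <;> refine Fin.cases ?_ (fun j' => ?_) j <;>
    simp [Matrix.map_apply]

theorem blk_mulVec_zero (c : S) (N₀ : Matrix (Fin k) (Fin k) S) (y : Fin (k + 1) → S) :
    (blk c N₀ *ᵥ y) 0 = c * y 0 := by
  simp [Matrix.mulVec, dotProduct, Fin.sum_univ_succ]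

theorem blk_mulVec_succ (c : S) (N₀ : Matrix (Fin k) (Fin k) S) (y : Fin (k + 1) → S)
    (i : Fin k) : (blk c N₀ *ᵥ y) i.succ = (N₀ *ᵥ fun l => y l.succ) i := by
  simp [Matrix.mulVec, dotProduct, Fin.sum_univ_succ]

theorem QF_blk (c : S) (N₀ : Matrix (Fin k) (Fin k) S) (y : Fin (k + 1) → S) :
    QF (blk c N₀) y = c * y 0 * y 0 + QF N₀ (fun l => y l.succ) := by
  rw [QF_apply, QF_apply, dotProduct, Fin.sum_univ_succ, blk_mulVec_zero]
  simp only [blk_mulVec_succ, dotProduct]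
  ring

theorem det_blk (c : S) (N₀ : Matrix (Fin k) (Fin k) S) : (blk c N₀).det = c * N₀.det := by
  rw [Matrix.det_succ_row_zero, Fin.sum_univ_succ]
  have h0 : (blk c N₀).submatrix Fin.succ (Fin.succAbove 0) = N₀ := by
    ext i j
    simp [Fin.succAbove_zero]
  rw [h0]
  simp

theorem qfOf_eq_blk (N : Matrix (Fin (k + 1)) (Fin (k + 1)) S)
    (hrow : ∀ l : Fin k, N 0 l.succ + N l.succ 0 = 0) :
    qfOf N = qfOf (blk (N 0 0) (N.submatrix Fin.succ Fin.succ)) := by
  apply qfOf_eq_of_tbl_eq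
  · intro i
    refine Fin.cases ?_ (fun i' => ?_) i <;> simp
  · intro i j
    refine Fin.cases ?_ (fun i' => ?_) i <;> refine Fin.cases ?_ (fun j' => ?_) j
    · simp
    · simpa using hrow j'
    · simpa [add_comm] using hrow i'
    · simp

end Blk

section Ortho

variable {S : Type u} [CommRing S] {m : ℕ}

theorem exists_ortho (N' : Matrix (Fin (2 * m + 1)) (Fin (2 * m + 1)) S)
    (hmin : IsUnit (minor0 N').det) :
    ∃ T : Matrix (Fin (2 * m + 1)) (Fin (2 * m + 1)) S, T.det = 1 ∧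
      (∀ l : Fin (2 * m), (Tᵀ * N' * T) 0 l.succ + (Tᵀ * N' * T) l.succ 0 = 0) ∧
      (Tᵀ * N' * T).submatrix Fin.succ Fin.succ = N'.submatrix Fin.succ Fin.succ := by
  set M₀ := minor0 N' with hM₀
  let r : Fin (2 * m) → S := fun l => (N' + N'ᵀ) l.succ 0
  let x : Fin (2 * m) → S := M₀⁻¹ *ᵥ r
  have hx : M₀ *ᵥ x = r := by
    simp only [x]
    rw [Matrix.mulVec_mulVec, Matrix.mul_nonsing_inv _ hmin, Matrix.one_mulVec]
  let xt : Fin (2 * m + 1) → S := Fin.cons 0 x
  let v : Fin (2 * m + 1) → S := Pi.single 0 1 - xt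
  let T := colMat v 0 0
  have hT0 : T *ᵥ Pi.single 0 1 = v := by
    simp only [T]
    rw [colMat_mulVec_single, if_pos rfl]
  have hTs : ∀ l : Fin (2 * m), T *ᵥ Pi.single l.succ 1 = Pi.single l.succ 1 := by
    intro l
    simp only [T]
    rw [colMat_mulVec_single, if_neg (Fin.succ_ne_zero l), Pi.zero_apply, zero_smul, sub_zero]
  refine ⟨T, ?_, ?_, ?_⟩
  · simp only [T]
    rw [det_colMat]
    simp [v, xt]
  · intro l
    rw [congr_apply, congr_apply, hT0, hTs]
    change pf (bil N') v (Pi.single l.succ 1) = 0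
    simp only [v]
    rw [pf_sub_left, pf_single, pf_apply]
    have h1 : xt ⬝ᵥ (N' + N'ᵀ) *ᵥ Pi.single l.succ 1 = r l := by
      rw [← hx, Matrix.mulVec_single_one]
      simp only [dotProduct, Fin.sum_univ_succ, xt, Fin.cons_zero, Fin.cons_succ, zero_mul, zero_add,
        Matrix.mulVec, hM₀, minor0, Matrix.submatrix_apply, Matrix.col_apply]
      refine Finset.sum_congr rfl fun k _ => ?_
      simp only [Matrix.add_apply, Matrix.transpose_apply]
      ring
    rw [h1]
    simp only [r, Matrix.add_apply, Matrix.transpose_apply]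
    ring
  · ext a b
    rw [Matrix.submatrix_apply, Matrix.submatrix_apply, congr_apply, hTs, hTs, bil_single]

theorem isUnit_corner (N'' : Matrix (Fin (2 * m + 1)) (Fin (2 * m + 1)) S)
    (hrow : ∀ l : Fin (2 * m), N'' 0 l.succ + N'' l.succ 0 = 0) (hd : IsUnit (hdM N'')) :
    IsUnit (N'' 0 0) ∧ IsUnit (minor0 N'').det := by
  have h := hdM_of_row_zero N'' 0 (fun j hj => by
    obtain ⟨l, rfl⟩ := Fin.exists_succ_eq.mpr hj
    exact hrow l)
  rw [Fin.succAbove_zero] at h
  rw [h] at hd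
  exact ⟨isUnit_of_mul_isUnit_left hd, isUnit_of_mul_isUnit_right hd⟩

end Ortho

end Groth.Agent.R2.H14.Odd
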