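import Mathlib
import Groth.Agent.R2.H14OddOrtho

/-!
# Congruence of matrix quadratic forms; translation to `QuadGrp.baseChangeForm`
-/

set_option autoImplicit false
set_option linter.unusedSectionVars false

namespace Groth.Agent.R2.H14.Odd

open Matrix Groth.Agent.R2.H14.QuadForm
open scoped TensorProduct

universe u

section Cong

variable {S : Type u} [CommRing S] {n : ℕ}

theorem qfOf_eq_iff (N N' : Matrix (Fin n) (Fin n) S) :
    qfOf N = qfOf N' ↔ (∀ i, N i i = N' i i) ∧ ∀ i j, N i j + N j i = N' i j + N' j i := by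
  constructor
  · intro h
    refine ⟨fun i => ?_, fun i j => ?_⟩
    · rw [← qfOf_single N, ← qfOf_single N', h]
    · rw [← polar_qfOf_single N, ← polar_qfOf_single N', h]
  · rintro ⟨h1, h2⟩
    exact qfOf_eq_of_tbl_eq N N' h1 h2

theorem qfOf_map_of_eq {T : Type u} [CommRing T] (φ : S →+* T) {N N' : Matrix (Fin n) (Fin n) S}
    (h : qfOf N = qfOf N') : qfOf (N.map φ) = qfOf (N'.map φ) := by
  rw [qfOf_eq_iff] at h ⊢
  refine ⟨fun i => ?_, fun i j => ?_⟩
  · simp only [Matrix.map_apply, h.1 i]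
  · simp only [Matrix.map_apply, ← map_add, h.2 i j]

/-- congruence of the quadratic forms of two matrices -/
def Cong (N N' : Matrix (Fin n) (Fin n) S) : Prop :=
  ∃ g : Matrix (Fin n) (Fin n) S, IsUnit g.det ∧ qfOf (gᵀ * N * g) = qfOf N'

theorem Cong.of_eq {N N' : Matrix (Fin n) (Fin n) S} (h : qfOf N = qfOf N') : Cong N N' :=
  ⟨1, by simp, by simpa using h⟩

theorem Cong.of_congr (N G : Matrix (Fin n) (Fin n) S) (hG : IsUnit G.det) :
    Cong N (Gᵀ * N * G) := ⟨G, hG, rfl⟩

theorem Cong.trans {N N' N'' : Matrix (Fin n) (Fin n) S} (h1 : Cong N N') (h2 : Cong N' N'') :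
    Cong N N'' := by
  obtain ⟨g₁, hg₁, e₁⟩ := h1
  obtain ⟨g₂, hg₂, e₂⟩ := h2
  refine ⟨g₁ * g₂, by rw [Matrix.det_mul]; exact hg₁.mul hg₂, ?_⟩
  have : (g₁ * g₂)ᵀ * N * (g₁ * g₂) = g₂ᵀ * (g₁ᵀ * N * g₁) * g₂ := by
    simp only [Matrix.transpose_mul, Matrix.mul_assoc]
  rw [this, ← qfOf_comp, e₁, qfOf_comp, e₂]

theorem Cong.map {T : Type u} [CommRing T] (φ : S →+* T) {N N' : Matrix (Fin n) (Fin n) S}
    (h : Cong N N') : Cong (N.map φ) (N'.map φ) := by
  obtain ⟨g, hg, e⟩ := h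
  refine ⟨g.map φ, ?_, ?_⟩
  · have := RingHom.map_det φ g
    rw [RingHom.mapMatrix_apply] at this
    rw [← this]
    exact hg.map φ
  · have := qfOf_map_of_eq φ e
    rwa [Matrix.map_mul, Matrix.map_mul, Matrix.transpose_map] at this

theorem Cong.apply {N N' : Matrix (Fin n) (Fin n) S} (h : Cong N N') :
    ∃ g : Matrix (Fin n) (Fin n) S, IsUnit g.det ∧ ∀ x, QF N (g *ᵥ x) = QF N' x := by
  obtain ⟨g, hg, e⟩ := h
  refine ⟨g, hg, fun x => ?_⟩
  rw [← QF_congr, ← qfOf_apply, e, qfOf_apply]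

end Cong

section BlkCong

variable {S : Type u} [CommRing S] {k : ℕ}

theorem blk_transpose (c : S) (N₀ : Matrix (Fin k) (Fin k) S) : (blk c N₀)ᵀ = blk c N₀ᵀ := by
  ext i j
  refine Fin.cases ?_ (fun i' => ?_) i <;> refine Fin.cases ?_ (fun j' => ?_) j <;> simp

theorem blk_mul (c c' : S) (N₀ N₀' : Matrix (Fin k) (Fin k) S) :
    blk c N₀ * blk c' N₀' = blk (c * c') (N₀ * N₀') := by
  ext i j
  refine Fin.cases ?_ (fun i' => ?_) i <;> refine Fin.cases ?_ (fun j' => ?_) j <;>
    simp [Matrix.mul_apply, Fin.sum_univ_succ]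

theorem qfOf_blk_congr (c : S) {N₀ N₀' : Matrix (Fin k) (Fin k) S} (h : qfOf N₀ = qfOf N₀') :
    qfOf (blk c N₀) = qfOf (blk c N₀') := by
  rw [qfOf_eq_iff] at h ⊢
  refine ⟨fun i => ?_, fun i j => ?_⟩
  · refine Fin.cases ?_ (fun i' => ?_) i
    · simp
    · simpa using h.1 i'
  · refine Fin.cases ?_ (fun i' => ?_) i <;> refine Fin.cases ?_ (fun j' => ?_) j
    · simp
    · simp
    · simp
    · simpa using h.2 i' j'

theorem Cong.blk (c : S) {N₀ N₀' : Matrix (Fin k) (Fin k) S} (h : Cong N₀ N₀') :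
    Cong (Odd.blk c N₀) (Odd.blk c N₀') := by
  obtain ⟨g, hg, e⟩ := h
  refine ⟨Odd.blk 1 g, ?_, ?_⟩
  · rw [det_blk, one_mul]
    exact hg
  · rw [blk_transpose, blk_mul, blk_mul, one_mul, mul_one]
    exact qfOf_blk_congr c e

theorem Cong.blk_scale (c u : S) (hu : IsUnit u) (N₀ : Matrix (Fin k) (Fin k) S) :
    Cong (Odd.blk c N₀) (Odd.blk (u * c * u) N₀) := by
  refine ⟨Odd.blk u 1, ?_, ?_⟩
  · rw [det_blk, Matrix.det_one, mul_one]
    exact hu
  · rw [blk_transpose, blk_mul, blk_mul, Matrix.transpose_one, Matrix.one_mul, Matrix.mul_one]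

end BlkCong

section Translate

variable {R : Type u} [CommRing R] {n : ℕ} (A : Type u) [CommRing A] [Algebra R A]

theorem bcf_eq (Q : QuadraticForm R (Fin n → R)) :
    QuadGrp.baseChangeForm A Q =
      (qfOf ((matOf Q).map (algebraMap R A))).comp
        (TensorProduct.piScalarRight R A A (Fin n)).toLinearMap := by
  have hσ : ∀ i : Fin n, (TensorProduct.piScalarRight R A A (Fin n))
      ((1 : A) ⊗ₜ[R] (Pi.single i 1 : Fin n → R)) = Pi.single i 1 := by
    intro i
    rw [TensorProduct.piScalarRight_apply, TensorProduct.piScalarRightHom_tmul]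
    funext j
    by_cases hj : j = i
    · subst hj; simp
    · simp [Pi.single_apply, hj]
  refine qf_ext_basis (Algebra.TensorProduct.basis A (Pi.basisFun R (Fin n))) _ _
    (fun i => ?_) (fun i j => ?_)
  · rw [Algebra.TensorProduct.basis_apply, Pi.basisFun_apply,
      Groth.Agent.Lib.Helper25.HalfDisc.baseChangeForm_one_tmul, QuadraticMap.comp_apply,
      LinearEquiv.coe_coe, hσ, qfOf_single, Matrix.map_apply]
    congr 1
    have := congrArg (fun q => q (Pi.single i 1)) (qfOf_matOf Q)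
    simp only [qfOf_single] at this
    exact this.symm
  · rw [Algebra.TensorProduct.basis_apply, Algebra.TensorProduct.basis_apply, Pi.basisFun_apply,
      Pi.basisFun_apply, Groth.Agent.Lib.Helper25.HalfDisc.polar_baseChangeForm]
    have hR : QuadraticMap.polar ((qfOf ((matOf Q).map (algebraMap R A))).comp
        (TensorProduct.piScalarRight R A A (Fin n)).toLinearMap)
        ((1 : A) ⊗ₜ[R] (Pi.single i 1 : Fin n → R)) ((1 : A) ⊗ₜ[R] (Pi.single j 1 : Fin n → R)) =
        QuadraticMap.polar (qfOf ((matOf Q).map (algebraMap R A))) (Pi.single i 1)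
          (Pi.single j 1) := by
      simp only [QuadraticMap.polar, QuadraticMap.comp_apply, LinearEquiv.coe_coe, map_add, hσ]
    rw [hR, polar_qfOf_single, Matrix.map_apply, Matrix.map_apply, ← map_add]
    congr 1
    have h2 := polar_qfOf_single (matOf Q) i j
    rw [qfOf_matOf] at h2
    exact h2

theorem isometry_of_cong (Q Q' : QuadraticForm R (Fin n → R))
    (h : Cong ((matOf Q).map (algebraMap R A)) ((matOf Q').map (algebraMap R A))) :
    Nonempty ((QuadGrp.baseChangeForm A Q).IsometryEquiv (QuadGrp.baseChangeForm A Q')) := by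
  obtain ⟨g, hg, hgx⟩ := h.apply
  let σ := TensorProduct.piScalarRight R A A (Fin n)
  have hinv : Invertible g := Matrix.invertibleOfIsUnitDet g hg
  let eg : (Fin n → A) ≃ₗ[A] (Fin n → A) := Matrix.toLinearEquiv' g hinv
  have heg : ∀ x, eg x = g *ᵥ x := fun x => Matrix.toLin'_apply g x
  let e : A ⊗[R] (Fin n → R) ≃ₗ[A] A ⊗[R] (Fin n → R) := (σ.trans eg).trans σ.symm
  have he : ∀ t, QuadGrp.baseChangeForm A Q (e t) = QuadGrp.baseChangeForm A Q' t := by
    intro t
    rw [bcf_eq A Q, bcf_eq A Q', QuadraticMap.comp_apply, QuadraticMap.comp_apply]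
    change qfOf _ (σ (σ.symm (eg (σ t)))) = qfOf _ (σ t)
    rw [σ.apply_symm_apply, heg, qfOf_apply, qfOf_apply, hgx]
  exact ⟨QuadraticMap.IsometryEquiv.symm { e with map_app' := he }⟩

end Translate

end Groth.Agent.R2.H14.Odd
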