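import Mathlib

/-!
# Adjoining a square root: a finite free (hence fppf) cover
-/

set_option autoImplicit false
set_option linter.unusedSectionVars false

namespace Groth.Agent.R2.H14.Odd

open Polynomial

universe u

theorem exists_sqrt_cover (S : Type u) [CommRing S] (c : S) :
    ∃ (S' : Type u) (_ : CommRing S') (_ : Algebra S S'), Module.FaithfullyFlat S S' ∧
      Algebra.FinitePresentation S S' ∧ ∃ r : S', r * r = algebraMap S S' c := by
  rcases subsingleton_or_nontrivial S with hS | hS
  · exact ⟨S, inferInstance, inferInstance, inferInstance, inferInstance, 0, Subsingleton.elim _ _⟩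
  let g : S[X] := X ^ 2 - C c
  have hg : g.Monic := monic_X_pow_sub_C c (by norm_num)
  refine ⟨AdjoinRoot g, inferInstance, inferInstance, ?_, inferInstance, AdjoinRoot.root g, ?_⟩
  · let pb := AdjoinRoot.powerBasis' hg
    have hdim : pb.dim = 2 := by
      simp only [pb, AdjoinRoot.powerBasis'_dim, g]
      exact natDegree_X_pow_sub_C
    have hne : Nonempty (Fin pb.dim) := by
      rw [hdim]
      exact ⟨0⟩
    exact Module.FaithfullyFlat.of_linearEquiv S (Fin pb.dim →₀ S) pb.basis.repr
  · have h := AdjoinRoot.eval₂_root g
    simp only [g, eval₂_sub, eval₂_pow, eval₂_X, eval₂_C] at h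
    rw [AdjoinRoot.algebraMap_eq, ← sub_eq_zero, ← h]
    ring

end Groth.Agent.R2.H14.Odd
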