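import Mathlib
import Groth.Agent.R2.H14OddCong
import Groth.Agent.R2.H14OddSqrt
import Groth.Agent.R2.H14ClEvenMain

/-!
# fppf-local splitting of semiregular quadratic forms of odd rank
-/

set_option autoImplicit false
set_option linter.unusedSectionVars false

namespace Groth.Agent.R2.H14.Odd

open Matrix Groth.Agent.R2.H14.QuadForm
open scoped TensorProduct

universe u

/-- composition of fppf algebras -/
theorem fppf_comp {R A B : Type u} [CommRing R] [CommRing A] [CommRing B] [Algebra R A]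
    [Algebra A B] (h1 : Module.FaithfullyFlat R A) (h2 : Algebra.FinitePresentation R A)
    (h3 : Module.FaithfullyFlat A B) (h4 : Algebra.FinitePresentation A B) :
    ∃ (_ : Algebra R B), IsScalarTower R A B ∧ Module.FaithfullyFlat R B ∧
      Algebra.FinitePresentation R B := by
  let inst : Algebra R B := ((algebraMap A B).comp (algebraMap R A)).toAlgebra
  have htower : IsScalarTower R A B := IsScalarTower.of_algebraMap_eq (fun x => rfl)
  exact ⟨inst, htower, Module.FaithfullyFlat.trans R A B, Algebra.FinitePresentation.trans R A B⟩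

section Interleave

/-- the interleaving equivalence `inl i ↦ 2i`, `inr i ↦ 2i+1` -/
def e₂ (m : ℕ) : Fin m ⊕ Fin m ≃ Fin (2 * m) where
  toFun := Sum.elim (fun i => ⟨2 * i, by have := i.isLt; omega⟩)
    (fun i => ⟨2 * i + 1, by have := i.isLt; omega⟩)
  invFun k := if k.val % 2 = 0 then Sum.inl ⟨k.val / 2, by have := k.isLt; omega⟩
    else Sum.inr ⟨k.val / 2, by have := k.isLt; omega⟩
  left_inv := by
    rintro (i | i)
    · simp only [Sum.elim_inl]
      rw [if_pos (by simp)]
      congr 1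
      ext
      simp
    · simp only [Sum.elim_inr]
      rw [if_neg (by simp)]
      congr 1
      ext
      simp
      omega
  right_inv := by
    intro k
    by_cases h : k.val % 2 = 0
    · simp only [if_pos h, Sum.elim_inl]
      ext
      simp
      omega
    · simp only [if_neg h, Sum.elim_inr]
      ext
      simp
      omega

theorem e₂_inl (m : ℕ) (i : Fin m) : ((e₂ m) (Sum.inl i)).val = 2 * i.val := rfl
theorem e₂_inr (m : ℕ) (i : Fin m) : ((e₂ m) (Sum.inr i)).val = 2 * i.val + 1 := rfl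

variable {S : Type u} [CommRing S]

theorem QF_submatrix_equiv {ι κ : Type} [Fintype ι] [DecidableEq ι] [Fintype κ] [DecidableEq κ]
    (e : κ ≃ ι) (N : Matrix ι ι S) (w : κ → S) :
    QF (N.submatrix e e) w = QF N (w ∘ e.symm) := by
  rw [QF_apply, QF_apply]
  have h1 : N.submatrix e e *ᵥ w = (N *ᵥ (w ∘ e.symm)) ∘ e := Matrix.submatrix_mulVec_equiv N w e e
  rw [h1, ← dotProduct_comp_equiv_symm]
  congr 1

/-- the hyperbolic matrix on `Fin (2m)` with `QF (Hm m) z = Σ z_{2i} z_{2i+1}` -/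
def Hm (S : Type u) [CommRing S] (m : ℕ) : Matrix (Fin (2 * m)) (Fin (2 * m)) S :=
  (hypMat S m).submatrix (e₂ m).symm (e₂ m).symm

theorem QF_Hm (m : ℕ) (z : Fin (2 * m) → S) : QF (Hm S m) z = hyp m (z ∘ e₂ m) := by
  unfold Hm
  rw [QF_submatrix_equiv, QF_hypMat]
  rfl

theorem Hm_map {T : Type u} [CommRing T] (φ : S →+* T) (m : ℕ) : (Hm S m).map φ = Hm T m := by
  ext i j
  simp only [Hm, hypMat, Matrix.map_apply, Matrix.submatrix_apply]
  rcases (e₂ m).symm i with a | a <;> rcases (e₂ m).symm j with b | b <;>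
    simp [Matrix.one_apply, apply_ite φ]

end Interleave

section Steps

variable {S : Type u} [CommRing S] {m : ℕ}

/-- Step A: split off a rank-one summand. -/
theorem exists_blk (N : Matrix (Fin (2 * m + 1)) (Fin (2 * m + 1)) S) (hN : IsUnit (hdM N))
    (G : Matrix (Fin (2 * m + 1)) (Fin (2 * m + 1)) S) (hG : IsUnit G.det)
    (hmin : IsUnit (minor0 (Gᵀ * N * G)).det) :
    ∃ (c : S) (N₀ : Matrix (Fin (2 * m)) (Fin (2 * m)) S), IsUnit c ∧ IsUnit (N₀ + N₀ᵀ).det ∧
      Cong N (blk c N₀) := by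
  set N' := Gᵀ * N * G with hN'
  have hd' : IsUnit (hdM N') := by
    rw [hN', hdM_congr]
    exact (hG.pow 2).mul hN
  obtain ⟨T, hT, hrow, hsub⟩ := exists_ortho N' hmin
  set N'' := Tᵀ * N' * T with hN''
  have hd'' : IsUnit (hdM N'') := by
    rw [hN'', hdM_congr, hT, one_pow, one_mul]
    exact hd'
  obtain ⟨hc, hmin''⟩ := isUnit_corner N'' hrow hd''
  refine ⟨N'' 0 0, N''.submatrix Fin.succ Fin.succ, hc, ?_, ?_⟩
  · have : N''.submatrix Fin.succ Fin.succ + (N''.submatrix Fin.succ Fin.succ)ᵀ = minor0 N'' := by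
      ext a b
      rfl
    rw [this]
    exact hmin''
  · exact (Cong.of_congr N G hG).trans
      ((Cong.of_congr N' T (by rw [hT]; exact isUnit_one)).trans (Cong.of_eq (qfOf_eq_blk N'' hrow)))

/-- Step B: the regular even part becomes hyperbolic fppf-locally. -/
theorem exists_even_cong (N₀ : Matrix (Fin (2 * m)) (Fin (2 * m)) S)
    (hdet : IsUnit (N₀ + N₀ᵀ).det) :
    ∃ (S' : Type u) (_ : CommRing S') (_ : Algebra S S'), Module.FaithfullyFlat S S' ∧
      Algebra.FinitePresentation S S' ∧ Cong (N₀.map (algebraMap S S')) (Hm S' m) := by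
  have hdet' : IsUnit ((N₀.submatrix (e₂ m) (e₂ m)) + (N₀.submatrix (e₂ m) (e₂ m))ᵀ).det := by
    have : (N₀.submatrix (e₂ m) (e₂ m)) + (N₀.submatrix (e₂ m) (e₂ m))ᵀ =
        (N₀ + N₀ᵀ).submatrix (e₂ m) (e₂ m) := by
      ext a b
      rfl
    rw [this, Matrix.det_submatrix_equiv_self]
    exact hdet
  obtain ⟨S', instR, instA, hff, hfp, G₂, hG₂, hsplit⟩ :=
    Groth.Agent.R2.H14.Cl.exists_fppf_split S m (N₀.submatrix (e₂ m) (e₂ m)) hdet'
  refine ⟨S', instR, instA, hff, hfp, G₂.submatrix (e₂ m).symm (e₂ m).symm, ?_, ?_⟩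
  · rw [Matrix.det_submatrix_equiv_self]
    exact hG₂
  · ext z
    rw [qfOf_apply, qfOf_apply, QF_congr, QF_Hm, ← hsplit]
    have h1 : G₂.submatrix (e₂ m).symm (e₂ m).symm *ᵥ z = (G₂ *ᵥ (z ∘ e₂ m)) ∘ (e₂ m).symm :=
      Matrix.submatrix_mulVec_equiv G₂ z (e₂ m).symm (e₂ m).symm
    rw [h1]
    have h2 := QF_submatrix_equiv (e₂ m) (N₀.map (algebraMap S S')) (G₂ *ᵥ (z ∘ e₂ m))
    rw [← h2]
    rfl

end Steps

end Groth.Agent.R2.H14.Odd
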