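import Mathlib
import Groth.Agent.R2.H14OddMain

/-!
# fppf-local splitting of semiregular quadratic forms of odd rank: assembly
-/

set_option autoImplicit false
set_option linter.unusedSectionVars false

namespace Groth.Agent.R2.H14.Odd

open Matrix Groth.Agent.R2.H14.QuadForm
open scoped TensorProduct

universe u

/-- **fppf-local splitting in odd rank (matrix form).** -/
theorem exists_odd_split_gen (R : Type u) [CommRing R] (m : ℕ)
    (N : Matrix (Fin (2 * m + 1)) (Fin (2 * m + 1)) R) (hN : IsUnit (hdM N))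
    (d : R) (hd : d * d = 1) :
    ∃ (A : Type u) (_ : CommRing A) (_ : Algebra R A), Module.FaithfullyFlat R A ∧
      Algebra.FinitePresentation R A ∧
      Cong (N.map (algebraMap R A)) (blk (algebraMap R A d) (Hm A m)) := by
  -- step 1: generic matrix
  obtain ⟨A₁, iR₁, iA₁, hff₁, hfp₁, G, hG, hmin⟩ := exists_generic R N hN
  set φ₁ := algebraMap R A₁ with hφ₁
  have hN₁ : IsUnit (hdM (N.map φ₁)) := by
    rw [hdM_map]
    exact hN.map φ₁
  obtain ⟨c, N₀, hc, hdet₀, hC₁⟩ := exists_blk (N.map φ₁) hN₁ G hG hmin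
  -- step 2: even part
  obtain ⟨A₂, iR₂, iA₂, hff₂, hfp₂, hC₂⟩ := exists_even_cong N₀ hdet₀
  set φ₁₂ := algebraMap A₁ A₂ with hφ₁₂
  -- step 3: square root
  obtain ⟨A₃, iR₃, iA₃, hff₃, hfp₃, r, hr⟩ := exists_sqrt_cover A₂ (φ₁₂ (φ₁ d) * φ₁₂ c)
  set φ₂₃ := algebraMap A₂ A₃ with hφ₂₃
  -- tower
  obtain ⟨iA₁₃, ht₁₃, hff₁₃, hfp₁₃⟩ := fppf_comp hff₂ hfp₂ hff₃ hfp₃
  obtain ⟨iA₀₃, ht₀₃, hff₀₃, hfp₀₃⟩ := fppf_comp hff₁ hfp₁ hff₁₃ hfp₁₃
  refine ⟨A₃, iR₃, iA₀₃, hff₀₃, hfp₀₃, ?_⟩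
  set φ₁₃ : A₁ →+* A₃ := algebraMap A₁ A₃ with hφ₁₃
  have hφ₁₃' : φ₁₃ = φ₂₃.comp φ₁₂ := by
    ext x
    exact IsScalarTower.algebraMap_apply A₁ A₂ A₃ x
  have hφ₀₃ : algebraMap R A₃ = φ₁₃.comp φ₁ := by
    ext x
    exact IsScalarTower.algebraMap_apply R A₁ A₃ x
  set c₃ := φ₁₃ c with hc₃
  set d₃ := algebraMap R A₃ d with hd₃
  have hd₃' : d₃ = φ₁₃ (φ₁ d) := by rw [hd₃, hφ₀₃]; rfl
  have hdd : d₃ * d₃ = 1 := by rw [hd₃, ← map_mul, hd, map_one]
  have hc₃u : IsUnit c₃ := hc.map φ₁₃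
  have hrc : r * r = d₃ * c₃ := by
    rw [hr, hc₃, hd₃', hφ₁₃']
    simp only [map_mul, RingHom.comp_apply]
  have hru : IsUnit r := by
    have h1 : IsUnit (d₃ * c₃) := (IsUnit.of_mul_eq_one _ hdd).mul hc₃u
    rw [← hrc] at h1
    exact isUnit_of_mul_isUnit_left h1
  obtain ⟨u, hu⟩ := hru.exists_left_inv
  have huu : IsUnit u := IsUnit.of_mul_eq_one _ hu
  have hucu : u * c₃ * u = d₃ := by
    have h2 : u * c₃ * u = d₃ * (u * u * (d₃ * c₃)) := by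
      linear_combination (-(u * c₃ * u)) * hdd
    rw [h2, ← hrc]
    linear_combination d₃ * (u * r + 1) * hu
  -- assemble
  have h1 : Cong (N.map (algebraMap R A₃)) (blk c₃ (N₀.map φ₁₃)) := by
    have := hC₁.map φ₁₃
    rwa [Matrix.map_map, blk_map, ← RingHom.coe_comp, ← hφ₀₃] at this
  have h2 : Cong (blk c₃ (N₀.map φ₁₃)) (blk c₃ (Hm A₃ m)) := by
    have := (hC₂.map φ₂₃).blk c₃
    rwa [Matrix.map_map, Hm_map, ← RingHom.coe_comp, ← hφ₁₃'] at this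
  have h3 : Cong (blk c₃ (Hm A₃ m)) (blk d₃ (Hm A₃ m)) := by
    have := Cong.blk_scale c₃ u huu (Hm A₃ m)
    rwa [hucu] at this
  exact h1.trans (h2.trans h3)

/-- **fppf-local splitting in odd rank (matrix form).** -/
theorem exists_odd_split (R : Type u) [CommRing R] (m : ℕ)
    (N : Matrix (Fin (2 * m + 1)) (Fin (2 * m + 1)) R) (hN : IsUnit (hdM N)) :
    ∃ (A : Type u) (_ : CommRing A) (_ : Algebra R A), Module.FaithfullyFlat R A ∧
      Algebra.FinitePresentation R A ∧ Cong (N.map (algebraMap R A)) (blk 1 (Hm A m)) := by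
  obtain ⟨A, iR, iA, hff, hfp, hC⟩ := exists_odd_split_gen R m N hN 1 (one_mul 1)
  refine ⟨A, iR, iA, hff, hfp, ?_⟩
  rwa [map_one] at hC

/-- variant with the rank-one summand `⟨-1⟩` -/
theorem exists_odd_split_neg (R : Type u) [CommRing R] (m : ℕ)
    (N : Matrix (Fin (2 * m + 1)) (Fin (2 * m + 1)) R) (hN : IsUnit (hdM N)) :
    ∃ (A : Type u) (_ : CommRing A) (_ : Algebra R A), Module.FaithfullyFlat R A ∧
      Algebra.FinitePresentation R A ∧ Cong (N.map (algebraMap R A)) (blk (-1) (Hm A m)) := by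
  obtain ⟨A, iR, iA, hff, hfp, hC⟩ := exists_odd_split_gen R m N hN (-1) (by ring)
  refine ⟨A, iR, iA, hff, hfp, ?_⟩
  rwa [map_neg, map_one] at hC

end Groth.Agent.R2.H14.Odd
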