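import Mathlib
import Groth.Agent.R2.H14OddMain2

/-!
# The standard split form of odd rank in matrix form
-/

set_option autoImplicit false
set_option linter.unusedSectionVars false

namespace Groth.Agent.R2.H14.Odd

open Matrix Groth.Agent.R2.H14.QuadForm

universe u

variable (R : Type u) [CommRing R] (m : ℕ)

theorem splitForm_odd_apply (y : Fin (2 * m + 1) → R) :
    QuadGrp.splitForm R (2 * m + 1) y = y 0 * y 0 +
      ∑ i : Fin m, y ⟨2 * i + 1, by have := i.isLt; omega⟩ *
        y ⟨2 * i + 2, by have := i.isLt; omega⟩ := by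
  have hmod : (2 * m + 1) % 2 = 1 := by omega
  have hdiv : (2 * m + 1) / 2 = m := by omega
  unfold QuadGrp.splitForm
  rw [_root_.add_apply, dif_pos hmod, add_comm]
  congr 1
  rw [_root_.sum_apply]
  refine Fintype.sum_equiv (finCongr hdiv) _ _ fun i => ?_
  simp only [QuadraticMap.linMulLin_apply, LinearMap.proj_apply, finCongr_apply, Fin.val_cast]
  congr 2 <;> (ext; simp only []; omega)

theorem splitForm_eq_qfOf : QuadGrp.splitForm R (2 * m + 1) = qfOf (blk 1 (Hm R m)) := by
  ext y
  rw [splitForm_odd_apply, qfOf_apply, QF_blk, QF_Hm, one_mul]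
  congr 1

end Groth.Agent.R2.H14.Odd
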