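import Mathlib
import Groth.Agent.R2.H14ClHyp
import Groth.Agent.R2.H14OddSplitForm

/-!
# A graded matrix model for the Clifford algebra of the split form `⟨-1⟩ ⊥ H^m` of odd rank

With `B = S[ω]/(ω² + 1)`, the Clifford algebra of `-y₀² + Σ y_{2i-1} y_{2i}` is `M_{2^m}(B)`,
its even part is `M_{2^m}(S)` and its odd part is `ω · M_{2^m}(S)`.
-/

set_option autoImplicit false
set_option linter.unusedSectionVars false

namespace Groth.Agent.R2.H14.Cl

open CliffordAlgebra Matrix Groth.Agent.R2.H14.QuadForm Groth.Agent.R2.H14.Odd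

universe u

/-- the quadratic algebra `S[ω]/(ω² + 1)` -/
abbrev BQ (S : Type u) [CommRing S] := QuadraticAlgebra S (-1 : S) (0 : S)

section Delta

variable {S : Type u} [CommRing S] {J : Type} [Fintype J] [DecidableEq J] (p : J → ZMod 2)

/-- the grading operator: the diagonal matrix with entries `(-1)^{p j}` -/
def Dl (S : Type u) [CommRing S] {J : Type} [DecidableEq J] (p : J → ZMod 2) : Matrix J J S :=
  Matrix.diagonal fun j => if p j = 0 then 1 else -1

theorem Dl_mul_Dl : Dl S p * Dl S p = 1 := by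
  unfold Dl
  rw [Matrix.diagonal_mul_diagonal, ← Matrix.diagonal_one]
  congr 1
  funext j
  split_ifs <;> simp

theorem Dl_anticomm {P : Matrix J J S} (hP : P ∈ gr S p 1) : Dl S p * P = -(P * Dl S p) := by
  ext j k
  unfold Dl
  rw [Matrix.neg_apply, Matrix.diagonal_mul, Matrix.mul_diagonal]
  by_cases h : p j + p k = 1
  · by_cases hj : p j = 0
    · have hk : p k ≠ 0 := by
        intro hk
        rw [hj, hk, add_zero] at h
        exact zero_ne_one h
      rw [if_pos hj, if_neg hk]
      ring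
    · have hk : p k = 0 := by
        have h01 : ∀ a b : ZMod 2, a + b = 1 → a ≠ 0 → b = 0 := by decide
        exact h01 _ _ h hj
      rw [if_neg hj, if_pos hk]
      ring
  · rw [hP j k h]
    ring

theorem Dl_comm {X : Matrix J J S} (hX : X ∈ gr S p 0) : Dl S p * X = X * Dl S p := by
  ext j k
  unfold Dl
  rw [Matrix.diagonal_mul, Matrix.mul_diagonal]
  by_cases h : p j + p k = 0
  · have hjk : p j = p k := by
      have := CharTwo.add_self_eq_zero (p k)
      linear_combination h - this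
    rw [hjk, mul_comm]
  · rw [hX j k h, mul_zero, zero_mul]

end Delta

section Target

variable {S : Type u} [CommRing S] {J : Type} [Fintype J] [DecidableEq J]

/-- the inclusion `M_J(S) → M_J(B)` -/
noncomputable def incl : Matrix J J S →ₐ[S] Matrix J J (BQ S) :=
  (Algebra.ofId S (BQ S)).mapMatrix

theorem incl_apply (X : Matrix J J S) (j k : J) : incl X j k = ⟨X j k, 0⟩ := rfl

theorem incl_injective : Function.Injective (incl (S := S) (J := J)) := by
  intro X Y h
  ext j k
  have := congrArg QuadraticAlgebra.re (congrFun (congrFun h j) k)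
  simpa [incl_apply] using this

/-- the scalar matrix `ω` -/
noncomputable def wI : Matrix J J (BQ S) := (QuadraticAlgebra.omega : BQ S) • (1 : Matrix J J (BQ S))

theorem wI_mul (X : Matrix J J (BQ S)) : wI * X = (QuadraticAlgebra.omega : BQ S) • X := by
  unfold wI
  rw [smul_mul_assoc, one_mul]

theorem wI_mul_apply (X : Matrix J J (BQ S)) (j k : J) :
    ((wI : Matrix J J (BQ S)) * X) j k = (⟨-(X j k).im, (X j k).re⟩ : BQ S) := by
  rw [wI_mul, Matrix.smul_apply, smul_eq_mul]
  ext <;> simp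

theorem wI_comm (X : Matrix J J (BQ S)) : wI * X = X * wI := by
  unfold wI
  rw [smul_mul_assoc, one_mul, mul_smul_comm, mul_one]

theorem wI_apply (j k : J) :
    (wI : Matrix J J (BQ S)) j k = if j = k then (⟨0, 1⟩ : BQ S) else 0 := by
  unfold wI
  rw [Matrix.smul_apply, smul_eq_mul, Matrix.one_apply]
  split_ifs
  · rw [mul_one]; rfl
  · rw [mul_zero]

theorem wI_mul_wI : (wI : Matrix J J (BQ S)) * wI = -1 := by
  apply Matrix.ext
  intro j k
  rw [wI_mul_apply, wI_apply, Matrix.neg_apply, Matrix.one_apply]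
  split_ifs <;> ext <;> simp [QuadraticAlgebra.re_one, QuadraticAlgebra.im_one]

theorem eq_incl_add (X : Matrix J J (BQ S)) :
    X = incl (X.map QuadraticAlgebra.re) + wI * incl (X.map QuadraticAlgebra.im) := by
  ext j k
  · rw [Matrix.add_apply, wI_mul_apply]
    simp [incl_apply]
  · rw [Matrix.add_apply, wI_mul_apply]
    simp [incl_apply]

/-- even part of `M_J(B)`: entries in `S` -/
def GB0 (S : Type u) [CommRing S] (J : Type) : Submodule S (Matrix J J (BQ S)) where
  carrier := {X | ∀ j k, (X j k).im = 0}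
  add_mem' := by
    intro X Y hX hY j k
    rw [Matrix.add_apply, QuadraticAlgebra.im_add, hX j k, hY j k, add_zero]
  zero_mem' := by
    intro j k
    rfl
  smul_mem' := by
    intro c X hX j k
    rw [Matrix.smul_apply, QuadraticAlgebra.im_smul, hX j k, smul_zero]

/-- odd part of `M_J(B)`: entries in `S ω` -/
def GB1 (S : Type u) [CommRing S] (J : Type) : Submodule S (Matrix J J (BQ S)) where
  carrier := {X | ∀ j k, (X j k).re = 0}
  add_mem' := by
    intro X Y hX hY j k
    rw [Matrix.add_apply, QuadraticAlgebra.re_add, hX j k, hY j k, add_zero]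
  zero_mem' := by
    intro j k
    rfl
  smul_mem' := by
    intro c X hX j k
    rw [Matrix.smul_apply, QuadraticAlgebra.re_smul, hX j k, smul_zero]

/-- the grading of `M_J(B)` -/
def GB (S : Type u) [CommRing S] (J : Type) (i : ZMod 2) : Submodule S (Matrix J J (BQ S)) :=
  if i = 0 then GB0 S J else GB1 S J

theorem GB_zero : GB S J 0 = GB0 S J := if_pos rfl
theorem GB_one : GB S J 1 = GB1 S J := if_neg (by decide)

theorem mem_GB0 {X : Matrix J J (BQ S)} : X ∈ GB0 S J ↔ ∀ j k, (X j k).im = 0 := Iff.rfl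
theorem mem_GB1 {X : Matrix J J (BQ S)} : X ∈ GB1 S J ↔ ∀ j k, (X j k).re = 0 := Iff.rfl

theorem re_sum {ι : Type*} (s : Finset ι) (f : ι → BQ S) :
    (∑ i ∈ s, f i).re = ∑ i ∈ s, (f i).re :=
  map_sum (QuadraticAlgebra.reₗ (-1 : S) 0) f s

theorem im_sum {ι : Type*} (s : Finset ι) (f : ι → BQ S) :
    (∑ i ∈ s, f i).im = ∑ i ∈ s, (f i).im :=
  map_sum (QuadraticAlgebra.imₗ (-1 : S) 0) f s

theorem one_mem_GB : (1 : Matrix J J (BQ S)) ∈ GB S J 0 := by
  rw [GB_zero, mem_GB0]
  intro j k
  by_cases h : j = k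
  · subst h
    rw [Matrix.one_apply_eq]
    rfl
  · rw [Matrix.one_apply_ne h]
    rfl

theorem mul_mem_GB (i i' : ZMod 2) (X Y : Matrix J J (BQ S)) (hX : X ∈ GB S J i)
    (hY : Y ∈ GB S J i') : X * Y ∈ GB S J (i + i') := by
  fin_cases i <;> fin_cases i'
  · change X ∈ GB S J 0 at hX
    change Y ∈ GB S J 0 at hY
    change X * Y ∈ GB S J 0
    rw [GB_zero, mem_GB0] at *
    intro j l
    rw [Matrix.mul_apply, im_sum]
    refine Finset.sum_eq_zero fun k _ => ?_
    rw [QuadraticAlgebra.im_mul, hX j k, hY k l]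
    ring
  · change X ∈ GB S J 0 at hX
    change Y ∈ GB S J 1 at hY
    change X * Y ∈ GB S J 1
    rw [GB_zero, mem_GB0] at hX
    rw [GB_one, mem_GB1] at hY ⊢
    intro j l
    rw [Matrix.mul_apply, re_sum]
    refine Finset.sum_eq_zero fun k _ => ?_
    rw [QuadraticAlgebra.re_mul, hX j k, hY k l]
    ring
  · change X ∈ GB S J 1 at hX
    change Y ∈ GB S J 0 at hY
    change X * Y ∈ GB S J 1
    rw [GB_zero, mem_GB0] at hY
    rw [GB_one, mem_GB1] at hX ⊢
    intro j l
    rw [Matrix.mul_apply, re_sum]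
    refine Finset.sum_eq_zero fun k _ => ?_
    rw [QuadraticAlgebra.re_mul, hX j k, hY k l]
    ring
  · change X ∈ GB S J 1 at hX
    change Y ∈ GB S J 1 at hY
    change X * Y ∈ GB S J 0
    rw [GB_one, mem_GB1] at hX hY
    rw [GB_zero, mem_GB0]
    intro j l
    rw [Matrix.mul_apply, im_sum]
    refine Finset.sum_eq_zero fun k _ => ?_
    rw [QuadraticAlgebra.im_mul, hX j k, hY k l]
    ring

theorem GB_disjoint (X : Matrix J J (BQ S)) (h0 : X ∈ GB S J 0) (h1 : X ∈ GB S J 1) : X = 0 := by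
  rw [GB_zero, mem_GB0] at h0
  rw [GB_one, mem_GB1] at h1
  ext j k
  · exact h1 j k
  · exact h0 j k

theorem incl_mem_GB (X : Matrix J J S) : incl X ∈ GB S J 0 := by
  rw [GB_zero, mem_GB0]
  intro j k
  rfl

theorem exists_incl_eq (X : Matrix J J (BQ S)) (hX : X ∈ GB S J 0) : ∃ Y, incl Y = X := by
  rw [GB_zero, mem_GB0] at hX
  refine ⟨X.map QuadraticAlgebra.re, ?_⟩
  ext j k
  · rfl
  · exact (hX j k).symm

theorem wI_mem_GB : (wI : Matrix J J (BQ S)) ∈ GB S J 1 := by
  rw [GB_one, mem_GB1]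
  intro j k
  rw [wI_apply]
  split_ifs <;> rfl

theorem wI_mul_incl_mem_GB (X : Matrix J J S) : wI * incl X ∈ GB S J 1 := by
  have := mul_mem_GB 1 0 _ _ (wI_mem_GB (S := S) (J := J)) (incl_mem_GB X)
  rwa [add_zero] at this

end Target

end Groth.Agent.R2.H14.Cl
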