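import Mathlib
import Groth.Agent.R2.H14ClOddModel

/-!
# The Clifford algebra of `⟨-1⟩ ⊥ H^m` is `M_{2^m}(S[ω]/(ω²+1))`, compatibly with gradings
-/

set_option autoImplicit false
set_option linter.unusedSectionVars false

namespace Groth.Agent.R2.H14.Cl

open CliffordAlgebra Matrix Groth.Agent.R2.H14.QuadForm Groth.Agent.R2.H14.Odd

universe u

section Model

variable {S : Type u} [CommRing S] (m : ℕ)

/-- the split form `-y₀² + Σ y_{2i+1} y_{2i+2}` -/
noncomputable abbrev Qs (S : Type u) [CommRing S] (m : ℕ) :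
    QuadraticForm S (Fin (2 * m + 1) → S) :=
  qfOf (blk (-1 : S) (Hm S m))

/-- projection to the hyperbolic coordinates -/
noncomputable def πv (S : Type u) [CommRing S] (m : ℕ) :
    (Fin (2 * m + 1) → S) →ₗ[S] (Fin m ⊕ Fin m → S) :=
  LinearMap.funLeft S S (fun a => Fin.succ (e₂ m a))

theorem πv_apply (y : Fin (2 * m + 1) → S) (a : Fin m ⊕ Fin m) :
    πv S m y a = y (Fin.succ (e₂ m a)) := rfl

theorem Qs_apply (y : Fin (2 * m + 1) → S) :
    Qs S m y = -(y 0 * y 0) + hyp m (πv S m y) := by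
  rw [qfOf_apply, QF_blk, QF_Hm]
  have : (fun l => y (Fin.succ l)) ∘ (e₂ m) = πv S m y := rfl
  rw [this]
  ring

/-- extension by zero of a hyperbolic vector -/
noncomputable def extv (S : Type u) [CommRing S] (m : ℕ) (v : Fin m ⊕ Fin m → S) :
    Fin (2 * m + 1) → S :=
  fun i => Fin.cases 0 (fun l => v ((e₂ m).symm l)) i

theorem extv_zero (v : Fin m ⊕ Fin m → S) : extv S m v 0 = 0 := rfl

theorem πv_extv (v : Fin m ⊕ Fin m → S) : πv S m (extv S m v) = v := by
  funext a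
  rw [πv_apply]
  unfold extv
  simp

theorem πv_single_zero : πv S m (Pi.single 0 1) = 0 := by
  funext a
  rw [πv_apply, Pi.single_apply, if_neg (Fin.succ_ne_zero _)]
  rfl

variable {J : Type} [Fintype J] [DecidableEq J] (p : J → ZMod 2)
  (Ψ : CliffordAlgebra (hypForm S m) →ₐ[S] Matrix J J S)

/-- the matrix `y₀ Δ + Ψ(v) Δ` -/
noncomputable def θ₀ : (Fin (2 * m + 1) → S) →ₗ[S] Matrix J J S :=
  (LinearMap.proj (0 : Fin (2 * m + 1))).smulRight (Dl S p) +
    (LinearMap.mulRight S (Dl S p)) ∘ₗ Ψ.toLinearMap ∘ₗ (ι (hypForm S m)) ∘ₗ (πv S m)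

theorem θ₀_apply (y : Fin (2 * m + 1) → S) :
    θ₀ m p Ψ y = y 0 • Dl S p + Ψ (ι _ (πv S m y)) * Dl S p := rfl

variable (hgr : ∀ v, Ψ (ι _ v) ∈ gr S p 1)

include hgr in
theorem θ₀_sq (y : Fin (2 * m + 1) → S) :
    θ₀ m p Ψ y * θ₀ m p Ψ y = (y 0 * y 0 - hyp m (πv S m y)) • (1 : Matrix J J S) := by
  rw [θ₀_apply]
  set P := Ψ (ι _ (πv S m y)) with hP
  set D := Dl S p with hD
  have hDD : D * D = 1 := Dl_mul_Dl p
  have hDP : D * P = -(P * D) := Dl_anticomm p (hgr _)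
  have hPP : P * P = hyp m (πv S m y) • (1 : Matrix J J S) := by
    rw [hP, ← map_mul, ι_sq_scalar, AlgHom.commutes, hypForm_apply,
      Algebra.algebraMap_eq_smul_one]
  have h1 : D * (P * D) = -P := by
    rw [← mul_assoc, hDP, neg_mul, mul_assoc, hDD, mul_one]
  have h2 : P * D * D = P := by
    rw [mul_assoc, hDD, mul_one]
  have h3 : P * D * (P * D) = -(P * P) := by
    rw [mul_assoc, h1, mul_neg]
  rw [add_mul, mul_add, mul_add, smul_mul_smul_comm, hDD, smul_mul_assoc, h1, mul_smul_comm, h2, h3,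
    hPP, sub_smul, smul_neg]
  abel

theorem wI_mul_mul_wI_mul (X Y : Matrix J J (BQ S)) : wI * X * (wI * Y) = -(X * Y) := by
  calc wI * X * (wI * Y) = wI * ((X * wI) * Y) := by noncomm_ring
    _ = wI * ((wI * X) * Y) := by rw [wI_comm X]
    _ = (wI * wI) * (X * Y) := by noncomm_ring
    _ = -(X * Y) := by rw [wI_mul_wI, neg_mul, one_mul]

/-- the generators of the model -/
noncomputable def θ : (Fin (2 * m + 1) → S) →ₗ[S] Matrix J J (BQ S) :=
  (LinearMap.mulLeft S (wI : Matrix J J (BQ S))) ∘ₗ (incl (S := S) (J := J)).toLinearMap ∘ₗ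
    θ₀ m p Ψ

theorem θ_apply (y : Fin (2 * m + 1) → S) : θ m p Ψ y = wI * incl (θ₀ m p Ψ y) := rfl

include hgr in
theorem θ_sq (y : Fin (2 * m + 1) → S) :
    θ m p Ψ y * θ m p Ψ y = algebraMap S (Matrix J J (BQ S)) (Qs S m y) := by
  rw [θ_apply, wI_mul_mul_wI_mul, ← map_mul, θ₀_sq m p Ψ hgr, map_smul, map_one, Qs_apply,
    Algebra.algebraMap_eq_smul_one, ← neg_smul]
  congr 1
  ring

/-- the model map `C(⟨-1⟩ ⊥ H^m) → M_J(B)` -/
noncomputable def Θ₀ : CliffordAlgebra (Qs S m) →ₐ[S] Matrix J J (BQ S) :=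
  CliffordAlgebra.lift (Qs S m) ⟨θ m p Ψ, θ_sq m p Ψ hgr⟩

theorem Θ₀_ι (y : Fin (2 * m + 1) → S) : Θ₀ m p Ψ hgr (ι _ y) = θ m p Ψ y :=
  CliffordAlgebra.lift_ι_apply _ _ y

theorem Θ₀_ι_mem (y : Fin (2 * m + 1) → S) : Θ₀ m p Ψ hgr (ι _ y) ∈ GB S J 1 := by
  rw [Θ₀_ι, θ_apply]
  exact wI_mul_incl_mem_GB _

theorem Θ₀_surjective (hΨ : Function.Surjective Ψ) : Function.Surjective (Θ₀ m p Ψ hgr) := by
  set F := Θ₀ m p Ψ hgr with hF
  have hDD : Dl S p * Dl S p = 1 := Dl_mul_Dl p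
  have h0 : wI * incl (Dl S p) ∈ F.range := by
    refine (AlgHom.mem_range _).mpr ⟨ι _ (Pi.single 0 1), ?_⟩
    rw [hF, Θ₀_ι, θ_apply, θ₀_apply, πv_single_zero, map_zero, map_zero, zero_mul, add_zero,
      Pi.single_eq_same, one_smul]
  have hv : ∀ v, wI * incl (Ψ (ι _ v) * Dl S p) ∈ F.range := by
    intro v
    refine (AlgHom.mem_range _).mpr ⟨ι _ (extv S m v), ?_⟩
    rw [hF, Θ₀_ι, θ_apply, θ₀_apply, πv_extv, extv_zero, zero_smul, zero_add]
  have hP : ∀ v, incl (Ψ (ι _ v)) ∈ F.range := by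
    intro v
    have h := Subalgebra.mul_mem _ h0 (hv v)
    have e : wI * incl (Dl S p) * (wI * incl (Ψ (ι _ v) * Dl S p)) = incl (Ψ (ι _ v)) := by
      have hDP := Dl_anticomm p (hgr v)
      rw [wI_mul_mul_wI_mul, ← map_mul, ← map_neg]
      congr 1
      rw [← mul_assoc, hDP, neg_mul, mul_assoc, hDD, mul_one, neg_neg]
    rwa [e] at h
  have hall : ∀ x : CliffordAlgebra (hypForm S m), incl (Ψ x) ∈ F.range := by
    intro x
    induction x using CliffordAlgebra.induction with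
    | algebraMap r =>
      rw [AlgHom.commutes, AlgHom.commutes]
      exact Subalgebra.algebraMap_mem _ r
    | ι v => exact hP v
    | mul a b ha hb =>
      rw [map_mul, map_mul]
      exact Subalgebra.mul_mem _ ha hb
    | add a b ha hb =>
      rw [map_add, map_add]
      exact Subalgebra.add_mem _ ha hb
  have hincl : ∀ X, incl X ∈ F.range := by
    intro X
    obtain ⟨x, rfl⟩ := hΨ X
    exact hall x
  have hw : (wI : Matrix J J (BQ S)) ∈ F.range := by
    have h := Subalgebra.mul_mem _ h0 (hincl (Dl S p))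
    rwa [mul_assoc, ← map_mul, hDD, map_one, mul_one] at h
  intro X
  have hX : X ∈ F.range := by
    rw [eq_incl_add X]
    exact Subalgebra.add_mem _ (hincl _) (Subalgebra.mul_mem _ hw (hincl _))
  exact hX

theorem Θ₀_bijective (hΨ : Function.Surjective Ψ) (hJ : Fintype.card J = 2 ^ m) :
    Function.Bijective (Θ₀ m p Ψ hgr) := by
  refine bijective_of_surjective_of_card
    (basis (Pi.basisFun S (Fin (2 * m + 1))) (Qs S m))
    (Module.Basis.matrix J J (QuadraticAlgebra.basis (-1 : S) 0)) ?_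
    (Θ₀ m p Ψ hgr).toLinearMap (Θ₀_surjective m p Ψ hgr hΨ)
  rw [Fintype.card_finset, Fintype.card_fin, Fintype.card_prod, Fintype.card_prod, hJ,
    Fintype.card_fin]
  ring

end Model

end Groth.Agent.R2.H14.Cl
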