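import Mathlib
import Groth.Agent.R2.H14ClEvenMain
import Groth.Agent.R2.H14ClOddModel2
import Groth.Agent.R2.H14ClOddCons
import Groth.Agent.R2.H14ClOddCenter2

/-!
# Semiregular quadratic forms of odd rank: fppf-local graded structure of the Clifford algebra
-/

set_option autoImplicit false
set_option linter.unusedSectionVars false

namespace Groth.Agent.R2.H14.Cl

open CliffordAlgebra Matrix Groth.Agent.R2.H14.QuadForm Groth.Agent.R2.H14.Odd
open scoped TensorProduct

universe u v

section Comparison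

/-- the comparison map attached to a congruence of matrices after base change -/
theorem exists_comparison {R : Type u} [CommRing R] {A' : Type u} [CommRing A'] [Algebra R A']
    {M : Type v} [AddCommGroup M] [Module R M] {ι : Type} [Fintype ι] [DecidableEq ι]
    (b : Module.Basis ι R M) (Q : QuadraticForm R M) (N : Matrix ι ι R)
    (hN : ∀ v, Q v = QF N (b.equivFun v))
    (N' : Matrix ι ι A') (G : Matrix ι ι A') (hGdet : IsUnit G.det)
    (hG : ∀ x, QF (N.map (algebraMap R A')) (G *ᵥ x) = QF N' x) :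
    ∃ c : M →ₗ[R] (ι → A'), (∀ v, QF N' (c v) = algebraMap R A' (Q v)) ∧
      Submodule.span A' (Set.range c) = ⊤ := by
  have hGinv : G * G⁻¹ = 1 := Matrix.mul_nonsing_inv G hGdet
  let coord : M →ₗ[R] (ι → A') :=
    LinearMap.pi fun i => (Algebra.linearMap R A') ∘ₗ (b.coord i)
  have hcoord : ∀ v, coord v = (algebraMap R A') ∘ (b.equivFun v) := by
    intro v
    funext i
    rfl
  let c : M →ₗ[R] (ι → A') := ((Matrix.toLin' G⁻¹).restrictScalars R) ∘ₗ coord
  have hcv : ∀ v, c v = G⁻¹ *ᵥ ((algebraMap R A') ∘ (b.equivFun v)) := by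
    intro v
    simp only [c, LinearMap.coe_comp, Function.comp_apply, LinearMap.coe_restrictScalars,
      Matrix.toLin'_apply, hcoord]
  refine ⟨c, ?_, ?_⟩
  · intro v
    rw [hcv, ← hG, Matrix.mulVec_mulVec, hGinv, Matrix.one_mulVec, hN, QF_map]
  · rw [eq_top_iff]
    intro w _
    have hw : w = ∑ i, (G *ᵥ w) i • c (b i) := by
      have h1 : ∀ i, c (b i) = G⁻¹ *ᵥ Pi.single i 1 := by
        intro i
        rw [hcv]
        congr 1
        funext j
        simp only [Function.comp_apply, Module.Basis.equivFun_apply, Module.Basis.repr_self]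
        rw [Finsupp.single_apply, Pi.single_apply]
        split_ifs with h1 h2 h2
        · exact map_one _
        · exact absurd h1.symm h2
        · exact absurd h2.symm h1
        · exact map_zero _
      have h2 : w = G⁻¹ *ᵥ (G *ᵥ w) := by
        rw [Matrix.mulVec_mulVec, Matrix.nonsing_inv_mul G hGdet, Matrix.one_mulVec]
      calc w = G⁻¹ *ᵥ (G *ᵥ w) := h2
        _ = G⁻¹ *ᵥ (∑ i, (G *ᵥ w) i • (Pi.single i 1 : ι → A')) := by
          rw [← pi_eq_sum_univ' (G *ᵥ w)]
        _ = ∑ i, (G *ᵥ w) i • c (b i) := by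
          rw [Matrix.mulVec_sum]
          refine Finset.sum_congr rfl fun i _ => ?_
          rw [Matrix.mulVec_smul, h1]
    rw [hw]
    exact Submodule.sum_mem _ fun i _ => Submodule.smul_mem _ _ (Submodule.subset_span ⟨b i, rfl⟩)

end Comparison

section Structure

variable {R : Type u} [CommRing R] {M : Type v} [AddCommGroup M] [Module R M]

/-- the matrix of a quadratic form in a basis, with its half-discriminant -/
theorem exists_matrix_odd (m : ℕ) (b : Module.Basis (Fin (2 * m + 1)) R M) (Q : QuadraticForm R M) :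
    ∃ N : Matrix (Fin (2 * m + 1)) (Fin (2 * m + 1)) R, (∀ v, Q v = QF N (b.equivFun v)) ∧
      hdM N = QuadGrp.halfDisc b (LinearEquiv.refl R R) Q := by
  set Q₀ : QuadraticForm R (Fin (2 * m + 1) → R) := Q.comp (b.equivFun.symm : _ →ₗ[R] M) with hQ₀
  refine ⟨matOf Q₀, ?_, ?_⟩
  · intro v
    rw [← qfOf_apply, qfOf_matOf, hQ₀, QuadraticMap.comp_apply]
    simp
  · unfold hdM
    rw [qfOf_matOf, QuadGrp.halfDisc, QuadGrp.halfDisc]
    congr 1
    funext s
    induction s using Sym2.ind with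
    | _ i j =>
      rw [QuadGrp.coeffs_mk, QuadGrp.coeffs_mk]
      have hb : ∀ i, (b.equivFun.symm : _ →ₗ[R] M) (Pi.basisFun R (Fin (2 * m + 1)) i) = b i := by
        intro i
        simp
      split_ifs with h
      · rw [hQ₀, QuadraticMap.comp_apply, hb]
      · rw [hQ₀]
        simp only [LinearEquiv.refl_apply, QuadraticMap.polar, QuadraticMap.comp_apply, map_add,
          hb]

/-- **Structure theorem (odd rank).** -/
theorem exists_odd_structure (m : ℕ) (b : Module.Basis (Fin (2 * m + 1)) R M)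
    (Q : QuadraticForm R M) (hQ : QuadGrp.IsSemiregular b (LinearEquiv.refl R R) Q) :
    ∃ (A' : Type u) (_ : CommRing A') (_ : Algebra R A'), Module.FaithfullyFlat R A' ∧
      Algebra.FinitePresentation R A' ∧
      ∃ (J : Type) (_ : Fintype J) (_ : DecidableEq J)
        (Θ : A' ⊗[R] CliffordAlgebra Q →ₐ[A'] Matrix J J (BQ A')),
        Function.Bijective Θ ∧ (∀ v, Θ (1 ⊗ₜ ι Q v) ∈ GB A' J 1) ∧ Fintype.card J = 2 ^ m := by
  obtain ⟨N, hN, hhd⟩ := exists_matrix_odd m b Q
  have hNu : IsUnit (hdM N) := by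
    rw [hhd]
    exact hQ
  obtain ⟨A', instR, instA, hff, hfp, hC⟩ := exists_odd_split_neg R m N hNu
  refine ⟨A', instR, instA, hff, hfp, ?_⟩
  obtain ⟨G, hGdet, hG⟩ := hC.apply
  obtain ⟨c, hc, hspan⟩ := exists_comparison b Q N hN (blk (-1 : A') (Hm A' m)) G hGdet hG
  have hc' : ∀ v, Qs A' m (c v) = algebraMap R A' (Q v) := hc
  obtain ⟨J, instF, instD, p, Ψ, hΨbij, hΨgr, hcardJ, -⟩ := exists_matrix_iso (R := A') m
  refine ⟨J, instF, instD, (Θ₀ m p Ψ hΨgr).comp (bc Q (Qs A' m) c hc'), ?_, ?_, hcardJ⟩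
  · have hbc : Function.Bijective (bc Q (Qs A' m) c hc') :=
      bc_bijective Q (Qs A' m) c hc' b (Pi.basisFun A' (Fin (2 * m + 1))) rfl hspan
    exact (Θ₀_bijective m p Ψ hΨgr hΨbij.2 hcardJ).comp hbc
  · intro v
    rw [AlgHom.comp_apply, bc_one_tmul_ι]
    exact Θ₀_ι_mem m p Ψ hΨgr _

end Structure

end Groth.Agent.R2.H14.Cl
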