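import Mathlib
import Groth.Agent.R2.H14ClOddModel

/-!
# Central elements of the graded model `M_J(S[ω]/(ω²+1))`
-/

set_option autoImplicit false
set_option linter.unusedSectionVars false

namespace Groth.Agent.R2.H14.Cl

open Matrix

universe u

section Central

variable {S : Type u} [CommRing S] {J : Type} [Fintype J] [DecidableEq J]

theorem central_eq_scalar (X : Matrix J J (BQ S)) (hX : ∀ Y, Y * X = X * Y) :
    ∃ β : BQ S, X = Matrix.scalar J β := by
  have : X ∈ Set.range (Matrix.scalar J) := by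
    rw [Matrix.mem_range_scalar_iff_commute_single']
    intro i j
    exact hX _
  obtain ⟨β, hβ⟩ := this
  exact ⟨β, hβ.symm⟩

theorem central_even_scalar [Nonempty J] (X : Matrix J J (BQ S)) (hX : ∀ Y, Y * X = X * Y)
    (h0 : X ∈ GB S J 0) : ∃ a : S, X = algebraMap S (Matrix J J (BQ S)) a := by
  obtain ⟨β, rfl⟩ := central_eq_scalar X hX
  rw [GB_zero, mem_GB0] at h0
  obtain ⟨j⟩ := ‹Nonempty J›
  have hβ : β.im = 0 := by
    have := h0 j j
    rwa [Matrix.scalar_apply, Matrix.diagonal_apply_eq] at this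
  refine ⟨β.re, ?_⟩
  rw [Matrix.algebraMap_eq_diagonal, Matrix.scalar_apply]
  congr 1
  funext _
  ext
  · rfl
  · exact hβ

theorem central_odd_scalar [Nonempty J] (X : Matrix J J (BQ S)) (hX : ∀ Y, Y * X = X * Y)
    (h1 : X ∈ GB S J 1) : ∃ a : S, X = a • (wI : Matrix J J (BQ S)) := by
  obtain ⟨β, rfl⟩ := central_eq_scalar X hX
  rw [GB_one, mem_GB1] at h1
  obtain ⟨j⟩ := ‹Nonempty J›
  have hβ : β.re = 0 := by
    have := h1 j j
    rwa [Matrix.scalar_apply, Matrix.diagonal_apply_eq] at this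
  refine ⟨β.im, ?_⟩
  ext j k
  · rw [Matrix.smul_apply, wI_apply, Matrix.scalar_apply, Matrix.diagonal_apply]
    split_ifs
    · simp [hβ]
    · simp
  · rw [Matrix.smul_apply, wI_apply, Matrix.scalar_apply, Matrix.diagonal_apply]
    split_ifs
    · simp
    · simp

end Central

end Groth.Agent.R2.H14.Cl
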