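import Mathlib

/-!
# The "volume element" `e₀ · Π (w_a u_a - u_a w_a)` attached to hyperbolic pairs in a ring
-/

set_option autoImplicit false
set_option linter.unusedSectionVars false

namespace Groth.Agent.R2.H14.Vol

universe u

section Vol

variable {C : Type u} [Ring C] [StarRing C] {m : ℕ} (e₀ : C) (u w : Fin m → C)

/-- the element `w_a u_a - u_a w_a` -/
def dl (a : Fin m) : C := w a * u a - u a * w a

/-- the product of the `dl a` -/
def DD : C := ((List.finRange m).map (dl u w)).prod

/-- the volume element -/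
def zt : C := e₀ * DD u w

variable (huu : ∀ a, u a * u a = 0) (hww : ∀ a, w a * w a = 0)
  (huw : ∀ a, u a * w a + w a * u a = 1)

include huu in
theorem dl_mul_u (a : Fin m) : dl u w a * u a = -(u a * dl u w a) := by
  unfold dl
  rw [sub_mul, mul_sub, mul_assoc (w a), huu, mul_zero, ← mul_assoc (u a) (u a), huu, zero_mul]
  noncomm_ring

include hww in
theorem dl_mul_w (a : Fin m) : dl u w a * w a = -(w a * dl u w a) := by
  unfold dl
  rw [sub_mul, mul_sub, mul_assoc (u a) (w a) (w a), hww, mul_zero, ← mul_assoc (w a) (w a), hww,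
    zero_mul]
  noncomm_ring

theorem comm_dl_of_anti (g : C) (a : Fin m) (hu : g * u a = -(u a * g))
    (hw : g * w a = -(w a * g)) : g * dl u w a = dl u w a * g := by
  unfold dl
  have h1 : g * (w a * u a) = w a * u a * g := by
    rw [← mul_assoc, hw, neg_mul, mul_assoc, hu, mul_neg, neg_neg, mul_assoc]
  have h2 : g * (u a * w a) = u a * w a * g := by
    rw [← mul_assoc, hu, neg_mul, mul_assoc, hw, mul_neg, neg_neg, mul_assoc]
  rw [mul_sub, sub_mul, h1, h2]

include huu hww huw in
theorem dl_mul_dl (a : Fin m) : dl u w a * dl u w a = 1 := by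
  have h1 : w a * u a = 1 - u a * w a := by rw [← huw a]; abel
  have h2 : w a * u a * (w a * u a) = w a * u a := by
    calc w a * u a * (w a * u a) = w a * (u a * w a) * u a := by noncomm_ring
      _ = w a * (1 - w a * u a) * u a := by rw [← huw a]; congr 2; abel
      _ = w a * u a - (w a * w a) * (u a * u a) := by noncomm_ring
      _ = w a * u a := by rw [hww, zero_mul, sub_zero]
  have h3 : u a * w a * (u a * w a) = u a * w a := by
    calc u a * w a * (u a * w a) = u a * (w a * u a) * w a := by noncomm_ring
      _ = u a * (1 - u a * w a) * w a := by rw [h1]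
      _ = u a * w a - (u a * u a) * (w a * w a) := by noncomm_ring
      _ = u a * w a := by rw [huu, zero_mul, sub_zero]
  have h4 : w a * u a * (u a * w a) = 0 := by
    calc w a * u a * (u a * w a) = w a * (u a * u a) * w a := by noncomm_ring
      _ = 0 := by rw [huu, mul_zero, zero_mul]
  have h5 : u a * w a * (w a * u a) = 0 := by
    calc u a * w a * (w a * u a) = u a * (w a * w a) * u a := by noncomm_ring
      _ = 0 := by rw [hww, mul_zero, zero_mul]
  unfold dl
  rw [sub_mul, mul_sub, mul_sub, h2, h3, h4, h5, sub_zero, zero_sub, sub_neg_eq_add, add_comm]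
  exact huw a

variable (huu' : ∀ a b, a ≠ b → u a * u b = -(u b * u a))
  (hww' : ∀ a b, a ≠ b → w a * w b = -(w b * w a))
  (huw' : ∀ a b, a ≠ b → u a * w b = -(w b * u a))

include huu' huw' in
theorem u_comm_dl (a b : Fin m) (hab : a ≠ b) : u a * dl u w b = dl u w b * u a :=
  comm_dl_of_anti u w (u a) b (huu' a b hab) (huw' a b hab)

include hww' huw' in
theorem w_comm_dl (a b : Fin m) (hab : a ≠ b) : w a * dl u w b = dl u w b * w a := by
  refine comm_dl_of_anti u w (w a) b ?_ (hww' a b hab)
  have := huw' b a (Ne.symm hab)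
  rw [this, neg_neg]

include huu' hww' huw' in
theorem dl_comm_dl (a b : Fin m) : dl u w a * dl u w b = dl u w b * dl u w a := by
  by_cases hab : a = b
  · rw [hab]
  · have h1 := u_comm_dl u w huu' huw' a b hab
    have h2 := w_comm_dl u w hww' huw' a b hab
    generalize dl u w b = X at h1 h2 ⊢
    unfold dl
    rw [sub_mul, mul_sub, mul_assoc, h1, ← mul_assoc, h2, mul_assoc, mul_assoc (u a), h2,
      ← mul_assoc (u a), h1, mul_assoc]

/-- an element commuting with all `dl a` commutes with any product of them -/
theorem comm_prod (g : C) (l : List (Fin m)) (h : ∀ b ∈ l, g * dl u w b = dl u w b * g) :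
    g * (l.map (dl u w)).prod = (l.map (dl u w)).prod * g := by
  induction l with
  | nil => simp
  | cons x l ih =>
    rw [List.map_cons, List.prod_cons, ← mul_assoc, h x (List.mem_cons_self), mul_assoc,
      ih (fun b hb => h b (List.mem_cons_of_mem _ hb)), mul_assoc]

/-- an element anticommuting with exactly one factor anticommutes with the product -/
theorem anti_prod (g : C) (a : Fin m) (hga : g * dl u w a = -(dl u w a * g))
    (hgb : ∀ b, b ≠ a → g * dl u w b = dl u w b * g) (l : List (Fin m)) (hl : l.Nodup)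
    (ha : a ∈ l) : g * (l.map (dl u w)).prod = -((l.map (dl u w)).prod * g) := by
  induction l with
  | nil => simp at ha
  | cons x l ih =>
    rw [List.nodup_cons] at hl
    rw [List.map_cons, List.prod_cons]
    by_cases hxa : x = a
    · subst hxa
      have hc := comm_prod u w g l (fun b hb => hgb b (fun h => hl.1 (h ▸ hb)))
      rw [← mul_assoc, hga, neg_mul, mul_assoc, hc, mul_assoc]
    · have ha' : a ∈ l := by
        rcases List.mem_cons.mp ha with h | h
        · exact absurd h.symm hxa
        · exact h
      rw [← mul_assoc, hgb x hxa, mul_assoc, ih hl.2 ha', mul_neg, mul_assoc]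

include huu' hww' huw' in
theorem star_prod (hsu : ∀ a, star (u a) = -u a) (hsw : ∀ a, star (w a) = -w a)
    (l : List (Fin m)) :
    star (l.map (dl u w)).prod = (-1 : C) ^ l.length * (l.map (dl u w)).prod := by
  have hsd : ∀ a, star (dl u w a) = -dl u w a := by
    intro a
    unfold dl
    rw [star_sub, star_mul, star_mul, hsu, hsw]
    noncomm_ring
  induction l with
  | nil => simp
  | cons x l ih =>
    rw [List.map_cons, List.prod_cons, star_mul, ih, hsd, List.length_cons, pow_succ]
    have hc := comm_prod u w (dl u w x) l (fun b _ => dl_comm_dl u w huu' hww' huw' x b)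
    rw [mul_assoc, mul_neg, ← hc]
    noncomm_ring

include huu hww huw huu' hww' huw' in
theorem prod_mul_prod (l : List (Fin m)) :
    (l.map (dl u w)).prod * (l.map (dl u w)).prod = 1 := by
  induction l with
  | nil => simp
  | cons x l ih =>
    rw [List.map_cons, List.prod_cons]
    have hc := comm_prod u w (dl u w x) l (fun b _ => dl_comm_dl u w huu' hww' huw' x b)
    calc dl u w x * (l.map (dl u w)).prod * (dl u w x * (l.map (dl u w)).prod)
        = dl u w x * ((l.map (dl u w)).prod * dl u w x) * (l.map (dl u w)).prod := by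
          noncomm_ring
      _ = dl u w x * (dl u w x * (l.map (dl u w)).prod) * (l.map (dl u w)).prod := by rw [hc]
      _ = (dl u w x * dl u w x) * ((l.map (dl u w)).prod * (l.map (dl u w)).prod) := by
          noncomm_ring
      _ = 1 := by rw [dl_mul_dl u w huu hww huw, ih, mul_one]

variable (h00 : e₀ * e₀ = -1) (h0u : ∀ a, e₀ * u a = -(u a * e₀))
  (h0w : ∀ a, e₀ * w a = -(w a * e₀))

include huu huu' huw' in
theorem u_anti_DD (a : Fin m) : u a * DD u w = -(DD u w * u a) := by
  refine anti_prod u w (u a) a ?_ (fun b hb => u_comm_dl u w huu' huw' a b (Ne.symm hb)) _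
    (List.nodup_finRange m) (List.mem_finRange a)
  rw [dl_mul_u u w huu, neg_neg]

include hww hww' huw' in
theorem w_anti_DD (a : Fin m) : w a * DD u w = -(DD u w * w a) := by
  refine anti_prod u w (w a) a ?_ (fun b hb => w_comm_dl u w hww' huw' a b (Ne.symm hb)) _
    (List.nodup_finRange m) (List.mem_finRange a)
  rw [dl_mul_w u w hww, neg_neg]

include h0u h0w in
theorem e₀_comm_DD : e₀ * DD u w = DD u w * e₀ :=
  comm_prod u w e₀ _ (fun b _ => comm_dl_of_anti u w e₀ b (h0u b) (h0w b))

include huu huu' huw' h0u in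
theorem zt_comm_u (a : Fin m) : zt e₀ u w * u a = u a * zt e₀ u w := by
  unfold zt
  have h1 := u_anti_DD u w huu huu' huw' a
  have h2 : DD u w * u a = -(u a * DD u w) := by rw [h1, neg_neg]
  rw [mul_assoc, h2, mul_neg, ← mul_assoc, h0u, neg_mul, neg_neg, mul_assoc]

include hww hww' huw' h0w in
theorem zt_comm_w (a : Fin m) : zt e₀ u w * w a = w a * zt e₀ u w := by
  unfold zt
  have h1 := w_anti_DD u w hww hww' huw' a
  have h2 : DD u w * w a = -(w a * DD u w) := by rw [h1, neg_neg]
  rw [mul_assoc, h2, mul_neg, ← mul_assoc, h0w, neg_mul, neg_neg, mul_assoc]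

include h0u h0w in
theorem zt_comm_e₀ : zt e₀ u w * e₀ = e₀ * zt e₀ u w := by
  unfold zt
  rw [mul_assoc, ← e₀_comm_DD e₀ u w h0u h0w]

include huu hww huw huu' hww' huw' h00 h0u h0w in
theorem zt_mul_zt : zt e₀ u w * zt e₀ u w = -1 := by
  unfold zt
  have hc := e₀_comm_DD e₀ u w h0u h0w
  calc e₀ * DD u w * (e₀ * DD u w) = e₀ * (DD u w * e₀) * DD u w := by noncomm_ring
    _ = (e₀ * e₀) * (DD u w * DD u w) := by rw [← hc]; noncomm_ring
    _ = -1 := by
      rw [h00]
      unfold DD
      rw [prod_mul_prod u w huu hww huw huu' hww' huw', mul_one]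

include huu' hww' huw' h0u h0w in
theorem star_zt (hs0 : star e₀ = -e₀) (hsu : ∀ a, star (u a) = -u a)
    (hsw : ∀ a, star (w a) = -w a) :
    star (zt e₀ u w) = (-1 : C) ^ (m + 1) * zt e₀ u w := by
  have hc := e₀_comm_DD e₀ u w h0u h0w
  unfold zt
  rw [star_mul, hs0, hc]
  unfold DD
  rw [star_prod u w huu' hww' huw' hsu hsw, List.length_finRange, pow_succ]
  noncomm_ring

end Vol

end Groth.Agent.R2.H14.Vol
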