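import Mathlib
import Groth.Agent.R2.H14ClOddMain
import Groth.Agent.R2.H14ClOddModel3
import Groth.Agent.R2.H14ClVolume

/-!
# The principal anti-involution on the odd part of the centre (odd rank)
-/

set_option autoImplicit false
set_option linter.unusedSectionVars false

namespace Groth.Agent.R2.H14.Cl

open CliffordAlgebra Matrix Groth.Agent.R2.H14.QuadForm Groth.Agent.R2.H14.Odd
open scoped TensorProduct

universe u v

section Split

variable {S : Type u} [CommRing S] (m : ℕ)

/-- the generators of `C(⟨-1⟩ ⊥ H^m)` -/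
noncomputable def gen (S : Type u) [CommRing S] (m : ℕ) (i : Fin (2 * m + 1)) :
    CliffordAlgebra (Qs S m) :=
  ι (Qs S m) (Pi.single i 1)

theorem gen_sq (i : Fin (2 * m + 1)) :
    gen S m i * gen S m i = algebraMap S _ (blk (-1 : S) (Hm S m) i i) := by
  unfold gen
  rw [ι_sq_scalar, qfOf_single]

theorem gen_swap (i j : Fin (2 * m + 1)) :
    gen S m i * gen S m j + gen S m j * gen S m i =
      algebraMap S _ (blk (-1 : S) (Hm S m) i j + blk (-1 : S) (Hm S m) j i) := by
  unfold gen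
  rw [ι_mul_ι_add_swap, polar_qfOf_single]

theorem Hm_e₂ (x y : Fin m ⊕ Fin m) : Hm S m (e₂ m x) (e₂ m y) = hypMat S m x y := by
  simp [Hm]

/-- index of `u_a` -/
def iu (a : Fin m) : Fin (2 * m + 1) := Fin.succ (e₂ m (Sum.inl a))
/-- index of `w_a` -/
def iw (a : Fin m) : Fin (2 * m + 1) := Fin.succ (e₂ m (Sum.inr a))

theorem N_uu (a b : Fin m) : blk (-1 : S) (Hm S m) (iu m a) (iu m b) = 0 := by
  unfold iu
  rw [blk_succ_succ, Hm_e₂]
  simp [hypMat]

theorem N_ww (a b : Fin m) : blk (-1 : S) (Hm S m) (iw m a) (iw m b) = 0 := by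
  unfold iw
  rw [blk_succ_succ, Hm_e₂]
  simp [hypMat]

theorem N_wu (a b : Fin m) : blk (-1 : S) (Hm S m) (iw m a) (iu m b) = 0 := by
  unfold iw iu
  rw [blk_succ_succ, Hm_e₂]
  simp [hypMat]

theorem N_uw (a b : Fin m) :
    blk (-1 : S) (Hm S m) (iu m a) (iw m b) = if a = b then 1 else 0 := by
  unfold iw iu
  rw [blk_succ_succ, Hm_e₂]
  simp [hypMat, Matrix.one_apply]

/-- the volume element of `C(⟨-1⟩ ⊥ H^m)` -/
noncomputable def zeta (S : Type u) [CommRing S] (m : ℕ) : CliffordAlgebra (Qs S m) :=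
  Vol.zt (gen S m 0) (fun a => gen S m (iu m a)) (fun a => gen S m (iw m a))

theorem h00 : gen S m 0 * gen S m 0 = -1 := by
  rw [gen_sq, blk_zero_zero, map_neg, map_one]

theorem huu (a : Fin m) : gen S m (iu m a) * gen S m (iu m a) = 0 := by
  rw [gen_sq, N_uu, map_zero]

theorem hww (a : Fin m) : gen S m (iw m a) * gen S m (iw m a) = 0 := by
  rw [gen_sq, N_ww, map_zero]

theorem huw (a : Fin m) :
    gen S m (iu m a) * gen S m (iw m a) + gen S m (iw m a) * gen S m (iu m a) = 1 := by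
  rw [gen_swap, N_uw, N_wu, if_pos rfl, add_zero, map_one]

theorem huu' (a b : Fin m) (_ : a ≠ b) :
    gen S m (iu m a) * gen S m (iu m b) = -(gen S m (iu m b) * gen S m (iu m a)) := by
  apply eq_neg_of_add_eq_zero_left
  rw [gen_swap, N_uu, N_uu, add_zero, map_zero]

theorem hww' (a b : Fin m) (_ : a ≠ b) :
    gen S m (iw m a) * gen S m (iw m b) = -(gen S m (iw m b) * gen S m (iw m a)) := by
  apply eq_neg_of_add_eq_zero_left
  rw [gen_swap, N_ww, N_ww, add_zero, map_zero]

theorem huw' (a b : Fin m) (hab : a ≠ b) :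
    gen S m (iu m a) * gen S m (iw m b) = -(gen S m (iw m b) * gen S m (iu m a)) := by
  apply eq_neg_of_add_eq_zero_left
  rw [gen_swap, N_uw, N_wu, if_neg hab, add_zero, map_zero]

theorem h0u (a : Fin m) :
    gen S m 0 * gen S m (iu m a) = -(gen S m (iu m a) * gen S m 0) := by
  apply eq_neg_of_add_eq_zero_left
  unfold iu
  rw [gen_swap, blk_zero_succ, blk_succ_zero, add_zero, map_zero]

theorem h0w (a : Fin m) :
    gen S m 0 * gen S m (iw m a) = -(gen S m (iw m a) * gen S m 0) := by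
  apply eq_neg_of_add_eq_zero_left
  unfold iw
  rw [gen_swap, blk_zero_succ, blk_succ_zero, add_zero, map_zero]

theorem zeta_comm_gen (i : Fin (2 * m + 1)) : zeta S m * gen S m i = gen S m i * zeta S m := by
  refine Fin.cases ?_ (fun l => ?_) i
  · exact Vol.zt_comm_e₀ _ _ _ (h0u m) (h0w m)
  · obtain ⟨x, rfl⟩ := (e₂ m).surjective l
    rcases x with a | a
    · exact Vol.zt_comm_u _ _ _ (huu m) (huu' m) (huw' m) (h0u m) a
    · exact Vol.zt_comm_w _ _ _ (hww m) (hww' m) (huw' m) (h0w m) a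

theorem zeta_comm_ι (v : Fin (2 * m + 1) → S) :
    zeta S m * ι (Qs S m) v = ι (Qs S m) v * zeta S m := by
  have hv : v = ∑ i, v i • (Pi.single i 1 : Fin (2 * m + 1) → S) := pi_eq_sum_univ' v
  rw [hv, map_sum, Finset.mul_sum, Finset.sum_mul]
  refine Finset.sum_congr rfl fun i _ => ?_
  rw [map_smul, mul_smul_comm, smul_mul_assoc]
  congr 1
  exact zeta_comm_gen m i

theorem zeta_central (x : CliffordAlgebra (Qs S m)) : x * zeta S m = zeta S m * x := by
  induction x using CliffordAlgebra.induction with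
  | algebraMap r => exact Algebra.commutes r _
  | ι v => exact (zeta_comm_ι m v).symm
  | mul a b ha hb => rw [mul_assoc, hb, ← mul_assoc, ha, mul_assoc]
  | add a b ha hb => rw [add_mul, mul_add, ha, hb]

theorem zeta_mul_zeta : zeta S m * zeta S m = -1 :=
  Vol.zt_mul_zt _ _ _ (huu m) (hww m) (huw m) (huu' m) (hww' m) (huw' m) (h00 m) (h0u m) (h0w m)

theorem star_zeta : star (zeta S m) = ((-1 : S) ^ (m + 1)) • zeta S m := by
  have h := Vol.star_zt (gen S m 0) (fun a => gen S m (iu m a)) (fun a => gen S m (iw m a))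
    (huu' m) (hww' m) (huw' m) (h0u m) (h0w m) (star_ι _) (fun a => star_ι _) (fun a => star_ι _)
  unfold zeta
  rw [h, Algebra.smul_def, map_pow, map_neg, map_one]

theorem zeta_odd : zeta S m ∈ evenOdd (Qs S m) 1 := by
  unfold zeta Vol.zt
  have h1 : gen S m 0 ∈ evenOdd (Qs S m) 1 := ι_mem_evenOdd_one _ _
  have h2 : Vol.DD (fun a => gen S m (iu m a)) (fun a => gen S m (iw m a)) ∈ even (Qs S m) := by
    unfold Vol.DD
    apply Subalgebra.list_prod_mem
    intro x hx
    rw [List.mem_map] at hx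
    obtain ⟨a, _, rfl⟩ := hx
    unfold Vol.dl
    exact Subalgebra.sub_mem _ (ι_mul_ι_mem_evenOdd_zero _ _ _) (ι_mul_ι_mem_evenOdd_zero _ _ _)
  have := mul_mem_evenOdd (Qs S m) h1 h2
  rwa [add_zero] at this

/-- **Split case.** -/
theorem star_eq_of_central_odd_split (z : CliffordAlgebra (Qs S m))
    (hz : z ∈ Subalgebra.center S (CliffordAlgebra (Qs S m)))
    (hz1 : z ∈ evenOdd (Qs S m) 1) : star z = ((-1 : S) ^ (m + 1)) • z := by
  obtain ⟨J, instF, instD, p, Ψ, hΨbij, hΨgr, hcardJ, -⟩ := exists_matrix_iso (R := S) m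
  have hJne : Nonempty J := by
    rw [← Fintype.card_pos_iff, hcardJ]
    positivity
  have hΘ := Θ₀_bijective m p Ψ hΨgr hΨbij.2 hcardJ
  set F := Θ₀ m p Ψ hΨgr with hF
  have key : ∀ y : CliffordAlgebra (Qs S m), (∀ x, x * y = y * x) → y ∈ evenOdd (Qs S m) 1 →
      ∃ a : S, F y = a • (wI : Matrix J J (BQ S)) := by
    intro y hyc hy1
    apply central_odd_scalar
    · intro Y
      obtain ⟨x, rfl⟩ := hΘ.2 Y
      rw [← map_mul, ← map_mul, hyc]
    · exact map_evenOdd_mem (GB S J) one_mem_GB mul_mem_GB F (Θ₀_ι_mem m p Ψ hΨgr) 1 y hy1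
  obtain ⟨a, ha⟩ := key z (Subalgebra.mem_center_iff.mp hz) hz1
  obtain ⟨t, ht⟩ := key (zeta S m) (zeta_central m) (zeta_odd m)
  have htt : t * t = 1 := by
    have h1 : F (zeta S m * zeta S m) = F (-1) := by rw [zeta_mul_zeta]
    rw [map_mul, ht, smul_mul_smul_comm, wI_mul_wI, map_neg, map_one, smul_neg, neg_inj] at h1
    obtain ⟨j⟩ := hJne
    have h2 := congrArg QuadraticAlgebra.re (congrFun (congrFun h1 j) j)
    rw [Matrix.smul_apply, Matrix.one_apply_eq, QuadraticAlgebra.re_smul] at h2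
    simpa [QuadraticAlgebra.re_one] using h2
  have hzz : z = (a * t) • zeta S m := by
    apply hΘ.1
    rw [map_smul, ht, ha, smul_smul, mul_assoc, htt, mul_one]
  rw [hzz, CliffordAlgebra.star_smul, star_zeta, smul_comm]

end Split

section BcStar

variable {A : Type u} [CommRing A] {A' : Type u} [CommRing A'] [Algebra A A']
  {V : Type v} [AddCommGroup V] [Module A V]
  {W : Type u} [AddCommGroup W] [Module A' W] [Module A W] [IsScalarTower A A' W]
  (Q : QuadraticForm A V) (Q' : QuadraticForm A' W) (c : V →ₗ[A] W)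
  (hc : ∀ v, Q' (c v) = algebraMap A A' (Q v))

theorem bcAux_star (x : CliffordAlgebra Q) :
    bcAux Q Q' c hc (star x) = star (bcAux Q Q' c hc x) := by
  induction x using CliffordAlgebra.induction with
  | algebraMap r =>
    rw [star_algebraMap, AlgHom.commutes, IsScalarTower.algebraMap_apply A A' (CliffordAlgebra Q'),
      star_algebraMap]
  | ι v => rw [star_ι, map_neg, bcAux_ι, star_ι]
  | mul a b ha hb => rw [star_mul, map_mul, map_mul, star_mul, ha, hb]
  | add a b ha hb => rw [star_add, map_add, map_add, star_add, ha, hb]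

theorem bcAux_odd (z : CliffordAlgebra Q) (hz : z ∈ evenOdd Q 1) :
    bcAux Q Q' c hc z ∈ evenOdd Q' 1 := by
  have := map_evenOdd_mem (fun i => (evenOdd Q' i).restrictScalars A)
    (SetLike.one_mem_graded (evenOdd Q')) (fun i j x y hx hy => mul_mem_evenOdd Q' hx hy)
    (bcAux Q Q' c hc) (fun v => by rw [bcAux_ι]; exact ι_mem_evenOdd_one _ _) 1 z hz
  exact this

theorem bcAux_central (hsurj : Function.Surjective (bc Q Q' c hc)) (z : CliffordAlgebra Q)
    (hz : z ∈ Subalgebra.center A (CliffordAlgebra Q)) :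
    bcAux Q Q' c hc z ∈ Subalgebra.center A' (CliffordAlgebra Q') := by
  rw [Subalgebra.mem_center_iff] at hz ⊢
  intro y
  obtain ⟨w, rfl⟩ := hsurj y
  induction w using TensorProduct.induction_on with
  | zero => rw [map_zero, zero_mul, mul_zero]
  | tmul a x =>
    rw [bc_tmul, smul_mul_assoc, mul_smul_comm, ← map_mul, ← map_mul, hz x]
  | add x y hx hy => rw [map_add, add_mul, mul_add, hx, hy]

end BcStar

section Main

variable {R : Type u} [CommRing R] {M : Type v} [AddCommGroup M] [Module R M]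

theorem exists_odd_bc (m : ℕ) (b : Module.Basis (Fin (2 * m + 1)) R M)
    (Q : QuadraticForm R M) (hQ : QuadGrp.IsSemiregular b (LinearEquiv.refl R R) Q) :
    ∃ (A' : Type u) (_ : CommRing A') (_ : Algebra R A'), Module.FaithfullyFlat R A' ∧
      Algebra.FinitePresentation R A' ∧
      ∃ (c : M →ₗ[R] (Fin (2 * m + 1) → A'))
        (hc : ∀ v, Qs A' m (c v) = algebraMap R A' (Q v)),
        Function.Bijective (bc Q (Qs A' m) c hc) := by
  obtain ⟨N, hN, hhd⟩ := exists_matrix_odd m b Q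
  have hNu : IsUnit (hdM N) := by
    rw [hhd]
    exact hQ
  obtain ⟨A', instR, instA, hff, hfp, hC⟩ := exists_odd_split_neg R m N hNu
  refine ⟨A', instR, instA, hff, hfp, ?_⟩
  obtain ⟨G, hGdet, hG⟩ := hC.apply
  obtain ⟨c, hc, hspan⟩ := exists_comparison b Q N hN (blk (-1 : A') (Hm A' m)) G hGdet hG
  have hc' : ∀ v, Qs A' m (c v) = algebraMap R A' (Q v) := hc
  exact ⟨c, hc', bc_bijective Q (Qs A' m) c hc' b (Pi.basisFun A' (Fin (2 * m + 1))) rfl hspan⟩

/-- **The principal anti-involution on odd central elements.** -/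
theorem star_eq_of_central_odd (m : ℕ) (b : Module.Basis (Fin (2 * m + 1)) R M)
    (Q : QuadraticForm R M) (hQ : QuadGrp.IsSemiregular b (LinearEquiv.refl R R) Q)
    (z : CliffordAlgebra Q) (hz : z ∈ Subalgebra.center R (CliffordAlgebra Q))
    (hz1 : z ∈ evenOdd Q 1) : star z = ((-1 : R) ^ (m + 1)) • z := by
  obtain ⟨A', instR, instA, hff, hfp, c, hc, hbc⟩ := exists_odd_bc m b Q hQ
  set f := bcAux Q (Qs A' m) c hc with hf
  have h1 : star (f z) = ((-1 : A') ^ (m + 1)) • f z :=
    star_eq_of_central_odd_split m (f z) (bcAux_central Q _ c hc hbc.2 z hz)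
      (bcAux_odd Q _ c hc z hz1)
  have h2 : f (star z) = f (((-1 : R) ^ (m + 1)) • z) := by
    rw [hf, bcAux_star, ← hf, h1, map_smul, ← algebraMap_smul A' ((-1 : R) ^ (m + 1)) (f z),
      map_pow, map_neg, map_one]
  have h3 : (1 : A') ⊗ₜ[R] (star z - ((-1 : R) ^ (m + 1)) • z) = 0 := by
    apply hbc.1
    rw [bc_tmul, one_smul, map_zero, map_sub, ← hf, h2, sub_self]
  have h4 := (Module.FaithfullyFlat.one_tmul_eq_zero_iff R _ _).mp h3
  exact sub_eq_zero.mp h4

end Main

end Groth.Agent.R2.H14.Cl
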