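import Mathlib
import Groth.Agent.R2.H14ClOddMain
import Groth.Agent.R2.H14ClOddModel3
import Groth.Agent.R2.H14ClOddStar

/-!
# Packaged facts on the centre of the Clifford algebra of a semiregular form of odd rank
-/

set_option autoImplicit false
set_option linter.unusedSectionVars false

namespace Groth.Agent.R2.H14.Cl

open CliffordAlgebra
open scoped TensorProduct

universe u v

section Facts

variable {R : Type u} [CommRing R] {M : Type v} [AddCommGroup M] [Module R M]

/-- even central elements are scalars, and `1 ∈ L · L` -/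
theorem odd_rank_center_facts (m : ℕ) (b : Module.Basis (Fin (2 * m + 1)) R M)
    (Q : QuadraticForm R M) (hQ : QuadGrp.IsSemiregular b (LinearEquiv.refl R R) Q) :
    (∀ z ∈ Subalgebra.center R (CliffordAlgebra Q), z ∈ evenOdd Q 0 →
      z ∈ (algebraMap R (CliffordAlgebra Q)).range) ∧ (1 : CliffordAlgebra Q) ∈ LL Q := by
  obtain ⟨A', instR, instA, hff, hfp, J, instF, instD, Θ, hΘ, hgr, hcardJ⟩ :=
    exists_odd_structure m b Q hQ
  have hfree : Module.Free R M := Module.Free.of_basis b
  have hfin : Module.Finite R M := Module.Finite.of_basis b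
  have hJne : Nonempty J := by
    rw [← Fintype.card_pos_iff, hcardJ]
    positivity
  have hone := one_mem_GB (S := A') (J := J)
  have hmul := mul_mem_GB (S := A') (J := J)
  have hdisj := GB_disjoint (S := A') (J := J)
  exact ⟨abs_even_center_scalar Q (GB A' J) hone hmul Θ hgr hΘ
      (fun X hX h0 => central_even_scalar X hX h0),
    abs_one_mem_LL Q (GB A' J) hone hmul hdisj Θ hgr hΘ wI (fun Y => (wI_comm Y).symm) wI_mem_GB
      wI_mul_wI⟩

end Facts

end Groth.Agent.R2.H14.Cl
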