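import Mathlib
import Groth.Agent.R2.H14ClOddCenter

/-!
# Over a local ring the odd part of the centre is free of rank one, generated by a unit
-/

set_option autoImplicit false
set_option linter.unusedSectionVars false

namespace Groth.Agent.R2.H14.Cl

open CliffordAlgebra
open scoped TensorProduct

universe u v

section Local

variable {R : Type u} [CommRing R] {M : Type v} [AddCommGroup M] [Module R M]
  (Q : QuadraticForm R M)

theorem exists_odd_central_unit [IsLocalRing R] [Module.Free R M]
    (hb : ∀ z ∈ Subalgebra.center R (CliffordAlgebra Q), z ∈ evenOdd Q 0 →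
      z ∈ (algebraMap R (CliffordAlgebra Q)).range)
    (h1 : (1 : CliffordAlgebra Q) ∈ LL Q) :
    ∃ z : CliffordAlgebra Q, z ∈ Subalgebra.center R (CliffordAlgebra Q) ∧ z ∈ evenOdd Q 1 ∧
      IsUnit z ∧ z * z ∈ (algebraMap R (CliffordAlgebra Q)).range ∧
      LinearIndependent R ![(1 : CliffordAlgebra Q), z] ∧
      Subalgebra.toSubmodule (Subalgebra.center R (CliffordAlgebra Q)) =
        Submodule.span R {1, z} := by
  have hinj := algebraMap_injective' Q
  obtain ⟨n, l, l', hl, hl', hsum⟩ := exists_partition Q h1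
  have hs : ∀ i, ∃ s : R, algebraMap R (CliffordAlgebra Q) s = l i * l' i := by
    intro i
    obtain ⟨h1, h2⟩ := mul_mem_of_mem_Lodd Q (hl i) (hl' i)
    exact hb _ h1 h2
  choose s hs using hs
  have hs1 : ∑ i, s i = 1 := by
    apply hinj
    rw [map_sum, map_one, ← hsum]
    exact Finset.sum_congr rfl fun i _ => hs i
  have hex : ∃ i, IsUnit (s i) := by
    by_contra hne
    push Not at hne
    have hmem : ∑ i, s i ∈ IsLocalRing.maximalIdeal R :=
      Ideal.sum_mem _ fun i _ => (IsLocalRing.mem_maximalIdeal _).mpr (hne i)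
    rw [hs1] at hmem
    exact (Ideal.ne_top_iff_one _).mp (IsLocalRing.maximalIdeal.isMaximal R).ne_top hmem
  obtain ⟨i, hu⟩ := hex
  obtain ⟨t, htu⟩ := hu.exists_left_inv
  set z := l i with hz
  set z' := l' i with hz'
  set u := s i with hu'
  have hzz' : z * z' = algebraMap R _ u := (hs i).symm
  have hzc : z ∈ Subalgebra.center R (CliffordAlgebra Q) := ((mem_Lodd Q).mp (hl i)).1
  have hzo : z ∈ evenOdd Q 1 := ((mem_Lodd Q).mp (hl i)).2
  have hzcomm : ∀ y, y * z = z * y := Subalgebra.mem_center_iff.mp hzc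
  have hz'z : z' * z = algebraMap R _ u := by rw [hzcomm, hzz']
  refine ⟨z, hzc, hzo, ?_, ?_, ?_, ?_⟩
  · rw [isUnit_iff_exists]
    refine ⟨t • z', ?_, ?_⟩
    · rw [mul_smul_comm, hzz', Algebra.smul_def, ← map_mul, htu, map_one]
    · rw [smul_mul_assoc, hz'z, Algebra.smul_def, ← map_mul, htu, map_one]
  · obtain ⟨h1, h2⟩ := mul_mem_of_mem_Lodd Q (hl i) (hl i)
    exact hb _ h1 h2
  · rw [LinearIndependent.pair_iff]
    intro a c hac
    have ha0 : a • (1 : CliffordAlgebra Q) ∈ evenOdd Q 0 :=
      Submodule.smul_mem _ _ (SetLike.one_mem_graded (evenOdd Q))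
    have hc1 : c • z ∈ evenOdd Q 1 := Submodule.smul_mem _ _ hzo
    have ha1 : a • (1 : CliffordAlgebra Q) ∈ evenOdd Q (0 + 1) := by
      have : a • (1 : CliffordAlgebra Q) = -(c • z) := eq_neg_of_add_eq_zero_left hac
      rw [this, zero_add]
      exact Submodule.neg_mem _ hc1
    have ha : a • (1 : CliffordAlgebra Q) = 0 := evenOdd_disjoint' Q 0 _ ha0 ha1
    have hc : c • z = 0 := by rwa [ha, zero_add] at hac
    constructor
    · apply hinj
      rw [map_zero, Algebra.algebraMap_eq_smul_one, ha]
    · have h2 : (c • z) * z' = 0 := by rw [hc, zero_mul]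
      rw [smul_mul_assoc, hzz', Algebra.smul_def, ← map_mul, ← map_zero (algebraMap R _)] at h2
      have h3 := hinj h2
      exact (hu.mul_left_eq_zero).mp h3
  · apply le_antisymm
    · intro y hy
      obtain ⟨hy0c, hy1c⟩ := P_mem_center Q hy
      have hy0e := P0_mem Q y
      have hy1o := P1_mem Q y
      have hy1L : P1 Q y ∈ Lodd Q := (mem_Lodd Q).mpr ⟨hy1c, hy1o⟩
      obtain ⟨r, hr⟩ := hb _ hy0c hy0e
      obtain ⟨a, ha⟩ : ∃ a : R, algebraMap R (CliffordAlgebra Q) a = P1 Q y * z' := by
        obtain ⟨h1, h2⟩ := mul_mem_of_mem_Lodd Q hy1L (hl' i)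
        exact hb _ h1 h2
      have h5 : u • P1 Q y = a • z := by
        calc u • P1 Q y = P1 Q y * (z' * z) := by
              rw [hz'z, ← Algebra.commutes, Algebra.smul_def]
          _ = a • z := by rw [← mul_assoc, ← ha, Algebra.smul_def]
      have h6 : P1 Q y = (t * a) • z := by
        calc P1 Q y = (t * u) • P1 Q y := by rw [htu, one_smul]
          _ = (t * a) • z := by rw [mul_smul, h5, mul_smul]
      rw [← P0_add_P1 Q y]
      refine Submodule.add_mem _ ?_ ?_
      · rw [← hr, Algebra.algebraMap_eq_smul_one]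
        exact Submodule.smul_mem _ _ (Submodule.subset_span (by simp))
      · rw [h6]
        exact Submodule.smul_mem _ _ (Submodule.subset_span (by simp))
    · rw [Submodule.span_le]
      intro y hy
      rcases hy with rfl | rfl
      · exact Subalgebra.one_mem _
      · exact hzc

end Local

end Groth.Agent.R2.H14.Cl
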