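import Mathlib
import Groth.Agent.R2.H14ClGPin
import Groth.Agent.R2.H14ClOddFacts
import Groth.Agent.R2.H14ClOddLocal

/-!
# Over a local ring, in odd rank: `GPin' = Z^× · GSpin`
-/

set_option autoImplicit false
set_option linter.unusedSectionVars false

namespace Groth.Agent.R2.H14.Cl

open CliffordAlgebra

universe u v

section GSpin

variable {R : Type u} [CommRing R] {M : Type v} [AddCommGroup M] [Module R M]
  (Q : QuadraticForm R M)

theorem inv_mem_center (w : (CliffordAlgebra Q)ˣ)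
    (hw : (w : CliffordAlgebra Q) ∈ Subalgebra.center R (CliffordAlgebra Q)) :
    (↑w⁻¹ : CliffordAlgebra Q) ∈ Subalgebra.center R (CliffordAlgebra Q) := by
  rw [Subalgebra.mem_center_iff] at hw ⊢
  intro x
  calc x * ↑w⁻¹ = ↑w⁻¹ * (↑w * x) * ↑w⁻¹ := by rw [← mul_assoc, Units.inv_mul, one_mul]
    _ = ↑w⁻¹ * (x * ↑w) * ↑w⁻¹ := by rw [hw x]
    _ = ↑w⁻¹ * x := by rw [mul_assoc, mul_assoc, Units.mul_inv, mul_one]

/-- an even unit normalising `M` lies in `GSpin` -/
theorem mem_GSpin_of_even (u : (CliffordAlgebra Q)ˣ) (hu : u ∈ QuadGrp.GPin' Q)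
    (he : (u : CliffordAlgebra Q) ∈ evenOdd Q 0) : u ∈ QuadGrp.GSpin Q := by
  refine ⟨⟨hu, ?_⟩, he⟩
  change u ∈ QuadGrp.LH Q
  rw [QuadGrp.mem_LH]
  refine ⟨1, IsIdempotentElem.one, ?_, ?_⟩
  · rwa [one_smul]
  · rw [sub_self, zero_smul]
    exact Submodule.zero_mem _

/-- reduction: it suffices to find a central unit `w` with `u' w` even -/
theorem factor_of_central_unit (u' : (CliffordAlgebra Q)ˣ) (hu' : u' ∈ QuadGrp.GPin' Q)
    (w : (CliffordAlgebra Q)ˣ)
    (hw : (w : CliffordAlgebra Q) ∈ Subalgebra.center R (CliffordAlgebra Q))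
    (he : (u' : CliffordAlgebra Q) * w ∈ evenOdd Q 0) :
    ∃ z : CliffordAlgebra Q, z ∈ Subalgebra.center R (CliffordAlgebra Q) ∧ IsUnit z ∧
      ∃ u ∈ QuadGrp.GSpin Q, (u' : CliffordAlgebra Q) = z * u := by
  have hwi := inv_mem_center Q w hw
  refine ⟨(↑w⁻¹ : CliffordAlgebra Q), hwi, (w⁻¹).isUnit, u' * w, ?_, ?_⟩
  · apply mem_GSpin_of_even
    · exact Subgroup.mul_mem _ hu' (central_unit_mem_GPin' Q w hw)
    · rw [Units.val_mul]
      exact he
  · rw [Units.val_mul, ← (Subalgebra.mem_center_iff.mp hwi) _, mul_assoc, Units.mul_inv, mul_one]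

theorem exists_center_mul_gSpin [IsLocalRing R] [Module.Free R M]
    (z : CliffordAlgebra Q) (hzc : z ∈ Subalgebra.center R (CliffordAlgebra Q))
    (hz1 : z ∈ evenOdd Q 1) (hzu : IsUnit z)
    (hZ : Subalgebra.toSubmodule (Subalgebra.center R (CliffordAlgebra Q)) =
      Submodule.span R {1, z})
    (u' : (CliffordAlgebra Q)ˣ) (hu' : u' ∈ QuadGrp.GPin' Q) :
    ∃ z' : CliffordAlgebra Q, z' ∈ Subalgebra.center R (CliffordAlgebra Q) ∧ IsUnit z' ∧
      ∃ u ∈ QuadGrp.GSpin Q, (u' : CliffordAlgebra Q) = z' * u := by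
  obtain ⟨hc0, hc1⟩ := inv_mul_P_mem_center Q u' hu'
  set x : CliffordAlgebra Q := (u' : CliffordAlgebra Q) with hx
  set xi : CliffordAlgebra Q := (↑u'⁻¹ : CliffordAlgebra Q) with hxi
  have hxx : x * xi = 1 := Units.mul_inv u'
  have hix : xi * x = 1 := Units.inv_mul u'
  set u0 := P0 Q x with hu0
  set u1 := P1 Q x with hu1
  have h0 : u0 ∈ evenOdd Q 0 := P0_mem Q x
  have h1 : u1 ∈ evenOdd Q 1 := P1_mem Q x
  have hsum : u0 + u1 = x := P0_add_P1 Q x
  set c₀ := xi * u0 with hc₀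
  set c₁ := xi * u1 with hc₁
  have e0 : u0 = x * c₀ := by rw [hc₀, ← mul_assoc, hxx, one_mul]
  have e1 : u1 = x * c₁ := by rw [hc₁, ← mul_assoc, hxx, one_mul]
  -- `c₀ = a + b z`
  have hc0' : c₀ ∈ Submodule.span R {1, z} := by rw [← hZ]; exact hc0
  obtain ⟨a, b, hab⟩ := Submodule.mem_span_pair.mp hc0'
  -- parity components of `u0 = x * c₀`
  have hu0z : u0 * z ∈ evenOdd Q 1 := by
    have := mul_mem_evenOdd Q h0 hz1
    rwa [zero_add] at this
  have hu1z : u1 * z ∈ evenOdd Q 0 := by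
    have := mul_mem_evenOdd Q h1 hz1
    rwa [show (1 : ZMod 2) + 1 = 0 from by decide] at this
  have hA : a • u0 + b • (u1 * z) ∈ evenOdd Q 0 :=
    Submodule.add_mem _ (Submodule.smul_mem _ _ h0) (Submodule.smul_mem _ _ hu1z)
  have hB : a • u1 + b • (u0 * z) ∈ evenOdd Q 1 :=
    Submodule.add_mem _ (Submodule.smul_mem _ _ h1) (Submodule.smul_mem _ _ hu0z)
  have hexp : u0 = (a • u0 + b • (u1 * z)) + (a • u1 + b • (u0 * z)) := by
    conv_lhs => rw [e0, ← hab, ← hsum]
    rw [mul_add, add_mul, add_mul, mul_smul_comm, mul_smul_comm, mul_smul_comm, mul_smul_comm,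
      mul_one, mul_one]
    abel
  have hB0 : a • u1 + b • (u0 * z) = 0 := by
    apply evenOdd_disjoint' Q 0 _ _ (by rwa [zero_add])
    have : a • u1 + b • (u0 * z) = u0 - (a • u0 + b • (u1 * z)) := by
      rw [eq_sub_iff_add_eq, add_comm]
      exact hexp.symm
    rw [this]
    exact Submodule.sub_mem _ h0 hA
  have hA0 : u0 = a • u0 + b • (u1 * z) := by
    have h := hexp
    rw [hB0, add_zero] at h
    exact h
  rcases IsLocalRing.isUnit_or_isUnit_one_sub_self a with ha | ha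
  · -- `a` is a unit: `c₀` is a unit
    obtain ⟨t, hta⟩ := ha.exists_left_inv
    have hu1' : u1 = -((t * b) • (u0 * z)) := by
      have h2 : a • u1 = -(b • (u0 * z)) := eq_neg_of_add_eq_zero_left hB0
      calc u1 = (t * a) • u1 := by rw [hta, one_smul]
        _ = -((t * b) • (u0 * z)) := by rw [mul_smul, h2, smul_neg, mul_smul]
    set c := 1 - (t * b) • z with hc
    have hxc : x = u0 * c := by
      rw [hc, mul_sub, mul_one, mul_smul_comm, ← hsum, hu1', sub_eq_add_neg]
    have hcc : c₀ * c = 1 := by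
      rw [hc₀, mul_assoc, ← hxc, hix]
    have hcu : IsUnit c₀ := by
      rw [isUnit_iff_exists]
      exact ⟨c, hcc, by rw [(Subalgebra.mem_center_iff.mp hc0) c, hcc]⟩
    refine factor_of_central_unit Q u' hu' hcu.unit hc0 ?_
    rw [IsUnit.unit_spec, ← e0]
    exact h0
  · -- `1 - a` is a unit: `c₁` is a unit
    obtain ⟨s, hsa⟩ := ha.exists_left_inv
    have hu0' : u0 = (s * b) • (u1 * z) := by
      have h2 : (1 - a) • u0 = b • (u1 * z) := by
        rw [sub_smul, one_smul, sub_eq_iff_eq_add]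
        conv_lhs => rw [hA0]
        abel
      calc u0 = (s * (1 - a)) • u0 := by rw [hsa, one_smul]
        _ = (s * b) • (u1 * z) := by rw [mul_smul, h2, mul_smul]
    set c := 1 + (s * b) • z with hc
    have hxc : x = u1 * c := by
      rw [hc, mul_add, mul_one, mul_smul_comm, ← hsum, hu0', add_comm]
    have hcc : c₁ * c = 1 := by
      rw [hc₁, mul_assoc, ← hxc, hix]
    have hcu : IsUnit c₁ := by
      rw [isUnit_iff_exists]
      exact ⟨c, hcc, by rw [(Subalgebra.mem_center_iff.mp hc1) c, hcc]⟩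
    -- the inverse of `z` is odd and central
    have hzi_c := inv_mem_center Q hzu.unit (by rw [IsUnit.unit_spec]; exact hzc)
    have hzi_o : (↑hzu.unit⁻¹ : CliffordAlgebra Q) ∈ evenOdd Q 1 := by
      have := (QuadGrp.isLocHomog_inv_aux Q hzu.unit 0
        (by rw [zero_smul]; exact Submodule.zero_mem _)
        (by rw [sub_zero, one_smul, IsUnit.unit_spec]; exact hz1)).2
      rwa [sub_zero, one_smul] at this
    refine factor_of_central_unit Q u' hu' (hcu.unit * hzu.unit⁻¹) ?_ ?_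
    · rw [Units.val_mul, IsUnit.unit_spec]
      exact Subalgebra.mul_mem _ hc1 hzi_c
    · rw [Units.val_mul, IsUnit.unit_spec, ← mul_assoc, ← e1]
      have := mul_mem_evenOdd Q h1 hzi_o
      rwa [show (1 : ZMod 2) + 1 = 0 from by decide] at this

end GSpin

end Groth.Agent.R2.H14.Cl
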