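import Mathlib
import Groth.Agent.R2.H14ClDescent

set_option autoImplicit false

namespace Groth.Agent.R2.H14.SN

open Matrix
open scoped TensorProduct

universe u u' v w

section Mat

variable {S : Type u} [CommRing S] {J : Type v} [Fintype J] [DecidableEq J]
  (ψ : Matrix J J S →ₐ[S] Matrix J J S) (j₀ : J)

/-- intertwiner `ψ x * p = p * x` built from any matrix `z` -/
noncomputable def pint (z : Matrix J J S) : Matrix J J S :=
  ∑ j, ψ (single j j₀ 1) * z * single j₀ j 1

/-- intertwiner `x * p' = p' * ψ x` built from any matrix `y` -/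
noncomputable def pint' (y : Matrix J J S) : Matrix J J S :=
  ∑ j, single j j₀ 1 * y * ψ (single j₀ j 1)

theorem map_mul_pint (z x : Matrix J J S) : ψ x * pint ψ j₀ z = pint ψ j₀ z * x := by
  let L₁ : Matrix J J S →ₗ[S] Matrix J J S :=
    (LinearMap.mulRight S (pint ψ j₀ z)) ∘ₗ ψ.toLinearMap
  let L₂ : Matrix J J S →ₗ[S] Matrix J J S := LinearMap.mulLeft S (pint ψ j₀ z)
  have h : L₁ = L₂ := by
    apply Matrix.ext_linearMap
    intro a b
    apply LinearMap.ext_ring
    change ψ (single a b 1) * pint ψ j₀ z = pint ψ j₀ z * single a b 1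
    rw [pint, Finset.mul_sum, Finset.sum_mul, Finset.sum_eq_single b, Finset.sum_eq_single a]
    · rw [← mul_assoc, ← mul_assoc, ← map_mul, single_mul_single_same,
        mul_assoc _ _ (single a b 1), single_mul_single_same, mul_one]
    · intro j _ hj
      rw [mul_assoc, single_mul_single_of_ne _ _ _ _ hj, mul_zero]
    · intro h; exact absurd (Finset.mem_univ _) h
    · intro j _ hj
      rw [← mul_assoc, ← mul_assoc, ← map_mul, single_mul_single_of_ne _ _ _ _ (Ne.symm hj), map_zero,
        zero_mul, zero_mul]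
    · intro h; exact absurd (Finset.mem_univ _) h
  exact LinearMap.congr_fun h x

theorem mul_pint' (y x : Matrix J J S) : x * pint' ψ j₀ y = pint' ψ j₀ y * ψ x := by
  let L₁ : Matrix J J S →ₗ[S] Matrix J J S := LinearMap.mulRight S (pint' ψ j₀ y)
  let L₂ : Matrix J J S →ₗ[S] Matrix J J S :=
    (LinearMap.mulLeft S (pint' ψ j₀ y)) ∘ₗ ψ.toLinearMap
  have h : L₁ = L₂ := by
    apply Matrix.ext_linearMap
    intro a b
    apply LinearMap.ext_ring
    change single a b 1 * pint' ψ j₀ y = pint' ψ j₀ y * ψ (single a b 1)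
    rw [pint', Finset.mul_sum, Finset.sum_mul, Finset.sum_eq_single b, Finset.sum_eq_single a]
    · rw [← mul_assoc, ← mul_assoc, single_mul_single_same,
        mul_assoc _ _ (ψ (single a b 1)), ← map_mul, single_mul_single_same, mul_one]
    · intro j _ hj
      rw [mul_assoc, ← map_mul, single_mul_single_of_ne _ _ _ _ hj, map_zero, mul_zero]
    · intro h; exact absurd (Finset.mem_univ _) h
    · intro j _ hj
      rw [← mul_assoc, ← mul_assoc, single_mul_single_of_ne _ _ _ _ (Ne.symm hj),
        zero_mul, zero_mul]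
    · intro h; exact absurd (Finset.mem_univ _) h
  exact LinearMap.congr_fun h x

theorem sum_single_mul_mul_single (X : Matrix J J S) :
    ∑ a, single a j₀ (1 : S) * X * single j₀ a 1 = X j₀ j₀ • (1 : Matrix J J S) := by
  simp_rw [single_mul_mul_single, one_mul, mul_one]
  rw [sum_single_eq_diagonal]
  ext i j
  simp [Matrix.diagonal_apply, Matrix.one_apply]

theorem pint'_mul_pint (y z : Matrix J J S) :
    pint' ψ j₀ y * pint ψ j₀ z = (y * ψ (single j₀ j₀ 1) * z) j₀ j₀ • (1 : Matrix J J S) := by
  rw [← sum_single_mul_mul_single j₀, pint', pint, Finset.sum_mul]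
  refine Finset.sum_congr rfl fun a _ => ?_
  rw [Finset.mul_sum, Finset.sum_eq_single a]
  · have : single a j₀ (1:S) * y * ψ (single j₀ a 1) * (ψ (single a j₀ 1) * z * single j₀ a 1) =
        single a j₀ (1:S) * y * (ψ (single j₀ a 1) * ψ (single a j₀ 1)) * z * single j₀ a 1 := by
      noncomm_ring
    rw [this, ← map_mul, single_mul_single_same, mul_one]
    noncomm_ring
  · intro b _ hb
    have : single a j₀ (1:S) * y * ψ (single j₀ a 1) * (ψ (single b j₀ 1) * z * single j₀ b 1) =
        single a j₀ (1:S) * y * (ψ (single j₀ a 1) * ψ (single b j₀ 1)) * z * single j₀ b 1 := by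
      noncomm_ring
    rw [this, ← map_mul, single_mul_single_of_ne _ _ _ _ (Ne.symm hb), map_zero, mul_zero, zero_mul,
      zero_mul]
  · intro h; exact absurd (Finset.mem_univ _) h

theorem sum_pint'_mul_pint :
    ∑ j, pint' ψ j₀ (ψ (single j j₀ 1)) * pint ψ j₀ (ψ (single j₀ j 1)) = 1 := by
  simp_rw [pint'_mul_pint, ← map_mul, single_mul_single_same, mul_one]
  rw [← Finset.sum_smul, ← Matrix.sum_apply, ← map_sum, sum_single_one, map_one, Matrix.one_apply_eq,
    one_smul]

end Mat

section Inter

variable {A : Type u} [CommRing A] {A' : Type u'} [CommRing A'] [Algebra A A']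
  {D : Type v} [Ring D] [Algebra A D]

/-- the module of intertwiners `{p | ∀ x, f x * p = p * g x}` -/
def inter (f g : D →ₗ[A] D) : Submodule A D where
  carrier := {p | ∀ x, f x * p = p * g x}
  add_mem' := by intro a b ha hb x; rw [mul_add, add_mul, ha x, hb x]
  zero_mem' := by intro x; rw [mul_zero, zero_mul]
  smul_mem' := by intro c a ha x; rw [mul_smul_comm, smul_mul_assoc, ha x]

theorem mem_inter (f g : D →ₗ[A] D) (p : D) : p ∈ inter f g ↔ ∀ x, f x * p = p * g x := Iff.rfl

/-- Flat base change of the module of intertwiners. -/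
theorem mem_baseChange_inter [Module.Flat A A'] [Module.Finite A D] (f g : D →ₗ[A] D)
    (w : A' ⊗[A] D) (hw : ∀ d : D, (1 ⊗ₜ f d) * w = w * (1 ⊗ₜ g d)) :
    w ∈ (inter f g).baseChange A' := by
  obtain ⟨n, s, hs⟩ := Module.Finite.exists_fin (R := A) (M := D)
  let φ : D →ₗ[A] (Fin n → D) :=
    LinearMap.pi fun i => LinearMap.mulLeft A (f (s i)) - LinearMap.mulRight A (g (s i))
  have hφ : ∀ x i, φ x i = f (s i) * x - x * g (s i) := fun x i => rfl
  have hker : LinearMap.ker φ = inter f g := by
    ext x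
    rw [LinearMap.mem_ker, mem_inter]
    constructor
    · intro hx d
      have hd : d ∈ Submodule.span A (Set.range s) := hs ▸ Submodule.mem_top
      induction hd using Submodule.span_induction with
      | mem y hy =>
        obtain ⟨i, rfl⟩ := hy
        have := congrFun hx i
        rw [hφ, Pi.zero_apply, sub_eq_zero] at this
        exact this
      | zero => rw [map_zero, map_zero, zero_mul, mul_zero]
      | add y z _ _ hy hz => rw [map_add, map_add, add_mul, mul_add, hy, hz]
      | smul a y _ hy => rw [map_smul, map_smul, smul_mul_assoc, mul_smul_comm, hy]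
    · intro hx
      funext i
      rw [hφ, Pi.zero_apply, hx (s i), sub_self]
  have hflat := Module.Flat.ker_lTensor_eq (R := A) A' A' φ
  have hmem : w ∈ LinearMap.ker (TensorProduct.AlgebraTensorModule.lTensor A' A' φ) := by
    rw [LinearMap.mem_ker]
    apply (TensorProduct.piRight A A' A' (fun _ : Fin n => D)).injective
    rw [map_zero]
    funext i
    rw [Pi.zero_apply]
    have key : ∀ w : A' ⊗[A] D,
        (TensorProduct.piRight A A' A' (fun _ : Fin n => D))
          (TensorProduct.AlgebraTensorModule.lTensor A' A' φ w) i =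
        (1 ⊗ₜ f (s i)) * w - w * (1 ⊗ₜ g (s i)) := by
      intro w
      induction w using TensorProduct.induction_on with
      | zero => simp
      | tmul a x =>
        simp only [TensorProduct.AlgebraTensorModule.lTensor_tmul, TensorProduct.piRight_apply,
          TensorProduct.piRightHom_tmul, hφ, Algebra.TensorProduct.tmul_mul_tmul, mul_one, one_mul,
          TensorProduct.tmul_sub]
      | add x y hx hy =>
        rw [map_add, map_add, Pi.add_apply, hx, hy]
        noncomm_ring
    rw [key, hw, sub_self]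
  rw [hflat, hker] at hmem
  exact hmem

/-- products of elements of base-changed submodules -/
theorem mul_mem_baseChange_mul (P' P : Submodule A D) (w' w : A' ⊗[A] D)
    (hw' : w' ∈ P'.baseChange A') (hw : w ∈ P.baseChange A') :
    w' * w ∈ (P' * P).baseChange A' := by
  revert w
  rw [Submodule.baseChange_eq_span] at hw'
  induction hw' using Submodule.span_induction with
  | mem y hy =>
    obtain ⟨l, hl, rfl⟩ := hy
    intro w hw
    rw [Submodule.baseChange_eq_span] at hw
    induction hw using Submodule.span_induction with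
    | mem y' hy' =>
      obtain ⟨l', hl', rfl⟩ := hy'
      change ((1 : A') ⊗ₜ[A] l) * ((1 : A') ⊗ₜ[A] l') ∈ _
      rw [Algebra.TensorProduct.tmul_mul_tmul, mul_one]
      exact Submodule.tmul_mem_baseChange_of_mem 1 (Submodule.mul_mem_mul hl hl')
    | zero => rw [mul_zero]; exact Submodule.zero_mem _
    | add y z _ _ hy hz => rw [mul_add]; exact Submodule.add_mem _ hy hz
    | smul a y _ hy => rw [mul_smul_comm]; exact Submodule.smul_mem _ _ hy
  | zero => intro w' _; rw [zero_mul]; exact Submodule.zero_mem _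
  | add y z _ _ hy hz =>
    intro w' hw'
    rw [add_mul]
    exact Submodule.add_mem _ (hy w' hw') (hz w' hw')
  | smul a y _ hy =>
    intro w' hw'
    rw [smul_mul_assoc]
    exact Submodule.smul_mem _ _ (hy w' hw')

end Inter

section Main

variable {A : Type u} [CommRing A] {A' : Type u'} [CommRing A'] [Algebra A A']
  {D : Type v} [Ring D] [Algebra A D]
  {J : Type w} [Fintype J] [DecidableEq J]

/-- If `A' ⊗ D` is a matrix algebra over a faithfully flat `A'`, then for every endomorphism `φ`
of `D` the products `p' p` of intertwiners (`x p' = p' φ x`, `φ x p = p x`) generate the unit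
ideal. -/
theorem one_mem_inter_mul_inter [Module.FaithfullyFlat A A'] [Module.Finite A D] [Nonempty J]
    (Φ : A' ⊗[A] D →ₐ[A'] Matrix J J A') (hΦ : Function.Bijective Φ) (φ : D →ₐ[A] D) :
    (1 : D) ∈ inter (LinearMap.id : D →ₗ[A] D) φ.toLinearMap *
      inter φ.toLinearMap (LinearMap.id : D →ₗ[A] D) := by
  obtain ⟨j₀⟩ := ‹Nonempty J›
  let Φe : (A' ⊗[A] D) ≃ₐ[A'] Matrix J J A' := AlgEquiv.ofBijective Φ hΦ
  have hΦe : ∀ w, Φe w = Φ w := fun w => rfl
  let ψ : Matrix J J A' →ₐ[A'] Matrix J J A' :=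
    Φ.comp ((Algebra.TensorProduct.map (AlgHom.id A' A') φ).comp Φe.symm.toAlgHom)
  have hψ : ∀ x : D, ψ (Φ (1 ⊗ₜ x)) = Φ (1 ⊗ₜ φ x) := by
    intro x
    change Φ (Algebra.TensorProduct.map (AlgHom.id A' A') φ (Φe.symm (Φ (1 ⊗ₜ x)))) = _
    rw [show Φe.symm (Φ (1 ⊗ₜ x)) = 1 ⊗ₜ x from Φe.symm_apply_apply _,
      Algebra.TensorProduct.map_tmul]
    rfl
  -- intertwiners upstairs
  have h1 : ∀ z, Φe.symm (pint ψ j₀ z) ∈
      (inter φ.toLinearMap (LinearMap.id : D →ₗ[A] D)).baseChange A' := by
    intro z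
    apply mem_baseChange_inter
    intro d
    apply hΦ.1
    rw [map_mul, map_mul, ← hΦe (Φe.symm _), Φe.apply_symm_apply]
    change Φ (1 ⊗ₜ φ d) * _ = _ * Φ (1 ⊗ₜ d)
    rw [← hψ, map_mul_pint]
  have h2 : ∀ y, Φe.symm (pint' ψ j₀ y) ∈
      (inter (LinearMap.id : D →ₗ[A] D) φ.toLinearMap).baseChange A' := by
    intro y
    apply mem_baseChange_inter
    intro d
    apply hΦ.1
    rw [map_mul, map_mul, ← hΦe (Φe.symm _), Φe.apply_symm_apply]
    change Φ (1 ⊗ₜ d) * _ = _ * Φ (1 ⊗ₜ φ d)
    rw [← hψ, mul_pint']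
  have h3 : (1 : A' ⊗[A] D) ∈ (inter (LinearMap.id : D →ₗ[A] D) φ.toLinearMap *
      inter φ.toLinearMap (LinearMap.id : D →ₗ[A] D)).baseChange A' := by
    have : (1 : A' ⊗[A] D) = ∑ j, Φe.symm (pint' ψ j₀ (ψ (single j j₀ 1))) *
        Φe.symm (pint ψ j₀ (ψ (single j₀ j 1))) := by
      simp_rw [← map_mul, ← map_sum]
      rw [sum_pint'_mul_pint, map_one]
    rw [this]
    exact Submodule.sum_mem _ fun j _ => mul_mem_baseChange_mul _ _ _ _ (h2 _) (h1 _)
  exact Cl.mem_of_one_tmul_mem_baseChange (A' := A') _ _ h3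

/-- **Skolem–Noether over a local ring** for an algebra that becomes a matrix algebra over a
faithfully flat extension: every algebra endomorphism is conjugation by a unit. -/
theorem exists_unit_intertwiner [IsLocalRing A] [Module.FaithfullyFlat A A'] [Module.Finite A D]
    [Nonempty J] (hinj : Function.Injective (algebraMap A D))
    (hc : Subalgebra.center A D = ⊥)
    (Φ : A' ⊗[A] D →ₐ[A'] Matrix J J A') (hΦ : Function.Bijective Φ) (φ : D →ₐ[A] D) :
    ∃ u : Dˣ, ∀ x, φ x * u = u * x := by
  set P' := inter (LinearMap.id : D →ₗ[A] D) φ.toLinearMap with hP'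
  set P := inter φ.toLinearMap (LinearMap.id : D →ₗ[A] D) with hP
  have hone : (1 : D) ∈ P' * P := one_mem_inter_mul_inter Φ hΦ φ
  -- every product is a scalar
  have hscal : ∀ p' ∈ P', ∀ p ∈ P, ∃ r : A, p' * p = algebraMap A D r := by
    intro p' hp' p hp
    have : p' * p ∈ Subalgebra.center A D := by
      rw [Subalgebra.mem_center_iff]
      intro x
      have e1 := hp' x
      have e2 := hp x
      simp only [LinearMap.id_coe, id_eq, AlgHom.toLinearMap_apply] at e1 e2
      rw [← mul_assoc, e1, mul_assoc, e2, mul_assoc]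
    rw [hc, Algebra.mem_bot] at this
    obtain ⟨r, hr⟩ := this
    exact ⟨r, hr.symm⟩
  -- some product is a unit scalar
  have hex : ∃ p' ∈ P', ∃ p ∈ P, ∃ r : A, IsUnit r ∧ p' * p = algebraMap A D r := by
    by_contra hcon
    push Not at hcon
    have hle : P' * P ≤ Submodule.map (Algebra.linearMap A D)
        ((IsLocalRing.maximalIdeal A).restrictScalars A) := by
      rw [Submodule.mul_le]
      intro p' hp' p hp
      obtain ⟨r, hr⟩ := hscal p' hp' p hp
      refine ⟨r, ?_, hr.symm⟩
      have := hcon p' hp' p hp r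
      by_contra hr'
      have hu : IsUnit r := by
        by_contra hnu
        exact hr' ((IsLocalRing.mem_maximalIdeal r).mpr hnu)
      exact this hu hr
    obtain ⟨r, hr, hr1⟩ := hle hone
    have : r = 1 := hinj (by rw [map_one]; exact hr1)
    rw [this] at hr
    exact (IsLocalRing.maximalIdeal.isMaximal A).ne_top
      ((Ideal.eq_top_iff_one _).mpr hr)
  obtain ⟨p', hp', p, hp, r, hr, hpp⟩ := hex
  obtain ⟨r, rfl⟩ := hr
  -- `p * p'` is the same scalar, by a matrix computation upstairs
  have hpp2 : p * p' = algebraMap A D r := by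
    have hinj' : Function.Injective (fun d : D => Φ ((1 : A') ⊗ₜ[A] d)) := by
      intro a b hab
      have := hΦ.1 hab
      have h0 : (1 : A') ⊗ₜ[A] (a - b) = 0 := by rw [TensorProduct.tmul_sub, this, sub_self]
      exact sub_eq_zero.mp ((Module.FaithfullyFlat.one_tmul_eq_zero_iff A _ _).mp h0)
    apply hinj'
    change Φ (1 ⊗ₜ (p * p')) = Φ (1 ⊗ₜ algebraMap A D ↑r)
    have e1 : Φ (1 ⊗ₜ p') * Φ (1 ⊗ₜ p) = Φ (1 ⊗ₜ algebraMap A D ↑r) := by
      rw [← map_mul, Algebra.TensorProduct.tmul_mul_tmul, mul_one, hpp]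
    have e2 : Φ ((1 : A') ⊗ₜ[A] algebraMap A D ↑r) = algebraMap A A' ↑r • (1 : Matrix J J A') := by
      have : (1 : A') ⊗ₜ[A] algebraMap A D ↑r = algebraMap A A' ↑r • (1 : A' ⊗[A] D) := by
        rw [Algebra.TensorProduct.one_def, TensorProduct.smul_tmul', smul_eq_mul, mul_one,
          Algebra.algebraMap_eq_smul_one, Algebra.algebraMap_eq_smul_one (A := A'),
          TensorProduct.smul_tmul]
      rw [this, map_smul, map_one]
    have hu : IsUnit (algebraMap A A' ↑r) := (r.isUnit).map (algebraMap A A')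
    obtain ⟨ρ, hρ⟩ := hu
    have e3 : (ρ⁻¹ : A'ˣ).1 • Φ (1 ⊗ₜ p') * Φ (1 ⊗ₜ p) = 1 := by
      rw [smul_mul_assoc, e1, e2, ← hρ, smul_smul, Units.inv_mul, one_smul]
    have e4 := mul_eq_one_comm.mp e3
    rw [← map_mul, Algebra.TensorProduct.tmul_mul_tmul, mul_one] at e1
    rw [e2, ← hρ]
    rw [mul_smul_comm] at e4
    have := congrArg (fun X => (ρ : A') • X) e4
    simp only [smul_smul, Units.mul_inv, one_smul] at this
    rw [← map_mul, Algebra.TensorProduct.tmul_mul_tmul, mul_one] at this
    exact this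
  refine ⟨⟨p, algebraMap A D ↑r⁻¹ * p', ?_, ?_⟩, fun x => ?_⟩
  · rw [← mul_assoc, ← Algebra.commutes, mul_assoc, hpp2, ← map_mul, Units.inv_mul, map_one]
  · rw [mul_assoc, hpp, ← map_mul, Units.inv_mul, map_one]
  · have := hp x
    simpa using this

end Main

end Groth.Agent.R2.H14.SN
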