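import Mathlib
import Groth.Prelude.Def_QuadGrp
import Groth.Agent.R2.H14ClEvenMain
import Groth.Agent.R2.H14ClEvenCons

/-!
# Units of an even-rank regular Clifford algebra normalising the module are locally homogeneous
(helper87; uses helper14's structure theorem `exists_even_structure` / `center_eq_bot`)
-/

set_option autoImplicit false

namespace Groth.Agent.R2.H87.ClEven

open CliffordAlgebra

universe u v

variable {R : Type u} [CommRing R] {M : Type v} [AddCommGroup M] [Module R M]

/-- `R → C(Q)` is injective for a free module. -/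
theorem algebraMap_injective (Q : QuadraticForm R M) [Module.Free R M] :
    Function.Injective (algebraMap R (CliffordAlgebra Q)) := by
  obtain ⟨B, hB⟩ := Groth.Agent.R2.H14.Cl.exists_bilin Q
  intro a b hab
  have h := congrArg (Groth.Agent.R2.H14.Cl.toExterior Q B hB) hab
  unfold Groth.Agent.R2.H14.Cl.toExterior at h
  rw [changeFormEquiv_apply, changeFormEquiv_apply, changeForm_algebraMap,
    changeForm_algebraMap] at h
  exact (ExteriorAlgebra.algebraMap_leftInverse M).injective h

/-- An element commuting with all vectors is central. -/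
theorem mem_center_of_comm_ι (Q : QuadraticForm R M) (r : CliffordAlgebra Q)
    (hr : ∀ v, r * ι Q v = ι Q v * r) : r ∈ Subalgebra.center R (CliffordAlgebra Q) := by
  rw [Subalgebra.mem_center_iff]
  intro x
  induction x using CliffordAlgebra.induction with
  | algebraMap a => exact Algebra.commutes a r
  | ι v => exact (hr v).symm
  | mul a b ha hb => rw [mul_assoc, hb, ← mul_assoc, ha, mul_assoc]
  | add a b ha hb => rw [add_mul, mul_add, ha, hb]

/-- The centre of the Clifford algebra of a regular form of even rank `2m ≥ 2` is the base ring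
(any universes). -/
theorem center_eq_bot [Module.Free R M] [Module.Finite R M] (m : ℕ) (hm : 1 ≤ m)
    (hM : Module.finrank R M = 2 * m) (Q : QuadraticForm R M) (hQ : QuadGrp.IsRegular Q) :
    Subalgebra.center R (CliffordAlgebra Q) = ⊥ := by
  have hnt : Nontrivial R := by
    by_contra h
    rw [not_nontrivial_iff_subsingleton] at h
    rw [Module.finrank_subsingleton] at hM
    omega
  let b : Module.Basis (Fin (2 * m)) R M := Module.finBasisOfFinrankEq R M hM
  let e : M ≃ₗ[R] (Fin (2 * m) → R) := b.equivFun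
  let Q' : QuadraticForm R (Fin (2 * m) → R) := Q.comp e.symm.toLinearMap
  have hQ' : Function.Bijective (QuadraticMap.polarBilin Q') := by
    have hpol : ∀ x y, QuadraticMap.polarBilin Q' x y =
        QuadraticMap.polarBilin Q (e.symm x) (e.symm y) := by
      intro x y
      simp only [QuadraticMap.polarBilin_apply_apply, QuadraticMap.polar, Q',
        QuadraticMap.comp_apply, LinearEquiv.coe_coe, map_add]
    constructor
    · rw [injective_iff_map_eq_zero]
      intro x hx
      have h0 : QuadraticMap.polarBilin Q (e.symm x) = 0 := by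
        ext z
        have := congrArg (fun f => f (e z)) hx
        simp only [hpol, LinearEquiv.symm_apply_apply, LinearMap.zero_apply] at this
        exact this
      have := (injective_iff_map_eq_zero _).mp hQ.1 _ h0
      exact (LinearEquiv.map_eq_zero_iff e.symm).mp this
    · intro f
      obtain ⟨z, hz⟩ := hQ.2 (f.comp e.toLinearMap)
      refine ⟨e z, LinearMap.ext fun y => ?_⟩
      rw [hpol, LinearEquiv.symm_apply_apply, hz]
      simp
  have hrk : Module.finrank R (Fin (2 * m) → R) = 2 * m := Module.finrank_fin_fun R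
  obtain ⟨A', _, _, hff, -, J, _, _, p, Φ, hΦ, hgr, -, -, -⟩ :=
    Groth.Agent.R2.H14.Cl.exists_even_structure R (Fin (2 * m) → R) m hm hrk Q' hQ'
  have hc' : Subalgebra.center R (CliffordAlgebra Q') = ⊥ :=
    Groth.Agent.R2.H14.Cl.center_eq_bot Q' Φ hΦ
  let ie : Q.IsometryEquiv Q' :=
    { e with map_app' := fun x => by simp [Q'] }
  let E : CliffordAlgebra Q ≃ₐ[R] CliffordAlgebra Q' := equivOfIsometry ie
  rw [eq_bot_iff]
  intro x hx
  rw [Subalgebra.mem_center_iff] at hx
  have hEx : E x ∈ Subalgebra.center R (CliffordAlgebra Q') := by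
    rw [Subalgebra.mem_center_iff]
    intro y
    obtain ⟨y, rfl⟩ := E.surjective y
    rw [← map_mul, ← map_mul, hx]
  rw [hc', Algebra.mem_bot] at hEx
  obtain ⟨a, ha⟩ := hEx
  rw [Algebra.mem_bot]
  refine ⟨a, E.injective ?_⟩
  rw [AlgEquiv.commutes, ha]

open scoped Pointwise

/-- If the centre of `C(Q)` is `R` and `R → C(Q)` is injective, every unit normalising `M` is
locally homogeneous. -/
theorem gPin'_le_lH_of_center (Q : QuadraticForm R M)
    (hc : Subalgebra.center R (CliffordAlgebra Q) = ⊥)
    (hinj : Function.Injective (algebraMap R (CliffordAlgebra Q))) :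
    QuadGrp.GPin' Q ≤ QuadGrp.LH Q := by
  classical
  intro u hu
  rw [QuadGrp.mem_GPin'] at hu
  rw [QuadGrp.mem_LH]
  set u' : CliffordAlgebra Q := (u : CliffordAlgebra Q) with hu'
  set ui : CliffordAlgebra Q := (↑u⁻¹ : CliffordAlgebra Q) with hui
  have huu : u' * ui = 1 := Units.mul_inv u
  have hiu : ui * u' = 1 := Units.inv_mul u
  -- conjugation by `u` preserves the vectors
  have hconj : ∀ v, ∃ w, ι Q w = u' * ι Q v * ui := by
    intro v
    have hmem : ConjAct.toConjAct u • ι Q v ∈ ConjAct.toConjAct u • LinearMap.range (ι Q) :=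
      Submodule.smul_mem_pointwise_smul _ _ _ ⟨v, rfl⟩
    rw [hu] at hmem
    obtain ⟨w, hw⟩ := hmem
    exact ⟨w, hw.trans (ConjAct.units_smul_def _ _)⟩
  set u0 : CliffordAlgebra Q := (DirectSum.decompose (evenOdd Q) u' 0 : CliffordAlgebra Q) with hu0
  set u1 : CliffordAlgebra Q := (DirectSum.decompose (evenOdd Q) u' 1 : CliffordAlgebra Q) with hu1
  have hu0mem : u0 ∈ evenOdd Q 0 := SetLike.coe_mem _
  have hu1mem : u1 ∈ evenOdd Q 1 := SetLike.coe_mem _
  have hsum : u' = u0 + u1 := by
    conv_lhs => rw [← DirectSum.sum_support_decompose (evenOdd Q) u']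
    rw [Finset.sum_subset (Finset.subset_univ _) (fun i _ hi => by
      rw [DFinsupp.notMem_support_iff.mp hi, ZeroMemClass.coe_zero])]
    exact Fin.sum_univ_two _
  -- the even component intertwines as well
  have hint : ∀ v w, ι Q w = u' * ι Q v * ui → u0 * ι Q v = ι Q w * u0 := by
    intro v w hw
    have h1 : u' * ι Q v = ι Q w * u' := by
      rw [hw, mul_assoc, mul_assoc, hiu, mul_one]
    have hv : ι Q v ∈ evenOdd Q 1 := ι_mem_evenOdd_one Q v
    have hwm : ι Q w ∈ evenOdd Q 1 := ι_mem_evenOdd_one Q w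
    have k1 : ((DirectSum.decompose (evenOdd Q) (u' * ι Q v)) (0 + 1) : CliffordAlgebra Q) =
        u0 * ι Q v := DirectSum.coe_decompose_mul_add_of_right_mem (evenOdd Q) hv
    have k2 : ((DirectSum.decompose (evenOdd Q) (ι Q w * u')) (1 + 0) : CliffordAlgebra Q) =
        ι Q w * u0 := DirectSum.coe_decompose_mul_add_of_left_mem (evenOdd Q) hwm
    rw [← k1, ← k2, h1]
    rfl
  -- `r₀ = u⁻¹ u₀` is central
  have hcen : ui * u0 ∈ Subalgebra.center R (CliffordAlgebra Q) := by
    apply mem_center_of_comm_ι
    intro v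
    obtain ⟨w, hw⟩ := hconj v
    have h2 : ui * ι Q w * u' = ι Q v := by
      rw [hw, ← mul_assoc, ← mul_assoc, hiu, one_mul, mul_assoc, hiu, mul_one]
    calc ui * u0 * ι Q v = ui * (u0 * ι Q v) := mul_assoc _ _ _
      _ = ui * (ι Q w * u0) := by rw [hint v w hw]
      _ = (ui * ι Q w * u') * (ui * u0) := by
        rw [mul_assoc (ui * ι Q w), ← mul_assoc u', huu, one_mul, mul_assoc]
      _ = ι Q v * (ui * u0) := by rw [h2]
  rw [hc, Algebra.mem_bot] at hcen
  obtain ⟨ρ, hρ⟩ := hcen
  have hρu : ρ • u' = u0 := by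
    calc ρ • u' = algebraMap R _ ρ * u' := Algebra.smul_def _ _
      _ = u' * algebraMap R _ ρ := Algebra.commutes _ _
      _ = u' * (ui * u0) := by rw [hρ]
      _ = u0 := by rw [← mul_assoc, huu, one_mul]
  have h00 : ρ • u0 = u0 := by
    have h := congrArg
      (fun x => ((DirectSum.decompose (evenOdd Q) x) 0 : CliffordAlgebra Q)) hρu
    simp only [DirectSum.decompose_smul, DirectSum.smul_apply, Submodule.coe_smul] at h
    rw [DirectSum.decompose_of_mem_same (evenOdd Q) hu0mem] at h
    exact h
  have hidem : ρ * ρ = ρ := by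
    apply hinj
    have h1 : (ρ * ρ) • u' = ρ • u' := by rw [mul_smul, hρu, h00]
    calc algebraMap R (CliffordAlgebra Q) (ρ * ρ)
        = algebraMap R (CliffordAlgebra Q) (ρ * ρ) * (u' * ui) := by rw [huu, mul_one]
      _ = ((ρ * ρ) • u') * ui := by rw [Algebra.smul_def, mul_assoc]
      _ = (ρ • u') * ui := by rw [h1]
      _ = algebraMap R (CliffordAlgebra Q) ρ * (u' * ui) := by rw [Algebra.smul_def, mul_assoc]
      _ = algebraMap R (CliffordAlgebra Q) ρ := by rw [huu, mul_one]
  refine ⟨ρ, hidem, ?_, ?_⟩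
  · rw [hρu]
    exact hu0mem
  · rw [sub_smul, one_smul, hρu]
    have : u' - u0 = u1 := by rw [hsum]; abel
    rw [this]
    exact hu1mem

end Groth.Agent.R2.H87.ClEven
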