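import Mathlib
import Groth.Prelude.Def_QuadGrp
import Groth.Agent.R2.H14SkolemNoether
import Groth.Agent.R2.H14ClEvenMain2
import Groth.Agent.R2.H87ClEven

/-!
# Lifting isometries to the Clifford group over a local ring (even rank)
-/

set_option autoImplicit false
set_option linter.unusedSectionVars false

namespace Groth.Agent.R2.H14.Cl

open CliffordAlgebra Matrix
open scoped TensorProduct Pointwise

universe u v

variable {R : Type u} [CommRing R] {M : Type v} [AddCommGroup M] [Module R M]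

/-- a unit whose conjugation induces a bijective isometry on `M` normalises `M` -/
theorem mem_GPin'_of_conj (Q : QuadraticForm R M) (u : (CliffordAlgebra Q)ˣ) (g : M ≃ₗ[R] M)
    (hu : ∀ v : M, (u : CliffordAlgebra Q) * ι Q v * ↑u⁻¹ = ι Q (g v)) :
    u ∈ QuadGrp.GPin' Q := by
  rw [QuadGrp.mem_GPin']
  ext x
  rw [Submodule.mem_smul_pointwise_iff_exists]
  constructor
  · rintro ⟨b, ⟨v, rfl⟩, rfl⟩
    rw [ConjAct.units_smul_def, ConjAct.ofConjAct_toConjAct, hu]
    exact ⟨_, rfl⟩
  · rintro ⟨w, rfl⟩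
    refine ⟨ι Q (g.symm w), ⟨_, rfl⟩, ?_⟩
    rw [ConjAct.units_smul_def, ConjAct.ofConjAct_toConjAct, hu, LinearEquiv.apply_symm_apply]

/-- **Lifting isometries** (even rank, local base): every isometry is conjugation by a unit of the
Clifford algebra. -/
theorem exists_unit_conj [IsLocalRing R] [Module.Free R M] [Module.Finite R M]
    (m : ℕ) (hm : 1 ≤ m) (hM : Module.finrank R M = 2 * m) (Q : QuadraticForm R M)
    (hQ : QuadGrp.IsRegular Q) (g : M ≃ₗ[R] M) (hg : g ∈ QuadGrp.O Q) :
    ∃ u : (CliffordAlgebra Q)ˣ, ∀ x : CliffordAlgebra Q,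
      CliffordAlgebra.map (QuadGrp.isometryOfMem Q g hg) x * u = u * x := by
  obtain ⟨A', _, _, hff, -, J, _, _, p, Φ, hΦ, hgr, hcard, -, -⟩ :=
    exists_even_structure' R M m hm hM Q hQ
  have : Nonempty J := by
    rw [← Fintype.card_pos_iff, hcard]
    positivity
  exact SN.exists_unit_intertwiner (Groth.Agent.R2.H87.ClEven.algebraMap_injective Q)
    (Groth.Agent.R2.H87.ClEven.center_eq_bot m hm hM Q hQ) Φ hΦ _

end Groth.Agent.R2.H14.Cl
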