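import Mathlib
import Groth.Prelude.Def_QuadGrp
import Groth.Agent.R2.H14ClLift
import Groth.Agent.R2.H14ClEvenCons2
import Groth.Agent.R2.H14ClGSpin
import Groth.Agent.R2.H14ClOddCenter

/-!
# Parity of elements of the Clifford group over a local ring (even rank), and the Dickson condition
-/

set_option autoImplicit false
set_option linter.unusedSectionVars false

namespace Groth.Agent.R2.H14.Cl

open CliffordAlgebra Matrix
open scoped TensorProduct Pointwise

universe u v

variable {R : Type u} [CommRing R] {M : Type v} [AddCommGroup M] [Module R M]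

/-- an idempotent of a local ring is `0` or `1` -/
theorem idempotent_eq_zero_or_one [IsLocalRing R] (e : R) (he : IsIdempotentElem e) :
    e = 0 ∨ e = 1 := by
  rcases IsLocalRing.isUnit_or_isUnit_one_sub_self e with h | h
  · right
    obtain ⟨t, ht⟩ := h.exists_left_inv
    calc e = t * (e * e) := by rw [← mul_assoc, ht, one_mul]
      _ = 1 := by rw [he.eq, ht]
  · left
    obtain ⟨t, ht⟩ := h.exists_left_inv
    calc e = t * ((1 - e) * e) := by rw [← mul_assoc, ht, one_mul]
      _ = 0 := by rw [sub_mul, one_mul, he.eq, sub_self, mul_zero]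

/-- Over a local ring, every unit of the Clifford algebra of a regular form of even rank that
normalises `M` is even or odd. -/
theorem even_or_odd_of_mem_GPin' [IsLocalRing R] [Module.Free R M] [Module.Finite R M]
    (m : ℕ) (hm : 1 ≤ m) (hM : Module.finrank R M = 2 * m) (Q : QuadraticForm R M)
    (hQ : QuadGrp.IsRegular Q) (u : (CliffordAlgebra Q)ˣ) (hu : u ∈ QuadGrp.GPin' Q) :
    (u : CliffordAlgebra Q) ∈ evenOdd Q 0 ∨ (u : CliffordAlgebra Q) ∈ evenOdd Q 1 := by
  have hLH := Groth.Agent.R2.H87.ClEven.gPin'_le_lH_of_center Q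
    (Groth.Agent.R2.H87.ClEven.center_eq_bot m hm hM Q hQ)
    (Groth.Agent.R2.H87.ClEven.algebraMap_injective Q) hu
  rw [QuadGrp.mem_LH] at hLH
  obtain ⟨e, he, h0, h1⟩ := hLH
  rcases idempotent_eq_zero_or_one e he with rfl | rfl
  · right
    rwa [sub_zero, one_smul] at h1
  · left
    rwa [one_smul] at h0

/-- A unit inducing (by conjugation) an isometry satisfying the Dickson condition cannot be odd. -/
theorem not_odd_of_dickson [Nontrivial R] [Module.Free R M] [Module.Finite R M]
    (m : ℕ) (hm : 1 ≤ m) (hM : Module.finrank R M = 2 * m) (Q : QuadraticForm R M)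
    (hQ : QuadGrp.IsRegular Q) (g : M ≃ₗ[R] M) (hg : g ∈ QuadGrp.O Q)
    (hD : QuadGrp.IsDicksonTrivial Q g hg) (u : (CliffordAlgebra Q)ˣ)
    (hu : ∀ x : CliffordAlgebra Q,
      CliffordAlgebra.map (QuadGrp.isometryOfMem Q g hg) x * u = u * x) :
    (u : CliffordAlgebra Q) ∉ evenOdd Q 1 := by
  intro h1
  obtain ⟨A', _, _, hff, -, J, _, _, p, Φ, hΦ, hgr, -, -, -⟩ :=
    exists_even_structure' R M m hm hM Q hQ
  have hcen := centralizer_eq Q p Φ hgr hΦ
  have hmem : (u : CliffordAlgebra Q) ∈ Subalgebra.centralizer R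
      ((even Q).val '' (Subalgebra.center R ↥(even Q) : Set ↥(even Q))) := by
    rw [Subalgebra.mem_centralizer_iff]
    rintro _ ⟨z, hz, rfl⟩
    have h := hu (z : CliffordAlgebra Q)
    rw [hD z hz] at h
    exact h
  rw [hcen] at hmem
  have h0 : (u : CliffordAlgebra Q) = 0 := evenOdd_disjoint' Q 0 _ hmem (by rwa [zero_add])
  have h10 : (1 : CliffordAlgebra Q) = 0 := by
    rw [← Units.mul_inv u, h0, zero_mul]
  have := Groth.Agent.R2.H87.ClEven.algebraMap_injective Q
    (show algebraMap R (CliffordAlgebra Q) 1 = algebraMap R (CliffordAlgebra Q) 0 by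
      rw [map_one, map_zero, h10])
  exact one_ne_zero this

end Groth.Agent.R2.H14.Cl
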