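import Mathlib
import Groth.Prelude.Def_QuadGrp
import Groth.Agent.R2.H14ClLift2

/-!
# Reflections, odd lifts and the index of `SOeven` in `O` over a local ring (even rank)
-/

set_option autoImplicit false
set_option linter.unusedSectionVars false

namespace Groth.Agent.R2.H14.Cl

open CliffordAlgebra Matrix
open scoped TensorProduct Pointwise

universe u v

variable {R : Type u} [CommRing R] {M : Type v} [AddCommGroup M] [Module R M]

/-- an isometry with an even lift satisfies the Dickson condition -/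
theorem mem_SOeven_of_even_lift (Q : QuadraticForm R M) (g : M ≃ₗ[R] M) (hg : g ∈ QuadGrp.O Q)
    (u : (CliffordAlgebra Q)ˣ)
    (hu : ∀ x : CliffordAlgebra Q,
      CliffordAlgebra.map (QuadGrp.isometryOfMem Q g hg) x * u = u * x)
    (h0 : (u : CliffordAlgebra Q) ∈ evenOdd Q 0) : g ∈ QuadGrp.SOeven Q := by
  refine ⟨hg, fun z hz => ?_⟩
  have h1 := hu (z : CliffordAlgebra Q)
  have h2 : (u : CliffordAlgebra Q) * z = z * u := by
    have := (Subalgebra.mem_center_iff.mp hz) ⟨u, h0⟩
    exact congrArg Subtype.val this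
  rw [h2] at h1
  have := congrArg (· * (↑u⁻¹ : CliffordAlgebra Q)) h1
  simpa [mul_assoc] using this

/-- lifts multiply -/
theorem lift_mul (Q : QuadraticForm R M) (g h : M ≃ₗ[R] M) (hg : g ∈ QuadGrp.O Q)
    (hh : h ∈ QuadGrp.O Q) (hgh : g * h ∈ QuadGrp.O Q) (u w : (CliffordAlgebra Q)ˣ)
    (hu : ∀ x : CliffordAlgebra Q,
      CliffordAlgebra.map (QuadGrp.isometryOfMem Q g hg) x * u = u * x)
    (hw : ∀ x : CliffordAlgebra Q,
      CliffordAlgebra.map (QuadGrp.isometryOfMem Q h hh) x * w = w * x) :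
    ∀ x : CliffordAlgebra Q,
      CliffordAlgebra.map (QuadGrp.isometryOfMem Q (g * h) hgh) x * ↑(u * w) = ↑(u * w) * x := by
  have hcomp : CliffordAlgebra.map (QuadGrp.isometryOfMem Q (g * h) hgh) =
      (CliffordAlgebra.map (QuadGrp.isometryOfMem Q g hg)).comp
        (CliffordAlgebra.map (QuadGrp.isometryOfMem Q h hh)) := by
    apply CliffordAlgebra.hom_ext
    ext m
    simp [QuadGrp.isometryOfMem]
  intro x
  rw [hcomp, AlgHom.comp_apply, Units.val_mul, ← mul_assoc, hu, mul_assoc, hw, mul_assoc]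

/-- a regular form of positive rank over a local ring represents a unit -/
theorem exists_isUnit_apply [IsLocalRing R] [Module.Free R M] [Module.Finite R M]
    (m : ℕ) (hm : 1 ≤ m) (hM : Module.finrank R M = 2 * m) (Q : QuadraticForm R M)
    (hQ : QuadGrp.IsRegular Q) : ∃ v, IsUnit (Q v) := by
  by_contra hcon
  push Not at hcon
  have hmax : ∀ v, Q v ∈ IsLocalRing.maximalIdeal R :=
    fun v => (IsLocalRing.mem_maximalIdeal _).mpr (hcon v)
  have hpol : ∀ v w, QuadraticMap.polar Q v w ∈ IsLocalRing.maximalIdeal R := by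
    intro v w
    unfold QuadraticMap.polar
    exact sub_mem (sub_mem (hmax _) (hmax _)) (hmax _)
  let b : Module.Basis (Fin (2 * m)) R M := Module.finBasisOfFinrankEq R M hM
  let i0 : Fin (2 * m) := ⟨0, by omega⟩
  obtain ⟨v, hv⟩ := hQ.2 (b.coord i0)
  have h1 : QuadraticMap.polar Q v (b i0) = 1 := by
    have := congrArg (fun f => f (b i0)) hv
    simpa using this
  exact (IsLocalRing.maximalIdeal.isMaximal R).ne_top
    ((Ideal.eq_top_iff_one _).mpr (h1 ▸ hpol v (b i0)))

/-- For `v` with `Q v` a unit, `ι v` is an odd unit lifting the isometry `-r_v`. -/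
theorem exists_odd_lift (Q : QuadraticForm R M) (v : M) (hv : IsUnit (Q v)) :
    ∃ (a : M ≃ₗ[R] M) (ha : a ∈ QuadGrp.O Q) (u : (CliffordAlgebra Q)ˣ),
      (u : CliffordAlgebra Q) ∈ evenOdd Q 1 ∧
      ∀ x : CliffordAlgebra Q,
        CliffordAlgebra.map (QuadGrp.isometryOfMem Q a ha) x * u = u * x := by
  obtain ⟨c, hc⟩ := hv
  let f : M →ₗ[R] R := (↑c⁻¹ : R) • QuadraticMap.polarBilin Q v
  have hfw : ∀ w, f w * Q v = QuadraticMap.polar Q v w := by
    intro w
    change (↑c⁻¹ : R) • QuadraticMap.polar Q v w * Q v = _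
    rw [smul_eq_mul, ← hc, mul_assoc, mul_comm _ (c : R), ← mul_assoc, Units.inv_mul, one_mul]
  have hf2 : f v = 2 := by
    change (↑c⁻¹ : R) • QuadraticMap.polar Q v v = _
    rw [QuadraticMap.polar_self, smul_eq_mul, ← hc, nsmul_eq_mul, Nat.cast_ofNat, mul_left_comm,
      Units.inv_mul, mul_one]
  let a : M ≃ₗ[R] M := (LinearEquiv.neg R) * Module.reflection hf2
  have haw : ∀ w, a w = -(w - f w • v) := by
    intro w
    change -(Module.reflection hf2 w) = _
    rw [Module.reflection_apply]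
  have ha : a ∈ QuadGrp.O Q := by
    rw [QuadGrp.mem_O]
    intro w
    rw [haw, QuadraticMap.map_neg, sub_eq_add_neg, ← neg_smul]
    have h1 : Q (w + (-f w) • v) = Q w + Q ((-f w) • v) + QuadraticMap.polar Q w ((-f w) • v) := by
      unfold QuadraticMap.polar
      ring
    rw [h1, QuadraticMap.map_smul, QuadraticMap.polar_smul_right, smul_eq_mul, smul_eq_mul,
      QuadraticMap.polar_comm Q w v, ← hfw]
    ring
  have hιι : ι Q v * ι Q v = algebraMap R _ (Q v) := ι_sq_scalar Q v
  let u : (CliffordAlgebra Q)ˣ :=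
    ⟨ι Q v, (↑c⁻¹ : R) • ι Q v,
      by rw [mul_smul_comm, hιι, ← hc, Algebra.smul_def, ← map_mul, Units.inv_mul, map_one],
      by rw [smul_mul_assoc, hιι, ← hc, Algebra.smul_def, ← map_mul, Units.inv_mul, map_one]⟩
  refine ⟨a, ha, u, ι_mem_evenOdd_one Q v, ?_⟩
  intro x
  change CliffordAlgebra.map (QuadGrp.isometryOfMem Q a ha) x * ι Q v = ι Q v * x
  induction x using CliffordAlgebra.induction with
  | algebraMap r => rw [AlgHom.commutes, Algebra.commutes]
  | ι w =>
    rw [CliffordAlgebra.map_apply_ι]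
    change ι Q (a w) * ι Q v = _
    rw [haw, map_neg, map_sub, map_smul, neg_mul, sub_mul, smul_mul_assoc, hιι, Algebra.smul_def,
      ← RingHom.map_mul, hfw, ← ι_mul_ι_add_swap]
    abel
  | mul x y hx hy => rw [map_mul, mul_assoc, hy, ← mul_assoc, hx, mul_assoc]
  | add x y hx hy => rw [map_add, add_mul, mul_add, hx, hy]

end Groth.Agent.R2.H14.Cl
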