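import Mathlib
import Groth.Agent.R2.H14ClGPin
import Groth.Agent.R2.H14ClOddFacts
import Groth.Agent.R2.H14ClOddLocal

/-!
# Units normalising the module in odd rank: local homogeneity and the factorisation `Z^× · GSpin`
-/

set_option autoImplicit false
set_option linter.unusedSectionVars false

namespace Groth.Agent.R2.H14.Cl

open CliffordAlgebra

universe u v

section Pin

variable {R : Type u} [CommRing R] {M : Type v} [AddCommGroup M] [Module R M]
  (Q : QuadraticForm R M)

/-- a unit of Clifford norm one normalising `M` is locally homogeneous, when `star` is trivial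
on the centre and `2` is invertible -/
theorem isLocHomog_of_normOne [Invertible (2 : R)] [Module.Free R M]
    (hb : ∀ z ∈ Subalgebra.center R (CliffordAlgebra Q), z ∈ evenOdd Q 0 →
      z ∈ (algebraMap R (CliffordAlgebra Q)).range)
    (hstar : ∀ z ∈ Subalgebra.center R (CliffordAlgebra Q), z ∈ evenOdd Q 1 → star z = z)
    (u : (CliffordAlgebra Q)ˣ) (hu : u ∈ QuadGrp.GPin' Q) (hn : u ∈ QuadGrp.normOne Q) :
    u ∈ QuadGrp.LH Q := by
  have hinj := algebraMap_injective' Q
  rw [QuadGrp.mem_LH]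
  rw [QuadGrp.mem_normOne] at hn
  obtain ⟨hc0, hc1⟩ := inv_mul_P_mem_center Q u hu
  set u' : CliffordAlgebra Q := (u : CliffordAlgebra Q) with hu'
  set ui : CliffordAlgebra Q := (↑u⁻¹ : CliffordAlgebra Q) with hui
  have huu : u' * ui = 1 := Units.mul_inv u
  have hiu : ui * u' = 1 := Units.inv_mul u
  set u0 := P0 Q u' with hu0
  set u1 := P1 Q u' with hu1
  have h0 : u0 ∈ evenOdd Q 0 := P0_mem Q u'
  have h1 : u1 ∈ evenOdd Q 1 := P1_mem Q u'
  have hsum : u0 + u1 = u' := P0_add_P1 Q u'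
  set c₀ := ui * u0 with hc₀
  set c₁ := ui * u1 with hc₁
  have hc01 : c₀ + c₁ = 1 := by rw [hc₀, hc₁, ← mul_add, hsum, hiu]
  have hstarZ : ∀ c ∈ Subalgebra.center R (CliffordAlgebra Q), star c = c := by
    intro c hc
    obtain ⟨k0, k1⟩ := P_mem_center Q hc
    obtain ⟨a, ha⟩ := hb _ k0 (P0_mem Q c)
    conv_lhs => rw [← P0_add_P1 Q c]
    rw [star_add, ← ha, star_algebraMap, hstar _ k1 (P1_mem Q c), ha, P0_add_P1]
  have e0 : u0 = u' * c₀ := by rw [hc₀, ← mul_assoc, huu, one_mul]
  have e1 : u1 = u' * c₁ := by rw [hc₁, ← mul_assoc, huu, one_mul]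
  have hs0 : star u0 = c₀ * star u' := by rw [e0, star_mul, hstarZ c₀ hc0]
  have hs1 : star u1 = c₁ * star u' := by rw [e1, star_mul, hstarZ c₁ hc1]
  have e00 : star u0 * u0 = c₀ * c₀ := by
    rw [hs0]
    conv_lhs => rw [e0]
    rw [mul_assoc, ← mul_assoc (star u'), hn, one_mul]
  have e01 : star u0 * u1 = c₀ * c₁ := by
    rw [hs0]
    conv_lhs => rw [e1]
    rw [mul_assoc, ← mul_assoc (star u'), hn, one_mul]
  have e10 : star u1 * u0 = c₁ * c₀ := by
    rw [hs1]
    conv_lhs => rw [e0]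
    rw [mul_assoc, ← mul_assoc (star u'), hn, one_mul]
  -- the odd part of `star u * u = 1` vanishes
  have hodd : star u0 * u1 + star u1 * u0 = 0 := by
    have hs0m := star_mem_evenOdd Q h0
    have hs1m := star_mem_evenOdd Q h1
    have hA : star u0 * u0 + star u1 * u1 ∈ evenOdd Q 0 := by
      refine Submodule.add_mem _ ?_ ?_
      · have := mul_mem_evenOdd Q hs0m h0
        rwa [add_zero] at this
      · have := mul_mem_evenOdd Q hs1m h1
        rwa [show (1 : ZMod 2) + 1 = 0 from by decide] at this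
    have hB : star u0 * u1 + star u1 * u0 ∈ evenOdd Q 1 := by
      refine Submodule.add_mem _ ?_ ?_
      · have := mul_mem_evenOdd Q hs0m h1
        rwa [zero_add] at this
      · have := mul_mem_evenOdd Q hs1m h0
        rwa [add_zero] at this
    have hexp : star u0 * u1 + star u1 * u0 = 1 - (star u0 * u0 + star u1 * u1) := by
      rw [← hn, ← hsum, star_add]
      noncomm_ring
    have hB0 : star u0 * u1 + star u1 * u0 ∈ evenOdd Q 0 := by
      rw [hexp]
      exact Submodule.sub_mem _ (SetLike.one_mem_graded (evenOdd Q)) hA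
    exact evenOdd_disjoint' Q 0 _ hB0 (by rwa [zero_add])
  have hcc : c₀ * c₁ = 0 := by
    rw [e01, e10, ← (Subalgebra.mem_center_iff.mp hc0) c₁] at hodd
    have h2 : (2 : R) • (c₁ * c₀) = 0 := by rw [two_smul]; exact hodd
    have h3 : c₁ * c₀ = 0 := by
      calc c₁ * c₀ = ((⅟2 : R) * 2) • (c₁ * c₀) := by rw [invOf_mul_self, one_smul]
        _ = 0 := by rw [mul_smul, h2, smul_zero]
    rw [(Subalgebra.mem_center_iff.mp hc0) c₁] at h3
    exact h3
  have hidem : c₀ * c₀ = c₀ := by
    have : c₁ = 1 - c₀ := by rw [← hc01]; abel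
    rw [this, mul_sub, mul_one, sub_eq_zero] at hcc
    exact hcc.symm
  have hc0e : c₀ ∈ evenOdd Q 0 := by
    rw [← hidem, ← e00]
    have := mul_mem_evenOdd Q (star_mem_evenOdd Q h0) h0
    rwa [add_zero] at this
  obtain ⟨a, ha⟩ := hb c₀ hc0 hc0e
  have hau : a • u' = u0 := by
    rw [Algebra.smul_def, ha, ← (Subalgebra.mem_center_iff.mp hc0) u', ← e0]
  refine ⟨a, ?_, ?_, ?_⟩
  · apply hinj
    rw [map_mul, ha, hidem]
  · rw [hau]
    exact h0
  · rw [sub_smul, one_smul, hau]
    have : u' - u0 = u1 := by rw [← hsum]; abel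
    rw [this]
    exact h1

end Pin

end Groth.Agent.R2.H14.Cl
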