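import Groth.Prelude.Def_DescFam

/-!
Helper library (helper43): isomorphisms of descent data for schemes built from natural bijections
on points; pullback of descent data along a self-map of a family is isomorphic to the identity,
and a double pullback along two morphisms of families composing to a self-map is too.
-/

set_option autoImplicit false
set_option backward.isDefEq.respectTransparency false
set_option backward.isDefEq.respectTransparency.types false
universe w' w u
open CategoryTheory CategoryTheory.Limits AlgebraicGeometry Desc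

namespace Groth.Agent.R2.H43.DescIso

section over
variable {X : Scheme.{u}}

/-- the universal point of `V` -/
def univLift (V : Over X) : Lifts V V.hom := ⟨𝟙 _, Category.id_comp _⟩

/-- restriction of a lift along `r` -/
def Lifts.restr {V : Over X} {T T' : Scheme.{u}} (r : T' ⟶ T) {x : T ⟶ X} (v : Lifts V x)
    (y : T' ⟶ X) (hy : r ≫ x = y) : Lifts V y :=
  ⟨r ≫ v.1, by rw [Category.assoc, v.2, hy]⟩

/-- a natural family of maps on lifts -/
structure NatLifts (V V' : Over X) where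
  m : ∀ ⦃T : Scheme.{u}⦄ (x : T ⟶ X), Lifts V x → Lifts V' x
  nat : ∀ ⦃T T' : Scheme.{u}⦄ (r : T' ⟶ T) (x : T ⟶ X) (y : T' ⟶ X) (_ : r ≫ x = y)
    (v : Lifts V x) (v' : Lifts V y), v'.1 = r ≫ v.1 → (m y v').1 = r ≫ (m x v).1

/-- the morphism over `X` attached to a natural family of maps on lifts (Yoneda) -/
def NatLifts.hom {V V' : Over X} (n : NatLifts V V') : V ⟶ V' :=
  Over.homMk (n.m V.hom (univLift V)).1 (n.m V.hom (univLift V)).2

lemma NatLifts.comp_hom {V V' : Over X} (n : NatLifts V V') {T : Scheme.{u}} {x : T ⟶ X}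
    (v : Lifts V x) : v.1 ≫ n.hom.left = (n.m x v).1 := by
  have := n.nat v.1 V.hom x v.2 (univLift V) v (by simp [univLift])
  rw [this]
  rfl

lemma over_hom_ext_lifts {V V' : Over X} (a b : V ⟶ V')
    (h : ∀ ⦃T : Scheme.{u}⦄ (x : T ⟶ X) (v : Lifts V x), v.1 ≫ a.left = v.1 ≫ b.left) : a = b := by
  apply Over.OverMorphism.ext
  have := h V.hom (univLift V)
  simpa [univLift] using this

end over

section fam
variable {S : Scheme.{u}} {κ : Type w} {V : κ → Scheme.{u}} {v : ∀ j, V j ⟶ S}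

/-- A natural family of bijections on lifts compatible with the gluing bijections. -/
structure PtIso (D D' : SchDDFam v) where
  e : ∀ ⦃T : Scheme.{u}⦄ ⦃j : κ⦄ (x : T ⟶ V j), Lifts (D.obj j) x ≃ Lifts (D'.obj j) x
  nat : ∀ ⦃T T' : Scheme.{u}⦄ (r : T' ⟶ T) ⦃j : κ⦄ (x : T ⟶ V j) (y : T' ⟶ V j) (_ : r ≫ x = y)
    (p : Lifts (D.obj j) x) (p' : Lifts (D.obj j) y), p'.1 = r ≫ p.1 → (e y p').1 = r ≫ (e x p).1
  compat : ∀ ⦃T : Scheme.{u}⦄ ⦃j j' : κ⦄ (x₀ : T ⟶ V j) (x₁ : T ⟶ V j') (h : x₀ ≫ v j = x₁ ≫ v j')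
    (p : Lifts (D.obj j) x₀), D'.φ x₀ x₁ h (e x₀ p) = e x₁ (D.φ x₀ x₁ h p)

namespace PtIso
variable {D D' : SchDDFam v} (E : PtIso D D')

def natLifts (j : κ) : NatLifts (D.obj j) (D'.obj j) where
  m _ x p := E.e x p
  nat _ _ r x y hy p p' hp := E.nat r x y hy p p' hp

lemma nat_symm ⦃T T' : Scheme.{u}⦄ (r : T' ⟶ T) ⦃j : κ⦄ (x : T ⟶ V j) (y : T' ⟶ V j) (hy : r ≫ x = y)
    (p : Lifts (D'.obj j) x) (p' : Lifts (D'.obj j) y) (hp : p'.1 = r ≫ p.1) :
    ((E.e y).symm p').1 = r ≫ ((E.e x).symm p).1 := by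
  -- apply injectivity of `E.e y`
  have h1 : p' = E.e y (Lifts.restr r ((E.e x).symm p) y hy) := by
    apply Subtype.ext
    rw [E.nat r x y hy ((E.e x).symm p) (Lifts.restr r ((E.e x).symm p) y hy) rfl]
    rw [Equiv.apply_symm_apply, hp]
  rw [h1, Equiv.symm_apply_apply]
  rfl

def natLiftsInv (j : κ) : NatLifts (D'.obj j) (D.obj j) where
  m _ x p := (E.e x).symm p
  nat _ _ r x y hy p p' hp := E.nat_symm r x y hy p p' hp

/-- the morphism of descent data attached to `E` -/
def hom : D ⟶ D' where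
  hom j := (E.natLifts j).hom
  comm T j j' x₀ x₁ h p q hq := by
    rw [NatLifts.comp_hom] at hq
    rw [NatLifts.comp_hom]
    have : q = E.e x₀ p := Subtype.ext hq
    subst this
    exact congrArg Subtype.val (E.compat x₀ x₁ h p)

/-- the inverse morphism of descent data attached to `E` -/
def inv : D' ⟶ D where
  hom j := (E.natLiftsInv j).hom
  comm T j j' x₀ x₁ h p q hq := by
    rw [NatLifts.comp_hom] at hq
    rw [NatLifts.comp_hom]
    have : q = (E.e x₀).symm p := Subtype.ext hq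
    subst this
    change (D.φ x₀ x₁ h ((E.e x₀).symm p)).1 = ((E.e x₁).symm (D'.φ x₀ x₁ h p)).1
    have := E.compat x₀ x₁ h ((E.e x₀).symm p)
    rw [Equiv.apply_symm_apply] at this
    rw [this, Equiv.symm_apply_apply]

lemma comp_hom_left {T : Scheme.{u}} {j : κ} {x : T ⟶ V j} (p : Lifts (D.obj j) x) :
    p.1 ≫ (E.hom.hom j).left = (E.e x p).1 := NatLifts.comp_hom _ p

lemma comp_inv_left {T : Scheme.{u}} {j : κ} {x : T ⟶ V j} (p : Lifts (D'.obj j) x) :
    p.1 ≫ (E.inv.hom j).left = ((E.e x).symm p).1 := NatLifts.comp_hom _ p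

/-- the isomorphism of descent data attached to `E` -/
def iso : D ≅ D' where
  hom := E.hom
  inv := E.inv
  hom_inv_id := by
    apply SchDDFam.hom_ext
    funext j
    apply over_hom_ext_lifts
    intro T x p
    rw [SchDDFam.comp_hom, Over.comp_left, ← Category.assoc, comp_hom_left,
      comp_inv_left, Equiv.symm_apply_apply]
    simp
  inv_hom_id := by
    apply SchDDFam.hom_ext
    funext j
    apply over_hom_ext_lifts
    intro T x p
    rw [SchDDFam.comp_hom, Over.comp_left, ← Category.assoc, comp_inv_left,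
      comp_hom_left, Equiv.apply_symm_apply]
    simp

end PtIso

end fam



section pullgen
variable {S : Scheme.{u}} {ι : Type w'} {κ : Type w} {U : ι → Scheme.{u}} {V : κ → Scheme.{u}}
  {u : ∀ i, U i ⟶ S} {v : ∀ j, V j ⟶ S} {α : ι → κ} {g : ∀ i, U i ⟶ V (α i)}
  (w : ∀ i, g i ≫ v (α i) = u i ≫ 𝟙 S)

lemma pull_φ_apply (D : SchDDFam v) ⦃T : Scheme.{u}⦄ ⦃i i' : ι⦄ (x₀ : T ⟶ U i) (x₁ : T ⟶ U i')
    (h : x₀ ≫ u i = x₁ ≫ u i') (p : Lifts (((pullDDFam w).obj D).obj i) x₀) :
    liftsPullbackEquiv (D.obj (α i')) (g i') x₁ (((pullDDFam w).obj D).φ x₀ x₁ h p) =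
      D.φ (x₀ ≫ g i) (x₁ ≫ g i') (pull_compat w x₀ x₁ h)
        (liftsPullbackEquiv (D.obj (α i)) (g i) x₀ p) := by
  change liftsPullbackEquiv (D.obj (α i')) (g i') x₁
    ((liftsPullbackEquiv (D.obj (α i')) (g i') x₁).symm _) = _
  rw [Equiv.apply_symm_apply]

end pullgen

section selfmap
variable {S : Scheme.{u}} {κ : Type w} {V : κ → Scheme.{u}} {v : ∀ j, V j ⟶ S}
  {α : κ → κ} {g : ∀ j, V j ⟶ V (α j)} (w : ∀ j, g j ≫ v (α j) = v j ≫ 𝟙 S)

include w in
lemma self_compat {T : Scheme.{u}} {j : κ} (x : T ⟶ V j) : (x ≫ g j) ≫ v (α j) = x ≫ v j := by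
  rw [Category.assoc, w, Category.comp_id]

/-- the bijections on points between the pullback of `D` along a self-map and `D` -/
noncomputable def selfE (D : SchDDFam v) ⦃T : Scheme.{u}⦄ ⦃j : κ⦄ (x : T ⟶ V j) :
    Lifts (((pullDDFam w).obj D).obj j) x ≃ Lifts (D.obj j) x :=
  (liftsPullbackEquiv (D.obj (α j)) (g j) x).trans (D.φ (x ≫ g j) x (self_compat w x))

/-- the pullback of `D` along a self-map of the family is isomorphic to `D` -/
noncomputable def selfPtIso (D : SchDDFam v) : PtIso ((pullDDFam w).obj D) D where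
  e := selfE w D
  nat T T' r j x y hy p p' hp := by
    unfold selfE
    simp only [Equiv.trans_apply]
    refine D.φ_natural r (x ≫ g j) x (self_compat w x) (y ≫ g j) y
      (by rw [← hy, Category.assoc]) hy (self_compat w y) _ _ ?_
    change p'.1 ≫ pullback.fst _ _ = r ≫ p.1 ≫ pullback.fst _ _
    rw [hp, Category.assoc]
  compat T j j' x₀ x₁ h p := by
    have key := pull_φ_apply w D x₀ x₁ h p
    exact (D.φ_comp _ _ _ _ _ _).trans
      ((congrArg (D.φ (x₁ ≫ g j') x₁ (self_compat w x₁)) key).trans (D.φ_comp _ _ _ _ _ _)).symm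

/-- the pullback functor along a self-map of the family is isomorphic to the identity -/
noncomputable def selfIso : pullDDFam w ≅ 𝟭 (SchDDFam v) :=
  NatIso.ofComponents (fun D => (selfPtIso w D).iso) (by
    intro D D' a
    apply SchDDFam.hom_ext
    funext j
    apply over_hom_ext_lifts
    intro T x p
    simp only [Functor.id_obj, Functor.id_map, SchDDFam.comp_hom, Over.comp_left]
    change p.1 ≫ (((pullDDFam w).map a).hom j).left ≫ ((selfPtIso w D').hom.hom j).left =
      p.1 ≫ ((selfPtIso w D).hom.hom j).left ≫ (a.hom j).left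
    rw [← Category.assoc, ← Category.assoc, PtIso.comp_hom_left]
    have := PtIso.comp_hom_left (selfPtIso w D') (SchDDFam.Hom.push ((pullDDFam w).map a) p)
    rw [SchDDFam.Hom.push] at this
    rw [this]
    change (D'.φ (x ≫ g j) x (self_compat w x) _).1 = (D.φ (x ≫ g j) x (self_compat w x) _).1 ≫ _
    refine a.comm (x ≫ g j) x (self_compat w x) _ _ ?_
    change (p.1 ≫ (((pullDDFam w).map a).hom j).left) ≫ pullback.fst _ _ =
      (p.1 ≫ pullback.fst _ _) ≫ (a.hom (α j)).left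
    simp [pullDDFam])

end selfmap

section double
variable {S : Scheme.{u}} {ι : Type w'} {κ : Type w} {U : ι → Scheme.{u}} {V : κ → Scheme.{u}}
  {u : ∀ i, U i ⟶ S} {v : ∀ j, V j ⟶ S} {α : ι → κ} {g : ∀ i, U i ⟶ V (α i)}
  (w : ∀ i, g i ≫ v (α i) = u i ≫ 𝟙 S)
  {β : κ → ι} {k : ∀ j, V j ⟶ U (β j)} (w' : ∀ j, k j ≫ u (β j) = v j ≫ 𝟙 S)

include w w' in
lemma double_compat {T : Scheme.{u}} {j : κ} (x : T ⟶ V j) :
    ((x ≫ k j) ≫ g (β j)) ≫ v (α (β j)) = x ≫ v j := by
  rw [Category.assoc, w, Category.comp_id, Category.assoc, w', Category.comp_id]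

/-- first step: points of the double pullback over `x` are points of `D` over the image point -/
noncomputable def doubleL (D : SchDDFam v) ⦃T : Scheme.{u}⦄ ⦃j : κ⦄ (x : T ⟶ V j) :
    Lifts (((pullDDFam w').obj ((pullDDFam w).obj D)).obj j) x ≃
      Lifts (D.obj (α (β j))) ((x ≫ k j) ≫ g (β j)) :=
  (liftsPullbackEquiv (((pullDDFam w).obj D).obj (β j)) (k j) x).trans
    (liftsPullbackEquiv (D.obj (α (β j))) (g (β j)) (x ≫ k j))

lemma doubleL_val (D : SchDDFam v) ⦃T : Scheme.{u}⦄ ⦃j : κ⦄ (x : T ⟶ V j)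
    (p : Lifts (((pullDDFam w').obj ((pullDDFam w).obj D)).obj j) x) :
    (doubleL w w' D x p).1 = (p.1 ≫ pullback.fst _ _) ≫ pullback.fst _ _ := rfl

lemma doubleL_φ (D : SchDDFam v) ⦃T : Scheme.{u}⦄ ⦃j j' : κ⦄ (x₀ : T ⟶ V j) (x₁ : T ⟶ V j')
    (h : x₀ ≫ v j = x₁ ≫ v j')
    (p : Lifts (((pullDDFam w').obj ((pullDDFam w).obj D)).obj j) x₀) :
    doubleL w w' D x₁ (((pullDDFam w').obj ((pullDDFam w).obj D)).φ x₀ x₁ h p) =
      D.φ ((x₀ ≫ k j) ≫ g (β j)) ((x₁ ≫ k j') ≫ g (β j'))
        (pull_compat w _ _ (pull_compat w' x₀ x₁ h)) (doubleL w w' D x₀ p) := by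
  have h1 := pull_φ_apply w' ((pullDDFam w).obj D) x₀ x₁ h p
  have h2 := pull_φ_apply w D (x₀ ≫ k j) (x₁ ≫ k j') (pull_compat w' x₀ x₁ h)
    (liftsPullbackEquiv (((pullDDFam w).obj D).obj (β j)) (k j) x₀ p)
  exact (congrArg (liftsPullbackEquiv (D.obj (α (β j'))) (g (β j')) (x₁ ≫ k j')) h1).trans h2

/-- the bijections on points between the double pullback of `D` and `D` -/
noncomputable def doubleE (D : SchDDFam v) ⦃T : Scheme.{u}⦄ ⦃j : κ⦄ (x : T ⟶ V j) :
    Lifts (((pullDDFam w').obj ((pullDDFam w).obj D)).obj j) x ≃ Lifts (D.obj j) x :=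
  (doubleL w w' D x).trans (D.φ ((x ≫ k j) ≫ g (β j)) x (double_compat w w' x))

lemma doubleE_apply (D : SchDDFam v) ⦃T : Scheme.{u}⦄ ⦃j : κ⦄ (x : T ⟶ V j)
    (p : Lifts (((pullDDFam w').obj ((pullDDFam w).obj D)).obj j) x) :
    doubleE w w' D x p = D.φ ((x ≫ k j) ≫ g (β j)) x (double_compat w w' x) (doubleL w w' D x p) :=
  rfl

/-- the double pullback of `D` is isomorphic to `D` -/
noncomputable def doublePtIso (D : SchDDFam v) :
    PtIso ((pullDDFam w').obj ((pullDDFam w).obj D)) D where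
  e := doubleE w w' D
  nat T T' r j x y hy p p' hp := by
    rw [doubleE_apply, doubleE_apply]
    refine D.φ_natural r ((x ≫ k j) ≫ g (β j)) x (double_compat w w' x) ((y ≫ k j) ≫ g (β j)) y
      (by rw [← hy]; simp only [Category.assoc]) hy (double_compat w w' y) _ _ ?_
    rw [doubleL_val, doubleL_val, hp]
    simp only [Category.assoc]
  compat T j j' x₀ x₁ h p := by
    rw [doubleE_apply, doubleE_apply, doubleL_φ, D.φ_comp, D.φ_comp]

/-- the composite of the two pullback functors is isomorphic to the identity -/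
noncomputable def doubleIso : pullDDFam w ⋙ pullDDFam w' ≅ 𝟭 (SchDDFam v) :=
  NatIso.ofComponents (fun D => (doublePtIso w w' D).iso) (by
    intro D D' a
    apply SchDDFam.hom_ext
    funext j
    apply over_hom_ext_lifts
    intro T x p
    simp only [Functor.id_obj, Functor.id_map, Functor.comp_obj, Functor.comp_map,
      SchDDFam.comp_hom, Over.comp_left]
    change p.1 ≫ (((pullDDFam w').map ((pullDDFam w).map a)).hom j).left ≫
        ((doublePtIso w w' D').hom.hom j).left =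
      p.1 ≫ ((doublePtIso w w' D).hom.hom j).left ≫ (a.hom j).left
    rw [← Category.assoc, ← Category.assoc, PtIso.comp_hom_left]
    have := PtIso.comp_hom_left (doublePtIso w w' D')
      (SchDDFam.Hom.push ((pullDDFam w').map ((pullDDFam w).map a)) p)
    rw [SchDDFam.Hom.push] at this
    rw [this]
    change (D'.φ ((x ≫ k j) ≫ g (β j)) x (double_compat w w' x) _).1 =
      (D.φ ((x ≫ k j) ≫ g (β j)) x (double_compat w w' x) _).1 ≫ _
    refine a.comm ((x ≫ k j) ≫ g (β j)) x (double_compat w w' x) _ _ ?_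
    rw [doubleL_val, doubleL_val]
    simp [pullDDFam])

end double

end Groth.Agent.R2.H43.DescIso
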