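import Mathlib
import Groth.Prelude.Def_DescFam
import Groth.Agent.R2.H43DescIso

/-!
# The sheaf of a descent datum (helper37, PROJ:fpqc-desc)

For a descent datum `D` for schemes relative to a family `f i : X i ⟶ S` we define the presheaf
`FD D` on schemes whose `T`-points are pairs `(g : T ⟶ S, ξ : toDDFam f (T, g) ⟶ D)`.

* `El D T` : the elements, with `El.val` (value at a point), `El.ext_val`, `El.mk'`, `El.res`.
* `El.ofLift` / `El.toLift` : over a `T`-point `x` of `X i`, elements are lifts of `x` to `D.obj i`.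
* `isEffective_of_rep` : if `FD D` is representable then `D` is effective.
-/

set_option autoImplicit false
set_option backward.isDefEq.respectTransparency false
set_option backward.isDefEq.respectTransparency.types false
universe u
open CategoryTheory CategoryTheory.Limits AlgebraicGeometry Desc Opposite

namespace Groth.Agent.R2.H37.DescSheaf

variable {S : Scheme.{u}} {ι : Type u} {X : ι → Scheme.{u}} {f : ∀ i, X i ⟶ S}

/-- An element over `T` of the sheaf of the descent datum `D`: a morphism `g : T ⟶ S` and a morphism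
of descent data from the canonical descent datum of `(T, g)` to `D`. -/
structure El (D : SchDDFam f) (T : Scheme.{u}) where
  /-- the structure morphism -/
  g : T ⟶ S
  /-- the morphism of descent data -/
  sec : (toDDFam f).obj (Over.mk g) ⟶ D

namespace El

variable {D : SchDDFam f} {T : Scheme.{u}}

/-- the value of an element at a point `(t, x)` of `T ×_S X i`. -/
noncomputable def val (s : El D T) {T' : Scheme.{u}} (t : T' ⟶ T) {i : ι} (x : T' ⟶ X i)
    (h : x ≫ f i = t ≫ s.g) : T' ⟶ (D.obj i).left :=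
  pullback.lift x t h ≫ (s.sec.hom i).left

lemma sec_w (s : El D T) (i : ι) :
    (s.sec.hom i).left ≫ (D.obj i).hom = pullback.fst (f i) s.g :=
  Over.w (s.sec.hom i)

@[simp]
lemma val_hom (s : El D T) {T' : Scheme.{u}} (t : T' ⟶ T) {i : ι} (x : T' ⟶ X i)
    (h : x ≫ f i = t ≫ s.g) : s.val t x h ≫ (D.obj i).hom = x := by
  rw [val, Category.assoc, sec_w, pullback.lift_fst]

/-- the value as a lift -/
noncomputable def valL (s : El D T) {T' : Scheme.{u}} (t : T' ⟶ T) {i : ι} (x : T' ⟶ X i)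
    (h : x ≫ f i = t ≫ s.g) : Lifts (D.obj i) x := ⟨s.val t x h, s.val_hom t x h⟩

@[simp] lemma valL_val (s : El D T) {T' : Scheme.{u}} (t : T' ⟶ T) {i : ι} (x : T' ⟶ X i)
    (h : x ≫ f i = t ≫ s.g) : (s.valL t x h).1 = s.val t x h := rfl

lemma val_nat (s : El D T) {T' T'' : Scheme.{u}} (r : T'' ⟶ T') (t : T' ⟶ T) {i : ι}
    (x : T' ⟶ X i) (h : x ≫ f i = t ≫ s.g) (h' : (r ≫ x) ≫ f i = (r ≫ t) ≫ s.g) :
    s.val (r ≫ t) (r ≫ x) h' = r ≫ s.val t x h := by
  unfold val
  rw [← Category.assoc]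
  congr 1
  apply pullback.hom_ext <;> simp

lemma val_congr (s : El D T) {T' : Scheme.{u}} {t t' : T' ⟶ T} {i : ι} {x x' : T' ⟶ X i}
    (ht : t = t') (hx : x = x') (h : x ≫ f i = t ≫ s.g) :
    s.val t x h = s.val t' x' (by rw [← ht, ← hx]; exact h) := by
  subst ht hx; rfl

lemma val_comm (s : El D T) {T' : Scheme.{u}} (t : T' ⟶ T) {i j : ι} (x₀ : T' ⟶ X i)
    (x₁ : T' ⟶ X j) (h₀ : x₀ ≫ f i = t ≫ s.g) (h₁ : x₁ ≫ f j = t ≫ s.g)
    (h : x₀ ≫ f i = x₁ ≫ f j) :
    (D.φ x₀ x₁ h (s.valL t x₀ h₀)).1 = s.val t x₁ h₁ := by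
  have := s.sec.comm x₀ x₁ h
    ⟨pullback.lift x₀ t h₀, pullback.lift_fst _ _ _⟩ (s.valL t x₀ h₀) rfl
  rw [this]
  unfold val
  congr 1
  apply pullback.hom_ext
  · exact (((toDDFam f).obj (Over.mk s.g)).φ x₀ x₁ h _).2.trans (pullback.lift_fst _ _ _).symm
  · change (canMapFam f (Over.mk s.g) x₀ x₁ h _).1 ≫ pullback.snd (f j) s.g = _
    rw [canMapFam_val]
    refine (pullback.lift_snd _ _ _).trans ?_
    exact (pullback.lift_snd _ _ _).trans (pullback.lift_snd _ _ _).symm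

lemma lift_fst_snd {A B C : Scheme.{u}} (a : A ⟶ C) (b : B ⟶ C) :
    pullback.lift (pullback.fst a b) (pullback.snd a b) pullback.condition = 𝟙 _ := by
  apply pullback.hom_ext <;> simp

/-- the value at the universal point is the underlying morphism. -/
lemma val_univ (s : El D T) (i : ι) :
    s.val (pullback.snd (f i) s.g) (pullback.fst (f i) s.g) pullback.condition =
      (s.sec.hom i).left := by
  unfold val
  rw [lift_fst_snd]
  exact Category.id_comp _

/-- two elements with the same structure morphism and the same values are equal. -/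
lemma ext_val {s s' : El D T} (hg : s.g = s'.g)
    (hv : ∀ ⦃T' : Scheme.{u}⦄ (t : T' ⟶ T) ⦃i : ι⦄ (x : T' ⟶ X i) (h : x ≫ f i = t ≫ s.g),
      s.val t x h = s'.val t x (h.trans (by rw [hg]))) : s = s' := by
  obtain ⟨g, a⟩ := s
  obtain ⟨g', a'⟩ := s'
  dsimp only at hg
  subst hg
  congr 1
  apply SchDDFam.hom_ext
  funext i
  apply Over.OverMorphism.ext
  have h1 := hv (pullback.snd (f i) g) (pullback.fst (f i) g) pullback.condition
  have h2 := val_univ (⟨g, a⟩ : El D T) i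
  have h3 := val_univ (⟨g, a'⟩ : El D T) i
  exact h2.symm.trans (h1.trans h3)

lemma congr_v {g : T ⟶ S}
    (v : ∀ ⦃T' : Scheme.{u}⦄ (t : T' ⟶ T) ⦃i : ι⦄ (x : T' ⟶ X i), x ≫ f i = t ≫ g →
      (T' ⟶ (D.obj i).left)) {T' : Scheme.{u}} {t t' : T' ⟶ T} {i : ι} {x x' : T' ⟶ X i}
    (ht : t = t') (hx : x = x') (h : x ≫ f i = t ≫ g) (h' : x' ≫ f i = t' ≫ g) :
    v t x h = v t' x' h' := by
  subst ht hx
  rfl

/-- construct an element from its values. -/
noncomputable def mk' (g : T ⟶ S)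
    (v : ∀ ⦃T' : Scheme.{u}⦄ (t : T' ⟶ T) ⦃i : ι⦄ (x : T' ⟶ X i), x ≫ f i = t ≫ g →
      (T' ⟶ (D.obj i).left))
    (hv : ∀ ⦃T' : Scheme.{u}⦄ (t : T' ⟶ T) ⦃i : ι⦄ (x : T' ⟶ X i) (h : x ≫ f i = t ≫ g),
      v t x h ≫ (D.obj i).hom = x)
    (hnat : ∀ ⦃T' T'' : Scheme.{u}⦄ (r : T'' ⟶ T') (t : T' ⟶ T) ⦃i : ι⦄ (x : T' ⟶ X i)
      (h : x ≫ f i = t ≫ g) (h' : (r ≫ x) ≫ f i = (r ≫ t) ≫ g),
      v (r ≫ t) (r ≫ x) h' = r ≫ v t x h)
    (hcomm : ∀ ⦃T' : Scheme.{u}⦄ (t : T' ⟶ T) ⦃i j : ι⦄ (x₀ : T' ⟶ X i) (x₁ : T' ⟶ X j)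
      (h₀ : x₀ ≫ f i = t ≫ g) (h₁ : x₁ ≫ f j = t ≫ g) (h : x₀ ≫ f i = x₁ ≫ f j),
      (D.φ x₀ x₁ h ⟨v t x₀ h₀, hv t x₀ h₀⟩).1 = v t x₁ h₁) : El D T where
  g := g
  sec :=
    { hom := fun i => Over.homMk (U := Over.mk (pullback.fst (f i) g))
        (v (pullback.snd (f i) g) (pullback.fst (f i) g) pullback.condition)
        (hv _ _ _)
      comm := by
        intro T' i j x₀ x₁ h p q hq
        obtain ⟨p1, hp, rfl⟩ : ∃ (p1 : T' ⟶ pullback (f i) g)
            (hp : p1 ≫ pullback.fst (f i) g = x₀), p = ⟨p1, hp⟩ := ⟨p.1, p.2, rfl⟩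
        have h₀ : x₀ ≫ f i = (p1 ≫ pullback.snd (f i) g) ≫ g := by
          rw [← hp, Category.assoc, Category.assoc, pullback.condition]
        have h₁ : x₁ ≫ f j = (p1 ≫ pullback.snd (f i) g) ≫ g := h.symm.trans h₀
        have hq' : q.1 = v (p1 ≫ pullback.snd (f i) g) x₀ h₀ := by
          rw [hq]
          change p1 ≫ v (pullback.snd (f i) g) (pullback.fst (f i) g) pullback.condition = _
          rw [← hnat p1 (pullback.snd (f i) g) (pullback.fst (f i) g) pullback.condition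
            (by rw [Category.assoc, Category.assoc, pullback.condition])]
          exact congr_v v rfl hp _ _
        have hq'' : q = ⟨v (p1 ≫ pullback.snd (f i) g) x₀ h₀, hv _ _ _⟩ := Subtype.ext hq'
        rw [hq'', hcomm (p1 ≫ pullback.snd (f i) g) x₀ x₁ h₀ h₁ h]
        change _ = (canMapFam f (Over.mk g) x₀ x₁ h ⟨p1, hp⟩).1 ≫
          v (pullback.snd (f j) g) (pullback.fst (f j) g) pullback.condition
        rw [← hnat (canMapFam f (Over.mk g) x₀ x₁ h ⟨p1, hp⟩).1 (pullback.snd (f j) g)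
          (pullback.fst (f j) g) pullback.condition
          (by rw [Category.assoc, Category.assoc, pullback.condition])]
        have e1 : (canMapFam f (Over.mk g) x₀ x₁ h ⟨p1, hp⟩).1 ≫ pullback.snd (f j) g =
            p1 ≫ pullback.snd (f i) g := pullback.lift_snd _ _ _
        have e2 : (canMapFam f (Over.mk g) x₀ x₁ h ⟨p1, hp⟩).1 ≫ pullback.fst (f j) g = x₁ :=
          pullback.lift_fst _ _ _
        exact congr_v v e1.symm e2.symm _ _ }

@[simp] lemma mk'_g (g : T ⟶ S) (v) (hv) (hnat) (hcomm) :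
    (mk' (D := D) g v hv hnat hcomm).g = g := rfl

lemma mk'_val (g : T ⟶ S) (v) (hv) (hnat) (hcomm) {T' : Scheme.{u}} (t : T' ⟶ T) {i : ι}
    (x : T' ⟶ X i) (h : x ≫ f i = t ≫ g) :
    (mk' (D := D) g v hv hnat hcomm).val t x h = v t x h := by
  unfold val
  change pullback.lift x t h ≫
    v (pullback.snd (f i) g) (pullback.fst (f i) g) pullback.condition = _
  rw [← hnat (pullback.lift x t h) (pullback.snd (f i) g) (pullback.fst (f i) g)
    pullback.condition (by rw [Category.assoc, Category.assoc, pullback.condition])]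
  exact congr_v v (pullback.lift_snd _ _ _) (pullback.lift_fst _ _ _) _ _

/-- restriction of an element along `r : T₁ ⟶ T`. -/
noncomputable def res (s : El D T) {T₁ : Scheme.{u}} (r : T₁ ⟶ T) : El D T₁ where
  g := r ≫ s.g
  sec := (toDDFam f).map (Over.homMk (U := Over.mk (r ≫ s.g)) (V := Over.mk s.g) r rfl) ≫ s.sec

@[simp] lemma res_g (s : El D T) {T₁ : Scheme.{u}} (r : T₁ ⟶ T) : (s.res r).g = r ≫ s.g := rfl

lemma res_val (s : El D T) {T₁ : Scheme.{u}} (r : T₁ ⟶ T) {T' : Scheme.{u}} (t : T' ⟶ T₁)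
    {i : ι} (x : T' ⟶ X i) (h : x ≫ f i = t ≫ (s.res r).g) :
    (s.res r).val t x h = s.val (t ≫ r) x (by rw [h, res_g, Category.assoc]) := by
  unfold val
  change pullback.lift x t h ≫ (pullback.map (f i) (r ≫ s.g) (f i) s.g (𝟙 _) r (𝟙 S)
    (by simp) (by simp) ≫ (s.sec.hom i).left) = _
  rw [← Category.assoc]
  congr 1
  apply pullback.hom_ext <;> simp

lemma res_id (s : El D T) : s.res (𝟙 T) = s := by
  refine ext_val (Category.id_comp _) ?_
  intro T' t i x h
  rw [res_val]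
  exact val_congr s (Category.comp_id t) rfl _

lemma res_comp (s : El D T) {T₁ T₂ : Scheme.{u}} (r : T₁ ⟶ T) (r' : T₂ ⟶ T₁) :
    s.res (r' ≫ r) = (s.res r).res r' := by
  refine ext_val (Category.assoc _ _ _) ?_
  intro T' t i x h
  rw [res_val, res_val, res_val]
  exact val_congr s (Category.assoc _ _ _).symm rfl _

/-! ### Elements over a point of `X i` are lifts -/

/-- the element attached to a lift `v` of a point `x : T ⟶ X i`. -/
noncomputable def ofLift {i : ι} (x : T ⟶ X i) (v : Lifts (D.obj i) x) : El D T :=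
  mk' (x ≫ f i)
    (fun T' t j x' h =>
      (D.φ (t ≫ x) x' (by rw [h, Category.assoc]) ⟨t ≫ v.1, by rw [Category.assoc, v.2]⟩).1)
    (fun T' t j x' h => (D.φ (t ≫ x) x' _ _).2)
    (fun T' T'' r t j x' h h' => by
      exact D.φ_natural r (t ≫ x) x' (by rw [h, Category.assoc]) ((r ≫ t) ≫ x) (r ≫ x')
        (by rw [Category.assoc]) rfl (by rw [h', Category.assoc]) _ _ (by simp))
    (fun T' t j k x₀ x₁ h₀ h₁ h => by
      have := D.φ_comp (t ≫ x) x₀ x₁ (by rw [h₀, Category.assoc]) h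
        ⟨t ≫ v.1, by rw [Category.assoc, v.2]⟩
      exact congrArg Subtype.val this)

@[simp] lemma ofLift_g {i : ι} (x : T ⟶ X i) (v : Lifts (D.obj i) x) :
    (ofLift x v).g = x ≫ f i := rfl

lemma ofLift_val {i : ι} (x : T ⟶ X i) (v : Lifts (D.obj i) x) {T' : Scheme.{u}} (t : T' ⟶ T)
    {j : ι} (x' : T' ⟶ X j) (h : x' ≫ f j = t ≫ (ofLift x v).g) :
    (ofLift x v).val t x' h =
      (D.φ (t ≫ x) x' (by rw [h, ofLift_g, Category.assoc])
        ⟨t ≫ v.1, by rw [Category.assoc, v.2]⟩).1 :=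
  mk'_val _ _ _ _ _ t x' h

/-- the lift of `x : T ⟶ X i` attached to an element over `x ≫ f i`. -/
noncomputable def toLift (s : El D T) {i : ι} (x : T ⟶ X i) (h : x ≫ f i = s.g) :
    Lifts (D.obj i) x :=
  s.valL (𝟙 T) x (by rw [h, Category.id_comp])

lemma toLift_ofLift {i : ι} (x : T ⟶ X i) (v : Lifts (D.obj i) x) :
    toLift (ofLift x v) x rfl = v := by
  apply Subtype.ext
  change (ofLift x v).val (𝟙 T) x _ = v.1
  rw [ofLift_val]
  have key : ∀ (y : T ⟶ X i) (hy : y = x) (w : Lifts (D.obj i) y) (hw : w.1 = v.1)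
      (hh : y ≫ f i = x ≫ f i), (D.φ y x hh w).1 = v.1 := by
    intro y hy w hw hh
    subst hy
    rw [D.φ_self]
    exact hw
  exact key _ (Category.id_comp x) _ (Category.id_comp _) _

lemma ofLift_toLift (s : El D T) {i : ι} (x : T ⟶ X i) (h : x ≫ f i = s.g) :
    ofLift x (toLift s x h) = s := by
  refine ext_val h ?_
  intro T' t j x' h'
  rw [ofLift_val]
  have h₀ : (t ≫ x) ≫ f i = t ≫ s.g := by rw [Category.assoc, h]
  have h₁ : x' ≫ f j = t ≫ s.g := by rw [h', ofLift_g, h]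
  have e : (⟨t ≫ (toLift s x h).1, by rw [Category.assoc, (toLift s x h).2]⟩ :
      Lifts (D.obj i) (t ≫ x)) = s.valL t (t ≫ x) h₀ := by
    apply Subtype.ext
    change t ≫ s.val (𝟙 T) x _ = s.val t (t ≫ x) h₀
    rw [← val_nat s t (𝟙 T) x _ (by rw [Category.comp_id]; exact h₀)]
    exact val_congr s (Category.comp_id t) rfl _
  rw [e]
  exact val_comm s t (t ≫ x) x' h₀ h₁ _

lemma ofLift_res {i : ι} (x : T ⟶ X i) (v : Lifts (D.obj i) x) {T₁ : Scheme.{u}} (r : T₁ ⟶ T) :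
    (ofLift x v).res r = ofLift (r ≫ x) ⟨r ≫ v.1, by rw [Category.assoc, v.2]⟩ := by
  refine ext_val (Category.assoc _ _ _).symm ?_
  intro T' t j x' h'
  rw [res_val, ofLift_val, ofLift_val]
  have key : ∀ (y y' : T' ⟶ X i) (hy : y = y') (w : Lifts (D.obj i) y) (w' : Lifts (D.obj i) y')
      (hw : w.1 = w'.1) (hh : y ≫ f i = x' ≫ f j) (hh' : y' ≫ f i = x' ≫ f j),
      (D.φ y x' hh w).1 = (D.φ y' x' hh' w').1 := by
    intro y y' hy w w' hw hh hh'
    subst hy
    have : w = w' := Subtype.ext hw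
    subst this
    rfl
  exact key _ _ (Category.assoc _ _ _) _ _ (by simp) _ _

lemma toLift_res (s : El D T) {i : ι} (x : T ⟶ X i) (h : x ≫ f i = s.g) {T₁ : Scheme.{u}}
    (r : T₁ ⟶ T) :
    (toLift (s.res r) (r ≫ x) (by rw [Category.assoc, h, res_g])).1 = r ≫ (toLift s x h).1 := by
  change (s.res r).val (𝟙 T₁) (r ≫ x) _ = r ≫ s.val (𝟙 T) x _
  rw [res_val, ← val_nat s r (𝟙 T) x _ (by rw [Category.comp_id, Category.assoc, h])]
  exact val_congr s ((Category.id_comp r).trans (Category.comp_id r).symm) rfl _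

end El

/-- the presheaf of a descent datum. -/
noncomputable def FD (D : SchDDFam f) : Scheme.{u}ᵒᵖ ⥤ Type u where
  obj T := El D T.unop
  map r := TypeCat.ofHom fun s => s.res r.unop
  map_id T := by
    ext s
    exact El.res_id s
  map_comp r r' := by
    ext s
    exact El.res_comp s _ _

@[simp] lemma FD_map_apply (D : SchDDFam f) {T T₁ : Scheme.{u}} (r : T₁ ⟶ T) (s : El D T) :
    (FD D).map r.op s = s.res r := rfl

/-- `(Z, s₀)` represents the presheaf `FD D`. -/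
def Rep (D : SchDDFam f) (Z : Scheme.{u}) (s₀ : El D Z) : Prop :=
  ∀ ⦃T : Scheme.{u}⦄ (s : El D T), ∃! h : T ⟶ Z, s₀.res h = s

/-- `(Z, s₀)` represents the restriction of the presheaf `FD D` to the schemes over the open
subscheme `W ⊆ S` (i.e. the subfunctor of elements whose structure morphism lands in `W`). -/
def RepOn (D : SchDDFam f) (W : S.Opens) (Z : Scheme.{u}) (s₀ : El D Z) : Prop :=
  Set.range s₀.g.base ⊆ (W : Set S) ∧
    ∀ ⦃T : Scheme.{u}⦄ (s : El D T), Set.range s.g.base ⊆ (W : Set S) → ∃! h : T ⟶ Z, s₀.res h = s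

section effective

variable {D : SchDDFam f} {Z : Scheme.{u}} {s₀ : El D Z}

open Groth.Agent.R2.H43.DescIso

lemma can_cond {T₀ : Scheme.{u}} (g : T₀ ⟶ S) {T : Scheme.{u}} {i : ι} {x : T ⟶ X i}
    (p : Lifts (((toDDFam f).obj (Over.mk g)).obj i) x) :
    x ≫ f i = (p.1 ≫ pullback.snd (f i) g) ≫ g := by
  have hp : p.1 ≫ pullback.fst (f i) g = x := p.2
  rw [Category.assoc, ← pullback.condition, ← Category.assoc, hp]

lemma res_eq_ofLift (s₀ : El D Z) {T : Scheme.{u}} {i : ι} (x : T ⟶ X i)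
    (p1 : T ⟶ pullback (f i) s₀.g) (hp : p1 ≫ pullback.fst (f i) s₀.g = x) :
    s₀.res (p1 ≫ pullback.snd (f i) s₀.g) = El.ofLift x
      (s₀.valL (p1 ≫ pullback.snd (f i) s₀.g) x
        (by rw [← hp, Category.assoc, Category.assoc, pullback.condition])) := by
  have hg : x ≫ f i = (s₀.res (p1 ≫ pullback.snd (f i) s₀.g)).g := by
    rw [El.res_g, ← hp, Category.assoc, Category.assoc, pullback.condition]
  rw [← El.ofLift_toLift (s₀.res (p1 ≫ pullback.snd (f i) s₀.g)) x hg]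
  congr 1
  apply Subtype.ext
  change (s₀.res _).val (𝟙 T) x _ = s₀.val _ x _
  rw [El.res_val]
  exact El.val_congr s₀ (Category.id_comp _) rfl _

/-- the bijection on lifts induced by a representing element. -/
noncomputable def repE (hrep : Rep D Z s₀) ⦃T : Scheme.{u}⦄ ⦃i : ι⦄ (x : T ⟶ X i) :
    Lifts (((toDDFam f).obj (Over.mk s₀.g)).obj i) x ≃ Lifts (D.obj i) x := by
  refine Equiv.ofBijective (fun p => s₀.valL (p.1 ≫ pullback.snd (f i) s₀.g) x
    (can_cond s₀.g p)) ⟨?_, ?_⟩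
  · intro p p' hpp'
    obtain ⟨p1, hp, rfl⟩ : ∃ (p1 : T ⟶ pullback (f i) s₀.g)
        (hp : p1 ≫ pullback.fst (f i) s₀.g = x), p = ⟨p1, hp⟩ := ⟨p.1, p.2, rfl⟩
    obtain ⟨p2, hp2, rfl⟩ : ∃ (p2 : T ⟶ pullback (f i) s₀.g)
        (hp2 : p2 ≫ pullback.fst (f i) s₀.g = x), p' = ⟨p2, hp2⟩ := ⟨p'.1, p'.2, rfl⟩
    apply Subtype.ext
    change p1 = p2
    have h1 := res_eq_ofLift s₀ x p1 hp
    have h2 := res_eq_ofLift s₀ x p2 hp2
    have h3 : s₀.res (p1 ≫ pullback.snd (f i) s₀.g) = s₀.res (p2 ≫ pullback.snd (f i) s₀.g) := by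
      rw [h1, h2]
      congr 1
    have h4 := (hrep (s₀.res (p2 ≫ pullback.snd (f i) s₀.g))).unique h3 rfl
    apply pullback.hom_ext
    · rw [hp, hp2]
    · exact h4
  · intro v
    obtain ⟨h, hh, -⟩ := hrep (El.ofLift x v)
    have hg : x ≫ f i = h ≫ s₀.g := by
      have := congrArg El.g hh
      simpa using this.symm
    refine ⟨⟨pullback.lift x h hg, pullback.lift_fst _ _ _⟩, ?_⟩
    apply Subtype.ext
    change s₀.val (pullback.lift x h hg ≫ pullback.snd (f i) s₀.g) x _ = v.1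
    have e1 : s₀.val (pullback.lift x h hg ≫ pullback.snd (f i) s₀.g) x
        (by rw [pullback.lift_snd]; exact hg) = s₀.val h x hg :=
      El.val_congr s₀ (pullback.lift_snd _ _ _) rfl _
    rw [e1]
    have e2 : (El.toLift (s₀.res h) x (by rw [El.res_g]; exact hg)).1 = s₀.val h x hg := by
      change (s₀.res h).val (𝟙 T) x _ = _
      rw [El.res_val]
      exact El.val_congr s₀ (Category.id_comp _) rfl _
    rw [← e2]
    have e3 : ∀ (s : El D T) (hs : s = El.ofLift x v) (hx : x ≫ f i = s.g),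
        (El.toLift s x hx).1 = v.1 := by
      intro s hs hx
      subst hs
      rw [El.toLift_ofLift]
    exact e3 _ hh _

lemma repE_val (hrep : Rep D Z s₀) ⦃T : Scheme.{u}⦄ ⦃i : ι⦄ (x : T ⟶ X i)
    (p : Lifts (((toDDFam f).obj (Over.mk s₀.g)).obj i) x) (h) :
    (repE hrep x p).1 = s₀.val (p.1 ≫ pullback.snd (f i) s₀.g) x h := rfl

/-- the isomorphism on points attached to a representing element. -/
noncomputable def repPtIso (hrep : Rep D Z s₀) : PtIso ((toDDFam f).obj (Over.mk s₀.g)) D where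
  e := repE hrep
  nat := by
    intro T T' r i x y hy p p' hp
    subst hy
    have h0 : x ≫ f i = (p.1 ≫ pullback.snd (f i) s₀.g) ≫ s₀.g := can_cond s₀.g p
    have h1 : (r ≫ x) ≫ f i = (p'.1 ≫ pullback.snd (f i) s₀.g) ≫ s₀.g := can_cond s₀.g p'
    rw [repE_val hrep (r ≫ x) p' h1, repE_val hrep x p h0]
    rw [← El.val_nat s₀ r _ x h0 (by rw [Category.assoc, Category.assoc, h0])]
    exact El.val_congr s₀ (by rw [hp, Category.assoc]) rfl _
  compat := by
    intro T i j x₀ x₁ h p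
    apply Subtype.ext
    have h0 : x₀ ≫ f i = (p.1 ≫ pullback.snd (f i) s₀.g) ≫ s₀.g := can_cond s₀.g p
    have e1 : (canMapFam f (Over.mk s₀.g) x₀ x₁ h p).1 ≫ pullback.snd (f j) s₀.g =
        p.1 ≫ pullback.snd (f i) s₀.g := pullback.lift_snd _ _ _
    have h1 : x₁ ≫ f j = ((canMapFam f (Over.mk s₀.g) x₀ x₁ h p).1 ≫
        pullback.snd (f j) s₀.g) ≫ s₀.g := by
      rw [e1, ← h0, h]
    change _ = (repE hrep x₁ (canMapFam f (Over.mk s₀.g) x₀ x₁ h p)).1
    rw [repE_val hrep x₁ _ h1]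
    have h1' : x₁ ≫ f j = (p.1 ≫ pullback.snd (f i) s₀.g) ≫ s₀.g := h.symm.trans h0
    rw [El.val_congr s₀ e1 rfl h1]
    exact El.val_comm s₀ _ x₀ x₁ h0 h1' h

/-- **If the presheaf of `D` is representable, then `D` is effective.** -/
theorem isEffective_of_rep (hrep : Rep D Z s₀) : D.IsEffective :=
  ⟨Over.mk s₀.g, ⟨(repPtIso hrep).iso⟩⟩

end effective

end Groth.Agent.R2.H37.DescSheaf
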