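import Mathlib
import Groth.Prelude.Def_Desc
import Groth.Prelude.Def_DescFam
import Groth.Agent.R2.H37DescSheaf

/-!
# PROJ:fpqc-desc — interface file (helper37)

`D` is a descent datum for schemes relative to a family `f i : X i ⟶ S`, `FD D` its presheaf
(`R2/H37DescSheaf`).  A *β-structure* (`Beta D j p' V'`) identifies a scheme `V'` over `X'` with the
base change `FD D ×_S X'` of the presheaf along `X' --p'--> S' --j--> S`; it induces a descent datum
`Beta.dd` on `V'` relative to `p'`.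

Named statements (packages) of the project:
* `GluesZariski D`, `DescendsFpqc D` : the two convenient forms of the sheaf property of `FD D`.
* `LocalRepStmt`      : representability of `FD D` is Zariski local on `S`.
* `BetaTransferStmt`  : if `Beta.dd` is effective, the descended scheme represents `FD D` over `S'`.
* `BetaSigmaStmt`     : β-structures on the members of a finite family give one on the coproduct.
-/

set_option autoImplicit false
set_option backward.isDefEq.respectTransparency false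
set_option backward.isDefEq.respectTransparency.types false
universe u
open CategoryTheory CategoryTheory.Limits AlgebraicGeometry Desc Opposite

namespace Groth.Agent.R2.H37.DescSheaf

variable {S : Scheme.{u}} {ι : Type u} {X : ι → Scheme.{u}} {f : ∀ i, X i ⟶ S}

/-- Zariski gluing of elements of `FD D`. -/
def GluesZariski (D : SchDDFam f) : Prop :=
  ∀ ⦃T : Scheme.{u}⦄ (𝒰 : Scheme.OpenCover.{u} T) (s : ∀ i, El D (𝒰.X i)),
    (∀ i j, (s i).res (pullback.fst (𝒰.f i) (𝒰.f j)) = (s j).res (pullback.snd (𝒰.f i) (𝒰.f j))) →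
    ∃! s' : El D T, ∀ i, s'.res (𝒰.f i) = s i

/-- Descent of elements of `FD D` along a flat, surjective, quasi-compact morphism. -/
def DescendsFpqc (D : SchDDFam f) : Prop :=
  ∀ ⦃T' T : Scheme.{u}⦄ (e : T' ⟶ T) [Flat e] [Surjective e] [QuasiCompact e] (s' : El D T'),
    (∀ ⦃Y : Scheme.{u}⦄ (a b : Y ⟶ T'), a ≫ e = b ≫ e → s'.res a = s'.res b) →
    ∃! s : El D T, s.res e = s'

/-- A β-structure: `V'` over `X'` is the base change of `FD D` along `X' --p'--> S' --j--> S`. -/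
structure Beta (D : SchDDFam f) {S' X' : Scheme.{u}} (j : S' ⟶ S) (p' : X' ⟶ S') (V' : Over X') where
  /-- the element attached to a lift -/
  toEl : ∀ ⦃T : Scheme.{u}⦄ (x : T ⟶ X'), Lifts V' x → El D T
  toEl_g : ∀ ⦃T : Scheme.{u}⦄ (x : T ⟶ X') (v : Lifts V' x), (toEl x v).g = x ≫ p' ≫ j
  inj : ∀ ⦃T : Scheme.{u}⦄ (x : T ⟶ X') (v v' : Lifts V' x), toEl x v = toEl x v' → v = v'
  surj : ∀ ⦃T : Scheme.{u}⦄ (x : T ⟶ X') (s : El D T), s.g = x ≫ p' ≫ j → ∃ v, toEl x v = s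
  nat : ∀ ⦃T T₁ : Scheme.{u}⦄ (r : T₁ ⟶ T) (x : T ⟶ X') (v : Lifts V' x),
    toEl (r ≫ x) ⟨r ≫ v.1, by rw [Category.assoc, v.2]⟩ = (toEl x v).res r

namespace Beta

variable {D : SchDDFam f} {S' X' : Scheme.{u}} {j : S' ⟶ S} {p' : X' ⟶ S'} {V' : Over X'}
  (B : Beta D j p' V')

/-- the bijection between lifts of `x` and elements over `x ≫ p' ≫ j`. -/
noncomputable def e ⦃T : Scheme.{u}⦄ (x : T ⟶ X') :
    Lifts V' x ≃ {s : El D T // s.g = x ≫ p' ≫ j} :=
  Equiv.ofBijective (fun v => ⟨B.toEl x v, B.toEl_g x v⟩)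
    ⟨fun v v' h => B.inj x v v' (congrArg Subtype.val h),
     fun s => by
      obtain ⟨v, hv⟩ := B.surj x s.1 s.2
      exact ⟨v, Subtype.ext hv⟩⟩

@[simp] lemma e_apply ⦃T : Scheme.{u}⦄ (x : T ⟶ X') (v : Lifts V' x) :
    (B.e x v).1 = B.toEl x v := rfl

lemma toEl_e_symm ⦃T : Scheme.{u}⦄ (x : T ⟶ X') (s : {s : El D T // s.g = x ≫ p' ≫ j}) :
    B.toEl x ((B.e x).symm s) = s.1 := by
  have := (B.e x).apply_symm_apply s
  exact congrArg Subtype.val this

/-- the gluing bijections of the induced descent datum. -/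
noncomputable def φ ⦃T : Scheme.{u}⦄ (x₀ x₁ : T ⟶ X') (h : x₀ ≫ p' = x₁ ≫ p') :
    Lifts V' x₀ ≃ Lifts V' x₁ :=
  (B.e x₀).trans ((Equiv.subtypeEquivRight (fun s => by
    rw [← Category.assoc, ← Category.assoc, h])).trans (B.e x₁).symm)

lemma toEl_φ ⦃T : Scheme.{u}⦄ (x₀ x₁ : T ⟶ X') (h : x₀ ≫ p' = x₁ ≫ p') (v : Lifts V' x₀) :
    B.toEl x₁ (B.φ x₀ x₁ h v) = B.toEl x₀ v := by
  unfold φ
  simp only [Equiv.trans_apply]
  rw [toEl_e_symm]
  rfl

lemma φ_eq_iff ⦃T : Scheme.{u}⦄ (x₀ x₁ : T ⟶ X') (h : x₀ ≫ p' = x₁ ≫ p') (v : Lifts V' x₀)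
    (w : Lifts V' x₁) : B.φ x₀ x₁ h v = w ↔ B.toEl x₁ w = B.toEl x₀ v := by
  constructor
  · rintro rfl
    exact B.toEl_φ x₀ x₁ h v
  · intro hw
    apply B.inj
    rw [B.toEl_φ, hw]

/-- the descent datum on `V'` relative to `p'` induced by a β-structure. -/
noncomputable def dd : SchDD p' where
  obj := V'
  φ := B.φ
  φ_natural := by
    intro T T₁ g x₀ x₁ h h' v v' hv'
    have h1 : B.φ (g ≫ x₀) (g ≫ x₁) h' v' =
        ⟨g ≫ (B.φ x₀ x₁ h v).1, by rw [Category.assoc, (B.φ x₀ x₁ h v).2]⟩ := by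
      rw [φ_eq_iff, B.nat g x₁ (B.φ x₀ x₁ h v), toEl_φ]
      have : v' = ⟨g ≫ v.1, by rw [Category.assoc, v.2]⟩ := Subtype.ext hv'
      rw [this, B.nat g x₀ v]
    rw [h1]
  φ_self := by
    intro T x v
    rw [φ_eq_iff]
  φ_comp := by
    intro T x₀ x₁ x₂ h₀₁ h₁₂ v
    rw [φ_eq_iff, toEl_φ, toEl_φ]

@[simp] lemma dd_obj : B.dd.obj = V' := rfl

lemma dd_φ ⦃T : Scheme.{u}⦄ (x₀ x₁ : T ⟶ X') (h : x₀ ≫ p' = x₁ ≫ p') :
    B.dd.φ x₀ x₁ h = B.φ x₀ x₁ h := rfl

end Beta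

/-! ### The packages -/

/-- PACKAGE LOC: representability of `FD D` is Zariski local on `S`
(Mathlib `Scheme.LocalRepresentability.isRepresentable`). -/
def LocalRepStmt : Prop :=
  ∀ {S : Scheme.{u}} {ι : Type u} {X : ι → Scheme.{u}} {f : ∀ i, X i ⟶ S} (D : SchDDFam f),
    GluesZariski D → ∀ {A : Type u} (W : A → S.Opens), (⨆ a, W a = ⊤) →
    ∀ (Z : A → Scheme.{u}) (s₀ : ∀ a, El D (Z a)), (∀ a, RepOn D (W a) (Z a) (s₀ a)) →
    ∃ (Z' : Scheme.{u}) (s : El D Z'), Rep D Z' s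

/-- PACKAGE TRANSFER: if the descent datum induced by a β-structure relative to an fpqc morphism
`p' : X' ⟶ S'` is effective, the descended scheme represents `FD D` over `S'`. -/
def BetaTransferStmt : Prop :=
  ∀ {S : Scheme.{u}} {ι : Type u} {X : ι → Scheme.{u}} {f : ∀ i, X i ⟶ S} (D : SchDDFam f),
    DescendsFpqc D → ∀ {S' X' : Scheme.{u}} (j : S' ⟶ S) (p' : X' ⟶ S') [Flat p'] [Surjective p']
      [QuasiCompact p'] (V' : Over X') (B : Beta D j p' V') (Z' : Over S'),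
      Nonempty ((toDD p').obj Z' ≅ B.dd) →
      ∃ s₀ : El D Z'.left, s₀.g = Z'.hom ≫ j ∧
        ∀ ⦃T : Scheme.{u}⦄ (s : El D T) (g' : T ⟶ S'), s.g = g' ≫ j →
          ∃! h : T ⟶ Z'.left, h ≫ Z'.hom = g' ∧ s₀.res h = s

/-- PACKAGE SIGMA: β-structures on the members of a finite family give a β-structure on the
coproduct. -/
def BetaSigmaStmt : Prop :=
  ∀ {S : Scheme.{u}} {ι : Type u} {X : ι → Scheme.{u}} {f : ∀ i, X i ⟶ S} (D : SchDDFam f),
    GluesZariski D → ∀ {S' : Scheme.{u}} (j : S' ⟶ S) {n : ℕ} (X' : Fin n → Scheme.{u})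
      (p' : ∀ k, X' k ⟶ S') (V' : ∀ k, Over (X' k)), (∀ k, Beta D j (p' k) (V' k)) →
      Nonempty (Beta D j (Sigma.desc p') (Over.mk (Limits.Sigma.map fun k => (V' k).hom)))

end Groth.Agent.R2.H37.DescSheaf
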