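import Mathlib
import Groth.Prelude.Def_DescFam
import Groth.Agent.R2.H37DescBeta

/-!
# The presheaf of a descent datum is a sheaf for every subcanonical topology (helper37)

* `isSheaf_FD J D` : `Presieve.IsSheaf J (FD D)` for every subcanonical topology `J` on schemes.
* `gluesZariski D : GluesZariski D`, `descendsFpqc D : DescendsFpqc D`.
-/

set_option autoImplicit false
set_option backward.isDefEq.respectTransparency false
set_option backward.isDefEq.respectTransparency.types false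
universe u
open CategoryTheory CategoryTheory.Limits AlgebraicGeometry Desc Opposite

namespace Groth.Agent.R2.H37.DescSheaf

variable {S : Scheme.{u}} {ι : Type u} {X : ι → Scheme.{u}} {f : ∀ i, X i ⟶ S}

section glue

variable (J : GrothendieckTopology Scheme.{u}) [J.Subcanonical]

/-- gluing of morphisms on a covering sieve of a subcanonical topology. -/
lemma glue_hom {T : Scheme.{u}} (R : Sieve T) (hR : R ∈ J T) (V : Scheme.{u})
    (c : ∀ ⦃Y : Scheme.{u}⦄ (r : Y ⟶ T), R r → (Y ⟶ V))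
    (hc : ∀ ⦃Y Y' : Scheme.{u}⦄ (r : Y ⟶ T) (hr : R r) (q : Y' ⟶ Y),
      c (q ≫ r) (R.downward_closed hr q) = q ≫ c r hr) :
    ∃! a : T ⟶ V, ∀ ⦃Y : Scheme.{u}⦄ (r : Y ⟶ T) (hr : R r), r ≫ a = c r hr := by
  have hsh : Presieve.IsSheaf J (yoneda.obj V) :=
    GrothendieckTopology.Subcanonical.isSheaf_of_isRepresentable _
  have h1 := hsh R hR
  let x : Presieve.FamilyOfElements (yoneda.obj V) R.arrows := fun Y r hr => c r hr
  have hx : x.Compatible := by
    rw [Presieve.compatible_iff_sieveCompatible]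
    intro Y Z r q hr
    exact hc r hr q
  obtain ⟨a, ha, hu⟩ := h1 x hx
  exact ⟨a, fun Y r hr => ha r hr, fun a' ha' => hu a' (fun Y r hr => ha' r hr)⟩

lemma hom_ext_sieve {T : Scheme.{u}} (R : Sieve T) (hR : R ∈ J T) {V : Scheme.{u}}
    (a b : T ⟶ V) (h : ∀ ⦃Y : Scheme.{u}⦄ (r : Y ⟶ T), R r → r ≫ a = r ≫ b) : a = b := by
  obtain ⟨c, -, hu⟩ := glue_hom J R hR V (fun Y r _ => r ≫ a) (by
    intro Y Y' r hr q
    rw [Category.assoc])
  rw [hu a (fun Y r hr => rfl), hu b (fun Y r hr => (h r hr).symm)]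

end glue

namespace El

variable {D : SchDDFam f} {T : Scheme.{u}}

lemma val_congr_el {s s' : El D T} (hs : s = s') {T' : Scheme.{u}} {t t' : T' ⟶ T} {i : ι}
    {x x' : T' ⟶ X i} (ht : t = t') (hx : x = x') (h : x ≫ f i = t ≫ s.g)
    (h' : x' ≫ f i = t' ≫ s'.g) : s.val t x h = s'.val t' x' h' := by
  subst hs ht hx
  rfl

/-- the value of an element at the point `(𝟙, x)`. -/
noncomputable def pt (s : El D T) {i : ι} (x : T ⟶ X i) (h : x ≫ f i = s.g) :
    T ⟶ (D.obj i).left := (toLift s x h).1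

lemma pt_eq (s : El D T) {i : ι} (x : T ⟶ X i) (h : x ≫ f i = s.g) :
    s.pt x h = s.val (𝟙 T) x (by rw [h, Category.id_comp]) := rfl

@[simp] lemma pt_hom (s : El D T) {i : ι} (x : T ⟶ X i) (h : x ≫ f i = s.g) :
    s.pt x h ≫ (D.obj i).hom = x := (toLift s x h).2

lemma pt_congr {s s' : El D T} (hs : s = s') {i : ι} {x x' : T ⟶ X i} (hx : x = x')
    (h : x ≫ f i = s.g) (h' : x' ≫ f i = s'.g) : s.pt x h = s'.pt x' h' := by
  subst hs hx
  rfl

lemma pt_res (s : El D T) {i : ι} (x : T ⟶ X i) (h : x ≫ f i = s.g) {T₁ : Scheme.{u}}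
    (r : T₁ ⟶ T) (h' : (r ≫ x) ≫ f i = (s.res r).g) :
    (s.res r).pt (r ≫ x) h' = r ≫ s.pt x h := toLift_res s x h r

lemma val_eq_pt_res (s : El D T) {T' : Scheme.{u}} (t : T' ⟶ T) {i : ι} (x : T' ⟶ X i)
    (h : x ≫ f i = t ≫ s.g) : s.val t x h = (s.res t).pt x h := by
  rw [pt_eq, res_val]
  exact val_congr s (Category.id_comp t).symm rfl _

end El

section sheaf

variable (J : GrothendieckTopology Scheme.{u}) [J.Subcanonical] (D : SchDDFam f)

theorem isSheafFor_FD {T : Scheme.{u}} (R : Sieve T) (hR : R ∈ J T) :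
    Presieve.IsSheafFor (FD D) R.arrows := by
  intro x hx
  rw [Presieve.compatible_iff_sieveCompatible] at hx
  have hx' : ∀ ⦃Y Y' : Scheme.{u}⦄ (r : Y ⟶ T) (hr : R r) (q : Y' ⟶ Y),
      x (q ≫ r) (R.downward_closed hr q) = (x r hr).res q := fun Y Y' r hr q => hx r q hr
  have xcongr : ∀ ⦃Y : Scheme.{u}⦄ (r r' : Y ⟶ T) (h : r = r') (hr : R r) (hr' : R r'),
      x r hr = x r' hr' := by
    intro Y r r' h hr hr'
    subst h
    rfl
  -- the structure morphism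
  obtain ⟨g, hg, hgu⟩ := glue_hom J R hR S (fun Y r hr => (x r hr).g) (by
    intro Y Y' r hr q
    rw [hx' r hr q]
    rfl)
  have hcond : ∀ ⦃T' : Scheme.{u}⦄ (t : T' ⟶ T) ⦃i : ι⦄ (x' : T' ⟶ X i) (h : x' ≫ f i = t ≫ g)
      ⦃Y : Scheme.{u}⦄ (q : Y ⟶ T') (hq : R (q ≫ t)), (q ≫ x') ≫ f i = (x (q ≫ t) hq).g := by
    intro T' t i x' h Y q hq
    rw [Category.assoc, h, ← hg (q ≫ t) hq, Category.assoc]
  -- the values
  have hv_ex : ∀ ⦃T' : Scheme.{u}⦄ (t : T' ⟶ T) ⦃i : ι⦄ (x' : T' ⟶ X i) (h : x' ≫ f i = t ≫ g),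
      ∃! a : T' ⟶ (D.obj i).left, ∀ ⦃Y : Scheme.{u}⦄ (q : Y ⟶ T') (hq : R (q ≫ t)),
        q ≫ a = (x (q ≫ t) hq).pt (q ≫ x') (hcond t x' h q hq) := by
    intro T' t i x' h
    refine glue_hom J (R.pullback t) (J.pullback_stable t hR) _
      (fun Y q hq => (x (q ≫ t) hq).pt (q ≫ x') (hcond t x' h q hq)) ?_
    intro Y Y' q hq q'
    have e1 : x ((q' ≫ q) ≫ t) (by simpa using R.downward_closed hq q') =
        (x (q ≫ t) hq).res q' :=
      (xcongr _ _ (Category.assoc _ _ _) _ _).trans (hx' (q ≫ t) hq q')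
    rw [← El.pt_res (x (q ≫ t) hq) (q ≫ x') (hcond t x' h q hq) q'
      (by rw [El.res_g, Category.assoc, hcond t x' h q hq])]
    exact El.pt_congr e1 (Category.assoc _ _ _) _ _
  choose v hv1 hv2 using hv_ex
  have hv : ∀ ⦃T' : Scheme.{u}⦄ (t : T' ⟶ T) ⦃i : ι⦄ (x' : T' ⟶ X i) (h : x' ≫ f i = t ≫ g),
      v t x' h ≫ (D.obj i).hom = x' := by
    intro T' t i x' h
    apply hom_ext_sieve J (R.pullback t) (J.pullback_stable t hR)
    intro Y q hq
    rw [← Category.assoc, hv1 t x' h q hq, El.pt_hom]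
  have hnat : ∀ ⦃T' T'' : Scheme.{u}⦄ (r : T'' ⟶ T') (t : T' ⟶ T) ⦃i : ι⦄ (x' : T' ⟶ X i)
      (h : x' ≫ f i = t ≫ g) (h' : (r ≫ x') ≫ f i = (r ≫ t) ≫ g),
      v (r ≫ t) (r ≫ x') h' = r ≫ v t x' h := by
    intro T' T'' r t i x' h h'
    refine (hv2 (r ≫ t) (r ≫ x') h' (r ≫ v t x' h) ?_).symm
    intro Y q hq
    have hq' : R ((q ≫ r) ≫ t) := by simpa using hq
    rw [← Category.assoc, hv1 t x' h (q ≫ r) hq']
    exact El.pt_congr (xcongr _ _ (Category.assoc _ _ _) _ _) (Category.assoc _ _ _) _ _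
  have hcomm : ∀ ⦃T' : Scheme.{u}⦄ (t : T' ⟶ T) ⦃i j : ι⦄ (x₀ : T' ⟶ X i) (x₁ : T' ⟶ X j)
      (h₀ : x₀ ≫ f i = t ≫ g) (h₁ : x₁ ≫ f j = t ≫ g) (h : x₀ ≫ f i = x₁ ≫ f j),
      (D.φ x₀ x₁ h ⟨v t x₀ h₀, hv t x₀ h₀⟩).1 = v t x₁ h₁ := by
    intro T' t i j x₀ x₁ h₀ h₁ h
    refine hv2 t x₁ h₁ _ ?_
    intro Y q hq
    have hh : (q ≫ x₀) ≫ f i = (q ≫ x₁) ≫ f j := by
      rw [Category.assoc, Category.assoc, h]
    have e1 := D.φ_natural q x₀ x₁ h (q ≫ x₀) (q ≫ x₁) rfl rfl hh ⟨v t x₀ h₀, hv t x₀ h₀⟩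
      ((x (q ≫ t) hq).valL (𝟙 Y) (q ≫ x₀)
        (by rw [Category.id_comp]; exact hcond t x₀ h₀ q hq))
      (by
        change (x (q ≫ t) hq).pt (q ≫ x₀) (hcond t x₀ h₀ q hq) = _
        rw [hv1 t x₀ h₀ q hq])
    rw [← e1]
    exact El.val_comm (x (q ≫ t) hq) (𝟙 Y) (q ≫ x₀) (q ≫ x₁) _
      (by rw [Category.id_comp]; exact hcond t x₁ h₁ q hq) hh
  refine ⟨El.mk' g v hv hnat hcomm, ?_, ?_⟩
  · -- amalgamation
    intro Y r hr
    change (El.mk' g v hv hnat hcomm).res r = x r hr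
    refine El.ext_val (hg r hr) ?_
    intro T' t i x' h
    rw [El.res_val, El.mk'_val]
    have h2 : x' ≫ f i = (t ≫ r) ≫ g := by
      rw [h, El.res_g, El.mk'_g, Category.assoc]
    have h3 : x' ≫ f i = t ≫ (x r hr).g := by
      rw [h2, Category.assoc, hg r hr]
    refine (hv2 (t ≫ r) x' h2 ((x r hr).val t x' h3) ?_).symm
    intro Y' q hq
    rw [← El.val_nat (x r hr) q t x' h3 (by rw [Category.assoc, Category.assoc, h3]),
      El.val_eq_pt_res]
    have e1 : x (q ≫ t ≫ r) hq = (x r hr).res (q ≫ t) :=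
      (xcongr _ _ (Category.assoc _ _ _).symm _ (R.downward_closed hr (q ≫ t))).trans
        (hx' r hr (q ≫ t))
    exact El.pt_congr e1.symm rfl _ _
  · -- uniqueness
    intro s' hs'
    have hs'' : ∀ ⦃Y : Scheme.{u}⦄ (r : Y ⟶ T) (hr : R r), s'.res r = x r hr :=
      fun Y r hr => hs' r hr
    have hg' : s'.g = g := hgu s'.g (fun Y r hr => by
      have := congrArg El.g (hs'' r hr)
      simpa using this)
    refine El.ext_val hg' ?_
    intro T' t i x' h
    rw [El.mk'_val]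
    have h2 : x' ≫ f i = t ≫ g := by rw [h, hg']
    refine hv2 t x' h2 (s'.val t x' h) ?_
    intro Y q hq
    rw [← El.val_nat s' q t x' h (by rw [Category.assoc, Category.assoc, h]),
      El.val_eq_pt_res]
    exact El.pt_congr (hs'' (q ≫ t) hq) rfl _ _

theorem isSheaf_FD : Presieve.IsSheaf J (FD D) := fun _ R hR => isSheafFor_FD J D R hR

end sheaf

section forms

variable (D : SchDDFam f)

/-- Zariski gluing of elements. -/
theorem gluesZariski : GluesZariski D := by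
  intro T 𝒰 s hs
  have h1 : Presieve.IsSheafFor (FD D) (Presieve.ofArrows 𝒰.X 𝒰.f) :=
    (isSheaf_FD Scheme.zariskiTopology D).isSheafFor _ 𝒰.mem_grothendieckTopology
  rw [Presieve.isSheafFor_arrows_iff_pullbacks] at h1
  exact h1 s hs

/-- fpqc descent of elements. -/
theorem descendsFpqc : DescendsFpqc D := by
  intro T' T e _ _ _ s' hs'
  have h1 : Presieve.IsSheafFor (FD D) (Presieve.singleton e) :=
    (isSheaf_FD Scheme.fpqcTopology D).isSheafFor _
      (Precoverage.generate_mem_toGrothendieck e.singleton_mem_fpqcPrecoverage)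
  rw [Presieve.isSheafFor_singleton] at h1
  exact h1 s' (fun p₁ p₂ h => hs' p₁ p₂ h)

/-- the presheaf of `D` as a Zariski sheaf. -/
theorem isSheaf_zariski_FD : Presheaf.IsSheaf Scheme.zariskiTopology (FD D) :=
  (isSheaf_iff_isSheaf_of_type _ _).2 (isSheaf_FD Scheme.zariskiTopology D)

end forms

end Groth.Agent.R2.H37.DescSheaf
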