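import Mathlib
import Groth.Prelude.Def_DescFam
import Groth.Agent.R2.H37DescBeta
import Groth.Agent.R2.H37DescSheafI

/-!
# PROJ:fpqc-desc — package [LOC] (helper14)

Representability of the presheaf `FD D` of a descent datum is Zariski local on the base `S`
(`LocalRepStmt`), via Mathlib's `Scheme.LocalRepresentability.isRepresentable`.

* `gNat D : FD D ⟶ yoneda.obj S` : the structure morphism.
* `isPullback_of_repOn` : if `(Z, s₀)` represents `FD D` over the open `W ⊆ S`, the square
  `yoneda Z ⟶ FD D`, `yoneda W ⟶ yoneda S` is cartesian.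
* `rep_of_representableBy` : a representing object in Mathlib's sense gives `Rep D Z' s`.
* `localRep : LocalRepStmt`.
-/

set_option autoImplicit false
set_option backward.isDefEq.respectTransparency false
set_option backward.isDefEq.respectTransparency.types false
universe u
open CategoryTheory CategoryTheory.Limits AlgebraicGeometry Desc Opposite

namespace Groth.Agent.R2.H14.DescLoc

open Groth.Agent.R2.H37.DescSheaf

variable {S : Scheme.{u}} {ι : Type u} {X : ι → Scheme.{u}} {f : ∀ i, X i ⟶ S}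

/-- the structure morphism `FD D ⟶ h_S`. -/
noncomputable def gNat (D : SchDDFam f) : FD D ⟶ yoneda.obj S where
  app T := TypeCat.ofHom fun s => El.g s
  naturality T T' r := by
    ext s
    rfl

@[simp] lemma gNat_app_apply (D : SchDDFam f) (T : Scheme.{u}ᵒᵖ) (s : El D T.unop) :
    (gNat D).app T s = s.g := rfl

/-- the morphism `h_Z ⟶ FD D` attached to an element. -/
noncomputable def elMap (D : SchDDFam f) {Z : Scheme.{u}} (s₀ : El D Z) : yoneda.obj Z ⟶ FD D :=
  yonedaEquiv.symm s₀

lemma elMap_app_apply (D : SchDDFam f) {Z : Scheme.{u}} (s₀ : El D Z) (T : Scheme.{u}ᵒᵖ)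
    (h : T.unop ⟶ Z) : (elMap D s₀).app T h = s₀.res h := rfl

/-- the lift of the structure morphism of a representing element through the open `W`. -/
noncomputable def zLift (D : SchDDFam f) (W : S.Opens) {Z : Scheme.{u}} (s₀ : El D Z)
    (hW : Set.range s₀.g.base ⊆ (W : Set S)) : Z ⟶ W.toScheme :=
  IsOpenImmersion.lift W.ι s₀.g (by rw [Scheme.Opens.range_ι]; exact hW)

@[reassoc (attr := simp)]
lemma zLift_ι (D : SchDDFam f) (W : S.Opens) {Z : Scheme.{u}} (s₀ : El D Z)
    (hW : Set.range s₀.g.base ⊆ (W : Set S)) : zLift D W s₀ hW ≫ W.ι = s₀.g :=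
  IsOpenImmersion.lift_fac _ _ _

lemma range_subset_of_eq_comp_ι (W : S.Opens) {T : Scheme.{u}} (g : T ⟶ S) (w : T ⟶ W.toScheme)
    (h : g = w ≫ W.ι) : Set.range g.base ⊆ (W : Set S) := by
  subst h
  rintro _ ⟨x, rfl⟩
  exact (w x).2

/-- if `(Z, s₀)` represents `FD D` over the open `W`, the square is cartesian. -/
theorem isPullback_of_repOn (D : SchDDFam f) (W : S.Opens) {Z : Scheme.{u}} (s₀ : El D Z)
    (h : RepOn D W Z s₀) :
    IsPullback (elMap D s₀) (yoneda.map (zLift D W s₀ h.1)) (gNat D) (yoneda.map W.ι) := by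
  refine IsPullback.of_forall_isPullback_app fun T => ?_
  rw [Types.isPullback_iff]
  refine ⟨?_, ?_, ?_⟩
  · ext a
    change (s₀.res a).g = (a ≫ zLift D W s₀ h.1) ≫ W.ι
    rw [Category.assoc, zLift_ι]
    rfl
  · rintro (a : T.unop ⟶ Z) (b : T.unop ⟶ Z) ⟨h1, -⟩
    replace h1 : s₀.res a = s₀.res b := h1
    have hr : Set.range (s₀.res b).g.base ⊆ (W : Set S) :=
      range_subset_of_eq_comp_ι W _ (b ≫ zLift D W s₀ h.1) (by
        rw [Category.assoc, zLift_ι]; rfl)
    exact (h.2 (s₀.res b) hr).unique h1 rfl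
  · rintro (s : El D T.unop) (w : T.unop ⟶ W.toScheme) hsw
    replace hsw : s.g = w ≫ W.ι := hsw
    obtain ⟨a, ha, -⟩ := h.2 s (range_subset_of_eq_comp_ι W _ w hsw)
    refine ⟨a, ha, ?_⟩
    change a ≫ zLift D W s₀ h.1 = w
    rw [← cancel_mono W.ι, Category.assoc, zLift_ι, ← hsw, ← ha]
    rfl

/-- a representing object in Mathlib's sense gives a representing element. -/
theorem rep_of_representableBy (D : SchDDFam f) {Z' : Scheme.{u}}
    (R : (FD D).RepresentableBy Z') : Rep D Z' (R.homEquiv (𝟙 Z')) := by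
  intro T s
  have key : ∀ h : T ⟶ Z', (R.homEquiv (𝟙 Z')).res h = R.homEquiv h := by
    intro h
    have := R.homEquiv_comp h (𝟙 Z')
    rw [Category.comp_id] at this
    exact this.symm
  refine ⟨R.homEquiv.symm s, ?_, ?_⟩
  · change (R.homEquiv (𝟙 Z')).res _ = s
    rw [key, Equiv.apply_symm_apply]
  · intro h hh
    rw [key] at hh
    rw [← hh, Equiv.symm_apply_apply]

/-- representability of `FD D` is Zariski local on `S`. -/
theorem exists_rep (D : SchDDFam f) {A : Type u} (W : A → S.Opens) (hW : ⨆ a, W a = ⊤)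
    (Z : A → Scheme.{u}) (s₀ : ∀ a, El D (Z a)) (h : ∀ a, RepOn D (W a) (Z a) (s₀ a)) :
    ∃ (Z' : Scheme.{u}) (s : El D Z'), Rep D Z' s := by
  have hf : ∀ a, IsOpenImmersion.presheaf (elMap D (s₀ a)) := by
    intro a
    have h1 : IsOpenImmersion.presheaf (yoneda.map (W a).ι) :=
      MorphismProperty.relative_map inferInstance
    exact (MorphismProperty.relative_isStableUnderBaseChange _).of_isPullback
      (isPullback_of_repOn D (W a) (s₀ a) (h a)).flip h1
  have hsurj : Presheaf.IsLocallySurjective Scheme.zariskiTopology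
      (Sigma.desc fun a => elMap D (s₀ a)) := by
    constructor
    intro T s
    let 𝒰 : T.OpenCover := T.openCoverOfIsOpenCover (fun a : A => s.g ⁻¹ᵁ W a) (by
      change iSup _ = ⊤
      rw [← Scheme.Hom.preimage_iSup, hW]
      rfl)
    have main : ∀ a : A, Presheaf.imageSieve (Sigma.desc fun a => elMap D (s₀ a)) s
        (s.g ⁻¹ᵁ W a).ι := by
      intro a
      have hr : Set.range (s.res (s.g ⁻¹ᵁ W a).ι).g.base ⊆ (W a : Set S) := by
        rintro _ ⟨x, rfl⟩
        exact x.2
      obtain ⟨b, hb, -⟩ := (h a).2 (s.res (s.g ⁻¹ᵁ W a).ι) hr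
      refine ⟨(Sigma.ι (fun a => yoneda.obj (Z a)) a).app (Opposite.op _) b, ?_⟩
      have h1 : (Sigma.ι (fun a => yoneda.obj (Z a)) a ≫ Sigma.desc fun a => elMap D (s₀ a)).app
          (Opposite.op (s.g ⁻¹ᵁ W a).toScheme) b = (elMap D (s₀ a)).app _ b := by
        rw [Sigma.ι_desc]
        rfl
      rw [NatTrans.comp_app] at h1
      exact h1.trans hb
    refine Scheme.zariskiTopology.superset_covering ?_ 𝒰.mem_grothendieckTopology
    rw [Sieve.ofArrows, Sieve.generate_le_iff]
    rintro V g ⟨a⟩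
    exact main a
  have hrep : (FD D).IsRepresentable :=
    Scheme.LocalRepresentability.isRepresentable (F := ⟨FD D, isSheaf_zariski_FD D⟩) hf
  obtain ⟨Z', ⟨R⟩⟩ := hrep
  exact ⟨Z', _, rep_of_representableBy D R⟩

/-- **PACKAGE LOC.** -/
theorem localRep : LocalRepStmt.{u} := by
  intro S ι X f D _ A W hW Z s₀ h
  exact exists_rep D W hW Z s₀ h

end Groth.Agent.R2.H14.DescLoc
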