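import Mathlib
import Groth.Prelude.Def_DescFam
import Groth.Agent.R2.H37DescBeta

/-!
# PROJ:fpqc-desc — open subfunctors of the presheaf of a descent datum (helper37)

`OpenSub D Z s₀` : the element `s₀ : El D Z` makes `Z` an open subfunctor of `FD D`.
`OpenSubRepStmt` : a family of open subfunctors covering `FD D` glues to a representing object
(general form of `LocalRepStmt`, needed for S9866 / S9855).
-/

set_option autoImplicit false
set_option backward.isDefEq.respectTransparency false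
set_option backward.isDefEq.respectTransparency.types false
universe u
open CategoryTheory CategoryTheory.Limits AlgebraicGeometry Desc Opposite

namespace Groth.Agent.R2.H37.DescSheaf

variable {S : Scheme.{u}} {ι : Type u} {X : ι → Scheme.{u}} {f : ∀ i, X i ⟶ S}

/-- `s₀ : El D Z` is an open subfunctor of `FD D`: it is a monomorphism, and for every element `s`
over `T` the locus of `T` where `s` comes from `Z` is an open subscheme. -/
structure OpenSub (D : SchDDFam f) (Z : Scheme.{u}) (s₀ : El D Z) : Prop where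
  mono : ∀ ⦃T : Scheme.{u}⦄ (h h' : T ⟶ Z), s₀.res h = s₀.res h' → h = h'
  isOpen : ∀ ⦃T : Scheme.{u}⦄ (s : El D T), ∃ O : T.Opens, ∀ ⦃T' : Scheme.{u}⦄ (t : T' ⟶ T),
    Set.range t.base ⊆ (O : Set T) ↔ ∃ h : T' ⟶ Z, s₀.res h = s.res t

/-- PACKAGE OPENSUB: open subfunctors which cover `FD D` glue to a representing scheme. -/
def OpenSubRepStmt : Prop :=
  ∀ {S : Scheme.{u}} {ι : Type u} {X : ι → Scheme.{u}} {f : ∀ i, X i ⟶ S} (D : SchDDFam f)
    {A : Type u} (Z : A → Scheme.{u}) (s₀ : ∀ a, El D (Z a)), (∀ a, OpenSub D (Z a) (s₀ a)) →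
    (∀ ⦃T : Scheme.{u}⦄ (s : El D T) (x : T), ∃ (a : A) (O : T.Opens), x ∈ O ∧
      ∃ h : O.toScheme ⟶ Z a, (s₀ a).res h = s.res O.ι) →
    ∃ (Z' : Scheme.{u}) (s : El D Z'), Rep D Z' s

/-- representability over an open of the base gives an open subfunctor. -/
theorem openSub_of_repOn (D : SchDDFam f) (W : S.Opens) (Z : Scheme.{u}) (s₀ : El D Z)
    (h : RepOn D W Z s₀) : OpenSub D Z s₀ where
  mono := by
    intro T a b hab
    have h1 : Set.range (s₀.res b).g.base ⊆ (W : Set S) := by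
      rw [El.res_g, Scheme.Hom.comp_base, TopCat.coe_comp]
      exact (Set.range_comp_subset_range _ _).trans h.1
    exact (h.2 (s₀.res b) h1).unique hab rfl
  isOpen := by
    intro T s
    refine ⟨s.g ⁻¹ᵁ W, ?_⟩
    intro T' t
    constructor
    · intro ht
      have h1 : Set.range (s.res t).g.base ⊆ (W : Set S) := by
        rintro _ ⟨y, rfl⟩
        rw [El.res_g, Scheme.Hom.comp_base, TopCat.coe_comp]
        exact ht ⟨y, rfl⟩
      obtain ⟨a, ha, -⟩ := h.2 (s.res t) h1
      exact ⟨a, ha⟩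
    · rintro ⟨a, ha⟩
      rintro _ ⟨y, rfl⟩
      have h1 : (s.res t).g = a ≫ s₀.g := by rw [← ha, El.res_g]
      rw [El.res_g] at h1
      change (s.g.base (t.base y)) ∈ (W : Set S)
      rw [← Scheme.Hom.comp_apply, h1, Scheme.Hom.comp_apply]
      exact h.1 ⟨_, rfl⟩

/-- `LocalRepStmt` follows from `OpenSubRepStmt`. -/
theorem localRepStmt_of_openSubRepStmt (hO : OpenSubRepStmt.{u}) : LocalRepStmt.{u} := by
  intro S ι X f D _ A W hW Z s₀ h
  refine hO D Z s₀ (fun a => openSub_of_repOn D (W a) (Z a) (s₀ a) (h a)) ?_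
  intro T s x
  have hx : s.g.base x ∈ ((⨆ a, W a : S.Opens) : Set S) := by rw [hW]; trivial
  obtain ⟨a, ha⟩ := TopologicalSpace.Opens.mem_iSup.1 hx
  refine ⟨a, s.g ⁻¹ᵁ W a, ha, ?_⟩
  have h1 : Set.range (s.res (s.g ⁻¹ᵁ W a).ι).g.base ⊆ (W a : Set S) := by
    rintro _ ⟨y, rfl⟩
    rw [El.res_g, Scheme.Hom.comp_base, TopCat.coe_comp]
    exact y.2
  obtain ⟨b, hb, -⟩ := (h a).2 (s.res (s.g ⁻¹ᵁ W a).ι) h1
  exact ⟨b, hb⟩

end Groth.Agent.R2.H37.DescSheaf
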