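import Mathlib
import Groth.Prelude.Def_MoreMor

/-!
# PROJ:fsm-glue (helper74) — interface file

Goal: local infinitesimal lifts on an affine first order thickening glue
(Stacks 02H6, (2) ⇒ (1)); rows S1486 (top), S1488, S10616, S7779.

Ring-level setting: `A` a ring, `I` an ideal of square zero, `B` an `A`-algebra with an ideal `J`
such that `A → B ⧸ J` is surjective with kernel `I` (geometrically: `Spec B` is the first order
neighbourhood of the graph of `a₀ : Spec (A ⧸ I) → X` inside `X ×_Y Spec A`, so `A`-algebra maps
`ψ : B → R` with `ψ J ⊆ I R` are the lifts over `Spec R`).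

This file only contains definitions and the statements of the packages (as `Prop`s).
-/

set_option autoImplicit false
universe u
open TensorProduct

namespace Groth.Agent.R2.H74.FSm

section defs
variable {A B : Type u} [CommRing A] [CommRing B] [Algebra A B]

/-- `ψ : B → R` is a lift: it maps `J` into `I R`. -/
def IsLift (I : Ideal A) (J : Ideal B) {R : Type u} [CommRing R] [Algebra A R] (ψ : B →ₐ[A] R) :
    Prop :=
  ∀ b ∈ J, ψ b ∈ I.map (algebraMap A R)

/-- The standing hypotheses: `I² = 0`, and `A → B ⧸ J` is surjective with kernel `I`. -/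
structure Setup (I : Ideal A) (J : Ideal B) : Prop where
  sq : I ^ 2 = ⊥
  comap : I = J.comap (algebraMap A B)
  surj : ∀ b : B, ∃ a : A, b - algebraMap A B a ∈ J

/-- Formal smoothness of `(B, J)` over `D(g) ⊆ Spec A`: for surjections `R' → R'' → R₀` of
`A`-algebras with `ker (R' → R₀)` of square zero and `g` invertible in `R'`, every `A`-algebra map
`ψ : B → R''` which kills `J` modulo `ker (R'' → R₀)` lifts to `R'`. -/
def LocFS (J : Ideal B) (g : A) : Prop :=
  ∀ (R' R'' R₀ : Type u) [CommRing R'] [CommRing R''] [CommRing R₀]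
    [Algebra A R'] [Algebra A R''] [Algebra A R₀] (q : R' →ₐ[A] R'') (r : R'' →ₐ[A] R₀),
    Function.Surjective q → Function.Surjective r →
    RingHom.ker ((r.comp q : R' →ₐ[A] R₀) : R' →+* R₀) ^ 2 = ⊥ →
    IsUnit (algebraMap A R' g) →
    ∀ ψ : B →ₐ[A] R'', (∀ b ∈ J, r (ψ b) = 0) → ∃ ψ' : B →ₐ[A] R', q.comp ψ' = ψ

/-- The `A`-submodule `A·1 + J²` of `B`; `A`-linear maps `B → N` killing it are the "derivations". -/
def Q (A : Type u) {B : Type u} [CommRing A] [CommRing B] [Algebra A B] (J : Ideal B) :
    Submodule A B :=
  LinearMap.range (Algebra.linearMap A B) ⊔ (J * J).restrictScalars A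

end defs

/-- **Package LP** (pure algebra, uses `Groth.Agent.S0585.result`): projectivity is Zariski local,
no finiteness hypothesis. -/
def PkgLP : Prop :=
  ∀ (R : Type u) [CommRing R] (M : Type u) [AddCommGroup M] [Module R M] (s : Set R),
    Ideal.span s = ⊤ →
    (∀ g ∈ s, Module.Projective (Localization.Away g) (Localization.Away g ⊗[R] M)) →
    Module.Projective R M

/-- **Package G** (pure algebra): the three facts about a two element cover of `Spec R` by basic
opens: sections glue uniquely, `I R_g ⊕ I R_h → I R_{gh}` is onto, membership of `I` is local. -/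
def PkgG : Prop :=
  ∀ (R : Type u) [CommRing R] (g h : R), Ideal.span {g, h} = ⊤ →
    (∀ (x : Localization.Away g) (y : Localization.Away h),
      IsLocalization.Away.awayToAwayRight (S := Localization.Away g)
          (P := Localization.Away (g * h)) g h x =
        IsLocalization.Away.awayToAwayLeft (S := Localization.Away h)
          (P := Localization.Away (g * h)) h g y →
      ∃ z : R, algebraMap R (Localization.Away g) z = x ∧
        algebraMap R (Localization.Away h) z = y) ∧
    (∀ z : R, algebraMap R (Localization.Away g) z = 0 →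
      algebraMap R (Localization.Away h) z = 0 → z = 0) ∧
    (∀ (I : Ideal R) (w : Localization.Away (g * h)),
      w ∈ I.map (algebraMap R (Localization.Away (g * h))) →
      ∃ x ∈ I.map (algebraMap R (Localization.Away g)),
        ∃ y ∈ I.map (algebraMap R (Localization.Away h)),
          w = IsLocalization.Away.awayToAwayRight (S := Localization.Away g)
              (P := Localization.Away (g * h)) g h x -
            IsLocalization.Away.awayToAwayLeft (S := Localization.Away h)
              (P := Localization.Away (g * h)) h g y) ∧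
    (∀ (I : Ideal R) (z : R), algebraMap R (Localization.Away g) z ∈
        I.map (algebraMap R (Localization.Away g)) →
      algebraMap R (Localization.Away h) z ∈ I.map (algebraMap R (Localization.Away h)) → z ∈ I)

/-- **Package TSZ** (pure algebra, trivial square zero extensions): over `D(g)`, `A`-linear maps
`B → N` killing `Q` lift along surjections of modules over `(A ⧸ I)_g`. -/
def PkgTSZ : Prop :=
  ∀ (A B : Type u) [CommRing A] [CommRing B] [Algebra A B] (I : Ideal A) (J : Ideal B),
    Setup I J → ∀ g : A, LocFS J g →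
    ∀ (N' N : Type u) [AddCommGroup N'] [AddCommGroup N]
      [Module (Localization.Away (Ideal.Quotient.mk I g)) N']
      [Module (Localization.Away (Ideal.Quotient.mk I g)) N]
      [Module A N'] [Module A N]
      [IsScalarTower A (Localization.Away (Ideal.Quotient.mk I g)) N']
      [IsScalarTower A (Localization.Away (Ideal.Quotient.mk I g)) N]
      (p : N' →ₗ[Localization.Away (Ideal.Quotient.mk I g)] N), Function.Surjective p →
      ∀ D : B →ₗ[A] N, Q A J ≤ LinearMap.ker D →
        ∃ D' : B →ₗ[A] N', Q A J ≤ LinearMap.ker D' ∧ ∀ b, p (D' b) = D b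

/-- **Ring-level main theorem** (assembler, helper74): local formal smoothness on a cover of
`Spec A` gives a global lift. -/
def RingGlue : Prop :=
  ∀ (A B : Type u) [CommRing A] [CommRing B] [Algebra A B] (I : Ideal A) (J : Ideal B),
    Setup I J → ∀ s : Set A, Ideal.span s = ⊤ → (∀ g ∈ s, LocFS J g) →
      ∃ ψ : B →ₐ[A] A, ∀ b ∈ J, ψ b ∈ I

open AlgebraicGeometry CategoryTheory in
/-- **Package Aff** (scheme ↔ ring translation, affine case): for affine opens `U ⊆ f⁻¹ V` the
restriction `U ⟶ V` has the infinitesimal lifting property iff `Γ(Y, V) → Γ(X, U)` is formally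
smooth. (`⇐`: `Algebra.FormallySmooth.comp_surjective`; `⇒`: `Algebra.FormallySmooth.of_comp_surjective`,
test rings in universe `u`.) -/
def PkgAff : Prop :=
  ∀ {X Y : Scheme.{u}} (f : X ⟶ Y) (U : X.Opens) (V : Y.Opens) (_ : IsAffineOpen U)
    (_ : IsAffineOpen V) (hUV : U ≤ f ⁻¹ᵁ V),
    MoreMor.IsFormallySmoothHom (f.resLE V U hUV) ↔
      (letI := (f.appLE V U hUV).hom.toAlgebra
       Algebra.FormallySmooth Γ(Y, V) Γ(X, U))

open AlgebraicGeometry CategoryTheory in
/-- **Scheme-level main theorem** (assembler, helper74): Stacks 02H6 (2) ⇒ (1). -/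
def SchemeGlue : Prop :=
  ∀ {X Y : Scheme.{u}} (f : X ⟶ Y),
    (∀ x : X, ∃ U : X.Opens, x ∈ U ∧ MoreMor.IsFormallySmoothHom (U.ι ≫ f)) →
    MoreMor.IsFormallySmoothHom f

end Groth.Agent.R2.H74.FSm
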