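import Mathlib
import Groth.Agent.R2.H74FSmSpec
import Groth.Agent.Lib.Helper18UT4

/-!
# PROJ:fsm-glue, package Aff: the infinitesimal lifting property for affine schemes
-/

set_option autoImplicit false
universe u

namespace Groth.Agent.R2.H14.FSmAff

open AlgebraicGeometry CategoryTheory Groth.Agent.Helper18UT

/-- For a morphism of affine schemes the scheme-level infinitesimal lifting property is formal
smoothness of the map on global sections. -/
theorem isFormallySmoothHom_iff_of_isAffine {W W' : Scheme.{u}} [IsAffine W] [IsAffine W']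
    (g : W ⟶ W') : MoreMor.IsFormallySmoothHom g ↔ g.appTop.hom.FormallySmooth := by
  constructor
  · intro hg
    let _ : Algebra Γ(W', ⊤) Γ(W, ⊤) := g.appTop.hom.toAlgebra
    change Algebra.FormallySmooth Γ(W', ⊤) Γ(W, ⊤)
    refine Algebra.FormallySmooth.of_comp_surjective ?_
    intro B _ _ I hI ψ
    let a : Spec (CommRingCat.of (B ⧸ I)) ⟶ W := toAff W (CommRingCat.ofHom ψ.toRingHom)
    let b : Spec (CommRingCat.of B) ⟶ W' :=
      toAff W' (CommRingCat.ofHom (algebraMap Γ(W', ⊤) B))
    have hsq : Spec.map (CommRingCat.ofHom (Ideal.Quotient.mk I)) ≫ b = a ≫ g := by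
      rw [map_toAff, toAff_comp]
      congr 1
      ext r
      change Ideal.Quotient.mk I (algebraMap Γ(W', ⊤) B r) = ψ (algebraMap Γ(W', ⊤) Γ(W, ⊤) r)
      rw [ψ.commutes]
      rfl
    obtain ⟨l, hl1, hl2⟩ := hg B I hI a b hsq
    obtain ⟨lam, rfl⟩ := toAff_surjective W l
    rw [map_toAff] at hl1
    rw [toAff_comp] at hl2
    have h1 := toAff_injective W hl1
    have h2 := toAff_injective W' hl2
    refine ⟨{ lam.hom with commutes' := fun r => ?_ }, ?_⟩
    · exact congr($h2 r)
    · ext s
      exact congr($h1 s)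
  · intro hg A _ I hI a b hab
    obtain ⟨α, rfl⟩ := toAff_surjective W a
    obtain ⟨β, rfl⟩ := toAff_surjective W' b
    rw [map_toAff, toAff_comp] at hab
    have hab' := toAff_injective W' hab
    let _ : Algebra Γ(W', ⊤) Γ(W, ⊤) := g.appTop.hom.toAlgebra
    have hfs : Algebra.FormallySmooth Γ(W', ⊤) Γ(W, ⊤) := hg
    let _ : Algebra Γ(W', ⊤) A := β.hom.toAlgebra
    let ψ : Γ(W, ⊤) →ₐ[Γ(W', ⊤)] A ⧸ I :=
      { α.hom with commutes' := fun r => (congr($hab' r)).symm }
    obtain ⟨lam, hlam⟩ := Algebra.FormallySmooth.comp_surjective Γ(W', ⊤) Γ(W, ⊤) I hI ψ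
    refine ⟨toAff W (CommRingCat.ofHom lam.toRingHom), ?_, ?_⟩
    · rw [map_toAff]
      congr 1
      ext s
      exact congr($hlam s)
    · rw [toAff_comp]
      congr 1
      ext r
      exact lam.commutes r

end Groth.Agent.R2.H14.FSmAff

namespace Groth.Agent.R2.H14

open AlgebraicGeometry CategoryTheory Groth.Agent.R2.H74.FSm

theorem pkgAff : PkgAff.{u} := by
  intro X Y f U V hU hV hUV
  have : IsAffine U.toScheme := hU
  have : IsAffine V.toScheme := hV
  rw [FSmAff.isFormallySmoothHom_iff_of_isAffine]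
  change (f.resLE V U hUV).appTop.hom.FormallySmooth ↔ (f.appLE V U hUV).hom.FormallySmooth
  have h : (f.resLE V U hUV).appTop = V.topIso.hom ≫ f.appLE V U hUV ≫ U.topIso.inv :=
    Scheme.Hom.resLE_app_top f hUV
  rw [h, CommRingCat.hom_comp, RingHom.FormallySmooth.respectsIso.cancel_left_isIso,
    CommRingCat.hom_comp, RingHom.FormallySmooth.respectsIso.cancel_right_isIso]

end Groth.Agent.R2.H14
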