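import Mathlib
import Groth.Agent.R2.H74FSmSpec

/-!
# PROJ:fsm-glue, package G: two-element covers of `Spec R` by basic opens
-/

set_option autoImplicit false
universe u

namespace Groth.Agent.R2.H14.FSmG

open IsLocalization

variable {R : Type u} [CommRing R] (g h : R)

local notation "Rg" => Localization.Away g
local notation "Rh" => Localization.Away h
local notation "Rgh" => Localization.Away (g * h)

/-- `R_g → R_{gh}` -/
noncomputable abbrev ρg : Rg →+* Rgh :=
  IsLocalization.Away.awayToAwayRight (S := Rg) (P := Rgh) g h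

/-- `R_h → R_{gh}` -/
noncomputable abbrev ρh : Rh →+* Rgh :=
  IsLocalization.Away.awayToAwayLeft (S := Rh) (P := Rgh) h g

theorem ρg_algebraMap (a : R) : ρg g h (algebraMap R Rg a) = algebraMap R Rgh a :=
  IsLocalization.Away.awayToAwayRight_eq (S := Rg) (P := Rgh) g h a

theorem ρh_algebraMap (a : R) : ρh g h (algebraMap R Rh a) = algebraMap R Rgh a :=
  IsLocalization.Away.awayToAwayLeft_eq (S := Rh) (P := Rgh) h g a

theorem exists_pow_combo (hgh : Ideal.span {g, h} = ⊤) (N M : ℕ) :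
    ∃ u v : R, u * g ^ N + v * h ^ M = 1 := by
  have h1 : (1 : R) ∈ Ideal.span {g, h} := hgh ▸ Submodule.mem_top
  obtain ⟨c, d, hcd⟩ := Ideal.mem_span_pair.mp h1
  have hco : IsCoprime g h := ⟨c, d, hcd⟩
  exact hco.pow

/-- vanishing in `R_g`: killed by a power of `g` -/
theorem exists_pow_mul_eq_zero (z : R) (hz : algebraMap R Rg z = 0) : ∃ n : ℕ, g ^ n * z = 0 := by
  rw [IsLocalization.map_eq_zero_iff (Submonoid.powers g)] at hz
  obtain ⟨⟨_, n, rfl⟩, hn⟩ := hz
  exact ⟨n, hn⟩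

theorem exists_pow_mul_eq (a b : R) (hz : algebraMap R Rg a = algebraMap R Rg b) :
    ∃ n : ℕ, g ^ n * a = g ^ n * b := by
  have : algebraMap R Rg (a - b) = 0 := by rw [map_sub, hz, sub_self]
  obtain ⟨n, hn⟩ := exists_pow_mul_eq_zero g _ this
  exact ⟨n, by rw [mul_sub, sub_eq_zero] at hn; exact hn⟩

/-- membership in `I R_g`: a power of `g` times `z` lies in `I` -/
theorem exists_pow_mul_mem (I : Ideal R) (z : R)
    (hz : algebraMap R Rg z ∈ I.map (algebraMap R Rg)) : ∃ n : ℕ, g ^ n * z ∈ I := by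
  rw [IsLocalization.mem_map_algebraMap_iff (Submonoid.powers g)] at hz
  obtain ⟨⟨i, ⟨_, k, rfl⟩⟩, hik⟩ := hz
  rw [← map_mul] at hik
  obtain ⟨n, hn⟩ := exists_pow_mul_eq g _ _ hik
  refine ⟨n + k, ?_⟩
  have : g ^ (n + k) * z = g ^ n * (i : R) := by
    rw [← hn, pow_add]
    ring
  rw [this]
  exact I.mul_mem_left _ i.2

theorem isUnit_g : IsUnit (algebraMap R Rgh g) := by
  have := IsLocalization.Away.algebraMap_isUnit (S := Rgh) (g * h)
  rw [map_mul] at this
  exact isUnit_of_mul_isUnit_left this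

theorem isUnit_h : IsUnit (algebraMap R Rgh h) := by
  have := IsLocalization.Away.algebraMap_isUnit (S := Rgh) (g * h)
  rw [map_mul] at this
  exact isUnit_of_mul_isUnit_right this

theorem exists_pow_mul_eq_gh (a b : R) (hz : algebraMap R Rgh a = algebraMap R Rgh b) :
    ∃ n : ℕ, (g * h) ^ n * a = (g * h) ^ n * b := by
  have : algebraMap R Rgh (a - b) = 0 := by rw [map_sub, hz, sub_self]
  rw [IsLocalization.map_eq_zero_iff (Submonoid.powers (g * h))] at this
  obtain ⟨⟨_, n, rfl⟩, hn⟩ := this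
  exact ⟨n, by
    have h' : (g * h) ^ n * (a - b) = 0 := hn
    rw [mul_sub, sub_eq_zero] at h'; exact h'⟩

/-- (E0) -/
theorem eq_zero_of_locally (hgh : Ideal.span {g, h} = ⊤) (z : R)
    (h1 : algebraMap R Rg z = 0) (h2 : algebraMap R Rh z = 0) : z = 0 := by
  obtain ⟨n, hn⟩ := exists_pow_mul_eq_zero g z h1
  obtain ⟨m, hm⟩ := exists_pow_mul_eq_zero h z h2
  obtain ⟨u, v, huv⟩ := exists_pow_combo g h hgh n m
  calc z = (u * g ^ n + v * h ^ m) * z := by rw [huv, one_mul]
    _ = u * (g ^ n * z) + v * (h ^ m * z) := by ring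
    _ = 0 := by rw [hn, hm, mul_zero, mul_zero, add_zero]

/-- (E1) -/
theorem mem_of_locally (hgh : Ideal.span {g, h} = ⊤) (I : Ideal R) (z : R)
    (h1 : algebraMap R Rg z ∈ I.map (algebraMap R Rg))
    (h2 : algebraMap R Rh z ∈ I.map (algebraMap R Rh)) : z ∈ I := by
  obtain ⟨n, hn⟩ := exists_pow_mul_mem g I z h1
  obtain ⟨m, hm⟩ := exists_pow_mul_mem h I z h2
  obtain ⟨u, v, huv⟩ := exists_pow_combo g h hgh n m
  have : z = u * (g ^ n * z) + v * (h ^ m * z) := by
    calc z = (u * g ^ n + v * h ^ m) * z := by rw [huv, one_mul]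
      _ = _ := by ring
  rw [this]
  exact I.add_mem (I.mul_mem_left _ hn) (I.mul_mem_left _ hm)

/-- (E) -/
theorem glue (hgh : Ideal.span {g, h} = ⊤) (x : Rg) (y : Rh) (hxy : ρg g h x = ρh g h y) :
    ∃ z : R, algebraMap R Rg z = x ∧ algebraMap R Rh z = y := by
  obtain ⟨⟨a, ⟨_, n, rfl⟩⟩, ha⟩ := IsLocalization.surj (Submonoid.powers g) x
  obtain ⟨⟨b, ⟨_, m, rfl⟩⟩, hb⟩ := IsLocalization.surj (Submonoid.powers h) y
  simp only at ha hb
  -- in `R_{gh}`
  have e1 : algebraMap R Rgh (a * h ^ m) = algebraMap R Rgh (b * g ^ n) := by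
    have ha' := congrArg (ρg g h) ha
    have hb' := congrArg (ρh g h) hb
    rw [map_mul, ρg_algebraMap, ρg_algebraMap] at ha'
    rw [map_mul, ρh_algebraMap, ρh_algebraMap] at hb'
    rw [map_mul, map_mul, ← ha', ← hb', hxy]
    ring
  obtain ⟨k, hk⟩ := exists_pow_mul_eq_gh g h _ _ e1
  set a₁ := g ^ k * a with ha₁
  set b₁ := h ^ k * b with hb₁
  have hrel : a₁ * h ^ (m + k) = b₁ * g ^ (n + k) := by
    have : a₁ * h ^ (m + k) = (g * h) ^ k * (a * h ^ m) := by rw [ha₁, mul_pow, pow_add]; ring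
    rw [this, hk, hb₁, mul_pow, pow_add]
    ring
  obtain ⟨u, v, huv⟩ := exists_pow_combo g h hgh (n + k) (m + k)
  refine ⟨u * a₁ + v * b₁, ?_, ?_⟩
  · have hz : (u * a₁ + v * b₁) * g ^ (n + k) = a₁ := by
      calc (u * a₁ + v * b₁) * g ^ (n + k) = u * a₁ * g ^ (n + k) + v * (b₁ * g ^ (n + k)) := by
            ring
        _ = a₁ * (u * g ^ (n + k) + v * h ^ (m + k)) := by rw [← hrel]; ring
        _ = a₁ := by rw [huv, mul_one]
    have hu : IsUnit (algebraMap R Rg (g ^ (n + k))) := by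
      rw [map_pow]
      exact (IsLocalization.Away.algebraMap_isUnit (S := Rg) g).pow _
    apply hu.mul_left_injective
    change algebraMap R Rg (u * a₁ + v * b₁) * _ = x * _
    rw [← map_mul, hz, ha₁, pow_add, map_mul, map_mul, ← ha]
    ring
  · have hz : (u * a₁ + v * b₁) * h ^ (m + k) = b₁ := by
      calc (u * a₁ + v * b₁) * h ^ (m + k) = u * (a₁ * h ^ (m + k)) + v * b₁ * h ^ (m + k) := by
            ring
        _ = b₁ * (u * g ^ (n + k) + v * h ^ (m + k)) := by rw [hrel]; ring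
        _ = b₁ := by rw [huv, mul_one]
    have hu : IsUnit (algebraMap R Rh (h ^ (m + k))) := by
      rw [map_pow]
      exact (IsLocalization.Away.algebraMap_isUnit (S := Rh) h).pow _
    apply hu.mul_left_injective
    change algebraMap R Rh (u * a₁ + v * b₁) * _ = y * _
    rw [← map_mul, hz, hb₁, pow_add, map_mul, map_mul, ← hb]
    ring

/-- (S) -/
theorem exists_sub (hgh : Ideal.span {g, h} = ⊤) (I : Ideal R) (w : Rgh)
    (hw : w ∈ I.map (algebraMap R Rgh)) :
    ∃ x ∈ I.map (algebraMap R Rg), ∃ y ∈ I.map (algebraMap R Rh),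
      w = ρg g h x - ρh g h y := by
  rw [IsLocalization.mem_map_algebraMap_iff (Submonoid.powers (g * h))] at hw
  obtain ⟨⟨i, ⟨_, k, rfl⟩⟩, hik⟩ := hw
  simp only at hik
  obtain ⟨u, v, huv⟩ := exists_pow_combo g h hgh k k
  -- `i / g^k` and `i / h^k`
  set xg : Rg := IsLocalization.mk' Rg (i : R) (⟨g ^ k, k, rfl⟩ : Submonoid.powers g) with hxg
  set yh : Rh := IsLocalization.mk' Rh (i : R) (⟨h ^ k, k, rfl⟩ : Submonoid.powers h) with hyh
  have hxg_spec : xg * algebraMap R Rg (g ^ k) = algebraMap R Rg i :=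
    IsLocalization.mk'_spec Rg (i : R) (⟨g ^ k, k, rfl⟩ : Submonoid.powers g)
  have hyh_spec : yh * algebraMap R Rh (h ^ k) = algebraMap R Rh i :=
    IsLocalization.mk'_spec Rh (i : R) (⟨h ^ k, k, rfl⟩ : Submonoid.powers h)
  have hxg_mem : xg ∈ I.map (algebraMap R Rg) := by
    rw [IsLocalization.mem_map_algebraMap_iff (Submonoid.powers g)]
    exact ⟨⟨i, ⟨g ^ k, k, rfl⟩⟩, hxg_spec⟩
  have hyh_mem : yh ∈ I.map (algebraMap R Rh) := by
    rw [IsLocalization.mem_map_algebraMap_iff (Submonoid.powers h)]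
    exact ⟨⟨i, ⟨h ^ k, k, rfl⟩⟩, hyh_spec⟩
  have hug : IsUnit (algebraMap R Rgh (g ^ k)) := by
    rw [map_pow]; exact (isUnit_g g h).pow _
  have huh : IsUnit (algebraMap R Rgh (h ^ k)) := by
    rw [map_pow]; exact (isUnit_h g h).pow _
  -- `w h^k = ρg xg`, `w g^k = ρh yh`
  have e1 : w * algebraMap R Rgh (h ^ k) = ρg g h xg := by
    apply hug.mul_left_injective
    change w * _ * _ = ρg g h xg * _
    have := congrArg (ρg g h) hxg_spec
    rw [map_mul, ρg_algebraMap, ρg_algebraMap] at this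
    rw [this, ← hik, mul_pow, map_mul]
    ring
  have e2 : w * algebraMap R Rgh (g ^ k) = ρh g h yh := by
    apply huh.mul_left_injective
    change w * _ * _ = ρh g h yh * _
    have := congrArg (ρh g h) hyh_spec
    rw [map_mul, ρh_algebraMap, ρh_algebraMap] at this
    rw [this, ← hik, mul_pow, map_mul]
    ring
  refine ⟨algebraMap R Rg v * xg, Ideal.mul_mem_left _ _ hxg_mem,
    -(algebraMap R Rh u * yh), Ideal.neg_mem_iff _ |>.mpr (Ideal.mul_mem_left _ _ hyh_mem), ?_⟩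
  rw [map_mul, map_neg, map_mul, ρg_algebraMap, ρh_algebraMap, ← e1, ← e2, sub_neg_eq_add]
  calc w = w * algebraMap R Rgh (u * g ^ k + v * h ^ k) := by rw [huv, map_one, mul_one]
    _ = _ := by rw [map_add, map_mul, map_mul]; ring

end Groth.Agent.R2.H14.FSmG

namespace Groth.Agent.R2.H14

open Groth.Agent.R2.H74.FSm

theorem pkgG : PkgG.{u} := by
  intro R _ g h hgh
  refine ⟨fun x y hxy => FSmG.glue g h hgh x y hxy, fun z h1 h2 => FSmG.eq_zero_of_locally g h hgh z h1 h2,
    fun I w hw => FSmG.exists_sub g h hgh I w hw, fun I z h1 h2 => FSmG.mem_of_locally g h hgh I z h1 h2⟩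

end Groth.Agent.R2.H14
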