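import Mathlib
import Groth.Prelude.Def_MoreMor
import Groth.Agent.S9723

/-!
# PROJ:fsm-glue, package Open: the infinitesimal lifting property and open immersions
-/

set_option autoImplicit false
universe u

namespace Groth.Agent.R2.H14.FSmOpen

open AlgebraicGeometry CategoryTheory

/-- Post-composing with an open immersion preserves the infinitesimal lifting property. -/
theorem isFormallySmoothHom_comp_openImmersion {X Y Z : Scheme.{u}} (g : X ⟶ Y) (j : Y ⟶ Z)
    [IsOpenImmersion j] (hg : MoreMor.IsFormallySmoothHom g) :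
    MoreMor.IsFormallySmoothHom (g ≫ j) := by
  intro A _ I hI a b hab
  have hrange : Set.range b.base ⊆ Set.range j.base := by
    rintro _ ⟨y, rfl⟩
    obtain ⟨y₀, rfl⟩ := Groth.Agent.S9723.surj_specMap_mk A I hI y
    have : b.base ((Spec.map (CommRingCat.ofHom (Ideal.Quotient.mk I))).base y₀) =
        j.base (g.base (a.base y₀)) := by
      have := congrArg (fun t => t.base y₀) hab
      simpa using this
    rw [this]
    exact ⟨_, rfl⟩
  set b' := IsOpenImmersion.lift j b hrange with hb'
  have hfac : b' ≫ j = b := IsOpenImmersion.lift_fac _ _ _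
  have hsq : Spec.map (CommRingCat.ofHom (Ideal.Quotient.mk I)) ≫ b' = a ≫ g := by
    rw [← cancel_mono j, Category.assoc, hfac, hab, Category.assoc]
  obtain ⟨l, hl1, hl2⟩ := hg A I hI a b' hsq
  exact ⟨l, hl1, by rw [← Category.assoc, hl2, hfac]⟩

/-- The form needed by the assembler. -/
theorem isFormallySmoothHom_ι_comp_of_resLE {X Y : Scheme.{u}} (f : X ⟶ Y) (U : X.Opens)
    (V : Y.Opens) (h : U ≤ f ⁻¹ᵁ V) (hf : MoreMor.IsFormallySmoothHom (f.resLE V U h)) :
    MoreMor.IsFormallySmoothHom (U.ι ≫ f) := by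
  have := isFormallySmoothHom_comp_openImmersion (f.resLE V U h) V.ι hf
  rwa [Scheme.Hom.resLE_comp_ι] at this

end Groth.Agent.R2.H14.FSmOpen
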