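import Mathlib
import Groth.Agent.Lib.Helper11RedCl

/-!
# PROJ:ample [GEO] (helper14): integral closed subschemes lift along finite surjective morphisms

For `f : Y ⟶ X` closed (e.g. finite) and surjective and `i : Z ⟶ X` a closed immersion with `Z`
integral, there is an integral closed subscheme `i' : Z' ⟶ Y` with a finite surjective
`g : Z' ⟶ Z`, `g ≫ i = i' ≫ f`.  (`Z'` is the closure of a point over the generic point of `Z`,
with the reduced structure; no Noetherian hypothesis is needed.)
-/

set_option autoImplicit false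
universe u

open CategoryTheory CategoryTheory.Limits AlgebraicGeometry TopologicalSpace

namespace Groth.Agent.R2.H14.FinSurj

/-- the reduced closed subscheme on the closure of a point is integral. -/
lemma isIntegral_subscheme_closure_singleton {Y : Scheme.{u}} (y : ↥Y) :
    IsIntegral (Scheme.IdealSheafData.vanishingIdeal
      (⟨closure {y}, isClosed_closure⟩ : Closeds Y)).subscheme := by
  set Tc : Closeds Y := ⟨closure {y}, isClosed_closure⟩
  set I := Scheme.IdealSheafData.vanishingIdeal Tc
  have hrange : Set.range I.subschemeι = closure {y} :=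
    Groth.Agent.Lib.Helper11RedCl.range_subschemeι_vanishingIdeal Tc
  have hred : IsReduced I.subscheme :=
    Groth.Agent.Lib.Helper11RedCl.isReduced_subscheme_vanishingIdeal Tc
  obtain ⟨z₀, hz₀⟩ : y ∈ Set.range I.subschemeι := by
    rw [hrange]; exact subset_closure rfl
  have hcl : closure ({z₀} : Set I.subscheme) = Set.univ := by
    rw [I.subschemeι.isEmbedding.closure_eq_preimage_closure_image, Set.image_singleton, hz₀,
      ← hrange]
    exact Set.preimage_range _
  have : IrreducibleSpace I.subscheme := by
    rw [irreducibleSpace_def, ← Set.top_eq_univ] at *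
    rw [← hcl]
    exact isIrreducible_singleton.closure
  exact isIntegral_of_irreducibleSpace_of_isReduced _

/-- general form: `f` a closed map (on points), surjective; `g ≫ i` finite is then automatic
when `f` is finite. -/
theorem exists_integral_over' {X Y Z : Scheme.{u}} (f : Y ⟶ X) [IsFinite f] [Surjective f]
    (i : Z ⟶ X) [IsClosedImmersion i] [IsIntegral Z] :
    ∃ (Z' : Scheme.{u}) (i' : Z' ⟶ Y) (g : Z' ⟶ Z), IsClosedImmersion i' ∧ IsIntegral Z' ∧
      IsFinite g ∧ Surjective g ∧ g ≫ i = i' ≫ f := by
  obtain ⟨y, hy⟩ := f.surjective (i (genericPoint Z))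
  set Tc : Closeds Y := ⟨closure {y}, isClosed_closure⟩
  set I := Scheme.IdealSheafData.vanishingIdeal Tc
  have hrange : Set.range I.subschemeι = closure {y} :=
    Groth.Agent.Lib.Helper11RedCl.range_subschemeι_vanishingIdeal Tc
  have hint : IsIntegral I.subscheme := isIntegral_subscheme_closure_singleton y
  -- `f (closure {y}) = range i`
  have hsub1 : f '' closure {y} ⊆ Set.range i := by
    refine (image_closure_subset_closure_image f.continuous).trans ?_
    rw [Set.image_singleton, hy]
    exact closure_minimal (Set.singleton_subset_iff.mpr ⟨_, rfl⟩)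
      i.isClosedEmbedding.isClosed_range
  have hsub2 : Set.range i ⊆ f '' closure {y} := by
    rintro _ ⟨z, rfl⟩
    have hz : z ∈ closure ({genericPoint Z} : Set Z) := by
      rw [(genericPoint_spec Z).def]; trivial
    have h1 : i z ∈ closure (i '' {genericPoint Z}) :=
      image_closure_subset_closure_image i.continuous (Set.mem_image_of_mem i hz)
    rw [Set.image_singleton, ← hy] at h1
    have hcl : IsClosed (f '' closure {y}) := f.isClosedMap _ isClosed_closure
    have hmem : f y ∈ f '' closure {y} := Set.mem_image_of_mem f (subset_closure rfl)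
    exact closure_minimal (Set.singleton_subset_iff.mpr hmem) hcl h1
  -- the lift
  have hker : i.ker ≤ (I.subschemeι ≫ f).ker := by
    rw [Groth.Agent.Lib.Helper11RedCl.ker_eq_of_isReduced i,
      Groth.Agent.Lib.Helper11RedCl.ker_eq_of_isReduced (I.subschemeι ≫ f)]
    apply Scheme.IdealSheafData.vanishingIdeal_antimono
    change closure (Set.range (I.subschemeι ≫ f)) ⊆ closure (Set.range i)
    apply closure_mono
    rintro _ ⟨z', rfl⟩
    apply hsub1
    rw [Scheme.Hom.comp_apply]
    refine ⟨I.subschemeι z', ?_, rfl⟩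
    rw [← hrange]
    exact ⟨z', rfl⟩
  let g : I.subscheme ⟶ Z := IsClosedImmersion.lift i (I.subschemeι ≫ f) hker
  have hg : g ≫ i = I.subschemeι ≫ f := IsClosedImmersion.lift_fac i _ hker
  have hfin : IsFinite g := by
    have : IsFinite (g ≫ i) := by rw [hg]; infer_instance
    exact IsFinite.of_comp g i
  refine ⟨I.subscheme, I.subschemeι, g, inferInstance, hint, hfin, ⟨fun z => ?_⟩, hg⟩
  obtain ⟨t, ht, hft⟩ := hsub2 ⟨z, rfl⟩
  rw [← hrange] at ht
  obtain ⟨z', rfl⟩ := ht
  refine ⟨z', i.isClosedEmbedding.injective ?_⟩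
  rw [← Scheme.Hom.comp_apply, hg, Scheme.Hom.comp_apply, hft]

/-- **[GEO]** in the shape of the package statement. -/
theorem exists_integral_over {X Y Z : Scheme.{u}} (f : Y ⟶ X) [IsFinite f] [Surjective f]
    [IsNoetherian Y] (i : Z ⟶ X) [IsClosedImmersion i] [IsIntegral Z] :
    ∃ (Z' : Scheme.{u}) (i' : Z' ⟶ Y) (g : Z' ⟶ Z), IsClosedImmersion i' ∧ IsIntegral Z' ∧
      IsFinite g ∧ Surjective g ∧ g ≫ i = i' ≫ f :=
  exists_integral_over' f i

end Groth.Agent.R2.H14.FinSurj
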