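import Groth.Prelude.Def_Dix
import Groth.Prelude.Def_EtBase
import Groth.Prelude.Def_EtGm
import Mathlib.CategoryTheory.Sites.EpiMono
import Mathlib.RingTheory.Etale.StandardEtale
import Mathlib.FieldTheory.IsAlgClosed.AlgebraicClosure
import Mathlib.RingTheory.Spectrum.Prime.RingHom
import Mathlib.RingTheory.LocalRing.ResidueField.Ideal
open CategoryTheory AlgebraicGeometry Opposite
universe u
open Polynomial

namespace Groth.Agent.R2.H14.Kummer

/-- The standard etale pair `(T^n - a, 1)` when `n` and `a` are units. -/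
noncomputable def kummerPair {B : Type u} [CommRing B] (n : ℕ) (hn : 0 < n) (a : B)
    (u : B) (hu : (n : B) * u = 1) (a' : B) (ha : a * a' = 1) : StandardEtalePair B where
  f := X ^ n - C a
  monic_f := monic_X_pow_sub_C a hn.ne'
  g := 1
  cond := by
    refine ⟨C (u * a') * X, - C ((n : B) * u * a'), 0, ?_⟩
    obtain ⟨m, rfl⟩ : ∃ m, n = m + 1 := ⟨n - 1, by omega⟩
    simp only [derivative_sub, derivative_X_pow, derivative_C, sub_zero, pow_zero,
      Nat.add_sub_cancel]
    have h1 : (C ((m + 1 : ℕ) : B) : B[X]) * C u = 1 := by rw [← C_mul, hu, C_1]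
    have h2 : (C a : B[X]) * C a' = 1 := by rw [← C_mul, ha, C_1]
    simp only [C_mul, map_natCast] at *
    push_cast at h1 ⊢
    linear_combination (((m : B[X]) + 1) * C u) * h2 + h1

theorem kummerPair_X_pow {B : Type u} [CommRing B] (n : ℕ) (hn : 0 < n) (a : B)
    (u : B) (hu : (n : B) * u = 1) (a' : B) (ha : a * a' = 1) :
    (kummerPair n hn a u hu a' ha).X ^ n = algebraMap B _ a := by
  have h := (kummerPair n hn a u hu a' ha).hasMap_X.1
  have h' : aeval (kummerPair n hn a u hu a' ha).X (X ^ n - C a : B[X]) = 0 := h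
  rw [map_sub, map_pow, aeval_X, aeval_C, sub_eq_zero] at h'
  exact h'

/-- Every prime of `B` lifts to the Kummer standard etale algebra. -/
theorem kummerPair_lift_prime {B : Type u} [CommRing B] (n : ℕ) (hn : 0 < n) (a : B)
    (u : B) (hu : (n : B) * u = 1) (a' : B) (ha : a * a' = 1) (p : PrimeSpectrum B) :
    ∃ q : PrimeSpectrum (kummerPair n hn a u hu a' ha).Ring,
      q.asIdeal.comap (algebraMap B _) = p.asIdeal := by
  let P := kummerPair n hn a u hu a' ha
  let κ := p.asIdeal.ResidueField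
  let Ω := AlgebraicClosure κ
  let _ : Algebra B Ω := ((algebraMap κ Ω).comp (algebraMap B κ)).toAlgebra
  -- root of T^n - a in Ω
  obtain ⟨t, ht⟩ := IsAlgClosed.exists_pow_nat_eq (algebraMap B Ω a) hn
  have hmap : P.HasMap t := by
    refine ⟨?_, ?_⟩
    · change aeval t (X ^ n - C a : B[X]) = 0
      rw [map_sub, map_pow, aeval_X, aeval_C, ht, sub_self]
    · change IsUnit (aeval t (1 : B[X]))
      simp
  let φ : P.Ring →ₐ[B] Ω := P.lift t hmap
  refine ⟨⟨RingHom.ker φ.toRingHom, RingHom.ker_isPrime _⟩, ?_⟩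
  ext x
  simp only [Ideal.mem_comap, RingHom.mem_ker]
  change φ (algebraMap B P.Ring x) = 0 ↔ _
  rw [φ.commutes]
  change (algebraMap κ Ω) (algebraMap B κ x) = 0 ↔ _
  rw [map_eq_zero_iff _ (algebraMap κ Ω).injective, Ideal.algebraMap_residueField_eq_zero]

end Groth.Agent.R2.H14.Kummer

namespace Groth.Agent.R2.H14.Kummer

theorem isUnit_of_forall_Γevaluation_ne_zero (Y : Scheme.{u}) (f : Γ(Y, ⊤))
    (h : ∀ y : Y, Y.Γevaluation y f ≠ 0) : IsUnit f := by
  apply Y.toRingedSpace.isUnit_of_isUnit_germ ⊤ f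
  intro y hy
  have := h y
  have h2 := (Scheme.evaluation_ne_zero_iff_mem_basicOpen (U := ⊤) Y y (by trivial) f).mp this
  exact (Y.toRingedSpace.mem_basicOpen f y hy).mp h2

theorem isUnit_natCast_of_invertibleOn {X Y : Scheme.{u}} (g : Y ⟶ X) (n : ℕ)
    (hX : Dix.InvertibleOn X n) : IsUnit (n : Γ(Y, ⊤)) := by
  apply isUnit_of_forall_Γevaluation_ne_zero
  intro y
  rw [map_natCast]
  have h1 := hX (g y)
  have h2 : (g.residueFieldMap y) (n : X.residueField (g y)) = (n : Y.residueField y) := map_natCast _ _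
  rw [← h2]
  exact (map_ne_zero_iff _ (g.residueFieldMap y).hom.injective).mpr h1

/-- Scheme-level Kummer covering: a unit on `Y` has an `n`-th root on an etale
neighbourhood of any given point, if `n` is invertible on `Y`. -/
theorem exists_etale_nhd_root (Y : Scheme.{u}) (n : ℕ) (hn : 0 < n) (hY : IsUnit (n : Γ(Y, ⊤)))
    (a : (Γ(Y, ⊤))ˣ) (x : Y) :
    ∃ (Z : Scheme.{u}) (h : Z ⟶ Y) (_ : Etale h) (z : Z) (b : (Γ(Z, ⊤))ˣ),
      h z = x ∧ b ^ n = Units.map h.appTop.hom.toMonoidHom a := by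
  obtain ⟨_, ⟨W, hW : IsAffineOpen W, rfl⟩, hxW, -⟩ :=
    (Y.isBasis_affineOpens).exists_subset_of_mem_open (Set.mem_univ x) isOpen_univ
  let B := Γ(Y, W)
  let res : Γ(Y, ⊤) ⟶ B := Y.presheaf.map (homOfLE le_top).op
  obtain ⟨u, hu⟩ := (hY.map res.hom).exists_right_inv
  rw [map_natCast] at hu
  have ha : res.hom (a : Γ(Y, ⊤)) * res.hom ((a⁻¹ : (Γ(Y, ⊤))ˣ) : Γ(Y, ⊤)) = 1 := by
    rw [← map_mul, Units.mul_inv, map_one]
  let P := kummerPair n hn (res.hom a) u hu _ ha
  let φ : B ⟶ CommRingCat.of P.Ring := CommRingCat.ofHom (algebraMap B P.Ring)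
  let Z := Spec (CommRingCat.of P.Ring)
  let h : Z ⟶ Y := Spec.map φ ≫ hW.fromSpec
  have hφ : Etale (Spec.map φ) := by
    rw [HasRingHomProperty.Spec_iff (P := @Etale)]
    exact RingHom.etale_algebraMap.mpr inferInstance
  have hh : Etale h := inferInstance
  -- the point
  obtain ⟨q, hq⟩ := kummerPair_lift_prime n hn (res.hom a) u hu _ ha (hW.primeIdealOf ⟨x, hxW⟩)
  have hz : h q = x := by
    have h1 : (Spec.map φ) q = hW.primeIdealOf ⟨x, hxW⟩ := PrimeSpectrum.ext hq
    change hW.fromSpec ((Spec.map φ) q) = x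
    rw [h1, hW.fromSpec_primeIdealOf]
  -- the unit
  have hXn : P.X ^ n = algebraMap B P.Ring (res.hom a) := kummerPair_X_pow n hn (res.hom a) u hu _ ha
  have hXu : IsUnit P.X := by
    have : IsUnit (P.X ^ n) := by
      rw [hXn]
      exact (a.isUnit.map res.hom).map (algebraMap B P.Ring)
    exact (isUnit_pow_iff hn.ne').mp this
  have happ : h.appTop = res ≫ φ ≫ (Scheme.ΓSpecIso (CommRingCat.of P.Ring)).inv := by
    rw [Scheme.ΓSpecIso_inv_naturality, Scheme.Hom.comp_appTop]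
    rw [← Category.assoc]
    congr 1
    rw [Scheme.Hom.appTop, hW.fromSpec_app_of_le ⊤ le_top]
    change _ ≫ _ ≫ (Spec Γ(Y, W)).presheaf.map (𝟙 _) = _
    rw [CategoryTheory.Functor.map_id, Category.comp_id]
  refine ⟨Z, h, hh, q, Units.map (Scheme.ΓSpecIso (CommRingCat.of P.Ring)).inv.hom.toMonoidHom hXu.unit, hz, ?_⟩
  ext
  rw [Units.val_pow_eq_pow_val]
  simp only [Units.coe_map, IsUnit.unit_spec, MonoidHom.coe_coe, RingHom.toMonoidHom_eq_coe]
  rw [← map_pow, hXn, happ]
  rfl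


theorem nsmul_id_app {C : Type*} [Category C] {J : GrothendieckTopology C}
    (F : Sheaf J AddCommGrpCat.{u}) (n : ℕ) (V : Cᵒᵖ) (t : F.obj.obj V) :
    (n • 𝟙 F : F ⟶ F).hom.app V t = n • t := by
  let G : Sheaf J AddCommGrpCat.{u} ⥤ AddCommGrpCat.{u} :=
    sheafToPresheaf J _ ⋙ (evaluation _ _).obj V
  have hG : G.Additive := inferInstance
  have : G.map (n • 𝟙 F) = n • 𝟙 (G.obj F) := by
    rw [Functor.map_nsmul, G.map_id]
  change (G.map (n • 𝟙 F)) t = _
  rw [this]
  rfl

theorem powMap_app (X : Scheme.{u}) (n : ℕ) (V : X.Etale) (t : (EtCoh.Gm X).obj.obj (op V)) :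
    (EtCoh.powMap X n).hom.app (op V) t = n • t := nsmul_id_app _ _ _ _

theorem powMap_isLocallySurjective (X : Scheme.{u}) (n : ℕ) (hn : 0 < n)
    (hX : Dix.InvertibleOn X n) : Sheaf.IsLocallySurjective (EtCoh.powMap X n) := by
  constructor
  intro U s
  have hnU : IsUnit (n : Γ(U.left, ⊤)) := isUnit_natCast_of_invertibleOn U.hom n hX
  have key : ∀ x : U.left, ∃ (V : X.Etale) (g : V ⟶ U) (z : V.left),
      g.left z = x ∧ Presheaf.imageSieve (EtCoh.powMap X n).hom s g := by
    intro x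
    obtain ⟨Z, h, hh, z, b, hz, hb⟩ :=
      exists_etale_nhd_root U.left n hn hnU (Additive.toMul s.down) x
    let V : X.Etale := Scheme.Etale.mk (h ≫ U.hom)
    let g : V ⟶ U := MorphismProperty.Over.homMk h rfl trivial
    refine ⟨V, g, z, hz, ?_⟩
    refine ⟨ULift.up (Additive.ofMul b), ?_⟩
    rw [powMap_app]
    change n • _ = ULift.up (Additive.ofMul (Units.map (h.appTop.hom.toMonoidHom)
      (Additive.toMul s.down)))
    rw [← hb]
    rfl
  choose V g z hz hg using key
  refine X.smallEtaleTopology.superset_covering ?_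
    ((Scheme.ofArrows_mem_smallEtaleTopology_iff g).mpr ?_)
  · rintro W f ⟨Y, h, g', ⟨x⟩, rfl⟩
    exact Sieve.downward_closed _ (hg x) h
  · ext x
    simp only [Set.mem_iUnion, Set.mem_range, Set.mem_univ, iff_true]
    exact ⟨x, z x, hz x⟩


theorem powMap_epi (X : Scheme.{u}) (n : ℕ) (hn : 0 < n)
    (hX : Dix.InvertibleOn X n) : Epi (EtCoh.powMap X n) := by
  have := powMap_isLocallySurjective X n hn hX
  exact Sheaf.epi_of_isLocallySurjective (EtCoh.powMap X n)

/-- The Kummer short complex `μ_n → G_m → G_m`. -/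
noncomputable def kummerSC (X : Scheme.{u}) (n : ℕ) : ShortComplex (EtCoh.Ab X) :=
  ShortComplex.mk (EtCoh.muι X n) (EtCoh.powMap X n) (by
    unfold EtCoh.muι
    exact Limits.kernel.condition _)

theorem kummerSC_shortExact (X : Scheme.{u}) (n : ℕ) (hn : 0 < n)
    (hX : Dix.InvertibleOn X n) : (kummerSC X n).ShortExact := by
  have : Mono (kummerSC X n).f := by
    change Mono (EtCoh.muι X n)
    unfold EtCoh.muι
    exact Limits.equalizer.ι_mono
  have : Epi (kummerSC X n).g := powMap_epi X n hn hX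
  refine ShortComplex.ShortExact.mk ?_
  exact ShortComplex.exact_of_f_is_kernel _ (Limits.kernelIsKernel _)


theorem H_map_nsmul_id (X : Scheme.{u}) (F : EtCoh.Ab X) (n i : ℕ) (ξ : Sheaf.H F i) :
    Sheaf.H.map (n • 𝟙 F) i ξ = n • ξ := by
  induction n with
  | zero => simp [Sheaf.H.map_apply]
  | succ k ih =>
    rw [succ_nsmul, Sheaf.H.map_add_apply, Sheaf.H.map_id_apply, succ_nsmul, ih]

theorem H_map_powMap (X : Scheme.{u}) (n i : ℕ) (ξ : Sheaf.H (EtCoh.Gm X) i) :
    Sheaf.H.map (EtCoh.powMap X n) i ξ = n • ξ :=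
  H_map_nsmul_id X _ n i ξ

end Groth.Agent.R2.H14.Kummer
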