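import Groth.Agent.R2.H14Kummer
open CategoryTheory AlgebraicGeometry Opposite
universe u

namespace Groth.Agent.R2.H14.Kummer

theorem mem_smallEtale_iff {X : Scheme.{u}} (U : X.Etale) (R : Sieve U) :
    R ∈ X.smallEtaleTopology U ↔
      ∀ x : U.left, ∃ (V : X.Etale) (f : V ⟶ U) (y : V.left), R f ∧ f.left y = x := by
  have eX : X.smallEtaleTopology =
      (X.smallPretopology (P := EtCoh.etaleMP) (Q := EtCoh.etaleMP)).toGrothendieck :=
    Scheme.smallGrothendieckTopology_eq_toGrothendieck_smallPretopology X le_rfl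
  constructor
  · intro h x
    rw [eX] at h
    replace h := (Scheme.mem_toGrothendieck_smallPretopology U R).1 h
    obtain ⟨V, f, y, hf, -, hy⟩ := h x
    exact ⟨V, f, y, hf, hy⟩
  · intro h
    rw [eX]
    refine (Scheme.mem_toGrothendieck_smallPretopology U R).2 ?_
    intro x
    obtain ⟨V, f, y, hf, hy⟩ := h x
    exact ⟨V, f, y, hf, inferInstance, hy⟩

theorem injective_app_of_mono {X : Scheme.{u}} {F G : EtCoh.Ab X} (f : F ⟶ G) [Mono f]
    (U : X.Etaleᵒᵖ) : Function.Injective (f.hom.app U) := by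
  have h1 : Mono f.hom := (Sheaf.Hom.mono_iff_presheaf_mono _ _ f).mp inferInstance
  have h2 : Mono (f.hom.app U) := inferInstance
  exact (AddCommGrpCat.mono_iff_injective _).mp h2

theorem mu_killed (X : Scheme.{u}) (N : ℕ) (U : X.Etale) (s : (EtCoh.mu X N).obj.obj (op U)) :
    N • s = 0 := by
  have hm : Mono (EtCoh.muι X N) := by
    unfold EtCoh.muι
    exact Limits.equalizer.ι_mono
  apply injective_app_of_mono (EtCoh.muι X N) (op U)
  rw [map_nsmul, map_zero, ← powMap_app]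
  have h0 : EtCoh.muι X N ≫ EtCoh.powMap X N = 0 := (kummerSC X N).zero
  have := congrArg (fun φ => (φ.hom.app (op U)) s) h0
  exact this

theorem isPrimaryTorsion_mu (X : Scheme.{u}) (ℓ k : ℕ) :
    Dix.IsPrimaryTorsion ℓ (EtCoh.mu X (ℓ ^ k)) := by
  intro U s x
  exact ⟨U, 𝟙 U, ⟨x, rfl⟩, k, by
    rw [op_id, CategoryTheory.Functor.map_id]
    exact mu_killed X (ℓ ^ k) U s⟩


theorem isPrimaryTorsion_coker (X : Scheme.{u}) (ℓ k : ℕ) :
    Dix.IsPrimaryTorsion ℓ (Limits.cokernel (EtCoh.powMap X (ℓ ^ k))) := by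
  intro U s x
  have hls : Sheaf.IsLocallySurjective (Limits.cokernel.π (EtCoh.powMap X (ℓ ^ k))) :=
    (Sheaf.isLocallySurjective_iff_epi' AddCommGrpCat.{u+1} _).mpr inferInstance
  have h1 := hls.imageSieve_mem s
  rw [mem_smallEtale_iff] at h1
  obtain ⟨V, f, y, ⟨t, ht⟩, hy⟩ := h1 x
  refine ⟨V, f, ⟨y, hy⟩, k, ?_⟩
  rw [← ht, ← map_nsmul, ← powMap_app]
  have h0 : EtCoh.powMap X (ℓ ^ k) ≫ Limits.cokernel.π (EtCoh.powMap X (ℓ ^ k)) = 0 :=
    Limits.cokernel.condition _
  have := congrArg (fun φ => (φ.hom.app (op V)) t) h0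
  exact this


/-- `μ_N → G_m → im(N)`. -/
noncomputable def kummerSC1 (X : Scheme.{u}) (N : ℕ) : ShortComplex (EtCoh.Ab X) :=
  ShortComplex.mk (EtCoh.muι X N) (Abelian.factorThruImage (EtCoh.powMap X N)) (by
    rw [← cancel_mono (Abelian.image.ι (EtCoh.powMap X N)), Category.assoc, Abelian.image.fac,
      Limits.zero_comp]
    exact (kummerSC X N).zero)

/-- `im(N) → G_m → coker(N)`. -/
noncomputable def kummerSC2 (X : Scheme.{u}) (N : ℕ) : ShortComplex (EtCoh.Ab X) :=
  ShortComplex.mk (Abelian.image.ι (EtCoh.powMap X N)) (Limits.cokernel.π (EtCoh.powMap X N))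
    (Limits.kernel.condition _)

theorem kummerSC_exact (X : Scheme.{u}) (N : ℕ) : (kummerSC X N).Exact :=
  ShortComplex.exact_of_f_is_kernel _ (Limits.kernelIsKernel _)

theorem kummerSC1_shortExact (X : Scheme.{u}) (N : ℕ) : (kummerSC1 X N).ShortExact := by
  have : Mono (kummerSC1 X N).f := by
    change Mono (EtCoh.muι X N)
    unfold EtCoh.muι
    exact Limits.equalizer.ι_mono
  have : Epi (kummerSC1 X N).g := by
    change Epi (Abelian.factorThruImage (EtCoh.powMap X N))
    infer_instance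
  refine ShortComplex.ShortExact.mk ?_
  let φ : kummerSC1 X N ⟶ kummerSC X N :=
    { τ₁ := 𝟙 _
      τ₂ := 𝟙 _
      τ₃ := Abelian.image.ι (EtCoh.powMap X N)
      comm₁₂ := by simp [kummerSC1, kummerSC]
      comm₂₃ := by simp [kummerSC1, kummerSC] }
  have h1 : Epi φ.τ₁ := by change Epi (𝟙 _); infer_instance
  have h2 : IsIso φ.τ₂ := by change IsIso (𝟙 _); infer_instance
  have h3 : Mono φ.τ₃ := by change Mono (Abelian.image.ι _); infer_instance
  exact (ShortComplex.exact_iff_of_epi_of_isIso_of_mono φ).mpr (kummerSC_exact X N)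

theorem kummerSC2_shortExact (X : Scheme.{u}) (N : ℕ) : (kummerSC2 X N).ShortExact := by
  have : Mono (kummerSC2 X N).f := by
    change Mono (Abelian.image.ι _)
    infer_instance
  have : Epi (kummerSC2 X N).g := by
    change Epi (Limits.cokernel.π _)
    infer_instance
  refine ShortComplex.ShortExact.mk ?_
  exact ShortComplex.exact_of_f_is_kernel _ (Limits.kernelIsKernel _)

theorem invertibleOn_pow {X : Scheme.{u}} {ℓ : ℕ} (h : Dix.InvertibleOn X ℓ) (k : ℕ) :
    Dix.InvertibleOn X (ℓ ^ k) := by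
  intro x
  rw [Nat.cast_pow]
  exact pow_ne_zero _ (h x)

end Groth.Agent.R2.H14.Kummer
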