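import Mathlib
import Groth.Prelude.Def_Coh
import Groth.Prelude.Def_CohB1

/-!
# PROJ:ample [SUPP] (helper14): the generic point lies in the support of `g_* O_{Z'}`
for `g : Z' ⟶ Z` dominant, `Z` integral (more generally: any point in the closure of the range).
-/

set_option autoImplicit false
universe u

open CategoryTheory CategoryTheory.Limits AlgebraicGeometry Opposite

namespace Groth.Agent.R2.H14.PushSupp

/-- sections of the structure sheaf over an open containing a point are a nontrivial ring. -/
lemma one_ne_zero_of_mem {X : Scheme.{u}} (W : X.Opens) (x : ↥X) (hx : x ∈ W) :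
    (1 : Γ(X, W)) ≠ 0 := by
  intro h
  have := congrArg (X.presheaf.germ W x hx).hom h
  rw [map_one, map_zero] at this
  exact one_ne_zero this

/-- every point of the closure of the range of `g` is in the support of `g_* O`. -/
theorem mem_support_push_of_mem_closure {Z' Z : Scheme.{u}} (g : Z' ⟶ Z) (z : ↥Z)
    (hz : z ∈ closure (Set.range g)) :
    z ∈ CohB1.support ((Coh.push g).obj (Coh.structureModule Z')) := by
  intro hsub
  set N := (Coh.push g).obj (Coh.structureModule Z') with hN
  let one : ↑(N.presheaf.obj (op ⊤)) := (1 : Γ(Z', g ⁻¹ᵁ ⊤))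
  let zero : ↑(N.presheaf.obj (op ⊤)) := (0 : Γ(Z', g ⁻¹ᵁ ⊤))
  have h1 : N.presheaf.germ ⊤ z trivial one = N.presheaf.germ ⊤ z trivial zero :=
    Subsingleton.elim _ _
  obtain ⟨W, hzW, i1, i2, h⟩ := N.presheaf.germ_eq (U := ⊤) (V := ⊤) z trivial trivial one zero h1
  have h' : (Z'.presheaf.map ((TopologicalSpace.Opens.map g.base).map i1).op).hom (1 : Γ(Z', g ⁻¹ᵁ ⊤)) =
      (Z'.presheaf.map ((TopologicalSpace.Opens.map g.base).map i2).op).hom (0 : Γ(Z', g ⁻¹ᵁ ⊤)) := h
  rw [map_one, map_zero] at h'
  obtain ⟨_, hyW, ⟨y, rfl⟩⟩ := mem_closure_iff.mp hz W.1 W.2 hzW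
  exact one_ne_zero_of_mem (g ⁻¹ᵁ W) y hyW h'

/-- **[SUPP]** for a dominant morphism to an integral scheme. -/
theorem genericPoint_mem_support_push {Z' Z : Scheme.{u}} (g : Z' ⟶ Z) [IsIntegral Z]
    [IsDominant g] :
    genericPoint Z ∈ CohB1.support ((Coh.push g).obj (Coh.structureModule Z')) :=
  mem_support_push_of_mem_closure g _ (by rw [g.denseRange.closure_range]; trivial)

/-- **[SUPP]** for a surjective morphism to an integral scheme. -/
theorem genericPoint_mem_support_push_of_surjective {Z' Z : Scheme.{u}} (g : Z' ⟶ Z)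
    [IsIntegral Z] [Surjective g] :
    genericPoint Z ∈ CohB1.support ((Coh.push g).obj (Coh.structureModule Z')) :=
  mem_support_push_of_mem_closure g _ (subset_closure (g.surjective _))

/-- for a surjective morphism, the support of `g_* O` is everything. -/
theorem support_push_of_surjective {Z' Z : Scheme.{u}} (g : Z' ⟶ Z) [Surjective g] :
    CohB1.support ((Coh.push g).obj (Coh.structureModule Z')) = Set.univ :=
  Set.eq_univ_of_forall fun z =>
    mem_support_push_of_mem_closure g z (subset_closure (g.surjective z))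

end Groth.Agent.R2.H14.PushSupp
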