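import Mathlib
import Groth.Agent.Lib.Helper12AffineDescent

/-!
# Affine quotients of affine relations and flat base change (helper37; package AD-Q of helper83)

`isPushout_of_flat_equalizer`: ring-level statement, flat base change commutes with equalizers.
`exists_affine_quotient`: the affine quotient `Spec (eq (Γ(U) ⇉ Γ(R)))` of an affine relation commutes
with flat base change whenever the base-changed relation is effective with affine quotient.
-/

set_option autoImplicit false
set_option linter.style.haveILetI false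
universe u

open CategoryTheory Limits AlgebraicGeometry

namespace Groth.Agent.R2.H37.AffQuot

section Ring

open CommRingCat

/-- **Flat base change commutes with equalizers** (categorical form in `CommRingCat`). -/
theorem isPushout_of_flat_equalizer
    {A A' B B' C C' D E : CommRingCat.{u}}
    (a : A ⟶ B) (σ τ : B ⟶ C) (c : A ⟶ A') (b : B ⟶ B') (a' : A' ⟶ B') (γ : C ⟶ C') (c' : A' ⟶ C')
    (σ' τ' : B' ⟶ C')
    (hc : c.hom.Flat)
    (hστ : a ≫ σ = a ≫ τ)
    (hB : IsPushout a c b a')
    (hC : IsPushout (a ≫ σ) c γ c')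
    (hσ : b ≫ σ' = σ ≫ γ) (hτ : b ≫ τ' = τ ≫ γ) (hσ' : a' ≫ σ' = c') (hτ' : a' ≫ τ' = c')
    (d : A ⟶ D) (ι : D ⟶ B) (hd : d ≫ ι = a) (hιinj : Function.Injective ι.hom)
    (hD : ∀ x : B, σ.hom x = τ.hom x ↔ x ∈ Set.range ι.hom)
    (ε : A' ⟶ E) (e : E ⟶ B') (hε : ε ≫ e = a') (heinj : Function.Injective e.hom)
    (hE : ∀ x : B', σ'.hom x = τ'.hom x ↔ x ∈ Set.range e.hom)
    (φ : D ⟶ E) (hφ : φ ≫ e = ι ≫ b) :
    IsPushout d c φ ε := by
  have hemono : Mono e := ConcreteCategory.mono_of_injective e heinj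
  have hw : d ≫ φ = c ≫ ε := by
    apply (cancel_mono e).mp
    rw [Category.assoc, hφ, ← Category.assoc, hd, hB.w, Category.assoc, hε]
  -- algebra structures
  letI iAA' : Algebra A A' := c.hom.toAlgebra
  letI iAB : Algebra A B := a.hom.toAlgebra
  letI iAC : Algebra A C := (a ≫ σ).hom.toAlgebra
  letI iAD : Algebra A D := d.hom.toAlgebra
  letI iA'B' : Algebra A' B' := a'.hom.toAlgebra
  letI iA'C' : Algebra A' C' := c'.hom.toAlgebra
  letI iA'E : Algebra A' E := ε.hom.toAlgebra
  letI iAB' : Algebra A B' := (c ≫ a').hom.toAlgebra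
  letI iAC' : Algebra A C' := (c ≫ c').hom.toAlgebra
  letI iAE : Algebra A E := (c ≫ ε).hom.toAlgebra
  letI iBB' : Algebra B B' := b.hom.toAlgebra
  letI iCC' : Algebra C C' := γ.hom.toAlgebra
  letI iDE : Algebra D E := φ.hom.toAlgebra
  haveI tAA'B' : IsScalarTower A A' B' := IsScalarTower.of_algebraMap_eq' rfl
  haveI tAA'C' : IsScalarTower A A' C' := IsScalarTower.of_algebraMap_eq' rfl
  haveI tAA'E : IsScalarTower A A' E := IsScalarTower.of_algebraMap_eq' rfl
  haveI tABB' : IsScalarTower A B B' := IsScalarTower.of_algebraMap_eq' (by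
    change (c ≫ a').hom = (a ≫ b).hom
    rw [hB.w])
  haveI tACC' : IsScalarTower A C C' := IsScalarTower.of_algebraMap_eq' (by
    change (c ≫ c').hom = ((a ≫ σ) ≫ γ).hom
    rw [hC.w])
  haveI tADE : IsScalarTower A D E := IsScalarTower.of_algebraMap_eq' (by
    change (c ≫ ε).hom = (d ≫ φ).hom
    rw [hw])
  haveI : Module.Flat A A' := hc
  -- the pushouts as base changes
  have pB : Algebra.IsPushout A A' B B' := by
    have : Algebra.IsPushout A B A' B' := CommRingCat.isPushout_iff_isPushout.mp hB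
    exact this.symm
  have pC : Algebra.IsPushout A A' C C' := by
    have : Algebra.IsPushout A C A' C' := CommRingCat.isPushout_iff_isPushout.mp hC
    exact this.symm
  -- the linear maps
  let ιL : D →ₗ[A] B :=
    { toFun := ι.hom
      map_add' := map_add _
      map_smul' := fun x y => by
        change ι.hom (d.hom x * y) = a.hom x * ι.hom y
        rw [map_mul, ← hd]
        rfl }
  let gL : B →ₗ[A] C :=
    { toFun := fun y => σ.hom y - τ.hom y
      map_add' := fun y z => by rw [map_add, map_add]; ring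
      map_smul' := fun x y => by
        change σ.hom (a.hom x * y) - τ.hom (a.hom x * y) =
          (a ≫ σ).hom x * (σ.hom y - τ.hom y)
        have h1 : τ.hom (a.hom x) = (a ≫ σ).hom x := by
          rw [hστ]
          rfl
        have h2 : σ.hom (a.hom x) = (a ≫ σ).hom x := rfl
        rw [map_mul, map_mul, h1, h2]
        ring }
  let eL : E →ₗ[A'] B' :=
    { toFun := e.hom
      map_add' := map_add _
      map_smul' := fun x y => by
        change e.hom (ε.hom x * y) = a'.hom x * e.hom y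
        rw [map_mul, ← hε]
        rfl }
  let gL' : B' →ₗ[A'] C' :=
    { toFun := fun y => σ'.hom y - τ'.hom y
      map_add' := fun y z => by rw [map_add, map_add]; ring
      map_smul' := fun x y => by
        change σ'.hom (a'.hom x * y) - τ'.hom (a'.hom x * y) =
          c'.hom x * (σ'.hom y - τ'.hom y)
        have h1 : τ'.hom (a'.hom x) = c'.hom x := by
          rw [← hτ']
          rfl
        have h2 : σ'.hom (a'.hom x) = c'.hom x := by
          rw [← hσ']
          rfl
        rw [map_mul, map_mul, h1, h2]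
        ring }
  let φL : D →ₗ[A] E := (IsScalarTower.toAlgHom A D E).toLinearMap
  let bL : B →ₗ[A] B' := (IsScalarTower.toAlgHom A B B').toLinearMap
  let γL : C →ₗ[A] C' := (IsScalarTower.toAlgHom A C C').toLinearMap
  have comm₁ : bL.comp ιL = (eL.restrictScalars A).comp φL := by
    ext y
    change b.hom (ι.hom y) = e.hom (φ.hom y)
    change (ι ≫ b).hom y = (φ ≫ e).hom y
    rw [hφ]
  have comm₂ : γL.comp gL = (gL'.restrictScalars A).comp bL := by
    ext y
    change γ.hom (σ.hom y - τ.hom y) = σ'.hom (b.hom y) - τ'.hom (b.hom y)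
    have h1 : σ'.hom (b.hom y) = γ.hom (σ.hom y) := by
      change (b ≫ σ').hom y = (σ ≫ γ).hom y
      rw [hσ]
    have h2 : τ'.hom (b.hom y) = γ.hom (τ.hom y) := by
      change (b ≫ τ').hom y = (τ ≫ γ).hom y
      rw [hτ]
    rw [h1, h2, map_sub]
  have exact₁ : Function.Exact ιL gL := by
    intro y
    change σ.hom y - τ.hom y = 0 ↔ y ∈ Set.range ι.hom
    rw [sub_eq_zero]
    exact hD y
  have exact₂ : Function.Exact eL gL' := by
    intro y
    change σ'.hom y - τ'.hom y = 0 ↔ y ∈ Set.range e.hom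
    rw [sub_eq_zero]
    exact hE y
  have isb : IsBaseChange A' φL :=
    IsBaseChange.of_left_exact A' φL bL γL comm₁ comm₂ pB.out pC.out exact₁ hιinj exact₂ heinj
  have pD : Algebra.IsPushout A A' D E := ⟨isb⟩
  exact CommRingCat.isPushout_iff_isPushout.mpr pD.symm

/-- **Amitsur**: a faithfully flat ring map is the equalizer of its cokernel pair (elementwise). -/
theorem eq_iff_mem_range_of_faithfullyFlat {E B' C' : CommRingCat.{u}} (e : E ⟶ B')
    (σ' τ' : B' ⟶ C') (hp : IsPushout e e σ' τ') (hff : e.hom.FaithfullyFlat) (x : B') :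
    σ'.hom x = τ'.hom x ↔ x ∈ Set.range e.hom := by
  constructor
  · intro hx
    have h1 := isLimitForkPushoutSelfOfFaithfullyFlat e hff
    have h2 := equalizerForkIsLimit (pushout.inl e e) (pushout.inr e e)
    have hinl : (pushout.inl e e).hom x = (pushout.inr e e).hom x := by
      have e1 : pushout.inl e e = σ' ≫ hp.isoPushout.hom := (hp.inl_isoPushout_hom).symm
      have e2 : pushout.inr e e = τ' ≫ hp.isoPushout.hom := (hp.inr_isoPushout_hom).symm
      rw [e1, e2]
      change hp.isoPushout.hom.hom (σ'.hom x) = hp.isoPushout.hom.hom (τ'.hom x)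
      rw [hx]
    let x' : (equalizerFork (pushout.inl e e) (pushout.inr e e)).pt := ⟨x, hinl⟩
    have hcomp := IsLimit.conePointUniqueUpToIso_hom_comp h2 h1 WalkingParallelPair.zero
    refine ⟨(h2.conePointUniqueUpToIso h1).hom.hom x', ?_⟩
    have := congrArg (fun k => k.hom x') hcomp
    exact this
  · rintro ⟨y, rfl⟩
    change (e ≫ σ').hom y = (e ≫ τ').hom y
    rw [hp.w]

end Ring

section Scheme

open Groth.Agent.Lib.Helper12

lemma spec_naturality_inv {X Y : Scheme.{u}} [IsAffine X] [IsAffine Y] (f : X ⟶ Y) :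
    Spec.map f.appTop ≫ inv Y.toSpecΓ = inv X.toSpecΓ ≫ f := by
  rw [IsIso.comp_inv_eq, Category.assoc, Scheme.toSpecΓ_naturality, IsIso.inv_hom_id_assoc]

/-- **Package AD-Q**: the affine quotient `Spec (eq (Γ(U) ⇉ Γ(R)))` of an affine relation commutes
with flat base change whenever the base-changed relation is effective with affine quotient. -/
theorem exists_affine_quotient {Z U R : Scheme.{u}} [IsAffine Z] [IsAffine U] [IsAffine R]
    (ν : U ⟶ Z) (s t : R ⟶ U) (hst : s ≫ ν = t ≫ ν) :
    ∃ (Q : Scheme.{u}) (_ : IsAffine Q) (ρ : U ⟶ Q) (σ : Q ⟶ Z), ρ ≫ σ = ν ∧ s ≫ ρ = t ≫ ρ ∧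
      ∀ (W V U' R' : Scheme.{u}) (_ : IsAffine W) (_ : IsAffine V) (c : W ⟶ Z) (_ : Flat c)
        (β : V ⟶ W)
        (uU : U' ⟶ U) (uW : U' ⟶ W) (_ : IsPullback uU uW ν c)
        (rR : R' ⟶ R) (rW : R' ⟶ W) (_ : IsPullback rR rW (s ≫ ν) c)
        (s' t' : R' ⟶ U') (_ : s' ≫ uU = rR ≫ s) (_ : t' ≫ uU = rR ≫ t) (_ : s' ≫ uW = rW)
        (_ : t' ≫ uW = rW)
        (q : U' ⟶ V) (_ : Flat q) (_ : Surjective q) (_ : q ≫ β = uW) (_ : IsPullback s' t' q q),
        ∃ θ : V ⟶ Q, q ≫ θ = uU ≫ ρ ∧ IsPullback θ β σ c := by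
  let Dsub : Subring Γ(U, ⊤) := RingHom.eqLocus s.appTop.hom t.appTop.hom
  let D : CommRingCat.{u} := CommRingCat.of Dsub
  let ι : D ⟶ Γ(U, ⊤) := CommRingCat.ofHom Dsub.subtype
  have hstΓ : ν.appTop ≫ s.appTop = ν.appTop ≫ t.appTop := by
    rw [← Scheme.Hom.comp_appTop, ← Scheme.Hom.comp_appTop, hst]
  have hmem : ∀ x : Γ(Z, ⊤), ν.appTop.hom x ∈ Dsub := by
    intro x
    exact congrArg (fun k => k.hom x) hstΓ
  let d : Γ(Z, ⊤) ⟶ D := CommRingCat.ofHom (ν.appTop.hom.codRestrict Dsub hmem)
  have hd : d ≫ ι = ν.appTop := by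
    ext x
    rfl
  have hι : ι ≫ s.appTop = ι ≫ t.appTop := by
    ext ⟨x, hx⟩
    exact hx
  have hιinj : Function.Injective ι.hom := Subtype.val_injective
  have hD : ∀ x : Γ(U, ⊤), s.appTop.hom x = t.appTop.hom x ↔ x ∈ Set.range ι.hom := by
    intro x
    constructor
    · intro hx
      exact ⟨⟨x, hx⟩, rfl⟩
    · rintro ⟨⟨y, hy⟩, rfl⟩
      exact hy
  refine ⟨Spec D, inferInstance, U.toSpecΓ ≫ Spec.map ι, Spec.map d ≫ inv Z.toSpecΓ, ?_, ?_, ?_⟩
  · rw [Category.assoc, ← Category.assoc (Spec.map ι), ← Spec.map_comp, hd, spec_naturality_inv,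
      IsIso.hom_inv_id_assoc]
  · rw [← Category.assoc, ← Category.assoc, Scheme.toSpecΓ_naturality, Scheme.toSpecΓ_naturality,
      Category.assoc, Category.assoc, ← Spec.map_comp, ← Spec.map_comp, hι]
  · intro W V U' R' hW hV c hc β uU uW hU' rR rW hR' s' t' hs' ht' hsW htW q hq hqs hqβ hker
    haveI : IsAffine U' := IsAffine.of_isIso hU'.isoPullback.hom
    haveI : IsAffine R' := IsAffine.of_isIso hR'.isoPullback.hom
    have pB : IsPushout ν.appTop c.appTop uU.appTop uW.appTop := isPushout_appTop hU'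
    have pC : IsPushout (ν.appTop ≫ s.appTop) c.appTop rR.appTop rW.appTop := by
      rw [← Scheme.Hom.comp_appTop]
      exact isPushout_appTop hR'
    have pK : IsPushout q.appTop q.appTop s'.appTop t'.appTop := isPushout_appTop hker
    have hff : q.appTop.hom.FaithfullyFlat :=
      (Flat.flat_and_surjective_iff_faithfullyFlat_of_isAffine (f := q)).mp ⟨hq, hqs⟩
    have hflat : c.appTop.hom.Flat := Scheme.Hom.flat_appTop c
    have hE := eq_iff_mem_range_of_faithfullyFlat q.appTop s'.appTop t'.appTop pK hff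
    have heinj : Function.Injective q.appTop.hom := hff.injective
    have hσ : uU.appTop ≫ s'.appTop = s.appTop ≫ rR.appTop := by
      rw [← Scheme.Hom.comp_appTop, ← Scheme.Hom.comp_appTop, hs']
    have hτ : uU.appTop ≫ t'.appTop = t.appTop ≫ rR.appTop := by
      rw [← Scheme.Hom.comp_appTop, ← Scheme.Hom.comp_appTop, ht']
    have hσ' : uW.appTop ≫ s'.appTop = rW.appTop := by
      rw [← Scheme.Hom.comp_appTop, hsW]
    have hτ' : uW.appTop ≫ t'.appTop = rW.appTop := by
      rw [← Scheme.Hom.comp_appTop, htW]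
    have hε : β.appTop ≫ q.appTop = uW.appTop := by
      rw [← Scheme.Hom.comp_appTop, hqβ]
    -- the map `D → Γ(V)`
    let Esub : Subring Γ(U', ⊤) := RingHom.eqLocus s'.appTop.hom t'.appTop.hom
    let eqv : Γ(V, ⊤) ≃+* Esub := RingEquiv.ofBijective
      (q.appTop.hom.codRestrict Esub (fun y => (hE _).mpr ⟨y, rfl⟩))
      ⟨fun y z hyz => heinj (congrArg Subtype.val hyz), fun ⟨x, hx⟩ => by
        obtain ⟨y, hy⟩ := (hE x).mp hx
        exact ⟨y, Subtype.ext hy⟩⟩
    have hmemE : ∀ x : D, (uU.appTop.hom.comp ι.hom) x ∈ Esub := by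
      intro x
      change s'.appTop.hom (uU.appTop.hom (ι.hom x)) = t'.appTop.hom (uU.appTop.hom (ι.hom x))
      have h1 : s'.appTop.hom (uU.appTop.hom (ι.hom x)) = rR.appTop.hom (s.appTop.hom (ι.hom x)) :=
        congrArg (fun k => k.hom (ι.hom x)) hσ
      have h2 : t'.appTop.hom (uU.appTop.hom (ι.hom x)) = rR.appTop.hom (t.appTop.hom (ι.hom x)) :=
        congrArg (fun k => k.hom (ι.hom x)) hτ
      have h3 : s.appTop.hom (ι.hom x) = t.appTop.hom (ι.hom x) :=
        congrArg (fun k => k.hom x) hι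
      rw [h1, h2, h3]
    let φ : D ⟶ Γ(V, ⊤) := CommRingCat.ofHom
      (eqv.symm.toRingHom.comp ((uU.appTop.hom.comp ι.hom).codRestrict Esub hmemE))
    have hφ : φ ≫ q.appTop = ι ≫ uU.appTop := by
      ext x
      change q.appTop.hom (eqv.symm ⟨uU.appTop.hom (ι.hom x), hmemE x⟩) = uU.appTop.hom (ι.hom x)
      have := eqv.apply_symm_apply ⟨uU.appTop.hom (ι.hom x), hmemE x⟩
      exact congrArg Subtype.val this
    have po : IsPushout d c.appTop φ β.appTop :=
      isPushout_of_flat_equalizer ν.appTop s.appTop t.appTop c.appTop uU.appTop uW.appTop rR.appTop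
        rW.appTop s'.appTop t'.appTop hflat hstΓ pB pC hσ hτ hσ' hτ' d ι hd hιinj hD β.appTop
        q.appTop hε heinj hE φ hφ
    refine ⟨V.toSpecΓ ≫ Spec.map φ, ?_, ?_⟩
    · rw [← Category.assoc, Scheme.toSpecΓ_naturality, Category.assoc, ← Spec.map_comp, hφ,
        Spec.map_comp, ← Category.assoc, ← Scheme.toSpecΓ_naturality, Category.assoc]
    · have bottom : IsPullback (Spec.map φ) (Spec.map β.appTop) (Spec.map d) (Spec.map c.appTop) :=
        (po.op.map Scheme.Spec).flip
      exact IsPullback.of_iso bottom (asIso V.toSpecΓ).symm (Iso.refl _) (asIso W.toSpecΓ).symm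
        (asIso Z.toSpecΓ).symm (by simp) (by simpa using spec_naturality_inv β) (by simp)
        (by simpa using spec_naturality_inv c)

end Scheme

end Groth.Agent.R2.H37.AffQuot
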