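import Mathlib
import Groth.Agent.R2.H37AffQuot
import Groth.Prelude.Def_Desc

/-!
# Effective fpqc descent of affine schemes: the affine core (helper37, PROJ:fpqc-desc)

`effective_of_affine`: for a flat surjective morphism `p : X ⟶ S` of affine schemes, every descent
datum relative to `p` whose underlying scheme is affine is effective (and the descended scheme is
affine).  The descended scheme is the affine quotient `Spec (eq (Γ(V) ⇉ Γ(V ×_S X)))` of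
`R2/H37AffQuot.exists_affine_quotient`.

General part (no affineness): the descent datum as an operation `Φ` on points, the relation
`Rel = V ×_S X ⇉ V` (`s`, `t`), `isPullback_t` (`t` is a base change of `p`), `isPullback_ker`
(the base-changed relation is the kernel pair of `t`).
-/

set_option autoImplicit false
set_option linter.style.haveILetI false
universe u

open CategoryTheory Limits AlgebraicGeometry

namespace Groth.Agent.R2.H37.DescAff

open Desc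

/-- a commutative square is a pullback square if it has the universal property on points. -/
lemma isPullback_of_points {C : Type*} [Category C] {P X Y Z : C} (fst : P ⟶ X) (snd : P ⟶ Y)
    (f : X ⟶ Z) (g : Y ⟶ Z) (w : fst ≫ f = snd ≫ g)
    (lift : ∀ {T : C} (a : T ⟶ X) (b : T ⟶ Y), a ≫ f = b ≫ g → (T ⟶ P))
    (h1 : ∀ {T : C} (a : T ⟶ X) (b : T ⟶ Y) (h : a ≫ f = b ≫ g), lift a b h ≫ fst = a)
    (h2 : ∀ {T : C} (a : T ⟶ X) (b : T ⟶ Y) (h : a ≫ f = b ≫ g), lift a b h ≫ snd = b)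
    (huniq : ∀ {T : C} (m m' : T ⟶ P), m ≫ fst = m' ≫ fst → m ≫ snd = m' ≫ snd → m = m') :
    IsPullback fst snd f g := by
  refine IsPullback.of_isLimit' ⟨w⟩ ?_
  refine PullbackCone.IsLimit.mk w (fun s => lift s.fst s.snd s.condition)
    (fun s => h1 _ _ _) (fun s => h2 _ _ _) ?_
  intro s m hm1 hm2
  exact huniq _ _ (hm1.trans (h1 _ _ _).symm) (hm2.trans (h2 _ _ _).symm)

section Points

variable {X S : Scheme.{u}} {p : X ⟶ S} (D : SchDD p)

/-- the descent datum as an operation on points: transport of the point `v` (lying over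
`v ≫ D.obj.hom`) to a point over `x₁`. -/
noncomputable def Φ {T : Scheme.{u}} (v : T ⟶ D.obj.left) (x₁ : T ⟶ X)
    (h : (v ≫ D.obj.hom) ≫ p = x₁ ≫ p) : T ⟶ D.obj.left :=
  (D.φ (v ≫ D.obj.hom) x₁ h ⟨v, rfl⟩).1

lemma Φ_hom {T : Scheme.{u}} (v : T ⟶ D.obj.left) (x₁ : T ⟶ X)
    (h : (v ≫ D.obj.hom) ≫ p = x₁ ≫ p) : Φ D v x₁ h ≫ D.obj.hom = x₁ :=
  (D.φ (v ≫ D.obj.hom) x₁ h ⟨v, rfl⟩).2

lemma Φ_congr {T : Scheme.{u}} {v v' : T ⟶ D.obj.left} {x₁ x₁' : T ⟶ X} (ev : v = v')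
    (ex : x₁ = x₁') (h : (v ≫ D.obj.hom) ≫ p = x₁ ≫ p) :
    Φ D v x₁ h = Φ D v' x₁' (by subst ev; subst ex; exact h) := by
  subst ev
  subst ex
  rfl

/-- the value of `φ` at a general point in terms of `Φ`. -/
lemma φ_val {T : Scheme.{u}} (x₀ x₁ : T ⟶ X) (h : x₀ ≫ p = x₁ ≫ p) (v : Lifts D.obj x₀) :
    (D.φ x₀ x₁ h v).1 = Φ D v.1 x₁ (by rw [v.2]; exact h) := by
  obtain ⟨v, hv⟩ := v
  subst hv
  rfl

lemma Φ_nat {T T' : Scheme.{u}} (g : T' ⟶ T) (v : T ⟶ D.obj.left) (x₁ : T ⟶ X)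
    (h : (v ≫ D.obj.hom) ≫ p = x₁ ≫ p) :
    g ≫ Φ D v x₁ h = Φ D (g ≫ v) (g ≫ x₁) (by
      simp only [Category.assoc] at h ⊢; rw [h]) := by
  have h'' : (g ≫ v ≫ D.obj.hom) ≫ p = (g ≫ x₁) ≫ p := by
    simp only [Category.assoc] at h ⊢; rw [h]
  have key := D.φ_natural g (v ≫ D.obj.hom) x₁ h h'' ⟨v, rfl⟩
    ⟨g ≫ v, Category.assoc _ _ _⟩ rfl
  rw [φ_val] at key
  exact key.symm

lemma Φ_self {T : Scheme.{u}} (v : T ⟶ D.obj.left)
    (h : (v ≫ D.obj.hom) ≫ p = (v ≫ D.obj.hom) ≫ p) :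
    Φ D v (v ≫ D.obj.hom) h = v :=
  congrArg Subtype.val (D.φ_self (v ≫ D.obj.hom) ⟨v, rfl⟩)

lemma Φ_Φ {T : Scheme.{u}} (v : T ⟶ D.obj.left) (x₁ x₂ : T ⟶ X)
    (h₁ : (v ≫ D.obj.hom) ≫ p = x₁ ≫ p) (h₂ : (Φ D v x₁ h₁ ≫ D.obj.hom) ≫ p = x₂ ≫ p) :
    Φ D (Φ D v x₁ h₁) x₂ h₂ = Φ D v x₂ (by rw [h₁, ← Φ_hom D v x₁ h₁]; exact h₂) := by
  have hx : x₁ ≫ p = x₂ ≫ p := by rw [← Φ_hom D v x₁ h₁]; exact h₂
  have key := congrArg Subtype.val (D.φ_comp (v ≫ D.obj.hom) x₁ x₂ h₁ hx ⟨v, rfl⟩)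
  rw [φ_val] at key
  exact key

/-- `Φ` with the same target point is injective. -/
lemma Φ_injective {T : Scheme.{u}} (v v' : T ⟶ D.obj.left) (x₁ : T ⟶ X)
    (h : (v ≫ D.obj.hom) ≫ p = x₁ ≫ p) (h' : (v' ≫ D.obj.hom) ≫ p = x₁ ≫ p)
    (hπ : v ≫ D.obj.hom = v' ≫ D.obj.hom) (e : Φ D v x₁ h = Φ D v' x₁ h') : v = v' := by
  have h2 : (Φ D v x₁ h ≫ D.obj.hom) ≫ p = (v ≫ D.obj.hom) ≫ p := by rw [Φ_hom]; exact h.symm
  have e1 : Φ D (Φ D v x₁ h) (v ≫ D.obj.hom) h2 = v := by rw [Φ_Φ, Φ_self]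
  have h2' : (Φ D v' x₁ h' ≫ D.obj.hom) ≫ p = (v' ≫ D.obj.hom) ≫ p := by
    rw [Φ_hom]; exact h'.symm
  have e2 : Φ D (Φ D v' x₁ h') (v' ≫ D.obj.hom) h2' = v' := by rw [Φ_Φ, Φ_self]
  rw [← e1, ← e2]
  exact Φ_congr D e hπ _

end Points

section Rel

variable {X S : Scheme.{u}} (p : X ⟶ S) (D : SchDD p)

/-- the structure map of the underlying scheme of a descent datum to `S`. -/
noncomputable def ν : D.obj.left ⟶ S := D.obj.hom ≫ p

/-- the relation `V ×_S X`. -/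
noncomputable abbrev Rel : Scheme.{u} := pullback (ν p D) p

/-- first projection of the relation. -/
noncomputable def s : Rel p D ⟶ D.obj.left := pullback.fst (ν p D) p

/-- the `X`-coordinate of the relation. -/
noncomputable def pr₂ : Rel p D ⟶ X := pullback.snd (ν p D) p

lemma comp_ν {T : Scheme.{u}} (g : T ⟶ D.obj.left) : g ≫ ν p D = (g ≫ D.obj.hom) ≫ p :=
  (Category.assoc _ _ _).symm

lemma cond : s p D ≫ ν p D = pr₂ p D ≫ p := pullback.condition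

lemma hR : (s p D ≫ D.obj.hom) ≫ p = pr₂ p D ≫ p := (comp_ν p D _).symm.trans (cond p D)

/-- second projection of the relation: transport along the descent datum. -/
noncomputable def t : Rel p D ⟶ D.obj.left := Φ D (s p D) (pr₂ p D) (hR p D)

lemma t_hom : t p D ≫ D.obj.hom = pr₂ p D := Φ_hom D _ _ _

lemma s_ν : s p D ≫ ν p D = t p D ≫ ν p D := by
  rw [comp_ν p D (t p D), t_hom, cond]

/-- a point of the relation. -/
noncomputable def mk {T : Scheme.{u}} (v : T ⟶ D.obj.left) (x₁ : T ⟶ X)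
    (h : (v ≫ D.obj.hom) ≫ p = x₁ ≫ p) : T ⟶ Rel p D :=
  pullback.lift v x₁ ((comp_ν p D v).trans h)

@[simp] lemma mk_s {T : Scheme.{u}} (v : T ⟶ D.obj.left) (x₁ : T ⟶ X)
    (h : (v ≫ D.obj.hom) ≫ p = x₁ ≫ p) : mk p D v x₁ h ≫ s p D = v := pullback.lift_fst _ _ _

@[simp] lemma mk_pr₂ {T : Scheme.{u}} (v : T ⟶ D.obj.left) (x₁ : T ⟶ X)
    (h : (v ≫ D.obj.hom) ≫ p = x₁ ≫ p) : mk p D v x₁ h ≫ pr₂ p D = x₁ := pullback.lift_snd _ _ _

lemma pt_h {T : Scheme.{u}} (g : T ⟶ Rel p D) :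
    ((g ≫ s p D) ≫ D.obj.hom) ≫ p = (g ≫ pr₂ p D) ≫ p := by
  rw [Category.assoc, Category.assoc, Category.assoc, ← Category.assoc (s p D), hR]

lemma comp_t {T : Scheme.{u}} (g : T ⟶ Rel p D) :
    g ≫ t p D = Φ D (g ≫ s p D) (g ≫ pr₂ p D) (pt_h p D g) :=
  Φ_nat D g _ _ _

lemma mk_t {T : Scheme.{u}} (v : T ⟶ D.obj.left) (x₁ : T ⟶ X)
    (h : (v ≫ D.obj.hom) ≫ p = x₁ ≫ p) : mk p D v x₁ h ≫ t p D = Φ D v x₁ h := by
  rw [comp_t]
  exact Φ_congr D (mk_s p D v x₁ h) (mk_pr₂ p D v x₁ h) _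

lemma rel_ext {T : Scheme.{u}} (g g' : T ⟶ Rel p D) (h1 : g ≫ s p D = g' ≫ s p D)
    (h2 : g ≫ pr₂ p D = g' ≫ pr₂ p D) : g = g' :=
  pullback.hom_ext h1 h2

/-- `t` is a base change of `p`. -/
theorem isPullback_t : IsPullback (s p D ≫ D.obj.hom) (t p D) p (ν p D) := by
  have hw : (s p D ≫ D.obj.hom) ≫ p = t p D ≫ ν p D := by
    rw [hR, comp_ν, t_hom]
  have hab' : ∀ {T : Scheme.{u}} (a : T ⟶ X) (b : T ⟶ D.obj.left), a ≫ p = b ≫ ν p D →
      (b ≫ D.obj.hom) ≫ p = a ≫ p := fun a b hab => by rw [hab, comp_ν]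
  refine isPullback_of_points _ _ _ _ hw
    (fun {T} a b hab => mk p D (Φ D b a (hab' a b hab)) (b ≫ D.obj.hom) (by
      rw [Φ_hom]; exact (hab' a b hab).symm)) ?_ ?_ ?_
  · intro T a b hab
    rw [← Category.assoc, mk_s, Φ_hom]
  · intro T a b hab
    rw [mk_t, Φ_Φ, Φ_self]
  · intro T m m' h1 h2
    have hp2 : m ≫ pr₂ p D = m' ≫ pr₂ p D := by
      rw [← t_hom, ← Category.assoc, ← Category.assoc, h2]
    refine rel_ext p D m m' ?_ hp2
    have h1' : (m ≫ s p D) ≫ D.obj.hom = (m' ≫ s p D) ≫ D.obj.hom := by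
      rw [Category.assoc, Category.assoc]; exact h1
    refine Φ_injective D _ _ (m ≫ pr₂ p D) (pt_h p D m) (by rw [hp2]; exact pt_h p D m') h1' ?_
    rw [← comp_t, h2, comp_t]
    exact Φ_congr D rfl hp2.symm _

/-- the base-changed relation `Rel ×_S X`. -/
noncomputable abbrev Rel' : Scheme.{u} := pullback (s p D ≫ ν p D) p

/-- projection to the relation. -/
noncomputable def rR : Rel' p D ⟶ Rel p D := pullback.fst (s p D ≫ ν p D) p

/-- the new `X`-coordinate. -/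
noncomputable def rW : Rel' p D ⟶ X := pullback.snd (s p D ≫ ν p D) p

lemma cond' : rR p D ≫ s p D ≫ ν p D = rW p D ≫ p := pullback.condition

lemma hs'_aux : ((rR p D ≫ s p D) ≫ D.obj.hom) ≫ p = rW p D ≫ p := by
  rw [← comp_ν, Category.assoc, cond']

lemma ht'_aux : ((rR p D ≫ t p D) ≫ D.obj.hom) ≫ p = rW p D ≫ p := by
  rw [← comp_ν, Category.assoc, ← s_ν, cond']

/-- `(v, x₁, x₂) ↦ (v, x₂)`. -/
noncomputable def s' : Rel' p D ⟶ Rel p D := mk p D (rR p D ≫ s p D) (rW p D) (hs'_aux p D)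

/-- `(v, x₁, x₂) ↦ (Φ(v, x₁), x₂)`. -/
noncomputable def t' : Rel' p D ⟶ Rel p D := mk p D (rR p D ≫ t p D) (rW p D) (ht'_aux p D)

lemma s'_s : s' p D ≫ s p D = rR p D ≫ s p D := mk_s _ _ _ _ _
lemma s'_pr₂ : s' p D ≫ pr₂ p D = rW p D := mk_pr₂ _ _ _ _ _
lemma t'_s : t' p D ≫ s p D = rR p D ≫ t p D := mk_s _ _ _ _ _
lemma t'_pr₂ : t' p D ≫ pr₂ p D = rW p D := mk_pr₂ _ _ _ _ _

/-- a point of the base-changed relation. -/
noncomputable def mk' {T : Scheme.{u}} (g : T ⟶ Rel p D) (x₂ : T ⟶ X)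
    (h : ((g ≫ s p D) ≫ D.obj.hom) ≫ p = x₂ ≫ p) : T ⟶ Rel' p D :=
  pullback.lift g x₂ (by rw [← Category.assoc, comp_ν]; exact h)

lemma mk'_rR {T : Scheme.{u}} (g : T ⟶ Rel p D) (x₂ : T ⟶ X)
    (h : ((g ≫ s p D) ≫ D.obj.hom) ≫ p = x₂ ≫ p) : mk' p D g x₂ h ≫ rR p D = g :=
  pullback.lift_fst _ _ _

lemma mk'_rW {T : Scheme.{u}} (g : T ⟶ Rel p D) (x₂ : T ⟶ X)
    (h : ((g ≫ s p D) ≫ D.obj.hom) ≫ p = x₂ ≫ p) : mk' p D g x₂ h ≫ rW p D = x₂ :=
  pullback.lift_snd _ _ _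

/-- the base-changed relation is the kernel pair of `t`. -/
theorem isPullback_ker : IsPullback (s' p D) (t' p D) (t p D) (t p D) := by
  have hw : s' p D ≫ t p D = t' p D ≫ t p D := by
    rw [s', t', mk_t, mk_t]
    have e1 : rR p D ≫ t p D = Φ D (rR p D ≫ s p D) (rR p D ≫ pr₂ p D) (pt_h p D _) := comp_t p D _
    rw [Φ_congr D e1 rfl, Φ_Φ]
  refine isPullback_of_points _ _ _ _ hw
    (fun {T} a b hab => mk' p D (mk p D (a ≫ s p D) ((b ≫ s p D) ≫ D.obj.hom) (by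
        rw [← comp_ν, ← comp_ν, Category.assoc, Category.assoc, s_ν, ← Category.assoc, hab,
          Category.assoc, ← s_ν])) (a ≫ pr₂ p D) (by rw [mk_s]; exact pt_h p D a)) ?_ ?_ ?_
  · intro T a b hab
    apply rel_ext
    · rw [Category.assoc, s'_s, ← Category.assoc, mk'_rR, mk_s]
    · rw [Category.assoc, s'_pr₂, mk'_rW]
  · intro T a b hab
    have hx2 : a ≫ pr₂ p D = b ≫ pr₂ p D := by
      rw [← t_hom, ← Category.assoc, ← Category.assoc, hab]
    apply rel_ext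
    · rw [Category.assoc, t'_s, ← Category.assoc, mk'_rR, mk_t]
      -- `Φ (a ≫ s) ((b ≫ s) ≫ π) = b ≫ s`
      have h3 : Φ D (a ≫ s p D) (a ≫ pr₂ p D) (pt_h p D a) =
          Φ D (b ≫ s p D) (b ≫ pr₂ p D) (pt_h p D b) := by
        rw [← comp_t, ← comp_t, hab]
      have h4 : (Φ D (a ≫ s p D) (a ≫ pr₂ p D) (pt_h p D a) ≫ D.obj.hom) ≫ p =
          ((b ≫ s p D) ≫ D.obj.hom) ≫ p := by
        rw [Φ_hom, hx2]; exact (pt_h p D b).symm
      have h5 := Φ_Φ D (a ≫ s p D) (a ≫ pr₂ p D) ((b ≫ s p D) ≫ D.obj.hom) (pt_h p D a) h4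
      rw [← h5, Φ_congr D h3 rfl, Φ_Φ, Φ_self]
    · rw [Category.assoc, t'_pr₂, mk'_rW, hx2]
  · intro T m m' h1 h2
    apply pullback.hom_ext
    · change m ≫ rR p D = m' ≫ rR p D
      apply rel_ext
      · rw [Category.assoc, Category.assoc, ← s'_s, ← Category.assoc, ← Category.assoc, h1]
      · have e : ∀ n : T ⟶ Rel' p D, (n ≫ rR p D) ≫ pr₂ p D = ((n ≫ t' p D) ≫ s p D) ≫ D.obj.hom := by
          intro n
          rw [Category.assoc (n) (t' p D), t'_s, ← t_hom, Category.assoc, Category.assoc,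
            Category.assoc]
        rw [e, e, h2]
    · change m ≫ rW p D = m' ≫ rW p D
      rw [← s'_pr₂, ← Category.assoc, ← Category.assoc, h1]

end Rel

section Core

variable {X S : Scheme.{u}} [IsAffine X] [IsAffine S] (p : X ⟶ S) [Flat p] [Surjective p]
  (D : SchDD p) [IsAffine D.obj.left]

/-- **Effective descent of affine schemes, affine case.** -/
theorem effective_of_affine :
    ∃ U : Over S, IsAffine U.left ∧ Nonempty ((toDD p).obj U ≅ D) := by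
  have sqt := isPullback_t p D
  haveI : Flat (t p D) := MorphismProperty.of_isPullback (P := @Flat) sqt inferInstance
  haveI : Surjective (t p D) := MorphismProperty.of_isPullback (P := @Surjective) sqt inferInstance
  -- the affine quotient
  obtain ⟨Q, hQ, ρ, σ, hρσ, hρ, H⟩ :=
    Groth.Agent.R2.H37.AffQuot.exists_affine_quotient (ν p D) (s p D) (t p D) (s_ν p D)
  obtain ⟨θ, hθ, sqθ⟩ := H X D.obj.left (Rel p D) (Rel' p D) inferInstance
    inferInstance p inferInstance D.obj.hom (s p D) (pr₂ p D) (IsPullback.of_hasPullback (ν p D) p)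
    (rR p D) (rW p D) (IsPullback.of_hasPullback (s p D ≫ ν p D) p) (s' p D) (t' p D) (s'_s p D)
    (t'_s p D) (s'_pr₂ p D) (t'_pr₂ p D) (t p D) inferInstance inferInstance (t_hom p D)
    (isPullback_ker p D)
  -- invariance of `θ` under the descent datum
  have hθρ : θ = ρ := by
    have h1 : mk p D (𝟙 D.obj.left) D.obj.hom (by rw [Category.id_comp]) ≫ t p D = 𝟙 _ := by
      rw [mk_t, Φ_congr D rfl (Category.id_comp D.obj.hom).symm, Φ_self]
    have := congrArg (mk p D (𝟙 D.obj.left) D.obj.hom (by rw [Category.id_comp]) ≫ ·) hθ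
    simp only [← Category.assoc] at this
    rw [h1, mk_s, Category.id_comp, Category.id_comp] at this
    exact this
  have hinv : ∀ {T : Scheme.{u}} (v : T ⟶ D.obj.left) (x₁ : T ⟶ X)
      (h : (v ≫ D.obj.hom) ≫ p = x₁ ≫ p), Φ D v x₁ h ≫ θ = v ≫ θ := by
    intro T v x₁ h
    have := congrArg (mk p D v x₁ h ≫ ·) hθ
    simp only [← Category.assoc] at this
    rw [mk_t, mk_s, ← hθρ] at this
    exact this
  -- the isomorphism of descent data
  let U : Over S := Over.mk σ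
  have sq' : IsPullback D.obj.hom θ p σ := sqθ.flip
  let e : D.obj.left ≅ pullback p σ := sq'.isoPullback
  have he1 : e.hom ≫ pullback.fst p σ = D.obj.hom := sq'.isoPullback_hom_fst
  have he2 : e.hom ≫ pullback.snd p σ = θ := sq'.isoPullback_hom_snd
  let homO : D.obj ⟶ ((toDD p).obj U).obj := Over.homMk e.hom he1
  let invO : ((toDD p).obj U).obj ⟶ D.obj := Over.homMk e.inv (by
    change e.inv ≫ D.obj.hom = pullback.fst p σ
    rw [← he1, Iso.inv_hom_id_assoc])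
  have hcomm : ∀ ⦃T : Scheme.{u}⦄ (x₀ x₁ : T ⟶ X) (h : x₀ ≫ p = x₁ ≫ p) (v : Lifts D.obj x₀)
      (w : Lifts ((toDD p).obj U).obj x₀), w.1 = v.1 ≫ e.hom →
      (((toDD p).obj U).φ x₀ x₁ h w).1 = (D.φ x₀ x₁ h v).1 ≫ e.hom := by
    intro T x₀ x₁ h v w hw
    refine (canMap_val p U x₀ x₁ h w).trans ?_
    apply pullback.hom_ext
    · rw [pullback.lift_fst, Category.assoc]
      change x₁ = (D.φ x₀ x₁ h v).1 ≫ e.hom ≫ pullback.fst p σ
      rw [he1]
      exact ((D.φ x₀ x₁ h v).2).symm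
    · rw [pullback.lift_snd, Category.assoc]
      change w.1 ≫ pullback.snd p σ = (D.φ x₀ x₁ h v).1 ≫ e.hom ≫ pullback.snd p σ
      rw [he2, hw]
      refine (Category.assoc v.1 e.hom (pullback.snd p σ)).trans ?_
      rw [he2, φ_val, hinv]
  let F : D ⟶ (toDD p).obj U := ⟨homO, hcomm⟩
  let G : (toDD p).obj U ⟶ D := ⟨invO, by
    intro T x₀ x₁ h w v hv
    have hv' : v.1 = w.1 ≫ e.inv := hv
    have hw : w.1 = v.1 ≫ e.hom := (e.comp_inv_eq).mp hv'.symm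
    have := hcomm x₀ x₁ h v w hw
    exact ((e.comp_inv_eq).mpr this).symm⟩
  refine ⟨U, hQ, ⟨⟨G, F, ?_, ?_⟩⟩⟩
  · apply SchDD.hom_ext
    apply Over.OverMorphism.ext
    change e.inv ≫ e.hom = 𝟙 _
    exact e.inv_hom_id
  · apply SchDD.hom_ext
    apply Over.OverMorphism.ext
    change e.hom ≫ e.inv = 𝟙 _
    exact e.hom_inv_id

end Core

end Groth.Agent.R2.H37.DescAff
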