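import Mathlib
import Groth.Prelude.Def_Desc
import Groth.Prelude.Def_DescFam
import Groth.Agent.R2.H37DescSheafI

/-!
# PROJ:fpqc-desc — assembly (helper37)

Reduction of effectivity of descent data along an fpqc covering family to the affine case
(statement S9858), modulo the three packages `LocalRepStmt`, `BetaTransferStmt`, `BetaSigmaStmt`.
-/

set_option autoImplicit false
set_option backward.isDefEq.respectTransparency false
set_option backward.isDefEq.respectTransparency.types false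
universe u
open CategoryTheory CategoryTheory.Limits AlgebraicGeometry Desc Opposite

namespace Groth.Agent.R2.H37.DescSheaf

variable {S : Scheme.{u}} {ι : Type u} {X : ι → Scheme.{u}} {f : ∀ i, X i ⟶ S}

/-- extraction of a finite affine refinement over an affine open of the base. -/
lemma exists_finite_affine (hf : Presieve.ofArrows X f ∈ Scheme.fpqcPrecoverage S) (W : S.Opens)
    (hW : IsAffineOpen W) :
    (∀ i, Flat (f i)) ∧ ∃ (n : ℕ) (idx : Fin n → ι) (V : ∀ k, (X (idx k)).Opens),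
      (∀ k, IsAffineOpen (V k)) ∧ ⋃ k, (f (idx k)).base '' (V k : Set (X (idx k))) = (W : Set S) := by
  have h1 : Presieve.ofArrows X f ∈ Scheme.qcPrecoverage S := hf.1
  have h2 : Presieve.ofArrows X f ∈ Scheme.precoverage @Flat S := hf.2
  rw [Scheme.ofArrows_mem_precoverage_iff] at h2
  refine ⟨h2.2, ?_⟩
  let E : PreZeroHypercover.{u} S := ⟨ι, X, f⟩
  have hE : QuasiCompactCover E := Scheme.presieve₀_mem_qcPrecoverage_iff.mp h1
  obtain ⟨n, a, V, ha, heq⟩ := QuasiCompactCover.exists_isAffineOpen_of_isCompact E hW.isCompact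
  exact ⟨n, a, V, ha, heq⟩

namespace El

variable {D : SchDDFam f} {T : Scheme.{u}}

lemma ofLift_congr {i : ι} {x x' : T ⟶ X i} (hx : x = x') (v : Lifts (D.obj i) x)
    (v' : Lifts (D.obj i) x') (hv : v.1 = v'.1) : ofLift x v = ofLift x' v' := by
  subst hx
  have : v = v' := Subtype.ext hv
  rw [this]

end El

/-- the β-structure of the pullback of `D.obj i` along `y : X' ⟶ X i`. -/
noncomputable def betaPull (D : SchDDFam f) {S' X' : Scheme.{u}} (j : S' ⟶ S) (p' : X' ⟶ S') (i : ι)
    (y : X' ⟶ X i) (hy : p' ≫ j = y ≫ f i) :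
    Beta D j p' (Over.mk (pullback.snd (D.obj i).hom y)) where
  toEl T x v := El.ofLift (x ≫ y) (liftsPullbackEquiv (D.obj i) y x v)
  toEl_g T x v := by
    rw [El.ofLift_g, Category.assoc, ← hy]
  inj T x v v' h := by
    have h1 := El.toLift_ofLift (x ≫ y) (liftsPullbackEquiv (D.obj i) y x v)
    have h2 := El.toLift_ofLift (x ≫ y) (liftsPullbackEquiv (D.obj i) y x v')
    have h3 : liftsPullbackEquiv (D.obj i) y x v = liftsPullbackEquiv (D.obj i) y x v' := by
      rw [← h1, ← h2]
      congr 1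
    exact (liftsPullbackEquiv (D.obj i) y x).injective h3
  surj T x s hs := by
    have hs' : (x ≫ y) ≫ f i = s.g := by rw [hs, Category.assoc, ← hy]
    refine ⟨(liftsPullbackEquiv (D.obj i) y x).symm (El.toLift s (x ≫ y) hs'), ?_⟩
    rw [Equiv.apply_symm_apply]
    exact El.ofLift_toLift s (x ≫ y) hs'
  nat T T₁ r x v := by
    rw [El.ofLift_res]
    exact El.ofLift_congr (Category.assoc _ _ _) _ _ (by simp [liftsPullbackEquiv])

/-- representability over an affine open of the base, from the affine case. -/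
theorem exists_repOn_of_affine_case (hTr : BetaTransferStmt.{u}) (hSig : BetaSigmaStmt.{u})
    (P : MorphismProperty Scheme.{u}) [P.IsStableUnderBaseChange]
    (h2 : ∀ (m : ℕ) (Y V : Fin m → Scheme.{u}) (q : ∀ j, Y j ⟶ V j), (∀ j, P (q j)) →
      P (Limits.Sigma.map q))
    (h3 : ∀ (X S : Scheme.{u}) (p : X ⟶ S), IsAffine X → IsAffine S → Flat p → Surjective p →
      ∀ D : Desc.SchDD p, P D.obj.hom → ∃ U : Over S, Nonempty ((Desc.toDD p).obj U ≅ D))
    (hf : Presieve.ofArrows X f ∈ Scheme.fpqcPrecoverage S) (D : Desc.SchDDFam f)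
    (hD : ∀ i, P (D.obj i).hom) (W : S.Opens) (hW : IsAffineOpen W) :
    ∃ (Z : Scheme.{u}) (s₀ : El D Z), RepOn D W Z s₀ := by
  obtain ⟨hflat, n, idx, V, hV, hcov⟩ := exists_finite_affine hf W hW
  have : IsAffine W.toScheme := hW
  have : ∀ k, IsAffine (V k).toScheme := fun k => hV k
  -- the members of the refined family
  have hrange : ∀ k, Set.range ((V k).ι ≫ f (idx k)).base ⊆ Set.range W.ι.base := by
    intro k
    rintro _ ⟨x, rfl⟩
    rw [Scheme.Opens.range_ι, ← hcov]
    refine Set.mem_iUnion.2 ⟨k, ?_⟩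
    exact ⟨x.1, x.2, rfl⟩
  let p' : ∀ k, (V k).toScheme ⟶ W.toScheme := fun k =>
    IsOpenImmersion.lift W.ι ((V k).ι ≫ f (idx k)) (hrange k)
  have hp' : ∀ k, p' k ≫ W.ι = (V k).ι ≫ f (idx k) := fun k => IsOpenImmersion.lift_fac _ _ _
  have : ∀ k, Flat (p' k) := by
    intro k
    have := hflat (idx k)
    have h1 : Flat (p' k ≫ W.ι) := by
      rw [hp' k]
      infer_instance
    exact MorphismProperty.of_postcomp (W := @Flat) (W' := @IsOpenImmersion) (p' k) W.ι
      inferInstance h1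
  let V' : ∀ k, Over (V k).toScheme := fun k =>
    Over.mk (pullback.snd (D.obj (idx k)).hom (V k).ι)
  let Bk : ∀ k, Beta D W.ι (p' k) (V' k) := fun k =>
    betaPull D W.ι (p' k) (idx k) (V k).ι (hp' k)
  obtain ⟨B⟩ := hSig D (gluesZariski D) W.ι (fun k => (V k).toScheme) p' V' Bk
  -- the coproduct
  have : Flat (Sigma.desc p') := IsZariskiLocalAtSource.sigmaDesc (P := @Flat) (fun k => inferInstance)
  have : Surjective (Sigma.desc p') := by
    constructor
    intro w
    have hw : (W.ι.base w) ∈ (W : Set S) := w.2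
    rw [← hcov] at hw
    obtain ⟨k, hk⟩ := Set.mem_iUnion.1 hw
    obtain ⟨x, hx, hxw⟩ := hk
    refine ⟨(Sigma.ι (fun k => (V k).toScheme) k).base ⟨x, hx⟩, ?_⟩
    apply W.ι.isOpenEmbedding.injective
    rw [← Scheme.Hom.comp_apply, ← Scheme.Hom.comp_apply, Sigma.ι_desc_assoc, hp' k]
    exact hxw
  have hP : P B.dd.obj.hom := by
    change P (Limits.Sigma.map fun k => (V' k).hom)
    exact h2 n _ _ _ (fun k => P.pullback_snd _ _ (hD (idx k)))
  obtain ⟨Z', ⟨e⟩⟩ := h3 _ _ (Sigma.desc p') inferInstance inferInstance inferInstance inferInstance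
    B.dd hP
  obtain ⟨s₀, hs₀, hrep⟩ := hTr D (descendsFpqc D) W.ι (Sigma.desc p') _ B Z' ⟨e⟩
  refine ⟨Z'.left, s₀, ?_, ?_⟩
  · rw [hs₀, Scheme.Hom.comp_base, TopCat.coe_comp]
    refine (Set.range_comp_subset_range _ _).trans ?_
    rw [Scheme.Opens.range_ι]
  · intro T s hs
    have hs' : Set.range s.g.base ⊆ Set.range W.ι.base := by
      rw [Scheme.Opens.range_ι]
      exact hs
    obtain ⟨h, ⟨-, hh⟩, hu⟩ := hrep s (IsOpenImmersion.lift W.ι s.g hs')
      (IsOpenImmersion.lift_fac _ _ _).symm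
    refine ⟨h, hh, fun h' hh' => hu h' ⟨?_, hh'⟩⟩
    rw [← cancel_mono W.ι, Category.assoc, IsOpenImmersion.lift_fac, ← hs₀]
    have := congrArg El.g hh'
    simpa using this

/-- **S9858 modulo the packages.** -/
theorem isEffective_of_affine_case (hLoc : LocalRepStmt.{u}) (hTr : BetaTransferStmt.{u})
    (hSig : BetaSigmaStmt.{u})
    (P : MorphismProperty Scheme.{u}) [P.IsStableUnderBaseChange]
    (h2 : ∀ (m : ℕ) (Y V : Fin m → Scheme.{u}) (q : ∀ j, Y j ⟶ V j), (∀ j, P (q j)) →
      P (Limits.Sigma.map q))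
    (h3 : ∀ (X S : Scheme.{u}) (p : X ⟶ S), IsAffine X → IsAffine S → Flat p → Surjective p →
      ∀ D : Desc.SchDD p, P D.obj.hom → ∃ U : Over S, Nonempty ((Desc.toDD p).obj U ≅ D))
    (hf : Presieve.ofArrows X f ∈ Scheme.fpqcPrecoverage S) (D : Desc.SchDDFam f)
    (hD : ∀ i, P (D.obj i).hom) : D.IsEffective := by
  have key : ∀ a : S.affineOpens, ∃ (Z : Scheme.{u}) (s₀ : El D Z), RepOn D a.1 Z s₀ :=
    fun a => exists_repOn_of_affine_case hTr hSig P h2 h3 hf D hD a.1 a.2
  choose Z s₀ hrep using key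
  obtain ⟨Z', s, hs⟩ := hLoc D (gluesZariski D) (fun a : S.affineOpens => a.1)
    (iSup_affineOpens_eq_top S) Z s₀ hrep
  exact isEffective_of_rep hs

end Groth.Agent.R2.H37.DescSheaf
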