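import Mathlib
import Groth.Prelude.Def_Desc
import Groth.Prelude.Def_DescFam
import Groth.Agent.R2.H37DescAff
import Groth.Agent.R2.H37DescAssembly

/-!
# PROJ:fpqc-desc — rows from the reduction statement (helper37)

`ReductionStmt` is statement S9858. From it and `effective_of_affine`:
* `affineHom_effective` (S1133), `closedImmersion_effective` (S6044).
-/

set_option autoImplicit false
set_option backward.isDefEq.respectTransparency false
set_option backward.isDefEq.respectTransparency.types false
universe u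
open CategoryTheory CategoryTheory.Limits AlgebraicGeometry Desc Opposite

namespace Groth.Agent.R2.H37.DescRows

/-- statement S9858. -/
def ReductionStmt : Prop :=
  ∀ (P : MorphismProperty Scheme.{u}) [P.IsStableUnderBaseChange]
    (_ : ∀ (m : ℕ) (Y V : Fin m → Scheme.{u}) (q : ∀ j, Y j ⟶ V j), (∀ j, P (q j)) →
      P (Limits.Sigma.map q))
    (_ : ∀ (X S : Scheme.{u}) (p : X ⟶ S), IsAffine X → IsAffine S → Flat p → Surjective p →
      ∀ D : Desc.SchDD p, P D.obj.hom → ∃ U : Over S, Nonempty ((Desc.toDD p).obj U ≅ D))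
    {ι : Type u} {S : Scheme.{u}} {U : ι → Scheme.{u}} (u : ∀ i, U i ⟶ S)
    (_ : Presieve.ofArrows U u ∈ Scheme.fpqcPrecoverage S) (D : Desc.SchDDFam u)
    (_ : ∀ i, P (D.obj i).hom), D.IsEffective

/-- the coproduct of morphisms is cartesian over each summand. -/
lemma isPullback_sigma_map {m : ℕ} (Y V : Fin m → Scheme.{u}) (q : ∀ j, Y j ⟶ V j) (j : Fin m) :
    IsPullback (q j) (Sigma.ι Y j) (Sigma.ι V j) (Limits.Sigma.map q) := by
  refine IsOpenImmersion.isPullback (q j) (Sigma.ι Y j) (Sigma.ι V j) (Limits.Sigma.map q)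
    (Sigma.ι_map q j) ?_
  ext y
  simp only [Scheme.Hom.coe_preimage, Set.mem_preimage, SetLike.mem_coe, Scheme.Hom.mem_opensRange]
  constructor
  · rintro ⟨v, hv⟩
    obtain ⟨k, y', rfl⟩ := (sigmaOpenCover Y).exists_eq y
    change (Sigma.ι V j).base v = (Limits.Sigma.map q).base ((Sigma.ι Y k).base y') at hv
    change ∃ z, (Sigma.ι Y j).base z = (Sigma.ι Y k).base y'
    have h1 : (Limits.Sigma.map q).base ((Sigma.ι Y k).base y') = (Sigma.ι V k).base ((q k).base y') := by
      rw [← Scheme.Hom.comp_apply, Sigma.ι_map, Scheme.Hom.comp_apply]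
    rw [h1] at hv
    have h2 := (sigmaι_eq_iff V j k v ((q k).base y')).mp hv
    have hjk : j = k := congrArg Sigma.fst h2
    subst hjk
    exact ⟨y', rfl⟩
  · rintro ⟨y', rfl⟩
    refine ⟨(q j).base y', ?_⟩
    rw [← Scheme.Hom.comp_apply, ← Scheme.Hom.comp_apply, Sigma.ι_map]

/-- a property local at the target and stable under isomorphisms passes to finite coproducts. -/
lemma sigma_map_of_local (P : MorphismProperty Scheme.{u}) [IsZariskiLocalAtTarget P]
    (m : ℕ) (Y V : Fin m → Scheme.{u}) (q : ∀ j, Y j ⟶ V j) (hq : ∀ j, P (q j)) :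
    P (Limits.Sigma.map q) := by
  refine IsZariskiLocalAtTarget.of_openCover (sigmaOpenCover V) ?_
  intro j
  have sq := (isPullback_sigma_map Y V q j).flip
  have h1 : sq.isoPullback.hom ≫ pullback.snd (Limits.Sigma.map q) (Sigma.ι V j) = q j :=
    sq.isoPullback_hom_snd
  change P (pullback.snd (Limits.Sigma.map q) (Sigma.ι V j))
  rw [← P.cancel_left_of_respectsIso sq.isoPullback.hom, h1]
  exact hq j

/-- the affine case for descent data affine over `X`. -/
lemma affine_case (X S : Scheme.{u}) (p : X ⟶ S) (hX : IsAffine X) (hS : IsAffine S) (hp : Flat p)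
    (hp' : Surjective p) (D : Desc.SchDD p) (hD : IsAffineHom D.obj.hom) :
    ∃ U : Over S, Nonempty ((Desc.toDD p).obj U ≅ D) := by
  have : IsAffine D.obj.left := isAffine_of_isAffineHom D.obj.hom
  obtain ⟨U, -, hU⟩ := Groth.Agent.R2.H37.DescAff.effective_of_affine p D
  exact ⟨U, hU⟩

/-- effectivity for a single morphism from effectivity for the one-member family. -/
lemma effective_of_one {X S : Scheme.{u}} (p : X ⟶ S) (D : Desc.SchDD p)
    (h : ((SchDDFam.ofSchDD.{u, u} p).obj D).IsEffective) :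
    ∃ U : Over S, Nonempty ((Desc.toDD p).obj U ≅ D) := by
  obtain ⟨U, ⟨e⟩⟩ := h
  exact ⟨U, ⟨(SchDDFam.toSchDD.{u, u} p).mapIso e⟩⟩

/-- **S1133 from the reduction statement.** -/
theorem affineHom_effective (hR : ReductionStmt.{u}) {X S : Scheme.{u}} (p : X ⟶ S)
    [Surjective p] [Flat p] [QuasiCompact p] (D : Desc.SchDD p) [IsAffineHom D.obj.hom] :
    ∃ U : Over S, Nonempty ((Desc.toDD p).obj U ≅ D) := by
  apply effective_of_one
  refine hR @IsAffineHom (sigma_map_of_local @IsAffineHom)
    (fun X S p hX hS hp hp' D hD => affine_case X S p hX hS hp hp' D hD)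
    (fun _ : PUnit.{u + 1} => p) ?_ _ (fun _ => ‹IsAffineHom D.obj.hom›)
  rw [Presieve.ofArrows_pUnit]
  exact p.singleton_mem_fpqcPrecoverage

/-- **S6044 from the reduction statement.** -/
theorem closedImmersion_effective (hR : ReductionStmt.{u}) {S : Scheme.{u}} {ι : Type u}
    {X : ι → Scheme.{u}} (f : ∀ i, X i ⟶ S) (hf : Presieve.ofArrows X f ∈ Scheme.fpqcPrecoverage S)
    (D : Desc.SchDDFam f) (hD : ∀ i, IsClosedImmersion (D.obj i).hom) : D.IsEffective := by
  refine hR @IsClosedImmersion (sigma_map_of_local @IsClosedImmersion)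
    (fun X S p hX hS hp hp' D hD => ?_) f hf D hD
  have : IsClosedImmersion D.obj.hom := hD
  exact affine_case X S p hX hS hp hp' D inferInstance

end Groth.Agent.R2.H37.DescRows
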