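import Mathlib
import Groth.Prelude.Def_AlgSp
import Groth.Prelude.Def_QuotSh

/-!
# Interface for PROJ:thmQ (helper59): "an algebraic space separated and locally quasi-finite over a
scheme is a scheme" (S10259 / S10260).

Scheme-level packages, stated as `Prop`s so that they can be proved independently and the
sheaf-level assembly (helper59, files `R2/H59Q*.lean`) can take them as hypotheses.

* `BddFib d g` : every fibre of `g : T' ⟶ T` has at most `d` points with values in any field.
* `EmptyStmt` (trivial), `OffDiagStmt` (PKG-2): for `g` etale separated with `BddFib (d+1) g`, the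
  off-diagonal part `D` of `T' ×_T T'` with its two projections `d₁ d₂ : D ⟶ T'`; `BddFib d d₁`, and
  the covering statement used in the induction.
* `EtLocStmt` (PKG-1): etale localisation of a morphism quasi-finite at a point, with an affine
  etale neighbourhood of bounded fibre cardinality.
* `FinQuotStmt` (PKG-3): the fppf quotient sheaf of an affine scheme by a finite etale equivalence
  relation is representable (from S7488 / S1877).
-/

set_option autoImplicit false
universe u

open CategoryTheory CategoryTheory.Limits AlgebraicGeometry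

namespace Groth.Agent.R2.H59.QSpec

/-- every fibre of `g` has at most `d` points with values in any field `L`. -/
def BddFib (d : ℕ) {T' T : Scheme.{u}} (g : T' ⟶ T) : Prop :=
  ∀ (L : Type u) [Field L] (y : Spec (CommRingCat.of L) ⟶ T)
    (s : Finset (Spec (CommRingCat.of L) ⟶ T')), (∀ z ∈ s, z ≫ g = y) → s.card ≤ d

/-- no field-valued points in the fibres means the source is empty. -/
def EmptyStmt : Prop :=
  ∀ {T' T : Scheme.{u}} (g : T' ⟶ T), BddFib 0 g → IsEmpty ↥T'

/-- PKG-2: the off-diagonal part `D` of `T' ×_T T'` for `g : T' ⟶ T` etale and separated with at most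
`d + 1` points in the fibres.  `d₁ d₂ : D ⟶ T'` are the two projections; `d₁` is again etale
separated, with at most `d` points in its fibres.  Covering clause: for `σ : N ⟶ T'`, with
`P = N ×_T T'` (`a`, `b` the projections), `sec = (1, σ) : N ⟶ P`, `N° = N ×_{σ, T', d₂} D` and
`m = (a°, b° ≫ d₁) : N° ⟶ P`, the maps `sec` and `m` are jointly surjective. -/
def OffDiagStmt : Prop :=
  ∀ {T' T : Scheme.{u}} (g : T' ⟶ T) [Etale g] [IsSeparated g] (d : ℕ), BddFib (d + 1) g →
    ∃ (D : Scheme.{u}) (d₁ d₂ : D ⟶ T'), d₁ ≫ g = d₂ ≫ g ∧ Etale d₁ ∧ IsSeparated d₁ ∧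
      BddFib d d₁ ∧
      ∀ {N P N' : Scheme.{u}} (σ : N ⟶ T') (a : P ⟶ N) (b : P ⟶ T') (a' : N' ⟶ N)
        (b' : N' ⟶ D), IsPullback a b (σ ≫ g) g → IsPullback a' b' σ d₂ →
        ∀ (sec : N ⟶ P) (m : N' ⟶ P), sec ≫ a = 𝟙 N → sec ≫ b = σ → m ≫ a = a' →
          m ≫ b = b' ≫ d₁ → ∀ p : ↥P, p ∈ Set.range sec ∨ p ∈ Set.range m

/-- PKG-1: etale localisation of a morphism locally of finite type at a point where it is
quasi-finite: an AFFINE etale neighbourhood `g : T' ⟶ T` with boundedly many points in its fibres,
and an open subscheme `V` of `U ×_T T'`, finite over `T'`, containing a point over `u`. -/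
def EtLocStmt : Prop :=
  ∀ {U T : Scheme.{u}} (f : U ⟶ T) [LocallyOfFiniteType f] (u : ↥U), f.QuasiFiniteAt u →
    ∃ (T' : Scheme.{u}) (g : T' ⟶ T) (V : Scheme.{u}) (j : V ⟶ pullback f g) (v : ↥V),
      IsAffine T' ∧ Etale g ∧ IsSeparated g ∧ (∃ d, BddFib d g) ∧ IsOpenImmersion j ∧
      IsFinite (j ≫ pullback.snd f g) ∧ (pullback.fst f g) (j v) = u

/-- PKG-3: the quotient of an affine scheme by a finite etale equivalence relation (over `S`) is
representable by a scheme over `S`, as an fppf sheaf. -/
def FinQuotStmt : Prop :=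
  ∀ (S : Scheme.{u}) {R V : Over S} (s t : R ⟶ V), AlgSp.IsEqvRel s t → IsAffine V.left →
    IsAffine R.left → IsFinite s.left → Etale s.left → IsFinite t.left → Etale t.left →
    ∃ (M : Over S) (q : V ⟶ M), QuotSh.IsQuotient Scheme.fppfPrecoverage s t q

end Groth.Agent.R2.H59.QSpec
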