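import Mathlib
import Groth.Agent.Lib.Helper2RetCharpoly

/-!
# Norm of an endomorphism of a finite projective module via a retract (helper33)

Builds on `Groth.Agent.Lib.Helper2.RetCharpoly`.  For a retract `r : Ret R S n` (so `S ⊕ Q ≅ R^n`) and an
endomorphism `m` of `S`, `r.mat m` is the matrix of `i ∘ m ∘ p` and `r.nrm m = det (1 - mat (1 - m))` is the
determinant of `m ⊕ id_Q`, i.e. "the determinant of `m` on the projective module `S`".  It is
multiplicative, `nrm m` is a unit iff `m` is bijective, it is `(cp (1 - m)).eval 1`, and it commutes with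
base change.
-/

set_option autoImplicit false
set_option linter.style.haveILetI false
set_option linter.unusedSectionVars false
universe u

open TensorProduct Polynomial
open Groth.Agent.Lib.Helper2.RetCharpoly

namespace Groth.Agent.R2.H33.RetNorm

section Basic
variable {R S : Type*} [CommRing R] [AddCommGroup S] [Module R S] {n : ℕ}

/-- the matrix of `i ∘ m ∘ p` -/
noncomputable def mat (r : Ret R S n) (m : S →ₗ[R] S) : Matrix (Fin n) (Fin n) R :=
  LinearMap.toMatrix' (r.endo m)

theorem cp_eq_charpoly (r : Ret R S n) (m : S →ₗ[R] S) : r.cp m = (mat r m).charpoly := rfl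

theorem endo_add (r : Ret R S n) (m m' : S →ₗ[R] S) : r.endo (m + m') = r.endo m + r.endo m' := by
  ext v j
  simp [Ret.endo]

theorem endo_sub (r : Ret R S n) (m m' : S →ₗ[R] S) : r.endo (m - m') = r.endo m - r.endo m' := by
  ext v j
  simp [Ret.endo]

theorem endo_smul (r : Ret R S n) (c : R) (m : S →ₗ[R] S) : r.endo (c • m) = c • r.endo m := by
  ext v j
  simp [Ret.endo]

theorem endo_zero (r : Ret R S n) : r.endo (0 : S →ₗ[R] S) = 0 := by
  ext v j
  simp [Ret.endo]

theorem endo_mul (r : Ret R S n) (m m' : S →ₗ[R] S) : r.endo (m * m') = r.endo m * r.endo m' := by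
  ext v j
  simp [Ret.endo, Module.End.mul_apply, Ret.pi_apply]

theorem mat_add (r : Ret R S n) (m m' : S →ₗ[R] S) : mat r (m + m') = mat r m + mat r m' := by
  simp [mat, endo_add]

theorem mat_sub (r : Ret R S n) (m m' : S →ₗ[R] S) : mat r (m - m') = mat r m - mat r m' := by
  simp [mat, endo_sub]

theorem mat_smul (r : Ret R S n) (c : R) (m : S →ₗ[R] S) : mat r (c • m) = c • mat r m := by
  simp [mat, endo_smul]

theorem mat_zero (r : Ret R S n) : mat r (0 : S →ₗ[R] S) = 0 := by
  simp [mat, endo_zero]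

theorem mat_sum (r : Ret R S n) {ι : Type*} (s : Finset ι) (m : ι → (S →ₗ[R] S)) :
    mat r (∑ l ∈ s, m l) = ∑ l ∈ s, mat r (m l) := by
  classical
  induction s using Finset.induction_on with
  | empty => simp [mat_zero]
  | insert a s ha ih => rw [Finset.sum_insert ha, Finset.sum_insert ha, mat_add, ih]

theorem trans_mul₁ (r₁ r₂ : Ret R S n) (m : S →ₗ[R] S) :
    LinearMap.toMatrix' (r₁.i ∘ₗ m ∘ₗ r₂.p) * LinearMap.toMatrix' (r₂.i ∘ₗ r₁.p) = mat r₁ m := by
  rw [← LinearMap.toMatrix'_comp]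
  unfold mat
  congr 1
  refine LinearMap.ext fun v => ?_
  simp [Ret.endo, Ret.pi_apply]

theorem trans_mul₂ (r₁ r₂ : Ret R S n) (m : S →ₗ[R] S) :
    LinearMap.toMatrix' (r₂.i ∘ₗ r₁.p) * LinearMap.toMatrix' (r₁.i ∘ₗ m ∘ₗ r₂.p) = mat r₂ m := by
  rw [← LinearMap.toMatrix'_comp]
  unfold mat
  congr 1
  refine LinearMap.ext fun v => ?_
  simp [Ret.endo, Ret.pi_apply]

/-- `E m = 1 - i p + i m p`, the endomorphism `m ⊕ id_Q` of `R^n = S ⊕ Q`. -/
def E (r : Ret R S n) (m : S →ₗ[R] S) : (Fin n → R) →ₗ[R] (Fin n → R) := 1 - r.endo (1 - m)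

theorem E_apply (r : Ret R S n) (m : S →ₗ[R] S) (v : Fin n → R) :
    E r m v = v - r.i (r.p v) + r.i (m (r.p v)) := by
  simp only [E, Ret.endo, LinearMap.sub_apply, Module.End.one_apply, LinearMap.comp_apply, map_sub]
  abel

theorem E_one (r : Ret R S n) : E r (1 : S →ₗ[R] S) = 1 := by
  simp [E, endo_zero]

theorem E_mul (r : Ret R S n) (m m' : S →ₗ[R] S) : E r (m * m') = E r m * E r m' := by
  refine LinearMap.ext fun v => ?_
  simp only [Module.End.mul_apply, E_apply, map_sub, map_add, Ret.pi_apply]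
  abel

/-- "determinant of `m` on the projective module `S`" -/
noncomputable def nrm (r : Ret R S n) (m : S →ₗ[R] S) : R := LinearMap.det (E r m)

theorem nrm_one (r : Ret R S n) : nrm r (1 : S →ₗ[R] S) = 1 := by
  simp [nrm, E_one]

theorem nrm_mul (r : Ret R S n) (m m' : S →ₗ[R] S) : nrm r (m * m') = nrm r m * nrm r m' := by
  simp [nrm, E_mul]

theorem nrm_eq_det (r : Ret R S n) (m : S →ₗ[R] S) : nrm r m = (1 - mat r (1 - m)).det := by
  unfold nrm E mat
  rw [← LinearMap.det_toMatrix']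
  congr 1
  simp

theorem nrm_eq_eval (r : Ret R S n) (m : S →ₗ[R] S) : nrm r m = (r.cp (1 - m)).eval 1 := by
  rw [nrm_eq_det, cp_eq_charpoly, Matrix.eval_charpoly]
  simp

theorem isUnit_nrm_iff (r : Ret R S n) (m : S →ₗ[R] S) : IsUnit (nrm r m) ↔ IsUnit m := by
  unfold nrm
  rw [← LinearMap.isUnit_iff_isUnit_det, Module.End.isUnit_iff, Module.End.isUnit_iff]
  constructor
  · intro h
    constructor
    · intro x y hxy
      have h1 : E r m (r.i x) = E r m (r.i y) := by
        simp only [E_apply, Ret.pi_apply, hxy]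
        simp
      have h2 := h.1 h1
      have h3 := congrArg r.p h2
      simpa [Ret.pi_apply] using h3
    · intro y
      obtain ⟨v, hv⟩ := h.2 (r.i y)
      refine ⟨r.p v, ?_⟩
      have h3 := congrArg r.p hv
      simpa [E_apply, Ret.pi_apply] using h3
  · intro h
    rw [← Module.End.isUnit_iff] at h ⊢
    obtain ⟨u, rfl⟩ := h
    refine ⟨⟨E r u, E r (u⁻¹ : (S →ₗ[R] S)ˣ), ?_, ?_⟩, rfl⟩
    · rw [← E_mul, Units.mul_inv, E_one]
    · rw [← E_mul, Units.inv_mul, E_one]

end Basic

section Alg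
variable {R S : Type*} [CommRing R] [CommRing S] [Algebra R S] {n : ℕ}

theorem isUnit_nrm_lmul_iff (r : Ret R S n) (b : S) :
    IsUnit (nrm r (Algebra.lmul R S b)) ↔ IsUnit b := by
  rw [isUnit_nrm_iff, Algebra.lmul_isUnit_iff]

theorem one_sub_lmul (b : S) : (1 : S →ₗ[R] S) - Algebra.lmul R S b = Algebra.lmul R S (1 - b) := by
  ext x
  simp

end Alg

section BC
variable {R S T P : Type*} [CommRing R] [CommRing S] [CommRing T] [CommRing P]
  [Algebra R S] [Algebra R T] [Algebra S P] [Algebra T P] [Algebra R P]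
  [IsScalarTower R S P] [IsScalarTower R T P] [Algebra.IsPushout R T S P] {n : ℕ}

theorem bc_mat (r : Ret R S n) (b : S) :
    mat (r.bc (T := T) (P := P)) (Algebra.lmul T P (algebraMap S P b)) =
      (mat r (Algebra.lmul R S b)).map (algebraMap R T) := by
  unfold mat
  ext j k
  rw [Matrix.map_apply, LinearMap.toMatrix'_apply, LinearMap.toMatrix'_apply]
  simp only [Ret.endo, LinearMap.comp_apply, Ret.bc]
  rw [Fintype.linearCombination_apply]
  have h1 : (∑ i, (Pi.single k (1 : T) : Fin n → T) i • algebraMap S P (r.p (Pi.single i 1))) =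
      algebraMap S P (r.p (Pi.single k 1)) := by
    rw [Finset.sum_eq_single k]
    · simp
    · intro i _ hik
      simp [hik]
    · intro hk
      exact (hk (Finset.mem_univ k)).elim
  rw [h1]
  simp only [Algebra.lmul_algebraMap, Algebra.coe_lmul_eq_mul, LinearMap.mul_apply']
  rw [← map_mul, lift_algebraMap]
  simp

end BC

section Univ
variable {A B : Type*} [CommRing A] [CommRing B] (σ τ : A →+* B) {n : ℕ}
  {ι : Type*} (s : Finset ι) (M : ι → Matrix (Fin n) (Fin n) A)

/-- the universal combination `Σ_{l ∈ s} X_l • M_l` over `MvPolynomial ι A` -/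
noncomputable def univMat : Matrix (Fin n) (Fin n) (MvPolynomial ι A) :=
  ∑ l ∈ s, (MvPolynomial.X l : MvPolynomial ι A) • (M l).map MvPolynomial.C

theorem univMat_map {A' : Type*} [CommRing A'] (φ : A →+* A') :
    (univMat s M).map (MvPolynomial.map φ) = univMat s (fun l => (M l).map φ) := by
  ext i j
  simp [univMat, Matrix.sum_apply, Matrix.map_apply, map_sum]

theorem univMat_eval {K : Type*} [CommRing K] (φ : A →+* K) (lam : ι → K) :
    (univMat s M).map (MvPolynomial.eval₂Hom φ lam) = ∑ l ∈ s, lam l • (M l).map φ := by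
  ext i j
  simp [univMat, Matrix.sum_apply, Matrix.map_apply, map_sum]

theorem univMat_charpoly_map_eq (X : ι → Matrix (Fin n) (Fin n) B) (Y : Matrix (Fin n) (Fin n) B)
    (h : ∀ l, (M l).map τ = X l * Y ∧ (M l).map σ = Y * X l) :
    (univMat s M).charpoly.map (MvPolynomial.map σ) =
      (univMat s M).charpoly.map (MvPolynomial.map τ) := by
  rw [← Matrix.charpoly_map, ← Matrix.charpoly_map, univMat_map, univMat_map]
  have h1 : univMat s (fun l => (M l).map τ) = univMat s X * Y.map MvPolynomial.C := by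
    simp only [univMat, Finset.sum_mul]
    refine Finset.sum_congr rfl fun l _ => ?_
    rw [(h l).1, Matrix.map_mul, Matrix.smul_mul]
  have h2 : univMat s (fun l => (M l).map σ) = Y.map MvPolynomial.C * univMat s X := by
    simp only [univMat, Finset.mul_sum]
    refine Finset.sum_congr rfl fun l _ => ?_
    rw [(h l).2, Matrix.map_mul, Matrix.mul_smul]
  rw [h1, h2, Matrix.charpoly_mul_comm]

theorem charpoly_sum_eq_of_eqLocus {K : Type*} [CommRing K]
    (X : ι → Matrix (Fin n) (Fin n) B) (Y : Matrix (Fin n) (Fin n) B)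
    (h : ∀ l, (M l).map τ = X l * Y ∧ (M l).map σ = Y * X l)
    (φ₀ φ₁ : A →+* K) (hφ : ∀ c, σ c = τ c → φ₀ c = φ₁ c) (lam : ι → K) :
    (∑ l ∈ s, lam l • (M l).map φ₀).charpoly = (∑ l ∈ s, lam l • (M l).map φ₁).charpoly := by
  rw [← univMat_eval, ← univMat_eval, Matrix.charpoly_map, Matrix.charpoly_map]
  ext j
  rw [Polynomial.coeff_map, Polynomial.coeff_map]
  set q := (univMat s M).charpoly.coeff j
  have hq : MvPolynomial.map σ q = MvPolynomial.map τ q := by
    have := congrArg (fun p => p.coeff j) (univMat_charpoly_map_eq σ τ s M X Y h)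
    simpa [Polynomial.coeff_map] using this
  simp only [MvPolynomial.coe_eval₂Hom, MvPolynomial.eval₂_eq]
  refine Finset.sum_congr rfl fun d _ => ?_
  congr 1
  apply hφ
  have := congrArg (MvPolynomial.coeff d) hq
  simpa [MvPolynomial.coeff_map] using this

end Univ

section Fibre
variable {A B : Type u} [CommRing A] [CommRing B] [Algebra A B] {n : ℕ} (r : Ret A B n)

attribute [local instance] Algebra.TensorProduct.rightAlgebra in
/-- The fibre algebra `P = K ⊗[A] B` of `A → B` over a point `x : A → K`, with its base-changed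
retract, packaged without reference to the tensor product. -/
theorem fibre_data {K : Type u} [CommRing K] (x : A →+* K) :
    ∃ (P : Type u) (_ : CommRing P) (_ : Algebra K P) (incl : B →+* P) (r' : Ret K P n),
      (∀ a, incl (algebraMap A B a) = algebraMap K P (x a)) ∧
      (∀ b, mat r' (Algebra.lmul K P (incl b)) = (mat r (Algebra.lmul A B b)).map x) ∧
      (∀ ρ : B →+* K, ρ.comp (algebraMap A B) = x →
        ∃ ρ' : P →ₐ[K] K, ∀ b, ρ' (incl b) = ρ b) := by
  letI : Algebra A K := x.toAlgebra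
  refine ⟨K ⊗[A] B, inferInstance, inferInstance, algebraMap B (K ⊗[A] B),
    r.bc (T := K) (P := K ⊗[A] B), ?_, ?_, ?_⟩
  · intro a
    rw [← IsScalarTower.algebraMap_apply A B (K ⊗[A] B), IsScalarTower.algebraMap_apply A K (K ⊗[A] B)]
    rfl
  · intro b
    exact bc_mat r b
  · intro ρ hρ
    have hcomm : ∀ a : A, ρ (algebraMap A B a) = algebraMap A K a := fun a =>
      congrArg (fun φ : A →+* K => φ a) hρ
    let g : B →ₐ[A] K := { ρ with commutes' := hcomm }
    refine ⟨Algebra.TensorProduct.lift (AlgHom.id K K) g (fun _ _ => Commute.all _ _), ?_⟩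
    intro b
    rw [Algebra.TensorProduct.right_algebraMap_apply, Algebra.TensorProduct.lift_tmul]
    simp [g]

end Fibre

section AlgClosed

theorem exists_algHom_eq_zero_of_not_isUnit {k P : Type*} [Field k] [IsAlgClosed k] [CommRing P]
    [Algebra k P] [Module.Finite k P] (b : P) (hb : ¬ IsUnit b) : ∃ ρ : P →ₐ[k] k, ρ b = 0 := by
  obtain ⟨M, hM, hbM⟩ := exists_max_ideal_of_mem_nonunits hb
  letI := Ideal.Quotient.field M
  have hbij : Function.Bijective (algebraMap k (P ⧸ M)) :=
    IsAlgClosed.algebraMap_bijective_of_isIntegral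
  let e : k ≃ₐ[k] (P ⧸ M) := AlgEquiv.ofBijective (Algebra.ofId k (P ⧸ M)) hbij
  refine ⟨(e.symm : (P ⧸ M) →ₐ[k] k).comp (Ideal.Quotient.mkₐ k M), ?_⟩
  have : (Ideal.Quotient.mkₐ k M) b = 0 := by
    rw [Ideal.Quotient.mkₐ_eq_mk]
    exact Ideal.Quotient.eq_zero_iff_mem.mpr hbM
  rw [AlgHom.comp_apply, this, map_zero]

end AlgClosed

section Main
variable {A B : Type u} [CommRing A] [CommRing B] [Algebra A B] (τ : A →+* B) (ε : B →+* A)
  (hεσ : ∀ a, ε (algebraMap A B a) = a) (hετ : ∀ a, ε (τ a) = a) {n : ℕ} (r : Ret A B n)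
  (X : A → Matrix (Fin n) (Fin n) B) (Y : Matrix (Fin n) (Fin n) B)
  (hXY : ∀ a, (mat r (Algebra.lmul A B (τ a))).map τ = X a * Y ∧
    (mat r (Algebra.lmul A B (τ a))).map (algebraMap A B) = Y * X a)

include hεσ hετ hXY in
/-- **Geometric orbits.** In the ring-theoretic shadow of a finite locally free groupoid
(`A = Γ(U)`, `B = Γ(R)`, `σ = algebraMap`, `τ`, `ε`, with the "translation" matrices `X`, `Y`), two
`k`-points of `A` (with `k` algebraically closed) that agree on the invariants `{c | σ c = τ c}` are the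
target and source of a `k`-point of `B`. -/
theorem exists_point_of_eq_on_invariants (k : Type u) [Field k] [IsAlgClosed k] (x₀ x₁ : A →+* k)
    (hx : ∀ c, algebraMap A B c = τ c → x₀ c = x₁ c) :
    ∃ ρ : B →+* k, ρ.comp τ = x₀ ∧ ρ.comp (algebraMap A B) = x₁ := by
  classical
  obtain ⟨P₀, _, _, incl₀, r₀, h₀a, h₀m, h₀u⟩ := fibre_data r x₀
  obtain ⟨P₁, _, _, incl₁, r₁, h₁a, h₁m, h₁u⟩ := fibre_data r x₁
  have hfin₁ : Module.Finite k P₁ := Module.Finite.of_surjective r₁.p
    (fun y => ⟨r₁.i y, r₁.pi_apply y⟩)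
  -- the matrices
  let M : A → Matrix (Fin n) (Fin n) A := fun a => mat r (Algebra.lmul A B (τ a))
  -- the elements of the fibre algebras
  let elt₀ : (A →₀ k) →ₗ[k] P₀ := Finsupp.linearCombination k (fun a => incl₀ (τ a))
  let elt₁ : (A →₀ k) →ₗ[k] P₁ := Finsupp.linearCombination k (fun a => incl₁ (τ a))
  let ev₀ : (A →₀ k) →ₗ[k] k := Finsupp.linearCombination k (fun a => x₀ a)
  have helt₀_one : elt₀ (Finsupp.single 1 1) = 1 := by simp [elt₀]
  have helt₁_one : elt₁ (Finsupp.single 1 1) = 1 := by simp [elt₁]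
  -- matrix of an element
  have hmat₀ : ∀ w : A →₀ k, mat r₀ (Algebra.lmul k P₀ (elt₀ w)) =
      ∑ a ∈ w.support, w a • (M a).map x₀ := by
    intro w
    simp only [elt₀, Finsupp.linearCombination_apply, Finsupp.sum, map_sum, map_smul, mat_sum,
      mat_smul, h₀m, M]
  have hmat₁ : ∀ w : A →₀ k, mat r₁ (Algebra.lmul k P₁ (elt₁ w)) =
      ∑ a ∈ w.support, w a • (M a).map x₁ := by
    intro w
    simp only [elt₁, Finsupp.linearCombination_apply, Finsupp.sum, map_sum, map_smul, mat_sum,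
      mat_smul, h₁m, M]
  -- the norms agree
  have hnrm : ∀ v : A →₀ k, nrm r₀ (Algebra.lmul k P₀ (elt₀ v)) = nrm r₁ (Algebra.lmul k P₁ (elt₁ v)) := by
    intro v
    have e₀ : (1 : P₀ →ₗ[k] P₀) - Algebra.lmul k P₀ (elt₀ v) =
        Algebra.lmul k P₀ (elt₀ (Finsupp.single 1 1 - v)) := by
      rw [one_sub_lmul]
      congr 1
      rw [map_sub, helt₀_one]
    have e₁ : (1 : P₁ →ₗ[k] P₁) - Algebra.lmul k P₁ (elt₁ v) =
        Algebra.lmul k P₁ (elt₁ (Finsupp.single 1 1 - v)) := by
      rw [one_sub_lmul]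
      congr 1
      rw [map_sub, helt₁_one]
    rw [nrm_eq_eval, nrm_eq_eval, e₀, e₁, cp_eq_charpoly, cp_eq_charpoly, hmat₀, hmat₁]
    congr 1
    exact charpoly_sum_eq_of_eqLocus (algebraMap A B) τ _ M X Y hXY x₀ x₁ hx _
  -- the `ε`-point of the fibre over `x₀`
  obtain ⟨π₀, hπ₀⟩ := h₀u (x₀.comp ε) (by ext a; simp [hεσ])
  have hπ₀elt : ∀ v, π₀ (elt₀ v) = ev₀ v := by
    intro v
    simp only [elt₀, ev₀, Finsupp.linearCombination_apply, Finsupp.sum, map_sum, map_smul, hπ₀,
      RingHom.comp_apply, hετ]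
  -- key: covering
  have hkey : ∀ v : A →₀ k, ev₀ v = 0 → ∃ ρ' : P₁ →ₐ[k] k, ρ' (elt₁ v) = 0 := by
    intro v hv
    have h1 : ¬ IsUnit (elt₀ v) := by
      intro hu
      have := hu.map π₀
      rw [hπ₀elt, hv] at this
      exact not_isUnit_zero this
    have h2 : ¬ IsUnit (nrm r₀ (Algebra.lmul k P₀ (elt₀ v))) := by
      rwa [isUnit_nrm_lmul_iff]
    rw [hnrm, isUnit_nrm_lmul_iff] at h2
    exact exists_algHom_eq_zero_of_not_isUnit _ h2
  let evρ : (P₁ →ₐ[k] k) → ((A →₀ k) →ₗ[k] k) := fun ρ' =>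
    Finsupp.linearCombination k (fun a => ρ' (incl₁ (τ a)))
  have hevρ : ∀ ρ' v, ρ' (elt₁ v) = evρ ρ' v := by
    intro ρ' v
    simp only [elt₁, evρ, Finsupp.linearCombination_apply, Finsupp.sum, map_sum, map_smul]
  have hcover : ⋃ ρ' : P₁ →ₐ[k] k, ((LinearMap.ker (evρ ρ' - ev₀) : Subspace k (A →₀ k)) : Set (A →₀ k)) =
      Set.univ := by
    rw [Set.eq_univ_iff_forall]
    intro v
    let v' : A →₀ k := v - ev₀ v • Finsupp.single 1 1
    have hv' : ev₀ v' = 0 := by
      simp [v', ev₀]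
    obtain ⟨ρ', hρ'⟩ := hkey v' hv'
    rw [Set.mem_iUnion]
    refine ⟨ρ', ?_⟩
    rw [hevρ] at hρ'
    have h1 : evρ ρ' (Finsupp.single 1 1) = 1 := by simp [evρ]
    simp only [v', map_sub, map_smul, h1, smul_eq_mul, mul_one] at hρ'
    simp only [SetLike.mem_coe, LinearMap.mem_ker, LinearMap.sub_apply]
    exact hρ'
  obtain ⟨ρ', hρ'⟩ := Subspace.exists_eq_top_of_iUnion_eq_univ hcover
  have hρ'a : ∀ a, ρ' (incl₁ (τ a)) = x₀ a := by
    intro a
    have : Finsupp.single a (1 : k) ∈ LinearMap.ker (evρ ρ' - ev₀) := by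
      rw [hρ']; trivial
    rw [LinearMap.mem_ker, LinearMap.sub_apply, sub_eq_zero] at this
    simpa [evρ, ev₀] using this
  refine ⟨(ρ' : P₁ →+* k).comp incl₁, ?_, ?_⟩
  · ext a
    exact hρ'a a
  · ext a
    simp [h₁a]

end Main

section Lift

theorem exists_hom_of_integral {C A : Type*} [CommRing C] [CommRing A] [Algebra C A]
    [Algebra.IsIntegral C A] (p : Ideal A) [p.IsPrime] (k : Type*) [Field k] [IsAlgClosed k]
    (m : C →+* k) (hm : RingHom.ker m = p.comap (algebraMap C A)) :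
    ∃ x : A →+* k, RingHom.ker x = p ∧ x.comp (algebraMap C A) = m := by
  have hle : p.under C ≤ RingHom.ker m := by rw [hm]
  let _ : Algebra (C ⧸ p.under C) k :=
    (Ideal.Quotient.lift (p.under C) m (fun a ha => hle ha)).toAlgebra
  have hinj : Function.Injective (algebraMap (C ⧸ p.under C) k) := by
    rw [injective_iff_map_eq_zero]
    intro a ha
    obtain ⟨a, rfl⟩ := Ideal.Quotient.mk_surjective a
    have : m a = 0 := ha
    rw [Ideal.Quotient.eq_zero_iff_mem]
    have h2 : a ∈ RingHom.ker m := this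
    rw [hm] at h2
    exact h2
  have : Module.IsTorsionFree (C ⧸ p.under C) k :=
    Module.isTorsionFree_iff_algebraMap_injective.mpr hinj
  have : Algebra.IsIntegral (C ⧸ p.under C) (A ⧸ p) := .tower_top C
  let f : (A ⧸ p) →ₐ[C ⧸ p.under C] k := IsAlgClosed.lift
  have hfinj : Function.Injective f := by
    rw [injective_iff_map_eq_zero]
    intro a ha
    have h1 : (RingHom.ker f.toRingHom).comap (algebraMap (C ⧸ p.under C) (A ⧸ p)) = ⊥ := by
      rw [eq_bot_iff]
      intro c hc
      rw [Ideal.mem_comap, RingHom.mem_ker] at hc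
      have : f (algebraMap _ _ c) = 0 := hc
      rw [f.commutes] at this
      rw [Ideal.mem_bot]
      exact hinj (by rw [this, map_zero])
    have h2 := Ideal.eq_bot_of_comap_eq_bot h1
    have h3 : a ∈ RingHom.ker f.toRingHom := ha
    rw [h2] at h3
    exact h3
  refine ⟨f.toRingHom.comp (Ideal.Quotient.mk p), ?_, ?_⟩
  · ext a
    rw [RingHom.mem_ker, RingHom.comp_apply]
    constructor
    · intro h
      have : (Ideal.Quotient.mk p) a = 0 := hfinj (by rw [map_zero]; exact h)
      exact Ideal.Quotient.eq_zero_iff_mem.mp this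
    · intro h
      rw [Ideal.Quotient.eq_zero_iff_mem.mpr h, map_zero]
  · ext c
    have h1 : (Ideal.Quotient.mk p) (algebraMap C A c) =
        algebraMap (C ⧸ p.under C) (A ⧸ p) (Ideal.Quotient.mk _ c) := rfl
    rw [RingHom.comp_apply, RingHom.comp_apply, h1]
    have := f.commutes (Ideal.Quotient.mk _ c)
    exact this

end Lift

end Groth.Agent.R2.H33.RetNorm
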