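import Mathlib
import Groth.Prelude.Def_Grpd
import Groth.Agent.S1879
import Groth.Agent.S1880
import Groth.Agent.R2.H33RetNorm

/-!
# Orbits of a finite locally free affine groupoid (helper33)

For a groupoid scheme `G` with `U`, `R` affine and `s` finite locally free:
* `exists_XY` : the "translation matrices" relating `τ`- and `σ`-base changes of a retract;
* `exists_kpoint` : for `k` algebraically closed, two ring homs `Γ(U) → k` agreeing on the invariants are
  `ρ ∘ t♯`, `ρ ∘ s♯` for some `ρ : Γ(R) → k`;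
* `exists_prime` : two primes of `Γ(U)` with the same contraction to the invariants are `t♯⁻¹𝔓`, `s♯⁻¹𝔓`;
* scheme-level versions for `G.toQuot`.
-/

set_option autoImplicit false
set_option linter.style.haveILetI false
set_option linter.unusedSectionVars false
universe u

open CategoryTheory CategoryTheory.Limits AlgebraicGeometry TensorProduct Polynomial
open Groth.Agent.Lib.Helper2.RetCharpoly Groth.Agent.R2.H33.RetNorm
open Grpd

namespace Groth.Agent.R2.H33.GrpdOrbit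

theorem exists_ret_bc_cat {R S T P : CommRingCat.{u}} {f : R ⟶ S} {g : R ⟶ T} {inl : S ⟶ P}
    {inr : T ⟶ P} (h : IsPushout f g inl inr) (n : ℕ)
    (r : letI := f.hom.toAlgebra; Ret R S n) :
    letI := inr.hom.toAlgebra
    ∃ r' : Ret T P n, ∀ b : S,
      mat r' (Algebra.lmul T P (inl.hom b)) =
        (letI := f.hom.toAlgebra; (mat r (Algebra.lmul R S b))).map g.hom := by
  algebraize [f.hom, g.hom, inl.hom, inr.hom, inl.hom.comp f.hom]
  have : IsScalarTower R T P := .of_algebraMap_eq' <| congr($(h.1.1).hom)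
  have h1 : Algebra.IsPushout R S T P := CommRingCat.isPushout_iff_isPushout.mp h
  have h2 : Algebra.IsPushout R T S P := h1.symm
  exact ⟨r.bc, fun b => bc_mat r b⟩

variable {S : Scheme.{u}} (G : Grpd.GroupoidScheme S)

theorem exists_XY [IsAffine G.U] [IsAffine G.R] [IsFinite G.s] [Flat G.s]
    [LocallyOfFinitePresentation G.s] :
    letI := G.s.appTop.hom.toAlgebra
    ∃ (n : ℕ) (r : Ret Γ(G.U, ⊤) Γ(G.R, ⊤) n)
      (X : Γ(G.U, ⊤) → Matrix (Fin n) (Fin n) Γ(G.R, ⊤)) (Y : Matrix (Fin n) (Fin n) Γ(G.R, ⊤)),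
      ∀ a, (mat r (Algebra.lmul Γ(G.U, ⊤) Γ(G.R, ⊤) (G.t.appTop.hom a))).map G.t.appTop.hom = X a * Y ∧
        (mat r (Algebra.lmul Γ(G.U, ⊤) Γ(G.R, ⊤) (G.t.appTop.hom a))).map
          (algebraMap Γ(G.U, ⊤) Γ(G.R, ⊤)) = Y * X a := by
  letI := G.s.appTop.hom.toAlgebra
  have hfin : Module.Finite Γ(G.U, ⊤) Γ(G.R, ⊤) := G.s.finite_appTop
  have hflat : Module.Flat Γ(G.U, ⊤) Γ(G.R, ⊤) := G.s.flat_appTop
  have hfp : Algebra.FinitePresentation Γ(G.U, ⊤) Γ(G.R, ⊤) := G.s.finitePresentation_appTop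
  have : Module.FinitePresentation Γ(G.U, ⊤) Γ(G.R, ⊤) :=
    Module.FinitePresentation.of_finite_of_finitePresentation _ _
  have hproj : Module.Projective Γ(G.U, ⊤) Γ(G.R, ⊤) :=
    Module.Flat.projective_of_finitePresentation
  obtain ⟨n, ⟨r⟩⟩ := exists_ret Γ(G.U, ⊤) Γ(G.R, ⊤)
  have hP1 := isPushout_appTop_of_isPullback (IsPullback.of_hasPullback G.s G.t)
  have hP2 := isPushout_appTop_of_isPullback (Groth.Agent.S1880.isPullback_c G)
  obtain ⟨r₁, h₁⟩ := exists_ret_bc_cat hP1 n r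
  obtain ⟨r₂, h₂⟩ := exists_ret_bc_cat hP2 n r
  letI := (pullback.snd G.s G.t).appTop.hom.toAlgebra
  have hcτ : ∀ a, G.c.appTop.hom (G.t.appTop.hom a) =
      (pullback.fst G.s G.t).appTop.hom (G.t.appTop.hom a) := by
    intro a
    have := congrArg (fun φ : pullback G.s G.t ⟶ G.U => φ.appTop.hom a) (Groth.Agent.S1880.c_t G)
    simpa [Scheme.Hom.comp_appTop] using this
  refine ⟨n, r, fun a => LinearMap.toMatrix' (r₁.i ∘ₗ
    (Algebra.lmul Γ(G.R, ⊤) Γ(pullback G.s G.t, ⊤)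
      ((pullback.fst G.s G.t).appTop.hom (G.t.appTop.hom a))) ∘ₗ r₂.p),
    LinearMap.toMatrix' (r₂.i ∘ₗ r₁.p), ?_⟩
  intro a
  constructor
  · rw [trans_mul₁]
    exact (h₁ (G.t.appTop.hom a)).symm
  · rw [trans_mul₂, ← hcτ]
    exact (h₂ (G.t.appTop.hom a)).symm

section Ring
variable [IsAffine G.U] [IsAffine G.R] [IsFinite G.s] [Flat G.s] [LocallyOfFinitePresentation G.s]

theorem mem_invariants_iff (c : Γ(G.U, ⊤)) :
    c ∈ G.invariants ↔ G.s.appTop.hom c = G.t.appTop.hom c := Iff.rfl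

/-- For `k` algebraically closed, two ring homs `Γ(U) → k` agreeing on the invariants are
`ρ ∘ t♯` and `ρ ∘ s♯` for some `ρ : Γ(R) → k`. -/
theorem exists_kpoint (k : Type u) [Field k] [IsAlgClosed k] (x₀ x₁ : Γ(G.U, ⊤) →+* k)
    (hx : ∀ c ∈ G.invariants, x₀ c = x₁ c) :
    ∃ ρ : Γ(G.R, ⊤) →+* k, ρ.comp G.t.appTop.hom = x₀ ∧ ρ.comp G.s.appTop.hom = x₁ := by
  letI := G.s.appTop.hom.toAlgebra
  obtain ⟨n, r, X, Y, hXY⟩ := exists_XY G
  have hεσ : ∀ a, G.e.appTop.hom (algebraMap Γ(G.U, ⊤) Γ(G.R, ⊤) a) = a := by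
    intro a
    change G.e.appTop.hom (G.s.appTop.hom a) = a
    have := congrArg (fun φ : G.U ⟶ G.U => φ.appTop.hom a) G.e_s
    simpa [Scheme.Hom.comp_appTop] using this
  have hετ : ∀ a, G.e.appTop.hom (G.t.appTop.hom a) = a := by
    intro a
    have := congrArg (fun φ : G.U ⟶ G.U => φ.appTop.hom a) G.e_t
    simpa [Scheme.Hom.comp_appTop] using this
  exact exists_point_of_eq_on_invariants G.t.appTop.hom G.e.appTop.hom hεσ hετ r X Y hXY k x₀ x₁
    (fun c hc => hx c hc)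

/-- Two primes of `Γ(U)` with the same contraction to the invariants are `t♯⁻¹ P` and `s♯⁻¹ P` for a
prime `P` of `Γ(R)`. -/
theorem exists_prime (p₀ p₁ : Ideal Γ(G.U, ⊤)) [p₀.IsPrime] [p₁.IsPrime]
    (h : p₀.comap G.invariants.subtype = p₁.comap G.invariants.subtype) :
    ∃ P : Ideal Γ(G.R, ⊤), P.IsPrime ∧ P.comap G.t.appTop.hom = p₀ ∧
      P.comap G.s.appTop.hom = p₁ := by
  have hint : Algebra.IsIntegral G.invariants Γ(G.U, ⊤) := Groth.Agent.S1879.main S G
  let c : Ideal G.invariants := p₀.comap G.invariants.subtype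
  have hcprime : c.IsPrime := Ideal.comap_isPrime _ _
  let K := FractionRing (G.invariants ⧸ c)
  let k := AlgebraicClosure K
  let m : G.invariants →+* k :=
    (algebraMap K k).comp ((algebraMap (G.invariants ⧸ c) K).comp (Ideal.Quotient.mk c))
  have hm : RingHom.ker m = c := by
    ext a
    rw [RingHom.mem_ker]
    simp only [m, RingHom.comp_apply]
    rw [map_eq_zero_iff _ (algebraMap K k).injective,
      map_eq_zero_iff _ (IsFractionRing.injective (G.invariants ⧸ c) K),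
      Ideal.Quotient.eq_zero_iff_mem]
  obtain ⟨x₀, hx₀, hx₀m⟩ := exists_hom_of_integral p₀ k m hm
  obtain ⟨x₁, hx₁, hx₁m⟩ := exists_hom_of_integral p₁ k m (hm.trans h)
  obtain ⟨ρ, hρt, hρs⟩ := exists_kpoint G k x₀ x₁ (fun a ha => by
    have e0 := congrArg (fun φ : G.invariants →+* k => φ ⟨a, ha⟩) hx₀m
    have e1 := congrArg (fun φ : G.invariants →+* k => φ ⟨a, ha⟩) hx₁m
    exact e0.trans e1.symm)
  refine ⟨RingHom.ker ρ, RingHom.ker_isPrime ρ, ?_, ?_⟩
  · rw [← hx₀, ← hρt]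
    rfl
  · rw [← hx₁, ← hρs]
    rfl

end Ring

section Sch

/-- `U → M = Spec C` coequalizes `s` and `t`. -/
theorem t_toQuot : G.t ≫ G.toQuot = G.s ≫ G.toQuot := by
  unfold GroupoidScheme.toQuot
  rw [Scheme.toSpecΓ_naturality_assoc, Scheme.toSpecΓ_naturality_assoc, ← Spec.map_comp,
    ← Spec.map_comp]
  congr 2
  ext c
  exact c.2.symm

theorem toQuot_apply (u : G.U) :
    (G.toQuot u : PrimeSpectrum G.invariants).asIdeal =
      ((G.U.toSpecΓ u : PrimeSpectrum Γ(G.U, ⊤)).asIdeal).comap G.invariants.subtype := rfl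

theorem toSpecΓ_t_apply (r : G.R) :
    (G.U.toSpecΓ (G.t r) : PrimeSpectrum Γ(G.U, ⊤)).asIdeal =
      ((G.R.toSpecΓ r : PrimeSpectrum Γ(G.R, ⊤)).asIdeal).comap G.t.appTop.hom := by
  have := congrArg (fun φ : G.R ⟶ Spec Γ(G.U, ⊤) => (φ r : PrimeSpectrum Γ(G.U, ⊤)).asIdeal)
    (Scheme.toSpecΓ_naturality G.t)
  exact this

theorem toSpecΓ_s_apply (r : G.R) :
    (G.U.toSpecΓ (G.s r) : PrimeSpectrum Γ(G.U, ⊤)).asIdeal =
      ((G.R.toSpecΓ r : PrimeSpectrum Γ(G.R, ⊤)).asIdeal).comap G.s.appTop.hom := by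
  have := congrArg (fun φ : G.R ⟶ Spec Γ(G.U, ⊤) => (φ r : PrimeSpectrum Γ(G.U, ⊤)).asIdeal)
    (Scheme.toSpecΓ_naturality G.s)
  exact this

variable [IsAffine G.U] [IsAffine G.R] [IsFinite G.s] [Flat G.s] [LocallyOfFinitePresentation G.s]

theorem toSpecΓ_injective (X : Scheme.{u}) [IsAffine X] : Function.Injective X.toSpecΓ :=
  X.toSpecΓ.homeomorph.injective

theorem toSpecΓ_surjective (X : Scheme.{u}) [IsAffine X] : Function.Surjective X.toSpecΓ :=
  X.toSpecΓ.homeomorph.surjective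

/-- (1a) `U → M` is surjective. -/
theorem toQuot_surjective : Function.Surjective G.toQuot := by
  have hint : Algebra.IsIntegral G.invariants Γ(G.U, ⊤) := Groth.Agent.S1879.main S G
  intro y
  let c : Ideal G.invariants := (y : PrimeSpectrum G.invariants).asIdeal
  have hc : c.IsPrime := (y : PrimeSpectrum G.invariants).isPrime
  obtain ⟨Q, -, hQ, hQc⟩ := Ideal.exists_ideal_over_prime_of_isIntegral c
    (⊥ : Ideal Γ(G.U, ⊤)) (by
      intro a ha
      rw [Ideal.mem_comap, Ideal.mem_bot] at ha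
      have : a = 0 := Subtype.ext ha
      rw [this]
      exact Ideal.zero_mem _)
  obtain ⟨u, hu⟩ := toSpecΓ_surjective G.U (⟨Q, hQ⟩ : PrimeSpectrum Γ(G.U, ⊤))
  refine ⟨u, ?_⟩
  apply PrimeSpectrum.ext
  rw [toQuot_apply, hu]
  exact hQc

/-- (1b) the fibres of `U → M` are the orbits. -/
theorem toQuot_eq_iff (u₀ u₁ : G.U) :
    G.toQuot u₀ = G.toQuot u₁ ↔ ∃ r : G.R, G.t r = u₀ ∧ G.s r = u₁ := by
  constructor
  · intro h
    have h' := congrArg (fun y : PrimeSpectrum G.invariants => y.asIdeal) h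
    simp only [toQuot_apply] at h'
    obtain ⟨P, hP, hPt, hPs⟩ := exists_prime G _ _ h'
    obtain ⟨r, hr⟩ := toSpecΓ_surjective G.R (⟨P, hP⟩ : PrimeSpectrum Γ(G.R, ⊤))
    refine ⟨r, ?_, ?_⟩
    · apply toSpecΓ_injective G.U
      apply PrimeSpectrum.ext
      rw [toSpecΓ_t_apply, hr]
      exact hPt
    · apply toSpecΓ_injective G.U
      apply PrimeSpectrum.ext
      rw [toSpecΓ_s_apply, hr]
      exact hPs
  · rintro ⟨r, rfl, rfl⟩
    have := congrArg (fun φ : G.R ⟶ Spec (CommRingCat.of G.invariants) => φ r) (t_toQuot G)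
    exact this

/-- a `k`-point of an affine scheme from a ring hom -/
noncomputable def ptOf (X : Scheme.{u}) [IsAffine X] {k : Type u} [Field k] (φ : Γ(X, ⊤) →+* k) :
    Spec (CommRingCat.of k) ⟶ X :=
  Spec.map (CommRingCat.ofHom φ) ≫ X.isoSpec.inv

theorem ptOf_toSpecΓ (X : Scheme.{u}) [IsAffine X] {k : Type u} [Field k] (φ : Γ(X, ⊤) →+* k) :
    ptOf X φ ≫ X.toSpecΓ = Spec.map (CommRingCat.ofHom φ) := by
  rw [ptOf, Category.assoc, Scheme.isoSpec_inv_toSpecΓ]
  exact Category.comp_id _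

/-- the ring hom of a `k`-point of an affine scheme -/
noncomputable def homOf (X : Scheme.{u}) {k : Type u} [Field k]
    (x : Spec (CommRingCat.of k) ⟶ X) : Γ(X, ⊤) →+* k :=
  (Spec.preimage (x ≫ X.toSpecΓ)).hom

theorem map_homOf (X : Scheme.{u}) {k : Type u} [Field k]
    (x : Spec (CommRingCat.of k) ⟶ X) :
    Spec.map (CommRingCat.ofHom (homOf X x)) = x ≫ X.toSpecΓ := by
  simp [homOf]

theorem homOf_comp {X Y : Scheme.{u}} {k : Type u} [Field k]
    (x : Spec (CommRingCat.of k) ⟶ X) (f : X ⟶ Y) :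
    homOf Y (x ≫ f) = (homOf X x).comp f.appTop.hom := by
  have h1 : Spec.map (CommRingCat.ofHom (homOf Y (x ≫ f))) =
      Spec.map (CommRingCat.ofHom ((homOf X x).comp f.appTop.hom)) := by
    rw [map_homOf, Category.assoc, Scheme.toSpecΓ_naturality, ← Category.assoc, ← map_homOf,
      ← Spec.map_comp]
    rfl
  have h2 := Spec.map_injective h1
  exact congrArg CommRingCat.Hom.hom h2

/-- (2a) every `k`-point of `M` lifts to `U`, `k` algebraically closed. -/
theorem exists_lift_kpoint (k : Type u) [Field k] [IsAlgClosed k]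
    (m : Spec (CommRingCat.of k) ⟶ Spec (CommRingCat.of G.invariants)) :
    ∃ x : Spec (CommRingCat.of k) ⟶ G.U, x ≫ G.toQuot = m := by
  have hint : Algebra.IsIntegral G.invariants Γ(G.U, ⊤) := Groth.Agent.S1879.main S G
  let φ : G.invariants →+* k := (Spec.preimage m).hom
  have hφ : Spec.map (CommRingCat.ofHom φ) = m := by simp [φ]
  have hc : (RingHom.ker φ).IsPrime := RingHom.ker_isPrime φ
  obtain ⟨Q, -, hQ, hQc⟩ := Ideal.exists_ideal_over_prime_of_isIntegral (RingHom.ker φ)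
    (⊥ : Ideal Γ(G.U, ⊤)) (by
      intro a ha
      rw [Ideal.mem_comap, Ideal.mem_bot] at ha
      have : a = 0 := Subtype.ext ha
      rw [this]
      exact Ideal.zero_mem _)
  obtain ⟨x, -, hx⟩ := exists_hom_of_integral Q k φ hQc.symm
  refine ⟨ptOf G.U x, ?_⟩
  unfold GroupoidScheme.toQuot
  rw [← Category.assoc, ptOf_toSpecΓ, ← Spec.map_comp, ← hφ]
  congr 1
  ext c
  exact congrArg (fun ψ : G.invariants →+* k => ψ c) hx

/-- (2b) two `k`-points of `U` agree in `M` iff they are target and source of a `k`-point of `R`. -/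
theorem kpoint_toQuot_eq_iff (k : Type u) [Field k] [IsAlgClosed k]
    (x₀ x₁ : Spec (CommRingCat.of k) ⟶ G.U) :
    x₀ ≫ G.toQuot = x₁ ≫ G.toQuot ↔
      ∃ r : Spec (CommRingCat.of k) ⟶ G.R, r ≫ G.t = x₀ ∧ r ≫ G.s = x₁ := by
  constructor
  · intro h
    have h1 : ∀ c ∈ G.invariants, homOf G.U x₀ c = homOf G.U x₁ c := by
      intro c hc
      unfold GroupoidScheme.toQuot at h
      rw [← Category.assoc, ← Category.assoc, ← map_homOf, ← map_homOf, ← Spec.map_comp,
        ← Spec.map_comp] at h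
      have h2 := Spec.map_injective h
      have h3 := congrArg (fun ψ : CommRingCat.of G.invariants ⟶ CommRingCat.of k =>
        ψ.hom ⟨c, hc⟩) h2
      exact h3
    obtain ⟨ρ, hρt, hρs⟩ := exists_kpoint G k _ _ h1
    refine ⟨ptOf G.R ρ, ?_, ?_⟩
    · rw [← cancel_mono G.U.toSpecΓ, Category.assoc, Scheme.toSpecΓ_naturality, ← Category.assoc,
        ptOf_toSpecΓ, ← Spec.map_comp, ← map_homOf, ← hρt]
      rfl
    · rw [← cancel_mono G.U.toSpecΓ, Category.assoc, Scheme.toSpecΓ_naturality, ← Category.assoc,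
        ptOf_toSpecΓ, ← Spec.map_comp, ← map_homOf, ← hρs]
      rfl
  · rintro ⟨r, rfl, rfl⟩
    rw [Category.assoc, Category.assoc, t_toQuot]

end Sch

end Groth.Agent.R2.H33.GrpdOrbit
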