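import Mathlib
import Groth.Prelude.Def_Grpd

/-!
# Package (PATCH) for S1877 (PROJ:grpd-quot)

(A1) `finite_projective_of_local_quasi_basis`, with algebra corollary
  `finite_flat_fp_of_local_quasi_basis`;
(A2) `bijective_of_local_quasi`;
(B) `span_range_t_eq_top`.
-/

set_option autoImplicit false
universe u
open CategoryTheory CategoryTheory.Limits AlgebraicGeometry

namespace Groth.Agent.R2.H33.GrpdPatch

section A2

variable {C N1 N2 : Type u} [CommRing C] [AddCommGroup N1] [Module C N1] [AddCommGroup N2]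
  [Module C N2]

/-- An ideal containing, for each prime `q`, a power of some `f ∉ q`, is everything. -/
theorem ideal_eq_top_of_local {C : Type u} [CommRing C] (I : Ideal C)
    (h : ∀ q : Ideal C, q.IsPrime → ∃ f : C, f ∉ q ∧ ∃ k : ℕ, f ^ k ∈ I) : I = ⊤ := by
  by_contra hI
  obtain ⟨q, hq, hle⟩ := Ideal.exists_le_maximal I hI
  obtain ⟨f, hf, k, hk⟩ := h q hq.isPrime
  exact hf (hq.isPrime.mem_of_pow_mem k (hle hk))

theorem bijective_of_local_quasi (mu : N1 →ₗ[C] N2)
    (h : ∀ q : Ideal C, q.IsPrime → ∃ f : C, f ∉ q ∧ ∃ k : ℕ,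
      (∀ z, mu z = 0 → f ^ k • z = 0) ∧ (∀ b, ∃ z, mu z = f ^ k • b)) :
    Function.Bijective mu := by
  constructor
  · rw [injective_iff_map_eq_zero]
    intro z hz
    have htop : LinearMap.ker (LinearMap.toSpanSingleton C N1 z) = ⊤ := by
      apply ideal_eq_top_of_local
      intro q hq
      obtain ⟨f, hf, k, h1, -⟩ := h q hq
      refine ⟨f, hf, k, ?_⟩
      rw [LinearMap.mem_ker, LinearMap.toSpanSingleton_apply]
      exact h1 z hz
    have h1 : (1 : C) ∈ LinearMap.ker (LinearMap.toSpanSingleton C N1 z) := by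
      rw [htop]; trivial
    rw [LinearMap.mem_ker, LinearMap.toSpanSingleton_apply, one_smul] at h1
    exact h1
  · intro b
    have htop : Submodule.comap (LinearMap.toSpanSingleton C N2 b) (LinearMap.range mu) = ⊤ := by
      apply ideal_eq_top_of_local
      intro q hq
      obtain ⟨f, hf, k, -, h2⟩ := h q hq
      refine ⟨f, hf, k, ?_⟩
      rw [Submodule.mem_comap, LinearMap.toSpanSingleton_apply]
      obtain ⟨z, hz⟩ := h2 b
      exact ⟨z, hz⟩
    have h1 : (1 : C) ∈
        Submodule.comap (LinearMap.toSpanSingleton C N2 b) (LinearMap.range mu) := by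
      rw [htop]; trivial
    rw [Submodule.mem_comap, LinearMap.toSpanSingleton_apply, one_smul] at h1
    exact h1

end A2

section A1

variable {C M : Type u} [CommRing C] [AddCommGroup M] [Module C M]

/-- `g` acts on `M` through a finite "dual family". -/
def Good (C M : Type u) [CommRing C] [AddCommGroup M] [Module C M] (g : C) : Prop :=
  ∃ (ι : Type) (_ : Fintype ι) (x : ι → M) (φ : ι → (M →ₗ[C] C)),
    ∀ m : M, g • m = ∑ j, φ j m • x j

theorem good_zero : Good C M 0 :=
  ⟨PEmpty, inferInstance, PEmpty.elim, PEmpty.elim, fun m => by simp⟩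

theorem good_smul (a : C) {g : C} (hg : Good C M g) : Good C M (a • g) := by
  obtain ⟨ι, _, x, φ, h⟩ := hg
  refine ⟨ι, inferInstance, x, fun j => a • φ j, fun m => ?_⟩
  rw [smul_assoc, h m, Finset.smul_sum]
  refine Finset.sum_congr rfl fun j _ => ?_
  rw [LinearMap.smul_apply, smul_assoc]

theorem good_add {g g' : C} (hg : Good C M g) (hg' : Good C M g') : Good C M (g + g') := by
  obtain ⟨ι, _, x, φ, h⟩ := hg
  obtain ⟨ι', _, x', φ', h'⟩ := hg'
  refine ⟨ι ⊕ ι', inferInstance, Sum.elim x x', Sum.elim φ φ', fun m => ?_⟩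
  rw [add_smul, h m, h' m, Fintype.sum_sum_type]
  rfl

/-- The ideal of good elements. -/
def goodIdeal (C M : Type u) [CommRing C] [AddCommGroup M] [Module C M] : Ideal C where
  carrier := {g | Good C M g}
  add_mem' := good_add
  zero_mem' := good_zero
  smul_mem' := fun a _ hg => good_smul a hg

theorem good_of_quasi_basis (f : C) (k r : ℕ) (x : Fin r → M)
    (h1 : ∀ c : Fin r → C, (∑ j, c j • x j) = 0 → ∀ j, f ^ k * c j = 0)
    (h2 : ∀ m : M, ∃ c : Fin r → C, f ^ k • m = ∑ j, c j • x j) :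
    Good C M (f ^ (k + k)) := by
  choose c hc using h2
  have key : ∀ (m : M) (c' : Fin r → C), f ^ k • m = ∑ j, c' j • x j →
      ∀ j, f ^ k * c m j = f ^ k * c' j := by
    intro m c' hc' j
    have h0 : (∑ j, (c m j - c' j) • x j) = 0 := by
      simp only [sub_smul, Finset.sum_sub_distrib]
      rw [← hc m, ← hc', sub_self]
    have := h1 _ h0 j
    rw [mul_sub, sub_eq_zero] at this
    exact this
  let φ : Fin r → (M →ₗ[C] C) := fun j =>
    { toFun := fun m => f ^ k * c m j
      map_add' := by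
        intro m m'
        rw [← mul_add]
        refine key (m + m') (fun j => c m j + c m' j) ?_ j
        simp only [add_smul, Finset.sum_add_distrib]
        rw [← hc m, ← hc m', smul_add]
      map_smul' := by
        intro a m
        rw [RingHom.id_apply, smul_eq_mul, mul_left_comm]
        refine key (a • m) (fun j => a * c m j) ?_ j
        simp only [mul_smul]
        rw [← Finset.smul_sum, ← hc m, smul_comm] }
  refine ⟨Fin r, inferInstance, x, φ, fun m => ?_⟩
  rw [pow_add, mul_smul, hc m, Finset.smul_sum]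
  refine Finset.sum_congr rfl fun j _ => ?_
  rw [smul_smul]
  rfl

theorem finite_projective_of_good_one (h : Good C M 1) :
    Module.Finite C M ∧ Module.Projective C M := by
  obtain ⟨ι, _, x, φ, h⟩ := h
  let i : M →ₗ[C] (ι → C) := LinearMap.pi φ
  let s : (ι → C) →ₗ[C] M := Fintype.linearCombination C x
  have hs : s.comp i = LinearMap.id := by
    ext m
    have := h m
    rw [one_smul] at this
    simp only [LinearMap.comp_apply, LinearMap.id_apply, s, i, Fintype.linearCombination_apply,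
      LinearMap.pi_apply]
    exact this.symm
  have hsurj : Function.Surjective s := fun m => ⟨i m, LinearMap.congr_fun hs m⟩
  exact ⟨Module.Finite.of_surjective s hsurj, Module.Projective.of_split i s hs⟩

theorem finite_projective_of_local_quasi_basis
    (h : ∀ q : Ideal C, q.IsPrime → ∃ f : C, f ∉ q ∧ ∃ (k r : ℕ) (x : Fin r → M),
      (∀ c : Fin r → C, (∑ j, c j • x j) = 0 → ∀ j, f ^ k * c j = 0) ∧
      (∀ m : M, ∃ c : Fin r → C, f ^ k • m = ∑ j, c j • x j)) :
    Module.Finite C M ∧ Module.Projective C M := by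
  apply finite_projective_of_good_one
  have htop : goodIdeal C M = ⊤ := by
    apply ideal_eq_top_of_local
    intro q hq
    obtain ⟨f, hf, k, r, x, h1, h2⟩ := h q hq
    exact ⟨f, hf, k + k, good_of_quasi_basis f k r x h1 h2⟩
  have : (1 : C) ∈ goodIdeal C M := by rw [htop]; trivial
  exact this

theorem finite_flat_fp_of_local_quasi_basis {C A : Type u} [CommRing C] [CommRing A]
    [Algebra C A]
    (h : ∀ q : Ideal C, q.IsPrime → ∃ f : C, f ∉ q ∧ ∃ (k r : ℕ) (x : Fin r → A),
      (∀ c : Fin r → C, (∑ j, c j • x j) = 0 → ∀ j, f ^ k * c j = 0) ∧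
      (∀ m : A, ∃ c : Fin r → C, f ^ k • m = ∑ j, c j • x j)) :
    (algebraMap C A).Finite ∧ (algebraMap C A).Flat ∧ (algebraMap C A).FinitePresentation := by
  obtain ⟨hfin, hproj⟩ := finite_projective_of_local_quasi_basis h
  have hfp : Module.FinitePresentation C A := Module.finitePresentation_of_projective C A
  refine ⟨RingHom.finite_algebraMap.mpr hfin, RingHom.flat_algebraMap_iff.mpr inferInstance,
    RingHom.finitePresentation_algebraMap.mpr inferInstance⟩

end A1

section B

variable {S : Scheme.{u}} (G : Grpd.GroupoidScheme S)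

/-- If `j = (t, s)` is a monomorphism and `R` is affine, ring maps out of `Γ(R)` are determined
by their composites with `s♯` and `t♯`. -/
theorem hom_ext_of_mono_j [IsAffine G.U] [IsAffine G.R] [Mono G.j] {T : CommRingCat.{u}}
    (φ ψ : Γ(G.R, ⊤) ⟶ T) (hs : G.s.appTop ≫ φ = G.s.appTop ≫ ψ)
    (ht : G.t.appTop ≫ φ = G.t.appTop ≫ ψ) : φ = ψ := by
  have key : ∀ (f : G.R ⟶ G.U) (χ : Γ(G.R, ⊤) ⟶ T),
      Spec.map χ ≫ G.R.isoSpec.inv ≫ f ≫ G.U.toSpecΓ = Spec.map (f.appTop ≫ χ) := by
    intro f χ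
    rw [Scheme.toSpecΓ_naturality, Scheme.isoSpec_inv_toSpecΓ_assoc, Spec.map_comp]
  have hs' : (Spec.map φ ≫ G.R.isoSpec.inv) ≫ G.s = (Spec.map ψ ≫ G.R.isoSpec.inv) ≫ G.s := by
    rw [← cancel_mono G.U.toSpecΓ]
    simp only [Category.assoc]
    rw [key, key, hs]
  have ht' : (Spec.map φ ≫ G.R.isoSpec.inv) ≫ G.t = (Spec.map ψ ≫ G.R.isoSpec.inv) ≫ G.t := by
    rw [← cancel_mono G.U.toSpecΓ]
    simp only [Category.assoc]
    rw [key, key, ht]
  have hjt : G.j ≫ pullback.fst _ _ = G.t := pullback.lift_fst _ _ _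
  have hjs : G.j ≫ pullback.snd _ _ = G.s := pullback.lift_snd _ _ _
  have hj : (Spec.map φ ≫ G.R.isoSpec.inv) ≫ G.j = (Spec.map ψ ≫ G.R.isoSpec.inv) ≫ G.j := by
    apply pullback.hom_ext
    · simp only [Category.assoc, hjt] at ht' ⊢; exact ht'
    · simp only [Category.assoc, hjs] at hs' ⊢; exact hs'
  have h1 := (cancel_mono G.j).mp hj
  have h2 := (cancel_mono G.R.isoSpec.inv).mp h1
  exact Spec.map_injective h2

theorem span_range_t_eq_top [IsAffine G.U] [IsAffine G.R] [IsFinite G.s] [Mono G.j] :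
    letI := G.s.appTop.hom.toAlgebra
    Submodule.span Γ(G.U, ⊤) (Set.range G.t.appTop.hom) = ⊤ := by
  let _ := G.s.appTop.hom.toAlgebra
  show Submodule.span Γ(G.U, ⊤) (Set.range G.t.appTop.hom) = ⊤
  have hfin : Module.Finite Γ(G.U, ⊤) Γ(G.R, ⊤) := G.s.finite_appTop
  let D : Subalgebra Γ(G.U, ⊤) Γ(G.R, ⊤) := Algebra.adjoin Γ(G.U, ⊤) (Set.range G.t.appTop.hom)
  let ι : CommRingCat.of D ⟶ Γ(G.R, ⊤) := CommRingCat.ofHom D.val.toRingHom
  have hepi : Epi ι := by
    refine ⟨fun {T} φ ψ hφψ => ?_⟩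
    apply hom_ext_of_mono_j G
    · ext a
      have := congrArg (fun χ => χ.hom (algebraMap Γ(G.U, ⊤) D a)) hφψ
      exact this
    · ext a
      have := congrArg (fun χ => χ.hom
        (⟨G.t.appTop.hom a, Algebra.subset_adjoin ⟨a, rfl⟩⟩ : D)) hφψ
      exact this
  have hfinD : Module.Finite D Γ(G.R, ⊤) := Module.Finite.of_restrictScalars_finite Γ(G.U, ⊤) D _
  have hfinι : ι.hom.Finite := by
    have : ι.hom = algebraMap D Γ(G.R, ⊤) := rfl
    rw [this]
    exact RingHom.finite_algebraMap.mpr hfinD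
  have hsurj := RingHom.surjective_of_epi_of_finite ι hfinι
  rw [eq_top_iff]
  intro b _
  obtain ⟨d, rfl⟩ := hsurj b
  have hd : (d : Γ(G.R, ⊤)) ∈ Subalgebra.toSubmodule D := d.2
  rw [Algebra.adjoin_eq_span] at hd
  have hcl : (Submonoid.closure (Set.range G.t.appTop.hom) : Set Γ(G.R, ⊤)) =
      Set.range G.t.appTop.hom := by
    have : Set.range G.t.appTop.hom =
        ((MonoidHom.mrange G.t.appTop.hom.toMonoidHom : Submonoid Γ(G.R, ⊤)) :
          Set Γ(G.R, ⊤)) := rfl
    rw [this, Submonoid.closure_eq]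
  rw [hcl] at hd
  exact hd

end B

end Groth.Agent.R2.H33.GrpdPatch
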