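import Mathlib
import Groth.Prelude.Def_Grpd

/-!
# Scheme-level translation for the finite flat quotient of an affine groupoid (helper33)

Package (P4) of PROJ:grpd-quot: from ring-level facts about `C = G.invariants ⊆ A = Γ(U)` and `B = Γ(R)`
(`A` finite, flat, of finite presentation over `C`; the square `C → A ⇉ B` (`t♯`, `s♯`) a pushout of
commutative rings, e.g. `A ⊗[C] A → B`, `a ⊗ a' ↦ t♯ a * s♯ a'` bijective) deduce the scheme-level
conclusion of S1877: `U → M = Spec C` is finite locally free and `(t, s) : R ≅ U ×_M U`.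
-/

set_option autoImplicit false
universe u

open CategoryTheory CategoryTheory.Limits AlgebraicGeometry TensorProduct
open Grpd

namespace Groth.Agent.R2.H33.GrpdQuotSch

variable {S : Scheme.{u}} (G : Grpd.GroupoidScheme S)

/-- `toQuot` is finite / flat / of finite presentation iff the inclusion `C ⊆ Γ(U)` is. -/
theorem isFinite_toQuot [IsAffine G.U] (h : (G.invariants.subtype).Finite) : IsFinite G.toQuot := by
  unfold GroupoidScheme.toQuot
  have : IsFinite (Spec.map (CommRingCat.ofHom G.invariants.subtype)) :=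
    (IsFinite.SpecMap_iff _).mpr h
  infer_instance

theorem flat_toQuot [IsAffine G.U] (h : (G.invariants.subtype).Flat) : Flat G.toQuot := by
  unfold GroupoidScheme.toQuot
  have : Flat (Spec.map (CommRingCat.ofHom G.invariants.subtype)) := Flat.SpecMap_iff.mpr h
  infer_instance

theorem lfp_toQuot [IsAffine G.U] (h : (G.invariants.subtype).FinitePresentation) :
    LocallyOfFinitePresentation G.toQuot := by
  unfold GroupoidScheme.toQuot
  have : LocallyOfFinitePresentation (Spec.map (CommRingCat.ofHom G.invariants.subtype)) :=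
    (LocallyOfFinitePresentation.SpecMap_iff _).mpr h
  infer_instance

/-- If `C → A ⇉ B` is a pushout square of commutative rings then `R = U ×_M U` via `(t, s)`. -/
theorem isPullback_of_isPushout [IsAffine G.U] [IsAffine G.R]
    (hpo : IsPushout (CommRingCat.ofHom G.invariants.subtype)
      (CommRingCat.ofHom G.invariants.subtype) G.t.appTop G.s.appTop) :
    IsPullback G.t G.s G.toQuot G.toQuot := by
  have h1 := isPullback_SpecMap_of_isPushout _ _ _ _ hpo
  unfold GroupoidScheme.toQuot
  refine IsPullback.of_iso h1 G.R.isoSpec.symm G.U.isoSpec.symm G.U.isoSpec.symm (Iso.refl _)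
    ?_ ?_ ?_ ?_
  · simp only [Iso.symm_hom]
    exact Scheme.isoSpec_inv_naturality G.t
  · simp only [Iso.symm_hom]
    exact Scheme.isoSpec_inv_naturality G.s
  · simp only [Iso.symm_hom, Iso.refl_hom, Category.comp_id]
    rw [← Category.assoc, Scheme.isoSpec_inv_toSpecΓ]
    exact (Category.id_comp _).symm
  · simp only [Iso.symm_hom, Iso.refl_hom, Category.comp_id]
    rw [← Category.assoc, Scheme.isoSpec_inv_toSpecΓ]
    exact (Category.id_comp _).symm

/-- **(P4)** the scheme-level conclusion of S1877 from the ring-level facts. -/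
theorem finite_flat_quotient_of_isPushout [IsAffine G.U] [IsAffine G.R]
    (hfin : (G.invariants.subtype).Finite) (hflat : (G.invariants.subtype).Flat)
    (hfp : (G.invariants.subtype).FinitePresentation)
    (hpo : IsPushout (CommRingCat.ofHom G.invariants.subtype)
      (CommRingCat.ofHom G.invariants.subtype) G.t.appTop G.s.appTop) :
    (IsFinite G.toQuot ∧ Flat G.toQuot ∧ LocallyOfFinitePresentation G.toQuot) ∧
      ∃ φ : G.R ≅ pullback G.toQuot G.toQuot,
        φ.hom ≫ pullback.fst G.toQuot G.toQuot = G.t ∧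
          φ.hom ≫ pullback.snd G.toQuot G.toQuot = G.s := by
  refine ⟨⟨isFinite_toQuot G hfin, flat_toQuot G hflat, lfp_toQuot G hfp⟩, ?_⟩
  have hpb := isPullback_of_isPushout G hpo
  exact ⟨hpb.isoPullback, hpb.isoPullback_hom_fst, hpb.isoPullback_hom_snd⟩

/-- The pushout square from bijectivity of `A ⊗[C] A → B`, `a ⊗ a' ↦ t♯ a * s♯ a'`. -/
theorem isPushout_of_bijective
    (μ : Γ(G.U, ⊤) ⊗[G.invariants] Γ(G.U, ⊤) →+* Γ(G.R, ⊤))
    (hμ : ∀ a a', μ (a ⊗ₜ a') = G.t.appTop.hom a * G.s.appTop.hom a')
    (hbij : Function.Bijective μ) :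
    IsPushout (CommRingCat.ofHom G.invariants.subtype)
      (CommRingCat.ofHom G.invariants.subtype) G.t.appTop G.s.appTop := by
  have h0 := CommRingCat.isPushout_tensorProduct G.invariants Γ(G.U, ⊤) Γ(G.U, ⊤)
  let e : Γ(G.U, ⊤) ⊗[G.invariants] Γ(G.U, ⊤) ≃+* Γ(G.R, ⊤) := RingEquiv.ofBijective μ hbij
  refine h0.of_iso (Iso.refl _) (Iso.refl _) (Iso.refl _) e.toCommRingCatIso ?_ ?_ ?_ ?_
  · simp only [Iso.refl_hom, Category.comp_id, Category.id_comp]
    rfl
  · simp only [Iso.refl_hom, Category.comp_id, Category.id_comp]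
    rfl
  · ext a
    simp only [Iso.refl_hom, Category.id_comp]
    change μ (a ⊗ₜ 1) = G.t.appTop.hom a
    rw [hμ, map_one, mul_one]
  · ext a
    simp only [Iso.refl_hom, Category.id_comp]
    change μ (1 ⊗ₜ a) = G.s.appTop.hom a
    rw [hμ, map_one, one_mul]

end Groth.Agent.R2.H33.GrpdQuotSch
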