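import Mathlib
import Groth.Agent.Lib.Helper2RetCharpoly

/-!
# Determinant-type norms for finite projective algebras via a retraction (helper53)

For an `R`-algebra `S` and a retraction `ρ : Ret R S n` (`S ⊕ Q ≅ R^n`), `mat ρ b` is the matrix of
`i ∘ (b·) ∘ p` (multiplication by `b` extended by zero on `Q`).  It is additive, multiplicative and
`R`-linear in `b`; `mat ρ 1 = Π` is the projector onto `S`.

* `nmF ρ φ k s = det (1 + ∑ j, k j • (mat ρ (s j)).map φ)` for a ring map `φ : R →+* K` and finite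
  families `k : ι → K`, `s : ι → S`.  It does not depend on the retraction (`nmF_eq`, Sylvester),
  commutes with ring maps (`map_nmF`) and with base change of the retraction (`nmF_of_mat`).
* `nm ρ b = det (1 - Π + mat ρ b)` (the norm of `b`): multiplicative, `nm 1 = 1`, and
  `algebraMap (nm ρ b) ∈ b S` (`nm_dvd`).
* `rankPoly ρ = det (1 + (X - 1) Π) = ∑ e_r X^r` with `e_r` orthogonal idempotents summing to `1`
  (`rankIdem`), `eval a (rankPoly) = det (1 + (a - 1) Π)`.
-/

set_option autoImplicit false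
set_option linter.style.haveILetI false
set_option linter.unusedSectionVars false
universe u

open CategoryTheory CategoryTheory.Limits Polynomial Matrix
open Groth.Agent.Lib.Helper2.RetCharpoly

namespace Groth.Agent.R2.H53.PNorm

section Mat
variable {R S : Type*} [CommRing R] [CommRing S] [Algebra R S] {n : ℕ}

/-- matrix of `i ∘ (b·) ∘ p` -/
noncomputable def mat (ρ : Ret R S n) (b : S) : Matrix (Fin n) (Fin n) R :=
  LinearMap.toMatrix' (ρ.endo (Algebra.lmul R S b))

theorem mat_apply (ρ : Ret R S n) (b : S) (j k : Fin n) :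
    mat ρ b j k = ρ.i (b * ρ.p (Pi.single k 1)) j := by
  simp [mat, LinearMap.toMatrix'_apply, Ret.endo]

theorem mat_add (ρ : Ret R S n) (b b' : S) : mat ρ (b + b') = mat ρ b + mat ρ b' := by
  ext j k
  simp [mat_apply, add_mul]

theorem mat_zero (ρ : Ret R S n) : mat ρ (0 : S) = 0 := by
  ext j k
  simp [mat_apply]

theorem mat_neg (ρ : Ret R S n) (b : S) : mat ρ (-b) = -mat ρ b := by
  ext j k
  simp [mat_apply]

theorem mat_sub (ρ : Ret R S n) (b b' : S) : mat ρ (b - b') = mat ρ b - mat ρ b' := by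
  rw [sub_eq_add_neg, mat_add, mat_neg, sub_eq_add_neg]

theorem mat_smul (ρ : Ret R S n) (a : R) (b : S) : mat ρ (a • b) = a • mat ρ b := by
  ext j k
  simp [mat_apply]

theorem mat_algebraMap_mul (ρ : Ret R S n) (a : R) (b : S) :
    mat ρ (algebraMap R S a * b) = a • mat ρ b := by
  rw [← Algebra.smul_def, mat_smul]

theorem mat_sum (ρ : Ret R S n) {ι : Type*} (t : Finset ι) (f : ι → S) :
    mat ρ (∑ j ∈ t, f j) = ∑ j ∈ t, mat ρ (f j) := by
  classical
  induction t using Finset.induction_on with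
  | empty => simp [mat_zero]
  | insert a t ha ih => rw [Finset.sum_insert ha, Finset.sum_insert ha, mat_add, ih]

theorem mat_mul (ρ : Ret R S n) (b b' : S) : mat ρ (b * b') = mat ρ b * mat ρ b' := by
  unfold mat
  rw [← LinearMap.toMatrix'_comp]
  congr 1
  ext v j
  simp [Ret.endo, Ret.pi_apply, mul_assoc]

theorem mat_one_mul (ρ : Ret R S n) (b : S) : mat ρ 1 * mat ρ b = mat ρ b := by
  rw [← mat_mul, one_mul]

theorem mat_mul_one (ρ : Ret R S n) (b : S) : mat ρ b * mat ρ 1 = mat ρ b := by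
  rw [← mat_mul, mul_one]

/-- Sylvester data relating two retractions. -/
theorem exists_cross {n1 n2 : ℕ} (ρ1 : Ret R S n1) (ρ2 : Ret R S n2) :
    ∃ (X : Matrix (Fin n1) (Fin n2) R) (Y : S → Matrix (Fin n2) (Fin n1) R),
      (∀ b, mat ρ1 b = X * Y b) ∧ (∀ b, mat ρ2 b = Y b * X) := by
  refine ⟨LinearMap.toMatrix' (ρ1.i ∘ₗ ρ2.p),
    fun b => LinearMap.toMatrix' (ρ2.i ∘ₗ (Algebra.lmul R S b : S →ₗ[R] S) ∘ₗ ρ1.p), ?_, ?_⟩
  · intro b
    unfold mat
    rw [← LinearMap.toMatrix'_comp]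
    congr 1
    ext v j
    simp [Ret.endo, Ret.pi_apply]
  · intro b
    unfold mat
    rw [← LinearMap.toMatrix'_comp]
    congr 1
    ext v j
    simp [Ret.endo, Ret.pi_apply]

end Mat

section NmF
variable {R S : Type*} [CommRing R] [CommRing S] [Algebra R S] {n : ℕ}

/-- `det (1 + ∑ j, k j • φ(mat ρ (s j)))`. -/
noncomputable def nmF {K : Type*} [CommRing K] (ρ : Ret R S n) (φ : R →+* K) {ι : Type*}
    [Fintype ι] (k : ι → K) (s : ι → S) : K :=
  (1 + ∑ j, k j • (mat ρ (s j)).map φ).det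

theorem nmF_eq {K : Type*} [CommRing K] {n1 n2 : ℕ} (ρ1 : Ret R S n1) (ρ2 : Ret R S n2)
    (φ : R →+* K) {ι : Type*} [Fintype ι] (k : ι → K) (s : ι → S) :
    nmF ρ1 φ k s = nmF ρ2 φ k s := by
  obtain ⟨X, Y, h1, h2⟩ := exists_cross ρ1 ρ2
  unfold nmF
  have e1 : (∑ j, k j • (mat ρ1 (s j)).map φ) = X.map φ * ∑ j, k j • (Y (s j)).map φ := by
    rw [Matrix.mul_sum]
    refine Finset.sum_congr rfl fun j _ => ?_
    rw [h1, Matrix.map_mul, Matrix.mul_smul]
  have e2 : (∑ j, k j • (mat ρ2 (s j)).map φ) = (∑ j, k j • (Y (s j)).map φ) * X.map φ := by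
    rw [Matrix.sum_mul]
    refine Finset.sum_congr rfl fun j _ => ?_
    rw [h2, Matrix.map_mul, Matrix.smul_mul]
  rw [e1, e2]
  exact Matrix.det_one_add_mul_comm _ _

theorem map_nmF {K K' : Type*} [CommRing K] [CommRing K'] (θ : K →+* K') (ρ : Ret R S n)
    (φ : R →+* K) {ι : Type*} [Fintype ι] (k : ι → K) (s : ι → S) :
    θ (nmF ρ φ k s) = nmF ρ (θ.comp φ) (θ ∘ k) s := by
  unfold nmF
  rw [RingHom.map_det]
  congr 1
  ext a b
  simp [RingHom.mapMatrix_apply, Matrix.map_apply, Matrix.add_apply, Matrix.sum_apply,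
    Matrix.one_apply, apply_ite]

theorem nmF_of_mat {R' S' : Type*} [CommRing R'] [CommRing S'] [Algebra R' S']
    (ρ : Ret R S n) (ρ' : Ret R' S' n) (g : R →+* R') (inl : S → S')
    (h : ∀ b, mat ρ' (inl b) = (mat ρ b).map g) {K : Type*} [CommRing K] (φ' : R' →+* K)
    {ι : Type*} [Fintype ι] (k : ι → K) (s : ι → S) :
    nmF ρ' φ' k (inl ∘ s) = nmF ρ (φ'.comp g) k s := by
  unfold nmF
  congr 2
  refine Finset.sum_congr rfl fun j _ => ?_
  congr 1
  rw [Function.comp_apply, h]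
  ext a b
  simp

end NmF

section Nm
variable {R S : Type*} [CommRing R] [CommRing S] [Algebra R S] {n : ℕ}

/-- the norm `det (id_Q ⊕ b·)`. -/
noncomputable def nm (ρ : Ret R S n) (b : S) : R := (1 - mat ρ 1 + mat ρ b).det

theorem nm_one (ρ : Ret R S n) : nm ρ 1 = 1 := by
  simp [nm]

theorem nm_mul (ρ : Ret R S n) (b b' : S) : nm ρ (b * b') = nm ρ b * nm ρ b' := by
  unfold nm
  rw [← Matrix.det_mul]
  congr 1
  have h1 := mat_one_mul ρ b'
  have h2 := mat_mul_one ρ b
  have h3 := mat_one_mul ρ 1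
  have h4 := mat_mul ρ b b'
  simp only [Matrix.add_mul, Matrix.mul_add, Matrix.sub_mul, Matrix.mul_sub, Matrix.one_mul,
    Matrix.mul_one, h1, h2, h3, h4]
  abel

theorem nm_eq_nmF (ρ : Ret R S n) (b : S) :
    nm ρ b = nmF ρ (RingHom.id R) ![-1, 1] ![1, b] := by
  unfold nm nmF
  congr 1
  rw [Fin.sum_univ_two]
  simp only [Matrix.cons_val_zero, Matrix.cons_val_one]
  have : ∀ M : Matrix (Fin n) (Fin n) R, M.map (RingHom.id R) = M := fun M => by
    ext a b
    simp
  rw [this, this]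
  simp only [neg_smul, one_smul, sub_eq_add_neg]
  abel

theorem nm_eq {n1 n2 : ℕ} (ρ1 : Ret R S n1) (ρ2 : Ret R S n2) (b : S) : nm ρ1 b = nm ρ2 b := by
  rw [nm_eq_nmF, nm_eq_nmF]
  exact nmF_eq ρ1 ρ2 _ _ _

/-- `b` divides the image of its norm. -/
theorem nm_dvd (ρ : Ret R S n) (b : S) : ∃ b' : S, algebraMap R S (nm ρ b) = b * b' := by
  set T : Matrix (Fin n) (Fin n) R := 1 - mat ρ 1 + mat ρ b with hT
  let v : Fin n → R := ρ.i 1
  let w : Fin n → R := T.adjugate *ᵥ v
  refine ⟨ρ.p w, ?_⟩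
  have h1 : T *ᵥ w = T.det • v := by
    show T *ᵥ (T.adjugate *ᵥ v) = T.det • v
    rw [Matrix.mulVec_mulVec, Matrix.mul_adjugate, Matrix.smul_mulVec, Matrix.one_mulVec]
  have hmv : ∀ (c : S) (x : Fin n → R), ρ.p (mat ρ c *ᵥ x) = c * ρ.p x := by
    intro c x
    have : mat ρ c *ᵥ x = ρ.endo (Algebra.lmul R S c) x := by
      unfold mat
      rw [LinearMap.toMatrix'_mulVec]
    rw [this]
    simp [Ret.endo, Ret.pi_apply]
  have h2 : ρ.p (T *ᵥ w) = b * ρ.p w := by
    rw [hT, Matrix.add_mulVec, Matrix.sub_mulVec, Matrix.one_mulVec, map_add, map_sub, hmv, hmv]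
    simp
  have h3 : ρ.p (T.det • v) = algebraMap R S T.det := by
    rw [map_smul]
    show T.det • ρ.p (ρ.i 1) = _
    rw [Ret.pi_apply, Algebra.smul_def, mul_one]
  show algebraMap R S T.det = _
  rw [← h3, ← h1, h2]

/-- `det (1 + (X - 1) Π)`. -/
noncomputable def rankPoly (ρ : Ret R S n) : R[X] :=
  nmF ρ (Polynomial.C : R →+* R[X]) (fun _ : Unit => (Polynomial.X - 1 : R[X])) (fun _ => (1 : S))

theorem rankPoly_eq {n1 n2 : ℕ} (ρ1 : Ret R S n1) (ρ2 : Ret R S n2) : rankPoly ρ1 = rankPoly ρ2 :=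
  nmF_eq ρ1 ρ2 _ _ _

/-- evaluation of the rank polynomial. -/
theorem eval₂_rankPoly {K : Type*} [CommRing K] (ρ : Ret R S n) (φ : R →+* K) (a : K) :
    (rankPoly ρ).eval₂ φ a = (1 + (a - 1) • (mat ρ 1).map φ).det := by
  unfold rankPoly
  have := map_nmF (Polynomial.eval₂RingHom φ a) ρ (Polynomial.C : R →+* R[X])
    (fun _ : Unit => (Polynomial.X - 1 : R[X])) (fun _ => (1 : S))
  rw [Polynomial.coe_eval₂RingHom] at this
  rw [this]
  unfold nmF
  congr 2
  rw [Fintype.sum_unique]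
  simp only [Function.comp_apply, Polynomial.eval₂_sub, Polynomial.eval₂_X, Polynomial.eval₂_one]
  congr 1
  ext i j
  simp

theorem eval₂_rankPoly_mul {K : Type*} [CommRing K] (ρ : Ret R S n) (φ : R →+* K) (a a' : K) :
    (rankPoly ρ).eval₂ φ (a * a') = (rankPoly ρ).eval₂ φ a * (rankPoly ρ).eval₂ φ a' := by
  rw [eval₂_rankPoly, eval₂_rankPoly, eval₂_rankPoly, ← Matrix.det_mul]
  congr 1
  have h3 : (mat ρ 1).map φ * (mat ρ 1).map φ = (mat ρ 1).map φ := by
    rw [← Matrix.map_mul, mat_one_mul]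
  simp only [Matrix.add_mul, Matrix.mul_add, Matrix.one_mul, Matrix.mul_one, Matrix.smul_mul,
    Matrix.mul_smul, h3]
  rw [add_assoc]
  congr 1
  rw [smul_add, smul_smul, ← add_smul, ← add_smul]
  congr 1
  ring

theorem eval₂_rankPoly_one {K : Type*} [CommRing K] (ρ : Ret R S n) (φ : R →+* K) :
    (rankPoly ρ).eval₂ φ 1 = 1 := by
  rw [eval₂_rankPoly]
  simp

/-- the rank idempotents. -/
noncomputable def rankIdem (ρ : Ret R S n) (r : ℕ) : R := (rankPoly ρ).coeff r

theorem nm_algebraMap (ρ : Ret R S n) (a : R) : nm ρ (algebraMap R S a) = (rankPoly ρ).eval a := by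
  rw [← Polynomial.eval₂_id, eval₂_rankPoly]
  unfold nm
  congr 1
  have h1 : mat ρ (algebraMap R S a) = a • mat ρ 1 := by
    rw [← mul_one (algebraMap R S a), mat_algebraMap_mul]
  have : (mat ρ 1).map (RingHom.id R) = mat ρ 1 := by
    ext i j
    simp
  rw [h1, this, sub_smul, one_smul]
  abel

theorem rankIdem_mul (ρ : Ret R S n) (r r' : ℕ) :
    rankIdem ρ r' * rankIdem ρ r = if r' = r then rankIdem ρ r else 0 := by
  unfold rankIdem
  set p := rankPoly ρ with hp
  let φ : R →+* R[X][X] := (Polynomial.C).comp Polynomial.C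
  have h := eval₂_rankPoly_mul ρ φ (Polynomial.C Polynomial.X) Polynomial.X
  rw [← hp] at h
  have hR1 : p.eval₂ φ (Polynomial.C Polynomial.X) = Polynomial.C p := by
    have := Polynomial.hom_eval₂ p (Polynomial.C : R →+* R[X]) (Polynomial.C : R[X] →+* R[X][X])
      Polynomial.X
    rw [Polynomial.eval₂_C_X] at this
    exact this.symm
  have hR2 : p.eval₂ φ Polynomial.X = p.map Polynomial.C := rfl
  have hL : (p.eval₂ φ (Polynomial.C Polynomial.X * Polynomial.X)).coeff r =
      Polynomial.C (p.coeff r) * Polynomial.X ^ r := by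
    rw [Polynomial.eval₂_eq_sum_range, Polynomial.finsetSum_coeff]
    have : ∀ i, (φ (p.coeff i) * (Polynomial.C Polynomial.X * Polynomial.X) ^ i).coeff r =
        if r = i then Polynomial.C (p.coeff i) * Polynomial.X ^ i else 0 := by
      intro i
      have e1 : φ (p.coeff i) * (Polynomial.C Polynomial.X * Polynomial.X) ^ i =
          Polynomial.C (Polynomial.C (p.coeff i) * Polynomial.X ^ i) * Polynomial.X ^ i := by
        simp only [φ, RingHom.comp_apply, mul_pow, map_mul, map_pow]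
        ring
      rw [e1, Polynomial.coeff_C_mul_X_pow]
    simp only [this]
    rw [Finset.sum_ite_eq]
    split_ifs with hr
    · rfl
    · rw [Finset.mem_range, not_lt, Nat.succ_le_iff] at hr
      rw [Polynomial.coeff_eq_zero_of_natDegree_lt hr]
      simp
  have h2 := congrArg (fun q : R[X][X] => (q.coeff r).coeff r') h
  simp only [hL, hR1, hR2, Polynomial.coeff_C_mul, Polynomial.coeff_map,
    Polynomial.coeff_mul_C] at h2
  rw [← h2, Polynomial.coeff_X_pow]
  split_ifs <;> simp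

theorem rankIdem_isIdempotentElem (ρ : Ret R S n) (r : ℕ) :
    IsIdempotentElem (rankIdem ρ r) := by
  have := rankIdem_mul ρ r r
  show _ * _ = _
  simpa using this

theorem rankIdem_mul_of_ne (ρ : Ret R S n) {r r' : ℕ} (h : r' ≠ r) :
    rankIdem ρ r' * rankIdem ρ r = 0 := by
  rw [rankIdem_mul, if_neg h]

theorem natDegree_rankPoly_le (ρ : Ret R S n) : (rankPoly ρ).natDegree ≤ n := by
  unfold rankPoly nmF
  rw [Fintype.sum_unique]
  have h1 : (1 + (Polynomial.X - 1 : R[X]) • (mat ρ (1 : S)).map (Polynomial.C : R →+* R[X])) =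
      (Polynomial.X : R[X]) • ((mat ρ (1 : S)).map (Polynomial.C : R →+* R[X])) +
        ((1 - mat ρ (1 : S)).map (Polynomial.C : R →+* R[X])) := by
    ext i j
    simp only [Matrix.add_apply, Matrix.sub_apply, Matrix.smul_apply, Matrix.map_apply,
      Matrix.one_apply, smul_eq_mul]
    split_ifs
    · rw [map_sub, map_one]
      ring_nf
    · rw [map_sub, map_zero]
      ring_nf
  rw [h1]
  exact (Polynomial.natDegree_det_X_add_C_le _ _).trans (by simp)

theorem sum_rankIdem (ρ : Ret R S n) : ∑ r ∈ Finset.range (n + 1), rankIdem ρ r = 1 := by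
  have h := eval₂_rankPoly_one ρ (RingHom.id R)
  rw [Polynomial.eval₂_eq_sum_range' _ (Nat.lt_succ_of_le (natDegree_rankPoly_le ρ))] at h
  simpa [rankIdem] using h

theorem rankPoly_eq_sum (ρ : Ret R S n) :
    rankPoly ρ = ∑ r ∈ Finset.range (n + 1), Polynomial.C (rankIdem ρ r) * Polynomial.X ^ r := by
  conv_lhs => rw [Polynomial.as_sum_range' (rankPoly ρ) (n + 1)
    (Nat.lt_succ_of_le (natDegree_rankPoly_le ρ))]
  refine Finset.sum_congr rfl fun r _ => ?_
  rw [← Polynomial.C_mul_X_pow_eq_monomial]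
  rfl

/-- `e_0 = nm 0`. -/
theorem rankIdem_zero (ρ : Ret R S n) : rankIdem ρ 0 = nm ρ 0 := by
  have := nm_algebraMap ρ (0 : R)
  rw [map_zero] at this
  rw [this, rankIdem, Polynomial.coeff_zero_eq_eval_zero]

end Nm

section BC
variable {R S T P : Type*} [CommRing R] [CommRing S] [CommRing T] [CommRing P]
  [Algebra R S] [Algebra R T] [Algebra S P] [Algebra T P] [Algebra R P]
  [IsScalarTower R S P] [IsScalarTower R T P] [Algebra.IsPushout R T S P] {n : ℕ}

theorem mat_bc (r : Ret R S n) (b : S) :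
    mat (r.bc (T := T) (P := P)) (algebraMap S P b) = (mat r b).map (algebraMap R T) := by
  ext j k
  rw [Matrix.map_apply, mat, mat, LinearMap.toMatrix'_apply, LinearMap.toMatrix'_apply]
  simp only [Ret.endo, LinearMap.comp_apply, Ret.bc]
  rw [Fintype.linearCombination_apply]
  have h1 : (∑ i, (Pi.single k (1 : T) : Fin n → T) i • algebraMap S P (r.p (Pi.single i 1))) =
      algebraMap S P (r.p (Pi.single k 1)) := by
    rw [Finset.sum_eq_single k]
    · simp
    · intro i _ hik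
      simp [hik]
    · intro hk
      exact (hk (Finset.mem_univ k)).elim
  rw [h1]
  simp only [Algebra.lmul_algebraMap, Algebra.coe_lmul_eq_mul, LinearMap.mul_apply']
  rw [← map_mul, lift_algebraMap]
  simp

end BC

/-- `CommRingCat`-pushout version of the base change of a retraction. -/
theorem exists_ret_bc_cat {R S T P : CommRingCat.{u}} {f : R ⟶ S} {g : R ⟶ T} {inl : S ⟶ P}
    {inr : T ⟶ P} (h : IsPushout f g inl inr) {n : ℕ}
    (ρ : letI := f.hom.toAlgebra; Ret R S n) :
    ∃ ρ' : (letI := inr.hom.toAlgebra; Ret T P n), ∀ b : S,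
      (letI := inr.hom.toAlgebra; mat ρ' (inl.hom b)) =
        (letI := f.hom.toAlgebra; mat ρ b).map g.hom := by
  algebraize [f.hom, g.hom, inl.hom, inr.hom, inl.hom.comp f.hom]
  have : IsScalarTower R T P := .of_algebraMap_eq' <| congr($(h.1.1).hom)
  have h1 : Algebra.IsPushout R S T P := CommRingCat.isPushout_iff_isPushout.mp h
  have h2 : Algebra.IsPushout R T S P := h1.symm
  exact ⟨ρ.bc, fun b => mat_bc ρ b⟩

end Groth.Agent.R2.H53.PNorm
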