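import Mathlib
import Groth.Prelude.Def_Grpd
import Groth.Agent.S1880
import Groth.Agent.R2.H53PNorm

/-!
# Ring-level groupoids (helper53)

`RGrpd A B D`: the ring-level shadow of an affine groupoid scheme (`A = Γ(U)`, `B = Γ(R)`,
`D = Γ(R ×_{s,U,t} R)`): `σ = s♯`, `τ = t♯`, `ε = e♯`, `p0 = pr₀♯`, `p1 = pr₁♯`, `γ = c♯`, the two pushout
squares `(σ, τ, p0, p1)` and `(σ, σ, γ, p1)` and the identities `γ τ = p0 τ`, `γ σ = p1 σ`, `ε σ = ε τ = id`.

* `RGrpd.ofScheme G`: the bridge.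
* `RGrpd.nmF_invariant`: every determinant expression `nmF ρ φ k s` built from elements `s j` with
  `γ (s j) = p0 (s j)` (e.g. `s j ∈ τ(A)` or `s j = 1`) is invariant.
-/

set_option autoImplicit false
set_option linter.style.haveILetI false
set_option linter.unusedSectionVars false
universe u

open CategoryTheory CategoryTheory.Limits AlgebraicGeometry Polynomial Matrix
open Groth.Agent.Lib.Helper2.RetCharpoly
open Groth.Agent.R2.H53.PNorm

namespace Groth.Agent.R2.H53.GrpdRing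

/-- ring-level groupoid data -/
structure RGrpd (A B D : Type u) [CommRing A] [CommRing B] [CommRing D] where
  σ : A →+* B
  τ : A →+* B
  ε : B →+* A
  p0 : B →+* D
  p1 : B →+* D
  γ : B →+* D
  εσ : ∀ a, ε (σ a) = a
  ετ : ∀ a, ε (τ a) = a
  γτ : ∀ a, γ (τ a) = p0 (τ a)
  γσ : ∀ a, γ (σ a) = p1 (σ a)
  p0σ : ∀ a, p0 (σ a) = p1 (τ a)
  po1 : IsPushout (CommRingCat.ofHom σ) (CommRingCat.ofHom τ) (CommRingCat.ofHom p0)
    (CommRingCat.ofHom p1)
  po2 : IsPushout (CommRingCat.ofHom σ) (CommRingCat.ofHom σ) (CommRingCat.ofHom γ)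
    (CommRingCat.ofHom p1)

namespace RGrpd

/-- the bridge from an affine groupoid scheme -/
noncomputable def ofScheme {S : Scheme.{u}} (G : Grpd.GroupoidScheme S) [IsAffine G.U]
    [IsAffine G.R] : RGrpd Γ(G.U, ⊤) Γ(G.R, ⊤) Γ(pullback G.s G.t, ⊤) where
  σ := G.s.appTop.hom
  τ := G.t.appTop.hom
  ε := G.e.appTop.hom
  p0 := (pullback.fst G.s G.t).appTop.hom
  p1 := (pullback.snd G.s G.t).appTop.hom
  γ := G.c.appTop.hom
  εσ := by
    intro a
    have := congrArg (fun φ : G.U ⟶ G.U => φ.appTop.hom a) G.e_s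
    simpa [Scheme.Hom.comp_appTop] using this
  ετ := by
    intro a
    have := congrArg (fun φ : G.U ⟶ G.U => φ.appTop.hom a) G.e_t
    simpa [Scheme.Hom.comp_appTop] using this
  γτ := by
    intro a
    have := congrArg (fun φ : pullback G.s G.t ⟶ G.U => φ.appTop.hom a) (Groth.Agent.S1880.c_t G)
    simpa [Scheme.Hom.comp_appTop] using this
  γσ := by
    intro a
    have := congrArg (fun φ : pullback G.s G.t ⟶ G.U => φ.appTop.hom a) (Groth.Agent.S1880.c_s G)
    simpa [Scheme.Hom.comp_appTop] using this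
  p0σ := by
    intro a
    have := congrArg (fun φ : pullback G.s G.t ⟶ G.U => φ.appTop.hom a)
      (pullback.condition (f := G.s) (g := G.t))
    simpa [Scheme.Hom.comp_appTop] using this
  po1 := isPushout_appTop_of_isPullback (IsPullback.of_hasPullback G.s G.t)
  po2 := isPushout_appTop_of_isPullback (Groth.Agent.S1880.isPullback_c G)

variable {A B D : Type u} [CommRing A] [CommRing B] [CommRing D] (g : RGrpd A B D)

/-- the ring of invariants -/
abbrev inv : Subring A := RingHom.eqLocus g.σ g.τ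

/-- Invariance of determinant expressions. -/
theorem nmF_invariant {n : ℕ} (ρ : letI := g.σ.toAlgebra; Ret A B n)
    {K0 K : Type*} [CommRing K0] [CommRing K] (φ : A →+* K0) (φB : B →+* K) (θσ θτ : K0 →+* K)
    (hσ : θσ.comp φ = φB.comp g.σ) (hτ : θτ.comp φ = φB.comp g.τ)
    {ι : Type*} [Fintype ι] (k : ι → K0) (s : ι → B) (hk : ∀ j, θσ (k j) = θτ (k j))
    (hs : ∀ j, g.γ (s j) = g.p0 (s j)) :
    θσ (letI := g.σ.toAlgebra; nmF ρ φ k s) = θτ (letI := g.σ.toAlgebra; nmF ρ φ k s) := by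
  obtain ⟨ρσ, hρσ⟩ := exists_ret_bc_cat g.po2 ρ
  obtain ⟨ρτ, hρτ⟩ := exists_ret_bc_cat g.po1 ρ
  letI := g.σ.toAlgebra
  letI := g.p1.toAlgebra
  have e1 : θσ (nmF ρ φ k s) = nmF ρσ φB (θσ ∘ k) (g.γ ∘ s) := by
    rw [map_nmF, hσ]
    exact (nmF_of_mat ρ ρσ g.σ g.γ hρσ φB _ s).symm
  have e2 : θτ (nmF ρ φ k s) = nmF ρτ φB (θτ ∘ k) (g.p0 ∘ s) := by
    rw [map_nmF, hτ]
    exact (nmF_of_mat ρ ρτ g.τ g.p0 hρτ φB _ s).symm
  rw [e1, e2]
  have h1 : θσ ∘ k = θτ ∘ k := funext hk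
  have h2 : (g.γ ∘ s) = (g.p0 ∘ s) := funext hs
  rw [h1, h2]
  exact nmF_eq ρσ ρτ φB _ _

end RGrpd

end Groth.Agent.R2.H53.GrpdRing
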