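import Mathlib
import Groth.Agent.R2.H53GrpdRing

/-!
# Invariants of ring-level groupoids and base change (helper53)

For `g : RGrpd A B D` with `B` finite projective over `A` through `σ`, `C = g.inv`:
* `isIntegral_inv`: `A` is integral over `C`;
* `rankIdem_mem_inv`, `rankIdem_zero_eq_zero`: the rank idempotents of `B/A` lie in `C`, `e_0 = 0`;
* `invariants_baseChange`: Stacks 39.23.5 (the statement of S7487) at ring level.
-/

set_option autoImplicit false
set_option linter.style.haveILetI false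
set_option linter.unusedSectionVars false
universe u

open CategoryTheory CategoryTheory.Limits AlgebraicGeometry Polynomial Matrix TensorProduct
open Groth.Agent.Lib.Helper2.RetCharpoly
open Groth.Agent.R2.H53.PNorm

namespace Groth.Agent.R2.H53.GrpdRing

namespace RGrpd

variable {A B D : Type u} [CommRing A] [CommRing B] [CommRing D] (g : RGrpd A B D)

/-- `A` is integral over the invariants. -/
theorem isIntegral_inv
    (hfin : letI := g.σ.toAlgebra; Module.Finite A B)
    (hproj : letI := g.σ.toAlgebra; Module.Projective A B) :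
    Algebra.IsIntegral g.inv A := by
  have hex : letI := g.σ.toAlgebra; ∃ n, ∀ b : B, ∃ χ, IsRCP A B n b χ := by
    letI := g.σ.toAlgebra
    exact exists_isRCP _ _
  obtain ⟨n, hn⟩ := hex
  constructor
  intro f
  obtain ⟨χ, hχ⟩ := hn (g.τ f)
  have e1 := isRCP_cat g.po1 n (g.τ f) χ hχ
  have e2 := isRCP_cat g.po2 n (g.τ f) χ hχ
  have hc : g.γ (g.τ f) = g.p0 (g.τ f) := g.γτ f
  have hmap : χ.map g.σ = χ.map g.τ := by
    letI := g.p1.toAlgebra
    have e2' : IsRCP B D n (g.p0 (g.τ f)) (χ.map g.σ) := by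
      rw [← hc]
      exact e2
    exact IsRCP.unique e2' e1
  have hcoef : ∀ k, χ.coeff k ∈ g.inv := by
    intro k
    have := congrArg (fun q => q.coeff k) hmap
    simp only [Polynomial.coeff_map] at this
    exact this
  have h0 : (letI := g.σ.toAlgebra; aeval (g.τ f) χ) = 0 := by
    letI := g.σ.toAlgebra
    exact hχ.aeval_eq_zero
  have hmonic : χ.Monic := by
    letI := g.σ.toAlgebra
    exact hχ.monic
  have h1 : eval₂ (RingHom.id _) f χ = 0 := by
    have h2 : eval₂ g.σ (g.τ f) χ = 0 := h0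
    have h3 := congrArg g.ε h2
    rw [Polynomial.hom_eval₂, map_zero, g.ετ] at h3
    have h4 : g.ε.comp g.σ = RingHom.id _ := RingHom.ext g.εσ
    rwa [h4] at h3
  have hsub : (↑χ.coeffs : Set A) ⊆ g.inv := by
    intro a ha
    obtain ⟨k, -, rfl⟩ := Polynomial.mem_coeffs_iff.mp ha
    exact hcoef k
  refine ⟨χ.toSubring g.inv hsub, (Polynomial.monic_toSubring _ _ _).mpr hmonic, ?_⟩
  have h5 : (χ.toSubring g.inv hsub).map (Subring.subtype g.inv) = χ :=
    Polynomial.map_toSubring _ _ _
  rw [← h5, Polynomial.eval₂_map] at h1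
  exact h1

/-- the rank idempotents are invariant -/
theorem rankIdem_mem_inv {n : ℕ} (ρ : letI := g.σ.toAlgebra; Ret A B n) (r : ℕ) :
    (letI := g.σ.toAlgebra; rankIdem ρ r) ∈ g.inv := by
  have h := g.nmF_invariant ρ (Polynomial.C : A →+* A[X]) (Polynomial.C : B →+* B[X])
    (Polynomial.mapRingHom g.σ) (Polynomial.mapRingHom g.τ)
    (by ext a; simp) (by ext a; simp)
    (fun _ : Unit => (Polynomial.X - 1 : A[X])) (fun _ => (1 : B)) (by intro j; simp)
    (by intro j; simp)
  letI := g.σ.toAlgebra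
  have h2 := congrArg (fun q : B[X] => q.coeff r) h
  simp only [Polynomial.coe_mapRingHom, Polynomial.coeff_map] at h2
  exact h2

/-- `e_0 = 0` -/
theorem rankIdem_zero_eq_zero {n : ℕ} (ρ : letI := g.σ.toAlgebra; Ret A B n) :
    (letI := g.σ.toAlgebra; rankIdem ρ 0) = 0 := by
  letI := g.σ.toAlgebra
  rw [rankIdem_zero]
  obtain ⟨b', hb'⟩ := nm_dvd ρ (0 : B)
  rw [zero_mul] at hb'
  have h1 : g.σ (nm ρ 0) = 0 := hb'
  have := congrArg g.ε h1
  rwa [g.εσ, map_zero] at this

end RGrpd

/-- orthogonal idempotents bookkeeping -/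
theorem sum_idem_pow {T : Type*} [CommRing T] (n : ℕ) (E : ℕ → T)
    (hE : ∀ r r', E r' * E r = if r' = r then E r else 0)
    (hsum : ∑ r ∈ Finset.range (n + 1), E r = 1) (h0 : E 0 = 0) (y : T) :
    ∑ r ∈ Finset.range (n + 1),
      E r * (∑ r' ∈ Finset.range (n + 1), E r' * y ^ r') ^ (n.factorial / r) = y ^ n.factorial := by
  set Q := ∑ r' ∈ Finset.range (n + 1), E r' * y ^ r' with hQ
  have h1 : ∀ r ∈ Finset.range (n + 1), E r * Q = E r * y ^ r := by
    intro r hr
    rw [hQ, Finset.mul_sum, Finset.sum_eq_single r]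
    · rw [← mul_assoc, hE r r, if_pos rfl]
    · intro r' _ hne
      rw [← mul_assoc, hE r' r, if_neg (Ne.symm hne), zero_mul]
    · intro h
      exact (h hr).elim
  have h2 : ∀ r ∈ Finset.range (n + 1), ∀ k : ℕ, 1 ≤ k → E r * Q ^ k = E r * y ^ (r * k) := by
    intro r hr k hk
    have hid : ∀ m : ℕ, 1 ≤ m → E r ^ m = E r := by
      intro m hm
      induction m with
      | zero => omega
      | succ m ih =>
        rcases Nat.eq_zero_or_pos m with rfl | hm'
        · simp
        · rw [pow_succ, ih hm', hE r r, if_pos rfl]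
    calc E r * Q ^ k = (E r * Q) ^ k := by rw [mul_pow, hid k hk]
      _ = (E r * y ^ r) ^ k := by rw [h1 r hr]
      _ = E r * y ^ (r * k) := by rw [mul_pow, hid k hk, ← pow_mul]
  have h3 : ∀ r ∈ Finset.range (n + 1), E r * Q ^ (n.factorial / r) = E r * y ^ n.factorial := by
    intro r hr
    rcases Nat.eq_zero_or_pos r with rfl | hr'
    · rw [h0, zero_mul, zero_mul]
    · have hrn : r ≤ n := Nat.lt_succ_iff.mp (Finset.mem_range.mp hr)
      have hdvd : r ∣ n.factorial := Nat.dvd_factorial hr' hrn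
      have hk : 1 ≤ n.factorial / r :=
        Nat.div_pos (Nat.le_of_dvd (Nat.factorial_pos n) hdvd) hr'
      rw [h2 r hr _ hk, Nat.mul_div_cancel' hdvd]
  rw [Finset.sum_congr rfl h3, ← Finset.sum_mul, hsum, one_mul]

/-- surjectivity on spectra is stable under base change -/
theorem comap_includeRight_surjective {R S T : Type u} [CommRing R] [CommRing S] [CommRing T]
    [Algebra R S] [Algebra R T] (h : Function.Surjective (PrimeSpectrum.comap (algebraMap R S))) :
    Function.Surjective (PrimeSpectrum.comap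
      (Algebra.TensorProduct.includeRight : T →ₐ[R] S ⊗[R] T).toRingHom) := by
  have h1 : Surjective (Spec.map (CommRingCat.ofHom (algebraMap R S))) := ⟨h⟩
  have h2 : Surjective (pullback.snd (Spec.map (CommRingCat.ofHom (algebraMap R S)))
      (Spec.map (CommRingCat.ofHom (algebraMap R T)))) := MorphismProperty.pullback_snd _ _ h1
  have h3 : Surjective (Spec.map (CommRingCat.ofHom
      (RingHomClass.toRingHom (Algebra.TensorProduct.includeRight : T →ₐ[R] S ⊗[R] T)))) := by
    rw [← pullbackSpecIso_inv_snd]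
    infer_instance
  exact h3.surj

namespace RGrpd

variable {A B D : Type u} [CommRing A] [CommRing B] [CommRing D] (g : RGrpd A B D)

/-- Stacks 39.23.5 (2)(b). -/
theorem isNilpotent_of_includeRight_eq_zero
    (hfin : letI := g.σ.toAlgebra; Module.Finite A B)
    (hproj : letI := g.σ.toAlgebra; Module.Projective A B)
    (C' : Type u) [CommRing C'] [Algebra g.inv C'] (c : C')
    (hc : (Algebra.TensorProduct.includeRight : C' →ₐ[g.inv] A ⊗[g.inv] C') c = 0) :
    IsNilpotent c := by
  have hint := g.isIntegral_inv hfin hproj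
  have hsurj : Function.Surjective (PrimeSpectrum.comap (algebraMap g.inv A)) :=
    RingHom.IsIntegral.comap_surjective (f := algebraMap g.inv A)
      (algebraMap_isIntegral_iff.mpr hint) Subtype.val_injective
  have h2 := comap_includeRight_surjective (R := g.inv) (S := A) (T := C') hsurj
  rw [nilpotent_iff_mem_prime]
  intro J hJ
  obtain ⟨P, hP⟩ := h2 ⟨J, hJ⟩
  have h3 : c ∈ (PrimeSpectrum.comap (Algebra.TensorProduct.includeRight :
      C' →ₐ[g.inv] A ⊗[g.inv] C').toRingHom P).asIdeal := by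
    show (Algebra.TensorProduct.includeRight : C' →ₐ[g.inv] A ⊗[g.inv] C') c ∈ P.asIdeal
    rw [hc]
    exact zero_mem _
  rw [hP] at h3
  exact h3

/-- Stacks 39.23.5 (3). -/
theorem flat_baseChange (C' : Type u) [CommRing C'] [Algebra g.inv C'] [Module.Flat g.inv C'] :
    letI : Algebra g.inv B := (g.σ.comp g.inv.subtype).toAlgebra
    ∀ (sT tT : A ⊗[g.inv] C' →ₐ[g.inv] B ⊗[g.inv] C'),
      (∀ (a : A) (c : C'), sT (a ⊗ₜ c) = g.σ a ⊗ₜ c) →
      (∀ (a : A) (c : C'), tT (a ⊗ₜ c) = g.τ a ⊗ₜ c) →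
      Function.Injective (Algebra.TensorProduct.includeRight : C' →ₐ[g.inv] A ⊗[g.inv] C') ∧
      ∀ f : A ⊗[g.inv] C', sT f = tT f → f ∈ Set.range
        (Algebra.TensorProduct.includeRight : C' →ₐ[g.inv] A ⊗[g.inv] C') := by
  letI algCB : Algebra g.inv B := (g.σ.comp g.inv.subtype).toAlgebra
  intro sT tT hsT htT
  let i0 : g.inv →ₗ[g.inv] A := Algebra.linearMap g.inv A
  have hi0 : Function.Injective i0 := Subtype.val_injective
  let δ : A →ₗ[g.inv] B :=
    { toFun := fun a => g.σ a - g.τ a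
      map_add' := fun a a' => by simp only [map_add]; ring
      map_smul' := fun x a => by
        have h1 : x • a = (x : A) * a := rfl
        have h2 : ∀ b : B, x • b = g.σ (x : A) * b := fun b => by
          rw [Algebra.smul_def]; rfl
        have h3 : g.σ (x : A) = g.τ (x : A) := x.2
        simp only [h1, map_mul, RingHom.id_apply, h2]
        rw [← h3]
        ring }
  have hex : Function.Exact i0 δ := by
    intro a
    constructor
    · intro h
      have : g.σ a = g.τ a := sub_eq_zero.mp h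
      exact ⟨⟨a, this⟩, rfl⟩
    · rintro ⟨x, rfl⟩
      exact sub_eq_zero.mpr x.2
  have hex' := Module.Flat.rTensor_exact C' hex
  have hδ : ∀ f : A ⊗[g.inv] C', (LinearMap.rTensor C' δ) f = sT f - tT f := by
    intro f
    induction f using TensorProduct.induction_on with
    | zero => simp
    | tmul a c =>
      rw [LinearMap.rTensor_tmul, hsT, htT]
      show (g.σ a - g.τ a) ⊗ₜ[g.inv] c = _
      rw [TensorProduct.sub_tmul]
    | add x y hx hy =>
      rw [map_add, hx, hy, map_add, map_add]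
      abel
  have hrange : ∀ z : g.inv ⊗[g.inv] C', (LinearMap.rTensor C' i0) z ∈ Set.range
      (Algebra.TensorProduct.includeRight : C' →ₐ[g.inv] A ⊗[g.inv] C') := by
    intro z
    induction z using TensorProduct.induction_on with
    | zero => exact ⟨0, by simp⟩
    | tmul x c =>
      refine ⟨x • c, ?_⟩
      rw [LinearMap.rTensor_tmul]
      show (1 : A) ⊗ₜ[g.inv] (x • c) = (x : A) ⊗ₜ[g.inv] c
      rw [← TensorProduct.smul_tmul]
      congr 1
      show (x : A) * 1 = x
      rw [mul_one]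
    | add z w hz hw =>
      obtain ⟨c1, h1⟩ := hz
      obtain ⟨c2, h2⟩ := hw
      exact ⟨c1 + c2, by rw [map_add, h1, h2, map_add]⟩
  refine ⟨?_, ?_⟩
  · have hinj : Function.Injective (LinearMap.rTensor C' i0) :=
      Module.Flat.rTensor_preserves_injective_linearMap i0 hi0
    intro c1 c2 h12
    have e : ∀ c : C', (Algebra.TensorProduct.includeRight : C' →ₐ[g.inv] A ⊗[g.inv] C') c =
        (LinearMap.rTensor C' i0) ((TensorProduct.lid g.inv C').symm c) := by
      intro c
      rw [TensorProduct.lid_symm_apply, LinearMap.rTensor_tmul]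
      rfl
    rw [e, e] at h12
    exact (TensorProduct.lid g.inv C').symm.injective (hinj h12)
  · intro f hf
    have : (LinearMap.rTensor C' δ) f = 0 := by rw [hδ, hf, sub_self]
    obtain ⟨z, rfl⟩ := (hex' f).mp this
    exact hrange z

/-- Stacks 39.23.5 (2)(a). -/
theorem exists_poly
    (hfin : letI := g.σ.toAlgebra; Module.Finite A B)
    (hproj : letI := g.σ.toAlgebra; Module.Projective A B)
    (C' : Type u) [CommRing C'] [Algebra g.inv C'] :
    letI : Algebra g.inv B := (g.σ.comp g.inv.subtype).toAlgebra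
    ∀ (sT tT : A ⊗[g.inv] C' →ₐ[g.inv] B ⊗[g.inv] C'),
      (∀ (a : A) (c : C'), sT (a ⊗ₜ c) = g.σ a ⊗ₜ c) →
      (∀ (a : A) (c : C'), tT (a ⊗ₜ c) = g.τ a ⊗ₜ c) →
      ∀ f : A ⊗[g.inv] C', sT f = tT f →
        ∃ (n : ℕ) (P : Polynomial C'), 0 < n ∧
          Polynomial.map (Algebra.TensorProduct.includeRight :
            C' →ₐ[g.inv] A ⊗[g.inv] C').toRingHom P = (Polynomial.X - Polynomial.C f) ^ n := by
  letI algCB : Algebra g.inv B := (g.σ.comp g.inv.subtype).toAlgebra
  intro sT tT hsT htT f hf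
  letI algAB : Algebra A B := g.σ.toAlgebra
  obtain ⟨n, ⟨ρ⟩⟩ := exists_ret A B
  obtain ⟨S, hS⟩ := TensorProduct.exists_finset f
  let ι := ↥S
  let a : ι → A := fun i => i.1.1
  let c : ι → C' := fun i => i.1.2
  have hfa : f = ∑ i : ι, a i ⊗ₜ[g.inv] c i := by
    rw [hS, ← Finset.sum_coe_sort]
  let incR : C' →+* A ⊗[g.inv] C' :=
    (Algebra.TensorProduct.includeRight : C' →ₐ[g.inv] A ⊗[g.inv] C').toRingHom
  let incL : A →+* A ⊗[g.inv] C' := Algebra.TensorProduct.includeLeftRingHom
  have hLR : ∀ x : g.inv, incR (algebraMap g.inv C' x) = incL (x : A) := by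
    intro x
    have := congrArg (fun φ : g.inv →+* A ⊗[g.inv] C' => φ x)
      (Algebra.TensorProduct.includeLeftRingHom_comp_algebraMap (R := g.inv) (A := A) (B := C'))
    exact this.symm
  -- key identity
  have hkey : ∀ j k : Fin n, ∑ i : ι, incR (c i) * incL (mat ρ (g.τ (a i)) j k) =
      f * incL (mat ρ 1 j k) := by
    intro j k
    let lam : B →ₗ[g.inv] A :=
      { toFun := fun b => mat ρ b j k
        map_add' := fun b b' => by rw [mat_add]; rfl
        map_smul' := fun x b => by
          have h1 : x • b = algebraMap A B (x : A) * b := by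
            rw [Algebra.smul_def]; rfl
          rw [h1, mat_algebraMap_mul]
          rfl }
    have h1 := congrArg (LinearMap.rTensor C' lam) hf
    rw [hfa, map_sum, map_sum, map_sum, map_sum] at h1
    simp only [hsT, htT, LinearMap.rTensor_tmul] at h1
    have h2 : ∀ i : ι, incR (c i) * incL (mat ρ (g.τ (a i)) j k) = lam (g.τ (a i)) ⊗ₜ[g.inv] c i := by
      intro i
      show ((1 : A) ⊗ₜ[g.inv] c i) * (mat ρ (g.τ (a i)) j k ⊗ₜ[g.inv] (1 : C')) = _
      rw [Algebra.TensorProduct.tmul_mul_tmul, one_mul, mul_one]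
      rfl
    rw [Finset.sum_congr rfl fun i _ => h2 i, ← h1, hfa, Finset.sum_mul]
    refine Finset.sum_congr rfl fun i _ => ?_
    show (mat ρ (g.σ (a i)) j k) ⊗ₜ[g.inv] c i = (a i ⊗ₜ[g.inv] c i) * (mat ρ 1 j k ⊗ₜ[g.inv] (1 : C'))
    rw [Algebra.TensorProduct.tmul_mul_tmul, mul_one]
    congr 1
    have : g.σ (a i) = algebraMap A B (a i) * 1 := by rw [mul_one]; rfl
    rw [this, mat_algebraMap_mul]
    rfl
  -- the universal polynomial
  let V := Option ι
  let k : V → MvPolynomial V A := fun v =>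
    v.elim (MvPolynomial.X none - 1) (fun i => - MvPolynomial.X (some i))
  let s : V → B := fun v => v.elim 1 (fun i => g.τ (a i))
  let Ψ : MvPolynomial V A := nmF ρ (MvPolynomial.C : A →+* MvPolynomial V A) k s
  have hinv : MvPolynomial.map g.σ Ψ = MvPolynomial.map g.τ Ψ :=
    g.nmF_invariant ρ (MvPolynomial.C : A →+* MvPolynomial V A)
      (MvPolynomial.C : B →+* MvPolynomial V B) (MvPolynomial.map g.σ) (MvPolynomial.map g.τ)
      (by ext x; simp) (by ext x; simp) k s
      (by rintro (_ | i) <;> simp [k]) (by rintro (_ | i) <;> simp [s, g.γτ])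
  have hcoef : ∀ m, MvPolynomial.coeff m Ψ ∈ g.inv := by
    intro m
    have := congrArg (MvPolynomial.coeff m) hinv
    rw [MvPolynomial.coeff_map, MvPolynomial.coeff_map] at this
    exact this
  obtain ⟨ΨC, hΨC⟩ : Ψ ∈ Set.range (MvPolynomial.map g.inv.subtype) := by
    rw [MvPolynomial.mem_range_map_iff_coeffs_subset]
    intro x hx
    obtain ⟨m, -, rfl⟩ := MvPolynomial.mem_coeffs_iff.mp hx
    exact ⟨⟨_, hcoef m⟩, rfl⟩
  let ev : MvPolynomial V g.inv →+* C'[X] :=
    MvPolynomial.eval₂Hom ((Polynomial.C : C' →+* C'[X]).comp (algebraMap g.inv C'))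
      (fun v => v.elim Polynomial.X (fun i => Polynomial.C (c i)))
  let ev' : MvPolynomial V A →+* (A ⊗[g.inv] C')[X] :=
    MvPolynomial.eval₂Hom ((Polynomial.C : A ⊗[g.inv] C' →+* (A ⊗[g.inv] C')[X]).comp incL)
      (fun v => v.elim Polynomial.X (fun i => Polynomial.C (incR (c i))))
  have hcomp : (Polynomial.mapRingHom incR).comp ev = ev'.comp (MvPolynomial.map g.inv.subtype) := by
    apply MvPolynomial.ringHom_ext
    · intro x
      simp only [RingHom.comp_apply, ev, ev', MvPolynomial.eval₂Hom_C, MvPolynomial.map_C,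
        Polynomial.coe_mapRingHom, Polynomial.map_C, hLR]
      rfl
    · rintro (_ | i) <;>
        simp [ev, ev', MvPolynomial.eval₂Hom_X', MvPolynomial.map_X]
  let P0 : C'[X] := ev ΨC
  have hP0 : P0.map incR = ev' Ψ := by
    have := congrArg (fun φ : MvPolynomial V g.inv →+* (A ⊗[g.inv] C')[X] => φ ΨC) hcomp
    simp only [RingHom.comp_apply, hΨC] at this
    exact this
  have hP0' : P0.map incR = (rankPoly ρ).eval₂ ((Polynomial.C : A ⊗[g.inv] C' →+* _).comp incL)
      (Polynomial.X - Polynomial.C f) := by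
    rw [hP0, eval₂_rankPoly]
    show ev' (nmF ρ _ k s) = _
    rw [map_nmF]
    unfold nmF
    congr 2
    rw [Fintype.sum_option]
    have hC : ev'.comp (MvPolynomial.C : A →+* MvPolynomial V A) =
        (Polynomial.C : A ⊗[g.inv] C' →+* _).comp incL := by
      ext x
      simp [ev']
    rw [hC]
    have e1 : (ev' ∘ k) none = Polynomial.X - 1 := by
      simp [ev', k]
    have e2 : ∀ i, (ev' ∘ k) (some i) = - Polynomial.C (incR (c i)) := by
      intro i
      simp [ev', k]
    simp only [e1, e2]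
    have e3 : s none = 1 := rfl
    have e4 : ∀ i, s (some i) = g.τ (a i) := fun i => rfl
    simp only [e3, e4]
    refine Matrix.ext fun j l => ?_
    simp only [Matrix.add_apply, Matrix.smul_apply, Matrix.map_apply, Matrix.sum_apply,
      smul_eq_mul, RingHom.comp_apply]
    have := congrArg (Polynomial.C : A ⊗[g.inv] C' →+* _) (hkey j l)
    rw [map_sum] at this
    simp only [map_mul] at this
    have h' : ∑ x : ι, -Polynomial.C (incR (c x)) * Polynomial.C (incL (mat ρ (g.τ (a x)) j l)) =
        -∑ x : ι, Polynomial.C (incR (c x)) * Polynomial.C (incL (mat ρ (g.τ (a x)) j l)) := by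
      rw [← Finset.sum_neg_distrib]
      exact Finset.sum_congr rfl fun i _ => by ring
    linear_combination h' - this
  -- assemble
  let θ : A →+* (A ⊗[g.inv] C')[X] := (Polynomial.C : A ⊗[g.inv] C' →+* _).comp incL
  let E : ℕ → (A ⊗[g.inv] C')[X] := fun r => θ (rankIdem ρ r)
  have hE : ∀ r r', E r' * E r = if r' = r then E r else 0 := by
    intro r r'
    show θ _ * θ _ = _
    rw [← map_mul, rankIdem_mul]
    split_ifs <;> simp [E]
  have hsum : ∑ r ∈ Finset.range (n + 1), E r = 1 := by
    show ∑ r ∈ Finset.range (n + 1), θ (rankIdem ρ r) = 1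
    rw [← map_sum, sum_rankIdem, map_one]
  have h0 : E 0 = 0 := by
    show θ (rankIdem ρ 0) = 0
    rw [g.rankIdem_zero_eq_zero ρ, map_zero]
  have hQ : P0.map incR =
      ∑ r' ∈ Finset.range (n + 1), E r' * (Polynomial.X - Polynomial.C f) ^ r' := by
    rw [hP0', Polynomial.eval₂_eq_sum_range' _ (Nat.lt_succ_of_le (natDegree_rankPoly_le ρ))]
    rfl
  let eC : ℕ → g.inv := fun r => ⟨rankIdem ρ r, g.rankIdem_mem_inv ρ r⟩
  refine ⟨n.factorial, ∑ r ∈ Finset.range (n + 1),
    Polynomial.C (algebraMap g.inv C' (eC r)) * P0 ^ (n.factorial / r), Nat.factorial_pos n, ?_⟩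
  rw [← sum_idem_pow n E hE hsum h0 (Polynomial.X - Polynomial.C f), Polynomial.map_sum]
  refine Finset.sum_congr rfl fun r _ => ?_
  show Polynomial.map incR _ = _
  rw [Polynomial.map_mul, Polynomial.map_pow, hQ, Polynomial.map_C, hLR]
  rfl

/-- Stacks 39.23.5 at ring level (the statement of S7487). -/
theorem invariants_baseChange
    (hfin : letI := g.σ.toAlgebra; Module.Finite A B)
    (hproj : letI := g.σ.toAlgebra; Module.Projective A B)
    (C' : Type u) [CommRing C'] [Algebra g.inv C'] :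
    letI : Algebra g.inv B := (g.σ.comp g.inv.subtype).toAlgebra
    ∀ (sT tT : A ⊗[g.inv] C' →ₐ[g.inv] B ⊗[g.inv] C'),
      (∀ (a : A) (c : C'), sT (a ⊗ₜ c) = g.σ a ⊗ₜ c) →
      (∀ (a : A) (c : C'), tT (a ⊗ₜ c) = g.τ a ⊗ₜ c) →
      (∀ f : A ⊗[g.inv] C', sT f = tT f →
        ∃ (n : ℕ) (P : Polynomial C'), 0 < n ∧
          Polynomial.map (Algebra.TensorProduct.includeRight :
            C' →ₐ[g.inv] A ⊗[g.inv] C').toRingHom P = (Polynomial.X - Polynomial.C f) ^ n) ∧
      (∀ c : C', (Algebra.TensorProduct.includeRight : C' →ₐ[g.inv] A ⊗[g.inv] C') c = 0 →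
        IsNilpotent c) ∧
      (Module.Flat g.inv C' →
        Function.Injective (Algebra.TensorProduct.includeRight : C' →ₐ[g.inv] A ⊗[g.inv] C') ∧
        ∀ f : A ⊗[g.inv] C', sT f = tT f → f ∈ Set.range
          (Algebra.TensorProduct.includeRight : C' →ₐ[g.inv] A ⊗[g.inv] C')) := by
  intro sT tT hsT htT
  refine ⟨g.exists_poly hfin hproj C' sT tT hsT htT,
    fun c hc => g.isNilpotent_of_includeRight_eq_zero hfin hproj C' c hc, fun hflat => ?_⟩
  exact g.flat_baseChange C' sT tT hsT htT

end RGrpd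

end Groth.Agent.R2.H53.GrpdRing
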