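import Mathlib
import Groth.Agent.R2.H53GrpdInv

/-!
# Local bases for ring-level groupoids: the good ideal (helper53)

For an `R`-algebra `S` with retraction `ρ : Ret R S n` and a family `y : Fin r → S`:
* `Tm ρ y` is the `n × r` coordinate matrix of the `y j`;
* `GoodAt ρ y χ a` (for `χ : R →+* K`, `a : K`): there is `Y` with `Y * χ(T) = a`, `χ(T) * Y = a χ(Π)`;
  for `a = 1` this says that the `1 ⊗ y j` form a `K`-basis of `K ⊗ S`;
* `goodIdeal ρ y`: the ideal of `a` with `GoodAt ρ y id a`.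
Both are independent of the retraction and compatible with base change.
-/

set_option autoImplicit false
set_option linter.style.haveILetI false
set_option linter.unusedSectionVars false
universe u

open CategoryTheory CategoryTheory.Limits TensorProduct Matrix
open Groth.Agent.Lib.Helper2.RetCharpoly
open Groth.Agent.R2.H53.PNorm

namespace Groth.Agent.R2.H53.GrpdRing

section BCip
variable {R S T P : Type*} [CommRing R] [CommRing S] [CommRing T] [CommRing P]
  [Algebra R S] [Algebra R T] [Algebra S P] [Algebra T P] [Algebra R P]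
  [IsScalarTower R S P] [IsScalarTower R T P] [Algebra.IsPushout R T S P] {n : ℕ}

theorem bc_i (r : Ret R S n) (b : S) (a : Fin n) :
    (r.bc (T := T) (P := P)).i (algebraMap S P b) a = algebraMap R T (r.i b a) := by
  simp only [Ret.bc]
  rw [lift_algebraMap]
  simp

theorem bc_p (r : Ret R S n) (v : Fin n → R) :
    (r.bc (T := T) (P := P)).p (fun a => algebraMap R T (v a)) = algebraMap S P (r.p v) := by
  simp only [Ret.bc]
  rw [Fintype.linearCombination_apply]
  have h1 : ∀ k, (algebraMap R T (v k)) • algebraMap S P (r.p (Pi.single k 1)) =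
      algebraMap S P ((v k) • r.p (Pi.single k 1)) := by
    intro k
    rw [Algebra.smul_def, ← IsScalarTower.algebraMap_apply R T P, IsScalarTower.algebraMap_apply R S P,
      ← map_mul, ← Algebra.smul_def]
  simp only [h1]
  rw [← map_sum]
  congr 1
  have h2 : v = ∑ k, (v k) • (Pi.single k 1 : Fin n → R) := by
    ext j
    simp [Finset.sum_apply, Pi.single_apply]
  conv_rhs => rw [h2, map_sum]
  refine Finset.sum_congr rfl fun k _ => ?_
  rw [map_smul]

end BCip

/-- `CommRingCat`-pushout version of the base change of a retraction, with `i` and `p`. -/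
theorem exists_ret_bc_cat' {R S T P : CommRingCat.{u}} {f : R ⟶ S} {g : R ⟶ T} {inl : S ⟶ P}
    {inr : T ⟶ P} (h : IsPushout f g inl inr) {n : ℕ}
    (ρ : letI := f.hom.toAlgebra; Ret R S n) :
    ∃ ρ' : (letI := inr.hom.toAlgebra; Ret T P n),
      (∀ b : S, (letI := inr.hom.toAlgebra; mat ρ' (inl.hom b)) =
        (letI := f.hom.toAlgebra; mat ρ b).map g.hom) ∧
      (∀ (b : S) (a : Fin n), (letI := inr.hom.toAlgebra; ρ'.i (inl.hom b) a) =
        g.hom (letI := f.hom.toAlgebra; ρ.i b a)) ∧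
      (∀ v : Fin n → R, (letI := inr.hom.toAlgebra; ρ'.p (fun a => g.hom (v a))) =
        inl.hom (letI := f.hom.toAlgebra; ρ.p v)) := by
  algebraize [f.hom, g.hom, inl.hom, inr.hom, inl.hom.comp f.hom]
  have : IsScalarTower R T P := .of_algebraMap_eq' <| congr($(h.1.1).hom)
  have h1 : Algebra.IsPushout R S T P := CommRingCat.isPushout_iff_isPushout.mp h
  have h2 : Algebra.IsPushout R T S P := h1.symm
  exact ⟨ρ.bc, fun b => mat_bc ρ b, fun b a => bc_i ρ b a, fun v => bc_p ρ v⟩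

section Good
variable {R S : Type*} [CommRing R] [CommRing S] [Algebra R S] {n r : ℕ}

/-- coordinate matrix of a family -/
def Tm (ρ : Ret R S n) (y : Fin r → S) : Matrix (Fin n) (Fin r) R :=
  Matrix.of fun a j => ρ.i (y j) a

theorem mat_one_mulVec (ρ : Ret R S n) (v : Fin n → R) : mat ρ 1 *ᵥ v = ρ.i (ρ.p v) := by
  unfold mat
  rw [LinearMap.toMatrix'_mulVec]
  simp [Ret.endo]

theorem mat_one_mul_Tm (ρ : Ret R S n) (y : Fin r → S) : mat ρ 1 * Tm ρ y = Tm ρ y := by
  ext a j
  have h := congrFun (mat_one_mulVec ρ (ρ.i (y j))) a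
  rw [Ret.pi_apply] at h
  rw [Matrix.mul_apply]
  simpa [Matrix.mulVec, dotProduct, Tm] using h

/-- `χ`-goodness with multiplier `a`: for `a = 1` the `1 ⊗ y j` form a basis after base change
along `χ`. -/
def GoodAt {K : Type*} [CommRing K] (ρ : Ret R S n) (y : Fin r → S) (χ : R →+* K) (a : K) : Prop :=
  ∃ Y : Matrix (Fin r) (Fin n) K, Y * (Tm ρ y).map χ = a • (1 : Matrix (Fin r) (Fin r) K) ∧
    (Tm ρ y).map χ * Y = a • (mat ρ 1).map χ

/-- the good ideal -/
def goodIdeal (ρ : Ret R S n) (y : Fin r → S) : Ideal R where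
  carrier := {a | ∃ Y : Matrix (Fin r) (Fin n) R, Y * Tm ρ y = a • (1 : Matrix (Fin r) (Fin r) R) ∧
    Tm ρ y * Y = a • mat ρ 1}
  zero_mem' := ⟨0, by simp, by simp⟩
  add_mem' := by
    rintro a b ⟨Y1, h1, h1'⟩ ⟨Y2, h2, h2'⟩
    exact ⟨Y1 + Y2, by rw [Matrix.add_mul, h1, h2, add_smul], by rw [Matrix.mul_add, h1', h2', add_smul]⟩
  smul_mem' := by
    rintro c a ⟨Y, h1, h1'⟩
    exact ⟨c • Y, by rw [Matrix.smul_mul, h1, smul_eq_mul, mul_smul],
      by rw [Matrix.mul_smul, h1', smul_eq_mul, mul_smul]⟩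

theorem mem_goodIdeal {ρ : Ret R S n} {y : Fin r → S} {a : R} :
    a ∈ goodIdeal ρ y ↔ ∃ Y : Matrix (Fin r) (Fin n) R,
      Y * Tm ρ y = a • (1 : Matrix (Fin r) (Fin r) R) ∧ Tm ρ y * Y = a • mat ρ 1 := Iff.rfl

theorem map_smul_one {K K' : Type*} [CommRing K] [CommRing K'] (θ : K →+* K') (a : K) {m : ℕ} :
    (a • (1 : Matrix (Fin m) (Fin m) K)).map θ = θ a • (1 : Matrix (Fin m) (Fin m) K') := by
  ext i j
  simp only [Matrix.map_apply, Matrix.smul_apply, Matrix.one_apply, smul_eq_mul]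
  split_ifs <;> simp

theorem map_smul' {K K' : Type*} [CommRing K] [CommRing K'] (θ : K →+* K') (a : K) {m m' : ℕ}
    (M : Matrix (Fin m) (Fin m') K) : (a • M).map θ = θ a • M.map θ := by
  ext i j
  simp

theorem GoodAt.map {K K' : Type*} [CommRing K] [CommRing K'] {ρ : Ret R S n} {y : Fin r → S}
    {χ : R →+* K} {a : K} (h : GoodAt ρ y χ a) (θ : K →+* K') : GoodAt ρ y (θ.comp χ) (θ a) := by
  obtain ⟨Y, h1, h2⟩ := h
  refine ⟨Y.map θ, ?_, ?_⟩
  · have := congrArg (fun M : Matrix (Fin r) (Fin r) K => M.map θ) h1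
    simp only [Matrix.map_mul, Matrix.map_map, map_smul_one] at this
    exact this
  · have := congrArg (fun M : Matrix (Fin n) (Fin n) K => M.map θ) h2
    simp only [Matrix.map_mul, Matrix.map_map, map_smul'] at this
    exact this

theorem goodAt_of_mem_goodIdeal {K : Type*} [CommRing K] {ρ : Ret R S n} {y : Fin r → S} {a : R}
    (ha : a ∈ goodIdeal ρ y) (χ : R →+* K) : GoodAt ρ y χ (χ a) := by
  obtain ⟨Y, h1, h2⟩ := ha
  refine ⟨Y.map χ, ?_, ?_⟩
  · have := congrArg (fun M : Matrix (Fin r) (Fin r) R => M.map χ) h1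
    simp only [Matrix.map_mul, map_smul_one] at this
    exact this
  · have := congrArg (fun M : Matrix (Fin n) (Fin n) R => M.map χ) h2
    simp only [Matrix.map_mul, map_smul'] at this
    exact this

theorem mem_goodIdeal_of_goodAt_id {ρ : Ret R S n} {y : Fin r → S} {a : R}
    (h : GoodAt ρ y (RingHom.id R) a) : a ∈ goodIdeal ρ y := by
  obtain ⟨Y, h1, h2⟩ := h
  refine ⟨Y, ?_, ?_⟩
  · simpa using h1
  · simpa using h2

/-- independence of the retraction: cross matrices -/
theorem exists_cross' {n1 n2 : ℕ} (ρ1 : Ret R S n1) (ρ2 : Ret R S n2) :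
    ∃ (X : Matrix (Fin n1) (Fin n2) R) (X' : Matrix (Fin n2) (Fin n1) R),
      X * X' = mat ρ1 1 ∧ X' * X = mat ρ2 1 ∧
      (∀ {r : ℕ} (y : Fin r → S), Tm ρ1 y = X * Tm ρ2 y) ∧
      (∀ {r : ℕ} (y : Fin r → S), Tm ρ2 y = X' * Tm ρ1 y) := by
  refine ⟨LinearMap.toMatrix' (ρ1.i ∘ₗ ρ2.p), LinearMap.toMatrix' (ρ2.i ∘ₗ ρ1.p), ?_, ?_, ?_, ?_⟩
  · unfold mat
    rw [← LinearMap.toMatrix'_comp]
    congr 1
    ext v j
    simp [Ret.endo, Ret.pi_apply]
  · unfold mat
    rw [← LinearMap.toMatrix'_comp]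
    congr 1
    ext v j
    simp [Ret.endo, Ret.pi_apply]
  · intro r y
    ext a j
    have h := congrFun (LinearMap.toMatrix'_mulVec (ρ1.i ∘ₗ ρ2.p) (ρ2.i (y j))) a
    simp only [LinearMap.comp_apply, Ret.pi_apply] at h
    rw [Matrix.mul_apply]
    simpa [Matrix.mulVec, dotProduct, Tm] using h.symm
  · intro r y
    ext a j
    have h := congrFun (LinearMap.toMatrix'_mulVec (ρ2.i ∘ₗ ρ1.p) (ρ1.i (y j))) a
    simp only [LinearMap.comp_apply, Ret.pi_apply] at h
    rw [Matrix.mul_apply]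
    simpa [Matrix.mulVec, dotProduct, Tm] using h.symm

theorem GoodAt.of_ret {K : Type*} [CommRing K] {n1 n2 : ℕ} {ρ1 : Ret R S n1} (ρ2 : Ret R S n2)
    {y : Fin r → S} {χ : R →+* K} {a : K} (h : GoodAt ρ1 y χ a) : GoodAt ρ2 y χ a := by
  obtain ⟨X, X', hXX', hX'X, hT1, hT2⟩ := exists_cross' ρ1 ρ2
  obtain ⟨Y, h1, h2⟩ := h
  refine ⟨Y * X.map χ, ?_, ?_⟩
  · rw [Matrix.mul_assoc, ← Matrix.map_mul, ← hT1, h1]
  · rw [hT2 y, Matrix.map_mul, Matrix.mul_assoc, ← Matrix.mul_assoc _ Y, h2, Matrix.smul_mul,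
      Matrix.mul_smul, ← Matrix.map_mul, ← Matrix.map_mul, ← hX'X, ← hXX']
    congr 2
    calc X' * (X * X' * X) = (X' * X) * (X' * X) := by simp only [Matrix.mul_assoc]
    _ = X' * X := by rw [hX'X, ← mat_mul, one_mul]

/-- **functional trick**: a multiplier `b ∈ S` for the point `algebraMap R S` gives elements
`ℓ b` of the good ideal for every `R`-linear functional `ℓ`. -/
theorem GoodAt.functional {ρ : Ret R S n} {y : Fin r → S} {b : S}
    (h : GoodAt ρ y (algebraMap R S) b) (ℓ : S →ₗ[R] R) : ℓ b ∈ goodIdeal ρ y := by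
  obtain ⟨Y, h1, h2⟩ := h
  refine ⟨Y.map ℓ, ?_, ?_⟩
  · ext i k
    have e := congrFun (congrFun h1 i) k
    rw [Matrix.mul_apply] at e ⊢
    simp only [Matrix.map_apply] at e ⊢
    have e' := congrArg ℓ e
    rw [map_sum] at e'
    simp only [Matrix.smul_apply, Matrix.one_apply, smul_eq_mul] at e' ⊢
    rw [← (Finset.sum_congr rfl fun j _ => by
      rw [mul_comm (Y i j), ← Algebra.smul_def, map_smul, smul_eq_mul, mul_comm] :
      ∑ j, ℓ (Y i j * algebraMap R S (Tm ρ y j k)) = ∑ j, ℓ (Y i j) * Tm ρ y j k)]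
    rw [e']
    split_ifs <;> simp
  · ext c k
    have e := congrFun (congrFun h2 c) k
    rw [Matrix.mul_apply] at e ⊢
    simp only [Matrix.map_apply] at e ⊢
    have e' := congrArg ℓ e
    rw [map_sum] at e'
    simp only [Matrix.smul_apply, smul_eq_mul] at e' ⊢
    rw [← (Finset.sum_congr rfl fun j _ => by
      rw [← Algebra.smul_def, map_smul, smul_eq_mul] :
      ∑ j, ℓ (algebraMap R S (Tm ρ y c j) * Y j k) = ∑ j, Tm ρ y c j * ℓ (Y j k))]
    rw [e', Matrix.map_apply, mul_comm b, ← Algebra.smul_def, map_smul, smul_eq_mul, mul_comm]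

/-- coordinates generate: `b = ∑ (ρ.i b k) • ρ.p e_k`. -/
theorem eq_sum_coord (ρ : Ret R S n) (b : S) :
    b = ∑ k, ρ.i b k • ρ.p (Pi.single k 1) := by
  conv_lhs => rw [← Ret.pi_apply ρ b]
  have h2 : ρ.i b = ∑ k, (ρ.i b k) • (Pi.single k 1 : Fin n → R) := by
    ext j
    simp [Finset.sum_apply, Pi.single_apply]
  conv_lhs => rw [h2, map_sum]
  refine Finset.sum_congr rfl fun k _ => ?_
  rw [map_smul]

/-- a multiplier outside an ideal `P` of `S` gives an element of the good ideal outside `P`. -/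
theorem GoodAt.exists_not_mem {ρ : Ret R S n} {y : Fin r → S} {b : S}
    (h : GoodAt ρ y (algebraMap R S) b) (P : Ideal S) (hb : b ∉ P) :
    ∃ a ∈ goodIdeal ρ y, algebraMap R S a ∉ P := by
  by_contra hcon
  push Not at hcon
  apply hb
  rw [eq_sum_coord ρ b]
  refine Ideal.sum_mem _ fun k _ => ?_
  rw [Algebra.smul_def]
  refine Ideal.mul_mem_right _ _ ?_
  exact hcon _ (h.functional ((LinearMap.proj k).comp ρ.i))

end Good

section Inv
variable {A B D : Type u} [CommRing A] [CommRing B] [CommRing D] (g : RGrpd A B D) {n r : ℕ}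

/-- **invariance of the good ideal**, universal form: a multiplier `a` at the identity point gives
the multiplier `τ a` at the point `σ : A → B`. -/
theorem RGrpd.goodAt_σ_τ (ρ : letI := g.σ.toAlgebra; Ret A B n) (x : Fin r → A) {a : A}
    (ha : letI := g.σ.toAlgebra; a ∈ goodIdeal ρ (fun j => g.τ (x j))) :
    letI := g.σ.toAlgebra; GoodAt ρ (fun j => g.τ (x j)) g.σ (g.τ a) := by
  obtain ⟨ρ1, hm1, hi1, -⟩ := exists_ret_bc_cat' g.po1 ρ
  obtain ⟨ρ2, hm2, hi2, -⟩ := exists_ret_bc_cat' g.po2 ρ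
  letI := g.σ.toAlgebra
  letI := g.p1.toAlgebra
  let z : Fin r → D := fun j => g.p0 (g.τ (x j))
  have hT1 : Tm ρ1 z = (Tm ρ (fun j => g.τ (x j))).map g.τ := by
    ext c j
    exact hi1 _ _
  have hT2 : Tm ρ2 z = (Tm ρ (fun j => g.τ (x j))).map g.σ := by
    ext c j
    have := hi2 (g.τ (x j)) c
    simp only [Tm, Matrix.of_apply, Matrix.map_apply, z]
    rw [← g.γτ]
    exact this
  have hP1 : mat ρ1 1 = (mat ρ 1).map g.τ := by
    have := hm1 1
    simpa using this
  have hP2 : mat ρ2 1 = (mat ρ 1).map g.σ := by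
    have := hm2 1
    simpa using this
  have h1 : GoodAt ρ1 z (RingHom.id B) (g.τ a) := by
    obtain ⟨Y, e1, e2⟩ := goodAt_of_mem_goodIdeal ha g.τ
    refine ⟨Y, ?_, ?_⟩
    · rw [hT1]
      simpa using e1
    · rw [hT1, hP1]
      simpa using e2
  obtain ⟨Y, e1, e2⟩ := h1.of_ret ρ2
  refine ⟨Y, ?_, ?_⟩
  · rw [hT2] at e1
    simpa using e1
  · rw [hT2, hP2] at e2
    simpa using e2

/-- **invariance**: if the good ideal is not contained in `τ⁻¹ P` it is not contained in `σ⁻¹ P`. -/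
theorem RGrpd.exists_mem_goodIdeal_σ (ρ : letI := g.σ.toAlgebra; Ret A B n) (x : Fin r → A)
    (P : Ideal B) {a : A}
    (ha : letI := g.σ.toAlgebra; a ∈ goodIdeal ρ (fun j => g.τ (x j))) (haP : g.τ a ∉ P) :
    ∃ a', (letI := g.σ.toAlgebra; a' ∈ goodIdeal ρ (fun j => g.τ (x j))) ∧ g.σ a' ∉ P := by
  have h := g.goodAt_σ_τ ρ x ha
  letI := g.σ.toAlgebra
  obtain ⟨a', ha', hP⟩ := GoodAt.exists_not_mem h P haP
  exact ⟨a', ha', hP⟩

end Inv

section Exist
variable {R S : Type*} [CommRing R] [CommRing S] [Algebra R S] {n : ℕ}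

/-- **existence of a basis at a field point** among the images of a generating family. -/
theorem exists_goodAt_field (ρ : Ret R S n) (t : R → S)
    (ht : Submodule.span R (Set.range t) = ⊤) {K : Type*} [Field K] (χ : R →+* K) :
    ∃ (r : ℕ) (x : Fin r → R), GoodAt ρ (fun j => t (x j)) χ 1 := by
  classical
  let vec : S → (Fin n → K) := fun b c => χ (ρ.i b c)
  let Sset : Set (Fin n → K) := Set.range fun a : R => vec (t a)
  obtain ⟨f, hfS, hfspan, hfli⟩ := Submodule.exists_fun_fin_finrank_span_eq K Sset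
  choose x hx using hfS
  refine ⟨_, x, ?_⟩
  set Tb := (Tm ρ (fun j => t (x j))).map χ with hTb
  set Pb := (mat ρ 1).map χ with hPb
  have hcol : Tb.col = f := by
    ext j c
    exact congrFun (hx j) c
  have hinj : Function.Injective Tb.mulVec := by
    rw [Matrix.mulVec_injective_iff, hcol]
    exact hfli
  have hrange : LinearMap.range Tb.mulVecLin = Submodule.span K Sset := by
    rw [Matrix.range_mulVecLin, hcol, hfspan]
  have hW : ∀ b : S, vec b ∈ Submodule.span K Sset := by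
    intro b
    have hb : b ∈ Submodule.span R (Set.range t) := by
      rw [ht]
      trivial
    induction hb using Submodule.span_induction with
    | mem b hb =>
      obtain ⟨a, rfl⟩ := hb
      exact Submodule.subset_span ⟨a, rfl⟩
    | zero =>
      have : vec 0 = 0 := by
        ext c
        simp [vec]
      rw [this]
      exact zero_mem _
    | add b b' _ _ h h' =>
      have : vec (b + b') = vec b + vec b' := by
        ext c
        simp [vec]
      rw [this]
      exact add_mem h h'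
    | smul a b _ h =>
      have : vec (a • b) = χ a • vec b := by
        ext c
        simp [vec]
      rw [this]
      exact Submodule.smul_mem _ _ h
  have hPcol : ∀ k, Pb.col k = vec (ρ.p (Pi.single k 1)) := by
    intro k
    ext c
    show χ (mat ρ 1 c k) = χ (ρ.i (ρ.p (Pi.single k 1)) c)
    rw [mat_apply, one_mul]
  have hmem : ∀ k, vec (ρ.p (Pi.single k 1)) ∈ LinearMap.range Tb.mulVecLin := by
    intro k
    rw [hrange]
    exact hW _
  choose Yc hYc using hmem
  let Y : Matrix (Fin _) (Fin n) K := Matrix.of fun j k => Yc k j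
  have h2 : Tb * Y = Pb := by
    ext c k
    have := congrFun (hYc k) c
    rw [← hPcol] at this
    simpa [Matrix.mul_apply, Matrix.mulVec, dotProduct, Y] using this
  have h1 : Y * Tb = 1 := by
    have e : Tb * (Y * Tb) = Tb := by
      rw [← Matrix.mul_assoc, h2, hPb, hTb, ← Matrix.map_mul, mat_one_mul_Tm]
    apply Matrix.mulVec_injective
    funext v
    apply hinj
    rw [Matrix.mulVec_mulVec, e, Matrix.one_mulVec]
  exact ⟨Y, by rw [h1, one_smul], by rw [h2, one_smul]⟩

/-- clearing denominators in a matrix over a "fraction field". -/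
theorem exists_clear_denominators {K : Type*} [Field K] (χ : R →+* K)
    (hfrac : ∀ k : K, ∃ a s : R, χ s ≠ 0 ∧ k * χ s = χ a) {r m : ℕ} (Y : Matrix (Fin r) (Fin m) K) :
    ∃ (s : R) (Y' : Matrix (Fin r) (Fin m) R), χ s ≠ 0 ∧ Y'.map χ = χ s • Y := by
  classical
  choose af sf hs haf using fun p : Fin r × Fin m => hfrac (Y p.1 p.2)
  refine ⟨∏ p, sf p, Matrix.of fun i j => af (i, j) * ∏ p ∈ Finset.univ.erase (i, j), sf p, ?_, ?_⟩
  · rw [map_prod]
    exact Finset.prod_ne_zero_iff.mpr fun p _ => hs p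
  · ext i j
    simp only [Matrix.map_apply, Matrix.of_apply, Matrix.smul_apply, smul_eq_mul, map_mul]
    rw [← haf (i, j), mul_assoc, ← map_mul, Finset.mul_prod_erase _ _ (Finset.mem_univ _), mul_comm]

/-- **spreading out**: goodness at a "fraction field" point gives an element of the good ideal
which does not vanish there. -/
theorem exists_mem_goodIdeal_of_goodAt {K : Type*} [Field K] (χ : R →+* K)
    (hfrac : ∀ k : K, ∃ a s : R, χ s ≠ 0 ∧ k * χ s = χ a) (ρ : Ret R S n) {r : ℕ} (y : Fin r → S)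
    (h : GoodAt ρ y χ 1) : ∃ a ∈ goodIdeal ρ y, χ a ≠ 0 := by
  classical
  obtain ⟨Y, h1, h2⟩ := h
  rw [one_smul] at h1 h2
  obtain ⟨s, Y', hs, hY'⟩ := exists_clear_denominators χ hfrac Y
  set T := Tm ρ y with hT
  set Pi := mat ρ 1 with hPi
  have hPT : Pi * T = T := mat_one_mul_Tm ρ y
  have hPP : Pi * Pi = Pi := by rw [hPi, ← mat_mul, one_mul]
  -- U and its determinant
  set U := Y' * T with hU
  have hUχ : U.map χ = χ s • (1 : Matrix (Fin r) (Fin r) K) := by
    rw [hU, Matrix.map_mul, hY', Matrix.smul_mul, h1]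
  set m := U.det with hm
  have hmχ : χ m = χ s ^ r := by
    rw [hm, RingHom.map_det, RingHom.mapMatrix_apply, hUχ, Matrix.det_smul, Matrix.det_one, mul_one,
      Fintype.card_fin]
  have hmχ0 : χ m ≠ 0 := by
    rw [hmχ]
    exact pow_ne_zero _ hs
  -- Y1
  set Y1 := U.adjugate * Y' * Pi with hY1
  have hY1T : Y1 * T = m • (1 : Matrix (Fin r) (Fin r) R) := by
    rw [hY1, Matrix.mul_assoc, hPT, Matrix.mul_assoc, ← hU, Matrix.adjugate_mul]
  have hY1P : Y1 * Pi = Y1 := by
    rw [hY1, Matrix.mul_assoc, hPP]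
  -- E and F
  set E := T * Y1 with hE
  have hPE : Pi * E = E := by rw [hE, ← Matrix.mul_assoc, hPT]
  have hEP : E * Pi = E := by rw [hE, Matrix.mul_assoc, hY1P]
  have hEE : E * E = m • E := by
    rw [hE, Matrix.mul_assoc, ← Matrix.mul_assoc Y1, hY1T, Matrix.smul_mul, Matrix.one_mul,
      Matrix.mul_smul]
  set F := m • Pi - E with hF
  have hFF : F * F = m • F := by
    rw [hF, Matrix.sub_mul, Matrix.mul_sub, Matrix.mul_sub, Matrix.smul_mul, Matrix.smul_mul,
      Matrix.mul_smul, Matrix.mul_smul, hPP, hPE, hEP, hEE, smul_sub, smul_smul]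
    abel
  set N := m • (1 : Matrix (Fin n) (Fin n) R) - F with hN
  have hNF : N * F = 0 := by
    rw [hN, Matrix.sub_mul, Matrix.smul_mul, Matrix.one_mul, hFF, sub_self]
  set δ := N.det with hδ
  have hδF : δ • F = 0 := by
    have := congrArg (fun M => N.adjugate * M) hNF
    simp only [Matrix.mul_zero] at this
    rwa [← Matrix.mul_assoc, Matrix.adjugate_mul, Matrix.smul_mul, Matrix.one_mul] at this
  -- images under χ
  have hY1χ : Y1.map χ = χ m • (Y * Pi.map χ) := by
    rw [hY1, Matrix.map_mul, Matrix.map_mul, hY']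
    have e1 : U.adjugate.map χ = (U.map χ).adjugate := by
      have := RingHom.map_adjugate χ U
      simpa [RingHom.mapMatrix_apply] using this
    have e2 : χ s • Y = U.map χ * Y := by
      rw [hUχ, Matrix.smul_mul, Matrix.one_mul]
    rw [e1, e2, ← Matrix.mul_assoc, Matrix.adjugate_mul, Matrix.smul_mul, Matrix.one_mul,
      Matrix.smul_mul]
    congr 1
    rw [hm, RingHom.map_det, RingHom.mapMatrix_apply]
  have hFχ : F.map χ = 0 := by
    have e : F.map χ = χ m • Pi.map χ - T.map χ * Y1.map χ := by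
      rw [hF, hE]
      ext i j
      simp [Matrix.map_apply, Matrix.sub_apply, Matrix.mul_apply]
    rw [e, hY1χ, Matrix.mul_smul, ← Matrix.mul_assoc, h2, ← Matrix.map_mul, hPP, sub_self]
  have hδχ : χ δ = χ m ^ n := by
    have e : N.map χ = χ m • (1 : Matrix (Fin n) (Fin n) K) := by
      have e' : N.map χ = χ m • (1 : Matrix (Fin n) (Fin n) K) - F.map χ := by
        rw [hN]
        ext i j
        simp only [Matrix.map_apply, Matrix.sub_apply, Matrix.smul_apply, Matrix.one_apply,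
          smul_eq_mul, map_sub, map_mul]
        split_ifs <;> simp
      rw [e', hFχ, sub_zero]
    rw [hδ, RingHom.map_det, RingHom.mapMatrix_apply, e, Matrix.det_smul, Matrix.det_one, mul_one,
      Fintype.card_fin]
  refine ⟨δ * m, ⟨δ • Y1, ?_, ?_⟩, ?_⟩
  · rw [Matrix.smul_mul, hY1T, smul_smul]
  · rw [Matrix.mul_smul, ← hE]
    have : E = m • Pi - F := by rw [hF]; abel
    rw [this, smul_sub, hδF, sub_zero, smul_smul]
  · rw [map_mul, hδχ]
    exact mul_ne_zero (pow_ne_zero _ hmχ0) hmχ0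

end Exist

section Main
variable {A B D : Type u} [CommRing A] [CommRing B] [CommRing D] (g : RGrpd A B D) {n : ℕ}

/-- the fraction field of `A ⧸ p` is a "fraction field point". -/
theorem hfrac_fractionRing (p : Ideal A) [p.IsPrime] (k : FractionRing (A ⧸ p)) :
    ∃ a s : A, ((algebraMap (A ⧸ p) (FractionRing (A ⧸ p))).comp (Ideal.Quotient.mk p)) s ≠ 0 ∧
      k * ((algebraMap (A ⧸ p) (FractionRing (A ⧸ p))).comp (Ideal.Quotient.mk p)) s =
        ((algebraMap (A ⧸ p) (FractionRing (A ⧸ p))).comp (Ideal.Quotient.mk p)) a := by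
  obtain ⟨a', s', hs', rfl⟩ := IsFractionRing.div_surjective (A := A ⧸ p) k
  obtain ⟨a, rfl⟩ := Ideal.Quotient.mk_surjective a'
  obtain ⟨s, rfl⟩ := Ideal.Quotient.mk_surjective s'
  have hne : algebraMap (A ⧸ p) (FractionRing (A ⧸ p)) (Ideal.Quotient.mk p s) ≠ 0 := by
    intro h0
    rw [map_eq_zero_iff _ (IsFractionRing.injective (A ⧸ p) (FractionRing (A ⧸ p)))] at h0
    rw [h0] at hs'
    exact zero_notMem_nonZeroDivisors hs'
  refine ⟨a, s, hne, ?_⟩
  simp only [RingHom.comp_apply]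
  rw [div_mul_cancel₀ _ hne]

/-- **local good elements**: around every prime `q` of the invariants there is an invariant `f ∉ q`
and a family `x` such that `f` lies in the good ideal of `τ ∘ x`. -/
theorem RGrpd.exists_local_good
    (hfin : letI := g.σ.toAlgebra; Module.Finite A B)
    (hproj : letI := g.σ.toAlgebra; Module.Projective A B)
    (hsurj : letI := g.σ.toAlgebra; Submodule.span A (Set.range g.τ) = ⊤)
    (horb : ∀ p₀ p₁ : Ideal A, p₀.IsPrime → p₁.IsPrime →
      p₀.comap g.inv.subtype = p₁.comap g.inv.subtype →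
      ∃ P : Ideal B, P.IsPrime ∧ P.comap g.τ = p₀ ∧ P.comap g.σ = p₁)
    (ρ : letI := g.σ.toAlgebra; Ret A B n) (q : Ideal g.inv) [q.IsPrime] :
    ∃ f : g.inv, f ∉ q ∧ ∃ (r : ℕ) (x : Fin r → A),
      letI := g.σ.toAlgebra; (f : A) ∈ goodIdeal ρ (fun j => g.τ (x j)) := by
  have hint : Algebra.IsIntegral g.inv A := g.isIntegral_inv hfin hproj
  obtain ⟨p₀, -, hp₀, hp₀q⟩ := Ideal.exists_ideal_over_prime_of_isIntegral q (⊥ : Ideal A)
    (by
      intro c hc
      rw [Ideal.mem_comap, Ideal.mem_bot] at hc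
      have : c = 0 := Subtype.ext hc
      rw [this]
      exact zero_mem _)
  let χ0 : A →+* FractionRing (A ⧸ p₀) :=
    (algebraMap (A ⧸ p₀) (FractionRing (A ⧸ p₀))).comp (Ideal.Quotient.mk p₀)
  have hχ0 : ∀ a, χ0 a ≠ 0 → a ∉ p₀ := by
    intro a ha hap
    apply ha
    simp only [χ0, RingHom.comp_apply]
    rw [Ideal.Quotient.eq_zero_iff_mem.mpr hap, map_zero]
  obtain ⟨r, x, hgood⟩ : ∃ (r : ℕ) (x : Fin r → A),
      letI := g.σ.toAlgebra; GoodAt ρ (fun j => g.τ (x j)) χ0 1 := by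
    letI := g.σ.toAlgebra
    exact exists_goodAt_field ρ g.τ hsurj χ0
  obtain ⟨a₀, ha₀, ha₀p⟩ : ∃ a₀, (letI := g.σ.toAlgebra; a₀ ∈ goodIdeal ρ (fun j => g.τ (x j))) ∧
      a₀ ∉ p₀ := by
    letI := g.σ.toAlgebra
    obtain ⟨a, ha, hane⟩ := exists_mem_goodIdeal_of_goodAt χ0 (hfrac_fractionRing p₀) ρ _ hgood
    exact ⟨a, ha, hχ0 a hane⟩
  have hall : ∀ p : Ideal A, p.IsPrime → p.comap (algebraMap g.inv A) = q →
      ∃ a, (letI := g.σ.toAlgebra; a ∈ goodIdeal ρ (fun j => g.τ (x j))) ∧ a ∉ p := by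
    intro p hp hpq
    obtain ⟨P, hP, hPτ, hPσ⟩ := horb p₀ p hp₀ hp (hp₀q.trans hpq.symm)
    have h1 : g.τ a₀ ∉ P := by
      intro h
      apply ha₀p
      rw [← hPτ]
      exact h
    obtain ⟨a', ha', ha'P⟩ := g.exists_mem_goodIdeal_σ ρ x P ha₀ h1
    refine ⟨a', ha', ?_⟩
    intro h
    apply ha'P
    rw [← hPσ] at h
    exact h
  by_contra hcon
  push Not at hcon
  have hle : (letI := g.σ.toAlgebra; goodIdeal ρ (fun j => g.τ (x j))).comap (algebraMap g.inv A) ≤ q := by
    intro f hf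
    by_contra hfq
    exact hcon f hfq r x hf
  obtain ⟨Q, hQ, hQp, hQq⟩ := Ideal.exists_ideal_over_prime_of_isIntegral q _ hle
  obtain ⟨a, ha, haQ⟩ := hall Q hQp hQq
  exact haQ (hQ ha)

end Main

end Groth.Agent.R2.H53.GrpdRing
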