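import Mathlib
import Groth.Agent.R2.H53GrpdLoc

/-!
# Quasi-bases from good elements (helper53)

For a ring-level groupoid `g : RGrpd A B D`, a retraction `ρ` of the `σ`-module `B`, a family
`x : Fin r → A` and an invariant `F ∈ g.inv` lying in the good ideal of `τ ∘ x`:
the `x j` are a basis of `A` over `g.inv` "up to powers of `F`", and
`A ⊗[g.inv] A → B`, `a ⊗ a' ↦ τ a * σ a'` is bijective up to powers of `F`.
Everything is elementary (no localisation).
-/

set_option autoImplicit false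
set_option linter.style.haveILetI false
set_option linter.unusedSectionVars false
universe u

open CategoryTheory CategoryTheory.Limits TensorProduct Matrix
open Groth.Agent.Lib.Helper2.RetCharpoly
open Groth.Agent.R2.H53.PNorm

namespace Groth.Agent.R2.H53.GrpdRing

section Gen
variable {R S : Type*} [CommRing R] [CommRing S] [Algebra R S] {n r : ℕ}

theorem Tm_mulVec (ρ : Ret R S n) (y : Fin r → S) (d : Fin r → R) :
    Tm ρ y *ᵥ d = ρ.i (∑ j, d j • y j) := by
  ext a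
  rw [map_sum, Finset.sum_apply]
  simp only [Matrix.mulVec, dotProduct, Tm, Matrix.of_apply, map_smul, Pi.smul_apply, smul_eq_mul]
  exact Finset.sum_congr rfl fun j _ => mul_comm _ _

/-- linear independence up to `a`. -/
theorem li_of_mem_goodIdeal {ρ : Ret R S n} {y : Fin r → S} {a : R} (ha : a ∈ goodIdeal ρ y)
    (c : Fin r → R) (hc : ∑ j, c j • y j = 0) (j : Fin r) : a * c j = 0 := by
  obtain ⟨Y, h1, -⟩ := ha
  have h0 : Tm ρ y *ᵥ c = 0 := by rw [Tm_mulVec, hc, map_zero]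
  have h2 : (Y * Tm ρ y) *ᵥ c = 0 := by rw [← Matrix.mulVec_mulVec, h0, Matrix.mulVec_zero]
  rw [h1, Matrix.smul_mulVec, Matrix.one_mulVec] at h2
  exact congrFun h2 j

/-- spanning up to `a`, with explicit coefficients. -/
theorem sp_of_mem_goodIdeal {ρ : Ret R S n} {y : Fin r → S} {a : R} (ha : a ∈ goodIdeal ρ y) :
    ∃ Y : Matrix (Fin r) (Fin n) R, ∀ b : S, a • b = ∑ j, (Y *ᵥ ρ.i b) j • y j := by
  obtain ⟨Y, -, h2⟩ := ha
  refine ⟨Y, fun b => ?_⟩
  have e1 : ∑ j, (Y *ᵥ ρ.i b) j • y j = ρ.p (Tm ρ y *ᵥ (Y *ᵥ ρ.i b)) := by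
    rw [Tm_mulVec, Ret.pi_apply]
  rw [e1, Matrix.mulVec_mulVec, h2, Matrix.smul_mulVec, mat_one_mulVec, Ret.pi_apply, map_smul,
    Ret.pi_apply]

end Gen

section Grpd
variable {A B D : Type u} [CommRing A] [CommRing B] [CommRing D] (g : RGrpd A B D) {n r : ℕ}
  (ρ : letI := g.σ.toAlgebra; Ret A B n) (x : Fin r → A) (F : g.inv)
  (hgood : letI := g.σ.toAlgebra; (F : A) ∈ goodIdeal ρ (fun j => g.τ (x j)))

include hgood

theorem RGrpd.li_B (c : Fin r → A) (hc : ∑ j, g.σ (c j) * g.τ (x j) = 0) (j : Fin r) :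
    (F : A) * c j = 0 := by
  letI := g.σ.toAlgebra
  refine li_of_mem_goodIdeal hgood c ?_ j
  simp only [Algebra.smul_def]
  exact hc

theorem RGrpd.sp_B : ∃ Y : Matrix (Fin r) (Fin n) A, ∀ b : B,
    g.σ (F : A) * b = ∑ j, g.σ ((Y *ᵥ (letI := g.σ.toAlgebra; ρ.i b)) j) * g.τ (x j) := by
  letI := g.σ.toAlgebra
  obtain ⟨Y, hY⟩ := sp_of_mem_goodIdeal hgood
  refine ⟨Y, fun b => ?_⟩
  have := hY b
  simp only [Algebra.smul_def] at this
  exact this

theorem RGrpd.li_D (β : Fin r → B) (hβ : ∑ j, g.p1 (β j) * g.p0 (g.τ (x j)) = 0) (j : Fin r) :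
    g.τ (F : A) * β j = 0 := by
  obtain ⟨ρ1, hm1, hi1, -⟩ := exists_ret_bc_cat' g.po1 ρ
  letI := g.σ.toAlgebra
  letI := g.p1.toAlgebra
  have hT1 : Tm ρ1 (fun j => g.p0 (g.τ (x j))) = (Tm ρ (fun j => g.τ (x j))).map g.τ := by
    ext c j
    exact hi1 _ _
  have hP1 : mat ρ1 1 = (mat ρ 1).map g.τ := by
    have := hm1 1
    simpa using this
  have hmem : g.τ (F : A) ∈ goodIdeal ρ1 (fun j => g.p0 (g.τ (x j))) := by
    obtain ⟨Y, e1, e2⟩ := goodAt_of_mem_goodIdeal hgood g.τ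
    refine ⟨Y, ?_, ?_⟩
    · rw [hT1]
      simpa using e1
    · rw [hT1, hP1]
      simpa using e2
  refine li_of_mem_goodIdeal hmem β ?_ j
  simp only [Algebra.smul_def]
  exact hβ

/-- the coefficients of `τ a` are invariant up to `F`. -/
theorem RGrpd.coeff_inv (d : Fin r → A) (a : A)
    (hd : g.σ (F : A) * g.τ a = ∑ j, g.σ (d j) * g.τ (x j)) (j : Fin r) :
    g.σ ((F : A) * d j) = g.τ ((F : A) * d j) := by
  have hF : g.σ (F : A) = g.τ (F : A) := F.2
  have e1 : g.p1 (g.σ (F : A)) * g.p0 (g.τ a) = ∑ j, g.p1 (g.σ (d j)) * g.p0 (g.τ (x j)) := by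
    have := congrArg g.γ hd
    simpa [map_sum, g.γσ, g.γτ] using this
  have e2 : g.p1 (g.σ (F : A)) * g.p0 (g.τ a) = ∑ j, g.p1 (g.τ (d j)) * g.p0 (g.τ (x j)) := by
    have := congrArg g.p0 hd
    rw [hF]
    simpa [map_sum, g.p0σ] using this
  have e3 : ∑ j, g.p1 (g.σ (d j) - g.τ (d j)) * g.p0 (g.τ (x j)) = 0 := by
    simp only [map_sub, sub_mul, Finset.sum_sub_distrib]
    rw [← e1, ← e2, sub_self]
  have := g.li_D ρ x F hgood _ e3 j
  rw [mul_sub, sub_eq_zero] at this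
  rw [map_mul, map_mul, hF]
  exact this

/-- every element of `A` is, up to `F ^ 2`, an invariant combination of the `x j`. -/
theorem RGrpd.repr_A (a : A) : ∃ c : Fin r → g.inv, (F : A) ^ 2 * a = ∑ j, (c j : A) * x j := by
  obtain ⟨Y, hY⟩ := g.sp_B ρ x F hgood
  set d := Y *ᵥ (letI := g.σ.toAlgebra; ρ.i (g.τ a)) with hd
  have h1 := hY (g.τ a)
  refine ⟨fun j => ⟨(F : A) * d j, g.coeff_inv ρ x F hgood d a h1 j⟩, ?_⟩
  have h2 := congrArg g.ε h1
  simp only [map_mul, map_sum, g.εσ, g.ετ] at h2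
  rw [pow_two, mul_assoc, h2, Finset.mul_sum]
  refine Finset.sum_congr rfl fun j _ => ?_
  rw [mul_assoc]

theorem RGrpd.li_A (c : Fin r → g.inv) (hc : ∑ j, (c j : A) * x j = 0) (j : Fin r) :
    (F : A) * (c j : A) = 0 := by
  refine g.li_B ρ x F hgood (fun j => (c j : A)) ?_ j
  have := congrArg g.τ hc
  simp only [map_sum, map_mul, map_zero] at this
  rw [← this]
  refine Finset.sum_congr rfl fun j _ => ?_
  congr 1
  exact (c j).2

/-- **quasi-basis** in the form needed for patching. -/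
theorem RGrpd.quasi_basis :
    (∀ c : Fin r → g.inv, ∑ j, c j • x j = 0 → ∀ j, F ^ 2 * c j = 0) ∧
      (∀ a : A, ∃ c : Fin r → g.inv, (F ^ 2) • a = ∑ j, c j • x j) := by
  constructor
  · intro c hc j
    have h := g.li_A ρ x F hgood c (by simpa [Subring.smul_def] using hc) j
    apply Subtype.ext
    push_cast
    rw [pow_two, mul_assoc, h, mul_zero]
  · intro a
    obtain ⟨c, hc⟩ := g.repr_A ρ x F hgood a
    refine ⟨c, ?_⟩
    simpa [Subring.smul_def] using hc

end Grpd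

section Mu
variable {A B D : Type u} [CommRing A] [CommRing B] [CommRing D] (g : RGrpd A B D) {n r : ℕ}
  (ρ : letI := g.σ.toAlgebra; Ret A B n) (x : Fin r → A) (F : g.inv)
  (hgood : letI := g.σ.toAlgebra; (F : A) ∈ goodIdeal ρ (fun j => g.τ (x j)))
  (μ : A ⊗[g.inv] A →+ B) (hμ : ∀ a a' : A, μ (a ⊗ₜ a') = g.τ a * g.σ a')

include hμ in
theorem RGrpd.mu_smul (c : g.inv) (z : A ⊗[g.inv] A) : μ (c • z) = g.σ (c : A) * μ z := by
  induction z using TensorProduct.induction_on with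
  | zero => simp
  | tmul a a' =>
    rw [TensorProduct.smul_tmul', hμ, hμ, Subring.smul_def, smul_eq_mul, map_mul, ← c.2, mul_assoc]
  | add z w hz hw => rw [smul_add, map_add, map_add, hz, hw, mul_add]

include hgood in
theorem RGrpd.exists_repr_tensor (z : A ⊗[g.inv] A) :
    ∃ a' : Fin r → A, (F ^ 2) • z = ∑ j, x j ⊗ₜ[g.inv] a' j := by
  induction z using TensorProduct.induction_on with
  | zero => exact ⟨0, by simp⟩
  | tmul a a'' =>
    obtain ⟨c, hc⟩ := (g.quasi_basis ρ x F hgood).2 a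
    refine ⟨fun j => c j • a'', ?_⟩
    rw [TensorProduct.smul_tmul', hc, TensorProduct.sum_tmul]
    refine Finset.sum_congr rfl fun j _ => ?_
    rw [TensorProduct.smul_tmul]
  | add z w hz hw =>
    obtain ⟨a1, h1⟩ := hz
    obtain ⟨a2, h2⟩ := hw
    refine ⟨a1 + a2, ?_⟩
    rw [smul_add, h1, h2, ← Finset.sum_add_distrib]
    refine Finset.sum_congr rfl fun j _ => ?_
    rw [Pi.add_apply, TensorProduct.tmul_add]

include hgood hμ in
/-- **quasi-bijectivity** of `A ⊗[g.inv] A → B`. -/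
theorem RGrpd.quasi_bijective :
    (∀ z, μ z = 0 → (F ^ 3) • z = 0) ∧ (∀ b, ∃ z, μ z = g.σ ((F : A) ^ 3) * b) := by
  constructor
  · intro z hz
    obtain ⟨a', ha'⟩ := g.exists_repr_tensor ρ x F hgood z
    have h1 : μ ((F ^ 2) • z) = 0 := by rw [g.mu_smul μ hμ, hz, mul_zero]
    rw [ha', map_sum] at h1
    simp only [hμ] at h1
    have h2 : ∀ j, (F : A) * a' j = 0 := g.li_B ρ x F hgood a' (by
      rw [← h1]
      exact Finset.sum_congr rfl fun j _ => mul_comm _ _)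
    rw [pow_succ', mul_smul, ha', Finset.smul_sum]
    refine Finset.sum_eq_zero fun j _ => ?_
    rw [TensorProduct.smul_tmul', TensorProduct.smul_tmul, Subring.smul_def, smul_eq_mul, h2,
      TensorProduct.tmul_zero]
  · intro b
    obtain ⟨Y, hY⟩ := g.sp_B ρ x F hgood
    refine ⟨(F ^ 2) • ∑ j, x j ⊗ₜ[g.inv] (Y *ᵥ (letI := g.σ.toAlgebra; ρ.i b)) j, ?_⟩
    rw [g.mu_smul μ hμ, map_sum]
    simp only [hμ]
    have e : (∑ j, g.τ (x j) * g.σ ((Y *ᵥ (letI := g.σ.toAlgebra; ρ.i b)) j)) = g.σ (F : A) * b := by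
      rw [hY b]
      exact Finset.sum_congr rfl fun j _ => mul_comm _ _
    rw [e, ← mul_assoc, ← map_mul]
    congr 2
    push_cast
    ring

end Mu

end Groth.Agent.R2.H53.GrpdRing
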