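import Mathlib
import Groth.Agent.R2.H53GrpdQB

/-!
# Ring-level finite flat quotient: local quasi-bases (helper53)

`RGrpd.local_quasi`: for a ring-level groupoid `g` with `B` finite projective over `A` (via `σ`),
`B` generated by `τ(A)` as a `σ`-module (the ring form of `Mono (t, s)`) and orbits = fibres of
`Spec A → Spec g.inv`, around every prime `q` of `g.inv` there is an invariant `f ∉ q` such that
`A` has a quasi-basis over `g.inv` up to `f ^ 2` and `A ⊗[g.inv] A → B` is bijective up to `f ^ 3`.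
These are exactly the hypotheses of the patching lemmas (helper33, `finite_projective_of_local_quasi_basis`,
`bijective_of_local_quasi`).
-/

set_option autoImplicit false
set_option linter.style.haveILetI false
set_option linter.unusedSectionVars false
universe u

open CategoryTheory CategoryTheory.Limits TensorProduct Matrix
open Groth.Agent.Lib.Helper2.RetCharpoly
open Groth.Agent.R2.H53.PNorm

namespace Groth.Agent.R2.H53.GrpdRing

variable {A B D : Type u} [CommRing A] [CommRing B] [CommRing D] (g : RGrpd A B D)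

theorem RGrpd.local_quasi
    (hfin : letI := g.σ.toAlgebra; Module.Finite A B)
    (hproj : letI := g.σ.toAlgebra; Module.Projective A B)
    (hsurj : letI := g.σ.toAlgebra; Submodule.span A (Set.range g.τ) = ⊤)
    (horb : ∀ p₀ p₁ : Ideal A, p₀.IsPrime → p₁.IsPrime →
      p₀.comap g.inv.subtype = p₁.comap g.inv.subtype →
      ∃ P : Ideal B, P.IsPrime ∧ P.comap g.τ = p₀ ∧ P.comap g.σ = p₁)
    (q : Ideal g.inv) (hq : q.IsPrime) :
    ∃ f : g.inv, f ∉ q ∧
      (∃ (k r : ℕ) (x : Fin r → A),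
        (∀ c : Fin r → g.inv, ∑ j, c j • x j = 0 → ∀ j, f ^ k * c j = 0) ∧
        (∀ m : A, ∃ c : Fin r → g.inv, f ^ k • m = ∑ j, c j • x j)) ∧
      (∀ μ : A ⊗[g.inv] A →+ B, (∀ a a' : A, μ (a ⊗ₜ a') = g.τ a * g.σ a') →
        ∃ k : ℕ, (∀ z, μ z = 0 → f ^ k • z = 0) ∧ (∀ b, ∃ z, μ z = g.σ ((f : A) ^ k) * b)) := by
  obtain ⟨n, ⟨ρ⟩⟩ : ∃ n, Nonempty (letI := g.σ.toAlgebra; Ret A B n) := by
    letI := g.σ.toAlgebra
    exact exists_ret A B
  obtain ⟨f, hfq, r, x, hgood⟩ := g.exists_local_good hfin hproj hsurj horb ρ q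
  refine ⟨f, hfq, ⟨2, r, x, g.quasi_basis ρ x f hgood⟩, fun μ hμ => ⟨3, ?_⟩⟩
  exact g.quasi_bijective ρ x f hgood μ hμ

end Groth.Agent.R2.H53.GrpdRing
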