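import Mathlib
import Groth.Agent.R2.H59QSpec
import Groth.Agent.S7488

/-!
# PROJ:thmQ, PKG-3 (helper14): quotient of an affine scheme by a finite etale equivalence relation

`finQuot : QSpec.FinQuotStmt`.  We build the groupoid scheme of an equivalence relation
(`ofEqvRel`, with `U = V.left`, `R = R.left`, `s = s.left`, `t = t.left` definitionally) and apply
S7488.
-/

set_option autoImplicit false
universe u

open CategoryTheory CategoryTheory.Limits AlgebraicGeometry

namespace Groth.Agent.R2.H14.QFinQuot

open Groth.Agent.R2.H59.QSpec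

variable {S : Scheme.{u}} {R V : Over S} {s t : R ⟶ V}

/-- joint injectivity of `(t, s)` on scheme-valued points. -/
lemma hom_ext_of_isEqvRel (h : AlgSp.IsEqvRel s t) {T : Scheme.{u}} (r r' : T ⟶ R.left)
    (ht : r ≫ t.left = r' ≫ t.left) (hs : r ≫ s.left = r' ≫ s.left) : r = r' := by
  have hw : r' ≫ R.hom = r ≫ R.hom := by
    rw [← Over.w t, ← Category.assoc, ← ht, Category.assoc]
  have := h.injective (Over.mk (r ≫ R.hom)) (Over.homMk r rfl) (Over.homMk r' hw)
    (by ext; exact ht) (by ext; exact hs)
  exact congrArg CommaMorphism.left this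

/-- the identity section. -/
lemma exists_e (h : AlgSp.IsEqvRel s t) :
    ∃ e : V.left ⟶ R.left, e ≫ s.left = 𝟙 _ ∧ e ≫ t.left = 𝟙 _ := by
  obtain ⟨r, hr1, hr2⟩ := (h.equivalence V).refl (𝟙 V)
  exact ⟨r.left, congrArg CommaMorphism.left hr2, congrArg CommaMorphism.left hr1⟩

/-- the inverse. -/
lemma exists_i (h : AlgSp.IsEqvRel s t) :
    ∃ i : R.left ⟶ R.left, i ≫ s.left = t.left ∧ i ≫ t.left = s.left := by
  have h0 : ∃ r : R ⟶ R, r ≫ t = t ∧ r ≫ s = s := ⟨𝟙 R, by simp, by simp⟩
  obtain ⟨r, hr1, hr2⟩ := (h.equivalence R).symm h0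
  exact ⟨r.left, congrArg CommaMorphism.left hr2, congrArg CommaMorphism.left hr1⟩

/-- the composition. -/
lemma exists_c (h : AlgSp.IsEqvRel s t) :
    ∃ c : pullback s.left t.left ⟶ R.left,
      c ≫ s.left = pullback.snd s.left t.left ≫ s.left ∧
      c ≫ t.left = pullback.fst s.left t.left ≫ t.left := by
  let T : Over S := Over.mk (pullback.fst s.left t.left ≫ R.hom)
  let f1 : T ⟶ R := Over.homMk (pullback.fst s.left t.left) rfl
  let f2 : T ⟶ R := Over.homMk (pullback.snd s.left t.left) (by
    change pullback.snd s.left t.left ≫ R.hom = pullback.fst s.left t.left ≫ R.hom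
    calc pullback.snd s.left t.left ≫ R.hom
        = pullback.snd s.left t.left ≫ t.left ≫ V.hom := by rw [Over.w t]
      _ = pullback.fst s.left t.left ≫ s.left ≫ V.hom := by rw [pullback.condition_assoc]
      _ = pullback.fst s.left t.left ≫ R.hom := by rw [Over.w s])
  have h1 : ∃ r : T ⟶ R, r ≫ t = f1 ≫ t ∧ r ≫ s = f1 ≫ s := ⟨f1, rfl, rfl⟩
  have h2 : ∃ r : T ⟶ R, r ≫ t = f1 ≫ s ∧ r ≫ s = f2 ≫ s := by
    refine ⟨f2, ?_, rfl⟩
    ext
    exact pullback.condition.symm
  obtain ⟨r, hr1, hr2⟩ := (h.equivalence T).trans h1 h2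
  exact ⟨r.left, congrArg CommaMorphism.left hr2, congrArg CommaMorphism.left hr1⟩

/-- the groupoid scheme of an equivalence relation. -/
noncomputable def ofEqvRel (h : AlgSp.IsEqvRel s t) : Grpd.GroupoidScheme S where
  U := V.left
  R := R.left
  pU := V.hom
  pR := R.hom
  s := s.left
  t := t.left
  e := (exists_e h).choose
  i := (exists_i h).choose
  c := (exists_c h).choose
  s_over := Over.w s
  t_over := Over.w t
  comp_s := fun α β w => by
    rw [Category.assoc, (exists_c h).choose_spec.1, pullback.lift_snd_assoc]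
  comp_t := fun α β w => by
    rw [Category.assoc, (exists_c h).choose_spec.2, pullback.lift_fst_assoc]
  assoc := fun α β γ h₁ h₂ => by
    apply hom_ext_of_isEqvRel h
    · simp only [Category.assoc, (exists_c h).choose_spec.2, pullback.lift_fst_assoc]
    · simp only [Category.assoc, (exists_c h).choose_spec.1, pullback.lift_snd_assoc]
  e_s := (exists_e h).choose_spec.1
  e_t := (exists_e h).choose_spec.2
  comp_e := fun α => by
    apply hom_ext_of_isEqvRel h
    · simp only [Category.assoc, (exists_c h).choose_spec.2, pullback.lift_fst_assoc]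
    · simp only [Category.assoc, (exists_c h).choose_spec.1, pullback.lift_snd_assoc,
        (exists_e h).choose_spec.1, Category.comp_id]
  e_comp := fun α => by
    apply hom_ext_of_isEqvRel h
    · simp only [Category.assoc, (exists_c h).choose_spec.2, pullback.lift_fst_assoc,
        (exists_e h).choose_spec.2, Category.comp_id]
    · simp only [Category.assoc, (exists_c h).choose_spec.1, pullback.lift_snd_assoc]
  i_s := (exists_i h).choose_spec.1
  i_t := (exists_i h).choose_spec.2
  comp_i := fun α => by
    apply hom_ext_of_isEqvRel h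
    · simp only [Category.assoc, (exists_c h).choose_spec.2, pullback.lift_fst_assoc,
        (exists_e h).choose_spec.2, Category.comp_id]
    · simp only [Category.assoc, (exists_c h).choose_spec.1, pullback.lift_snd_assoc,
        (exists_e h).choose_spec.1, (exists_i h).choose_spec.1, Category.comp_id]
  i_comp := fun α => by
    apply hom_ext_of_isEqvRel h
    · simp only [Category.assoc, (exists_c h).choose_spec.2, pullback.lift_fst_assoc,
        (exists_e h).choose_spec.2, (exists_i h).choose_spec.2, Category.comp_id]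
    · simp only [Category.assoc, (exists_c h).choose_spec.1, pullback.lift_snd_assoc,
        (exists_e h).choose_spec.1, Category.comp_id]

instance mono_j (h : AlgSp.IsEqvRel s t) : Mono (ofEqvRel h).j := by
  refine ⟨fun {T} r r' hrr' => ?_⟩
  have e1 := hrr' =≫ pullback.fst _ _
  have e2 := hrr' =≫ pullback.snd _ _
  simp only [Grpd.GroupoidScheme.j, Category.assoc, pullback.lift_fst, pullback.lift_snd] at e1 e2
  exact hom_ext_of_isEqvRel h r r' e1 e2

/-- PKG-3. -/
theorem finQuot : FinQuotStmt.{u} := by
  intro S R V s t h hV hR hsf hse htf hte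
  let G := ofEqvRel h
  have : IsAffine G.U := hV
  have : IsAffine G.R := hR
  have : IsFinite G.s := hsf
  have : Etale G.s := hse
  have : IsFinite G.t := htf
  have : Etale G.t := hte
  have : Flat G.s := inferInstance
  have : Flat G.t := inferInstance
  have : LocallyOfFinitePresentation G.s := inferInstance
  have : LocallyOfFinitePresentation G.t := inferInstance
  have : Mono G.j := mono_j h
  obtain ⟨m, ⟨hm, hq⟩, -⟩ := Groth.Agent.S7488.result S G
  exact ⟨Over.mk m, Over.homMk G.toQuot hm, hq⟩

end Groth.Agent.R2.H14.QFinQuot
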