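import Mathlib
import Groth.Agent.R2.H59QSpec

/-!
# PROJ:thmQ, PKG-2 (helper14): the off-diagonal part of `T' ×_T T'`

`offDiag : QSpec.OffDiagStmt`, `empty : QSpec.EmptyStmt`.
-/

set_option autoImplicit false
universe u

open CategoryTheory CategoryTheory.Limits AlgebraicGeometry

namespace Groth.Agent.R2.H14.QOffDiag

open Groth.Agent.R2.H59.QSpec

/-- points of a pullback square of schemes surject onto the topological fibre product. -/
lemma exists_preimage_of_isPullback {P X Y Z : Scheme.{u}} {fst : P ⟶ X} {snd : P ⟶ Y}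
    {f : X ⟶ Z} {g : Y ⟶ Z} (h : IsPullback fst snd f g) (x : ↥X) (y : ↥Y)
    (hxy : f x = g y) : ∃ p : ↥P, fst p = x ∧ snd p = y := by
  obtain ⟨z, hz1, hz2⟩ := Scheme.Pullback.exists_preimage_pullback (f := f) (g := g) x y hxy
  refine ⟨h.isoPullback.inv z, ?_, ?_⟩
  · rw [← Scheme.Hom.comp_apply, h.isoPullback_inv_fst, hz1]
  · rw [← Scheme.Hom.comp_apply, h.isoPullback_inv_snd, hz2]

/-- no field-valued points in the fibres means the source is empty. -/
theorem empty : EmptyStmt.{u} := by
  intro T' T g hg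
  refine ⟨fun t => ?_⟩
  have h := hg (T'.residueField t) (T'.fromSpecResidueField t ≫ g)
    {T'.fromSpecResidueField t} (by simp)
  simp at h

/-- the square `(sec, σ; ψ, Δ)` is a pullback, where `ψ = (b, a ≫ σ) : P ⟶ T' ×_T T'`. -/
lemma isPullback_sec {T' T N P : Scheme.{u}} (g : T' ⟶ T) (σ : N ⟶ T') (a : P ⟶ N) (b : P ⟶ T')
    (hP : IsPullback a b (σ ≫ g) g) (sec : N ⟶ P) (h1 : sec ≫ a = 𝟙 N) (h2 : sec ≫ b = σ) :
    IsPullback sec σ (pullback.lift b (a ≫ σ) (by rw [Category.assoc, hP.w]))
      (pullback.diagonal g) := by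
  refine ⟨⟨?_⟩, ⟨PullbackCone.IsLimit.mk _ (fun c => c.fst ≫ a) ?_ ?_ ?_⟩⟩
  · apply pullback.hom_ext <;>
      simp [h2, reassoc_of% h1, pullback.lift_fst, pullback.lift_snd]
  · intro c
    have hc := c.condition
    have hc1 := hc =≫ pullback.fst g g
    have hc2 := hc =≫ pullback.snd g g
    simp only [Category.assoc, pullback.lift_fst, pullback.lift_snd,
      pullback.diagonal_fst, pullback.diagonal_snd, Category.comp_id] at hc1 hc2
    apply hP.hom_ext
    · simp [h1]
    · simp [h2, hc1, hc2]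
  · intro c
    have hc := c.condition
    have hc2 := hc =≫ pullback.snd g g
    simpa [pullback.lift_snd] using hc2
  · intro c w hw1 _
    rw [← hw1]
    simp [h1]

/-- the square `(m, b'; ψ, ι)` is a pullback for any `ι : D ⟶ T' ×_T T'`. -/
lemma isPullback_m {T' T N P N' D : Scheme.{u}} (g : T' ⟶ T) (ι : D ⟶ pullback g g)
    (σ : N ⟶ T') (a : P ⟶ N) (b : P ⟶ T') (a' : N' ⟶ N) (b' : N' ⟶ D)
    (hP : IsPullback a b (σ ≫ g) g) (hN' : IsPullback a' b' σ (ι ≫ pullback.snd g g))
    (m : N' ⟶ P) (h1 : m ≫ a = a') (h2 : m ≫ b = b' ≫ ι ≫ pullback.fst g g) :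
    IsPullback m b' (pullback.lift b (a ≫ σ) (by rw [Category.assoc, hP.w])) ι := by
  refine ⟨⟨?_⟩, ⟨PullbackCone.IsLimit.mk _
    (fun c => hN'.lift (c.fst ≫ a) c.snd ?_) ?_ ?_ ?_⟩⟩
  · apply pullback.hom_ext
    · simp [h2, pullback.lift_fst]
    · simp [reassoc_of% h1, hN'.w, pullback.lift_snd]
  · have hc2 := c.condition =≫ pullback.snd g g
    simpa [pullback.lift_snd] using hc2
  · intro c
    have hc1 := c.condition =≫ pullback.fst g g
    simp only [Category.assoc, pullback.lift_fst] at hc1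
    apply hP.hom_ext
    · simp [h1]
    · simp [h2, hc1]
  · intro c
    simp
  · intro c w hw1 hw2
    apply hN'.hom_ext
    · rw [IsPullback.lift_fst, ← hw1]
      simp only [Category.assoc, h1]
    · rw [IsPullback.lift_snd, hw2]

/-- PKG-2. -/
theorem offDiag : OffDiagStmt.{u} := by
  intro T' T g _ _ d hd
  have hcl : IsClosed (Set.range (pullback.diagonal g)) :=
    (pullback.diagonal g).isClosedEmbedding.isClosed_range
  let DU : (pullback g g).Opens := ⟨(Set.range (pullback.diagonal g))ᶜ, hcl.isOpen_compl⟩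
  refine ⟨DU.toScheme, DU.ι ≫ pullback.fst g g, DU.ι ≫ pullback.snd g g, ?_, ?_, ?_, ?_, ?_⟩
  · simp [pullback.condition]
  · infer_instance
  · infer_instance
  · intro L _ y s hs
    classical
    let φ : (Spec (CommRingCat.of L) ⟶ DU.toScheme) → (Spec (CommRingCat.of L) ⟶ T') :=
      fun z => z ≫ DU.ι ≫ pullback.snd g g
    have hinj : Set.InjOn φ (s : Set (Spec (CommRingCat.of L) ⟶ DU.toScheme)) := by
      intro z hz z' hz' hzz'
      rw [← cancel_mono DU.ι]
      apply pullback.hom_ext
      · have e1 := hs z hz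
        have e2 := hs z' hz'
        simp only [Category.assoc] at e1 e2 ⊢
        rw [e1, e2]
      · simpa [φ] using hzz'
    have hy : y ∉ s.image φ := by
      intro hmem
      obtain ⟨z, hz, hzy⟩ := Finset.mem_image.mp hmem
      have e1 := hs z hz
      have hzΔ : z ≫ DU.ι = y ≫ pullback.diagonal g := by
        apply pullback.hom_ext
        · simpa using e1
        · simpa [φ] using hzy
      obtain ⟨x₀⟩ : Nonempty ↥(Spec (CommRingCat.of L)) :=
        (inferInstance : Nonempty (PrimeSpectrum L))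
      have hx : DU.ι (z x₀) ∈ Set.range (pullback.diagonal g) := by
        rw [← Scheme.Hom.comp_apply, hzΔ, Scheme.Hom.comp_apply]
        exact ⟨_, rfl⟩
      have hx' : DU.ι (z x₀) ∈ DU := by
        have := (z x₀).2
        simp
      exact hx' hx
    have hcard := hd L (y ≫ g) (insert y (s.image φ)) (by
      intro w hw
      rcases Finset.mem_insert.mp hw with rfl | hw
      · rfl
      · obtain ⟨z, hz, rfl⟩ := Finset.mem_image.mp hw
        have e1 := hs z hz
        simp only [φ, Category.assoc]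
        rw [← pullback.condition, ← e1]
        simp)
    rw [Finset.card_insert_of_notMem hy, Finset.card_image_of_injOn hinj] at hcard
    omega
  · intro N P N' σ a b a' b' hP hN' sec m h1 h2 h3 h4 p
    have hψ : b ≫ g = (a ≫ σ) ≫ g := by rw [Category.assoc, hP.w]
    by_cases hp : (pullback.lift b (a ≫ σ) hψ) p ∈ Set.range (pullback.diagonal g)
    · left
      obtain ⟨t, ht⟩ := hp
      obtain ⟨n, hn, -⟩ := exists_preimage_of_isPullback
        (isPullback_sec g σ a b hP sec h1 h2) p t ht.symm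
      exact ⟨n, hn⟩
    · right
      have hpD : (pullback.lift b (a ≫ σ) hψ) p ∈ Set.range DU.ι := by
        rw [Scheme.Opens.range_ι]
        exact hp
      obtain ⟨x, hx⟩ := hpD
      obtain ⟨n, hn, -⟩ := exists_preimage_of_isPullback
        (isPullback_m g DU.ι σ a b a' b' hP hN' m h3 (by simpa using h4)) p x hx.symm
      exact ⟨n, hn⟩

end Groth.Agent.R2.H14.QOffDiag
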