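import Mathlib.RingTheory.Etale.StandardEtale
import Mathlib.FieldTheory.IsAlgClosed.AlgebraicClosure
import Mathlib.RingTheory.Spectrum.Prime.RingHom
import Mathlib.RingTheory.LocalRing.ResidueField.Ideal
import Mathlib.RingTheory.Smooth.Flat
import Mathlib.RingTheory.Spectrum.Prime.Chevalley
import Mathlib.RingTheory.Ideal.GoingDown

/-!
# Etale algebras used to split quadratic forms (helper14)

* `lift_prime_of_g_eq_one`: every prime lifts to a standard etale algebra `R[X]/(f)` (`g = 1`).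
* `quadPair`: the standard etale pair `(X² + a₁ X + a₀, 1)` when `a₁² - 4 a₀` is a unit.
* `exists_prime_comap_away`: primes not containing `f` lift to `Localization.Away f`.
* `isOpen_range_comap_of_etale`: the image of `Spec B → Spec A` is open for `B` etale over `A`.
-/

universe u
open Polynomial

namespace Groth.Agent.R2.H14.QuadEtale

/-- Every prime of `B` lifts to a standard etale algebra with `g = 1` and `f` of positive degree. -/
theorem lift_prime_of_g_eq_one {B : Type u} [CommRing B] (P : StandardEtalePair B) (hg : P.g = 1)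
    (hdeg : 0 < P.f.natDegree) (p : PrimeSpectrum B) :
    ∃ q : PrimeSpectrum P.Ring, q.asIdeal.comap (algebraMap B P.Ring) = p.asIdeal := by
  let κ := p.asIdeal.ResidueField
  let Ω := AlgebraicClosure κ
  let _ : Algebra B Ω := ((algebraMap κ Ω).comp (algebraMap B κ)).toAlgebra
  have hdeg' : (P.f.map (algebraMap B Ω)).degree ≠ 0 := by
    rw [P.monic_f.degree_map]
    intro h
    have := natDegree_eq_zero_iff_degree_le_zero.mpr h.le
    omega
  obtain ⟨t, ht⟩ := IsAlgClosed.exists_root _ hdeg'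
  have hmap : P.HasMap t := by
    refine ⟨?_, ?_⟩
    · rw [IsRoot.def, eval_map, ← aeval_def] at ht
      exact ht
    · rw [hg]
      simp
  let φ : P.Ring →ₐ[B] Ω := P.lift t hmap
  refine ⟨⟨RingHom.ker φ.toRingHom, RingHom.ker_isPrime _⟩, ?_⟩
  ext x
  simp only [Ideal.mem_comap, RingHom.mem_ker]
  change φ (algebraMap B P.Ring x) = 0 ↔ _
  rw [φ.commutes]
  change (algebraMap κ Ω) (algebraMap B κ x) = 0 ↔ _
  rw [map_eq_zero_iff _ (algebraMap κ Ω).injective, Ideal.algebraMap_residueField_eq_zero]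

/-- The standard etale pair `(X² + a₁ X + a₀, 1)` when `a₁² - 4 a₀` is a unit. -/
noncomputable def quadPair {B : Type u} [CommRing B] (a₁ a₀ d' : B)
    (hd : (a₁ ^ 2 - 4 * a₀) * d' = 1) : StandardEtalePair B where
  f := X ^ 2 + C a₁ * X + C a₀
  monic_f := by
    have : (X ^ 2 + C a₁ * X + C a₀ : B[X]) = X ^ 2 + (C a₁ * X + C a₀) := by ring
    rw [this]
    apply monic_X_pow_add
    calc (C a₁ * X + C a₀ : B[X]).degree ≤ 1 := degree_linear_le
      _ < 2 := by norm_num
  g := 1
  cond := by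
    refine ⟨(2 * X + C a₁) * C d', - 4 * C d', 0, ?_⟩
    have h2 : (C (a₁ ^ 2 - 4 * a₀) : B[X]) * C d' = 1 := by rw [← C_mul, hd, C_1]
    simp only [derivative_add, derivative_X_pow, derivative_mul, derivative_C, derivative_X,
      pow_zero]
    simp only [C_sub, C_pow, C_mul, map_ofNat] at h2
    simp only [Nat.cast_ofNat, Nat.add_one_sub_one, pow_one, zero_mul, mul_one, zero_add, add_zero]
    have hC2 : (C (2 : B) : B[X]) = 2 := map_ofNat C 2
    rw [hC2]
    linear_combination h2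

theorem quadPair_f {B : Type u} [CommRing B] (a₁ a₀ d' : B)
    (hd : (a₁ ^ 2 - 4 * a₀) * d' = 1) : (quadPair a₁ a₀ d' hd).f = X ^ 2 + C a₁ * X + C a₀ := rfl

theorem quadPair_g {B : Type u} [CommRing B] (a₁ a₀ d' : B)
    (hd : (a₁ ^ 2 - 4 * a₀) * d' = 1) : (quadPair a₁ a₀ d' hd).g = 1 := rfl

theorem quadPair_root {B : Type u} [CommRing B] (a₁ a₀ d' : B)
    (hd : (a₁ ^ 2 - 4 * a₀) * d' = 1) :
    (quadPair a₁ a₀ d' hd).X ^ 2 + algebraMap B _ a₁ * (quadPair a₁ a₀ d' hd).X +
      algebraMap B _ a₀ = 0 := by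
  have h : aeval (quadPair a₁ a₀ d' hd).X (X ^ 2 + C a₁ * X + C a₀ : B[X]) = 0 :=
    (quadPair a₁ a₀ d' hd).hasMap_X.1
  simpa using h

theorem quadPair_lift_prime {B : Type u} [CommRing B] (a₁ a₀ d' : B)
    (hd : (a₁ ^ 2 - 4 * a₀) * d' = 1) (p : PrimeSpectrum B) :
    ∃ q : PrimeSpectrum (quadPair a₁ a₀ d' hd).Ring,
      q.asIdeal.comap (algebraMap B _) = p.asIdeal := by
  apply lift_prime_of_g_eq_one _ rfl
  have hB : Nontrivial B := by
    by_contra hB
    rw [not_nontrivial_iff_subsingleton] at hB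
    exact (p.isPrime.ne_top) (Ideal.eq_top_of_isUnit_mem _ (Submodule.zero_mem _)
      (by rw [Subsingleton.elim (0 : B) 1]; exact isUnit_one))
  have h1 : (X ^ 2 + C a₁ * X + C a₀ : B[X]) = C 1 * X ^ 2 + C a₁ * X + C a₀ := by
    rw [C_1, one_mul]
  rw [quadPair_f, h1, natDegree_quadratic one_ne_zero]
  norm_num

end Groth.Agent.R2.H14.QuadEtale
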