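import Groth.Agent.R2.H14QuadStep

/-!
# Finding a nondegenerate plane over a field, by integral unimodular substitutions (helper14)
-/

universe u

namespace Groth.Agent.R2.H14.QuadForm

open Matrix

variable {ι : Type} [Fintype ι] [DecidableEq ι]

/-- the image in a ring `R` of an integer matrix -/
def castMat (R : Type u) [CommRing R] (G : Matrix ι ι ℤ) : Matrix ι ι R :=
  G.map (Int.castRingHom R)

theorem castMat_one (R : Type u) [CommRing R] : castMat R (1 : Matrix ι ι ℤ) = 1 := by
  simp [castMat]

theorem castMat_mul (R : Type u) [CommRing R] (G H : Matrix ι ι ℤ) :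
    castMat R (G * H) = castMat R G * castMat R H :=
  Matrix.map_mul

theorem det_castMat (R : Type u) [CommRing R] (G : Matrix ι ι ℤ) :
    (castMat R G).det = ((G.det : ℤ) : R) := by
  have := (Int.castRingHom R).map_det G
  rw [RingHom.mapMatrix_apply] at this
  exact this.symm

theorem castMat_map {R S : Type u} [CommRing R] [CommRing S] (φ : R →+* S) (G : Matrix ι ι ℤ) :
    (castMat R G).map φ = castMat S G := by
  ext a b
  simp [castMat]

/-- the integer transvection `e_y ↦ e_y + e_x` -/
def tv (x y : ι) : Matrix ι ι ℤ := Matrix.transvection x y 1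

theorem det_tv {x y : ι} (h : x ≠ y) : (tv x y).det = 1 := Matrix.det_transvection_of_ne _ _ h 1

theorem castMat_tv_mulVec_single (R : Type u) [CommRing R] (x y z : ι) :
    castMat R (tv x y) *ᵥ Pi.single z 1 =
      if z = y then (Pi.single y 1 + Pi.single x 1 : ι → R) else Pi.single z 1 := by
  rw [Matrix.mulVec_single_one]
  funext a
  by_cases hz : z = y
  · subst hz
    simp only [castMat, tv, Matrix.transvection, Matrix.map_apply, Matrix.add_apply, Matrix.one_apply,
      Matrix.single_apply, if_true, Pi.add_apply, Pi.single_apply, Matrix.col_apply,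
      Int.coe_castRingHom]
    by_cases h1 : a = z <;> by_cases h2 : x = a <;> simp [h1, h2, eq_comm, one_add_one_eq_two]
  · simp only [castMat, tv, Matrix.transvection, Matrix.map_apply, Matrix.add_apply, Matrix.one_apply,
      Matrix.single_apply, Pi.single_apply, Matrix.col_apply, Int.coe_castRingHom, if_neg hz]
    have : ¬ (x = a ∧ y = z) := fun h => hz h.2.symm
    simp [this]

section Field

variable {K : Type u} [Field K]

theorem congr_tv_apply {R : Type u} [CommRing R] (N : Matrix ι ι R) (l k a b : ι) :
    ((castMat R (tv l k))ᵀ * N * castMat R (tv l k)) a b =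
      bil N (if a = k then Pi.single k 1 + Pi.single l 1 else Pi.single a 1)
            (if b = k then Pi.single k 1 + Pi.single l 1 else Pi.single b 1) := by
  rw [congr_apply, castMat_tv_mulVec_single, castMat_tv_mulVec_single]

theorem exists_diag_ne_zero [Nonempty ι] (N : Matrix ι ι K) (hdet : (N + Nᵀ).det ≠ 0) :
    ∃ (G : Matrix ι ι ℤ) (i : ι), G.det = 1 ∧ ((castMat K G)ᵀ * N * castMat K G) i i ≠ 0 := by
  by_cases h : ∃ i, N i i ≠ 0
  · obtain ⟨i, hi⟩ := h
    exact ⟨1, i, Matrix.det_one, by simpa [castMat_one] using hi⟩
  · push Not at h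
    have hb : ∃ x y, (N + Nᵀ) x y ≠ 0 := by
      by_contra hcon
      push Not at hcon
      apply hdet
      have : N + Nᵀ = 0 := by ext x y; exact hcon x y
      rw [this, Matrix.det_zero]
    obtain ⟨x, y, hxy⟩ := hb
    have hne : x ≠ y := by
      rintro rfl
      apply hxy
      simp [h x]
    refine ⟨tv x y, y, det_tv hne, ?_⟩
    rw [congr_tv_apply, if_pos rfl]
    simp only [map_add, LinearMap.add_apply, bil_single, h]
    simp only [Matrix.add_apply, Matrix.transpose_apply] at hxy
    intro h0
    apply hxy
    linear_combination h0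

theorem exists_plane (N : Matrix ι ι K) (hdet : (N + Nᵀ).det ≠ 0) (i : ι) (hα : N i i ≠ 0)
    (hcard : ∃ x, x ≠ i) :
    ∃ (G : Matrix ι ι ℤ) (k : ι), G.det = 1 ∧ k ≠ i ∧
      ((castMat K G)ᵀ * N * castMat K G) i i = N i i ∧
      (((castMat K G)ᵀ * N * castMat K G) i k + ((castMat K G)ᵀ * N * castMat K G) k i) ^ 2
        - 4 * ((castMat K G)ᵀ * N * castMat K G) i i *
          ((castMat K G)ᵀ * N * castMat K G) k k ≠ 0 := by
  by_contra hcon
  push Not at hcon
  -- (a)
  have ha : ∀ k, k ≠ i → (N i k + N k i) ^ 2 - 4 * N i i * N k k = 0 := by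
    intro k hk
    have := hcon 1 k Matrix.det_one hk (by simp [castMat_one])
    simpa [castMat_one] using this
  -- (b)
  have hb : ∀ k l, k ≠ i → l ≠ k →
      ((N i k + N i l) + (N k i + N l i)) ^ 2 -
        4 * N i i * (N k k + N k l + (N l k + N l l)) = 0 := by
    intro k l hk hl
    have hik : i ≠ k := fun h => hk h.symm
    have h1 : ((castMat K (tv l k))ᵀ * N * castMat K (tv l k)) i i = N i i := by
      rw [congr_tv_apply, if_neg hik, bil_single]
    have := hcon (tv l k) k (det_tv hl) hk h1
    rw [h1] at this
    rw [congr_tv_apply, congr_tv_apply, congr_tv_apply, if_neg hik, if_pos rfl] at this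
    simp only [map_add, LinearMap.add_apply, bil_single] at this
    linear_combination this
  obtain ⟨x, hx⟩ := hcard
  apply hdet
  by_cases h2 : (2 : K) = 0
  · -- row i of the polar matrix is zero
    apply Matrix.det_eq_zero_of_row_eq_zero i
    intro k
    simp only [Matrix.add_apply, Matrix.transpose_apply]
    by_cases hk : k = i
    · subst hk
      linear_combination N k k * h2
    · have := ha k hk
      have h4 : (4 : K) = 0 := by linear_combination 2 * h2
      rw [h4] at this
      simpa using this
  · -- kernel vector
    rw [← Matrix.exists_mulVec_eq_zero_iff]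
    refine ⟨fun y => if y = x then (N i i + N i i) else if y = i then - (N i x + N x i) else 0, ?_, ?_⟩
    · intro h0
      have := congrFun h0 x
      simp only [if_true, Pi.zero_apply] at this
      apply hα
      have h2' : (2 : K) * N i i = 0 := by linear_combination this
      rcases mul_eq_zero.mp h2' with h | h
      · exact absurd h h2
      · exact h
    · funext k
      simp only [Matrix.mulVec, dotProduct, Pi.zero_apply, Matrix.add_apply, Matrix.transpose_apply]
      have hsum : ∀ y : ι, (N k y + N y k) *
          (if y = x then (N i i + N i i) else if y = i then - (N i x + N x i) else 0) =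
          (if y = x then (N k x + N x k) * (N i i + N i i) else 0) +
          (if y = i then - ((N k i + N i k) * (N i x + N x i)) else 0) := by
        intro y
        by_cases hyx : y = x
        · subst hyx
          simp [hx]
        · by_cases hyi : y = i
          · subst hyi
            simp only [if_neg hyx, if_true, zero_add]
            ring
          · simp [hyx, hyi]
      simp only [hsum, Finset.sum_add_distrib, Finset.sum_ite_eq', Finset.mem_univ, if_true]
      -- goal: (N k x + N x k) * (N i i + N i i) + -((N k i + N i k) * (N i x + N x i)) = 0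
      by_cases hki : k = i
      · subst hki
        ring
      · by_cases hkx : k = x
        · subst hkx
          have := ha k hki
          linear_combination - this
        · have e1 := ha k hki
          have e2 := ha x hx
          have e3 := hb k x hki (fun h => hkx h.symm)
          have : (2 : K) * ((N k x + N x k) * (N i i + N i i) + -((N k i + N i k) * (N i x + N x i))) = 0 := by
            linear_combination e1 + e2 - e3
          rcases mul_eq_zero.mp this with h | h
          · exact absurd h h2
          · exact h


/-- Over a field, after an integral unimodular substitution there is a coordinate plane `⟨e_i, e_k⟩`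
on which the form has nonzero leading coefficient and nonzero discriminant. -/
theorem exists_good_plane (N : Matrix ι ι K) (hdet : (N + Nᵀ).det ≠ 0)
    (hcard : 2 ≤ Fintype.card ι) :
    ∃ (G : Matrix ι ι ℤ) (i k : ι), G.det = 1 ∧ i ≠ k ∧
      ((castMat K G)ᵀ * N * castMat K G) i i ≠ 0 ∧
      (((castMat K G)ᵀ * N * castMat K G) i k + ((castMat K G)ᵀ * N * castMat K G) k i) ^ 2
        - 4 * ((castMat K G)ᵀ * N * castMat K G) i i *
          ((castMat K G)ᵀ * N * castMat K G) k k ≠ 0 := by
  have hne : Nonempty ι := by
    rw [← Fintype.card_pos_iff]; omega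
  obtain ⟨G₁, i, hG₁, hi⟩ := exists_diag_ne_zero N hdet
  set N₁ := (castMat K G₁)ᵀ * N * castMat K G₁ with hN₁
  have hpol : N₁ + N₁ᵀ = (castMat K G₁)ᵀ * (N + Nᵀ) * castMat K G₁ := by
    rw [hN₁]
    simp only [Matrix.transpose_mul, Matrix.transpose_transpose, Matrix.mul_add, Matrix.add_mul,
      Matrix.mul_assoc]
  have hdet₁ : (N₁ + N₁ᵀ).det ≠ 0 := by
    rw [hpol, Matrix.det_mul, Matrix.det_mul, Matrix.det_transpose, det_castMat, hG₁]
    simpa using hdet
  have hx : ∃ x, x ≠ i := by
    by_contra hcon
    push Not at hcon
    have : Fintype.card ι ≤ 1 := Fintype.card_le_one_iff.mpr (fun a b => by rw [hcon a, hcon b])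
    omega
  obtain ⟨G₂, k, hG₂, hk, hii, hΔ⟩ := exists_plane N₁ hdet₁ i hi hx
  have hmul : (castMat K (G₁ * G₂))ᵀ * N * castMat K (G₁ * G₂) =
      (castMat K G₂)ᵀ * N₁ * castMat K G₂ := by
    rw [hN₁, castMat_mul]
    simp only [Matrix.transpose_mul, Matrix.mul_assoc]
  refine ⟨G₁ * G₂, i, k, by rw [Matrix.det_mul, hG₁, hG₂, one_mul], fun h => hk h.symm, ?_, ?_⟩
  · rw [hmul, hii]; exact hi
  · rw [hmul]; exact hΔ

end Field

end Groth.Agent.R2.H14.QuadForm
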