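import Groth.Agent.R2.H14QuadPrime
import Groth.Agent.R2.H14QuadEtale

universe u

namespace Groth.Agent.R2.H14.QuadForm

open Matrix Groth.Agent.R2.H14.QuadEtale

variable {ι : Type} [Fintype ι] [DecidableEq ι]

/-- `M` is split of rank `2m` over an etale algebra hitting the prime `p`. -/
def LocSplit {A : Type u} [CommRing A] (M : Matrix ι ι A) (m : ℕ) (p : PrimeSpectrum A) : Prop :=
  ∃ (B : Type u) (_ : CommRing B) (_ : Algebra A B), Algebra.Etale A B ∧
    (∃ q : PrimeSpectrum B, q.asIdeal.comap (algebraMap A B) = p.asIdeal) ∧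
    Split (M.map (algebraMap A B)) m

/-- change of coordinates -/
theorem LocSplit.of_congr {A : Type u} [CommRing A] {M : Matrix ι ι A} {m : ℕ}
    {p : PrimeSpectrum A} (G : Matrix ι ι A) (h : LocSplit (Gᵀ * M * G) m p) : LocSplit M m p := by
  obtain ⟨B, _, _, het, hq, hs⟩ := h
  refine ⟨B, _, _, het, hq, ?_⟩
  rw [congr_map] at hs
  exact Split.of_congr _ hs

/-- transitivity along an etale algebra -/
theorem LocSplit.trans {A : Type u} [CommRing A] {M : Matrix ι ι A} {m : ℕ}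
    {p : PrimeSpectrum A} (A₁ : Type u) [CommRing A₁] [Algebra A A₁] [Algebra.Etale A A₁]
    (p₁ : PrimeSpectrum A₁) (hp₁ : p₁.asIdeal.comap (algebraMap A A₁) = p.asIdeal)
    (h : LocSplit (M.map (algebraMap A A₁)) m p₁) : LocSplit M m p := by
  obtain ⟨B, _, _, het, ⟨q, hq⟩, hs⟩ := h
  let _ : Algebra A B := ((algebraMap A₁ B).comp (algebraMap A A₁)).toAlgebra
  have : IsScalarTower A A₁ B := IsScalarTower.of_algebraMap_eq (fun x => rfl)
  have : Algebra.Etale A B := Algebra.Etale.comp A A₁ B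
  refine ⟨B, _, _, inferInstance, ⟨q, ?_⟩, ?_⟩
  · rw [← hp₁, ← hq, Ideal.comap_comap]
    rfl
  · rw [Matrix.map_map] at hs
    exact hs

/-- the core step -/
theorem LocSplit.step {A : Type u} [CommRing A] {N : Matrix ι ι A} {m : ℕ}
    {p : PrimeSpectrum A} {i k : ι} (hcross : CrossZero N i k) (r u' : A)
    (hr : N i i * r ^ 2 + (N i k + N k i) * r + N k k = 0)
    (hu : (2 * N i i * r + (N i k + N k i)) * u' = 1)
    (h : LocSplit (N.submatrix (Subtype.val : {x : ι // ¬ (x = i ∨ x = k)} → ι) Subtype.val) m p) :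
    LocSplit N (m + 1) p := by
  obtain ⟨B, _, _, het, hq, hs⟩ := h
  refine ⟨B, _, _, het, hq, ?_⟩
  set φ := algebraMap A B with hφ
  have hcross' : CrossZero (N.map φ) i k := by
    intro x hx
    obtain ⟨h1, h2⟩ := hcross x hx
    simp only [Matrix.map_apply, ← map_add, h1, h2, map_zero, and_self]
  refine Split.step hcross' (φ r) (φ u') ?_ ?_ hs
  · simp only [Matrix.map_apply, ← map_add, ← map_mul, ← map_pow, hr, map_zero]
  · have := congrArg φ hu
    simpa only [map_mul, map_add, map_one, map_ofNat, Matrix.map_apply] using this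

theorem CrossZero.map {R S : Type u} [CommRing R] [CommRing S] (φ : R →+* S) {N : Matrix ι ι R}
    {i k : ι} (h : CrossZero N i k) : CrossZero (N.map φ) i k := by
  intro x hx
  obtain ⟨h1, h2⟩ := h x hx
  simp only [Matrix.map_apply, ← map_add, h1, h2, map_zero, and_self]

theorem card_compl_pair {i k : ι} (hik : i ≠ k) :
    Fintype.card {x : ι // ¬ (x = i ∨ x = k)} = Fintype.card ι - 2 := by
  rw [Fintype.card_subtype_compl, Fintype.card_subtype]
  congr 1
  have : (Finset.univ.filter fun x : ι => x = i ∨ x = k) = {i, k} := by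
    ext x; simp
  rw [this, Finset.card_pair hik]

/-- inductive step over a ring where the leading coefficient and the discriminant are units -/
theorem locSplit_of_units {A₁ : Type u} [CommRing A₁] (N₁ : Matrix ι ι A₁)
    (hdet : IsUnit (N₁ + N₁ᵀ).det) {i k : ι} (α' Δ' : A₁)
    (hα' : N₁ i i * α' = 1)
    (hΔ' : ((N₁ i k + N₁ k i) ^ 2 - 4 * N₁ i i * N₁ k k) * Δ' = 1)
    (p₁ : PrimeSpectrum A₁) (m : ℕ)
    (ih : ∀ (B : Type u) [CommRing B] (M : Matrix {x : ι // ¬ (x = i ∨ x = k)} {x : ι // ¬ (x = i ∨ x = k)} B),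
      IsUnit (M + Mᵀ).det → ∀ p : PrimeSpectrum B, LocSplit M m p) :
    LocSplit N₁ (m + 1) p₁ := by
  set E := elim N₁ i k Δ' with hE
  apply LocSplit.of_congr E
  set N' := Eᵀ * N₁ * E with hN'
  have hcross : CrossZero N' i k := crossZero_elim N₁ Δ' hΔ'
  have hii : N' i i = N₁ i i := elim_congr_apply_of_mem N₁ i k Δ' (Or.inl rfl) (Or.inl rfl)
  have hik' : N' i k = N₁ i k := elim_congr_apply_of_mem N₁ i k Δ' (Or.inl rfl) (Or.inr rfl)
  have hki : N' k i = N₁ k i := elim_congr_apply_of_mem N₁ i k Δ' (Or.inr rfl) (Or.inl rfl)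
  have hkk : N' k k = N₁ k k := elim_congr_apply_of_mem N₁ i k Δ' (Or.inr rfl) (Or.inr rfl)
  have hdet' : IsUnit (N' + N'ᵀ).det := isUnit_det_polar_congr N₁ E (det_elim N₁ i k Δ') hdet
  set α₁ := N₁ i i with hα₁
  set bb := N₁ i k + N₁ k i with hbb
  set γ := N₁ k k with hγ
  have hd : ((bb * α') ^ 2 - 4 * (γ * α')) * (α₁ ^ 2 * Δ') = 1 := by
    linear_combination (bb ^ 2 * Δ' * (α₁ * α' + 1) - 4 * γ * α₁ * Δ') * hα' + hΔ'
  obtain ⟨p₂, hp₂⟩ := quadPair_lift_prime (bb * α') (γ * α') (α₁ ^ 2 * Δ') hd p₁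
  apply LocSplit.trans (quadPair (bb * α') (γ * α') (α₁ ^ 2 * Δ') hd).Ring p₂ hp₂
  set P := quadPair (bb * α') (γ * α') (α₁ ^ 2 * Δ') hd with hP
  set ψ := algebraMap A₁ P.Ring with hψ
  have hroot := quadPair_root (bb * α') (γ * α') (α₁ ^ 2 * Δ') hd
  rw [← hP, ← hψ] at hroot
  have hα'ψ : ψ α₁ * ψ α' = 1 := by rw [← map_mul, hα', map_one]
  have hΔ'ψ : ((ψ bb) ^ 2 - 4 * ψ α₁ * ψ γ) * ψ Δ' = 1 := by
    have := congrArg ψ hΔ'
    simpa only [map_mul, map_sub, map_pow, map_one, map_ofNat] using this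
  have hcross'' : CrossZero (N'.map ψ) i k := hcross.map ψ
  have hr : (N'.map ψ) i i * P.X ^ 2 + ((N'.map ψ) i k + (N'.map ψ) k i) * P.X + (N'.map ψ) k k = 0 := by
    simp only [Matrix.map_apply, hii, hik', hki, hkk, ← map_add]
    rw [← hbb]
    simp only [map_mul] at hroot
    linear_combination ψ α₁ * hroot - (ψ bb * P.X + ψ γ) * hα'ψ
  have hu : (2 * (N'.map ψ) i i * P.X + ((N'.map ψ) i k + (N'.map ψ) k i)) *
      ((2 * ψ α₁ * P.X + ψ bb) * ψ Δ') = 1 := by
    simp only [Matrix.map_apply, hii, hik', hki, hkk, ← map_add] at hr ⊢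
    rw [← hbb] at hr ⊢
    linear_combination 4 * ψ α₁ * ψ Δ' * hr + hΔ'ψ
  apply LocSplit.step hcross'' P.X ((2 * ψ α₁ * P.X + ψ bb) * ψ Δ') hr hu
  apply ih
  exact isUnit_det_compl hcross'' (isUnit_det_polar_map ψ N' hdet')

theorem exists_prime_comap_away {A : Type u} [CommRing A] (f : A) (p : PrimeSpectrum A)
    (hf : f ∉ p.asIdeal) :
    ∃ q : PrimeSpectrum (Localization.Away f), q.asIdeal.comap (algebraMap A _) = p.asIdeal := by
  have h := PrimeSpectrum.localization_away_comap_range (Localization.Away f) f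
  have hp : p ∈ Set.range (PrimeSpectrum.comap (algebraMap A (Localization.Away f))) := by
    rw [h]
    exact hf
  obtain ⟨q, hq⟩ := hp
  exact ⟨q, congrArg PrimeSpectrum.asIdeal hq⟩

theorem locSplit_base {A : Type u} [CommRing A] [IsEmpty ι] (M : Matrix ι ι A)
    (p : PrimeSpectrum A) : LocSplit M 0 p := by
  refine ⟨A, _, _, inferInstance, ⟨p, ?_⟩, ⟨0, fun X => ?_⟩⟩
  · simp
  · simp [QF_apply, hyp]

end Groth.Agent.R2.H14.QuadForm
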