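import Groth.Agent.R2.H14QuadField
import Mathlib.RingTheory.LocalRing.ResidueField.Ideal
import Mathlib.RingTheory.Spectrum.Prime.Basic

universe u

namespace Groth.Agent.R2.H14.QuadForm

open Matrix

variable {ι : Type} [Fintype ι] [DecidableEq ι]

theorem congr_map {R S : Type u} [CommRing R] [CommRing S] (φ : R →+* S) {κ : Type} [Fintype κ]
    (N : Matrix ι ι R) (G : Matrix ι κ R) :
    (Gᵀ * N * G).map φ = (G.map φ)ᵀ * N.map φ * G.map φ := by
  rw [Matrix.map_mul, Matrix.map_mul, Matrix.transpose_map]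

theorem congr_castMat_map {R S : Type u} [CommRing R] [CommRing S] (φ : R →+* S)
    (N : Matrix ι ι R) (G : Matrix ι ι ℤ) :
    ((castMat R G)ᵀ * N * castMat R G).map φ = (castMat S G)ᵀ * N.map φ * castMat S G := by
  rw [congr_map, castMat_map]

theorem polar_map {R S : Type u} [CommRing R] [CommRing S] (φ : R →+* S) (N : Matrix ι ι R) :
    N.map φ + (N.map φ)ᵀ = (N + Nᵀ).map φ := by
  rw [Matrix.map_add _ (map_add φ), Matrix.transpose_map]

theorem isUnit_det_polar_map {R S : Type u} [CommRing R] [CommRing S] (φ : R →+* S)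
    (N : Matrix ι ι R) (h : IsUnit (N + Nᵀ).det) : IsUnit (N.map φ + (N.map φ)ᵀ).det := by
  rw [polar_map]
  have := RingHom.map_det φ (N + Nᵀ)
  rw [RingHom.mapMatrix_apply] at this
  rw [← this]
  exact h.map φ

theorem polar_congr {R : Type u} [CommRing R] (N G : Matrix ι ι R) :
    Gᵀ * N * G + (Gᵀ * N * G)ᵀ = Gᵀ * (N + Nᵀ) * G := by
  simp only [Matrix.transpose_mul, Matrix.transpose_transpose, Matrix.mul_add, Matrix.add_mul,
    Matrix.mul_assoc]

theorem isUnit_det_polar_congr {R : Type u} [CommRing R] (N G : Matrix ι ι R)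
    (hG : G.det = 1) (h : IsUnit (N + Nᵀ).det) : IsUnit (Gᵀ * N * G + (Gᵀ * N * G)ᵀ).det := by
  rw [polar_congr, Matrix.det_mul, Matrix.det_mul, Matrix.det_transpose, hG, one_mul, mul_one]
  exact h

theorem exists_good_plane_at_prime {A : Type u} [CommRing A] (M : Matrix ι ι A)
    (hdet : IsUnit (M + Mᵀ).det) (hcard : 2 ≤ Fintype.card ι) (p : PrimeSpectrum A) :
    ∃ (G : Matrix ι ι ℤ) (i k : ι), G.det = 1 ∧ i ≠ k ∧
      ((castMat A G)ᵀ * M * castMat A G) i i ∉ p.asIdeal ∧
      (((castMat A G)ᵀ * M * castMat A G) i k + ((castMat A G)ᵀ * M * castMat A G) k i) ^ 2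
        - 4 * ((castMat A G)ᵀ * M * castMat A G) i i *
          ((castMat A G)ᵀ * M * castMat A G) k k ∉ p.asIdeal := by
  let K := p.asIdeal.ResidueField
  let φ : A →+* K := algebraMap A K
  have hdetK : ((M.map φ) + (M.map φ)ᵀ).det ≠ 0 := (isUnit_det_polar_map φ M hdet).ne_zero
  obtain ⟨G, i, k, hG, hik, hα, hΔ⟩ := exists_good_plane (M.map φ) hdetK hcard
  refine ⟨G, i, k, hG, hik, ?_, ?_⟩
  · intro hmem
    apply hα
    rw [← congr_castMat_map, Matrix.map_apply]
    exact (Ideal.algebraMap_residueField_eq_zero).mpr hmem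
  · intro hmem
    apply hΔ
    rw [← congr_castMat_map]
    simp only [Matrix.map_apply]
    have := (Ideal.algebraMap_residueField_eq_zero (I := p.asIdeal)).mpr hmem
    simpa only [map_sub, map_pow, map_add, map_mul, map_ofNat] using this

end Groth.Agent.R2.H14.QuadForm
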