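import Groth.Agent.R2.H15HpullFun2

/-!
# The comparison condition `EtAcyc.CompN` under composition (helper15, round 2)

* `compN_of_isIso`: an isomorphism satisfies `CompN`.
* `compN_comp_iff`: if `a` satisfies `CompN`, then `a ≫ b` satisfies it iff `b` does.
* `compN_iso_comp_iff`: precomposition with an isomorphism does not change `CompN`.
* `isIso_unit_comp_iff`: the analogous statement for units of sheaves of sets.
-/

set_option autoImplicit false

universe u

open CategoryTheory CategoryTheory.Limits AlgebraicGeometry Opposite Abelian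

namespace Groth.Agent.R2.H15.AcycComp

open Groth.Agent.R2.H15.HpullFun

attribute [local instance] pull_pfl

theorem compN_of_isIso {X Y : Scheme.{u}} (e : X ⟶ Y) [IsIso e] (L : Set ℕ) (n : ℕ) :
    EtAcyc.CompN e L n := by
  intro F _ _
  exact ⟨fun q _ => Hpull_bijective_of_isIso e F q, (Hpull_bijective_of_isIso e F (n + 1)).injective⟩

theorem compN_comp_iff {X Y Z : Scheme.{u}} (a : X ⟶ Y) (b : Y ⟶ Z) (L : Set ℕ) (n : ℕ)
    (ha : EtAcyc.CompN a L n) : EtAcyc.CompN (a ≫ b) L n ↔ EtAcyc.CompN b L n := by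
  constructor
  · intro H F hF _
    obtain ⟨H1, H2⟩ := H F hF
    obtain ⟨A1, A2⟩ := ha ((EtCoh.pull b).obj F) (isLTorsion_pull b L F hF)
    refine ⟨fun q hq => ?_, ?_⟩
    · have h1 := (Hpull_comp_bijective_iff a b F q).1 (H1 q hq)
      exact (Function.Bijective.of_comp_iff' (A1 q hq) _).1 h1
    · have h1 := (Hpull_comp_injective_iff a b F (n + 1)).1 H2
      exact (Function.Injective.of_comp_iff A2 _).1 h1
  · intro H F hF _
    obtain ⟨H1, H2⟩ := H F hF
    obtain ⟨A1, A2⟩ := ha ((EtCoh.pull b).obj F) (isLTorsion_pull b L F hF)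
    refine ⟨fun q hq => ?_, ?_⟩
    · exact (Hpull_comp_bijective_iff a b F q).2 ((A1 q hq).comp (H1 q hq))
    · exact (Hpull_comp_injective_iff a b F (n + 1)).2 (A2.comp H2)

theorem compN_iso_comp_iff {X X' Y : Scheme.{u}} (e : X' ⟶ X) [IsIso e] (k : X ⟶ Y) (L : Set ℕ)
    (n : ℕ) : EtAcyc.CompN (e ≫ k) L n ↔ EtAcyc.CompN k L n :=
  compN_comp_iff e k L n (compN_of_isIso e L n)

theorem compN_congr {X Y : Scheme.{u}} {k k' : X ⟶ Y} (h : k = k') (L : Set ℕ) (n : ℕ) :
    EtAcyc.CompN k L n ↔ EtAcyc.CompN k' L n := by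
  subst h
  exact Iff.rfl

section Sets

/-- unit of the composite, in terms of the units of the factors. -/
theorem unit_comp {X Y Z : Scheme.{u}} (a : X ⟶ Y) (b : Y ⟶ Z) (F : EtDesc.Sh Z) :
    (EtDesc.adjSh (a ≫ b)).unit.app F ≫
        (EtDesc.pushSh (a ≫ b)).map ((EtDesc.pullCompSh a b).hom.app F) =
      (EtDesc.adjSh b).unit.app F ≫
        (EtDesc.pushSh b).map ((EtDesc.adjSh a).unit.app ((EtDesc.pullSh b).obj F)) ≫
          (EtDesc.pushCompSh b a).hom.app _ := by
  have h := Adjunction.unit_leftAdjointUniq_hom_app (EtDesc.adjSh (a ≫ b))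
    (((EtDesc.adjSh b).comp (EtDesc.adjSh a)).ofNatIsoRight (EtDesc.pushCompSh b a)) F
  refine h.trans ?_
  simp

theorem isIso_unit_comp_iff {X Y Z : Scheme.{u}} (a : X ⟶ Y) (b : Y ⟶ Z) (F : EtDesc.Sh Z)
    (ha : IsIso ((EtDesc.adjSh a).unit.app ((EtDesc.pullSh b).obj F))) :
    IsIso ((EtDesc.adjSh (a ≫ b)).unit.app F) ↔ IsIso ((EtDesc.adjSh b).unit.app F) := by
  have h := unit_comp a b F
  constructor
  · intro H
    have h1 : IsIso ((EtDesc.adjSh b).unit.app F ≫
        (EtDesc.pushSh b).map ((EtDesc.adjSh a).unit.app ((EtDesc.pullSh b).obj F)) ≫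
          (EtDesc.pushCompSh b a).hom.app _) := by
      rw [← h]; infer_instance
    exact IsIso.of_isIso_comp_right _
      ((EtDesc.pushSh b).map ((EtDesc.adjSh a).unit.app ((EtDesc.pullSh b).obj F)) ≫
          (EtDesc.pushCompSh b a).hom.app _)
  · intro H
    have h1 : IsIso ((EtDesc.adjSh (a ≫ b)).unit.app F ≫
        (EtDesc.pushSh (a ≫ b)).map ((EtDesc.pullCompSh a b).hom.app F)) := by
      rw [h]; infer_instance
    exact IsIso.of_isIso_comp_right _
      ((EtDesc.pushSh (a ≫ b)).map ((EtDesc.pullCompSh a b).hom.app F))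

theorem isIso_unit_of_isIso {X Y : Scheme.{u}} (e : X ⟶ Y) [IsIso e] (F : EtDesc.Sh Y) :
    IsIso ((EtDesc.adjSh e).unit.app F) := by
  haveI := Groth.Agent.R2.H15.EtPushIso.isEquivalence_pullSh e
  infer_instance

end Sets

end Groth.Agent.R2.H15.AcycComp
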