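import Mathlib
import Groth.Prelude.Def_SGA4b

/-!
# The sheaf of closed sieves on the small etale site and characteristic maps (helper15, round 2)

For a monomorphism `v : F ⟶ G` of sheaves of sets on the small etale site of `X` we construct a sheaf
`ΩSh X` and two maps `chi v, tru G : G ⟶ ΩSh X` with `v ≫ chi v = v ≫ tru G` such that a section `x`
of `G` with `chi v x = tru G x` lies in the image of `v`.
-/

set_option autoImplicit false
set_option linter.style.haveILetI false

universe u

open CategoryTheory CategoryTheory.Limits AlgebraicGeometry Opposite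

namespace Groth.Agent.R2.H15.Classifier

/-- the sheaf of closed sieves -/
noncomputable def ΩSh (X : Scheme.{u}) : EtDesc.Sh X :=
  ⟨(Functor.closedSieves X.smallEtaleTopology).toFunctor,
    (isSheaf_iff_isSheaf_of_type _ _).2 (classifier_isSheaf X.smallEtaleTopology)⟩

variable {X : Scheme.{u}} {F G : EtDesc.Sh X} (v : F ⟶ G)

/-- the sieve of arrows along which a section of `G` comes from `F`. -/
def secSieve {U : X.Etale} (x : G.obj.obj (op U)) : Sieve U where
  arrows V f := G.obj.map f.op x ∈ Set.range (v.hom.app (op V))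
  downward_closed := by
    rintro V W f ⟨t, ht⟩ g
    refine ⟨F.obj.map g.op t, ?_⟩
    have nat := ConcreteCategory.congr_hom (v.hom.naturality g.op) t
    rw [ConcreteCategory.comp_apply, ConcreteCategory.comp_apply] at nat
    rw [nat, ht, op_comp, Functor.map_comp, ConcreteCategory.comp_apply]

lemma secSieve_apply {U V : X.Etale} (x : G.obj.obj (op U)) (f : V ⟶ U) :
    (secSieve v x).arrows f ↔ G.obj.map f.op x ∈ Set.range (v.hom.app (op V)) := Iff.rfl

lemma secSieve_pullback {U U' : X.Etale} (x : G.obj.obj (op U)) (g : U' ⟶ U) :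
    (secSieve v x).pullback g = secSieve v (G.obj.map g.op x) := by
  ext V f
  change G.obj.map (f ≫ g).op x ∈ _ ↔ G.obj.map f.op (G.obj.map g.op x) ∈ _
  rw [op_comp, Functor.map_comp, ConcreteCategory.comp_apply]

variable (hv : ∀ T : X.Etale, Function.Injective (v.hom.app (op T)))

include hv in
lemma secSieve_isClosed {U : X.Etale} (x : G.obj.obj (op U)) :
    X.smallEtaleTopology.IsClosed (secSieve v x) := by
  intro V f hf
  rw [GrothendieckTopology.covers_iff, secSieve_pullback] at hf
  change G.obj.map f.op x ∈ Set.range (v.hom.app (op V))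
  generalize G.obj.map f.op x = y at hf ⊢
  -- glue the local preimages
  have hF : Presieve.IsSheaf X.smallEtaleTopology F.obj := (isSheaf_iff_isSheaf_of_type _ _).1 F.property
  have hG : Presieve.IsSheaf X.smallEtaleTopology G.obj := (isSheaf_iff_isSheaf_of_type _ _).1 G.property
  let R := secSieve v y
  let fam : Presieve.FamilyOfElements F.obj R.arrows := fun W g hg => Classical.choose hg
  have hfam : ∀ (W : X.Etale) (g : W ⟶ V) (hg : R.arrows g),
      v.hom.app (op W) (fam g hg) = G.obj.map g.op y := fun W g hg => Classical.choose_spec hg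
  have hcomp : fam.Compatible := by
    intro W₁ W₂ Z g₁ g₂ f₁ f₂ h₁ h₂ e
    apply hv Z
    have n1 := ConcreteCategory.congr_hom (v.hom.naturality g₁.op) (fam f₁ h₁)
    have n2 := ConcreteCategory.congr_hom (v.hom.naturality g₂.op) (fam f₂ h₂)
    rw [ConcreteCategory.comp_apply, ConcreteCategory.comp_apply] at n1 n2
    rw [n1, n2, hfam, hfam, ← ConcreteCategory.comp_apply, ← ConcreteCategory.comp_apply,
      ← Functor.map_comp, ← Functor.map_comp, ← op_comp, ← op_comp, e]
  let t := (hF R hf).amalgamate fam hcomp
  have ht : ∀ (W : X.Etale) (g : W ⟶ V) (hg : R.arrows g), F.obj.map g.op t = fam g hg :=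
    fun W g hg => (hF R hf).valid_glue hcomp g hg
  refine ⟨t, ?_⟩
  apply (hG.isSeparated R hf).ext
  intro W g hg
  have n1 := ConcreteCategory.congr_hom (v.hom.naturality g.op) t
  rw [ConcreteCategory.comp_apply, ConcreteCategory.comp_apply] at n1
  rw [← n1, ht W g hg, hfam]

/-- the characteristic map of a monomorphism -/
noncomputable def chi : G ⟶ ΩSh X :=
  ⟨{ app := fun U => TypeCat.ofHom (fun x => ⟨secSieve v x, secSieve_isClosed v hv x⟩)
     naturality := by
       intro U U' g
       ext x
       apply Subtype.ext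
       exact (secSieve_pullback v x g.unop).symm }⟩

lemma chi_apply {U : X.Etale} (x : G.obj.obj (op U)) :
    ((chi v hv).hom.app (op U) x).1 = secSieve v x := rfl

/-- the map `G ⟶ ΩSh X` constant with value the maximal sieve. -/
noncomputable def tru (G : EtDesc.Sh X) : G ⟶ ΩSh X :=
  ⟨{ app := fun U => TypeCat.ofHom (fun _ => ⟨(⊤ : Sieve U.unop), fun _ _ _ => trivial⟩)
     naturality := by
       intro U U' g
       ext x
       apply Subtype.ext
       exact (Sieve.pullback_top (f := g.unop)).symm }⟩

lemma tru_apply {U : X.Etale} (x : G.obj.obj (op U)) :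
    ((tru G).hom.app (op U) x).1 = (⊤ : Sieve U) := rfl

lemma comp_chi : v ≫ chi v hv = v ≫ tru G := by
  apply Sheaf.hom_ext
  ext U t
  induction U using Opposite.rec with | _ U => ?_
  apply Subtype.ext
  change secSieve v (v.hom.app (op U) t) = (⊤ : Sieve U)
  rw [eq_top_iff]
  intro V f _
  refine ⟨F.obj.map f.op t, ?_⟩
  have n1 := ConcreteCategory.congr_hom (v.hom.naturality f.op) t
  rw [ConcreteCategory.comp_apply, ConcreteCategory.comp_apply] at n1
  exact n1

lemma mem_range_of_chi_eq_tru {U : X.Etale} (x : G.obj.obj (op U))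
    (h : (chi v hv).hom.app (op U) x = (tru G).hom.app (op U) x) :
    x ∈ Set.range (v.hom.app (op U)) := by
  have h1 : secSieve v x = (⊤ : Sieve U) := congrArg Subtype.val h
  have h2 : (secSieve v x).arrows (𝟙 U) := by
    rw [h1]
    trivial
  rw [secSieve_apply] at h2
  simpa using h2

end Groth.Agent.R2.H15.Classifier
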