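import Groth.Agent.Lib.Helper23StalkLin
import Groth.Agent.R2.H5CohThick
import Groth.Agent.Lib.Helper17K0a

/-!
# Coherent modules with support in a subset, as an object property (helper15)
-/

set_option autoImplicit false
universe u

open CategoryTheory CategoryTheory.Limits AlgebraicGeometry ZeroObject

namespace Groth.Agent.R2.H15.CohSupp

open Groth.Agent.R2.H5.CohThick Groth.Agent.Lib.Helper4.NormDelta
  Groth.Agent.Lib.Helper23.StalkLin

variable (X : Scheme.{u}) (Y' : Set X)

/-- coherent modules supported in `Y'` -/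
def CS : ObjectProperty X.Modules := fun G => Coh.IsCoh G ∧ CohB1.support G ⊆ Y'

variable {X}

theorem support_subset_of_mono {F G : X.Modules} (φ : F ⟶ G) [Mono φ] :
    CohB1.support F ⊆ CohB1.support G := by
  intro x hx
  simp only [CohB1.support, Set.mem_ofPred_eq] at hx ⊢
  intro hsub
  exact hx (stalkLin_injective φ x).subsingleton

theorem support_subset_of_epi {F G : X.Modules} (φ : F ⟶ G) [Epi φ] :
    CohB1.support G ⊆ CohB1.support F := by
  intro x hx
  simp only [CohB1.support, Set.mem_ofPred_eq] at hx ⊢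
  intro hsub
  exact hx (stalkLin_surjective φ x).subsingleton

theorem support_subset_union (S : ShortComplex X.Modules) (hS : S.ShortExact) :
    CohB1.support S.X₂ ⊆ CohB1.support S.X₁ ∪ CohB1.support S.X₃ := by
  intro x hx
  by_contra hcon
  simp only [CohB1.support, Set.mem_union, Set.mem_ofPred_eq, not_or, not_not] at hx hcon
  obtain ⟨h1, h3⟩ := hcon
  apply hx
  refine ⟨fun y z => ?_⟩
  have hy : ∀ w : S.X₂.presheaf.stalk x, w = 0 := by
    intro w
    have hw : stalkLin S.g x w = 0 := Subsingleton.elim _ _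
    obtain ⟨v, rfl⟩ := (stalkLin_exact S hS x w).1 hw
    rw [Subsingleton.elim v 0, map_zero]
  rw [hy y, hy z]

theorem support_of_isZero {Z : X.Modules} (hZ : IsZero Z) : CohB1.support Z = ∅ := by
  rw [Set.eq_empty_iff_forall_notMem]
  intro x hx
  have h0 : CohB1.support (0 : X.Modules) ⊆ ∅ := by
    intro y hy
    simp only [CohB1.support, Set.mem_ofPred_eq] at hy
    exfalso
    apply hy
    have hz : IsZero ((Scheme.Modules.toPresheaf X ⋙
        TopCat.Presheaf.stalkFunctor Ab.{u} y).obj (0 : X.Modules)) :=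
      Functor.map_isZero _ (isZero_zero _)
    exact AddCommGrpCat.subsingleton_of_isZero hz
  have : Mono (hZ.to_ (0 : X.Modules)) := ⟨fun _ _ _ => hZ.eq_of_tgt _ _⟩
  exact h0 (support_subset_of_mono (hZ.to_ (0 : X.Modules)) hx)

variable (X)

instance : (CS X Y').IsClosedUnderIsomorphisms where
  of_iso := by
    rintro M N e ⟨hc, hs⟩
    exact ⟨(cohP X).prop_of_iso e hc, (support_subset_of_mono e.inv).trans hs⟩

instance : (CS X Y').ContainsZero where
  exists_zero := ⟨0, isZero_zero _, isCoh_of_isZero X (isZero_zero _), by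
    rw [support_of_isZero (isZero_zero _)]; exact Set.empty_subset _⟩

instance [IsLocallyNoetherian X] : (CS X Y').IsClosedUnderKernels where
  kernels_le := by
    rintro _ ⟨f, k, hk, ⟨⟨hc1, hs1⟩, ⟨hc2, hs2⟩⟩⟩
    refine ⟨(cohP X).prop_of_isLimit_kernelFork hk hc1 hc2, ?_⟩
    have : Mono (Fork.ι k) := mono_of_isLimit_fork hk
    exact (support_subset_of_mono (Fork.ι k)).trans hs1

end Groth.Agent.R2.H15.CohSupp
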