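import Groth.Agent.R2.H15KModel

/-!
# Tensoring on the right commutes with mapping cones (helper15, round 2)

For cochain complexes of `A`-modules (Mathlib's `HomologicalComplex.tensorObj`):
* `wh Y α` : whiskering a cochain `α : Cochain K L m` with a complex `Y`, giving a cochain
  `K ⊗ Y ⟶ L ⊗ Y` of the same degree, with `wh_ofHom`, `wh_comp`, `wh_add`, `wh_zero`, `wh_neg`,
  `δ_wh` (compatibility with the differential of the Hom-complex);
* `coneTensorIso Y φ : Cone(φ) ⊗ Y ≅ Cone(φ ⊗ Y)`;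
* `coneIsoOfIso` : mapping cones of isomorphic morphisms are isomorphic;
* `whr_smul_id` : `(a • 𝟙 K) ⊗ Y = a • 𝟙 (K ⊗ Y)`.
-/

set_option linter.style.haveILetI false

set_option autoImplicit false
universe u

open CategoryTheory CategoryTheory.Limits MonoidalCategory HomologicalComplex
open CochainComplex HomComplex
open Groth.Agent.R2.H15.KModel

namespace Groth.Agent.R2.H15.ConeTensor

variable {A : Type u} [CommRing A]
variable {K L N : Cx A} (Y : Cx A)

/-- Whiskering a cochain `α : K ⟶ L` of degree `m` on the right with a complex `Y`, giving a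
cochain `K ⊗ Y ⟶ L ⊗ Y` of degree `m` (no sign). -/
noncomputable def wh {m : ℤ} (α : Cochain K L m) : Cochain (T K Y) (T L Y) m :=
  Cochain.mk (fun n n' hnn' => mapBifunctorDesc (fun p q hpq =>
     (α.v p (p + m) rfl ▷ Y.X q) ≫ ιTensorObj L Y (p + m) q n'
      (by have : p + q = n := hpq
          omega)))

@[reassoc]
lemma ι_wh_v {m : ℤ} (α : Cochain K L m) (p q n p' n' : ℤ) (hpq : p + q = n)
    (hp' : p + m = p') (hn' : n + m = n') :
    ιTensorObj K Y p q n hpq ≫ (wh Y α).v n n' hn' =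
      (α.v p p' hp' ▷ Y.X q) ≫ ιTensorObj L Y p' q n' (by omega) := by
  subst hp'
  simp [wh]

/-- The chain map `f ⊗ Y`. -/
noncomputable abbrev whr (f : K ⟶ L) : T K Y ⟶ T L Y := HomologicalComplex.tensorHom f (𝟙 Y)

@[reassoc]
lemma ι_whr_f (f : K ⟶ L) (p q n : ℤ) (hpq : p + q = n) :
    ιTensorObj K Y p q n hpq ≫ (whr Y f).f n = (f.f p ▷ Y.X q) ≫ ιTensorObj L Y p q n hpq := by
  have h := ι_mapBifunctorMap f (𝟙 Y) (curriedTensor (ModuleCat.{u} A)) (ComplexShape.up ℤ)
    p q n hpq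
  rw [HomologicalComplex.id_f, CategoryTheory.Functor.map_id, Category.id_comp] at h
  exact h

lemma whr_comp (f : K ⟶ L) (g : L ⟶ N) : whr Y (f ≫ g) = whr Y f ≫ whr Y g := by
  ext n : 1
  apply mapBifunctor.hom_ext
  intro p q hpq
  have hpq' : p + q = n := hpq
  rw [HomologicalComplex.comp_f]
  erw [ι_whr_f Y (f ≫ g) p q n hpq', ι_whr_f_assoc Y f p q n hpq', ι_whr_f Y g p q n hpq']
  rw [HomologicalComplex.comp_f, comp_whiskerRight, Category.assoc]

lemma whr_id : whr Y (𝟙 K) = 𝟙 _ := by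
  ext n : 1
  apply mapBifunctor.hom_ext
  intro p q hpq
  have hpq' : p + q = n := hpq
  erw [ι_whr_f Y (𝟙 K) p q n hpq']
  rw [HomologicalComplex.id_f, id_whiskerRight, Category.id_comp, HomologicalComplex.id_f]
  exact (Category.comp_id _).symm

lemma wh_ofHom (f : K ⟶ L) : wh Y (Cochain.ofHom f) = Cochain.ofHom (whr Y f) := by
  refine Cochain.ext₀ _ _ (fun n => ?_)
  apply mapBifunctor.hom_ext
  intro p q hpq
  rw [Cochain.ofHom_v]
  erw [ι_wh_v Y (Cochain.ofHom f) p q n p n hpq (add_zero p) (add_zero n)]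
  rw [Cochain.ofHom_v]
  exact (ι_whr_f Y f p q n hpq).symm

lemma wh_zero (m : ℤ) : wh Y (0 : Cochain K L m) = 0 := by
  refine Cochain.ext _ _ (fun n n' hn => ?_)
  apply mapBifunctor.hom_ext
  intro p q hpq
  erw [ι_wh_v Y (0 : Cochain K L m) p q n (p + m) n' hpq rfl hn]
  simp

lemma wh_add {m : ℤ} (α β : Cochain K L m) : wh Y (α + β) = wh Y α + wh Y β := by
  refine Cochain.ext _ _ (fun n n' hn => ?_)
  apply mapBifunctor.hom_ext
  intro p q hpq
  rw [Cochain.add_v, Preadditive.comp_add]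
  erw [ι_wh_v Y (α + β) p q n (p + m) n' hpq rfl hn, ι_wh_v Y α p q n (p + m) n' hpq rfl hn,
    ι_wh_v Y β p q n (p + m) n' hpq rfl hn]
  rw [Cochain.add_v, MonoidalPreadditive.add_whiskerRight, Preadditive.add_comp]

lemma wh_neg {m : ℤ} (α : Cochain K L m) : wh Y (-α) = -wh Y α := by
  have := wh_add Y α (-α)
  rw [add_neg_cancel, wh_zero] at this
  exact eq_neg_of_add_eq_zero_right this.symm

lemma wh_comp {m₁ m₂ m : ℤ} (α : Cochain K L m₁) (β : Cochain L N m₂) (h : m₁ + m₂ = m) :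
    wh Y (α.comp β h) = (wh Y α).comp (wh Y β) h := by
  refine Cochain.ext _ _ (fun n n' hn => ?_)
  apply mapBifunctor.hom_ext
  intro p q hpq
  have hpq' : p + q = n := hpq
  rw [Cochain.comp_v _ _ h n (n + m₁) n' rfl (by omega)]
  erw [ι_wh_v Y (α.comp β h) p q n (p + m) n' hpq rfl hn,
    ι_wh_v_assoc Y α p q n (p + m₁) (n + m₁) hpq rfl rfl,
    ι_wh_v Y β (p + m₁) q (n + m₁) (p + m) n' (by omega) (by omega) (by omega)]
  rw [Cochain.comp_v _ _ h p (p + m₁) (p + m) rfl (by omega), comp_whiskerRight, Category.assoc]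

lemma ι_d_assoc (L M : Cx A) (i i' j j' n n' : ℤ) (hi : i + 1 = i') (hj : j + 1 = j')
    (hn : n + 1 = n') (h : i + j = n) {Z : ModuleCat.{u} A} (g : (T L M).X n' ⟶ Z) :
    ιTensorObj L M i j n h ≫ (T L M).d n n' ≫ g =
      ((L.d i i' ▷ M.X j) ≫ ιTensorObj L M i' j n' (by omega) +
      (i.negOnePow : ℤˣ) • ((L.X i ◁ M.d j j') ≫ ιTensorObj L M i j' n' (by omega))) ≫ g := by
  rw [← Category.assoc, ι_d L M i i' j j' n n' hi hj hn h]

lemma units_smul_whiskerRight (u : ℤˣ) {X X' : ModuleCat.{u} A} (f : X ⟶ X')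
    (Z : ModuleCat.{u} A) : (u • f) ▷ Z = u • (f ▷ Z) := by
  have hneg : (-f) ▷ Z = -(f ▷ Z) :=
    eq_neg_of_add_eq_zero_left (by
      rw [← MonoidalPreadditive.add_whiskerRight, neg_add_cancel,
        MonoidalPreadditive.zero_whiskerRight])
  rcases Int.units_eq_one_or u with h | h
  · subst h; simp
  · subst h; simp [hneg]

lemma δ_wh {m m' : ℤ} (hm : m + 1 = m') (α : Cochain K L m) :
    δ m m' (wh Y α) = wh Y (δ m m' α) := by
  refine Cochain.ext _ _ (fun n n' hn => ?_)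
  apply mapBifunctor.hom_ext
  intro p q hpq
  have hpq' : p + q = n := hpq
  rw [δ_v m m' hm (wh Y α) n n' hn (n + m) (n + 1) (by omega) rfl, Preadditive.comp_add,
    Linear.comp_units_smul]
  erw [ι_wh_v_assoc Y α p q n (p + m) (n + m) hpq' rfl rfl,
    ι_d_assoc K Y p (p + 1) q (q + 1) n (n + 1) rfl rfl rfl hpq',
    ι_d L Y (p + m) (p + m') q (q + 1) (n + m) n' (by omega) rfl (by omega) (by omega),
    ι_wh_v Y (δ m m' α) p q n (p + m') n' hpq' rfl hn]
  rw [δ_v m m' hm α p (p + m') rfl (p + m) (p + 1) (by omega) rfl]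
  have e1 := ι_wh_v Y α (p + 1) q (n + 1) (p + m') n' (by omega) (by omega) (by omega)
  have e2 := ι_wh_v Y α p (q + 1) (n + 1) (p + m) n' (by omega) rfl (by omega)
  rw [Preadditive.add_comp, Category.assoc, Linear.units_smul_comp, Category.assoc]
  erw [e1, e2]
  rw [MonoidalPreadditive.add_whiskerRight, comp_whiskerRight, Preadditive.add_comp,
    Preadditive.comp_add, Category.assoc, smul_add, smul_smul, Linear.comp_units_smul]
  have e3 : α.v p (p + m) rfl ▷ Y.X q ≫ L.X (p + m) ◁ Y.d q (q + 1) =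
      K.X p ◁ Y.d q (q + 1) ≫ α.v p (p + m) rfl ▷ Y.X (q + 1) := (whisker_exchange _ _).symm
  rw [reassoc_of% e3]
  have e4 : (m'.negOnePow * p.negOnePow : ℤˣ) = -(p + m).negOnePow := by
    subst hm
    rw [Int.negOnePow_add, Int.negOnePow_add, Int.negOnePow_one]
    simp [mul_comm]
  rw [e4, Units.neg_smul, units_smul_whiskerRight, comp_whiskerRight, Linear.units_smul_comp]
  simp only [Category.assoc]
  abel


section Cone

open CochainComplex.mappingCone

variable (φ : K ⟶ L)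

/-- The comparison `Cone(φ) ⊗ Y ⟶ Cone(φ ⊗ Y)`. -/
noncomputable def toCone : T (mappingCone φ) Y ⟶ mappingCone (whr Y φ) :=
  lift (whr Y φ)
    (Cocycle.mk (wh Y (fst φ).1) 2 (by omega) (by
      rw [δ_wh Y (by omega), Cocycle.δ_eq_zero, wh_zero]))
    (wh Y (snd φ)) (by
      rw [δ_wh Y (by omega), δ_snd, wh_neg, wh_comp, wh_ofHom]
      simp)

/-- The comparison `Cone(φ ⊗ Y) ⟶ Cone(φ) ⊗ Y`. -/
noncomputable def fromCone : mappingCone (whr Y φ) ⟶ T (mappingCone φ) Y :=
  desc (whr Y φ) (wh Y (inl φ)) (whr Y (inr φ)) (by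
    rw [δ_wh Y (by omega), δ_inl, wh_ofHom]
    rw [whr_comp])

lemma toCone_fromCone : toCone Y φ ≫ fromCone Y φ = 𝟙 _ := by
  ext n : 1
  rw [HomologicalComplex.comp_f, toCone, fromCone,
    lift_desc_f _ _ _ _ _ _ _ n (n + 1) rfl]
  have h := Cochain.congr_v (congrArg (wh Y) (mappingCone.id φ)) n n (add_zero n)
  rw [wh_add, wh_comp, wh_comp, wh_ofHom, wh_ofHom, whr_id, Cochain.add_v,
    Cochain.comp_v _ _ (add_neg_cancel 1) n (n + 1) n rfl (by omega),
    Cochain.comp_zero_cochain_v, Cochain.ofHom_v, Cochain.ofHom_v] at h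
  exact h

lemma fromCone_toCone : fromCone Y φ ≫ toCone Y φ = 𝟙 _ := by
  ext n : 1
  rw [HomologicalComplex.comp_f, HomologicalComplex.id_f]
  have h1 := Cochain.congr_v (congrArg (wh Y) (inl_fst φ)) (n + 1) (n + 1) (add_zero _)
  have h2 := Cochain.congr_v (congrArg (wh Y) (inl_snd φ)) (n + 1) n (by omega)
  have h3 := Cochain.congr_v (congrArg (wh Y) (inr_fst φ)) n (n + 1) rfl
  have h4 := Cochain.congr_v (congrArg (wh Y) (inr_snd φ)) n n (add_zero _)
  rw [wh_comp, wh_ofHom, whr_id, Cochain.ofHom_v,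
    Cochain.comp_v _ _ (neg_add_cancel 1) (n + 1) n (n + 1) (by omega) rfl,
    HomologicalComplex.id_f] at h1
  rw [wh_comp, wh_zero, Cochain.zero_v, Cochain.comp_zero_cochain_v] at h2
  rw [wh_comp, wh_zero, Cochain.zero_v, wh_ofHom, Cochain.zero_cochain_comp_v,
    Cochain.ofHom_v] at h3
  rw [wh_comp, wh_ofHom, wh_ofHom, whr_id, Cochain.ofHom_v, Cochain.zero_cochain_comp_v,
    Cochain.ofHom_v, HomologicalComplex.id_f] at h4
  rw [ext_from_iff (whr Y φ) (n + 1) n rfl]
  constructor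
  · rw [ext_to_iff (whr Y φ) n (n + 1) rfl]
    constructor
    · simp only [toCone, fromCone, Category.assoc, inl_v_desc_f_assoc, lift_f_fst_v,
        Category.comp_id, inl_v_fst_v]
      exact h1
    · simp only [toCone, fromCone, Category.assoc, inl_v_desc_f_assoc, lift_f_snd_v,
        Category.comp_id, inl_v_snd_v]
      exact h2
  · rw [ext_to_iff (whr Y φ) n (n + 1) rfl]
    constructor
    · simp only [toCone, fromCone, Category.assoc, inr_f_desc_f_assoc, lift_f_fst_v,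
        Category.comp_id, inr_f_fst_v]
      exact h3
    · simp only [toCone, fromCone, Category.assoc, inr_f_desc_f_assoc, lift_f_snd_v,
        Category.comp_id, inr_f_snd_v]
      exact h4

/-- **Tensoring on the right commutes with mapping cones**: `Cone(φ) ⊗ Y ≅ Cone(φ ⊗ Y)`. -/
noncomputable def coneTensorIso : T (mappingCone φ) Y ≅ mappingCone (whr Y φ) where
  hom := toCone Y φ
  inv := fromCone Y φ
  hom_inv_id := toCone_fromCone Y φ
  inv_hom_id := fromCone_toCone Y φ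

end Cone

section ConeIso

open CochainComplex.mappingCone

variable {K₁ L₁ K₂ L₂ : Cx A}

lemma map_eq_id (φ : K₁ ⟶ L₁) (a : K₁ ⟶ K₁) (b : L₁ ⟶ L₁) (ha : a = 𝟙 _) (hb : b = 𝟙 _)
    (comm : φ ≫ b = a ≫ φ) : map φ φ a b comm = 𝟙 _ := by
  subst ha hb
  exact map_id φ

/-- Mapping cones of isomorphic morphisms are isomorphic. -/
noncomputable def coneIsoOfIso (φ₁ : K₁ ⟶ L₁) (φ₂ : K₂ ⟶ L₂) (a : K₁ ≅ K₂) (b : L₁ ≅ L₂)
    (comm : φ₁ ≫ b.hom = a.hom ≫ φ₂) : mappingCone φ₁ ≅ mappingCone φ₂ where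
  hom := map φ₁ φ₂ a.hom b.hom comm
  inv := map φ₂ φ₁ a.inv b.inv (by
    rw [← cancel_epi a.hom, ← reassoc_of% comm, Iso.hom_inv_id, Iso.hom_inv_id_assoc,
      Category.comp_id])
  hom_inv_id := by
    rw [← map_comp]
    exact map_eq_id _ _ _ a.hom_inv_id b.hom_inv_id _
  inv_hom_id := by
    rw [← map_comp]
    exact map_eq_id _ _ _ a.inv_hom_id b.inv_hom_id _

end ConeIso

lemma whr_smul_id (a : A) (K : Cx A) : whr Y (a • 𝟙 K) = a • 𝟙 (T K Y) := by
  ext n : 1
  apply mapBifunctor.hom_ext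
  intro p q hpq
  have hpq' : p + q = n := hpq
  erw [ι_whr_f Y (a • 𝟙 K) p q n hpq']
  rw [HomologicalComplex.smul_f_apply, HomologicalComplex.smul_f_apply,
    HomologicalComplex.id_f, HomologicalComplex.id_f, MonoidalLinear.smul_whiskerRight,
    id_whiskerRight, Linear.smul_comp, Linear.comp_smul, Category.id_comp]
  exact congrArg _ (Category.comp_id _).symm

end Groth.Agent.R2.H15.ConeTensor
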