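import Mathlib
import Groth.Prelude.Def_EtBase
import Groth.Prelude.Def_SGA4b

/-!
# Direct and inverse images of étale sheaves along isomorphisms (helper15, round 2)

For a general value category `A`:
* `bcId X : EtCoh.bc (𝟙 X) ≅ 𝟭 _`;
* `pushA A f`, `pushAId`, `pushAComp`, `pushACongr`: direct images with values in `A`, and their
  identity/composition/congruence isomorphisms;
* `pushAEquiv A e`: for an isomorphism `e : X ≅ Y` of schemes, direct image along `e.hom` is an
  equivalence of categories; hence `isEquivalence_pull` and `isEquivalence_pullSh`.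
-/

set_option autoImplicit false

universe u v' u'

open CategoryTheory CategoryTheory.Limits AlgebraicGeometry Opposite

namespace Groth.Agent.R2.H15.EtPushIso

/-- component of `bcId` -/
noncomputable def bcIdApp (X : Scheme.{u}) (A : X.Etale) : (EtCoh.bc (𝟙 X)).obj A ≅ A :=
  let e : pullback A.hom (𝟙 X) ≅ A.left := asIso (pullback.fst A.hom (𝟙 X))
  MorphismProperty.Over.isoMk e
      (by
        have h : pullback.fst A.hom (𝟙 X) ≫ A.hom = pullback.snd A.hom (𝟙 X) := by
          rw [pullback.condition, Category.comp_id]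
        exact h)

lemma bcIdApp_hom_left (X : Scheme.{u}) (A : X.Etale) :
    (bcIdApp X A).hom.left = pullback.fst A.hom (𝟙 X) := rfl

lemma bc_map_left_fst {X Y : Scheme.{u}} (f : X ⟶ Y) {U V : Y.Etale} (g : V ⟶ U) :
    ((EtCoh.bc f).map g).left ≫ pullback.fst U.hom f = pullback.fst V.hom f ≫ g.left := by
  dsimp [EtCoh.bc]
  exact pullback.lift_fst _ _ _

/-- Base change of the small étale site along the identity is the identity. -/
noncomputable def bcId (X : Scheme.{u}) : EtCoh.bc (𝟙 X) ≅ 𝟭 X.Etale :=
  NatIso.ofComponents (bcIdApp X)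
    (by
      intro A B g
      apply MorphismProperty.Over.Hom.ext
      change ((EtCoh.bc (𝟙 X)).map g).left ≫ (bcIdApp X B).hom.left =
        (bcIdApp X A).hom.left ≫ g.left
      rw [bcIdApp_hom_left, bcIdApp_hom_left]
      exact bc_map_left_fst (𝟙 X) g)

variable (A : Type u') [Category.{v'} A]

/-- Direct image of `A`-valued étale sheaves along `f`. -/
noncomputable abbrev pushA {X Y : Scheme.{u}} (f : X ⟶ Y) :
    Sheaf X.smallEtaleTopology A ⥤ Sheaf Y.smallEtaleTopology A :=
  (EtCoh.bc f).sheafPushforwardContinuous A Y.smallEtaleTopology X.smallEtaleTopology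

set_option backward.isDefEq.respectTransparency.types false in
/-- Direct image along the identity. -/
noncomputable def pushAId (X : Scheme.{u}) : pushA A (𝟙 X) ≅ 𝟭 _ :=
  Functor.sheafPushforwardContinuousId' (bcId X) A X.smallEtaleTopology

set_option backward.isDefEq.respectTransparency.types false in
/-- Direct images compose. -/
noncomputable def pushAComp {X Y Z : Scheme.{u}} (f : X ⟶ Y) (g : Z ⟶ X) :
    pushA A g ⋙ pushA A f ≅ pushA A (g ≫ f) :=
  Functor.sheafPushforwardContinuousComp' (F := EtCoh.bc f) (G := EtCoh.bc g) (FG := EtCoh.bc (g ≫ f))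
    ((MorphismProperty.Over.pullbackComp (P := EtCoh.etaleMP) (Q := ⊤) g f).symm :
      EtCoh.bc f ⋙ EtCoh.bc g ≅ EtCoh.bc (g ≫ f))
    A Y.smallEtaleTopology X.smallEtaleTopology Z.smallEtaleTopology

set_option backward.isDefEq.respectTransparency.types false in
/-- Transport of direct image along an equality of morphisms. -/
noncomputable def pushACongr {X Y : Scheme.{u}} {f f' : X ⟶ Y} (h : f = f') :
    pushA A f ≅ pushA A f' :=
  Functor.sheafPushforwardContinuousIso (F := EtCoh.bc f) (F' := EtCoh.bc f')
    ((MorphismProperty.Over.pullbackCongr (P := EtCoh.etaleMP) (Q := ⊤) h) : EtCoh.bc f ≅ EtCoh.bc f')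
    A Y.smallEtaleTopology X.smallEtaleTopology

/-- Direct image along an isomorphism of schemes is an equivalence of categories. -/
noncomputable def pushAEquiv {X Y : Scheme.{u}} (e : X ≅ Y) :
    Sheaf X.smallEtaleTopology A ≌ Sheaf Y.smallEtaleTopology A :=
  CategoryTheory.Equivalence.mk (pushA A e.hom) (pushA A e.inv)
    ((pushAId A X).symm ≪≫ (pushACongr A e.hom_inv_id).symm ≪≫ (pushAComp A e.inv e.hom).symm)
    (pushAComp A e.hom e.inv ≪≫ pushACongr A e.inv_hom_id ≪≫ pushAId A Y)

instance isEquivalence_pushA {X Y : Scheme.{u}} (f : X ⟶ Y) [IsIso f] :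
    (pushA A f).IsEquivalence :=
  (pushAEquiv A (asIso f)).isEquivalence_functor

instance isEquivalence_push {X Y : Scheme.{u}} (f : X ⟶ Y) [IsIso f] :
    (EtCoh.push f).IsEquivalence :=
  isEquivalence_pushA AddCommGrpCat.{u + 1} f

instance isEquivalence_pushSh {X Y : Scheme.{u}} (f : X ⟶ Y) [IsIso f] :
    (EtDesc.pushSh f).IsEquivalence :=
  isEquivalence_pushA (Type (u + 1)) f

instance isEquivalence_pull {X Y : Scheme.{u}} (f : X ⟶ Y) [IsIso f] :
    (EtCoh.pull f).IsEquivalence :=
  (EtCoh.pullPushAdj f).isEquivalence_left_of_isEquivalence_right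

instance isEquivalence_pullSh {X Y : Scheme.{u}} (f : X ⟶ Y) [IsIso f] :
    (EtDesc.pullSh f).IsEquivalence :=
  (EtDesc.adjSh f).isEquivalence_left_of_isEquivalence_right

end Groth.Agent.R2.H15.EtPushIso
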