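import Mathlib

/-!
# Euler characteristic of the pages of a spectral sequence (helper15, round 2)
-/

set_option autoImplicit false

universe u

open CategoryTheory CategoryTheory.Limits

namespace Groth.Agent.R2.H15.EulerSS

variable {A : Type u} [Ring A]

/-- The length of the middle term of a short complex of modules. -/
lemma length_sc (S : ShortComplex (ModuleCat.{u} A)) :
    Module.length A S.X₂ = Module.length A S.homology +
      Module.length A (LinearMap.range S.f.hom) + Module.length A (LinearMap.range S.g.hom) := by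
  have h1 : Module.length A S.X₂ = Module.length A (LinearMap.ker S.g.hom) +
      Module.length A (LinearMap.range S.g.hom) :=
    Module.length_eq_add_of_exact (LinearMap.ker S.g.hom).subtype S.g.hom.rangeRestrict
      (Submodule.subtype_injective _) (LinearMap.surjective_rangeRestrict _) (by
        intro x
        constructor
        · intro hx
          refine ⟨⟨x, ?_⟩, rfl⟩
          have := congrArg Subtype.val hx
          simp at this
          exact this
        · rintro ⟨y, rfl⟩
          apply Subtype.ext
          simp)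
  have h2 : Module.length A (LinearMap.ker S.g.hom) =
      Module.length A (LinearMap.range S.moduleCatToCycles) +
        Module.length A (LinearMap.ker S.g.hom ⧸ LinearMap.range S.moduleCatToCycles) :=
    Module.length_eq_add_of_exact (LinearMap.range S.moduleCatToCycles).subtype
      (LinearMap.range S.moduleCatToCycles).mkQ (Submodule.subtype_injective _)
      (Submodule.mkQ_surjective _) (LinearMap.exact_subtype_mkQ _)
  have h3 : Module.length A (LinearMap.range S.moduleCatToCycles) =
      Module.length A (LinearMap.range S.f.hom) := by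
    have e : (LinearMap.range S.moduleCatToCycles).map (LinearMap.ker S.g.hom).subtype =
        LinearMap.range S.f.hom := by
      rw [← LinearMap.range_comp]
      rfl
    rw [← e]
    exact (Submodule.equivMapOfInjective _ (Submodule.subtype_injective _) _).length_eq
  have h4 : Module.length A S.homology =
      Module.length A (LinearMap.ker S.g.hom ⧸ LinearMap.range S.moduleCatToCycles) :=
    S.moduleCatHomologyIso.toLinearEquiv.length_eq
  rw [h1, h2, h3, h4]
  abel

/-- Transport of the length of the range of a differential along equalities of indices. -/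
lemma length_range_d_congr {ι : Type*} {c : ComplexShape ι}
    (K : HomologicalComplex (ModuleCat.{u} A) c) {i j i' j' : ι} (hi : i = i') (hj : j = j') :
    Module.length A (LinearMap.range (K.d i j).hom) =
      Module.length A (LinearMap.range (K.d i' j').hom) := by
  subst hi hj
  rfl

section Complex

variable (a : ℤ × ℤ) (K : HomologicalComplex (ModuleCat.{u} A) (ComplexShape.up' a))

lemma next_eq (pq : ℤ × ℤ) : (ComplexShape.up' a).next pq = pq + a :=
  (ComplexShape.up' a).next_eq' (by simp [ComplexShape.up'])

lemma prev_eq (pq : ℤ × ℤ) : (ComplexShape.up' a).prev pq = pq - a :=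
  (ComplexShape.up' a).prev_eq' (by simp [ComplexShape.up'])

/-- The length of the image of the outgoing differential. -/
noncomputable def bO (pq : ℤ × ℤ) : ℕ∞ :=
  Module.length A (LinearMap.range (K.d pq (pq + a)).hom)

lemma length_X (pq : ℤ × ℤ) :
    Module.length A (K.X pq) =
      Module.length A (K.homology pq) + bO a K (pq - a) + bO a K pq := by
  have h := length_sc (K.sc pq)
  have h1 : Module.length A (LinearMap.range (K.sc pq).f.hom) = bO a K (pq - a) :=
    length_range_d_congr K (prev_eq a pq) (by simp)
  have h2 : Module.length A (LinearMap.range (K.sc pq).g.hom) = bO a K pq :=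
    length_range_d_congr K rfl (next_eq a pq)
  rw [h1, h2] at h
  exact h

variable {a K}

lemma bO_eq_zero_of_isZero {pq : ℤ × ℤ} (h : IsZero (K.X pq)) : bO a K pq = 0 := by
  have hX := length_X a K pq
  rw [Module.length_eq_zero_iff.mpr (ModuleCat.subsingleton_of_isZero h)] at hX
  have h0 := hX.symm
  simp only [add_eq_zero] at h0
  exact h0.2

lemma bO_sub_eq_zero_of_isZero {pq : ℤ × ℤ} (h : IsZero (K.X pq)) : bO a K (pq - a) = 0 := by
  have hX := length_X a K pq
  rw [Module.length_eq_zero_iff.mpr (ModuleCat.subsingleton_of_isZero h)] at hX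
  have h0 := hX.symm
  simp only [add_eq_zero] at h0
  exact h0.1.2

lemma isZero_homology_of_isZero {pq : ℤ × ℤ} (h : IsZero (K.X pq)) : IsZero (K.homology pq) := by
  have hX := length_X a K pq
  rw [Module.length_eq_zero_iff.mpr (ModuleCat.subsingleton_of_isZero h)] at hX
  have h0 := hX.symm
  simp only [add_eq_zero] at h0
  rw [ModuleCat.isZero_iff_subsingleton]
  exact Module.length_eq_zero_iff.mp h0.1.1

lemma isFiniteLength_homology {pq : ℤ × ℤ} (h : IsFiniteLength A (K.X pq)) :
    IsFiniteLength A (K.homology pq) := by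
  rw [← Module.length_ne_top_iff] at h ⊢
  rw [length_X a K pq] at h
  intro h'
  apply h
  rw [h']
  simp

lemma bO_ne_top {pq : ℤ × ℤ} (h : IsFiniteLength A (K.X pq)) : bO a K pq ≠ ⊤ := by
  rw [← Module.length_ne_top_iff] at h
  rw [length_X a K pq] at h
  intro h'
  apply h
  rw [h']
  simp

lemma bO_sub_ne_top {pq : ℤ × ℤ} (h : IsFiniteLength A (K.X pq)) : bO a K (pq - a) ≠ ⊤ := by
  rw [← Module.length_ne_top_iff] at h
  rw [length_X a K pq] at h
  intro h'
  apply h
  rw [h']
  simp

/-- The sign `(-1)^{p+q}`. -/
def eps (pq : ℤ × ℤ) : ℤ := (((pq.1 + pq.2).negOnePow : ℤˣ) : ℤ)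

lemma eps_sub (ha : a.1 + a.2 = 1) (pq : ℤ × ℤ) : eps (pq - a) = - eps pq := by
  unfold eps
  have : pq.1 + pq.2 = ((pq - a).1 + (pq - a).2) + 1 := by
    simp only [Prod.fst_sub, Prod.snd_sub]
    lia
  rw [this, Int.negOnePow_succ]
  simp

/-- The Euler characteristic of a bounded complex of finite length modules
(of shape `up' a` with `a.1 + a.2 = 1`) equals that of its homology. -/
theorem euler_complex (ha : a.1 + a.2 = 1) (s : Finset (ℤ × ℤ))
    (hs : ∀ pq : ℤ × ℤ, pq ∉ s → IsZero (K.X pq))
    (hfl : ∀ pq : ℤ × ℤ, IsFiniteLength A (K.X pq)) :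
    (s.sum fun pq => eps pq * ((Module.length A (K.homology pq)).toNat : ℤ)) =
      s.sum fun pq => eps pq * ((Module.length A (K.X pq)).toNat : ℤ) := by
  set g : ℤ × ℤ → ℤ := fun pq => eps pq * ((bO a K pq).toNat : ℤ) with hg
  have key : ∀ pq, eps pq * ((Module.length A (K.X pq)).toNat : ℤ) =
      eps pq * ((Module.length A (K.homology pq)).toNat : ℤ) - g (pq - a) + g pq := by
    intro pq
    have hH : Module.length A (K.homology pq) ≠ ⊤ :=
      Module.length_ne_top_iff.mpr (isFiniteLength_homology (hfl pq))
    rw [length_X a K pq, ENat.toNat_add (by simp [hH, bO_sub_ne_top (hfl pq)]) (bO_ne_top (hfl pq)),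
      ENat.toNat_add hH (bO_sub_ne_top (hfl pq))]
    simp only [hg, eps_sub ha]
    push_cast
    ring
  have hsum : (s.sum fun pq => g (pq - a)) = s.sum g := by
    have h1 : (∑ᶠ pq, g (pq - a)) = s.sum fun pq => g (pq - a) := by
      apply finsum_eq_finsetSum_of_support_subset
      intro pq hpq
      by_contra hn
      apply hpq
      simp only [hg]
      rw [bO_sub_eq_zero_of_isZero (hs pq hn)]
      simp
    have h2 : (∑ᶠ pq, g pq) = s.sum g := by
      apply finsum_eq_finsetSum_of_support_subset
      intro pq hpq
      by_contra hn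
      apply hpq
      simp only [hg]
      rw [bO_eq_zero_of_isZero (hs pq hn)]
      simp
    rw [← h1, ← h2]
    exact finsum_comp_equiv (Equiv.subRight a)
  simp_rw [key]
  rw [Finset.sum_add_distrib, Finset.sum_sub_distrib, hsum]
  ring

end Complex

section SS

open HomologicalComplex

variable (E : E₂CohomologicalSpectralSequence (ModuleCat.{u} A)) (s : Finset (ℤ × ℤ))

theorem euler_pages
    (hs : ∀ pq : ℤ × ℤ, pq ∉ s → IsZero ((E.page 2).X pq))
    (hfl : ∀ pq : ℤ × ℤ, IsFiniteLength A ((E.page 2).X pq)) (r : ℤ) (hr : 2 ≤ r) :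
    (∀ pq : ℤ × ℤ, pq ∉ s → IsZero ((E.page r hr).X pq)) ∧
    (∀ pq : ℤ × ℤ, IsFiniteLength A ((E.page r hr).X pq)) ∧
    (s.sum fun pq => eps pq * ((Module.length A ((E.page r hr).X pq)).toNat : ℤ)) =
      s.sum fun pq => eps pq * ((Module.length A ((E.page 2).X pq)).toNat : ℤ) := by
  induction r, hr using Int.leInduction with
  | base => exact ⟨hs, hfl, rfl⟩
  | succ r hr ih =>
    obtain ⟨ih1, ih2, ih3⟩ := ih
    have e : ∀ pq, ((E.page r hr).homology pq) ≃ₗ[A] ((E.page (r + 1) (by lia)).X pq) :=
      fun pq => (E.iso r (r + 1) pq rfl hr).toLinearEquiv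
    refine ⟨?_, ?_, ?_⟩
    · intro pq hpq
      exact (isZero_homology_of_isZero (ih1 pq hpq)).of_iso (E.iso r (r + 1) pq rfl hr).symm
    · intro pq
      rw [← Module.length_ne_top_iff, ← (e pq).length_eq, Module.length_ne_top_iff]
      exact isFiniteLength_homology (ih2 pq)
    · rw [← ih3, ← euler_complex (by simp) s ih1 ih2]
      refine Finset.sum_congr rfl fun pq _ => ?_
      rw [(e pq).length_eq]

end SS

end Groth.Agent.R2.H15.EulerSS
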