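import Groth.Agent.R2.H15ConeTensor

/-!
# Dualizable cochain complexes of modules are bounded with finite projective terms
(helper15, round 2)

For the monoidal category `Cx A = CochainComplex (ModuleCat A) ℤ` (Mathlib's tensor product):
* `assoc_ι`, `assoc_inv_ι` : the associator on the summands `K₁^i ⊗ K₂^j ⊗ K₃^k`;
* `leftUnitor_inv_f`, `rightUnitor_inv_f` : the unitors in each degree;
* `T_induction` : induction principle for elements of `(L ⊗ M)^n` (zero, sums, pure tensors in a summand);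
* `unit_cyclic` : every term of the unit complex is cyclic;
* `finite_projective_of_id_mem_range_dualTensorHom` : dual basis lemma;
* `left_finite_projective`, `left_bounded`, `right_finite_projective`, `right_bounded` :
  if `ExactPairing M N` then `M` and `N` are bounded with finitely generated projective terms.
-/

set_option autoImplicit false
set_option linter.style.haveILetI false
universe u

open CategoryTheory CategoryTheory.Limits MonoidalCategory HomologicalComplex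
open Groth.Agent.R2.H15.KModel Groth.Agent.R2.H15.ConeTensor
open scoped TensorProduct

namespace Groth.Agent.R2.H15.ExactPair

variable {A : Type u} [CommRing A]

lemma assoc_ι (K₁ K₂ K₃ : Cx A) (i₁ i₂ i₃ i₁₂ i₂₃ j : ℤ) (h₁₂ : i₁ + i₂ = i₁₂)
    (h₂₃ : i₂ + i₃ = i₂₃) (h : i₁₂ + i₃ = j) :
    (ιTensorObj K₁ K₂ i₁ i₂ i₁₂ h₁₂ ▷ K₃.X i₃) ≫ ιTensorObj (K₁ ⊗ K₂) K₃ i₁₂ i₃ j h ≫
      (α_ K₁ K₂ K₃).hom.f j =
    (α_ (K₁.X i₁) (K₂.X i₂) (K₃.X i₃)).hom ≫ (K₁.X i₁ ◁ ιTensorObj K₂ K₃ i₂ i₃ i₂₃ h₂₃) ≫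
      ιTensorObj K₁ (K₂ ⊗ K₃) i₁ i₂₃ j (by omega) := by
  have e1 := mapBifunctor₁₂.ι_eq (curriedTensor (ModuleCat.{u} A)) (curriedTensor (ModuleCat.{u} A))
    K₁ K₂ K₃ (ComplexShape.up ℤ) (ComplexShape.up ℤ) i₁ i₂ i₃ i₁₂ j h₁₂ h
  have e2 := mapBifunctor₂₃.ι_eq (curriedTensor (ModuleCat.{u} A)) (curriedTensor (ModuleCat.{u} A))
    K₁ K₂ K₃ (ComplexShape.up ℤ) (ComplexShape.up ℤ) (ComplexShape.up ℤ) i₁ i₂ i₃ i₂₃ j h₂₃
    (show i₁ + i₂₃ = j by omega)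
  have e3 := ι_mapBifunctorAssociatorX_hom (curriedAssociatorNatIso (ModuleCat.{u} A)) K₁ K₂ K₃
    (ComplexShape.up ℤ) (ComplexShape.up ℤ) (ComplexShape.up ℤ) i₁ i₂ i₃ j
    (show i₁ + i₂ + i₃ = j by omega)
  rw [e1, e2] at e3
  simp only [curriedTensor_map_app, curriedTensor_obj_map, curriedAssociatorNatIso_hom_app_app_app,
    Category.assoc] at e3
  exact e3

lemma assoc_inv_ι (K₁ K₂ K₃ : Cx A) (i₁ i₂ i₃ i₁₂ i₂₃ j : ℤ) (h₁₂ : i₁ + i₂ = i₁₂)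
    (h₂₃ : i₂ + i₃ = i₂₃) (h : i₁ + i₂₃ = j) :
    (K₁.X i₁ ◁ ιTensorObj K₂ K₃ i₂ i₃ i₂₃ h₂₃) ≫ ιTensorObj K₁ (K₂ ⊗ K₃) i₁ i₂₃ j h ≫
      (α_ K₁ K₂ K₃).inv.f j =
    (α_ (K₁.X i₁) (K₂.X i₂) (K₃.X i₃)).inv ≫ (ιTensorObj K₁ K₂ i₁ i₂ i₁₂ h₁₂ ▷ K₃.X i₃) ≫
      ιTensorObj (K₁ ⊗ K₂) K₃ i₁₂ i₃ j (by omega) := by
  have h1 := assoc_ι K₁ K₂ K₃ i₁ i₂ i₃ i₁₂ i₂₃ j h₁₂ h₂₃ (by omega)
  have h2 : (α_ K₁ K₂ K₃).hom.f j ≫ (α_ K₁ K₂ K₃).inv.f j = 𝟙 _ := by
    rw [← HomologicalComplex.comp_f, Iso.hom_inv_id, HomologicalComplex.id_f]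
  rw [← cancel_epi (α_ (K₁.X i₁) (K₂.X i₂) (K₃.X i₃)).hom, Iso.hom_inv_id_assoc]
  have h3 := congrArg (fun f => f ≫ (α_ K₁ K₂ K₃).inv.f j) h1
  simp only [Category.assoc, h2] at h3
  exact h3.symm

/-- The degree-zero term of the unit complex is the unit module. -/
noncomputable abbrev sIso : (𝟙_ (Cx A)).X 0 ≅ 𝟙_ (ModuleCat.{u} A) :=
  singleObjXSelf (ComplexShape.up ℤ) 0 (𝟙_ (ModuleCat.{u} A))

lemma leftUnitor_inv_f (K : Cx A) (p : ℤ) :
    (λ_ K).inv.f p = (λ_ (K.X p)).inv ≫ ((sIso (A := A)).inv ▷ K.X p) ≫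
      ιTensorObj (𝟙_ (Cx A)) K 0 p p (zero_add p) :=
  HomologicalComplex.leftUnitor'_inv K p

lemma rightUnitor_inv_f (K : Cx A) (p : ℤ) :
    (ρ_ K).inv.f p = (ρ_ (K.X p)).inv ≫ (K.X p ◁ (sIso (A := A)).inv) ≫
      ιTensorObj K (𝟙_ (Cx A)) p 0 p (add_zero p) :=
  HomologicalComplex.rightUnitor'_inv K p

/-- Induction principle for the terms of a tensor product of complexes. -/
lemma T_induction (L M : Cx A) (n : ℤ) (C : (T L M).X n → Prop) (h0 : C 0)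
    (hadd : ∀ x y, C x → C y → C (x + y))
    (hpure : ∀ (j : ℤ) (l : L.X (n - j)) (m : M.X j), C (ιE L M n j (l ⊗ₜ m))) :
    ∀ t, C t := by
  intro t
  have key : ∀ y : E L M n, C ((eE L M n).symm y) := by
    intro y
    induction y using DirectSum.induction_on with
    | zero => simpa using h0
    | of j x =>
      erw [eE_symm_lof]
      induction x using TensorProduct.induction_on with
      | zero => simpa using h0
      | tmul l m => exact hpure j l m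
      | add x y hx hy => rw [map_add]; exact hadd _ _ hx hy
    | add x y hx hy => rw [map_add]; exact hadd _ _ hx hy
  simpa using key (eE L M n t)

/-- Every term of the unit complex is a cyclic module. -/
lemma unit_cyclic (c : ℤ) : ∃ (w₀ : (𝟙_ (Cx A)).X c) (φ : (𝟙_ (Cx A)).X c →ₗ[A] A),
    ∀ w, w = φ w • w₀ := by
  by_cases hc : c = 0
  · subst hc
    refine ⟨(sIso (A := A)).inv.hom (1 : A), (sIso (A := A)).hom.hom, fun w => ?_⟩
    rw [← map_smul, smul_eq_mul, mul_one]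
    exact (congrArg (fun f => f.hom w) (sIso (A := A)).hom_inv_id).symm
  · have hz : IsZero ((𝟙_ (Cx A)).X c) :=
      isZero_single_obj_X (ComplexShape.up ℤ) 0 (𝟙_ (ModuleCat.{u} A)) c hc
    haveI : Subsingleton ((𝟙_ (Cx A)).X c) := ModuleCat.subsingleton_of_isZero hz
    exact ⟨0, 0, fun w => Subsingleton.elim _ _⟩


/-- If the identity of `P` is a finite-rank endomorphism (lies in the image of `P^* ⊗ P`), then
`P` is finitely generated and projective. -/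
lemma finite_projective_of_id_mem_range_dualTensorHom (P : Type u) [AddCommGroup P] [Module A P]
    (h : (LinearMap.id : P →ₗ[A] P) ∈ LinearMap.range (dualTensorHom A P P)) :
    Module.Finite A P ∧ Module.Projective A P := by
  obtain ⟨t, ht⟩ := h
  obtain ⟨s, hs⟩ := TensorProduct.exists_finset t
  let f : (s → A) →ₗ[A] P := Fintype.linearCombination A (fun i : s => (i : Module.Dual A P × P).2)
  let g : P →ₗ[A] (s → A) := LinearMap.pi (fun i : s => (i : Module.Dual A P × P).1)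
  have hfg : f ∘ₗ g = LinearMap.id := by
    ext x
    have h1 : x = dualTensorHom A P P t x := by rw [ht]; rfl
    rw [LinearMap.id_apply, LinearMap.comp_apply]
    conv_rhs => rw [h1, hs, map_sum, LinearMap.sum_apply]
    simp only [f, g, Fintype.linearCombination_apply, LinearMap.pi_apply, dualTensorHom_apply]
    exact (Finset.sum_coe_sort s (fun i => i.1 x • i.2))
  refine ⟨Module.Finite.of_surjective f fun x => ⟨g x, LinearMap.congr_fun hfg x⟩, ?_⟩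
  exact Module.Projective.of_split g f hfg

section PartM

variable (M N : Cx A) [ExactPairing M N]

/-- The composite `(M ⊗ N)^0 ⊗ M^p → M^p` through the associator, the evaluation and the right
unitor. -/
noncomputable def Φ (p : ℤ) : ((M ⊗ N).X 0 ⊗ M.X p : ModuleCat.{u} A) ⟶ M.X p :=
  ιTensorObj (M ⊗ N) M 0 p p (zero_add p) ≫ (α_ M N M).hom.f p ≫ (M ◁ ε_ M N).f p ≫
    (ρ_ M).hom.f p

/-- The coevaluation in degree zero, as a map from the unit module. -/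
noncomputable def e0 : 𝟙_ (ModuleCat.{u} A) ⟶ (M ⊗ N).X 0 := (sIso (A := A)).inv ≫ (η_ M N).f 0

lemma key (p : ℤ) : (λ_ (M.X p)).inv ≫ (e0 M N ▷ M.X p) ≫ Φ M N p = 𝟙 (M.X p) := by
  have h := ExactPairing.evaluation_coevaluation M N
  have h' : (λ_ M).inv ≫ (η_ M N ▷ M ≫ (α_ M N M).hom ≫ M ◁ ε_ M N) ≫ (ρ_ M).hom = 𝟙 M := by
    rw [h]; simp
  have h'' := congrArg (fun f => f.f p) h'
  simp only [HomologicalComplex.comp_f, HomologicalComplex.id_f, Category.assoc] at h''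
  rw [leftUnitor_inv_f, Category.assoc, Category.assoc] at h''
  have hw : ιTensorObj (𝟙_ (Cx A)) M 0 p p (zero_add p) ≫ (η_ M N ▷ M).f p =
      ((η_ M N).f 0 ▷ M.X p) ≫ ιTensorObj (M ⊗ N) M 0 p p (zero_add p) :=
    ι_whr_f M (η_ M N) 0 p p (zero_add p)
  rw [reassoc_of% hw] at h''
  rw [Φ, e0, comp_whiskerRight, Category.assoc]
  exact h''

lemma Φ_ι (p a b : ℤ) (hab : a + b = 0) :
    (ιTensorObj M N a b 0 hab ▷ M.X p) ≫ Φ M N p =
      (α_ (M.X a) (N.X b) (M.X p)).hom ≫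
        (M.X a ◁ (ιTensorObj N M b p (b + p) rfl ≫ (ε_ M N).f (b + p))) ≫
        ιTensorObj M (𝟙_ (Cx A)) a (b + p) p (by omega) ≫ (ρ_ M).hom.f p := by
  have h1 := assoc_ι M N M a b p 0 (b + p) p hab rfl (zero_add p)
  have h2 : ιTensorObj M (N ⊗ M) a (b + p) p (by omega) ≫ (M ◁ ε_ M N).f p =
      (M.X a ◁ (ε_ M N).f (b + p)) ≫ ιTensorObj M (𝟙_ (Cx A)) a (b + p) p (by omega) :=
    ι_tmap M (ε_ M N) a (b + p) p (by omega)
  rw [Φ, reassoc_of% h1, reassoc_of% h2, MonoidalCategory.whiskerLeft_comp, Category.assoc]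

/-- The bilinear map `t, x ↦ Φ_p (t ⊗ x)`. -/
noncomputable def Ψ (p : ℤ) : (M ⊗ N).X 0 →ₗ[A] M.X p →ₗ[A] M.X p :=
  TensorProduct.curry (Φ M N p).hom

lemma Ψ_apply (p : ℤ) (t : (M ⊗ N).X 0) (x : M.X p) :
    Ψ M N p t x = (Φ M N p).hom (t ⊗ₜ x) := rfl

lemma Ψ_e0 (p : ℤ) : Ψ M N p ((e0 M N).hom (1 : A)) = LinearMap.id := by
  ext x
  have h := congrArg (fun f => f.hom x) (key M N p)
  simp only [ModuleCat.hom_comp, LinearMap.comp_apply, ModuleCat.hom_id, LinearMap.id_apply] at h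
  rw [Ψ_apply, LinearMap.id_apply]
  have h1 : (λ_ (M.X p)).inv.hom x = (1 : A) ⊗ₜ[A] x :=
    ModuleCat.MonoidalCategory.leftUnitor_inv_apply x
  rw [h1] at h
  exact h

lemma Ψ_ι_apply (p a b : ℤ) (hab : a + b = 0) (m : M.X a) (n : N.X b) (x : M.X p) :
    Ψ M N p ((ιTensorObj M N a b 0 hab).hom (m ⊗ₜ n)) x =
      (ιTensorObj M (𝟙_ (Cx A)) a (b + p) p (by omega) ≫ (ρ_ M).hom.f p).hom
        (m ⊗ₜ (ιTensorObj N M b p (b + p) rfl ≫ (ε_ M N).f (b + p)).hom (n ⊗ₜ x)) := by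
  have h := congrArg (fun f => f.hom ((m ⊗ₜ n) ⊗ₜ x)) (Φ_ι M N p a b hab)
  simp only [ModuleCat.hom_comp, LinearMap.comp_apply] at h
  rw [Ψ_apply]
  exact h

lemma Ψ_ι_mem (p a b : ℤ) (hab : a + b = 0) (m : M.X a) (n : N.X b) :
    Ψ M N p ((ιTensorObj M N a b 0 hab).hom (m ⊗ₜ n)) ∈
      LinearMap.range (dualTensorHom A (M.X p) (M.X p)) := by
  obtain ⟨w₀, φ, hφ⟩ := unit_cyclic (A := A) (b + p)
  refine ⟨(φ ∘ₗ (ιTensorObj N M b p (b + p) rfl ≫ (ε_ M N).f (b + p)).hom ∘ₗ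
      TensorProduct.mk A _ _ n) ⊗ₜ
    (ιTensorObj M (𝟙_ (Cx A)) a (b + p) p (by omega) ≫ (ρ_ M).hom.f p).hom (m ⊗ₜ w₀), ?_⟩
  ext x
  rw [dualTensorHom_apply, Ψ_ι_apply]
  conv_rhs => rw [hφ ((ιTensorObj N M b p (b + p) rfl ≫ (ε_ M N).f (b + p)).hom (n ⊗ₜ x))]
  rw [TensorProduct.tmul_smul, map_smul]
  rfl

lemma Ψ_ι_eq_zero (p a b : ℤ) (hab : a + b = 0) (hbp : b + p ≠ 0) (m : M.X a) (n : N.X b) :
    Ψ M N p ((ιTensorObj M N a b 0 hab).hom (m ⊗ₜ n)) = 0 := by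
  ext x
  rw [Ψ_ι_apply]
  have hz : IsZero ((𝟙_ (Cx A)).X (b + p)) :=
    isZero_single_obj_X (ComplexShape.up ℤ) 0 (𝟙_ (ModuleCat.{u} A)) (b + p) hbp
  haveI : Subsingleton ((𝟙_ (Cx A)).X (b + p)) := ModuleCat.subsingleton_of_isZero hz
  rw [Subsingleton.elim ((ιTensorObj N M b p (b + p) rfl ≫ (ε_ M N).f (b + p)).hom (n ⊗ₜ x)) 0,
    TensorProduct.tmul_zero, map_zero]
  rfl

lemma Ψ_all (t : (M ⊗ N).X 0) :
    (∀ p, Ψ M N p t ∈ LinearMap.range (dualTensorHom A (M.X p) (M.X p))) ∧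
      ∃ S : Finset ℤ, ∀ p, -p ∉ S → Ψ M N p t = 0 := by
  refine T_induction M N 0
    (fun t => (∀ p, Ψ M N p t ∈ LinearMap.range (dualTensorHom A (M.X p) (M.X p))) ∧
      ∃ S : Finset ℤ, ∀ p, -p ∉ S → Ψ M N p t = 0) ?_ ?_ ?_ t
  · exact ⟨fun p => by rw [map_zero]; exact Submodule.zero_mem _, ∅, fun p _ => map_zero _⟩
  · rintro x y ⟨hx, Sx, hSx⟩ ⟨hy, Sy, hSy⟩
    classical
    refine ⟨fun p => by rw [map_add]; exact Submodule.add_mem _ (hx p) (hy p), Sx ∪ Sy,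
      fun p hp => ?_⟩
    rw [Finset.mem_union, not_or] at hp
    rw [map_add, hSx p hp.1, hSy p hp.2, add_zero]
  · intro j l m
    refine ⟨fun p => Ψ_ι_mem M N p (0 - j) j (by omega) l m, {j}, fun p hp => ?_⟩
    rw [Finset.mem_singleton] at hp
    exact Ψ_ι_eq_zero M N p (0 - j) j (by omega) (by omega) l m

end PartM

theorem left_finite_projective (M N : Cx A) [ExactPairing M N] (p : ℤ) :
    Module.Finite A (M.X p) ∧ Module.Projective A (M.X p) := by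
  apply finite_projective_of_id_mem_range_dualTensorHom
  rw [← Ψ_e0 M N p]
  exact (Ψ_all M N _).1 p

theorem left_bounded (M N : Cx A) [ExactPairing M N] : ∃ a b : ℤ, ∀ i : ℤ, i < a ∨ b < i → IsZero (M.X i) := by
  obtain ⟨S, hS⟩ := (Ψ_all M N ((e0 M N).hom (1 : A))).2
  obtain ⟨c, hc⟩ : ∃ c : ℤ, ∀ j ∈ S, -c ≤ j ∧ j ≤ c := by
    refine ⟨((S.sup (fun j => j.natAbs) : ℕ) : ℤ), fun j hj => ?_⟩
    have h1 : j.natAbs ≤ S.sup (fun j => j.natAbs) := Finset.le_sup (f := fun j => j.natAbs) hj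
    omega
  refine ⟨-c, c, fun i hi => ?_⟩
  have hi' : -i ∉ S := fun h => by
    have := hc _ h
    omega
  have h0 := hS i hi'
  rw [Ψ_e0] at h0
  haveI : Subsingleton (M.X i) := ⟨fun x y => by
    have hx := LinearMap.congr_fun h0 x
    have hy := LinearMap.congr_fun h0 y
    simp only [LinearMap.id_apply, LinearMap.zero_apply] at hx hy
    rw [hx, hy]⟩
  exact ModuleCat.isZero_of_subsingleton _

section PartN

variable (M N : Cx A) [ExactPairing M N]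

/-- The composite `N^q ⊗ (M ⊗ N)^0 → N^q` through the inverse associator, the evaluation and the
left unitor. -/
noncomputable def Φ' (q : ℤ) : (N.X q ⊗ (M ⊗ N).X 0 : ModuleCat.{u} A) ⟶ N.X q :=
  ιTensorObj N (M ⊗ N) q 0 q (add_zero q) ≫ (α_ N M N).inv.f q ≫ (ε_ M N ▷ N).f q ≫
    (λ_ N).hom.f q

lemma key' (q : ℤ) : (ρ_ (N.X q)).inv ≫ (N.X q ◁ e0 M N) ≫ Φ' M N q = 𝟙 (N.X q) := by
  have h := ExactPairing.coevaluation_evaluation M N
  have h' : (ρ_ N).inv ≫ (N ◁ η_ M N ≫ (α_ N M N).inv ≫ ε_ M N ▷ N) ≫ (λ_ N).hom = 𝟙 N := by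
    rw [h]; simp
  have h'' := congrArg (fun f => f.f q) h'
  simp only [HomologicalComplex.comp_f, HomologicalComplex.id_f, Category.assoc] at h''
  rw [rightUnitor_inv_f, Category.assoc, Category.assoc] at h''
  have hw : ιTensorObj N (𝟙_ (Cx A)) q 0 q (add_zero q) ≫ (N ◁ η_ M N).f q =
      (N.X q ◁ (η_ M N).f 0) ≫ ιTensorObj N (M ⊗ N) q 0 q (add_zero q) :=
    ι_tmap N (η_ M N) q 0 q (add_zero q)
  rw [reassoc_of% hw] at h''
  rw [Φ', e0, MonoidalCategory.whiskerLeft_comp, Category.assoc]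
  exact h''

lemma Φ'_ι (q a b : ℤ) (hab : a + b = 0) :
    (N.X q ◁ ιTensorObj M N a b 0 hab) ≫ Φ' M N q =
      (α_ (N.X q) (M.X a) (N.X b)).inv ≫
        ((ιTensorObj N M q a (q + a) rfl ≫ (ε_ M N).f (q + a)) ▷ N.X b) ≫
        ιTensorObj (𝟙_ (Cx A)) N (q + a) b q (by omega) ≫ (λ_ N).hom.f q := by
  have h1 := assoc_inv_ι N M N q a b (q + a) 0 q rfl hab (add_zero q)
  have h2 : ιTensorObj (N ⊗ M) N (q + a) b q (by omega) ≫ (ε_ M N ▷ N).f q =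
      ((ε_ M N).f (q + a) ▷ N.X b) ≫ ιTensorObj (𝟙_ (Cx A)) N (q + a) b q (by omega) :=
    ι_whr_f N (ε_ M N) (q + a) b q (by omega)
  rw [Φ', reassoc_of% h1, reassoc_of% h2, comp_whiskerRight, Category.assoc]

/-- The bilinear map `t, y ↦ Φ'_q (y ⊗ t)`. -/
noncomputable def Ψ' (q : ℤ) : (M ⊗ N).X 0 →ₗ[A] N.X q →ₗ[A] N.X q :=
  (TensorProduct.curry (Φ' M N q).hom).flip

lemma Ψ'_apply (q : ℤ) (t : (M ⊗ N).X 0) (y : N.X q) :
    Ψ' M N q t y = (Φ' M N q).hom (y ⊗ₜ t) := rfl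

lemma Ψ'_e0 (q : ℤ) : Ψ' M N q ((e0 M N).hom (1 : A)) = LinearMap.id := by
  ext y
  have h := congrArg (fun f => f.hom y) (key' M N q)
  simp only [ModuleCat.hom_comp, LinearMap.comp_apply, ModuleCat.hom_id, LinearMap.id_apply] at h
  rw [Ψ'_apply, LinearMap.id_apply]
  have h1 : (ρ_ (N.X q)).inv.hom y = y ⊗ₜ[A] (1 : A) :=
    ModuleCat.MonoidalCategory.rightUnitor_inv_apply y
  rw [h1] at h
  exact h

lemma Ψ'_ι_apply (q a b : ℤ) (hab : a + b = 0) (m : M.X a) (n : N.X b) (y : N.X q) :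
    Ψ' M N q ((ιTensorObj M N a b 0 hab).hom (m ⊗ₜ n)) y =
      (ιTensorObj (𝟙_ (Cx A)) N (q + a) b q (by omega) ≫ (λ_ N).hom.f q).hom
        ((ιTensorObj N M q a (q + a) rfl ≫ (ε_ M N).f (q + a)).hom (y ⊗ₜ m) ⊗ₜ n) := by
  have h := congrArg (fun f => f.hom (y ⊗ₜ (m ⊗ₜ n))) (Φ'_ι M N q a b hab)
  simp only [ModuleCat.hom_comp, LinearMap.comp_apply] at h
  rw [Ψ'_apply]
  exact h

lemma Ψ'_ι_mem (q a b : ℤ) (hab : a + b = 0) (m : M.X a) (n : N.X b) :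
    Ψ' M N q ((ιTensorObj M N a b 0 hab).hom (m ⊗ₜ n)) ∈
      LinearMap.range (dualTensorHom A (N.X q) (N.X q)) := by
  obtain ⟨w₀, φ, hφ⟩ := unit_cyclic (A := A) (q + a)
  refine ⟨(φ ∘ₗ (ιTensorObj N M q a (q + a) rfl ≫ (ε_ M N).f (q + a)).hom ∘ₗ
      (TensorProduct.mk A _ _).flip m) ⊗ₜ
    (ιTensorObj (𝟙_ (Cx A)) N (q + a) b q (by omega) ≫ (λ_ N).hom.f q).hom (w₀ ⊗ₜ n), ?_⟩
  ext y
  rw [dualTensorHom_apply, Ψ'_ι_apply]
  conv_rhs => rw [hφ ((ιTensorObj N M q a (q + a) rfl ≫ (ε_ M N).f (q + a)).hom (y ⊗ₜ m))]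
  rw [← TensorProduct.smul_tmul', map_smul]
  rfl

lemma Ψ'_ι_eq_zero (q a b : ℤ) (hab : a + b = 0) (hqa : q + a ≠ 0) (m : M.X a) (n : N.X b) :
    Ψ' M N q ((ιTensorObj M N a b 0 hab).hom (m ⊗ₜ n)) = 0 := by
  ext y
  rw [Ψ'_ι_apply]
  have hz : IsZero ((𝟙_ (Cx A)).X (q + a)) :=
    isZero_single_obj_X (ComplexShape.up ℤ) 0 (𝟙_ (ModuleCat.{u} A)) (q + a) hqa
  haveI : Subsingleton ((𝟙_ (Cx A)).X (q + a)) := ModuleCat.subsingleton_of_isZero hz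
  rw [Subsingleton.elim ((ιTensorObj N M q a (q + a) rfl ≫ (ε_ M N).f (q + a)).hom (y ⊗ₜ m)) 0,
    TensorProduct.zero_tmul, map_zero]
  rfl

lemma Ψ'_all (t : (M ⊗ N).X 0) :
    (∀ q, Ψ' M N q t ∈ LinearMap.range (dualTensorHom A (N.X q) (N.X q))) ∧
      ∃ S : Finset ℤ, ∀ q, q ∉ S → Ψ' M N q t = 0 := by
  refine T_induction M N 0
    (fun t => (∀ q, Ψ' M N q t ∈ LinearMap.range (dualTensorHom A (N.X q) (N.X q))) ∧
      ∃ S : Finset ℤ, ∀ q, q ∉ S → Ψ' M N q t = 0) ?_ ?_ ?_ t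
  · exact ⟨fun q => by rw [map_zero]; exact Submodule.zero_mem _, ∅, fun q _ => map_zero _⟩
  · rintro x y ⟨hx, Sx, hSx⟩ ⟨hy, Sy, hSy⟩
    classical
    refine ⟨fun q => by rw [map_add]; exact Submodule.add_mem _ (hx q) (hy q), Sx ∪ Sy,
      fun q hq => ?_⟩
    rw [Finset.mem_union, not_or] at hq
    rw [map_add, hSx q hq.1, hSy q hq.2, add_zero]
  · intro j l m
    refine ⟨fun q => Ψ'_ι_mem M N q (0 - j) j (by omega) l m, {j}, fun q hq => ?_⟩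
    rw [Finset.mem_singleton] at hq
    exact Ψ'_ι_eq_zero M N q (0 - j) j (by omega) (by omega) l m

end PartN

theorem right_finite_projective (M N : Cx A) [ExactPairing M N] (q : ℤ) :
    Module.Finite A (N.X q) ∧ Module.Projective A (N.X q) := by
  apply finite_projective_of_id_mem_range_dualTensorHom
  rw [← Ψ'_e0 M N q]
  exact (Ψ'_all M N _).1 q

theorem right_bounded (M N : Cx A) [ExactPairing M N] :
    ∃ a b : ℤ, ∀ i : ℤ, i < a ∨ b < i → IsZero (N.X i) := by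
  obtain ⟨S, hS⟩ := (Ψ'_all M N ((e0 M N).hom (1 : A))).2
  obtain ⟨c, hc⟩ : ∃ c : ℤ, ∀ j ∈ S, -c ≤ j ∧ j ≤ c := by
    refine ⟨((S.sup (fun j => j.natAbs) : ℕ) : ℤ), fun j hj => ?_⟩
    have h1 : j.natAbs ≤ S.sup (fun j => j.natAbs) := Finset.le_sup (f := fun j => j.natAbs) hj
    omega
  refine ⟨-c, c, fun i hi => ?_⟩
  have hi' : i ∉ S := fun h => by
    have := hc _ h
    omega
  have h0 := hS i hi'
  rw [Ψ'_e0] at h0
  haveI : Subsingleton (N.X i) := ⟨fun x y => by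
    have hx := LinearMap.congr_fun h0 x
    have hy := LinearMap.congr_fun h0 y
    simp only [LinearMap.id_apply, LinearMap.zero_apply] at hx hy
    rw [hx, hy]⟩
  exact ModuleCat.isZero_of_subsingleton _

end Groth.Agent.R2.H15.ExactPair
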