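import Mathlib
import Groth.Agent.R2.H75KoszLimB

/-!
# The extended alternating Cech complex is a shift of the iterated cone of localisations

`DerCA.extCech M fs` (iterated mapping cocones of localisation maps) is isomorphic to the shift
by `-r` of helper75's `locCone M fs` (iterated mapping cones of the same maps).  Together with
helper75's `koszulHLimEquiv` this gives an `A`-linear isomorphism
`extCechH fs M p ≃ₗ colim_n H^p(f^n, M)` over any commutative ring.
-/

set_option autoImplicit false
universe u

namespace Groth.Agent.R2.H15.ExtCechShift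

open CategoryTheory CategoryTheory.Limits CochainComplex DerCA
open Groth.Agent.R2.H75.KoszLimB

variable {R : Type u} [CommRing R]

/-- mapping cones of isomorphic arrows. -/
noncomputable def coneIso {K₁ L₁ K₂ L₂ : CochainComplex (ModuleCat.{u} R) ℤ} (φ₁ : K₁ ⟶ L₁)
    (φ₂ : K₂ ⟶ L₂) (a : K₁ ≅ K₂) (b : L₁ ≅ L₂) (comm : φ₁ ≫ b.hom = a.hom ≫ φ₂) :
    mappingCone φ₁ ≅ mappingCone φ₂ where
  hom := mappingCone.map φ₁ φ₂ a.hom b.hom comm
  inv := mappingCone.map φ₂ φ₁ a.inv b.inv (by
    rw [← cancel_epi a.hom, ← reassoc_of% comm, Iso.hom_inv_id, Iso.hom_inv_id_assoc,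
      Category.comp_id])
  hom_inv_id := by
    rw [← mappingCone.map_comp]
    simp [mappingCone.map_id]
  inv_hom_id := by
    rw [← mappingCone.map_comp]
    simp [mappingCone.map_id]

lemma locCxUnit_naturality (S : Submonoid R) {K L : CochainComplex (ModuleCat.{u} R) ℤ}
    (g : K ⟶ L) : locCxUnit S K ≫ (locCx S).map g = g ≫ locCxUnit S L := by
  apply HomologicalComplex.hom_ext
  intro i
  exact ((locUnit S).naturality (g.f i)).symm

/-- localisation commutes with shifts, compatibly with the localisation maps. -/
lemma locCxUnit_shift (S : Submonoid R) (K : CochainComplex (ModuleCat.{u} R) ℤ) (n : ℤ) :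
    locCxUnit S (K⟦n⟧) ≫ ((locFunctor S).mapCochainComplexShiftIso n).hom.app K =
      (locCxUnit S K)⟦n⟧' := by
  apply HomologicalComplex.hom_ext
  intro i
  dsimp [locCxUnit]
  exact Category.comp_id _

/-- the comparison isomorphism. -/
noncomputable def ecIso (M : ModuleCat.{u} R) :
    ∀ fs : List R, extCech M fs ≅ (locCone M fs)⟦-(fs.length : ℤ)⟧
  | [] => ((CategoryTheory.shiftFunctorZero' (CochainComplex (ModuleCat.{u} R) ℤ)
      (-(([] : List R).length : ℤ)) (by simp)).app _).symm
  | f :: fs =>
    (CategoryTheory.shiftFunctor (CochainComplex (ModuleCat.{u} R) ℤ) (-1 : ℤ)).mapIso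
      (coneIso (locCxUnit (Submonoid.powers f) (extCech M fs))
        ((locCxUnit (Submonoid.powers f) (locCone M fs))⟦-(fs.length : ℤ)⟧')
        (ecIso M fs)
        ((locCx (Submonoid.powers f)).mapIso (ecIso M fs) ≪≫
          ((locFunctor (Submonoid.powers f)).mapCochainComplexShiftIso
            (-(fs.length : ℤ))).app (locCone M fs))
        (by
          dsimp
          rw [← Category.assoc, locCxUnit_naturality, Category.assoc, locCxUnit_shift]) ≪≫
        (mappingCone.shiftIso (locCxUnit (Submonoid.powers f) (locCone M fs))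
          (-(fs.length : ℤ))).symm) ≪≫
    ((CategoryTheory.shiftFunctorAdd' (CochainComplex (ModuleCat.{u} R) ℤ) (-(fs.length : ℤ)) (-1)
      (-((f :: fs).length : ℤ)) (by simp; ring)).app _).symm

/-- the comparison on cohomology. -/
noncomputable def ecHomologyIso (M : ModuleCat.{u} R) (fs : List R) (q : ℤ) :
    extCechH fs M q ≅ (locCone M fs).homology (q - fs.length) :=
  (HomologicalComplex.homologyFunctor _ _ q).mapIso (ecIso M fs) ≪≫
    (CochainComplex.ShiftSequence.shiftIso (ModuleCat.{u} R) (-(fs.length : ℤ)) q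
      (q - fs.length) (by ring)).app (locCone M fs)

/-- **Extended Cech cohomology is the direct limit of the Koszul cohomology of the powers**,
`A`-linearly, over any commutative ring. -/
noncomputable def extCechHEquivKoszulHLim (M : ModuleCat.{u} R) (fs : List R) (p : ℕ) :
    extCechH fs M (p : ℤ) ≃ₗ[R] CohIII.koszulHLim fs M p :=
  (ecHomologyIso M fs (p : ℤ)).toLinearEquiv.trans (koszulHLimEquiv M fs p).symm

end Groth.Agent.R2.H15.ExtCechShift
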