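import Groth.Agent.Lib.Helper9ExtNat

/-!
# Ext comparison maps along equivalences and up to automorphisms (helper15, round 2)

* `cmp_bijective_of_isEquivalence`: for an exact equivalence `R` and an isomorphism `w : B ≅ R A`,
  the comparison `cmp R w.hom F n` is bijective.
* `precomp_mk₀_bijective`, `postcomp_mk₀_bijective`: composition with the class of an isomorphism
  is a bijection on `Ext`.
-/

set_option autoImplicit false

universe w w' v v' u u'

open CategoryTheory CategoryTheory.Limits Abelian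
open Groth.Agent.Lib.Helper16.ExtCompare

namespace Groth.Agent.R2.H15.ExtEquiv

section

variable {𝒞 : Type u} [Category.{v} 𝒞] [Abelian 𝒞] [HasExt.{w} 𝒞]

lemma precomp_mk₀_bijective {A A' : 𝒞} (α : A' ⟶ A) [IsIso α] (F : 𝒞) (n : ℕ) :
    Function.Bijective (fun x : Ext.{w} A F n => (Ext.mk₀ α).comp x (zero_add n)) := by
  refine Function.bijective_iff_has_inverse.2
    ⟨fun y => (Ext.mk₀ (inv α)).comp y (zero_add n), fun x => ?_, fun y => ?_⟩
  · change (Ext.mk₀ (inv α)).comp ((Ext.mk₀ α).comp x (zero_add n)) (zero_add n) = x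
    rw [Ext.mk₀_comp_mk₀_assoc, IsIso.inv_hom_id, Ext.mk₀_id_comp]
  · change (Ext.mk₀ α).comp ((Ext.mk₀ (inv α)).comp y (zero_add n)) (zero_add n) = y
    rw [Ext.mk₀_comp_mk₀_assoc, IsIso.hom_inv_id, Ext.mk₀_id_comp]

lemma postcomp_mk₀_bijective (A : 𝒞) {F F' : 𝒞} (β : F ⟶ F') [IsIso β] (n : ℕ) :
    Function.Bijective (fun x : Ext.{w} A F n => x.comp (Ext.mk₀ β) (add_zero n)) := by
  refine Function.bijective_iff_has_inverse.2
    ⟨fun y => y.comp (Ext.mk₀ (inv β)) (add_zero n), fun x => ?_, fun y => ?_⟩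
  · change (x.comp (Ext.mk₀ β) (add_zero n)).comp (Ext.mk₀ (inv β)) (add_zero n) = x
    rw [Ext.comp_assoc_of_third_deg_zero, Ext.mk₀_comp_mk₀, IsIso.hom_inv_id, Ext.comp_mk₀_id]
  · change (y.comp (Ext.mk₀ (inv β)) (add_zero n)).comp (Ext.mk₀ β) (add_zero n) = y
    rw [Ext.comp_assoc_of_third_deg_zero, Ext.mk₀_comp_mk₀, IsIso.inv_hom_id, Ext.comp_mk₀_id]

end

section

variable {𝒞 : Type u} [Category.{v} 𝒞] [Abelian 𝒞] [EnoughInjectives 𝒞] [HasExt.{w} 𝒞]
variable {𝒟 : Type u'} [Category.{v'} 𝒟] [Abelian 𝒟] [HasExt.{w'} 𝒟]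
variable (R : 𝒞 ⥤ 𝒟) [R.Additive] [PreservesFiniteLimits R] [PreservesFiniteColimits R]

lemma cmp_comp_left {A : 𝒞} {B B' : 𝒟} (α : B' ⟶ B) (w : B ⟶ R.obj A) (F : 𝒞) (n : ℕ)
    (x : Ext.{w} A F n) :
    cmp R (α ≫ w) F n x = (Ext.mk₀ α).comp (cmp R w F n x) (zero_add n) := by
  rw [cmp_apply, cmp_apply, Ext.mk₀_comp_mk₀_assoc]

/-- The comparison map along an exact equivalence is bijective. -/
theorem cmp_bijective_of_isEquivalence [R.IsEquivalence] {A : 𝒞} {B : 𝒟} (w : B ⟶ R.obj A)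
    [IsIso w] (F : 𝒞) (n : ℕ) : Function.Bijective (cmp R w F n) := by
  refine cmp_bijective R w (fun F => ?_) (fun I _ n => ?_) n F
  · have h1 : Function.Bijective (fun φ : A ⟶ F => R.map φ) :=
      ⟨fun a b h => R.map_injective h, fun b => ⟨R.preimage b, R.map_preimage b⟩⟩
    have h2 : Function.Bijective (fun ψ : R.obj A ⟶ R.obj F => w ≫ ψ) :=
      ⟨fun a b h => (cancel_epi w).1 h, fun b => ⟨inv w ≫ b, by simp⟩⟩
    exact h2.comp h1
  · haveI : Injective (R.obj I) := by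
      haveI : (R.asEquivalence.inverse).PreservesMonomorphisms := inferInstance
      exact (R.asEquivalence.symm.toAdjunction).map_injective I inferInstance
    exact Ext.subsingleton_of_injective _ _ n

end

end Groth.Agent.R2.H15.ExtEquiv
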