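import Mathlib

open exteriorPower Set.powersetCard

namespace Groth.Agent.R2.H15.ExtPowQuot

universe u
variable {A : Type u} [CommRing A] (K : Ideal A) (s i : ℕ)

/-- standard vectors of `(A/K)^s` -/
noncomputable def e (j : Fin s) : Fin s → A ⧸ K := Pi.single j 1

/-- the "minor" functional: `m ↦ det (m a (τ b))`, as an `A`-alternating map. -/
noncomputable def D (τ : Fin i → Fin s) : (Fin s → A ⧸ K) [⋀^Fin i]→ₗ[A] (A ⧸ K) :=
  let D₀ := (Matrix.detRowAlternating (R := A ⧸ K) (n := Fin i)).compLinearMap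
      (LinearMap.funLeft (A ⧸ K) (A ⧸ K) τ)
  { D₀.toMultilinearMap.restrictScalars A with
    map_eq_zero_of_eq' := fun v _ _ h hab => D₀.map_eq_zero_of_eq v h hab }

theorem D_apply (τ : Fin i → Fin s) (v : Fin i → Fin s → A ⧸ K) :
    D K s i τ v = Matrix.det (Matrix.of fun a b => v a (τ b)) := rfl

noncomputable def F : ⋀[A]^i (Fin s → A ⧸ K) →ₗ[A] (Set.powersetCard (Fin s) i → A ⧸ K) :=
  LinearMap.pi fun τ => alternatingMapLinearEquiv (D K s i (ofFinEmbEquiv.symm τ))

theorem F_basis (σ τ : Set.powersetCard (Fin s) i) :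
    F K s i (ιMulti_family A i (e K s) σ) τ = if σ = τ then 1 else 0 := by
  unfold F ιMulti_family
  simp only [LinearMap.pi_apply]
  rw [alternatingMapLinearEquiv_apply_ιMulti, D_apply]
  split_ifs with h
  · subst h
    have : (Matrix.of fun a b => (e K s ∘ ⇑(ofFinEmbEquiv.symm σ)) a ((ofFinEmbEquiv.symm σ) b))
        = 1 := by
      ext a b
      simp [e, Matrix.one_apply, Pi.single_apply, eq_comm]
    rw [this, Matrix.det_one]
  · obtain ⟨j, hjσ, hjτ⟩ := (exists_mem_notMem_iff_ne σ τ).mp h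
    obtain ⟨k, rfl⟩ := (mem_range_ofFinEmbEquiv_symm_iff_mem σ j).mpr hjσ
    apply Matrix.det_eq_zero_of_row_eq_zero k
    intro b
    simp only [Matrix.of_apply, Function.comp_apply, e, Pi.single_apply]
    rw [if_neg]
    intro hb
    apply hjτ
    rw [← hb]
    exact (mem_range_ofFinEmbEquiv_symm_iff_mem τ _).mp ⟨b, rfl⟩

theorem F_sum (c : Set.powersetCard (Fin s) i → A) (τ : Set.powersetCard (Fin s) i) :
    F K s i (∑ σ, c σ • ιMulti_family A i (e K s) σ) τ = Ideal.Quotient.mk K (c τ) := by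
  rw [map_sum, Finset.sum_apply]
  simp only [map_smul, Pi.smul_apply, F_basis]
  rw [Finset.sum_eq_single τ]
  · simp [Algebra.smul_def]
  · intro σ _ h
    rw [if_neg h, smul_zero]
  · intro h
    exact absurd (Finset.mem_univ τ) h

theorem smul_basis_eq_zero (hi : 1 ≤ i) (a : A) (ha : a ∈ K) (σ : Set.powersetCard (Fin s) i) :
    a • ιMulti_family A i (e K s) σ = 0 := by
  unfold ιMulti_family
  obtain ⟨i, rfl⟩ : ∃ j, i = j + 1 := ⟨i - 1, by omega⟩
  set v := e K s ∘ (ofFinEmbEquiv.symm σ) with hv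
  have h1 : a • ιMulti A (i + 1) v = ιMulti A (i + 1) (Function.update v 0 (a • v 0)) := by
    rw [AlternatingMap.map_update_smul, Function.update_eq_self]
  rw [h1]
  apply AlternatingMap.map_coord_zero _ 0
  rw [Function.update_self]
  ext j
  simp only [Pi.smul_apply, Pi.zero_apply, Algebra.smul_def]
  rw [show algebraMap A (A ⧸ K) a = 0 from Ideal.Quotient.eq_zero_iff_mem.mpr ha, zero_mul]

theorem span_basis : Submodule.span A (Set.range (ιMulti_family A i (e K s))) = ⊤ := by
  apply ιMulti_family_span_of_span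
  rw [eq_top_iff]
  intro x _
  have hx : x = ∑ j, (x j) • e K s j := by
    ext k
    simp [e, Pi.single_apply]
  rw [hx]
  refine Submodule.sum_mem _ fun j _ => ?_
  obtain ⟨a, ha⟩ := Ideal.Quotient.mk_surjective (x j)
  have : x j • e K s j = a • e K s j := by
    rw [← ha]
    ext k
    simp [Algebra.smul_def]
  rw [this]
  exact Submodule.smul_mem _ _ (Submodule.subset_span ⟨j, rfl⟩)

theorem F_injective (hi : 1 ≤ i) : Function.Injective (F K s i) := by
  rw [injective_iff_map_eq_zero]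
  intro x hx
  have hmem : x ∈ Submodule.span A (Set.range (ιMulti_family A i (e K s))) := by
    rw [span_basis]; trivial
  obtain ⟨c, rfl⟩ := (Submodule.mem_span_range_iff_exists_fun A).mp hmem
  refine Finset.sum_eq_zero fun σ _ => ?_
  apply smul_basis_eq_zero K s i hi
  have := congrFun hx σ
  rw [F_sum] at this
  exact Ideal.Quotient.eq_zero_iff_mem.mp this

theorem F_surjective : Function.Surjective (F K s i) := by
  intro y
  choose c hc using fun σ => Ideal.Quotient.mk_surjective (y σ)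
  refine ⟨∑ σ, c σ • ιMulti_family A i (e K s) σ, ?_⟩
  ext τ
  rw [F_sum, hc]

/-- `⋀^i_A ((A/K)^s) ≃ (A/K)^{C(s,i)}` for `i ≥ 1`. -/
noncomputable def extPowEquiv (hi : 1 ≤ i) :
    ⋀[A]^i (Fin s → A ⧸ K) ≃ₗ[A] (Fin (s.choose i) → A ⧸ K) :=
  (LinearEquiv.ofBijective (F K s i) ⟨F_injective K s i hi, F_surjective K s i⟩).trans
    (LinearEquiv.funCongrLeft A (A ⧸ K) (Fintype.equivFinOfCardEq (by
      rw [← Nat.card_eq_fintype_card, Set.powersetCard.card, Nat.card_eq_fintype_card,
        Fintype.card_fin])).symm)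

end Groth.Agent.R2.H15.ExtPowQuot
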