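import Groth.Agent.R2.H15ExtEquiv
import Groth.Agent.R2.H15EtPushIso
import Groth.Agent.S0101
import Groth.Agent.S8525
import Groth.Prelude.Def_EtAcyc

/-!
# Functoriality of `EtCore.Hpull` up to automorphisms of the constant sheaf (helper15, round 2)

* `Hpull_comp_aux`: `Hpull (f ≫ g)` agrees with `Hpull f ∘ Hpull g` up to the bijections given by
  the composition isomorphism `pullComp f g` and an automorphism `alpha f g` of the constant sheaf `ℤ`.
* `Hpull_comp_bijective_iff`, `Hpull_comp_injective_iff`.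
* `Hpull_bijective_of_isIso`: pullback along an isomorphism of schemes is bijective on cohomology.
* `isLTorsion_pull`: inverse images of `L`-torsion sheaves are `L`-torsion.
-/

set_option autoImplicit false

universe u

open CategoryTheory CategoryTheory.Limits AlgebraicGeometry Opposite Abelian
open Groth.Agent.Lib.Helper9.ExtNat Groth.Agent.Lib.Helper16.ExtCompare
open Groth.Agent.R2.H15.ExtEquiv

namespace Groth.Agent.R2.H15.HpullFun

/-- short name for the sheafification instance (keeps elaborated terms small). -/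
theorem hasSheafifyAb (X : Scheme.{u}) : HasSheafify X.smallEtaleTopology AddCommGrpCat.{u + 1} :=
  inferInstance

attribute [local instance 10000] hasSheafifyAb

/-- short name for the `HasExt` instance (keeps elaborated terms small). -/
theorem hasExtAb (X : Scheme.{u}) : HasExt.{u + 1} (EtCoh.Ab X) := inferInstance

attribute [local instance 10000] hasExtAb

/-- inverse image of abelian étale sheaves is exact (S0101). -/
theorem pull_pfl {X Y : Scheme.{u}} (f : X ⟶ Y) : PreservesFiniteLimits (EtCoh.pull f) :=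
  Groth.Agent.S0101.result f

attribute [local instance] pull_pfl

lemma Hpull_eq_cmp {X Y : Scheme.{u}} (f : X ⟶ Y) [PreservesFiniteLimits (EtCoh.pull f)]
    (G : EtCoh.Ab Y) (n : ℕ) (x : EtCoh.H Y G n) :
    EtCore.Hpull f G n x = cmp (EtCoh.pull f) (EtCore.pullConst f ℤ).inv G n x := rfl

section Comp

variable {X Y Z : Scheme.{u}} (f : X ⟶ Y) (g : Y ⟶ Z)

/-- The automorphism of the constant sheaf `ℤ` on `X` comparing the two identifications of
`(f ≫ g)⁻¹ ℤ` with `ℤ`.  (It is the identity, but this is not needed.) -/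
noncomputable def alpha : EtCoh.const X ℤ ⟶ EtCoh.const X ℤ :=
  (EtCore.pullConst (f ≫ g) ℤ).inv ≫ (EtCore.pullComp f g).hom.app (EtCoh.const Z ℤ) ≫
    (EtCoh.pull f).map (EtCore.pullConst g ℤ).hom ≫ (EtCore.pullConst f ℤ).hom

instance : IsIso (alpha f g) := by
  unfold alpha
  infer_instance

lemma alpha_comp :
    alpha f g ≫ (EtCore.pullConst f ℤ).inv ≫ (EtCoh.pull f).map (EtCore.pullConst g ℤ).inv =
      (EtCore.pullConst (f ≫ g) ℤ).inv ≫ (EtCore.pullComp f g).hom.app (EtCoh.const Z ℤ) := by
  unfold alpha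
  simp only [Category.assoc, Iso.hom_inv_id_assoc]
  rw [← CategoryTheory.Functor.map_comp, Iso.hom_inv_id, CategoryTheory.Functor.map_id]
  erw [Category.comp_id]

theorem Hpull_comp_aux [PreservesFiniteLimits (EtCoh.pull f)] [PreservesFiniteLimits (EtCoh.pull g)]
    [PreservesFiniteLimits (EtCoh.pull (f ≫ g))] (G : EtCoh.Ab Z) (n : ℕ) (x : EtCoh.H Z G n) :
    (EtCore.Hpull (f ≫ g) G n x).comp (Ext.mk₀ ((EtCore.pullComp f g).hom.app G)) (add_zero n) =
      (Ext.mk₀ (alpha f g)).comp
        (EtCore.Hpull f ((EtCoh.pull g).obj G) n (EtCore.Hpull g G n x)) (zero_add n) := by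
  rw [Hpull_eq_cmp, Hpull_eq_cmp, Hpull_eq_cmp]
  have h1 := cmp_natTrans (R := EtCoh.pull (f ≫ g)) (R₂ := EtCoh.pull g ⋙ EtCoh.pull f)
    (EtCore.pullComp f g).hom (EtCore.pullConst (f ≫ g) ℤ).inv G n x
  have h2 := cmp_cmp (EtCoh.pull g) (EtCoh.pull f) (EtCore.pullConst g ℤ).inv
    (EtCore.pullConst f ℤ).inv G n x
  rw [h1, h2, ← cmp_comp_left, alpha_comp]

end Comp

end Groth.Agent.R2.H15.HpullFun
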