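import Groth.Agent.R2.H15HpullFun

/-!
# Consequences of `Hpull_comp_aux` (helper15, round 2)

* `Hpull_comp_bijective_iff`, `Hpull_comp_injective_iff`.
* `Hpull_bijective_of_isIso`: pullback along an isomorphism of schemes is bijective on cohomology.
* `isLTorsion_pull`: inverse images of `L`-torsion sheaves are `L`-torsion.
-/

set_option autoImplicit false

universe u

open CategoryTheory CategoryTheory.Limits AlgebraicGeometry Opposite Abelian
open Groth.Agent.Lib.Helper9.ExtNat Groth.Agent.Lib.Helper16.ExtCompare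
open Groth.Agent.R2.H15.ExtEquiv

namespace Groth.Agent.R2.H15.HpullFun

attribute [local instance 10000] hasSheafifyAb
attribute [local instance 10000] hasExtAb
attribute [local instance] pull_pfl

section Comp

variable {X Y Z : Scheme.{u}} (f : X ⟶ Y) (g : Y ⟶ Z)

theorem Hpull_comp_bijective_iff [PreservesFiniteLimits (EtCoh.pull f)]
    [PreservesFiniteLimits (EtCoh.pull g)] [PreservesFiniteLimits (EtCoh.pull (f ≫ g))]
    (G : EtCoh.Ab Z) (n : ℕ) :
    Function.Bijective (EtCore.Hpull (f ≫ g) G n) ↔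
      Function.Bijective (fun x => EtCore.Hpull f ((EtCoh.pull g).obj G) n (EtCore.Hpull g G n x)) := by
  have key : (fun y : EtCoh.H X ((EtCoh.pull (f ≫ g)).obj G) n =>
        y.comp (Ext.mk₀ ((EtCore.pullComp f g).hom.app G)) (add_zero n)) ∘
        (EtCore.Hpull (f ≫ g) G n) =
      (fun y : EtCoh.H X ((EtCoh.pull f).obj ((EtCoh.pull g).obj G)) n =>
        (Ext.mk₀ (alpha f g)).comp y (zero_add n)) ∘
        (fun x => EtCore.Hpull f ((EtCoh.pull g).obj G) n (EtCore.Hpull g G n x)) :=
    funext (Hpull_comp_aux f g G n)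
  have hb1 := postcomp_mk₀_bijective (EtCoh.const X ℤ) ((EtCore.pullComp f g).hom.app G) n
  have hb2 := precomp_mk₀_bijective (alpha f g) ((EtCoh.pull f).obj ((EtCoh.pull g).obj G)) n
  constructor
  · intro h
    have h3 := hb1.comp h
    rw [key] at h3
    exact (Function.Bijective.of_comp_iff' hb2 _).1 h3
  · intro h
    have h3 := hb2.comp h
    rw [← key] at h3
    exact (Function.Bijective.of_comp_iff' hb1 _).1 h3

theorem Hpull_comp_injective_iff [PreservesFiniteLimits (EtCoh.pull f)]
    [PreservesFiniteLimits (EtCoh.pull g)] [PreservesFiniteLimits (EtCoh.pull (f ≫ g))]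
    (G : EtCoh.Ab Z) (n : ℕ) :
    Function.Injective (EtCore.Hpull (f ≫ g) G n) ↔
      Function.Injective (fun x => EtCore.Hpull f ((EtCoh.pull g).obj G) n (EtCore.Hpull g G n x)) := by
  have key : (fun y : EtCoh.H X ((EtCoh.pull (f ≫ g)).obj G) n =>
        y.comp (Ext.mk₀ ((EtCore.pullComp f g).hom.app G)) (add_zero n)) ∘
        (EtCore.Hpull (f ≫ g) G n) =
      (fun y : EtCoh.H X ((EtCoh.pull f).obj ((EtCoh.pull g).obj G)) n =>
        (Ext.mk₀ (alpha f g)).comp y (zero_add n)) ∘
        (fun x => EtCore.Hpull f ((EtCoh.pull g).obj G) n (EtCore.Hpull g G n x)) :=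
    funext (Hpull_comp_aux f g G n)
  have hb1 := postcomp_mk₀_bijective (EtCoh.const X ℤ) ((EtCore.pullComp f g).hom.app G) n
  have hb2 := precomp_mk₀_bijective (alpha f g) ((EtCoh.pull f).obj ((EtCoh.pull g).obj G)) n
  constructor
  · intro h
    have h3 := hb1.injective.comp h
    rw [key] at h3
    exact Function.Injective.of_comp h3
  · intro h
    have h3 := hb2.injective.comp h
    rw [← key] at h3
    exact Function.Injective.of_comp h3

end Comp

/-- Pullback along an isomorphism of schemes is bijective on étale cohomology. -/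
theorem Hpull_bijective_of_isIso {X Y : Scheme.{u}} (f : X ⟶ Y) [IsIso f]
    [PreservesFiniteLimits (EtCoh.pull f)] (G : EtCoh.Ab Y) (n : ℕ) :
    Function.Bijective (EtCore.Hpull f G n) := by
  have := cmp_bijective_of_isEquivalence (EtCoh.pull f) (EtCore.pullConst f ℤ).inv G n
  exact this

/-- Inverse images of `L`-torsion sheaves are `L`-torsion. -/
theorem isLTorsion_pull {X Y : Scheme.{u}} (f : X ⟶ Y) (L : Set ℕ) (F : EtCoh.Ab Y)
    (hF : EtAcyc.IsLTorsion L F) : EtAcyc.IsLTorsion L ((EtCoh.pull f).obj F) := by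
  rw [Groth.Agent.S8525.result] at hF ⊢
  intro Ω _ _ ξ t
  let e := (Groth.Agent.S0101.stalkPullIso f ξ).app F
  obtain ⟨m, hm, hmt⟩ := hF Ω (ξ ≫ f) (e.inv t)
  refine ⟨m, hm, ?_⟩
  have h1 : e.hom (m • e.inv t) = m • e.hom (e.inv t) := map_nsmul e.hom.hom m (e.inv t)
  rw [hmt, map_zero] at h1
  have h2 : e.hom (e.inv t) = t := by
    change (e.inv ≫ e.hom) t = t
    rw [Iso.inv_hom_id]
    rfl
  rw [h2] at h1
  exact h1.symm

end Groth.Agent.R2.H15.HpullFun
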