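import Mathlib
import Groth.Prelude.Def_LCI2
import Groth.Agent.Lib.Helper13KzLiftB
import Groth.Agent.Lib.Helper13KzTor
import Groth.Agent.Lib.Helper17DCompare4
import Groth.Agent.Lib.Helper1Extend
import Groth.Agent.S6960

/-!
# Quotients by Koszul-regular ideals are perfect modules (helper31)
-/

set_option autoImplicit false
universe u
open CategoryTheory CategoryTheory.Limits DerivedCategory CochainComplex
attribute [local instance] HasDerivedCategory.standard

namespace Groth.Agent.R2.H31.KoszulPerf

open Groth.Agent.Lib.Helper17.DCompare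

variable (R : Type u) [CommRing R]

lemma koszul_isZero_X_pos : ∀ (l : List R) (n : ℤ), 0 < n → IsZero ((Koszul.koszul R l).X n)
  | [], n, hn =>
      HomologicalComplex.isZero_single_obj_X (ComplexShape.up ℤ) 0 (ModuleCat.of R R) n
        (ne_of_gt hn)
  | f :: l, n, hn =>
      (mappingCone.isZero_X_iff _ _).2
        ⟨koszul_isZero_X_pos l (n + 1) (by omega), koszul_isZero_X_pos l n hn⟩

lemma koszul_isZero_X_neg : ∀ (l : List R) (n : ℤ), n < -(l.length : ℤ) →
    IsZero ((Koszul.koszul R l).X n)
  | [], n, hn =>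
      HomologicalComplex.isZero_single_obj_X (ComplexShape.up ℤ) 0 (ModuleCat.of R R) n
        (by simp at hn; omega)
  | f :: l, n, hn => by
      simp only [List.length_cons, Nat.cast_add, Nat.cast_one] at hn
      exact (mappingCone.isZero_X_iff _ _).2
        ⟨koszul_isZero_X_neg l (n + 1) (by omega), koszul_isZero_X_neg l n (by omega)⟩

lemma koszul_finite_projective : ∀ (l : List R) (n : ℤ),
    Module.Finite R ((Koszul.koszul R l).X n) ∧ Module.Projective R ((Koszul.koszul R l).X n)
  | [], n => by
    by_cases hn : n = 0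
    · subst hn
      let e := (HomologicalComplex.singleObjXSelf (ComplexShape.up ℤ) 0
        (ModuleCat.of R R)).toLinearEquiv
      exact ⟨Module.Finite.equiv e.symm, Module.Projective.of_equiv e.symm⟩
    · have hz : IsZero ((Koszul.koszul R []).X n) :=
        HomologicalComplex.isZero_single_obj_X (ComplexShape.up ℤ) 0 (ModuleCat.of R R) n hn
      have : Subsingleton ((Koszul.koszul R []).X n) := ModuleCat.subsingleton_of_isZero hz
      exact ⟨inferInstance, inferInstance⟩
  | f :: l, n => by
    obtain ⟨h1, h1'⟩ := koszul_finite_projective l (n + 1)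
    obtain ⟨h2, h2'⟩ := koszul_finite_projective l n
    let e : (Koszul.koszul R (f :: l)).X n ≅
        (Koszul.koszul R l).X (n + 1) ⊞ (Koszul.koszul R l).X n :=
      HomologicalComplex.homotopyCofiber.XIsoBiprod (f • 𝟙 (Koszul.koszul R l)) n (n + 1) rfl
    let e2 := e ≪≫ ModuleCat.biprodIsoProd _ _
    exact ⟨Module.Finite.equiv e2.toLinearEquiv.symm,
      Module.Projective.of_equiv e2.toLinearEquiv.symm⟩

theorem isPerfect_koszul (l : List R) : DRing.IsPerfect R (DRing.toD (Koszul.koszul R l)) :=
  ⟨Koszul.koszul R l, -(l.length : ℤ), 0, fun i hi => by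
    rcases hi with hi | hi
    · exact koszul_isZero_X_neg R l i hi
    · exact koszul_isZero_X_pos R l i hi, koszul_finite_projective R l, ⟨Iso.refl _⟩⟩

/-- `H⁰` of the Koszul complex is `R/(l)`. -/
theorem nonempty_homology_zero_iso (l : List R) :
    Nonempty (ModuleCat.of R (R ⧸ Ideal.span {x | x ∈ l}) ≅ (Koszul.koszul R l).homology 0) := by
  rw [Groth.Agent.Helper13KzLift.koszul_eq R l]
  have hs := Groth.Agent.Helper13Kz.aug_surjective (ModuleCat.of R R) l
  have hk := Groth.Agent.Helper13Kz.aug_ker (ModuleCat.of R R) l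
  have hk' : LinearMap.ker (Groth.Agent.Helper13Kz.aug (ModuleCat.of R R) l).hom =
      (Ideal.span {x | x ∈ l} : Submodule R R) := by
    rw [hk]
    show Ideal.ofList l • (⊤ : Ideal R) = Ideal.ofList l
    rw [smul_eq_mul, Ideal.mul_top]
  let e := (Submodule.quotEquivOfEq _ _ hk'.symm).trans
    (LinearMap.quotKerEquivOfSurjective _ hs)
  exact ⟨e.toModuleIso⟩

theorem nonempty_iso_of_regular (l : List R) (h : LCI.IsKoszulRegularSeq R l) :
    Nonempty (DRing.toD (Koszul.koszul R l) ≅ Dual.inD R (R ⧸ Ideal.span {x | x ∈ l})) := by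
  have hGE : (Q.obj (Koszul.koszul R l)).IsGE 0 := by
    rw [isGE_Q_obj_iff, CochainComplex.isGE_iff]
    intro i hi
    rw [HomologicalComplex.exactAt_iff_isZero_homology]
    exact h i (by omega)
  have hLE : (Q.obj (Koszul.koszul R l)).IsLE 0 := by
    rw [isLE_Q_obj_iff, CochainComplex.isLE_iff]
    intro i hi
    rw [HomologicalComplex.exactAt_iff_isZero_homology]
    exact h i (by omega)
  obtain ⟨Y, ⟨e⟩⟩ := exists_iso_singleFunctor_obj_of_isGE_of_isLE (Q.obj (Koszul.koszul R l)) 0
  have e1 : (Koszul.koszul R l).homology 0 ≅ Y :=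
    ((homologyFunctorFactors (ModuleCat.{u} R) 0).app (Koszul.koszul R l)).symm ≪≫
      (homologyFunctor (ModuleCat.{u} R) 0).mapIso e ≪≫
      (singleFunctorCompHomologyFunctorIso (ModuleCat.{u} R) 0).app Y
  obtain ⟨e2⟩ := nonempty_homology_zero_iso R l
  exact ⟨e ≪≫ (DerivedCategory.singleFunctor (ModuleCat.{u} R) 0).mapIso (e1.symm ≪≫ e2.symm)⟩


theorem isPerfectModule_quot_of_regular (l : List R) (h : LCI.IsKoszulRegularSeq R l) :
    DRing.IsPerfectModule R (R ⧸ Ideal.span {x | x ∈ l}) := by
  obtain ⟨e⟩ := nonempty_iso_of_regular R l h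
  exact isPerfect_of_iso e (isPerfect_koszul R l)

lemma isPerfectModule_of_subsingleton (M : Type u) [AddCommGroup M] [Module R M] [Subsingleton M] :
    DRing.IsPerfectModule R M :=
  isPerfect_of_isZero (Functor.map_isZero _ (ModuleCat.isZero_of_subsingleton _))

lemma isPerfectModule_of_linearEquiv {M N : Type u} [AddCommGroup M] [Module R M]
    [AddCommGroup N] [Module R N] (e : M ≃ₗ[R] N) (h : DRing.IsPerfectModule R M) :
    DRing.IsPerfectModule R N :=
  isPerfect_of_iso ((DerivedCategory.singleFunctor (ModuleCat.{u} R) 0).mapIso e.toModuleIso) h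

section Main

open Groth.Agent.Lib.Helper1.Extend

variable {P : Type u} [CommRing P]

/-- local perfection datum at `g` -/
def Good (I : Ideal P) (g : P) : Prop :=
  DRing.IsPerfectModule (Localization.Away g)
    (Localization.Away g ⧸ I.map (algebraMap P (Localization.Away g)))

lemma span_good_eq_top (I : Ideal P) (hI : LCI.IsKoszulRegularIdeal I) :
    Ideal.span {g | Good I g} = ⊤ := by
  by_contra hne
  obtain ⟨m, hm, hle⟩ := Ideal.exists_le_maximal _ hne
  by_cases hIm : I ≤ m
  · obtain ⟨g, hg, l, hl, hIl⟩ := hI ⟨m, hm.isPrime⟩ hIm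
    apply hg
    apply hle
    apply Ideal.subset_span
    show DRing.IsPerfectModule _ _
    rw [hIl]
    exact isPerfectModule_quot_of_regular _ l hl
  · obtain ⟨g, hgI, hgm⟩ := SetLike.not_le_iff_exists.1 hIm
    apply hgm
    apply hle
    apply Ideal.subset_span
    show DRing.IsPerfectModule _ _
    have htop : I.map (algebraMap P (Localization.Away g)) = ⊤ :=
      Ideal.eq_top_of_isUnit_mem _ (Ideal.mem_map_of_mem _ hgI)
        (IsLocalization.Away.algebraMap_isUnit g)
    have : Subsingleton (Localization.Away g ⧸ I.map (algebraMap P (Localization.Away g))) := by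
      rw [htop]
      exact Submodule.Quotient.subsingleton_iff.2 rfl
    exact isPerfectModule_of_subsingleton _ _

theorem isPerfectModule_quot_of_isKoszulRegularIdeal (I : Ideal P)
    (hI : LCI.IsKoszulRegularIdeal I) : DRing.IsPerfectModule P (P ⧸ I) := by
  obtain ⟨s, hs, hspan⟩ := (Ideal.span_eq_top_iff_finite _).1 (span_good_eq_top I hI)
  let f : Fin s.card → P := fun i => (s.equivFin.symm i : P)
  have hf : Ideal.span (Set.range f) = ⊤ := by
    have : Set.range f = (s : Set P) := by
      ext x
      constructor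
      · rintro ⟨i, rfl⟩
        exact (s.equivFin.symm i).2
      · intro hx
        exact ⟨s.equivFin ⟨x, hx⟩, by simp [f]⟩
    rw [this, hspan]
  let K : DRing.Cx P := (CochainComplex.singleFunctor (ModuleCat.{u} P) 0).obj (ModuleCat.of P (P ⧸ I))
  have hK : DRing.IsPerfect P (DRing.toD K) := by
    refine Groth.Agent.S6960.result f hf K (fun i => ?_)
    have hgood : Good I (f i) := hs (s.equivFin.symm i).2
    have h1 : DRing.IsPerfectModule (Localization.Away (f i))
        (TensorProduct P (Localization.Away (f i)) (P ⧸ I)) :=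
      isPerfectModule_of_linearEquiv _
        (Algebra.TensorProduct.quotIdealMapEquivTensorQuot (Localization.Away (f i)) I).toLinearEquiv
        hgood
    exact isPerfect_of_iso ((extDInDIso (A := P) (B := Localization.Away (f i)) (P ⧸ I)).symm ≪≫
      mapQIso (ext P (Localization.Away (f i))) K) h1
  exact hK

end Main

end Groth.Agent.R2.H31.KoszulPerf
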