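import Groth.Agent.Lib.Helper17K0e
import Groth.Agent.Lib.Helper17DCompare4
import Groth.Agent.S6962
import Groth.Agent.R2.H31KoszulPerf
import Groth.Agent.Lib.Helper29FinLen
import Groth.Agent.Lib.Helper13KzTor
import Groth.Agent.Lib.Helper13KzLiftB
import Groth.Agent.Lib.Helper13KzLiftH

/-!
# `K₀` of perfect complexes supported at the closed point of a regular local ring (helper15)

`PS K` (perfect, cohomology supported at the closed point) coincides with `DbP FL` (bounded, finite
length cohomology); `K₀(DbP FL) ≃ K₀(FL)` (helper17) is generated by the class of the residue field,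
which is the class of the Koszul complex.
-/

set_option autoImplicit false
universe u

open CategoryTheory CategoryTheory.Limits DerivedCategory Pretriangulated ZeroObject

attribute [local instance] HasDerivedCategory.standard

namespace Groth.Agent.R2.H15.K0Koszul

open KZero Groth.Agent.Lib.Helper17.K0a Groth.Agent.Lib.Helper17.K0b Groth.Agent.Lib.Helper17.K0c
  Groth.Agent.Lib.Helper17.K0e Groth.Agent.Lib.Helper17.DCompare

variable (R : Type u) [CommRing R]

/-- modules of finite length -/
def FL : ObjectProperty (ModuleCat.{u} R) := fun M => IsFiniteLength R M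

instance : (FL R).IsClosedUnderIsomorphisms where
  of_iso e h := LinearEquiv.isFiniteLength e.toLinearEquiv h

instance : (FL R).ContainsZero where
  exists_zero := ⟨0, isZero_zero _, by
    have : Subsingleton ((0 : ModuleCat.{u} R) : Type u) :=
      ModuleCat.subsingleton_of_isZero (isZero_zero _)
    exact IsFiniteLength.of_subsingleton⟩

instance : (FL R).IsClosedUnderSubobjects where
  prop_of_mono f _ h := IsFiniteLength.of_injective h ((ModuleCat.mono_iff_injective f).1 inferInstance)

section Local

variable [IsLocalRing R]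

theorem eq_closedPoint_of_maximalIdeal_le (p : PrimeSpectrum R)
    (h : IsLocalRing.maximalIdeal R ≤ p.asIdeal) : p = IsLocalRing.closedPoint R := by
  apply PrimeSpectrum.ext
  exact ((IsLocalRing.maximalIdeal.isMaximal R).eq_of_le p.2.ne_top h).symm

theorem support_simple (M : Type u) [AddCommGroup M] [Module R M] [IsSimpleModule R M] :
    Module.support R M ⊆ {IsLocalRing.closedPoint R} := by
  obtain ⟨I, hI, ⟨e⟩⟩ := isSimpleModule_iff_quot_maximal.1 ‹IsSimpleModule R M›
  rw [e.support_eq]
  intro p hp
  have h1 := Module.annihilator_le_of_mem_support hp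
  rw [Ideal.annihilator_quotient] at h1
  rw [IsLocalRing.eq_maximalIdeal hI] at h1
  exact eq_closedPoint_of_maximalIdeal_le R p h1

theorem support_subset_of_isFiniteLength (M : Type u) [AddCommGroup M] [Module R M]
    (h : IsFiniteLength R M) : Module.support R M ⊆ {IsLocalRing.closedPoint R} := by
  induction h with
  | of_subsingleton =>
    rw [Module.support_eq_empty]
    exact Set.empty_subset _
  | @of_simple_quotient M _ _ N _ hN ih =>
    rw [Module.support_of_exact (LinearMap.exact_subtype_mkQ N) N.injective_subtype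
      N.mkQ_surjective]
    exact Set.union_subset ih (support_simple R _)

theorem isFiniteLength_of_support [IsNoetherianRing R] (M : Type u) [AddCommGroup M] [Module R M]
    [Module.Finite R M] (h : Module.support R M ⊆ {IsLocalRing.closedPoint R}) :
    IsFiniteLength R M := by
  apply Groth.Agent.Lib.Helper29.FinLen.isFiniteLength_of_associatedPrimes_isMaximal
  intro P hP
  have hprime : P.IsPrime := hP.isPrime
  have hle : Module.annihilator R M ≤ P := by
    rw [← Submodule.annihilator_top]
    exact hP.annihilator_le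
  have hmem : (⟨P, hprime⟩ : PrimeSpectrum R) ∈ Module.support R M :=
    Module.mem_support_iff_of_finite.2 hle
  have h2 := h hmem
  have h3 : P = IsLocalRing.maximalIdeal R := congrArg PrimeSpectrum.asIdeal h2
  rw [h3]
  exact IsLocalRing.maximalIdeal.isMaximal R

/-- simple modules over a local ring are the residue field -/
theorem nonempty_simple_equiv (M : Type u) [AddCommGroup M] [Module R M] [IsSimpleModule R M] :
    Nonempty (M ≃ₗ[R] R ⧸ IsLocalRing.maximalIdeal R) := by
  obtain ⟨I, hI, ⟨e⟩⟩ := isSimpleModule_iff_quot_maximal.1 ‹IsSimpleModule R M›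
  rw [IsLocalRing.eq_maximalIdeal hI] at e
  exact ⟨e⟩

/-- the short exact sequence `0 → N → M → M/N → 0` -/
noncomputable def sesSub {M : Type u} [AddCommGroup M] [Module R M] (N : Submodule R M) :
    ShortComplex (ModuleCat.{u} R) :=
  ShortComplex.mk (ModuleCat.ofHom N.subtype) (ModuleCat.ofHom (Submodule.mkQ N))
    (ModuleCat.hom_ext (LinearMap.ext fun y =>
      (LinearMap.exact_subtype_mkQ N).apply_apply_eq_zero y))

omit [IsLocalRing R] in
theorem sesSub_shortExact {M : Type u} [AddCommGroup M] [Module R M] (N : Submodule R M) :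
    (sesSub R N).ShortExact :=
  ModuleCat.shortComplex_shortExact _ (LinearMap.exact_subtype_mkQ N)
    (Submodule.injective_subtype _) (Submodule.mkQ_surjective _)

/-- if the residue field is a perfect module, so is every module of finite length. -/
theorem isPerfectModule_of_isFiniteLength
    (hk : DRing.IsPerfectModule R (R ⧸ IsLocalRing.maximalIdeal R))
    (M : Type u) [AddCommGroup M] [Module R M] (h : IsFiniteLength R M) :
    DRing.IsPerfectModule R M := by
  induction h with
  | of_subsingleton => exact Groth.Agent.R2.H31.KoszulPerf.isPerfectModule_of_subsingleton R _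
  | @of_simple_quotient M _ _ N _ hN ih =>
    obtain ⟨e⟩ := nonempty_simple_equiv R (M ⧸ N)
    have h3 : DRing.IsPerfectModule R (M ⧸ N) :=
      Groth.Agent.R2.H31.KoszulPerf.isPerfectModule_of_linearEquiv R e.symm hk
    have hT := (sesSub_shortExact R N).singleTriangle_distinguished
    exact (isPerfect_two_out_of_three _ hT).2.1 ih h3

/-- the property of S14001: perfect with cohomology supported at the closed point -/
def PS : ObjectProperty (Dual.D R) := fun K => DRing.IsPerfect R K ∧
  ∀ i : ℤ, Module.support R (Dual.HD R K i) ⊆ {IsLocalRing.closedPoint R}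

theorem dbP_of_PS [IsNoetherianRing R] (K : Dual.D R) (h : PS R K) : DbP (FL R) K := by
  obtain ⟨⟨a, b, hab⟩, hfin⟩ := Groth.Agent.S6962.finite_homology_of_isPerfect K h.1
  refine ⟨fun i => ?_, a, b, ?_, ?_⟩
  · have := hfin i
    exact isFiniteLength_of_support R _ (h.2 i)
  · change K.IsGE a
    rw [DerivedCategory.isGE_iff]
    intro i hi
    have := hab i (Or.inl hi)
    exact ModuleCat.isZero_of_subsingleton _
  · change K.IsLE b
    rw [DerivedCategory.isLE_iff]
    intro i hi
    have := hab i (Or.inr hi)
    exact ModuleCat.isZero_of_subsingleton _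

theorem isPerfect_single (hk : DRing.IsPerfectModule R (R ⧸ IsLocalRing.maximalIdeal R))
    (M : ModuleCat.{u} R) (hM : FL R M) (c : ℤ) :
    DRing.IsPerfect R ((DerivedCategory.singleFunctor (ModuleCat.{u} R) c).obj M) := by
  have h0 : DRing.IsPerfect R ((DerivedCategory.singleFunctor (ModuleCat.{u} R) 0).obj M) :=
    isPerfectModule_of_isFiniteLength R hk M hM
  exact isPerfect_of_iso
    (((DerivedCategory.singleFunctors (ModuleCat.{u} R)).shiftIso (-c) c 0 (by omega)).app M)
    (isPerfect_shift h0 (-c))

/-- dévissage: bounded objects with finite length cohomology are perfect. -/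
theorem isPerfect_of_dbP_aux (hk : DRing.IsPerfectModule R (R ⧸ IsLocalRing.maximalIdeal R))
    (k : ℕ) : ∀ (K : Dual.D R) (a : ℤ), DbP (FL R) K → K.IsGE a →
    K.IsLE (a + k - 1) → DRing.IsPerfect R K := by
  induction k with
  | zero =>
    intro K a hK hGE hLE
    have hz : IsZero K := (DerivedCategory.TStructure.t).isZero K (a + ((0 : ℕ) : ℤ) - 1) a (by simp)
    exact isPerfect_of_isZero hz
  | succ k ih =>
    intro K a hK hGE hLE
    have hc : a + ((k + 1 : ℕ) : ℤ) - 1 = a + k := by push_cast; ring
    rw [hc] at hLE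
    obtain ⟨c, hcdef⟩ : ∃ c : ℤ, c = a + k := ⟨_, rfl⟩
    rw [← hcdef] at hLE
    have hT := (DerivedCategory.TStructure.t).triangleLTGE_distinguished c K
    have hQGE : (((DerivedCategory.TStructure.t).truncGE c).obj K).IsGE c := inferInstance
    have hQLE : (((DerivedCategory.TStructure.t).truncGE c).obj K).IsLE c := inferInstance
    obtain ⟨eQ⟩ := Groth.Agent.S0973.iso_single_of_amp
      (((DerivedCategory.TStructure.t).truncGE c).obj K) c
    have h3 : DbP (FL R) (((DerivedCategory.TStructure.t).truncGE c).obj K) :=
      dbP_truncGE (FL R) K hK c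
    have h1 : DbP (FL R) (((DerivedCategory.TStructure.t).truncLT c).obj K) :=
      dbP_truncLT (FL R) K hK c
    have p1 : DRing.IsPerfect R (((DerivedCategory.TStructure.t).truncLT c).obj K) := by
      apply ih _ a h1 inferInstance
      have : (((DerivedCategory.TStructure.t).truncLT c).obj K).IsLE (c - 1) := inferInstance
      have e' : a + (k : ℤ) - 1 = c - 1 := by rw [hcdef]
      rw [e']
      exact this
    have p3 : DRing.IsPerfect R (((DerivedCategory.TStructure.t).truncGE c).obj K) :=
      isPerfect_of_iso eQ.symm (isPerfect_single R hk _ (h3.1 c) c)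
    exact (isPerfect_two_out_of_three _ hT).2.1 p1 p3

theorem PS_of_dbP (hk : DRing.IsPerfectModule R (R ⧸ IsLocalRing.maximalIdeal R))
    (K : Dual.D R) (h : DbP (FL R) K) : PS R K := by
  refine ⟨?_, fun i => support_subset_of_isFiniteLength R _ (h.1 i)⟩
  obtain ⟨hh, a, b, ha, hb⟩ := h
  by_cases hab : a ≤ b + 1
  · obtain ⟨k, hk'⟩ : ∃ k : ℕ, (k : ℤ) = b + 1 - a :=
      ⟨(b + 1 - a).toNat, Int.toNat_of_nonneg (by omega)⟩
    have hb' : a + (k : ℤ) - 1 = b := by omega
    exact isPerfect_of_dbP_aux R hk k K a ⟨hh, a, b, ha, hb⟩ ha (by rw [hb']; exact hb)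
  · have : K.IsGE a := ha
    have : K.IsLE b := hb
    have hz : IsZero K := (DerivedCategory.TStructure.t).isZero K b a (by omega)
    exact isPerfect_of_isZero hz

theorem PS_eq_dbP [IsNoetherianRing R]
    (hk : DRing.IsPerfectModule R (R ⧸ IsLocalRing.maximalIdeal R)) :
    PS R = DbP (FL R) := by
  funext K
  exact propext ⟨dbP_of_PS R K, PS_of_dbP R hk K⟩

/-- the residue field as a module -/
abbrev kk : ModuleCat.{u} R := ModuleCat.of R (R ⧸ IsLocalRing.maximalIdeal R)

/-- dévissage: `K₀` of finite length modules is generated by the residue field. -/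
theorem clSub_mem (M : Type u) [AddCommGroup M] [Module R M] (h : IsFiniteLength R M) :
    clSub (FL R) (ModuleCat.of R M) ∈ AddSubgroup.closure {clSub (FL R) (kk R)} := by
  induction h with
  | @of_subsingleton M _ _ _ =>
    rw [clSub_of_isZero (FL R) (X := ModuleCat.of R M) (ModuleCat.isZero_of_subsingleton _)]
    exact zero_mem _
  | @of_simple_quotient M _ _ N _ hN ih =>
    obtain ⟨e⟩ := nonempty_simple_equiv R (M ⧸ N)
    have hM : IsFiniteLength R M := IsFiniteLength.of_simple_quotient hN
    have hQ : IsFiniteLength R (M ⧸ N) := hM.of_surjective N.mkQ_surjective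
    have h := clSub_shortExact (FL R) (sesSub R N) (sesSub_shortExact R N) hN hM hQ
    have h' : clSub (FL R) (ModuleCat.of R M) =
        clSub (FL R) (ModuleCat.of R N) + clSub (FL R) (ModuleCat.of R (M ⧸ N)) := h
    rw [h']
    refine add_mem ih ?_
    rw [clSub_of_iso (FL R) e.toModuleIso hQ]
    exact AddSubgroup.subset_closure rfl

theorem closure_clSub_eq_top :
    AddSubgroup.closure {clSub (FL R) (kk R)} = ⊤ := by
  rw [eq_top_iff]
  rintro x -
  induction x using QuotientAddGroup.induction_on with
  | H z =>
    induction z using FreeAbelianGroup.induction_on with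
    | zero => exact zero_mem _
    | of M =>
      have h1 : ((FreeAbelianGroup.of M : FreeAbelianGroup (Subtype (FL R))) : K0sub (FL R)) =
          clSub (FL R) M.1 := (clSub_of_prop (FL R) M.2).symm
      rw [h1]
      exact clSub_mem R M.1 M.2
    | neg X ih =>
      rw [QuotientAddGroup.mk_neg]
      exact neg_mem ih
    | add x y hx hy =>
      rw [QuotientAddGroup.mk_add]
      exact add_mem hx hy

theorem fl_kk : FL R (kk R) := by
  have : IsSimpleModule R (R ⧸ IsLocalRing.maximalIdeal R) :=
    isSimpleModule_iff_quot_maximal.2 ⟨_, IsLocalRing.maximalIdeal.isMaximal R,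
      ⟨LinearEquiv.refl _ _⟩⟩
  exact (isFiniteLength_iff_isNoetherian_isArtinian.2 ⟨inferInstance, inferInstance⟩)

theorem closure_clTr_eq_top :
    AddSubgroup.closure {clTr (DbP (FL R))
      ((DerivedCategory.singleFunctor (ModuleCat.{u} R) 0).obj (kk R))} = ⊤ := by
  rw [eq_top_iff]
  rintro x -
  obtain ⟨y, rfl⟩ := phi_surjective (FL R) x
  have hy : y ∈ AddSubgroup.closure {clSub (FL R) (kk R)} := by
    rw [closure_clSub_eq_top]; trivial
  have hk : FL R (kk R) := fl_kk R
  have hmap : (AddSubgroup.closure {clSub (FL R) (kk R)}).map (phi (FL R)) =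
      AddSubgroup.closure {clTr (DbP (FL R))
        ((DerivedCategory.singleFunctor (ModuleCat.{u} R) 0).obj (kk R))} := by
    rw [AddMonoidHom.map_closure, Set.image_singleton, phi_clSub (FL R) _ hk]
  rw [← hmap]
  exact AddSubgroup.mem_map_of_mem _ hy

/-- **S14001**, in terms of `PS`. -/
theorem main [IsNoetherianRing R] (fs : List R) (hreg : RingTheory.Sequence.IsRegular R fs)
    (hgen : Ideal.ofList fs = IsLocalRing.maximalIdeal R) :
    AddSubgroup.closure {clTr (PS R) (DRing.toD (Koszul.koszul R fs))} = ⊤ := by
  have hkr : LCI.IsKoszulRegularSeq R fs := by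
    intro i hi
    have h := Groth.Agent.Helper13Kz.isZero_KH_of_weaklyRegular fs (ModuleCat.of R R)
      hreg.toIsWeaklyRegular i hi
    exact (Groth.Agent.Helper13KzLift.isZero_congr
      (Groth.Agent.Helper13KzLift.koszul_eq R fs) i).mpr h
  obtain ⟨e⟩ := Groth.Agent.R2.H31.KoszulPerf.nonempty_iso_of_regular R fs hkr
  have hI : Ideal.span {x | x ∈ fs} = IsLocalRing.maximalIdeal R := hgen
  have hk : DRing.IsPerfectModule R (R ⧸ IsLocalRing.maximalIdeal R) := by
    have := Groth.Agent.R2.H31.KoszulPerf.isPerfectModule_quot_of_regular R fs hkr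
    rwa [hI] at this
  rw [hI] at e
  have hP := PS_eq_dbP R hk
  rw [hP]
  have hK : DbP (FL R) (DRing.toD (Koszul.koszul R fs)) :=
    (DbP (FL R)).prop_of_iso e.symm (dbP_single (FL R) (kk R) (fl_kk R) 0)
  rw [clTr_of_iso (DbP (FL R)) e hK]
  exact closure_clTr_eq_top R

end Local

end Groth.Agent.R2.H15.K0Koszul
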