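import Mathlib
import Groth.Prelude.Def_CxOX
import Groth.Agent.Lib.Helper17KInjD5
import Groth.Agent.Lib.Helper16KInjAdj
import Groth.Agent.Lib.Helper21ExtZero4
import Groth.Agent.S0484

/-!
# Derived direct images and restriction to open subschemes: basic tools (helper28)

* `compUnit`, `isRightDerivedFunctor_comp`: composition of right derived functors computed on
  K-injective complexes.
* `pfl_extZero`: extension by zero along an open subscheme is exact.
* `isKInjective_restrict`: restriction to an open subscheme preserves K-injective complexes.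
* `unitC`, `rpushIso`: `Rf_*` on (the image of) a K-injective complex.
-/

set_option autoImplicit false
set_option linter.style.haveILetI false
set_option linter.unusedSectionVars false
universe w w₁ w₂ w₃ v v' v'' u u' u''
open CategoryTheory CategoryTheory.Limits

namespace Groth.Agent.R2.H28.DerBase

open Groth.Agent.Lib.Helper17.KInj

section Abstract

variable {B : Type u} [Category.{v} B] [Abelian B] [IsGrothendieckAbelian.{w} B]
  [HasDerivedCategory.{w₁} B]
  {B' : Type u'} [Category.{v'} B'] [Abelian B'] [HasDerivedCategory.{w₂} B']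
  {A' : Type u''} [Category.{v''} A'] [Abelian A'] [HasDerivedCategory.{w₃} A']
  (G1 : B ⥤ B') [G1.Additive] (RG1 : DerivedCategory B ⥤ DerivedCategory B')
  (β1 : G1.mapHomologicalComplex (ComplexShape.up ℤ) ⋙ DerivedCategory.Q ⟶
    DerivedCategory.Q ⋙ RG1)
  (G2 : B' ⥤ A') [G2.Additive] (RG2 : DerivedCategory B' ⥤ DerivedCategory A')
  (β2 : G2.mapHomologicalComplex (ComplexShape.up ℤ) ⋙ DerivedCategory.Q ⟶
    DerivedCategory.Q ⋙ RG2)

/-- `(G1 ⋙ G2)• ≅ G1• ⋙ G2•` -/
noncomputable def compCxIso :
    (G1 ⋙ G2).mapHomologicalComplex (ComplexShape.up ℤ) ≅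
      G1.mapHomologicalComplex (ComplexShape.up ℤ) ⋙ G2.mapHomologicalComplex (ComplexShape.up ℤ) :=
  (Functor.mapHomologicalComplexCompIso (Iso.refl (G1 ⋙ G2)) (ComplexShape.up ℤ)).symm

/-- the unit of a composite of derived functors -/
noncomputable def compUnit :
    (G1 ⋙ G2).mapHomologicalComplex (ComplexShape.up ℤ) ⋙ DerivedCategory.Q ⟶
      DerivedCategory.Q ⋙ (RG1 ⋙ RG2) :=
  Functor.whiskerRight (compCxIso G1 G2).hom DerivedCategory.Q ≫ (Functor.associator _ _ _).hom ≫
    Functor.whiskerLeft (G1.mapHomologicalComplex (ComplexShape.up ℤ)) β2 ≫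
    (Functor.associator _ _ _).inv ≫ Functor.whiskerRight β1 RG2 ≫ (Functor.associator _ _ _).hom

lemma compUnit_app (K : CochainComplex B ℤ) :
    (compUnit G1 RG1 β1 G2 RG2 β2).app K =
      DerivedCategory.Q.map ((compCxIso G1 G2).hom.app K) ≫
      β2.app ((G1.mapHomologicalComplex (ComplexShape.up ℤ)).obj K) ≫ RG2.map (β1.app K) := by
  simp [compUnit]

variable [RG1.IsRightDerivedFunctor β1 (HomologicalComplex.quasiIso B (ComplexShape.up ℤ))]

/-- a composite of right derived functors is the right derived functor of the composite as soon as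
the second unit is invertible on the images of K-injective complexes. -/
theorem isRightDerivedFunctor_comp
    (h : ∀ I : CochainComplex B ℤ, I.IsKInjective →
      IsIso (β2.app ((G1.mapHomologicalComplex (ComplexShape.up ℤ)).obj I))) :
    (RG1 ⋙ RG2).IsRightDerivedFunctor (compUnit G1 RG1 β1 G2 RG2 β2)
      (HomologicalComplex.quasiIso B (ComplexShape.up ℤ)) := by
  refine (fibLocalizerMorphism_derives _
    (isInvertedBy_mapHomologicalComplex_comp_Q (G1 ⋙ G2))).isRightDerivedFunctor_of_isIso _
    (fun I => ?_)
  haveI := I.property.isKInjective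
  haveI := isIso_app_of_isKInjective G1 RG1 β1 I.obj
  have e : (compUnit G1 RG1 β1 G2 RG2 β2).app ((fibLocalizerMorphism B).functor.obj I) =
      (compUnit G1 RG1 β1 G2 RG2 β2).app I.obj := rfl
  rw [e, compUnit_app]
  haveI h3 : IsIso (DerivedCategory.Q.map ((compCxIso G1 G2).hom.app I.obj)) := inferInstance
  haveI h4 : IsIso (RG2.map (β1.app I.obj)) := inferInstance
  haveI h5 : IsIso (β2.app ((G1.mapHomologicalComplex (ComplexShape.up ℤ)).obj I.obj)) :=
    h I.obj inferInstance
  exact IsIso.comp_isIso' h3 (IsIso.comp_isIso' h5 h4)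

end Abstract


section Scheme

open AlgebraicGeometry

attribute [local instance] HasDerivedCategory.standard

variable {X Y : Scheme.{u}}

instance isGrothendieckAbelian_modules (X : Scheme.{u}) : IsGrothendieckAbelian.{u} X.Modules :=
  Groth.Agent.S0484.result (Opens.grothendieckTopology X) X.ringCatSheaf

/-- extension by zero along an open subscheme is exact -/
theorem pfl_extZero (U : X.Opens) : PreservesFiniteLimits (CxOX.extZero U.ι) := by
  haveI h0 : PreservesFiniteLimits (ModSite.extZero X.sheaf U) :=
    Groth.Agent.Lib.Helper21.ExtZeroS.instPreservesFiniteLimitsModOverOverCommRingCatExtZero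
      (C := TopologicalSpace.Opens X) X.sheaf U
  haveI h1 : PreservesFiniteLimits (Scheme.Modules.overEquiv U).inverse := inferInstance
  have h2 : PreservesFiniteLimits ((Scheme.Modules.overEquiv U).inverse ⋙ ModSite.extZero X.sheaf U) :=
    @comp_preservesFiniteLimits _ _ _ _ _ _ _ _ h1 h0
  exact @preservesFiniteLimits_of_natIso _ _ _ _ _ _ (CxOX.extZeroIsoSite U).symm h2

/-- restriction to an open subscheme preserves K-injective complexes -/
theorem isKInjective_restrict (U : X.Opens) (I : CochainComplex X.Modules ℤ) [I.IsKInjective] :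
    CochainComplex.IsKInjective
      (((Scheme.Modules.restrictFunctor U.ι).mapHomologicalComplex (ComplexShape.up ℤ)).obj I) := by
  haveI := pfl_extZero U
  haveI : (CxOX.extZero U.ι).PreservesHomology := inferInstance
  exact Groth.Agent.Lib.Helper16.KInjAdj.isKInjective_map (CxOX.extZeroAdj U.ι) I

/-- direct image along an open immersion preserves K-injective complexes -/
theorem isKInjective_pushforward_open {U X : Scheme.{u}} (j : U ⟶ X) [IsOpenImmersion j]
    (I : CochainComplex U.Modules ℤ) [I.IsKInjective] :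
    CochainComplex.IsKInjective
      (((Scheme.Modules.pushforward j).mapHomologicalComplex (ComplexShape.up ℤ)).obj I) := by
  haveI : (Scheme.Modules.restrictFunctor j).PreservesHomology := inferInstance
  exact Groth.Agent.Lib.Helper16.KInjAdj.isKInjective_map (Scheme.Modules.restrictAdjunction j) I

variable (f : X ⟶ Y)

/-- the unit of `Rf_*` at the level of complexes -/
noncomputable def unitC [DCoh.HasRpush f] :
    (Scheme.Modules.pushforward f).mapHomologicalComplex (ComplexShape.up ℤ) ⋙ DerivedCategory.Q ⟶
      DerivedCategory.Q ⋙ DCoh.Rpush f :=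
  unitOfK (Scheme.Modules.pushforward f) (DCoh.Rpush f)
    ((DCoh.pushKh f).totalRightDerivedUnit DerivedCategory.Qh
      (HomotopyCategory.quasiIso X.Modules (ComplexShape.up ℤ)))

instance isRightDerivedFunctor_unitC [DCoh.HasRpush f] :
    (DCoh.Rpush f).IsRightDerivedFunctor (unitC f)
      (HomologicalComplex.quasiIso X.Modules (ComplexShape.up ℤ)) :=
  isRightDerivedFunctor_unitOfK _ _ _

/-- `Rf_*` on a K-injective complex is computed termwise -/
noncomputable def rpushIso [DCoh.HasRpush f] (I : CochainComplex X.Modules ℤ) [I.IsKInjective] :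
    DerivedCategory.Q.obj
        (((Scheme.Modules.pushforward f).mapHomologicalComplex (ComplexShape.up ℤ)).obj I) ≅
      (DCoh.Rpush f).obj (DerivedCategory.Q.obj I) :=
  haveI := isIso_app_of_isKInjective (Scheme.Modules.pushforward f) (DCoh.Rpush f) (unitC f) I
  asIso ((unitC f).app I)

/-- the unit of `RΓ` at the level of complexes -/
noncomputable def unitΓ (X : Scheme.{u}) [DCoh.HasRΓ X] :
    (DCoh.gammaAb X).mapHomologicalComplex (ComplexShape.up ℤ) ⋙ DerivedCategory.Q ⟶
      DerivedCategory.Q ⋙ DCoh.RΓ X :=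
  unitOfK (DCoh.gammaAb X) (DCoh.RΓ X)
    ((DCoh.gammaKh X).totalRightDerivedUnit DerivedCategory.Qh
      (HomotopyCategory.quasiIso X.Modules (ComplexShape.up ℤ)))

instance isRightDerivedFunctor_unitΓ (X : Scheme.{u}) [DCoh.HasRΓ X] :
    (DCoh.RΓ X).IsRightDerivedFunctor (unitΓ X)
      (HomologicalComplex.quasiIso X.Modules (ComplexShape.up ℤ)) :=
  isRightDerivedFunctor_unitOfK _ _ _

/-- `RΓ` on a K-injective complex is computed termwise -/
noncomputable def rΓIso (X : Scheme.{u}) [DCoh.HasRΓ X] (I : CochainComplex X.Modules ℤ)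
    [I.IsKInjective] :
    DerivedCategory.Q.obj
        (((DCoh.gammaAb X).mapHomologicalComplex (ComplexShape.up ℤ)).obj I) ≅
      (DCoh.RΓ X).obj (DerivedCategory.Q.obj I) :=
  haveI := isIso_app_of_isKInjective (DCoh.gammaAb X) (DCoh.RΓ X) (unitΓ X) I
  asIso ((unitΓ X).app I)

end Scheme

end Groth.Agent.R2.H28.DerBase
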