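import Mathlib
import Groth.Prelude.Def_CxOX
import Groth.Agent.Lib.Helper1Sky9
import Groth.Agent.S0934
set_option backward.isDefEq.respectTransparency.types false

/-!
# Maps from strictly perfect complexes are locally null-homotopic / lift locally (helper4, round 2)
-/

set_option autoImplicit false
universe u
open CategoryTheory CategoryTheory.Limits AlgebraicGeometry HomologicalComplex

namespace Groth.Agent.R2.H4.LocHtpy

section General

variable {A B : Type*} [Category A] [Category B] [Abelian A] [Abelian B]

lemma isZero_homology_map (G : A ⥤ B) [G.Additive] [PreservesFiniteLimits G]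
    [PreservesFiniteColimits G] (K : CochainComplex A ℤ) (i : ℤ) (h : IsZero (K.homology i)) :
    IsZero (((G.mapHomologicalComplex (ComplexShape.up ℤ)).obj K).homology i) := by
  rw [← exactAt_iff_isZero_homology] at h ⊢
  exact ShortComplex.Exact.map h G

/-- transport of a null homotopy along an isomorphism of functors. -/
noncomputable def homotopyZeroOfNatIso {G₁ G₂ : A ⥤ B} [G₁.Additive] [G₂.Additive] (e : G₁ ≅ G₂)
    {K L : CochainComplex A ℤ} (α : K ⟶ L)
    (H : Homotopy ((G₂.mapHomologicalComplex (ComplexShape.up ℤ)).map α) 0) :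
    Homotopy ((G₁.mapHomologicalComplex (ComplexShape.up ℤ)).map α) 0 := by
  have h1 : (G₁.mapHomologicalComplex (ComplexShape.up ℤ)).map α =
      (NatTrans.mapHomologicalComplex e.hom (ComplexShape.up ℤ)).app K ≫
        (G₂.mapHomologicalComplex (ComplexShape.up ℤ)).map α ≫
        (NatTrans.mapHomologicalComplex e.inv (ComplexShape.up ℤ)).app L := by
    ext i
    simp only [Functor.mapHomologicalComplex_map_f, comp_f, NatTrans.mapHomologicalComplex_app_f]
    change G₁.map (α.f i) = e.hom.app (K.X i) ≫ G₂.map (α.f i) ≫ e.inv.app (L.X i)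
    rw [e.inv.naturality (α.f i), Iso.hom_inv_id_app_assoc]
  refine (Homotopy.ofEq h1).trans (((H.compRight _).compLeft _).trans (Homotopy.ofEq ?_))
  simp

/-- a null homotopy for the image under a composite functor. -/
noncomputable def homotopyZeroComp {C : Type*} [Category C] [Abelian C] (G : A ⥤ B) (G' : B ⥤ C)
    [G.Additive] [G'.Additive] {K L : CochainComplex A ℤ} (α : K ⟶ L)
    (H : Homotopy ((G'.mapHomologicalComplex (ComplexShape.up ℤ)).map
      ((G.mapHomologicalComplex (ComplexShape.up ℤ)).map α)) 0) :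
    Homotopy (((G ⋙ G').mapHomologicalComplex (ComplexShape.up ℤ)).map α) 0 where
  hom := H.hom
  zero := H.zero
  comm := H.comm

end General

section Scheme

/-- termwise restriction of complexes along an open immersion. -/
noncomputable abbrev resC {U X : Scheme.{u}} (j : U ⟶ X) [IsOpenImmersion j] :
    CochainComplex X.Modules ℤ ⥤ CochainComplex U.Modules ℤ :=
  (Scheme.Modules.restrictFunctor j).mapHomologicalComplex (ComplexShape.up ℤ)

lemma isFinLocFree_of_iso {X : Scheme.{u}} {M M' : X.Modules} (e : M ≅ M')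
    (h : FlatMod.IsFinLocFree M) : FlatMod.IsFinLocFree M' := by
  intro x
  obtain ⟨U, n, hx, ⟨φ⟩⟩ := h x
  exact ⟨U, n, hx, ⟨(Scheme.Modules.restrictFunctor U.ι).mapIso e.symm ≪≫ φ⟩⟩

lemma isFinLocFree_restrict {U X : Scheme.{u}} (j : U ⟶ X) [IsOpenImmersion j] (M : X.Modules)
    (h : FlatMod.IsFinLocFree M) :
    FlatMod.IsFinLocFree ((Scheme.Modules.restrictFunctor j).obj M) :=
  isFinLocFree_of_iso ((Scheme.Modules.restrictFunctorIsoPullback j).app M).symm
    (Groth.Agent.Lib.Helper1.Sky.isFinLocFree_pullback j M h)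


/-- local lifting of maps out of finite locally free modules along epimorphisms (S0934). -/
lemma exists_local_lift {X : Scheme.{u}} {E F G : X.Modules} (p : G ⟶ F) [Epi p] (φ : E ⟶ F)
    (hE : FlatMod.IsFinLocFree E) (x : X) :
    ∃ (V : X.Opens) (ψ : (Scheme.Modules.restrictFunctor V.ι).obj E ⟶
        (Scheme.Modules.restrictFunctor V.ι).obj G), x ∈ V ∧
      ψ ≫ (Scheme.Modules.restrictFunctor V.ι).map p =
        (Scheme.Modules.restrictFunctor V.ι).map φ :=
  Groth.Agent.S0934.result p φ hE x

lemma eq_zero_of_bounds {X : Scheme.{u}} {E F : CochainComplex X.Modules ℤ} (α : E ⟶ F)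
    (a b : ℤ) (hba : b < a) (hEa : ∀ i, i < a → IsZero (E.X i))
    (hα : ∀ i, b < i → α.f i = 0) : α = 0 := by
  refine HomologicalComplex.hom_ext _ _ (fun i => ?_)
  by_cases hi : b < i
  · exact hα i hi
  · exact (hEa i (by omega)).eq_of_src _ _

/-- the key induction: a chain map from a complex of finite locally free modules, bounded below
by `a`, to a complex which is acyclic in degrees `≥ a`, and which vanishes in degrees `> b`, is
locally null-homotopic. -/
theorem exists_homotopy_zero_aux (n : ℕ) :
    ∀ {X : Scheme.{u}} {E F : CochainComplex X.Modules ℤ} (α : E ⟶ F)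
      (_ : ∀ i, FlatMod.IsFinLocFree (E.X i)) (a b : ℤ) (_ : b < a + n)
      (_ : ∀ i, i < a → IsZero (E.X i)) (_ : ∀ i, a ≤ i → IsZero (F.homology i))
      (_ : ∀ i, b < i → α.f i = 0) (x : X),
      ∃ (U : Scheme.{u}) (j : U ⟶ X) (_ : IsOpenImmersion j) (y : U), j.base y = x ∧
        Nonempty (Homotopy ((resC j).map α) 0) := by
  induction n with
  | zero =>
    intro X E F α hE a b hab hEa hF hα x
    have hα0 : α = 0 := eq_zero_of_bounds α a b (by simpa using hab) hEa hα
    refine ⟨X, 𝟙 X, inferInstance, x, rfl, ⟨Homotopy.ofEq ?_⟩⟩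
    rw [hα0, Functor.map_zero]
  | succ n ih =>
    intro X E F α hE a b hab hEa hF hα x
    by_cases hba : b < a
    · have hα0 : α = 0 := eq_zero_of_bounds α a b hba hEa hα
      refine ⟨X, 𝟙 X, inferInstance, x, rfl, ⟨Homotopy.ofEq ?_⟩⟩
      rw [hα0, Functor.map_zero]
    · have hab' : a ≤ b := not_lt.mp hba
      have hexact : F.ExactAt b := (exactAt_iff_isZero_homology F b).2 (hF b hab')
      have hprev : (ComplexShape.up ℤ).prev b = b - 1 := by simp
      haveI : Epi (F.toCycles (b - 1) b) := by
        have := ShortComplex.Exact.epi_toCycles hexact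
        rw [← hprev]
        exact this
      have hd : α.f b ≫ F.d b (b + 1) = 0 := by
        rw [α.comm, hα (b + 1) (by omega), comp_zero]
      obtain ⟨V, ψ, hxV, hψ⟩ := exists_local_lift (F.toCycles (b - 1) b)
        (F.liftCycles (α.f b) (b + 1) (by simp) hd) (hE b) x
      have hψ' : ψ ≫ (Scheme.Modules.restrictFunctor V.ι).map (F.d (b - 1) b) =
          (Scheme.Modules.restrictFunctor V.ι).map (α.f b) := by
        have h1 := congrArg (· ≫ (Scheme.Modules.restrictFunctor V.ι).map (F.iCycles b)) hψ
        simp only [Category.assoc, ← Functor.map_comp, toCycles_i, liftCycles_i] at h1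
        exact h1
      -- the homotopy data
      let h : ∀ i j, (ComplexShape.up ℤ).Rel j i →
          (((resC V.ι).obj E).X i ⟶ ((resC V.ι).obj F).X j) := fun i j hij =>
        if hi : i = b then
          eqToHom (by rw [hi]; rfl) ≫ ψ ≫ eqToHom (by
            have : b - 1 = j := by
              have : j + 1 = i := hij
              omega
            rw [this]; rfl)
        else 0
      have hα' : ∀ i, b - 1 < i → ((resC V.ι).map α - Homotopy.nullHomotopicMap' h).f i = 0 := by
        intro i hi
        rw [HomologicalComplex.sub_f_apply,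
          Homotopy.nullHomotopicMap'_f (show (ComplexShape.up ℤ).Rel (i - 1) i by simp)
            (show (ComplexShape.up ℤ).Rel i (i + 1) by simp) h]
        have h1 : h (i + 1) i (by simp) = 0 := dif_neg (by omega)
        rw [h1, comp_zero, zero_add]
        by_cases hib : i = b
        · subst hib
          have h2 : h i (i - 1) (by simp) = ψ := by
            simp only [h, dif_pos]
            exact (Category.id_comp _).trans (Category.comp_id _)
          rw [h2]
          rw [sub_eq_zero]
          exact hψ'.symm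
        · have h2 : h i (i - 1) (by simp) = 0 := dif_neg hib
          rw [h2, zero_comp, sub_zero]
          change (Scheme.Modules.restrictFunctor V.ι).map (α.f i) = 0
          rw [hα i (by omega), Functor.map_zero]
      obtain ⟨U, j₂, hj₂, y, hy, ⟨H'⟩⟩ := ih ((resC V.ι).map α - Homotopy.nullHomotopicMap' h)
        (fun i => isFinLocFree_restrict V.ι _ (hE i)) a (b - 1) (by push_cast at hab; omega)
        (fun i hi => (Scheme.Modules.restrictFunctor V.ι).map_isZero (hEa i hi))
        (fun i hi => isZero_homology_map _ F i (hF i hi)) hα' ⟨x, hxV⟩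
      refine ⟨U, j₂ ≫ V.ι, inferInstance, y, ?_, ⟨?_⟩⟩
      · rw [Scheme.Hom.comp_base, TopCat.comp_app, hy]
        rfl
      · apply homotopyZeroOfNatIso (Scheme.Modules.restrictFunctorComp j₂ V.ι)
        apply homotopyZeroComp
        have h3 : (resC V.ι).map α = ((resC V.ι).map α - Homotopy.nullHomotopicMap' h) +
            Homotopy.nullHomotopicMap' h := by abel
        rw [h3, Functor.map_add]
        refine (H'.add ((Scheme.Modules.restrictFunctor j₂).mapHomotopy
          (Homotopy.nullHomotopy' h))).trans (Homotopy.ofEq ?_)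
        rw [Functor.map_zero, add_zero]


/-- passing from a general open immersion to the inclusion of its range. -/
theorem exists_opens_of_openImmersion {X : Scheme.{u}} {E F : CochainComplex X.Modules ℤ}
    (α : E ⟶ F) {U : Scheme.{u}} (j : U ⟶ X) [IsOpenImmersion j]
    (H : Homotopy ((resC j).map α) 0) :
    Nonempty (Homotopy ((resC j.opensRange.ι).map α) 0) := by
  let e₀ : (j.opensRange : Scheme.{u}) ≅ U :=
    IsOpenImmersion.isoOfRangeEq j.opensRange.ι j (by simp)
  have fac : e₀.hom ≫ j = j.opensRange.ι := IsOpenImmersion.isoOfRangeEq_hom_fac _ _ _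
  refine ⟨homotopyZeroOfNatIso (Scheme.Modules.restrictFunctorCongr fac.symm ≪≫
    Scheme.Modules.restrictFunctorComp e₀.hom j) α (homotopyZeroComp _ _ α ?_)⟩
  refine ((Scheme.Modules.restrictFunctor e₀.hom).mapHomotopy H).trans (Homotopy.ofEq ?_)
  rw [Functor.map_zero]

/-- S0932: a map from a strictly perfect complex vanishing in degrees `< a` to a complex which
is acyclic in degrees `≥ a` is locally null-homotopic. -/
theorem exists_homotopy_zero {X : Scheme.{u}} {E F : CochainComplex X.Modules ℤ}
    (α : E ⟶ F) (hE : DCoh.IsStrictlyPerfect E) (a : ℤ) (hEa : ∀ i : ℤ, i < a → IsZero (E.X i))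
    (hF : ∀ i : ℤ, a ≤ i → IsZero (F.homology i)) (x : X) :
    ∃ V : X.Opens, x ∈ V ∧ Nonempty (Homotopy ((DCoh.restrictCx V).map α) 0) := by
  obtain ⟨⟨a', b, hv⟩, hfl⟩ := hE
  obtain ⟨n, hn⟩ : ∃ n : ℕ, b < a + n := ⟨(b - a + 1).toNat, by omega⟩
  obtain ⟨U, j, hj, y, hy, ⟨H⟩⟩ := exists_homotopy_zero_aux n α hfl a b hn hEa hF
    (fun i hi => (hv i (Or.inr hi)).eq_of_src _ _) x
  exact ⟨j.opensRange, ⟨y, hy⟩, exists_opens_of_openImmersion α j H⟩

end Scheme

end Groth.Agent.R2.H4.LocHtpy
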