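import Mathlib
import Groth.Prelude.Def_CxOX
import Groth.Agent.R2.H4LocHtpy
import Groth.Agent.R2.H28DerBase

/-!
# Perfectness in `D(O_X)` can be checked on an open neighbourhood (helper28)

* `isPerfect_of_iso`, `isStrictlyPerfect_zero`, `isStrictlyPerfect_restrict`.
* `isPerfectAt_of_restrict`: if `K|_W` is perfect on the open subscheme `W`, the defining condition of
  `DCoh.IsPerfect K` holds at every point of `W`.
* `isPerfect_of_cover`: perfectness is local.
-/

set_option autoImplicit false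
set_option linter.style.haveILetI false
universe u
open CategoryTheory CategoryTheory.Limits AlgebraicGeometry

attribute [local instance] HasDerivedCategory.standard

namespace Groth.Agent.R2.H28.PerfLocal

open Groth.Agent.R2.H28.DerBase Groth.Agent.R2.H4.LocHtpy

variable {X : Scheme.{u}}

lemma isPerfect_of_iso {K K' : DCoh.D X} (e : K ≅ K') (h : DCoh.IsPerfect K) : DCoh.IsPerfect K' := by
  intro x
  obtain ⟨V, hx, hV⟩ := h x
  exact ⟨V, hx, fun F ⟨eF⟩ => hV F ⟨eF ≪≫ e.symm⟩⟩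

lemma isStrictlyPerfect_of_isZero (P : CochainComplex X.Modules ℤ) (hP : IsZero P) :
    DCoh.IsStrictlyPerfect P := by
  have h0 : ∀ i : ℤ, IsZero (P.X i) := fun i =>
    (HomologicalComplex.eval X.Modules (ComplexShape.up ℤ) i).map_isZero hP
  refine ⟨⟨0, 0, fun i _ => h0 i⟩, fun i => ?_⟩
  exact Groth.Agent.Lib.Helper20.LocFree.isFinLocFree_of_retract (n := 0) 0 0 ((h0 i).eq_of_src _ _)

/-- restriction along an open immersion preserves strictly perfect complexes -/
lemma isStrictlyPerfect_restrict {U : Scheme.{u}} (j : U ⟶ X) [IsOpenImmersion j]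
    (P : CochainComplex X.Modules ℤ) (hP : DCoh.IsStrictlyPerfect P) :
    DCoh.IsStrictlyPerfect ((resC j).obj P) := by
  obtain ⟨⟨a, b, hv⟩, hfl⟩ := hP
  exact ⟨⟨a, b, fun i hi => (Scheme.Modules.restrictFunctor j).map_isZero (hv i hi)⟩,
    fun i => isFinLocFree_restrict j _ (hfl i)⟩

/-- the representing condition for restrictions, in terms of `restrictD` -/
noncomputable def restrictIso (V : X.Opens) (F : CochainComplex X.Modules ℤ) :
    DerivedCategory.Q.obj ((DCoh.restrictCx V).obj F) ≅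
      (DCoh.restrictD V.ι).obj (DerivedCategory.Q.obj F) :=
  ((Scheme.Modules.restrictFunctor V.ι).mapDerivedCategoryFactors.app F).symm

/-- if `K|_W` is perfect on `W`, then `K` satisfies the defining condition of perfectness at every
point of `W`. -/
theorem isPerfectAt_of_restrict (K : DCoh.D X) (W : X.Opens)
    (hK : DCoh.IsPerfect ((DCoh.restrictD W.ι).obj K)) (x : X) (hx : x ∈ W) :
    ∃ (V : X.Opens), x ∈ V ∧ ∀ (F : CochainComplex X.Modules ℤ), Nonempty (DCoh.toD X F ≅ K) →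
      ∃ E : CochainComplex (V : Scheme.{u}).Modules ℤ, DCoh.IsStrictlyPerfect E ∧
        Nonempty (DerivedCategory.Q.obj ((DCoh.restrictCx V).obj F) ≅ DerivedCategory.Q.obj E) := by
  obtain ⟨V', hxV', hV'⟩ := hK ⟨x, hx⟩
  let V : X.Opens := W.ι ''ᵁ V'
  have hxV : x ∈ V := ⟨⟨x, hx⟩, hxV', rfl⟩
  -- the open immersion `h : V ⟶ V'` over `X`
  have hrange : Set.range V.ι.base ⊆ Set.range (V'.ι ≫ W.ι).base := by
    rintro _ ⟨y, rfl⟩
    obtain ⟨z, hz, hzy⟩ := y.2
    exact ⟨⟨z, hz⟩, hzy⟩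
  let h : (V : Scheme.{u}) ⟶ (V' : Scheme.{u}) := IsOpenImmersion.lift (V'.ι ≫ W.ι) V.ι hrange
  have hfac : h ≫ V'.ι ≫ W.ι = V.ι := IsOpenImmersion.lift_fac _ _ _
  haveI : IsOpenImmersion (h ≫ V'.ι ≫ W.ι) := by rw [hfac]; infer_instance
  haveI : IsOpenImmersion h := IsOpenImmersion.of_comp h (V'.ι ≫ W.ι)
  refine ⟨V, hxV, fun F ⟨eF⟩ => ?_⟩
  obtain ⟨P', hP', ⟨eP'⟩⟩ := hV' ((DCoh.restrictCx W).obj F)
    ⟨restrictIso W F ≪≫ (DCoh.restrictD W.ι).mapIso eF⟩
  refine ⟨(resC h).obj P', isStrictlyPerfect_restrict h P' hP', ⟨?_⟩⟩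
  -- `F|_V ≅ h^*((F|_W)|_{V'})` as complexes
  let φ : Scheme.Modules.restrictFunctor V.ι ≅
      Scheme.Modules.restrictFunctor W.ι ⋙ Scheme.Modules.restrictFunctor V'.ι ⋙
        Scheme.Modules.restrictFunctor h :=
    Scheme.Modules.restrictFunctorCongr hfac.symm ≪≫
      Scheme.Modules.restrictFunctorComp h (V'.ι ≫ W.ι) ≪≫
      Functor.isoWhiskerRight (Scheme.Modules.restrictFunctorComp V'.ι W.ι) _ ≪≫
      Functor.associator _ _ _
  let θ : (DCoh.restrictCx V).obj F ≅
      (resC h).obj ((DCoh.restrictCx V').obj ((DCoh.restrictCx W).obj F)) :=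
    (NatIso.mapHomologicalComplex φ (ComplexShape.up ℤ)).app F ≪≫
      (compCxIso (Scheme.Modules.restrictFunctor W.ι)
        (Scheme.Modules.restrictFunctor V'.ι ⋙ Scheme.Modules.restrictFunctor h)).app F ≪≫
      (compCxIso (Scheme.Modules.restrictFunctor V'.ι)
        (Scheme.Modules.restrictFunctor h)).app ((DCoh.restrictCx W).obj F)
  exact DerivedCategory.Q.mapIso θ ≪≫
    ((Scheme.Modules.restrictFunctor h).mapDerivedCategoryFactors.app _).symm ≪≫
    (DCoh.restrictD h).mapIso eP' ≪≫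
    (Scheme.Modules.restrictFunctor h).mapDerivedCategoryFactors.app P'

/-- perfectness is local on the scheme -/
theorem isPerfect_of_cover (K : DCoh.D X)
    (h : ∀ x : X, ∃ W : X.Opens, x ∈ W ∧ DCoh.IsPerfect ((DCoh.restrictD W.ι).obj K)) :
    DCoh.IsPerfect K := by
  intro x
  obtain ⟨W, hx, hW⟩ := h x
  exact isPerfectAt_of_restrict K W hW x hx

end Groth.Agent.R2.H28.PerfLocal
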