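import Mathlib
set_option backward.isDefEq.respectTransparency.types false

/-!
# `m`-connected maps in the derived category of an abelian category, brutal truncations,
and the octahedron argument for approximations (helper4, round 2)

Generic versions (for an arbitrary abelian category) of the ring-level lemmas of
`Groth.Agent.Lib.Helper1PC`.
-/

set_option autoImplicit false
universe w v u
open CategoryTheory CategoryTheory.Limits CategoryTheory.Pretriangulated

namespace Groth.Agent.R2.H4.Conn

open DerivedCategory ZeroObject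

set_option linter.dupNamespace false
set_option linter.unusedSectionVars false

section Conn

variable {C : Type u} [Category.{v} C] [Abelian C] [HasDerivedCategory.{w} C]

/-- `α` is `m`-connected: iso on `H^i` for `i > m`, epi on `H^m`. -/
def Conn (m : ℤ) {X Y : DerivedCategory C} (α : X ⟶ Y) : Prop :=
  (∀ i : ℤ, m < i → IsIso ((homologyFunctor C i).map α)) ∧
    Epi ((homologyFunctor C m).map α)

lemma Conn.comp {m : ℤ} {X Y Z : DerivedCategory C} {α : X ⟶ Y} {β : Y ⟶ Z}
    (hα : Conn m α) (hβ : Conn m β) : Conn m (α ≫ β) := by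
  refine ⟨fun i hi => ?_, ?_⟩
  · have := hα.1 i hi
    have := hβ.1 i hi
    rw [Functor.map_comp]
    infer_instance
  · have := hα.2
    have := hβ.2
    rw [Functor.map_comp]
    infer_instance

lemma Conn.of_isIso (m : ℤ) {X Y : DerivedCategory C} (α : X ⟶ Y) [IsIso α] :
    Conn m α :=
  ⟨fun _ _ => inferInstance, inferInstance⟩

lemma Conn.mono {m m' : ℤ} (h : m ≤ m') {X Y : DerivedCategory C} {α : X ⟶ Y}
    (hα : Conn m α) : Conn m' α := by
  refine ⟨fun i hi => hα.1 i (by lia), ?_⟩
  rcases h.eq_or_lt with rfl | h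
  · exact hα.2
  · have := hα.1 m' h
    infer_instance

/-- connectivity of the first map of a distinguished triangle in terms of the cone -/
lemma conn_iff_of_distTriang (T : Triangle (DerivedCategory C))
    (hT : T ∈ distTriang _) (m : ℤ) : Conn m T.mor₁ ↔ T.obj₃.IsLE (m - 1) := by
  rw [DerivedCategory.isLE_iff]
  constructor
  · rintro ⟨h1, h2⟩ i hi
    have hepi : Epi ((homologyFunctor C i).map T.mor₁) := by
      rcases (show m ≤ i by lia).eq_or_lt with rfl | h
      · exact h2
      · have := h1 i h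
        infer_instance
    have hmono : Mono ((homologyFunctor C (i + 1)).map T.mor₁) := by
      have := h1 (i + 1) (by lia)
      infer_instance
    have e1 := (HomologySequence.epi_homologyMap_mor₁_iff T hT i).1 hepi
    have e2 := (HomologySequence.mono_homologyMap_mor₁_iff T hT i (i + 1) rfl).1 hmono
    have ex := HomologySequence.exact₃ T hT i (i + 1) rfl
    exact ex.isZero_of_both_zeros e1 e2
  · intro h
    have hepi : ∀ i : ℤ, m ≤ i → Epi ((homologyFunctor C i).map T.mor₁) := by
      intro i hi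
      rw [HomologySequence.epi_homologyMap_mor₁_iff T hT i]
      exact (h i (by lia)).eq_of_tgt _ _
    have hmono : ∀ i : ℤ, m < i → Mono ((homologyFunctor C i).map T.mor₁) := by
      intro i hi
      rw [HomologySequence.mono_homologyMap_mor₁_iff T hT (i - 1) i (by lia)]
      exact (h (i - 1) (by lia)).eq_of_src _ _
    refine ⟨fun i hi => ?_, hepi m le_rfl⟩
    have := hepi i hi.le
    have := hmono i hi
    exact isIso_of_mono_of_epi _

lemma epi_map_iff_of_natIso {C D : Type*} [Category C] [Category D] {F G : C ⥤ D} (e : F ≅ G)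
    {X Y : C} (f : X ⟶ Y) : Epi (F.map f) ↔ Epi (G.map f) := by
  constructor
  · intro h
    have : G.map f = e.inv.app X ≫ F.map f ≫ e.hom.app Y := by simp
    rw [this]; infer_instance
  · intro h
    have : F.map f = e.hom.app X ≫ G.map f ≫ e.inv.app Y := by simp
    rw [this]; infer_instance

lemma Conn.shift {m : ℤ} {X Y : DerivedCategory C} {α : X ⟶ Y} (hα : Conn m α)
    (n m' : ℤ) (hm' : m' + n = m) : Conn m' (α⟦n⟧') := by
  refine ⟨fun i hi => ?_, ?_⟩
  · have e := (homologyFunctor C 0).shiftIso n i (n + i) rfl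
    exact (NatIso.isIso_map_iff e α).2 (hα.1 (n + i) (by lia))
  · have e := (homologyFunctor C 0).shiftIso n m' m (by lia)
    exact (epi_map_iff_of_natIso e α).2 hα.2

/-- the zero map to an object of `D^{≤ m-1}` is `m`-connected. -/
lemma conn_zero_of_isLE (m : ℤ) (K : DerivedCategory C) [K.IsLE (m - 1)] :
    Conn m (0 : (0 : DerivedCategory C) ⟶ K) := by
  have hT : Triangle.mk (0 : (0 : DerivedCategory C) ⟶ K) (𝟙 K) 0 ∈ distTriang _ :=
    contractible_distinguished₁ K
  exact (conn_iff_of_distTriang _ hT m).2 (by show K.IsLE (m - 1); infer_instance)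

/-- the octahedron argument: from a commutative square of approximations to an approximation
of the cone. -/
theorem exists_conn_of_square (T : Triangle (DerivedCategory C)) (hT : T ∈ distTriang _) (m : ℤ)
    {P₁ P₂ P₃ : DerivedCategory C} (α : P₁ ⟶ T.obj₁) (β : P₂ ⟶ T.obj₂)
    (hα : Conn (m + 1) α) (hβ : Conn m β) (γ : P₁ ⟶ P₂) (hγ : γ ≫ β = α ≫ T.mor₁)
    (v' : P₂ ⟶ P₃) (w' : P₃ ⟶ P₁⟦(1 : ℤ)⟧) (h3 : Triangle.mk γ v' w' ∈ distTriang _) :
    ∃ u : P₃ ⟶ T.obj₃, Conn m u := by
  obtain ⟨Cβ, v, w, hC⟩ := distinguished_cocone_triangle β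
  have hCle : Cβ.IsLE (m - 1) := (conn_iff_of_distTriang _ hC m).1 hβ
  obtain ⟨W, v₁₃, w₁₃, h13⟩ := distinguished_cocone_triangle (α ≫ T.mor₁)
  have oct1 := Triangulated.someOctahedron hγ h3 hC h13
  have c1 : Conn m oct1.m₁ := (conn_iff_of_distTriang _ oct1.mem m).2 hCle
  obtain ⟨Cα, vα, wα, hCα⟩ := distinguished_cocone_triangle α
  have hCαle : Cα.IsLE (m + 1 - 1) := (conn_iff_of_distTriang _ hCα (m + 1)).1 hα
  have oct2 := Triangulated.someOctahedron (show α ≫ T.mor₁ = α ≫ T.mor₁ from rfl) hCα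
    (show Triangle.mk T.mor₁ T.mor₂ T.mor₃ ∈ distTriang _ from hT) h13
  have hrot := rot_of_distTriang _ oct2.mem
  have hsh : (Cα⟦(1 : ℤ)⟧).IsLE (m - 1) :=
    DerivedCategory.TStructure.t.isLE_shift Cα (m + 1 - 1) 1 (m - 1) (by lia)
  have c2 : Conn m oct2.m₃ := (conn_iff_of_distTriang _ hrot m).2 hsh
  exact ⟨oct1.m₁ ≫ oct2.m₃, c1.comp c2⟩

end Conn

section Exact

variable {A : Type u} {B : Type u} [Category.{v} A] [Category.{v} B] [Abelian A] [Abelian B]
  [HasDerivedCategory.{w} A] [HasDerivedCategory.{w} B]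
  (F : A ⥤ B) [F.Additive] [PreservesFiniteLimits F] [PreservesFiniteColimits F]

lemma exactAt_map (K : CochainComplex A ℤ) (i : ℤ) (h : K.ExactAt i) :
    ((F.mapHomologicalComplex (ComplexShape.up ℤ)).obj K).ExactAt i := by
  rw [HomologicalComplex.exactAt_iff] at h ⊢
  exact h.map F

lemma isLE_map (X : DerivedCategory A) (n : ℤ) (h : X.IsLE n) :
    (F.mapDerivedCategory.obj X).IsLE n := by
  obtain ⟨K, ⟨e⟩⟩ : ∃ K : CochainComplex A ℤ, Nonempty (Q.obj K ≅ X) :=
    ⟨_, ⟨(Q.objObjPreimageIso X)⟩⟩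
  have e' : F.mapDerivedCategory.obj X ≅
      Q.obj ((F.mapHomologicalComplex (ComplexShape.up ℤ)).obj K) :=
    F.mapDerivedCategory.mapIso e.symm ≪≫ F.mapDerivedCategoryFactors.app K
  have h1 : (Q.obj K).IsLE n := DerivedCategory.TStructure.t.isLE_of_iso e.symm n
  rw [DerivedCategory.isLE_Q_obj_iff, CochainComplex.isLE_iff] at h1
  have h2 : CochainComplex.IsLE ((F.mapHomologicalComplex (ComplexShape.up ℤ)).obj K) n := by
    rw [CochainComplex.isLE_iff]
    exact fun i hi => exactAt_map F K i (h1 i hi)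
  have : (Q.obj ((F.mapHomologicalComplex (ComplexShape.up ℤ)).obj K)).IsLE n :=
    (DerivedCategory.isLE_Q_obj_iff _ _).2 h2
  exact DerivedCategory.TStructure.t.isLE_of_iso e'.symm n

lemma isGE_map (X : DerivedCategory A) (n : ℤ) (h : X.IsGE n) :
    (F.mapDerivedCategory.obj X).IsGE n := by
  obtain ⟨K, ⟨e⟩⟩ : ∃ K : CochainComplex A ℤ, Nonempty (Q.obj K ≅ X) :=
    ⟨_, ⟨(Q.objObjPreimageIso X)⟩⟩
  have e' : F.mapDerivedCategory.obj X ≅
      Q.obj ((F.mapHomologicalComplex (ComplexShape.up ℤ)).obj K) :=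
    F.mapDerivedCategory.mapIso e.symm ≪≫ F.mapDerivedCategoryFactors.app K
  have h1 : (Q.obj K).IsGE n := DerivedCategory.TStructure.t.isGE_of_iso e.symm n
  rw [DerivedCategory.isGE_Q_obj_iff, CochainComplex.isGE_iff] at h1
  have h2 : CochainComplex.IsGE ((F.mapHomologicalComplex (ComplexShape.up ℤ)).obj K) n := by
    rw [CochainComplex.isGE_iff]
    exact fun i hi => exactAt_map F K i (h1 i hi)
  have : (Q.obj ((F.mapHomologicalComplex (ComplexShape.up ℤ)).obj K)).IsGE n :=
    (DerivedCategory.isGE_Q_obj_iff _ _).2 h2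
  exact DerivedCategory.TStructure.t.isGE_of_iso e'.symm n

lemma conn_map {X Y : DerivedCategory A} (α : X ⟶ Y) (m : ℤ) (h : Conn m α) :
    Conn m (F.mapDerivedCategory.map α) := by
  obtain ⟨Z, v, w, hT⟩ := distinguished_cocone_triangle α
  have hT' := F.mapDerivedCategory.map_distinguished _ hT
  have h1 := conn_iff_of_distTriang _ hT m
  have h2 := conn_iff_of_distTriang _ hT' m
  exact h2.2 (isLE_map F Z (m - 1) (h1.1 h))

end Exact

section Sigma

variable {C : Type u} [Category.{v} C] [Abelian C]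

/-- the endomorphism of `E^i` whose kernel is the `i`-th term of the brutal truncation. -/
noncomputable def sigmaQ (E : CochainComplex C ℤ) (n i : ℤ) : E.X i ⟶ E.X i :=
  if n ≤ i then 0 else 𝟙 _

lemma sigmaQ_pos (E : CochainComplex C ℤ) {n i : ℤ} (h : n ≤ i) : sigmaQ E n i = 0 := if_pos h

lemma sigmaQ_neg (E : CochainComplex C ℤ) {n i : ℤ} (h : ¬ n ≤ i) : sigmaQ E n i = 𝟙 _ :=
  if_neg h

lemma kernel_ι_sigmaQ_eq_zero (E : CochainComplex C ℤ) {n i : ℤ} (h : ¬ n ≤ i) :
    kernel.ι (sigmaQ E n i) = 0 := by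
  have h2 : kernel.ι (sigmaQ E n i) ≫ sigmaQ E n i = 0 := kernel.condition _
  have h3 := congrArg (fun q => kernel.ι (sigmaQ E n i) ≫ q) (sigmaQ_neg E h)
  simp only [Category.comp_id] at h3
  rw [← h3, h2]

/-- the brutal truncation `σ_{≥ n} E`. -/
noncomputable def sigmaGE (E : CochainComplex C ℤ) (n : ℤ) : CochainComplex C ℤ where
  X i := kernel (sigmaQ E n i)
  d i j := kernel.lift _ (kernel.ι _ ≫ E.d i j) (by
    by_cases hj : n ≤ j
    · rw [sigmaQ_pos E hj, comp_zero]
    · by_cases hij : (ComplexShape.up ℤ).Rel i j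
      · have hi : ¬ n ≤ i := by
          have : i + 1 = j := hij
          omega
        rw [kernel_ι_sigmaQ_eq_zero E hi, zero_comp, zero_comp]
      · rw [E.shape i j hij, comp_zero, zero_comp])
  shape i j hij := by
    apply equalizer.hom_ext
    simp [E.shape i j hij]
  d_comp_d' i j k _ _ := by
    apply equalizer.hom_ext
    simp

/-- the inclusion `σ_{≥ n} E ⟶ E`. -/
noncomputable def sigmaGEι (E : CochainComplex C ℤ) (n : ℤ) : sigmaGE E n ⟶ E where
  f i := kernel.ι _
  comm' i j _ := by simp [sigmaGE]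

instance (E : CochainComplex C ℤ) (n : ℤ) : Mono (sigmaGEι E n) :=
  HomologicalComplex.mono_of_mono_f _ (fun i => by
    show Mono (kernel.ι _)
    infer_instance)

lemma isZero_sigmaGE_X (E : CochainComplex C ℤ) (n i : ℤ) (hi : i < n) :
    IsZero ((sigmaGE E n).X i) := by
  have h : kernel.ι (sigmaQ E n i) = 0 := kernel_ι_sigmaQ_eq_zero E (by omega)
  rw [IsZero.iff_id_eq_zero]
  show 𝟙 (kernel (sigmaQ E n i)) = 0
  rw [← cancel_mono (kernel.ι (sigmaQ E n i)), h, comp_zero, comp_zero]

lemma isIso_sigmaGEι_f (E : CochainComplex C ℤ) (n i : ℤ) (hi : n ≤ i) :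
    IsIso ((sigmaGEι E n).f i) :=
  KernelFork.IsLimit.isIso_ι (KernelFork.ofι (kernel.ι (sigmaQ E n i)) (kernel.condition _))
    (kernelIsKernel (sigmaQ E n i)) (sigmaQ_pos E hi)

lemma isZero_sigmaGE_X' (E : CochainComplex C ℤ) (n i : ℤ) (h : IsZero (E.X i)) :
    IsZero ((sigmaGE E n).X i) := by
  show IsZero (kernel (sigmaQ E n i))
  exact IsZero.of_mono (kernel.ι (sigmaQ E n i)) h

/-- a term of the brutal truncation is zero or isomorphic to the term of `E`. -/
lemma sigmaGE_X_cases (E : CochainComplex C ℤ) (n i : ℤ) :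
    IsZero ((sigmaGE E n).X i) ∨ Nonempty ((sigmaGE E n).X i ≅ E.X i) := by
  by_cases hi : n ≤ i
  · have := isIso_sigmaGEι_f E n i hi
    exact Or.inr ⟨asIso ((sigmaGEι E n).f i)⟩
  · exact Or.inl (isZero_sigmaGE_X E n i (by omega))

variable [HasDerivedCategory.{w} C]

/-- a monomorphism of complexes which is an isomorphism in degrees `≥ n` is `n`-connected -/
lemma conn_Q_map_of_isIso_f {E' E : CochainComplex C ℤ} (ι : E' ⟶ E) [Mono ι] (n : ℤ)
    (h : ∀ i, n ≤ i → IsIso (ι.f i)) : Conn n (Q.map ι) := by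
  let S : ShortComplex (CochainComplex C ℤ) :=
    ShortComplex.mk ι (cokernel.π ι) (cokernel.condition ι)
  have hS : S.ShortExact :=
    { exact := ShortComplex.exact_cokernel ι
      mono_f := inferInstanceAs (Mono ι)
      epi_g := inferInstanceAs (Epi (cokernel.π ι)) }
  have hT := triangleOfSES_distinguished hS
  refine (conn_iff_of_distTriang _ hT n).2 ?_
  have : (cokernel ι).IsStrictlyLE (n - 1) := by
    rw [CochainComplex.isStrictlyLE_iff]
    intro i hi
    have := h i (by lia)
    exact IsZero.of_iso (isZero_cokernel_of_epi (ι.f i))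
      (PreservesCokernel.iso (HomologicalComplex.eval _ _ i) ι)
  show (Q.obj (cokernel ι)).IsLE (n - 1)
  infer_instance

lemma conn_sigmaGEι (E : CochainComplex C ℤ) (n : ℤ) : Conn n (Q.map (sigmaGEι E n)) :=
  conn_Q_map_of_isIso_f _ n (fun i hi => isIso_sigmaGEι_f E n i hi)

end Sigma

section MapComp

variable {A B C : Type u} [Category.{v} A] [Category.{v} B] [Category.{v} C]
  [Abelian A] [Abelian B] [Abelian C]
  [HasDerivedCategory.{w} A] [HasDerivedCategory.{w} B] [HasDerivedCategory.{w} C]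

/-- isomorphic exact functors induce isomorphic functors on derived categories. -/
noncomputable def mapDerivedCategoryCongr {F G : A ⥤ B} [F.Additive] [G.Additive]
    [PreservesFiniteLimits F] [PreservesFiniteColimits F] [PreservesFiniteLimits G]
    [PreservesFiniteColimits G] (e : F ≅ G) :
    F.mapDerivedCategory ≅ G.mapDerivedCategory :=
  Localization.liftNatIso DerivedCategory.Q
    (HomologicalComplex.quasiIso A (ComplexShape.up ℤ))
    (F.mapHomologicalComplex _ ⋙ DerivedCategory.Q) (G.mapHomologicalComplex _ ⋙ DerivedCategory.Q)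
    _ _ (Functor.isoWhiskerRight (NatIso.mapHomologicalComplex e (ComplexShape.up ℤ)) _)

/-- the functor induced on derived categories by a composite of exact functors. -/
noncomputable def mapDerivedCategoryComp (F : A ⥤ B) (G : B ⥤ C) [F.Additive] [G.Additive]
    [PreservesFiniteLimits F] [PreservesFiniteColimits F] [PreservesFiniteLimits G]
    [PreservesFiniteColimits G] :
    (F ⋙ G).mapDerivedCategory ≅ F.mapDerivedCategory ⋙ G.mapDerivedCategory := by
  letI : Localization.Lifting DerivedCategory.Q (HomologicalComplex.quasiIso A (ComplexShape.up ℤ))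
      ((F ⋙ G).mapHomologicalComplex (ComplexShape.up ℤ) ⋙ DerivedCategory.Q)
      (F.mapDerivedCategory ⋙ G.mapDerivedCategory) :=
    ⟨(Functor.associator _ _ _).symm ≪≫
      Functor.isoWhiskerRight F.mapDerivedCategoryFactors G.mapDerivedCategory ≪≫
      Functor.associator _ _ _ ≪≫
      Functor.isoWhiskerLeft _ G.mapDerivedCategoryFactors ≪≫
      (Functor.associator _ _ _).symm⟩
  exact Localization.liftNatIso DerivedCategory.Q
    (HomologicalComplex.quasiIso A (ComplexShape.up ℤ))
    ((F ⋙ G).mapHomologicalComplex _ ⋙ DerivedCategory.Q)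
    ((F ⋙ G).mapHomologicalComplex _ ⋙ DerivedCategory.Q) _ _ (Iso.refl _)

end MapComp

end Groth.Agent.R2.H4.Conn
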