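import Mathlib
import Groth.Agent.R2.H4LocHtpy
import Groth.Agent.Lib.Helper1Sky11
set_option backward.isDefEq.respectTransparency.types false

/-!
# Local lifting of maps from strictly perfect complexes through "quasi-isomorphisms in degrees
`≥ a`" (helper4, round 2)
-/

set_option autoImplicit false
universe u
open CategoryTheory CategoryTheory.Limits AlgebraicGeometry HomologicalComplex

attribute [local instance] HasDerivedCategory.standard

namespace Groth.Agent.R2.H4.LocHtpy

open Groth.Agent.Lib.Helper1.Sky

section General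

variable {A : Type*} [Category A] [Abelian A]

/-- if `α ≫ inr f` is null-homotopic, `α` lifts through `f` up to homotopy. -/
theorem exists_lift_of_homotopy_inr {E F G : CochainComplex A ℤ} (α : E ⟶ F) (f : G ⟶ F)
    (H : Homotopy (α ≫ CochainComplex.mappingCone.inr f) 0) :
    ∃ β : E ⟶ G, Nonempty (Homotopy (β ≫ f) α) := by
  have hT := HomotopyCategory.mappingCone_triangleh_distinguished f
  have h0 : (HomotopyCategory.quotient A (ComplexShape.up ℤ)).map α ≫
      (CochainComplex.mappingCone.triangleh f).mor₂ = 0 := by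
    change (HomotopyCategory.quotient A (ComplexShape.up ℤ)).map α ≫
      (HomotopyCategory.quotient A (ComplexShape.up ℤ)).map (CochainComplex.mappingCone.inr f) = 0
    rw [← Functor.map_comp, HomotopyCategory.eq_of_homotopy _ _ H, Functor.map_zero]
  obtain ⟨g, hg⟩ := Pretriangulated.Triangle.coyoneda_exact₂ _ hT
    ((HomotopyCategory.quotient A (ComplexShape.up ℤ)).map α) h0
  obtain ⟨β, rfl⟩ := (HomotopyCategory.quotient A (ComplexShape.up ℤ)).map_surjective g
  refine ⟨β, ⟨HomotopyCategory.homotopyOfEq _ _ ?_⟩⟩
  rw [Functor.map_comp]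
  exact hg.symm

end General

section Scheme

variable {X : Scheme.{u}}

lemma isZero_homology_mappingCone {F G : CochainComplex X.Modules ℤ} (f : G ⟶ F) (a : ℤ)
    (hf : ∀ j : ℤ, a < j → IsIso (HomologicalComplex.homologyMap f j))
    (hfa : Epi (HomologicalComplex.homologyMap f a)) (i : ℤ) (hi : a ≤ i) :
    IsZero ((CochainComplex.mappingCone f).homology i) := by
  refine (propM_Q_map_iff a f).1 ⟨fun j hj => ?_, ?_⟩ i hi
  · have := hf j hj
    exact (NatIso.isIso_map_iff (DerivedCategory.homologyFunctorFactors X.Modules j) f).2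
      (hf j hj)
  · exact ((MorphismProperty.epimorphisms X.Modules).arrow_mk_iso_iff
      (Arrow.isoMk ((DerivedCategory.homologyFunctorFactors X.Modules a).app G)
        ((DerivedCategory.homologyFunctorFactors X.Modules a).app F)
        ((DerivedCategory.homologyFunctorFactors X.Modules a).hom.naturality f).symm)).2 hfa

/-- S0933. -/
theorem exists_local_lift_homotopy {E F G : CochainComplex X.Modules ℤ}
    (α : E ⟶ F) (f : G ⟶ F) (hE : DCoh.IsStrictlyPerfect E) (a : ℤ)
    (hEa : ∀ j : ℤ, j < a → IsZero (E.X j))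
    (hf : ∀ j : ℤ, a < j → IsIso (HomologicalComplex.homologyMap f j))
    (hfa : Epi (HomologicalComplex.homologyMap f a)) (x : X) :
    ∃ (V : X.Opens) (β : (DCoh.restrictCx V).obj E ⟶ (DCoh.restrictCx V).obj G), x ∈ V ∧
      Nonempty (Homotopy (β ≫ (DCoh.restrictCx V).map f) ((DCoh.restrictCx V).map α)) := by
  obtain ⟨V, hxV, ⟨H⟩⟩ := exists_homotopy_zero (α ≫ CochainComplex.mappingCone.inr f) hE a hEa
    (isZero_homology_mappingCone f a hf hfa) x
  have H' : Homotopy ((DCoh.restrictCx V).map α ≫
      CochainComplex.mappingCone.inr ((DCoh.restrictCx V).map f)) 0 := by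
    have e1 : (DCoh.restrictCx V).map α ≫
        CochainComplex.mappingCone.inr ((DCoh.restrictCx V).map f) =
        (DCoh.restrictCx V).map (α ≫ CochainComplex.mappingCone.inr f) ≫
          (CochainComplex.mappingCone.mapHomologicalComplexIso f
            (Scheme.Modules.restrictFunctor V.ι)).hom := by
      rw [Functor.map_comp, Category.assoc, CochainComplex.mappingCone.map_inr]
    refine (Homotopy.ofEq e1).trans ((H.compRight _).trans (Homotopy.ofEq ?_))
    rw [zero_comp]
  obtain ⟨β, hβ⟩ := exists_lift_of_homotopy_inr _ _ H'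
  exact ⟨V, β, hxV, hβ⟩

end Scheme

end Groth.Agent.R2.H4.LocHtpy
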