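import Mathlib
import Groth.Agent.R2.H4LocLift
set_option backward.isDefEq.respectTransparency.types false

/-!
# Maps in the derived category out of strictly perfect complexes are locally maps of complexes
(helper4, round 2)
-/

set_option autoImplicit false
universe u
open CategoryTheory CategoryTheory.Limits AlgebraicGeometry HomologicalComplex

attribute [local instance] HasDerivedCategory.standard

namespace Groth.Agent.R2.H4.LocHtpy

section General

variable {A B : Type*} [Category A] [Category B] [Abelian A] [Abelian B]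
  [HasDerivedCategory A] [HasDerivedCategory B]
  (G : A ⥤ B) [G.Additive] [PreservesFiniteLimits G] [PreservesFiniteColimits G]

/-- the image under an exact functor of a right fraction `Q(s)⁻¹ ≫ Q(g)`, when `Q(G s)` has an
inverse of the form `Q(β₀)`. -/
theorem mapDerivedCategory_map_fraction {E E' F : CochainComplex A ℤ} (s : E' ⟶ E)
    [IsIso (DerivedCategory.Q.map s)] (g : E' ⟶ F)
    (β₀ : (G.mapHomologicalComplex (ComplexShape.up ℤ)).obj E ⟶
      (G.mapHomologicalComplex (ComplexShape.up ℤ)).obj E')
    (H : Homotopy (β₀ ≫ (G.mapHomologicalComplex (ComplexShape.up ℤ)).map s)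
      ((G.mapHomologicalComplex (ComplexShape.up ℤ)).map (𝟙 E))) :
    G.mapDerivedCategory.map (inv (DerivedCategory.Q.map s) ≫ DerivedCategory.Q.map g) =
      G.mapDerivedCategoryFactors.hom.app E ≫
        DerivedCategory.Q.map (β₀ ≫ (G.mapHomologicalComplex (ComplexShape.up ℤ)).map g) ≫
        G.mapDerivedCategoryFactors.inv.app F := by
  have hs := G.mapDerivedCategoryFactors_hom_naturality s
  have hg := G.mapDerivedCategoryFactors_hom_naturality g
  have hβ : DerivedCategory.Q.map β₀ ≫
      DerivedCategory.Q.map ((G.mapHomologicalComplex (ComplexShape.up ℤ)).map s) = 𝟙 _ := by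
    rw [← Functor.map_comp, DerivedCategory.Q_map_eq_of_homotopy _ H,
      CategoryTheory.Functor.map_id, CategoryTheory.Functor.map_id]
  rw [Functor.map_comp, Functor.map_inv, IsIso.inv_comp_eq]
  have hg' : G.mapDerivedCategory.map (DerivedCategory.Q.map g) =
      G.mapDerivedCategoryFactors.hom.app E' ≫
        DerivedCategory.Q.map ((G.mapHomologicalComplex (ComplexShape.up ℤ)).map g) ≫
        G.mapDerivedCategoryFactors.inv.app F := by
    have h1 := congrArg (· ≫ G.mapDerivedCategoryFactors.inv.app F) hg
    simp only [Category.assoc, Iso.hom_inv_id_app] at h1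
    rw [← h1]
    exact (Category.comp_id _).symm
  rw [hg', reassoc_of% hs, Functor.map_comp, ← Category.assoc (DerivedCategory.Q.map _),
    ← Category.assoc (DerivedCategory.Q.map _)]
  -- `Q(s|) ≫ Q(β₀) = 𝟙` as `Q(s|)` is an isomorphism with left inverse `Q(β₀)`
  haveI : IsIso (DerivedCategory.Q.map ((G.mapHomologicalComplex (ComplexShape.up ℤ)).map s)) := by
    have : DerivedCategory.Q.map ((G.mapHomologicalComplex (ComplexShape.up ℤ)).map s) =
        G.mapDerivedCategoryFactors.inv.app E' ≫
          G.mapDerivedCategory.map (DerivedCategory.Q.map s) ≫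
          G.mapDerivedCategoryFactors.hom.app E := by
      rw [hs, Iso.inv_hom_id_app_assoc]
    rw [this]
    infer_instance
  have hβ' : DerivedCategory.Q.map ((G.mapHomologicalComplex (ComplexShape.up ℤ)).map s) ≫
      DerivedCategory.Q.map β₀ = 𝟙 _ := by
    rw [← cancel_mono (DerivedCategory.Q.map
      ((G.mapHomologicalComplex (ComplexShape.up ℤ)).map s)), Category.assoc, hβ,
      Category.comp_id, Category.id_comp]
  rw [hβ', Category.id_comp]

end General

section Scheme

variable {X : Scheme.{u}}

/-- S0944. -/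
theorem exists_local_chain_map {E F : CochainComplex X.Modules ℤ}
    (hE : DCoh.IsStrictlyPerfect E) (α : DCoh.toD X E ⟶ DCoh.toD X F) (x : X) :
    ∃ V : X.Opens, x ∈ V ∧ ∀ [PreservesFiniteLimits (Scheme.Modules.restrictFunctor V.ι)],
      ∃ β : (DCoh.restrictCx V).obj E ⟶ (DCoh.restrictCx V).obj F,
        (DCoh.restrictD V.ι).map α =
          (Scheme.Modules.restrictFunctor V.ι).mapDerivedCategoryFactors.hom.app E ≫
            DerivedCategory.Q.map β ≫
            (Scheme.Modules.restrictFunctor V.ι).mapDerivedCategoryFactors.inv.app F := by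
  obtain ⟨E', s, hs, g, rfl⟩ := DerivedCategory.right_fac α
  have hE' := hE
  obtain ⟨⟨a, b, hv⟩, -⟩ := hE'
  have hq : QuasiIso s := (DerivedCategory.isIso_Q_map_iff_quasiIso (C := X.Modules) s).1 hs
  obtain ⟨V, β₀, hxV, ⟨H⟩⟩ := exists_local_lift_homotopy (𝟙 E) s hE a
    (fun j hj => hv j (Or.inl hj))
    (fun j _ => inferInstance) inferInstance x
  refine ⟨V, hxV, ?_⟩
  intro inst
  exact ⟨β₀ ≫ (DCoh.restrictCx V).map g,
    mapDerivedCategory_map_fraction (Scheme.Modules.restrictFunctor V.ι) s g β₀ H⟩

end Scheme

end Groth.Agent.R2.H4.LocHtpy
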