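import Mathlib
import Groth.Prelude.Def_CxOX
import Groth.Agent.R2.H4Conn
import Groth.Agent.R2.H4LocRep
import Groth.Agent.Lib.Helper1FLF1
set_option backward.isDefEq.respectTransparency.types false

/-!
# Perfect and pseudo-coherent objects of `D(O_X)`: local representability toolkit
(helper4, round 2)

* `SPRep K`      : `K` is isomorphic to a strictly perfect complex;
* `SPApprox m K` : `K` receives an `m`-connected map from a strictly perfect complex;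
* `Loc Φ K`      : `Φ` holds for the restrictions of `K` to the members of an open covering.
`DCoh.IsPerfect K ↔ Loc SPRep K` and `DCoh.IsPseudoCoherentD m K ↔ Loc (SPApprox m) K`.
-/

set_option autoImplicit false
universe u
open CategoryTheory CategoryTheory.Limits AlgebraicGeometry HomologicalComplex
  CategoryTheory.Pretriangulated

attribute [local instance] HasDerivedCategory.standard

namespace Groth.Agent.R2.H4.Perf

open DerivedCategory Groth.Agent.R2.H4.Conn Groth.Agent.R2.H4.LocHtpy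

section Restrict

variable {U' U X : Scheme.{u}}

/-- restriction along a composite of open immersions. -/
noncomputable def restrictDComp (j' : U' ⟶ U) (j : U ⟶ X) [IsOpenImmersion j']
    [IsOpenImmersion j] :
    DCoh.restrictD (j' ≫ j) ≅ DCoh.restrictD j ⋙ DCoh.restrictD j' :=
  mapDerivedCategoryCongr (Scheme.Modules.restrictFunctorComp j' j) ≪≫
    mapDerivedCategoryComp _ _

/-- restriction along equal open immersions. -/
noncomputable def restrictDCongr {j j' : U ⟶ X} (h : j = j') [IsOpenImmersion j]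
    [IsOpenImmersion j'] : DCoh.restrictD j ≅ DCoh.restrictD j' :=
  mapDerivedCategoryCongr (Scheme.Modules.restrictFunctorCongr h)

/-- restriction of the image of a complex. -/
noncomputable def restrictDQIso (j : U ⟶ X) [IsOpenImmersion j]
    (E : CochainComplex X.Modules ℤ) :
    (DCoh.restrictD j).obj (Q.obj E) ≅ Q.obj ((resC j).obj E) :=
  (Scheme.Modules.restrictFunctor j).mapDerivedCategoryFactors.app E

lemma isStrictlyPerfect_resC (j : U ⟶ X) [IsOpenImmersion j] {E : CochainComplex X.Modules ℤ}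
    (hE : DCoh.IsStrictlyPerfect E) : DCoh.IsStrictlyPerfect ((resC j).obj E) := by
  obtain ⟨⟨a, b, hv⟩, hfl⟩ := hE
  exact ⟨⟨a, b, fun i hi => (Scheme.Modules.restrictFunctor j).map_isZero (hv i hi)⟩,
    fun i => isFinLocFree_restrict j _ (hfl i)⟩

end Restrict

section FLF

variable {X : Scheme.{u}}

open Groth.Agent.Lib.Helper1.FLF

attribute [local instance] Abelian.hasFiniteBiproducts

lemma isFinLocFree_biprod (M N : X.Modules) (hM : FlatMod.IsFinLocFree M)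
    (hN : FlatMod.IsFinLocFree N) : FlatMod.IsFinLocFree (M ⊞ N) := by
  let f : WalkingPair → X.Modules := fun j => WalkingPair.casesOn j M N
  have hf : ∀ j, FlatMod.IsFinLocFree (f j) := by
    rintro ⟨⟩
    · exact hM
    · exact hN
  have h := isFinLocFree_biproduct f hf
  refine Groth.Agent.R2.H4.LocHtpy.isFinLocFree_of_iso ?_ h
  have e1 : (∐ f) ≅ M ⨿ N := Iso.refl _
  exact biproduct.isoCoproduct f ≪≫ e1 ≪≫ (biprod.isoCoprod M N).symm

lemma isFinLocFree_of_isZero (M : X.Modules) (hM : IsZero M) : FlatMod.IsFinLocFree M := by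
  let f : PEmpty.{1} → X.Modules := fun j => PEmpty.elim j
  have h := isFinLocFree_biproduct f (fun j => PEmpty.elim j)
  refine Groth.Agent.R2.H4.LocHtpy.isFinLocFree_of_iso ?_ h
  refine IsZero.iso ?_ hM
  rw [IsZero.iff_id_eq_zero]
  exact biproduct.hom_ext _ _ (fun j => PEmpty.elim j)

lemma isStrictlyPerfect_sigmaGE {E : CochainComplex X.Modules ℤ} (hE : DCoh.IsStrictlyPerfect E)
    (n : ℤ) : DCoh.IsStrictlyPerfect (sigmaGE E n) := by
  obtain ⟨⟨a, b, hv⟩, hfl⟩ := hE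
  refine ⟨⟨a, b, fun i hi => isZero_sigmaGE_X' E n i (hv i hi)⟩, fun i => ?_⟩
  rcases sigmaGE_X_cases E n i with h | ⟨⟨e⟩⟩
  · exact isFinLocFree_of_isZero _ h
  · exact Groth.Agent.R2.H4.LocHtpy.isFinLocFree_of_iso e.symm (hfl i)

lemma isStrictlyPerfect_mappingCone {E F : CochainComplex X.Modules ℤ} (β : E ⟶ F)
    (hE : DCoh.IsStrictlyPerfect E) (hF : DCoh.IsStrictlyPerfect F) :
    DCoh.IsStrictlyPerfect (CochainComplex.mappingCone β) := by
  obtain ⟨⟨a, b, hv⟩, hfl⟩ := hE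
  obtain ⟨⟨a', b', hv'⟩, hfl'⟩ := hF
  refine ⟨⟨min a a' - 1, max b b', fun i hi => ?_⟩, fun i => ?_⟩
  · rw [CochainComplex.mappingCone.isZero_X_iff]
    have h1 := min_le_left a a'
    have h2 := min_le_right a a'
    have h3 := le_max_left b b'
    have h4 := le_max_right b b'
    constructor
    · exact hv _ (by omega)
    · exact hv' _ (by omega)
  · have := HomologicalComplex.HasHomotopyCofiber.hasBinaryBiproduct β i (i + 1) rfl
    exact Groth.Agent.R2.H4.LocHtpy.isFinLocFree_of_iso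
      (HomologicalComplex.homotopyCofiber.XIsoBiprod β i (i + 1) rfl).symm
      (isFinLocFree_biprod _ _ (hfl _) (hfl' _))

end FLF

section Rep

variable {X : Scheme.{u}}

/-- `K` is isomorphic to (the image of) a strictly perfect complex. -/
def SPRep (K : DCoh.D X) : Prop :=
  ∃ E : CochainComplex X.Modules ℤ, DCoh.IsStrictlyPerfect E ∧ Nonempty (Q.obj E ≅ K)

/-- `K` is isomorphic to a strictly perfect complex vanishing in degrees `< a`. -/
def SPRepGE (a : ℤ) (K : DCoh.D X) : Prop :=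
  ∃ E : CochainComplex X.Modules ℤ, DCoh.IsStrictlyPerfect E ∧
    (∀ i : ℤ, i < a → IsZero (E.X i)) ∧ Nonempty (Q.obj E ≅ K)

/-- `K` receives an `m`-connected map from a strictly perfect complex. -/
def SPApprox (m : ℤ) (K : DCoh.D X) : Prop :=
  ∃ (P : DCoh.D X) (α : P ⟶ K), SPRep P ∧ Conn m α

lemma SPRepGE.spRep {a : ℤ} {K : DCoh.D X} (h : SPRepGE a K) : SPRep K := by
  obtain ⟨E, hE, -, e⟩ := h
  exact ⟨E, hE, e⟩

lemma SPRep.of_iso {K K' : DCoh.D X} (e : K ≅ K') (h : SPRep K) : SPRep K' := by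
  obtain ⟨E, hE, ⟨e'⟩⟩ := h
  exact ⟨E, hE, ⟨e' ≪≫ e⟩⟩

lemma SPRepGE.of_iso {a : ℤ} {K K' : DCoh.D X} (e : K ≅ K') (h : SPRepGE a K) :
    SPRepGE a K' := by
  obtain ⟨E, hE, ha, ⟨e'⟩⟩ := h
  exact ⟨E, hE, ha, ⟨e' ≪≫ e⟩⟩

lemma SPRep.restrict {U : Scheme.{u}} (j : U ⟶ X) [IsOpenImmersion j] {K : DCoh.D X}
    (h : SPRep K) : SPRep ((DCoh.restrictD j).obj K) := by
  obtain ⟨E, hE, ⟨e⟩⟩ := h
  exact ⟨(resC j).obj E, isStrictlyPerfect_resC j hE,
    ⟨(restrictDQIso j E).symm ≪≫ (DCoh.restrictD j).mapIso e⟩⟩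

lemma SPRepGE.restrict {U : Scheme.{u}} (j : U ⟶ X) [IsOpenImmersion j] {a : ℤ} {K : DCoh.D X}
    (h : SPRepGE a K) : SPRepGE a ((DCoh.restrictD j).obj K) := by
  obtain ⟨E, hE, ha, ⟨e⟩⟩ := h
  exact ⟨(resC j).obj E, isStrictlyPerfect_resC j hE,
    fun i hi => (Scheme.Modules.restrictFunctor j).map_isZero (ha i hi),
    ⟨(restrictDQIso j E).symm ≪≫ (DCoh.restrictD j).mapIso e⟩⟩

lemma isStrictlyPerfect_shift {E : CochainComplex X.Modules ℤ} (hE : DCoh.IsStrictlyPerfect E)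
    (n : ℤ) : DCoh.IsStrictlyPerfect (E⟦n⟧) := by
  obtain ⟨⟨a, b, hv⟩, hfl⟩ := hE
  refine ⟨⟨a - n, b - n, fun i hi => hv (i + n) (by omega)⟩, fun i => hfl (i + n)⟩

lemma SPRep.shift {K : DCoh.D X} (h : SPRep K) (n : ℤ) : SPRep (K⟦n⟧) := by
  obtain ⟨E, hE, ⟨e⟩⟩ := h
  exact ⟨E⟦n⟧, isStrictlyPerfect_shift hE n,
    ⟨(Q.commShiftIso n).app E ≪≫ (shiftFunctor _ n).mapIso e⟩⟩

lemma SPApprox.of_iso {m : ℤ} {K K' : DCoh.D X} (e : K ≅ K') (h : SPApprox m K) :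
    SPApprox m K' := by
  obtain ⟨P, α, hP, hα⟩ := h
  exact ⟨P, α ≫ e.hom, hP, hα.comp (Conn.of_isIso m e.hom)⟩

lemma SPApprox.mono {m m' : ℤ} (hm : m ≤ m') {K : DCoh.D X} (h : SPApprox m K) :
    SPApprox m' K := by
  obtain ⟨P, α, hP, hα⟩ := h
  exact ⟨P, α, hP, hα.mono hm⟩

lemma SPApprox.restrict {U : Scheme.{u}} (j : U ⟶ X) [IsOpenImmersion j] {m : ℤ} {K : DCoh.D X}
    (h : SPApprox m K) : SPApprox m ((DCoh.restrictD j).obj K) := by
  obtain ⟨P, α, hP, hα⟩ := h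
  exact ⟨_, (DCoh.restrictD j).map α, hP.restrict j, conn_map _ α m hα⟩

lemma SPApprox.shift {m : ℤ} {K : DCoh.D X} (h : SPApprox m K) (n m' : ℤ) (hm' : m' + n = m) :
    SPApprox m' (K⟦n⟧) := by
  obtain ⟨P, α, hP, hα⟩ := h
  exact ⟨P⟦n⟧, α⟦n⟧', hP.shift n, hα.shift n m' hm'⟩

lemma SPRep.spApprox {K : DCoh.D X} (h : SPRep K) (m : ℤ) : SPApprox m K :=
  ⟨K, 𝟙 K, h, Conn.of_isIso m _⟩

/-- brutal truncation of an approximation. -/
lemma SPApprox.exists_GE {m : ℤ} {K : DCoh.D X} (h : SPApprox m K) :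
    ∃ (P : DCoh.D X) (α : P ⟶ K), SPRepGE m P ∧ Conn m α := by
  obtain ⟨P, α, ⟨E, hE, ⟨e⟩⟩, hα⟩ := h
  refine ⟨Q.obj (sigmaGE E m), Q.map (sigmaGEι E m) ≫ e.hom ≫ α,
    ⟨sigmaGE E m, isStrictlyPerfect_sigmaGE hE m, fun i hi => isZero_sigmaGE_X E m i hi,
      ⟨Iso.refl _⟩⟩, ?_⟩
  exact (conn_sigmaGEι E m).comp ((Conn.of_isIso m e.hom).comp hα)

end Rep

section Loc

/-- a predicate on objects of the derived categories `D(O_U)` which is invariant under
isomorphisms and stable under restriction to open subschemes. -/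
structure IsLocalPred (Φ : ∀ (U : Scheme.{u}), DCoh.D U → Prop) : Prop where
  of_iso : ∀ {U : Scheme.{u}} {K K' : DCoh.D U}, (K ≅ K') → Φ U K → Φ U K'
  restrict : ∀ {U' U : Scheme.{u}} (j : U' ⟶ U) [IsOpenImmersion j] (K : DCoh.D U),
    Φ U K → Φ U' ((DCoh.restrictD j).obj K)

/-- `Φ` holds for `K` locally around every point. -/
def Loc (Φ : ∀ (U : Scheme.{u}), DCoh.D U → Prop) {X : Scheme.{u}} (K : DCoh.D X) : Prop :=
  ∀ x : X, ∃ (U : Scheme.{u}) (j : U ⟶ X) (_ : IsOpenImmersion j) (y : U), j y = x ∧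
    Φ U ((DCoh.restrictD j).obj K)

variable {Φ : ∀ (U : Scheme.{u}), DCoh.D U → Prop}

lemma IsLocalPred.of_fac (hΦ : IsLocalPred Φ) {U₁ U X : Scheme.{u}} (k : U₁ ⟶ U) (j : U ⟶ X)
    (j₁ : U₁ ⟶ X) [IsOpenImmersion k] [IsOpenImmersion j] [IsOpenImmersion j₁]
    (fac : k ≫ j = j₁) (K : DCoh.D X) (h : Φ U ((DCoh.restrictD j).obj K)) :
    Φ U₁ ((DCoh.restrictD j₁).obj K) :=
  hΦ.of_iso (((restrictDComp k j).app K).symm ≪≫ (restrictDCongr fac).app K)
    (hΦ.restrict k _ h)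

/-- the local property can be tested on open subsets. -/
lemma loc_iff_opens (hΦ : IsLocalPred Φ) {X : Scheme.{u}} (K : DCoh.D X) :
    Loc Φ K ↔ ∀ x : X, ∃ V : X.Opens, x ∈ V ∧ Φ V ((DCoh.restrictD V.ι).obj K) := by
  constructor
  · intro h x
    obtain ⟨U, j, hj, y, hy, hK⟩ := h x
    refine ⟨j.opensRange, ⟨y, hy⟩, ?_⟩
    let e₀ : (j.opensRange : Scheme.{u}) ≅ U :=
      IsOpenImmersion.isoOfRangeEq j.opensRange.ι j (by simp)
    have fac : e₀.hom ≫ j = j.opensRange.ι := IsOpenImmersion.isoOfRangeEq_hom_fac _ _ _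
    exact hΦ.of_fac e₀.hom j _ fac K hK
  · intro h x
    obtain ⟨V, hx, hK⟩ := h x
    exact ⟨V, V.ι, inferInstance, ⟨x, hx⟩, rfl, hK⟩

lemma IsLocalPred.of_le (hΦ : IsLocalPred Φ) {X : Scheme.{u}} {V' V : X.Opens} (hV : V' ≤ V)
    (K : DCoh.D X) (h : Φ V ((DCoh.restrictD V.ι).obj K)) :
    Φ V' ((DCoh.restrictD V'.ι).obj K) :=
  hΦ.of_fac (X.homOfLE hV) V.ι V'.ι (X.homOfLE_ι hV) K h

lemma Loc.of_iso (hΦ : IsLocalPred Φ) {X : Scheme.{u}} {K K' : DCoh.D X} (e : K ≅ K')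
    (h : Loc Φ K) : Loc Φ K' := by
  intro x
  obtain ⟨U, j, hj, y, hy, hK⟩ := h x
  exact ⟨U, j, hj, y, hy, hΦ.of_iso ((DCoh.restrictD j).mapIso e) hK⟩

/-- a local statement on the members of a covering gives a local statement. -/
lemma loc_of_loc_restrict (hΦ : IsLocalPred Φ) {X : Scheme.{u}} (K : DCoh.D X)
    (h : ∀ x : X, ∃ (U : Scheme.{u}) (j : U ⟶ X) (_ : IsOpenImmersion j) (y : U), j y = x ∧
      ∃ (U' : Scheme.{u}) (j' : U' ⟶ U) (_ : IsOpenImmersion j') (y' : U'), j' y' = y ∧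
        Φ U' ((DCoh.restrictD j').obj ((DCoh.restrictD j).obj K))) : Loc Φ K := by
  intro x
  obtain ⟨U, j, hj, y, hy, U', j', hj', y', hy', hK⟩ := h x
  refine ⟨U', j' ≫ j, inferInstance, y', ?_, hΦ.of_iso ((restrictDComp j' j).app K).symm hK⟩
  rw [Scheme.Hom.comp_base, TopCat.comp_app, hy', hy]

lemma isLocalPred_spRep : IsLocalPred (fun U (K : DCoh.D U) => SPRep K) :=
  ⟨fun e h => h.of_iso e, fun j _ _ h => h.restrict j⟩

lemma isLocalPred_spApprox (m : ℤ) : IsLocalPred (fun U (K : DCoh.D U) => SPApprox m K) :=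
  ⟨fun e h => h.of_iso e, fun j _ _ h => h.restrict j⟩

end Loc

section Iff

variable {X : Scheme.{u}}

theorem isPerfect_iff (K : DCoh.D X) :
    DCoh.IsPerfect K ↔ Loc (fun U (K : DCoh.D U) => SPRep K) K := by
  rw [loc_iff_opens isLocalPred_spRep]
  constructor
  · intro h x
    obtain ⟨V, hx, hV⟩ := h x
    refine ⟨V, hx, ?_⟩
    obtain ⟨E, hE, ⟨e⟩⟩ := hV (Q.objPreimage K) ⟨Q.objObjPreimageIso K⟩
    exact ⟨E, hE, ⟨e.symm ≪≫ (restrictDQIso V.ι _).symm ≪≫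
      (DCoh.restrictD V.ι).mapIso (Q.objObjPreimageIso K)⟩⟩
  · intro h x
    obtain ⟨V, hx, E, hE, ⟨e⟩⟩ := h x
    refine ⟨V, hx, fun F ⟨eF⟩ => ⟨E, hE, ⟨?_⟩⟩⟩
    exact (restrictDQIso V.ι F).symm ≪≫ (DCoh.restrictD V.ι).mapIso eF ≪≫ e.symm

theorem isPseudoCoherentD_iff (m : ℤ) (K : DCoh.D X) :
    DCoh.IsPseudoCoherentD m K ↔ Loc (fun U (K : DCoh.D U) => SPApprox m K) K := by
  rw [loc_iff_opens (isLocalPred_spApprox m)]
  constructor
  · intro h x
    obtain ⟨V, hx, hV⟩ := h x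
    refine ⟨V, hx, ?_⟩
    obtain ⟨E, α, hE, h1, h2⟩ := hV (Q.objPreimage K) ⟨Q.objObjPreimageIso K⟩
    have h0 : SPApprox m (Q.obj ((DCoh.restrictCx V).obj (Q.objPreimage K))) :=
      ⟨Q.obj E, α, ⟨E, hE, ⟨Iso.refl _⟩⟩, h1, h2⟩
    exact h0.of_iso ((restrictDQIso V.ι _).symm ≪≫
      (DCoh.restrictD V.ι).mapIso (Q.objObjPreimageIso K))
  · intro h x
    obtain ⟨V, hx, hV⟩ := h x
    refine ⟨V, hx, fun F ⟨eF⟩ => ?_⟩
    obtain ⟨P, α, ⟨E, hE, ⟨e⟩⟩, hα⟩ :=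
      hV.of_iso ((DCoh.restrictD V.ι).mapIso eF.symm ≪≫ restrictDQIso V.ι F)
    have hc := (Conn.of_isIso m e.hom).comp hα
    exact ⟨E, e.hom ≫ α, hE, hc.1, hc.2⟩

end Iff

end Groth.Agent.R2.H4.Perf
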