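import Mathlib
import Groth.Agent.R2.H4Perf
set_option backward.isDefEq.respectTransparency.types false

/-!
# Perfect and pseudo-coherent objects of `D(O_X)` in distinguished triangles (helper4, round 2)
-/

set_option autoImplicit false
universe u
open CategoryTheory CategoryTheory.Limits AlgebraicGeometry HomologicalComplex
  CategoryTheory.Pretriangulated

attribute [local instance] HasDerivedCategory.standard

namespace Groth.Agent.R2.H4.Perf

open DerivedCategory Groth.Agent.R2.H4.Conn Groth.Agent.R2.H4.LocHtpy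

section Local

variable {U : Scheme.{u}}

/-- a map from a strictly perfect complex placed in degrees `≥ a` to an object of `D^{≤ a-1}`
vanishes locally. -/
theorem exists_restrict_map_eq_zero {P Y : DCoh.D U} (a : ℤ) (hP : SPRepGE a P)
    (hY : Y.IsLE (a - 1)) (φ : P ⟶ Y) (y : U) :
    ∃ (U' : Scheme.{u}) (j' : U' ⟶ U) (_ : IsOpenImmersion j') (y' : U'), j' y' = y ∧
      (DCoh.restrictD j').map φ = 0 := by
  obtain ⟨E, hE, ha, ⟨e⟩⟩ := hP
  let F := Q.objPreimage Y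
  let eY : Q.obj F ≅ Y := Q.objObjPreimageIso Y
  let φ' : DCoh.toD U E ⟶ DCoh.toD U F := e.hom ≫ φ ≫ eY.inv
  obtain ⟨V, hyV, hV⟩ := exists_local_chain_map hE φ' y
  obtain ⟨β, hβ⟩ := hV
  have hF : ∀ i : ℤ, a ≤ i → IsZero (F.homology i) := by
    have h1 : (Q.obj F).IsLE (a - 1) := DerivedCategory.TStructure.t.isLE_of_iso eY.symm (a - 1)
    rw [DerivedCategory.isLE_Q_obj_iff, CochainComplex.isLE_iff] at h1
    intro i hi
    exact (exactAt_iff_isZero_homology F i).1 (h1 i (by omega))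
  have hF' : ∀ i : ℤ, a ≤ i → IsZero (((DCoh.restrictCx V).obj F).homology i) :=
    fun i hi => isZero_homology_map _ F i (hF i hi)
  obtain ⟨W, hyW, ⟨H⟩⟩ := exists_homotopy_zero β (isStrictlyPerfect_resC V.ι hE) a
    (fun i hi => (Scheme.Modules.restrictFunctor V.ι).map_isZero (ha i hi)) hF' ⟨y, hyV⟩
  refine ⟨W, W.ι ≫ V.ι, inferInstance, ⟨⟨y, hyV⟩, hyW⟩, ?_, ?_⟩
  · rw [Scheme.Hom.comp_base, TopCat.comp_app]
    rfl
  · have h1 : (DCoh.restrictD W.ι).map ((DCoh.restrictD V.ι).map φ') = 0 := by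
      rw [hβ, Functor.map_comp, Functor.map_comp]
      have h0 : (DCoh.restrictD W.ι).map (Q.map β) = 0 := by
        have nat := (Scheme.Modules.restrictFunctor W.ι).mapDerivedCategoryFactors_hom_naturality β
        have hz : Q.map ((DCoh.restrictCx W).map β) = 0 := by
          rw [DerivedCategory.Q_map_eq_of_homotopy _ H, Functor.map_zero]
        rw [← cancel_mono ((Scheme.Modules.restrictFunctor W.ι).mapDerivedCategoryFactors.hom.app _),
          nat, hz, comp_zero, zero_comp]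
      rw [h0, zero_comp, comp_zero]
    have h2 : (DCoh.restrictD (W.ι ≫ V.ι)).map φ' = 0 := by
      have nat := (restrictDComp W.ι V.ι).hom.naturality φ'
      rw [← cancel_mono ((restrictDComp W.ι V.ι).hom.app _), nat, Functor.comp_map, h1,
        comp_zero, zero_comp]
    have h3 : φ = e.inv ≫ φ' ≫ eY.hom := by simp [φ']
    rw [h3, Functor.map_comp, Functor.map_comp, h2, zero_comp, comp_zero]

/-- the cone of a map between strictly perfect complexes is locally strictly perfect. -/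
theorem exists_spRep_obj₃ (T : Triangle (DCoh.D U)) (hT : T ∈ distTriang _)
    (h₁ : SPRep T.obj₁) (h₂ : SPRep T.obj₂) (y : U) :
    ∃ (U' : Scheme.{u}) (j' : U' ⟶ U) (_ : IsOpenImmersion j') (y' : U'), j' y' = y ∧
      SPRep ((DCoh.restrictD j').obj T.obj₃) := by
  obtain ⟨E₁, hE₁, ⟨e₁⟩⟩ := h₁
  obtain ⟨E₂, hE₂, ⟨e₂⟩⟩ := h₂
  let φ : DCoh.toD U E₁ ⟶ DCoh.toD U E₂ := e₁.hom ≫ T.mor₁ ≫ e₂.inv
  obtain ⟨V, hyV, hV⟩ := exists_local_chain_map hE₁ φ y
  obtain ⟨β, hβ⟩ := hV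
  refine ⟨V, V.ι, inferInstance, ⟨y, hyV⟩, rfl, ?_⟩
  have hT' := (DCoh.restrictD V.ι).map_distinguished _ hT
  have hC := DerivedCategory.mappingCone_triangle_distinguished β
  let a₁ : Q.obj ((resC V.ι).obj E₁) ≅ (DCoh.restrictD V.ι).obj T.obj₁ :=
    (restrictDQIso V.ι E₁).symm ≪≫ (DCoh.restrictD V.ι).mapIso e₁
  let a₂ : Q.obj ((resC V.ι).obj E₂) ≅ (DCoh.restrictD V.ι).obj T.obj₂ :=
    (restrictDQIso V.ι E₂).symm ≪≫ (DCoh.restrictD V.ι).mapIso e₂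
  have comm : (Q.mapTriangle.obj (CochainComplex.mappingCone.triangle β)).mor₁ ≫ a₂.hom =
      a₁.hom ≫ ((DCoh.restrictD V.ι).mapTriangle.obj T).mor₁ := by
    show Q.map β ≫ (Scheme.Modules.restrictFunctor V.ι).mapDerivedCategoryFactors.inv.app E₂ ≫
        (DCoh.restrictD V.ι).map e₂.hom =
      ((Scheme.Modules.restrictFunctor V.ι).mapDerivedCategoryFactors.inv.app E₁ ≫
        (DCoh.restrictD V.ι).map e₁.hom) ≫ (DCoh.restrictD V.ι).map T.mor₁
    have h1 : (DCoh.restrictD V.ι).map e₁.hom ≫ (DCoh.restrictD V.ι).map T.mor₁ =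
        (DCoh.restrictD V.ι).map φ ≫ (DCoh.restrictD V.ι).map e₂.hom := by
      rw [← Functor.map_comp, ← Functor.map_comp]
      congr 1
      simp [φ]
    rw [Category.assoc, h1, hβ]
    simp
  have e₃ : Q.obj (CochainComplex.mappingCone β) ≅ (DCoh.restrictD V.ι).obj T.obj₃ :=
    Triangle.π₃.mapIso (isoTriangleOfIso₁₂ _ _ hC hT' a₁ a₂ comm)
  exact ⟨_, isStrictlyPerfect_mappingCone β (isStrictlyPerfect_resC V.ι hE₁)
    (isStrictlyPerfect_resC V.ι hE₂), ⟨e₃⟩⟩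

/-- local form of the pseudo-coherence of the cone. -/
theorem exists_spApprox_obj₃ (T : Triangle (DCoh.D U)) (hT : T ∈ distTriang _) (m : ℤ)
    (h₁ : SPApprox (m + 1) T.obj₁) (h₂ : SPApprox m T.obj₂) (y : U) :
    ∃ (U' : Scheme.{u}) (j' : U' ⟶ U) (_ : IsOpenImmersion j') (y' : U'), j' y' = y ∧
      SPApprox m ((DCoh.restrictD j').obj T.obj₃) := by
  obtain ⟨P₁, α, hP₁, hα⟩ := h₁.exists_GE
  obtain ⟨P₂, β, hP₂, hβ⟩ := h₂
  obtain ⟨Cβ, v, w, hC⟩ := distinguished_cocone_triangle β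
  have hCle : Cβ.IsLE (m - 1) := (conn_iff_of_distTriang _ hC m).1 hβ
  have hCle' : Cβ.IsLE (m + 1 - 1) :=
    DerivedCategory.TStructure.t.isLE_of_le Cβ (m - 1) (m + 1 - 1) (by omega)
  obtain ⟨U₁, j₁, hj₁, y₁, hy₁, hz⟩ :=
    exists_restrict_map_eq_zero (m + 1) hP₁ hCle' ((α ≫ T.mor₁) ≫ v) y
  have hC₁ := (DCoh.restrictD j₁).map_distinguished _ hC
  obtain ⟨γ, hγ⟩ := Triangle.coyoneda_exact₂ _ hC₁ ((DCoh.restrictD j₁).map (α ≫ T.mor₁)) (by
    show (DCoh.restrictD j₁).map (α ≫ T.mor₁) ≫ (DCoh.restrictD j₁).map v = 0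
    rw [← Functor.map_comp]
    exact hz)
  obtain ⟨P₃, v', w', h3⟩ := distinguished_cocone_triangle γ
  have hT₁ := (DCoh.restrictD j₁).map_distinguished _ hT
  obtain ⟨u, hu⟩ := exists_conn_of_square ((DCoh.restrictD j₁).mapTriangle.obj T) hT₁ m
    ((DCoh.restrictD j₁).map α) ((DCoh.restrictD j₁).map β)
    (conn_map _ α (m + 1) hα) (conn_map _ β m hβ) γ (by
      show γ ≫ (DCoh.restrictD j₁).map β = (DCoh.restrictD j₁).map α ≫ (DCoh.restrictD j₁).map T.mor₁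
      rw [← Functor.map_comp]
      exact hγ.symm) v' w' h3
  obtain ⟨U₂, j₂, hj₂, y₂, hy₂, hP₃⟩ :=
    exists_spRep_obj₃ _ h3 (hP₁.spRep.restrict j₁) (hP₂.restrict j₁) y₁
  refine ⟨U₂, j₂ ≫ j₁, inferInstance, y₂, ?_, ?_⟩
  · rw [Scheme.Hom.comp_base, TopCat.comp_app, hy₂, hy₁]
  · have h4 : SPApprox m ((DCoh.restrictD j₂).obj ((DCoh.restrictD j₁).obj T.obj₃)) :=
      ⟨_, (DCoh.restrictD j₂).map u, hP₃, conn_map _ u m hu⟩
    exact h4.of_iso ((restrictDComp j₂ j₁).app T.obj₃).symm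

end Local

section Global

variable {X : Scheme.{u}}

/-- from a local lemma with two inputs to a statement about local properties. -/
lemma loc_of_local_lemma {Φ₁ Φ₂ Φ₃ : ∀ (U : Scheme.{u}), DCoh.D U → Prop}
    (h₁ : IsLocalPred Φ₁) (h₂ : IsLocalPred Φ₂) (h₃ : IsLocalPred Φ₃) (K₁ K₂ K₃ : DCoh.D X)
    (H : ∀ (V : X.Opens), Φ₁ V ((DCoh.restrictD V.ι).obj K₁) →
      Φ₂ V ((DCoh.restrictD V.ι).obj K₂) → ∀ y : V,
        ∃ (U' : Scheme.{u}) (j' : U' ⟶ V) (_ : IsOpenImmersion j') (y' : U'), j' y' = y ∧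
          Φ₃ U' ((DCoh.restrictD j').obj ((DCoh.restrictD V.ι).obj K₃)))
    (hK₁ : Loc Φ₁ K₁) (hK₂ : Loc Φ₂ K₂) : Loc Φ₃ K₃ := by
  rw [loc_iff_opens h₁] at hK₁
  rw [loc_iff_opens h₂] at hK₂
  apply loc_of_loc_restrict h₃
  intro x
  obtain ⟨V₁, hx₁, hV₁⟩ := hK₁ x
  obtain ⟨V₂, hx₂, hV₂⟩ := hK₂ x
  refine ⟨(V₁ ⊓ V₂ : X.Opens), (V₁ ⊓ V₂ : X.Opens).ι, inferInstance, ⟨x, hx₁, hx₂⟩, rfl, ?_⟩
  exact H (V₁ ⊓ V₂) (h₁.of_le inf_le_left K₁ hV₁) (h₂.of_le inf_le_right K₂ hV₂) ⟨x, hx₁, hx₂⟩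

theorem loc_spRep_obj₃ (T : Triangle (DCoh.D X)) (hT : T ∈ distTriang _)
    (h₁ : Loc (fun U (K : DCoh.D U) => SPRep K) T.obj₁)
    (h₂ : Loc (fun U (K : DCoh.D U) => SPRep K) T.obj₂) :
    Loc (fun U (K : DCoh.D U) => SPRep K) T.obj₃ :=
  loc_of_local_lemma isLocalPred_spRep isLocalPred_spRep isLocalPred_spRep _ _ _
    (fun V hV₁ hV₂ y => exists_spRep_obj₃ ((DCoh.restrictD V.ι).mapTriangle.obj T)
      ((DCoh.restrictD V.ι).map_distinguished _ hT) hV₁ hV₂ y) h₁ h₂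

theorem loc_spApprox_obj₃ (T : Triangle (DCoh.D X)) (hT : T ∈ distTriang _) (m : ℤ)
    (h₁ : Loc (fun U (K : DCoh.D U) => SPApprox (m + 1) K) T.obj₁)
    (h₂ : Loc (fun U (K : DCoh.D U) => SPApprox m K) T.obj₂) :
    Loc (fun U (K : DCoh.D U) => SPApprox m K) T.obj₃ :=
  loc_of_local_lemma (isLocalPred_spApprox (m + 1)) (isLocalPred_spApprox m)
    (isLocalPred_spApprox m) _ _ _
    (fun V hV₁ hV₂ y => exists_spApprox_obj₃ ((DCoh.restrictD V.ι).mapTriangle.obj T)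
      ((DCoh.restrictD V.ι).map_distinguished _ hT) m hV₁ hV₂ y) h₁ h₂

lemma loc_spRep_shift {K : DCoh.D X} (h : Loc (fun U (K : DCoh.D U) => SPRep K) K) (n : ℤ) :
    Loc (fun U (K : DCoh.D U) => SPRep K) (K⟦n⟧) := by
  intro x
  obtain ⟨U, j, hj, y, hy, hK⟩ := h x
  exact ⟨U, j, hj, y, hy, (hK.shift n).of_iso (((DCoh.restrictD j).commShiftIso n).app K).symm⟩

lemma loc_spApprox_shift {m : ℤ} {K : DCoh.D X}
    (h : Loc (fun U (K : DCoh.D U) => SPApprox m K) K) (n m' : ℤ) (hm' : m' + n = m) :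
    Loc (fun U (K : DCoh.D U) => SPApprox m' K) (K⟦n⟧) := by
  intro x
  obtain ⟨U, j, hj, y, hy, hK⟩ := h x
  exact ⟨U, j, hj, y, hy,
    (hK.shift n m' hm').of_iso (((DCoh.restrictD j).commShiftIso n).app K).symm⟩

/-- perfect objects: two out of three. -/
theorem isPerfect_two_out_of_three (T : Triangle (DCoh.D X)) (hT : T ∈ distTriang _) :
    (DCoh.IsPerfect T.obj₁ → DCoh.IsPerfect T.obj₂ → DCoh.IsPerfect T.obj₃) ∧
    (DCoh.IsPerfect T.obj₁ → DCoh.IsPerfect T.obj₃ → DCoh.IsPerfect T.obj₂) ∧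
    (DCoh.IsPerfect T.obj₂ → DCoh.IsPerfect T.obj₃ → DCoh.IsPerfect T.obj₁) := by
  simp only [isPerfect_iff]
  refine ⟨loc_spRep_obj₃ T hT, fun h₁ h₃ => ?_, fun h₂ h₃ => ?_⟩
  · exact loc_spRep_obj₃ T.invRotate (inv_rot_of_distTriang _ hT) (loc_spRep_shift h₃ (-1)) h₁
  · have h := loc_spRep_obj₃ T.rotate (rot_of_distTriang _ hT) h₂ h₃
    exact Loc.of_iso isLocalPred_spRep ((shiftEquiv _ (1 : ℤ)).unitIso.symm.app T.obj₁)
      (loc_spRep_shift h (-1))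

/-- pseudo-coherent objects in a distinguished triangle. -/
theorem isPseudoCoherentD_triangle (m : ℤ) (T : Triangle (DCoh.D X))
    (hT : T ∈ distTriang _) :
    (DCoh.IsPseudoCoherentD (m + 1) T.obj₁ → DCoh.IsPseudoCoherentD m T.obj₂ →
      DCoh.IsPseudoCoherentD m T.obj₃) ∧
    (DCoh.IsPseudoCoherentD m T.obj₁ → DCoh.IsPseudoCoherentD m T.obj₃ →
      DCoh.IsPseudoCoherentD m T.obj₂) ∧
    (DCoh.IsPseudoCoherentD (m + 1) T.obj₂ → DCoh.IsPseudoCoherentD m T.obj₃ →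
      DCoh.IsPseudoCoherentD (m + 1) T.obj₁) := by
  simp only [isPseudoCoherentD_iff]
  refine ⟨loc_spApprox_obj₃ T hT m, fun h₁ h₃ => ?_, fun h₂ h₃ => ?_⟩
  · exact loc_spApprox_obj₃ T.invRotate (inv_rot_of_distTriang _ hT) m
      (loc_spApprox_shift h₃ (-1) (m + 1) (by omega)) h₁
  · have h := loc_spApprox_obj₃ T.rotate (rot_of_distTriang _ hT) m h₂ h₃
    exact Loc.of_iso (isLocalPred_spApprox (m + 1))
      ((shiftEquiv _ (1 : ℤ)).unitIso.symm.app T.obj₁)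
      (loc_spApprox_shift h (-1) (m + 1) (by omega))

end Global

end Groth.Agent.R2.H4.Perf
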