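import Mathlib
import Groth.Prelude.Def_DCoh2
import Groth.Agent.Lib.Helper2LocFree
import Groth.Agent.Lib.Helper23FinTypeLocal
import Groth.Agent.Lib.Helper23ModLocal
import Groth.Agent.R2.H5CohThick

/-!
# Perfect objects on a Noetherian scheme are bounded with coherent cohomology (helper99)
-/

set_option autoImplicit false
set_option linter.style.haveILetI false
universe u
open CategoryTheory CategoryTheory.Limits AlgebraicGeometry TopologicalSpace
attribute [local instance] HasDerivedCategory.standard

namespace Groth.Agent.R2.H99.PerfCoh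

open Groth.Agent.Lib.Helper23.QCohLocal Groth.Agent.Lib.Helper23.FinType Groth.Agent.R2.H5.CohThick

variable {X : Scheme.{u}}

attribute [local instance] restrictFunctor_isRightAdjoint

/-- the restriction of the cohomology sheaf of `E` to an open `V` over which a representing complex becomes
isomorphic in the derived category to a complex `Ex` is the cohomology of `Ex` -/
theorem nonempty_restrict_HD_iso (E : DCoh.D X) (F : CochainComplex X.Modules ℤ)
    (eF : DerivedCategory.Q.obj F ≅ E)
    (V : X.Opens) (Ex : CochainComplex (V : Scheme.{u}).Modules ℤ)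
    (e : DerivedCategory.Q.obj ((DCoh.restrictCx V).obj F) ≅ DerivedCategory.Q.obj Ex) (i : ℤ) :
    Nonempty ((DCoh.HD E i).restrict V.ι ≅ Ex.homology i) := by
  haveI : (Scheme.Modules.restrictFunctor V.ι).PreservesHomology := inferInstance
  exact ⟨(Scheme.Modules.restrictFunctor V.ι).mapIso
      ((DerivedCategory.homologyFunctor X.Modules i).mapIso eF.symm ≪≫
        (DerivedCategory.homologyFunctorFactors X.Modules i).app F) ≪≫
    (ShortComplex.mapHomologyIso (F.sc i) (Scheme.Modules.restrictFunctor V.ι)).symm ≪≫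
    ((DerivedCategory.homologyFunctorFactors _ i).app ((DCoh.restrictCx V).obj F)).symm ≪≫
    (DerivedCategory.homologyFunctor _ i).mapIso e ≪≫
    (DerivedCategory.homologyFunctorFactors _ i).app Ex⟩

/-- the cohomology sheaves of a strictly perfect complex on a locally Noetherian scheme are coherent -/
theorem isCoh_homology_of_isStrictlyPerfect [IsLocallyNoetherian X] (Ex : CochainComplex X.Modules ℤ)
    (h : DCoh.IsStrictlyPerfect Ex) (i : ℤ) : Coh.IsCoh (Ex.homology i) := by
  have hc : ∀ j, Coh.IsCoh (Ex.X j) := fun j => by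
    have hfp : SheafOfModules.IsFinitePresentation (R := X.ringCatSheaf) (Ex.X j) :=
      Groth.Agent.Lib.Helper2.LocFree.isFP_of_isFinLocFree _ (h.2 j)
    refine ⟨?_, ?_⟩
    · exact { nonempty_quasicoherentData :=
        ⟨(SheafOfModules.IsFinitePresentation.exists_quasicoherentData
          (R := X.ringCatSheaf) (Ex.X j)).choose⟩ }
    · obtain ⟨σ, hσ⟩ := SheafOfModules.IsFinitePresentation.exists_quasicoherentData
        (R := X.ringCatSheaf) (Ex.X j)
      exact { exists_localGeneratorsData := ⟨σ.localGeneratorsData,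
        { isFiniteType := fun i => (hσ.isFinite_presentation i).isFiniteType_generators }⟩ }
  have hcyc : cohP X ((Ex.sc i).cycles) :=
    (cohP X).prop_of_isLimit_kernelFork (Ex.sc i).cyclesIsKernel (hc _) (hc _)
  exact (cohP X).prop_of_isColimit_cokernelCofork (Ex.sc i).homologyIsCokernel (hc _) hcyc

theorem isZero_homology_of_isZero (Ex : CochainComplex X.Modules ℤ) (i : ℤ) (h : IsZero (Ex.X i)) :
    IsZero (Ex.homology i) :=
  ShortComplex.isZero_homology_of_isZero_X₂ _ h

theorem main (X : Scheme.{u}) [IsNoetherian X] (E : DCoh.D X) (hE : DCoh.IsPerfect E) :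
    DCoh.IsCohD E ∧ ∃ a b : ℤ, E.IsGE a ∧ E.IsLE b := by
  let F := (DerivedCategory.Q (C := X.Modules)).objPreimage E
  have eF : DerivedCategory.Q.obj F ≅ E := (DerivedCategory.Q (C := X.Modules)).objObjPreimageIso E
  choose V hxV hV using hE
  have hV' : ∀ x, ∃ Ex : CochainComplex (V x : Scheme.{u}).Modules ℤ, DCoh.IsStrictlyPerfect Ex ∧
      Nonempty (DerivedCategory.Q.obj ((DCoh.restrictCx (V x)).obj F) ≅ DerivedCategory.Q.obj Ex) :=
    fun x => hV x F ⟨eF⟩
  choose Ex hEx eEx using hV'
  have hcov : IsOpenCover V := by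
    rw [IsOpenCover, eq_top_iff]
    intro x _
    exact TopologicalSpace.Opens.mem_iSup.2 ⟨x, hxV x⟩
  have key : ∀ x i, Nonempty ((DCoh.HD E i).restrict (V x).ι ≅ (Ex x).homology i) := fun x i =>
    nonempty_restrict_HD_iso E F eF (V x) (Ex x) (eEx x).some i
  refine ⟨fun i => ?_, ?_⟩
  · have hcoh : ∀ x, Coh.IsCoh ((DCoh.HD E i).restrict (V x).ι) := fun x =>
      (cohP (V x : Scheme.{u})).prop_of_iso (key x i).some.symm
        (isCoh_homology_of_isStrictlyPerfect (Ex x) (hEx x) i)
    have hq : (DCoh.HD E i).IsQuasicoherent :=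
      isQuasicoherent_of_open_cover _ V hcov (fun x => (hcoh x).1)
    haveI := hq
    exact ⟨hq, isFiniteType_of_open_cover _ V hcov (fun x => (hcoh x).2)⟩
  · obtain ⟨t, ht⟩ := CompactSpace.elim_nhds_subcover (fun x => ((V x : X.Opens) : Set X))
      (fun x => (V x).isOpen.mem_nhds (hxV x))
    choose a b hab using fun x => (hEx x).1
    let A : ℤ := ∑ x ∈ t, (|a x| + |b x|)
    have hA : ∀ x ∈ t, -A ≤ a x ∧ b x ≤ A := fun x hx => by
      have h1 : |a x| + |b x| ≤ A :=
        Finset.single_le_sum (f := fun x => |a x| + |b x|) (fun y _ => by positivity) hx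
      have h2 := neg_abs_le (a x)
      have h3 := le_abs_self (b x)
      have h4 := abs_nonneg (a x)
      have h5 := abs_nonneg (b x)
      constructor <;> linarith
    have hzero : ∀ i : ℤ, (i < -A ∨ A < i) → IsZero (DCoh.HD E i) := fun i hi => by
      refine Groth.Agent.Lib.Helper23.ModLocal.isZero_of_isZero_restrict
        (fun x : t => ((V x.1 : X.Opens) : Scheme.{u})) (fun x => (V x.1).ι) ?_ ?_
      · intro y
        have hy : y ∈ ⋃ x ∈ t, ((V x : X.Opens) : Set X) := by rw [ht]; trivial
        simp only [Set.mem_iUnion] at hy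
        obtain ⟨x, hx, hyx⟩ := hy
        exact ⟨⟨x, hx⟩, ⟨y, hyx⟩, rfl⟩
      · intro x
        refine IsZero.of_iso ?_ (key x.1 i).some
        refine isZero_homology_of_isZero _ _ (hab x.1 i ?_)
        have := hA x.1 x.2
        rcases hi with hi | hi
        · left; linarith
        · right; linarith
    refine ⟨-A, A, ?_, ?_⟩
    · rw [DerivedCategory.isGE_iff]
      intro i hi
      exact hzero i (Or.inl hi)
    · rw [DerivedCategory.isLE_iff]
      intro i hi
      exact hzero i (Or.inr hi)

end Groth.Agent.R2.H99.PerfCoh
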