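import Groth.Agent.Lib.Helper17K0e
import Groth.Agent.R2.H4PerfTri
import Groth.Agent.R2.H99PerfCoh
import Groth.Agent.R2.H28PerfLocal
import Groth.Agent.R2.H15CohSupp

/-!
# `K₀` of coherent modules with supports vs. `K₀` of perfect complexes with supports (helper15)

On a Noetherian scheme `X` with a closed subset `Y'` such that every coherent module supported in
`Y'` is perfect: `K₀(Coh_{Y'}) ≃ K₀(Perf_{Y'})` (S14007).  Assembly of helper17's
`K₀(P) ≃ K₀(D^b_P)`, helper99's "perfect ⟹ bounded coherent" and helper4's 2-out-of-3.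
-/

set_option autoImplicit false
universe u

open CategoryTheory CategoryTheory.Limits DerivedCategory Pretriangulated ZeroObject
  AlgebraicGeometry

attribute [local instance] HasDerivedCategory.standard

namespace Groth.Agent.R2.H15.K0SchSupp

open KZero Groth.Agent.Lib.Helper17.K0a Groth.Agent.Lib.Helper17.K0b Groth.Agent.Lib.Helper17.K0c
  Groth.Agent.Lib.Helper17.K0e Groth.Agent.R2.H5.CohThick

open Groth.Agent.R2.H15.CohSupp

variable (X : Scheme.{u}) (Y' : Set X)

/-- the property of S14007: perfect with cohomology sheaves supported in `Y'` -/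
def PSX : ObjectProperty (DCoh.D X) := fun K => DCoh.IsPerfect K ∧
  ∀ i : ℤ, CohB1.support (DCoh.HD K i) ⊆ Y'

theorem dbP_of_PSX [IsNoetherian X] (K : DCoh.D X) (h : PSX X Y' K) : DbP (CS X Y') K := by
  obtain ⟨hc, a, b, ha, hb⟩ := Groth.Agent.R2.H99.PerfCoh.main X K h.1
  exact ⟨fun i => ⟨hc i, h.2 i⟩, a, b, ha, hb⟩

section Perf

open Groth.Agent.R2.H4.Perf Groth.Agent.R2.H28.PerfLocal

variable {X}

theorem isPerfect_shift {K : DCoh.D X} (h : DCoh.IsPerfect K) (n : ℤ) : DCoh.IsPerfect (K⟦n⟧) :=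
  (isPerfect_iff _).2 (loc_spRep_shift ((isPerfect_iff _).1 h) n)

variable {Y'}
variable (hperf : ∀ G : X.Modules, Coh.IsCoh G → CohB1.support G ⊆ Y' → DCoh.IsPerfect (DCoh.inD X G))

include hperf

theorem isPerfect_single (M : X.Modules) (hM : CS X Y' M) (c : ℤ) :
    DCoh.IsPerfect ((DerivedCategory.singleFunctor X.Modules c).obj M) :=
  isPerfect_of_iso
    (((DerivedCategory.singleFunctors X.Modules).shiftIso (-c) c 0 (by omega)).app M)
    (isPerfect_shift (hperf M hM.1 hM.2) (-c))

theorem isPerfect_of_isZero {K : DCoh.D X} (hz : IsZero K) : DCoh.IsPerfect K := by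
  have h0 : IsZero (DCoh.inD X (0 : X.Modules)) :=
    Functor.map_isZero (DerivedCategory.singleFunctor X.Modules 0) (isZero_zero _)
  refine isPerfect_of_iso (h0.iso hz) (hperf 0 (isCoh_of_isZero X (isZero_zero _)) ?_)
  rw [support_of_isZero (isZero_zero _)]
  exact Set.empty_subset _

/-- dévissage: bounded objects with cohomology in `CS` are perfect. -/
theorem isPerfect_of_dbP_aux [IsNoetherian X]
    (k : ℕ) : ∀ (K : DCoh.D X) (a : ℤ), DbP (CS X Y') K → K.IsGE a →
    K.IsLE (a + k - 1) → DCoh.IsPerfect K := by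
  induction k with
  | zero =>
    intro K a hK hGE hLE
    have hz : IsZero K := (DerivedCategory.TStructure.t).isZero K (a + ((0 : ℕ) : ℤ) - 1) a (by simp)
    exact isPerfect_of_isZero hperf hz
  | succ k ih =>
    intro K a hK hGE hLE
    have hc : a + ((k + 1 : ℕ) : ℤ) - 1 = a + k := by push_cast; ring
    rw [hc] at hLE
    obtain ⟨c, hcdef⟩ : ∃ c : ℤ, c = a + k := ⟨_, rfl⟩
    rw [← hcdef] at hLE
    have hT := (DerivedCategory.TStructure.t).triangleLTGE_distinguished c K
    have hQGE : (((DerivedCategory.TStructure.t).truncGE c).obj K).IsGE c := inferInstance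
    have hQLE : (((DerivedCategory.TStructure.t).truncGE c).obj K).IsLE c := inferInstance
    obtain ⟨eQ⟩ := Groth.Agent.S0973.iso_single_of_amp
      (((DerivedCategory.TStructure.t).truncGE c).obj K) c
    have h3 : DbP (CS X Y') (((DerivedCategory.TStructure.t).truncGE c).obj K) :=
      dbP_truncGE (CS X Y') K hK c
    have h1 : DbP (CS X Y') (((DerivedCategory.TStructure.t).truncLT c).obj K) :=
      dbP_truncLT (CS X Y') K hK c
    have p1 : DCoh.IsPerfect (((DerivedCategory.TStructure.t).truncLT c).obj K) := by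
      apply ih _ a h1 inferInstance
      have : (((DerivedCategory.TStructure.t).truncLT c).obj K).IsLE (c - 1) := inferInstance
      have e' : a + (k : ℤ) - 1 = c - 1 := by rw [hcdef]
      rw [e']
      exact this
    have p3 : DCoh.IsPerfect (((DerivedCategory.TStructure.t).truncGE c).obj K) :=
      isPerfect_of_iso eQ.symm (isPerfect_single hperf _ (h3.1 c) c)
    exact (isPerfect_two_out_of_three _ hT).2.1 p1 p3

theorem PSX_of_dbP [IsNoetherian X] (K : DCoh.D X) (h : DbP (CS X Y') K) : PSX X Y' K := by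
  refine ⟨?_, fun i => (h.1 i).2⟩
  obtain ⟨hh, a, b, ha, hb⟩ := h
  by_cases hab : a ≤ b + 1
  · obtain ⟨k, hk'⟩ : ∃ k : ℕ, (k : ℤ) = b + 1 - a :=
      ⟨(b + 1 - a).toNat, Int.toNat_of_nonneg (by omega)⟩
    have hb' : a + (k : ℤ) - 1 = b := by omega
    exact isPerfect_of_dbP_aux hperf k K a ⟨hh, a, b, ha, hb⟩ ha (by rw [hb']; exact hb)
  · have : K.IsGE a := ha
    have : K.IsLE b := hb
    have hz : IsZero K := (DerivedCategory.TStructure.t).isZero K b a (by omega)
    exact isPerfect_of_isZero hperf hz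

theorem PSX_eq_dbP [IsNoetherian X] : PSX X Y' = DbP (CS X Y') := by
  funext K
  exact propext ⟨dbP_of_PSX X Y' K, PSX_of_dbP hperf K⟩

/-- **S14007**. -/
theorem main [IsNoetherian X] :
    ∃ φ : K0sub (CS X Y') ≃+ K0tr (PSX X Y'),
      ∀ G : X.Modules, Coh.IsCoh G → CohB1.support G ⊆ Y' →
        φ (clSub (CS X Y') G) = clTr (PSX X Y') (DCoh.inD X G) := by
  rw [PSX_eq_dbP hperf]
  obtain ⟨φ, hφ⟩ := exists_equiv (CS X Y')
  exact ⟨φ, fun G h1 h2 => hφ G ⟨h1, h2⟩⟩

end Perf

end Groth.Agent.R2.H15.K0SchSupp
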