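import Groth.Agent.R2.H15KMain

set_option autoImplicit false
set_option linter.style.haveILetI false
universe u
open CategoryTheory CategoryTheory.Limits MonoidalCategory HomologicalComplex DirectSum

namespace Groth.Agent.R2.H15.KMain

open KModel KMap KZero KRes KTor Groth.Agent.Helper13Tor

variable {A : Type u} [CommRing A]

lemma SubQ.subsingleton {N T : Type u} [AddCommGroup N] [Module A N] [AddCommGroup T]
    [Module A T] [Subsingleton T] (h : SubQ A N T) : Subsingleton N := by
  obtain ⟨R, h1, h2⟩ := h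
  refine ⟨fun x y => ?_⟩
  have hx : x = 0 := by
    obtain ⟨t, ht⟩ := h1 x
    rw [Subsingleton.elim t 0] at ht
    exact h2 x ht
  have hy : y = 0 := by
    obtain ⟨t, ht⟩ := h1 y
    rw [Subsingleton.elim t 0] at ht
    exact h2 y ht
  rw [hx, hy]

/-- If all the graded pieces of a filtration are trivial, it is constant. -/
lemma filtration_const {H : Type u} [AddCommGroup H] [Module A H] (F : ℕ → Submodule A H)
    (hF : Monotone F) (h : ∀ p, Subsingleton (HTor.grSucc F p)) (N : ℕ) : F N = F 0 := by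
  induction N with
  | zero => rfl
  | succ N ih =>
    rw [← ih]
    apply le_antisymm _ (hF (Nat.le_succ N))
    intro x hx
    have := (h N).elim (Submodule.Quotient.mk ⟨x, hx⟩) 0
    rw [Submodule.Quotient.mk_eq_zero] at this
    exact this

variable (L : Cx A) (hL : ∀ i : ℤ, Module.Flat A (L.X i)) (a : ℤ)
  (hbL : ∀ i : ℤ, a < i → IsZero (L.X i))

include hL hbL in
/-- Packaged version of `main` with an explicit `N`. -/
theorem main' (M : Cx A) (b : ℤ) (hM : ∀ i : ℤ, b < i → IsZero (M.X i)) (n : ℤ) :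
    ∃ (N : ℕ) (F : ℕ → Submodule A ((T L M).homology n)),
      F 0 = LinearMap.range (kunnethMap L M n) ∧ Monotone F ∧ F N = ⊤ ∧
      ∀ p : ℕ, SubQ A (HTor.grSucc F p) (HTor.TorSum L M n (p + 1)) := by
  refine ⟨(a + b - n + 1).toNat, main L hL a hbL b _ M hM n ?_⟩
  have := Int.self_le_toNat (a + b - n + 1)
  omega

include hL hbL in
theorem kunnethMap_surjective_of_flat (hH : ∀ i : ℤ, Module.Flat A (L.homology i))
    (M : Cx A) (b : ℤ) (hM : ∀ i : ℤ, b < i → IsZero (M.X i)) (n : ℤ) :
    Function.Surjective (kunnethMap L M n) := by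
  obtain ⟨N, F, hF0, hFmono, hFtop, hFsub⟩ := main' L hL a hbL M b hM n
  have hsub : ∀ p, Subsingleton (HTor.grSucc F p) := by
    intro p
    haveI : Subsingleton (HTor.TorSum L M n (p + 1)) := by
      refine ⟨fun x y => DFinsupp.ext fun k => ?_⟩
      haveI := hH k.1.1
      haveI : Subsingleton (DRing.Tor A (p + 1) (L.homology k.1.1) (M.homology k.1.2)) :=
        ModuleCat.subsingleton_of_isZero
          (isZero_tor_of_flat (Y := M.homology k.1.2) (L.homology k.1.1) (p + 1) (by omega))
      exact Subsingleton.elim _ _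
    exact (hFsub p).subsingleton
  have := filtration_const F hFmono hsub N
  rw [hFtop, hF0] at this
  exact LinearMap.range_eq_top.1 this.symm

omit hL hbL in
lemma kmap_kmap_eq_zero {M M' M'' : Cx A} (f : M ⟶ M') (g : M' ⟶ M'') (h : f ≫ g = 0) (n : ℤ)
    (ζ : HTor.KunnethSum L M n) : kmap L g n (kmap L f n ζ) = 0 := by
  unfold kmap
  refine DFinsupp.ext fun k => ?_
  rw [DirectSum.lmap_apply, DirectSum.lmap_apply, ← LinearMap.comp_apply,
    ← LinearMap.lTensor_comp, ← ModuleCat.hom_comp, ← homologyMap_comp, h, homologyMap_zero]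
  simp

include hL hbL in
theorem kunnethMap_injective_of_flat (hH : ∀ i : ℤ, Module.Flat A (L.homology i))
    (M : Cx A) (b : ℤ) (hM : ∀ i : ℤ, b < i → IsZero (M.X i)) (n : ℤ) :
    Function.Injective (kunnethMap L M n) := by
  rw [injective_iff_map_eq_zero]
  intro ξ hξ
  have hT := tSC_shortExact L hL (ses M) (ses_shortExact M)
  have hkb : Function.Surjective (kmap L (ε M) n) :=
    (DirectSum.lmap_surjective _).2 fun k =>
      LinearMap.lTensor_surjective _ (homologyMap_ε_surjective M k.1.2)
  have hΦP : Function.Bijective (kunnethMap L (P M) n) :=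
    kunnethMap_P_bijective M L hL a hbL b hM n
  obtain ⟨ξ', rfl⟩ := hkb ξ
  have h1 : (homologyMap (tmap L (ε M)) n).hom (kunnethMap L (P M) n ξ') = 0 := by
    rw [kunnethMap_natural]
    exact hξ
  have ex2 : Function.Exact (homologyMap (tmap L (ιQ M)) n).hom
      (homologyMap (tmap L (ε M)) n).hom :=
    (ShortComplex.ShortExact.moduleCat_exact_iff_function_exact _).1 (hT.homology_exact₂ n)
  obtain ⟨y, hy⟩ := (ex2 _).1 h1
  obtain ⟨ζ, rfl⟩ := kunnethMap_surjective_of_flat L hL a hbL hH (Q M) b (Q_isZero M b hM) n y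
  have h2 : kunnethMap L (P M) n (kmap L (ιQ M) n ζ) = kunnethMap L (P M) n ξ' := by
    rw [← kunnethMap_natural]
    exact hy
  rw [← hΦP.1 h2]
  exact kmap_kmap_eq_zero L (ιQ M) (ε M) (ses M).zero n ζ

include hL hbL in
theorem homology_isZero_of_tor (M : Cx A) (b : ℤ) (hM : ∀ i : ℤ, b < i → IsZero (M.X i)) (n : ℤ)
    (h : ∀ (p : ℕ) (i j : ℤ), i + j - p = n →
      Subsingleton (DRing.Tor A p (L.homology i) (M.homology j))) :
    IsZero ((T L M).homology n) := by
  obtain ⟨N, F, hF0, hFmono, hFtop, hFsub⟩ := main' L hL a hbL M b hM n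
  have hsub : ∀ p, Subsingleton (HTor.grSucc F p) := by
    intro p
    haveI : Subsingleton (HTor.TorSum L M n (p + 1)) := by
      refine ⟨fun x y => DFinsupp.ext fun k => ?_⟩
      haveI := h (p + 1) k.1.1 k.1.2 k.2
      exact Subsingleton.elim _ _
    exact (hFsub p).subsingleton
  have hK : Subsingleton (HTor.KunnethSum L M n) := by
    refine ⟨fun x y => DFinsupp.ext fun k => ?_⟩
    haveI h0 := h 0 k.1.1 k.1.2 (by have := k.2; push_cast; omega)
    have e : DRing.Tor A 0 (L.homology k.1.1) (M.homology k.1.2) ≃ₗ[A]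
        TensorProduct A (L.homology k.1.1) (M.homology k.1.2) :=
      ((torZeroIso.app (L.homology k.1.1)).app (M.homology k.1.2)).toLinearEquiv
    haveI := e.symm.injective.subsingleton
    exact Subsingleton.elim _ _
  have hc := filtration_const F hFmono hsub N
  rw [hFtop, hF0] at hc
  haveI : Subsingleton ((T L M).homology n) := by
    refine ⟨fun x y => ?_⟩
    have hx : x ∈ LinearMap.range (kunnethMap L M n) := hc ▸ Submodule.mem_top
    have hy : y ∈ LinearMap.range (kunnethMap L M n) := hc ▸ Submodule.mem_top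
    obtain ⟨ξ, rfl⟩ := hx
    obtain ⟨ξ', rfl⟩ := hy
    rw [Subsingleton.elim ξ ξ']
  exact ModuleCat.isZero_of_subsingleton _

end Groth.Agent.R2.H15.KMain
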