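import Mathlib

/-!
# An explicit model for the terms of the tensor product of two cochain complexes of modules
(helper15, round 2; part of the Künneth / hypertor mini-project)

`(L ⊗ M)^n ≃ ⨁_j L^{n-j} ⊗ M^j`, compatibly with the summand inclusions, functoriality in `M`,
and (when `M` has zero differential) the differential.
-/

set_option autoImplicit false
set_option linter.style.haveILetI false

universe u

open CategoryTheory CategoryTheory.Limits MonoidalCategory HomologicalComplex DirectSum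

namespace Groth.Agent.R2.H15.KModel

variable {A : Type u} [CommRing A]

/-- Cochain complexes of `A`-modules. -/
abbrev Cx (A : Type u) [CommRing A] := CochainComplex (ModuleCat.{u} A) ℤ

/-- The antidiagonal `{(i, j) | i + j = n}`. -/
abbrev Fib (n : ℤ) : Type := {ij : ℤ × ℤ // ij.1 + ij.2 = n}

variable (L M : Cx A)

/-- The tensor product complex. -/
noncomputable abbrev T : Cx A := HomologicalComplex.tensorObj L M

/-- The differential of the tensor complex on a summand (general indices). -/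
lemma ι_d (i i' j j' n n' : ℤ) (hi : i + 1 = i') (hj : j + 1 = j') (hn : n + 1 = n')
    (h : i + j = n) :
    ιTensorObj L M i j n h ≫ (T L M).d n n' =
      (L.d i i' ▷ M.X j) ≫ ιTensorObj L M i' j n' (by omega) +
      (i.negOnePow : ℤˣ) • ((L.X i ◁ M.d j j') ≫ ιTensorObj L M i j' n' (by omega)) := by
  subst hi hj hn
  rw [mapBifunctor.d_eq, Preadditive.comp_add, mapBifunctor.ι_D₁, mapBifunctor.ι_D₂,
    mapBifunctor.d₁_eq _ _ _ _ (show (ComplexShape.up ℤ).Rel i (i + 1) from rfl) _ _
      (by simp; omega),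
    mapBifunctor.d₂_eq _ _ _ _ _ (show (ComplexShape.up ℤ).Rel j (j + 1) from rfl) _
      (by simp; omega)]
  have h1 : (ComplexShape.up ℤ).ε₁ (ComplexShape.up ℤ) (ComplexShape.up ℤ) (i, j) = 1 := rfl
  have h2 : (ComplexShape.up ℤ).ε₂ (ComplexShape.up ℤ) (ComplexShape.up ℤ) (i, j) =
      i.negOnePow := rfl
  rw [h1, h2, one_smul]
  rfl

/-- The term of degree `n` of the tensor complex as a direct sum over the antidiagonal. -/
noncomputable def eIso (n : ℤ) : (T L M).X n ≅
    ModuleCat.of A (⨁ k : Fib n, TensorProduct A (L.X k.1.1) (M.X k.1.2)) :=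
  ModuleCat.coprodIsoDirectSum (fun k : Fib n => (L.X k.1.1 ⊗ M.X k.1.2 : ModuleCat A))

lemma ι_eIso (n : ℤ) (k : Fib n) :
    ιTensorObj L M k.1.1 k.1.2 n k.2 ≫ (eIso L M n).hom =
      ModuleCat.ofHom
        (DirectSum.lof A (Fib n) (fun k => TensorProduct A (L.X k.1.1) (M.X k.1.2)) k) :=
  ModuleCat.ι_coprodIsoDirectSum_hom
    (fun k : Fib n => (L.X k.1.1 ⊗ M.X k.1.2 : ModuleCat A)) k

/-- Reindexing the antidiagonal by the second coordinate. -/
def fibEquiv (n : ℤ) : Fib n ≃ ℤ where
  toFun k := k.1.2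
  invFun j := ⟨(n - j, j), by simp⟩
  left_inv k := by
    obtain ⟨⟨i, j⟩, h⟩ := k
    simp only [Subtype.mk.injEq, Prod.mk.injEq, and_true]
    simp only at h
    omega
  right_inv j := rfl

/-- The explicit model `⨁_j L^{n-j} ⊗ M^j` of `(L ⊗ M)^n`. -/
abbrev E (n : ℤ) : Type u := ⨁ j : ℤ, TensorProduct A (L.X (n - j)) (M.X j)

/-- The comparison `(L ⊗ M)^n ≃ ⨁_j L^{n-j} ⊗ M^j`. -/
noncomputable def eE (n : ℤ) : (T L M).X n ≃ₗ[A] E L M n :=
  (eIso L M n).toLinearEquiv ≪≫ₗ
    (DirectSum.lequivCongrLeft A (M := fun k : Fib n => TensorProduct A (L.X k.1.1) (M.X k.1.2))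
      (fibEquiv n))

/-- The summand inclusion `L^{n-j} ⊗ M^j → (L ⊗ M)^n` as a linear map. -/
noncomputable def ιE (n j : ℤ) : TensorProduct A (L.X (n - j)) (M.X j) →ₗ[A] (T L M).X n :=
  (ιTensorObj L M (n - j) j n (by omega)).hom

lemma eE_symm_lof (n j : ℤ) (x : TensorProduct A (L.X (n - j)) (M.X j)) :
    (eE L M n).symm (DirectSum.lof A ℤ (fun j => TensorProduct A (L.X (n - j)) (M.X j)) j x) =
      ιE L M n j x := by
  unfold eE
  rw [LinearEquiv.trans_symm, LinearEquiv.trans_apply]
  erw [DirectSum.lequivCongrLeft_symm_lof]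
  rw [LinearEquiv.symm_apply_eq]
  have := ι_eIso L M n ((fibEquiv n).symm j)
  exact (congrArg (fun f => f.hom x) this).symm

lemma eE_ιE (n j : ℤ) (x : TensorProduct A (L.X (n - j)) (M.X j)) :
    eE L M n (ιE L M n j x) =
      DirectSum.lof A ℤ (fun j => TensorProduct A (L.X (n - j)) (M.X j)) j x := by
  rw [← eE_symm_lof, LinearEquiv.apply_symm_apply]

lemma linearMap_ext {N : Type*} [AddCommGroup N] [Module A N] (n : ℤ)
    {f g : (T L M).X n →ₗ[A] N} (h : ∀ j, f ∘ₗ ιE L M n j = g ∘ₗ ιE L M n j) : f = g := by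
  have h' : f ∘ₗ (eE L M n).symm.toLinearMap = g ∘ₗ (eE L M n).symm.toLinearMap := by
    apply DirectSum.linearMap_ext
    intro j
    refine LinearMap.ext fun x => ?_
    change f ((eE L M n).symm (lof A ℤ _ j x)) = g ((eE L M n).symm (lof A ℤ _ j x))
    rw [eE_symm_lof]
    exact LinearMap.congr_fun (h j) x
  ext w
  have := LinearMap.congr_fun h' (eE L M n w)
  simpa using this

lemma d_ιE (hM : ∀ i j, M.d i j = 0) (n n' j : ℤ) (hn : n + 1 = n')
    (x : TensorProduct A (L.X (n - j)) (M.X j)) :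
    ((T L M).d n n').hom (ιE L M n j x) =
      ιE L M n' j (LinearMap.rTensor (M.X j) (L.d (n - j) (n' - j)).hom x) := by
  have h := ι_d L M (n - j) (n' - j) j (j + 1) n n' (by omega) rfl hn (by omega)
  rw [hM, MonoidalPreadditive.whiskerLeft_zero, zero_comp, smul_zero, add_zero] at h
  exact congrArg (fun f => f.hom x) h

/-- For `M` with zero differential, the differential of `L ⊗ M` is "diagonal" in the model. -/
lemma eE_d (hM : ∀ i j, M.d i j = 0) (n n' : ℤ) (hn : n + 1 = n') (w : (T L M).X n) :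
    eE L M n' (((T L M).d n n').hom w) =
      DirectSum.lmap (fun j => LinearMap.rTensor (M.X j) (L.d (n - j) (n' - j)).hom)
        (eE L M n w) := by
  have : (eE L M n').toLinearMap ∘ₗ ((T L M).d n n').hom =
      DirectSum.lmap (fun j => LinearMap.rTensor (M.X j) (L.d (n - j) (n' - j)).hom) ∘ₗ
        (eE L M n).toLinearMap := by
    apply linearMap_ext
    intro j
    refine LinearMap.ext fun x => ?_
    change eE L M n' (((T L M).d n n').hom (ιE L M n j x)) =
      DirectSum.lmap _ (eE L M n (ιE L M n j x))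
    rw [d_ιE L M hM n n' j hn, eE_ιE, eE_ιE, DirectSum.lmap_lof]
  exact LinearMap.congr_fun this w

variable {M} {M' : Cx A} (f : M ⟶ M')

lemma map_ιE (n j : ℤ) (x : TensorProduct A (L.X (n - j)) (M.X j)) :
    ((HomologicalComplex.tensorHom (𝟙 L) f).f n).hom (ιE L M n j x) =
      ιE L M' n j (LinearMap.lTensor (L.X (n - j)) (f.f j).hom x) := by
  have h := ι_mapBifunctorMap (𝟙 L) f (curriedTensor (ModuleCat.{u} A)) (ComplexShape.up ℤ)
    (n - j) j n (by simp)
  rw [HomologicalComplex.id_f, CategoryTheory.Functor.map_id, NatTrans.id_app,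
    Category.id_comp] at h
  exact congrArg (fun g => g.hom x) h

lemma eE_map (n : ℤ) (w : (T L M).X n) :
    eE L M' n (((HomologicalComplex.tensorHom (𝟙 L) f).f n).hom w) =
      DirectSum.lmap (fun j => LinearMap.lTensor (L.X (n - j)) (f.f j).hom) (eE L M n w) := by
  have : (eE L M' n).toLinearMap ∘ₗ ((HomologicalComplex.tensorHom (𝟙 L) f).f n).hom =
      DirectSum.lmap (fun j => LinearMap.lTensor (L.X (n - j)) (f.f j).hom) ∘ₗ
        (eE L M n).toLinearMap := by
    apply linearMap_ext
    intro j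
    refine LinearMap.ext fun x => ?_
    change eE L M' n (((HomologicalComplex.tensorHom (𝟙 L) f).f n).hom (ιE L M n j x)) =
      DirectSum.lmap _ (eE L M n (ιE L M n j x))
    rw [map_ιE, eE_ιE, eE_ιE, DirectSum.lmap_lof]
  exact LinearMap.congr_fun this w


section Functoriality

variable {A : Type u} [CommRing A] (L : Cx A)

/-- `L ⊗ -` on morphisms. -/
noncomputable abbrev tmap {M M' : Cx A} (f : M ⟶ M') : T L M ⟶ T L M' :=
  HomologicalComplex.tensorHom (𝟙 L) f

lemma ι_tmap {M M' : Cx A} (f : M ⟶ M') (i j n : ℤ) (h : i + j = n) :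
    ιTensorObj L M i j n h ≫ (tmap L f).f n = (L.X i ◁ f.f j) ≫ ιTensorObj L M' i j n h := by
  have h' := ι_mapBifunctorMap (𝟙 L) f (curriedTensor (ModuleCat.{u} A)) (ComplexShape.up ℤ)
    i j n h
  rw [HomologicalComplex.id_f, CategoryTheory.Functor.map_id, NatTrans.id_app,
    Category.id_comp] at h'
  exact h'

lemma tmap_comp {M M' M'' : Cx A} (f : M ⟶ M') (g : M' ⟶ M'') :
    tmap L (f ≫ g) = tmap L f ≫ tmap L g := by
  refine HomologicalComplex.hom_ext _ _ fun n => ?_
  apply mapBifunctor.hom_ext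
  intro i j h
  rw [HomologicalComplex.comp_f, ← Category.assoc]
  erw [ι_tmap L (f ≫ g) i j n h, ι_tmap L f i j n h]
  rw [Category.assoc]
  erw [ι_tmap L g i j n h]
  rw [HomologicalComplex.comp_f, MonoidalCategory.whiskerLeft_comp, Category.assoc]

lemma tmap_zero (M M' : Cx A) : tmap L (0 : M ⟶ M') = 0 := by
  refine HomologicalComplex.hom_ext _ _ fun n => ?_
  apply mapBifunctor.hom_ext
  intro i j h
  erw [ι_tmap L (0 : M ⟶ M') i j n h]
  simp

lemma tmap_id (M : Cx A) : tmap L (𝟙 M) = 𝟙 _ := by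
  refine HomologicalComplex.hom_ext _ _ fun n => ?_
  apply mapBifunctor.hom_ext
  intro i j h
  erw [ι_tmap L (𝟙 M) i j n h]
  simp


end Functoriality

lemma lmap_exact {ι : Type*} {M N P : ι → Type*} [∀ i, AddCommGroup (M i)] [∀ i, Module A (M i)]
    [∀ i, AddCommGroup (N i)] [∀ i, Module A (N i)] [∀ i, AddCommGroup (P i)]
    [∀ i, Module A (P i)] (f : ∀ i, M i →ₗ[A] N i) (g : ∀ i, N i →ₗ[A] P i)
    (h : ∀ i, Function.Exact (f i) (g i)) :
    Function.Exact (DirectSum.lmap f) (DirectSum.lmap g) := by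
  classical
  rw [LinearMap.exact_iff]
  apply le_antisymm
  · intro y hy
    rw [LinearMap.mem_ker] at hy
    have hy' : ∀ i, g i (y i) = 0 := fun i => by
      have := DFunLike.congr_fun hy i
      rw [DirectSum.lmap_apply] at this
      exact this
    rw [← DirectSum.sum_support_of y]
    refine Submodule.sum_mem _ fun i _ => ?_
    obtain ⟨m, hm⟩ := (h i (y i)).1 (hy' i)
    refine ⟨DirectSum.lof A ι M i m, ?_⟩
    rw [DirectSum.lmap_lof, hm]
    rfl
  · rintro _ ⟨x, rfl⟩
    rw [LinearMap.mem_ker]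
    ext i
    simp [(h i).apply_apply_eq_zero]


section SES

variable (L : Cx A)

/-- The short complex `L ⊗ S`. -/
noncomputable def tSC (S : ShortComplex (Cx A)) : ShortComplex (Cx A) :=
  ShortComplex.mk (tmap L S.f) (tmap L S.g) (by rw [← tmap_comp, S.zero, tmap_zero])

theorem tSC_shortExact (hL : ∀ i, Module.Flat A (L.X i)) (S : ShortComplex (Cx A))
    (hS : S.ShortExact) : (tSC L S).ShortExact := by
  refine HomologicalComplex.shortExact_of_degreewise_shortExact _ fun n => ?_
  have hSj : ∀ j : ℤ, (S.map (HomologicalComplex.eval _ _ j)).ShortExact :=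
    fun j => hS.map_of_exact _
  have hinj : ∀ j : ℤ, Function.Injective (S.f.f j).hom :=
    fun j => (hSj j).moduleCat_injective_f
  have hsurj : ∀ j : ℤ, Function.Surjective (S.g.f j).hom :=
    fun j => (hSj j).moduleCat_surjective_g
  have hex : ∀ j : ℤ, Function.Exact (S.f.f j).hom (S.g.f j).hom :=
    fun j => (ShortComplex.ShortExact.moduleCat_exact_iff_function_exact _).1 (hSj j).exact
  apply ModuleCat.shortComplex_shortExact
  · -- exactness
    intro v
    change ((tmap L S.g).f n).hom v = 0 ↔ v ∈ Set.range ((tmap L S.f).f n).hom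
    constructor
    · intro hv
      have h1 := eE_map L S.g n v
      rw [hv, map_zero] at h1
      have h2 := (lmap_exact (fun j => LinearMap.lTensor (L.X (n - j)) (S.f.f j).hom)
        (fun j => LinearMap.lTensor (L.X (n - j)) (S.g.f j).hom)
        (fun j => by
          haveI := hL (n - j)
          exact Module.Flat.lTensor_exact _ (hex j)) (eE L S.X₂ n v)).1 h1.symm
      obtain ⟨x, hx⟩ := h2
      refine ⟨(eE L S.X₁ n).symm x, ?_⟩
      apply (eE L S.X₂ n).injective
      rw [eE_map, LinearEquiv.apply_symm_apply, hx]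
    · rintro ⟨x, rfl⟩
      have := (tSC L S).zero
      exact congrArg (fun φ => (φ.f n).hom x) this
  · -- injectivity
    intro w w' hw
    change ((tmap L S.f).f n).hom w = ((tmap L S.f).f n).hom w' at hw
    have h1 := congrArg (eE L S.X₂ n) hw
    rw [eE_map, eE_map] at h1
    have hinj' := (DirectSum.lmap_injective
      (fun j => LinearMap.lTensor (L.X (n - j)) (S.f.f j).hom)).2 (fun j => by
        haveI := hL (n - j)
        exact Module.Flat.lTensor_preserves_injective_linearMap _ (hinj j))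
    exact (eE L S.X₁ n).injective (hinj' h1)
  · -- surjectivity
    intro v
    have hsurj' := (DirectSum.lmap_surjective
      (fun j => LinearMap.lTensor (L.X (n - j)) (S.g.f j).hom)).2 (fun j =>
        LinearMap.lTensor_surjective _ (hsurj j))
    obtain ⟨x, hx⟩ := hsurj' (eE L S.X₃ n v)
    refine ⟨(eE L S.X₂ n).symm x, ?_⟩
    apply (eE L S.X₃ n).injective
    change eE L S.X₃ n (((tmap L S.g).f n).hom ((eE L S.X₂ n).symm x)) = _
    rw [eE_map, LinearEquiv.apply_symm_apply, hx]


end SES

end Groth.Agent.R2.H15.KModel
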