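import Groth.Prelude.Def_HTor
import Groth.Agent.R2.H15KModel

set_option autoImplicit false
set_option linter.style.haveILetI false
universe u
open CategoryTheory CategoryTheory.Limits MonoidalCategory HomologicalComplex DirectSum

namespace Groth.Agent.R2.H15.KMap

open KModel

variable {A : Type u} [CommRing A] (K L : Cx A)

lemma exists_factor {M N P : Type*} [AddCommGroup M] [Module A M] [AddCommGroup N] [Module A N]
    [AddCommGroup P] [Module A P] (p : M →ₗ[A] N) (hp : Function.Surjective p) (ψ : M →ₗ[A] P)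
    (h : LinearMap.ker p ≤ LinearMap.ker ψ) : ∃ κ : N →ₗ[A] P, κ ∘ₗ p = ψ := by
  refine ⟨(LinearMap.ker p).liftQ ψ h ∘ₗ (p.quotKerEquivOfSurjective hp).symm.toLinearMap, ?_⟩
  ext x
  have : (p.quotKerEquivOfSurjective hp).symm (p x) = Submodule.Quotient.mk x := by
    rw [LinearEquiv.symm_apply_eq]
    rfl
  simp [this]

omit L in
lemma exact_toCycles_homologyπ (i' i : ℤ) (h : i' + 1 = i) :
    Function.Exact (K.toCycles i' i).hom (K.homologyπ i).hom := by
  have hc := K.homologyIsCokernel i' i (by simp; omega)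
  have := ShortComplex.exact_of_g_is_cokernel
    (ShortComplex.mk (K.toCycles i' i) (K.homologyπ i) (K.toCycles_comp_homologyπ i' i)) hc
  exact (ShortComplex.ShortExact.moduleCat_exact_iff_function_exact _).1 this

omit L in
lemma homologyπ_surjective (i : ℤ) : Function.Surjective (K.homologyπ i).hom :=
  (ModuleCat.epi_iff_surjective _).1 inferInstance

omit L in
@[simp]
lemma iCycles_toCycles_apply (i' i : ℤ) (x : K.X i') :
    K.iCycles i (K.toCycles i' i x) = K.d i' i x :=
  congrArg (fun f => f.hom x) (K.toCycles_i i' i)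

omit L in
@[simp]
lemma d_iCycles_apply (i j : ℤ) (z : K.cycles i) : K.d i j (K.iCycles i z) = 0 :=
  congrArg (fun f => f.hom z) (K.iCycles_d i j)

lemma cyc_aux (n : ℤ) (k : Fib n) :
    ((K.iCycles k.1.1 ⊗ₘ L.iCycles k.1.2) ≫ ιTensorObj K L k.1.1 k.1.2 n k.2) ≫
      (T K L).d n (n + 1) = 0 := by
  rw [Category.assoc, ι_d K L k.1.1 (k.1.1 + 1) k.1.2 (k.1.2 + 1) n (n + 1) rfl rfl rfl k.2,
    Preadditive.comp_add, Linear.comp_units_smul, ← tensorHom_id, ← id_tensorHom,
    tensorHom_comp_tensorHom_assoc, tensorHom_comp_tensorHom_assoc, iCycles_d, iCycles_d]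
  simp

/-- The map `Z^i(K) ⊗ Z^j(L) ⟶ Z^n(K ⊗ L)`. -/
noncomputable def cyc (n : ℤ) (k : Fib n) :
    (K.cycles k.1.1 ⊗ L.cycles k.1.2 : ModuleCat.{u} A) ⟶ (T K L).cycles n :=
  (T K L).liftCycles ((K.iCycles k.1.1 ⊗ₘ L.iCycles k.1.2) ≫ ιTensorObj K L k.1.1 k.1.2 n k.2)
    (n + 1) (by simp) (cyc_aux K L n k)

@[reassoc (attr := simp)]
lemma cyc_i (n : ℤ) (k : Fib n) :
    cyc K L n k ≫ (T K L).iCycles n =
      (K.iCycles k.1.1 ⊗ₘ L.iCycles k.1.2) ≫ ιTensorObj K L k.1.1 k.1.2 n k.2 := by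
  simp [cyc]

lemma toCycles_whiskerRight_cyc (n : ℤ) (k : Fib n) :
    (K.toCycles (k.1.1 - 1) k.1.1 ▷ L.cycles k.1.2) ≫ cyc K L n k =
      ((K.X (k.1.1 - 1) ◁ L.iCycles k.1.2) ≫
        ιTensorObj K L (k.1.1 - 1) k.1.2 (n - 1) (by have := k.2; omega)) ≫
        (T K L).toCycles (n - 1) n := by
  rw [← cancel_mono ((T K L).iCycles n), Category.assoc, cyc_i, Category.assoc, toCycles_i,
    Category.assoc,
    ι_d K L (k.1.1 - 1) k.1.1 k.1.2 (k.1.2 + 1) (n - 1) n (by omega) rfl (by omega)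
      (by have := k.2; omega),
    Preadditive.comp_add, Linear.comp_units_smul]
  apply ModuleCat.MonoidalCategory.tensor_ext
  intro x z
  simp

lemma whiskerLeft_toCycles_cyc (n : ℤ) (k : Fib n) :
    (K.cycles k.1.1 ◁ L.toCycles (k.1.2 - 1) k.1.2) ≫ cyc K L n k =
      (k.1.1.negOnePow : ℤˣ) • (((K.iCycles k.1.1 ▷ L.X (k.1.2 - 1)) ≫
        ιTensorObj K L k.1.1 (k.1.2 - 1) (n - 1) (by have := k.2; omega)) ≫
        (T K L).toCycles (n - 1) n) := by
  rw [← cancel_mono ((T K L).iCycles n), Category.assoc, cyc_i, Linear.units_smul_comp,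
    Category.assoc, toCycles_i, Category.assoc,
    ι_d K L k.1.1 (k.1.1 + 1) (k.1.2 - 1) k.1.2 (n - 1) n rfl (by omega) (by omega)
      (by have := k.2; omega),
    Preadditive.comp_add, Linear.comp_units_smul]
  apply ModuleCat.MonoidalCategory.tensor_ext
  intro x z
  simp [smul_smul]

lemma toCycles_whiskerRight_cyc_π (n : ℤ) (k : Fib n) :
    (K.toCycles (k.1.1 - 1) k.1.1 ▷ L.cycles k.1.2) ≫ cyc K L n k ≫ (T K L).homologyπ n = 0 := by
  rw [← Category.assoc, toCycles_whiskerRight_cyc, Category.assoc, toCycles_comp_homologyπ,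
    comp_zero]

lemma whiskerLeft_toCycles_cyc_π (n : ℤ) (k : Fib n) :
    (K.cycles k.1.1 ◁ L.toCycles (k.1.2 - 1) k.1.2) ≫ cyc K L n k ≫ (T K L).homologyπ n = 0 := by
  rw [← Category.assoc, whiskerLeft_toCycles_cyc, Linear.units_smul_comp, Category.assoc,
    toCycles_comp_homologyπ, comp_zero, smul_zero]

/-- The Künneth component vanishes on the kernel of `π ⊗ π`. -/
lemma ker_map_le (n : ℤ) (k : Fib n) :
    LinearMap.ker (TensorProduct.map (K.homologyπ k.1.1).hom (L.homologyπ k.1.2).hom) ≤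
      LinearMap.ker (cyc K L n k ≫ (T K L).homologyπ n).hom := by
  rw [TensorProduct.map_ker (exact_toCycles_homologyπ K (k.1.1 - 1) k.1.1 (by omega))
    (homologyπ_surjective K _) (exact_toCycles_homologyπ L (k.1.2 - 1) k.1.2 (by omega))
    (homologyπ_surjective L _)]
  apply sup_le
  · rw [LinearMap.range_le_ker_iff]
    exact congrArg ModuleCat.Hom.hom (whiskerLeft_toCycles_cyc_π K L n k)
  · rw [LinearMap.range_le_ker_iff]
    exact congrArg ModuleCat.Hom.hom (toCycles_whiskerRight_cyc_π K L n k)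

/-- The Künneth component `H^i(K) ⊗ H^j(L) → H^n(K ⊗ L)`. -/
noncomputable def kap (n : ℤ) (k : Fib n) :
    TensorProduct A (K.homology k.1.1) (L.homology k.1.2) →ₗ[A] (T K L).homology n :=
  (exists_factor _ (TensorProduct.map_surjective (homologyπ_surjective K _)
    (homologyπ_surjective L _)) _ (ker_map_le K L n k)).choose

lemma kap_map (n : ℤ) (k : Fib n) (v : TensorProduct A (K.cycles k.1.1) (L.cycles k.1.2)) :
    kap K L n k (TensorProduct.map (K.homologyπ k.1.1).hom (L.homologyπ k.1.2).hom v) =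
      (T K L).homologyπ n (cyc K L n k v) :=
  LinearMap.congr_fun (exists_factor _ (TensorProduct.map_surjective (homologyπ_surjective K _)
    (homologyπ_surjective L _)) _ (ker_map_le K L n k)).choose_spec v

/-- The Künneth map. -/
noncomputable def kunnethMap (n : ℤ) :
    HTor.KunnethSum K L n →ₗ[A] (HTor.tensorCx K L).homology n :=
  DirectSum.toModule A (HTor.Antidiag n) _ (fun k => kap K L n k)

lemma kunnethMap_lof (n : ℤ) (k : Fib n)
    (x : TensorProduct A (K.homology k.1.1) (L.homology k.1.2)) :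
    kunnethMap K L n (DirectSum.lof A (HTor.Antidiag n) _ k x) = kap K L n k x := by
  unfold kunnethMap
  rw [DirectSum.toModule_lof]

theorem isKunnethMap_kunnethMap (n : ℤ) : HTor.IsKunnethMap K L n (kunnethMap K L n) := by
  intro ij z z' w hw
  rw [kunnethMap_lof]
  have := kap_map K L n ij (z ⊗ₜ z')
  rw [TensorProduct.map_tmul] at this
  rw [this]
  congr 1
  apply (ModuleCat.mono_iff_injective ((T K L).iCycles n)).1 inferInstance
  rw [hw]
  have h2 := congrArg (fun f => f.hom (z ⊗ₜ z')) (cyc_i K L n ij)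
  exact h2

section Naturality

variable {A : Type u} [CommRing A] (L : Cx A) {M M' : Cx A} (f : M ⟶ M')

@[simp]
lemma iCycles_cyclesMap_apply (i : ℤ) (z : M.cycles i) :
    M'.iCycles i (cyclesMap f i z) = f.f i (M.iCycles i z) :=
  congrArg (fun g => g.hom z) (cyclesMap_i f i)

lemma cyc_cyclesMap (n : ℤ) (k : Fib n) :
    cyc L M n k ≫ cyclesMap (tmap L f) n =
      (L.cycles k.1.1 ◁ cyclesMap f k.1.2) ≫ cyc L M' n k := by
  rw [← cancel_mono ((T L M').iCycles n), Category.assoc, cyclesMap_i, cyc_i_assoc,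
    Category.assoc, cyc_i, ι_tmap]
  apply ModuleCat.MonoidalCategory.tensor_ext
  intro x z
  simp

/-- The map induced on Künneth sums by a chain map in the second variable. -/
noncomputable def kmap (n : ℤ) : HTor.KunnethSum L M n →ₗ[A] HTor.KunnethSum L M' n :=
  DirectSum.lmap (fun k : HTor.Antidiag n =>
    LinearMap.lTensor (L.homology k.1.1) (homologyMap f k.1.2).hom)

theorem kunnethMap_natural (n : ℤ) (ξ : HTor.KunnethSum L M n) :
    (homologyMap (tmap L f) n).hom (kunnethMap L M n ξ) = kunnethMap L M' n (kmap L f n ξ) := by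
  have : (homologyMap (tmap L f) n).hom ∘ₗ kunnethMap L M n =
      kunnethMap L M' n ∘ₗ kmap L f n := by
    apply DirectSum.linearMap_ext
    intro k
    apply TensorProduct.ext'
    intro h h'
    obtain ⟨z, rfl⟩ := homologyπ_surjective L k.1.1 h
    obtain ⟨z', rfl⟩ := homologyπ_surjective M k.1.2 h'
    change (homologyMap (tmap L f) n).hom (kunnethMap L M n (DirectSum.lof A _ _ k _)) =
      kunnethMap L M' n (kmap L f n (DirectSum.lof A _ _ k _))
    rw [kunnethMap_lof]
    unfold kmap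
    rw [DirectSum.lmap_lof, kunnethMap_lof, LinearMap.lTensor_tmul]
    have h1 := kap_map L M n k (z ⊗ₜ z')
    rw [TensorProduct.map_tmul] at h1
    rw [h1]
    have h2 : (homologyMap f k.1.2).hom ((M.homologyπ k.1.2).hom z') =
        (M'.homologyπ k.1.2).hom ((cyclesMap f k.1.2).hom z') :=
      congrArg (fun g => g.hom z') (homologyπ_naturality f k.1.2)
    rw [h2]
    have h3 := kap_map L M' n k (z ⊗ₜ (cyclesMap f k.1.2).hom z')
    rw [TensorProduct.map_tmul] at h3
    rw [h3]
    have h4 := congrArg (fun g => g.hom (cyc L M n k (z ⊗ₜ z')))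
      (homologyπ_naturality (tmap L f) n)
    refine h4.trans ?_
    exact congrArg (fun c => ((T L M').homologyπ n).hom c)
      (congrArg (fun g => g.hom (z ⊗ₜ z')) (cyc_cyclesMap L f n k))
  exact LinearMap.congr_fun this ξ


end Naturality

end Groth.Agent.R2.H15.KMap
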