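import Groth.Agent.Lib.Helper13TorMore
import Groth.Agent.R2.H15KMap

set_option autoImplicit false
set_option linter.style.haveILetI false
universe u
open CategoryTheory CategoryTheory.Limits MonoidalCategory HomologicalComplex DirectSum

namespace Groth.Agent.R2.H15.KTor

open Groth.Agent.Helper13Tor KModel KMap

variable {A : Type u} [CommRing A]

lemma mem_range_toModule {ι ι' : Type*} [DecidableEq ι] [DecidableEq ι'] {X : ι → Type*}
    {Y : ι' → Type*} [∀ k, AddCommGroup (X k)] [∀ k, Module A (X k)]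
    [∀ k, AddCommGroup (Y k)] [∀ k, Module A (Y k)]
    (φ : ι → ι') (hφ : Function.Surjective φ) (g : ∀ k, X k →ₗ[A] Y (φ k))
    (ζ : ⨁ k', Y k') (h : ∀ k, ζ (φ k) ∈ LinearMap.range (g k)) :
    ζ ∈ LinearMap.range (DirectSum.toModule A ι (⨁ k', Y k')
      (fun k => DirectSum.lof A ι' Y (φ k) ∘ₗ g k)) := by
  classical
  rw [← DirectSum.sum_support_of ζ]
  refine Submodule.sum_mem _ fun k' _ => ?_
  obtain ⟨k, rfl⟩ := hφ k'
  obtain ⟨x, hx⟩ := h k
  refine ⟨DirectSum.lof A ι X k x, ?_⟩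
  rw [DirectSum.toModule_lof, LinearMap.comp_apply, hx]
  rfl

section Modules

variable (X : ModuleCat.{u} A) (S : ShortComplex (ModuleCat.{u} A))
  (hS : S.ShortExact)

include hS in
theorem exists_δ_surjective [Module.Flat A S.X₂] (p : ℕ) (hp : 0 < p) :
    ∃ δ : ((Tor (ModuleCat.{u} A) (p + 1)).obj X).obj S.X₃ →ₗ[A]
      ((Tor (ModuleCat.{u} A) p).obj X).obj S.X₁, Function.Surjective δ := by
  obtain ⟨δ, w₁, w₂, h₁, h₂⟩ := tor₂_exists_δ X S hS p
  have hz : IsZero (((Tor (ModuleCat.{u} A) p).obj X).obj S.X₂) :=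
    isZero_tor_of_flat_right X S.X₂ p hp
  haveI : Epi δ := h₂.epi_f (hz.eq_of_tgt _ _)
  exact ⟨δ.hom, (ModuleCat.epi_iff_surjective δ).1 inferInstance⟩

include hS in
theorem exists_θ₀ [Module.Flat A S.X₂] :
    ∃ θ : ((Tor (ModuleCat.{u} A) 1).obj X).obj S.X₃ →ₗ[A] TensorProduct A X S.X₁,
      LinearMap.ker (LinearMap.lTensor X S.f.hom) ≤ LinearMap.range θ := by
  obtain ⟨δ, w₁, w₂, h₁, h₂⟩ := tor₂_exists_δ X S hS 0
  let iso : ∀ Y : ModuleCat.{u} A, ((Tor (ModuleCat.{u} A) 0).obj X).obj Y ≅ X ⊗ Y :=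
    fun Y => (torZeroIso.app X).app Y
  have hnat : ((Tor (ModuleCat.{u} A) 0).obj X).map S.f ≫ (iso S.X₂).hom =
      (iso S.X₁).hom ≫ X ◁ S.f := (torZeroIso.hom.app X).naturality S.f
  refine ⟨(δ ≫ (iso S.X₁).hom).hom, ?_⟩
  intro x hx
  rw [LinearMap.mem_ker] at hx
  have h3 : (((Tor (ModuleCat.{u} A) 0).obj X).map S.f).hom ((iso S.X₁).inv.hom x) = 0 := by
    apply (ConcreteCategory.bijective_of_isIso (iso S.X₂).hom).1
    have := congrArg (fun g => g.hom ((iso S.X₁).inv.hom x)) hnat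
    simp only [ModuleCat.hom_comp, LinearMap.comp_apply] at this
    erw [this]
    rw [map_zero]
    have h4 : (iso S.X₁).hom.hom ((iso S.X₁).inv.hom x) = x := by
      have := congrArg (fun g => g.hom x) (iso S.X₁).inv_hom_id
      exact this
    rw [h4]
    exact hx
  have hex := (ShortComplex.ShortExact.moduleCat_exact_iff_function_exact _).1 h₂
  obtain ⟨t, ht⟩ := (hex _).1 h3
  refine ⟨t, ?_⟩
  change (iso S.X₁).hom.hom (δ.hom t) = x
  have ht' : δ.hom t = (iso S.X₁).inv.hom x := ht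
  rw [ht']
  exact congrArg (fun g => g.hom x) (iso S.X₁).inv_hom_id

end Modules

variable (L : Cx A) (S : ShortComplex (Cx A)) (hS : S.ShortExact)
  (hsurj : ∀ j : ℤ, Function.Surjective (homologyMap S.g j).hom)

/-- The short complex of homology modules. -/
noncomputable def homSES (j : ℤ) : ShortComplex (ModuleCat.{u} A) :=
  ShortComplex.mk (homologyMap S.f j) (homologyMap S.g j)
    (by rw [← homologyMap_comp, S.zero, homologyMap_zero])

include hS hsurj in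
lemma homSES_shortExact (j : ℤ) : (homSES S j).ShortExact := by
  haveI : Epi (homologyMap S.g (j - 1)) := (ModuleCat.epi_iff_surjective _).2 (hsurj (j - 1))
  have hδ : hS.δ (j - 1) j (by simp) = 0 := by
    rw [← cancel_epi (homologyMap S.g (j - 1)), hS.comp_δ, comp_zero]
  refine ShortComplex.ShortExact.mk' (hS.homology_exact₂ j) ?_ ?_
  · exact (hS.homology_exact₁ (j - 1) j (by simp)).mono_g hδ
  · exact (ModuleCat.epi_iff_surjective _).2 (hsurj j)


/-- Reindexing `{i + j - 1 = n}` to `{i + j = n + 1}`. -/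
def φ₁ (n : ℤ) : {ij : ℤ × ℤ // ij.1 + ij.2 - ((1 : ℕ) : ℤ) = n} → HTor.Antidiag (n + 1) :=
  fun k => ⟨k.1, by have := k.2; push_cast at this; omega⟩

lemma φ₁_surjective (n : ℤ) : Function.Surjective (φ₁ n) := by
  intro k
  exact ⟨⟨k.1, by have := k.2; push_cast; omega⟩, rfl⟩

/-- Reindexing `{i + j - (p+2) = n}` to `{i + j - (p+1) = n + 1}`. -/
def φ₂ (n : ℤ) (p : ℕ) : {ij : ℤ × ℤ // ij.1 + ij.2 - ((p + 2 : ℕ) : ℤ) = n} →
    {ij : ℤ × ℤ // ij.1 + ij.2 - ((p + 1 : ℕ) : ℤ) = n + 1} :=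
  fun k => ⟨k.1, by have := k.2; push_cast at this ⊢; omega⟩

lemma φ₂_surjective (n : ℤ) (p : ℕ) : Function.Surjective (φ₂ n p) := by
  intro k
  exact ⟨⟨k.1, by have := k.2; push_cast at this ⊢; omega⟩, rfl⟩

include hS hsurj in
/-- The edge map `⨁ Tor_1(H^i L, H^j X₃) → ⨁ H^i L ⊗ H^j X₁` whose image contains the kernel of
`⨁ H^i L ⊗ H^j X₁ → ⨁ H^i L ⊗ H^j X₂`. -/
theorem exists_θ (hflat : ∀ j : ℤ, Module.Flat A (S.X₂.homology j)) (n : ℤ) :
    ∃ θ : HTor.TorSum L S.X₃ n 1 →ₗ[A] HTor.KunnethSum L S.X₁ (n + 1),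
      LinearMap.ker (kmap L S.f (n + 1)) ≤ LinearMap.range θ := by
  have key : ∀ k : {ij : ℤ × ℤ // ij.1 + ij.2 - ((1 : ℕ) : ℤ) = n},
      ∃ θ : DRing.Tor A 1 (L.homology k.1.1) (S.X₃.homology k.1.2) →ₗ[A]
        TensorProduct A (L.homology k.1.1) (S.X₁.homology k.1.2),
        LinearMap.ker (LinearMap.lTensor (L.homology k.1.1) (homologyMap S.f k.1.2).hom) ≤
          LinearMap.range θ := by
    intro k
    haveI : Module.Flat A (homSES S k.1.2).X₂ := hflat k.1.2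
    exact exists_θ₀ (L.homology k.1.1) (homSES S k.1.2) (homSES_shortExact S hS hsurj k.1.2)
  choose θ₀ hθ₀ using key
  refine ⟨DirectSum.toModule A _ _ (fun k => DirectSum.lof A (HTor.Antidiag (n + 1)) _ (φ₁ n k) ∘ₗ
    θ₀ k), ?_⟩
  intro ζ hζ
  apply mem_range_toModule (φ₁ n) (φ₁_surjective n)
  intro k
  apply hθ₀ k
  rw [LinearMap.mem_ker] at hζ ⊢
  have := DFunLike.congr_fun hζ (φ₁ n k)
  unfold kmap at this
  rw [DirectSum.lmap_apply] at this
  exact this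

include hS hsurj in
/-- The dimension shift `⨁ Tor_{p+2}(H^i L, H^j X₃) ↠ ⨁ Tor_{p+1}(H^i L, H^j X₁)`. -/
theorem exists_shift (hflat : ∀ j : ℤ, Module.Flat A (S.X₂.homology j)) (n : ℤ) (p : ℕ) :
    ∃ e : HTor.TorSum L S.X₃ n (p + 2) →ₗ[A] HTor.TorSum L S.X₁ (n + 1) (p + 1),
      Function.Surjective e := by
  have key : ∀ k : {ij : ℤ × ℤ // ij.1 + ij.2 - ((p + 2 : ℕ) : ℤ) = n},
      ∃ δ : DRing.Tor A (p + 2) (L.homology k.1.1) (S.X₃.homology k.1.2) →ₗ[A]
        DRing.Tor A (p + 1) (L.homology k.1.1) (S.X₁.homology k.1.2), Function.Surjective δ := by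
    intro k
    haveI : Module.Flat A (homSES S k.1.2).X₂ := hflat k.1.2
    exact exists_δ_surjective (L.homology k.1.1) (homSES S k.1.2)
      (homSES_shortExact S hS hsurj k.1.2) (p + 1) (by omega)
  choose δ hδ using key
  refine ⟨DirectSum.toModule A _ _ (fun k => DirectSum.lof A
    {ij : ℤ × ℤ // ij.1 + ij.2 - ((p + 1 : ℕ) : ℤ) = n + 1} _ (φ₂ n p k) ∘ₗ δ k), ?_⟩
  intro ζ
  apply mem_range_toModule (φ₂ n p) (φ₂_surjective n p)
  intro k
  exact hδ k _

end Groth.Agent.R2.H15.KTor
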