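import Groth.Agent.R2.H15KRes
import Groth.Agent.R2.H15KTor

set_option autoImplicit false
set_option linter.style.haveILetI false
universe u
open CategoryTheory CategoryTheory.Limits MonoidalCategory HomologicalComplex DirectSum

namespace Groth.Agent.R2.H15.KMain

open KModel KMap KZero KRes KTor

variable (A : Type u) [CommRing A]

/-- A flexible form of "`N` is a subquotient of `T`": a correspondence `R ⊆ T × N` which is
total on `N` and single-valued (hence the graph of a surjection from a submodule of `T`). -/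
def SubQ (N T : Type u) [AddCommGroup N] [Module A N] [AddCommGroup T] [Module A T] : Prop :=
  ∃ R : Submodule A (T × N), (∀ n, ∃ t, (t, n) ∈ R) ∧ ∀ n, ((0 : T), n) ∈ R → n = 0

section SubQLemmas

variable {A} {N N' T T' : Type u} [AddCommGroup N] [Module A N] [AddCommGroup T] [Module A T]
  [AddCommGroup N'] [Module A N'] [AddCommGroup T'] [Module A T']

lemma SubQ.of_subsingleton [Subsingleton N] : SubQ A N T :=
  ⟨⊤, fun _ => ⟨0, trivial⟩, fun _ _ => Subsingleton.elim _ _⟩

lemma SubQ.comap (j : N →ₗ[A] N') (hj : Function.Injective j) (e : T →ₗ[A] T')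
    (he : Function.Surjective e) (h : SubQ A N' T') : SubQ A N T := by
  obtain ⟨R', h1, h2⟩ := h
  refine ⟨R'.comap (LinearMap.prodMap e j), ?_, ?_⟩
  · intro n
    obtain ⟨t', ht'⟩ := h1 (j n)
    obtain ⟨t, rfl⟩ := he t'
    exact ⟨t, ht'⟩
  · intro n hn
    have : ((0 : T'), j n) ∈ R' := by
      have := hn
      rw [Submodule.mem_comap] at this
      simpa using this
    exact hj ((h2 _ this).trans (map_zero j).symm)

lemma SubQ.isSubquotient (h : SubQ A N T) : HTor.IsSubquotient A N T := by
  obtain ⟨R, h1, h2⟩ := h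
  let p₁ : R →ₗ[A] T := LinearMap.fst A T N ∘ₗ R.subtype
  let p₂ : R →ₗ[A] N := LinearMap.snd A T N ∘ₗ R.subtype
  have hp₂ : Function.Surjective p₂ := by
    intro n
    obtain ⟨t, ht⟩ := h1 n
    exact ⟨⟨(t, n), ht⟩, rfl⟩
  have hp₁ : Function.Injective p₁ := by
    rw [injective_iff_map_eq_zero]
    rintro ⟨⟨t, n⟩, hr⟩ h0
    have ht : t = 0 := h0
    subst ht
    have hn := h2 n hr
    subst hn
    rfl
  let S' : Submodule A T := LinearMap.range p₁
  let S : Submodule A T := (LinearMap.ker p₂).map p₁
  have hSS' : S ≤ S' := by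
    rintro _ ⟨r, _, rfl⟩
    exact ⟨r, rfl⟩
  refine ⟨S, S', hSS', ⟨?_⟩⟩
  let e₁ : R ≃ₗ[A] S' := LinearEquiv.ofInjective p₁ hp₁
  let e₂ : (R ⧸ LinearMap.ker p₂) ≃ₗ[A] N := p₂.quotKerEquivOfSurjective hp₂
  refine e₂.symm.trans (Submodule.Quotient.equiv _ _ e₁ ?_)
  ext ⟨t, ht⟩
  simp only [Submodule.mem_map, Submodule.mem_comap, Submodule.subtype_apply]
  constructor
  · rintro ⟨r, hr, hrt⟩
    refine ⟨r, hr, ?_⟩
    have := congrArg Subtype.val hrt
    exact this
  · rintro ⟨r, hr, hrt⟩
    refine ⟨r, hr, ?_⟩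
    apply Subtype.ext
    exact hrt

end SubQLemmas

section Main

variable {A}

variable (L : Cx A) (hL : ∀ i : ℤ, Module.Flat A (L.X i)) (a : ℤ)
  (hbL : ∀ i : ℤ, a < i → IsZero (L.X i))

include hbL in
lemma subsingleton_homology_T (M : Cx A) (b : ℤ) (hM : ∀ i : ℤ, b < i → IsZero (M.X i)) (n : ℤ)
    (hn : a + b < n) : Subsingleton ((T L M).homology n) := by
  have h1 : Subsingleton (E L M n) := by
    refine ⟨fun x y => DFinsupp.ext fun j => ?_⟩
    by_cases hj : b < j
    · haveI := ModuleCat.subsingleton_of_isZero (hM j hj)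
      exact Subsingleton.elim _ _
    · haveI := ModuleCat.subsingleton_of_isZero (hbL (n - j) (by omega))
      exact Subsingleton.elim _ _
  haveI h2 : Subsingleton ((T L M).X n) := (eE L M n).injective.subsingleton
  haveI h3 : Subsingleton ((T L M).cycles n) := (iCycles_injective (T L M) n).subsingleton
  exact (homologyπ_surjective (T L M) n).subsingleton

include hL hbL in
theorem main (b : ℤ) : ∀ (N : ℕ) (M : Cx A), (∀ i : ℤ, b < i → IsZero (M.X i)) →
    ∀ n : ℤ, a + b < n + N →
    ∃ F : ℕ → Submodule A ((T L M).homology n),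
      F 0 = LinearMap.range (kunnethMap L M n) ∧ Monotone F ∧ F N = ⊤ ∧
      ∀ p : ℕ, SubQ A (HTor.grSucc F p) (HTor.TorSum L M n (p + 1)) := by
  intro N
  induction N with
  | zero =>
    intro M hM n hn
    haveI : Subsingleton ((T L M).homology n) :=
      subsingleton_homology_T L a hbL M b hM n (by simpa using hn)
    exact ⟨fun _ => ⊤, Subsingleton.elim _ _, monotone_const, rfl,
      fun p => SubQ.of_subsingleton⟩
  | succ N ih =>
    intro M hM n hn
    obtain ⟨FQ, hFQ0, hFQmono, hFQtop, hFQsub⟩ :=
      ih (Q M) (Q_isZero M b hM) (n + 1) (by push_cast at hn ⊢; omega)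
    have hT := tSC_shortExact L hL (ses M) (ses_shortExact M)
    let dd : (T L M).homology n →ₗ[A] (T L (Q M)).homology (n + 1) :=
      (hT.δ n (n + 1) rfl).hom
    let bs : (T L (P M)).homology n →ₗ[A] (T L M).homology n :=
      (homologyMap (tmap L (ε M)) n).hom
    let as : (T L (Q M)).homology (n + 1) →ₗ[A] (T L (P M)).homology (n + 1) :=
      (homologyMap (tmap L (ιQ M)) (n + 1)).hom
    have ex3 : Function.Exact bs dd :=
      (ShortComplex.ShortExact.moduleCat_exact_iff_function_exact _).1
        (hT.homology_exact₃ n (n + 1) rfl)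
    have ex1 : Function.Exact dd as :=
      (ShortComplex.ShortExact.moduleCat_exact_iff_function_exact _).1
        (hT.homology_exact₁ n (n + 1) rfl)
    have hΦP : ∀ m, Function.Bijective (kunnethMap L (P M) m) :=
      kunnethMap_P_bijective M L hL a hbL b hM
    have hnatb : ∀ ξ, bs (kunnethMap L (P M) n ξ) = kunnethMap L M n (kmap L (ε M) n ξ) :=
      kunnethMap_natural L (ε M) n
    have hnata : ∀ ξ, as (kunnethMap L (Q M) (n + 1) ξ) =
        kunnethMap L (P M) (n + 1) (kmap L (ιQ M) (n + 1) ξ) :=
      kunnethMap_natural L (ιQ M) (n + 1)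
    have hkb : Function.Surjective (kmap L (ε M) n) :=
      (DirectSum.lmap_surjective _).2 fun k =>
        LinearMap.lTensor_surjective _ (homologyMap_ε_surjective M k.1.2)
    obtain ⟨θ, hθ⟩ : ∃ θ : HTor.TorSum L M n 1 →ₗ[A] HTor.KunnethSum L (Q M) (n + 1),
        LinearMap.ker (kmap L (ιQ M) (n + 1)) ≤ LinearMap.range θ :=
      exists_θ L (ses M) (ses_shortExact M) (homologyMap_ε_surjective M)
        (P_homology_flat M) n
    -- the two key facts about the bottom piece
    have k1 : ∀ x ∈ LinearMap.range (kunnethMap L M n), dd x = 0 := by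
      rintro _ ⟨ξ, rfl⟩
      obtain ⟨ξ', rfl⟩ := hkb ξ
      rw [← hnatb]
      exact ex3.apply_apply_eq_zero _
    have k2 : ∀ y, dd y = 0 → y ∈ LinearMap.range (kunnethMap L M n) := by
      intro y hy
      obtain ⟨y', rfl⟩ := (ex3 y).1 hy
      obtain ⟨ξ', rfl⟩ := (hΦP n).2 y'
      exact ⟨_, (hnatb ξ').symm⟩
    let F : ℕ → Submodule A ((T L M).homology n) := fun p =>
      match p with
      | 0 => LinearMap.range (kunnethMap L M n)
      | p + 1 => (FQ p).comap dd
    refine ⟨F, rfl, ?_, ?_, ?_⟩
    · -- monotone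
      apply monotone_nat_of_le_succ
      intro p
      cases p with
      | zero =>
        intro x hx
        change dd x ∈ FQ 0
        rw [k1 x hx]
        exact zero_mem _
      | succ p => exact Submodule.comap_mono (hFQmono (Nat.le_succ p))
    · -- exhaustive
      change (FQ N).comap dd = ⊤
      rw [hFQtop, Submodule.comap_top]
    · intro p
      cases p with
      | zero =>
        -- the bottom graded piece
        have hle : Submodule.comap (F 1).subtype (F 0) ≤
            LinearMap.ker (dd ∘ₗ (F 1).subtype) := by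
          intro x hx
          exact k1 _ hx
        let dbar : HTor.grSucc F 0 →ₗ[A] (T L (Q M)).homology (n + 1) :=
          Submodule.liftQ _ (dd ∘ₗ (F 1).subtype) hle
        refine ⟨LinearMap.ker ((kunnethMap L (Q M) (n + 1) ∘ₗ θ) ∘ₗ LinearMap.fst A _ _ -
          dbar ∘ₗ LinearMap.snd A _ _), ?_, ?_⟩
        · intro q
          obtain ⟨⟨y, hy⟩, rfl⟩ := Submodule.mkQ_surjective _ q
          have hy' : dd y ∈ FQ 0 := hy
          rw [hFQ0] at hy'
          obtain ⟨ζ, hζ⟩ := hy'
          have h0 : kmap L (ιQ M) (n + 1) ζ = 0 := by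
            apply (hΦP (n + 1)).1
            rw [← hnata, hζ, map_zero]
            exact ex1.apply_apply_eq_zero y
          obtain ⟨t, rfl⟩ := hθ (LinearMap.mem_ker.2 h0)
          refine ⟨t, ?_⟩
          rw [LinearMap.mem_ker]
          change kunnethMap L (Q M) (n + 1) (θ t) - dd y = 0
          rw [hζ, sub_self]
        · intro q hq
          obtain ⟨⟨y, hy⟩, rfl⟩ := Submodule.mkQ_surjective _ q
          rw [LinearMap.mem_ker] at hq
          have hq' : kunnethMap L (Q M) (n + 1) (θ 0) - dd y = 0 := hq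
          rw [map_zero, map_zero, zero_sub, neg_eq_zero] at hq'
          rw [Submodule.mkQ_apply, Submodule.Quotient.mk_eq_zero]
          exact k2 y hq'
      | succ p =>
        obtain ⟨e, he⟩ : ∃ e : HTor.TorSum L M n (p + 2) →ₗ[A]
            HTor.TorSum L (Q M) (n + 1) (p + 1), Function.Surjective e :=
          exists_shift L (ses M) (ses_shortExact M)
            (homologyMap_ε_surjective M) (P_homology_flat M) n p
        let dres : ↥(F (p + 2)) →ₗ[A] ↥(FQ (p + 1)) :=
          (dd ∘ₗ (F (p + 2)).subtype).codRestrict (FQ (p + 1)) (fun x => x.2)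
        have hle : Submodule.comap (F (p + 2)).subtype (F (p + 1)) ≤
            Submodule.comap dres (Submodule.comap (FQ (p + 1)).subtype (FQ p)) := by
          intro x hx
          exact hx
        let j : HTor.grSucc F (p + 1) →ₗ[A] HTor.grSucc FQ p := Submodule.mapQ _ _ dres hle
        have hj : Function.Injective j := by
          rw [injective_iff_map_eq_zero]
          intro q hq
          obtain ⟨x, rfl⟩ := Submodule.mkQ_surjective _ q
          rw [Submodule.mkQ_apply] at hq ⊢
          rw [Submodule.mapQ_apply, Submodule.Quotient.mk_eq_zero] at hq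
          rw [Submodule.Quotient.mk_eq_zero]
          exact hq
        exact SubQ.comap j hj e he (hFQsub p)

end Main

end Groth.Agent.R2.H15.KMain
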