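import Groth.Agent.R2.H15KZero
import Groth.Agent.Lib.Helper17Tot10

set_option autoImplicit false
set_option linter.style.haveILetI false
universe u
open CategoryTheory CategoryTheory.Limits MonoidalCategory HomologicalComplex DirectSum

namespace Groth.Agent.R2.H15.KRes

open KModel KMap KZero

variable {A : Type u} [CommRing A]

section Fr

variable (N : Type u) [AddCommGroup N] [Module A N]

/-- A functorial-free free cover that sends zero modules to zero modules:
the free module on the nonzero elements. -/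
abbrev Fr : Type u := {x : N // x ≠ 0} →₀ A

/-- The canonical surjection `Fr N → N`. -/
noncomputable def Fr.π : Fr (A := A) N →ₗ[A] N := Finsupp.linearCombination A (fun x => x.1)

lemma Fr.π_single (x : {x : N // x ≠ 0}) : Fr.π (A := A) N (Finsupp.single x 1) = x.1 := by
  simp [Fr.π]

lemma Fr.π_surjective : Function.Surjective (Fr.π (A := A) N) := by
  intro x
  by_cases hx : x = 0
  · exact ⟨0, by simp [hx]⟩
  · exact ⟨Finsupp.single ⟨x, hx⟩ 1, Fr.π_single N _⟩

instance Fr.subsingleton [Subsingleton N] : Subsingleton (Fr (A := A) N) := by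
  haveI : IsEmpty {x : N // x ≠ 0} := ⟨fun x => x.2 (Subsingleton.elim _ _)⟩
  infer_instance

end Fr

variable (M : Cx A)

/-- Cycles as a submodule. -/
def ZZ (k : ℤ) : Submodule A (M.X k) := LinearMap.ker (M.d k (k + 1)).hom

/-- Boundaries as a submodule. -/
def BB (k : ℤ) : Submodule A (M.X k) := LinearMap.range (M.d (k - 1) k).hom

lemma BB_exists (k : ℤ) (β : BB M (k + 1)) : ∃ m : M.X k, (M.d k (k + 1)).hom m = β.1 := by
  obtain ⟨x, hx⟩ := β.2
  have : ∀ a : ℤ, a = k → ∀ x : M.X a, ∃ m : M.X k, (M.d k (k + 1)).hom m = (M.d a (k + 1)).hom x := by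
    rintro _ rfl x
    exact ⟨x, rfl⟩
  obtain ⟨m, hm⟩ := this (k + 1 - 1) (by omega) x
  exact ⟨m, hm.trans hx⟩

/-- The terms of the resolving complex. -/
abbrev PX (k : ℤ) : Type u := Fr (A := A) (ZZ M k) × Fr (A := A) (BB M (k + 1)) × Fr (A := A) (BB M k)

/-- The differential of the resolving complex. -/
noncomputable def Pd (k : ℤ) : PX M k →ₗ[A] PX M (k + 1) :=
  LinearMap.inr A _ _ ∘ₗ LinearMap.inr A _ _ ∘ₗ LinearMap.fst A _ _ ∘ₗ LinearMap.snd A _ _

lemma Pd_apply (k : ℤ) (x : PX M k) : Pd M k x = (0, 0, x.2.1) := rfl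

/-- The resolving complex. -/
noncomputable def P : Cx A :=
  CochainComplex.of (fun k => ModuleCat.of A (PX M k)) (fun k => ModuleCat.ofHom (Pd M k))
    (fun k => by
      apply ModuleCat.hom_ext
      refine LinearMap.ext fun x => ?_
      rfl)

lemma P_d (k : ℤ) : (P M).d k (k + 1) = ModuleCat.ofHom (Pd M k) :=
  CochainComplex.of_d (fun k => ModuleCat.of A (PX M k)) (fun k => ModuleCat.ofHom (Pd M k)) k

lemma d_mem_BB (k : ℤ) (m : M.X k) : (M.d k (k + 1)).hom m ∈ BB M (k + 1) := by
  have : ∀ a : ℤ, a = k → ∃ y : M.X a, (M.d a (k + 1)).hom y = (M.d k (k + 1)).hom m := by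
    rintro _ rfl
    exact ⟨m, rfl⟩
  exact this (k + 1 - 1) (by omega)

/-- Chosen lifts of boundaries. -/
noncomputable def σ (k : ℤ) : Fr (A := A) (BB M (k + 1)) →ₗ[A] M.X k :=
  Finsupp.linearCombination A (fun β => (BB_exists M k β.1).choose)

lemma d_σ (k : ℤ) (g : Fr (A := A) (BB M (k + 1))) :
    (M.d k (k + 1)).hom (σ M k g) = (Fr.π (BB M (k + 1)) g).1 := by
  have : (M.d k (k + 1)).hom ∘ₗ σ M k = (BB M (k + 1)).subtype ∘ₗ Fr.π (BB M (k + 1)) := by
    apply Finsupp.lhom_ext'
    intro β
    apply LinearMap.ext_ring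
    simp only [LinearMap.coe_comp, Function.comp_apply, Finsupp.lsingle_apply,
      Submodule.coe_subtype]
    rw [Fr.π_single]
    simp only [σ, Finsupp.linearCombination_single, one_smul]
    exact (BB_exists M k β.1).choose_spec
  exact LinearMap.congr_fun this g

/-- The components of the augmentation `P M ⟶ M`. -/
noncomputable def εf (k : ℤ) : PX M k →ₗ[A] M.X k :=
  LinearMap.coprod ((ZZ M k).subtype ∘ₗ Fr.π (ZZ M k))
    (LinearMap.coprod (σ M k) ((BB M k).subtype ∘ₗ Fr.π (BB M k)))

lemma εf_apply (k : ℤ) (x : PX M k) :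
    εf M k x = (Fr.π (ZZ M k) x.1).1 + (σ M k x.2.1 + (Fr.π (BB M k) x.2.2).1) := rfl

lemma d_εf (k : ℤ) (x : PX M k) :
    (M.d k (k + 1)).hom (εf M k x) = εf M (k + 1) (Pd M k x) := by
  rw [εf_apply, εf_apply, Pd_apply, map_add, map_add, d_σ]
  have h1 : (M.d k (k + 1)).hom (Fr.π (ZZ M k) x.1).1 = 0 := (Fr.π (ZZ M k) x.1).2
  have h2 : (M.d k (k + 1)).hom (Fr.π (BB M k) x.2.2).1 = 0 := by
    obtain ⟨y, hy⟩ := (Fr.π (BB M k) x.2.2).2
    rw [← hy]
    exact congrArg (fun g => g.hom y) (M.d_comp_d (k - 1) k (k + 1))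
  rw [h1, h2]
  simp

/-- The augmentation `P M ⟶ M`. -/
noncomputable def ε : P M ⟶ M where
  f k := ModuleCat.ofHom (εf M k)
  comm' i j hij := by
    obtain rfl : i + 1 = j := hij
    rw [P_d]
    apply ModuleCat.hom_ext
    refine LinearMap.ext fun x => ?_
    exact d_εf M i x

lemma εf_surjective (k : ℤ) : Function.Surjective (εf M k) := by
  intro m
  obtain ⟨g, hg⟩ := Fr.π_surjective (A := A) (BB M (k + 1))
    ⟨(M.d k (k + 1)).hom m, d_mem_BB M k m⟩
  have hz : m - σ M k g ∈ ZZ M k := by
    change (M.d k (k + 1)).hom (m - σ M k g) = 0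
    rw [map_sub, d_σ, hg, sub_self]
  obtain ⟨f, hf⟩ := Fr.π_surjective (A := A) (ZZ M k) ⟨m - σ M k g, hz⟩
  refine ⟨(f, g, 0), ?_⟩
  rw [εf_apply]
  simp only [hf, map_zero]
  simp

instance epi_ε : Epi (ε M) :=
  HomologicalComplex.epi_of_epi_f _ fun k =>
    (ModuleCat.epi_iff_surjective _).2 (εf_surjective M k)

/-- The zero-differential part of the resolving complex. -/
noncomputable def SS : Cx A :=
  CochainComplex.of (fun k => ModuleCat.of A (Fr (A := A) (ZZ M k))) (fun _ => 0)
    (fun _ => by simp)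

lemma SS_d (i j : ℤ) : (SS M).d i j = 0 := by
  by_cases h : i + 1 = j
  · subst h
    exact CochainComplex.of_d (fun k => ModuleCat.of A (Fr (A := A) (ZZ M k))) (fun _ => 0) i
  · exact (SS M).shape _ _ h

/-- The inclusion of the zero-differential part. -/
noncomputable def incl : SS M ⟶ P M where
  f k := ModuleCat.ofHom (LinearMap.inl A _ _)
  comm' i j hij := by
    obtain rfl : i + 1 = j := hij
    rw [P_d, SS_d, zero_comp]
    apply ModuleCat.hom_ext
    refine LinearMap.ext fun x => ?_
    rfl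

/-- The retraction onto the zero-differential part. -/
noncomputable def ret : P M ⟶ SS M where
  f k := ModuleCat.ofHom (LinearMap.fst A _ _)
  comm' i j hij := by
    obtain rfl : i + 1 = j := hij
    rw [P_d, SS_d, comp_zero]
    apply ModuleCat.hom_ext
    refine LinearMap.ext fun x => ?_
    rfl

lemma incl_ret : incl M ≫ ret M = 𝟙 _ := by
  refine HomologicalComplex.hom_ext _ _ fun k => ?_
  apply ModuleCat.hom_ext
  refine LinearMap.ext fun x => ?_
  rfl

lemma homologyMap_incl_surjective (k : ℤ) :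
    Function.Surjective (homologyMap (incl M) k).hom := by
  obtain ⟨k', rfl⟩ : ∃ k', k = k' + 1 := ⟨k - 1, by omega⟩
  intro c
  obtain ⟨z, rfl⟩ := homologyπ_surjective (P M) (k' + 1) c
  set x : PX M (k' + 1) := ((P M).iCycles (k' + 1)).hom z with hx
  have hdx : Pd M (k' + 1) x = 0 := by
    have := d_iCycles_apply (P M) (k' + 1) (k' + 1 + 1) z
    rw [P_d] at this
    exact this
  have hx2 : x.2.1 = 0 := by
    have := congrArg (fun t => t.2.2) hdx
    exact this
  obtain ⟨s, hs⟩ := (iCycles_bijective_of_zero (SS M) (SS_d M) (k' + 1)).2 x.1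
  let y : PX M k' := (0, x.2.2, 0)
  have hz : z = (cyclesMap (incl M) (k' + 1)).hom s + ((P M).toCycles k' (k' + 1)).hom y := by
    apply iCycles_injective (P M) (k' + 1)
    rw [map_add]
    erw [iCycles_cyclesMap_apply, iCycles_toCycles_apply]
    rw [P_d]
    have key : x = ((x.1, 0, 0) : PX M (k' + 1)) + ((0, 0, x.2.2) : PX M (k' + 1)) := by
      ext1
      · simp
      · ext1
        · simp [hx2]
        · simp
    rw [hs]
    exact key
  refine ⟨((SS M).homologyπ (k' + 1)).hom s, ?_⟩
  rw [hz, map_add]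
  have h1 : ((P M).homologyπ (k' + 1)).hom (((P M).toCycles k' (k' + 1)).hom y) = 0 :=
    congrArg (fun g => g.hom y) ((P M).toCycles_comp_homologyπ k' (k' + 1))
  rw [h1, add_zero]
  exact congrArg (fun g => g.hom s) (homologyπ_naturality (incl M) (k' + 1))

instance quasiIso_incl : QuasiIso (incl M) := by
  rw [quasiIso_iff]
  intro k
  rw [quasiIsoAt_iff_isIso_homologyMap]
  haveI : Mono (homologyMap (incl M) k) := by
    haveI : Mono (homologyMap (incl M) k ≫ homologyMap (ret M) k) := by
      rw [← homologyMap_comp, incl_ret, homologyMap_id]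
      infer_instance
    exact mono_of_mono _ (homologyMap (ret M) k)
  haveI : Epi (homologyMap (incl M) k) :=
    (ModuleCat.epi_iff_surjective _).2 (homologyMap_incl_surjective M k)
  exact isIso_of_mono_of_epi _

lemma homologyMap_ε_surjective (k : ℤ) :
    Function.Surjective (homologyMap (ε M) k).hom := by
  intro c
  obtain ⟨z, rfl⟩ := homologyπ_surjective M k c
  have hm : (M.iCycles k).hom z ∈ ZZ M k := d_iCycles_apply M k (k + 1) z
  obtain ⟨f, hf⟩ := Fr.π_surjective (A := A) (ZZ M k) ⟨(M.iCycles k).hom z, hm⟩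
  obtain ⟨s, hs⟩ := (iCycles_bijective_of_zero (SS M) (SS_d M) k).2 f
  have hz : z = (cyclesMap (incl M ≫ ε M) k).hom s := by
    apply iCycles_injective M k
    erw [iCycles_cyclesMap_apply]
    rw [hs]
    change _ = εf M k (f, 0, 0)
    rw [εf_apply, hf]
    simp
  refine ⟨(homologyMap (incl M) k).hom (((SS M).homologyπ k).hom s), ?_⟩
  rw [hz]
  have h1 := congrArg (fun g => g.hom s) (homologyπ_naturality (incl M ≫ ε M) k)
  rw [homologyMap_comp] at h1
  exact h1

section Bounded

variable (b : ℤ) (hM : ∀ i : ℤ, b < i → IsZero (M.X i))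
include hM

lemma P_isZero (i : ℤ) (hi : b < i) : IsZero ((P M).X i) := by
  haveI h1 : Subsingleton (M.X i) := ModuleCat.subsingleton_of_isZero (hM i hi)
  haveI h2 : Subsingleton (M.X (i + 1)) := ModuleCat.subsingleton_of_isZero (hM (i + 1) (by omega))
  haveI : Subsingleton (ZZ M i) := inferInstance
  haveI : Subsingleton (BB M i) := inferInstance
  haveI : Subsingleton (BB M (i + 1)) := inferInstance
  haveI : Subsingleton (PX M i) := inferInstance
  exact ModuleCat.isZero_of_subsingleton (ModuleCat.of A (PX M i))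

lemma SS_isZero (i : ℤ) (hi : b < i) : IsZero ((SS M).X i) := by
  haveI h1 : Subsingleton (M.X i) := ModuleCat.subsingleton_of_isZero (hM i hi)
  haveI : Subsingleton (ZZ M i) := inferInstance
  haveI : Subsingleton (Fr (A := A) (ZZ M i)) := inferInstance
  exact ModuleCat.isZero_of_subsingleton (ModuleCat.of A (Fr (A := A) (ZZ M i)))

end Bounded

lemma SS_flat (j : ℤ) : Module.Flat A ((SS M).X j) :=
  inferInstanceAs (Module.Flat A (Fr (A := A) (ZZ M j)))

lemma P_homology_flat (j : ℤ) : Module.Flat A ((P M).homology j) := by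
  haveI := SS_flat M j
  haveI := (SS M).isIso_iCycles j (j + 1) (by simp) (SS_d M _ _)
  haveI := (SS M).isIso_homologyπ (j - 1) j (by simp) (SS_d M _ _)
  have e1 : (SS M).cycles j ≃ₗ[A] (SS M).X j := (asIso ((SS M).iCycles j)).toLinearEquiv
  have e2 : (SS M).cycles j ≃ₗ[A] (SS M).homology j := (asIso ((SS M).homologyπ j)).toLinearEquiv
  have e3 : (SS M).homology j ≃ₗ[A] (P M).homology j :=
    (asIso (homologyMap (incl M) j)).toLinearEquiv
  exact Module.Flat.of_linearEquiv ((e3.symm.trans e2.symm).trans e1)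

open Groth.Agent.Lib.Helper17.Tot in
theorem kunnethMap_P_bijective (L : Cx A) (hL : ∀ i : ℤ, Module.Flat A (L.X i))
    (a : ℤ) (hbL : ∀ i : ℤ, a < i → IsZero (L.X i))
    (b : ℤ) (hM : ∀ i : ℤ, b < i → IsZero (M.X i)) (n : ℤ) :
    Function.Bijective (kunnethMap L (P M) n) := by
  haveI : QuasiIso (tmap L (incl M)) :=
    quasiIso_tensorHom_id_of_flat L (SS M) (P M) (incl M) hL a b b hbL
      (SS_isZero M b hM) (P_isZero M b hM)
  have h1 : Function.Bijective (homologyMap (tmap L (incl M)) n).hom :=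
    ConcreteCategory.bijective_of_isIso (homologyMap (tmap L (incl M)) n)
  have h2 : Function.Bijective (kunnethMap L (SS M) n) :=
    kunnethMap_bijective_of_zero_d L (SS M) (SS_d M) (SS_flat M) n
  have h3 : Function.Bijective (kmap L (incl M) n) := by
    unfold kmap
    constructor
    · refine (DirectSum.lmap_injective _).2 fun k => ?_
      have hb : Function.Bijective (homologyMap (incl M) k.1.2).hom :=
        ConcreteCategory.bijective_of_isIso (homologyMap (incl M) k.1.2)
      have he : LinearMap.lTensor (L.homology k.1.1) (homologyMap (incl M) k.1.2).hom =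
          ((LinearEquiv.ofBijective (homologyMap (incl M) k.1.2).hom hb).lTensor
            (L.homology k.1.1)).toLinearMap := by
        rw [LinearEquiv.coe_lTensor]
        rfl
      rw [he]
      exact LinearEquiv.injective _
    · refine (DirectSum.lmap_surjective _).2 fun k => ?_
      exact LinearMap.lTensor_surjective _
        (ConcreteCategory.bijective_of_isIso (homologyMap (incl M) k.1.2)).2
  have h4 : (kunnethMap L (P M) n) ∘ (kmap L (incl M) n) =
      (homologyMap (tmap L (incl M)) n).hom ∘ (kunnethMap L (SS M) n) := by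
    funext ξ
    exact (kunnethMap_natural L (incl M) n ξ).symm
  have h5 : Function.Bijective ((kunnethMap L (P M) n) ∘ (kmap L (incl M) n)) := by
    rw [h4]
    exact h1.comp h2
  exact (Function.Bijective.of_comp_iff _ h3).1 h5

/-- The kernel of the augmentation. -/
noncomputable def Q : Cx A := kernel (ε M)

/-- The inclusion of the kernel. -/
noncomputable def ιQ : Q M ⟶ P M := kernel.ι (ε M)

/-- The short exact sequence `0 ⟶ Q ⟶ P ⟶ M ⟶ 0`. -/
noncomputable def ses : ShortComplex (Cx A) :=
  ShortComplex.mk (ιQ M) (ε M) (kernel.condition _)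

lemma ses_shortExact : (ses M).ShortExact where
  exact := ShortComplex.exact_of_f_is_kernel _ (kernelIsKernel _)
  mono_f := inferInstanceAs (Mono (kernel.ι (ε M)))
  epi_g := epi_ε M

lemma Q_isZero (b : ℤ) (hM : ∀ i : ℤ, b < i → IsZero (M.X i)) (i : ℤ) (hi : b < i) :
    IsZero ((Q M).X i) := by
  haveI : Mono (ιQ M) := inferInstanceAs (Mono (kernel.ι (ε M)))
  exact IsZero.of_mono ((ιQ M).f i) (P_isZero M b hM i hi)

end Groth.Agent.R2.H15.KRes
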