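import Groth.Agent.R2.H15KMap

set_option autoImplicit false
set_option linter.style.haveILetI false
universe u
open CategoryTheory CategoryTheory.Limits MonoidalCategory HomologicalComplex DirectSum

namespace Groth.Agent.R2.H15.KZero

open KModel KMap

variable {A : Type u} [CommRing A]

lemma mem_range_lmap {ι : Type*} {M N : ι → Type*} [∀ i, AddCommGroup (M i)]
    [∀ i, Module A (M i)] [∀ i, AddCommGroup (N i)] [∀ i, Module A (N i)]
    (f : ∀ i, M i →ₗ[A] N i) (y : ⨁ i, N i) (h : ∀ i, y i ∈ LinearMap.range (f i)) :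
    y ∈ LinearMap.range (DirectSum.lmap f) := by
  classical
  rw [← DirectSum.sum_support_of y]
  refine Submodule.sum_mem _ fun i _ => ?_
  obtain ⟨m, hm⟩ := h i
  refine ⟨DirectSum.lof A ι M i m, ?_⟩
  rw [DirectSum.lmap_lof, hm]
  rfl

variable (L S : Cx A)

lemma eE_apply (n j : ℤ) (w : (T L S).X n) :
    eE L S n w j = (eIso L S n).hom w ⟨(n - j, j), by simp⟩ := rfl

lemma exact_iCycles_d (i i' : ℤ) (h : i + 1 = i') :
    Function.Exact (L.iCycles i).hom (L.d i i').hom := by
  have hc := L.cyclesIsKernel i i' (by simp; omega)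
  have := ShortComplex.exact_of_f_is_kernel
    (ShortComplex.mk (L.iCycles i) (L.d i i') (L.iCycles_d i i')) hc
  exact (ShortComplex.ShortExact.moduleCat_exact_iff_function_exact _).1 this

lemma iCycles_injective (i : ℤ) : Function.Injective (L.iCycles i).hom :=
  (ModuleCat.mono_iff_injective _).1 inferInstance

lemma iCycles_bijective_of_zero (hS : ∀ i j, S.d i j = 0) (j : ℤ) :
    Function.Bijective (S.iCycles j).hom := by
  haveI := S.isIso_iCycles j (j + 1) (by simp) (hS _ _)
  exact ConcreteCategory.bijective_of_isIso (S.iCycles j)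

/-- `⨁ Z^i(L) ⊗ Z^j(S)`. -/
abbrev V (n : ℤ) : Type u := ⨁ k : Fib n, TensorProduct A (L.cycles k.1.1) (S.cycles k.1.2)

/-- `⨁ π ⊗ π`. -/
noncomputable def Pm (n : ℤ) : V L S n →ₗ[A] HTor.KunnethSum L S n :=
  DirectSum.lmap (fun k : Fib n =>
    TensorProduct.map (L.homologyπ k.1.1).hom (S.homologyπ k.1.2).hom)

/-- The sum of the maps `cyc`. -/
noncomputable def Cm (n : ℤ) : V L S n →ₗ[A] (T L S).cycles n :=
  DirectSum.toModule A (Fib n) _ (fun k => (cyc L S n k).hom)

/-- `⨁ i ⊗ i`. -/
noncomputable def Im (n : ℤ) :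
    V L S n →ₗ[A] ⨁ k : Fib n, TensorProduct A (L.X k.1.1) (S.X k.1.2) :=
  DirectSum.lmap (fun k : Fib n =>
    TensorProduct.map (L.iCycles k.1.1).hom (S.iCycles k.1.2).hom)

lemma Pm_surjective (n : ℤ) : Function.Surjective (Pm L S n) :=
  (DirectSum.lmap_surjective _).2 fun _ =>
    TensorProduct.map_surjective (homologyπ_surjective L _) (homologyπ_surjective S _)

lemma kunnethMap_Pm (n : ℤ) (v : V L S n) :
    kunnethMap L S n (Pm L S n v) = ((T L S).homologyπ n).hom (Cm L S n v) := by
  have : kunnethMap L S n ∘ₗ Pm L S n = ((T L S).homologyπ n).hom ∘ₗ Cm L S n := by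
    apply DirectSum.linearMap_ext
    intro k
    refine LinearMap.ext fun x => ?_
    change kunnethMap L S n (Pm L S n (DirectSum.lof A _ _ k x)) =
      ((T L S).homologyπ n).hom (Cm L S n (DirectSum.lof A _ _ k x))
    unfold Pm Cm
    rw [DirectSum.lmap_lof, DirectSum.toModule_lof, kunnethMap_lof, kap_map]
  exact LinearMap.congr_fun this v

lemma eIso_iCycles_Cm (n : ℤ) (v : V L S n) :
    (eIso L S n).hom (((T L S).iCycles n).hom (Cm L S n v)) = Im L S n v := by
  have : (eIso L S n).hom.hom ∘ₗ ((T L S).iCycles n).hom ∘ₗ Cm L S n = Im L S n := by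
    apply DirectSum.linearMap_ext
    intro k
    refine LinearMap.ext fun x => ?_
    change (eIso L S n).hom (((T L S).iCycles n).hom (Cm L S n (DirectSum.lof A _ _ k x))) =
      Im L S n (DirectSum.lof A _ _ k x)
    unfold Im Cm
    rw [DirectSum.lmap_lof, DirectSum.toModule_lof]
    have h1 := congrArg (fun g => g.hom x) (cyc_i L S n k)
    have h2 := congrArg (fun g => g.hom (TensorProduct.map (L.iCycles k.1.1).hom
      (S.iCycles k.1.2).hom x)) (ι_eIso L S n k)
    refine (congrArg (fun t => (eIso L S n).hom t) h1).trans ?_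
    exact h2
  exact LinearMap.congr_fun this v

lemma kunnethMap_surjective_of_zero_d (hS : ∀ i j, S.d i j = 0)
    (hF : ∀ j, Module.Flat A (S.X j)) (n : ℤ) : Function.Surjective (kunnethMap L S n) := by
  intro c
  obtain ⟨w, rfl⟩ := homologyπ_surjective (T L S) n c
  have hx : ((T L S).d n (n + 1)).hom (((T L S).iCycles n).hom w) = 0 :=
    d_iCycles_apply (T L S) n (n + 1) w
  have hcomp : ∀ k : Fib n, (eIso L S n).hom (((T L S).iCycles n).hom w) k ∈
      LinearMap.range (TensorProduct.map (L.iCycles k.1.1).hom (S.iCycles k.1.2).hom) := by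
    rintro ⟨⟨i, j⟩, h⟩
    obtain rfl : i = n - j := by
      simp only at h
      omega
    have h2 := eE_d L S hS n (n + 1) rfl (((T L S).iCycles n).hom w)
    rw [hx, map_zero] at h2
    have h3 : LinearMap.rTensor (S.X j) (L.d (n - j) (n + 1 - j)).hom
        (eE L S n (((T L S).iCycles n).hom w) j) = 0 := by
      have := DFunLike.congr_fun h2 j
      rw [DirectSum.lmap_apply] at this
      exact this.symm
    haveI := hF j
    have hex := Module.Flat.rTensor_exact (S.X j)
      (exact_iCycles_d L (n - j) (n + 1 - j) (by omega))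
    obtain ⟨u, hu⟩ := (hex _).1 h3
    obtain ⟨v, hv⟩ := LinearMap.lTensor_surjective (L.cycles (n - j))
      (iCycles_bijective_of_zero S hS j).2 u
    refine ⟨v, ?_⟩
    rw [← LinearMap.rTensor_comp_lTensor, LinearMap.comp_apply, hv, hu]
    rfl
  obtain ⟨v, hv⟩ := mem_range_lmap _ _ hcomp
  refine ⟨Pm L S n v, ?_⟩
  rw [kunnethMap_Pm]
  apply congrArg
  apply iCycles_injective (T L S) n
  apply (eIso L S n).toLinearEquiv.injective
  exact (eIso_iCycles_Cm L S n v).trans hv

lemma kunnethMap_injective_of_zero_d (hS : ∀ i j, S.d i j = 0)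
    (hF : ∀ j, Module.Flat A (S.X j)) (n : ℤ) : Function.Injective (kunnethMap L S n) := by
  rw [injective_iff_map_eq_zero]
  intro ξ hξ
  obtain ⟨v, rfl⟩ := Pm_surjective L S n ξ
  rw [kunnethMap_Pm] at hξ
  obtain ⟨u, hu⟩ := (exact_toCycles_homologyπ (T L S) (n - 1) n (by omega) _).1 hξ
  have h1 : ((T L S).iCycles n).hom (Cm L S n v) = ((T L S).d (n - 1) n).hom u := by
    rw [← hu]
    exact iCycles_toCycles_apply (T L S) (n - 1) n u
  have h2 : Im L S n v = (eIso L S n).hom (((T L S).d (n - 1) n).hom u) := by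
    rw [← eIso_iCycles_Cm, h1]
  refine DFinsupp.ext ?_
  rintro ⟨⟨i, j⟩, h⟩
  obtain rfl : i = n - j := by
    simp only at h
    omega
  change TensorProduct.map (L.homologyπ (n - j)).hom (S.homologyπ j).hom
    (v ⟨(n - j, j), h⟩) = 0
  have h3 : TensorProduct.map (L.iCycles (n - j)).hom (S.iCycles j).hom (v ⟨(n - j, j), h⟩) =
      eE L S n (((T L S).d (n - 1) n).hom u) j := DFunLike.congr_fun h2 ⟨(n - j, j), h⟩
  rw [eE_d L S hS (n - 1) n (by omega) u, DirectSum.lmap_apply] at h3
  obtain ⟨t', ht'⟩ := LinearMap.lTensor_surjective (L.X (n - 1 - j))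
    (iCycles_bijective_of_zero S hS j).2 (eE L S (n - 1) u j)
  haveI := hF j
  have hinj : Function.Injective
      (TensorProduct.map (L.iCycles (n - j)).hom (S.iCycles j).hom) := by
    rw [← LinearMap.rTensor_comp_lTensor]
    have hb : Function.Injective (LinearMap.lTensor (L.cycles (n - j)) (S.iCycles j).hom) := by
      have he : LinearMap.lTensor (L.cycles (n - j)) (S.iCycles j).hom =
          ((LinearEquiv.ofBijective (S.iCycles j).hom
            (iCycles_bijective_of_zero S hS j)).lTensor (L.cycles (n - j))).toLinearMap := by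
        rw [LinearEquiv.coe_lTensor]
        rfl
      rw [he]
      exact LinearEquiv.injective _
    exact (Module.Flat.rTensor_preserves_injective_linearMap _ (iCycles_injective L _)).comp hb
  have h4 : v ⟨(n - j, j), h⟩ =
      LinearMap.rTensor (S.cycles j) (L.toCycles (n - 1 - j) (n - j)).hom t' := by
    apply hinj
    rw [h3, ← ht']
    have hd : (L.d (n - 1 - j) (n - j)).hom =
        (L.iCycles (n - j)).hom ∘ₗ (L.toCycles (n - 1 - j) (n - j)).hom := by
      rw [← ModuleCat.hom_comp, toCycles_i]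
    rw [hd]
    exact LinearMap.congr_fun (show
      LinearMap.rTensor (S.X j) ((L.iCycles (n - j)).hom ∘ₗ (L.toCycles (n - 1 - j) (n - j)).hom) ∘ₗ
        LinearMap.lTensor (L.X (n - 1 - j)) (S.iCycles j).hom =
      TensorProduct.map (L.iCycles (n - j)).hom (S.iCycles j).hom ∘ₗ
        LinearMap.rTensor (S.cycles j) (L.toCycles (n - 1 - j) (n - j)).hom from
      TensorProduct.ext' (fun a b => by simp)) t'
  rw [h4]
  exact LinearMap.congr_fun (show
    TensorProduct.map (L.homologyπ (n - j)).hom (S.homologyπ j).hom ∘ₗ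
      LinearMap.rTensor (S.cycles j) (L.toCycles (n - 1 - j) (n - j)).hom = 0 from
    TensorProduct.ext' (fun a b => by
      have : (L.homologyπ (n - j)).hom ((L.toCycles (n - 1 - j) (n - j)).hom a) = 0 :=
        congrArg (fun g => g.hom a) (L.toCycles_comp_homologyπ (n - 1 - j) (n - j))
      simp [this])) t'

theorem kunnethMap_bijective_of_zero_d (hS : ∀ i j, S.d i j = 0)
    (hF : ∀ j, Module.Flat A (S.X j)) (n : ℤ) : Function.Bijective (kunnethMap L S n) :=
  ⟨kunnethMap_injective_of_zero_d L S hS hF n, kunnethMap_surjective_of_zero_d L S hS hF n⟩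

end Groth.Agent.R2.H15.KZero
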