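import Mathlib
import Groth.Agent.S15828
import Groth.Agent.S14433
import Groth.Agent.Lib.Helper13KzLiftB
import Groth.Agent.Lib.Helper21ConeLES2
import Groth.Prelude.Def_DTen

/-!
# Koszul cohomology of an appended sequence whose new members lie in the old ideal

For `ys ⊆ (xs)`, `H^m(K(xs ++ ys) ⊗ M) ≅ ⊕_j H^{m+j}(K(xs) ⊗ M)^{C(r,j)}`.
-/

set_option autoImplicit false
universe u v
open CategoryTheory CategoryTheory.Limits CochainComplex HomComplex MonoidalCategory

namespace Groth.Agent.R2.H15.KoszAppend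

open Groth.Agent.Lib.Helper21

section ConeSplit

variable {A : Type u} [CommRing A]
variable {F G : CochainComplex (ModuleCat.{u} A) ℤ} (φ : F ⟶ G) (ho : Homotopy φ 0)

/-- the retraction of `inr φ` given by a null-homotopy of `φ`. -/
noncomputable def retr : mappingCone φ ⟶ G :=
  mappingCone.desc φ (Cochain.ofHomotopy ho) (𝟙 G) (by
    rw [δ_ofHomotopy, Cochain.ofHom_zero, sub_zero, Category.comp_id])

theorem inr_retr : mappingCone.inr φ ≫ retr φ ho = 𝟙 G := by
  unfold retr
  rw [mappingCone.inr_desc]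

include ho in
theorem homologyMap_eq_zero (i : ℤ) : HomologicalComplex.homologyMap φ i = 0 := by
  rw [ho.homologyMap_eq i, HomologicalComplex.homologyMap_zero]

include ho in
/-- if `φ` is null-homotopic, the cohomology of its cone splits. -/
theorem nonempty_coneSplit (i : ℤ) :
    Nonempty ((mappingCone φ).homology i ≃ₗ[A] (G.homology i × F.homology (i + 1))) := by
  have h3 := cone_homology_exact₃ φ i (i + 1) rfl
  have h1 := cone_homology_exact₁ φ i (i + 1) rfl
  rw [ShortComplex.ShortExact.moduleCat_exact_iff_function_exact] at h1 h3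
  set g := (HomologicalComplex.homologyMap (mappingCone.inr φ) i).hom with hg
  set δ := (coneδ φ i (i + 1) rfl).hom with hδ
  set s := (HomologicalComplex.homologyMap (retr φ ho) i).hom with hs
  have hsg : ∀ x, s (g x) = x := by
    intro x
    have := congrArg (fun k => k.hom x) ((HomologicalComplex.homologyMap_comp
      (mappingCone.inr φ) (retr φ ho) i).symm)
    simp only [inr_retr, HomologicalComplex.homologyMap_id] at this
    exact this
  have hδsurj : Function.Surjective δ := by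
    intro y
    have : (HomologicalComplex.homologyMap φ (i + 1)).hom y = 0 := by
      rw [homologyMap_eq_zero φ ho]
      rfl
    exact (h1 y).1 this
  have hgδ : ∀ c, δ c = 0 → ∃ x, g x = c := fun c hc => (h3 c).1 hc
  have hδg : ∀ x, δ (g x) = 0 := fun x => (h3 (g x)).2 ⟨x, rfl⟩
  refine ⟨LinearEquiv.ofBijective (LinearMap.prod s δ) ⟨?_, ?_⟩⟩
  · rw [injective_iff_map_eq_zero]
    intro c hc
    have hc1 : s c = 0 := congrArg Prod.fst hc
    have hc2 : δ c = 0 := congrArg Prod.snd hc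
    obtain ⟨x, rfl⟩ := hgδ c hc2
    rw [hsg] at hc1
    rw [hc1, map_zero]
  · rintro ⟨a, b⟩
    obtain ⟨c₀, hc₀⟩ := hδsurj b
    refine ⟨c₀ + g (a - s c₀), ?_⟩
    show (s (c₀ + g (a - s c₀)), δ (c₀ + g (a - s c₀))) = (a, b)
    rw [map_add, map_add, hsg, hδg, hc₀]
    simp

end ConeSplit

section Index

variable {A : Type u} [CommRing A] (H : ℤ → Type v) [∀ i, AddCommGroup (H i)] [∀ i, Module A (H i)]

/-- transport along an equality of degrees. -/
def castLE {a b : ℤ} (h : a = b) : H a ≃ₗ[A] H b := by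
  subst h
  exact LinearEquiv.refl A _

/-- the product of the `H (m + deg x)`. -/
abbrev Q (X : Type) (deg : X → ℕ) (m : ℤ) : Type v := (x : X) → H (m + (deg x : ℤ))

/-- reindexing along a degree-preserving equivalence. -/
noncomputable def Qcongr {X Y : Type} (dX : X → ℕ) (dY : Y → ℕ) (e : X ≃ Y)
    (he : ∀ x, dY (e x) = dX x) (m : ℤ) : Q H X dX m ≃ₗ[A] Q H Y dY m :=
  (LinearEquiv.piCongrRight (fun x => castLE (A := A) H (by rw [he x]))).trans
    (LinearEquiv.piCongrLeft A (fun y => H (m + (dY y : ℤ))) e)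

/-- splitting over a disjoint union. -/
noncomputable def Qsum {X Y : Type} (dX : X → ℕ) (dY : Y → ℕ) (m : ℤ) :
    Q H (X ⊕ Y) (Sum.elim dX dY) m ≃ₗ[A] (Q H X dX m × Q H Y dY m) :=
  LinearEquiv.sumPiEquivProdPi A X Y (fun s => H (m + ((Sum.elim dX dY s : ℕ) : ℤ)))

/-- shifting the degree function by one. -/
noncomputable def Qshift {X : Type} (d : X → ℕ) (m : ℤ) :
    Q H X (fun x => d x + 1) m ≃ₗ[A] Q H X d (m + 1) :=
  LinearEquiv.piCongrRight (fun x => castLE (A := A) H (by push_cast; ring))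

/-- the one point index type. -/
noncomputable def Qunit (m : ℤ) : Q H Unit (fun _ => 0) m ≃ₗ[A] H m :=
  (LinearEquiv.funUnique Unit A (H (m + ((0 : ℕ) : ℤ)))).trans (castLE H (by simp))

theorem exists_equiv_of_card_fibers {X Y : Type} [Finite X] [Finite Y]
    (dX : X → ℕ) (dY : Y → ℕ)
    (h : ∀ d, Nat.card {x // dX x = d} = Nat.card {y // dY y = d}) :
    ∃ e : X ≃ Y, ∀ x, dY (e x) = dX x := by
  classical
  have h' : ∀ d, Nonempty ({x // dX x = d} ≃ {y // dY y = d}) := by
    intro d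
    have := Fintype.ofFinite {x // dX x = d}
    have := Fintype.ofFinite {y // dY y = d}
    rw [← Fintype.card_eq, ← Nat.card_eq_fintype_card, ← Nat.card_eq_fintype_card]
    exact h d
  let eX : (Σ d : ℕ, {x // dX x = d}) ≃ X := Equiv.sigmaFiberEquiv dX
  let eY : (Σ d : ℕ, {y // dY y = d}) ≃ Y := Equiv.sigmaFiberEquiv dY
  let em : (Σ d : ℕ, {x // dX x = d}) ≃ (Σ d : ℕ, {y // dY y = d}) :=
    Equiv.sigmaCongrRight (fun d => (h' d).some)
  refine ⟨eX.symm.trans (em.trans eY), fun x => ?_⟩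
  show dY (eY (em (eX.symm x))) = dX x
  have h1 : dY (eY (em (eX.symm x))) = (em (eX.symm x)).1 := (em (eX.symm x)).2.2
  rw [h1]
  rfl

/-- the final form of the index type. -/
noncomputable def Qfinal (r : ℕ) (m : ℤ) :
    Q H (Σ j : Fin (r + 1), Fin (r.choose j)) (fun s => (s.1 : ℕ)) m ≃ₗ[A]
      ((j : Fin (r + 1)) → Fin (r.choose j) → H (m + ((j : ℕ) : ℤ))) :=
  LinearEquiv.piCurry A (fun (j : Fin (r + 1)) (_ : Fin (r.choose j)) => H (m + ((j : ℕ) : ℤ)))

/-- fibre cardinalities of the final index type. -/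
theorem card_fiber_final (r d : ℕ) :
    Nat.card {s : (Σ j : Fin (r + 1), Fin (r.choose j)) // (s.1 : ℕ) = d} = r.choose d := by
  rw [Nat.card_congr (Equiv.subtypeSigmaEquiv (fun j : Fin (r + 1) => Fin (r.choose j))
    (fun j => (j : ℕ) = d))]
  by_cases hd : d ≤ r
  · have : Unique {j : Fin (r + 1) // (j : ℕ) = d} :=
      { default := ⟨⟨d, Nat.lt_succ_of_le hd⟩, rfl⟩
        uniq := fun j => Subtype.ext (Fin.ext j.2) }
    rw [Nat.card_congr (Equiv.uniqueSigma _), Nat.card_eq_fintype_card, Fintype.card_fin]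
    exact congrArg _ (default : {j : Fin (r + 1) // (j : ℕ) = d}).2
  · have : IsEmpty {j : Fin (r + 1) // (j : ℕ) = d} :=
      ⟨fun j => hd (by have := j.1.2; have := j.2; omega)⟩
    rw [Nat.card_of_isEmpty, Nat.choose_eq_zero_of_lt (by omega)]

/-- fibre cardinalities of the doubled index type. -/
theorem card_fiber_sum {X : Type} [Finite X] (deg : X → ℕ) (n : ℕ)
    (h : ∀ d, Nat.card {x // deg x = d} = n.choose d) (d : ℕ) :
    Nat.card {s : X ⊕ X // Sum.elim deg (fun x => deg x + 1) s = d} = (n + 1).choose d := by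
  rw [Nat.card_congr Equiv.subtypeSum, Nat.card_sum]
  show Nat.card {x // deg x = d} + Nat.card {x // deg x + 1 = d} = _
  cases d with
  | zero =>
    have : IsEmpty {x // deg x + 1 = 0} := ⟨fun x => by have := x.2; omega⟩
    rw [Nat.card_of_isEmpty (α := {x // deg x + 1 = 0}), h 0]
    simp
  | succ k =>
    rw [Nat.card_congr (Equiv.subtypeEquivRight (p := fun x => deg x + 1 = k + 1)
      (q := fun x => deg x = k) (fun x => by omega)),
      h, h, Nat.choose_succ_succ, add_comm]

end Index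

section Main

variable (A : Type u) [CommRing A] (M : ModuleCat.{u} A)

/-- the Koszul complexes of `xs ++ ys` and `ys ++ xs` are isomorphic. -/
theorem nonempty_swap (xs ys : List A) :
    Nonempty (Koszul.koszul A (xs ++ ys) ≅ Koszul.koszul A (ys ++ xs)) := by
  obtain ⟨e1⟩ := Groth.Agent.S15828.result A xs ys
  obtain ⟨e2⟩ := Groth.Agent.S15828.result A ys xs
  exact ⟨e1.symm ≪≫ DTen.braidCx _ _ ≪≫ e2⟩

theorem nonempty_homotopy (xs l : List A) (y : A) (hy : y ∈ Ideal.span {a | a ∈ xs}) :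
    Nonempty (Homotopy (y • 𝟙 (Koszul.koszul A (l ++ xs))) 0) := by
  rw [Groth.Agent.Helper13KzLift.koszul_eq A (l ++ xs)]
  refine Groth.Agent.S14433.result (R := A) A (l ++ xs) y ?_
  refine Ideal.span_mono ?_ hy
  intro a ha
  exact List.mem_append_right l ha

/-- the cohomology of `K(xs) ⊗ M`. -/
abbrev HH (xs : List A) (i : ℤ) : Type u :=
  ((DRing.tensorCx (Koszul.koszul A xs) M).homology i : ModuleCat.{u} A)

theorem nonempty_step (xs l : List A) (y : A) (hy : y ∈ Ideal.span {a | a ∈ xs}) (i : ℤ) :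
    Nonempty (HH A M ((y :: l) ++ xs) i ≃ₗ[A] (HH A M (l ++ xs) i × HH A M (l ++ xs) (i + 1))) := by
  obtain ⟨ho⟩ := nonempty_homotopy A xs l y hy
  have ho' : Homotopy (((tensorRight M).mapHomologicalComplex (ComplexShape.up ℤ)).map
      (y • 𝟙 (Koszul.koszul A (l ++ xs)))) 0 :=
    ((tensorRight M).mapHomotopy ho).trans (Homotopy.ofEq (Functor.map_zero _ _ _))
  obtain ⟨e⟩ := nonempty_coneSplit _ ho' i
  have iso := mappingCone.mapHomologicalComplexIso (y • 𝟙 (Koszul.koszul A (l ++ xs)))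
    (tensorRight M)
  exact ⟨((HomologicalComplex.homologyFunctor _ _ i).mapIso iso).toLinearEquiv.trans e⟩

theorem exists_index (xs : List A) : ∀ l : List A, (∀ y ∈ l, y ∈ Ideal.span {a | a ∈ xs}) →
    ∃ (X : Type) (_ : Finite X) (deg : X → ℕ),
      (∀ d, Nat.card {x // deg x = d} = l.length.choose d) ∧
      ∀ m : ℤ, Nonempty (HH A M (l ++ xs) m ≃ₗ[A] Q (HH A M xs) X deg m) := by
  intro l
  induction l with
  | nil =>
    intro _
    refine ⟨Unit, inferInstance, fun _ => 0, ?_, fun m => ⟨(Qunit (A := A) (HH A M xs) m).symm⟩⟩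
    intro d
    cases d with
    | zero =>
      have : Unique {x : Unit // 0 = 0} := ⟨⟨⟨(), rfl⟩⟩, fun _ => rfl⟩
      simp
    | succ k =>
      have : IsEmpty {x : Unit // 0 = k + 1} := ⟨fun x => by have := x.2; omega⟩
      rw [Nat.card_of_isEmpty]
      simp
  | cons y l ih =>
    intro hl
    obtain ⟨X, hX, deg, hcard, hiso⟩ := ih (fun z hz => hl z (List.mem_cons_of_mem y hz))
    have hy : y ∈ Ideal.span {a | a ∈ xs} := hl y List.mem_cons_self
    refine ⟨X ⊕ X, inferInstance, Sum.elim deg (fun x => deg x + 1), ?_, fun m => ?_⟩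
    · intro d
      exact card_fiber_sum deg l.length hcard d
    · obtain ⟨e1⟩ := nonempty_step A M xs l y hy m
      obtain ⟨f0⟩ := hiso m
      obtain ⟨f1⟩ := hiso (m + 1)
      exact ⟨e1.trans ((LinearEquiv.prodCongr f0 (f1.trans (Qshift (HH A M xs) deg m).symm)).trans
        (Qsum (HH A M xs) deg (fun x => deg x + 1) m).symm)⟩

/-- the main result, as a linear equivalence. -/
theorem main (xs ys : List A) (hy : ∀ y ∈ ys, y ∈ Ideal.span {a | a ∈ xs}) (m : ℤ) :
    Nonempty (HH A M (xs ++ ys) m ≃ₗ[A]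
      ((j : Fin (ys.length + 1)) → Fin (ys.length.choose j) → HH A M xs (m + ((j : ℕ) : ℤ)))) := by
  obtain ⟨sw⟩ := nonempty_swap A xs ys
  have e0 : HH A M (xs ++ ys) m ≃ₗ[A] HH A M (ys ++ xs) m :=
    ((HomologicalComplex.homologyFunctor _ _ m).mapIso
      (((tensorRight M).mapHomologicalComplex (ComplexShape.up ℤ)).mapIso sw)).toLinearEquiv
  obtain ⟨X, hX, deg, hcard, hiso⟩ := exists_index A M xs ys hy
  obtain ⟨f⟩ := hiso m
  obtain ⟨e, he⟩ := exists_equiv_of_card_fibers (X := X)
    (Y := Σ j : Fin (ys.length + 1), Fin (ys.length.choose j)) deg (fun s => (s.1 : ℕ))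
    (fun d => by rw [hcard d, card_fiber_final])
  exact ⟨e0.trans (f.trans ((Qcongr (HH A M xs) deg _ e he m).trans
    (Qfinal (HH A M xs) ys.length m)))⟩

end Main

end Groth.Agent.R2.H15.KoszAppend
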