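import Mathlib
import Groth.Agent.R2.H15KoszAppend
import Groth.Agent.Lib.Helper13Kz
import Groth.Agent.S11917
import Groth.Prelude.Def_LCI2

/-!
# Koszul-regular generating sequences have minimal length, and conversely

Both directions come from computing `H(K(a ++ b))` in two ways when `(a) = (b)`.
-/

set_option autoImplicit false
universe u
open CategoryTheory CategoryTheory.Limits CochainComplex MonoidalCategory

namespace Groth.Agent.R2.H15.KoszMinGen

open Groth.Agent.R2.H15.KoszAppend

variable (A : Type u) [CommRing A]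

/-- `H^i(K(l) ⊗ A) ≃ H^i(K(l))`. -/
noncomputable def hhEquiv (l : List A) (i : ℤ) :
    HH A (ModuleCat.of A A) l i ≃ₗ[A] ((Koszul.koszul A l).homology i : ModuleCat.{u} A) :=
  ((HomologicalComplex.homologyFunctor _ _ i).mapIso
    (Groth.Agent.Helper13Kz.tensorIso (ModuleCat.of A A) l ≪≫
      eqToIso (Groth.Agent.Helper13KzLift.koszul_eq A l).symm)).toLinearEquiv

theorem nonempty_HH_swap (M : ModuleCat.{u} A) (xs ys : List A) (m : ℤ) :
    Nonempty (HH A M (xs ++ ys) m ≃ₗ[A] HH A M (ys ++ xs) m) := by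
  obtain ⟨sw⟩ := nonempty_swap A xs ys
  exact ⟨((HomologicalComplex.homologyFunctor _ _ m).mapIso
      (((tensorRight M).mapHomologicalComplex (ComplexShape.up ℤ)).mapIso sw)).toLinearEquiv⟩

/-- the two computations of `H^m(K(a ++ b))` for `(a) = (b)`. -/
theorem compare (a b : List A) (hab : Ideal.ofList a = Ideal.ofList b) (m : ℤ) :
    Nonempty (((j : Fin (b.length + 1)) → Fin (b.length.choose j) →
        ((Koszul.koszul A a).homology (m + ((j : ℕ) : ℤ)) : ModuleCat.{u} A)) ≃ₗ[A]
      ((j : Fin (a.length + 1)) → Fin (a.length.choose j) →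
        ((Koszul.koszul A b).homology (m + ((j : ℕ) : ℤ)) : ModuleCat.{u} A))) := by
  have hb : ∀ y ∈ b, y ∈ Ideal.span {x | x ∈ a} := by
    intro y hy
    change y ∈ Ideal.ofList a
    rw [hab]
    exact Ideal.subset_span hy
  have ha : ∀ y ∈ a, y ∈ Ideal.span {x | x ∈ b} := by
    intro y hy
    change y ∈ Ideal.ofList b
    rw [← hab]
    exact Ideal.subset_span hy
  obtain ⟨e1⟩ := main A (ModuleCat.of A A) a b hb m
  obtain ⟨e2⟩ := main A (ModuleCat.of A A) b a ha m
  obtain ⟨s⟩ := nonempty_HH_swap A (ModuleCat.of A A) a b m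
  have P1 : ((j : Fin (b.length + 1)) → Fin (b.length.choose j) →
      HH A (ModuleCat.of A A) a (m + ((j : ℕ) : ℤ))) ≃ₗ[A]
      ((j : Fin (b.length + 1)) → Fin (b.length.choose j) →
        ((Koszul.koszul A a).homology (m + ((j : ℕ) : ℤ)) : ModuleCat.{u} A)) :=
    LinearEquiv.piCongrRight (fun j : Fin (b.length + 1) => LinearEquiv.piCongrRight
      (fun _ : Fin (b.length.choose j) => hhEquiv A a (m + ((j : ℕ) : ℤ))))
  have P2 : ((j : Fin (a.length + 1)) → Fin (a.length.choose j) →
      HH A (ModuleCat.of A A) b (m + ((j : ℕ) : ℤ))) ≃ₗ[A]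
      ((j : Fin (a.length + 1)) → Fin (a.length.choose j) →
        ((Koszul.koszul A b).homology (m + ((j : ℕ) : ℤ)) : ModuleCat.{u} A)) :=
    LinearEquiv.piCongrRight (fun j : Fin (a.length + 1) => LinearEquiv.piCongrRight
      (fun _ : Fin (a.length.choose j) => hhEquiv A b (m + ((j : ℕ) : ℤ))))
  exact ⟨P1.symm.trans ((e1.symm.trans (s.trans e2)).trans P2)⟩

theorem subsingleton_factor {ι : Type} {κ : ι → Type} {X : ι → Type u} [∀ i, AddCommGroup (X i)]
    (h : Subsingleton ((j : ι) → κ j → X j)) (j : ι) (c : κ j) : Subsingleton (X j) := by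
  classical
  refine ⟨fun x y => ?_⟩
  have := congrFun (congrFun (h.elim
    (fun j' => if hj : j' = j then fun _ => hj ▸ x else 0)
    (fun j' => if hj : j' = j then fun _ => hj ▸ y else 0)) j) c
  simpa using this

/-- homology of the Koszul complex vanishes in positive degrees. -/
theorem isZero_homology_pos (l : List A) (i : ℤ) (hi : 0 < i) :
    IsZero ((Koszul.koszul A l).homology i) := by
  rw [Groth.Agent.Helper13KzLift.koszul_eq A l]
  exact Groth.Agent.Lib.Helper21.isZero_homology_of_isZero_X _ i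
    (Groth.Agent.Lib.Helper21.isZero_koszulCx_X_pos _ l i hi)

/-- `H^0(K(l))` is `A ⧸ (l)`. -/
theorem nonempty_homology_zero (l : List A) :
    Nonempty (((Koszul.koszul A l).homology 0 : ModuleCat.{u} A) ≃ₗ[A] (A ⧸ Ideal.ofList l)) := by
  rw [Groth.Agent.Helper13KzLift.koszul_eq A l]
  obtain ⟨e⟩ := Groth.Agent.S11917.main A l
  have h : Ideal.ofList l • (⊤ : Submodule A A) = Ideal.ofList l := by simp
  exact ⟨e.trans (Submodule.quotEquivOfEq _ _ h)⟩

variable {A}

/-- if `(f) = (g)`, `g` is Koszul-regular and `|f| ≤ |g|`, then `f` is Koszul-regular. -/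
theorem isKoszulRegularSeq_of_length_le (f g : List A) (hfg : Ideal.ofList f = Ideal.ofList g)
    (hg : LCI.IsKoszulRegularSeq A g) (hle : f.length ≤ g.length) :
    LCI.IsKoszulRegularSeq A f := by
  intro i hi
  rcases lt_or_gt_of_ne hi with hneg | hpos
  · obtain ⟨E⟩ := compare A f g hfg (i - (g.length : ℤ))
    have hR : Subsingleton ((j : Fin (f.length + 1)) → Fin (f.length.choose j) →
        ((Koszul.koszul A g).homology (i - (g.length : ℤ) + ((j : ℕ) : ℤ)) : ModuleCat.{u} A)) := by
      have : ∀ j : Fin (f.length + 1), Subsingleton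
          ((Koszul.koszul A g).homology (i - (g.length : ℤ) + ((j : ℕ) : ℤ)) : ModuleCat.{u} A) := by
        intro j
        refine ModuleCat.subsingleton_of_isZero (hg _ ?_)
        have := j.2
        omega
      infer_instance
    have hL := E.toEquiv.subsingleton
    have h1 := subsingleton_factor hL (Fin.last g.length)
      ⟨0, by simp [Nat.choose_self]⟩
    have h2 : i - (g.length : ℤ) + (((Fin.last g.length : Fin (g.length + 1)) : ℕ) : ℤ) = i := by
      simp
    rw [h2] at h1
    exact ModuleCat.isZero_of_subsingleton _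
  · exact isZero_homology_pos A f i hpos

/-- a Koszul-regular generating sequence of a proper ideal has minimal length. -/
theorem length_le_of_isKoszulRegularSeq (f h : List A) (hfh : Ideal.ofList h = Ideal.ofList f)
    (hI : Ideal.ofList h ≠ ⊤) (hf : LCI.IsKoszulRegularSeq A f) : f.length ≤ h.length := by
  by_contra hlt
  rw [not_le] at hlt
  obtain ⟨E⟩ := compare A h f hfh (-(f.length : ℤ))
  have hR : Subsingleton ((j : Fin (h.length + 1)) → Fin (h.length.choose j) →
      ((Koszul.koszul A f).homology (-(f.length : ℤ) + ((j : ℕ) : ℤ)) : ModuleCat.{u} A)) := by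
    have : ∀ j : Fin (h.length + 1), Subsingleton
        ((Koszul.koszul A f).homology (-(f.length : ℤ) + ((j : ℕ) : ℤ)) : ModuleCat.{u} A) := by
      intro j
      refine ModuleCat.subsingleton_of_isZero (hf _ ?_)
      have := j.2
      omega
    infer_instance
  have hL := E.toEquiv.subsingleton
  have h1 := subsingleton_factor hL (Fin.last f.length) ⟨0, by simp [Nat.choose_self]⟩
  have h2 : -(f.length : ℤ) + (((Fin.last f.length : Fin (f.length + 1)) : ℕ) : ℤ) = 0 := by
    simp
  rw [h2] at h1
  obtain ⟨e⟩ := nonempty_homology_zero A h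
  have h3 : Subsingleton (A ⧸ Ideal.ofList h) := e.symm.toEquiv.subsingleton
  rw [Ideal.Quotient.subsingleton_iff] at h3
  exact hI h3

end Groth.Agent.R2.H15.KoszMinGen
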