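import Groth.Agent.Lib.Helper13KzTor
import Groth.Agent.R2.H75KoszLimB

set_option autoImplicit false
universe u
open CategoryTheory CochainComplex CohIII

namespace Groth.Agent.R2.H15.KoszPolyA

open Groth.Agent.Helper13Kz Groth.Agent.R2.H75.KoszLimB

variable {S : Type u} [CommRing S] (M : ModuleCat.{u} S)

theorem koszulTrans_cons (n m : ℕ) (h : n ≤ m) (f : S) (fs : List S) :
    koszulTrans M n m h (f :: fs) =
      stepτ (K := fun n => koszulCx M (fs.map (· ^ n))) f
        (fun n m h => koszulTrans M n m h fs) n m h := rfl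

theorem koszulTrans_self (n : ℕ) : ∀ fs : List S, koszulTrans M n n le_rfl fs = 𝟙 _
  | [] => rfl
  | f :: fs => by
    rw [koszulTrans_cons]
    unfold stepτ
    have h := koszulTrans_self n fs
    have h2 : f ^ (n - n) • koszulTrans M n n le_rfl fs = 𝟙 _ := by
      rw [h, Nat.sub_self, pow_zero, one_smul]
    exact (map_congr _ _ _ (by rw [Category.id_comp, Category.comp_id]) h h2).trans
      (mappingCone.map_id _)

theorem koszulTrans_comp (fs : List S) (n m l : ℕ) (h1 : n ≤ m) (h2 : m ≤ l) :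
    koszulTrans M n m h1 fs ≫ koszulTrans M m l h2 fs = koszulTrans M n l (h1.trans h2) fs :=
  (isTermColim_koszul M fs).hτcomp n m l h1 h2

/-- the stages of the Koszul direct system in cohomological degree `d`. -/
noncomputable abbrev G (fs : List S) (d : ℤ) (n : ℕ) : Type u :=
  (koszulCx M (fs.map (· ^ n))).homology d

/-- the transition maps. -/
noncomputable abbrev tr (fs : List S) (d : ℤ) (n m : ℕ) (h : n ≤ m) : G M fs d n →ₗ[S] G M fs d m :=
  (HomologicalComplex.homologyMap (koszulTrans M n m h fs) d).hom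

instance (fs : List S) (d : ℤ) : DirectedSystem (G M fs d) (fun n m h => tr M fs d n m h) where
  map_self n x := by
    show (HomologicalComplex.homologyMap (koszulTrans M n n le_rfl fs) d).hom x = x
    rw [koszulTrans_self, HomologicalComplex.homologyMap_id]
    rfl
  map_map k j i hij hjk x := by
    show (HomologicalComplex.homologyMap (koszulTrans M j k hjk fs) d).hom
      ((HomologicalComplex.homologyMap (koszulTrans M i j hij fs) d).hom x) =
      (HomologicalComplex.homologyMap (koszulTrans M i k _ fs) d).hom x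
    rw [← koszulTrans_comp M fs i j k hij hjk, HomologicalComplex.homologyMap_comp]
    rfl

end Groth.Agent.R2.H15.KoszPolyA

namespace Groth.Agent.R2.H15.KoszPolyA

open Groth.Agent.Helper13Kz Groth.Agent.R2.H75.KoszLimB Groth.Agent.Lib.Helper21

variable {S : Type u} [CommRing S] (M : ModuleCat.{u} S)

omit M in
theorem inr_map {K₁ L₁ K₂ L₂ : CochainComplex (ModuleCat.{u} S) ℤ} (φ₁ : K₁ ⟶ L₁) (φ₂ : K₂ ⟶ L₂)
    (a : K₁ ⟶ K₂) (b : L₁ ⟶ L₂) (comm : φ₁ ≫ b = a ≫ φ₂) :
    mappingCone.inr φ₁ ≫ mappingCone.map φ₁ φ₂ a b comm = b ≫ mappingCone.inr φ₂ := by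
  rw [mappingCone.map, mappingCone.inr_desc]

theorem inrK_stepτ (n m : ℕ) (h : n ≤ m) (f : S) (fs : List S) :
    inrK M (f ^ n) (fs.map (· ^ n)) ≫ koszulTrans M n m h (f :: fs) =
      (f ^ (m - n) • koszulTrans M n m h fs) ≫ inrK M (f ^ m) (fs.map (· ^ m)) := by
  rw [koszulTrans_cons]
  exact inr_map _ _ _ _ _

theorem aug_trans (n m : ℕ) (h : n ≤ m) : ∀ fs : List S,
    aug M (fs.map (· ^ n)) ≫ HomologicalComplex.homologyMap (koszulTrans M n m h fs) 0 =
      ((fs.map (· ^ (m - n))).prod • 𝟙 M) ≫ aug M (fs.map (· ^ m))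
  | [] => by
    show aug M [] ≫ HomologicalComplex.homologyMap (𝟙 _) 0 = ((1 : S) • 𝟙 M) ≫ aug M []
    rw [HomologicalComplex.homologyMap_id, Category.comp_id, one_smul, Category.id_comp]
  | f :: fs => by
    have ih := aug_trans n m h fs
    show (aug M (fs.map (· ^ n)) ≫ HomologicalComplex.homologyMap (inrK M (f ^ n) (fs.map (· ^ n))) 0) ≫
      HomologicalComplex.homologyMap (koszulTrans M n m h (f :: fs)) 0 =
      ((f ^ (m - n) * (fs.map (· ^ (m - n))).prod) • 𝟙 M) ≫
        (aug M (fs.map (· ^ m)) ≫ HomologicalComplex.homologyMap (inrK M (f ^ m) (fs.map (· ^ m))) 0)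
    rw [Category.assoc, ← HomologicalComplex.homologyMap_comp, inrK_stepτ,
      HomologicalComplex.homologyMap_comp, homologyMap_smul', Linear.smul_comp, Linear.comp_smul,
      ← Category.assoc, ih, mul_smul, Linear.smul_comp, Linear.smul_comp, Linear.smul_comp,
      Category.assoc, Linear.smul_comp]

end Groth.Agent.R2.H15.KoszPolyA

namespace Groth.Agent.R2.H15.KoszPolyA

open Groth.Agent.Helper13Kz

variable {S : Type u} [CommRing S] (M : ModuleCat.{u} S)

/-- the augmentation `M → H^0(K(f^n; M))`, as a linear map. -/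
noncomputable def q (fs : List S) (n : ℕ) : M →ₗ[S] G M fs 0 n := (aug M (fs.map (· ^ n))).hom

theorem q_surjective (fs : List S) (n : ℕ) : Function.Surjective (q M fs n) :=
  aug_surjective M _

theorem q_ker (fs : List S) (n : ℕ) :
    LinearMap.ker (q M fs n) = Ideal.ofList (fs.map (· ^ n)) • (⊤ : Submodule S M) :=
  aug_ker M _

theorem tr_q (fs : List S) (n m : ℕ) (h : n ≤ m) (x : M) :
    tr M fs 0 n m h (q M fs n x) = q M fs m ((fs.map (· ^ (m - n))).prod • x) :=
  congrArg (fun k => k.hom x) (aug_trans M n m h fs)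

end Groth.Agent.R2.H15.KoszPolyA
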