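import Mathlib

set_option autoImplicit false
universe u
open MvPolynomial

namespace Groth.Agent.R2.H15.KoszPolyB

variable (A : Type u) [CommRing A] (N : ℕ)

/-- the monomial ideal generated by the `X_j ^ n`, `j ∈ J`. -/
noncomputable def powIdeal (J : Set (Fin N)) (n : ℕ) : Ideal (MvPolynomial (Fin N) A) :=
  Ideal.span ((fun s => monomial s (1 : A)) '' ((fun j => Finsupp.single j n) '' J))

variable {A N}

theorem mem_powIdeal {J : Set (Fin N)} {n : ℕ} {p : MvPolynomial (Fin N) A} :
    p ∈ powIdeal A N J n ↔ ∀ a ∈ p.support, ∃ j ∈ J, n ≤ a j := by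
  unfold powIdeal
  rw [mem_ideal_span_monomial_image]
  constructor
  · intro h a ha
    obtain ⟨_, ⟨j, hj, rfl⟩, hle⟩ := h a ha
    refine ⟨j, hj, ?_⟩
    have := hle j
    simpa using this
  · intro h a ha
    obtain ⟨j, hj, hle⟩ := h a ha
    refine ⟨_, ⟨j, hj, rfl⟩, ?_⟩
    intro i
    by_cases hij : j = i
    · subst hij; simpa using hle
    · simp [hij]

theorem powIdeal_eq_span (J : Set (Fin N)) (n : ℕ) :
    powIdeal A N J n = Ideal.span ((fun j => (X j : MvPolynomial (Fin N) A) ^ n) '' J) := by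
  unfold powIdeal
  rw [Set.image_image]
  congr 1
  ext x
  simp only [Set.mem_image, X_pow_eq_monomial]

theorem mem_of_pow_mul_mem {J : Set (Fin N)} {n : ℕ} {i : Fin N} (hi : i ∉ J)
    {p : MvPolynomial (Fin N) A} (h : X i ^ n * p ∈ powIdeal A N J n) : p ∈ powIdeal A N J n := by
  rw [mem_powIdeal] at h ⊢
  intro a ha
  have hmem : Finsupp.single i n + a ∈ (X i ^ n * p).support := by
    rw [mem_support_iff, X_pow_eq_monomial, coeff_monomial_mul, one_mul]
    exact mem_support_iff.1 ha
  obtain ⟨j, hj, hle⟩ := h _ hmem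
  refine ⟨j, hj, ?_⟩
  have hji : i ≠ j := fun e => hi (e ▸ hj)
  simpa [Finsupp.single_apply, hji] using hle

/-- the monomial with exponent vector `a`. -/
noncomputable def mono (a : Fin N → ℕ) : MvPolynomial (Fin N) A :=
  monomial (Finsupp.equivFunOnFinite.symm a) 1

theorem mono_mul (a b : Fin N → ℕ) : (mono a : MvPolynomial (Fin N) A) * mono b = mono (a + b) := by
  unfold mono
  rw [monomial_mul, one_mul]
  have h : Finsupp.equivFunOnFinite.symm a + Finsupp.equivFunOnFinite.symm b =
      Finsupp.equivFunOnFinite.symm (a + b) := by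
    ext i
    simp
  rw [h]

theorem monomial_eq_mono (a : Fin N →₀ ℕ) : (monomial a (1 : A)) = mono (fun j => a j) := by
  unfold mono
  have h : Finsupp.equivFunOnFinite.symm (fun j => a j) = a := by
    ext i
    simp
  rw [h]

theorem prod_pow (e : ℕ) :
    ((List.ofFn (fun j : Fin N => (X j : MvPolynomial (Fin N) A))).map (· ^ e)).prod =
      mono (fun _ => e) := by
  rw [List.map_ofFn, List.prod_ofFn]
  unfold mono
  rw [monomial_eq, Finsupp.prod_fintype _ _ (fun i => pow_zero _), C_1, one_mul]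
  refine Finset.prod_congr rfl (fun i _ => ?_)
  simp

theorem mono_mem_powIdeal {J : Set (Fin N)} {n : ℕ} (a : Fin N → ℕ) (j : Fin N) (hj : j ∈ J)
    (h : n ≤ a j) : (mono a : MvPolynomial (Fin N) A) ∈ powIdeal A N J n := by
  rw [mem_powIdeal]
  intro a' ha'
  have := support_monomial_subset ha'
  rw [Finset.mem_singleton] at this
  subst this
  exact ⟨j, hj, by simpa using h⟩

theorem ofList_pow (n : ℕ) :
    Ideal.ofList ((List.ofFn (fun j : Fin N => (X j : MvPolynomial (Fin N) A))).map (· ^ n)) =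
      powIdeal A N Set.univ n := by
  rw [powIdeal_eq_span, Ideal.ofList]
  congr 1
  ext x
  simp only [List.mem_map, List.mem_ofFn, Set.mem_ofPred_eq, Set.image_univ, Set.mem_range]
  constructor
  · rintro ⟨_, ⟨j, rfl⟩, rfl⟩
    exact ⟨j, rfl⟩
  · rintro ⟨j, rfl⟩
    exact ⟨_, ⟨j, rfl⟩, rfl⟩

end Groth.Agent.R2.H15.KoszPolyB

namespace Groth.Agent.R2.H15.KoszPolyB

variable {A : Type u} [CommRing A] {N : ℕ}

theorem ofList_take_pow (n i : ℕ) :
    Ideal.ofList ((List.ofFn (fun j : Fin N => (X j : MvPolynomial (Fin N) A) ^ n)).take i) =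
      powIdeal A N {j | j.val < i} n := by
  rw [powIdeal_eq_span, Ideal.ofList]
  congr 1
  ext x
  simp only [Set.mem_ofPred_eq, Set.mem_image]
  rw [List.mem_take_iff_getElem]
  constructor
  · rintro ⟨j, hj, rfl⟩
    rw [List.length_ofFn] at hj
    refine ⟨⟨j, (lt_min_iff.1 hj).2⟩, (lt_min_iff.1 hj).1, ?_⟩
    rw [List.getElem_ofFn]
  · rintro ⟨j, hj, rfl⟩
    refine ⟨j.val, ?_, ?_⟩
    · rw [List.length_ofFn]
      exact lt_min_iff.2 ⟨hj, j.isLt⟩
    · rw [List.getElem_ofFn]

theorem isWeaklyRegular_pow (n : ℕ) :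
    RingTheory.Sequence.IsWeaklyRegular (MvPolynomial (Fin N) A)
      ((List.ofFn (fun j : Fin N => (X j : MvPolynomial (Fin N) A))).map (· ^ n)) := by
  rw [List.map_ofFn]
  refine ⟨fun i hi => ?_⟩
  have hi' : i < N := by rwa [List.length_ofFn] at hi
  rw [isSMulRegular_quotient_iff_mem_of_smul_mem]
  intro p hp
  have e : ((fun x : MvPolynomial (Fin N) A => x ^ n) ∘ fun j : Fin N => (X j : MvPolynomial (Fin N) A)) =
      fun j : Fin N => (X j : MvPolynomial (Fin N) A) ^ n := rfl
  simp only [e] at hp ⊢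
  rw [ofList_take_pow, smul_eq_mul, Ideal.mul_top] at hp ⊢
  rw [List.getElem_ofFn] at hp
  exact mem_of_pow_mul_mem (i := ⟨i, hi'⟩) (fun h => lt_irrefl i h) hp

end Groth.Agent.R2.H15.KoszPolyB

namespace Groth.Agent.R2.H15.KoszPolyB

variable {A : Type u} [CommRing A] {N : ℕ}

/-- exponent vector of the monomial representing `T^{-(k+1)}` at level `m`. -/
def ex (m : ℕ) (k : Fin N → ℕ) : Fin N → ℕ := fun j => m - 1 - k j

theorem coeffs_zero_of_mem (m : ℕ) (s : Finset (Fin N → ℕ)) (c : (Fin N → ℕ) → A)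
    (hs : ∀ k ∈ s, ∀ j, k j < m)
    (h : ∑ k ∈ s, C (c k) * mono (ex m k) ∈ powIdeal A N Set.univ m) : ∀ k ∈ s, c k = 0 := by
  intro k₀ hk₀
  by_contra hne
  rw [mem_powIdeal] at h
  have hcoeff : coeff (Finsupp.equivFunOnFinite.symm (ex m k₀))
      (∑ k ∈ s, C (c k) * (mono (ex m k) : MvPolynomial (Fin N) A)) = c k₀ := by
    rw [coeff_sum, Finset.sum_eq_single k₀]
    · unfold mono
      rw [coeff_C_mul, coeff_monomial, if_pos rfl, mul_one]
    · intro k hk hne'
      unfold mono
      rw [coeff_C_mul, coeff_monomial, if_neg, mul_zero]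
      intro heq
      apply hne'
      have h0 := Finsupp.equivFunOnFinite.symm.injective heq
      funext j
      have hj := congrFun h0 j
      simp only [ex] at hj
      have h1 := hs k hk j
      have h2 := hs k₀ hk₀ j
      omega
    · intro h'
      exact absurd hk₀ h'
  have hsupp : Finsupp.equivFunOnFinite.symm (ex m k₀) ∈
      (∑ k ∈ s, C (c k) * (mono (ex m k) : MvPolynomial (Fin N) A)).support := by
    rw [mem_support_iff, hcoeff]
    exact hne
  obtain ⟨j, -, hj⟩ := h _ hsupp
  have h2 := hs k₀ hk₀ j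
  simp [ex] at hj
  omega

theorem monomial_cases (n : ℕ) (a : Fin N →₀ ℕ) :
    (monomial a (1 : A) ∈ powIdeal A N Set.univ n) ∨
      ∃ k : Fin N → ℕ, (∀ j, k j < n) ∧ monomial a (1 : A) = mono (ex n k) := by
  by_cases h : ∃ j, n ≤ a j
  · left
    obtain ⟨j, hj⟩ := h
    rw [monomial_eq_mono]
    exact mono_mem_powIdeal _ j trivial hj
  · right
    push Not at h
    refine ⟨fun j => n - 1 - a j, fun j => ?_, ?_⟩
    · have := h j
      show n - 1 - a j < n
      omega
    · rw [monomial_eq_mono]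
      congr 1
      funext j
      have := h j
      simp only [ex]
      omega

end Groth.Agent.R2.H15.KoszPolyB
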