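import Groth.Agent.R2.H15KoszPolyA
import Groth.Agent.R2.H15KoszPolyB

set_option autoImplicit false
set_option linter.style.haveILetI false
universe u
open CategoryTheory CohIII MvPolynomial

namespace Groth.Agent.R2.H15.KoszPolyC

open KoszPolyA KoszPolyB

theorem free_restrictScalars_of {A S X ι : Type*} [CommRing A] [CommRing S] [Algebra A S]
    [AddCommGroup X] [Module S X] (b : ι → X)
    (hind : ∀ (s : Finset ι) (c : ι → A), ∑ k ∈ s, algebraMap A S (c k) • b k = 0 → ∀ k ∈ s, c k = 0)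
    (hspan : ∀ x : X, x ∈ AddSubgroup.closure {y : X | ∃ (c : A) (k : ι), y = algebraMap A S c • b k}) :
    Module.Free A (RestrictScalars A S X) := by
  letI : Module A X := Module.compHom X (algebraMap A S)
  have hli : LinearIndependent A b := by
    refine linearIndependent_iff'.2 ?_
    intro s g hg i hi
    exact hind s g hg i hi
  have hsp : ⊤ ≤ Submodule.span A (Set.range b) := by
    intro x _
    have hx := hspan x
    refine AddSubgroup.closure_induction (p := fun y _ => y ∈
      Submodule.span A (Set.range b)) ?_ ?_ ?_ ?_ hx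
    · rintro y ⟨c, k, rfl⟩
      exact Submodule.smul_mem _ c (Submodule.subset_span ⟨k, rfl⟩)
    · exact Submodule.zero_mem _
    · intro y z _ _ hy hz
      exact Submodule.add_mem _ hy hz
    · intro y _ hy
      exact Submodule.neg_mem _ hy
  have : Module.Free A X := Module.Free.of_basis (Module.Basis.mk hli hsp)
  exact this

end Groth.Agent.R2.H15.KoszPolyC

namespace Groth.Agent.R2.H15.KoszPolyC

open KoszPolyA KoszPolyB Groth.Agent.Helper13Kz

variable (A : Type u) [CommRing A] (r : ℕ)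

/-- the polynomial ring as a module over itself. -/
noncomputable abbrev MP : ModuleCat.{u} (MvPolynomial (Fin (r + 1)) A) :=
  ModuleCat.of (MvPolynomial (Fin (r + 1)) A) (MvPolynomial (Fin (r + 1)) A)

/-- the list of variables. -/
noncomputable abbrev vars : List (MvPolynomial (Fin (r + 1)) A) :=
  List.ofFn (fun j : Fin (r + 1) => (X j : MvPolynomial (Fin (r + 1)) A))

/-- the direct limit of the Koszul cohomologies of the powers in degree `d`. -/
noncomputable abbrev DL (d : ℤ) : Type u :=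
  Module.DirectLimit (G (MP A r) (vars A r) d) (fun n m h => tr (MP A r) (vars A r) d n m h)

theorem subsingleton_G (d : ℤ) (hd : d ≠ 0) (n : ℕ) : Subsingleton (G (MP A r) (vars A r) d n) :=
  ModuleCat.subsingleton_of_isZero
    (isZero_KH_of_weaklyRegular _ (MP A r) (isWeaklyRegular_pow n) d hd)

theorem subsingleton_DL (d : ℤ) (hd : d ≠ 0) : Subsingleton (DL A r d) := by
  refine ⟨fun x y => ?_⟩
  obtain ⟨n, x', rfl⟩ := Module.DirectLimit.exists_of x
  obtain ⟨m, y', rfl⟩ := Module.DirectLimit.exists_of y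
  haveI := subsingleton_G A r d hd n
  haveI := subsingleton_G A r d hd m
  rw [Subsingleton.elim x' 0, Subsingleton.elim y' 0, map_zero, map_zero]

end Groth.Agent.R2.H15.KoszPolyC

namespace Groth.Agent.R2.H15.KoszPolyC

open KoszPolyA KoszPolyB Groth.Agent.Helper13Kz

variable {A : Type u} [CommRing A] {r : ℕ}

/-- the augmentation at level `n`. -/
noncomputable abbrev q' (A : Type u) [CommRing A] (r : ℕ) (n : ℕ) : MvPolynomial (Fin (r + 1)) A →ₗ[MvPolynomial (Fin (r + 1)) A]
    G (MP A r) (vars A r) 0 n := q (MP A r) (vars A r) n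

theorem q'_eq_zero_iff (n : ℕ) (p : MvPolynomial (Fin (r + 1)) A) :
    q' A r n p = 0 ↔ p ∈ powIdeal A (r + 1) Set.univ n := by
  have h := q_ker (MP A r) (vars A r) n
  rw [ofList_pow] at h
  rw [← LinearMap.mem_ker]
  show p ∈ LinearMap.ker (q (MP A r) (vars A r) n) ↔ _
  rw [h]
  show p ∈ (powIdeal A (r + 1) Set.univ n) • (⊤ : Ideal (MvPolynomial (Fin (r + 1)) A)) ↔ _
  rw [smul_eq_mul, Ideal.mul_top]

theorem tr_q' (n m : ℕ) (h : n ≤ m) (p : MvPolynomial (Fin (r + 1)) A) :
    tr (MP A r) (vars A r) 0 n m h (q' A r n p) = q' A r m (mono (fun _ => m - n) * p) := by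
  have := tr_q (MP A r) (vars A r) n m h p
  rw [prod_pow] at this
  exact this

/-- the level at which the basis element `T^{-(k+1)}` first appears. -/
def nk (k : Fin (r + 1) → ℕ) : ℕ := Finset.univ.sup k + 1

theorem lt_nk (k : Fin (r + 1) → ℕ) (j : Fin (r + 1)) : k j < nk k :=
  Nat.lt_succ_of_le (Finset.le_sup (f := k) (Finset.mem_univ j))

theorem nk_le (k : Fin (r + 1) → ℕ) (n : ℕ) (hk : ∀ j, k j < n) : nk k ≤ n := by
  have h0 : 0 < n := Nat.zero_lt_of_lt (hk 0)
  have : Finset.univ.sup k < n := (Finset.sup_lt_iff (by exact h0)).2 (fun j _ => hk j)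
  exact this

theorem ex_add (n m : ℕ) (h : n ≤ m) (k : Fin (r + 1) → ℕ) (hk : ∀ j, k j < n) :
    (fun _ => m - n) + ex n k = ex m k := by
  funext j
  have := hk j
  simp only [Pi.add_apply, ex]
  omega

/-- the canonical map from level `n` to the direct limit. -/
noncomputable abbrev ofDL (A : Type u) [CommRing A] (r : ℕ) (n : ℕ) : G (MP A r) (vars A r) 0 n →ₗ[MvPolynomial (Fin (r + 1)) A] DL A r 0 :=
  Module.DirectLimit.of (MvPolynomial (Fin (r + 1)) A) ℕ (G (MP A r) (vars A r) 0)
    (fun n m h => tr (MP A r) (vars A r) 0 n m h) n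

/-- the basis element `T^{-(k+1)}` of the direct limit. -/
noncomputable def bb (A : Type u) [CommRing A] {r : ℕ} (k : Fin (r + 1) → ℕ) : DL A r 0 :=
  ofDL A r (nk k) (q' A r (nk k) (mono (ex (nk k) k)))

theorem of_q'_mono (n : ℕ) (k : Fin (r + 1) → ℕ) (hk : ∀ j, k j < n) :
    ofDL A r n (q' A r n (mono (ex n k))) = bb A k := by
  have hle : nk k ≤ n := nk_le k n hk
  unfold bb
  rw [← Module.DirectLimit.of_f (hij := hle), tr_q', mono_mul, ex_add _ _ hle k (lt_nk k)]

end Groth.Agent.R2.H15.KoszPolyC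

namespace Groth.Agent.R2.H15.KoszPolyC

open KoszPolyA KoszPolyB Groth.Agent.Helper13Kz

variable {A : Type u} [CommRing A] {r : ℕ}

theorem bb_ind (s : Finset (Fin (r + 1) → ℕ)) (c : (Fin (r + 1) → ℕ) → A)
    (h : ∑ k ∈ s, algebraMap A (MvPolynomial (Fin (r + 1)) A) (c k) • (bb A k : DL A r 0) = 0) :
    ∀ k ∈ s, c k = 0 := by
  set n := s.sup nk with hn
  have hkn : ∀ k ∈ s, ∀ j, k j < n := fun k hk j =>
    lt_of_lt_of_le (lt_nk k j) (Finset.le_sup (f := nk) hk)
  have h1 : ofDL A r n (q' A r n (∑ k ∈ s, C (c k) * mono (ex n k) : MvPolynomial (Fin (r + 1)) A)) = 0 := by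
    rw [map_sum, map_sum, ← h]
    refine Finset.sum_congr rfl (fun k hk => ?_)
    rw [← of_q'_mono n k (hkn k hk), ← smul_eq_mul, map_smul, map_smul]
    rfl
  obtain ⟨m, hnm, hm⟩ := Module.DirectLimit.of.zero_exact h1
  rw [tr_q', q'_eq_zero_iff, Finset.mul_sum] at hm
  have h2 : ∑ k ∈ s, mono (fun _ => m - n) * (C (c k) * mono (ex n k)) =
      ∑ k ∈ s, C (c k) * (mono (ex m k) : MvPolynomial (Fin (r + 1)) A) := by
    refine Finset.sum_congr rfl (fun k hk => ?_)
    rw [mul_left_comm, mono_mul, ex_add n m hnm k (hkn k hk)]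
  rw [h2] at hm
  exact coeffs_zero_of_mem m s c (fun k hk j => lt_of_lt_of_le (hkn k hk j) hnm) hm

theorem bb_span (z : DL A r 0) :
    z ∈ AddSubgroup.closure {y : DL A r 0 | ∃ (c : A) (k : Fin (r + 1) → ℕ),
      y = algebraMap A (MvPolynomial (Fin (r + 1)) A) c • bb A k} := by
  obtain ⟨n, x, rfl⟩ := Module.DirectLimit.exists_of z
  obtain ⟨p, rfl⟩ := q_surjective (MP A r) (vars A r) n x
  have hp : p = ∑ a ∈ p.support, C (coeff a p) * monomial a (1 : A) := by
    conv_lhs => rw [p.as_sum]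
    refine Finset.sum_congr rfl (fun a _ => ?_)
    rw [C_mul_monomial, mul_one]
  rw [hp]
  change ofDL A r n (q' A r n _) ∈ _
  rw [map_sum, map_sum]
  refine AddSubgroup.sum_mem _ (fun a _ => ?_)
  rw [← smul_eq_mul, map_smul, map_smul]
  rcases monomial_cases (A := A) n a with h | ⟨k, hk, h⟩
  · rw [(q'_eq_zero_iff n _).2 h, map_zero, smul_zero]
    exact AddSubgroup.zero_mem _
  · rw [h, of_q'_mono n k hk]
    exact AddSubgroup.subset_closure ⟨_, k, rfl⟩

theorem free_DL : Module.Free A (RestrictScalars A (MvPolynomial (Fin (r + 1)) A) (DL A r 0)) :=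
  free_restrictScalars_of (bb A) bb_ind bb_span

end Groth.Agent.R2.H15.KoszPolyC

namespace Groth.Agent.R2.H15.KoszPolyC

variable {A : Type u} [CommRing A] {r : ℕ}

theorem free_DL' (d : ℤ) (hd : d = 0) :
    Module.Free A (RestrictScalars A (MvPolynomial (Fin (r + 1)) A) (DL A r d)) := by
  subst hd
  exact free_DL

end Groth.Agent.R2.H15.KoszPolyC
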