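import Groth.Agent.R2.H15KoszMinGen
import Groth.Agent.R2.H75KoszLimC
import Groth.Prelude.Def_ega3

/-!
# Powers of a Koszul-regular sequence are Koszul-regular

Via the long exact sequence of the cone of `f • 𝟙 K`: `H^i(cone (f • 𝟙 K)) = 0` iff `f` is onto on
`H^i(K)` and one-to-one on `H^{i+1}(K)`; this is multiplicative in `f`.  Together with the
rotation invariance of the Koszul complex this gives the statement for all members of the list.
Consequence: the direct limit of the Koszul cohomology of the powers vanishes outside the top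
degree.
-/

set_option autoImplicit false
universe u
open CategoryTheory CategoryTheory.Limits CochainComplex

namespace Groth.Agent.R2.H15.KoszPowers

open Groth.Agent.Lib.Helper21

variable {A : Type u} [CommRing A]

lemma homologyMap_smul_id_apply (K : CochainComplex (ModuleCat.{u} A) ℤ) (f : A) (j : ℤ)
    (x : K.homology j) : (HomologicalComplex.homologyMap (f • 𝟙 K) j).hom x = f • x := by
  rw [Groth.Agent.R2.H75.KoszLimC.homologyMap_smul', HomologicalComplex.homologyMap_id]
  rfl

/-- acyclicity of the cone of `f • 𝟙 K` in degree `i`, in terms of the action of `f` on the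
cohomology of `K`. -/
theorem isZero_cone_smul_iff (K : CochainComplex (ModuleCat.{u} A) ℤ) (f : A) (i : ℤ) :
    IsZero ((mappingCone (f • 𝟙 K)).homology i) ↔
      Function.Surjective (fun x : K.homology i => f • x) ∧
        Function.Injective (fun x : K.homology (i + 1) => f • x) := by
  have h1 := cone_homology_exact₁ (f • 𝟙 K) i (i + 1) rfl
  have h2 := cone_homology_exact₂ (f • 𝟙 K) i
  have h3 := cone_homology_exact₃ (f • 𝟙 K) i (i + 1) rfl
  rw [ShortComplex.ShortExact.moduleCat_exact_iff_function_exact] at h1 h2 h3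
  rw [ModuleCat.isZero_iff_subsingleton]
  constructor
  · intro hs
    constructor
    · intro y
      obtain ⟨x, hx⟩ := (h2 y).1 (Subsingleton.elim _ _)
      refine ⟨x, ?_⟩
      rw [← hx]
      exact (homologyMap_smul_id_apply K f i x).symm
    · intro x x' hxx
      have h0 : (HomologicalComplex.homologyMap (f • 𝟙 K) (i + 1)).hom (x - x') = 0 := by
        rw [homologyMap_smul_id_apply, smul_sub]
        exact sub_eq_zero.2 hxx
      obtain ⟨c, hc⟩ := (h1 (x - x')).1 h0
      have hc0 : c = 0 := Subsingleton.elim _ _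
      rw [hc0, map_zero] at hc
      exact sub_eq_zero.1 hc.symm
  · rintro ⟨hsurj, hinj⟩
    refine ⟨fun c c' => ?_⟩
    have key : ∀ c : (mappingCone (f • 𝟙 K)).homology i, c = 0 := by
      intro c
      have hδ : (coneδ (f • 𝟙 K) i (i + 1) rfl).hom c = 0 := by
        apply hinj
        show f • _ = f • 0
        rw [smul_zero, ← homologyMap_smul_id_apply]
        exact (h1 _).2 ⟨c, rfl⟩
      obtain ⟨y, rfl⟩ := (h3 c).1 hδ
      obtain ⟨x, rfl⟩ := hsurj y
      show (HomologicalComplex.homologyMap (mappingCone.inr (f • 𝟙 K)) i).hom (f • x) = 0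
      rw [← homologyMap_smul_id_apply]
      exact (h2 _).2 ⟨x, rfl⟩
    rw [key c, key c']

theorem isZero_cone_mul (K : CochainComplex (ModuleCat.{u} A) ℤ) (f g : A) (i : ℤ)
    (hf : IsZero ((mappingCone (f • 𝟙 K)).homology i))
    (hg : IsZero ((mappingCone (g • 𝟙 K)).homology i)) :
    IsZero ((mappingCone ((f * g) • 𝟙 K)).homology i) := by
  rw [isZero_cone_smul_iff] at hf hg ⊢
  refine ⟨?_, ?_⟩
  · have := hf.1.comp hg.1
    convert this using 1
    funext x
    exact mul_smul f g x
  · have := hf.2.comp hg.2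
    convert this using 1
    funext x
    exact mul_smul f g x

theorem isZero_cone_pow (K : CochainComplex (ModuleCat.{u} A) ℤ) (f : A) (i : ℤ)
    (hf : IsZero ((mappingCone (f • 𝟙 K)).homology i)) :
    ∀ n : ℕ, IsZero ((mappingCone ((f ^ n) • 𝟙 K)).homology i)
  | 0 => by
    rw [isZero_cone_smul_iff]
    refine ⟨fun y => ⟨y, ?_⟩, fun x x' h => ?_⟩
    · simp
    · simpa using h
  | n + 1 => by
    rw [pow_succ]
    exact isZero_cone_mul K _ _ i (isZero_cone_pow K f i hf n) hf

theorem kr_cons_pow (f : A) (l : List A) (n : ℕ) (h : LCI.IsKoszulRegularSeq A (f :: l)) :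
    LCI.IsKoszulRegularSeq A (f ^ n :: l) :=
  fun i hi => isZero_cone_pow (Koszul.koszul A l) f i (h i hi) n

theorem kr_swap (a b : List A) (h : LCI.IsKoszulRegularSeq A (a ++ b)) :
    LCI.IsKoszulRegularSeq A (b ++ a) := by
  obtain ⟨e⟩ := Groth.Agent.R2.H15.KoszAppend.nonempty_swap A a b
  intro i hi
  exact IsZero.of_iso (h i hi) ((HomologicalComplex.homologyFunctor _ _ i).mapIso e).symm

theorem kr_map_pow_aux (n : ℕ) : ∀ (a b : List A), LCI.IsKoszulRegularSeq A (a ++ b) →
    LCI.IsKoszulRegularSeq A (a.map (· ^ n) ++ b)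
  | [], b, h => h
  | x :: a, b, h => by
    have h1 : LCI.IsKoszulRegularSeq A (x ^ n :: (a ++ b)) := kr_cons_pow x (a ++ b) n h
    have h2 : LCI.IsKoszulRegularSeq A (a ++ (b ++ [x ^ n])) := by
      have := kr_swap [x ^ n] (a ++ b) h1
      rwa [List.append_assoc] at this
    have h3 := kr_map_pow_aux n a (b ++ [x ^ n]) h2
    have h4 := kr_swap (a.map (· ^ n) ++ b) [x ^ n] (by rwa [List.append_assoc])
    exact h4

/-- **powers of a Koszul-regular sequence form a Koszul-regular sequence.** -/
theorem kr_map_pow (l : List A) (n : ℕ) (h : LCI.IsKoszulRegularSeq A l) :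
    LCI.IsKoszulRegularSeq A (l.map (· ^ n)) := by
  have := kr_map_pow_aux n l [] (by rwa [List.append_nil])
  rwa [List.append_nil] at this

/-- the direct limit of Koszul cohomology of the powers vanishes outside the top degree for a
Koszul-regular sequence. -/
theorem subsingleton_koszulHLim (fs : List A) (h : LCI.IsKoszulRegularSeq A fs) (p : ℕ)
    (hp : (p : ℤ) ≠ fs.length) :
    Subsingleton (CohIII.koszulHLim fs (ModuleCat.of A A) p) := by
  have hz : ∀ n : ℕ, Subsingleton (CohIII.koszulHPow fs (ModuleCat.of A A) p n) := by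
    intro n
    have hkr := kr_map_pow fs n h ((p : ℤ) - fs.length) (sub_ne_zero.2 hp)
    exact ModuleCat.subsingleton_of_isZero
      ((Groth.Agent.Helper13KzLift.isZero_congr
        (Groth.Agent.Helper13KzLift.koszul_eq A (fs.map (· ^ n))) _).mp hkr)
  refine ⟨fun z z' => ?_⟩
  have key : ∀ z : CohIII.koszulHLim fs (ModuleCat.of A A) p, z = 0 := by
    intro z
    obtain ⟨n, x, rfl⟩ := Module.DirectLimit.exists_of z
    have := hz n
    have hx : x = 0 := Subsingleton.elim _ _
    rw [hx]
    exact map_zero _
  rw [key z, key z']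

end Groth.Agent.R2.H15.KoszPowers
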