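import Mathlib
import Groth.Agent.Lib.Helper13KzTor
import Groth.Agent.Lib.Helper13KzLiftH
import Groth.Prelude.Def_LCI2

/-!
# Koszul complexes with coefficients in the quotient by a Koszul-regular sequence

* `quasiIso_coneMap`: a map of mapping cones induced by two quasi-isomorphisms is a
  quasi-isomorphism.
* `augCx`: the augmentation chain map `K(l; M) ⟶ N[0]` for a module `N` killed by `l`.
* `nonempty_homology_iso_quot`: if `l` is Koszul-regular then
  `H^k(K(g; A/(l))) ≅ H^k(K(g ++ l; A))` for every list `g`.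
* `nonempty_tor_iso_KH_of_kr`: Koszul homology of a Koszul-regular sequence computes `Tor`.
-/

set_option autoImplicit false
universe u
open CategoryTheory CategoryTheory.Limits CochainComplex HomComplex MonoidalCategory

namespace Groth.Agent.R2.H15.KoszQI

attribute [local instance] HasDerivedCategory.standard

open CohIII Groth.Agent.Lib.Helper21 Groth.Agent.Helper13Kz

variable {A : Type u} [CommRing A]

/-- a map of mapping cones induced by quasi-isomorphisms is a quasi-isomorphism. -/
theorem quasiIso_coneMap {K₁ L₁ K₂ L₂ : CochainComplex (ModuleCat.{u} A) ℤ} (φ₁ : K₁ ⟶ L₁)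
    (φ₂ : K₂ ⟶ L₂) (a : K₁ ⟶ K₂) (b : L₁ ⟶ L₂) (comm : φ₁ ≫ b = a ≫ φ₂)
    (ha : QuasiIso a) (hb : QuasiIso b) : QuasiIso (mappingCone.map φ₁ φ₂ a b comm) := by
  rw [← DerivedCategory.isIso_Q_map_iff_quasiIso] at ha hb ⊢
  exact Pretriangulated.isIso₃_of_isIso₁₂
    (DerivedCategory.Q.mapTriangle.map (mappingCone.triangleMap φ₁ φ₂ a b comm))
    (DerivedCategory.mappingCone_triangle_distinguished φ₁)
    (DerivedCategory.mappingCone_triangle_distinguished φ₂) ha hb

section Aug

variable {M N : ModuleCat.{u} A} (π : M ⟶ N)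

/-- the augmentation `K(l; M) ⟶ N[0]` for a module `N` killed by the members of `l`. -/
noncomputable def augCx : ∀ (l : List A), (∀ x ∈ l, x • 𝟙 N = 0) →
    (koszulCx M l ⟶ (HomologicalComplex.single (ModuleCat.{u} A) (ComplexShape.up ℤ) 0).obj N)
  | [], _ => (HomologicalComplex.single (ModuleCat.{u} A) (ComplexShape.up ℤ) 0).map π
  | f :: l, h => mappingCone.desc (f • 𝟙 (koszulCx M l)) 0
      (augCx l (fun x hx => h x (List.mem_cons_of_mem _ hx))) (by
        have hf : f • 𝟙 N = 0 := h f List.mem_cons_self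
        have h1 : (f • 𝟙 (koszulCx M l)) ≫ augCx l (fun x hx => h x (List.mem_cons_of_mem _ hx)) =
            0 := by
          rw [Linear.smul_comp, Category.id_comp]
          have h2 : f • 𝟙 ((HomologicalComplex.single (ModuleCat.{u} A) (ComplexShape.up ℤ) 0).obj N)
              = 0 := by
            rw [← single_map_smul_id N f, hf, Functor.map_zero]
          rw [← Category.comp_id (augCx l _), ← Linear.comp_smul, h2, comp_zero]
        rw [h1, δ_zero, Cochain.ofHom_zero])

lemma inr_augCx (f : A) (l : List A) (h : ∀ x ∈ f :: l, x • 𝟙 N = 0) :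
    inrK M f l ≫ augCx π (f :: l) h =
      augCx π l (fun x hx => h x (List.mem_cons_of_mem _ hx)) := by
  show mappingCone.inr _ ≫ mappingCone.desc _ _ _ _ = _
  rw [mappingCone.inr_desc]

/-- compatibility of the augmentation chain map with `aug : M ⟶ H^0(K(l; M))`. -/
lemma aug_comp_augCx : ∀ (l : List A) (h : ∀ x ∈ l, x • 𝟙 N = 0),
    aug M l ≫ HomologicalComplex.homologyMap (augCx π l h) 0 =
      π ≫ (HomologicalComplex.singleObjHomologySelfIso (ComplexShape.up ℤ) 0 N).inv
  | [], _ => (HomologicalComplex.singleObjHomologySelfIso_inv_naturality (ComplexShape.up ℤ) 0 π)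
  | f :: l, h => by
    show (aug M l ≫ HomologicalComplex.homologyMap (inrK M f l) 0) ≫ _ = _
    rw [Category.assoc, ← HomologicalComplex.homologyMap_comp, inr_augCx]
    exact aug_comp_augCx l _

end Aug

section QI

variable (l : List A)

/-- the quotient module `A ⧸ (l)`. -/
noncomputable abbrev Quo : ModuleCat.{u} A := ModuleCat.of A (A ⧸ Ideal.ofList l)

/-- the projection `A ⟶ A ⧸ (l)`. -/
noncomputable abbrev quoπ : ModuleCat.of A A ⟶ Quo l :=
  ModuleCat.ofHom (Submodule.mkQ (Ideal.ofList l))

lemma smul_quo_eq_zero (x : A) (hx : x ∈ l) : x • 𝟙 (Quo l) = 0 := by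
  apply ModuleCat.hom_ext
  apply LinearMap.ext
  intro y
  show x • y = 0
  obtain ⟨a, rfl⟩ := Submodule.Quotient.mk_surjective _ y
  rw [← Submodule.Quotient.mk_smul, Submodule.Quotient.mk_eq_zero, smul_eq_mul]
  exact Ideal.mul_mem_right _ _ (Ideal.subset_span hx)

/-- the augmentation `K(l; A) ⟶ (A/(l))[0]`. -/
noncomputable def augQ : koszulCx (ModuleCat.of A A) l ⟶
    (HomologicalComplex.single (ModuleCat.{u} A) (ComplexShape.up ℤ) 0).obj (Quo l) :=
  augCx (quoπ l) l (smul_quo_eq_zero l)

variable {l}

/-- for a Koszul-regular sequence the augmentation is a quasi-isomorphism. -/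
theorem quasiIso_augQ (hl : ∀ i : ℤ, i ≠ 0 → IsZero ((koszulCx (ModuleCat.of A A) l).homology i)) :
    QuasiIso (augQ l) := by
  rw [quasiIso_iff]
  intro i
  rw [quasiIsoAt_iff_isIso_homologyMap]
  by_cases hi : i = 0
  · subst hi
    have hcomp : aug (ModuleCat.of A A) l ≫ HomologicalComplex.homologyMap (augQ l) 0 =
        quoπ l ≫ (HomologicalComplex.singleObjHomologySelfIso (ComplexShape.up ℤ) 0 (Quo l)).inv :=
      aug_comp_augCx (quoπ l) l (smul_quo_eq_zero l)
    have hbij : Function.Bijective (HomologicalComplex.homologyMap (augQ l) 0).hom := by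
      constructor
      · rw [injective_iff_map_eq_zero]
        intro x hx
        obtain ⟨a, rfl⟩ := aug_surjective (ModuleCat.of A A) l x
        have h1 := congrArg (fun t => t.hom a) hcomp
        simp only [ModuleCat.hom_comp, LinearMap.comp_apply] at h1
        have h2 : (HomologicalComplex.singleObjHomologySelfIso (ComplexShape.up ℤ) 0
            (Quo l)).inv.hom ((quoπ l).hom a) = 0 := by
          rw [← h1]
          exact hx
        have h3 : (quoπ l).hom a = 0 := by
          have hinj := (HomologicalComplex.singleObjHomologySelfIso (ComplexShape.up ℤ) 0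
            (Quo l)).symm.toLinearEquiv.injective
          apply hinj
          rw [map_zero]
          exact h2
        have h4 : a ∈ Ideal.ofList l := (Submodule.Quotient.mk_eq_zero _).1 h3
        have h5 : a ∈ LinearMap.ker (aug (ModuleCat.of A A) l).hom := by
          rw [aug_ker]
          simpa using h4
        exact h5
      · intro y
        obtain ⟨z, hz⟩ := (HomologicalComplex.singleObjHomologySelfIso (ComplexShape.up ℤ) 0
            (Quo l)).symm.toLinearEquiv.surjective y
        obtain ⟨a, ha⟩ := Submodule.Quotient.mk_surjective _ z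
        refine ⟨(aug (ModuleCat.of A A) l).hom a, ?_⟩
        have h1 := congrArg (fun t => t.hom a) hcomp
        simp only [ModuleCat.hom_comp, LinearMap.comp_apply] at h1
        rw [h1, ← hz, ← ha]
        rfl
    exact (ConcreteCategory.isIso_iff_bijective _).2 hbij
  · have h1 : IsZero ((koszulCx (ModuleCat.of A A) l).homology i) := hl i hi
    have h2 : IsZero (((HomologicalComplex.single (ModuleCat.{u} A) (ComplexShape.up ℤ) 0).obj
        (Quo l)).homology i) :=
      isZero_homology_of_isZero_X _ i
        (HomologicalComplex.isZero_single_obj_X (ComplexShape.up ℤ) 0 _ i hi)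
    exact ⟨⟨h2.to_ _, h1.eq_of_src _ _, h2.eq_of_src _ _⟩⟩

variable (l)

/-- the comparison `K(g ++ l; A) ⟶ K(g; A/(l))`. -/
noncomputable def cmp : ∀ g : List A,
    koszulCx (ModuleCat.of A A) (g ++ l) ⟶ koszulCx (Quo l) g
  | [] => augQ l
  | x :: g => mappingCone.map (x • 𝟙 (koszulCx (ModuleCat.of A A) (g ++ l)))
      (x • 𝟙 (koszulCx (Quo l) g)) (cmp g) (cmp g) (by
        simp only [Linear.smul_comp, Linear.comp_smul, Category.id_comp, Category.comp_id])

variable {l}

theorem quasiIso_cmp
    (hl : ∀ i : ℤ, i ≠ 0 → IsZero ((koszulCx (ModuleCat.of A A) l).homology i)) :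
    ∀ g : List A, QuasiIso (cmp l g)
  | [] => quasiIso_augQ hl
  | _ :: g => quasiIso_coneMap _ _ _ _ _ (quasiIso_cmp hl g) (quasiIso_cmp hl g)

/-- **Koszul complexes over the quotient by a Koszul-regular sequence.** -/
theorem nonempty_homology_iso_quot (hl : LCI.IsKoszulRegularSeq A l) (g : List A) (k : ℤ) :
    Nonempty ((koszulCx (Quo l) g).homology k ≅ (Koszul.koszul A (g ++ l)).homology k) := by
  have hl' : ∀ i : ℤ, i ≠ 0 → IsZero ((koszulCx (ModuleCat.of A A) l).homology i) := by
    intro i hi
    exact (Groth.Agent.Helper13KzLift.isZero_congr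
      (Groth.Agent.Helper13KzLift.koszul_eq A l) i).mp (hl i hi)
  have hq := quasiIso_cmp hl' g
  rw [quasiIso_iff] at hq
  have hk := hq k
  rw [quasiIsoAt_iff_isIso_homologyMap] at hk
  have e := (asIso (HomologicalComplex.homologyMap (cmp l g) k)).symm
  exact ⟨e ≪≫ (HomologicalComplex.homologyFunctor _ _ k).mapIso
    (eqToIso (Groth.Agent.Helper13KzLift.koszul_eq A (g ++ l)).symm)⟩

end QI

section Tor

/-- Koszul homology of a Koszul-regular sequence is an effaceable δ-functor. -/
theorem isEffDelta_TK_of_kr (l : List A) (hl : LCI.IsKoszulRegularSeq A l) :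
    Helper13Delta.IsEffDelta (TK l) where
  exists_δ S hS n := by
    have hf : Function.Injective S.f.hom := (ModuleCat.mono_iff_injective _).mp hS.mono_f
    have hg : Function.Surjective S.g.hom := (ModuleCat.epi_iff_surjective _).mp hS.epi_g
    have hfg : Function.Exact S.f.hom S.g.hom :=
      (ShortComplex.ShortExact.moduleCat_exact_iff_function_exact S).mp hS.exact
    have hK := koszul_shortExact S.f S.g hf hg hfg l
    have hij : (ComplexShape.up ℤ).Rel (-((n + 1 : ℕ) : ℤ)) (-(n : ℤ)) := by
      show -((n + 1 : ℕ) : ℤ) + 1 = -(n : ℤ)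
      push_cast
      ring
    exact ⟨hK.δ _ _ hij, hK.comp_δ _ _ hij, hK.δ_comp _ _ hij, hK.homology_exact₃ _ _ hij,
      hK.homology_exact₁ _ _ hij⟩
  isZero_of_projective X _ n := by
    have : Module.Flat A X := inferInstance
    have h0 : IsZero ((koszulCx (ModuleCat.of A A) l).homology (-((n + 1 : ℕ) : ℤ))) :=
      (Groth.Agent.Helper13KzLift.isZero_congr
        (Groth.Agent.Helper13KzLift.koszul_eq A l) _).mp (hl _ (by push_cast; omega))
    have h1 := Groth.Agent.Helper13KzLift.isZero_homology_tensor_flat X (ModuleCat.of A A) l _ h0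
    exact IsZero.of_iso h1 ((TK l (n + 1)).mapIso (λ_ X).symm)

/-- **Koszul homology of a Koszul-regular sequence computes Tor.** -/
theorem nonempty_tor_iso_KH_of_kr (l : List A) (hl : LCI.IsKoszulRegularSeq A l)
    (M : ModuleCat.{u} A) (n : ℕ) :
    Nonempty (((Tor (ModuleCat.{u} A) n).obj (ModuleCat.of A (A ⧸ Ideal.ofList l))).obj M ≅
      (koszulCx M l).homology (-(n : ℤ))) := by
  obtain ⟨e⟩ := nonempty_TK_zero_iso (A := A) l
  let P : ProjectiveResolution M := ProjectiveResolution.of M
  obtain ⟨e2⟩ := Helper13Delta.nonempty_iso (isEffDelta_TK_of_kr l hl) _ e P n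
  exact ⟨Groth.Agent.Helper13Tor.torIso P _ n ≪≫ e2.symm⟩

end Tor

end Groth.Agent.R2.H15.KoszQI
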