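import Mathlib
import Groth.Agent.R2.H15KoszQI
import Groth.Agent.R2.H15KoszMinGen

/-!
# Tor of two quotients by Koszul-regular sequences with a common part

For lists `f, g, h` with `f ++ g`, `f ++ h`, `f ++ g ++ h` Koszul-regular,
`Tor_i(A/(f,g), A/(f,h)) ≃ (A/(f,g,h))^{C(|f|, i)}`, and the exterior powers of
`(A/K)^s` over `A`.
-/

set_option autoImplicit false
universe u
open CategoryTheory CategoryTheory.Limits CochainComplex

namespace Groth.Agent.R2.H15.KoszTorExt

open Groth.Agent.R2.H15.KoszAppend Groth.Agent.R2.H15.KoszMinGen Groth.Agent.R2.H15.KoszQI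

variable {A : Type u} [CommRing A]

theorem nonempty_append_congr_right (X : List A) {Y Y' : List A}
    (e : Koszul.koszul A Y ≅ Koszul.koszul A Y') :
    Nonempty (Koszul.koszul A (X ++ Y) ≅ Koszul.koszul A (X ++ Y')) := by
  induction X with
  | nil => exact ⟨e⟩
  | cons x X ih =>
    obtain ⟨e'⟩ := ih
    exact ⟨Groth.Agent.Helper13Kz.coneIso e' x⟩

/-- `K((f ++ g) ++ (f ++ h)) ≅ K(((f ++ g) ++ h) ++ f)`. -/
theorem nonempty_rearr (f g h : List A) :
    Nonempty (Koszul.koszul A ((f ++ g) ++ (f ++ h)) ≅ Koszul.koszul A (((f ++ g) ++ h) ++ f)) := by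
  obtain ⟨sw⟩ := nonempty_swap A f h
  obtain ⟨e⟩ := nonempty_append_congr_right (f ++ g) sw
  exact ⟨e ≪≫ eqToIso (congrArg (Koszul.koszul A) (List.append_assoc (f ++ g) h f).symm)⟩

/-- a product with only one non-trivial factor. -/
theorem nonempty_collapse {ι : Type} (κ : ι → Type) (X : ι → Type u)
    [∀ j, AddCommGroup (X j)] [∀ j, Module A (X j)] (i₀ : ι)
    (h : ∀ j, j ≠ i₀ → Subsingleton (X j)) :
    Nonempty (((j : ι) → κ j → X j) ≃ₗ[A] (κ i₀ → X i₀)) := by
  classical
  refine ⟨LinearEquiv.ofBijective (LinearMap.proj i₀) ⟨?_, ?_⟩⟩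
  · intro a b hab
    funext j c
    by_cases hj : j = i₀
    · subst hj
      exact congrFun hab c
    · have := h j hj
      exact Subsingleton.elim _ _
  · intro y
    exact ⟨Function.update 0 i₀ y, by simp⟩

/-- the cohomology of `K(xs ++ ys)` for `ys ⊆ (xs)` and `xs` Koszul-regular. -/
theorem nonempty_homology_append_of_kr (xs ys : List A)
    (hy : ∀ y ∈ ys, y ∈ Ideal.span {a | a ∈ xs}) (hxs : LCI.IsKoszulRegularSeq A xs) (i : ℕ) :
    Nonempty (((Koszul.koszul A (xs ++ ys)).homology (-(i : ℤ)) : ModuleCat.{u} A) ≃ₗ[A]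
      (Fin (ys.length.choose i) → A ⧸ Ideal.ofList xs)) := by
  obtain ⟨e⟩ := main A (ModuleCat.of A A) xs ys hy (-(i : ℤ))
  obtain ⟨e0⟩ := nonempty_homology_zero A xs
  have e1 : ((j : Fin (ys.length + 1)) → Fin (ys.length.choose j) →
      HH A (ModuleCat.of A A) xs (-(i : ℤ) + ((j : ℕ) : ℤ))) ≃ₗ[A]
      ((j : Fin (ys.length + 1)) → Fin (ys.length.choose j) →
        ((Koszul.koszul A xs).homology (-(i : ℤ) + ((j : ℕ) : ℤ)) : ModuleCat.{u} A)) :=
    LinearEquiv.piCongrRight (fun j : Fin (ys.length + 1) => LinearEquiv.piCongrRight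
      (fun _ : Fin (ys.length.choose j) => hhEquiv A xs (-(i : ℤ) + ((j : ℕ) : ℤ))))
  have E := (hhEquiv A (xs ++ ys) (-(i : ℤ))).symm.trans (e.trans e1)
  by_cases hi : i ≤ ys.length
  · obtain ⟨c⟩ := nonempty_collapse (A := A) (fun j : Fin (ys.length + 1) => Fin (ys.length.choose j))
      (fun j : Fin (ys.length + 1) =>
        ((Koszul.koszul A xs).homology (-(i : ℤ) + ((j : ℕ) : ℤ)) : ModuleCat.{u} A))
      ⟨i, Nat.lt_succ_of_le hi⟩ (by
        intro j hj
        refine ModuleCat.subsingleton_of_isZero (hxs _ ?_)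
        intro h0
        apply hj
        apply Fin.ext
        show (j : ℕ) = i
        omega)
    have hz : -(i : ℤ) + (((⟨i, Nat.lt_succ_of_le hi⟩ : Fin (ys.length + 1)) : ℕ) : ℤ) = 0 := by
      simp
    have c2 : ((Koszul.koszul A xs).homology (-(i : ℤ) +
        (((⟨i, Nat.lt_succ_of_le hi⟩ : Fin (ys.length + 1)) : ℕ) : ℤ)) : ModuleCat.{u} A) ≃ₗ[A]
        ((Koszul.koszul A xs).homology 0 : ModuleCat.{u} A) :=
      castLE (A := A) (fun k => ((Koszul.koszul A xs).homology k : ModuleCat.{u} A)) hz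
    exact ⟨E.trans (c.trans (LinearEquiv.piCongrRight (fun _ => c2.trans e0)))⟩
  · have hch : ys.length.choose i = 0 := Nat.choose_eq_zero_of_lt (by omega)
    have hs1 : Subsingleton ((j : Fin (ys.length + 1)) → Fin (ys.length.choose j) →
        ((Koszul.koszul A xs).homology (-(i : ℤ) + ((j : ℕ) : ℤ)) : ModuleCat.{u} A)) := by
      have : ∀ j : Fin (ys.length + 1), Subsingleton
          ((Koszul.koszul A xs).homology (-(i : ℤ) + ((j : ℕ) : ℤ)) : ModuleCat.{u} A) := by
        intro j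
        refine ModuleCat.subsingleton_of_isZero (hxs _ ?_)
        have := j.2
        omega
      infer_instance
    have hs0 := E.toEquiv.subsingleton
    have hs2 : Subsingleton (Fin (ys.length.choose i) → A ⧸ Ideal.ofList xs) := by
      rw [hch]
      infer_instance
    exact ⟨{ toFun := fun _ => 0
             map_add' := fun _ _ => Subsingleton.elim _ _
             map_smul' := fun _ _ => Subsingleton.elim _ _
             invFun := fun _ => 0
             left_inv := fun _ => Subsingleton.elim _ _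
             right_inv := fun _ => Subsingleton.elim _ _ }⟩

/-- **Tor of two Koszul-regular quotients sharing the part `f`.** -/
theorem nonempty_tor_equiv (f g h : List A)
    (hfg : LCI.IsKoszulRegularSeq A (f ++ g)) (hfh : LCI.IsKoszulRegularSeq A (f ++ h))
    (hfgh : LCI.IsKoszulRegularSeq A (f ++ g ++ h)) (i : ℕ) :
    Nonempty ((((Tor (ModuleCat.{u} A) i).obj (ModuleCat.of A (A ⧸ Ideal.ofList (f ++ g)))).obj
        (ModuleCat.of A (A ⧸ Ideal.ofList (f ++ h))) : ModuleCat.{u} A) ≃ₗ[A]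
      (Fin (f.length.choose i) → A ⧸ Ideal.ofList (f ++ g ++ h))) := by
  obtain ⟨e1⟩ := nonempty_tor_iso_KH_of_kr (f ++ g) hfg (Quo (f ++ h)) i
  obtain ⟨e2⟩ := nonempty_homology_iso_quot hfh (f ++ g) (-(i : ℤ))
  obtain ⟨r⟩ := nonempty_rearr f g h
  have e3 := (HomologicalComplex.homologyFunctor _ _ (-(i : ℤ))).mapIso r
  obtain ⟨e4⟩ := nonempty_homology_append_of_kr (f ++ g ++ h) f (by
    intro y hy
    exact Ideal.subset_span (List.mem_append_left _ (List.mem_append_left _ hy))) hfgh i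
  exact ⟨(e1 ≪≫ e2 ≪≫ e3).toLinearEquiv.trans e4⟩

end Groth.Agent.R2.H15.KoszTorExt
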