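import Mathlib
import Groth.Prelude.Def_Hensel
import Groth.Agent.Lib.Helper3ShF

/-!
# Compatible strict henselizations along local homomorphisms (helper15, round 2)

* `exists_sh_over`: for a local homomorphism `A → B` and a strict henselization `RA` of `A` there is a
  strict henselization `RB` of `B` with a compatible local homomorphism `RA → RB`.
* `exists_sh_between`: for local homomorphisms `A → B → C`, strict henselizations `RA`, `RC` and a
  compatible local homomorphism `φ : RA → RC`, there is a strict henselization `RB` of `B` through which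
  `φ` factors compatibly.
-/

set_option autoImplicit false
set_option linter.style.haveILetI false

universe u

open IsLocalRing Polynomial

namespace Groth.Agent.R2.H15.ShCompat

open Groth.Agent.Lib.Helper3.Sh

/-- a ring map between local rings compatible with a map of residue fields is local. -/
theorem isLocalHom_of_residue {S T : Type*} [CommRing S] [CommRing T] [IsLocalRing S] [IsLocalRing T]
    (ψ : S →+* T) (τ : ResidueField S →+* ResidueField T)
    (h : ∀ x, residue T (ψ x) = τ (residue S x)) : IsLocalHom ψ := by
  constructor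
  intro x hx
  by_contra hx'
  have h0 : residue S x = 0 := (residue_eq_zero_iff x).2 ((mem_maximalIdeal x).2 hx')
  have h1 : residue T (ψ x) = 0 := by rw [h, h0, map_zero]
  have h2 : ψ x ∈ maximalIdeal T := (residue_eq_zero_iff _).1 h1
  exact ((mem_maximalIdeal _).1 h2) hx

section Over

variable {A B : Type u} [CommRing A] [CommRing B] [IsLocalRing A] [IsLocalRing B]
  (f : A →+* B) [IsLocalHom f]
  (RA : Type u) [CommRing RA] [IsLocalRing RA] [Algebra A RA] [IsLocalHom (algebraMap A RA)]
  [hA : Hensel.IsStrictHenselization A RA]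

include hA in
theorem exists_sh_over :
    ∃ (RB : Type u) (_ : CommRing RB) (_ : IsLocalRing RB) (_ : Algebra B RB)
      (_ : IsLocalHom (algebraMap B RB)) (_ : Hensel.IsStrictHenselization B RB)
      (ψ : RA →+* RB), IsLocalHom ψ ∧ ψ.comp (algebraMap A RA) = (algebraMap B RB).comp f := by
  let kB := ResidueField B
  let Ω := SeparableClosure kB
  letI : Algebra B Ω := ((algebraMap kB Ω).comp (residue B)).toAlgebra
  haveI : IsScalarTower B kB Ω := IsScalarTower.of_algebraMap_eq (fun _ => rfl)
  let RB := Rsh B Ω
  haveI hB : Hensel.IsStrictHenselization B RB := isStrictHenselization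
  haveI : HenselianLocalRing RB := hB.henselian
  haveI : IsSepClosure (ResidueField B) (ResidueField RB) := hB.isSepClosure
  haveI : IsSepClosed (ResidueField RB) := IsSepClosure.sep_closed (ResidueField B)
  haveI : IsSepClosure (ResidueField A) (ResidueField RA) := hA.isSepClosure
  haveI : Algebra.IsSeparable (ResidueField A) (ResidueField RA) := IsSepClosure.separable
  let fB : A →+* RB := (algebraMap B RB).comp f
  letI : Algebra (ResidueField A) (ResidueField RB) := (ResidueField.map fB).toAlgebra
  let τ : ResidueField RA →ₐ[ResidueField A] ResidueField RB := IsSepClosed.lift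
  have hτ : (τ : ResidueField RA →+* ResidueField RB).comp
      (ResidueField.map (algebraMap A RA)) = ResidueField.map fB := by
    ext x
    exact τ.commutes x
  obtain ⟨ψ, ⟨h1, h2⟩, -⟩ := hA.universal RB fB τ hτ
  exact ⟨RB, inferInstance, inferInstance, inferInstance, inferInstance, hB, ψ,
    isLocalHom_of_residue ψ τ h2, h1⟩

end Over

section Between

variable {A B C : Type u} [CommRing A] [CommRing B] [CommRing C]
  [IsLocalRing A] [IsLocalRing B] [IsLocalRing C]
  (f : A →+* B) [IsLocalHom f] (g : B →+* C) [IsLocalHom g]
  (RA : Type u) [CommRing RA] [IsLocalRing RA] [Algebra A RA] [IsLocalHom (algebraMap A RA)]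
  [hA : Hensel.IsStrictHenselization A RA]
  (RC : Type u) [CommRing RC] [IsLocalRing RC] [Algebra C RC] [IsLocalHom (algebraMap C RC)]
  [hC : Hensel.IsStrictHenselization C RC]
  (φ : RA →+* RC) [IsLocalHom φ]

include hA hC in
theorem exists_sh_between
    (hφ : φ.comp (algebraMap A RA) = (algebraMap C RC).comp (g.comp f)) :
    ∃ (RB : Type u) (_ : CommRing RB) (_ : IsLocalRing RB) (_ : Algebra B RB)
      (_ : IsLocalHom (algebraMap B RB)) (_ : Hensel.IsStrictHenselization B RB)
      (ψ₁ : RA →+* RB) (ψ₂ : RB →+* RC), IsLocalHom ψ₁ ∧ IsLocalHom ψ₂ ∧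
        ψ₁.comp (algebraMap A RA) = (algebraMap B RB).comp f ∧
        ψ₂.comp (algebraMap B RB) = (algebraMap C RC).comp g ∧ ψ₂.comp ψ₁ = φ := by
  let kA := ResidueField A
  let kB := ResidueField B
  let K := ResidueField RC
  haveI : HenselianLocalRing RC := hC.henselian
  haveI : IsSepClosure (ResidueField C) K := hC.isSepClosure
  haveI : IsSepClosed K := IsSepClosure.sep_closed (ResidueField C)
  haveI : IsSepClosure kA (ResidueField RA) := hA.isSepClosure
  haveI : Algebra.IsSeparable kA (ResidueField RA) := IsSepClosure.separable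
  let gC : B →+* RC := (algebraMap C RC).comp g
  let fC : A →+* RC := (algebraMap C RC).comp (g.comp f)
  letI : Algebra kB K := (ResidueField.map gC).toAlgebra
  let Ω := ↥(separableClosure kB K)
  letI : Algebra B Ω := ((algebraMap kB Ω).comp (residue B)).toAlgebra
  haveI : IsScalarTower B kB Ω := IsScalarTower.of_algebraMap_eq (fun _ => rfl)
  haveI : IsSepClosure kB Ω := separableClosure.isSepClosure kB K
  haveI : Algebra.IsSeparable kB Ω := IsSepClosure.separable
  let RB := Rsh B Ω
  haveI hB : Hensel.IsStrictHenselization B RB := isStrictHenselization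
  haveI : HenselianLocalRing RB := hB.henselian
  -- the residue field of `RB` inside `K`
  let τ₂ : ResidueField RB →+* K :=
    (algebraMap Ω K).comp (residueEquiv (R := B) (Ω := Ω) : ResidueField RB →+* Ω)
  have hτ₂ : τ₂.comp (ResidueField.map (algebraMap B RB)) = ResidueField.map gC := by
    ext x
    obtain ⟨b, rfl⟩ := residue_surjective x
    simp only [RingHom.comp_apply, ResidueField.map_residue, τ₂, RingHom.coe_coe]
    rw [residueEquiv_apply, embΩ_residue, toΩ_algebraMap]
    rfl
  obtain ⟨ψ₂, ⟨h2a, h2b⟩, -⟩ := universal (R := B) (Ω := Ω) RC gC τ₂ hτ₂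
  -- the residue field of `RA` maps into the separable closure
  let m : ResidueField RA →+* K := ResidueField.map φ
  have hm : m.comp (ResidueField.map (algebraMap A RA)) = ResidueField.map fC := by
    ext x
    obtain ⟨a, rfl⟩ := residue_surjective x
    have := congrArg (fun r : A →+* RC => r a) hφ
    simp only [RingHom.comp_apply] at this
    change ResidueField.map φ (ResidueField.map (algebraMap A RA) (residue A a)) = _
    rw [ResidueField.map_residue, ResidueField.map_residue, ResidueField.map_residue, this]
    rfl
  have hmk : (algebraMap kB K).comp (ResidueField.map f) = ResidueField.map fC := by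
    ext x
    obtain ⟨a, rfl⟩ := residue_surjective x
    simp only [RingHom.comp_apply]
    rfl
  have hmem : ∀ a : ResidueField RA, m a ∈ separableClosure kB K := by
    intro a
    rw [mem_separableClosure_iff]
    have hsep : IsSeparable kA a := Algebra.IsSeparable.isSeparable kA a
    let p := minpoly kA a
    have hp : p.Separable := hsep
    let q := p.map (ResidueField.map f)
    have hq : q.Separable := hp.map
    have hroot : aeval (m a) q = 0 := by
      rw [aeval_def, eval₂_map, hmk, ← hm, ← hom_eval₂]
      have : eval₂ (ResidueField.map (algebraMap A RA)) a p = 0 := minpoly.aeval kA a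
      rw [this, map_zero]
    exact hq.of_dvd (minpoly.dvd kB (m a) hroot)
  let τ₁ : ResidueField RA →+* ResidueField RB :=
    ((residueEquiv (R := B) (Ω := Ω)).symm : Ω →+* ResidueField RB).comp
      (m.codRestrict (separableClosure kB K) hmem)
  have hτ₂₁ : ∀ a, τ₂ (τ₁ a) = m a := by
    intro a
    simp only [τ₂, τ₁, RingHom.comp_apply, RingHom.coe_coe, RingEquiv.apply_symm_apply]
    rfl
  let fB : A →+* RB := (algebraMap B RB).comp f
  have hτ₁ : τ₁.comp (ResidueField.map (algebraMap A RA)) = ResidueField.map fB := by
    ext x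
    apply τ₂.injective
    change τ₂ (τ₁ (ResidueField.map (algebraMap A RA) x)) = τ₂ (ResidueField.map fB x)
    rw [hτ₂₁]
    have e1 := congrArg (fun r : ResidueField A →+* K => r x) hm
    simp only [RingHom.comp_apply] at e1
    rw [e1]
    obtain ⟨a, rfl⟩ := residue_surjective x
    rw [ResidueField.map_residue, ResidueField.map_residue]
    have e2 := congrArg (fun r : ResidueField B →+* K => r (residue B (f a))) hτ₂
    simp only [RingHom.comp_apply, ResidueField.map_residue] at e2
    exact e2.symm
  obtain ⟨ψ₁, ⟨h1a, h1b⟩, -⟩ := hA.universal RB fB τ₁ hτ₁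
  refine ⟨RB, inferInstance, inferInstance, inferInstance, inferInstance, hB, ψ₁, ψ₂,
    isLocalHom_of_residue ψ₁ τ₁ h1b, isLocalHom_of_residue ψ₂ τ₂ h2b, h1a, h2a, ?_⟩
  obtain ⟨u, -, huniq⟩ := hA.universal RC fC m hm
  refine (huniq (ψ₂.comp ψ₁) ⟨?_, fun x => ?_⟩).trans (huniq φ ⟨hφ, fun x => ?_⟩).symm
  · rw [RingHom.comp_assoc, h1a, ← RingHom.comp_assoc, h2a]
    rfl
  · rw [RingHom.comp_apply, h2b, h1b, hτ₂₁]
  · exact (ResidueField.map_residue φ x).symm

end Between

end Groth.Agent.R2.H15.ShCompat
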