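import Groth.Prelude.Def_EtAcyc
import Groth.Agent.R2.H15ShCompat

/-!
# `EtAcyc.OnStrictLocalizations` under composition (helper15, round 2)

If a property `P` of morphisms satisfies `P a → (P b ↔ P (a ≫ b))`, `g` is surjective and `P` holds on
the strict localizations of `g`, then it holds on those of `h` iff it holds on those of `g ≫ h`.
-/

set_option autoImplicit false
set_option linter.style.haveILetI false

universe u

open CategoryTheory CategoryTheory.Limits AlgebraicGeometry Opposite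

namespace Groth.Agent.R2.H15.LocAcyc

open Groth.Agent.R2.H15.ShCompat

theorem onStrictLocalizations_comp {X Y Z : Scheme.{u}} (g : X ⟶ Y) (h : Y ⟶ Z)
    (P : ∀ ⦃X' Y' : Scheme.{u}⦄, (X' ⟶ Y') → Prop)
    (hP : ∀ ⦃A B C : Scheme.{u}⦄ (a : A ⟶ B) (b : B ⟶ C), P a → P b → P (a ≫ b))
    (Hg : EtAcyc.OnStrictLocalizations g P) (Hh : EtAcyc.OnStrictLocalizations h P) :
    EtAcyc.OnStrictLocalizations (g ≫ h) P := by
  intro x RZ RX _ _ _ _ aZ lZ sZ aX lX sX aZX lZX hc
  letI aZ' : Algebra (Z.presheaf.stalk (h.base (g.base x))) RZ := aZ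
  haveI lZ' : IsLocalHom (algebraMap (Z.presheaf.stalk (h.base (g.base x))) RZ) := lZ
  haveI sZ' : Hensel.IsStrictHenselization (Z.presheaf.stalk (h.base (g.base x))) RZ := sZ
  have hc' : (algebraMap RZ RX).comp (algebraMap (Z.presheaf.stalk (h.base (g.base x))) RZ) =
      (algebraMap (X.presheaf.stalk x) RX).comp
        ((g.stalkMap x).hom.comp (h.stalkMap (g.base x)).hom) := by
    refine hc.trans ?_
    rw [Scheme.Hom.stalkMap_comp]
    rfl
  obtain ⟨RY, i1, i2, i3, i4, i5, ψ₁, ψ₂, l1, l2, c1, c2, c3⟩ :=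
    exists_sh_between (A := Z.presheaf.stalk (h.base (g.base x)))
      (B := Y.presheaf.stalk (g.base x)) (C := X.presheaf.stalk x)
      (h.stalkMap (g.base x)).hom (g.stalkMap x).hom RZ RX (algebraMap RZ RX) hc'
  letI : Algebra RZ RY := ψ₁.toAlgebra
  letI : Algebra RY RX := ψ₂.toAlgebra
  have p1 := Hg x RY RX c2
  have p2 := Hh (g.base x) RZ RY c1
  have p3 := hP _ _ p1 p2
  rw [← Spec.map_comp, ← CommRingCat.ofHom_comp] at p3
  have e : (algebraMap RY RX).comp (algebraMap RZ RY) = algebraMap RZ RX := c3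
  rwa [e] at p3

theorem onStrictLocalizations_of_comp {X Y Z : Scheme.{u}} (g : X ⟶ Y) (h : Y ⟶ Z)
    (hg : Function.Surjective g.base)
    (P : ∀ ⦃X' Y' : Scheme.{u}⦄, (X' ⟶ Y') → Prop)
    (hP : ∀ ⦃A B C : Scheme.{u}⦄ (a : A ⟶ B) (b : B ⟶ C), P a → P (a ≫ b) → P b)
    (Hg : EtAcyc.OnStrictLocalizations g P) (Hgh : EtAcyc.OnStrictLocalizations (g ≫ h) P) :
    EtAcyc.OnStrictLocalizations h P := by
  intro y RZ RY _ _ _ _ aZ lZ sZ aY lY sY aZY lZY hc
  obtain ⟨x, rfl⟩ := hg y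
  letI aZ' : Algebra (Z.presheaf.stalk ((g ≫ h).base x)) RZ := aZ
  haveI lZ' : IsLocalHom (algebraMap (Z.presheaf.stalk ((g ≫ h).base x)) RZ) := lZ
  haveI sZ' : Hensel.IsStrictHenselization (Z.presheaf.stalk ((g ≫ h).base x)) RZ := sZ
  obtain ⟨RX, i1, i2, i3, i4, i5, ψ, l, c⟩ :=
    exists_sh_over (A := Y.presheaf.stalk (g.base x)) (B := X.presheaf.stalk x)
      (g.stalkMap x).hom RY
  letI : Algebra RY RX := ψ.toAlgebra
  letI : Algebra RZ RX := ((algebraMap RY RX).comp (algebraMap RZ RY)).toAlgebra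
  haveI : IsLocalHom (algebraMap RZ RX) :=
    RingHom.isLocalHom_comp (algebraMap RY RX) (algebraMap RZ RY)
  have p1 := Hg x RY RX c
  have hc' : (algebraMap RZ RX).comp (algebraMap (Z.presheaf.stalk ((g ≫ h).base x)) RZ) =
      (algebraMap (X.presheaf.stalk x) RX).comp ((g ≫ h).stalkMap x).hom := by
    rw [Scheme.Hom.stalkMap_comp]
    change ((algebraMap RY RX).comp (algebraMap RZ RY)).comp
        (algebraMap (Z.presheaf.stalk (h.base (g.base x))) RZ) =
      (algebraMap (X.presheaf.stalk x) RX).comp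
        ((g.stalkMap x).hom.comp (h.stalkMap (g.base x)).hom)
    rw [RingHom.comp_assoc, hc, ← RingHom.comp_assoc, ← RingHom.comp_assoc]
    congr 1
  have p2 := Hgh x RZ RX hc'
  have e : Spec.map (CommRingCat.ofHom (algebraMap RZ RX)) =
      Spec.map (CommRingCat.ofHom (algebraMap RY RX)) ≫
        Spec.map (CommRingCat.ofHom (algebraMap RZ RY)) := by
    rw [← Spec.map_comp, ← CommRingCat.ofHom_comp]
  rw [e] at p2
  exact hP _ _ p1 p2

end Groth.Agent.R2.H15.LocAcyc
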