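import Mathlib
import Groth.Prelude.Def_EtAcyc
import Groth.Agent.Lib.Helper12ClosureImage
import Groth.Agent.Lib.Helper16SmallEtale

/-!
# A morphism that misses a point is not (-1)-acyclic (helper15, round 2)

* `exists_opens_separating`: if `g` is quasi-compact and `y` is not in its image, there are opens
  `W ≤ U` with `y ∈ U`, `y ∉ W` and `g⁻¹ U ⊆ g⁻¹ W`.
* `not_mono_unit_of_range_subset`: if the image of `k : P ⟶ B` lies in an open `W` and `b ∉ W`, then
  for the skyscraper sheaf `S` at a geometric point over `b` the unit `S ⟶ k_* k^* S` is not a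
  monomorphism.
-/

set_option autoImplicit false

universe u

open CategoryTheory CategoryTheory.Limits AlgebraicGeometry Opposite

namespace Groth.Agent.R2.H15.MinusOne

open Groth.Agent.Lib.Helper16.SmallEtale

theorem exists_opens_separating {X Y : Scheme.{u}} (g : X ⟶ Y) [QuasiCompact g] (y : Y)
    (hy : y ∉ Set.range g.base) :
    ∃ U W : Y.Opens, W ≤ U ∧ y ∈ U ∧ y ∉ W ∧ ∀ x : X, g.base x ∈ U → g.base x ∈ W := by
  let Z : TopologicalSpace.Closeds Y := ⟨closure {y}, isClosed_closure⟩
  let I := Scheme.IdealSheafData.vanishingIdeal Z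
  let i := I.subschemeι
  have hi : Set.range i.base = closure {y} := by
    rw [I.range_subschemeι]
    exact Scheme.IdealSheafData.coe_support_vanishingIdeal Z
  let f := pullback.snd g i ≫ i
  have hf : Set.range f.base = Set.range g.base ∩ closure {y} := by
    rw [Scheme.Pullback.range_snd_comp, hi]
  have hyC : y ∉ closure (Set.range g.base ∩ closure {y}) := by
    intro hmem
    rw [← hf] at hmem
    obtain ⟨x, hx⟩ := Groth.Agent.Lib.Helper12.exists_specializes_of_mem_closure_range f y hmem
    have h0 : f.base x ∈ Set.range f.base := ⟨x, rfl⟩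
    rw [hf] at h0
    have h2 : y ⤳ f.base x := specializes_iff_mem_closure.2 h0.2
    have h3 : f.base x = y := (hx.antisymm h2).eq
    exact hy (h3 ▸ h0.1)
  let C : Set Y := closure (Set.range g.base ∩ closure {y})
  refine ⟨⟨Cᶜ, isClosed_closure.isOpen_compl⟩,
    ⟨Cᶜ ∩ (closure {y})ᶜ, isClosed_closure.isOpen_compl.inter isClosed_closure.isOpen_compl⟩,
    fun z hz => hz.1, hyC, fun h => h.2 (subset_closure rfl), fun x hx => ⟨hx, fun hx' => ?_⟩⟩
  exact hx (subset_closure ⟨⟨x, rfl⟩, hx'⟩)

set_option backward.isDefEq.respectTransparency.types false in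
theorem not_mono_unit_of_range_subset {P B : Scheme.{u}} (k : P ⟶ B) (W : B.Opens)
    (hW : Set.range k.base ⊆ W) (b : B) (hb : b ∉ W) :
    ∃ S : EtDesc.Sh B, ¬ Mono ((EtDesc.adjSh k).unit.app S) := by
  let Ω := SeparableClosure (B.residueField b)
  obtain ⟨bb, hbb⟩ : ∃ bb : Spec (CommRingCat.of Ω) ⟶ B, bb default = b := by
    refine ⟨Spec.map (CommRingCat.ofHom (algebraMap (B.residueField b) Ω)) ≫
      B.fromSpecResidueField b, ?_⟩
    rw [Scheme.Hom.comp_apply]
    exact Scheme.fromSpecResidueField_apply _ _
  let Φ := Scheme.pointSmallEtale bb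
  let M : Type (u + 1) := ULift.{u + 1} Bool
  let S : EtDesc.Sh B := Φ.skyscraperSheaf M
  refine ⟨S, fun hmono => ?_⟩
  let T : B.Etale := EtCoh.top B
  let Wo : B.Etale := Scheme.Etale.mk W.ι
  let j : Wo ⟶ T := MorphismProperty.Over.homMk W.ι (Category.comp_id _) trivial
  -- the fibre over `T` is nonempty, the fibre over `Wo` is empty
  let t₀ : Φ.fiber.obj T := Over.homMk bb (by simp [T])
  have hempty : IsEmpty (Φ.fiber.obj Wo) := by
    refine ⟨fun w => hb ?_⟩
    let w' : Over.mk bb ⟶ Over.mk W.ι := w
    let wl : Spec (CommRingCat.of Ω) ⟶ W.toScheme := w'.left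
    have e1 : wl ≫ W.ι = bb := Over.w w'
    have e2 : W.ι (wl (default : Spec (CommRingCat.of Ω))) = b := by
      have e3 := congrArg
        (fun m : Spec (CommRingCat.of Ω) ⟶ B => m (default : Spec (CommRingCat.of Ω))) e1
      simp only [Scheme.Hom.comp_apply] at e3
      exact e3.trans hbb
    rw [← e2]
    exact (wl (default : Spec (CommRingCat.of Ω))).2
  -- two sections
  let eT := Types.productIso.{u, u + 1} (fun _ : Φ.fiber.obj T => M)
  let eW := Types.productIso.{u, u + 1} (fun _ : Φ.fiber.obj Wo => M)
  let s : S.obj.obj (op T) := eT.inv (fun _ => ULift.up true)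
  let t : S.obj.obj (op T) := eT.inv (fun _ => ULift.up false)
  have hst : s ≠ t := by
    intro h
    have h1 := congrArg eT.hom h
    simp only [s, t, Iso.inv_hom_id_apply] at h1
    have h2 := congrFun h1 t₀
    simp at h2
  have hres : S.obj.map j.op s = S.obj.map j.op t := by
    have hinj : Function.Injective eW.hom := ((isIso_iff_bijective eW.hom).1 inferInstance).injective
    apply hinj
    funext w
    exact (hempty.false w).elim
  -- the unit is injective on sections
  let η := (EtDesc.adjSh k).unit.app S
  have hm1 : Mono η.hom := (Sheaf.Hom.mono_iff_presheaf_mono _ _ η).1 hmono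
  have hm2 : Mono (η.hom.app (op T)) := inferInstance
  have hinjη : Function.Injective (η.hom.app (op T)) := (mono_iff_injective _).1 hm2
  -- `(bc k).map j` is an isomorphism
  have hiso : IsIso ((EtCoh.bc k).map j) := by
    have hleft : IsIso ((EtCoh.bc k).map j).left := by
      have hfac := bc_map_left_snd k j
      have h1 : IsIso (pullback.snd T.hom k) := pullback_snd_iso_of_left_iso (𝟙 B) k
      have h2 : IsIso (pullback.snd Wo.hom k) := by
        change IsIso (pullback.snd W.ι k)
        rw [isIso_iff_isOpenImmersion_and_surjective]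
        refine ⟨inferInstance, ⟨fun p => ?_⟩⟩
        have hp : k.base p ∈ W := hW ⟨p, rfl⟩
        obtain ⟨z, -, hz⟩ := Scheme.Pullback.exists_preimage_pullback (f := W.ι) (g := k)
          ⟨k.base p, hp⟩ p rfl
        exact ⟨z, hz⟩
      have h3 : IsIso (((EtCoh.bc k).map j).left ≫ pullback.snd T.hom k) := by
        rw [hfac]
        exact h2
      exact @IsIso.of_isIso_comp_right _ _ _ _ _ _ (pullback.snd T.hom k) h1 h3
    have h4 : IsIso ((Scheme.Etale.forget P ⋙ Over.forget P).map ((EtCoh.bc k).map j)) := hleft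
    exact isIso_of_reflects_iso _ (Scheme.Etale.forget P ⋙ Over.forget P)
  let R := (EtDesc.pushSh k).obj ((EtDesc.pullSh k).obj S)
  have hRinj : Function.Injective (R.obj.map j.op) := by
    have h5 : IsIso (((EtDesc.pullSh k).obj S).obj.map ((EtCoh.bc k).map j).op) := inferInstance
    exact ((isIso_iff_bijective _).1 h5).injective
  have nat := η.hom.naturality j.op
  apply hst
  apply hinjη
  apply hRinj
  have e1 := ConcreteCategory.congr_hom nat s
  have e2 := ConcreteCategory.congr_hom nat t
  rw [ConcreteCategory.comp_apply, ConcreteCategory.comp_apply] at e1 e2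
  exact e1.symm.trans ((congrArg _ hres).trans e2)

end Groth.Agent.R2.H15.MinusOne
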