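/-
helper15: comparison theorem and homotopy uniqueness for pure projective / pure injective
resolutions (S8775, S8776, S8778, S8779).
-/
import Mathlib
import Groth.Prelude.Def_CAlgX

set_option autoImplicit false
universe u v
open CategoryTheory Category Limits HomologicalComplex MonoidalCategory

namespace Groth.Agent.R2.H15.PureExt

section General
variable {C : Type u} [Category.{v} C] [Abelian C]

section Chain
open ChainComplex
variable {K : ChainComplex C ℕ} {Z : C} (ε : K ⟶ (ChainComplex.single₀ C).obj Z) [QuasiIso ε]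

include ε in
lemma chain_exactAt_succ (n : ℕ) : K.ExactAt (n+1) := by
  rw [← quasiIsoAt_iff_exactAt' ε (n + 1) (exactAt_succ_single_obj _ _)]
  infer_instance

include ε in
lemma chain_exact_succ (n : ℕ) : (ShortComplex.mk _ _ (K.d_comp_d (n + 2) (n + 1) n)).Exact :=
  ((HomologicalComplex.exactAt_iff' _ (n + 2) (n + 1) n) (by simp only [ChainComplex.prev]; rfl)
    (by simp)).1 (chain_exactAt_succ ε n)

omit [QuasiIso ε] in
lemma chain_d_comp_f_zero : K.d 1 0 ≫ ε.f 0 = 0 := by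
  rw [← ε.comm 1 0, single_obj_d, comp_zero]

set_option backward.isDefEq.respectTransparency.types false in
set_option backward.defeqAttrib.useBackward true in
noncomputable def chain_isColimit : IsColimit (CokernelCofork.ofπ _ (chain_d_comp_f_zero ε)) := by
  refine IsColimit.ofIsoColimit (K.opcyclesIsCokernel 1 0 (by simp)) ?_
  refine Cofork.ext (K.isoHomologyι₀.symm ≪≫ isoOfQuasiIsoAt ε 0 ≪≫
    singleObjHomologySelfIso _ _ _) ?_
  rw [← cancel_mono (singleObjHomologySelfIso (ComplexShape.down ℕ) 0 _).inv,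
    ← cancel_mono (isoHomologyι₀ _).hom]
  dsimp
  simp only [isoHomologyι₀_inv_naturality_assoc, p_opcyclesMap_assoc, single₀_obj_zero, assoc,
    Iso.hom_inv_id, comp_id, isoHomologyι_inv_hom_id, singleObjHomologySelfIso_inv_homologyι,
    singleObjOpcyclesSelfIso_hom, single₀ObjXSelf, Iso.refl_inv, id_comp]

lemma chain_exact_zero : (ShortComplex.mk _ _ (chain_d_comp_f_zero ε)).Exact :=
  ShortComplex.exact_of_g_is_cokernel _ (chain_isColimit ε)

lemma chain_epi_zero : Epi (ε.f 0) := epi_of_isColimit_cofork (chain_isColimit ε)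

end Chain

section Cochain
open CochainComplex
variable {K : CochainComplex C ℕ} {Z : C} (ι : (CochainComplex.single₀ C).obj Z ⟶ K) [QuasiIso ι]

include ι in
lemma cochain_exactAt_succ (n : ℕ) : K.ExactAt (n+1) := by
  rw [← quasiIsoAt_iff_exactAt ι (n + 1) (exactAt_succ_single_obj _ _)]
  infer_instance

include ι in
lemma cochain_exact_succ (n : ℕ) : (ShortComplex.mk _ _ (K.d_comp_d n (n + 1) (n + 2))).Exact :=
  (HomologicalComplex.exactAt_iff' _ n (n + 1) (n + 2) (by simp)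
    (by simp only [CochainComplex.next]; rfl)).1 (cochain_exactAt_succ ι n)

omit [QuasiIso ι] in
lemma cochain_f_zero_comp_d : ι.f 0 ≫ K.d 0 1 = 0 := by
  rw [ι.comm 0 1, single_obj_d, zero_comp]

set_option backward.defeqAttrib.useBackward true in
set_option backward.isDefEq.respectTransparency false in
noncomputable def cochain_isLimit : IsLimit (KernelFork.ofι _ (cochain_f_zero_comp_d ι)) := by
  refine IsLimit.ofIsoLimit (K.cyclesIsKernel 0 1 (by simp)) (Iso.symm ?_)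
  refine Fork.ext ((singleObjHomologySelfIso _ _ _).symm ≪≫
    isoOfQuasiIsoAt ι 0 ≪≫ K.isoHomologyπ₀.symm) ?_
  rw [← cancel_epi (singleObjHomologySelfIso (ComplexShape.up ℕ) _ _).hom,
    ← cancel_epi (isoHomologyπ₀ _).hom,
    ← cancel_epi (singleObjCyclesSelfIso (ComplexShape.up ℕ) _ _).inv]
  simp

lemma cochain_exact_zero : (ShortComplex.mk _ _ (cochain_f_zero_comp_d ι)).Exact :=
  ShortComplex.exact_of_f_is_kernel _ (cochain_isLimit ι)

lemma cochain_mono_zero : Mono (ι.f 0) := mono_of_isLimit_fork (cochain_isLimit ι)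

end Cochain

end General

variable {R : Type u} [CommRing R]

section ModuleLevel

variable {X₁ X₂ X₃ X₄ : Type u} [AddCommGroup X₁] [Module R X₁] [AddCommGroup X₂] [Module R X₂]
  [AddCommGroup X₃] [Module R X₃] [AddCommGroup X₄] [Module R X₄]

theorem univInj_ker (e : X₄ →ₗ[R] X₃) (c : X₃ →ₗ[R] X₂) (a : X₂ →ₗ[R] X₁)
    (hce : c ∘ₗ e = 0) (hca : Function.Exact c a)
    (hT : ∀ (T : Type u) [AddCommGroup T] [Module R T],
      Function.Exact (e.rTensor T) (c.rTensor T)) :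
    CAlgX.UniversallyInjective R (LinearMap.ker a).subtype := by
  intro T _ _
  rw [← LinearMap.ker_eq_bot, LinearMap.ker_eq_bot']
  intro x hx
  let c' : X₃ →ₗ[R] LinearMap.ker a := c.codRestrict _ (fun y => hca.apply_apply_eq_zero y)
  have hc' : Function.Surjective c' := by
    rintro ⟨y, hy⟩
    obtain ⟨z, rfl⟩ := (hca y).mp hy
    exact ⟨z, rfl⟩
  obtain ⟨y, rfl⟩ := LinearMap.rTensor_surjective T hc' x
  have h1 : c.rTensor T y = 0 := by
    have : c = (LinearMap.ker a).subtype ∘ₗ c' := rfl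
    rw [this, LinearMap.rTensor_comp]; exact hx
  obtain ⟨z, rfl⟩ := (hT T _).mp h1
  have h2 : c' ∘ₗ e = 0 := by
    ext z
    exact congrArg (fun f => f z) hce
  rw [← LinearMap.comp_apply, ← LinearMap.rTensor_comp, h2, LinearMap.rTensor_zero]; rfl

/-- The pure projective lifting property (as in the statements). -/
def PureProj (R : Type u) [CommRing R] (Q : Type u) [AddCommGroup Q] [Module R Q] : Prop :=
  ∀ ⦃L T : Type u⦄ [AddCommGroup L] [Module R L] [AddCommGroup T] [Module R T] (g : L →ₗ[R] T),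
    Function.Surjective g → CAlgX.UniversallyInjective R (LinearMap.ker g).subtype →
      ∀ φ : Q →ₗ[R] T, ∃ ψ : Q →ₗ[R] L, g ∘ₗ ψ = φ

/-- The pure injective extension property (as in the statements). -/
def PureInj (R : Type u) [CommRing R] (I : Type u) [AddCommGroup I] [Module R I] : Prop :=
  ∀ ⦃K L : Type u⦄ [AddCommGroup K] [Module R K] [AddCommGroup L] [Module R L] (g : K →ₗ[R] L),
    CAlgX.UniversallyInjective R g → ∀ φ : K →ₗ[R] I, ∃ ψ : L →ₗ[R] I, ψ ∘ₗ g = φ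

theorem univInj_congr {K₁ K₂ : Submodule R X₁} (h : K₁ = K₂)
    (hK : CAlgX.UniversallyInjective R K₁.subtype) : CAlgX.UniversallyInjective R K₂.subtype := by
  subst h; exact hK

theorem exists_lift {Q : Type u} [AddCommGroup Q] [Module R Q] (hQ : PureProj R Q)
    (a : X₃ →ₗ[R] X₂) (b : X₂ →ₗ[R] X₁) (hab : Function.Exact a b)
    (hK : CAlgX.UniversallyInjective R (LinearMap.ker a).subtype)
    (ψ : Q →ₗ[R] X₂) (hψ : b ∘ₗ ψ = 0) : ∃ χ : Q →ₗ[R] X₃, a ∘ₗ χ = ψ := by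
  let g : X₃ →ₗ[R] LinearMap.ker b := a.codRestrict _ (fun y => hab.apply_apply_eq_zero y)
  have hg : Function.Surjective g := by
    rintro ⟨y, hy⟩
    obtain ⟨z, rfl⟩ := (hab y).mp hy
    exact ⟨z, rfl⟩
  have hker : LinearMap.ker g = LinearMap.ker a := LinearMap.ker_codRestrict _ _ _
  let φ : Q →ₗ[R] LinearMap.ker b := ψ.codRestrict _ (fun y => LinearMap.mem_ker.mpr (congrArg (fun f => f y) hψ))
  obtain ⟨χ, hχ⟩ := hQ g hg (univInj_congr hker.symm hK) φ
  refine ⟨χ, ?_⟩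
  ext q
  exact congrArg (fun f => ((f q : LinearMap.ker b) : X₂)) hχ

theorem univInj_liftQ (a : X₁ →ₗ[R] X₂) (b : X₂ →ₗ[R] X₃) (hba : b ∘ₗ a = 0)
    (hT : ∀ (T : Type u) [AddCommGroup T] [Module R T],
      Function.Exact (a.rTensor T) (b.rTensor T)) :
    CAlgX.UniversallyInjective R ((LinearMap.range a).liftQ b
      (by rintro _ ⟨x, rfl⟩; exact congrArg (fun f => f x) hba)) := by
  intro T _ _
  rw [← LinearMap.ker_eq_bot, LinearMap.ker_eq_bot']
  intro x hx
  obtain ⟨y, rfl⟩ := LinearMap.rTensor_surjective T (LinearMap.range a).mkQ_surjective x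
  have h1 : b.rTensor T y = 0 := by
    have : b = ((LinearMap.range a).liftQ b
      (by rintro _ ⟨x, rfl⟩; exact congrArg (fun f => f x) hba)) ∘ₗ (LinearMap.range a).mkQ := by
      ext z; rfl
    rw [this, LinearMap.rTensor_comp]; exact hx
  obtain ⟨z, rfl⟩ := (hT T _).mp h1
  have h2 : (LinearMap.range a).mkQ ∘ₗ a = 0 := by
    ext z
    exact (Submodule.Quotient.mk_eq_zero _).mpr ⟨z, rfl⟩
  rw [← LinearMap.comp_apply, ← LinearMap.rTensor_comp, h2, LinearMap.rTensor_zero]; rfl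

theorem exists_ext {I : Type u} [AddCommGroup I] [Module R I] (hI : PureInj R I)
    (a : X₁ →ₗ[R] X₂) (b : X₂ →ₗ[R] X₃) (hba : b ∘ₗ a = 0)
    (hT : ∀ (T : Type u) [AddCommGroup T] [Module R T],
      Function.Exact (a.rTensor T) (b.rTensor T))
    (ψ : X₂ →ₗ[R] I) (hψ : ψ ∘ₗ a = 0) : ∃ χ : X₃ →ₗ[R] I, χ ∘ₗ b = ψ := by
  obtain ⟨χ, hχ⟩ := hI _ (univInj_liftQ a b hba hT) ((LinearMap.range a).liftQ ψ
      (by rintro _ ⟨x, rfl⟩; exact congrArg (fun f => f x) hψ))
  refine ⟨χ, ?_⟩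
  ext z
  exact congrArg (fun f => f (Submodule.Quotient.mk z)) hχ

end ModuleLevel


lemma quasiIso_of_tensorUnit {ι : Type*} {c : ComplexShape ι}
    {K L : HomologicalComplex (ModuleCat.{u} R) c} (φ : K ⟶ L)
    (h : QuasiIso (((tensorRight (𝟙_ (ModuleCat.{u} R))).mapHomologicalComplex c).map φ)) :
    QuasiIso φ := by
  let α : (tensorRight (𝟙_ (ModuleCat.{u} R))).mapHomologicalComplex c ≅ 𝟭 _ :=
    NatIso.mapHomologicalComplex (rightUnitorNatIso _) c ≪≫ Functor.mapHomologicalComplexIdIso _ c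
  have : φ = α.inv.app K ≫
      ((tensorRight (𝟙_ (ModuleCat.{u} R))).mapHomologicalComplex c).map φ ≫ α.hom.app L := by
    simp
  rw [this]; infer_instance

section ModChain
variable {N : ModuleCat.{u} R} {N' : ChainComplex (ModuleCat.{u} R) ℕ}
  (ε : N' ⟶ (ChainComplex.single₀ _).obj N)

noncomputable def epsT (T : ModuleCat.{u} R) :
    ((tensorRight T).mapHomologicalComplex _).obj N' ⟶
      (ChainComplex.single₀ _).obj ((tensorRight T).obj N) :=
  ((tensorRight T).mapHomologicalComplex _).map ε ≫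
    (singleMapHomologicalComplex (tensorRight T) (ComplexShape.down ℕ) 0).hom.app N

instance (T : ModuleCat.{u} R)
    [h : QuasiIso (((tensorRight T).mapHomologicalComplex (ComplexShape.down ℕ)).map ε)] :
    QuasiIso (epsT ε T) := by
  unfold epsT; infer_instance

lemma epsT_f_zero (T : ModuleCat.{u} R) : (epsT ε T).f 0 = ε.f 0 ▷ T := by
  simp [epsT]
  exact comp_id _


include ε in
lemma chain_tensor_exact_succ (T : ModuleCat.{u} R)
    [h : QuasiIso (((tensorRight T).mapHomologicalComplex (ComplexShape.down ℕ)).map ε)] (n : ℕ) :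
    Function.Exact ((N'.d (n + 2) (n + 1)).hom.rTensor T) ((N'.d (n + 1) n).hom.rTensor T) :=
  (ShortComplex.ShortExact.moduleCat_exact_iff_function_exact _).mp
    (chain_exact_succ (epsT ε T) n)


variable (hN' : ∀ T : ModuleCat.{u} R,
      QuasiIso (((tensorRight T).mapHomologicalComplex (ComplexShape.down ℕ)).map ε))

include hN' in
lemma chain_quasiIso : QuasiIso ε := quasiIso_of_tensorUnit ε (hN' _)

include hN' in
lemma chain_mod_exact_succ (n : ℕ) :
    Function.Exact (N'.d (n + 2) (n + 1)).hom (N'.d (n + 1) n).hom :=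
  haveI := chain_quasiIso ε hN'
  (ShortComplex.ShortExact.moduleCat_exact_iff_function_exact _).mp (chain_exact_succ ε n)

include hN' in
lemma chain_mod_exact_zero :
    Function.Exact (N'.d 1 0).hom (ε.f 0).hom :=
  haveI := chain_quasiIso ε hN'
  (ShortComplex.ShortExact.moduleCat_exact_iff_function_exact _).mp (chain_exact_zero ε)

include hN' in
lemma chain_mod_surj : Function.Surjective (ε.f 0).hom :=
  haveI := chain_quasiIso ε hN'
  haveI := chain_epi_zero ε
  (ModuleCat.epi_iff_surjective _).mp inferInstance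

include hN' in
lemma chain_univInj_succ (n : ℕ) :
    CAlgX.UniversallyInjective R (LinearMap.ker (N'.d (n + 1) n).hom).subtype :=
  univInj_ker (N'.d (n + 3) (n + 2)).hom (N'.d (n + 2) (n + 1)).hom (N'.d (n + 1) n).hom
    (by rw [← ModuleCat.hom_comp, N'.d_comp_d]; rfl)
    (chain_mod_exact_succ ε hN' n)
    (fun T _ _ => haveI := hN' (ModuleCat.of R T)
      chain_tensor_exact_succ ε (ModuleCat.of R T) (n + 1))

include hN' in
lemma chain_univInj_zero :
    CAlgX.UniversallyInjective R (LinearMap.ker (ε.f 0).hom).subtype :=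
  univInj_ker (N'.d 2 1).hom (N'.d 1 0).hom (ε.f 0).hom
    (by rw [← ModuleCat.hom_comp, N'.d_comp_d]; rfl)
    (chain_mod_exact_zero ε hN')
    (fun T _ _ => haveI := hN' (ModuleCat.of R T)
      chain_tensor_exact_succ ε (ModuleCat.of R T) 0)

include hN' in
theorem chain_lift_succ (n : ℕ) {Q : ModuleCat.{u} R} (hQ : PureProj R Q)
    (ψ : Q ⟶ N'.X (n + 1)) (hψ : ψ ≫ N'.d (n + 1) n = 0) :
    ∃ χ : Q ⟶ N'.X (n + 2), χ ≫ N'.d (n + 2) (n + 1) = ψ := by
  obtain ⟨χ, hχ⟩ := exists_lift hQ (N'.d (n + 2) (n + 1)).hom (N'.d (n + 1) n).hom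
    (chain_mod_exact_succ ε hN' n) (chain_univInj_succ ε hN' (n + 1)) ψ.hom
    (by rw [← ModuleCat.hom_comp, hψ]; rfl)
  exact ⟨ModuleCat.ofHom χ, ModuleCat.hom_ext hχ⟩

include hN' in
theorem chain_lift_zero {Q : ModuleCat.{u} R} (hQ : PureProj R Q)
    (ψ : Q ⟶ N'.X 0) (hψ : ψ ≫ ε.f 0 = 0) :
    ∃ χ : Q ⟶ N'.X 1, χ ≫ N'.d 1 0 = ψ := by
  obtain ⟨χ, hχ⟩ := exists_lift hQ (N'.d 1 0).hom (ε.f 0).hom
    (chain_mod_exact_zero ε hN') (chain_univInj_succ ε hN' 0) ψ.hom
    (by rw [← ModuleCat.hom_comp, hψ]; rfl)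
  exact ⟨ModuleCat.ofHom χ, ModuleCat.hom_ext hχ⟩

include hN' in
theorem chain_lift_aug {Q : ModuleCat.{u} R} (hQ : PureProj R Q)
    (ψ : Q ⟶ ((ChainComplex.single₀ _).obj N).X 0) :
    ∃ χ : Q ⟶ N'.X 0, χ ≫ ε.f 0 = ψ := by
  obtain ⟨χ, hχ⟩ := hQ (ε.f 0).hom (chain_mod_surj ε hN') (chain_univInj_zero ε hN') ψ.hom
  exact ⟨ModuleCat.ofHom χ, ModuleCat.hom_ext hχ⟩

end ModChain


section ChainMain

variable {M N : ModuleCat.{u} R} (f : M ⟶ N) (P N' : ChainComplex (ModuleCat.{u} R) ℕ)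
    (π : P ⟶ (ChainComplex.single₀ (ModuleCat.{u} R)).obj M)
    (ε : N' ⟶ (ChainComplex.single₀ (ModuleCat.{u} R)).obj N)
    (hP : ∀ n : ℕ, PureProj R (P.X n))
    (hN' : ∀ T : ModuleCat.{u} R,
      QuasiIso (((tensorRight T).mapHomologicalComplex (ComplexShape.down ℕ)).map ε))

include hP hN' in
theorem exists_chainMap :
    ∃ φ : P ⟶ N', φ ≫ ε = π ≫ (ChainComplex.single₀ (ModuleCat.{u} R)).map f := by
  obtain ⟨z, hz⟩ := chain_lift_aug ε hN' (hP 0)
    (π.f 0 ≫ ((ChainComplex.single₀ (ModuleCat.{u} R)).map f).f 0)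
  obtain ⟨o, ho⟩ := chain_lift_zero ε hN' (hP 1) (P.d 1 0 ≫ z) (by
    rw [assoc, hz, ← assoc, ← π.comm 1 0, HomologicalComplex.single_obj_d, comp_zero, zero_comp])
  have hs : ∀ (n : ℕ) (p : Σ' (f : P.X n ⟶ N'.X n) (f' : P.X (n + 1) ⟶ N'.X (n + 1)),
          f' ≫ N'.d (n + 1) n = P.d (n + 1) n ≫ f),
      ∃ f'' : P.X (n + 2) ⟶ N'.X (n + 2),
        f'' ≫ N'.d (n + 2) (n + 1) = P.d (n + 2) (n + 1) ≫ p.2.1 := by
    rintro n ⟨g, g', w⟩
    exact chain_lift_succ ε hN' n (hP (n + 2)) (P.d (n + 2) (n + 1) ≫ g')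
      (by rw [assoc, w, ← assoc, P.d_comp_d, zero_comp])
  refine ⟨ChainComplex.mkHom _ _ z o ho (fun n p => ⟨(hs n p).choose, (hs n p).choose_spec⟩), ?_⟩
  apply HomologicalComplex.to_single_hom_ext
  rw [HomologicalComplex.comp_f, HomologicalComplex.comp_f, ChainComplex.mkHom_f_0, hz]

include hP hN' in
theorem nonempty_homotopy_zero (e : P ⟶ N') (he : e ≫ ε = 0) : Nonempty (Homotopy e 0) := by
  obtain ⟨z, hz⟩ := chain_lift_zero ε hN' (hP 0) (e.f 0) (by
    rw [← HomologicalComplex.comp_f, he]; rfl)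
  obtain ⟨o, ho⟩ := chain_lift_succ ε hN' 0 (hP 1) (e.f 1 - P.d 1 0 ≫ z) (by
    rw [Preadditive.sub_comp, assoc, hz, e.comm, sub_self])
  have hs : ∀ (n : ℕ) (p : Σ' (f : P.X n ⟶ N'.X (n + 1)) (f' : P.X (n + 1) ⟶ N'.X (n + 2)),
          e.f (n + 1) = P.d (n + 1) n ≫ f + f' ≫ N'.d (n + 2) (n + 1)),
      ∃ f'' : P.X (n + 2) ⟶ N'.X (n + 3),
        e.f (n + 2) = P.d (n + 2) (n + 1) ≫ p.2.1 + f'' ≫ N'.d (n + 3) (n + 2) := by
    rintro n ⟨g, g', w⟩
    obtain ⟨g'', hg''⟩ := chain_lift_succ ε hN' (n + 1) (hP (n + 2))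
      (e.f (n + 2) - P.d (n + 2) (n + 1) ≫ g') (by
        rw [Preadditive.sub_comp, assoc, e.comm]
        have : g' ≫ N'.d (n + 2) (n + 1) = e.f (n + 1) - P.d (n + 1) n ≫ g := by
          rw [w]; abel
        rw [this, Preadditive.comp_sub, ← assoc (P.d _ _) (P.d _ _), P.d_comp_d, zero_comp, sub_zero,
          sub_self])
    exact ⟨g'', by rw [hg'']; abel⟩
  exact ⟨Homotopy.mkInductive e z hz.symm o (by rw [ho]; abel)
    (fun n p => ⟨(hs n p).choose, (hs n p).choose_spec⟩)⟩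

include hP hN' in
theorem nonempty_homotopy (α β : P ⟶ N')
    (hα : α ≫ ε = π ≫ (ChainComplex.single₀ (ModuleCat.{u} R)).map f)
    (hβ : β ≫ ε = π ≫ (ChainComplex.single₀ (ModuleCat.{u} R)).map f) :
    Nonempty (Homotopy α β) := by
  obtain ⟨h⟩ := nonempty_homotopy_zero P N' ε hP hN' (α - β) (by
    rw [Preadditive.sub_comp, hα, hβ, sub_self])
  exact ⟨Homotopy.equivSubZero.symm h⟩

end ChainMain


section ModCochain
variable {M : ModuleCat.{u} R} {M' : CochainComplex (ModuleCat.{u} R) ℕ}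
  (η : (CochainComplex.single₀ _).obj M ⟶ M')

noncomputable def etaT (T : ModuleCat.{u} R) :
    (CochainComplex.single₀ _).obj ((tensorRight T).obj M) ⟶
      ((tensorRight T).mapHomologicalComplex _).obj M' :=
  (singleMapHomologicalComplex (tensorRight T) (ComplexShape.up ℕ) 0).inv.app M ≫
    ((tensorRight T).mapHomologicalComplex _).map η

instance (T : ModuleCat.{u} R)
    [h : QuasiIso (((tensorRight T).mapHomologicalComplex (ComplexShape.up ℕ)).map η)] :
    QuasiIso (etaT η T) := by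
  unfold etaT; infer_instance

lemma etaT_f_zero (T : ModuleCat.{u} R) : (etaT η T).f 0 = η.f 0 ▷ T := by
  simp [etaT]
  exact id_comp _

include η in
lemma cochain_tensor_exact_succ (T : ModuleCat.{u} R)
    [h : QuasiIso (((tensorRight T).mapHomologicalComplex (ComplexShape.up ℕ)).map η)] (n : ℕ) :
    Function.Exact ((M'.d n (n + 1)).hom.rTensor T) ((M'.d (n + 1) (n + 2)).hom.rTensor T) :=
  (ShortComplex.ShortExact.moduleCat_exact_iff_function_exact _).mp
    (cochain_exact_succ (etaT η T) n)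

lemma cochain_tensor_exact_zero (T : ModuleCat.{u} R)
    [h : QuasiIso (((tensorRight T).mapHomologicalComplex (ComplexShape.up ℕ)).map η)] :
    Function.Exact ((η.f 0).hom.rTensor T) ((M'.d 0 1).hom.rTensor T) := by
  have h1 : Function.Exact ((etaT η T).f 0).hom ((M'.d 0 1).hom.rTensor T) :=
    (ShortComplex.ShortExact.moduleCat_exact_iff_function_exact _).mp
      (cochain_exact_zero (etaT η T))
  rw [etaT_f_zero] at h1
  exact h1

lemma cochain_tensor_inj (T : ModuleCat.{u} R)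
    [h : QuasiIso (((tensorRight T).mapHomologicalComplex (ComplexShape.up ℕ)).map η)] :
    Function.Injective ((η.f 0).hom.rTensor T) := by
  have := cochain_mono_zero (etaT η T)
  have h1 : Function.Injective ((etaT η T).f 0).hom :=
    (ModuleCat.mono_iff_injective _).mp inferInstance
  rw [etaT_f_zero] at h1
  exact h1

variable (hM' : ∀ T : ModuleCat.{u} R,
      QuasiIso (((tensorRight T).mapHomologicalComplex (ComplexShape.up ℕ)).map η))

include hM' in
theorem cochain_ext_succ (n : ℕ) {I : ModuleCat.{u} R} (hI : PureInj R I)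
    (ψ : M'.X (n + 1) ⟶ I) (hψ : M'.d n (n + 1) ≫ ψ = 0) :
    ∃ χ : M'.X (n + 2) ⟶ I, M'.d (n + 1) (n + 2) ≫ χ = ψ := by
  obtain ⟨χ, hχ⟩ := exists_ext hI (M'.d n (n + 1)).hom (M'.d (n + 1) (n + 2)).hom
    (by rw [← ModuleCat.hom_comp, M'.d_comp_d]; rfl)
    (fun T _ _ => haveI := hM' (ModuleCat.of R T)
      cochain_tensor_exact_succ η (ModuleCat.of R T) n) ψ.hom
    (by rw [← ModuleCat.hom_comp, hψ]; rfl)
  exact ⟨ModuleCat.ofHom χ, ModuleCat.hom_ext hχ⟩

include hM' in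
theorem cochain_ext_zero {I : ModuleCat.{u} R} (hI : PureInj R I)
    (ψ : M'.X 0 ⟶ I) (hψ : η.f 0 ≫ ψ = 0) :
    ∃ χ : M'.X 1 ⟶ I, M'.d 0 1 ≫ χ = ψ := by
  obtain ⟨χ, hχ⟩ := exists_ext hI (η.f 0).hom (M'.d 0 1).hom
    (by rw [← ModuleCat.hom_comp, cochain_f_zero_comp_d]; rfl)
    (fun T _ _ => haveI := hM' (ModuleCat.of R T)
      cochain_tensor_exact_zero η (ModuleCat.of R T)) ψ.hom
    (by rw [← ModuleCat.hom_comp, hψ]; rfl)
  exact ⟨ModuleCat.ofHom χ, ModuleCat.hom_ext hχ⟩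

include hM' in
theorem cochain_ext_aug {I : ModuleCat.{u} R} (hI : PureInj R I)
    (ψ : ((CochainComplex.single₀ _).obj M).X 0 ⟶ I) :
    ∃ χ : M'.X 0 ⟶ I, η.f 0 ≫ χ = ψ := by
  obtain ⟨χ, hχ⟩ := hI (η.f 0).hom
    (fun T _ _ => haveI := hM' (ModuleCat.of R T)
      cochain_tensor_inj η (ModuleCat.of R T)) ψ.hom
  exact ⟨ModuleCat.ofHom χ, ModuleCat.hom_ext hχ⟩

end ModCochain

section CochainMain

variable {M N : ModuleCat.{u} R} (f : M ⟶ N) (M' I : CochainComplex (ModuleCat.{u} R) ℕ)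
    (η : (CochainComplex.single₀ (ModuleCat.{u} R)).obj M ⟶ M')
    (ε : (CochainComplex.single₀ (ModuleCat.{u} R)).obj N ⟶ I)
    (hM' : ∀ T : ModuleCat.{u} R,
      QuasiIso (((tensorRight T).mapHomologicalComplex (ComplexShape.up ℕ)).map η))
    (hI : ∀ n : ℕ, PureInj R (I.X n))

include hM' hI in
theorem exists_cochainMap :
    ∃ φ : M' ⟶ I, η ≫ φ = (CochainComplex.single₀ (ModuleCat.{u} R)).map f ≫ ε := by
  obtain ⟨z, hz⟩ := cochain_ext_aug η hM' (hI 0)
    (((CochainComplex.single₀ (ModuleCat.{u} R)).map f).f 0 ≫ ε.f 0)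
  obtain ⟨o, ho⟩ := cochain_ext_zero η hM' (hI 1) (z ≫ I.d 0 1) (by
    rw [← assoc, hz, assoc, ε.comm 0 1, HomologicalComplex.single_obj_d, zero_comp, comp_zero])
  have hs : ∀ (n : ℕ) (p : Σ' (f : M'.X n ⟶ I.X n) (f' : M'.X (n + 1) ⟶ I.X (n + 1)),
          f ≫ I.d n (n + 1) = M'.d n (n + 1) ≫ f'),
      ∃ f'' : M'.X (n + 2) ⟶ I.X (n + 2),
        p.2.1 ≫ I.d (n + 1) (n + 2) = M'.d (n + 1) (n + 2) ≫ f'' := by
    rintro n ⟨g, g', w⟩
    obtain ⟨g'', hg''⟩ := cochain_ext_succ η hM' n (hI (n + 2)) (g' ≫ I.d (n + 1) (n + 2))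
      (by rw [← assoc, ← w, assoc, I.d_comp_d, comp_zero])
    exact ⟨g'', hg''.symm⟩
  refine ⟨CochainComplex.mkHom _ _ z o ho.symm
    (fun n p => ⟨(hs n p).choose, (hs n p).choose_spec⟩), ?_⟩
  apply HomologicalComplex.from_single_hom_ext
  rw [HomologicalComplex.comp_f, HomologicalComplex.comp_f, CochainComplex.mkHom_f_0, hz]

include hM' hI in
theorem nonempty_cohomotopy_zero (e : M' ⟶ I) (he : η ≫ e = 0) : Nonempty (Homotopy e 0) := by
  obtain ⟨z, hz⟩ := cochain_ext_zero η hM' (hI 0) (e.f 0) (by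
    rw [← HomologicalComplex.comp_f, he]; rfl)
  obtain ⟨o, ho⟩ := cochain_ext_succ η hM' 0 (hI 1) (e.f 1 - z ≫ I.d 0 1) (by
    rw [Preadditive.comp_sub, ← assoc, hz, e.comm, sub_self])
  have hs : ∀ (n : ℕ) (p : Σ' (f : M'.X (n + 1) ⟶ I.X n) (f' : M'.X (n + 2) ⟶ I.X (n + 1)),
          e.f (n + 1) = f ≫ I.d n (n + 1) + M'.d (n + 1) (n + 2) ≫ f'),
      ∃ f'' : M'.X (n + 3) ⟶ I.X (n + 2),
        e.f (n + 2) = p.2.1 ≫ I.d (n + 1) (n + 2) + M'.d (n + 2) (n + 3) ≫ f'' := by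
    rintro n ⟨g, g', w⟩
    obtain ⟨g'', hg''⟩ := cochain_ext_succ η hM' (n + 1) (hI (n + 2))
      (e.f (n + 2) - g' ≫ I.d (n + 1) (n + 2)) (by
        rw [Preadditive.comp_sub, ← e.comm]
        have : M'.d (n + 1) (n + 2) ≫ g' = e.f (n + 1) - g ≫ I.d n (n + 1) := by
          rw [w]; abel
        rw [← assoc, this, Preadditive.sub_comp, assoc g, I.d_comp_d, comp_zero, sub_zero,
          sub_self])
    exact ⟨g'', by rw [hg'']; abel⟩
  exact ⟨Homotopy.mkCoinductive e z hz.symm o (by rw [ho]; abel)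
    (fun n p => ⟨(hs n p).choose, (hs n p).choose_spec⟩)⟩

include hM' hI in
theorem nonempty_cohomotopy (α β : M' ⟶ I)
    (hα : η ≫ α = (CochainComplex.single₀ (ModuleCat.{u} R)).map f ≫ ε)
    (hβ : η ≫ β = (CochainComplex.single₀ (ModuleCat.{u} R)).map f ≫ ε) :
    Nonempty (Homotopy α β) := by
  obtain ⟨h⟩ := nonempty_cohomotopy_zero M' I η hM' hI (α - β) (by
    rw [Preadditive.comp_sub, hα, hβ, sub_self])
  exact ⟨Homotopy.equivSubZero.symm h⟩

end CochainMain

end Groth.Agent.R2.H15.PureExt
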