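import Mathlib
import Groth.Prelude.Def_SGA4b
import Groth.Agent.S0100
import Groth.Agent.Lib.Helper16SmallEtale

/-!
# Geometric stalks of sheaves of sets on the small etale site (helper15, round 2)

* `stalkT ξ`: the stalk functor `EtDesc.Sh X ⥤ Type (u+1)` at a geometric point.
* `stalkPullIsoT f ξ : stalkT (ξ ≫ f) ≅ EtDesc.pullSh f ⋙ stalkT ξ`.
* `mono_of_stalks_via`: for a surjective `k : X ⟶ Y`, a map of sheaves of sets on `Y` that is injective
  on the stalks at all geometric points `ξ ≫ k` is a monomorphism.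
* `mono_unit_of_surjective`: for surjective `k`, the unit `F ⟶ k_* k^* F` is a monomorphism.
-/

set_option autoImplicit false

universe u

open CategoryTheory CategoryTheory.Limits AlgebraicGeometry Opposite

namespace Groth.Agent.R2.H15.SetStalk

open Groth.Agent.Lib.Helper16.SmallEtale

/-- The stalk functor for sheaves of sets at a geometric point. -/
noncomputable abbrev stalkT {X : Scheme.{u}} {Ω : Type u} [Field Ω] [IsSepClosed Ω]
    (ξ : Spec (CommRingCat.of Ω) ⟶ X) : EtDesc.Sh X ⥤ Type (u + 1) :=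
  (Scheme.pointSmallEtale ξ).sheafFiber

set_option backward.isDefEq.respectTransparency.types false in
/-- the key isomorphism of right adjoints (sets) -/
noncomputable def skySheafIsoT {X Y : Scheme.{u}} (f : X ⟶ Y) {Ω : Type u} [Field Ω] [IsSepClosed Ω]
    (ξ : Spec (CommRingCat.of Ω) ⟶ X) :
    (Scheme.pointSmallEtale ξ).skyscraperSheafFunctor (A := Type (u + 1)) ⋙ EtDesc.pushSh f ≅
      (Scheme.pointSmallEtale (ξ ≫ f)).skyscraperSheafFunctor :=
  NatIso.ofComponents
    (fun M => (fullyFaithfulSheafToPresheaf _ _).preimageIso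
      ((Groth.Agent.S0100.skyIso (Groth.Agent.S0100.fiberIso f ξ)).app M))
    (by
      intro M N g
      apply Sheaf.hom_ext
      exact (Groth.Agent.S0100.skyIso (A := Type (u + 1))
        (Groth.Agent.S0100.fiberIso f ξ)).hom.naturality g)

set_option backward.isDefEq.respectTransparency.types false in
/-- the stalk of the inverse image at `ξ` is the stalk at `ξ ≫ f` (sets). -/
noncomputable def stalkPullIsoT {X Y : Scheme.{u}} (f : X ⟶ Y)
    {Ω : Type u} [Field Ω] [IsSepClosed Ω] (ξ : Spec (CommRingCat.of Ω) ⟶ X) :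
    stalkT (ξ ≫ f) ≅ EtDesc.pullSh f ⋙ stalkT ξ :=
  let adj₁ := (EtDesc.adjSh f).comp
    ((Scheme.pointSmallEtale ξ).skyscraperSheafAdjunction (A := Type (u + 1)))
  let adj₂ := (Scheme.pointSmallEtale (ξ ≫ f)).skyscraperSheafAdjunction (A := Type (u + 1))
  (conjugateIsoEquiv adj₁ adj₂).symm (skySheafIsoT f ξ)

set_option backward.isDefEq.respectTransparency.types false in
/-- every point of an etale `Y`-scheme is the image of a geometric point of the form `ξ ≫ k`, for
`k : X ⟶ Y` surjective. -/
lemma exists_geometric_point_via {X Y : Scheme.{u}} (k : X ⟶ Y) (hk : Function.Surjective k.base)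
    (U : Y.Etale) (p : U.left) :
    ∃ (Ω : Type u) (_ : Field Ω) (_ : IsSepClosed Ω) (ξ : Spec (CommRingCat.of Ω) ⟶ X)
      (x : (Scheme.pointSmallEtale (ξ ≫ k)).fiber.obj U),
      (x.left : Spec (CommRingCat.of Ω) ⟶ U.left) (default : Spec (CommRingCat.of Ω)) = p := by
  obtain ⟨x, hx⟩ := hk (U.hom.base p)
  obtain ⟨q, hq1, hq2⟩ := Scheme.Pullback.exists_preimage_pullback (f := U.hom) (g := k) p x hx.symm
  let Ω := SeparableClosure ((pullback U.hom k).residueField q)
  obtain ⟨l, hl⟩ : ∃ l : Spec (CommRingCat.of Ω) ⟶ pullback U.hom k, l default = q := by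
    refine ⟨Spec.map (CommRingCat.ofHom (algebraMap ((pullback U.hom k).residueField q) Ω)) ≫
      (pullback U.hom k).fromSpecResidueField q, ?_⟩
    rw [Scheme.Hom.comp_apply]
    exact Scheme.fromSpecResidueField_apply _ _
  refine ⟨Ω, inferInstance, inferInstance, l ≫ pullback.snd U.hom k,
    Over.homMk (l ≫ pullback.fst U.hom k) ?_, ?_⟩
  · change (l ≫ pullback.fst U.hom k) ≫ U.hom = (l ≫ pullback.snd U.hom k) ≫ k
    rw [Category.assoc, Category.assoc, pullback.condition]
  · change (l ≫ pullback.fst U.hom k) default = p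
    rw [Scheme.Hom.comp_apply, hl]
    exact hq1

instance pfcT : PreservesFilteredColimitsOfSize.{u, u} (forget (Type (u + 1))) := by
  change PreservesFilteredColimitsOfSize.{u, u} (𝟭 (Type (u + 1)))
  infer_instance

set_option backward.isDefEq.respectTransparency.types false in
/-- a map of etale sheaves of sets on `Y` injective on the stalks at the geometric points `ξ ≫ k`
(`k : X ⟶ Y` surjective) is injective on sections. -/
lemma injective_of_stalks_via {X Y : Scheme.{u}} (k : X ⟶ Y) (hk : Function.Surjective k.base)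
    {F G : EtDesc.Sh Y} (a : F ⟶ G)
    (h : ∀ (Ω : Type u) [Field Ω] [IsSepClosed Ω] (ξ : Spec (CommRingCat.of Ω) ⟶ X),
      Function.Injective ((stalkT (ξ ≫ k)).map a)) (U : Y.Etale) :
    Function.Injective (a.hom.app (op U)) := by
  intro x y hxy
  have hsep : Presieve.IsSeparated Y.smallEtaleTopology F.obj :=
    ((isSheaf_iff_isSheaf_of_type _ _).1 F.property).isSeparated
  let R : Sieve U :=
    { arrows := fun W g => F.obj.map g.op x = F.obj.map g.op y
      downward_closed := by
        intro W W' g hg g'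
        rw [op_comp, Functor.map_comp]
        exact congrArg (F.obj.map g'.op) hg }
  have hR : R ∈ Y.smallEtaleTopology U := by
    rw [mem_smallEtale_iff]
    intro p
    obtain ⟨Ω, _, _, ξ, x₀, hx₀⟩ := exists_geometric_point_via k hk U p
    let Φ := Scheme.pointSmallEtale (ξ ≫ k)
    have e1 : (stalkT (ξ ≫ k)).map a (Φ.toPresheafFiber U x₀ F.obj x) =
        (stalkT (ξ ≫ k)).map a (Φ.toPresheafFiber U x₀ F.obj y) := by
      have n1 := Φ.toPresheafFiber_naturality_apply a.hom U x₀ x
      have n2 := Φ.toPresheafFiber_naturality_apply a.hom U x₀ y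
      exact n1.trans ((congrArg _ hxy).trans n2.symm)
    have e2 := h Ω ξ e1
    obtain ⟨W, g, w, hw, hg⟩ := (Φ.toPresheafFiber_eq_iff' (P := F.obj) U x₀ x y).mp e2
    refine ⟨W, g, (w.left : Spec (CommRingCat.of Ω) ⟶ W.left) (default : Spec (CommRingCat.of Ω)),
      hg, ?_⟩
    have e3 : w.left ≫ g.left = x₀.left := congrArg (fun m => m.left) hw
    rw [← hx₀]
    exact congrArg (fun m : Spec (CommRingCat.of Ω) ⟶ U.left => m default) e3
  exact (hsep R hR).ext (fun W g hg => hg)

lemma mono_of_stalks_via {X Y : Scheme.{u}} (k : X ⟶ Y) (hk : Function.Surjective k.base)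
    {F G : EtDesc.Sh Y} (a : F ⟶ G)
    (h : ∀ (Ω : Type u) [Field Ω] [IsSepClosed Ω] (ξ : Spec (CommRingCat.of Ω) ⟶ X),
      Function.Injective ((stalkT (ξ ≫ k)).map a)) : Mono a :=
  Sheaf.mono_of_injective a (fun U => by
    induction U using Opposite.rec with | _ U => exact injective_of_stalks_via k hk a h U)

/-- for a surjective morphism `k`, the unit `F ⟶ k_* k^* F` of sheaves of sets is a monomorphism. -/
theorem mono_unit_of_surjective {X Y : Scheme.{u}} (k : X ⟶ Y) (hk : Function.Surjective k.base)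
    (F : EtDesc.Sh Y) : Mono ((EtDesc.adjSh k).unit.app F) := by
  apply mono_of_stalks_via k hk
  intro Ω _ _ ξ
  let η := (EtDesc.adjSh k).unit.app F
  -- `k^* η` is a split monomorphism
  have hsplit : (EtDesc.pullSh k).map η ≫ (EtDesc.adjSh k).counit.app ((EtDesc.pullSh k).obj F) =
      𝟙 _ := (EtDesc.adjSh k).left_triangle_components F
  have : IsSplitMono ((EtDesc.pullSh k ⋙ stalkT ξ).map η) :=
    IsSplitMono.mk' ⟨(stalkT ξ).map ((EtDesc.adjSh k).counit.app ((EtDesc.pullSh k).obj F)), by
      rw [Functor.comp_map, ← Functor.map_comp, hsplit, CategoryTheory.Functor.map_id]⟩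
  have nat := (stalkPullIsoT k ξ).hom.naturality η
  have : Mono ((stalkT (ξ ≫ k)).map η) := by
    have : Mono ((stalkT (ξ ≫ k)).map η ≫ (stalkPullIsoT k ξ).hom.app _) := by
      rw [nat]
      infer_instance
    exact mono_of_mono _ ((stalkPullIsoT k ξ).hom.app _)
  exact (mono_iff_injective _).1 inferInstance

end Groth.Agent.R2.H15.SetStalk
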