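import Mathlib
import Groth.Prelude.Def_EtBCD
import Groth.Agent.R2.H15AcycComp
import Groth.Agent.R2.H15SetStalk
import Groth.Agent.R2.H15Classifier

/-!
# Descent of bijectivity of pullback of sections along a surjective morphism (helper15, round 2)

Tools for `EtBC.sections_descent_along_surjective_sets`.
-/

set_option autoImplicit false
set_option linter.style.haveILetI false

universe u

open CategoryTheory CategoryTheory.Limits AlgebraicGeometry Opposite

namespace Groth.Agent.R2.H15.SecDescent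

open Groth.Agent.R2.H15.SetStalk Groth.Agent.R2.H15.AcycComp

/-- sections of a sheaf of sets -/
abbrev Γs {X : Scheme.{u}} (F : EtDesc.Sh X) (T : X.Etale) : Type (u + 1) := F.obj.obj (op T)

/-- the unit `F ⟶ h_* h^* F` on sections over `T`. -/
noncomputable abbrev Uat {X Y : Scheme.{u}} (h : Y ⟶ X) (F : EtDesc.Sh X) (T : X.Etale) :
    Γs F T → Γs ((EtDesc.pullSh h).obj F) ((EtCoh.bc h).obj T) :=
  fun s => ((EtDesc.adjSh h).unit.app F).hom.app (op T) s

/-- restriction along an isomorphism is bijective -/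
lemma map_iso_bijective {X : Scheme.{u}} (F : EtDesc.Sh X) {T T' : X.Etale} (e : T ⟶ T') [IsIso e] :
    Function.Bijective (F.obj.map e.op) := by
  have : IsIso (F.obj.map e.op) := inferInstance
  exact (isIso_iff_bijective _).1 this

lemma secPull_eq {X Y : Scheme.{u}} (h : Y ⟶ X) (F : EtDesc.Sh X) :
    EtDesc.secPull h F =
      (((EtDesc.pullSh h).obj F).obj.map (EtCore.bcTopIso h).inv.op) ∘ Uat h F (EtCoh.top X) := rfl

lemma secPull_injective_iff {X Y : Scheme.{u}} (h : Y ⟶ X) (F : EtDesc.Sh X) :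
    Function.Injective (EtDesc.secPull h F) ↔ Function.Injective (Uat h F (EtCoh.top X)) := by
  rw [secPull_eq]
  exact Function.Injective.of_comp_iff
    (map_iso_bijective ((EtDesc.pullSh h).obj F) (EtCore.bcTopIso h).inv).injective _

lemma secPull_bijective_iff {X Y : Scheme.{u}} (h : Y ⟶ X) (F : EtDesc.Sh X) :
    Function.Bijective (EtDesc.secPull h F) ↔ Function.Bijective (Uat h F (EtCoh.top X)) := by
  rw [secPull_eq]
  exact Function.Bijective.of_comp_iff' 
    (map_iso_bijective ((EtDesc.pullSh h).obj F) (EtCore.bcTopIso h).inv) _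

/-- transport of injectivity/bijectivity of a component of a morphism of sheaves along an
isomorphism of objects. -/
lemma app_injective_of_iso {X : Scheme.{u}} {A B : EtDesc.Sh X} (η : A ⟶ B) {T T' : X.Etale}
    (e : T ⟶ T') [IsIso e] (hT : Function.Injective (η.hom.app (op T))) :
    Function.Injective (η.hom.app (op T')) := by
  have nat := η.hom.naturality e.op
  intro x y hxy
  have h1 : η.hom.app (op T) (A.obj.map e.op x) = η.hom.app (op T) (A.obj.map e.op y) := by
    have e1 := ConcreteCategory.congr_hom nat x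
    have e2 := ConcreteCategory.congr_hom nat y
    rw [ConcreteCategory.comp_apply, ConcreteCategory.comp_apply] at e1 e2
    rw [e1, e2, hxy]
  exact (map_iso_bijective A e).injective (hT h1)

lemma app_bijective_of_iso {X : Scheme.{u}} {A B : EtDesc.Sh X} (η : A ⟶ B) {T T' : X.Etale}
    (e : T ⟶ T') [IsIso e] (hT : Function.Bijective (η.hom.app (op T))) :
    Function.Bijective (η.hom.app (op T')) := by
  have nat := η.hom.naturality e.op
  have h1 : Function.Bijective ((η.hom.app (op T)) ∘ (A.obj.map e.op)) :=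
    hT.comp (map_iso_bijective A e)
  have h2 : (η.hom.app (op T)) ∘ (A.obj.map e.op) = (B.obj.map e.op) ∘ (η.hom.app (op T')) := by
    funext x
    have e1 := ConcreteCategory.congr_hom nat x
    rw [ConcreteCategory.comp_apply, ConcreteCategory.comp_apply] at e1
    exact e1
  rw [h2] at h1
  exact (Function.Bijective.of_comp_iff' (map_iso_bijective B e) _).1 h1

/-- an isomorphism of sheaves is bijective on sections -/
lemma iso_app_bijective {X : Scheme.{u}} {A B : EtDesc.Sh X} (e : A ≅ B) (T : X.Etale) :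
    Function.Bijective (e.hom.hom.app (op T)) := by
  have : IsIso (((sheafToPresheaf _ _ ⋙ (evaluation _ _).obj (op T)).mapIso e).hom) := inferInstance
  exact (isIso_iff_bijective _).1 this

/-- a monomorphism of sheaves of sets is injective on sections -/
lemma mono_app_injective {X : Scheme.{u}} {A B : EtDesc.Sh X} (η : A ⟶ B) [hm : Mono η]
    (T : X.Etale) : Function.Injective (η.hom.app (op T)) := by
  have hm1 : Mono η.hom := (Sheaf.Hom.mono_iff_presheaf_mono _ _ η).1 hm
  have hm2 : Mono (η.hom.app (op T)) := inferInstance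
  exact (mono_iff_injective _).1 hm2

lemma comp_app_apply {X : Scheme.{u}} {A B C : EtDesc.Sh X} (α : A ⟶ B) (β : B ⟶ C) (T : X.Etale)
    (x : Γs A T) : (α ≫ β).hom.app (op T) x = β.hom.app (op T) (α.hom.app (op T) x) := rfl

lemma Uat_congr {X Y : Scheme.{u}} {k k' : Y ⟶ X} (e : k = k') (F : EtDesc.Sh X) (T : X.Etale) :
    Function.Injective (Uat k F T) ↔ Function.Injective (Uat k' F T) := by
  subst e
  exact Iff.rfl

/-- the unit of a surjective morphism is injective on sections -/
lemma Uat_injective_of_surjective {X Y : Scheme.{u}} (p : Y ⟶ X) (hp : Function.Surjective p.base)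
    (F : EtDesc.Sh X) (T : X.Etale) : Function.Injective (Uat p F T) := by
  have := mono_unit_of_surjective p hp F
  exact mono_app_injective ((EtDesc.adjSh p).unit.app F) T

/-- the unit of a composite `a ≫ b` is injective on sections over `T` if the units of `b` and of `a`
are (the latter over `(bc b) T`). -/
lemma Uat_comp_injective {X Y Z : Scheme.{u}} (a : Z ⟶ Y) (b : Y ⟶ X) (F : EtDesc.Sh X) (T : X.Etale)
    (hb : Function.Injective (Uat b F T))
    (ha : Function.Injective (Uat a ((EtDesc.pullSh b).obj F) ((EtCoh.bc b).obj T))) :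
    Function.Injective (Uat (a ≫ b) F T) := by
  have huc := unit_comp a b F
  have h1 : ∀ x : Γs F T,
      ((EtDesc.pushSh (a ≫ b)).map ((EtDesc.pullCompSh a b).hom.app F)).hom.app (op T)
        (Uat (a ≫ b) F T x) =
      ((EtDesc.pushCompSh b a).hom.app _).hom.app (op T)
        (Uat a ((EtDesc.pullSh b).obj F) ((EtCoh.bc b).obj T) (Uat b F T x)) := by
    intro x
    have := congrArg (fun φ => φ.hom.app (op T) x) huc
    exact this
  intro x y hxy
  have h2 := (h1 x).symm.trans ((congrArg _ hxy).trans (h1 y))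
  have h3 := (iso_app_bijective ((EtDesc.pushCompSh b a).app _) T).injective h2
  exact hb (ha h3)

/-- conversely, if the unit of `a ≫ b` is injective on sections over `T`, so is the unit of `b`. -/
lemma Uat_injective_of_comp {X Y Z : Scheme.{u}} (a : Z ⟶ Y) (b : Y ⟶ X) (F : EtDesc.Sh X)
    (T : X.Etale) (hab : Function.Injective (Uat (a ≫ b) F T)) :
    Function.Injective (Uat b F T) := by
  have huc := unit_comp a b F
  have h1 : ∀ x : Γs F T,
      ((EtDesc.pushSh (a ≫ b)).map ((EtDesc.pullCompSh a b).hom.app F)).hom.app (op T)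
        (Uat (a ≫ b) F T x) =
      ((EtDesc.pushCompSh b a).hom.app _).hom.app (op T)
        (Uat a ((EtDesc.pullSh b).obj F) ((EtCoh.bc b).obj T) (Uat b F T x)) := by
    intro x
    have := congrArg (fun φ => φ.hom.app (op T) x) huc
    exact this
  intro x y hxy
  apply hab
  have h2 : ((EtDesc.pushSh (a ≫ b)).map ((EtDesc.pullCompSh a b).hom.app F)).hom.app (op T)
        (Uat (a ≫ b) F T x) =
      ((EtDesc.pushSh (a ≫ b)).map ((EtDesc.pullCompSh a b).hom.app F)).hom.app (op T)
        (Uat (a ≫ b) F T y) := by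
    rw [h1 x, h1 y, hxy]
  exact (iso_app_bijective ((EtDesc.pushSh (a ≫ b)).mapIso ((EtDesc.pullCompSh a b).app F))
    T).injective h2

/-- Part 1: descent of injectivity of the unit on global sections along a surjective morphism. -/
theorem Uat_injective_descent {X Y Xb Yb : Scheme.{u}} (h : Y ⟶ X) (p : Xb ⟶ X)
    (hb : Yb ⟶ Xb) (pY : Yb ⟶ Y) (w : hb ≫ p = pY ≫ h) (hp : Function.Surjective p.base)
    (H : ∀ Fb : EtDesc.Sh Xb, Function.Injective (Uat hb Fb (EtCoh.top Xb))) (F : EtDesc.Sh X) :
    Function.Injective (Uat h F (EtCoh.top X)) := by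
  have h1 : Function.Injective (Uat (hb ≫ p) F (EtCoh.top X)) := by
    apply Uat_comp_injective hb p F (EtCoh.top X) (Uat_injective_of_surjective p hp F _)
    exact app_injective_of_iso ((EtDesc.adjSh hb).unit.app ((EtDesc.pullSh p).obj F))
      (EtCore.bcTopIso p).inv (H _)
  have h2 : Function.Injective (Uat (pY ≫ h) F (EtCoh.top X)) := (Uat_congr w F _).1 h1
  exact Uat_injective_of_comp pY h F _ h2

section PullMono

/-- the stalk functor preserves injectivity. -/
lemma stalkT_map_injective {X : Scheme.{u}} {Ω : Type u} [Field Ω] [IsSepClosed Ω]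
    (ξ : Spec (CommRingCat.of Ω) ⟶ X) {A B : EtDesc.Sh X} (v : A ⟶ B) [Mono v] :
    Function.Injective ((stalkT ξ).map v) := by
  have hinj : ∀ T : (X.Etale)ᵒᵖ, Function.Injective (v.hom.app T) := fun T => by
    induction T using Opposite.rec with | _ T => exact mono_app_injective v T
  haveI : Presheaf.IsLocallyInjective X.smallEtaleTopology v.hom :=
    Presheaf.isLocallyInjective_of_injective _ _ hinj
  exact (Scheme.pointSmallEtale ξ).toPresheafFiber_map_injective v.hom

/-- inverse image of sheaves of sets preserves monomorphisms. -/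
theorem pullSh_map_mono {X Y : Scheme.{u}} (h : Y ⟶ X) {A B : EtDesc.Sh X} (v : A ⟶ B) [Mono v] :
    Mono ((EtDesc.pullSh h).map v) := by
  apply mono_of_stalks_via (𝟙 Y) (fun y => ⟨y, rfl⟩)
  intro Ω _ _ ξ
  have h1 : Function.Injective ((stalkT ((ξ ≫ 𝟙 Y) ≫ h)).map v) := stalkT_map_injective _ v
  have nat := (stalkPullIsoT h (ξ ≫ 𝟙 Y)).hom.naturality v
  have hm1 : Mono ((stalkT ((ξ ≫ 𝟙 Y) ≫ h)).map v) := (mono_iff_injective _).2 h1
  have hm2 : Mono ((EtDesc.pullSh h ⋙ stalkT (ξ ≫ 𝟙 Y)).map v) := by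
    have hm3 : Mono ((stalkPullIsoT h (ξ ≫ 𝟙 Y)).hom.app A ≫
        (EtDesc.pullSh h ⋙ stalkT (ξ ≫ 𝟙 Y)).map v) := by
      rw [← nat]
      infer_instance
    have e : (EtDesc.pullSh h ⋙ stalkT (ξ ≫ 𝟙 Y)).map v =
        (stalkPullIsoT h (ξ ≫ 𝟙 Y)).inv.app A ≫ ((stalkPullIsoT h (ξ ≫ 𝟙 Y)).hom.app A ≫
          (EtDesc.pullSh h ⋙ stalkT (ξ ≫ 𝟙 Y)).map v) := by simp
    rw [e]
    infer_instance
  exact (mono_iff_injective _).1 hm2

end PullMono

section Bijective

open Groth.Agent.R2.H15.Classifier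

/-- naturality of the unit on sections -/
lemma Uat_naturality {X Y : Scheme.{u}} (h : Y ⟶ X) {A B : EtDesc.Sh X} (φ : A ⟶ B) (T : X.Etale)
    (x : Γs A T) :
    ((EtDesc.pullSh h).map φ).hom.app (op ((EtCoh.bc h).obj T)) (Uat h A T x) =
      Uat h B T (φ.hom.app (op T) x) := by
  have nat := (EtDesc.adjSh h).unit.naturality φ
  have := congrArg (fun ψ => ψ.hom.app (op T) x) nat
  exact this.symm

/-- Key lemma: under the hypotheses, the unit of `h` on global sections is bijective for direct
images along `p`. -/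
theorem Uat_push_bijective {X Y Xb Yb : Scheme.{u}} (h : Y ⟶ X) (p : Xb ⟶ X)
    (hb : Yb ⟶ Xb) (pY : Yb ⟶ Y) (w : hb ≫ p = pY ≫ h)
    (H : ∀ Fb : EtDesc.Sh Xb, Function.Bijective (Uat hb Fb (EtCoh.top Xb)))
    (Hbc : ∀ Fb : EtDesc.Sh Xb, Mono (EtBC.baseChange0Sh p h pY hb w Fb)) (Fb : EtDesc.Sh Xb) :
    Function.Bijective (Uat h ((EtDesc.pushSh p).obj Fb) (EtCoh.top X)) := by
  let T := EtCoh.top X
  let β : (EtDesc.pushSh p).obj Fb ⟶
      (EtDesc.pushSh h).obj ((EtDesc.pushSh pY).obj ((EtDesc.pullSh hb).obj Fb)) :=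
    (EtDesc.pushSh p).map ((EtDesc.adjSh hb).unit.app Fb) ≫ (EtDesc.pushCompSh p hb).hom.app _ ≫
      (EtBC.pushCongrSh w).hom.app _ ≫ (EtDesc.pushCompSh h pY).inv.app _
  let bc := EtBC.baseChange0Sh p h pY hb w Fb
  have key : (EtDesc.adjSh h).unit.app ((EtDesc.pushSh p).obj Fb) ≫ (EtDesc.pushSh h).map bc = β := by
    have e1 : ((EtDesc.adjSh h).homEquiv _ _) bc = β := Equiv.apply_symm_apply _ _
    rw [Adjunction.homEquiv_unit] at e1
    exact e1
  have hβ : Function.Bijective (β.hom.app (op T)) := by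
    have h1 : Function.Bijective (((EtDesc.adjSh hb).unit.app Fb).hom.app
        (op ((EtCoh.bc p).obj T))) :=
      app_bijective_of_iso ((EtDesc.adjSh hb).unit.app Fb) (EtCore.bcTopIso p).inv (H Fb)
    have h2 := iso_app_bijective ((EtDesc.pushCompSh p hb).app ((EtDesc.pullSh hb).obj Fb)) T
    have h3 := iso_app_bijective ((EtBC.pushCongrSh w).app ((EtDesc.pullSh hb).obj Fb)) T
    have h4 := iso_app_bijective ((EtDesc.pushCompSh h pY).symm.app ((EtDesc.pullSh hb).obj Fb)) T
    exact h4.comp (h3.comp (h2.comp h1))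
  have hkey : ∀ x : Γs ((EtDesc.pushSh p).obj Fb) T,
      bc.hom.app (op ((EtCoh.bc h).obj T)) (Uat h ((EtDesc.pushSh p).obj Fb) T x) =
        β.hom.app (op T) x := by
    intro x
    have := congrArg (fun ψ => ψ.hom.app (op T) x) key
    exact this
  haveI := Hbc Fb
  have hbcinj : Function.Injective (bc.hom.app (op ((EtCoh.bc h).obj T))) :=
    mono_app_injective bc _
  constructor
  · intro x y hxy
    apply hβ.injective
    rw [← hkey x, ← hkey y, hxy]
  · intro z
    obtain ⟨x, hx⟩ := hβ.surjective (bc.hom.app (op ((EtCoh.bc h).obj T)) z)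
    refine ⟨x, hbcinj ?_⟩
    rw [hkey x, hx]

/-- Part 2: descent of bijectivity of the unit on global sections. -/
theorem Uat_bijective_descent {X Y Xb Yb : Scheme.{u}} (h : Y ⟶ X) (p : Xb ⟶ X)
    (hb : Yb ⟶ Xb) (pY : Yb ⟶ Y) (w : hb ≫ p = pY ≫ h) (hp : Function.Surjective p.base)
    (H : ∀ Fb : EtDesc.Sh Xb, Function.Bijective (Uat hb Fb (EtCoh.top Xb)))
    (Hbc : ∀ Fb : EtDesc.Sh Xb, Mono (EtBC.baseChange0Sh p h pY hb w Fb)) (F : EtDesc.Sh X) :
    Function.Bijective (Uat h F (EtCoh.top X)) := by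
  let T := EtCoh.top X
  -- the embedding `F ⟶ G = p_* p^* F`
  let G := (EtDesc.pushSh p).obj ((EtDesc.pullSh p).obj F)
  let v : F ⟶ G := (EtDesc.adjSh p).unit.app F
  haveI hvm : Mono v := mono_unit_of_surjective p hp F
  have hv : ∀ T' : X.Etale, Function.Injective (v.hom.app (op T')) := fun T' => mono_app_injective v T'
  -- the classifier and its embedding
  let Ωs := ΩSh X
  let G' := (EtDesc.pushSh p).obj ((EtDesc.pullSh p).obj Ωs)
  let v' : Ωs ⟶ G' := (EtDesc.adjSh p).unit.app Ωs
  haveI hvm' : Mono v' := mono_unit_of_surjective p hp Ωs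
  let a : G ⟶ G' := chi v hv ≫ v'
  let b : G ⟶ G' := tru G ≫ v'
  have hab : v ≫ a = v ≫ b := by
    change v ≫ chi v hv ≫ v' = v ≫ tru G ≫ v'
    rw [← Category.assoc, ← Category.assoc, comp_chi]
  have heq : ∀ x : Γs G T, a.hom.app (op T) x = b.hom.app (op T) x →
      x ∈ Set.range (v.hom.app (op T)) := by
    intro x hx
    apply mem_range_of_chi_eq_tru v hv x
    exact mono_app_injective v' T hx
  have K1 : Function.Bijective (Uat h G T) := Uat_push_bijective h p hb pY w H Hbc _
  have K2 : Function.Bijective (Uat h G' T) := Uat_push_bijective h p hb pY w H Hbc _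
  haveI : Mono ((EtDesc.pullSh h).map v) := pullSh_map_mono h v
  have hhv : Function.Injective (((EtDesc.pullSh h).map v).hom.app (op ((EtCoh.bc h).obj T))) :=
    mono_app_injective _ _
  constructor
  · intro x y hxy
    apply hv T
    apply K1.injective
    rw [← Uat_naturality h v T x, ← Uat_naturality h v T y, hxy]
  · intro z
    obtain ⟨x, hx⟩ := K1.surjective (((EtDesc.pullSh h).map v).hom.app (op ((EtCoh.bc h).obj T)) z)
    have hax : a.hom.app (op T) x = b.hom.app (op T) x := by
      apply K2.injective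
      rw [← Uat_naturality h a T x, ← Uat_naturality h b T x, hx]
      have e1 := congrArg (fun ψ => ((EtDesc.pullSh h).map ψ).hom.app (op ((EtCoh.bc h).obj T)) z) hab
      simp only [Functor.map_comp] at e1
      exact e1
    obtain ⟨t, ht⟩ := heq x hax
    refine ⟨t, hhv ?_⟩
    rw [Uat_naturality h v T t, ht, hx]

end Bijective

end Groth.Agent.R2.H15.SecDescent
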