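import Mathlib
import Groth.Agent.R2.H16CbcFIGlob4
import Groth.Agent.R2.H11CbcGRank
import Groth.Agent.S2380

/-!
# PROJ:cbc consumer — fibre cohomology concentrated in one degree: the degree is locally constant (helper16)

Namespace `Groth.Agent.R2.H16.CbcConc`.

* `subsingleton_of_dRank_eq_zero`: (Noetherian, finite terms) `dRank L q x = 0 ⇒ H_q(L ⊗ κ(x)) = 0`;
* `exists_open_fibre_vanishing`: `f : X ⟶ Y` proper, `Y` locally Noetherian, `F` coherent and flat over `Y`, `y₀ : Y`,
  `S` a set of degrees with `H^p(X_{y₀}, F_{y₀}) = 0` for `p ∈ S`: there is an open neighbourhood `U` of `y₀` with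
  `H^p(X_y, F_y) = 0` for all `y ∈ U` and ALL `p ∈ S` (only finitely many degrees matter: the bridge complex is
  bounded, and upper semicontinuity `S2380` handles each of them);
* `isLocallyConstant_index`: if for every `y` the fibre cohomology is concentrated in the single degree `idx y`
  (zero elsewhere, nonzero there), then `idx` is locally constant.
-/

set_option autoImplicit false
set_option linter.style.haveILetI false
set_option linter.unusedSectionVars false
universe u
open CategoryTheory CategoryTheory.Limits AlgebraicGeometry Opposite TopologicalSpace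

namespace Groth.Agent.R2.H16.CbcConc

open Groth.Agent.R2.H16.CbcFIGlob Groth.Agent.R2.H16.CbcFIFib

theorem subsingleton_of_finrank_eq_zero {K V : Type*} [Field K] [AddCommGroup V] [Module K V]
    [Module.Finite K V] (h : Module.finrank K V = 0) : Subsingleton V :=
  Module.finrank_zero_iff.mp h

section alg

variable {A : Type u} [CommRing A] [IsNoetherianRing A]
  (L : ChainComplex (ModuleCat.{u} A) ℤ)

/-- vanishing of the rank function gives vanishing of the fibre homology -/
theorem subsingleton_of_dRank_eq_zero (hfin : ∀ i, Module.Finite A (L.X i)) (q : ℤ)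
    (x : PrimeSpectrum A) (h : CohIII.dRank L q x = 0) :
    Subsingleton ↥((CohIII.bcCx (algebraMap A x.asIdeal.ResidueField) L).homology q) := by
  have hfin' : ∀ i, Module.Finite x.asIdeal.ResidueField
      ((CohIII.bcCx (algebraMap A x.asIdeal.ResidueField) L).X i) := fun i => by
    have := hfin i
    exact Groth.Agent.S2380.finite_extendScalars A x.asIdeal.ResidueField (L.X i)
  haveI : Module.Finite x.asIdeal.ResidueField
      ↥((CohIII.bcCx (algebraMap A x.asIdeal.ResidueField) L).homology q) :=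
    Groth.Agent.R2.H11.CbcGRank.finite_homology _ hfin' q
  exact subsingleton_of_finrank_eq_zero (K := x.asIdeal.ResidueField) h

/-- the fibre homology vanishes where the terms vanish -/
theorem subsingleton_of_isZero_X (q : ℤ) (hq : IsZero (L.X q)) (x : PrimeSpectrum A) :
    Subsingleton ↥((CohIII.bcCx (algebraMap A x.asIdeal.ResidueField) L).homology q) := by
  have h1 : IsZero ((CohIII.bcCx (algebraMap A x.asIdeal.ResidueField) L).X q) :=
    (ModuleCat.extendScalars (algebraMap A x.asIdeal.ResidueField)).map_isZero hq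
  have hex : (CohIII.bcCx (algebraMap A x.asIdeal.ResidueField) L).ExactAt q :=
    ShortComplex.exact_of_isZero_X₂ _ h1
  exact ModuleCat.subsingleton_of_isZero hex.isZero_homology

end alg

section geom

variable {X Y : Scheme.{u}} (f : X ⟶ Y) (F : X.Modules)

/-- **Fibre vanishing in a set of degrees is an open condition** (all degrees of the set at once). -/
theorem exists_open_fibre_vanishing [IsProper f] [IsLocallyNoetherian Y] (hF : Coh.IsCoh F)
    (hfl : FlatMod.IsFlatOver f F) (y₀ : Y) (S : Set ℕ)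
    (h₀ : ∀ p ∈ S, Subsingleton (CohIII.fiberH f F y₀ p)) :
    ∃ U : Y.Opens, y₀ ∈ U ∧ ∀ y ∈ U, ∀ p ∈ S, Subsingleton (CohIII.fiberH f F y p) := by
  obtain ⟨V, hV, hy₀V, -⟩ := exists_isAffineOpen_mem_and_subset (x := y₀) (U := ⊤) trivial
  haveI : IsNoetherianRing ↑Γ(Y, V) := IsLocallyNoetherian.component_noetherian ⟨V, hV⟩
  obtain ⟨L, d, hL, hLb, -, -, hfib⟩ := exists_bridge_glob' f F hV hF hfl
  have hfin : ∀ i, Module.Finite ↑Γ(Y, V) (L.X i) := fun i => (hL i).1
  have hL' : ∀ i, Module.Finite ↑Γ(Y, V) (L.X i) ∧ Module.Flat ↑Γ(Y, V) (L.X i) := fun i =>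
    ⟨(hL i).1, haveI := (hL i).2; inferInstance⟩
  -- the open subset of `Spec Γ(Y, V)` where the ranks in the relevant degrees `≤ d` vanish
  let W : Set (PrimeSpectrum ↑Γ(Y, V)) :=
    ⋂ p ∈ {p : ℕ | p ∈ S ∧ p ≤ d}, (CohIII.dRank L (-(p : ℤ))) ⁻¹' Set.Iio 1
  have hWo : IsOpen W := by
    have hfinite : {p : ℕ | p ∈ S ∧ p ≤ d}.Finite :=
      (Set.finite_Iic d).subset (fun p hp => hp.2)
    refine hfinite.isOpen_biInter (fun p _ => ?_)
    exact (upperSemicontinuous_iff_isOpen_preimage.mp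
      (Groth.Agent.S2380.result L hL' (-(p : ℤ)))) 1
  -- the vanishing criterion at a point of `V`
  have hcrit : ∀ (y : Y) (hy : y ∈ V), hV.primeIdealOf ⟨y, hy⟩ ∈ W →
      ∀ p ∈ S, Subsingleton (CohIII.fiberH f F y p) := by
    intro y hy hyW p hp
    rw [(hfib p y hy).2]
    by_cases hpd : p ≤ d
    · have h1 : hV.primeIdealOf ⟨y, hy⟩ ∈ (CohIII.dRank L (-(p : ℤ))) ⁻¹' Set.Iio 1 :=
        Set.mem_iInter₂.mp hyW p ⟨hp, hpd⟩
      have h2 : CohIII.dRank L (-(p : ℤ)) (hV.primeIdealOf ⟨y, hy⟩) = 0 :=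
        Nat.lt_one_iff.mp h1
      exact subsingleton_of_dRank_eq_zero L hfin _ _ h2
    · exact subsingleton_of_isZero_X L _ (hLb _ (by omega)) _
  -- `y₀` lies in the open set
  have hy₀W : hV.primeIdealOf ⟨y₀, hy₀V⟩ ∈ W := by
    refine Set.mem_iInter₂.mpr (fun p hp => ?_)
    change CohIII.dRank L (-(p : ℤ)) (hV.primeIdealOf ⟨y₀, hy₀V⟩) < 1
    rw [← (hfib p y₀ hy₀V).1]
    haveI := h₀ p hp.1
    have : CohIII.fiberRank f F p y₀ = 0 := Module.finrank_zero_of_subsingleton
    omega
  -- transport to `Y`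
  let e : V.toScheme ≅ Spec (CommRingCat.of ↑Γ(Y, V)) := hV.isoSpec
  let W' : (Spec (CommRingCat.of ↑Γ(Y, V))).Opens := ⟨W, hWo⟩
  let U₀ : V.toScheme.Opens := e.hom ⁻¹ᵁ W'
  refine ⟨V.ι ''ᵁ U₀, ?_, ?_⟩
  · refine ⟨⟨y₀, hy₀V⟩, ?_, rfl⟩
    exact hy₀W
  · rintro y ⟨⟨y', hy'V⟩, hy'U, rfl⟩ p hp
    exact hcrit _ hy'V hy'U p hp

/-- **The index of concentration is locally constant.** -/
theorem isLocallyConstant_index [IsProper f] [IsLocallyNoetherian Y] (hF : Coh.IsCoh F)
    (hfl : FlatMod.IsFlatOver f F) (idx : Y → ℕ)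
    (hidx : ∀ y : Y, (∀ j : ℕ, j ≠ idx y → Subsingleton (CohIII.fiberH f F y j)) ∧
      Nontrivial (CohIII.fiberH f F y (idx y))) :
    IsLocallyConstant idx := by
  rw [IsLocallyConstant.iff_exists_open]
  intro y₀
  obtain ⟨U, hy₀U, hU⟩ := exists_open_fibre_vanishing f F hF hfl y₀ {j | j ≠ idx y₀}
    (fun p hp => (hidx y₀).1 p hp)
  refine ⟨U, U.isOpen, hy₀U, fun y hy => ?_⟩
  by_contra hne
  haveI := hU y hy (idx y) hne
  haveI := (hidx y).2
  exact false_of_nontrivial_of_subsingleton (CohIII.fiberH f F y (idx y))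

end geom

end Groth.Agent.R2.H16.CbcConc
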