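import Mathlib
import Groth.Prelude.Def_ega3
import Groth.Agent.S2444
import Groth.Agent.S4490
import Groth.Agent.S2406

/-!
# PROJ:cbc — the length criterion for cohomological flatness (algebraic core of S4505)  (helper16)

Namespace `Groth.Agent.R2.H16.CbcLen`.

`A` Noetherian local, `L` a chain complex of finite flat `A`-modules, `T_p(M) = H_p(L ⊗ M)`.  Then `T_p` is exact
iff for all large `n`: `length T_p(A/m^{n+1}) = length T_p(k) · length (A/m^{n+1})`
(`exact_iff_eventually_length`).
-/

set_option autoImplicit false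
set_option linter.style.haveILetI false
set_option linter.unusedSectionVars false
universe u
open CategoryTheory CategoryTheory.Limits

namespace Groth.Agent.R2.H16.CbcLen

open Groth.Agent.Lib.Helper3 Groth.Agent.S4492 Groth.Agent.S2444 TensorProduct MonoidalCategory

section ker

variable {A : Type u} [CommRing A]

/-- the short complex `ker φ → M → N` -/
noncomputable def kerSC {M N : Type u} [AddCommGroup M] [Module A M] [AddCommGroup N] [Module A N]
    (φ : M →ₗ[A] N) : ShortComplex (ModuleCat.{u} A) :=
  ShortComplex.mk (ModuleCat.ofHom (LinearMap.ker φ).subtype) (ModuleCat.ofHom φ) (by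
    ext x
    exact x.2)

theorem kerSC_shortExact {M N : Type u} [AddCommGroup M] [Module A M] [AddCommGroup N]
    [Module A N] (φ : M →ₗ[A] N) (hφ : Function.Surjective φ) : (kerSC φ).ShortExact := by
  have : Mono (kerSC φ).f :=
    (ModuleCat.mono_iff_injective _).mpr (Submodule.subtype_injective _)
  have : Epi (kerSC φ).g := (ModuleCat.epi_iff_surjective _).mpr hφ
  refine ShortComplex.ShortExact.mk ?_
  rw [ShortComplex.ShortExact.moduleCat_exact_iff_function_exact]
  intro x
  constructor
  · intro hx
    exact ⟨⟨x, hx⟩, rfl⟩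
  · rintro ⟨y, rfl⟩
    exact y.2

end ker

section alg

variable {A : Type u} [CommRing A] [IsLocalRing A]

/-- exact `T_p` multiplies lengths by `length T_p(k)`. -/
theorem length_T_eq {ι : Type} {c : ComplexShape ι}
    (P : HomologicalComplex (ModuleCat.{u} A) c) (hP : ∀ i, Module.Flat A (P.X i)) (p : ι)
    (hm : (CohIII.TFun P p).PreservesMonomorphisms) (he : (CohIII.TFun P p).PreservesEpimorphisms)
    (M : Type u) [AddCommGroup M] [Module A M] (h : IsFiniteLength A M) :
    Module.length A (CohIII.T P p (ModuleCat.of A M)) =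
      Module.length A (CohIII.T P p (ModuleCat.of A (IsLocalRing.ResidueField A))) *
        Module.length A M := by
  induction h with
  | of_subsingleton =>
    rename_i M _ _ _
    have : Subsingleton (CohIII.T P p (ModuleCat.of A M)) := subsingleton_T P p _
    have h0 : Module.length A M = 0 := Module.length_eq_zero
    rw [h0, mul_zero]
    exact Module.length_eq_zero
  | of_simple_quotient hN ih =>
    rename_i M _ _ N hsimple
    have hS := subSC_shortExact N
    have hex := exact_T P hP p (subSC N) hS
    have hmono : Mono (subSC N).f := hS.mono_f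
    have hepi : Epi (subSC N).g := hS.epi_g
    have hinj : Function.Injective ((CohIII.TFun P p).map (subSC N).f).hom :=
      (ModuleCat.mono_iff_injective _).mp (hm.preserves (subSC N).f)
    have hsurj : Function.Surjective ((CohIII.TFun P p).map (subSC N).g).hom :=
      (ModuleCat.epi_iff_surjective _).mp (he.preserves (subSC N).g)
    have hadd := Module.length_eq_add_of_exact _ _ hinj hsurj hex
    obtain ⟨I, hI, ⟨e⟩⟩ := isSimpleModule_iff_quot_maximal.mp hsimple
    have hIm : I = IsLocalRing.maximalIdeal A := IsLocalRing.eq_maximalIdeal hI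
    subst hIm
    have e3 : Module.length A (CohIII.T P p (ModuleCat.of A (M ⧸ N))) =
        Module.length A (CohIII.T P p (ModuleCat.of A (IsLocalRing.ResidueField A))) :=
      LinearEquiv.length_eq ((CohIII.TFun P p).mapIso e.toModuleIso).toLinearEquiv
    have eM : Module.length A M = Module.length A N + 1 := by
      rw [Module.length_eq_add_of_exact N.subtype N.mkQ (Submodule.subtype_injective N)
        (Submodule.mkQ_surjective N) (LinearMap.exact_subtype_mkQ N),
        Module.length_eq_one A (M ⧸ N)]
    calc Module.length A (CohIII.T P p (ModuleCat.of A M))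
        = Module.length A (CohIII.T P p (ModuleCat.of A N)) +
          Module.length A (CohIII.T P p (ModuleCat.of A (M ⧸ N))) := hadd
      _ = Module.length A (CohIII.T P p (ModuleCat.of A (IsLocalRing.ResidueField A))) *
            Module.length A N +
          Module.length A (CohIII.T P p (ModuleCat.of A (IsLocalRing.ResidueField A))) := by
          rw [e3, ih]
      _ = _ := by rw [eM, mul_add, mul_one]

end alg

section main

variable (A : Type u) [CommRing A] [IsLocalRing A]

/-- the projection `A/m^(n+1) → A/m` -/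
noncomputable abbrev φn (n : ℕ) :
    (A ⧸ IsLocalRing.maximalIdeal A ^ (n + 1)) →ₗ[A] (A ⧸ IsLocalRing.maximalIdeal A) :=
  (Ideal.Quotient.factorₐ A (Ideal.pow_le_self (I := IsLocalRing.maximalIdeal A)
    (Nat.succ_ne_zero n))).toLinearMap

theorem φn_surjective (n : ℕ) : Function.Surjective (φn A n) :=
  Ideal.Quotient.factor_surjective (Ideal.pow_le_self (I := IsLocalRing.maximalIdeal A)
    (Nat.succ_ne_zero n))

theorem isFiniteLength_quot_pow [IsNoetherianRing A] (n : ℕ) :
    IsFiniteLength A (A ⧸ IsLocalRing.maximalIdeal A ^ (n + 1)) := by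
  have hmin : IsLocalRing.maximalIdeal A ∈ (IsLocalRing.maximalIdeal A ^ (n + 1)).minimalPrimes := by
    refine ⟨⟨inferInstance, Ideal.pow_le_self (Nat.succ_ne_zero n)⟩, ?_⟩
    rintro q ⟨hq, hle⟩ _
    exact hq.le_of_pow_le hle
  haveI : IsArtinianRing (A ⧸ IsLocalRing.maximalIdeal A ^ (n + 1)) :=
    IsLocalRing.quotient_artinian_of_mem_minimalPrimes_of_isLocalRing _ hmin
  have hA : IsArtinian A (A ⧸ IsLocalRing.maximalIdeal A ^ (n + 1)) :=
    isArtinian_of_surjective_algebraMap (R := A ⧸ IsLocalRing.maximalIdeal A ^ (n + 1))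
      Ideal.Quotient.mk_surjective
  have hN : IsNoetherian A (A ⧸ IsLocalRing.maximalIdeal A ^ (n + 1)) := inferInstance
  exact isFiniteLength_iff_isNoetherian_isArtinian.mpr ⟨hN, hA⟩

/-- `A/m ≃ k` as `A`-modules. -/
noncomputable def quotResEquiv :
    (A ⧸ IsLocalRing.maximalIdeal A) ≃ₗ[A] IsLocalRing.ResidueField A :=
  LinearEquiv.refl A _

variable {A}

/-- `T_p(k)` has finite length. -/
theorem length_T_residue_ne_top {ι : Type} {c : ComplexShape ι}
    (P : HomologicalComplex (ModuleCat.{u} A) c) (p : ι) [Module.Finite A (P.X p)] :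
    Module.length A (CohIII.T P p (ModuleCat.of A (IsLocalRing.ResidueField A))) ≠ ⊤ := by
  have hfin := finite_opcycles P p
  have hinj : Function.Injective (jT P p (ModuleCat.of A (IsLocalRing.ResidueField A))).hom :=
    (ModuleCat.mono_iff_injective _).mp inferInstance
  have hle := Module.length_le_of_injective _ hinj
  have e2 : (P.opcycles p ⊗ ModuleCat.of A (IsLocalRing.ResidueField A) : ModuleCat.{u} A) ≃ₗ[A]
      (IsLocalRing.ResidueField A ⊗[A] (P.opcycles p)) :=
    TensorProduct.comm A (P.opcycles p) (IsLocalRing.ResidueField A)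
  have h3 := length_residue_tensor (A := A) (P.opcycles p)
  have h4 : Module.length A (P.opcycles p ⊗ ModuleCat.of A (IsLocalRing.ResidueField A) :
      ModuleCat.{u} A) ≠ ⊤ := by
    rw [LinearEquiv.length_eq e2, h3]
    exact ENat.natCast_ne_top _
  exact ne_top_of_le_ne_top h4 hle

variable [IsNoetherianRing A]

/-- one step: the length formula at level `n` makes `T_p(A/m^{n+1}) → T_p(k)` and
`T_{p+1}(A/m^{n+1}) → T_{p+1}(k)` surjective. -/
theorem surjective_of_length_eq (P : ChainComplex (ModuleCat.{u} A) ℤ)
    (hP : ∀ i, Module.Finite A (P.X i) ∧ Module.Flat A (P.X i)) (p : ℤ) (n : ℕ)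
    (h : Module.length A (CohIII.T P p
        (ModuleCat.of A (A ⧸ IsLocalRing.maximalIdeal A ^ (n + 1)))) =
      Module.length A (CohIII.T P p (ModuleCat.of A (IsLocalRing.ResidueField A))) *
        Module.length A (A ⧸ IsLocalRing.maximalIdeal A ^ (n + 1))) :
    Function.Surjective ((CohIII.TFun P p).map (ModuleCat.ofHom (φn A n))).hom ∧
      Function.Surjective ((CohIII.TFun P (p + 1)).map (ModuleCat.ofHom (φn A n))).hom := by
  have hflat : ∀ i, Module.Flat A (P.X i) := fun i => (hP i).2
  haveI := (hP p).1
  have hd := length_T_residue_ne_top P p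
  have hS := kerSC_shortExact (φn A n) (φn_surjective A n)
  have hex := exact_T P hflat p (kerSC (φn A n)) hS
  have hMfin := isFiniteLength_quot_pow A n
  have hMtop : Module.length A (A ⧸ IsLocalRing.maximalIdeal A ^ (n + 1)) ≠ ⊤ :=
    Module.length_ne_top_iff.mpr hMfin
  have hKle : Module.length A (LinearMap.ker (φn A n)) ≤
      Module.length A (A ⧸ IsLocalRing.maximalIdeal A ^ (n + 1)) :=
    Module.length_le_of_injective _ (Submodule.subtype_injective _)
  have hKtop : Module.length A (LinearMap.ker (φn A n)) ≠ ⊤ := ne_top_of_le_ne_top hMtop hKle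
  have hK := length_T_le P hflat p (LinearMap.ker (φn A n)) (Module.length_ne_top_iff.mp hKtop)
  have hle : Module.length A (CohIII.T P p
        (ModuleCat.of A (A ⧸ IsLocalRing.maximalIdeal A ^ (n + 1)))) ≤
      Module.length A (CohIII.T P p (ModuleCat.of A (LinearMap.ker (φn A n)))) +
        Module.length A (CohIII.T P p (ModuleCat.of A (A ⧸ IsLocalRing.maximalIdeal A))) :=
    length_le_add _ _ hex
  have e3 : Module.length A (CohIII.T P p (ModuleCat.of A (A ⧸ IsLocalRing.maximalIdeal A))) =
      Module.length A (CohIII.T P p (ModuleCat.of A (IsLocalRing.ResidueField A))) :=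
    LinearEquiv.length_eq ((CohIII.TFun P p).mapIso (quotResEquiv A).toModuleIso).toLinearEquiv
  have eM : Module.length A (A ⧸ IsLocalRing.maximalIdeal A ^ (n + 1)) =
      Module.length A (LinearMap.ker (φn A n)) + 1 := by
    rw [Module.length_eq_add_of_exact (LinearMap.ker (φn A n)).subtype (φn A n)
      (Submodule.subtype_injective _) (φn_surjective A n)
      (fun x => ⟨fun hx => ⟨⟨x, hx⟩, rfl⟩, by rintro ⟨y, rfl⟩; exact y.2⟩)]
    congr 1
    have hs : IsSimpleModule A (A ⧸ IsLocalRing.maximalIdeal A) :=
      isSimpleModule_iff_quot_maximal.mpr ⟨_, inferInstance, ⟨LinearEquiv.refl _ _⟩⟩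
    exact Module.length_eq_one _ _
  have hT1 : Module.length A (CohIII.T P p (ModuleCat.of A (LinearMap.ker (φn A n)))) ≠ ⊤ := by
    refine ne_top_of_le_ne_top ?_ hK
    exact WithTop.mul_ne_top hd hKtop
  have hT3 : Module.length A (CohIII.T P p (ModuleCat.of A (A ⧸ IsLocalRing.maximalIdeal A))) ≠ ⊤ := by
    rw [e3]
    exact hd
  have heq : Module.length A (CohIII.T P p
        (ModuleCat.of A (A ⧸ IsLocalRing.maximalIdeal A ^ (n + 1)))) =
      Module.length A (CohIII.T P p (ModuleCat.of A (LinearMap.ker (φn A n)))) +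
        Module.length A (CohIII.T P p (ModuleCat.of A (A ⧸ IsLocalRing.maximalIdeal A))) := by
    apply le_antisymm hle
    rw [h, eM, mul_add, mul_one, e3]
    gcongr
  obtain ⟨hinj, hsurj⟩ := (length_eq_add_iff _ _ hex hT1 hT3).mp heq
  refine ⟨hsurj, ?_⟩
  -- the long exact sequence
  have hrel : (ComplexShape.down ℤ).Rel (p + 1) p := by simp
  have hT := tensorSC_shortExact P hflat (kerSC (φn A n)) hS
  have e1 := hT.homology_exact₁ (p + 1) p hrel
  have e3' := hT.homology_exact₃ (p + 1) p hrel
  have hmono : Mono ((CohIII.TFun P p).map (kerSC (φn A n)).f) :=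
    (ModuleCat.mono_iff_injective _).mpr hinj
  have hδ : hT.δ (p + 1) p hrel = 0 := (e1.mono_g_iff).mp hmono
  have hepi : Epi ((CohIII.TFun P (p + 1)).map (kerSC (φn A n)).g) := (e3'.epi_f_iff).mpr hδ
  exact (ModuleCat.epi_iff_surjective _).mp hepi

/-- **The length criterion** (algebraic core of S4505). -/
theorem exact_iff_eventually_length (P : ChainComplex (ModuleCat.{u} A) ℤ)
    (hP : ∀ i, Module.Finite A (P.X i) ∧ Module.Flat A (P.X i)) (p : ℤ) :
    ((CohIII.TFun P p).PreservesMonomorphisms ∧ (CohIII.TFun P p).PreservesEpimorphisms) ↔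
      ∃ n₀ : ℕ, ∀ n : ℕ, n₀ ≤ n →
        Module.length A (CohIII.T P p
            (ModuleCat.of A (A ⧸ IsLocalRing.maximalIdeal A ^ (n + 1)))) =
          Module.length A (CohIII.T P p (ModuleCat.of A (IsLocalRing.ResidueField A))) *
            Module.length A (A ⧸ IsLocalRing.maximalIdeal A ^ (n + 1)) := by
  have hflat : ∀ i, Module.Flat A (P.X i) := fun i => (hP i).2
  constructor
  · rintro ⟨hm, he⟩
    exact ⟨0, fun n _ => length_T_eq P hflat p hm he _ (isFiniteLength_quot_pow A n)⟩
  · rintro ⟨n₀, h⟩
    have h1 : (CohIII.TFun P p).PreservesEpimorphisms :=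
      (Groth.Agent.S4490.result P hP p).2.mpr
        ⟨n₀, fun n hn => (surjective_of_length_eq P hP p n (h n hn)).1⟩
    have h2 : (CohIII.TFun P (p + 1)).PreservesEpimorphisms :=
      (Groth.Agent.S4490.result P hP (p + 1)).2.mpr
        ⟨n₀, fun n hn => (surjective_of_length_eq P hP p n (h n hn)).2⟩
    exact ⟨(Groth.Agent.S2406.result P hflat (p + 1) p rfl).mp h2, h1⟩

end main

end Groth.Agent.R2.H16.CbcLen
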