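import Mathlib
import Groth.Agent.R2.H16CbcLen
import Groth.Agent.R2.H16CbcFinal
import Groth.Agent.R2.H16CbcFinal2
import Groth.Agent.R2.H51CbcG1
import Groth.Agent.R2.H11CbcFIAlg

/-!
# PROJ:cbc consumer: S4505 (length criterion for cohomological flatness)  (helper16)

Namespace `Groth.Agent.R2.H16.CbcLen`.

* `linEquivOfBridge`: the bridge isomorphism `T^p ≅ TFun L i ⋙ forget₂` is `A`-linear for the frozen module
  structure `Coh.moduleOver` on `H^p(X, F ⊗_A M)`;
* `s4505_of`: S4505 from the finiteness theorem.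
-/

set_option autoImplicit false
set_option linter.style.haveILetI false
set_option linter.unusedSectionVars false
universe u
open CategoryTheory CategoryTheory.Limits AlgebraicGeometry Opposite

namespace Groth.Agent.R2.H16.CbcLen

section abstract

variable {A : Type u} [CommRing A] (L : ChainComplex (ModuleCat.{u} A) ℤ) (i : ℤ)
  (T : ModuleCat.{u} A ⥤ AddCommGrpCat.{u})
  (e : T ≅ CohIII.TFun L i ⋙ forget₂ (ModuleCat.{u} A) AddCommGrpCat.{u})

theorem abstract_map_smul (M : ModuleCat.{u} A) (a : A) (x : T.obj M) :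
    (show CohIII.T L i M from (e.hom.app M).hom ((T.map (a • 𝟙 M)).hom x)) =
      a • (show CohIII.T L i M from (e.hom.app M).hom x) := by
  have hn := ConcreteCategory.congr_hom (e.hom.naturality (a • 𝟙 M)) x
  have hn' : (e.hom.app M).hom ((T.map (a • 𝟙 M)).hom x) =
      ((CohIII.TFun L i).map (a • 𝟙 M)).hom ((e.hom.app M).hom x) := hn
  rw [Groth.Agent.R2.H11.CbcFIAlg.TFun_map_smul_id] at hn'
  exact hn'

end abstract

section geom

variable (A : Type u) [CommRing A] {X : Scheme.{u}} [X.Over (Spec (CommRingCat.of A))]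
  (F : X.Modules) (L : ChainComplex (ModuleCat.{u} A) ℤ) (i : ℤ) (p : ℕ)
  (e : CohIII.tensorAFunctor A F ⋙ CohIII.HAb X p ≅
    CohIII.TFun L i ⋙ forget₂ (ModuleCat.{u} A) AddCommGrpCat.{u})

/-- the frozen `A`-module structure on `H^p(X, F ⊗_A M)` is the functorial one. -/
theorem smul_eq_map (M : ModuleCat.{u} A) (a : A)
    (x : Coh.HH X ((CohIII.tensorAFunctor A F).obj M) p) :
    a • x = ((CohIII.tensorAFunctor A F ⋙ CohIII.HAb X p).map (a • 𝟙 M)).hom x := by
  show a • x = ((CohIII.HAb X p).map ((CohIII.tensorAFunctor A F).map (a • 𝟙 M))).hom x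
  rw [Groth.Agent.R2.H51.CbcG1.g1 A F M a]
  rfl

/-- the bridge isomorphism commutes with the scalar action. -/
theorem bridge_map_smul (M : ModuleCat.{u} A) (a : A)
    (x : Coh.HH X ((CohIII.tensorAFunctor A F).obj M) p) :
    (show CohIII.T L i M from (e.hom.app M).hom (a • x)) =
      a • (show CohIII.T L i M from (e.hom.app M).hom x) :=
  (congrArg (fun z => (show CohIII.T L i M from (e.hom.app M).hom z))
    (smul_eq_map A F p M a x)).trans (abstract_map_smul L i _ e M a x)

/-- the bridge isomorphism as an `A`-linear equivalence. -/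
noncomputable def linEquivOfBridge (M : ModuleCat.{u} A) :
    Coh.HH X ((CohIII.tensorAFunctor A F).obj M) p ≃ₗ[A] CohIII.T L i M where
  toFun x := (e.hom.app M).hom x
  invFun y := (e.inv.app M).hom y
  map_add' x y := map_add _ x y
  map_smul' a x := bridge_map_smul A F L i p e M a x
  left_inv x := ConcreteCategory.congr_hom (e.hom_inv_id_app M) x
  right_inv y := ConcreteCategory.congr_hom (e.inv_hom_id_app M) y

end geom

section main

open Groth.Agent.R2.H16.CbcFinal Groth.Agent.R2.H16.CbcConsumers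

variable (A : Type u) [CommRing A] [IsNoetherianRing A] [IsLocalRing A]
  (X : Scheme.{u}) [X.Over (Spec (CommRingCat.of A))] [IsProper (X ↘ Spec (CommRingCat.of A))]
  (F : X.Modules)

/-- **S4505** from the finiteness theorem. -/
theorem s4505_of (hF : Coh.IsCoh F)
    (hfl : FlatMod.IsFlatOver (X ↘ Spec (CommRingCat.of A)) F)
    (hfinF : ∀ n : ℕ, Module.Finite A (Coh.HH X F n)) (p : ℕ) :
    ((CohIII.tensorAFunctor A F ⋙ CohIII.HAb X p).PreservesMonomorphisms ∧
        (CohIII.tensorAFunctor A F ⋙ CohIII.HAb X p).PreservesEpimorphisms) ↔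
      ∃ n₀ : ℕ, ∀ n : ℕ, n₀ ≤ n →
        Module.length A (Coh.HH X ((CohIII.tensorAFunctor A F).obj
            (ModuleCat.of A (A ⧸ IsLocalRing.maximalIdeal A ^ (n + 1)))) p) =
          Module.length A (Coh.HH X ((CohIII.tensorAFunctor A F).obj
              (ModuleCat.of A (IsLocalRing.ResidueField A))) p) *
            Module.length A (A ⧸ IsLocalRing.maximalIdeal A ^ (n + 1)) := by
  obtain ⟨L, hL, -, hiso⟩ := exists_bridge_proper A X F hF hfl hfinF
  have hP : ∀ i, Module.Finite A (L.X i) ∧ Module.Flat A (L.X i) := fun i => by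
    haveI := (hL i).2
    exact ⟨(hL i).1, inferInstance⟩
  obtain ⟨e⟩ := hiso p
  rw [preservesMono_iff _ L _ e, preservesEpi_iff _ L _ e,
    exact_iff_eventually_length L hP (-(p : ℤ))]
  have hlen : ∀ M : ModuleCat.{u} A,
      Module.length A (Coh.HH X ((CohIII.tensorAFunctor A F).obj M) p) =
        Module.length A (CohIII.T L (-(p : ℤ)) M) := fun M =>
    LinearEquiv.length_eq (linEquivOfBridge A F L (-(p : ℤ)) p e M)
  constructor
  · rintro ⟨n₀, h⟩
    refine ⟨n₀, fun n hn => ?_⟩
    rw [hlen, hlen]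
    exact h n hn
  · rintro ⟨n₀, h⟩
    refine ⟨n₀, fun n hn => ?_⟩
    rw [← hlen, ← hlen]
    exact h n hn

end main

end Groth.Agent.R2.H16.CbcLen
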