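import Mathlib
import Groth.Agent.R2.H8CbcG0
import Groth.Agent.R2.H8CbcG9
import Groth.Agent.R2.H51CbcG1

/-!
# PROJ:cbc — `F ⊗_A (A/J) ≅ F/JF` (helper16)

Namespace `Groth.Agent.R2.H16.CbcModPow`.

For `X` over `Spec A`, an `O_X`-module `F` and an ideal `J` of `A`: the value of `CohIII.tensorAFunctor A F` at `A/J` is
the cokernel of `Formal.smulFamily J F : ∐_{a ∈ J} F ⟶ F`, compatibly with the projections from
`F ≅ (tensorAFunctor A F).obj A` (`exists_quotIso`); in particular for `J = I^n` this is `Formal.modPow I n F`.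
-/

set_option autoImplicit false
set_option linter.style.haveILetI false
set_option linter.unusedSectionVars false
universe u
open CategoryTheory CategoryTheory.Limits AlgebraicGeometry Opposite TopologicalSpace

namespace Groth.Agent.R2.H16.CbcModPow

variable (A : Type u) [CommRing A] {X : Scheme.{u}} [X.Over (Spec (CommRingCat.of A))]

/-- multiplication by `a : A` is natural. -/
theorem smulMod_comp {M N : X.Modules} (φ : M ⟶ N) (a : A) :
    Formal.smulMod A M a ≫ φ = φ ≫ Formal.smulMod A N a := by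
  ext U m
  exact Scheme.Modules.Hom.app_smul φ _ m

section quot

variable (J : Ideal A)

/-- `∐_{a ∈ J} A ⟶ A`, multiplication by `a` on the `a`-th summand. -/
noncomputable def sJ : (∐ fun _ : J => ModuleCat.of A A) ⟶ ModuleCat.of A A :=
  Sigma.desc fun a => (a : A) • 𝟙 (ModuleCat.of A A)

/-- the projection `A ⟶ A/J`. -/
noncomputable def qJ : ModuleCat.of A A ⟶ ModuleCat.of A (A ⧸ J) :=
  ModuleCat.ofHom (Submodule.mkQ J)

theorem ι_sJ (a : J) : Sigma.ι (fun _ : J => ModuleCat.of A A) a ≫ sJ A J =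
    (a : A) • 𝟙 (ModuleCat.of A A) := by
  simp [sJ]

theorem sJ_qJ : sJ A J ≫ qJ A J = 0 := by
  apply Sigma.hom_ext
  intro a
  rw [← Category.assoc, ι_sJ, comp_zero]
  refine ModuleCat.hom_ext (LinearMap.ext fun x => ?_)
  change Submodule.mkQ J ((a : A) • (show A from x)) = 0
  rw [Submodule.mkQ_apply, Submodule.Quotient.mk_eq_zero]
  exact J.mul_mem_right _ a.2

theorem le_ker_of_sJ_comp {Z : ModuleCat.{u} A} (g : ModuleCat.of A A ⟶ Z) (hg : sJ A J ≫ g = 0) :
    J ≤ LinearMap.ker g.hom := by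
  intro a ha
  rw [LinearMap.mem_ker]
  have h1 : (Sigma.ι (fun _ : J => ModuleCat.of A A) ⟨a, ha⟩ ≫ sJ A J) ≫ g = 0 := by
    rw [Category.assoc, hg, comp_zero]
  rw [ι_sJ] at h1
  have h2 := congrArg (fun φ => φ.hom (1 : A)) h1
  change g.hom (a • (1 : A)) = 0 at h2
  rwa [smul_eq_mul, mul_one] at h2

/-- `A/J` is the cokernel of `∐_{a ∈ J} A ⟶ A`. -/
noncomputable def isColimitQJ : IsColimit (CokernelCofork.ofπ (qJ A J) (sJ_qJ A J)) :=
  CokernelCofork.IsColimit.ofπ _ _
    (fun g hg => ModuleCat.ofHom (Submodule.liftQ J g.hom (le_ker_of_sJ_comp A J g hg)))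
    (fun g hg => ModuleCat.hom_ext (LinearMap.ext fun x => rfl))
    (fun g hg m hm => by
      refine ModuleCat.hom_ext (LinearMap.ext fun x => ?_)
      obtain ⟨x, rfl⟩ := Submodule.mkQ_surjective J x
      have := congrArg (fun φ => φ.hom x) hm
      exact this)

end quot

section T

open Groth.Agent.R2.H8.CbcG0

variable (F : X.Modules) (J : Ideal A)

/-- `F ≅ F ⊗_A A`. -/
noncomputable abbrev e9 : (CohIII.tensorAFunctor A F).obj (ModuleCat.of A A) ≅ F :=
  Groth.Agent.R2.H8.CbcG9.tensorAFunctorSelfIso A F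

/-- `T(A/J)` is the cokernel of `T(∐ A ⟶ A)`. -/
noncomputable def isColimitTQ :
    IsColimit (CokernelCofork.ofπ ((CohIII.tensorAFunctor A F).map (qJ A J))
      (by rw [← Functor.map_comp, sJ_qJ, Functor.map_zero] :
        (CohIII.tensorAFunctor A F).map (sJ A J) ≫ (CohIII.tensorAFunctor A F).map (qJ A J) = 0)) :=
  isColimitCoforkMapOfIsColimit' (CohIII.tensorAFunctor A F) (sJ_qJ A J) (isColimitQJ A J)

/-- morphisms out of `T(∐ A)` are determined on the summands. -/
theorem T_sigma_hom_ext {Z : X.Modules}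
    (g h : (CohIII.tensorAFunctor A F).obj (∐ fun _ : J => ModuleCat.of A A) ⟶ Z)
    (w : ∀ a : J, (CohIII.tensorAFunctor A F).map (Sigma.ι (fun _ : J => ModuleCat.of A A) a) ≫ g =
      (CohIII.tensorAFunctor A F).map (Sigma.ι (fun _ : J => ModuleCat.of A A) a) ≫ h) : g = h :=
  (isColimitOfPreserves (CohIII.tensorAFunctor A F)
    (coproductIsCoproduct (fun _ : J => ModuleCat.of A A))).hom_ext (fun ⟨a⟩ => w a)

theorem T_ι_sJ (a : J) :
    (CohIII.tensorAFunctor A F).map (Sigma.ι (fun _ : J => ModuleCat.of A A) a) ≫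
      (CohIII.tensorAFunctor A F).map (sJ A J) =
    Formal.smulMod A ((CohIII.tensorAFunctor A F).obj (ModuleCat.of A A)) (a : A) := by
  rw [← Functor.map_comp, ι_sJ]
  exact Groth.Agent.R2.H51.CbcG1.g1 A F (ModuleCat.of A A) (a : A)

/-- a morphism `g : F ⟶ Z` killing `J F` kills `T(∐ A ⟶ A)` after `e9`. -/
theorem T_sJ_comp {Z : X.Modules} (g : F ⟶ Z) (hg : Formal.smulFamily J F ≫ g = 0) :
    (CohIII.tensorAFunctor A F).map (sJ A J) ≫ (e9 A F).hom ≫ g = 0 := by
  apply T_sigma_hom_ext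
  intro a
  rw [← Category.assoc, T_ι_sJ, comp_zero, ← Category.assoc, smulMod_comp, Category.assoc]
  have h1 : Formal.smulMod A F (a : A) ≫ g = 0 := by
    have h2 : Sigma.ι (fun _ : J => F) a ≫ Formal.smulFamily J F = Formal.smulMod A F (a : A) := by
      simp [Formal.smulFamily]
    rw [← h2, Category.assoc, hg, comp_zero]
  rw [h1, comp_zero]

/-- the projection `F ⟶ T(A/J)`. -/
noncomputable def πJ : F ⟶ (CohIII.tensorAFunctor A F).obj (ModuleCat.of A (A ⧸ J)) :=
  (e9 A F).inv ≫ (CohIII.tensorAFunctor A F).map (qJ A J)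

theorem smulFamily_πJ : Formal.smulFamily J F ≫ πJ A F J = 0 := by
  apply Sigma.hom_ext
  intro a
  have h2 : Sigma.ι (fun _ : J => F) a ≫ Formal.smulFamily J F = Formal.smulMod A F (a : A) := by
    simp [Formal.smulFamily]
  rw [← Category.assoc, h2, comp_zero]
  unfold πJ
  rw [← Category.assoc, smulMod_comp, Category.assoc, ← T_ι_sJ A F J a, Category.assoc,
    ← Functor.map_comp, sJ_qJ, Functor.map_zero, comp_zero, comp_zero]

/-- `T(A/J)` is the cokernel of `J F ⟶ F`. -/
noncomputable def isColimitπJ :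
    IsColimit (CokernelCofork.ofπ (πJ A F J) (smulFamily_πJ A F J)) :=
  CokernelCofork.IsColimit.ofπ _ _
    (fun g hg => (isColimitTQ A F J).desc (CokernelCofork.ofπ ((e9 A F).hom ≫ g) (T_sJ_comp A F J g hg)))
    (fun g hg => by
      have h := (isColimitTQ A F J).fac (CokernelCofork.ofπ ((e9 A F).hom ≫ g) (T_sJ_comp A F J g hg))
        WalkingParallelPair.one
      change (CohIII.tensorAFunctor A F).map (qJ A J) ≫ _ = (e9 A F).hom ≫ g at h
      unfold πJ
      rw [Category.assoc, h, Iso.inv_hom_id_assoc])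
    (fun g hg m hm => by
      apply Cofork.IsColimit.hom_ext (isColimitTQ A F J)
      have h := (isColimitTQ A F J).fac
        (CokernelCofork.ofπ ((e9 A F).hom ≫ g) (T_sJ_comp A F J g hg)) WalkingParallelPair.one
      change (CohIII.tensorAFunctor A F).map (qJ A J) ≫ _ = (e9 A F).hom ≫ g at h
      change (CohIII.tensorAFunctor A F).map (qJ A J) ≫ m = (CohIII.tensorAFunctor A F).map (qJ A J) ≫ _
      rw [h, ← hm]
      unfold πJ
      rw [Category.assoc, Iso.hom_inv_id_assoc])

/-- **`F ⊗_A (A/J) ≅ F/JF`**, compatibly with the projections. -/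
noncomputable def quotIso :
    (CohIII.tensorAFunctor A F).obj (ModuleCat.of A (A ⧸ J)) ≅ cokernel (Formal.smulFamily J F) :=
  (isColimitπJ A F J).coconePointUniqueUpToIso
    (colimit.isColimit (parallelPair (Formal.smulFamily J F) 0))

theorem πJ_quotIso_hom : πJ A F J ≫ (quotIso A F J).hom = cokernel.π (Formal.smulFamily J F) :=
  (isColimitπJ A F J).comp_coconePointUniqueUpToIso_hom
    (colimit.isColimit (parallelPair (Formal.smulFamily J F) 0)) WalkingParallelPair.one

theorem map_qJ_quotIso_hom :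
    (CohIII.tensorAFunctor A F).map (qJ A J) ≫ (quotIso A F J).hom =
      (e9 A F).hom ≫ cokernel.π (Formal.smulFamily J F) := by
  rw [← πJ_quotIso_hom A F J]
  unfold πJ
  rw [Category.assoc, Iso.hom_inv_id_assoc]

end T

end Groth.Agent.R2.H16.CbcModPow
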