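import Mathlib
import Groth.Agent.R2.H16CbcLen2
import Groth.Agent.R2.H16CbcFIFib
import Groth.Agent.R2.H16CbcFIGlob
import Groth.Agent.R2.H16CbcModPow
import Groth.Agent.R2.H11CbcFinal
import Groth.Agent.S2406
import Groth.Agent.S2407
import Groth.Agent.S4496
import Groth.Agent.S2444
import Groth.Agent.S0458

/-!
# PROJ:cbc consumer: fibres of small dimension (S19060)  (helper16)

Namespace `Groth.Agent.R2.H16.CbcCurve`.

* `isZero_T_of_fibres`: `P` bounded below, finite flat terms over a Noetherian ring; if `T_i(A/m) = 0` for all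
  maximal `m` and all `i ≤ i₀` then `T_i = 0` for all `i ≤ i₀`.
* `flat_homology_zero_of`: if moreover `T_i = 0` for `i > 0`, `i₀ = -2` and `H_{-1}(P)` is flat then `H_0(P)` is flat.
* `s19060_of`: S19060 from the finiteness theorem.
-/

set_option autoImplicit false
set_option linter.style.haveILetI false
set_option linter.unusedSectionVars false
universe u
open CategoryTheory CategoryTheory.Limits AlgebraicGeometry Opposite MonoidalCategory TensorProduct

namespace Groth.Agent.R2.H16.CbcCurve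

section nak

variable {A : Type u} [CommRing A]

/-- a finite module all of whose fibres at maximal ideals vanish is zero. -/
theorem subsingleton_of_forall_maximal (N : Type u) [AddCommGroup N] [Module A N]
    [Module.Finite A N]
    (h : ∀ m : Ideal A, m.IsMaximal → Subsingleton (N ⊗[A] (A ⧸ m))) : Subsingleton N := by
  have hann : Module.annihilator A N = ⊤ := by
    by_contra hne
    obtain ⟨m, hm, hle⟩ := Ideal.exists_le_maximal _ hne
    haveI := h m hm
    have h1 : Subsingleton (N ⧸ (m • (⊤ : Submodule A N))) :=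
      ((TensorProduct.comm A N (A ⧸ m)).trans
        (TensorProduct.quotTensorEquivQuotSMul N m)).symm.injective.subsingleton
    have h2 : m • (⊤ : Submodule A N) = ⊤ := by
      rwa [Submodule.Quotient.subsingleton_iff] at h1
    obtain ⟨r, hr, hr0⟩ := Submodule.exists_sub_one_mem_and_smul_eq_zero_of_fg_of_le_smul m
      (⊤ : Submodule A N) Module.Finite.fg_top (le_of_eq h2.symm)
    have hr' : r ∈ Module.annihilator A N := by
      rw [Module.mem_annihilator]
      intro n
      exact hr0 n Submodule.mem_top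
    have h3 : r ∈ m := hle hr'
    have h4 : (1 : A) ∈ m := by
      have := m.sub_mem h3 hr
      simpa using this
    exact hm.ne_top ((Ideal.eq_top_iff_one m).2 h4)
  exact (Module.annihilator_eq_top_iff (R := A) (M := N)).1 hann

end nak

section alg

open Groth.Agent.Lib.Helper3 Groth.Agent.S2444

variable {A : Type u} [CommRing A] [IsNoetherianRing A]
  (P : ChainComplex (ModuleCat.{u} A) ℤ)
  (hP : ∀ i, Module.Finite A (P.X i) ∧ Module.Flat A (P.X i))

theorem isZero_T_of_isZero_X (i : ℤ) (h : IsZero (P.X i)) (M : ModuleCat.{u} A) :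
    IsZero (CohIII.T P i M) := by
  have h1 : IsZero ((CohIII.tensorObj P M).X i) := by
    have : IsZero ((tensorRight M).obj (P.X i)) := Functor.map_isZero (tensorRight M) h
    exact this
  exact ShortComplex.isZero_homology_of_isZero_X₂ _ h1

theorem preservesMono_of_isZero (i : ℤ) (h : ∀ M : ModuleCat.{u} A, IsZero (CohIII.T P i M)) :
    (CohIII.TFun P i).PreservesMonomorphisms :=
  ⟨fun {M _} _ _ => (h M).mono _⟩

theorem preservesEpi_of_isZero (i : ℤ) (h : ∀ M : ModuleCat.{u} A, IsZero (CohIII.T P i M)) :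
    (CohIII.TFun P i).PreservesEpimorphisms :=
  ⟨fun {_ N} _ _ => (h N).epi _⟩

/-- the module `N` of an isomorphism `T_i ≅ N ⊗ -` is `T_i(A)`. -/
noncomputable def unitEquiv (i : ℤ) (N : ModuleCat.{u} A) (α : CohIII.TFun P i ≅ tensorLeft N) :
    CohIII.T P i (ModuleCat.of A A) ≃ₗ[A] N :=
  (α.app (ModuleCat.of A A) ≪≫ ρ_ N).toLinearEquiv

include hP in
/-- one step of the induction. -/
theorem isZero_T_step (i : ℤ) (hprev : ∀ M : ModuleCat.{u} A, IsZero (CohIII.T P (i - 1) M))
    (hfib : ∀ m : Ideal A, m.IsMaximal → IsZero (CohIII.T P i (ModuleCat.of A (A ⧸ m))))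
    (M : ModuleCat.{u} A) : IsZero (CohIII.T P i M) := by
  have hflat : ∀ j, Module.Flat A (P.X j) := fun j => (hP j).2
  have h1 : (CohIII.TFun P i).PreservesEpimorphisms :=
    (Groth.Agent.S2406.result P hflat i (i - 1) (by ring)).2 (preservesMono_of_isZero P (i - 1) hprev)
  obtain ⟨N, ⟨α⟩⟩ := (Groth.Agent.S2407.result P hflat i).1 h1
  haveI := (hP i).1
  haveI hfinA : Module.Finite A (ModuleCat.of A A) := inferInstanceAs (Module.Finite A A)
  haveI hfinT : Module.Finite A (CohIII.T P i (ModuleCat.of A A)) := finite_T P i (ModuleCat.of A A)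
  haveI hfinN : Module.Finite A N := Module.Finite.equiv (unitEquiv P i N α)
  haveI hN : Subsingleton N := by
    apply subsingleton_of_forall_maximal (A := A)
    intro m hm
    have hz : IsZero ((tensorLeft N).obj (ModuleCat.of A (A ⧸ m))) :=
      (hfib m hm).of_iso (α.app (ModuleCat.of A (A ⧸ m))).symm
    exact ModuleCat.subsingleton_of_isZero hz
  have hz : IsZero ((tensorLeft N).obj M) := by
    haveI : Subsingleton (N ⊗[A] M) := inferInstance
    exact ModuleCat.isZero_of_subsingleton (ModuleCat.of A (N ⊗[A] M))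
  exact hz.of_iso (α.app M)

include hP in
/-- vanishing on the fibres at maximal ideals in all degrees `≤ i₀` gives vanishing of `T_i`, `i ≤ i₀`. -/
theorem isZero_T_of_fibres (d : ℕ) (hd : ∀ i : ℤ, i < -(d : ℤ) → IsZero (P.X i)) (i₀ : ℤ)
    (hfib : ∀ i : ℤ, i ≤ i₀ → ∀ m : Ideal A, m.IsMaximal →
      IsZero (CohIII.T P i (ModuleCat.of A (A ⧸ m)))) :
    ∀ i : ℤ, i ≤ i₀ → ∀ M : ModuleCat.{u} A, IsZero (CohIII.T P i M) := by
  have key : ∀ k : ℕ, ∀ i : ℤ, i + d < k → i ≤ i₀ → ∀ M : ModuleCat.{u} A,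
      IsZero (CohIII.T P i M) := by
    intro k
    induction k with
    | zero =>
      intro i hi _ M
      exact isZero_T_of_isZero_X P i (hd i (by push_cast at hi; omega)) M
    | succ k ih =>
      intro i hi hi0 M
      by_cases hlt : i + d < k
      · exact ih i hlt hi0 M
      · exact isZero_T_step P hP i (fun M' => ih (i - 1) (by push_cast at hi; omega) (by omega) M')
          (hfib i hi0) M
  intro i hi M
  exact key (i + d + 1).toNat i (by omega) hi M

include hP in
/-- the curve case: fibres without cohomology in degrees `≥ 2`, `H_{-1}` flat ⇒ `H_0` flat. -/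
theorem flat_homology_zero_of (d : ℕ) (hd : ∀ i : ℤ, i < -(d : ℤ) → IsZero (P.X i))
    (hpos : ∀ (i : ℤ) (M : ModuleCat.{u} A), 0 < i → IsZero (CohIII.T P i M))
    (hfib : ∀ i : ℤ, i ≤ -2 → ∀ m : Ideal A, m.IsMaximal →
      IsZero (CohIII.T P i (ModuleCat.of A (A ⧸ m))))
    (h1 : Module.Flat A (P.homology (-1))) : Module.Flat A (P.homology 0) := by
  have hflat : ∀ j, Module.Flat A (P.X j) := fun j => (hP j).2
  have hz := isZero_T_of_fibres P hP d hd (-2) hfib
  -- `T_{-1}` is right exact
  have e1 : (CohIII.TFun P (-1)).PreservesEpimorphisms :=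
    (Groth.Agent.S2406.result P hflat (-1) (-2) (by ring)).2
      (preservesMono_of_isZero P (-2) (hz (-2) le_rfl))
  obtain ⟨N, ⟨α⟩⟩ := (Groth.Agent.S2407.result P hflat (-1)).1 e1
  have hNflat : Module.Flat A N := by
    haveI : Module.Flat A (CohIII.T P (-1) (ModuleCat.of A A)) :=
      (flat_T_unit_iff P (-1)).2 h1
    exact Module.Flat.of_linearEquiv (unitEquiv P (-1) N α).symm
  -- `T_{-1}` is exact
  have e2 : (CohIII.TFun P (-1)).PreservesMonomorphisms :=
    ((Groth.Agent.S4496.result P hflat (-1)).2 ⟨N, hNflat, ⟨α⟩⟩).1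
  -- `T_0` is exact
  have e3 : (CohIII.TFun P 0).PreservesEpimorphisms :=
    (Groth.Agent.S2406.result P hflat 0 (-1) (by ring)).2 e2
  have e4 : (CohIII.TFun P 0).PreservesMonomorphisms :=
    (Groth.Agent.S2406.result P hflat 1 0 (by ring)).1
      (preservesEpi_of_isZero P 1 (fun M => hpos 1 M one_pos))
  obtain ⟨N₀, hN₀, ⟨α₀⟩⟩ := (Groth.Agent.S4496.result P hflat 0).1 ⟨e4, e3⟩
  haveI : Module.Flat A (CohIII.T P 0 (ModuleCat.of A A)) :=
    Module.Flat.of_linearEquiv (unitEquiv P 0 N₀ α₀)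
  exact (flat_T_unit_iff P 0).1 inferInstance

end alg

section geom

open Groth.Agent.R2.H16.CbcFinal Groth.Agent.R2.H16.CbcFIFib Groth.Agent.R2.H16.CbcLen
  Groth.Agent.R2.H16.CbcModPow Groth.Agent.R2.H16.CbcFIGlob Groth.Agent.Lib.Helper3
  Groth.Agent.R2.H16.CbcFITerm Groth.Agent.R2.H16.CbcFIRank

variable (A : Type u) [CommRing A]

/-- `A/m ≃ k(m)` as `A`-modules, `m` maximal. -/
noncomputable def quotLin (m : Ideal A) [m.IsMaximal] :
    ↑(ModuleCat.of A (A ⧸ m)) ≃ₗ[A] ↑(MA' (algebraMap A m.ResidueField)) where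
  toFun := fun x => algebraMap (A ⧸ m) m.ResidueField x
  invFun := fun x => (Equiv.ofBijective _
    (Ideal.bijective_algebraMap_quotient_residueField m)).symm x
  map_add' := fun x y => map_add _ x y
  map_smul' := fun a x => by
    change algebraMap (A ⧸ m) m.ResidueField (a • (show A ⧸ m from x)) =
      algebraMap A m.ResidueField a * algebraMap (A ⧸ m) m.ResidueField x
    rw [Algebra.smul_def, map_mul, ← IsScalarTower.algebraMap_apply]
  left_inv := fun x => (Equiv.ofBijective _
    (Ideal.bijective_algebraMap_quotient_residueField m)).symm_apply_apply x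
  right_inv := fun x => (Equiv.ofBijective _
    (Ideal.bijective_algebraMap_quotient_residueField m)).apply_symm_apply x

variable {A} {X : Scheme.{u}} [X.Over (Spec (CommRingCat.of A))] (F : X.Modules)

/-- `H^n(X, F) ≃ H_{-n}(L)` linearly, for the bridge complex. -/
noncomputable def homologyEquiv (L : ChainComplex (ModuleCat.{u} A) ℤ) (n : ℕ)
    (e : CohIII.tensorAFunctor A F ⋙ CohIII.HAb X n ≅
      CohIII.TFun L (-(n : ℤ)) ⋙ forget₂ (ModuleCat.{u} A) AddCommGrpCat.{u}) :
    Coh.HH X F n ≃ₗ[A] L.homology (-(n : ℤ)) :=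
  ({ (HHcongr (e9 A F) n).symm with
      map_smul' := fun a x => by
        apply (HHcongr (e9 A F) n).injective
        change (HHcongr (e9 A F) n) ((HHcongr (e9 A F) n).symm (a • x)) =
          (HHcongr (e9 A F) n) (a • (HHcongr (e9 A F) n).symm x)
        rw [AddEquiv.apply_symm_apply]
        refine Eq.trans ?_ (HHcongr_smul (e9 A F) n
          (Coh.toGlobal (X ↘ Spec (CommRingCat.of A)) a) _).symm
        rw [AddEquiv.apply_symm_apply]
        rfl } :
    Coh.HH X F n ≃ₗ[A] Coh.HH X ((CohIII.tensorAFunctor A F).obj (ModuleCat.of A A)) n).trans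
  ((linEquivOfBridge A F L (-(n : ℤ)) n e (ModuleCat.of A A)).trans
    (TUnitIso L (-(n : ℤ))).toLinearEquiv)

/-- vanishing of the cohomology of the fibre at a maximal ideal kills `T_{-n}(A/m)`. -/
theorem isZero_T_quot_of_fiberH [F.IsQuasicoherent] [CompactSpace X]
    [IsSeparated (X ↘ Spec (CommRingCat.of A))]
    (L : ChainComplex (ModuleCat.{u} A) ℤ) (n : ℕ)
    (γ : CohIII.tensorAFunctor A F ⋙ CohIII.HAb X n ≅
      CohIII.TFun L (-(n : ℤ)) ⋙ forget₂ (ModuleCat.{u} A) AddCommGrpCat.{u})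
    (m : Ideal A) [hm : m.IsMaximal]
    (h : Subsingleton (CohIII.fiberH (X ↘ Spec (CommRingCat.of A)) F
      (⟨m, hm.isPrime⟩ : PrimeSpectrum A) n)) :
    IsZero (CohIII.T L (-(n : ℤ)) (ModuleCat.of A (A ⧸ m))) := by
  have h1 := (subsingleton_fiberH_iff F (⟨m, hm.isPrime⟩ : PrimeSpectrum A) L n γ).1 h
  obtain ⟨e₃, -⟩ := exists_bcCx_equiv (algebraMap A m.ResidueField) L (-(n : ℤ))
  haveI h1' : Subsingleton ↥((CohIII.bcCx (algebraMap A m.ResidueField) L).homology (-(n : ℤ))) := h1
  have h2 : Subsingleton ↥((CohIII.TFun L (-(n : ℤ))).obj (MA' (algebraMap A m.ResidueField))) :=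
    e₃.symm.injective.subsingleton
  exact (ModuleCat.isZero_of_subsingleton _).of_iso
    ((CohIII.TFun L (-(n : ℤ))).mapIso (quotLin A m).toModuleIso)

/-- Grothendieck vanishing on a fibre of dimension `≤ d`. -/
theorem subsingleton_fiberH_of_dim {Y : Scheme.{u}} [IsLocallyNoetherian Y] {X : Scheme.{u}}
    (f : X ⟶ Y) [IsProper f] (G : X.Modules) (s : Y) (d : ℕ)
    (hd : topologicalKrullDim ↥(f.fiber s) ≤ d) (n : ℕ) (hn : d < n) :
    Subsingleton (CohIII.fiberH f G s n) := by
  haveI : LocallyOfFiniteType (f.fiberToSpecResidueField s) :=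
    inferInstanceAs (LocallyOfFiniteType (Limits.pullback.snd f (Y.fromSpecResidueField s)))
  haveI : IsLocallyNoetherian (f.fiber s) :=
    LocallyOfFiniteType.isLocallyNoetherian (f.fiberToSpecResidueField s)
  haveI : IsNoetherian (f.fiber s) := {}
  exact Groth.Agent.S0458.result (X := (f.fiber s).carrier) d hd
    (Coh.toAb (CohIII.fiberMod f G s)) n hn

end geom

section main

open Groth.Agent.R2.H16.CbcFinal

variable (A : Type u) [CommRing A] [IsNoetherianRing A]
  (X : Scheme.{u}) [X.Over (Spec (CommRingCat.of A))] [IsProper (X ↘ Spec (CommRingCat.of A))]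
  (F : X.Modules)

/-- **S19060** from the finiteness theorem: fibres of dimension `≤ 1`, `H^1` flat ⇒ `H^0` projective. -/
theorem s19060_of (hF : Coh.IsCoh F)
    (hfl : FlatMod.IsFlatOver (X ↘ Spec (CommRingCat.of A)) F)
    (hfinF : ∀ n : ℕ, Module.Finite A (Coh.HH X F n))
    (hdim : ∀ s : Spec (CommRingCat.of A),
      topologicalKrullDim ↥((X ↘ Spec (CommRingCat.of A)).fiber s) ≤ 1)
    (h1 : Module.Flat A (Coh.HH X F 1)) :
    Module.Projective A (Coh.HH X F 0) := by
  haveI : CompactSpace X := compactSpace_of_isProper A X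
  haveI : F.IsQuasicoherent := hF.1
  obtain ⟨L, d, hL, hd, hpos, hiso⟩ :=
    Groth.Agent.R2.H11.CbcFinal.exists_bridge' A F hF.1 hfl hfinF
  have hP : ∀ i, Module.Finite A (L.X i) ∧ Module.Flat A (L.X i) := fun i => by
    haveI := (hL i).2
    exact ⟨(hL i).1, inferInstance⟩
  obtain ⟨e0⟩ := hiso 0
  obtain ⟨e1⟩ := hiso 1
  have hfib : ∀ i : ℤ, i ≤ -2 → ∀ m : Ideal A, m.IsMaximal →
      IsZero (CohIII.T L i (ModuleCat.of A (A ⧸ m))) := by
    intro i hi m hm
    obtain ⟨n, rfl⟩ : ∃ n : ℕ, i = -(n : ℤ) := ⟨(-i).toNat, by omega⟩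
    obtain ⟨γ⟩ := hiso n
    haveI := hm
    exact isZero_T_quot_of_fiberH F L n γ m
      (subsingleton_fiberH_of_dim (X ↘ Spec (CommRingCat.of A)) F _ 1 (hdim _) n (by omega))
  have hfl1 : Module.Flat A (L.homology (-((1 : ℕ) : ℤ))) :=
    Module.Flat.of_linearEquiv (homologyEquiv F L 1 e1).symm
  have hfl0 : Module.Flat A (L.homology (-((0 : ℕ) : ℤ))) := by
    have := flat_homology_zero_of L hP d hd hpos hfib (by simpa using hfl1)
    simpa using this
  haveI : Module.Flat A (Coh.HH X F 0) := Module.Flat.of_linearEquiv (homologyEquiv F L 0 e0)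
  haveI := hfinF 0
  haveI : Module.FinitePresentation A (Coh.HH X F 0) := Module.finitePresentation_of_finite A _
  exact Module.Flat.projective_of_finitePresentation

end main

end Groth.Agent.R2.H16.CbcCurve
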