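import Mathlib
import Groth.Agent.R2.H16CbcLen2
import Groth.Agent.R2.H16CbcFIFib
import Groth.Agent.R2.H16CbcFIGlob
import Groth.Agent.R2.H16CbcModPow
import Groth.Agent.S2381
import Groth.Agent.S4489

/-!
# PROJ:cbc consumer: S11560 (Betti numbers over a DVR)  (helper16)

Namespace `Groth.Agent.R2.H16.CbcDvr`.

`R` a DVR, `X` proper over `R`, `F` coherent flat: `h^p(s) = h^p(η)` iff `H^p(X,F)` and `H^{p+1}(X,F)` are free.
-/

set_option autoImplicit false
set_option linter.style.haveILetI false
set_option linter.unusedSectionVars false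
universe u
open CategoryTheory CategoryTheory.Limits AlgebraicGeometry Opposite

namespace Groth.Agent.R2.H16.CbcDvr

section top

variable {R : Type u} [CommRing R] [IsDomain R] [IsDiscreteValuationRing R]

/-- on the spectrum of a DVR a function is locally constant iff it takes the same value at a non-generic
point and at the generic point. -/
theorem isLocallyConstant_iff {α : Type*} (f : PrimeSpectrum R → α) (s : PrimeSpectrum R)
    (hs : s.asIdeal ≠ ⊥) :
    IsLocallyConstant f ↔ f s = f ⟨⊥, Ideal.isPrime_bot⟩ := by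
  constructor
  · intro h
    exact h.apply_eq_of_preconnectedSpace _ _
  · intro h
    have hmax : ∀ x : PrimeSpectrum R, x.asIdeal ≠ ⊥ → x.asIdeal = IsLocalRing.maximalIdeal R :=
      fun x hx => IsLocalRing.eq_maximalIdeal (x.2.isMaximal hx)
    have hall : ∀ x : PrimeSpectrum R, f x = f s := by
      intro x
      by_cases hx : x.asIdeal = ⊥
      · have : x = ⟨⊥, Ideal.isPrime_bot⟩ := PrimeSpectrum.ext hx
        rw [this, h]
      · have : x = s := PrimeSpectrum.ext ((hmax x hx).trans (hmax s hs).symm)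
        rw [this]
    have : f = fun _ => f s := funext hall
    rw [this]
    exact IsLocallyConstant.const _

end top

section main

open Groth.Agent.R2.H16.CbcFinal Groth.Agent.R2.H16.CbcConsumers Groth.Agent.R2.H16.CbcFIFib
  Groth.Agent.R2.H16.CbcLen Groth.Agent.R2.H16.CbcModPow Groth.Agent.R2.H16.CbcFIGlob
  Groth.Agent.Lib.Helper3

variable (R : Type u) [CommRing R] [IsDomain R] [IsDiscreteValuationRing R]
  (X : Scheme.{u}) [X.Over (Spec (CommRingCat.of R))] [IsProper (X ↘ Spec (CommRingCat.of R))]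
  (F : X.Modules)

/-- `H^n(X, F) ≃ H_{-n}(L)` linearly, for the bridge complex. -/
noncomputable def homologyEquiv (L : ChainComplex (ModuleCat.{u} R) ℤ) (n : ℕ)
    (e : CohIII.tensorAFunctor R F ⋙ CohIII.HAb X n ≅
      CohIII.TFun L (-(n : ℤ)) ⋙ forget₂ (ModuleCat.{u} R) AddCommGrpCat.{u}) :
    Coh.HH X F n ≃ₗ[R] L.homology (-(n : ℤ)) :=
  ({ (HHcongr (e9 R F) n).symm with
      map_smul' := fun a x => by
        apply (HHcongr (e9 R F) n).injective
        change (HHcongr (e9 R F) n) ((HHcongr (e9 R F) n).symm (a • x)) =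
          (HHcongr (e9 R F) n) (a • (HHcongr (e9 R F) n).symm x)
        rw [AddEquiv.apply_symm_apply]
        refine Eq.trans ?_ (HHcongr_smul (e9 R F) n
          (Coh.toGlobal (X ↘ Spec (CommRingCat.of R)) a) _).symm
        rw [AddEquiv.apply_symm_apply]
        rfl } :
    Coh.HH X F n ≃ₗ[R] Coh.HH X ((CohIII.tensorAFunctor R F).obj (ModuleCat.of R R)) n).trans
  ((linEquivOfBridge R F L (-(n : ℤ)) n e (ModuleCat.of R R)).trans
    (TUnitIso L (-(n : ℤ))).toLinearEquiv)

/-- **S11560** from the finiteness theorem. -/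
theorem s11560_of (hF : Coh.IsCoh F)
    (hfl : FlatMod.IsFlatOver (X ↘ Spec (CommRingCat.of R)) F)
    (hfinF : ∀ n : ℕ, Module.Finite R (Coh.HH X F n)) (p : ℕ)
    (s : ↥(Spec (CommRingCat.of R))) (hs : s ≠ genericPoint ↥(Spec (CommRingCat.of R))) :
    PerfAux.betti (X ↘ Spec (CommRingCat.of R)) F s p =
        PerfAux.betti (X ↘ Spec (CommRingCat.of R)) F (genericPoint ↥(Spec (CommRingCat.of R))) p ↔
      Module.Free R (Coh.HH X F p) ∧ Module.Free R (Coh.HH X F (p + 1)) := by
  haveI : CompactSpace X := compactSpace_of_isProper R X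
  haveI : F.IsQuasicoherent := hF.1
  obtain ⟨L, hL, -, hiso⟩ := exists_bridge_proper R X F hF hfl hfinF
  have hP : ∀ i, Module.Finite R (L.X i) ∧ Module.Flat R (L.X i) := fun i => by
    haveI := (hL i).2
    exact ⟨(hL i).1, inferInstance⟩
  have hflat : ∀ i, Module.Flat R (L.X i) := fun i => (hP i).2
  obtain ⟨e0⟩ := hiso p
  obtain ⟨e1⟩ := hiso (p + 1)
  have hgen : genericPoint ↥(Spec (CommRingCat.of R)) = (⊥ : PrimeSpectrum R) :=
    genericPoint_eq_bot_of_affine (CommRingCat.of R)
  have hs' : (yp s).asIdeal ≠ ⊥ := by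
    intro h
    apply hs
    rw [hgen]
    exact PrimeSpectrum.ext h
  have hb : ∀ y : ↥(Spec (CommRingCat.of R)),
      PerfAux.betti (X ↘ Spec (CommRingCat.of R)) F y p = CohIII.dRank L (-(p : ℤ)) (yp y) :=
    fun y => fiberRank_eq_dRank F y L p e0
  rw [hb s, hb (genericPoint ↥(Spec (CommRingCat.of R))), hgen]
  have h1 := (isLocallyConstant_iff (CohIII.dRank L (-(p : ℤ))) (yp s) hs').symm
  have h2 := Groth.Agent.S2381.result L hP (-(p : ℤ))
  have h3 := (Groth.Agent.S4489.result L hflat (-(p : ℤ)) (-((p + 1 : ℕ) : ℤ))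
    (by push_cast; ring)).2
  have hfree : ∀ (n : ℕ) (e : CohIII.tensorAFunctor R F ⋙ CohIII.HAb X n ≅
      CohIII.TFun L (-(n : ℤ)) ⋙ forget₂ (ModuleCat.{u} R) AddCommGrpCat.{u}),
      Module.Flat R (L.homology (-(n : ℤ))) ↔ Module.Free R (Coh.HH X F n) := by
    intro n e
    have eq := homologyEquiv R X F L n e
    constructor
    · intro hfl'
      haveI : Module.Flat R (Coh.HH X F n) := Module.Flat.of_linearEquiv eq
      haveI := hfinF n
      exact Module.free_of_flat_of_isLocalRing
    · intro hfr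
      haveI : Module.Free R (L.homology (-(n : ℤ))) := Module.Free.of_equiv eq
      infer_instance
  have hred : IsReduced R := inferInstance
  constructor
  · intro h
    have hex := h2.2 hred (h1.1 h)
    obtain ⟨ha, hb'⟩ := h3.1 hex
    exact ⟨(hfree p e0).1 ha, (hfree (p + 1) e1).1 hb'⟩
  · rintro ⟨ha, hb'⟩
    have hex := h3.2 ⟨(hfree p e0).2 ha, (hfree (p + 1) e1).2 hb'⟩
    exact h1.2 (h2.1 hex)

end main

end Groth.Agent.R2.H16.CbcDvr
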