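import Mathlib
import Groth.Agent.R2.H16CbcModPow
import Groth.Agent.R2.H16CbcFIFib
import Groth.Agent.R2.H16CbcFinal
import Groth.Agent.R2.H16CbcFinal2
import Groth.Agent.S2408
import Groth.Agent.S2406

/-!
# PROJ:cbc consumer: S4462 (helper16)

Namespace `Groth.Agent.R2.H16.CbcS4462`.

`A` Noetherian local, `X` proper over `A`, `F` coherent flat over `A`, `H^{n+1}(X_y, F_y) = 0` at the closed point `y`
⇒ `T^{n+1} = 0` ⇒ `T^n` right exact ⇒ `H^n(X, F) → H^n(X, F/m^{p+1}F)` surjective.
-/

set_option autoImplicit false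
set_option linter.style.haveILetI false
set_option linter.unusedSectionVars false
universe u
open CategoryTheory CategoryTheory.Limits AlgebraicGeometry Opposite TopologicalSpace

namespace Groth.Agent.R2.H16.CbcS4462

open Groth.Agent.R2.H16.CbcFITerm Groth.Agent.R2.H16.CbcFIFib Groth.Agent.R2.H16.CbcFIRank
  Groth.Agent.R2.H16.CbcModPow

section alg

variable (A : Type u) [CommRing A] [IsLocalRing A]

/-- `A/m ≅ k(m)` as `A`-modules. -/
noncomputable def resLin :
    ↑(ModuleCat.of A (IsLocalRing.ResidueField A)) ≃ₗ[A]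
      ↑(MA' (algebraMap A (IsLocalRing.maximalIdeal A).ResidueField)) where
  toFun := fun x => algebraMap (A ⧸ IsLocalRing.maximalIdeal A)
    (IsLocalRing.maximalIdeal A).ResidueField x
  invFun := fun x => (Equiv.ofBijective _
    (Ideal.bijective_algebraMap_quotient_residueField (IsLocalRing.maximalIdeal A))).symm x
  map_add' := fun x y => map_add _ x y
  map_smul' := fun a x => by
    change algebraMap (A ⧸ IsLocalRing.maximalIdeal A) (IsLocalRing.maximalIdeal A).ResidueField
        (a • (show A ⧸ IsLocalRing.maximalIdeal A from x)) =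
      algebraMap A (IsLocalRing.maximalIdeal A).ResidueField a *
        algebraMap (A ⧸ IsLocalRing.maximalIdeal A) (IsLocalRing.maximalIdeal A).ResidueField x
    rw [Algebra.smul_def, map_mul, ← IsScalarTower.algebraMap_apply]
  left_inv := fun x => (Equiv.ofBijective _
    (Ideal.bijective_algebraMap_quotient_residueField (IsLocalRing.maximalIdeal A))).symm_apply_apply x
  right_inv := fun x => (Equiv.ofBijective _
    (Ideal.bijective_algebraMap_quotient_residueField (IsLocalRing.maximalIdeal A))).apply_symm_apply x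

end alg

section main

open Groth.Agent.R2.H16.CbcFinal Groth.Agent.R2.H16.CbcConsumers

variable (A : Type u) [CommRing A] [IsNoetherianRing A] [IsLocalRing A]
  (X : Scheme.{u}) [X.Over (Spec (CommRingCat.of A))] [IsProper (X ↘ Spec (CommRingCat.of A))]
  (F : X.Modules)

/-- vanishing of the cohomology of the closed fibre in degree `n+1` makes `T^n` right exact. -/
theorem preservesEpi_of_fiberH_subsingleton (hF : Coh.IsCoh F)
    (hfl : FlatMod.IsFlatOver (X ↘ Spec (CommRingCat.of A)) F)
    (hfinF : ∀ n : ℕ, Module.Finite A (Coh.HH X F n)) (n : ℕ)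
    (hvan : Subsingleton (CohIII.fiberH (X ↘ Spec (CommRingCat.of A)) F
      (IsLocalRing.closedPoint A) (n + 1))) :
    (CohIII.tensorAFunctor A F ⋙ CohIII.HAb X n).PreservesEpimorphisms := by
  haveI : CompactSpace X := compactSpace_of_isProper A X
  haveI : F.IsQuasicoherent := hF.1
  obtain ⟨L, hL, -, hiso⟩ := exists_bridge_proper A X F hF hfl hfinF
  have hP : ∀ i, Module.Finite A (L.X i) ∧ Module.Flat A (L.X i) := fun i => by
    haveI := (hL i).2
    exact ⟨(hL i).1, inferInstance⟩
  obtain ⟨γ₁⟩ := hiso (n + 1)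
  obtain ⟨γ₀⟩ := hiso n
  have h1 := (subsingleton_fiberH_iff F (IsLocalRing.closedPoint A) L (n + 1) γ₁).1 hvan
  obtain ⟨e₃, -⟩ := exists_bcCx_equiv
    (algebraMap A (IsLocalRing.maximalIdeal A).ResidueField) L (-((n + 1 : ℕ) : ℤ))
  haveI h1' : Subsingleton ↥((CohIII.bcCx
      (algebraMap A (IsLocalRing.maximalIdeal A).ResidueField) L).homology (-((n + 1 : ℕ) : ℤ))) := h1
  have h2 : Subsingleton ↥((CohIII.TFun L (-((n + 1 : ℕ) : ℤ))).obj
      (MA' (algebraMap A (IsLocalRing.maximalIdeal A).ResidueField))) :=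
    e₃.symm.injective.subsingleton
  have hk : IsZero ((CohIII.TFun L (-((n + 1 : ℕ) : ℤ))).obj
      (ModuleCat.of A (IsLocalRing.ResidueField A))) :=
    (ModuleCat.isZero_of_subsingleton _).of_iso
      ((CohIII.TFun L (-((n + 1 : ℕ) : ℤ))).mapIso (resLin A).toModuleIso)
  have h3 : ∀ M : ModuleCat.{u} A, IsZero ((CohIII.TFun L (-((n + 1 : ℕ) : ℤ))).obj M) :=
    Groth.Agent.S2408.result L hP _ hk
  have h4 : (CohIII.TFun L (-((n + 1 : ℕ) : ℤ))).PreservesMonomorphisms :=
    ⟨fun {M N} f _ => (h3 M).mono _⟩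
  have h5 : (CohIII.TFun L (-(n : ℤ))).PreservesEpimorphisms :=
    (Groth.Agent.S2406.result L (fun i => (hP i).2) (-(n : ℤ)) (-((n + 1 : ℕ) : ℤ))
      (by push_cast; ring)).2 h4
  exact (preservesEpi_iff _ L _ γ₀).2 h5

/-- right exactness of `T^n` gives surjectivity of `H^n(X, F) → H^n(X, F/J F)`. -/
theorem surjective_HH_cokernel_π (n : ℕ)
    (h : (CohIII.tensorAFunctor A F ⋙ CohIII.HAb X n).PreservesEpimorphisms) (J : Ideal A) :
    Function.Surjective
      (Sheaf.H.map ((SheafOfModules.toSheaf X.ringCatSheaf).map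
        (cokernel.π (Formal.smulFamily J F))) n) := by
  have hq : Epi (qJ A J) := by
    rw [ModuleCat.epi_iff_surjective]
    exact Submodule.mkQ_surjective J
  haveI : Epi ((CohIII.tensorAFunctor A F ⋙ CohIII.HAb X n).map (qJ A J)) := h.preserves (qJ A J)
  have h1 : (CohIII.HAb X n).map (e9 A F).hom ≫
      (CohIII.HAb X n).map (cokernel.π (Formal.smulFamily J F)) =
      (CohIII.tensorAFunctor A F ⋙ CohIII.HAb X n).map (qJ A J) ≫
        (CohIII.HAb X n).map (quotIso A F J).hom := by
    rw [← Functor.map_comp, ← map_qJ_quotIso_hom, Functor.map_comp]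
    rfl
  haveI : Epi ((CohIII.HAb X n).map (e9 A F).hom ≫
      (CohIII.HAb X n).map (cokernel.π (Formal.smulFamily J F))) := by
    rw [h1]
    infer_instance
  have h2 : Epi ((CohIII.HAb X n).map (cokernel.π (Formal.smulFamily J F))) :=
    epi_of_epi ((CohIII.HAb X n).map (e9 A F).hom) _
  rw [AddCommGrpCat.epi_iff_surjective] at h2
  exact h2

/-- **S4462** from the finiteness theorem. -/
theorem s4462_of (hF : Coh.IsCoh F)
    (hfl : FlatMod.IsFlatOver (X ↘ Spec (CommRingCat.of A)) F)
    (hfinF : ∀ n : ℕ, Module.Finite A (Coh.HH X F n)) (n : ℕ)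
    (hvan : Subsingleton (CohIII.fiberH (X ↘ Spec (CommRingCat.of A)) F
      (IsLocalRing.closedPoint A) (n + 1))) (p : ℕ) :
    Function.Surjective (Formal.toHHmodPow (IsLocalRing.maximalIdeal A) F n p) :=
  surjective_HH_cokernel_π A X F n
    (preservesEpi_of_fiberH_subsingleton A X F hF hfl hfinF n hvan) _

end main

end Groth.Agent.R2.H16.CbcS4462
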