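import Mathlib
import Groth.Agent.Lib.Helper16ClosedEmb
import Groth.Agent.S0484

/-!
# Pushforward along a closed immersion is a left adjoint (helper16, round 2)

* `pushCompIdIso`: for continuous maps `f`, `g` with `f ≫ g = 𝟙`, `f_* ⋙ g_* ≅ 𝟭` on sheaves.
* `pushEquivOfIso`: pushforward along an isomorphism of spaces is an equivalence.
* `preservesColimits_push_of_isClosedEmbedding`: `i_*` on abelian sheaves preserves colimits for a
  closed embedding `i`.
* `isLeftAdjoint_pushforward_of_isClosedImmersion`: `i_*` on `O`-modules is a left adjoint for a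
  closed immersion of schemes.
-/

set_option autoImplicit false
universe u
open CategoryTheory CategoryTheory.Limits Opposite TopologicalSpace

namespace Groth.Agent.R2.H16.ClosedImmAdj

section Top

variable {X Y : TopCat.{u}}

/-- for `f ≫ g = 𝟙`, `f_* ⋙ g_* ≅ 𝟭` on abelian sheaves -/
noncomputable def pushCompIdIso (f : X ⟶ Y) (g : Y ⟶ X) (h : f ≫ g = 𝟙 X) :
    CohTop.push f ⋙ CohTop.push g ≅ 𝟭 (CohTop.Ab X) :=
  NatIso.ofComponents
    (fun F => (fullyFaithfulSheafToPresheaf _ _).preimageIso
      (NatIso.ofComponents
        (fun U => F.obj.mapIso (eqToIso (by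
          obtain ⟨U⟩ := U
          show op ((Opens.map f).obj ((Opens.map g).obj U)) = op U
          congr 1
          rw [← Opens.map_comp_obj, h, Opens.map_id_obj])))
        (by
          intro U V k
          dsimp
          show F.obj.map _ ≫ F.obj.map _ = F.obj.map _ ≫ F.obj.map _
          rw [← F.obj.map_comp, ← F.obj.map_comp]
          congr 1)))
    (by
      intro F G α
      apply (fullyFaithfulSheafToPresheaf _ _).map_injective
      apply NatTrans.ext
      funext U
      exact (α.hom.naturality _).symm)

/-- pushforward along an isomorphism of spaces is an equivalence -/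
noncomputable def pushEquivOfIso (e : X ≅ Y) : CohTop.Ab X ≌ CohTop.Ab Y :=
  CategoryTheory.Equivalence.mk (CohTop.push e.hom) (CohTop.push e.inv)
    (pushCompIdIso e.hom e.inv e.hom_inv_id).symm (pushCompIdIso e.inv e.hom e.inv_hom_id)

theorem preservesColimits_push_of_iso (e : X ≅ Y) :
    PreservesColimitsOfSize.{u, u} (CohTop.push e.hom) :=
  inferInstanceAs (PreservesColimitsOfSize.{u, u} (pushEquivOfIso e).functor)

/-- `(f ≫ g)_* ≅ f_* ⋙ g_*` -/
noncomputable def pushCompIso {W : TopCat.{u}} (f : X ⟶ Y) (g : Y ⟶ W) :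
    CohTop.push (f ≫ g) ≅ CohTop.push f ⋙ CohTop.push g :=
  Iso.refl _

open Groth.Agent.Lib.Helper16.ClosedEmb in
/-- `i_*` on abelian sheaves preserves all (small) colimits when `i` is a closed embedding. -/
theorem preservesColimits_push_of_isClosedEmbedding {Z : TopCat.{u}} (i : Z ⟶ X)
    (hi : Topology.IsClosedEmbedding i) : PreservesColimitsOfSize.{u, u} (CohTop.push i) := by
  let U : Opens X := ⟨(Set.range i)ᶜ, hi.isClosed_range.isOpen_compl⟩
  have hU : ((U : Set X)ᶜ : Set X) = Set.range i := compl_compl _
  let h : Z ≃ₜ ((U : Set X)ᶜ : Set X) :=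
    hi.toIsEmbedding.toHomeomorph.trans (Homeomorph.setCongr hU.symm)
  let e : Z ≅ TopCat.of ((U : Set X)ᶜ : Set X) := TopCat.isoOfHomeo h
  have hfac : e.hom ≫ CohCx.inclCompl U = i := by
    ext z
    rfl
  obtain ⟨adj⟩ := nonempty_push_adj U
  haveI : PreservesColimitsOfSize.{u, u} (CohTop.push (CohCx.inclCompl U)) :=
    adj.leftAdjoint_preservesColimits
  haveI : PreservesColimitsOfSize.{u, u} (CohTop.push e.hom) := preservesColimits_push_of_iso e
  haveI : PreservesColimitsOfSize.{u, u} (CohTop.push e.hom ⋙ CohTop.push (CohCx.inclCompl U)) :=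
    comp_preservesColimits _ _
  rw [← hfac]
  exact preservesColimits_of_natIso (pushCompIso e.hom (CohCx.inclCompl U)).symm

end Top

section Sch

open AlgebraicGeometry

variable {Z X : Scheme.{u}} (i : Z ⟶ X)

theorem preservesColimits_sheafOfModules_pushforward [IsClosedImmersion i] :
    PreservesColimitsOfSize.{u, u} (SheafOfModules.pushforward.{u} i.toRingCatSheafHom) := by
  have hcomp : SheafOfModules.pushforward.{u} i.toRingCatSheafHom ⋙
      SheafOfModules.toSheaf.{u} X.ringCatSheaf =
      SheafOfModules.toSheaf.{u} Z.ringCatSheaf ⋙ CohTop.push i.base := rfl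
  have hi : Topology.IsClosedEmbedding i.base := i.isClosedEmbedding
  haveI : PreservesColimitsOfSize.{u, u} (CohTop.push i.base) :=
    preservesColimits_push_of_isClosedEmbedding i.base hi
  constructor
  intro K' _
  haveI : PreservesColimitsOfShape K' (SheafOfModules.toSheaf.{u} Z.ringCatSheaf) :=
    Groth.Agent.S0484.preservesColimitsOfShape_toSheaf _ Z.ringCatSheaf K'
  haveI : PreservesColimitsOfShape K' (SheafOfModules.toSheaf.{u} X.ringCatSheaf) :=
    Groth.Agent.S0484.preservesColimitsOfShape_toSheaf _ X.ringCatSheaf K'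
  haveI : ReflectsColimitsOfShape K' (SheafOfModules.toSheaf.{u} X.ringCatSheaf) :=
    reflectsColimitsOfShape_of_reflectsIsomorphisms
  haveI : PreservesColimitsOfShape K'
      (SheafOfModules.pushforward.{u} i.toRingCatSheafHom ⋙
        SheafOfModules.toSheaf.{u} X.ringCatSheaf) := by
    rw [hcomp]; infer_instance
  exact preservesColimitsOfShape_of_reflects_of_preserves _
    (SheafOfModules.toSheaf.{u} X.ringCatSheaf)

theorem isLeftAdjoint_sheafOfModules_pushforward [IsClosedImmersion i] :
    (SheafOfModules.pushforward.{u} i.toRingCatSheafHom).IsLeftAdjoint := by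
  haveI : IsGrothendieckAbelian.{u} (SheafOfModules.{u} Z.ringCatSheaf) :=
    Groth.Agent.S0484.result _ Z.ringCatSheaf
  haveI := preservesColimits_sheafOfModules_pushforward i
  haveI h2 : WellPowered.{u} (SheafOfModules.{u} Z.ringCatSheaf)ᵒᵖ := Abelian.wellPowered_opposite
  exact isLeftAdjoint_of_preservesColimits_of_isSeparating
    (isSeparator_separator (SheafOfModules.{u} Z.ringCatSheaf)) _

/-- `i_*` on `O`-modules is a left adjoint for a closed immersion of schemes. -/
theorem isLeftAdjoint_pushforward_of_isClosedImmersion [IsClosedImmersion i] :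
    (Scheme.Modules.pushforward i).IsLeftAdjoint :=
  isLeftAdjoint_sheafOfModules_pushforward i

/-- `i_*` on `O`-modules preserves colimits for a closed immersion of schemes. -/
theorem preservesColimits_pushforward_of_isClosedImmersion [IsClosedImmersion i] :
    PreservesColimitsOfSize.{u, u} (Scheme.Modules.pushforward i) :=
  preservesColimits_sheafOfModules_pushforward i

end Sch

end Groth.Agent.R2.H16.ClosedImmAdj
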