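import Mathlib

/-!
# Cohomological flatness in dimension 0 — the algebra (helper16)

Namespace `Groth.Agent.R2.H16.CohFlat0Alg`.

Let `Q` be a finite `A`-module (think: the module corepresenting `M ↦ Γ(X, O_X ⊗_A M)` for `X` proper and
flat over a Noetherian ring `A`), `K` a field which is an `A`-algebra.

* `exists_smul_eq_zero_of_hom_eq_zero`: a finite module `N` with `Hom_A(N, K) = 0` is killed by some
  `s` with nonzero image in `K` (elementary, by induction on the number of generators).
* `exists_cyclic_data`: if `Hom_A(Q, K)` is one-dimensional over `K` and `Q` is faithful, then there are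
  `g` (nonzero in `K`) and `q₀ : Q` with `g Q ⊆ A q₀` and `g · Ann(q₀) = 0`.
* `nonempty_linearEquiv_of_cyclic_data`: with such data, `Hom_A(Q, A') ≃ A'` (as `A'`-modules) for every
  `A`-algebra `A'` in which `g` is a unit.
* `bijective_algebraMap_of_linearEquiv`: an `A'`-algebra `B'` which is free of rank one as a module is
  `A'` (Mathlib's `Module.Invertible.algEquivOfRing`).
* `main`: the combination used by the geometric files.
-/

set_option autoImplicit false
universe u v

namespace Groth.Agent.R2.H16.CohFlat0Alg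

variable {A : Type u} [CommRing A] {K : Type v} [Field K] [Algebra A K]

/-- a finitely generated module without nonzero maps to the field `K` is killed by an element which is
nonzero in `K`. -/
theorem exists_smul_eq_zero_of_hom_eq_zero (k : ℕ) :
    ∀ (N : Type u) [AddCommGroup N] [Module A N] (S : Finset N), S.card ≤ k →
      Submodule.span A (S : Set N) = ⊤ → (∀ ψ : N →ₗ[A] K, ψ = 0) →
      ∃ s : A, algebraMap A K s ≠ 0 ∧ ∀ n : N, s • n = 0 := by
  induction k with
  | zero =>
    intro N _ _ S hS hspan _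
    have hS0 : S = ∅ := Finset.card_eq_zero.mp (Nat.le_zero.mp hS)
    subst hS0
    refine ⟨1, by simp, fun n => ?_⟩
    have hn : n ∈ (⊤ : Submodule A N) := trivial
    rw [← hspan] at hn
    simp only [Finset.coe_empty, Submodule.span_empty, Submodule.mem_bot] at hn
    rw [hn, smul_zero]
  | succ k ih =>
    intro N _ _ S hS hspan hψ
    by_cases hSe : S = ∅
    · subst hSe
      refine ⟨1, by simp, fun n => ?_⟩
      have hn : n ∈ (⊤ : Submodule A N) := trivial
      rw [← hspan] at hn
      simp only [Finset.coe_empty, Submodule.span_empty, Submodule.mem_bot] at hn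
      rw [hn, smul_zero]
    obtain ⟨n₁, hn₁⟩ := Finset.nonempty_iff_ne_empty.mpr hSe
    classical
    let P : Submodule A N := Submodule.span A {n₁}
    let S'' : Finset (N ⧸ P) := (S.erase n₁).image P.mkQ
    have hcard : S''.card ≤ k := by
      refine Finset.card_image_le.trans ?_
      rw [Finset.card_erase_of_mem hn₁]
      omega
    have hspan'' : Submodule.span A (S'' : Set (N ⧸ P)) = ⊤ := by
      rw [eq_top_iff]
      rintro x -
      obtain ⟨y, rfl⟩ := P.mkQ_surjective x
      have hy : y ∈ Submodule.span A (S : Set N) := by rw [hspan]; trivial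
      refine Submodule.span_induction (p := fun y _ => P.mkQ y ∈ Submodule.span A (S'' : Set (N ⧸ P)))
        ?_ ?_ ?_ ?_ hy
      · intro z hz
        by_cases hz1 : z = n₁
        · subst hz1
          have : P.mkQ z = 0 := by
            rw [Submodule.mkQ_apply, Submodule.Quotient.mk_eq_zero]
            exact Submodule.mem_span_singleton_self z
          rw [this]
          exact Submodule.zero_mem _
        · apply Submodule.subset_span
          simp only [S'', Finset.coe_image, Set.mem_image, Finset.mem_coe, Finset.mem_erase]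
          exact ⟨z, ⟨hz1, hz⟩, rfl⟩
      · rw [map_zero]; exact Submodule.zero_mem _
      · intro a b _ _ ha hb
        rw [map_add]; exact Submodule.add_mem _ ha hb
      · intro a b _ hb
        rw [map_smul]; exact Submodule.smul_mem _ a hb
    have hψ'' : ∀ ψ : (N ⧸ P) →ₗ[A] K, ψ = 0 := fun ψ => by
      have h0 := hψ (ψ ∘ₗ P.mkQ)
      refine LinearMap.ext fun x => ?_
      obtain ⟨y, rfl⟩ := P.mkQ_surjective x
      exact LinearMap.congr_fun h0 y
    obtain ⟨s'', hs''1, hs''2⟩ := ih (N ⧸ P) S'' hcard hspan'' hψ''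
    have hmem : ∀ n : N, s'' • n ∈ P := fun n => by
      have h0 := hs''2 (P.mkQ n)
      rw [← map_smul, Submodule.mkQ_apply, Submodule.Quotient.mk_eq_zero] at h0
      exact h0
    -- the annihilator of `n₁` is not contained in the kernel of `A → K`
    have ht : ∃ t : A, algebraMap A K t ≠ 0 ∧ t • n₁ = 0 := by
      by_contra hcon
      have hker : ∀ t : A, t • n₁ = 0 → algebraMap A K t = 0 := fun t ht =>
        by_contra fun h => hcon ⟨t, h, ht⟩
      let T : A →ₗ[A] N := LinearMap.toSpanSingleton A N n₁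
      have hP : P = LinearMap.range T := LinearMap.span_singleton_eq_range A N n₁
      have hle : LinearMap.ker T ≤ LinearMap.ker (Algebra.linearMap A K) := by
        intro t ht
        rw [LinearMap.mem_ker] at ht ⊢
        exact hker t (by simpa [T] using ht)
      let ψ₁ : LinearMap.range T →ₗ[A] K :=
        (Submodule.liftQ (LinearMap.ker T) (Algebra.linearMap A K) hle) ∘ₗ
          T.quotKerEquivRange.symm.toLinearMap
      let m : N →ₗ[A] LinearMap.range T :=
        LinearMap.codRestrict (LinearMap.range T) (s'' • LinearMap.id) (fun n => by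
          rw [← hP]
          exact hmem n)
      have h0 := LinearMap.congr_fun (hψ (ψ₁ ∘ₗ m)) n₁
      have hm : m n₁ = T.rangeRestrict s'' := by
        apply Subtype.ext
        simp [m, T]
      have h1 : (ψ₁ ∘ₗ m) n₁ = algebraMap A K s'' := by
        rw [LinearMap.comp_apply, hm]
        change (Submodule.liftQ (LinearMap.ker T) (Algebra.linearMap A K) hle)
          (T.quotKerEquivRange.symm (T.rangeRestrict s'')) = _
        have h2 : T.quotKerEquivRange.symm (T.rangeRestrict s'') =
            (LinearMap.ker T).mkQ s'' := by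
          rw [LinearEquiv.symm_apply_eq]
          rfl
        rw [h2, Submodule.mkQ_apply, Submodule.liftQ_apply]
        rfl
      rw [h1] at h0
      exact hs''1 h0
    obtain ⟨t, ht1, ht2⟩ := ht
    refine ⟨t * s'', ?_, fun n => ?_⟩
    · rw [map_mul]
      exact mul_ne_zero ht1 hs''1
    · obtain ⟨a, ha⟩ := Submodule.mem_span_singleton.mp (hmem n)
      rw [mul_smul, ← ha, smul_comm, ht2, smul_zero]

variable {Q : Type u} [AddCommGroup Q] [Module A Q]

/-- if `Hom_A(Q, K)` is a line and `Q` is faithful, `Q` is "free of rank one near `ker (A → K)`". -/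
theorem exists_cyclic_data [Module.Finite A Q]
    (h1 : Module.finrank K (Q →ₗ[A] K) = 1)
    (h2 : ∀ a : A, (∀ q : Q, a • q = 0) → a = 0) :
    ∃ (g : A) (q₀ : Q), algebraMap A K g ≠ 0 ∧ (∀ q : Q, ∃ a : A, g • q = a • q₀) ∧
      (∀ a : A, a • q₀ = 0 → g * a = 0) := by
  obtain ⟨φ₀, hφ₀, hφ⟩ := finrank_eq_one_iff'.mp h1
  have hq : ∃ q₀ : Q, φ₀ q₀ ≠ 0 := by
    by_contra hcon
    exact hφ₀ (LinearMap.ext fun q => by_contra fun h => hcon ⟨q, h⟩)
  obtain ⟨q₀, hq₀⟩ := hq
  let P : Submodule A Q := Submodule.span A {q₀}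
  have hψ : ∀ ψ : (Q ⧸ P) →ₗ[A] K, ψ = 0 := fun ψ => by
    obtain ⟨c, hc⟩ := hφ (ψ ∘ₗ P.mkQ)
    have h0 : c * φ₀ q₀ = 0 := by
      have h3 := LinearMap.congr_fun hc q₀
      have h4 : (ψ ∘ₗ P.mkQ) q₀ = 0 := by
        rw [LinearMap.comp_apply, Submodule.mkQ_apply,
          (Submodule.Quotient.mk_eq_zero P).mpr (Submodule.mem_span_singleton_self q₀), map_zero]
      rw [h4] at h3
      exact h3
    have hc0 : c = 0 := (mul_eq_zero.mp h0).resolve_right hq₀
    rw [hc0, zero_smul] at hc
    refine LinearMap.ext fun x => ?_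
    obtain ⟨y, rfl⟩ := P.mkQ_surjective x
    exact (LinearMap.congr_fun hc y).symm
  obtain ⟨S, hS⟩ := (Module.finite_def.mp (inferInstance : Module.Finite A (Q ⧸ P)))
  obtain ⟨g, hg1, hg2⟩ := exists_smul_eq_zero_of_hom_eq_zero (K := K) S.card (Q ⧸ P) S le_rfl hS hψ
  have hmem : ∀ q : Q, ∃ a : A, g • q = a • q₀ := fun q => by
    have h0 := hg2 (P.mkQ q)
    rw [← map_smul, Submodule.mkQ_apply, Submodule.Quotient.mk_eq_zero] at h0
    obtain ⟨a, ha⟩ := Submodule.mem_span_singleton.mp h0
    exact ⟨a, ha.symm⟩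
  refine ⟨g, q₀, hg1, hmem, fun a ha => ?_⟩
  apply h2
  intro q
  obtain ⟨b, hb⟩ := hmem q
  rw [mul_smul, smul_comm, hb, smul_comm, ha, smul_zero]

/-- with cyclic data `(g, q₀)`, `Hom_A(Q, A')` is free of rank one for every `A`-algebra `A'` in which
`g` is a unit (evaluation at `q₀`). -/
theorem nonempty_linearEquiv_of_cyclic_data {g : A} {q₀ : Q}
    (hgen : ∀ q : Q, ∃ a : A, g • q = a • q₀) (hann : ∀ a : A, a • q₀ = 0 → g * a = 0)
    (A' : Type v) [CommRing A'] [Algebra A A'] (hu : IsUnit (algebraMap A A' g)) :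
    Nonempty ((Q →ₗ[A] A') ≃ₗ[A'] A') := by
  obtain ⟨u, hu'⟩ := hu
  choose c hc using hgen
  -- the functional with value `1` at `q₀`
  have key : ∀ (q : Q) (a : A), g • q = a • q₀ → algebraMap A A' (c q) = algebraMap A A' a := by
    intro q a ha
    have h0 : (c q - a) • q₀ = 0 := by rw [sub_smul, ← hc q, ← ha, sub_self]
    have h1 := hann _ h0
    have h2 : (u : A') * (algebraMap A A' (c q) - algebraMap A A' a) = 0 := by
      rw [hu', ← map_sub, ← map_mul, h1, map_zero]
    have h3 := (Units.mul_right_eq_zero u).mp h2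
    exact sub_eq_zero.mp h3
  let ψ₀ : Q →ₗ[A] A' :=
    { toFun := fun q => (↑u⁻¹ : A') * algebraMap A A' (c q)
      map_add' := fun q q' => by
        have h0 : g • (q + q') = (c q + c q') • q₀ := by rw [smul_add, hc q, hc q', add_smul]
        rw [key _ _ h0, map_add, mul_add]
      map_smul' := fun b q => by
        have h0 : g • (b • q) = (b * c q) • q₀ := by rw [smul_comm, hc q, mul_smul]
        rw [key _ _ h0, map_mul, RingHom.id_apply, Algebra.smul_def]
        ring }
  have hψ₀ : ψ₀ q₀ = 1 := by
    have h0 : g • q₀ = g • q₀ := rfl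
    change (↑u⁻¹ : A') * algebraMap A A' (c q₀) = 1
    rw [key _ _ h0, ← hu', Units.inv_mul]
  let Φ : (Q →ₗ[A] A') →ₗ[A'] A' :=
    { toFun := fun φ => φ q₀
      map_add' := fun _ _ => rfl
      map_smul' := fun _ _ => rfl }
  refine ⟨LinearEquiv.ofBijective Φ ⟨?_, ?_⟩⟩
  · rw [injective_iff_map_eq_zero]
    intro φ hφ
    change φ q₀ = 0 at hφ
    ext q
    have h0 : (u : A') * φ q = 0 := by
      rw [hu', ← Algebra.smul_def, ← map_smul, hc q, map_smul, hφ, smul_zero]
    exact (Units.mul_right_eq_zero u).mp h0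
  · intro a'
    refine ⟨a' • ψ₀, ?_⟩
    change a' • ψ₀ q₀ = a'
    rw [hψ₀, smul_eq_mul, mul_one]

/-- an algebra which is free of rank one as a module is the base ring. -/
theorem bijective_algebraMap_of_linearEquiv {A' : Type u} {B' : Type v} [CommRing A'] [CommRing B']
    [Algebra A' B'] (e : B' ≃ₗ[A'] A') : Function.Bijective (algebraMap A' B') := by
  have : Module.Invertible A' B' := Module.Invertible.congr e.symm
  have h := (Module.Invertible.algEquivOfRing A' B').bijective
  have h1 : ⇑(Module.Invertible.algEquivOfRing A' B') = ⇑(algebraMap A' B') := by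
    ext x
    exact Module.Invertible.algEquivOfRing_apply A' x
  rw [← h1]
  exact h

/-- **Main algebraic statement.** -/
theorem main [Module.Finite A Q]
    (h1 : Module.finrank K (Q →ₗ[A] K) = 1)
    (h2 : ∀ a : A, (∀ q : Q, a • q = 0) → a = 0) :
    ∃ g : A, algebraMap A K g ≠ 0 ∧
      ∀ (A' : Type u) [CommRing A'] [Algebra A A'], IsUnit (algebraMap A A' g) →
        ∀ (B' : Type u) [CommRing B'] [Algebra A' B'] (ε : B' ≃+ (Q →ₗ[A] A')),
          (∀ (a' : A') (b : B'), ε (algebraMap A' B' a' * b) = a' • ε b) →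
          Function.Bijective (algebraMap A' B') := by
  obtain ⟨g, q₀, hg, hgen, hann⟩ := exists_cyclic_data (K := K) h1 h2
  refine ⟨g, hg, ?_⟩
  intro A' _ _ hu B' _ _ ε hε
  obtain ⟨e⟩ := nonempty_linearEquiv_of_cyclic_data hgen hann A' hu
  let ε' : B' ≃ₗ[A'] (Q →ₗ[A] A') :=
    { ε with
      map_smul' := fun a' b => by
        change ε (a' • b) = a' • ε b
        rw [Algebra.smul_def]
        exact hε a' b }
  exact bijective_algebraMap_of_linearEquiv (ε'.trans e)

end Groth.Agent.R2.H16.CohFlat0Alg
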