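import Mathlib
import Groth.Agent.R2.H22SepCore

/-!
# The generic fibre over a prime: torsion lemmas (helper22)
-/

set_option autoImplicit false
set_option linter.style.haveILetI false
set_option linter.unusedSectionVars false
universe u

namespace Groth.Agent.R2.H22.FibK

open TensorProduct

section kerTors

variable {A : Type u} [CommRing A] (𝔭 : Ideal A) [𝔭.IsPrime] (K : Type u) [Field K] [Algebra A K]

/-- if `W` is killed by `𝔭` and `K` is a field over `A` with kernel `𝔭`, then the kernel of `W → K ⊗ W` is the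
`𝔭`-torsion. -/
theorem exists_smul_eq_zero_of_tmul_eq_zero (hK : RingHom.ker (algebraMap A K) = 𝔭)
    {W : Type u} [AddCommGroup W] [Module A W] (hW : ∀ a ∈ 𝔭, ∀ w : W, a • w = 0) (w : W)
    (h : (1 : K) ⊗ₜ[A] w = 0) : ∃ a : A, a ∉ 𝔭 ∧ a • w = 0 := by
  by_contra hne
  simp only [not_exists, not_and] at hne
  have htors : Module.IsTorsionBySet A W (𝔭 : Set A) := fun x a => hW a.1 a.2 x
  letI : Module (A ⧸ 𝔭) W := htors.module
  haveI : IsScalarTower A (A ⧸ 𝔭) W := htors.isScalarTower
  letI algDK : Algebra (A ⧸ 𝔭) K :=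
    (Ideal.Quotient.lift 𝔭 (algebraMap A K) (fun a ha => by rw [← hK] at ha; exact ha)).toAlgebra
  haveI : IsScalarTower A (A ⧸ 𝔭) K := .of_algebraMap_eq' rfl
  have hinj : Function.Injective (algebraMap (A ⧸ 𝔭) K) :=
    RingHom.lift_injective_of_ker_le_ideal 𝔭 _ (le_of_eq hK)
  haveI : FaithfulSMul (A ⧸ 𝔭) K := (faithfulSMul_iff_algebraMap_injective (A ⧸ 𝔭) K).2 hinj
  letI := FractionRing.liftAlgebra (A ⧸ 𝔭) K
  haveI : IsScalarTower (A ⧸ 𝔭) (FractionRing (A ⧸ 𝔭)) K :=
    FractionRing.isScalarTower_liftAlgebra (A ⧸ 𝔭) K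
  haveI : Module.Flat (A ⧸ 𝔭) K := Module.Flat.trans (A ⧸ 𝔭) (FractionRing (A ⧸ 𝔭)) K
  let j : (A ⧸ 𝔭) →ₗ[A ⧸ 𝔭] W := LinearMap.toSpanSingleton (A ⧸ 𝔭) W w
  have hj : Function.Injective j := by
    rw [← LinearMap.ker_eq_bot, eq_bot_iff]
    intro d hd
    obtain ⟨a, rfl⟩ := Ideal.Quotient.mk_surjective d
    rw [LinearMap.mem_ker, LinearMap.toSpanSingleton_apply] at hd
    have h1 : a • w = 0 := by
      rw [← hd]
      exact (algebraMap_smul (A ⧸ 𝔭) a w).symm
    rw [Submodule.mem_bot, Ideal.Quotient.eq_zero_iff_mem]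
    by_contra ha
    exact hne a ha h1
  have hinj2 := Module.Flat.lTensor_preserves_injective_linearMap (M := K) j hj
  have h0 : (1 : K) ⊗ₜ[A ⧸ 𝔭] (1 : A ⧸ 𝔭) = 0 := by
    apply hinj2
    rw [LinearMap.lTensor_tmul, map_zero, LinearMap.toSpanSingleton_apply, one_smul]
    have := congrArg (TensorProduct.mapOfCompatibleSMul (A ⧸ 𝔭) A A K W) h
    rwa [TensorProduct.mapOfCompatibleSMul_tmul, map_zero] at this
  have := congrArg (TensorProduct.rid (A ⧸ 𝔭) K) h0
  rw [TensorProduct.rid_tmul, one_smul, map_zero] at this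
  exact one_ne_zero this

end kerTors

section grK

variable {A : Type u} [CommRing A] {B : Type u} [CommRing B] [Algebra A B]
  {M : Type u} [AddCommGroup M] [Module B M] [Module A M] [IsScalarTower A B M] {ι : Type*}
  {N : ι → Type u} [∀ i, AddCommGroup (N i)] [∀ i, Module B (N i)] [∀ i, Module A (N i)]
  [∀ i, IsScalarTower A B (N i)] (u : ∀ i, M →ₗ[B] N i)

/-- the separating property of the family on the fibre `M ⊗[A] K`, tested against elements of `B`. -/
def FibKSep (K : Type u) [Field K] [Algebra A K] : Prop :=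
  ∀ (f : B) (z : M ⊗[A] K),
    (∀ i, ∃ n : ℕ, f ^ n • AlgebraTensorModule.rTensor A K (u i) z = 0) → ∃ n : ℕ, f ^ n • z = 0

section theta

variable (A) (K : Type u) [Field K] [Algebra A K] (V : Type u) [AddCommGroup V] [Module A V]
  (P : Type u) [AddCommGroup P] [Module B P] [Module A P] [IsScalarTower A B P]

/-- coordinates of `P ⊗[A] (K ⊗[A] V)` with respect to a `K`-basis of `K ⊗[A] V`. -/
noncomputable def theta :
    P ⊗[A] (K ⊗[A] V) ≃ₗ[B] (Module.Free.ChooseBasisIndex K (K ⊗[A] V) →₀ P ⊗[A] K) := by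
  classical
  exact (AlgebraTensorModule.congr (LinearEquiv.refl B P)
    ((Module.Free.chooseBasis K (K ⊗[A] V)).repr.restrictScalars A)) ≪≫ₗ
    (TensorProduct.finsuppRight A B P K (Module.Free.ChooseBasisIndex K (K ⊗[A] V)))

theorem theta_tmul (p : P) (q : K ⊗[A] V) (l : Module.Free.ChooseBasisIndex K (K ⊗[A] V)) :
    theta (B := B) A K V P (p ⊗ₜ q) l = p ⊗ₜ[A] ((Module.Free.chooseBasis K (K ⊗[A] V)).repr q l) := by
  classical
  simp only [theta, LinearEquiv.trans_apply, AlgebraTensorModule.congr_tmul,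
    LinearEquiv.refl_apply, LinearEquiv.restrictScalars_apply]
  exact TensorProduct.finsuppRight_apply_tmul_apply _ _ _

variable {P} {P' : Type u} [AddCommGroup P'] [Module B P'] [Module A P'] [IsScalarTower A B P']

theorem theta_natural (v : P →ₗ[B] P') (z : P ⊗[A] (K ⊗[A] V))
    (l : Module.Free.ChooseBasisIndex K (K ⊗[A] V)) :
    theta (B := B) A K V P' (AlgebraTensorModule.rTensor A (K ⊗[A] V) v z) l =
      AlgebraTensorModule.rTensor A K v (theta (B := B) A K V P z l) := by
  induction z using TensorProduct.induction_on with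
  | zero => simp
  | tmul p q =>
    rw [AlgebraTensorModule.rTensor_tmul, theta_tmul, theta_tmul, AlgebraTensorModule.rTensor_tmul]
  | add z₁ z₂ h₁ h₂ => simp only [map_add, Finsupp.add_apply, h₁, h₂]

end theta

section main

variable (𝔭 : Ideal A) [𝔭.IsPrime] (K : Type u) [Field K] [Algebra A K]
  {V : Type u} [AddCommGroup V] [Module A V]

theorem leftComm_lTensor_mk (w : M ⊗[A] V) :
    TensorProduct.leftComm A M K V
      (AlgebraTensorModule.lTensor B M (TensorProduct.mk A K V 1) w) = (1 : K) ⊗ₜ[A] w := by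
  induction w using TensorProduct.induction_on with
  | zero => simp
  | tmul m v => simp
  | add w₁ w₂ h₁ h₂ => simp only [map_add, TensorProduct.tmul_add, h₁, h₂]

theorem lTensor_rTensor_comm' {P P' : Type u} [AddCommGroup P] [Module B P] [Module A P]
    [IsScalarTower A B P] [AddCommGroup P'] [Module B P'] [Module A P'] [IsScalarTower A B P']
    {V' : Type u} [AddCommGroup V'] [Module A V'] (v : P →ₗ[B] P') (j : V →ₗ[A] V')
    (z : P ⊗[A] V) :
    AlgebraTensorModule.rTensor A V' v (AlgebraTensorModule.lTensor B P j z) =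
      AlgebraTensorModule.lTensor B P' j (AlgebraTensorModule.rTensor A V v z) := by
  induction z using TensorProduct.induction_on with
  | zero => simp
  | tmul p q => simp
  | add z₁ z₂ h₁ h₂ => simp only [map_add, h₁, h₂]

/-- **the graded step over the generic fibre**: for an `A`-module `V` killed by `𝔭`, an element of `M ⊗ V` whose
images are all `f`-power torsion is killed by some `a • f ^ n` with `a ∉ 𝔭`. -/
theorem exists_smul_pow_smul_eq_zero (hK : RingHom.ker (algebraMap A K) = 𝔭)
    (hfib : FibKSep (A := A) u K) (hV : ∀ a ∈ 𝔭, ∀ v : V, a • v = 0) (f : B) (y : M ⊗[A] V)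
    (hy : ∀ i, ∃ n : ℕ, f ^ n • AlgebraTensorModule.rTensor A V (u i) y = 0) :
    ∃ a : A, a ∉ 𝔭 ∧ ∃ n : ℕ, a • f ^ n • y = 0 := by
  classical
  set yK := AlgebraTensorModule.lTensor B M (TensorProduct.mk A K V 1) y with hyK
  -- the coordinates are `f`-power torsion
  have hc : ∀ l, ∃ n : ℕ, f ^ n • theta (B := B) A K V M yK l = 0 := by
    intro l
    apply hfib
    intro i
    obtain ⟨n, hn⟩ := hy i
    refine ⟨n, ?_⟩
    rw [← theta_natural (B := B) A K V (u i), hyK, lTensor_rTensor_comm', ← Finsupp.smul_apply,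
      ← map_smul, ← map_smul, hn, map_zero, map_zero, Finsupp.zero_apply]
  choose k hk using hc
  set c := theta (B := B) A K V M yK with hcdef
  have hcz : f ^ (c.support.sup k) • c = 0 := by
    ext l
    rw [Finsupp.smul_apply, Finsupp.zero_apply]
    by_cases hl : l ∈ c.support
    · have hle : k l ≤ c.support.sup k := Finset.le_sup hl
      obtain ⟨d, hd⟩ := Nat.exists_eq_add_of_le hle
      rw [hd, pow_add, mul_comm, mul_smul, hk l, smul_zero]
    · rw [Finsupp.notMem_support_iff.1 hl, smul_zero]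
  have h1 : f ^ (c.support.sup k) • yK = 0 := by
    apply (theta (B := B) A K V M).injective
    rw [map_smul, map_zero]
    exact hcz
  have h2 : (1 : K) ⊗ₜ[A] (f ^ (c.support.sup k) • y) = 0 := by
    rw [← leftComm_lTensor_mk (B := B), map_smul, ← hyK, h1, map_zero]
  have hW : ∀ a ∈ 𝔭, ∀ w : M ⊗[A] V, a • w = 0 := by
    intro a ha w
    induction w using TensorProduct.induction_on with
    | zero => simp
    | tmul m v => rw [← TensorProduct.tmul_smul, hV a ha v, TensorProduct.tmul_zero]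
    | add w₁ w₂ h₁ h₂ => rw [smul_add, h₁, h₂, add_zero]
  obtain ⟨a, ha, haw⟩ := exists_smul_eq_zero_of_tmul_eq_zero 𝔭 K hK hW _ h2
  exact ⟨a, ha, c.support.sup k, haw⟩

end main

end grK

end Groth.Agent.R2.H22.FibK
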