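import Mathlib
import Groth.Agent.R2.H22SepCore

/-!
# Separating families and flat base change: the Noetherian case (helper22)

`eq_zero_of_noetherian`: `A` Noetherian, `B` a flat `A`-algebra of finite type, `u i : M → N i` a separating family.
Then an element of `B ⊗ M` killed by all `B ⊗ u i` is zero.
-/

set_option autoImplicit false
universe u

namespace Groth.Agent.R2.H22.SepNoeth

open TensorProduct Groth.Agent.R2.H22.SepCore

section changeOfRings

variable (A : Type u) [CommRing A] (R : Type u) [CommRing R] [Algebra A R]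
  (B : Type u) [AddCommGroup B] [Module A B]
  (M' : Type u) [AddCommGroup M'] [Module A M'] [Module R M'] [IsScalarTower A R M']

/-- `B ⊗[A] M' ≃ (R ⊗[A] B) ⊗[R] M'` for an `R`-module `M'`. -/
noncomputable def crEquiv : B ⊗[A] M' ≃ₗ[A] (R ⊗[A] B) ⊗[R] M' :=
  (TensorProduct.comm A B M') ≪≫ₗ
    ((TensorProduct.AlgebraTensorModule.cancelBaseChange A R R M' B).symm.restrictScalars A) ≪≫ₗ
    ((TensorProduct.comm R M' (R ⊗[A] B)).restrictScalars A)

theorem crEquiv_tmul (b : B) (m : M') :
    crEquiv A R B M' (b ⊗ₜ m) = ((1 : R) ⊗ₜ[A] b) ⊗ₜ[R] m := by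
  simp [crEquiv]

variable {M'} {N' : Type u} [AddCommGroup N'] [Module A N'] [Module R N'] [IsScalarTower A R N']

theorem crEquiv_lTensor (v : M' →ₗ[R] N') (y : B ⊗[A] M') :
    crEquiv A R B N' ((v.restrictScalars A).lTensor B y) =
      v.lTensor (R ⊗[A] B) (crEquiv A R B M' y) := by
  induction y using TensorProduct.induction_on with
  | zero => simp
  | tmul b m =>
    rw [LinearMap.lTensor_tmul, crEquiv_tmul, crEquiv_tmul, LinearMap.lTensor_tmul]
    rfl
  | add y₁ y₂ h₁ h₂ => simp only [map_add, h₁, h₂]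

end changeOfRings

section torsion

variable {A : Type u} [CommRing A] {B : Type u} [AddCommGroup B] [Module A B]
  {M : Type u} [AddCommGroup M] [Module A M]

/-- flat base change commutes with torsion by a finitely generated ideal -/
theorem mem_range_lTensor_torsionBySet [Module.Flat A B] (p : Ideal A) (hp : p.FG) (y : B ⊗[A] M)
    (hy : ∀ a ∈ p, a • y = 0) :
    y ∈ LinearMap.range ((Submodule.torsionBySet A M (p : Set A)).subtype.lTensor B) := by
  classical
  obtain ⟨s, hs⟩ := hp
  let ψ : M →ₗ[A] (s → M) := LinearMap.pi fun a => (a : A) • (LinearMap.id : M →ₗ[A] M)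
  have hker : Submodule.torsionBySet A M (p : Set A) = LinearMap.ker ψ := by
    rw [← hs, ← Submodule.torsionBySet_eq_torsionBySet_span]
    ext m
    rw [Submodule.mem_torsionBySet_iff, LinearMap.mem_ker]
    constructor
    · intro h
      ext a
      exact h ⟨a.1, a.2⟩
    · intro h a
      have := congrFun h ⟨a.1, a.2⟩
      exact this
  rw [hker]
  have hex : Function.Exact (LinearMap.ker ψ).subtype ψ := LinearMap.exact_subtype_ker_map ψ
  have hex' := Module.Flat.lTensor_exact B hex
  rw [← LinearMap.exact_iff.1 hex', LinearMap.mem_ker]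
  apply (TensorProduct.piRight A A B (fun _ : s => M)).injective
  rw [map_zero]
  have key : ∀ z : B ⊗[A] M, TensorProduct.piRight A A B (fun _ : s => M) (ψ.lTensor B z) =
      fun a : s => (a : A) • z := by
    intro z
    induction z using TensorProduct.induction_on with
    | zero =>
      ext a
      simp
    | tmul b m =>
      rw [LinearMap.lTensor_tmul, TensorProduct.piRight_apply, TensorProduct.piRightHom_tmul]
      ext a
      rw [TensorProduct.smul_tmul', TensorProduct.smul_tmul]
      rfl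
    | add z₁ z₂ h₁ h₂ =>
      rw [map_add, map_add, h₁, h₂]
      ext a
      simp
  rw [key]
  ext a
  exact hy a (hs ▸ Ideal.subset_span a.2)

end torsion

section main

variable {A : Type u} [CommRing A] {B : Type u} [AddCommGroup B] [Module A B]
  {M : Type u} [AddCommGroup M] [Module A M] {ι : Type*}
  {N : ι → Type u} [∀ i, AddCommGroup (N i)] [∀ i, Module A (N i)]

/-- the kernel of `u ∘ incl` on the `p`-torsion, as a submodule over `A ⧸ p`. -/
def kerTors (p : Ideal A) {N₀ : Type u} [AddCommGroup N₀] [Module A N₀] (v : M →ₗ[A] N₀) :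
    Submodule (A ⧸ p) (Submodule.torsionBySet A M (p : Set A)) where
  carrier := {m | v m.1 = 0}
  add_mem' := by
    intro a b ha hb
    simp only [Set.mem_ofPred_eq] at ha hb ⊢
    rw [Submodule.coe_add, map_add, ha, hb, add_zero]
  zero_mem' := by simp
  smul_mem' := by
    intro r m hm
    obtain ⟨a, rfl⟩ := Ideal.Quotient.mk_surjective r
    simp only [Set.mem_ofPred_eq] at hm ⊢
    rw [Submodule.torsionBySet.mk_smul, Submodule.coe_smul, map_smul, hm, smul_zero]

theorem mem_kerTors (p : Ideal A) {N₀ : Type u} [AddCommGroup N₀] [Module A N₀] (v : M →ₗ[A] N₀)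
    (m : Submodule.torsionBySet A M (p : Set A)) : m ∈ kerTors p v ↔ v m.1 = 0 := Iff.rfl

/-- **Noetherian case.** -/
theorem eq_zero_of_noetherian [IsNoetherianRing A] [Module.Flat A B]
    (hB : ∀ p : Ideal A, p.IsPrime → ∃ f : A, f ∉ p ∧
      Groth.Agent.Lib.Helper2.GenFree.FreeAway (A ⧸ p) (Ideal.Quotient.mk p f) ((A ⧸ p) ⊗[A] B))
    (u : ∀ i, M →ₗ[A] N i) (hu : SepMaps A u) (x : B ⊗[A] M)
    (hx : ∀ i, (u i).lTensor B x = 0) : x = 0 := by
  classical
  by_contra hx0
  let Z : Submodule A (B ⊗[A] M) := ⨅ i, LinearMap.ker ((u i).lTensor B)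
  have hxZ : x ∈ Z := by
    rw [Submodule.mem_iInf]
    intro i
    exact LinearMap.mem_ker.2 (hx i)
  haveI : Nontrivial Z := ⟨⟨⟨x, hxZ⟩, 0, fun h => hx0 (congrArg Subtype.val h)⟩⟩
  obtain ⟨p, hp⟩ := associatedPrimes.nonempty A Z
  obtain ⟨hpprime, ⟨y, hyZ⟩, hpy⟩ := (isAssociatedPrime_iff).1 hp
  have hmem : ∀ a, a ∈ p ↔ a • y = 0 := by
    intro a
    rw [hpy, Submodule.mem_colon_singleton, Submodule.mem_bot]
    constructor
    · intro h
      exact congrArg Subtype.val h
    · intro h
      exact Subtype.ext h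
  have hyi : ∀ i, (u i).lTensor B y = 0 := by
    intro i
    exact LinearMap.mem_ker.1 ((Submodule.mem_iInf _).1 hyZ i)
  obtain ⟨y', hy'⟩ := mem_range_lTensor_torsionBySet p (IsNoetherian.noetherian p) y
    (fun a ha => (hmem a).1 ha)
  -- notation
  let K : ι → Submodule (A ⧸ p) (Submodule.torsionBySet A M (p : Set A)) :=
    fun i => kerTors p (u i)
  let u' : ∀ i, (Submodule.torsionBySet A M (p : Set A)) →ₗ[A ⧸ p]
      ((Submodule.torsionBySet A M (p : Set A)) ⧸ K i) := fun i => (K i).mkQ
  have hu' : SepMaps (A ⧸ p) u' := by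
    intro fb m hm
    obtain ⟨f, rfl⟩ := Ideal.Quotient.mk_surjective fb
    have h1 : ∀ i, ∃ n : ℕ, f ^ n • u i m.1 = 0 := by
      intro i
      obtain ⟨n, hn⟩ := hm i
      refine ⟨n, ?_⟩
      have h2 : (Ideal.Quotient.mk p f) ^ n • m ∈ K i := by
        rw [← map_smul] at hn
        exact (Submodule.Quotient.mk_eq_zero _).1 hn
      rw [← map_pow, Submodule.torsionBySet.mk_smul] at h2
      have h3 := (mem_kerTors p (u i) _).1 h2
      rwa [Submodule.coe_smul, map_smul] at h3
    obtain ⟨n, hn⟩ := hu f m.1 h1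
    refine ⟨n, ?_⟩
    rw [← map_pow, Submodule.torsionBySet.mk_smul]
    exact Subtype.ext hn
  -- the image of `y'` in `(A/p ⊗ B) ⊗ M'` is killed by all `u' i`
  have hy'u : ∀ i, (u' i).lTensor ((A ⧸ p) ⊗[A] B)
      (crEquiv A (A ⧸ p) B (Submodule.torsionBySet A M (p : Set A)) y') = 0 := by
    intro i
    rw [← crEquiv_lTensor]
    suffices h : ((u' i).restrictScalars A).lTensor B y' = 0 by rw [h, map_zero]
    let w : (Submodule.torsionBySet A M (p : Set A)) →ₗ[A] N i :=
      (u i).comp (Submodule.torsionBySet A M (p : Set A)).subtype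
    have hw : w.lTensor B y' = 0 := by
      rw [LinearMap.lTensor_comp, LinearMap.comp_apply, hy', hyi i]
    have hex : Function.Exact (LinearMap.ker w).subtype w := LinearMap.exact_subtype_ker_map w
    have hex' := Module.Flat.lTensor_exact B hex
    obtain ⟨z, rfl⟩ := (hex' y').1 hw
    rw [← LinearMap.comp_apply, ← LinearMap.lTensor_comp]
    have hz : ((u' i).restrictScalars A).comp (LinearMap.ker w).subtype = 0 := by
      ext m
      simp only [LinearMap.comp_apply, Submodule.subtype_apply, LinearMap.restrictScalars_apply,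
        LinearMap.zero_apply]
      exact (Submodule.Quotient.mk_eq_zero _).2 ((mem_kerTors p (u i) _).2 (LinearMap.mem_ker.1 m.2))
    rw [hz, LinearMap.lTensor_zero, LinearMap.zero_apply]
  obtain ⟨f, hfp, hfree⟩ := hB p hpprime
  obtain ⟨n, hn⟩ := exists_pow_smul_eq_zero_of_freeAway (Ideal.Quotient.mk p f) hfree u' hu'
    (crEquiv A (A ⧸ p) B (Submodule.torsionBySet A M (p : Set A)) y') hy'u
  apply hfp
  apply hpprime.mem_of_pow_mem n
  rw [hmem, ← hy', ← map_smul]
  suffices h : f ^ n • y' = 0 by rw [h, map_zero]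
  apply (crEquiv A (A ⧸ p) B (Submodule.torsionBySet A M (p : Set A))).injective
  rw [map_smul, map_zero, ← hn, ← map_pow]
  exact (algebraMap_smul (A ⧸ p) (f ^ n) _).symm

end main

end Groth.Agent.R2.H22.SepNoeth
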