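import Mathlib
import Groth.Agent.Lib.Helper3FlatDescE
import Groth.Agent.Lib.Helper2GenFree2
import Groth.Agent.R2.H22SepNoeth

/-!
# Separating families and flat base change of finite presentation (helper22)

`eq_zero_of_flat_finitePresentation`: `B` a flat `A`-algebra of finite presentation, `u i : M → N i` a separating family
(sheaf sense). Then an element of `B ⊗ M` killed by all `B ⊗ u i` is zero.  (EGA IV 11.9/11.10, flat lfp base change.)
-/

set_option autoImplicit false
set_option linter.style.haveILetI false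
set_option linter.unusedSectionVars false
universe u

namespace Groth.Agent.R2.H22.SepFlat

open TensorProduct MvPolynomial
open Groth.Agent.R2.H22.SepCore Groth.Agent.R2.H22.SepNoeth
open Groth.Agent.Lib.Helper3.FlatOpen Groth.Agent.Lib.Helper3.FlatDesc Groth.Agent.Lib.Helper3.FlatLoc
open Groth.Agent.Lib.Helper2.GenFree

attribute [local instance] MvPolynomial.algebraMvPolynomial

section model

variable {Λ : Type u} [CommRing Λ]
  {σ ι κ : Type} [Finite σ] [Fintype ι] [DecidableEq ι] [Fintype κ]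
  (w : κ → ι → MvPolynomial σ Λ)

/-- generic freeness of the presented module modulo a prime -/
theorem model_freeAway (A : Type u) [CommRing A] [Algebra Λ A] (p : Ideal A) [p.IsPrime] :
    ∃ f : A, f ∉ p ∧ FreeAway (A ⧸ p) (Ideal.Quotient.mk p f)
      ((A ⧸ p) ⊗[A] ((ι → MvPolynomial σ A) ⧸ KT w (MvPolynomial σ A))) := by
  obtain ⟨e⟩ := nonempty_tensor_equiv_model (Λ := Λ) (A₀ := A) (T := A ⧸ p) w
    (LinearEquiv.refl (MvPolynomial σ A) ((ι → MvPolynomial σ A) ⧸ KT w (MvPolynomial σ A)))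
  obtain ⟨fb, hfb, -, hM, -⟩ := exists_freeAway (A ⧸ p) (MvPolynomial σ (A ⧸ p))
    ((ι → MvPolynomial σ (A ⧸ p)) ⧸ KT w (MvPolynomial σ (A ⧸ p)))
  obtain ⟨f, rfl⟩ := Ideal.Quotient.mk_surjective fb
  exact ⟨f, fun h => hfb (Ideal.Quotient.eq_zero_iff_mem.2 h), hM.of_linearEquiv e.symm⟩

end model

section transfer

variable {A'' : Type u} [CommRing A''] {A : Type u} [CommRing A] [Algebra A'' A]
  {P : Type u} [AddCommGroup P] [Module A'' P]
  {Q : Type u} [AddCommGroup Q] [Module A Q] [Module A'' Q] [IsScalarTower A'' A Q]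
  {M : Type u} [AddCommGroup M] [Module A M] [Module A'' M] [IsScalarTower A'' A M]
  {N₀ : Type u} [AddCommGroup N₀] [Module A N₀] [Module A'' N₀] [IsScalarTower A'' A N₀]
  {j : P →ₗ[A''] Q} (hj : IsBaseChange A j)

/-- `P ⊗[A''] M ≃ Q ⊗[A] M` when `Q = A ⊗[A''] P`. -/
noncomputable def bcEquiv (M : Type u) [AddCommGroup M] [Module A M] [Module A'' M]
    [IsScalarTower A'' A M] : P ⊗[A''] M ≃ₗ[A''] Q ⊗[A] M :=
  (crEquiv A'' A P M) ≪≫ₗ ((LinearEquiv.rTensor M hj.equiv).restrictScalars A'')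

theorem bcEquiv_tmul (p : P) (m : M) : bcEquiv hj M (p ⊗ₜ m) = j p ⊗ₜ[A] m := by
  simp [bcEquiv, crEquiv_tmul, IsBaseChange.equiv_tmul]

theorem bcEquiv_lTensor (v : M →ₗ[A] N₀) (y : P ⊗[A''] M) :
    bcEquiv hj N₀ ((v.restrictScalars A'').lTensor P y) = v.lTensor Q (bcEquiv hj M y) := by
  induction y using TensorProduct.induction_on with
  | zero => simp
  | tmul b m =>
    rw [LinearMap.lTensor_tmul, bcEquiv_tmul, bcEquiv_tmul, LinearMap.lTensor_tmul]
    rfl
  | add y₁ y₂ h₁ h₂ => simp only [map_add, h₁, h₂]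

end transfer

section main

variable {A : Type u} [CommRing A]
  {M : Type u} [AddCommGroup M] [Module A M] {ι : Type*}
  {N : ι → Type u} [∀ i, AddCommGroup (N i)] [∀ i, Module A (N i)]

theorem rTensor_lTensor_comm {B Q N₀ : Type u} [AddCommGroup B] [Module A B] [AddCommGroup Q] [Module A Q]
    [AddCommGroup N₀] [Module A N₀] (e : B ≃ₗ[A] Q) (v : M →ₗ[A] N₀) (x : B ⊗[A] M) :
    v.lTensor Q ((LinearEquiv.rTensor M e) x) = (LinearEquiv.rTensor N₀ e) (v.lTensor B x) := by
  induction x using TensorProduct.induction_on with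
  | zero => simp
  | tmul b m => simp
  | add y₁ y₂ h₁ h₂ => simp only [map_add, h₁, h₂]

/-- transfer of the injectivity property along a linear equivalence. -/
theorem eq_zero_of_equiv {B Q : Type u} [AddCommGroup B] [Module A B] [AddCommGroup Q] [Module A Q]
    (e : B ≃ₗ[A] Q) (u : ∀ i, M →ₗ[A] N i)
    (hQ : ∀ y : Q ⊗[A] M, (∀ i, (u i).lTensor Q y = 0) → y = 0)
    (x : B ⊗[A] M) (hx : ∀ i, (u i).lTensor B x = 0) : x = 0 := by
  have h1 : (LinearEquiv.rTensor M e) x = 0 := by
    apply hQ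
    intro i
    rw [rTensor_lTensor_comm, hx i, map_zero]
  exact (LinearEquiv.rTensor M e).injective (by rw [h1, map_zero])

/-- transfer of the injectivity property along a base change. -/
theorem eq_zero_of_isBaseChange {A'' : Type u} [CommRing A''] [Algebra A'' A]
    {P : Type u} [AddCommGroup P] [Module A'' P]
    {Q : Type u} [AddCommGroup Q] [Module A Q] [Module A'' Q] [IsScalarTower A'' A Q]
    [Module A'' M] [IsScalarTower A'' A M]
    [∀ i, Module A'' (N i)] [∀ i, IsScalarTower A'' A (N i)]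
    {j : P →ₗ[A''] Q} (hj : IsBaseChange A j) (u : ∀ i, M →ₗ[A] N i)
    (hP : ∀ y : P ⊗[A''] M, (∀ i, ((u i).restrictScalars A'').lTensor P y = 0) → y = 0)
    (x : Q ⊗[A] M) (hx : ∀ i, (u i).lTensor Q x = 0) : x = 0 := by
  have hy : ∀ i, ((u i).restrictScalars A'').lTensor P ((bcEquiv hj M).symm x) = 0 := by
    intro i
    apply (bcEquiv hj (N i)).injective
    rw [bcEquiv_lTensor, LinearEquiv.apply_symm_apply, hx i, map_zero]
  have := congrArg (bcEquiv hj M) (hP _ hy)
  rwa [LinearEquiv.apply_symm_apply, map_zero] at this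

set_option maxHeartbeats 1600000 in
/-- **Flat base change of finite presentation preserves separating families** (EGA IV 11.9.10-type). -/
theorem eq_zero_of_flat_finitePresentation {B : Type u} [CommRing B] [Algebra A B]
    [Algebra.FinitePresentation A B] [Module.Flat A B]
    (u : ∀ i, M →ₗ[A] N i) (hu : SepMaps A u) (x : B ⊗[A] M)
    (hx : ∀ i, (u i).lTensor B x = 0) : x = 0 := by
  obtain ⟨n, k, m, Λ, hΛ, w, hT⟩ := exists_model_tensor A B B
  haveI : Algebra.FiniteType ℤ Λ := (Subalgebra.fg_iff_finiteType Λ).mp hΛ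
  haveI : IsNoetherianRing Λ := Algebra.FiniteType.isNoetherianRing ℤ Λ
  obtain ⟨eA⟩ := hT A
  let e₁ : B ≃ₗ[A] ((Fin k → MvPolynomial (Fin n) A) ⧸ KT w (MvPolynomial (Fin n) A)) :=
    (TensorProduct.lid A B).symm ≪≫ₗ eA
  have hflat' : Module.Flat A ((Fin k → MvPolynomial (Fin n) A) ⧸
      KT w (MvPolynomial (Fin n) A)) := Module.Flat.of_linearEquiv e₁.symm
  obtain ⟨A'', hA''fg, -, hA''flat⟩ := exists_fg_subalgebra_flat_global w hflat' ∅
  haveI : Algebra.FiniteType Λ A'' := (Subalgebra.fg_iff_finiteType A'').mp hA''fg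
  haveI : IsNoetherianRing A'' := Algebra.FiniteType.isNoetherianRing Λ A''
  haveI := isScalarTower_mvPolynomial (σ := Fin n) Λ A'' A
  have hb : IsBaseChange A ((Mmap w (MvPolynomial (Fin n) A'') (MvPolynomial (Fin n) A)).restrictScalars A'') :=
    isBaseChange_restrictScalars_of_isPushout _ (isBaseChange_Mmap w _ _)
  have hu'' : SepMaps A'' (fun i => (u i).restrictScalars A'') := by
    intro f m hm
    exact hu (f : A) m hm
  refine eq_zero_of_equiv e₁ u ?_ x hx
  refine eq_zero_of_isBaseChange hb u ?_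
  exact eq_zero_of_noetherian (fun p hp => model_freeAway w A'' p)
    (fun i => (u i).restrictScalars A'') hu''

end main

end Groth.Agent.R2.H22.SepFlat
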