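import Mathlib
import Groth.Agent.R2.H22SepFlat

/-!
# Separating families under base change: `SepMaps` versions (helper22)

* `eq_zero_of_sepMaps_away`: `SepMaps R u` gives joint injectivity on `S ⊗ M` for `S = R_f`.
* `sepMaps_baseChange_of_flat_fp`: `SepMaps` is stable under flat base change of finite presentation.
-/

set_option autoImplicit false
set_option linter.style.haveILetI false
set_option linter.unusedSectionVars false
universe u

namespace Groth.Agent.R2.H22.SepBC

open TensorProduct
open Groth.Agent.R2.H22.SepCore Groth.Agent.R2.H22.SepFlat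

section away

variable {R : Type u} [CommRing R] {M : Type u} [AddCommGroup M] [Module R M] {ι : Type*}
  {N : ι → Type u} [∀ i, AddCommGroup (N i)] [∀ i, Module R (N i)]

/-- `SepMaps` gives joint injectivity after localizing away from an element. -/
theorem eq_zero_of_sepMaps_away (u : ∀ i, M →ₗ[R] N i) (hu : SepMaps R u) (f : R)
    (S : Type u) [CommRing S] [Algebra R S] [IsLocalization.Away f S]
    (y : S ⊗[R] M) (hy : ∀ i, (u i).lTensor S y = 0) : y = 0 := by
  haveI hM : IsLocalizedModule (Submonoid.powers f) (TensorProduct.mk R S M 1) :=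
    IsLocalization.tensorProduct_isLocalizedModule (Submonoid.powers f) S
  obtain ⟨⟨m, s⟩, hms⟩ := IsLocalizedModule.surj (Submonoid.powers f) (TensorProduct.mk R S M 1) y
  obtain ⟨n, hn⟩ := s.2
  have hms' : f ^ n • y = (1 : S) ⊗ₜ[R] m := by
    have : s • y = f ^ n • y := by rw [Submonoid.smul_def, ← hn]
    rw [← this, hms]; rfl
  have h1 : ∀ i, ∃ k : ℕ, f ^ k • u i m = 0 := by
    intro i
    haveI hN : IsLocalizedModule (Submonoid.powers f) (TensorProduct.mk R S (N i) 1) :=
      IsLocalization.tensorProduct_isLocalizedModule (Submonoid.powers f) S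
    have h0 : TensorProduct.mk R S (N i) 1 (u i m) = 0 := by
      have := congrArg ((u i).lTensor S) hms'
      rw [map_smul, hy i, smul_zero, LinearMap.lTensor_tmul] at this
      exact this.symm
    obtain ⟨⟨_, k, rfl⟩, hk⟩ :=
      (IsLocalizedModule.eq_zero_iff (Submonoid.powers f) (TensorProduct.mk R S (N i) 1)).1 h0
    exact ⟨k, hk⟩
  obtain ⟨k, hk⟩ := hu f m h1
  have h2 : f ^ (k + n) • y = 0 := by
    rw [pow_add, mul_smul, hms', ← TensorProduct.tmul_smul, hk, TensorProduct.tmul_zero]
  have hunit : IsUnit (algebraMap R S (f ^ (k + n))) := by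
    rw [map_pow]
    exact (IsLocalization.Away.algebraMap_isUnit f).pow _
  have h3 : algebraMap R S (f ^ (k + n)) • y = 0 := by
    rw [algebraMap_smul]; exact h2
  exact (hunit.smul_eq_zero).1 h3

end away

section flatfp

variable {B : Type u} [CommRing B] {M : Type u} [AddCommGroup M] [Module B M] {ι : Type*}
  {N : ι → Type u} [∀ i, AddCommGroup (N i)] [∀ i, Module B (N i)]

theorem rTensor_lTensor_comm' {B' S : Type u} [CommRing B'] [Algebra B B'] [CommRing S] [Algebra B S]
    [Algebra B' S] [IsScalarTower B B' S] {N₀ : Type u} [AddCommGroup N₀] [Module B N₀]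
    (v : M →ₗ[B] N₀) (y : B' ⊗[B] M) :
    v.lTensor S (AlgebraTensorModule.rTensor B M (Algebra.linearMap B' S) y) =
      AlgebraTensorModule.rTensor B N₀ (Algebra.linearMap B' S) (v.lTensor B' y) := by
  induction y using TensorProduct.induction_on with
  | zero => simp
  | tmul b m => simp
  | add y₁ y₂ h₁ h₂ => simp only [map_add, h₁, h₂]

/-- `SepMaps` is stable under flat base change of finite presentation. -/
theorem sepMaps_baseChange_of_flat_fp (B' : Type u) [CommRing B'] [Algebra B B']
    [Algebra.FinitePresentation B B'] [Module.Flat B B']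
    (u : ∀ i, M →ₗ[B] N i) (hu : SepMaps B u) :
    SepMaps B' (fun i => (u i).baseChange B') := by
  intro f y hy
  haveI : Module.Flat B (Localization.Away f) := Module.Flat.trans B B' (Localization.Away f)
  haveI : Algebra.FinitePresentation B (Localization.Away f) :=
    Algebra.FinitePresentation.trans B B' (Localization.Away f)
  haveI hG : IsLocalizedModule (Submonoid.powers f)
      (AlgebraTensorModule.rTensor B M (Algebra.linearMap B' (Localization.Away f))) :=
    IsLocalizedModule.rTensor B' (Submonoid.powers f) _
  have h0 : AlgebraTensorModule.rTensor B M (Algebra.linearMap B' (Localization.Away f)) y = 0 := by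
    apply eq_zero_of_flat_finitePresentation u hu
    intro i
    obtain ⟨n, hn⟩ := hy i
    rw [rTensor_lTensor_comm']
    have h1 := congrArg
      (AlgebraTensorModule.rTensor B (N i) (Algebra.linearMap B' (Localization.Away f))) hn
    rw [map_smul, map_zero, LinearMap.baseChange_eq_ltensor] at h1
    have hunit : IsUnit (algebraMap B' (Localization.Away f) (f ^ n)) := by
      rw [map_pow]
      exact (IsLocalization.Away.algebraMap_isUnit f).pow _
    rw [← algebraMap_smul (Localization.Away f)] at h1
    exact (hunit.smul_eq_zero).1 h1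
  obtain ⟨⟨_, k, rfl⟩, hk⟩ := (IsLocalizedModule.eq_zero_iff (Submonoid.powers f)
    (AlgebraTensorModule.rTensor B M (Algebra.linearMap B' (Localization.Away f)))).1 h0
  exact ⟨k, hk⟩

end flatfp

end Groth.Agent.R2.H22.SepBC
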