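import Mathlib
import Groth.Agent.R2.H22SepBC

/-!
# Separating families under arbitrary base change: passage to the limit (helper22)

* `sepMaps_baseChange_of_fg`: for `A`-flat `N i`, `SepMaps` over `B ⊗[A] A'` follows from `SepMaps` over
  `B ⊗[A] A'₀` for all finitely generated subalgebras `A'₀ ⊆ A'`.
* `sepMaps_baseChange_field`: over a field `k`, `SepMaps B u` implies `SepMaps (B ⊗[k] C) (u ⊗ C)` for every `k`-algebra `C`.
-/

set_option autoImplicit false
set_option linter.style.haveILetI false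
set_option linter.unusedSectionVars false
universe u

namespace Groth.Agent.R2.H22.SepLim

open TensorProduct
open Groth.Agent.R2.H22.SepCore Groth.Agent.R2.H22.SepBC

section iso

variable (A : Type u) [CommRing A] (B : Type u) [CommRing B] [Algebra A B]
  (C : Type u) [CommRing C] [Algebra A C]
  (N : Type u) [AddCommGroup N] [Module B N] [Module A N] [IsScalarTower A B N]

/-- `(B ⊗[A] C) ⊗[B] N ≃ N ⊗[A] C`. -/
noncomputable def eC : (B ⊗[A] C) ⊗[B] N ≃ₗ[B] N ⊗[A] C :=
  (TensorProduct.comm B (B ⊗[A] C) N) ≪≫ₗ (AlgebraTensorModule.cancelBaseChange A B B N C)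

theorem eC_tmul (b : B) (c : C) (n : N) : eC A B C N ((b ⊗ₜ[A] c) ⊗ₜ[B] n) = (b • n) ⊗ₜ[A] c := by
  simp [eC]

variable {C} {C' : Type u} [CommRing C'] [Algebra A C']

theorem eC_natural (φ : C →ₐ[A] C') (z : (B ⊗[A] C) ⊗[B] N) :
    eC A B C' N ((Algebra.TensorProduct.map (AlgHom.id B B) φ).toLinearMap.rTensor N z) =
      φ.toLinearMap.lTensor N (eC A B C N z) := by
  induction z using TensorProduct.induction_on with
  | zero => simp
  | tmul r n =>
    induction r using TensorProduct.induction_on with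
    | zero => simp
    | tmul b c =>
      rw [LinearMap.rTensor_tmul, AlgHom.toLinearMap_apply, Algebra.TensorProduct.map_tmul,
        eC_tmul, eC_tmul, LinearMap.lTensor_tmul]
      rfl
    | add r₁ r₂ h₁ h₂ =>
      rw [TensorProduct.add_tmul, map_add, map_add, h₁, h₂, map_add, map_add]
  | add z₁ z₂ h₁ h₂ => simp only [map_add, h₁, h₂]

/-- for `A`-flat `N`, the map `(B ⊗ C) ⊗_B N → (B ⊗ C') ⊗_B N` is injective when `C → C'` is. -/
theorem rTensor_map_injective [Module.Flat A N] (φ : C →ₐ[A] C') (hφ : Function.Injective φ) :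
    Function.Injective
      ((Algebra.TensorProduct.map (AlgHom.id B B) φ).toLinearMap.rTensor N) := by
  intro z₁ z₂ h
  apply (eC A B C N).injective
  apply Module.Flat.lTensor_preserves_injective_linearMap (M := N) φ.toLinearMap hφ
  rw [← eC_natural, ← eC_natural, h]

end iso

section lim

variable {A : Type u} [CommRing A] {B : Type u} [CommRing B] [Algebra A B]
  {M : Type u} [AddCommGroup M] [Module B M]
  (A' : Type u) [CommRing A'] [Algebra A A']

/-- the map `B ⊗ C → B ⊗ A'` for a subalgebra `C` of `A'`. -/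
noncomputable abbrev jC (C : Subalgebra A A') : (B ⊗[A] C) →ₐ[B] (B ⊗[A] A') :=
  Algebra.TensorProduct.map (AlgHom.id B B) C.val

variable {A'}

theorem jC_comp {C C' : Subalgebra A A'} (h : C ≤ C') (x : B ⊗[A] C) :
    jC (B := B) A' C' (Algebra.TensorProduct.map (AlgHom.id B B) (Subalgebra.inclusion h) x) =
      jC A' C x := by
  induction x using TensorProduct.induction_on with
  | zero => simp
  | tmul b c => simp
  | add x₁ x₂ h₁ h₂ => simp only [map_add, h₁, h₂]

theorem jC_rTensor_comp {C C' : Subalgebra A A'} (h : C ≤ C') (z : (B ⊗[A] C) ⊗[B] M) :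
    (jC (B := B) A' C').toLinearMap.rTensor M
      ((Algebra.TensorProduct.map (AlgHom.id B B) (Subalgebra.inclusion h)).toLinearMap.rTensor M z) =
      (jC A' C).toLinearMap.rTensor M z := by
  induction z using TensorProduct.induction_on with
  | zero => simp
  | tmul r m =>
    rw [LinearMap.rTensor_tmul, LinearMap.rTensor_tmul, LinearMap.rTensor_tmul,
      AlgHom.toLinearMap_apply, AlgHom.toLinearMap_apply, AlgHom.toLinearMap_apply, jC_comp]
  | add z₁ z₂ h₁ h₂ => simp only [map_add, h₁, h₂]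

theorem exists_fg_mem_range (r : B ⊗[A] A') :
    ∃ C : Subalgebra A A', C.FG ∧ ∃ r₀ : B ⊗[A] C, jC A' C r₀ = r := by
  induction r using TensorProduct.induction_on with
  | zero => exact ⟨⊥, Subalgebra.fg_bot, 0, map_zero _⟩
  | tmul b a =>
    have hfg : (Algebra.adjoin A ({a} : Set A')).FG := by
      have := Subalgebra.fg_adjoin_finset (R := A) ({a} : Finset A')
      simpa using this
    exact ⟨Algebra.adjoin A {a}, hfg,
      b ⊗ₜ ⟨a, Algebra.subset_adjoin (Set.mem_singleton a)⟩, by simp⟩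
  | add r₁ r₂ h₁ h₂ =>
    obtain ⟨C₁, hC₁, x₁, hx₁⟩ := h₁
    obtain ⟨C₂, hC₂, x₂, hx₂⟩ := h₂
    refine ⟨C₁ ⊔ C₂, hC₁.sup hC₂,
      Algebra.TensorProduct.map (AlgHom.id B B) (Subalgebra.inclusion le_sup_left) x₁ +
        Algebra.TensorProduct.map (AlgHom.id B B) (Subalgebra.inclusion le_sup_right) x₂, ?_⟩
    rw [map_add, jC_comp, jC_comp, hx₁, hx₂]

theorem exists_fg_mem_range_rTensor (y : (B ⊗[A] A') ⊗[B] M) :
    ∃ C : Subalgebra A A', C.FG ∧ ∃ y₀ : (B ⊗[A] C) ⊗[B] M,
      (jC A' C).toLinearMap.rTensor M y₀ = y := by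
  induction y using TensorProduct.induction_on with
  | zero => exact ⟨⊥, Subalgebra.fg_bot, 0, map_zero _⟩
  | tmul r m =>
    obtain ⟨C, hC, r₀, hr₀⟩ := exists_fg_mem_range r
    exact ⟨C, hC, r₀ ⊗ₜ m, by rw [LinearMap.rTensor_tmul, AlgHom.toLinearMap_apply, hr₀]⟩
  | add y₁ y₂ h₁ h₂ =>
    obtain ⟨C₁, hC₁, x₁, hx₁⟩ := h₁
    obtain ⟨C₂, hC₂, x₂, hx₂⟩ := h₂
    refine ⟨C₁ ⊔ C₂, hC₁.sup hC₂,
      (Algebra.TensorProduct.map (AlgHom.id B B)
          (Subalgebra.inclusion le_sup_left)).toLinearMap.rTensor M x₁ +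
        (Algebra.TensorProduct.map (AlgHom.id B B)
          (Subalgebra.inclusion le_sup_right)).toLinearMap.rTensor M x₂, ?_⟩
    rw [map_add, jC_rTensor_comp, jC_rTensor_comp, hx₁, hx₂]

/-- semilinearity of `rTensor` along a ring map. -/
theorem rTensor_smul_semilinear {R R' : Type u} [CommRing R] [CommRing R'] [Algebra B R]
    [Algebra B R'] (j : R →ₐ[B] R') (r₀ : R) (z : R ⊗[B] M) :
    j.toLinearMap.rTensor M (r₀ • z) = j r₀ • j.toLinearMap.rTensor M z := by
  induction z using TensorProduct.induction_on with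
  | zero => simp
  | tmul r m =>
    rw [TensorProduct.smul_tmul', LinearMap.rTensor_tmul, LinearMap.rTensor_tmul,
      TensorProduct.smul_tmul', smul_eq_mul, smul_eq_mul, AlgHom.toLinearMap_apply,
      AlgHom.toLinearMap_apply, map_mul]
  | add z₁ z₂ h₁ h₂ => simp only [smul_add, map_add, h₁, h₂]

variable {ι : Type*} {N : ι → Type u} [∀ i, AddCommGroup (N i)] [∀ i, Module B (N i)]
  [∀ i, Module A (N i)] [∀ i, IsScalarTower A B (N i)] [∀ i, Module.Flat A (N i)]

/-- **Passage to the limit**: for `A`-flat targets, `SepMaps` over `B ⊗[A] A'` follows from `SepMaps` over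
`B ⊗[A] C` for all finitely generated subalgebras `C` of `A'`. -/
theorem sepMaps_baseChange_of_fg (u : ∀ i, M →ₗ[B] N i)
    (h : ∀ C : Subalgebra A A', C.FG →
      SepMaps (B ⊗[A] C) (M := (B ⊗[A] C) ⊗[B] M) (N := fun i => (B ⊗[A] C) ⊗[B] N i)
        (fun i => (u i).baseChange (B ⊗[A] C))) :
    SepMaps (B ⊗[A] A') (M := (B ⊗[A] A') ⊗[B] M) (N := fun i => (B ⊗[A] A') ⊗[B] N i)
      (fun i => (u i).baseChange (B ⊗[A] A')) := by
  intro f y hy
  obtain ⟨C₁, hC₁, f₁, hf₁⟩ := exists_fg_mem_range (B := B) f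
  obtain ⟨C₂, hC₂, y₂, hy₂⟩ := exists_fg_mem_range_rTensor (M := M) y
  set C := C₁ ⊔ C₂ with hC
  set f₀ : B ⊗[A] C :=
    Algebra.TensorProduct.map (AlgHom.id B B) (Subalgebra.inclusion le_sup_left) f₁ with hf₀def
  set y₀ : (B ⊗[A] C) ⊗[B] M := (Algebra.TensorProduct.map (AlgHom.id B B)
      (Subalgebra.inclusion le_sup_right)).toLinearMap.rTensor M y₂ with hy₀def
  have hf₀ : jC A' C f₀ = f := by rw [hf₀def, jC_comp, hf₁]
  have hy₀ : (jC A' C).toLinearMap.rTensor M y₀ = y := by rw [hy₀def, jC_rTensor_comp, hy₂]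
  have key : ∀ i, ∃ n : ℕ, f₀ ^ n • (u i).baseChange (B ⊗[A] C) y₀ = 0 := by
    intro i
    obtain ⟨n, hn⟩ := hy i
    refine ⟨n, ?_⟩
    apply rTensor_map_injective A B (N i) C.val Subtype.val_injective
    rw [map_zero, rTensor_smul_semilinear, map_pow, hf₀, LinearMap.baseChange_eq_ltensor,
      ← LinearMap.comp_apply, LinearMap.rTensor_comp_lTensor, ← LinearMap.lTensor_comp_rTensor,
      LinearMap.comp_apply, hy₀]
    rw [LinearMap.baseChange_eq_ltensor] at hn
    exact hn
  obtain ⟨n, hn⟩ := h C (hC₁.sup hC₂) f₀ y₀ key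
  refine ⟨n, ?_⟩
  have := congrArg ((jC A' C).toLinearMap.rTensor M) hn
  rwa [rTensor_smul_semilinear, map_pow, hf₀, hy₀, map_zero] at this

end lim

section field

variable {k : Type u} [Field k] {B : Type u} [CommRing B] [Algebra k B]
  {M : Type u} [AddCommGroup M] [Module B M] {ι : Type*}
  {N : ι → Type u} [∀ i, AddCommGroup (N i)] [∀ i, Module B (N i)]

/-- **Base change along an arbitrary algebra over a field** preserves separating families. -/
theorem sepMaps_baseChange_field (C : Type u) [CommRing C] [Algebra k C]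
    (u : ∀ i, M →ₗ[B] N i) (hu : SepMaps B u) :
    SepMaps (B ⊗[k] C) (M := (B ⊗[k] C) ⊗[B] M) (N := fun i => (B ⊗[k] C) ⊗[B] N i)
      (fun i => (u i).baseChange (B ⊗[k] C)) := by
  letI : ∀ i, Module k (N i) := fun i => Module.compHom (N i) (algebraMap k B)
  haveI : ∀ i, IsScalarTower k B (N i) := fun i =>
    IsScalarTower.of_algebraMap_smul (fun _ _ => rfl)
  refine sepMaps_baseChange_of_fg (A := k) u fun C₀ hC₀ => ?_
  haveI : Algebra.FiniteType k C₀ := (Subalgebra.fg_iff_finiteType C₀).mp hC₀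
  haveI : Algebra.FinitePresentation k C₀ :=
    Algebra.FinitePresentation.of_finiteType.mp inferInstance
  exact sepMaps_baseChange_of_flat_fp (B ⊗[k] C₀) u hu

end field

end Groth.Agent.R2.H22.SepLim
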