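import Mathlib
import Groth.Agent.R2.H22SepLim

/-!
# Separating families: transitivity of base change and invariance under isomorphisms (helper22)
-/

set_option autoImplicit false
set_option linter.style.haveILetI false
set_option linter.unusedSectionVars false
universe u

namespace Groth.Agent.R2.H22.SepTrans

open TensorProduct
open Groth.Agent.R2.H22.SepCore Groth.Agent.R2.H22.SepBC Groth.Agent.R2.H22.SepLim

variable {B : Type u} [CommRing B] {M : Type u} [AddCommGroup M] [Module B M] {ι : Type*}
  {N : ι → Type u} [∀ i, AddCommGroup (N i)] [∀ i, Module B (N i)]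

section algEquiv

variable {R R' : Type u} [CommRing R] [CommRing R'] [Algebra B R] [Algebra B R']

theorem rTensor_lTensor_comm_alg {N₀ : Type u} [AddCommGroup N₀] [Module B N₀] (j : R →ₐ[B] R')
    (v : M →ₗ[B] N₀) (z : R ⊗[B] M) :
    j.toLinearMap.rTensor N₀ (v.lTensor R z) = v.lTensor R' (j.toLinearMap.rTensor M z) := by
  rw [← LinearMap.comp_apply, LinearMap.rTensor_comp_lTensor, ← LinearMap.lTensor_comp_rTensor,
    LinearMap.comp_apply]

/-- `SepMaps` of a base-changed family is invariant under isomorphisms of the algebra. -/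
theorem sepMaps_baseChange_of_algEquiv (e : R ≃ₐ[B] R') (u : ∀ i, M →ₗ[B] N i)
    (h : SepMaps R (M := R ⊗[B] M) (N := fun i => R ⊗[B] N i) (fun i => (u i).baseChange R)) :
    SepMaps R' (M := R' ⊗[B] M) (N := fun i => R' ⊗[B] N i) (fun i => (u i).baseChange R') := by
  intro f y hy
  have hinv : ∀ (N₀ : Type u) [AddCommGroup N₀] [Module B N₀] (z : R' ⊗[B] N₀),
      e.toAlgHom.toLinearMap.rTensor N₀ (e.symm.toAlgHom.toLinearMap.rTensor N₀ z) = z := by
    intro N₀ _ _ z
    induction z using TensorProduct.induction_on with
    | zero => simp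
    | tmul r m => simp
    | add z₁ z₂ h₁ h₂ => simp only [map_add, h₁, h₂]
  have key : ∀ i, ∃ n : ℕ, (e.symm f) ^ n •
      (u i).baseChange R (e.symm.toAlgHom.toLinearMap.rTensor M y) = 0 := by
    intro i
    obtain ⟨n, hn⟩ := hy i
    refine ⟨n, ?_⟩
    rw [LinearMap.baseChange_eq_ltensor] at hn ⊢
    have := congrArg (e.symm.toAlgHom.toLinearMap.rTensor (N i)) hn
    rw [rTensor_smul_semilinear, map_pow, rTensor_lTensor_comm_alg, map_zero] at this
    exact this
  obtain ⟨n, hn⟩ := h (e.symm f) _ key
  refine ⟨n, ?_⟩
  have := congrArg (e.toAlgHom.toLinearMap.rTensor M) hn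
  rw [rTensor_smul_semilinear, map_pow, hinv, map_zero] at this
  simpa using this

end algEquiv

section trans

variable {R S : Type u} [CommRing R] [CommRing S] [Algebra B R] [Algebra R S] [Algebra B S]
  [IsScalarTower B R S]

theorem cancelBaseChange_natural {N₀ : Type u} [AddCommGroup N₀] [Module B N₀] (v : M →ₗ[B] N₀)
    (z : S ⊗[R] (R ⊗[B] M)) :
    AlgebraTensorModule.cancelBaseChange B R S S N₀ ((v.baseChange R).lTensor S z) =
      v.lTensor S (AlgebraTensorModule.cancelBaseChange B R S S M z) := by
  induction z using TensorProduct.induction_on with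
  | zero => simp
  | tmul s w =>
    induction w using TensorProduct.induction_on with
    | zero => simp
    | tmul r m => simp
    | add w₁ w₂ h₁ h₂ => simp only [TensorProduct.tmul_add, map_add, h₁, h₂]
  | add z₁ z₂ h₁ h₂ => simp only [map_add, h₁, h₂]

/-- if the family base-changed to `R` is separating, then it is jointly injective after a further
localization `S = R_f`. -/
theorem eq_zero_of_sepMaps_baseChange_away (f : R) [IsLocalization.Away f S]
    (u : ∀ i, M →ₗ[B] N i)
    (hR : SepMaps R (M := R ⊗[B] M) (N := fun i => R ⊗[B] N i) (fun i => (u i).baseChange R))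
    (x : S ⊗[B] M) (hx : ∀ i, (u i).lTensor S x = 0) : x = 0 := by
  have h0 : (AlgebraTensorModule.cancelBaseChange B R S S M).symm x = 0 := by
    apply eq_zero_of_sepMaps_away (fun i => (u i).baseChange R) hR f S
    intro i
    apply (AlgebraTensorModule.cancelBaseChange B R S S (N i)).injective
    rw [cancelBaseChange_natural, LinearEquiv.apply_symm_apply, hx i, map_zero]
  have := congrArg (AlgebraTensorModule.cancelBaseChange B R S S M) h0
  rwa [LinearEquiv.apply_symm_apply, map_zero] at this

end trans

end Groth.Agent.R2.H22.SepTrans
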