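import Mathlib
import Groth.Agent.R2.H22SepTrans
import Groth.Agent.R2.H22FibK

/-!
# Separating families and base change: generic transfer lemmas (helper22)

* `sepMaps_tower` / `sepMaps_of_tower`: for a tower `B → R → R'`, the family `u` base-changed to `R'` is separating iff
  the family `u ⊗ R` base-changed to `R'` is.
* `fibKSep_of_sepMaps`: `SepMaps (B ⊗[A] K) (u ⊗ (B ⊗[A] K))` implies `FibKSep u K`.
* `sepMaps_descent`: descent of `SepMaps` along a universally injective algebra map.
-/

set_option autoImplicit false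
set_option linter.style.haveILetI false
set_option linter.unusedSectionVars false
universe u

namespace Groth.Agent.R2.H22.FibBC

open TensorProduct
open Groth.Agent.R2.H22.SepCore Groth.Agent.R2.H22.SepBC Groth.Agent.R2.H22.SepLim
  Groth.Agent.R2.H22.SepTrans Groth.Agent.R2.H22.FibK

section tower

variable {B : Type u} [CommRing B] {M : Type u} [AddCommGroup M] [Module B M] {ι : Type*}
  {N : ι → Type u} [∀ i, AddCommGroup (N i)] [∀ i, Module B (N i)]
  {R S : Type u} [CommRing R] [CommRing S] [Algebra B R] [Algebra R S] [Algebra B S]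
  [IsScalarTower B R S]

/-- transitivity of base change, first direction. -/
theorem sepMaps_tower (u : ∀ i, M →ₗ[B] N i)
    (h : SepMaps S (M := S ⊗[B] M) (N := fun i => S ⊗[B] N i) (fun i => (u i).baseChange S)) :
    SepMaps S (M := S ⊗[R] (R ⊗[B] M)) (N := fun i => S ⊗[R] (R ⊗[B] N i))
      (fun i => ((u i).baseChange R).baseChange S) := by
  intro f y hy
  have key : ∀ i, ∃ n : ℕ, f ^ n •
      (u i).baseChange S (AlgebraTensorModule.cancelBaseChange B R S S M y) = 0 := by
    intro i
    obtain ⟨n, hn⟩ := hy i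
    refine ⟨n, ?_⟩
    rw [LinearMap.baseChange_eq_ltensor] at hn ⊢
    rw [← cancelBaseChange_natural, ← map_smul, hn, map_zero]
  obtain ⟨n, hn⟩ := h f _ key
  refine ⟨n, ?_⟩
  apply (AlgebraTensorModule.cancelBaseChange B R S S M).injective
  rw [map_smul, hn, map_zero]

/-- transitivity of base change, second direction. -/
theorem sepMaps_of_tower (u : ∀ i, M →ₗ[B] N i)
    (h : SepMaps S (M := S ⊗[R] (R ⊗[B] M)) (N := fun i => S ⊗[R] (R ⊗[B] N i))
      (fun i => ((u i).baseChange R).baseChange S)) :
    SepMaps S (M := S ⊗[B] M) (N := fun i => S ⊗[B] N i) (fun i => (u i).baseChange S) := by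
  intro f y hy
  have key : ∀ i, ∃ n : ℕ, f ^ n •
      ((u i).baseChange R).baseChange S
        ((AlgebraTensorModule.cancelBaseChange B R S S M).symm y) = 0 := by
    intro i
    obtain ⟨n, hn⟩ := hy i
    refine ⟨n, ?_⟩
    apply (AlgebraTensorModule.cancelBaseChange B R S S (N i)).injective
    rw [LinearMap.baseChange_eq_ltensor] at hn
    rw [map_smul, map_zero, LinearMap.baseChange_eq_ltensor, cancelBaseChange_natural,
      LinearEquiv.apply_symm_apply]
    exact hn
  obtain ⟨n, hn⟩ := h f _ key
  refine ⟨n, ?_⟩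
  have := congrArg (AlgebraTensorModule.cancelBaseChange B R S S M) hn
  rwa [map_smul, LinearEquiv.apply_symm_apply, map_zero] at this

end tower

section descent

variable {B : Type u} [CommRing B] {M : Type u} [AddCommGroup M] [Module B M] {ι : Type*}
  {N : ι → Type u} [∀ i, AddCommGroup (N i)] [∀ i, Module B (N i)]
  {R R' : Type u} [CommRing R] [CommRing R'] [Algebra B R] [Algebra B R']

/-- descent of `SepMaps` along an algebra map that stays injective after tensoring with `M`. -/
theorem sepMaps_descent (j : R →ₐ[B] R') (hj : Function.Injective (j.toLinearMap.rTensor M))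
    (u : ∀ i, M →ₗ[B] N i)
    (h : SepMaps R' (M := R' ⊗[B] M) (N := fun i => R' ⊗[B] N i) (fun i => (u i).baseChange R')) :
    SepMaps R (M := R ⊗[B] M) (N := fun i => R ⊗[B] N i) (fun i => (u i).baseChange R) := by
  intro f y hy
  have key : ∀ i, ∃ n : ℕ, (j f) ^ n • (u i).baseChange R' (j.toLinearMap.rTensor M y) = 0 := by
    intro i
    obtain ⟨n, hn⟩ := hy i
    refine ⟨n, ?_⟩
    rw [LinearMap.baseChange_eq_ltensor] at hn ⊢
    have := congrArg (j.toLinearMap.rTensor (N i)) hn
    rwa [rTensor_smul_semilinear, map_pow, rTensor_lTensor_comm_alg, map_zero] at this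
  obtain ⟨n, hn⟩ := h (j f) _ key
  refine ⟨n, ?_⟩
  apply hj
  rw [rTensor_smul_semilinear, map_pow, hn, map_zero]

end descent

section fibK

variable {A : Type u} [CommRing A] {B : Type u} [CommRing B] [Algebra A B]
  {M : Type u} [AddCommGroup M] [Module B M] [Module A M] [IsScalarTower A B M] {ι : Type*}
  {N : ι → Type u} [∀ i, AddCommGroup (N i)] [∀ i, Module B (N i)] [∀ i, Module A (N i)]
  [∀ i, IsScalarTower A B (N i)]

theorem eC_lTensor (C : Type u) [CommRing C] [Algebra A C] {N₀ : Type u} [AddCommGroup N₀]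
    [Module B N₀] [Module A N₀] [IsScalarTower A B N₀] (v : M →ₗ[B] N₀)
    (y : (B ⊗[A] C) ⊗[B] M) :
    eC A B C N₀ (v.lTensor (B ⊗[A] C) y) = AlgebraTensorModule.rTensor A C v (eC A B C M y) := by
  induction y using TensorProduct.induction_on with
  | zero => simp
  | tmul r m =>
    induction r using TensorProduct.induction_on with
    | zero => simp
    | tmul b c =>
      rw [LinearMap.lTensor_tmul, eC_tmul, eC_tmul, AlgebraTensorModule.rTensor_tmul, map_smul]
    | add r₁ r₂ h₁ h₂ =>
      rw [TensorProduct.add_tmul, map_add, map_add, h₁, h₂, map_add, map_add]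
  | add y₁ y₂ h₁ h₂ => simp only [map_add, h₁, h₂]

/-- the fibre form of the separating property follows from the base-change form. -/
theorem fibKSep_of_sepMaps (K : Type u) [Field K] [Algebra A K] (u : ∀ i, M →ₗ[B] N i)
    (h : SepMaps (B ⊗[A] K) (M := (B ⊗[A] K) ⊗[B] M) (N := fun i => (B ⊗[A] K) ⊗[B] N i)
      (fun i => (u i).baseChange (B ⊗[A] K))) : FibKSep (A := A) u K := by
  intro f z hz
  have key : ∀ i, ∃ n : ℕ, (algebraMap B (B ⊗[A] K) f) ^ n •
      (u i).baseChange (B ⊗[A] K) ((eC A B K M).symm z) = 0 := by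
    intro i
    obtain ⟨n, hn⟩ := hz i
    refine ⟨n, ?_⟩
    apply (eC A B K (N i)).injective
    rw [← map_pow, algebraMap_smul, map_smul, map_zero, LinearMap.baseChange_eq_ltensor,
      eC_lTensor, LinearEquiv.apply_symm_apply]
    exact hn
  obtain ⟨n, hn⟩ := h _ _ key
  refine ⟨n, ?_⟩
  rw [← map_pow, algebraMap_smul] at hn
  have := congrArg (eC A B K M) hn
  rwa [map_smul, LinearEquiv.apply_symm_apply, map_zero] at this

end fibK

end Groth.Agent.R2.H22.FibBC
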