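import Mathlib
import Groth.Agent.R2.H22FibK

/-!
# The graded step of the fibre criterion (helper22)

`exists_smul_pow_smul_mem`: if `x ∈ 𝔭 ^ n M` has `f`-power torsion images in the `A`-flat modules `N i`, and the family is
separating on the generic fibre over `𝔭`, then `a f ^ m x ∈ 𝔭 ^ (n+1) M` for some `a ∉ 𝔭`.
-/

set_option autoImplicit false
set_option linter.style.haveILetI false
set_option linter.unusedSectionVars false
universe u

namespace Groth.Agent.R2.H22.FibGr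

open TensorProduct Groth.Agent.R2.H22.FibK

variable {A : Type u} [CommRing A] {B : Type u} [CommRing B] [Algebra A B]

section mulMap

variable (I : Ideal A) (P : Type u) [AddCommGroup P] [Module B P] [Module A P] [IsScalarTower A B P]

/-- multiplication `P ⊗[A] I → P`. -/
noncomputable def mulMap : P ⊗[A] I →ₗ[B] P :=
  (AlgebraTensorModule.rid A B P).toLinearMap ∘ₗ AlgebraTensorModule.lTensor B P (Submodule.subtype I)

theorem mulMap_tmul (p : P) (a : I) : mulMap (B := B) I P (p ⊗ₜ a) = (a : A) • p := by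
  simp [mulMap]

theorem mulMap_injective [Module.Flat A P] : Function.Injective (mulMap (B := B) I P) := by
  have h1 : Function.Injective (AlgebraTensorModule.lTensor B P (Submodule.subtype I)) :=
    Module.Flat.lTensor_preserves_injective_linearMap (M := P) (Submodule.subtype I)
      Subtype.val_injective
  exact (AlgebraTensorModule.rid A B P).injective.comp h1

theorem exists_mulMap_eq {x : P} (hx : x ∈ (I • ⊤ : Submodule A P)) :
    ∃ τ : P ⊗[A] I, mulMap (B := B) I P τ = x := by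
  refine Submodule.smul_induction_on hx (fun a ha p _ => ?_) (fun x₁ x₂ h₁ h₂ => ?_)
  · exact ⟨p ⊗ₜ ⟨a, ha⟩, mulMap_tmul I P p ⟨a, ha⟩⟩
  · obtain ⟨τ₁, rfl⟩ := h₁
    obtain ⟨τ₂, rfl⟩ := h₂
    exact ⟨τ₁ + τ₂, map_add _ _ _⟩

variable {P} {P' : Type u} [AddCommGroup P'] [Module B P'] [Module A P'] [IsScalarTower A B P']

theorem mulMap_natural (v : P →ₗ[B] P') (τ : P ⊗[A] I) :
    mulMap (B := B) I P' (AlgebraTensorModule.rTensor A I v τ) = v (mulMap (B := B) I P τ) := by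
  induction τ using TensorProduct.induction_on with
  | zero => simp
  | tmul p a =>
    rw [AlgebraTensorModule.rTensor_tmul, mulMap_tmul, mulMap_tmul, LinearMap.map_smul_of_tower]
  | add τ₁ τ₂ h₁ h₂ => simp only [map_add, h₁, h₂]

end mulMap

section gr

variable {M : Type u} [AddCommGroup M] [Module B M] [Module A M] [IsScalarTower A B M] {ι : Type*}
  {N : ι → Type u} [∀ i, AddCommGroup (N i)] [∀ i, Module B (N i)] [∀ i, Module A (N i)]
  [∀ i, IsScalarTower A B (N i)] [∀ i, Module.Flat A (N i)] (u : ∀ i, M →ₗ[B] N i)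
  (𝔭 : Ideal A) [𝔭.IsPrime] (K : Type u) [Field K] [Algebra A K]

theorem coe_mem_pow_succ (n : ℕ) (v : ↥(𝔭 ^ n)) (hv : v ∈ (𝔭 • ⊤ : Submodule A ↥(𝔭 ^ n))) :
    (v : A) ∈ 𝔭 ^ (n + 1) := by
  refine Submodule.smul_induction_on hv (fun a ha w _ => ?_) (fun v₁ v₂ h₁ h₂ => ?_)
  · rw [pow_succ']
    exact Ideal.mul_mem_mul ha w.2
  · exact Ideal.add_mem _ h₁ h₂

/-- **the graded step**. -/
theorem exists_smul_pow_smul_mem (hK : RingHom.ker (algebraMap A K) = 𝔭)
    (hfib : FibKSep (A := A) u K) (n : ℕ) (f : B) (x : M)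
    (hx : x ∈ ((𝔭 ^ n) • ⊤ : Submodule A M)) (hux : ∀ i, ∃ m : ℕ, f ^ m • u i x = 0) :
    ∃ a : A, a ∉ 𝔭 ∧ ∃ m : ℕ, a • f ^ m • x ∈ ((𝔭 ^ (n + 1)) • ⊤ : Submodule A M) := by
  obtain ⟨τ, hτ⟩ := exists_mulMap_eq (B := B) (𝔭 ^ n) M hx
  have h1 : ∀ i, ∃ m : ℕ, f ^ m • AlgebraTensorModule.rTensor A ↥(𝔭 ^ n) (u i) τ = 0 := by
    intro i
    obtain ⟨m, hm⟩ := hux i
    refine ⟨m, ?_⟩
    apply mulMap_injective (B := B) (𝔭 ^ n) (N i)
    rw [map_smul, mulMap_natural, hτ, hm, map_zero]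
  set V₁ : Submodule A ↥(𝔭 ^ n) := 𝔭 • ⊤ with hV₁
  have hV : ∀ a ∈ 𝔭, ∀ v : ↥(𝔭 ^ n) ⧸ V₁, a • v = 0 := by
    intro a ha v
    obtain ⟨v, rfl⟩ := Submodule.Quotient.mk_surjective _ v
    rw [← Submodule.Quotient.mk_smul, Submodule.Quotient.mk_eq_zero]
    exact Submodule.smul_mem_smul ha Submodule.mem_top
  have h2 : ∀ i, ∃ m : ℕ, f ^ m • AlgebraTensorModule.rTensor A (↥(𝔭 ^ n) ⧸ V₁) (u i)
      (AlgebraTensorModule.lTensor B M V₁.mkQ τ) = 0 := by
    intro i
    obtain ⟨m, hm⟩ := h1 i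
    refine ⟨m, ?_⟩
    rw [lTensor_rTensor_comm', ← map_smul, hm, map_zero]
  obtain ⟨a, ha, m, ham⟩ := exists_smul_pow_smul_eq_zero u 𝔭 K hK hfib hV f _ h2
  refine ⟨a, ha, m, ?_⟩
  have h3 : (V₁.mkQ).lTensor M (a • f ^ m • τ) = 0 := by
    have e : (V₁.mkQ).lTensor M (a • f ^ m • τ) =
        a • f ^ m • AlgebraTensorModule.lTensor B M V₁.mkQ τ := by
      rw [map_smul]
      congr 1
      exact map_smul (AlgebraTensorModule.lTensor B M V₁.mkQ) (f ^ m) τ
    rw [e, ham]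
  have hex := lTensor_exact M (LinearMap.exact_subtype_mkQ V₁) (Submodule.mkQ_surjective V₁)
  obtain ⟨σ, hσ⟩ := (hex _).1 h3
  have h4 : ∀ σ : M ⊗[A] V₁, mulMap (B := B) (𝔭 ^ n) M ((V₁.subtype).lTensor M σ) ∈
      ((𝔭 ^ (n + 1)) • ⊤ : Submodule A M) := by
    intro σ
    induction σ using TensorProduct.induction_on with
    | zero => simp
    | tmul p v =>
      rw [LinearMap.lTensor_tmul, mulMap_tmul]
      exact Submodule.smul_mem_smul (coe_mem_pow_succ 𝔭 n v.1 v.2) Submodule.mem_top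
    | add σ₁ σ₂ h₁ h₂ =>
      rw [map_add, map_add]
      exact Submodule.add_mem _ h₁ h₂
  have h5 := h4 σ
  rw [hσ] at h5
  have e2 : mulMap (B := B) (𝔭 ^ n) M (a • f ^ m • τ) = a • f ^ m • x := by
    rw [LinearMap.map_smul_of_tower, map_smul, hτ]
  rwa [e2] at h5

end gr

end Groth.Agent.R2.H22.FibGr
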