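import Mathlib

/-!
# A saturated form of Krull's intersection theorem (helper22)

`exists_smul_eq_zero_of_forall_mem_pow_smul`: `B` Noetherian, `M` a finite `B`-module, `q` a prime of `B`, `J ≤ q`
an ideal. If for every `n` some `g ∉ q` has `g • x ∈ J ^ n • ⊤`, then some `g ∉ q` kills `x`.
-/

set_option autoImplicit false
universe u

namespace Groth.Agent.R2.H22.FibKrull

variable {B : Type u} [CommRing B] [IsNoetherianRing B] {M : Type u} [AddCommGroup M] [Module B M]
  [Module.Finite B M]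

theorem exists_smul_eq_zero_of_forall_mem_pow_smul (q : Ideal B) [q.IsPrime] (J : Ideal B)
    (hJ : J ≤ q) (x : M)
    (h : ∀ n : ℕ, ∃ g : B, g ∉ q ∧ g • x ∈ (J ^ n • ⊤ : Submodule B M)) :
    ∃ g : B, g ∉ q ∧ g • x = 0 := by
  let Bq := Localization.AtPrime q
  let Mq := LocalizedModule q.primeCompl M
  let J' : Ideal Bq := J.map (algebraMap B Bq)
  have hJ' : J' ≠ ⊤ := by
    intro htop
    have hle : J' ≤ IsLocalRing.maximalIdeal Bq := by
      rw [← Localization.AtPrime.map_eq_maximalIdeal]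
      exact Ideal.map_mono hJ
    rw [htop] at hle
    exact (IsLocalRing.maximalIdeal.isMaximal Bq).ne_top (top_le_iff.1 hle)
  have hkrull : (⨅ i : ℕ, J' ^ i • ⊤ : Submodule Bq Mq) = ⊥ :=
    Ideal.iInf_pow_smul_eq_bot_of_isLocalRing J' hJ'
  have hmap : ∀ (n : ℕ) (z : M), z ∈ (J ^ n • ⊤ : Submodule B M) →
      LocalizedModule.mkLinearMap q.primeCompl M z ∈ (J' ^ n • ⊤ : Submodule Bq Mq) := by
    intro n z hz
    refine Submodule.smul_induction_on hz (fun r hr m _ => ?_) (fun z₁ z₂ h₁ h₂ => ?_)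
    · rw [map_smul, ← algebraMap_smul Bq r]
      refine Submodule.smul_mem_smul ?_ Submodule.mem_top
      rw [← Ideal.map_pow]
      exact Ideal.mem_map_of_mem _ hr
    · rw [map_add]
      exact Submodule.add_mem _ h₁ h₂
  have hx : LocalizedModule.mkLinearMap q.primeCompl M x ∈
      (⨅ i : ℕ, J' ^ i • ⊤ : Submodule Bq Mq) := by
    rw [Submodule.mem_iInf]
    intro n
    obtain ⟨g, hg, hgx⟩ := h n
    have h1 := hmap n _ hgx
    rw [map_smul, ← algebraMap_smul Bq g] at h1
    have hu : IsUnit (algebraMap B Bq g) :=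
      IsLocalization.map_units Bq (⟨g, hg⟩ : q.primeCompl)
    obtain ⟨w, hw⟩ := hu
    have h2 := Submodule.smul_mem (J' ^ n • ⊤ : Submodule Bq Mq) (↑w⁻¹ : Bq) h1
    rwa [← hw, smul_smul, Units.inv_mul, one_smul] at h2
  rw [hkrull, Submodule.mem_bot] at hx
  obtain ⟨s, hs⟩ := (IsLocalizedModule.eq_zero_iff q.primeCompl
    (LocalizedModule.mkLinearMap q.primeCompl M)).1 hx
  exact ⟨s.1, s.2, hs⟩

end Groth.Agent.R2.H22.FibKrull
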