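import Mathlib
import Groth.Agent.R2.H22FibGr
import Groth.Agent.R2.H22FibKrull

/-!
# The fibre criterion for separating families, absolute form (helper22)

`sepMaps_of_fibKSep`: `B` a Noetherian `A`-algebra, `M` a finite `B`-module, `N i` `A`-flat `B`-modules.  If the family
`u i : M → N i` is separating on the generic fibre over every prime of `A`, then it is separating (`SepMaps B u`).
(EGA IV 11.9.16 / 11.10.9, the case `S' = S`.)
-/

set_option autoImplicit false
set_option linter.style.haveILetI false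
set_option linter.unusedSectionVars false
universe u

namespace Groth.Agent.R2.H22.FibMain

open TensorProduct Groth.Agent.R2.H22.SepCore Groth.Agent.R2.H22.FibK Groth.Agent.R2.H22.FibGr
  Groth.Agent.R2.H22.FibKrull

variable {A : Type u} [CommRing A] {B : Type u} [CommRing B] [Algebra A B] [IsNoetherianRing B]
  {M : Type u} [AddCommGroup M] [Module B M] [Module A M] [IsScalarTower A B M] [Module.Finite B M]
  {ι : Type*} {N : ι → Type u} [∀ i, AddCommGroup (N i)] [∀ i, Module B (N i)]
  [∀ i, Module A (N i)] [∀ i, IsScalarTower A B (N i)] [∀ i, Module.Flat A (N i)]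

theorem sepMaps_of_fibKSep (u : ∀ i, M →ₗ[B] N i)
    (hfib : ∀ 𝔭 : Ideal A, 𝔭.IsPrime → ∃ (K : Type u) (_ : Field K) (_ : Algebra A K),
      RingHom.ker (algebraMap A K) = 𝔭 ∧ FibKSep (A := A) u K) : SepMaps B u := by
  intro f x hx
  by_contra hne
  simp only [not_exists] at hne
  let I : Ideal B :=
    { carrier := {b | ∃ n : ℕ, b • f ^ n • x = 0}
      add_mem' := by
        rintro b₁ b₂ ⟨n₁, h₁⟩ ⟨n₂, h₂⟩
        refine ⟨n₁ + n₂, ?_⟩
        rw [add_smul, pow_add]
        nth_rewrite 1 [mul_comm]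
        rw [mul_smul, mul_smul, smul_comm b₁, h₁, smul_zero, smul_comm b₂, h₂, smul_zero,
          add_zero]
      zero_mem' := ⟨0, zero_smul _ _⟩
      smul_mem' := by
        rintro c b ⟨n, h⟩
        exact ⟨n, by rw [smul_eq_mul, mul_smul, h, smul_zero]⟩ }
  have hdisj : Disjoint (I : Set B) (Submonoid.powers f : Set B) := by
    rw [Set.disjoint_left]
    rintro b ⟨n, hn⟩ ⟨m, rfl⟩
    apply hne (m + n)
    rw [pow_add, mul_smul]
    exact hn
  obtain ⟨q, hq, hIq, hqf⟩ := Ideal.exists_le_prime_disjoint I (Submonoid.powers f) hdisj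
  have hfq : f ∉ q := fun h => Set.disjoint_left.1 hqf h (Submonoid.mem_powers f)
  haveI : (q.comap (algebraMap A B)).IsPrime := Ideal.comap_isPrime _ _
  obtain ⟨K, _, _, hK, hfibK⟩ := hfib (q.comap (algebraMap A B)) inferInstance
  have hstep : ∀ n : ℕ, ∃ g : B, g ∉ q ∧
      g • x ∈ (((q.comap (algebraMap A B)) ^ n) • ⊤ : Submodule A M) := by
    intro n
    induction n with
    | zero => exact ⟨1, fun h => hq.ne_top ((Ideal.eq_top_iff_one q).2 h), by simp⟩
    | succ n ih =>
      obtain ⟨g, hg, hgx⟩ := ih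
      have hux : ∀ i, ∃ m : ℕ, f ^ m • u i (g • x) = 0 := by
        intro i
        obtain ⟨m, hm⟩ := hx i
        exact ⟨m, by rw [map_smul, smul_comm, hm, smul_zero]⟩
      obtain ⟨a, ha, m, ham⟩ := exists_smul_pow_smul_mem u (q.comap (algebraMap A B)) K hK hfibK n f
        (g • x) hgx hux
      refine ⟨algebraMap A B a * f ^ m * g, ?_, ?_⟩
      · intro h
        rcases hq.mem_or_mem h with h | h
        · rcases hq.mem_or_mem h with h | h
          · exact ha (Ideal.mem_comap.2 h)
          · exact hfq (hq.mem_of_pow_mem m h)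
        · exact hg h
      · rw [mul_smul, mul_smul, algebraMap_smul]
        exact ham
  have hJ : (q.comap (algebraMap A B)).map (algebraMap A B) ≤ q := Ideal.map_comap_le
  have hstep' : ∀ n : ℕ, ∃ g : B, g ∉ q ∧
      g • x ∈ ((((q.comap (algebraMap A B)).map (algebraMap A B)) ^ n) • ⊤ : Submodule B M) := by
    intro n
    obtain ⟨g, hg, hgx⟩ := hstep n
    refine ⟨g, hg, ?_⟩
    refine Submodule.smul_induction_on hgx (fun a ha m _ => ?_) (fun z₁ z₂ h₁ h₂ => ?_)
    · rw [← algebraMap_smul B a m]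
      refine Submodule.smul_mem_smul ?_ Submodule.mem_top
      rw [← Ideal.map_pow]
      exact Ideal.mem_map_of_mem _ ha
    · exact Submodule.add_mem _ h₁ h₂
  obtain ⟨g, hg, hgx⟩ := exists_smul_eq_zero_of_forall_mem_pow_smul q _ hJ x hstep'
  exact hg (hIq ⟨0, by rw [pow_zero, one_smul]; exact hgx⟩)

end Groth.Agent.R2.H22.FibMain
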