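import Mathlib
import Groth.Agent.R2.H22FibBC
import Groth.Agent.R2.H22FibMain

/-!
# The relative fibre criterion for separating families (helper22)

`sepMaps_baseChange_of_fibres` (EGA IV 11.9.16 / 11.10.9, algebraic form): let `B` be a Noetherian `A`-algebra, `M` a finite
`B`-module, `N i` `A`-flat `B`-modules and `u i : M → N i`.  If for every prime `𝔭` of `A` there is a field `k` over `A` with
kernel `𝔭` such that the family `u ⊗ (B ⊗[A] k)` is separating, then `u ⊗ (B ⊗[A] A')` is separating for every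
`A`-algebra `A'`.
-/

set_option autoImplicit false
set_option linter.style.haveILetI false
set_option linter.unusedSectionVars false
universe u

namespace Groth.Agent.R2.H22.FibBC

open TensorProduct
open Groth.Agent.R2.H22.SepCore Groth.Agent.R2.H22.SepBC Groth.Agent.R2.H22.SepLim
  Groth.Agent.R2.H22.SepTrans Groth.Agent.R2.H22.FibK Groth.Agent.R2.H22.FibMain

attribute [local instance] Algebra.TensorProduct.rightAlgebra

section iso

variable (A : Type u) [CommRing A] (B : Type u) [CommRing B] [Algebra A B]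
  (C : Type u) [CommRing C] [Algebra A C] (K : Type u) [CommRing K] [Algebra A K] [Algebra C K]
  [IsScalarTower A C K]

instance towerAK : IsScalarTower A K ((B ⊗[A] C) ⊗[C] K) := by
  refine IsScalarTower.of_algebraMap_eq fun a => ?_
  rw [IsScalarTower.algebraMap_apply A C K, ← IsScalarTower.algebraMap_apply C K,
    IsScalarTower.algebraMap_apply A C ((B ⊗[A] C) ⊗[C] K)]

theorem isPushout_tower : Algebra.IsPushout A B K ((B ⊗[A] C) ⊗[C] K) := by
  apply Algebra.IsPushout.symm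
  exact (Algebra.IsPushout.comp_iff A C B (S' := B ⊗[A] C) (T := K)
    (T' := (B ⊗[A] C) ⊗[C] K)).2 inferInstance

/-- `(B ⊗[A] C) ⊗[C] K ≃ B ⊗[A] K` as `B`-algebras. -/
noncomputable def isoTower : (B ⊗[A] C) ⊗[C] K ≃ₐ[B] B ⊗[A] K :=
  haveI := isPushout_tower A B C K
  (Algebra.IsPushout.equiv A B K ((B ⊗[A] C) ⊗[C] K)).symm

end iso

section fields

variable {A : Type u} [CommRing A] {B : Type u} [CommRing B] [Algebra A B]
  {M : Type u} [AddCommGroup M] [Module B M] [Module A M] [IsScalarTower A B M] {ι : Type*}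
  {N : ι → Type u} [∀ i, AddCommGroup (N i)] [∀ i, Module B (N i)] [∀ i, Module A (N i)]
  [∀ i, IsScalarTower A B (N i)]

/-- for a field extension `K₀ → k` over `A`, the map `(B ⊗ K₀) ⊗_B M → (B ⊗ k) ⊗_B M` is injective. -/
theorem rTensor_map_injective_of_field (K₀ k : Type u) [Field K₀] [CommRing k] [Nontrivial k]
    [Algebra A K₀] [Algebra A k] [Algebra K₀ k] [IsScalarTower A K₀ k] :
    Function.Injective ((Algebra.TensorProduct.map (AlgHom.id B B)
      (IsScalarTower.toAlgHom A K₀ k)).toLinearMap.rTensor M) := by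
  obtain ⟨r, hr⟩ := LinearMap.exists_leftInverse_of_injective (Algebra.linearMap K₀ k)
    (LinearMap.ker_eq_bot.2 (algebraMap K₀ k).injective)
  intro z₁ z₂ h
  apply (eC A B K₀ M).injective
  have h1 := congrArg (eC A B k M) h
  rw [eC_natural, eC_natural] at h1
  have h2 := congrArg ((r.restrictScalars A).lTensor M) h1
  have hcomp : (r.restrictScalars A) ∘ₗ (IsScalarTower.toAlgHom A K₀ k).toLinearMap =
      LinearMap.id := by
    ext x
    exact LinearMap.congr_fun hr x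
  rwa [← LinearMap.comp_apply, ← LinearMap.comp_apply, ← LinearMap.lTensor_comp, hcomp,
    LinearMap.lTensor_id, LinearMap.id_apply, LinearMap.id_apply] at h2

/-- descent of the separating property along a field extension. -/
theorem sepMaps_field_descent (K₀ k : Type u) [Field K₀] [CommRing k] [Nontrivial k]
    [Algebra A K₀] [Algebra A k] [Algebra K₀ k] [IsScalarTower A K₀ k] (u : ∀ i, M →ₗ[B] N i)
    (h : SepMaps (B ⊗[A] k) (M := (B ⊗[A] k) ⊗[B] M) (N := fun i => (B ⊗[A] k) ⊗[B] N i)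
      (fun i => (u i).baseChange (B ⊗[A] k))) :
    SepMaps (B ⊗[A] K₀) (M := (B ⊗[A] K₀) ⊗[B] M) (N := fun i => (B ⊗[A] K₀) ⊗[B] N i)
      (fun i => (u i).baseChange (B ⊗[A] K₀)) :=
  sepMaps_descent _ (rTensor_map_injective_of_field K₀ k) u h

/-- ascent of the separating property along a field extension. -/
theorem sepMaps_field_ascent (K₀ K' : Type u) [Field K₀] [CommRing K']
    [Algebra A K₀] [Algebra A K'] [Algebra K₀ K'] [IsScalarTower A K₀ K'] (u : ∀ i, M →ₗ[B] N i)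
    (h : SepMaps (B ⊗[A] K₀) (M := (B ⊗[A] K₀) ⊗[B] M) (N := fun i => (B ⊗[A] K₀) ⊗[B] N i)
      (fun i => (u i).baseChange (B ⊗[A] K₀))) :
    SepMaps (B ⊗[A] K') (M := (B ⊗[A] K') ⊗[B] M) (N := fun i => (B ⊗[A] K') ⊗[B] N i)
      (fun i => (u i).baseChange (B ⊗[A] K')) := by
  have h1 := sepMaps_baseChange_field (k := K₀) (B := B ⊗[A] K₀) K'
    (fun i => (u i).baseChange (B ⊗[A] K₀)) h
  have h2 := sepMaps_of_tower (B := B) (R := B ⊗[A] K₀) (S := (B ⊗[A] K₀) ⊗[K₀] K') u h1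
  exact sepMaps_baseChange_of_algEquiv (isoTower A B K₀ K') u h2

end fields

section fibU

variable {A : Type u} [CommRing A] {B : Type u} [CommRing B] [Algebra A B]
  {M : Type u} [AddCommGroup M] [Module B M] [Module A M] [IsScalarTower A B M] {ι : Type*}
  {N : ι → Type u} [∀ i, AddCommGroup (N i)] [∀ i, Module B (N i)] [∀ i, Module A (N i)]
  [∀ i, IsScalarTower A B (N i)]

/-- the fibrewise hypothesis. -/
def FibHyp (u : ∀ i, M →ₗ[B] N i) : Prop :=
  ∀ 𝔭 : Ideal A, 𝔭.IsPrime → ∃ (k : Type u) (_ : Field k) (_ : Algebra A k),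
    RingHom.ker (algebraMap A k) = 𝔭 ∧
    SepMaps (B ⊗[A] k) (M := (B ⊗[A] k) ⊗[B] M) (N := fun i => (B ⊗[A] k) ⊗[B] N i)
      (fun i => (u i).baseChange (B ⊗[A] k))

/-- the separating property on one field with a given kernel gives it on all such fields. -/
theorem sepMaps_field_of_ker_eq (u : ∀ i, M →ₗ[B] N i) (k K' : Type u) [Field k] [Field K']
    [Algebra A k] [Algebra A K']
    (hker : RingHom.ker (algebraMap A k) = RingHom.ker (algebraMap A K'))
    (h : SepMaps (B ⊗[A] k) (M := (B ⊗[A] k) ⊗[B] M) (N := fun i => (B ⊗[A] k) ⊗[B] N i)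
      (fun i => (u i).baseChange (B ⊗[A] k))) :
    SepMaps (B ⊗[A] K') (M := (B ⊗[A] K') ⊗[B] M) (N := fun i => (B ⊗[A] K') ⊗[B] N i)
      (fun i => (u i).baseChange (B ⊗[A] K')) := by
  set 𝔭 := RingHom.ker (algebraMap A K') with h𝔭
  haveI : 𝔭.IsPrime := RingHom.ker_isPrime _
  -- the algebra structures over `A ⧸ 𝔭`
  letI algDk : Algebra (A ⧸ 𝔭) k :=
    (Ideal.Quotient.lift 𝔭 (algebraMap A k) (fun a ha => by rw [← hker] at ha; exact ha)).toAlgebra
  haveI : IsScalarTower A (A ⧸ 𝔭) k := .of_algebraMap_eq' rfl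
  letI algDK : Algebra (A ⧸ 𝔭) K' :=
    (Ideal.Quotient.lift 𝔭 (algebraMap A K') (fun a ha => ha)).toAlgebra
  haveI : IsScalarTower A (A ⧸ 𝔭) K' := .of_algebraMap_eq' rfl
  have hinjk : Function.Injective (algebraMap (A ⧸ 𝔭) k) :=
    RingHom.lift_injective_of_ker_le_ideal 𝔭 _ (le_of_eq hker)
  have hinjK : Function.Injective (algebraMap (A ⧸ 𝔭) K') :=
    RingHom.lift_injective_of_ker_le_ideal 𝔭 _ le_rfl
  haveI : FaithfulSMul (A ⧸ 𝔭) k := (faithfulSMul_iff_algebraMap_injective (A ⧸ 𝔭) k).2 hinjk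
  haveI : FaithfulSMul (A ⧸ 𝔭) K' := (faithfulSMul_iff_algebraMap_injective (A ⧸ 𝔭) K').2 hinjK
  letI := FractionRing.liftAlgebra (A ⧸ 𝔭) k
  haveI : IsScalarTower (A ⧸ 𝔭) (FractionRing (A ⧸ 𝔭)) k :=
    FractionRing.isScalarTower_liftAlgebra (A ⧸ 𝔭) k
  letI := FractionRing.liftAlgebra (A ⧸ 𝔭) K'
  haveI : IsScalarTower (A ⧸ 𝔭) (FractionRing (A ⧸ 𝔭)) K' :=
    FractionRing.isScalarTower_liftAlgebra (A ⧸ 𝔭) K'
  haveI : IsScalarTower A (FractionRing (A ⧸ 𝔭)) k := by
    refine IsScalarTower.of_algebraMap_eq fun a => ?_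
    rw [IsScalarTower.algebraMap_apply A (A ⧸ 𝔭) k,
      IsScalarTower.algebraMap_apply (A ⧸ 𝔭) (FractionRing (A ⧸ 𝔭)) k,
      ← IsScalarTower.algebraMap_apply A (A ⧸ 𝔭) (FractionRing (A ⧸ 𝔭))]
  haveI : IsScalarTower A (FractionRing (A ⧸ 𝔭)) K' := by
    refine IsScalarTower.of_algebraMap_eq fun a => ?_
    rw [IsScalarTower.algebraMap_apply A (A ⧸ 𝔭) K',
      IsScalarTower.algebraMap_apply (A ⧸ 𝔭) (FractionRing (A ⧸ 𝔭)) K',
      ← IsScalarTower.algebraMap_apply A (A ⧸ 𝔭) (FractionRing (A ⧸ 𝔭))]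
  exact sepMaps_field_ascent (FractionRing (A ⧸ 𝔭)) K' u
    (sepMaps_field_descent (FractionRing (A ⧸ 𝔭)) k u h)

theorem sepMaps_field_of_fibHyp (u : ∀ i, M →ₗ[B] N i) (hfib : FibHyp (A := A) u) (K' : Type u)
    [Field K'] [Algebra A K'] :
    SepMaps (B ⊗[A] K') (M := (B ⊗[A] K') ⊗[B] M) (N := fun i => (B ⊗[A] K') ⊗[B] N i)
      (fun i => (u i).baseChange (B ⊗[A] K')) := by
  obtain ⟨k, _, _, hk, h⟩ := hfib (RingHom.ker (algebraMap A K')) (RingHom.ker_isPrime _)
  exact sepMaps_field_of_ker_eq u k K' hk h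

end fibU

section main

variable {A : Type u} [CommRing A] {B : Type u} [CommRing B] [Algebra A B] [IsNoetherianRing B]
  {M : Type u} [AddCommGroup M] [Module B M] [Module A M] [IsScalarTower A B M] [Module.Finite B M]
  {ι : Type*} {N : ι → Type u} [∀ i, AddCommGroup (N i)] [∀ i, Module B (N i)]
  [∀ i, Module A (N i)] [∀ i, IsScalarTower A B (N i)] [∀ i, Module.Flat A (N i)]

/-- the relative fibre criterion over a finite type base change. -/
theorem sepMaps_baseChange_of_fibres_finiteType (u : ∀ i, M →ₗ[B] N i)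
    (hfib : FibHyp (A := A) u) (C : Type u) [CommRing C] [Algebra A C] [Algebra.FiniteType A C] :
    SepMaps (B ⊗[A] C) (M := (B ⊗[A] C) ⊗[B] M) (N := fun i => (B ⊗[A] C) ⊗[B] N i)
      (fun i => (u i).baseChange (B ⊗[A] C)) := by
  haveI : IsNoetherianRing (B ⊗[A] C) := Algebra.FiniteType.isNoetherianRing B (B ⊗[A] C)
  haveI : ∀ i, Module.Flat C ((B ⊗[A] C) ⊗[B] N i) := fun i =>
    Module.Flat.of_linearEquiv (Algebra.IsPushout.cancelBaseChange A C B (B ⊗[A] C) (N i))
  refine sepMaps_of_fibKSep (A := C) (B := B ⊗[A] C) (M := (B ⊗[A] C) ⊗[B] M)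
    (N := fun i => (B ⊗[A] C) ⊗[B] N i) (fun i => (u i).baseChange (B ⊗[A] C)) ?_
  intro 𝔭' h𝔭'
  refine ⟨𝔭'.ResidueField, inferInstance, inferInstance, Ideal.ker_algebraMap_residueField 𝔭', ?_⟩
  apply fibKSep_of_sepMaps
  apply sepMaps_tower (B := B) (R := B ⊗[A] C) (S := (B ⊗[A] C) ⊗[C] 𝔭'.ResidueField)
  letI : Algebra A 𝔭'.ResidueField :=
    ((algebraMap C 𝔭'.ResidueField).comp (algebraMap A C)).toAlgebra
  haveI : IsScalarTower A C 𝔭'.ResidueField := .of_algebraMap_eq' rfl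
  exact sepMaps_baseChange_of_algEquiv (isoTower A B C 𝔭'.ResidueField).symm u
    (sepMaps_field_of_fibHyp u hfib 𝔭'.ResidueField)

/-- **The relative fibre criterion** (EGA IV 11.9.16 / 11.10.9, algebraic form). -/
theorem sepMaps_baseChange_of_fibres (u : ∀ i, M →ₗ[B] N i) (hfib : FibHyp (A := A) u)
    (A' : Type u) [CommRing A'] [Algebra A A'] :
    SepMaps (B ⊗[A] A') (M := (B ⊗[A] A') ⊗[B] M) (N := fun i => (B ⊗[A] A') ⊗[B] N i)
      (fun i => (u i).baseChange (B ⊗[A] A')) := by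
  refine sepMaps_baseChange_of_fg (A := A) u fun C hC => ?_
  haveI : Algebra.FiniteType A C := (Subalgebra.fg_iff_finiteType C).mp hC
  exact sepMaps_baseChange_of_fibres_finiteType u hfib C

end main

end Groth.Agent.R2.H22.FibBC
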