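import Mathlib
import Groth.Agent.R2.H22SepCore

/-!
# Schematically dominant families of morphisms: affine dictionary (helper22)

`SchDom f`: the family `f i : Z i ⟶ X` is schematically dominant (EGA IV 11.10.2 b)).
For an affine open `V` of `X`, the family of ring maps `Γ(X, V) → Γ(Z i, W)` (`W` affine open of `Z i` over `V`)
is `SepMaps`.
-/

set_option autoImplicit false
set_option linter.style.haveILetI false
universe u

namespace Groth.Agent.R2.H22.SchDom

open CategoryTheory AlgebraicGeometry Opposite TopologicalSpace TensorProduct Limits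
open Groth.Agent.R2.H22.SepCore

section basis

/-- a section of the structure sheaf vanishing on all members of a basis inside `U` is zero. -/
theorem section_eq_zero_of_basis {Y : Scheme.{u}} {κ : Type*} (B : κ → Y.Opens)
    (hB : Opens.IsBasis (Set.range B)) {U : Y.Opens} (s : Γ(Y, U))
    (h : ∀ (k : κ) (hle : B k ≤ U), Y.presheaf.map (homOfLE hle).op s = 0) : s = 0 := by
  refine TopCat.Sheaf.eq_of_locally_eq' Y.sheaf (fun W : {k : κ // B k ≤ U} => B W.1) U
    (fun W => homOfLE W.2) ?_ s 0 (fun W => ?_)
  · intro x hx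
    obtain ⟨_, ⟨k, rfl⟩, hxW, hWU⟩ := (Opens.isBasis_iff_nbhd.1 hB) hx
    exact Opens.mem_iSup.mpr ⟨⟨k, hWU⟩, hxW⟩
  · rw [map_zero]
    exact h W.1 W.2

end basis

variable {X : Scheme.{u}} {ι : Type u} {Z : ι → Scheme.{u}} (f : ∀ i, Z i ⟶ X)

/-- the family `f` is schematically dominant. -/
def SchDom : Prop := ∀ (V : X.Opens) (t : Γ(X, V)), (∀ i, (f i).app V t = 0) → t = 0

/-- schematic dominance can be checked on a basis. -/
theorem schDom_of_basis {κ : Type*} (B : κ → X.Opens) (hB : Opens.IsBasis (Set.range B))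
    (h : ∀ (k : κ) (t : Γ(X, B k)), (∀ i, (f i).app (B k) t = 0) → t = 0) : SchDom f := by
  intro V t ht
  refine section_eq_zero_of_basis B hB t fun k hle => h k _ fun i => ?_
  have := (f i).naturality (homOfLE hle).op
  have h2 := congr($this t)
  rw [CommRingCat.comp_apply, CommRingCat.comp_apply, ht i, map_zero] at h2
  exact h2

/-- affine opens of the `Z i` over `V`. -/
structure AffOver (V : X.Opens) where
  i : ι
  W : (Z i).Opens
  hW : IsAffineOpen W
  hle : W ≤ (f i) ⁻¹ᵁ V

/-- the ring of sections over a member of `AffOver`, as an algebra over `Γ(X, V)`. -/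
def Nsec (V : X.Opens) (j : AffOver f V) : Type u := Γ(Z j.i, j.W)

noncomputable instance (V : X.Opens) (j : AffOver f V) : CommRing (Nsec f V j) :=
  inferInstanceAs (CommRing Γ(Z j.i, j.W))

noncomputable instance (V : X.Opens) (j : AffOver f V) : Algebra Γ(X, V) (Nsec f V j) :=
  ((f j.i).appLE V j.W j.hle).hom.toAlgebra

theorem algebraMap_nsec (V : X.Opens) (j : AffOver f V) (b : Γ(X, V)) :
    algebraMap Γ(X, V) (Nsec f V j) b = (f j.i).appLE V j.W j.hle b := rfl

/-- a schematically dominant family gives a separating family of ring maps over every affine open. -/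
theorem sepMaps_of_schDom (h : SchDom f) {V : X.Opens} (hV : IsAffineOpen V) :
    SepMaps Γ(X, V) (fun j : AffOver f V => Algebra.linearMap Γ(X, V) (Nsec f V j)) := by
  intro b t ht
  have key : X.presheaf.map (homOfLE (X.basicOpen_le b)).op t = 0 := by
    apply h
    intro i
    refine section_eq_zero_of_basis (fun W : (Z i).affineOpens => W.1)
      (by rw [Subtype.range_coe]; exact (Z i).isBasis_affineOpens) _ ?_
    rintro ⟨W, hW⟩ hle
    have hleV : W ≤ (f i) ⁻¹ᵁ V := hle.trans ((f i).preimage_mono (X.basicOpen_le b))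
    obtain ⟨n, hn⟩ := ht ⟨i, W, hW, hleV⟩
    rw [Algebra.linearMap_apply, Algebra.smul_def, algebraMap_nsec, algebraMap_nsec, map_pow] at hn
    have e1 : ∀ x : Γ(X, V), (f i).appLE V W hleV x =
        (f i).appLE (X.basicOpen b) W hle (X.presheaf.map (homOfLE (X.basicOpen_le b)).op x) := by
      intro x
      have := (f i).map_appLE hle (homOfLE (X.basicOpen_le b)).op
      exact congr($(this.symm) x)
    have hu : IsUnit ((f i).appLE V W hleV b) := by
      rw [e1]
      exact (RingedSpace.isUnit_res_basicOpen _ b).map _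
    have h0 : (f i).appLE V W hleV t = 0 := by
      have := (hu.pow n).mul_right_eq_zero.1 hn
      exact this
    rw [e1] at h0
    exact h0
  obtain ⟨n, hn⟩ := exists_pow_mul_eq_zero_of_res_basicOpen_eq_zero_of_isAffineOpen X hV t b key
  exact ⟨n, hn⟩

end Groth.Agent.R2.H22.SchDom
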