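import Mathlib
import Groth.Agent.R2.H22SchDom

/-!
# Schematically dominant families and base change: pushout of sections (helper22)
-/

set_option autoImplicit false
set_option linter.style.haveILetI false
universe u

namespace Groth.Agent.R2.H22.SchDomBC

open CategoryTheory AlgebraicGeometry Opposite TopologicalSpace TensorProduct Limits
open Groth.Agent.R2.H22.SepCore Groth.Agent.R2.H22.SchDom

/-- in a pushout square of commutative rings, `t ⊗ 1 = 0` as soon as the image of `t` vanishes. -/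
theorem tmul_eq_zero_of_isPushout {R S T P : CommRingCat.{u}} {f : R ⟶ S} {g : R ⟶ T}
    {inl : S ⟶ P} {inr : T ⟶ P} (h : IsPushout f g inl inr) (t : T) (ht : inr t = 0) :
    letI := f.hom.toAlgebra
    letI := g.hom.toAlgebra
    (t ⊗ₜ[R] (1 : S) : T ⊗[R] S) = 0 := by
  algebraize [f.hom, g.hom, inl.hom, inr.hom, inl.hom.comp f.hom]
  have : IsScalarTower R T P := .of_algebraMap_eq' <| congr($(h.1.1).hom)
  have h1 : Algebra.IsPushout R S T P := CommRingCat.isPushout_iff_isPushout.mp h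
  have h2 : Algebra.IsPushout R T S P := h1.symm
  apply (Algebra.IsPushout.equiv R T S P).injective
  rw [Algebra.IsPushout.equiv_tmul, map_zero, map_one, mul_one]
  exact ht

section pullback
variable {X Y S T : Scheme.{u}} {f : T ⟶ S} {g : Y ⟶ X} {iX : X ⟶ S} {iY : Y ⟶ T}
  (H : IsPullback g iY iX f)
  {US : S.Opens} {UT : T.Opens} {UX : X.Opens} (hUST : UT ≤ f ⁻¹ᵁ US) (hUSX : UX ≤ iX ⁻¹ᵁ US)

include H in
/-- sections over the affine piece `g⁻¹ UX ⊓ iY⁻¹ UT` of a fibre product form a pushout. -/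
theorem isPushout_appLE (hUS : IsAffineOpen US) (hUT : IsAffineOpen UT) (hUX : IsAffineOpen UX) :
    IsPushout (iX.appLE US UX hUSX) (f.appLE US UT hUST)
      (g.appLE UX (g ⁻¹ᵁ UX ⊓ iY ⁻¹ᵁ UT) inf_le_left)
      (iY.appLE UT (g ⁻¹ᵁ UX ⊓ iY ⁻¹ᵁ UT) inf_le_right) :=
  (isIso_pushoutSection_iff H hUST hUSX rfl).1
    (isIso_pushoutSection_of_isAffineOpen H hUST hUSX rfl hUS hUT hUX)

include H hUST hUSX in
/-- the affine piece `g⁻¹ UX ⊓ iY⁻¹ UT` of a fibre product is affine. -/
theorem isAffineOpen_inf (hUS : IsAffineOpen US) (hUT : IsAffineOpen UT) (hUX : IsAffineOpen UX) :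
    IsAffineOpen (g ⁻¹ᵁ UX ⊓ iY ⁻¹ᵁ UT) := by
  have : IsAffine _ := hUS
  have : IsAffine _ := hUT
  have : IsAffine _ := hUX
  exact .of_isIso (Scheme.Hom.isPullback_resLE H hUST hUSX rfl).isoPullback.hom

end pullback

end Groth.Agent.R2.H22.SchDomBC
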