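import Mathlib
import Groth.Agent.R2.H22SepPull
import Groth.Agent.R2.H22SepTrans
import Groth.Agent.R2.H22SchDomBC

/-!
# Separating families on a fibre product: affine pieces (helper22)

For `p : X ⟶ S`, `g : S' ⟶ S`, the opens `D(f)`, `f ∈ Γ(X ×_S S', fst⁻¹ V ⊓ snd⁻¹ U')` (`V`, `U'` affine over an affine
`U ⊆ S`) form a basis of `X ×_S S'`; on them the separating property of a pulled-back family follows from `SepMaps`
over `Γ(X,V) ⊗[Γ(S,U)] Γ(S',U')`.
-/

set_option autoImplicit false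
set_option linter.style.haveILetI false
universe u

namespace Groth.Agent.R2.H22.SepProd

open CategoryTheory AlgebraicGeometry Opposite TopologicalSpace TensorProduct Limits
open Groth.Agent.Lib.Helper20.Thickening
open Groth.Agent.R2.H22.SepCore Groth.Agent.R2.H22.SepSheaf Groth.Agent.R2.H22.SepPull
  Groth.Agent.R2.H22.SepTrans Groth.Agent.R2.H22.SchDomBC

variable {X S S' : Scheme.{u}} (p : X ⟶ S) (g : S' ⟶ S)

/-- the data of an affine piece of the fibre product together with a function on it. -/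
structure Piece where
  U : S.Opens
  V : X.Opens
  U' : S'.Opens
  hU : IsAffineOpen U
  hV : IsAffineOpen V
  hU' : IsAffineOpen U'
  hVU : V ≤ p ⁻¹ᵁ U
  hU'U : U' ≤ g ⁻¹ᵁ U
  f : Γ(pullback p g, (pullback.fst p g) ⁻¹ᵁ V ⊓ (pullback.snd p g) ⁻¹ᵁ U')

variable {p g}

/-- the affine piece. -/
noncomputable abbrev Piece.O (j : Piece p g) : (pullback p g).Opens :=
  (pullback.fst p g) ⁻¹ᵁ j.V ⊓ (pullback.snd p g) ⁻¹ᵁ j.U'

/-- the basic open of the affine piece. -/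
noncomputable abbrev Piece.D (j : Piece p g) : (pullback p g).Opens := (pullback p g).basicOpen j.f

theorem Piece.isAffineOpen_O (j : Piece p g) : IsAffineOpen j.O :=
  isAffineOpen_inf (IsPullback.of_hasPullback p g) j.hU'U j.hVU j.hU j.hU' j.hV

theorem Piece.isAffineOpen_D (j : Piece p g) : IsAffineOpen j.D :=
  j.isAffineOpen_O.basicOpen j.f

theorem Piece.D_le_O (j : Piece p g) : j.D ≤ j.O := (pullback p g).basicOpen_le j.f

theorem Piece.D_le (j : Piece p g) : j.D ≤ (pullback.fst p g) ⁻¹ᵁ j.V := j.D_le_O.trans inf_le_left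

variable (p g)

theorem isBasis_pieces : Opens.IsBasis (Set.range (fun j : Piece p g => j.D)) := by
  rw [Opens.isBasis_iff_nbhd]
  intro W x hxW
  have hcond : p (pullback.fst p g x) = g (pullback.snd p g x) := by
    have := congr($(pullback.condition (f := p) (g := g)) x)
    exact this
  obtain ⟨U, hU, hxU, -⟩ := exists_isAffineOpen_mem_and_subset
    (x := p (pullback.fst p g x)) (U := ⊤) trivial
  obtain ⟨V, hV, hxV, hVU⟩ := exists_isAffineOpen_mem_and_subset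
    (x := pullback.fst p g x) (U := p ⁻¹ᵁ U) hxU
  obtain ⟨U', hU', hxU', hU'U⟩ := exists_isAffineOpen_mem_and_subset
    (x := pullback.snd p g x) (U := g ⁻¹ᵁ U) (by show g _ ∈ U; rw [← hcond]; exact hxU)
  have hO : IsAffineOpen ((pullback.fst p g) ⁻¹ᵁ V ⊓ (pullback.snd p g) ⁻¹ᵁ U') :=
    isAffineOpen_inf (IsPullback.of_hasPullback p g) hU'U hVU hU hU' hV
  obtain ⟨f, hfW, hxf⟩ := hO.exists_basicOpen_le ⟨x, hxW⟩ ⟨hxV, hxU'⟩
  exact ⟨_, ⟨⟨U, V, U', hU, hV, hU', hVU, hU'U, f⟩, rfl⟩, hxf, hfW⟩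

/-- variant: pieces whose base open lies in a prescribed family of affine opens covering `S`. -/
theorem isBasis_pieces_of_cover (𝒰 : Set S.Opens)
    (h𝒰 : ∀ s : S, ∃ U ∈ 𝒰, IsAffineOpen U ∧ s ∈ U) :
    Opens.IsBasis (Set.range (fun j : {j : Piece p g // j.U ∈ 𝒰} => j.1.D)) := by
  rw [Opens.isBasis_iff_nbhd]
  intro W x hxW
  have hcond : p (pullback.fst p g x) = g (pullback.snd p g x) := by
    have := congr($(pullback.condition (f := p) (g := g)) x)
    exact this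
  obtain ⟨U, hU𝒰, hU, hxU⟩ := h𝒰 (p (pullback.fst p g x))
  obtain ⟨V, hV, hxV, hVU⟩ := exists_isAffineOpen_mem_and_subset
    (x := pullback.fst p g x) (U := p ⁻¹ᵁ U) hxU
  obtain ⟨U', hU', hxU', hU'U⟩ := exists_isAffineOpen_mem_and_subset
    (x := pullback.snd p g x) (U := g ⁻¹ᵁ U) (by show g _ ∈ U; rw [← hcond]; exact hxU)
  have hO : IsAffineOpen ((pullback.fst p g) ⁻¹ᵁ V ⊓ (pullback.snd p g) ⁻¹ᵁ U') :=
    isAffineOpen_inf (IsPullback.of_hasPullback p g) hU'U hVU hU hU' hV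
  obtain ⟨f, hfW, hxf⟩ := hO.exists_basicOpen_le ⟨x, hxW⟩ ⟨hxV, hxU'⟩
  exact ⟨_, ⟨⟨⟨U, V, U', hU, hV, hU', hVU, hU'U, f⟩, hU𝒰⟩, rfl⟩, hxf, hfW⟩

section consumer

variable {p g}
variable {F : X.Modules} [F.IsQuasicoherent] {ι : Type*} {G : ι → X.Modules}
  [∀ i, (G i).IsQuasicoherent] (u : ∀ i, F ⟶ G i)

/-- the algebraic input on an affine piece: the family `Γ(V, u i)` base-changed to
`Γ(X,V) ⊗[Γ(S,U)] Γ(S',U')` is `SepMaps`. -/
def PieceSep (j : Piece p g) : Prop :=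
  letI := (p.appLE j.U j.V j.hVU).hom.toAlgebra
  letI := (g.appLE j.U j.U' j.hU'U).hom.toAlgebra
  SepMaps (Γ(X, j.V) ⊗[Γ(S, j.U)] Γ(S', j.U'))
    (M := (Γ(X, j.V) ⊗[Γ(S, j.U)] Γ(S', j.U')) ⊗[Γ(X, j.V)] ((ΓUF j.hV).obj F))
    (N := fun i => (Γ(X, j.V) ⊗[Γ(S, j.U)] Γ(S', j.U')) ⊗[Γ(X, j.V)] ((ΓUF j.hV).obj (G i)))
    (fun i => (((ΓUF j.hV).map (u i)).hom).baseChange (Γ(X, j.V) ⊗[Γ(S, j.U)] Γ(S', j.U')))

theorem pullSepOn_piece (j : Piece p g) (h : PieceSep u j) :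
    PullSepOn (pullback.fst p g) (V' := j.D) u := by
  refine (pullSepOn_iff_tensorInj (pullback.fst p g) j.hV j.isAffineOpen_D j.D_le u).2 ?_
  intro x hx
  have hpush := isPushout_appLE (IsPullback.of_hasPullback p g) j.hU'U j.hVU j.hU j.hU' j.hV
  letI := (p.appLE j.U j.V j.hVU).hom.toAlgebra
  letI := (g.appLE j.U j.U' j.hU'U).hom.toAlgebra
  letI algBR : Algebra Γ(X, j.V) Γ(pullback p g, j.O) :=
    ((pullback.fst p g).appLE j.V j.O inf_le_left).hom.toAlgebra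
  letI algA'R : Algebra Γ(S', j.U') Γ(pullback p g, j.O) :=
    ((pullback.snd p g).appLE j.U' j.O inf_le_right).hom.toAlgebra
  letI algAR : Algebra Γ(S, j.U) Γ(pullback p g, j.O) :=
    (((pullback.fst p g).appLE j.V j.O inf_le_left).hom.comp
      (p.appLE j.U j.V j.hVU).hom).toAlgebra
  haveI : IsScalarTower Γ(S, j.U) Γ(X, j.V) Γ(pullback p g, j.O) :=
    .of_algebraMap_eq' rfl
  haveI : IsScalarTower Γ(S, j.U) Γ(S', j.U') Γ(pullback p g, j.O) :=
    .of_algebraMap_eq' <| congr($(hpush.1.1).hom)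
  have h1 : Algebra.IsPushout Γ(S, j.U) Γ(X, j.V) Γ(S', j.U') Γ(pullback p g, j.O) :=
    CommRingCat.isPushout_iff_isPushout.mp hpush
  letI algBS : Algebra Γ(X, j.V) Γ(pullback p g, j.D) :=
    ((pullback.fst p g).appLE j.V j.D j.D_le).hom.toAlgebra
  haveI : IsScalarTower Γ(X, j.V) Γ(pullback p g, j.O) Γ(pullback p g, j.D) :=
    .of_algebraMap_eq' <| by
      have := (pullback.fst p g).appLE_map (inf_le_left : j.O ≤ _) (homOfLE j.D_le_O).op
      exact congr($(this.symm).hom)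
  haveI : IsLocalization.Away j.f Γ(pullback p g, j.D) :=
    j.isAffineOpen_O.isLocalization_basicOpen j.f
  have hR := sepMaps_baseChange_of_algEquiv
    (Algebra.IsPushout.equiv Γ(S, j.U) Γ(X, j.V) Γ(S', j.U') Γ(pullback p g, j.O))
    (fun i => ((ΓUF j.hV).map (u i)).hom) h
  exact eq_zero_of_sepMaps_baseChange_away (R := Γ(pullback p g, j.O))
    (S := Γ(pullback p g, j.D)) j.f (fun i => ((ΓUF j.hV).map (u i)).hom) hR x hx

end consumer

end Groth.Agent.R2.H22.SepProd
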