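import Mathlib
import Groth.Agent.R2.H22SepProd
import Groth.Agent.R2.H22FibBC2
import Groth.Agent.Lib.Helper2FlatOver2
import Groth.Agent.Lib.Helper23FinType2

/-!
# The relative fibre criterion for separating families: scheme level (helper22)
-/

set_option autoImplicit false
set_option linter.style.haveILetI false
set_option linter.unusedSectionVars false
universe u

namespace Groth.Agent.R2.H22.FibSch

open CategoryTheory AlgebraicGeometry Opposite TopologicalSpace TensorProduct Limits
open Groth.Agent.Lib.Helper20.Thickening Groth.Agent.Lib.Helper20.PullbackAff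
open Groth.Agent.R2.H22.SepCore Groth.Agent.R2.H22.SepSheaf Groth.Agent.R2.H22.SepPull
  Groth.Agent.R2.H22.SepTrans Groth.Agent.R2.H22.SchDomBC Groth.Agent.R2.H22.SepProd
  Groth.Agent.R2.H22.SepBC Groth.Agent.R2.H22.FibBC

section away

variable {B : Type u} [CommRing B] {M : Type u} [AddCommGroup M] [Module B M] {ι : Type*}
  {N : ι → Type u} [∀ i, AddCommGroup (N i)] [∀ i, Module B (N i)]
  {R S : Type u} [CommRing R] [CommRing S] [Algebra B R] [Algebra R S] [Algebra B S]
  [IsScalarTower B R S]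

/-- converse of `eq_zero_of_sepMaps_baseChange_away`: joint injectivity over `R_f` gives the `f`-part of
the separating property over `R`. -/
theorem exists_pow_smul_eq_zero_of_away (f : R) [IsLocalization.Away f S] (u : ∀ i, M →ₗ[B] N i)
    (hJI : ∀ x : S ⊗[B] M, (∀ i, (u i).lTensor S x = 0) → x = 0)
    (y : R ⊗[B] M) (hy : ∀ i, ∃ n : ℕ, f ^ n • (u i).baseChange R y = 0) :
    ∃ n : ℕ, f ^ n • y = 0 := by
  haveI : IsLocalizedModule (Submonoid.powers f) (Algebra.linearMap R S) :=
    isLocalizedModule_iff_isLocalization.mpr inferInstance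
  haveI hG : IsLocalizedModule (Submonoid.powers f)
      (AlgebraTensorModule.rTensor B M (Algebra.linearMap R S)) :=
    IsLocalizedModule.rTensor R (Submonoid.powers f) _
  have h0 : AlgebraTensorModule.rTensor B M (Algebra.linearMap R S) y = 0 := by
    apply hJI
    intro i
    obtain ⟨n, hn⟩ := hy i
    rw [rTensor_lTensor_comm']
    have h1 := congrArg (AlgebraTensorModule.rTensor B (N i) (Algebra.linearMap R S)) hn
    rw [map_smul, map_zero, LinearMap.baseChange_eq_ltensor] at h1
    have hunit : IsUnit (algebraMap R S (f ^ n)) := by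
      rw [map_pow]
      exact (IsLocalization.Away.algebraMap_isUnit f).pow _
    rw [← algebraMap_smul S] at h1
    exact (hunit.smul_eq_zero).1 h1
  obtain ⟨⟨_, k, rfl⟩, hk⟩ := (IsLocalizedModule.eq_zero_iff (Submonoid.powers f)
    (AlgebraTensorModule.rTensor B M (Algebra.linearMap R S))).1 h0
  exact ⟨k, hk⟩

end away

section piece

variable {X S S' : Scheme.{u}} {p : X ⟶ S} {g : S' ⟶ S}
variable {F : X.Modules} [F.IsQuasicoherent] {ι : Type*} {G : ι → X.Modules}
  [∀ i, (G i).IsQuasicoherent] (u : ∀ i, F ⟶ G i)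

/-- a separating pulled-back family gives the algebraic separating property on every affine piece. -/
theorem pieceSep_of_sep
    (hsep : Sep (fun i => (Scheme.Modules.pullback (pullback.fst p g)).map (u i)))
    (j : Piece p g) : PieceSep u j := by
  have hpush := isPushout_appLE (IsPullback.of_hasPullback p g) j.hU'U j.hVU j.hU j.hU' j.hV
  unfold PieceSep
  letI := (p.appLE j.U j.V j.hVU).hom.toAlgebra
  letI := (g.appLE j.U j.U' j.hU'U).hom.toAlgebra
  letI algBR : Algebra Γ(X, j.V) Γ(pullback p g, j.O) :=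
    ((pullback.fst p g).appLE j.V j.O inf_le_left).hom.toAlgebra
  letI algA'R : Algebra Γ(S', j.U') Γ(pullback p g, j.O) :=
    ((pullback.snd p g).appLE j.U' j.O inf_le_right).hom.toAlgebra
  letI algAR : Algebra Γ(S, j.U) Γ(pullback p g, j.O) :=
    (((pullback.fst p g).appLE j.V j.O inf_le_left).hom.comp
      (p.appLE j.U j.V j.hVU).hom).toAlgebra
  haveI : IsScalarTower Γ(S, j.U) Γ(X, j.V) Γ(pullback p g, j.O) :=
    .of_algebraMap_eq' rfl
  haveI : IsScalarTower Γ(S, j.U) Γ(S', j.U') Γ(pullback p g, j.O) :=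
    .of_algebraMap_eq' <| congr($(hpush.1.1).hom)
  have h1 : Algebra.IsPushout Γ(S, j.U) Γ(X, j.V) Γ(S', j.U') Γ(pullback p g, j.O) :=
    CommRingCat.isPushout_iff_isPushout.mp hpush
  refine sepMaps_baseChange_of_algEquiv
    (Algebra.IsPushout.equiv Γ(S, j.U) Γ(X, j.V) Γ(S', j.U') Γ(pullback p g, j.O)).symm
    (fun i => ((ΓUF j.hV).map (u i)).hom) ?_
  intro f y hy
  let j' : Piece p g := { j with f := f }
  letI algBS : Algebra Γ(X, j.V) Γ(pullback p g, j'.D) :=
    ((pullback.fst p g).appLE j.V j'.D j'.D_le).hom.toAlgebra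
  haveI : IsScalarTower Γ(X, j.V) Γ(pullback p g, j.O) Γ(pullback p g, j'.D) :=
    .of_algebraMap_eq' <| by
      have := (pullback.fst p g).appLE_map (inf_le_left : j.O ≤ _) (homOfLE j'.D_le_O).op
      exact congr($(this.symm).hom)
  haveI : IsLocalization.Away f Γ(pullback p g, j'.D) :=
    j.isAffineOpen_O.isLocalization_basicOpen f
  have hT := (pullSepOn_iff_tensorInj (pullback.fst p g) j.hV j'.isAffineOpen_D j'.D_le u).1
    (fun t ht => hsep j'.D t ht)
  exact exists_pow_smul_eq_zero_of_away (R := Γ(pullback p g, j.O))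
    (S := Γ(pullback p g, j'.D)) f (fun i => ((ΓUF j.hV).map (u i)).hom)
    (fun x hx => hT x hx) y hy

end piece

section main

variable {X S : Scheme.{u}} [IsLocallyNoetherian X] (p : X ⟶ S)
variable {F : X.Modules} [F.IsQuasicoherent] [SheafOfModules.IsFiniteType (R := X.ringCatSheaf) F]
  {ι : Type*} {G : ι → X.Modules}
  [∀ i, (G i).IsQuasicoherent] (u : ∀ i, F ⟶ G i)

/-- the kernel of `Γ(S,U) → Γ(Spec κ(s), ⊤)` for the point `s` of a prime `𝔭` of `Γ(S,U)`. -/
theorem ker_appLE_fromSpecResidueField {U : S.Opens} (hU : IsAffineOpen U)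
    (P : PrimeSpectrum Γ(S, U))
    (htop : (⊤ : (Spec (S.residueField (hU.fromSpec P))).Opens) ≤
      (S.fromSpecResidueField (hU.fromSpec P)) ⁻¹ᵁ U) :
    RingHom.ker ((S.fromSpecResidueField (hU.fromSpec P)).appLE U ⊤ htop).hom = P.asIdeal := by
  set s : S := hU.fromSpec P with hs
  have hfield : IsField Γ(Spec (S.residueField s), ⊤) :=
    MulEquiv.isField (Field.toIsField (S.residueField s))
      (Scheme.ΓSpecIso (S.residueField s)).commRingCatIsoToRingEquiv.toMulEquiv
  let y : Spec (S.residueField s) := IsLocalRing.closedPoint (S.residueField s)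
  have hy : y ∈ (⊤ : (Spec (S.residueField s)).Opens) := trivial
  have key := IsAffineOpen.comap_primeIdealOf_appLE (f := S.fromSpecResidueField s) (x := y)
    U hU ⊤ (isAffineOpen_top _) htop hy
  have h1 : hU.primeIdealOf ⟨S.fromSpecResidueField s y, htop hy⟩ = P := by
    apply hU.fromSpec.isOpenEmbedding.injective
    rw [hU.fromSpec_primeIdealOf]
    exact Scheme.fromSpecResidueField_apply s y
  rw [h1] at key
  have h2 := congrArg PrimeSpectrum.asIdeal key
  rw [PrimeSpectrum.comap_asIdeal] at h2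
  rw [← h2, RingHom.ker_eq_comap_bot]
  congr 1
  letI := hfield.toField
  exact ((Ideal.eq_bot_or_top _).resolve_right
    ((isAffineOpen_top _).primeIdealOf ⟨y, hy⟩).isPrime.ne_top).symm

/-- **The relative fibre criterion for separating families** (EGA IV 11.9.16, case `Z_λ = X`). -/
theorem sep_baseChange_of_fibres (hG : ∀ i, FlatMod.IsFlatOver p (G i))
    (hfib : ∀ s : S, Sep (fun i =>
      (Scheme.Modules.pullback (pullback.fst p (S.fromSpecResidueField s))).map (u i)))
    {S' : Scheme.{u}} (g : S' ⟶ S) :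
    Sep (fun i => (Scheme.Modules.pullback (pullback.fst p g)).map (u i)) := by
  refine sep_of_basis (fun i => (Scheme.Modules.pullback (pullback.fst p g)).map (u i))
    (fun j : Piece p g => j.D) (isBasis_pieces p g) ?_
  intro j
  refine pullSepOn_piece u j ?_
  unfold PieceSep
  letI algAB := (p.appLE j.U j.V j.hVU).hom.toAlgebra
  letI := (g.appLE j.U j.U' j.hU'U).hom.toAlgebra
  haveI : IsNoetherianRing Γ(X, j.V) := IsLocallyNoetherian.component_noetherian ⟨j.V, j.hV⟩
  letI : Module Γ(S, j.U) ((ΓUF j.hV).obj F) :=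
    Module.compHom _ (algebraMap Γ(S, j.U) Γ(X, j.V))
  haveI : IsScalarTower Γ(S, j.U) Γ(X, j.V) ((ΓUF j.hV).obj F) :=
    IsScalarTower.of_algebraMap_smul fun _ _ => rfl
  letI : ∀ i, Module Γ(S, j.U) ((ΓUF j.hV).obj (G i)) := fun i =>
    Module.compHom _ (algebraMap Γ(S, j.U) Γ(X, j.V))
  haveI : ∀ i, IsScalarTower Γ(S, j.U) Γ(X, j.V) ((ΓUF j.hV).obj (G i)) := fun i =>
    IsScalarTower.of_algebraMap_smul fun _ _ => rfl
  haveI : Module.Finite Γ(X, j.V) Γ(F, j.V) :=
    Groth.Agent.Lib.Helper23.FinType.finite_of_isFiniteType F j.hV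
  haveI : Module.Finite Γ(X, j.V) ((ΓUF j.hV).obj F) := Module.Finite.equiv (ΓUEquiv j.hV F)
  haveI : ∀ i, Module.Flat Γ(S, j.U) ((ΓUF j.hV).obj (G i)) := by
    intro i
    have hflat := (Groth.Agent.Lib.Helper2.FlatOver.isFlatOver_iff_forall_affine p (G i)).1 (hG i)
      j.V j.U j.hVU j.hV j.hU
    letI : Module Γ(S, j.U) Γ(G i, j.V) := Module.compHom _ (p.appLE j.U j.V j.hVU).hom
    haveI : Module.Flat Γ(S, j.U) Γ(G i, j.V) := hflat
    let e : Γ(G i, j.V) ≃ₗ[Γ(S, j.U)] ((ΓUF j.hV).obj (G i)) :=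
      { (ΓUEquiv j.hV (G i)).toAddEquiv with
        map_smul' := fun a x => (ΓUEquiv j.hV (G i)).map_smul (algebraMap Γ(S, j.U) Γ(X, j.V) a) x }
    exact Module.Flat.of_linearEquiv e.symm
  refine sepMaps_baseChange_of_fibres (A := Γ(S, j.U)) (B := Γ(X, j.V))
    (fun i => ((ΓUF j.hV).map (u i)).hom) ?_ Γ(S', j.U')
  -- the fibrewise hypothesis
  intro 𝔭 h𝔭
  set P : PrimeSpectrum Γ(S, j.U) := ⟨𝔭, h𝔭⟩ with hP
  set s : S := j.hU.fromSpec P with hs
  have hsU : s ∈ j.U := by
    have : s ∈ j.hU.fromSpec.opensRange := ⟨P, rfl⟩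
    rwa [j.hU.opensRange_fromSpec] at this
  have htop : (⊤ : (Spec (S.residueField s)).Opens) ≤ (S.fromSpecResidueField s) ⁻¹ᵁ j.U := by
    intro y _
    show S.fromSpecResidueField s y ∈ j.U
    rw [Scheme.fromSpecResidueField_apply]
    exact hsU
  let js : Piece p (S.fromSpecResidueField s) :=
    ⟨j.U, j.V, ⊤, j.hU, j.hV, isAffineOpen_top _, j.hVU, htop, 1⟩
  have hps := pieceSep_of_sep u (hfib s) js
  have hfield : IsField Γ(Spec (S.residueField s), ⊤) :=
    MulEquiv.isField (Field.toIsField (S.residueField s))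
      (Scheme.ΓSpecIso (S.residueField s)).commRingCatIsoToRingEquiv.toMulEquiv
  refine ⟨Γ(Spec (S.residueField s), ⊤), hfield.toField,
    ((S.fromSpecResidueField s).appLE j.U ⊤ htop).hom.toAlgebra, ?_, ?_⟩
  · exact ker_appLE_fromSpecResidueField j.hU P htop
  · exact hps

end main

end Groth.Agent.R2.H22.FibSch
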