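import Mathlib
import Groth.Agent.R2.H22FibMain

/-!
# The fibre criterion at one prime and one function (helper22)

Local form of `sepMaps_of_fibKSep`: `B` Noetherian, `M` finite, `N i` `A`-flat, `q` a prime of `B` not containing `f`, `K` a field
over `A` with kernel `q ∩ A`.  If the family is `f`-separating on `M ⊗[A] K` (`FibKSepAt u K f`) and all `u i x` are `f`-power
torsion, then `x` vanishes at `q`.
-/

set_option autoImplicit false
set_option linter.style.haveILetI false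
set_option linter.unusedSectionVars false
universe u

namespace Groth.Agent.R2.H22.LocMain

open TensorProduct Groth.Agent.R2.H22.SepCore Groth.Agent.R2.H22.FibK Groth.Agent.R2.H22.FibGr
  Groth.Agent.R2.H22.FibKrull

section K

variable {A : Type u} [CommRing A] {B : Type u} [CommRing B] [Algebra A B]
  {M : Type u} [AddCommGroup M] [Module B M] [Module A M] [IsScalarTower A B M] {ι : Type*}
  {N : ι → Type u} [∀ i, AddCommGroup (N i)] [∀ i, Module B (N i)] [∀ i, Module A (N i)]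
  [∀ i, IsScalarTower A B (N i)] (u : ∀ i, M →ₗ[B] N i)

/-- the `f`-part of `FibKSep`. -/
def FibKSepAt (K : Type u) [Field K] [Algebra A K] (f : B) : Prop :=
  ∀ z : M ⊗[A] K,
    (∀ i, ∃ n : ℕ, f ^ n • AlgebraTensorModule.rTensor A K (u i) z = 0) → ∃ n : ℕ, f ^ n • z = 0

variable (𝔭 : Ideal A) [𝔭.IsPrime] (K : Type u) [Field K] [Algebra A K]
  {V : Type u} [AddCommGroup V] [Module A V]

theorem exists_smul_pow_smul_eq_zero_at (hK : RingHom.ker (algebraMap A K) = 𝔭) (f : B)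
    (hfib : FibKSepAt (A := A) u K f) (hV : ∀ a ∈ 𝔭, ∀ v : V, a • v = 0) (y : M ⊗[A] V)
    (hy : ∀ i, ∃ n : ℕ, f ^ n • AlgebraTensorModule.rTensor A V (u i) y = 0) :
    ∃ a : A, a ∉ 𝔭 ∧ ∃ n : ℕ, a • f ^ n • y = 0 := by
  classical
  set yK := AlgebraTensorModule.lTensor B M (TensorProduct.mk A K V 1) y with hyK
  have hc : ∀ l, ∃ n : ℕ, f ^ n • theta (B := B) A K V M yK l = 0 := by
    intro l
    apply hfib
    intro i
    obtain ⟨n, hn⟩ := hy i
    refine ⟨n, ?_⟩
    rw [← theta_natural (B := B) A K V (u i), hyK, lTensor_rTensor_comm', ← Finsupp.smul_apply,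
      ← map_smul, ← map_smul, hn, map_zero, map_zero, Finsupp.zero_apply]
  choose k hk using hc
  set c := theta (B := B) A K V M yK with hcdef
  have hcz : f ^ (c.support.sup k) • c = 0 := by
    ext l
    rw [Finsupp.smul_apply, Finsupp.zero_apply]
    by_cases hl : l ∈ c.support
    · have hle : k l ≤ c.support.sup k := Finset.le_sup hl
      obtain ⟨d, hd⟩ := Nat.exists_eq_add_of_le hle
      rw [hd, pow_add, mul_comm, mul_smul, hk l, smul_zero]
    · rw [Finsupp.notMem_support_iff.1 hl, smul_zero]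
  have h1 : f ^ (c.support.sup k) • yK = 0 := by
    apply (theta (B := B) A K V M).injective
    rw [map_smul, map_zero]
    exact hcz
  have h2 : (1 : K) ⊗ₜ[A] (f ^ (c.support.sup k) • y) = 0 := by
    rw [← leftComm_lTensor_mk (B := B), map_smul, ← hyK, h1, map_zero]
  have hW : ∀ a ∈ 𝔭, ∀ w : M ⊗[A] V, a • w = 0 := by
    intro a ha w
    induction w using TensorProduct.induction_on with
    | zero => simp
    | tmul m v => rw [← TensorProduct.tmul_smul, hV a ha v, TensorProduct.tmul_zero]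
    | add w₁ w₂ h₁ h₂ => rw [smul_add, h₁, h₂, add_zero]
  obtain ⟨a, ha, haw⟩ := exists_smul_eq_zero_of_tmul_eq_zero 𝔭 K hK hW _ h2
  exact ⟨a, ha, c.support.sup k, haw⟩

end K

section Gr

variable {A : Type u} [CommRing A] {B : Type u} [CommRing B] [Algebra A B]
  {M : Type u} [AddCommGroup M] [Module B M] [Module A M] [IsScalarTower A B M] {ι : Type*}
  {N : ι → Type u} [∀ i, AddCommGroup (N i)] [∀ i, Module B (N i)] [∀ i, Module A (N i)]
  [∀ i, IsScalarTower A B (N i)] [∀ i, Module.Flat A (N i)] (u : ∀ i, M →ₗ[B] N i)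
  (𝔭 : Ideal A) [𝔭.IsPrime] (K : Type u) [Field K] [Algebra A K]

theorem exists_smul_pow_smul_mem_at (hK : RingHom.ker (algebraMap A K) = 𝔭) (f : B)
    (hfib : FibKSepAt (A := A) u K f) (n : ℕ) (x : M)
    (hx : x ∈ ((𝔭 ^ n) • ⊤ : Submodule A M)) (hux : ∀ i, ∃ m : ℕ, f ^ m • u i x = 0) :
    ∃ a : A, a ∉ 𝔭 ∧ ∃ m : ℕ, a • f ^ m • x ∈ ((𝔭 ^ (n + 1)) • ⊤ : Submodule A M) := by
  obtain ⟨τ, hτ⟩ := exists_mulMap_eq (B := B) (𝔭 ^ n) M hx
  have h1 : ∀ i, ∃ m : ℕ, f ^ m • AlgebraTensorModule.rTensor A ↥(𝔭 ^ n) (u i) τ = 0 := by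
    intro i
    obtain ⟨m, hm⟩ := hux i
    refine ⟨m, ?_⟩
    apply mulMap_injective (B := B) (𝔭 ^ n) (N i)
    rw [map_smul, mulMap_natural, hτ, hm, map_zero]
  set V₁ : Submodule A ↥(𝔭 ^ n) := 𝔭 • ⊤ with hV₁
  have hV : ∀ a ∈ 𝔭, ∀ v : ↥(𝔭 ^ n) ⧸ V₁, a • v = 0 := by
    intro a ha v
    obtain ⟨v, rfl⟩ := Submodule.Quotient.mk_surjective _ v
    rw [← Submodule.Quotient.mk_smul, Submodule.Quotient.mk_eq_zero]
    exact Submodule.smul_mem_smul ha Submodule.mem_top
  have h2 : ∀ i, ∃ m : ℕ, f ^ m • AlgebraTensorModule.rTensor A (↥(𝔭 ^ n) ⧸ V₁) (u i)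
      (AlgebraTensorModule.lTensor B M V₁.mkQ τ) = 0 := by
    intro i
    obtain ⟨m, hm⟩ := h1 i
    refine ⟨m, ?_⟩
    rw [lTensor_rTensor_comm', ← map_smul, hm, map_zero]
  obtain ⟨a, ha, m, ham⟩ := exists_smul_pow_smul_eq_zero_at u 𝔭 K hK f hfib hV _ h2
  refine ⟨a, ha, m, ?_⟩
  have h3 : (V₁.mkQ).lTensor M (a • f ^ m • τ) = 0 := by
    have e : (V₁.mkQ).lTensor M (a • f ^ m • τ) =
        a • f ^ m • AlgebraTensorModule.lTensor B M V₁.mkQ τ := by
      rw [map_smul]
      congr 1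
      exact map_smul (AlgebraTensorModule.lTensor B M V₁.mkQ) (f ^ m) τ
    rw [e, ham]
  have hex := lTensor_exact M (LinearMap.exact_subtype_mkQ V₁) (Submodule.mkQ_surjective V₁)
  obtain ⟨σ, hσ⟩ := (hex _).1 h3
  have h4 : ∀ σ : M ⊗[A] V₁, mulMap (B := B) (𝔭 ^ n) M ((V₁.subtype).lTensor M σ) ∈
      ((𝔭 ^ (n + 1)) • ⊤ : Submodule A M) := by
    intro σ
    induction σ using TensorProduct.induction_on with
    | zero => simp
    | tmul p v =>
      rw [LinearMap.lTensor_tmul, mulMap_tmul]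
      exact Submodule.smul_mem_smul (coe_mem_pow_succ 𝔭 n v.1 v.2) Submodule.mem_top
    | add σ₁ σ₂ h₁ h₂ =>
      rw [map_add, map_add]
      exact Submodule.add_mem _ h₁ h₂
  have h5 := h4 σ
  rw [hσ] at h5
  have e2 : mulMap (B := B) (𝔭 ^ n) M (a • f ^ m • τ) = a • f ^ m • x := by
    rw [LinearMap.map_smul_of_tower, map_smul, hτ]
  rwa [e2] at h5

end Gr

section Main

variable {A : Type u} [CommRing A] {B : Type u} [CommRing B] [Algebra A B] [IsNoetherianRing B]
  {M : Type u} [AddCommGroup M] [Module B M] [Module A M] [IsScalarTower A B M] [Module.Finite B M]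
  {ι : Type*} {N : ι → Type u} [∀ i, AddCommGroup (N i)] [∀ i, Module B (N i)]
  [∀ i, Module A (N i)] [∀ i, IsScalarTower A B (N i)] [∀ i, Module.Flat A (N i)]

/-- **the fibre criterion at one prime**. -/
theorem exists_smul_eq_zero_of_fibKSepAt (u : ∀ i, M →ₗ[B] N i) (f : B) (q : Ideal B)
    [hq : q.IsPrime] (hfq : f ∉ q) (K : Type u) [Field K] [Algebra A K]
    (hK : RingHom.ker (algebraMap A K) = q.comap (algebraMap A B))
    (hfibK : FibKSepAt (A := A) u K f) (x : M) (hx : ∀ i, ∃ n : ℕ, f ^ n • u i x = 0) :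
    ∃ g : B, g ∉ q ∧ g • x = 0 := by
  haveI : (q.comap (algebraMap A B)).IsPrime := Ideal.comap_isPrime _ _
  have hstep : ∀ n : ℕ, ∃ g : B, g ∉ q ∧
      g • x ∈ (((q.comap (algebraMap A B)) ^ n) • ⊤ : Submodule A M) := by
    intro n
    induction n with
    | zero => exact ⟨1, fun h => hq.ne_top ((Ideal.eq_top_iff_one q).2 h), by simp⟩
    | succ n ih =>
      obtain ⟨g, hg, hgx⟩ := ih
      have hux : ∀ i, ∃ m : ℕ, f ^ m • u i (g • x) = 0 := by
        intro i
        obtain ⟨m, hm⟩ := hx i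
        exact ⟨m, by rw [map_smul, smul_comm, hm, smul_zero]⟩
      obtain ⟨a, ha, m, ham⟩ := exists_smul_pow_smul_mem_at u (q.comap (algebraMap A B)) K hK f
        hfibK n (g • x) hgx hux
      refine ⟨algebraMap A B a * f ^ m * g, ?_, ?_⟩
      · intro h
        rcases hq.mem_or_mem h with h | h
        · rcases hq.mem_or_mem h with h | h
          · exact ha (Ideal.mem_comap.2 h)
          · exact hfq (hq.mem_of_pow_mem m h)
        · exact hg h
      · rw [mul_smul, mul_smul, algebraMap_smul]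
        exact ham
  have hJ : (q.comap (algebraMap A B)).map (algebraMap A B) ≤ q := Ideal.map_comap_le
  have hstep' : ∀ n : ℕ, ∃ g : B, g ∉ q ∧
      g • x ∈ ((((q.comap (algebraMap A B)).map (algebraMap A B)) ^ n) • ⊤ : Submodule B M) := by
    intro n
    obtain ⟨g, hg, hgx⟩ := hstep n
    refine ⟨g, hg, ?_⟩
    refine Submodule.smul_induction_on hgx (fun a ha m _ => ?_) (fun z₁ z₂ h₁ h₂ => ?_)
    · rw [← algebraMap_smul B a m]
      refine Submodule.smul_mem_smul ?_ Submodule.mem_top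
      rw [← Ideal.map_pow]
      exact Ideal.mem_map_of_mem _ ha
    · exact Submodule.add_mem _ h₁ h₂
  exact exists_smul_eq_zero_of_forall_mem_pow_smul q _ hJ x hstep'

end Main

end Groth.Agent.R2.H22.LocMain
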