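import Mathlib
import Groth.Agent.R2.H22LocMain
import Groth.Agent.Lib.Helper3FlatDescE

/-!
# The fibre criterion at one prime for one multiplication, finitely presented case (helper22)

`RegAt M K f h`: multiplication by `h` is injective on `(M ⊗[A] K)_f`.  Main result `exists_smul_eq_zero_of_regAt`
(EGA IV 11.3.7, injectivity part, without Noetherian hypotheses): `B` a finitely presented `A`-algebra, `M` a finitely
presented `B`-module flat over `A`, `q` a prime of `B` not containing `f`, `K` a field over `A` with kernel `q ∩ A`;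
if `h` is `RegAt` on the fibre and `f ^ n • h • x = 0` then `x` vanishes at `q`.
-/

set_option autoImplicit false
set_option linter.style.haveILetI false
set_option linter.unusedSectionVars false
universe u

namespace Groth.Agent.R2.H22.LocDesc

open TensorProduct MvPolynomial
open Groth.Agent.Lib.Helper3.FlatLoc Groth.Agent.Lib.Helper3.FlatDesc Groth.Agent.Lib.Helper3.FlatOpen
open Groth.Agent.R2.H22.LocMain

section RegAt

variable {A : Type u} [CommRing A] {B : Type u} [CommRing B] [Algebra A B]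
  (M : Type u) [AddCommGroup M] [Module B M] [Module A M] [IsScalarTower A B M]

/-- multiplication by `h` is injective on `(M ⊗[A] K)_f`. -/
def RegAt (K : Type u) [AddCommGroup K] [Module A K] (f h : B) : Prop :=
  ∀ z : M ⊗[A] K, (∃ n : ℕ, f ^ n • h • z = 0) → ∃ n : ℕ, f ^ n • z = 0

variable {M}

theorem rTensor_lsmul (K : Type u) [AddCommGroup K] [Module A K] (h : B) (z : M ⊗[A] K) :
    AlgebraTensorModule.rTensor A K (LinearMap.lsmul B M h) z = h • z := by
  induction z using TensorProduct.induction_on with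
  | zero => simp
  | tmul m c => simp [TensorProduct.smul_tmul']
  | add z₁ z₂ h₁ h₂ => rw [map_add, h₁, h₂, smul_add]

theorem fibKSepAt_of_regAt (K : Type u) [Field K] [Algebra A K] (f h : B)
    (hreg : RegAt (A := A) M K f h) :
    FibKSepAt (A := A) (N := fun _ : Unit => M) (fun _ => LinearMap.lsmul B M h) K f := by
  intro z hz
  obtain ⟨n, hn⟩ := hz ()
  rw [rTensor_lsmul] at hn
  exact hreg z ⟨n, hn⟩

end RegAt

section Transfer

variable {A₁ A B₁ B : Type u} [CommRing A₁] [CommRing A] [CommRing B₁] [CommRing B]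
  [Algebra A₁ A] [Algebra A₁ B₁] [Algebra A B]
  {M₁ M : Type u} [AddCommGroup M₁] [Module A₁ M₁] [Module B₁ M₁] [IsScalarTower A₁ B₁ M₁]
  [AddCommGroup M] [Module A M] [Module B M] [IsScalarTower A B M] [Module A₁ M]
  [IsScalarTower A₁ A M]
  (K : Type u) [AddCommGroup K] [Module A K] [Module A₁ K] [IsScalarTower A₁ A K]

theorem bcMap_smul (ψ : M₁ →ₗ[A₁] M) (β : B₁ →+* B) (hβ : ∀ b m, ψ (b • m) = β b • ψ m)
    (b : B₁) (z : M₁ ⊗[A₁] K) :
    bcMap (R := A) ψ K (b • z) = β b • bcMap (R := A) ψ K z := by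
  induction z using TensorProduct.induction_on with
  | zero => simp
  | tmul m c => rw [TensorProduct.smul_tmul', bcMap_tmul, bcMap_tmul, hβ, TensorProduct.smul_tmul']
  | add z₁ z₂ h₁ h₂ => rw [smul_add, map_add, h₁, h₂, map_add, smul_add]

/-- transfer of `RegAt` along a base change of the module. -/
theorem regAt_of_isBaseChange (ψ : M₁ →ₗ[A₁] M) (hψ : IsBaseChange A ψ) (β : B₁ →+* B)
    (hβ : ∀ b m, ψ (b • m) = β b • ψ m) (f₁ h₁ : B₁)
    (hreg : RegAt (A := A) M K (β f₁) (β h₁)) : RegAt (A := A₁) M₁ K f₁ h₁ := by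
  rintro z ⟨n, hn⟩
  have h1 := congrArg (bcMap (R := A) ψ K) hn
  rw [bcMap_smul K ψ β hβ, bcMap_smul K ψ β hβ, map_pow, map_zero] at h1
  obtain ⟨k, hk⟩ := hreg _ ⟨n, h1⟩
  refine ⟨k, ?_⟩
  apply (bcMap_bijective ψ hψ K).injective
  rw [bcMap_smul K ψ β hβ, map_pow, hk, map_zero]

end Transfer

attribute [local instance] MvPolynomial.algebraMvPolynomial

section Model

variable {Λ : Type u} [CommRing Λ]
  {σ ι κ : Type} [Finite σ] [Fintype ι] [DecidableEq ι] [Fintype κ]
  (w : κ → ι → MvPolynomial σ Λ) {R : Type u} [CommRing R] [Algebra Λ R]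

theorem exists_map_eq (A₁ : Subalgebra Λ R) (p : MvPolynomial σ R)
    (hp : (p.coeffs : Set R) ⊆ A₁) :
    ∃ p₁ : MvPolynomial σ A₁, algebraMap (MvPolynomial σ A₁) (MvPolynomial σ R) p₁ = p := by
  have : p ∈ Set.range (MvPolynomial.map (algebraMap A₁ R) (σ := σ)) := by
    rw [MvPolynomial.mem_range_map_iff_coeffs_subset]
    intro c hc
    exact ⟨⟨c, hp hc⟩, rfl⟩
  obtain ⟨p₁, hp₁⟩ := this
  exact ⟨p₁, hp₁⟩

theorem Fmap_injective (A₁ : Subalgebra Λ R) (ι' : Type) :
    Function.Injective (Fmap (MvPolynomial σ A₁) (MvPolynomial σ R) ι') := by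
  intro x y hxy
  funext i
  have := congrFun hxy i
  rw [Fmap_apply, Fmap_apply] at this
  exact MvPolynomial.map_injective _ (Subtype.val_injective) this

set_option maxHeartbeats 1600000 in
/-- the model case. -/
theorem model_exists_smul_eq_zero [IsNoetherianRing Λ]
    (hflat : Module.Flat R ((ι → MvPolynomial σ R) ⧸ KT w (MvPolynomial σ R)))
    (q : Ideal (MvPolynomial σ R)) [hq : q.IsPrime] (f h : MvPolynomial σ R) (hfq : f ∉ q)
    (K : Type u) [Field K] [Algebra R K]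
    (hK : RingHom.ker (algebraMap R K) = q.comap (algebraMap R (MvPolynomial σ R)))
    (hreg : RegAt (A := R) ((ι → MvPolynomial σ R) ⧸ KT w (MvPolynomial σ R)) K f h)
    (y : (ι → MvPolynomial σ R) ⧸ KT w (MvPolynomial σ R))
    (hy : ∃ n : ℕ, f ^ n • h • y = 0) : ∃ g : MvPolynomial σ R, g ∉ q ∧ g • y = 0 := by
  classical
  obtain ⟨n, hn⟩ := hy
  obtain ⟨v, rfl⟩ := Submodule.Quotient.mk_surjective _ y
  have hmem : f ^ n • h • v ∈ KT w (MvPolynomial σ R) := by
    rw [← Submodule.Quotient.mk_eq_zero, Submodule.Quotient.mk_smul, Submodule.Quotient.mk_smul]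
    exact hn
  obtain ⟨a, ha⟩ := hmem
  let extra : Finset R := f.coeffs ∪ h.coeffs ∪ (Finset.univ.biUnion fun i => (v i).coeffs) ∪
    (Finset.univ.biUnion fun j => (a j).coeffs)
  obtain ⟨A₁, hfg, hextra, hflat₁⟩ := exists_fg_subalgebra_flat_global w hflat extra
  have hef : (f.coeffs : Set R) ⊆ A₁ := fun c hc => hextra (by
    simp only [extra, Finset.coe_union, Set.mem_union]
    exact Or.inl (Or.inl (Or.inl hc)))
  have heh : (h.coeffs : Set R) ⊆ A₁ := fun c hc => hextra (by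
    simp only [extra, Finset.coe_union, Set.mem_union]
    exact Or.inl (Or.inl (Or.inr hc)))
  have hev : ∀ i, ((v i).coeffs : Set R) ⊆ A₁ := fun i c hc => hextra (by
    simp only [extra, Finset.coe_union, Set.mem_union]
    exact Or.inl (Or.inr (Finset.mem_coe.2 (Finset.mem_biUnion.2 ⟨i, Finset.mem_univ i, hc⟩))))
  have hea : ∀ j, ((a j).coeffs : Set R) ⊆ A₁ := fun j c hc => hextra (by
    simp only [extra, Finset.coe_union, Set.mem_union]
    exact Or.inr (Finset.mem_coe.2 (Finset.mem_biUnion.2 ⟨j, Finset.mem_univ j, hc⟩)))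
  obtain ⟨f₁, hf₁⟩ := exists_map_eq A₁ f hef
  obtain ⟨h₁, hh₁⟩ := exists_map_eq A₁ h heh
  choose v₁ hv₁ using fun i => exists_map_eq A₁ (v i) (hev i)
  choose a₁ ha₁ using fun j => exists_map_eq A₁ (a j) (hea j)
  haveI := isScalarTower_mvPolynomial (σ := σ) Λ A₁ R
  have hFv : Fmap (MvPolynomial σ A₁) (MvPolynomial σ R) ι v₁ = v := funext hv₁
  have hFa : Fmap (MvPolynomial σ A₁) (MvPolynomial σ R) κ a₁ = a := funext ha₁
  have hrel : WT w (MvPolynomial σ A₁) a₁ = f₁ ^ n • h₁ • v₁ := by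
    apply Fmap_injective A₁ ι
    rw [← WT_Fmap, hFa, ha, Fmap_smul', Fmap_smul', hFv, map_pow, hf₁, hh₁]
  haveI : Algebra.FiniteType Λ A₁ := (Subalgebra.fg_iff_finiteType A₁).mp hfg
  haveI : IsNoetherianRing A₁ := Algebra.FiniteType.isNoetherianRing Λ A₁
  set q₁ : Ideal (MvPolynomial σ A₁) :=
    q.comap (algebraMap (MvPolynomial σ A₁) (MvPolynomial σ R)) with hq₁
  haveI : q₁.IsPrime := Ideal.comap_isPrime _ _
  have hf₁q : f₁ ∉ q₁ := fun hmem => hfq (by rw [← hf₁]; exact hmem)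
  have hK₁ : RingHom.ker (algebraMap A₁ K) = q₁.comap (algebraMap A₁ (MvPolynomial σ A₁)) := by
    ext x
    rw [RingHom.mem_ker, Ideal.mem_comap, Ideal.mem_comap]
    have e1 : algebraMap A₁ K x = algebraMap R K (x : R) := rfl
    have e2 : algebraMap (MvPolynomial σ A₁) (MvPolynomial σ R)
        (algebraMap A₁ (MvPolynomial σ A₁) x) = algebraMap R (MvPolynomial σ R) (x : R) := by
      rw [MvPolynomial.algebraMap_eq, MvPolynomial.algebraMap_eq]
      exact MvPolynomial.map_C _ _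
    rw [e1, ← RingHom.mem_ker, hK, Ideal.mem_comap, e2]
  have hψ : IsBaseChange R
      ((Mmap w (MvPolynomial σ A₁) (MvPolynomial σ R)).restrictScalars A₁) :=
    isBaseChange_restrictScalars_of_isPushout _ (isBaseChange_Mmap w _ _)
  have hreg₁ : RegAt (A := A₁) ((ι → MvPolynomial σ A₁) ⧸ KT w (MvPolynomial σ A₁)) K f₁ h₁ := by
    refine regAt_of_isBaseChange (A := R) (B := MvPolynomial σ R) K _ hψ
      (algebraMap (MvPolynomial σ A₁) (MvPolynomial σ R)) ?_ f₁ h₁ (by rw [hf₁, hh₁]; exact hreg)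
    intro b m
    show Mmap w (MvPolynomial σ A₁) (MvPolynomial σ R) (b • m) = _
    rw [map_smul, algebraMap_smul]
    rfl
  haveI : ∀ _ : Unit, Module.Flat A₁ ((ι → MvPolynomial σ A₁) ⧸ KT w (MvPolynomial σ A₁)) :=
    fun _ => hflat₁
  have hst : IsScalarTower A₁ (MvPolynomial σ A₁)
      ((ι → MvPolynomial σ A₁) ⧸ KT w (MvPolynomial σ A₁)) := inferInstance
  haveI : ∀ _ : Unit, IsScalarTower A₁ (MvPolynomial σ A₁)
      ((ι → MvPolynomial σ A₁) ⧸ KT w (MvPolynomial σ A₁)) := fun _ => hst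
  have htors : ∀ _ : Unit, ∃ k : ℕ, f₁ ^ k • (LinearMap.lsmul (MvPolynomial σ A₁)
      ((ι → MvPolynomial σ A₁) ⧸ KT w (MvPolynomial σ A₁)) h₁)
      (Submodule.Quotient.mk v₁) = 0 := by
    intro _
    refine ⟨n, ?_⟩
    rw [LinearMap.lsmul_apply, ← Submodule.Quotient.mk_smul, ← Submodule.Quotient.mk_smul,
      Submodule.Quotient.mk_eq_zero]
    exact ⟨a₁, hrel⟩
  obtain ⟨g₁, hg₁, hg₁y⟩ := exists_smul_eq_zero_of_fibKSepAt (A := A₁) (B := MvPolynomial σ A₁)
    (M := (ι → MvPolynomial σ A₁) ⧸ KT w (MvPolynomial σ A₁))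
    (N := fun _ : Unit => (ι → MvPolynomial σ A₁) ⧸ KT w (MvPolynomial σ A₁))
    (fun _ => LinearMap.lsmul _ _ h₁) f₁ q₁ hf₁q K hK₁ (fibKSepAt_of_regAt K f₁ h₁ hreg₁)
    (Submodule.Quotient.mk v₁) htors
  refine ⟨algebraMap _ _ g₁, hg₁, ?_⟩
  have h2 := congrArg (Mmap w (MvPolynomial σ A₁) (MvPolynomial σ R)) hg₁y
  rw [map_zero, ← Submodule.Quotient.mk_smul, Mmap_mk, Fmap_smul', hFv] at h2
  rw [← Submodule.Quotient.mk_smul]
  exact h2

end Model

end Groth.Agent.R2.H22.LocDesc
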