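import Mathlib
import Groth.Agent.R2.H22LocDesc
import Groth.Agent.R2.H22FibBC2

/-!
# The fibre criterion for families of localizations, finitely presented flat case (helper22)
-/

set_option autoImplicit false
set_option linter.style.haveILetI false
set_option linter.unusedSectionVars false
universe u

namespace Groth.Agent.R2.H22.LocGen

open TensorProduct MvPolynomial
open Groth.Agent.Lib.Helper3.FlatLoc Groth.Agent.Lib.Helper3.FlatDesc Groth.Agent.Lib.Helper3.FlatOpen
open Groth.Agent.R2.H22.LocMain Groth.Agent.R2.H22.LocDesc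

attribute [local instance] MvPolynomial.algebraMvPolynomial

section General

variable {A B : Type u} [CommRing A] [CommRing B] [Algebra A B] [Algebra.FinitePresentation A B]
  {M : Type u} [AddCommGroup M] [Module B M] [Module A M] [IsScalarTower A B M]
  [Module.FinitePresentation B M] [Module.Flat A M]

/-- **the fibre criterion at one prime for one multiplication** (EGA IV 11.3.7, injectivity part, finitely presented
case). -/
theorem exists_smul_eq_zero_of_regAt (q : Ideal B) [hq : q.IsPrime] (f h : B) (hfq : f ∉ q)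
    (K : Type u) [Field K] [Algebra A K]
    (hK : RingHom.ker (algebraMap A K) = q.comap (algebraMap A B))
    (hreg : RegAt (A := A) M K f h) (x : M) (hx : ∃ n : ℕ, f ^ n • h • x = 0) :
    ∃ g : B, g ∉ q ∧ g • x = 0 := by
  obtain ⟨n, π, hπ, hker⟩ := Algebra.FinitePresentation.out (R := A) (A := B)
  letI algPB : Algebra (MvPolynomial (Fin n) A) B := π.toRingHom.toAlgebra
  haveI : IsScalarTower A (MvPolynomial (Fin n) A) B :=
    .of_algebraMap_eq' π.comp_algebraMap.symm
  letI modPM : Module (MvPolynomial (Fin n) A) M := Module.compHom M π.toRingHom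
  haveI : IsScalarTower (MvPolynomial (Fin n) A) B M :=
    ⟨fun p s m => by
      change (π p * s) • m = π p • (s • m)
      rw [mul_smul]⟩
  haveI : IsScalarTower A (MvPolynomial (Fin n) A) M :=
    ⟨fun r p m => by
      change π (r • p) • m = r • (π p • m)
      rw [map_smul, smul_assoc]⟩
  haveI : Module.FinitePresentation (MvPolynomial (Fin n) A) B :=
    Module.finitePresentation_of_surjective (Algebra.linearMap (MvPolynomial (Fin n) A) B) hπ
      hker
  haveI : Module.FinitePresentation (MvPolynomial (Fin n) A) M :=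
    Module.FinitePresentation.trans (MvPolynomial (Fin n) A) M B
  obtain ⟨k, m, Λ, hΛ, w, ⟨e⟩⟩ := exists_model_equiv (R := A) (n := n) (M := M)
  haveI : Algebra.FiniteType ℤ Λ := (Subalgebra.fg_iff_finiteType Λ).mp hΛ
  haveI : IsNoetherianRing Λ := Algebra.FiniteType.isNoetherianRing ℤ Λ
  obtain ⟨f', rfl⟩ := hπ f
  obtain ⟨h', rfl⟩ := hπ h
  obtain ⟨n', hn'⟩ := hx
  set q' : Ideal (MvPolynomial (Fin n) A) := q.comap π.toRingHom with hq'
  haveI : q'.IsPrime := Ideal.comap_isPrime _ _
  have hf'q : f' ∉ q' := fun hmem => hfq hmem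
  have hK' : RingHom.ker (algebraMap A K) =
      q'.comap (algebraMap A (MvPolynomial (Fin n) A)) := by
    rw [hK, hq', Ideal.comap_comap]
    congr 1
    exact (π.comp_algebraMap).symm
  have hflat' : Module.Flat A ((Fin k → MvPolynomial (Fin n) A) ⧸
      KT w (MvPolynomial (Fin n) A)) := Module.Flat.of_linearEquiv (e.restrictScalars A)
  have hψ : IsBaseChange A (e.restrictScalars A).toLinearMap :=
    IsBaseChange.ofEquiv (e.restrictScalars A)
  have hreg' : RegAt (A := A) ((Fin k → MvPolynomial (Fin n) A) ⧸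
      KT w (MvPolynomial (Fin n) A)) K f' h' := by
    refine regAt_of_isBaseChange (A₁ := A) (A := A) (B₁ := MvPolynomial (Fin n) A) (B := B) K _ hψ
      π.toRingHom (fun b m => ?_) f' h' hreg
    show e (b • m) = π b • e m
    rw [map_smul]
    rfl
  have hy : ∃ j : ℕ, f' ^ j • h' • e.symm x = 0 := by
    refine ⟨n', ?_⟩
    rw [← map_smul, ← map_smul]
    have : f' ^ n' • h' • x = 0 := by
      show π (f' ^ n') • π h' • x = 0
      rw [map_pow]
      exact hn'
    rw [this, map_zero]
  obtain ⟨g', hg', hg'y⟩ := model_exists_smul_eq_zero w hflat' q' f' h' hf'q K hK' hreg'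
    (e.symm x) hy
  refine ⟨π g', hg', ?_⟩
  have := congrArg e hg'y
  rw [map_smul, LinearEquiv.apply_symm_apply, map_zero] at this
  exact this

end General

section Fibre

open Groth.Agent.R2.H22.SepCore Groth.Agent.R2.H22.SepLim

theorem eq_zero_of_isUnit_smul_baseChange {B : Type u} [CommRing B] {N : Type u} [AddCommGroup N]
    [Module B N] (R : Type u) [CommRing R] [Algebra B R] (b : B)
    (hb : IsUnit (algebraMap B (Module.End B N) b)) (y : R ⊗[B] N)
    (hy : algebraMap B R b • y = 0) : y = 0 := by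
  have h1 : IsUnit (algebraMap B (Module.End B (R ⊗[B] N)) b) := by
    have := hb.map (Module.End.lTensorAlgHom B N R)
    rwa [AlgHom.commutes] at this
  have h2 := ((Module.End.isUnit_iff _).1 h1).injective
  apply h2
  rw [map_zero, Module.algebraMap_end_apply, ← algebraMap_smul R b y]
  exact hy

variable {A B : Type u} [CommRing A] [CommRing B] [Algebra A B] [Algebra.FiniteType A B]
  {M : Type u} [AddCommGroup M] [Module B M] [Module A M] [IsScalarTower A B M] [Module.Finite B M]
  {ι : Type*} {N : ι → Type u} [∀ i, AddCommGroup (N i)] [∀ i, Module B (N i)]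
  (e : ι → B) (u : ∀ i, M →ₗ[B] N i) [hu : ∀ i, IsLocalizedModule (Submonoid.powers (e i)) (u i)]
  (K : Type u) [Field K] [Algebra A K]

/-- on a fibre, a separating family of localizations contains a regular element in the span of the functions. -/
theorem exists_regular_of_sepMaps
    (hsep : SepMaps (B ⊗[A] K) (M := (B ⊗[A] K) ⊗[B] M) (N := fun i => (B ⊗[A] K) ⊗[B] N i)
      (fun i => (u i).baseChange (B ⊗[A] K))) :
    ∃ h ∈ Ideal.span (Set.range e), ∀ z : M ⊗[A] K, h • z = 0 → z = 0 := by
  classical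
  haveI : IsNoetherianRing (K ⊗[A] B) := Algebra.FiniteType.isNoetherianRing K (K ⊗[A] B)
  haveI : IsNoetherianRing (B ⊗[A] K) :=
    isNoetherianRing_of_ringEquiv (K ⊗[A] B) (Algebra.TensorProduct.comm A K B).toRingEquiv
  have h1 : ∀ x : (B ⊗[A] K) ⊗[B] M, (∀ i, algebraMap B (B ⊗[A] K) (e i) • x = 0) → x = 0 := by
    intro x hx
    obtain ⟨n, hn⟩ := hsep 1 x (fun i => ⟨0, by
      rw [pow_zero, one_smul]
      apply eq_zero_of_isUnit_smul_baseChange (B ⊗[A] K) (e i)
        (IsLocalizedModule.map_units (u i) ⟨e i, Submonoid.mem_powers _⟩)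
      rw [← map_smul, hx i, map_zero]⟩)
    rwa [one_pow, one_smul] at hn
  by_contra hne
  push Not at hne
  have hfin := associatedPrimes.finite (B ⊗[A] K) ((B ⊗[A] K) ⊗[B] M)
  have hsub : ((Ideal.span (Set.range e) : Ideal B) : Set B) ⊆
      ⋃ P ∈ (↑hfin.toFinset : Set (Ideal (B ⊗[A] K))),
        ((P.comap (algebraMap B (B ⊗[A] K)) : Ideal B) : Set B) := by
    intro h hh
    obtain ⟨z, hz, hz0⟩ := hne h hh
    have hx : algebraMap B (B ⊗[A] K) h • (eC A B K M).symm z = 0 := by
      rw [algebraMap_smul, ← map_smul, hz, map_zero]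
    have hx0 : (eC A B K M).symm z ≠ 0 := by
      intro h0
      exact hz0 (by simpa using congrArg (eC A B K M) h0)
    have hmem : algebraMap B (B ⊗[A] K) h ∈
        {r : B ⊗[A] K | ∃ x : (B ⊗[A] K) ⊗[B] M, x ≠ 0 ∧ r • x = 0} := ⟨_, hx0, hx⟩
    rw [← biUnion_associatedPrimes_eq_zero_divisors] at hmem
    obtain ⟨P, hP, hhP⟩ := Set.mem_iUnion₂.1 hmem
    exact Set.mem_iUnion₂.2 ⟨P, by simpa using hP, hhP⟩
  obtain ⟨P, hP, hle⟩ := (Ideal.subset_union_prime (R := B) (s := hfin.toFinset)
    (f := fun P => P.comap (algebraMap B (B ⊗[A] K))) ⊥ ⊥ (fun P hP _ _ => by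
      have : P ∈ associatedPrimes (B ⊗[A] K) ((B ⊗[A] K) ⊗[B] M) := by simpa using hP
      haveI := this.isPrime
      exact Ideal.comap_isPrime _ _)).1 hsub
  have hPass : IsAssociatedPrime P ((B ⊗[A] K) ⊗[B] M) := by
    have : P ∈ associatedPrimes (B ⊗[A] K) ((B ⊗[A] K) ⊗[B] M) := by simpa using hP
    exact this
  obtain ⟨hPprime, x, hPx⟩ := isAssociatedPrime_iff.1 hPass
  have hx0 : x ≠ 0 := by
    rintro rfl
    apply hPprime.ne_top
    rw [hPx, Ideal.eq_top_iff_one, Submodule.mem_colon_singleton]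
    simp
  apply hx0
  apply h1
  intro i
  have : algebraMap B (B ⊗[A] K) (e i) ∈ P := hle (Ideal.subset_span ⟨i, rfl⟩)
  rw [hPx, Submodule.mem_colon_singleton] at this
  simpa using this

end Fibre

section Main

open Groth.Agent.R2.H22.SepCore Groth.Agent.R2.H22.FibBC

variable {A B : Type u} [CommRing A] [CommRing B] [Algebra A B] [Algebra.FinitePresentation A B]
  {M : Type u} [AddCommGroup M] [Module B M] [Module A M] [IsScalarTower A B M]
  [Module.FinitePresentation B M] [Module.Flat A M]
  {ι : Type*} {N : ι → Type u} [∀ i, AddCommGroup (N i)] [∀ i, Module B (N i)]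
  [∀ i, Module A (N i)] [∀ i, IsScalarTower A B (N i)]
  (e : ι → B) (u : ∀ i, M →ₗ[B] N i)

/-- **the fibre criterion for a family of localizations** (`B` finitely presented over `A`, `M` finitely presented over
`B` and flat over `A`). -/
theorem sepMaps_of_fibHyp_localizations
    (hu : ∀ i, IsLocalizedModule (Submonoid.powers (e i)) (u i)) (hfib : FibHyp (A := A) u) :
    SepMaps B u := by
  intro f x hx
  by_contra hne
  simp only [not_exists] at hne
  let I : Ideal B :=
    { carrier := {b | ∃ n : ℕ, b • f ^ n • x = 0}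
      add_mem' := by
        rintro b₁ b₂ ⟨n₁, h₁⟩ ⟨n₂, h₂⟩
        refine ⟨n₁ + n₂, ?_⟩
        rw [add_smul, pow_add]
        nth_rewrite 1 [mul_comm]
        rw [mul_smul, mul_smul, smul_comm b₁, h₁, smul_zero, smul_comm b₂, h₂, smul_zero,
          add_zero]
      zero_mem' := ⟨0, zero_smul _ _⟩
      smul_mem' := by
        rintro c b ⟨n, h⟩
        exact ⟨n, by rw [smul_eq_mul, mul_smul, h, smul_zero]⟩ }
  have hdisj : Disjoint (I : Set B) (Submonoid.powers f : Set B) := by
    rw [Set.disjoint_left]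
    rintro b ⟨n, hn⟩ ⟨m, rfl⟩
    apply hne (m + n)
    rw [pow_add, mul_smul]
    exact hn
  obtain ⟨q, hq, hIq, hqf⟩ := Ideal.exists_le_prime_disjoint I (Submonoid.powers f) hdisj
  have hfq : f ∉ q := fun h => Set.disjoint_left.1 hqf h (Submonoid.mem_powers f)
  have heI : ∀ i, ∃ k : ℕ, e i ^ k ∈ I := by
    intro i
    obtain ⟨n, hn⟩ := hx i
    rw [← map_smul] at hn
    obtain ⟨⟨_, k, rfl⟩, hk⟩ := (IsLocalizedModule.eq_zero_iff (Submonoid.powers (e i)) (u i)).1 hn
    exact ⟨k, n, hk⟩
  have hspan : Ideal.span (Set.range e) ≤ I.radical := by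
    rw [Ideal.span_le]
    rintro _ ⟨i, rfl⟩
    exact heI i
  haveI : (q.comap (algebraMap A B)).IsPrime := Ideal.comap_isPrime _ _
  obtain ⟨K, _, _, hK, hsepK⟩ := hfib (q.comap (algebraMap A B)) inferInstance
  obtain ⟨h, hh, hreg⟩ := exists_regular_of_sepMaps e u K hsepK
  obtain ⟨N', n, hn⟩ := hspan hh
  have hpow : ∀ (j : ℕ) (z : M ⊗[A] K), h ^ j • z = 0 → z = 0 := by
    intro j
    induction j with
    | zero => intro z hz; simpa using hz
    | succ j ih =>
      intro z hz
      rw [pow_succ, mul_smul] at hz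
      exact hreg _ (ih _ hz)
  have hregN : RegAt (A := A) M K f (h ^ N') := by
    rintro z ⟨k, hk⟩
    refine ⟨k, ?_⟩
    rw [smul_comm] at hk
    exact hpow N' _ hk
  obtain ⟨g, hg, hgx⟩ := exists_smul_eq_zero_of_regAt q f (h ^ N') hfq K hK hregN x
    ⟨n, by rw [smul_comm]; exact hn⟩
  exact hg (hIq ⟨0, by rw [pow_zero, one_smul]; exact hgx⟩)

end Main

section Universal

open Groth.Agent.R2.H22.SepCore Groth.Agent.R2.H22.FibBC Groth.Agent.R2.H22.SepTrans

attribute [local instance] Algebra.TensorProduct.rightAlgebra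

theorem isLocalizedModule_baseChange {B : Type u} [CommRing B] {M N : Type u} [AddCommGroup M]
    [Module B M] [AddCommGroup N] [Module B N] (R : Type u) [CommRing R] [Algebra B R] (b : B)
    (v : M →ₗ[B] N) [IsLocalizedModule (Submonoid.powers b) v] :
    IsLocalizedModule (Submonoid.powers (algebraMap B R b)) (v.baseChange R) := by
  rw [← Algebra.algebraMapSubmonoid_powers]
  haveI : IsLocalizedModule (Submonoid.powers b) ((v.baseChange R).restrictScalars B) := by
    have h2 : (v.baseChange R).restrictScalars B =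
        (TensorProduct.comm B N R).toLinearMap ∘ₗ (AlgebraTensorModule.rTensor B R v) ∘ₗ
          (TensorProduct.comm B R M).toLinearMap := by
      ext r m
      simp
    rw [h2]
    infer_instance
  exact IsLocalizedModule.of_restrictScalars (Submonoid.powers b) (v.baseChange R)

/-- `B ⊗[A] A'` is finitely presented over `A'` (right algebra structure). -/
theorem finitePresentation_right (A B A' : Type u) [CommRing A] [CommRing B] [Algebra A B]
    [Algebra.FinitePresentation A B] [CommRing A'] [Algebra A A'] :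
    Algebra.FinitePresentation A' (B ⊗[A] A') := by
  let e : (A' ⊗[A] B) ≃ₐ[A'] (B ⊗[A] A') :=
    AlgEquiv.ofRingEquiv (f := (Algebra.TensorProduct.comm A A' B).toRingEquiv) (fun r => by
      simp [Algebra.TensorProduct.algebraMap_apply, Algebra.TensorProduct.right_algebraMap_apply])
  exact Algebra.FinitePresentation.equiv e

variable {A B : Type u} [CommRing A] [CommRing B] [Algebra A B] [Algebra.FinitePresentation A B]
  {M : Type u} [AddCommGroup M] [Module B M] [Module A M] [IsScalarTower A B M]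
  [Module.FinitePresentation B M] [Module.Flat A M]
  {ι : Type*} {N : ι → Type u} [∀ i, AddCommGroup (N i)] [∀ i, Module B (N i)]
  [∀ i, Module A (N i)] [∀ i, IsScalarTower A B (N i)]
  (e : ι → B) (u : ∀ i, M →ₗ[B] N i)

/-- **the relative fibre criterion for a family of localizations, universal form**. -/
theorem sepMaps_baseChange_of_fibHyp_localizations
    (hu : ∀ i, IsLocalizedModule (Submonoid.powers (e i)) (u i)) (hfib : FibHyp (A := A) u)
    (A' : Type u) [CommRing A'] [Algebra A A'] :
    SepMaps (B ⊗[A] A') (M := (B ⊗[A] A') ⊗[B] M) (N := fun i => (B ⊗[A] A') ⊗[B] N i)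
      (fun i => (u i).baseChange (B ⊗[A] A')) := by
  haveI : Algebra.FinitePresentation A' (B ⊗[A] A') := finitePresentation_right A B A'
  haveI : Module.Flat A' ((B ⊗[A] A') ⊗[B] M) :=
    Module.Flat.of_linearEquiv (Algebra.IsPushout.cancelBaseChange A A' B (B ⊗[A] A') M)
  refine sepMaps_of_fibHyp_localizations (A := A') (B := B ⊗[A] A')
    (M := (B ⊗[A] A') ⊗[B] M) (N := fun i => (B ⊗[A] A') ⊗[B] N i)
    (fun i => algebraMap B (B ⊗[A] A') (e i)) (fun i => (u i).baseChange (B ⊗[A] A'))
    (fun i => by haveI := hu i; exact isLocalizedModule_baseChange _ (e i) (u i)) ?_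
  intro 𝔭' h𝔭'
  refine ⟨𝔭'.ResidueField, inferInstance, inferInstance, Ideal.ker_algebraMap_residueField 𝔭', ?_⟩
  apply sepMaps_tower (B := B) (R := B ⊗[A] A') (S := (B ⊗[A] A') ⊗[A'] 𝔭'.ResidueField)
  letI : Algebra A 𝔭'.ResidueField :=
    ((algebraMap A' 𝔭'.ResidueField).comp (algebraMap A A')).toAlgebra
  haveI : IsScalarTower A A' 𝔭'.ResidueField := .of_algebraMap_eq' rfl
  exact sepMaps_baseChange_of_algEquiv (isoTower A B A' 𝔭'.ResidueField).symm u
    (sepMaps_field_of_fibHyp u hfib 𝔭'.ResidueField)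

end Universal

end Groth.Agent.R2.H22.LocGen
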