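import Mathlib
import Groth.Agent.R2.H22FibSch
import Groth.Agent.R2.H22LocGen

/-!
# Injectivity of restriction to an open subset: affine dictionary (helper22)

`ResInjOn G W O`: the restriction `Γ(G, O) → Γ(G, O ⊓ W)` has trivial kernel.
-/

set_option autoImplicit false
set_option linter.style.haveILetI false
set_option linter.unusedSectionVars false
universe u

namespace Groth.Agent.R2.H22.ResInj

open CategoryTheory AlgebraicGeometry Opposite TopologicalSpace TensorProduct Limits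
open Groth.Agent.Lib.Helper20.Thickening Groth.Agent.Lib.Helper20.PullbackAff
  Groth.Agent.Lib.Helper26.ModSec Groth.Agent.Lib.Helper2.QCoh
open Groth.Agent.R2.H22.SepCore Groth.Agent.R2.H22.SepSheaf Groth.Agent.R2.H22.SepPull

section basic

variable {Y : Scheme.{u}}

/-- the restriction `Γ(G, O) → Γ(G, O ⊓ W)` has trivial kernel. -/
def ResInjOn (G : Y.Modules) (W O : Y.Opens) : Prop :=
  ∀ t : Γ(G, O), G.presheaf.map (homOfLE (inf_le_left : O ⊓ W ≤ O)).op t = 0 → t = 0

theorem res_res (G : Y.Modules) {O₁ O₂ O₃ : Y.Opens} (h₁ : O₁ ≤ O₂) (h₂ : O₂ ≤ O₃) (t : Γ(G, O₃)) :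
    G.presheaf.map (homOfLE h₁).op (G.presheaf.map (homOfLE h₂).op t) =
      G.presheaf.map (homOfLE (h₁.trans h₂)).op t := by
  rw [← ConcreteCategory.comp_apply, ← Functor.map_comp]
  rfl

theorem resInjOn_iff_injective (G : Y.Modules) (W O : Y.Opens) :
    ResInjOn G W O ↔
      Function.Injective (G.presheaf.map (homOfLE (inf_le_left : O ⊓ W ≤ O)).op) := by
  rw [injective_iff_map_eq_zero]
  rfl

/-- it suffices to check injectivity of restriction on a basis. -/
theorem resInjOn_of_basis (G : Y.Modules) (W : Y.Opens) {κ : Type*} (B : κ → Y.Opens)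
    (hB : Opens.IsBasis (Set.range B)) (h : ∀ j, ResInjOn G W (B j)) (O : Y.Opens) :
    ResInjOn G W O := by
  intro t ht
  apply Groth.Agent.Helper13ModBasis.section_ext_basis B hB G t 0
  intro j hle
  rw [map_zero]
  apply h j
  rw [res_res]
  have := congrArg (G.presheaf.map (homOfLE (inf_le_inf_right W hle)).op) ht
  rw [res_res, map_zero] at this
  exact this

theorem res_basicOpen_eq_zero (G : Y.Modules) {O : Y.Opens} (e : Γ(Y, O)) (t : Γ(G, O)) (n : ℕ)
    (h : e ^ n • t = 0) : G.presheaf.map (homOfLE (Y.basicOpen_le e)).op t = 0 := by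
  have h1 := congrArg (G.presheaf.map (homOfLE (Y.basicOpen_le e)).op) h
  rw [Scheme.Modules.map_smul, map_zero, map_pow] at h1
  have hu' : IsUnit ((Y.presheaf.map (homOfLE (Y.basicOpen_le e)).op e) ^ n) :=
    (RingedSpace.isUnit_res_basicOpen _ e).pow n
  obtain ⟨w, hw⟩ := hu'
  rw [← hw] at h1
  have := congrArg (fun z => (w⁻¹ : (Γ(Y, Y.basicOpen e))ˣ).1 • z) h1
  simpa [smul_smul] using this

/-- on an affine open, injectivity of restriction to `W` in terms of torsion for functions whose basic opens cover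
`O ⊓ W`. -/
theorem resInjOn_iff_torsion (G : Y.Modules) [G.IsQuasicoherent] (W : Y.Opens) {O : Y.Opens}
    (hO : IsAffineOpen O) (E : Set Γ(Y, O)) (hE1 : ∀ e ∈ E, Y.basicOpen e ≤ W)
    (hE2 : ∀ y ∈ O ⊓ W, ∃ e ∈ E, y ∈ Y.basicOpen e) :
    ResInjOn G W O ↔ ∀ t : Γ(G, O), (∀ e ∈ E, ∃ n : ℕ, e ^ n • t = 0) → t = 0 := by
  constructor
  · intro hR t ht
    apply hR
    refine TopCat.Sheaf.eq_of_locally_eq' ⟨G.presheaf, G.isSheaf⟩
      (fun e : E => Y.basicOpen e.1) (O ⊓ W)
      (fun e => homOfLE (le_inf (Y.basicOpen_le e.1) (hE1 e.1 e.2))) ?_ _ 0 (fun e => ?_)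
    · intro y hy
      obtain ⟨e, he, hye⟩ := hE2 y hy
      exact Opens.mem_iSup.mpr ⟨⟨e, he⟩, hye⟩
    · obtain ⟨n, hn⟩ := ht e.1 e.2
      rw [map_zero]
      exact (res_res G _ _ t).trans (res_basicOpen_eq_zero G e.1 t n hn)
  · intro hT t ht
    apply hT
    intro e he
    apply exists_pow_smul_eq_zero hO G e t
    have := congrArg (G.presheaf.map
      (homOfLE (le_inf (Y.basicOpen_le e) (hE1 e he))).op) ht
    rw [res_res, map_zero] at this
    exact this

end basic

section algebra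

open Groth.Agent.R2.H22.LocGen

theorem baseChange_mkLinearMap_eq_zero_iff {B R' : Type u} [CommRing B] [CommRing R'] [Algebra B R']
    {M : Type u} [AddCommGroup M] [Module B M] (e : B) (x : R' ⊗[B] M) :
    (LocalizedModule.mkLinearMap (Submonoid.powers e) M).baseChange R' x = 0 ↔
      ∃ n : ℕ, (algebraMap B R' e) ^ n • x = 0 := by
  haveI := isLocalizedModule_baseChange R' e (LocalizedModule.mkLinearMap (Submonoid.powers e) M)
  rw [IsLocalizedModule.eq_zero_iff (Submonoid.powers (algebraMap B R' e))]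
  constructor
  · rintro ⟨⟨_, n, rfl⟩, h⟩
    exact ⟨n, h⟩
  · rintro ⟨n, h⟩
    exact ⟨⟨_, n, rfl⟩, h⟩

end algebra

section pullbackDict

variable {X X' : Scheme.{u}} (g : X' ⟶ X) {V : X.Opens} (hV : IsAffineOpen V) {V' : X'.Opens}
  (hV' : IsAffineOpen V') (h : V' ≤ g ⁻¹ᵁ V) (F : X.Modules) [F.IsQuasicoherent] (U : X.Opens)

/-- functions on `V` whose basic open lies in `U`. -/
def EV (V U : X.Opens) : Set Γ(X, V) := {e | X.basicOpen e ≤ U}

/-- the localization maps of `Γ(F, V)` at the elements of `EV V U`. -/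
noncomputable def locMap (e : EV V U) :
    ((ΓUF hV).obj F) →ₗ[Γ(X, V)] LocalizedModule (Submonoid.powers e.1) ((ΓUF hV).obj F) :=
  LocalizedModule.mkLinearMap (Submonoid.powers e.1) ((ΓUF hV).obj F)

/-- the joint injectivity statement on `Γ(X',V') ⊗ Γ(F,V)`. -/
def JointInj : Prop :=
  ∀ x : (ModuleCat.extendScalars (g.appLE V V' h).hom).obj ((ΓUF hV).obj F),
    (∀ e : EV V U, ((ModuleCat.extendScalars (g.appLE V V' h).hom).map
      (ModuleCat.ofHom (locMap hV F U e))).hom x = 0) → x = 0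

include hV' in
theorem resInjOn_pullback_iff :
    ResInjOn ((Scheme.Modules.pullback g).obj F) (g ⁻¹ᵁ U) V' ↔ JointInj g hV h F U := by
  letI := (g.appLE V V' h).hom.toAlgebra
  have hE1 : ∀ e' ∈ (g.appLE V V' h).hom '' EV V U, X'.basicOpen e' ≤ g ⁻¹ᵁ U := by
    rintro _ ⟨e, he, rfl⟩
    rw [Scheme.basicOpen_appLE]
    intro y hy
    exact he hy.2
  have hE2 : ∀ y ∈ V' ⊓ g ⁻¹ᵁ U, ∃ e' ∈ (g.appLE V V' h).hom '' EV V U,
      y ∈ X'.basicOpen e' := by
    intro y hy
    obtain ⟨e, heU, hye⟩ := hV.exists_basicOpen_le (V := U) ⟨g y, hy.2⟩ (h hy.1)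
    refine ⟨(g.appLE V V' h).hom e, ⟨e, heU, rfl⟩, ?_⟩
    rw [Scheme.basicOpen_appLE]
    exact ⟨hy.1, hye⟩
  rw [resInjOn_iff_torsion _ _ hV' ((g.appLE V V' h).hom '' EV V U) hE1 hE2]
  have key : ∀ (e : EV V U)
      (x : (ModuleCat.extendScalars (g.appLE V V' h).hom).obj ((ΓUF hV).obj F)),
      ((ModuleCat.extendScalars (g.appLE V V' h).hom).map
        (ModuleCat.ofHom (locMap hV F U e))).hom x = 0 ↔
      ∃ n : ℕ, ((g.appLE V V' h).hom e.1) ^ n • x = 0 := fun e x =>
    baseChange_mkLinearMap_eq_zero_iff (B := Γ(X, V)) (R' := Γ(X', V'))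
      (M := (ΓUF hV).obj F) e.1 x
  have hbij : Function.Bijective ((secNat g hV hV' h).app F).hom :=
    ConcreteCategory.bijective_of_isIso ((secNat g hV hV' h).app F)
  constructor
  · intro hT x hx
    apply hbij.injective
    rw [map_zero]
    obtain ⟨t, ht⟩ := (ΓUEquiv hV' ((Scheme.Modules.pullback g).obj F)).surjective
      (((secNat g hV hV' h).app F).hom x)
    rw [← ht]
    have : t = 0 := by
      apply hT
      rintro _ ⟨e, he, rfl⟩
      obtain ⟨n, hn⟩ := (key ⟨e, he⟩ x).1 (hx ⟨e, he⟩)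
      refine ⟨n, ?_⟩
      apply (ΓUEquiv hV' ((Scheme.Modules.pullback g).obj F)).injective
      rw [map_smul, ht, ← map_smul, hn, map_zero, map_zero]
    rw [this, map_zero]
  · intro hJ t ht
    apply (ΓUEquiv hV' ((Scheme.Modules.pullback g).obj F)).injective
    rw [map_zero]
    obtain ⟨x, hx⟩ := hbij.surjective (ΓUEquiv hV' ((Scheme.Modules.pullback g).obj F) t)
    rw [← hx]
    have : x = 0 := by
      apply hJ
      intro e
      obtain ⟨n, hn⟩ := ht _ ⟨e.1, e.2, rfl⟩
      rw [key]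
      refine ⟨n, ?_⟩
      apply hbij.injective
      rw [map_smul, hx, ← map_smul, hn, map_zero, map_zero]
    rw [this, map_zero]

end pullbackDict

section piece

open Groth.Agent.R2.H22.SepTrans Groth.Agent.R2.H22.SchDomBC Groth.Agent.R2.H22.SepProd
  Groth.Agent.R2.H22.SepBC Groth.Agent.R2.H22.FibBC Groth.Agent.R2.H22.FibSch

variable {X S S' : Scheme.{u}} {p : X ⟶ S} {g : S' ⟶ S}
variable (F : X.Modules) [F.IsQuasicoherent] (U : X.Opens)

/-- the algebraic input on an affine piece: the family of localization maps of `Γ(F, V)` at the functions of `EV V U`,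
base-changed to `Γ(X,V) ⊗[Γ(S,U)] Γ(S',U')`, is `SepMaps`. -/
def PieceLoc (j : Piece p g) : Prop :=
  letI := (p.appLE j.U j.V j.hVU).hom.toAlgebra
  letI := (g.appLE j.U j.U' j.hU'U).hom.toAlgebra
  SepMaps (Γ(X, j.V) ⊗[Γ(S, j.U)] Γ(S', j.U'))
    (M := (Γ(X, j.V) ⊗[Γ(S, j.U)] Γ(S', j.U')) ⊗[Γ(X, j.V)] ((ΓUF j.hV).obj F))
    (N := fun e : EV j.V U => (Γ(X, j.V) ⊗[Γ(S, j.U)] Γ(S', j.U')) ⊗[Γ(X, j.V)]
      LocalizedModule (Submonoid.powers e.1) ((ΓUF j.hV).obj F))
    (fun e => (locMap j.hV F U e).baseChange (Γ(X, j.V) ⊗[Γ(S, j.U)] Γ(S', j.U')))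

theorem resInjOn_piece (j : Piece p g) (h : PieceLoc F U j) :
    ResInjOn ((Scheme.Modules.pullback (pullback.fst p g)).obj F)
      ((pullback.fst p g) ⁻¹ᵁ U) j.D := by
  refine (resInjOn_pullback_iff (pullback.fst p g) j.hV j.isAffineOpen_D j.D_le F U).2 ?_
  intro x hx
  have hpush := isPushout_appLE (IsPullback.of_hasPullback p g) j.hU'U j.hVU j.hU j.hU' j.hV
  letI := (p.appLE j.U j.V j.hVU).hom.toAlgebra
  letI := (g.appLE j.U j.U' j.hU'U).hom.toAlgebra
  letI algBR : Algebra Γ(X, j.V) Γ(pullback p g, j.O) :=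
    ((pullback.fst p g).appLE j.V j.O inf_le_left).hom.toAlgebra
  letI algA'R : Algebra Γ(S', j.U') Γ(pullback p g, j.O) :=
    ((pullback.snd p g).appLE j.U' j.O inf_le_right).hom.toAlgebra
  letI algAR : Algebra Γ(S, j.U) Γ(pullback p g, j.O) :=
    (((pullback.fst p g).appLE j.V j.O inf_le_left).hom.comp
      (p.appLE j.U j.V j.hVU).hom).toAlgebra
  haveI : IsScalarTower Γ(S, j.U) Γ(X, j.V) Γ(pullback p g, j.O) :=
    .of_algebraMap_eq' rfl
  haveI : IsScalarTower Γ(S, j.U) Γ(S', j.U') Γ(pullback p g, j.O) :=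
    .of_algebraMap_eq' <| congr($(hpush.1.1).hom)
  have h1 : Algebra.IsPushout Γ(S, j.U) Γ(X, j.V) Γ(S', j.U') Γ(pullback p g, j.O) :=
    CommRingCat.isPushout_iff_isPushout.mp hpush
  letI algBS : Algebra Γ(X, j.V) Γ(pullback p g, j.D) :=
    ((pullback.fst p g).appLE j.V j.D j.D_le).hom.toAlgebra
  haveI : IsScalarTower Γ(X, j.V) Γ(pullback p g, j.O) Γ(pullback p g, j.D) :=
    .of_algebraMap_eq' <| by
      have := (pullback.fst p g).appLE_map (inf_le_left : j.O ≤ _) (homOfLE j.D_le_O).op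
      exact congr($(this.symm).hom)
  haveI : IsLocalization.Away j.f Γ(pullback p g, j.D) :=
    j.isAffineOpen_O.isLocalization_basicOpen j.f
  have hR := sepMaps_baseChange_of_algEquiv
    (Algebra.IsPushout.equiv Γ(S, j.U) Γ(X, j.V) Γ(S', j.U') Γ(pullback p g, j.O))
    (fun e : EV j.V U => locMap j.hV F U e) h
  exact eq_zero_of_sepMaps_baseChange_away (R := Γ(pullback p g, j.O))
    (S := Γ(pullback p g, j.D)) j.f (fun e : EV j.V U => locMap j.hV F U e) hR x hx

/-- converse: injectivity of restriction on all opens of the fibre product gives the algebraic property on every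
affine piece. -/
theorem pieceLoc_of_resInjOn
    (hres : ∀ O, ResInjOn ((Scheme.Modules.pullback (pullback.fst p g)).obj F)
      ((pullback.fst p g) ⁻¹ᵁ U) O) (j : Piece p g) : PieceLoc F U j := by
  have hpush := isPushout_appLE (IsPullback.of_hasPullback p g) j.hU'U j.hVU j.hU j.hU' j.hV
  unfold PieceLoc
  letI := (p.appLE j.U j.V j.hVU).hom.toAlgebra
  letI := (g.appLE j.U j.U' j.hU'U).hom.toAlgebra
  letI algBR : Algebra Γ(X, j.V) Γ(pullback p g, j.O) :=
    ((pullback.fst p g).appLE j.V j.O inf_le_left).hom.toAlgebra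
  letI algA'R : Algebra Γ(S', j.U') Γ(pullback p g, j.O) :=
    ((pullback.snd p g).appLE j.U' j.O inf_le_right).hom.toAlgebra
  letI algAR : Algebra Γ(S, j.U) Γ(pullback p g, j.O) :=
    (((pullback.fst p g).appLE j.V j.O inf_le_left).hom.comp
      (p.appLE j.U j.V j.hVU).hom).toAlgebra
  haveI : IsScalarTower Γ(S, j.U) Γ(X, j.V) Γ(pullback p g, j.O) :=
    .of_algebraMap_eq' rfl
  haveI : IsScalarTower Γ(S, j.U) Γ(S', j.U') Γ(pullback p g, j.O) :=
    .of_algebraMap_eq' <| congr($(hpush.1.1).hom)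
  have h1 : Algebra.IsPushout Γ(S, j.U) Γ(X, j.V) Γ(S', j.U') Γ(pullback p g, j.O) :=
    CommRingCat.isPushout_iff_isPushout.mp hpush
  refine sepMaps_baseChange_of_algEquiv
    (Algebra.IsPushout.equiv Γ(S, j.U) Γ(X, j.V) Γ(S', j.U') Γ(pullback p g, j.O)).symm
    (fun e : EV j.V U => locMap j.hV F U e) ?_
  intro f y hy
  let j' : Piece p g := { j with f := f }
  letI algBS : Algebra Γ(X, j.V) Γ(pullback p g, j'.D) :=
    ((pullback.fst p g).appLE j.V j'.D j'.D_le).hom.toAlgebra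
  haveI : IsScalarTower Γ(X, j.V) Γ(pullback p g, j.O) Γ(pullback p g, j'.D) :=
    .of_algebraMap_eq' <| by
      have := (pullback.fst p g).appLE_map (inf_le_left : j.O ≤ _) (homOfLE j'.D_le_O).op
      exact congr($(this.symm).hom)
  haveI : IsLocalization.Away f Γ(pullback p g, j'.D) :=
    j.isAffineOpen_O.isLocalization_basicOpen f
  have hT := (resInjOn_pullback_iff (pullback.fst p g) j.hV j'.isAffineOpen_D j'.D_le F U).1
    (hres j'.D)
  exact exists_pow_smul_eq_zero_of_away (R := Γ(pullback p g, j.O))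
    (S := Γ(pullback p g, j'.D)) f (fun e : EV j.V U => locMap j.hV F U e)
    (fun x hx => hT x hx) y hy

end piece

section main

open Groth.Agent.R2.H22.SepTrans Groth.Agent.R2.H22.SchDomBC Groth.Agent.R2.H22.SepProd
  Groth.Agent.R2.H22.SepBC Groth.Agent.R2.H22.FibBC Groth.Agent.R2.H22.FibSch
  Groth.Agent.R2.H22.LocGen

variable {X S : Scheme.{u}} (p : X ⟶ S) [LocallyOfFinitePresentation p]
variable (F : X.Modules) [F.IsQuasicoherent]
  [SheafOfModules.IsFinitePresentation (R := X.ringCatSheaf) F] (U : X.Opens)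

/-- **The relative fibre criterion for injectivity of restriction to an open subset** (EGA IV 11.10.10 type statement):
`p` locally of finite presentation, `F` finitely presented quasi-coherent and flat over `S`. -/
theorem resInjOn_baseChange_of_fibres (hflat : FlatMod.IsFlatOver p F)
    (hfib : ∀ (s : S) (O : (pullback p (S.fromSpecResidueField s)).Opens),
      ResInjOn ((Scheme.Modules.pullback (pullback.fst p (S.fromSpecResidueField s))).obj F)
        ((pullback.fst p (S.fromSpecResidueField s)) ⁻¹ᵁ U) O)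
    {S' : Scheme.{u}} (g : S' ⟶ S) (O : (pullback p g).Opens) :
    ResInjOn ((Scheme.Modules.pullback (pullback.fst p g)).obj F)
      ((pullback.fst p g) ⁻¹ᵁ U) O := by
  refine resInjOn_of_basis _ _ (fun j : Piece p g => j.D) (isBasis_pieces p g) (fun j => ?_) O
  refine resInjOn_piece F U j ?_
  unfold PieceLoc
  letI algAB := (p.appLE j.U j.V j.hVU).hom.toAlgebra
  letI := (g.appLE j.U j.U' j.hU'U).hom.toAlgebra
  haveI : Algebra.FinitePresentation Γ(S, j.U) Γ(X, j.V) :=
    HasRingHomProperty.appLE (P := @LocallyOfFinitePresentation) p inferInstance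
      ⟨j.U, j.hU⟩ ⟨j.V, j.hV⟩ j.hVU
  letI : Module Γ(S, j.U) ((ΓUF j.hV).obj F) :=
    Module.compHom _ (algebraMap Γ(S, j.U) Γ(X, j.V))
  haveI : IsScalarTower Γ(S, j.U) Γ(X, j.V) ((ΓUF j.hV).obj F) :=
    IsScalarTower.of_algebraMap_smul fun _ _ => rfl
  haveI : Module.FinitePresentation Γ(X, j.V) Γ(F, j.V) :=
    Groth.Agent.Lib.Helper2.FPAff.finitePresentation_sections F j.hV
  haveI : Module.FinitePresentation Γ(X, j.V) ((ΓUF j.hV).obj F) :=
    Module.FinitePresentation.of_equiv (ΓUEquiv j.hV F)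
  haveI : Module.Flat Γ(S, j.U) ((ΓUF j.hV).obj F) := by
    have hflat' := (Groth.Agent.Lib.Helper2.FlatOver.isFlatOver_iff_forall_affine p F).1 hflat
      j.V j.U j.hVU j.hV j.hU
    letI : Module Γ(S, j.U) Γ(F, j.V) := Module.compHom _ (p.appLE j.U j.V j.hVU).hom
    haveI : Module.Flat Γ(S, j.U) Γ(F, j.V) := hflat'
    let e : Γ(F, j.V) ≃ₗ[Γ(S, j.U)] ((ΓUF j.hV).obj F) :=
      { (ΓUEquiv j.hV F).toAddEquiv with
        map_smul' := fun a x => (ΓUEquiv j.hV F).map_smul (algebraMap Γ(S, j.U) Γ(X, j.V) a) x }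
    exact Module.Flat.of_linearEquiv e.symm
  refine sepMaps_baseChange_of_fibHyp_localizations (A := Γ(S, j.U)) (B := Γ(X, j.V))
    (fun e : EV j.V U => e.1) (fun e : EV j.V U => locMap j.hV F U e)
    (fun e => by unfold locMap; infer_instance) ?_ Γ(S', j.U')
  -- the fibrewise hypothesis
  intro 𝔭 h𝔭
  set P : PrimeSpectrum Γ(S, j.U) := ⟨𝔭, h𝔭⟩ with hP
  set s : S := j.hU.fromSpec P with hs
  have hsU : s ∈ j.U := by
    have : s ∈ j.hU.fromSpec.opensRange := ⟨P, rfl⟩
    rwa [j.hU.opensRange_fromSpec] at this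
  have htop : (⊤ : (Spec (S.residueField s)).Opens) ≤ (S.fromSpecResidueField s) ⁻¹ᵁ j.U := by
    intro y _
    show S.fromSpecResidueField s y ∈ j.U
    rw [Scheme.fromSpecResidueField_apply]
    exact hsU
  let js : Piece p (S.fromSpecResidueField s) :=
    ⟨j.U, j.V, ⊤, j.hU, j.hV, isAffineOpen_top _, j.hVU, htop, 1⟩
  have hps := pieceLoc_of_resInjOn F U (hfib s) js
  have hfield : IsField Γ(Spec (S.residueField s), ⊤) :=
    MulEquiv.isField (Field.toIsField (S.residueField s))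
      (Scheme.ΓSpecIso (S.residueField s)).commRingCatIsoToRingEquiv.toMulEquiv
  refine ⟨Γ(Spec (S.residueField s), ⊤), hfield.toField,
    ((S.fromSpecResidueField s).appLE j.U ⊤ htop).hom.toAlgebra, ?_, ?_⟩
  · exact ker_appLE_fromSpecResidueField j.hU P htop
  · exact hps

end main

end Groth.Agent.R2.H22.ResInj
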