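import Mathlib
import Groth.Agent.R2.H22ResInj
import Groth.Agent.Lib.Helper23PB
import Groth.Agent.Lib.Helper18FinFlat1
import Groth.Agent.Lib.Helper20OmegaAff

/-!
# Schematic density of an open subscheme, universally and on fibres (helper22)
-/

set_option autoImplicit false
set_option linter.style.haveILetI false
set_option linter.unusedSectionVars false
universe u

namespace Groth.Agent.R2.H22.SchDense

open CategoryTheory AlgebraicGeometry Opposite TopologicalSpace TensorProduct Limits
open Groth.Agent.R2.H22.SepSheaf Groth.Agent.R2.H22.ResInj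

variable {Y : Scheme.{u}}

theorem resInjOn_of_iso {G G' : Y.Modules} (e : G ≅ G') (W O : Y.Opens) (h : ResInjOn G W O) :
    ResInjOn G' W O := by
  intro t ht
  have h1 : e.inv.app O t = 0 := by
    apply h
    rw [← app_res, ht, map_zero]
  have h2 : e.hom.app O (e.inv.app O t) = t := by
    have : (e.inv ≫ e.hom).app O t = t := by
      rw [e.inv_hom_id]
      rfl
    exact this
  rw [← h2, h1, map_zero]

theorem resInjOn_structureModule_iff (W O : Y.Opens) :
    ResInjOn (Coh.structureModule Y) W O ↔
      Function.Injective (Y.presheaf.map (homOfLE (inf_le_left : O ⊓ W ≤ O)).op) := by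
  rw [injective_iff_map_eq_zero]
  rfl

section main

variable {X S : Scheme.{u}} (f : X ⟶ S) [Flat f] [LocallyOfFinitePresentation f]

theorem isFlatOver_structureModule :
    FlatMod.IsFlatOver f (Coh.structureModule X) := by
  haveI : (Coh.structureModule X).IsQuasicoherent :=
    Groth.Agent.Lib.Helper23.Serre.isQuasicoherent_structureModule' X
  rw [Groth.Agent.Lib.Helper2.FlatOver.isFlatOver_iff_forall_affine]
  intro U V hUV hU hV
  have h1 : (f.appLE V U hUV).hom.Flat :=
    HasRingHomProperty.appLE (P := @Flat) f inferInstance ⟨V, hV⟩ ⟨U, hU⟩ hUV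
  letI := (f.appLE V U hUV).hom.toAlgebra
  letI : Module Γ(S, V) Γ(Coh.structureModule X, U) :=
    Module.compHom Γ(Coh.structureModule X, U) (f.appLE V U hUV).hom
  haveI : Module.Flat Γ(S, V) Γ(X, U) := h1
  let e : Γ(Coh.structureModule X, U) ≃ₗ[Γ(S, V)] Γ(X, U) :=
    { (Groth.Agent.Helper18Cart.strEquiv X U).toAddEquiv with
      map_smul' := fun a x => rfl }
  exact Module.Flat.of_linearEquiv e

/-- **universal schematic density of an open subscheme is fibrewise** (flat, locally of finite presentation). -/
theorem isSchematicallyDense_baseChange_of_fibres (U : X.Opens)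
    (hfib : ∀ s : S, CInt.IsSchematicallyDense
      ((pullback.fst f (S.fromSpecResidueField s)) ⁻¹ᵁ U))
    {S' : Scheme.{u}} (g : S' ⟶ S) :
    CInt.IsSchematicallyDense ((pullback.fst f g) ⁻¹ᵁ U) := by
  haveI : (Coh.structureModule X).IsQuasicoherent :=
    Groth.Agent.Lib.Helper23.Serre.isQuasicoherent_structureModule' X
  haveI : SheafOfModules.IsFinitePresentation (R := X.ringCatSheaf) (Coh.structureModule X) :=
    Groth.Agent.Helper18FinFlat.isFinitePresentation_structureModule X
  intro V
  rw [← resInjOn_structureModule_iff]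
  refine resInjOn_of_iso (Groth.Agent.Lib.Helper23.PB.pullbackUnitIso (pullback.fst f g)) _ _ ?_
  refine resInjOn_baseChange_of_fibres f (Coh.structureModule X) U (isFlatOver_structureModule f)
    (fun s O => ?_) g V
  refine resInjOn_of_iso (Groth.Agent.Lib.Helper23.PB.pullbackUnitIso
    (pullback.fst f (S.fromSpecResidueField s))).symm _ _ ?_
  rw [resInjOn_structureModule_iff]
  exact hfib s O

end main

end Groth.Agent.R2.H22.SchDense
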