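import Mathlib
import Groth.Agent.R2.H16CbcFIGlob
import Groth.Agent.R2.H16CbcFinal
import Groth.Agent.R2.H11CbcGamma
import Groth.Agent.R2.H5CohThick
import Groth.Agent.R2.H22SchDense
import Groth.Agent.S0002

/-!
# Cohomological flatness in dimension 0 — global functions of all base changes (helper16)

Namespace `Groth.Agent.R2.H16.CohFlat0Geom`.

For `X` proper and flat over a Noetherian ring `A` there is a finite `A`-module `Q` such that, for EVERY ring map
`ρ : A → A'` and every cartesian square `X' = X ×_{Spec A} Spec A'`, the ring of global functions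
`Γ(X', O_{X'})` is identified with `Hom_A(Q, A')`, compatibly with the action of `A'`
(`exists_corep`). No comparison of unit sections is claimed.
-/

set_option autoImplicit false
set_option linter.style.haveILetI false
set_option linter.unusedSectionVars false
universe u
open CategoryTheory CategoryTheory.Limits AlgebraicGeometry Opposite TopologicalSpace

namespace Groth.Agent.R2.H16.CohFlat0Geom

open Groth.Agent.R2.H16.CbcFITerm Groth.Agent.R2.H16.CbcFINat Groth.Agent.R2.H16.CbcGeom
  Groth.Agent.R2.H16.CbcFI Groth.Agent.R2.H16.CbcFIGlob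

section H0

variable (Z : Scheme.{u})

/-- global functions are `H^0` of the structure sheaf. -/
noncomputable def gammaEquivH0 : Coh.Γtop Z ≃+ Coh.HH Z (Coh.structureModule Z) 0 :=
  (Sheaf.H.equiv₀ ((SheafOfModules.toSheaf Z.ringCatSheaf).obj (Coh.structureModule Z))
    Limits.isTerminalTop).symm

theorem gammaEquivH0_mul (r b : Coh.Γtop Z) :
    gammaEquivH0 Z (r * b) = r • gammaEquivH0 Z b := by
  have h := Sheaf.H.equiv₀_symm_naturality (J := Opens.grothendieckTopology Z) Limits.isTerminalTop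
    (Coh.smulAb (Coh.structureModule Z) r) b
  refine Eq.trans ?_ h.symm
  congr 1
  have h1 : Coh.resTop Z (op ⊤) r = r := by
    have : (Z.ringCatSheaf.obj.map (homOfLE (le_top (a := (op (⊤ : Opens Z)).unop))).op) = 𝟙 _ :=
      Z.ringCatSheaf.obj.map_id _
    unfold Coh.resTop
    rw [this]
    rfl
  refine Eq.trans ?_ (Coh.smulAb_app (Coh.structureModule Z) r (op ⊤) b).symm
  rw [h1]
  rfl

end H0

section Corep

variable (A : Type u) [CommRing A] {X : Scheme.{u}} [X.Over (Spec (CommRingCat.of A))]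

/-- **Global functions of all base changes**: for `X` proper and flat over a Noetherian ring `A` there is a finite
`A`-module `Q` with `Γ(X', O_{X'}) ≃ Hom_A(Q, A')`, `A'`-equivariantly, for every cartesian square
`X' = X ×_{Spec A} Spec A'`. -/
theorem exists_corep [IsNoetherianRing A] [IsProper (X ↘ Spec (CommRingCat.of A))]
    [Flat (X ↘ Spec (CommRingCat.of A))] :
    ∃ Q : ModuleCat.{u} A, Module.Finite A Q ∧
      ∀ (A' : Type u) [CommRing A'] (ρ : A →+* A') (X' : Scheme.{u}) (g' : X' ⟶ X)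
        (f' : X' ⟶ Spec (CommRingCat.of A'))
        (_ : IsPullback g' f' (X ↘ Spec (CommRingCat.of A)) (Spec.map (CommRingCat.ofHom ρ))),
        ∃ ε : Coh.Γtop X' ≃+ (Q ⟶ MA' ρ),
          ∀ (a' : A') (b : Coh.Γtop X'), ε (Coh.toGlobal f' a' * b) = ε b ≫ mulEnd ρ a' := by
  have hF : Coh.IsCoh (Coh.structureModule X) :=
    Groth.Agent.R2.H5.CohThick.isCoh_structureModule X
  haveI : LocallyOfFinitePresentation (X ↘ Spec (CommRingCat.of A)) :=
    LocallyOfFinitePresentation.iff_locallyOfFiniteType.mpr inferInstance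
  have hfl : FlatMod.IsFlatOver (X ↘ Spec (CommRingCat.of A)) (Coh.structureModule X) :=
    Groth.Agent.R2.H22.SchDense.isFlatOver_structureModule _
  obtain ⟨Q, hQ, ⟨eQ⟩⟩ := Groth.Agent.R2.H11.CbcGamma.s2436_of A (Coh.structureModule X) hF hfl
    (fun n => Groth.Agent.S0002.result A X (Coh.structureModule X) hF n)
  refine ⟨Q, hQ, ?_⟩
  intro A' _ ρ X' g' f' hc
  haveI : (Coh.structureModule X).IsQuasicoherent := hF.1
  haveI : CompactSpace X := Groth.Agent.R2.H16.CbcFinal.compactSpace_of_isProper A X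
  haveI : IsSeparated (X ↘ Spec (CommRingCat.of A)) := inferInstance
  obtain ⟨e, he⟩ := Groth.Agent.R2.H16.CbcFI.exists_fi (Coh.structureModule X) hc 0
  -- the comparison `H^0(X, O ⊗_A M) ≃ Hom_A(Q, M)`, natural in `M`
  let G : ModuleCat.{u} A ⥤ ModuleCat.{u} A :=
    CohIII.tensorAFunctor A (Coh.structureModule X) ⋙ CohIII.globalSectionsA A
  let d : ∀ M : ModuleCat.{u} A, ↑((Tn A (Coh.structureModule X) 0).obj M) ≃+ ↑(G.obj M) := fun M =>
    (Groth.Agent.R2.H8.CbcG8.equivH0 A
      ((CohIII.tensorAFunctor A (Coh.structureModule X)).obj M)).symm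
  have hd : ∀ {M N : ModuleCat.{u} A} (φ : M ⟶ N) (x : ↑((Tn A (Coh.structureModule X) 0).obj M)),
      d N (((Tn A (Coh.structureModule X) 0).map φ).hom x) = (G.map φ).hom (d M x) := by
    intro M N φ x
    apply (Groth.Agent.R2.H8.CbcG8.equivH0 A
      ((CohIII.tensorAFunctor A (Coh.structureModule X)).obj N)).injective
    rw [AddEquiv.apply_symm_apply]
    have h := Groth.Agent.R2.H8.CbcG8.equivH0_naturality A
      ((CohIII.tensorAFunctor A (Coh.structureModule X)).map φ) (d M x)
    refine Eq.trans ?_ h.symm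
    rw [AddEquiv.apply_symm_apply]
    rfl
  let c : ∀ M : ModuleCat.{u} A, ↑(G.obj M) ≃+ (Q ⟶ M) := fun M =>
    (eQ.app M).toLinearEquiv.toAddEquiv
  have hcn : ∀ {M N : ModuleCat.{u} A} (φ : M ⟶ N) (x : ↑(G.obj M)),
      c N ((G.map φ).hom x) = c M x ≫ φ := by
    intro M N φ x
    have h := ConcreteCategory.congr_hom (eQ.hom.naturality φ) x
    exact h
  -- assembling
  let ε : Coh.Γtop X' ≃+ (Q ⟶ MA' ρ) :=
    (gammaEquivH0 X').trans ((HHcongr (Groth.Agent.Lib.Helper23.PB.pullbackUnitIso g').symm 0).trans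
      (e.trans ((d (MA' ρ)).trans (c (MA' ρ)))))
  refine ⟨ε, fun a' b => ?_⟩
  change c (MA' ρ) (d (MA' ρ) (e (HHcongr (Groth.Agent.Lib.Helper23.PB.pullbackUnitIso g').symm 0
    (gammaEquivH0 X' (Coh.toGlobal f' a' * b))))) = _
  rw [gammaEquivH0_mul, HHcongr_smul, he, hd, hcn]
  rfl

end Corep

end Groth.Agent.R2.H16.CohFlat0Geom
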