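import Mathlib
import Groth.Agent.R2.H16CohFlat0Geom
import Groth.Agent.R2.H16CohFlat0Alg

/-!
# Cohomological flatness in dimension 0 — preliminaries (helper16)

Namespace `Groth.Agent.R2.H16.CohFlat0Pre`.

* `app_injective_of_flat_of_surjective`: a flat surjective morphism is injective on sections;
* `toLin : (Q ⟶ MA' (algebraMap A A')) ≃+ (Q →ₗ[A] A')` and its compatibility with multiplication by `a' : A'`.
-/

set_option autoImplicit false
set_option linter.style.haveILetI false
set_option linter.unusedSectionVars false
universe u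
open CategoryTheory CategoryTheory.Limits AlgebraicGeometry Opposite TopologicalSpace

namespace Groth.Agent.R2.H16.CohFlat0Pre

open Groth.Agent.R2.H16.CbcFITerm Groth.Agent.R2.H16.CbcFINat Groth.Agent.R2.H16.CbcGeom
  Groth.Agent.R2.H16.CbcFI Groth.Agent.R2.H16.CbcFIGlob Groth.Agent.R2.H16.CohFlat0Geom

section inj

variable {X Y : Scheme.{u}} (f : X ⟶ Y)

/-- a flat surjective morphism is injective on sections. -/
theorem app_injective_of_flat_of_surjective [Flat f] (hs : Function.Surjective f.base) (U : Y.Opens) :
    Function.Injective (f.app U).hom := by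
  rw [injective_iff_map_eq_zero]
  intro s hs0
  refine TopCat.Presheaf.section_ext Y.sheaf U s 0 (fun y hy => ?_)
  obtain ⟨x, rfl⟩ := hs y
  have hinj : Function.Injective (f.stalkMap x).hom := by
    algebraize [(f.stalkMap x).hom]
    have : Module.FaithfullyFlat (Y.presheaf.stalk (f x)) (X.presheaf.stalk x) :=
      @Module.FaithfullyFlat.of_flat_of_isLocalHom _ _ _ _ _ _ _
        (Flat.stalkMap f x) (f.toLRSHom.prop x)
    exact ‹RingHom.FaithfullyFlat _›.injective
  have h1 := Scheme.Hom.germ_stalkMap_apply f U x hy s
  have h3 : (f.stalkMap x).hom (Y.presheaf.germ U (f x) hy s) = 0 := by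
    refine h1.trans ?_
    have h2 : (f.app U).hom s = 0 := hs0
    exact (congrArg (X.presheaf.germ (f ⁻¹ᵁ U) x hy) h2).trans (map_zero _)
  have h4 : Y.presheaf.germ U (f x) hy s = 0 := hinj (h3.trans (map_zero _).symm)
  exact h4.trans (map_zero (Y.presheaf.germ U (f x) hy).hom).symm

end inj

section lin

variable {A A' : Type u} [CommRing A] [CommRing A'] [Algebra A A'] (Q : ModuleCat.{u} A)

/-- morphisms `Q ⟶ A'` of `A`-modules, as linear maps. -/
noncomputable def toLin : (Q ⟶ MA' (algebraMap A A')) ≃+ (↑Q →ₗ[A] A') where
  toFun ψ :=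
    { toFun := fun q => ψ.hom q
      map_add' := fun q q' => ψ.hom.map_add q q'
      map_smul' := fun a q => by
        have h := ψ.hom.map_smul a q
        refine h.trans ?_
        exact (Algebra.smul_def (R := A) (A := A') a (ψ.hom q)).symm }
  invFun l := ModuleCat.ofHom (X := ↑Q) (Y := ↑(MA' (algebraMap A A')))
    { toFun := fun q => l q
      map_add' := fun q q' => l.map_add q q'
      map_smul' := fun a q => by
        have h := l.map_smul a q
        refine h.trans ?_
        exact Algebra.smul_def (R := A) (A := A') a (l q) }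
  left_inv ψ := by
    apply ModuleCat.hom_ext
    apply LinearMap.ext
    intro q
    rfl
  right_inv l := by
    apply LinearMap.ext
    intro q
    rfl
  map_add' ψ ψ' := by
    apply LinearMap.ext
    intro q
    rfl

theorem toLin_comp_mulEnd (ψ : Q ⟶ MA' (algebraMap A A')) (a' : A') :
    toLin Q (ψ ≫ mulEnd (algebraMap A A') a') = a' • toLin Q ψ := by
  apply LinearMap.ext
  intro q
  rfl

end lin

end Groth.Agent.R2.H16.CohFlat0Pre
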