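import Mathlib
import Groth.Agent.R2.H16CohFlat0Geom
import Groth.Agent.R2.H16CohFlat0Alg
import Groth.Agent.R2.H16CohFlat0Pre

/-!
# Cohomological flatness in dimension 0 — the local statement (helper16)

Namespace `Groth.Agent.R2.H16.CohFlat0Good`.

`exists_good`: `f : X ⟶ Y` proper flat, `Y` locally Noetherian, `h⁰(X_y, O_{X_y}) = 1` for all `y`; `V ⊆ Y` affine open,
`y ∈ V`: there is `g ∈ Γ(Y, V)` with `y ∈ D(g)` such that for EVERY ring map `ρ : Γ(Y, V) → A'` making `g` a unit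
and every cartesian square `X' = f⁻¹V ×_{Spec Γ(Y,V)} Spec A'`, the map `A' → Γ(X', O_{X'})` is bijective.
-/

set_option autoImplicit false
set_option linter.style.haveILetI false
set_option linter.unusedSectionVars false
universe u
open CategoryTheory CategoryTheory.Limits AlgebraicGeometry Opposite TopologicalSpace

namespace Groth.Agent.R2.H16.CohFlat0Good

open Groth.Agent.R2.H16.CbcFITerm Groth.Agent.R2.H16.CbcFINat Groth.Agent.R2.H16.CbcGeom
  Groth.Agent.R2.H16.CbcFI Groth.Agent.R2.H16.CbcFIGlob Groth.Agent.R2.H16.CohFlat0Geom Groth.Agent.R2.H16.CohFlat0Pre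
  Groth.Agent.R2.H16.CbcFIFib

section good

variable {X Y : Scheme.{u}} (f : X ⟶ Y) {V : Y.Opens} (hV : IsAffineOpen V)

/-- fibres with nonzero global functions are nonempty, so `f` is surjective. -/
theorem surjective_of_finrank (h1 : ∀ y : Y, Module.finrank (Y.residueField y) Γ(f.fiber y, ⊤) = 1) :
    Function.Surjective f.base := by
  intro y
  have hne : Nonempty ↥(f.fiber y) := by
    by_contra hcon
    rw [not_nonempty_iff] at hcon
    have h := h1 y
    rw [Module.finrank_zero_of_subsingleton] at h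
    exact zero_ne_one h
  obtain ⟨x'⟩ := hne
  have hx : (f.fiberι y) x' ∈ Set.range (f.fiberι y) := ⟨x', rfl⟩
  rw [Scheme.Hom.range_fiberι] at hx
  exact ⟨_, hx⟩

theorem exists_good [IsProper f] [Flat f] [IsLocallyNoetherian Y]
    (h1 : ∀ y : Y, Module.finrank (Y.residueField y) Γ(f.fiber y, ⊤) = 1) (y : Y) (hy : y ∈ V) :
    ∃ g : ↑Γ(Y, V), y ∈ Y.basicOpen g ∧
      ∀ (A' : Type u) [CommRing A'] (ρ : ↑Γ(Y, V) →+* A') (X' : Scheme.{u})
        (g' : X' ⟶ (f ⁻¹ᵁ V).toScheme) (f' : X' ⟶ Spec (CommRingCat.of A'))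
        (_ : IsPullback g' f' ((f ∣_ V) ≫ hV.isoSpec.hom) (Spec.map (CommRingCat.ofHom ρ))),
        IsUnit (ρ g) → Function.Bijective (Coh.toGlobal f') := by
  letI := overV (A := ↑Γ(Y, V)) f hV.isoSpec
  haveI : IsNoetherianRing ↑Γ(Y, V) := IsLocallyNoetherian.component_noetherian ⟨V, hV⟩
  haveI hprop : IsProper ((f ⁻¹ᵁ V).toScheme ↘ Spec (CommRingCat.of ↑Γ(Y, V))) :=
    (inferInstance : IsProper ((f ∣_ V) ≫ hV.isoSpec.hom))
  haveI hflat : Flat ((f ⁻¹ᵁ V).toScheme ↘ Spec (CommRingCat.of ↑Γ(Y, V))) :=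
    (inferInstance : Flat ((f ∣_ V) ≫ hV.isoSpec.hom))
  obtain ⟨Q, hQ, hε⟩ := exists_corep ↑Γ(Y, V) (X := (f ⁻¹ᵁ V).toScheme)
  -- the fibre at `y`
  let ρy : ↑Γ(Y, V) →+* ↑(Y.residueField y) := (ρYc (A := ↑Γ(Y, V)) hV.isoSpec y hy).hom
  obtain ⟨εy, hεy⟩ := hε ↑(Y.residueField y) ρy (f.fiber y) (gV (A := ↑Γ(Y, V)) f hV.isoSpec y hy)
    (f.fiberToSpecResidueField y) (isPullback_gV (A := ↑Γ(Y, V)) f hV.isoSpec y hy)
  letI algK : Algebra ↑Γ(Y, V) ↑(Y.residueField y) := ρy.toAlgebra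
  have hfin : Module.finrank ↑(Y.residueField y) (↑Q →ₗ[↑Γ(Y, V)] ↑(Y.residueField y)) = 1 := by
    rw [← h1 y]
    symm
    refine LinearEquiv.finrank_eq ?_
    exact
      { toFun := fun b => toLin Q (εy b)
        invFun := fun l => εy.symm ((toLin Q).symm l)
        left_inv := fun b => by
          change εy.symm ((toLin Q).symm (toLin Q (εy b))) = b
          rw [AddEquiv.symm_apply_apply]
          exact εy.symm_apply_apply b
        right_inv := fun l => by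
          change toLin Q (εy (εy.symm ((toLin Q).symm l))) = l
          rw [AddEquiv.apply_symm_apply, AddEquiv.apply_symm_apply]
        map_add' := fun b b' => by
          change toLin Q (εy (b + b')) = toLin Q (εy b) + toLin Q (εy b')
          have : εy (b + b') = εy b + εy b' := εy.map_add b b'
          rw [this, map_add]
        map_smul' := fun c b => by
          change toLin Q (εy (c • b)) = c • toLin Q (εy b)
          have e1 : εy (c • b) = εy b ≫ mulEnd ρy c := hεy c b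
          rw [e1]
          exact toLin_comp_mulEnd Q (εy b) c }
  -- faithfulness
  have hsurj : Function.Surjective ((f ∣_ V) ≫ hV.isoSpec.hom).base := by
    intro z
    obtain ⟨x, hx⟩ := surjective_of_finrank f h1 (hV.isoSpec.inv z).1
    have hxV : x ∈ f ⁻¹ᵁ V := by
      change f x ∈ V
      rw [hx]
      exact (hV.isoSpec.inv z).2
    refine ⟨⟨x, hxV⟩, ?_⟩
    have h2 : (f ∣_ V) ⟨x, hxV⟩ = hV.isoSpec.inv z := by
      apply Subtype.ext
      exact (morphismRestrict_base_coe f V ⟨x, hxV⟩).trans hx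
    change hV.isoSpec.hom ((f ∣_ V) ⟨x, hxV⟩) = z
    rw [h2]
    change (hV.isoSpec.inv ≫ hV.isoSpec.hom) z = z
    rw [Iso.inv_hom_id]
    rfl
  have hinj : Function.Injective (Coh.toGlobal ((f ∣_ V) ≫ hV.isoSpec.hom)) := by
    unfold Coh.toGlobal
    refine (app_injective_of_flat_of_surjective _ hsurj ⊤).comp ?_
    exact ((ConcreteCategory.isIso_iff_bijective (Scheme.ΓSpecIso (CommRingCat.of ↑Γ(Y, V))).inv).mp
      inferInstance).injective
  have hid : IsPullback (𝟙 (f ⁻¹ᵁ V).toScheme) ((f ∣_ V) ≫ hV.isoSpec.hom)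
      ((f ∣_ V) ≫ hV.isoSpec.hom) (Spec.map (CommRingCat.ofHom (RingHom.id ↑Γ(Y, V)))) := by
    have : Spec.map (CommRingCat.ofHom (RingHom.id ↑Γ(Y, V))) = 𝟙 _ := Spec.map_id _
    rw [this]
    exact IsPullback.of_id_fst
  obtain ⟨ε0, hε0⟩ := hε ↑Γ(Y, V) (RingHom.id _) (f ⁻¹ᵁ V).toScheme (𝟙 _)
    ((f ∣_ V) ≫ hV.isoSpec.hom) hid
  have hfaith : ∀ a : ↑Γ(Y, V), (∀ q : ↑Q, a • q = 0) → a = 0 := by
    intro a ha
    apply hinj
    rw [map_zero]
    have h3 := hε0 a 1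
    rw [mul_one] at h3
    have h4 : ε0 1 ≫ mulEnd (RingHom.id ↑Γ(Y, V)) a = 0 := by
      apply ModuleCat.hom_ext
      apply LinearMap.ext
      intro q
      have h5 := (ε0 1).hom.map_smul a q
      rw [ha q, map_zero] at h5
      exact h5.symm
    rw [h4] at h3
    exact ε0.map_eq_zero_iff.mp h3
  obtain ⟨g, hg, hmain⟩ := Groth.Agent.R2.H16.CohFlat0Alg.main (K := ↑(Y.residueField y)) hfin hfaith
  refine ⟨g, ?_, ?_⟩
  · -- `y ∈ D(g)`
    have hgk : g ∉ RingHom.ker ρy := fun h => hg h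
    rw [ker_ρYc (A := ↑Γ(Y, V)) hV.isoSpec y hy] at hgk
    have h6 : yA (A := ↑Γ(Y, V)) hV.isoSpec y hy ∈ hV.fromSpec ⁻¹ᵁ Y.basicOpen g := by
      rw [hV.fromSpec_preimage_basicOpen]
      exact hgk
    have h7 := fromSpec_yA (A := ↑Γ(Y, V)) hV.isoSpec y hy
    change hV.fromSpec (yA (A := ↑Γ(Y, V)) hV.isoSpec y hy) ∈ Y.basicOpen g at h6
    rw [show hV.fromSpec (yA (A := ↑Γ(Y, V)) hV.isoSpec y hy) = y from h7] at h6
    exact h6
  · intro A' _ ρ X' g' f' hc hu
    obtain ⟨ε, hεe⟩ := hε A' ρ X' g' f' hc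
    letI : Algebra ↑Γ(Y, V) A' := ρ.toAlgebra
    let tg : A' →+* ↑Γ(X', ⊤) := Coh.toGlobal f'
    letI : Algebra A' ↑Γ(X', ⊤) := tg.toAlgebra
    let ε' : ↑Γ(X', ⊤) ≃+ (↑Q →ₗ[↑Γ(Y, V)] A') := ε.trans (toLin Q)
    have hb : Function.Bijective (algebraMap A' ↑Γ(X', ⊤)) :=
      hmain A' hu ↑Γ(X', ⊤) ε' (fun a' b => by
        change toLin Q (ε (Coh.toGlobal f' a' * (show Coh.Γtop X' from b))) = a' • toLin Q (ε b)
        rw [hεe]
        exact toLin_comp_mulEnd Q (ε b) a')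
    exact hb

end good

end Groth.Agent.R2.H16.CohFlat0Good
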