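import Mathlib
import Groth.Agent.R2.H16CohFlat0Good

/-!
# Cohomological flatness in dimension 0 — `O_T = (f_T)_* O_{X_T}` universally (helper16)

Namespace `Groth.Agent.R2.H16.CohFlat0Main`.

* `isIso_app_baseChange`: `f : X ⟶ Y` proper flat, `Y` locally Noetherian, `h⁰(X_y, O_{X_y}) = 1` for all `y` ⇒ for every
  `gT : T ⟶ Y` and every open `U ⊆ T`, `O_T(U) → O_{X_T}(pr₂⁻¹U)` is an isomorphism;
* `finrank_eq_one_of_isIso_app`: the converse (no hypotheses on `f`).
-/

set_option autoImplicit false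
set_option linter.style.haveILetI false
set_option linter.unusedSectionVars false
universe u
open CategoryTheory CategoryTheory.Limits AlgebraicGeometry Opposite TopologicalSpace

namespace Groth.Agent.R2.H16.CohFlat0Main

open Groth.Agent.R2.H16.CbcFIGlob Groth.Agent.R2.H16.CohFlat0Good

section final

variable {X Y : Scheme.{u}} (f : X ⟶ Y)

/-- for a good pair `(V, g)`: affine opens of `T` mapping into `D(g)` have `O_T(U') ≅ O_{X_T}(pr₂⁻¹U')`. -/
theorem isIso_app_of_good {V : Y.Opens} (hV : IsAffineOpen V) (g : ↑Γ(Y, V))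
    (hgood : ∀ (A' : Type u) [CommRing A'] (ρ : ↑Γ(Y, V) →+* A') (X' : Scheme.{u})
        (g' : X' ⟶ (f ⁻¹ᵁ V).toScheme) (f' : X' ⟶ Spec (CommRingCat.of A'))
        (_ : IsPullback g' f' ((f ∣_ V) ≫ hV.isoSpec.hom) (Spec.map (CommRingCat.ofHom ρ))),
        IsUnit (ρ g) → Function.Bijective (Coh.toGlobal f'))
    {T : Scheme.{u}} (gT : T ⟶ Y) (U' : T.Opens) (hU' : IsAffineOpen U')
    (hle : U' ≤ gT ⁻¹ᵁ (Y.basicOpen g)) :
    IsIso ((pullback.snd f gT).app U') := by
  have hleV : U' ≤ gT ⁻¹ᵁ V := hle.trans (gT.preimage_mono (Y.basicOpen_le g))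
  -- `g` becomes a unit on `U'`
  have hu : IsUnit ((gT.appLE V U' hleV).hom g) := by
    have h1 : IsUnit ((Y.presheaf.map (homOfLE (Y.basicOpen_le g)).op).hom g) :=
      Y.toRingedSpace.isUnit_res_basicOpen g
    have h2 : Y.presheaf.map (homOfLE (Y.basicOpen_le g)).op ≫ gT.appLE (Y.basicOpen g) U' hle =
        gT.appLE V U' hleV := Scheme.Hom.map_appLE gT hle _
    rw [← h2]
    exact h1.map (gT.appLE (Y.basicOpen g) U' hle).hom
  -- the cartesian square
  have hp0 : IsPullback (pullback.fst f gT) (pullback.snd f gT) f gT := IsPullback.of_hasPullback f gT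
  have hp1 := (isPullback_morphismRestrict (pullback.snd f gT) U').flip
  have hp3 := hp1.paste_horiz hp0
  have hpb : IsPullback (((pullback.snd f gT) ⁻¹ᵁ U').ι ≫ pullback.fst f gT)
      (((pullback.snd f gT) ∣_ U') ≫ hU'.isoSpec.hom) f
      (Spec.map (gT.appLE V U' hleV) ≫ hV.isoSpec.inv ≫ V.ι) := by
    refine IsPullback.of_iso hp3 (Iso.refl _) (Iso.refl _) hU'.isoSpec (Iso.refl _) ?_ ?_ ?_ ?_
    · simp
    · simp
    · simp
    · rw [Iso.refl_hom, Category.comp_id]
      have h3 := IsAffineOpen.SpecMap_appLE_fromSpec gT hV hU' hleV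
      change _ = hU'.isoSpec.hom ≫ Spec.map (gT.appLE V U' hleV) ≫ hV.fromSpec
      rw [h3, IsAffineOpen.isoSpec_hom_fromSpec_assoc]
  have hov := isPullback_overV (A := ↑Γ(Y, V)) f hV.isoSpec
  let g'' := hov.lift (((pullback.snd f gT) ⁻¹ᵁ U').ι ≫ pullback.fst f gT)
    ((((pullback.snd f gT) ∣_ U') ≫ hU'.isoSpec.hom) ≫ Spec.map (gT.appLE V U' hleV)) (by
      rw [Category.assoc]
      exact hpb.w)
  have hc : IsPullback g'' (((pullback.snd f gT) ∣_ U') ≫ hU'.isoSpec.hom)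
      ((f ∣_ V) ≫ hV.isoSpec.hom) (Spec.map (gT.appLE V U' hleV)) := by
    refine IsPullback.of_right ?_ (hov.lift_snd _ _ _) hov
    rw [hov.lift_fst]
    exact hpb
  have hbij := hgood ↑Γ(T, U') (gT.appLE V U' hleV).hom _ g''
    (((pullback.snd f gT) ∣_ U') ≫ hU'.isoSpec.hom) hc hu
  -- conclusion
  have hq : IsIso (((pullback.snd f gT) ∣_ U') ≫ hU'.isoSpec.hom).appTop := by
    rw [ConcreteCategory.isIso_iff_bijective]
    have hi : Function.Bijective (Scheme.ΓSpecIso (CommRingCat.of ↑Γ(T, U'))).hom.hom :=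
      (ConcreteCategory.isIso_iff_bijective _).mp inferInstance
    have h5 : ((((pullback.snd f gT) ∣_ U') ≫ hU'.isoSpec.hom).appTop.hom : _ → _) =
        (Coh.toGlobal (((pullback.snd f gT) ∣_ U') ≫ hU'.isoSpec.hom)) ∘
          (Scheme.ΓSpecIso (CommRingCat.of ↑Γ(T, U'))).hom.hom := by
      funext x
      change _ = (((pullback.snd f gT) ∣_ U') ≫ hU'.isoSpec.hom).appTop.hom
        ((Scheme.ΓSpecIso (CommRingCat.of ↑Γ(T, U'))).inv.hom
          ((Scheme.ΓSpecIso (CommRingCat.of ↑Γ(T, U'))).hom.hom x))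
      have : (Scheme.ΓSpecIso (CommRingCat.of ↑Γ(T, U'))).inv.hom
          ((Scheme.ΓSpecIso (CommRingCat.of ↑Γ(T, U'))).hom.hom x) = x :=
        congrArg (fun φ => φ.hom x) (Scheme.ΓSpecIso (CommRingCat.of ↑Γ(T, U'))).hom_inv_id
      rw [this]
    rw [h5]
    exact hbij.comp hi
  have hr : IsIso ((pullback.snd f gT) ∣_ U').appTop := by
    rw [Scheme.Hom.comp_appTop] at hq
    haveI : IsIso hU'.isoSpec.hom.appTop := by
      rw [IsAffineOpen.isoSpec_hom_appTop]
      infer_instance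
    haveI := hq
    exact IsIso.of_isIso_comp_left hU'.isoSpec.hom.appTop _
  have h6 : ((pullback.snd f gT) ∣_ U').app ⊤ = (pullback.snd f gT).app (U'.ι ''ᵁ ⊤) ≫
      (pullback f gT).presheaf.map
        (eqToHom (image_morphismRestrict_preimage (pullback.snd f gT) U' ⊤)).op :=
    morphismRestrict_app (pullback.snd f gT) U' ⊤
  have h7 : IsIso ((pullback.snd f gT).app (U'.ι ''ᵁ ⊤)) := by
    have h9 : IsIso (((pullback.snd f gT) ∣_ U').app ⊤) := hr
    rw [h6] at h9
    exact @IsIso.of_isIso_comp_right _ _ _ _ _ ((pullback.snd f gT).app (U'.ι ''ᵁ ⊤))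
      ((pullback f gT).presheaf.map
        (eqToHom (image_morphismRestrict_preimage (pullback.snd f gT) U' ⊤)).op) inferInstance h9
  have h8 : U'.ι ''ᵁ ⊤ = U' := by simp
  rw [h8] at h7
  exact h7

/-- **`h⁰(X_y, O) = 1` for all `y` ⇒ `O_T = (f_T)_* O_{X_T}` universally.** -/
theorem isIso_app_baseChange [IsProper f] [Flat f] [IsLocallyNoetherian Y]
    (h1 : ∀ y : Y, Module.finrank (Y.residueField y) Γ(f.fiber y, ⊤) = 1)
    (T : Scheme.{u}) (gT : T ⟶ Y) (U : T.Opens) : IsIso ((pullback.snd f gT).app U) := by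
  let ι := {U' : T.Opens // IsAffineOpen U' ∧ IsIso ((pullback.snd f gT).app U')}
  let B : ι → T.Opens := fun i => i.1
  have hB : TopologicalSpace.Opens.IsBasis (Set.range B) := by
    rw [TopologicalSpace.Opens.isBasis_iff_nbhd]
    intro W t ht
    obtain ⟨_, ⟨V, hV, rfl⟩, hyV, -⟩ := Y.isBasis_affineOpens.exists_subset_of_mem_open
      (Set.mem_univ (gT t)) isOpen_univ
    obtain ⟨g, hg, hgood⟩ := exists_good f hV h1 (gT t) hyV
    have htW : t ∈ W ⊓ gT ⁻¹ᵁ (Y.basicOpen g) := ⟨ht, hg⟩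
    obtain ⟨_, ⟨U', hU', rfl⟩, htU', hU'W⟩ := T.isBasis_affineOpens.exists_subset_of_mem_open
      htW (W ⊓ gT ⁻¹ᵁ (Y.basicOpen g)).2
    have hle : U' ≤ gT ⁻¹ᵁ (Y.basicOpen g) := fun x hx => (hU'W hx).2
    exact ⟨U', ⟨⟨U', hU', isIso_app_of_good f hV g hgood gT U' hU' hle⟩, rfl⟩, htU',
      fun x hx => (hU'W hx).1⟩
  let F : TopCat.Sheaf CommRingCat T := T.sheaf
  let G : TopCat.Sheaf CommRingCat T :=
    (TopCat.Sheaf.pushforward _ (pullback.snd f gT).base).obj (pullback f gT).sheaf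
  let φ : F ⟶ G := ⟨(pullback.snd f gT).c⟩
  have hφ : IsIso φ := TopCat.Sheaf.isIso_iff_isIso_basis (B := B) hB (fun i => i.2.2)
  have : IsIso ((TopCat.Sheaf.forget _ _).map φ) := inferInstance
  exact NatIso.isIso_app_of_isIso ((TopCat.Sheaf.forget _ _).map φ) (Opposite.op U)

/-- the converse: test on the fibres. -/
theorem finrank_eq_one_of_isIso_app
    (h : ∀ (T : Scheme.{u}) (gT : T ⟶ Y) (U : T.Opens), IsIso ((pullback.snd f gT).app U)) (y : Y) :
    Module.finrank (Y.residueField y) Γ(f.fiber y, ⊤) = 1 := by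
  have h1 : IsIso ((f.fiberToSpecResidueField y).appTop) := h _ (Y.fromSpecResidueField y) ⊤
  have hb : Function.Bijective (algebraMap (Y.residueField y) Γ(f.fiber y, ⊤)) := by
    change Function.Bijective ((f.fiberToSpecResidueField y).appTop.hom.comp
      (Scheme.ΓSpecIso (Y.residueField y)).inv.hom)
    exact ((ConcreteCategory.isIso_iff_bijective _).mp h1).comp
      ((ConcreteCategory.isIso_iff_bijective (Scheme.ΓSpecIso (Y.residueField y)).inv).mp inferInstance)
  have e : (Y.residueField y) ≃ₗ[Y.residueField y] Γ(f.fiber y, ⊤) :=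
    LinearEquiv.ofBijective (Algebra.linearMap (Y.residueField y) Γ(f.fiber y, ⊤)) hb
  rw [← e.finrank_eq, Module.finrank_self]

end final

end Groth.Agent.R2.H16.CohFlat0Main
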