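import Mathlib

/-!
# Étale charts for standard smooth algebras with a retraction

If `S` is a standard smooth `R`-algebra and `σ : S → R` is a retraction of `R → S`, there are
finitely many `vⱼ ∈ ker σ` such that `R[T₁, …, Tₘ] → S`, `Tⱼ ↦ vⱼ` is étale.
-/

set_option autoImplicit false

open KaehlerDifferential Algebra MvPolynomial TensorProduct

namespace Groth.Agent.R2.H16.EtaleChart

universe u

section Alg

variable {R S : Type u} [CommRing R] [CommRing S] [Algebra R S]

/-- If `(d vᵢ)ᵢ` is a basis of `Ω[S⁄R]` and `H¹(L_{S/R}) = 0`, then `S` is formally étale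
over `R[Tᵢ]` via `Tᵢ ↦ vᵢ`. -/
theorem formallyEtale_of_basis {ι : Type u} (v : ι → S) (b : Module.Basis ι S (Ω[S⁄R]))
    (hb : ∀ i, b i = D R S (v i)) [Subsingleton (H1Cotangent R S)] :
    @Algebra.FormallyEtale (MvPolynomial ι R) S _ _
      (MvPolynomial.aeval (R := R) v).toRingHom.toAlgebra := by
  let _ : Algebra (MvPolynomial ι R) S := (MvPolynomial.aeval (R := R) v).toRingHom.toAlgebra
  have : IsScalarTower R (MvPolynomial ι R) S :=
    IsScalarTower.of_algebraMap_eq' (by
      ext r
      change algebraMap R S r = MvPolynomial.aeval v (algebraMap R (MvPolynomial ι R) r)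
      simp)
  have hX : ∀ i, algebraMap (MvPolynomial ι R) S (X i) = v i := fun i => by
    change MvPolynomial.aeval v (X i) = v i
    simp
  let P := MvPolynomial ι R
  let b' : Module.Basis ι S (S ⊗[P] Ω[P⁄R]) := (mvPolynomialBasis R ι).baseChange S
  have hmap : mapBaseChange R P S = (b'.equiv b (Equiv.refl ι)).toLinearMap := by
    apply b'.ext
    intro i
    have e1 : b' i = (1 : S) ⊗ₜ[P] (D R P (X i)) := by
      simp only [b', Module.Basis.baseChange_apply, mvPolynomialBasis_apply]
      rfl
    have e2 : (b'.equiv b (Equiv.refl ι)) (b' i) = b i := by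
      rw [Module.Basis.equiv_apply]; rfl
    rw [LinearEquiv.coe_coe, e2, e1, mapBaseChange_tmul, one_smul, KaehlerDifferential.map_D, hX, hb]
  have hbij : Function.Bijective (mapBaseChange R P S) := by
    rw [hmap]
    exact (b'.equiv b (Equiv.refl ι)).bijective
  refine ⟨⟨fun x y => ?_⟩, ⟨fun x y => ?_⟩⟩
  · suffices h : ∀ z : Ω[S⁄P], z = 0 by rw [h x, h y]
    intro z
    obtain ⟨w, rfl⟩ := KaehlerDifferential.map_surjective R P S z
    obtain ⟨w', rfl⟩ := hbij.2 w
    exact (KaehlerDifferential.exact_mapBaseChange_map R P S _).mpr ⟨w', rfl⟩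
  · suffices h : ∀ z : H1Cotangent P S, z = 0 by rw [h x, h y]
    intro z
    have h1 : mapBaseChange R P S (H1Cotangent.δ R P S z) = 0 :=
      (H1Cotangent.exact_δ_mapBaseChange R P S _).mpr ⟨z, rfl⟩
    have h2 : H1Cotangent.δ R P S z = 0 := hbij.1 (by rw [h1, map_zero])
    obtain ⟨w, rfl⟩ := (H1Cotangent.exact_map_δ R P S z).mp h2
    rw [Subsingleton.elim w 0, map_zero]

end Alg

section Hom

variable {R S : Type u} [CommRing R] [CommRing S]

/-- A standard smooth ring map `φ : R → S` with a retraction `σ` admits an étale chart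
`R[T₁, …, Tₘ] → S` whose coordinates are killed by `σ`. -/
theorem exists_etale_chart (φ : R →+* S) (hφ : φ.IsStandardSmooth) (σ : S →+* R)
    (hσ : σ.comp φ = RingHom.id R) :
    ∃ (m : ℕ) (v : ULift.{u} (Fin m) → S), (∀ j, σ (v j) = 0) ∧
      (MvPolynomial.eval₂Hom φ v).Etale := by
  rcases subsingleton_or_nontrivial S with hS | hS
  · have hR : Subsingleton R := by
      refine ⟨fun a b => ?_⟩
      have h1 : (1 : R) = 0 := by
        rw [← map_one σ, Subsingleton.elim (1 : S) 0, map_zero]
      rw [← mul_one a, ← mul_one b, h1, mul_zero, mul_zero]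
    refine ⟨0, fun j => 0, fun j => map_zero σ, RingHom.Etale.of_bijective ⟨?_, ?_⟩⟩
    · intro a b _
      have : Subsingleton (MvPolynomial (ULift.{u} (Fin 0)) R) := inferInstance
      exact Subsingleton.elim a b
    · intro y
      exact ⟨0, Subsingleton.elim _ _⟩
  algebraize [φ]
  have hfp : Algebra.FinitePresentation R S := inferInstance
  obtain ⟨hH1, I, b, hb⟩ :=
    IsStandardSmooth.iff_exists_basis_kaehlerDifferential.mp ‹Algebra.IsStandardSmooth R S›
  have : Module.Finite S Ω[S⁄R] := inferInstance
  have : Finite I := Module.Finite.finite_basis b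
  let m := Nat.card I
  let e : I ≃ ULift.{u} (Fin m) := (Finite.equivFin I).trans Equiv.ulift.symm
  choose s hs using fun i => hb ⟨i, rfl⟩
  let v : ULift.{u} (Fin m) → S := fun j => s (e.symm j) - algebraMap R S (σ (s (e.symm j)))
  have hσ' : ∀ r, σ (algebraMap R S r) = r := fun r => by
    have h : σ (φ r) = r := by simpa using congrArg (fun g => g r) hσ
    exact h
  refine ⟨m, v, ?_, ?_⟩
  · intro j
    simp [v, hσ']
  · have h1 := formallyEtale_of_basis v (b.reindex e) (by
      intro j
      simp [v, hs])
    have heq : (MvPolynomial.aeval (R := R) v).toRingHom = MvPolynomial.eval₂Hom φ v := rfl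
    rw [heq] at h1
    let _ := (MvPolynomial.eval₂Hom φ v).toAlgebra
    have : IsScalarTower R (MvPolynomial (ULift.{u} (Fin m)) R) S :=
      IsScalarTower.of_algebraMap_eq' (by
        ext r
        change algebraMap R S r = MvPolynomial.eval₂Hom φ v (algebraMap R _ r)
        simp
        rfl)
    change Algebra.Etale (MvPolynomial (ULift.{u} (Fin m)) R) S
    have : Algebra.FinitePresentation (MvPolynomial (ULift.{u} (Fin m)) R) S :=
      Algebra.FinitePresentation.of_restrict_scalars_finitePresentation R _ _
    exact ⟨h1, inferInstance⟩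

end Hom

section Sch

open AlgebraicGeometry CategoryTheory CategoryTheory.Limits

variable {n : Type u}

set_option backward.isDefEq.respectTransparency.types false in
/-- Affine space (with finitely many coordinates) is smooth over its base. -/
instance smooth_affineSpace_over [Finite n] (S' : Scheme.{u}) : Smooth (𝔸(n; S') ↘ S') :=
  MorphismProperty.pullback_fst _ _ <| by
  have := isIso_of_isTerminal specULiftZIsTerminal.{u} terminalIsTerminal (terminal.from _)
  rw [← terminal.comp_from (Spec.map (CommRingCat.ofHom C)),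
    MorphismProperty.cancel_right_of_respectsIso (P := @Smooth),
    HasRingHomProperty.Spec_iff (P := @Smooth), RingHom.Smooth]
  have hsm : Algebra.Smooth (ULift.{u} ℤ) (MvPolynomial n (ULift.{u} ℤ)) :=
    ⟨inferInstance, inferInstance⟩
  convert! hsm
  exact Algebra.algebra_ext _ _ fun _ ↦ rfl

set_option backward.isDefEq.respectTransparency.types false in
/-- A chart `X' ⟶ 𝔸(n; S')` between affine schemes is étale as soon as the corresponding
ring map `Γ(S')[Tᵢ] → Γ(X')` is étale. -/
theorem etale_homOfVector_of_isAffine {X' S' : Scheme.{u}} [IsAffine X'] [IsAffine S']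
    (g : X' ⟶ S') (v : n → Γ(X', ⊤))
    (h : (MvPolynomial.eval₂Hom g.appTop.hom v).Etale) :
    Etale (AffineSpace.homOfVector g v) := by
  rw [HasRingHomProperty.iff_of_isAffine (P := @Etale)]
  let e : MvPolynomial n Γ(S', ⊤) →+* Γ(𝔸(n; S'), ⊤) :=
    eval₂Hom ((𝔸(n; S') ↘ S').appTop).hom (AffineSpace.coord S')
  have he : Function.Bijective e := by
    have h1 : IsIso (CommRingCat.ofHom e) := by
      have h2 : CommRingCat.ofHom e =
          (Scheme.ΓSpecIso _).inv ≫ (AffineSpace.isoOfIsAffine n S').hom.appTop := by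
        rw [AffineSpace.isoOfIsAffine_hom_appTop, Iso.inv_hom_id_assoc]
      rw [h2]
      have : IsIso (AffineSpace.isoOfIsAffine n S').hom.appTop :=
        inferInstanceAs (IsIso ((AffineSpace.isoOfIsAffine n S').hom.app ⊤))
      infer_instance
    exact (ConcreteCategory.isIso_iff_bijective (CommRingCat.ofHom e)).mp h1
  have hcomp : (AffineSpace.homOfVector g v).appTop.hom.comp e =
      MvPolynomial.eval₂Hom g.appTop.hom v := by
    apply MvPolynomial.ringHom_ext
    · intro r
      simp only [e, RingHom.comp_apply, coe_eval₂Hom, eval₂_C]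
      rw [← CommRingCat.comp_apply, ← Scheme.Hom.comp_appTop, AffineSpace.homOfVector_over]
    · intro i
      simp only [e, RingHom.comp_apply, coe_eval₂Hom, eval₂_X]
      exact AffineSpace.homOfVector_appTop_coord _ _ _
  rw [← hcomp] at h
  let e' : MvPolynomial n Γ(S', ⊤) ≃+* Γ(𝔸(n; S'), ⊤) := RingEquiv.ofBijective e he
  have := RingHom.Etale.respectsIso.2 _ e'.symm h
  convert this using 1
  ext x
  exact congrArg _ ((RingEquiv.ofBijective e he).apply_symm_apply x).symm

end Sch

end Groth.Agent.R2.H16.EtaleChart
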