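import Mathlib

/-!
# Artin–Rees for `Hom` (helper16; package (ALG) of helper2's G-FF, board #1976)

Namespace `Groth.Agent.R2.H16.HomAR`.  Pure Mathlib.

`B` Noetherian, `J` an ideal, `M`, `N` finite `B`-modules.

* `exists_mem_smul_of_forall_mem` (AR-Hom): for a submodule `W ≤ (Q →ₗ[B] N)` (`Q` finite) there is `c` such that
  every `u ∈ W` with values in `J^(n+c) N` lies in `J^n • W`.
* `hom_part1`: `∃ c, ∀ n, ∀ h : M →ₗ[B] N, (∀ m, h m ∈ J^(n+c) • ⊤) → h ∈ J^n • ⊤`.
* `hom_part2`: `∃ c, ∀ n, ∀ t : M →ₗ[B] N ⧸ J^(n+c) • ⊤, ∃ h : M →ₗ[B] N, ∀ m, mkQ (J^n • ⊤) (h m) = factor _ (t m)`.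
* `hom_artinRees`: both with a common `c`.
-/

set_option autoImplicit false
universe u v w

namespace Groth.Agent.R2.H16.HomAR

variable {B : Type u} [CommRing B]

section pi

variable {ι : Type*} [Fintype ι] [DecidableEq ι] {N : Type v} [AddCommGroup N] [Module B N]
  (I : Ideal B)

theorem mem_smul_top_pi_of_forall (f : ι → N) (hf : ∀ i, f i ∈ I • (⊤ : Submodule B N)) :
    f ∈ I • (⊤ : Submodule B (ι → N)) := by
  have h0 : f = ∑ i, LinearMap.single B (fun _ : ι => N) i (f i) := by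
    ext j
    simp [Finset.sum_apply, Pi.single_apply]
  rw [h0]
  refine Submodule.sum_mem _ fun i _ => ?_
  have h1 : Submodule.map (LinearMap.single B (fun _ : ι => N) i) (I • (⊤ : Submodule B N)) ≤
      I • (⊤ : Submodule B (ι → N)) := by
    rw [Submodule.map_smul'']
    exact Submodule.smul_mono (le_refl _) le_top
  exact h1 ⟨f i, hf i, rfl⟩

end pi

section hom

variable {Q : Type v} [AddCommGroup Q] [Module B Q] {N : Type w} [AddCommGroup N] [Module B N]
  (I : Ideal B)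

/-- an element of `I • Hom(Q, N)` has values in `I N`. -/
theorem apply_mem_of_mem_smul_top (u : Q →ₗ[B] N) (hu : u ∈ I • (⊤ : Submodule B (Q →ₗ[B] N)))
    (q : Q) : u q ∈ I • (⊤ : Submodule B N) := by
  have h1 : Submodule.map (LinearMap.applyₗ q : (Q →ₗ[B] N) →ₗ[B] N)
      (I • (⊤ : Submodule B (Q →ₗ[B] N))) ≤ I • (⊤ : Submodule B N) := by
    rw [Submodule.map_smul'']
    exact Submodule.smul_mono (le_refl _) le_top
  exact h1 ⟨u, hu, rfl⟩

end hom

section AR

variable [IsNoetherianRing B] (J : Ideal B)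

/-- Artin–Rees in the form used here. -/
theorem exists_inf_le_smul {P : Type v} [AddCommGroup P] [Module B P] [Module.Finite B P]
    (H : Submodule B P) :
    ∃ k : ℕ, ∀ n : ℕ, J ^ (n + k) • (⊤ : Submodule B P) ⊓ H ≤ J ^ n • H := by
  obtain ⟨k, hk⟩ := Ideal.exists_pow_inf_eq_pow_smul J H
  refine ⟨k, fun n => ?_⟩
  rw [hk (n + k) (Nat.le_add_left k n), Nat.add_sub_cancel]
  exact Submodule.smul_mono (le_refl _) inf_le_right

variable {Q : Type v} [AddCommGroup Q] [Module B Q] [Module.Finite B Q]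
  {N : Type w} [AddCommGroup N] [Module B N] [Module.Finite B N]

/-- **AR-Hom**: for a submodule `W` of `Hom(Q, N)` there is `c` such that the elements of `W` with values in
`J^(n+c) N` lie in `J^n W`. -/
theorem exists_mem_smul_of_forall_mem (W : Submodule B (Q →ₗ[B] N)) :
    ∃ c : ℕ, ∀ n : ℕ, ∀ u ∈ W, (∀ q, u q ∈ J ^ (n + c) • (⊤ : Submodule B N)) → u ∈ J ^ n • W := by
  classical
  obtain ⟨s, σ, hσ⟩ := Module.Finite.exists_fin' B Q
  let ev : (Q →ₗ[B] N) →ₗ[B] (Fin s → N) :=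
    LinearMap.pi fun j => (LinearMap.applyₗ (σ (Pi.single j 1)) : (Q →ₗ[B] N) →ₗ[B] N)
  have hev : Function.Injective ev := by
    intro u u' huu
    have h1 : u.comp σ = u'.comp σ := by
      apply LinearMap.pi_ext'
      intro j
      apply LinearMap.ext_ring
      exact congrFun huu j
    exact LinearMap.ext fun q => by
      obtain ⟨b, rfl⟩ := hσ q
      exact congrArg (fun φ => φ b) h1
  obtain ⟨c, hc⟩ := exists_inf_le_smul J (Submodule.map ev W)
  refine ⟨c, fun n u hu hval => ?_⟩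
  have h1 : ev u ∈ J ^ (n + c) • (⊤ : Submodule B (Fin s → N)) ⊓ Submodule.map ev W :=
    ⟨mem_smul_top_pi_of_forall _ _ (fun j => hval _), ⟨u, hu, rfl⟩⟩
  have h2 := hc n h1
  rw [← Submodule.map_smul''] at h2
  obtain ⟨u', hu', e⟩ := h2
  rwa [← hev e]

end AR

section main

variable [IsNoetherianRing B] (J : Ideal B) (M : Type v) [AddCommGroup M] [Module B M]
  [Module.Finite B M] (N : Type w) [AddCommGroup N] [Module B N] [Module.Finite B N]

/-- **(ALG 1)**: homomorphisms with values in `J^(n+c) N` lie in `J^n Hom(M, N)`. -/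
theorem hom_part1 :
    ∃ c : ℕ, ∀ n : ℕ, ∀ h : M →ₗ[B] N, (∀ m, h m ∈ J ^ (n + c) • (⊤ : Submodule B N)) →
      h ∈ J ^ n • (⊤ : Submodule B (M →ₗ[B] N)) := by
  obtain ⟨c, hc⟩ := exists_mem_smul_of_forall_mem J (⊤ : Submodule B (M →ₗ[B] N))
  exact ⟨c, fun n h hh => hc n h Submodule.mem_top hh⟩

omit [IsNoetherianRing B] [Module.Finite B N] in
theorem pow_smul_top_le (n c : ℕ) :
    J ^ (n + c) • (⊤ : Submodule B N) ≤ J ^ n • (⊤ : Submodule B N) :=
  Submodule.smul_mono (Ideal.pow_le_pow_right (Nat.le_add_right n c)) (le_refl _)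

/-- **(ALG 2)**: every homomorphism `M → N/J^(n+c)N` agrees modulo `J^n N` with a homomorphism `M → N`. -/
theorem hom_part2 :
    ∃ c : ℕ, ∀ n : ℕ, ∀ t : M →ₗ[B] N ⧸ (J ^ (n + c) • (⊤ : Submodule B N)),
      ∃ h : M →ₗ[B] N, ∀ m, Submodule.mkQ (J ^ n • (⊤ : Submodule B N)) (h m) =
        Submodule.factor (pow_smul_top_le J N n c) (t m) := by
  classical
  obtain ⟨r, π, hπ⟩ := Module.Finite.exists_fin' B M
  let K : Submodule B (Fin r → B) := LinearMap.ker π
  let res : ((Fin r → B) →ₗ[B] N) →ₗ[B] (↥K →ₗ[B] N) := LinearMap.lcomp B N K.subtype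
  obtain ⟨c, hc⟩ := exists_mem_smul_of_forall_mem J (LinearMap.range res)
  refine ⟨c, fun n t => ?_⟩
  -- lift `t ∘ π` to `ũ : B^r → N`
  obtain ⟨ũ, hũ⟩ := Module.projective_lifting_property
    (Submodule.mkQ (J ^ (n + c) • (⊤ : Submodule B N))) (t.comp π)
    (Submodule.mkQ_surjective _)
  have hũ' : ∀ b, Submodule.mkQ (J ^ (n + c) • (⊤ : Submodule B N)) (ũ b) = t (π b) := fun b =>
    congrArg (fun φ => φ b) hũ
  -- on `K` the lift has values in `J^(n+c) N`
  have hval : ∀ k : ↥K, (res ũ) k ∈ J ^ (n + c) • (⊤ : Submodule B N) := by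
    intro k
    have h1 : Submodule.mkQ (J ^ (n + c) • (⊤ : Submodule B N)) (ũ (k : Fin r → B)) = 0 := by
      rw [hũ', (LinearMap.mem_ker.1 k.2 : π (k : Fin r → B) = 0), map_zero]
    rwa [Submodule.mkQ_apply, Submodule.Quotient.mk_eq_zero] at h1
  have h2 := hc n (res ũ) ⟨ũ, rfl⟩ hval
  rw [LinearMap.range_eq_map, ← Submodule.map_smul''] at h2
  obtain ⟨u', hu', e⟩ := h2
  -- `z = ũ - u'` kills `K`
  let z : (Fin r → B) →ₗ[B] N := ũ - u'
  have hz : K ≤ LinearMap.ker z := by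
    intro k hk
    rw [LinearMap.mem_ker]
    have h3 := congrArg (fun φ => φ (⟨k, hk⟩ : ↥K)) e
    change u' k = ũ k at h3
    change ũ k - u' k = 0
    rw [h3, sub_self]
  let h : M →ₗ[B] N := (Submodule.liftQ K z hz).comp (π.quotKerEquivOfSurjective hπ).symm.toLinearMap
  have hh : ∀ b, h (π b) = z b := by
    intro b
    change Submodule.liftQ K z hz ((π.quotKerEquivOfSurjective hπ).symm (π b)) = z b
    have h4 : (π.quotKerEquivOfSurjective hπ).symm (π b) = Submodule.Quotient.mk b := by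
      apply (π.quotKerEquivOfSurjective hπ).injective
      rw [LinearEquiv.apply_symm_apply]
      rfl
    rw [h4]
    rfl
  refine ⟨h, fun m => ?_⟩
  obtain ⟨b, rfl⟩ := hπ m
  rw [hh, ← hũ' b, Submodule.factor_mk]
  change Submodule.mkQ (J ^ n • (⊤ : Submodule B N)) (ũ b - u' b) = _
  rw [map_sub, sub_eq_self, Submodule.mkQ_apply, Submodule.Quotient.mk_eq_zero]
  exact apply_mem_of_mem_smul_top _ u' hu' b

/-- **(ALG)**: both statements with a common constant. -/
theorem hom_artinRees :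
    ∃ c : ℕ, ∀ n : ℕ,
      (∀ h : M →ₗ[B] N, (∀ m, h m ∈ J ^ (n + c) • (⊤ : Submodule B N)) →
        h ∈ J ^ n • (⊤ : Submodule B (M →ₗ[B] N))) ∧
      (∀ t : M →ₗ[B] N ⧸ (J ^ (n + c) • (⊤ : Submodule B N)),
        ∃ h : M →ₗ[B] N, ∀ m, Submodule.mkQ (J ^ n • (⊤ : Submodule B N)) (h m) =
          Submodule.factor (pow_smul_top_le J N n c) (t m)) := by
  obtain ⟨c₁, h₁⟩ := hom_part1 J M N
  obtain ⟨c₂, h₂⟩ := hom_part2 J M N
  refine ⟨max c₁ c₂, fun n => ⟨fun h hh => h₁ n h fun m => ?_, fun t => ?_⟩⟩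
  · exact Submodule.smul_mono (Ideal.pow_le_pow_right
      (Nat.add_le_add_left (le_max_left c₁ c₂) n)) (le_refl _) (hh m)
  · have hle : J ^ (n + max c₁ c₂) • (⊤ : Submodule B N) ≤ J ^ (n + c₂) • (⊤ : Submodule B N) :=
      Submodule.smul_mono (Ideal.pow_le_pow_right
        (Nat.add_le_add_left (le_max_right c₁ c₂) n)) (le_refl _)
    obtain ⟨h, hh⟩ := h₂ n ((Submodule.factor hle).comp t)
    refine ⟨h, fun m => (hh m).trans ?_⟩
    change Submodule.factor (pow_smul_top_le J N n c₂) (Submodule.factor hle (t m)) = _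
    obtain ⟨y, hy⟩ := Submodule.mkQ_surjective _ (t m)
    rw [← hy, Submodule.factor_mk, Submodule.factor_mk, Submodule.factor_mk]

end main

end Groth.Agent.R2.H16.HomAR
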