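import Mathlib

/-!
# helper16: coproducts of (closed) immersions (pn-toolkit package P4, general part)

* `isClosedImmersion_coprodDesc`: `coprod.desc f g` is a closed immersion when `f`, `g` are closed
  immersions with disjoint ranges.
* `isImmersion_coprodMap`: `coprod.map j₁ j₂` is an immersion when `j₁`, `j₂` are.
-/

set_option autoImplicit false

open CategoryTheory CategoryTheory.Limits AlgebraicGeometry

universe u

namespace Groth.Agent.R2.H16.PnCoprod

variable {X Y Z : Scheme.{u}}

theorem coprodDesc_comp_coprodMk (f : X ⟶ Z) (g : Y ⟶ Z) :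
    (coprod.desc f g : X ⨿ Y ⟶ Z) ∘ (coprodMk X Y) = Sum.elim f g := by
  funext z
  rcases z with x | y
  · simp only [Function.comp_apply, coprodMk_inl, Sum.elim_inl]
    rw [← Scheme.Hom.comp_apply, coprod.inl_desc]
  · simp only [Function.comp_apply, coprodMk_inr, Sum.elim_inr]
    rw [← Scheme.Hom.comp_apply, coprod.inr_desc]

theorem surjectiveOnStalks_coprodDesc (f : X ⟶ Z) (g : Y ⟶ Z) [SurjectiveOnStalks f]
    [SurjectiveOnStalks g] : SurjectiveOnStalks (coprod.desc f g) := by
  rw [IsZariskiLocalAtSource.iff_of_openCover (P := @SurjectiveOnStalks) (coprodOpenCover.{_, 0} X Y)]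
  rintro (i | i)
  · change SurjectiveOnStalks (coprod.inl ≫ coprod.desc f g)
    rw [coprod.inl_desc]; infer_instance
  · change SurjectiveOnStalks (coprod.inr ≫ coprod.desc f g)
    rw [coprod.inr_desc]; infer_instance

/-- The copairing of two closed immersions with disjoint ranges is a closed immersion. -/
theorem isClosedImmersion_coprodDesc (f : X ⟶ Z) (g : Y ⟶ Z) [IsClosedImmersion f]
    [IsClosedImmersion g] (h : Disjoint (Set.range f) (Set.range g)) :
    IsClosedImmersion (coprod.desc f g) := by
  have hs : SurjectiveOnStalks (coprod.desc f g) := surjectiveOnStalks_coprodDesc f g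
  refine { hs with isClosedEmbedding := ?_ }
  have hinj : Function.Injective (Sum.elim (f : X → Z) (g : Y → Z)) := by
    refine Function.Injective.sumElim f.isClosedEmbedding.injective g.isClosedEmbedding.injective ?_
    intro x y hxy
    exact Set.disjoint_left.mp h ⟨x, rfl⟩ ⟨y, hxy.symm⟩
  have h1 : Topology.IsClosedEmbedding (Sum.elim (f : X → Z) (g : Y → Z)) :=
    f.isClosedEmbedding.sumElim g.isClosedEmbedding hinj
  rw [← coprodDesc_comp_coprodMk] at h1
  have h2 := h1.comp (coprodMk X Y).symm.isClosedEmbedding
  convert h2 using 1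
  funext z
  simp
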