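import Mathlib
import Groth.Prelude.Def_CohB1
import Groth.Agent.Lib.Helper27PnChart
import Groth.Agent.Lib.Helper13RelProjA
import Groth.Agent.R2.H16PnCoprodGen

/-!
# helper16: disjoint unions of projective spaces (pn-toolkit package P4)

* `gHom v hv`: the graded ring hom `R[T_0..T_a] → R[T_0..T_b]`, `T_k ↦ v k` (`v k` linear forms).
* `linMap`: the induced morphism `P^b_R ⟶ P^a_R` when `gHom` is surjective; it is a closed
  immersion over `Spec R`.
* `ι₁ : P^n_R ⟶ P^(n+m+1)_R`, `ι₂ : P^m_R ⟶ P^(n+m+1)_R`: the two linear subspaces, disjoint.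
-/

set_option autoImplicit false

open CategoryTheory CategoryTheory.Limits AlgebraicGeometry MvPolynomial CohB1
open scoped HomogeneousIdeal

universe u

namespace Groth.Agent.R2.H16.PnCoprod

section General

variable {R : Type u} [CommRing R] {a b : ℕ}

/-- The graded ring hom `R[T_0..T_a] → R[T_0..T_b]` sending `T_k` to the linear form `v k`. -/
noncomputable def gHom (v : Fin (a + 1) → MvPolynomial (Fin (b + 1)) R)
    (hv : ∀ k, (v k).IsHomogeneous 1) : polyGrading a R →+*ᵍ polyGrading b R where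
  toRingHom := (aeval v : MvPolynomial (Fin (a + 1)) R →ₐ[R] MvPolynomial (Fin (b + 1)) R)
  map_mem {d p} hp := by
    have h := IsHomogeneous.aeval ((mem_homogeneousSubmodule _ _).mp hp) v hv
    rw [one_mul] at h
    exact (mem_homogeneousSubmodule _ _).mpr h

variable (v : Fin (a + 1) → MvPolynomial (Fin (b + 1)) R) (hv : ∀ k, (v k).IsHomogeneous 1)

@[simp] theorem gHom_apply (p : MvPolynomial (Fin (a + 1)) R) : gHom v hv p = aeval v p := rfl

theorem gHom_X (k : Fin (a + 1)) : gHom v hv (X k) = v k := by simp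

theorem gHom_C (r : R) : gHom v hv (C r) = C r := by simp

theorem gHom_surjective (s : Fin (b + 1) → Fin (a + 1)) (hs : ∀ j, v (s j) = X j) :
    Function.Surjective (gHom v hv) := by
  intro q
  refine ⟨rename s q, ?_⟩
  rw [gHom_apply, aeval_rename]
  have : v ∘ s = X := funext hs
  rw [this, aeval_X_left_apply]

end General

section Irrelevant

variable {A B σ τ : Type u} [CommRing A] [SetLike σ A] [AddSubgroupClass σ A]
  [CommRing B] [SetLike τ B] [AddSubgroupClass τ B]
  {𝒜 : ℕ → σ} {ℬ : ℕ → τ} [GradedRing 𝒜] [GradedRing ℬ]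

/-- For a surjective graded ring hom the irrelevant ideal of the target is contained in the image
of the irrelevant ideal of the source. -/
theorem irrelevant_le_map_of_surjective (f : 𝒜 →+*ᵍ ℬ) (hsurj : Function.Surjective f) :
    ℬ₊ ≤ 𝒜₊.map f := by
  classical
  change (HomogeneousIdeal.irrelevant ℬ).toIdeal ≤ ((HomogeneousIdeal.irrelevant 𝒜).map f).toIdeal
  rw [HomogeneousIdeal.toIdeal_map]
  intro b hb
  obtain ⟨x, rfl⟩ := hsurj b
  replace hb : f x ∈ HomogeneousIdeal.irrelevant ℬ := hb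
  rw [HomogeneousIdeal.mem_irrelevant_iff, GradedRing.proj_apply,
    ← GradedRingHom.map_directSumDecompose] at hb
  have h1 : f x = f (x - (DirectSum.decompose 𝒜 x 0 : A)) := by rw [map_sub, hb, sub_zero]
  rw [h1]
  apply Ideal.mem_map_of_mem
  change _ ∈ HomogeneousIdeal.irrelevant 𝒜
  rw [HomogeneousIdeal.mem_irrelevant_iff, GradedRing.proj_apply, DirectSum.decompose_sub,
    DirectSum.sub_apply, AddSubgroupClass.coe_sub, DirectSum.decompose_coe, DirectSum.of_eq_same,
    sub_self]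

end Irrelevant

section LinMap

variable {R : Type u} [CommRing R] {a b : ℕ}
  (v : Fin (a + 1) → MvPolynomial (Fin (b + 1)) R) (hv : ∀ k, (v k).IsHomogeneous 1)
  (hsurj : Function.Surjective (gHom v hv))

/-- The linear embedding `P^b_R ⟶ P^a_R` attached to a surjective linear substitution. -/
noncomputable def linMap : ProjSpace b R ⟶ ProjSpace a R :=
  Proj.map (gHom v hv) (irrelevant_le_map_of_surjective _ hsurj)

theorem isClosedImmersion_linMap : IsClosedImmersion (linMap v hv hsurj) :=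
  Groth.Agent.Helper13RelProj.isClosedImmersion_map_of_surjective _ _ hsurj

theorem linMap_toSpec : linMap v hv hsurj ≫ ProjSpace.toSpec a R = ProjSpace.toSpec b R := by
  change Proj.map (gHom v hv) (irrelevant_le_map_of_surjective _ hsurj) ≫
    (Proj.toSpecZero (polyGrading a R) ≫
      Spec.map (CommRingCat.ofHom (algebraMap R (polyGrading a R 0)))) =
    Proj.toSpecZero (polyGrading b R) ≫
      Spec.map (CommRingCat.ofHom (algebraMap R (polyGrading b R 0)))
  rw [Groth.Agent.Helper13RelProj.map_toSpecZero_assoc, ← Spec.map_comp]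
  congr 2
  refine CommRingCat.hom_ext (RingHom.ext fun r => Subtype.ext ?_)
  simp [GradedRingHom.gradedZeroRingHom]

theorem linMap_preimage_basicOpen (k : Fin (a + 1)) :
    linMap v hv hsurj ⁻¹ᵁ Proj.basicOpen (polyGrading a R) (X k) =
      Proj.basicOpen (polyGrading b R) (v k) := by
  change Proj.map (gHom v hv) (irrelevant_le_map_of_surjective _ hsurj) ⁻¹ᵁ
    Proj.basicOpen (polyGrading a R) (X k) = _
  rw [Proj.map_preimage_basicOpen, gHom_X]

end LinMap

section Two

variable (n m : ℕ) (R : Type u) [CommRing R]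

/-- The index equivalence `{0..n} ⊔ {0..m} ≃ {0..n+m+1}`. -/
def idx : Fin (n + 1) ⊕ Fin (m + 1) ≃ Fin (n + m + 1 + 1) :=
  finSumFinEquiv.trans (finCongr (by omega))

/-- substitution killing the last `m + 1` variables -/
noncomputable def v₁ (k : Fin (n + m + 1 + 1)) : MvPolynomial (Fin (n + 1)) R :=
  Sum.elim (fun i => X i) (fun _ => 0) ((idx n m).symm k)

/-- substitution killing the first `n + 1` variables -/
noncomputable def v₂ (k : Fin (n + m + 1 + 1)) : MvPolynomial (Fin (m + 1)) R :=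
  Sum.elim (fun _ => 0) (fun j => X j) ((idx n m).symm k)

theorem v₁_hom (k : Fin (n + m + 1 + 1)) : (v₁ n m R k).IsHomogeneous 1 := by
  unfold v₁
  rcases (idx n m).symm k with i | j
  · exact isHomogeneous_X _ _
  · exact isHomogeneous_zero _ _ _

theorem v₂_hom (k : Fin (n + m + 1 + 1)) : (v₂ n m R k).IsHomogeneous 1 := by
  unfold v₂
  rcases (idx n m).symm k with i | j
  · exact isHomogeneous_zero _ _ _
  · exact isHomogeneous_X _ _

@[simp] theorem v₁_inl (i : Fin (n + 1)) : v₁ n m R (idx n m (Sum.inl i)) = X i := by simp [v₁]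
@[simp] theorem v₁_inr (j : Fin (m + 1)) : v₁ n m R (idx n m (Sum.inr j)) = 0 := by simp [v₁]
@[simp] theorem v₂_inl (i : Fin (n + 1)) : v₂ n m R (idx n m (Sum.inl i)) = 0 := by simp [v₂]
@[simp] theorem v₂_inr (j : Fin (m + 1)) : v₂ n m R (idx n m (Sum.inr j)) = X j := by simp [v₂]

theorem surj₁ : Function.Surjective (gHom (v₁ n m R) (v₁_hom n m R)) :=
  gHom_surjective _ _ (fun i => idx n m (Sum.inl i)) (v₁_inl n m R)

theorem surj₂ : Function.Surjective (gHom (v₂ n m R) (v₂_hom n m R)) :=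
  gHom_surjective _ _ (fun j => idx n m (Sum.inr j)) (v₂_inr n m R)

/-- The linear subspace `P^n_R ⟶ P^(n+m+1)_R` (last `m+1` coordinates zero). -/
noncomputable def ι₁ : ProjSpace n R ⟶ ProjSpace (n + m + 1) R :=
  linMap (v₁ n m R) (v₁_hom n m R) (surj₁ n m R)

/-- The linear subspace `P^m_R ⟶ P^(n+m+1)_R` (first `n+1` coordinates zero). -/
noncomputable def ι₂ : ProjSpace m R ⟶ ProjSpace (n + m + 1) R :=
  linMap (v₂ n m R) (v₂_hom n m R) (surj₂ n m R)

instance : IsClosedImmersion (ι₁ n m R) := isClosedImmersion_linMap _ _ _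
instance : IsClosedImmersion (ι₂ n m R) := isClosedImmersion_linMap _ _ _

@[reassoc (attr := simp)]
theorem ι₁_toSpec : ι₁ n m R ≫ ProjSpace.toSpec (n + m + 1) R = ProjSpace.toSpec n R :=
  linMap_toSpec _ _ _

@[reassoc (attr := simp)]
theorem ι₂_toSpec : ι₂ n m R ≫ ProjSpace.toSpec (n + m + 1) R = ProjSpace.toSpec m R :=
  linMap_toSpec _ _ _

theorem disjoint_range_ι : Disjoint (Set.range (ι₁ n m R)) (Set.range (ι₂ n m R)) := by
  rw [Set.disjoint_left]
  rintro z ⟨x, rfl⟩ ⟨y, hy⟩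
  have hz : (ι₁ n m R) x ∈ (⊤ : (Proj (polyGrading (n + m + 1) R)).Opens) := trivial
  rw [← Groth.Agent.Lib.Helper27PnChart.iSup_basicOpen_X] at hz
  obtain ⟨k, hk⟩ := TopologicalSpace.Opens.mem_iSup.mp hz
  obtain ⟨c, rfl⟩ := (idx n m).surjective k
  rcases c with i | j
  · have h1 : y ∈ (ι₂ n m R) ⁻¹ᵁ
        Proj.basicOpen (polyGrading (n + m + 1) R) (X (idx n m (Sum.inl i))) := by
      change (ι₂ n m R) y ∈
        Proj.basicOpen (polyGrading (n + m + 1) R) (X (idx n m (Sum.inl i)))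
      rw [hy]; exact hk
    unfold ι₂ at h1
    rw [linMap_preimage_basicOpen, v₂_inl, Proj.basicOpen_zero] at h1
    exact h1
  · have h1 : x ∈ (ι₁ n m R) ⁻¹ᵁ
        Proj.basicOpen (polyGrading (n + m + 1) R) (X (idx n m (Sum.inr j))) := hk
    unfold ι₁ at h1
    rw [linMap_preimage_basicOpen, v₁_inr, Proj.basicOpen_zero] at h1
    exact h1

/-- **Universal case of P4**: the closed immersion `P^n_R ⨿ P^m_R ⟶ P^(n+m+1)_R`. -/
noncomputable def univCoprod : ProjSpace n R ⨿ ProjSpace m R ⟶ ProjSpace (n + m + 1) R :=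
  coprod.desc (ι₁ n m R) (ι₂ n m R)

instance : IsClosedImmersion (univCoprod n m R) :=
  isClosedImmersion_coprodDesc _ _ (disjoint_range_ι n m R)

theorem univCoprod_toSpec : univCoprod n m R ≫ ProjSpace.toSpec (n + m + 1) R =
    coprod.desc (ProjSpace.toSpec n R) (ProjSpace.toSpec m R) := by
  unfold univCoprod
  ext <;> simp

end Two

section Over

variable (S : Scheme.{u}) {a b : ℕ}
  (ι : ProjSpace b (ULift.{u} ℤ) ⟶ ProjSpace a (ULift.{u} ℤ))
  (h : ι ≫ ProjSpace.toSpec a (ULift.{u} ℤ) = ProjSpace.toSpec b (ULift.{u} ℤ))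

/-- Base change to `S` of a morphism `P^b_ℤ ⟶ P^a_ℤ` over `Spec ℤ`. -/
noncomputable def bc : ProjSpaceOver b S ⟶ ProjSpaceOver a S :=
  pullback.map _ _ _ _ ι (𝟙 S) (𝟙 _) (by simp [h]) (by simp)

@[reassoc (attr := simp)]
theorem bc_toBase : bc S ι h ≫ ProjSpaceOver.toBase a S = ProjSpaceOver.toBase b S := by
  exact (pullback.lift_snd _ _ _).trans (Category.comp_id _)

/-- The projection `P^a_S ⟶ P^a_ℤ`. -/
noncomputable def toUniv (a : ℕ) : ProjSpaceOver a S ⟶ ProjSpace a (ULift.{u} ℤ) :=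
  pullback.fst _ _

@[reassoc (attr := simp)]
theorem bc_fst : bc S ι h ≫ toUniv S a = toUniv S b ≫ ι := by
  exact pullback.lift_fst _ _ _

theorem isPullback_bc :
    IsPullback (bc S ι h) (toUniv S b) (toUniv S a) ι := by
  refine IsPullback.of_right (h₁₂ := ProjSpaceOver.toBase a S)
    (v₁₃ := specULiftZIsTerminal.from S) (h₂₂ := ProjSpace.toSpec a (ULift.{u} ℤ)) ?_
    (bc_fst S ι h) (IsPullback.of_hasPullback _ _).flip
  rw [bc_toBase, h]
  exact (IsPullback.of_hasPullback _ _).flip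

theorem isClosedImmersion_bc [IsClosedImmersion ι] : IsClosedImmersion (bc S ι h) :=
  MorphismProperty.of_isPullback (P := @IsClosedImmersion) (isPullback_bc S ι h).flip ‹_›

end Over

section Main

variable (S : Scheme.{u}) (n m : ℕ)

/-- `P^n_S ⟶ P^(n+m+1)_S`, the linear subspace where the last `m + 1` coordinates vanish. -/
noncomputable def inl : ProjSpaceOver n S ⟶ ProjSpaceOver (n + m + 1) S :=
  bc S (ι₁ n m (ULift.{u} ℤ)) (ι₁_toSpec n m _)

/-- `P^m_S ⟶ P^(n+m+1)_S`, the linear subspace where the first `n + 1` coordinates vanish. -/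
noncomputable def inr : ProjSpaceOver m S ⟶ ProjSpaceOver (n + m + 1) S :=
  bc S (ι₂ n m (ULift.{u} ℤ)) (ι₂_toSpec n m _)

instance : IsClosedImmersion (inl S n m) := isClosedImmersion_bc S _ _
instance : IsClosedImmersion (inr S n m) := isClosedImmersion_bc S _ _

@[reassoc (attr := simp)]
theorem inl_toBase : inl S n m ≫ ProjSpaceOver.toBase (n + m + 1) S = ProjSpaceOver.toBase n S :=
  bc_toBase S _ _

@[reassoc (attr := simp)]
theorem inr_toBase : inr S n m ≫ ProjSpaceOver.toBase (n + m + 1) S = ProjSpaceOver.toBase m S :=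
  bc_toBase S _ _

theorem disjoint_range_inl_inr : Disjoint (Set.range (inl S n m)) (Set.range (inr S n m)) := by
  rw [Set.disjoint_left]
  rintro z ⟨x, rfl⟩ ⟨y, hy⟩
  have h1 : (inr S n m ≫ toUniv S (n + m + 1)) y = (inl S n m ≫ toUniv S (n + m + 1)) x := by
    rw [Scheme.Hom.comp_apply, Scheme.Hom.comp_apply, hy]
  unfold inl inr at h1
  rw [bc_fst, bc_fst, Scheme.Hom.comp_apply, Scheme.Hom.comp_apply] at h1
  exact Set.disjoint_left.mp (disjoint_range_ι n m (ULift.{u} ℤ)) ⟨_, rfl⟩ ⟨_, h1⟩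

/-- **P4**: the closed immersion `P^n_S ⨿ P^m_S ⟶ P^(n+m+1)_S` over `S`. -/
noncomputable def coprodEmb : ProjSpaceOver n S ⨿ ProjSpaceOver m S ⟶ ProjSpaceOver (n + m + 1) S :=
  coprod.desc (inl S n m) (inr S n m)

instance isClosedImmersion_coprodEmb : IsClosedImmersion (coprodEmb S n m) :=
  isClosedImmersion_coprodDesc _ _ (disjoint_range_inl_inr S n m)

theorem coprodEmb_toBase : coprodEmb S n m ≫ ProjSpaceOver.toBase (n + m + 1) S =
    coprod.desc (ProjSpaceOver.toBase n S) (ProjSpaceOver.toBase m S) := by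
  unfold coprodEmb
  ext <;> simp

/-- **P4, existence form.** -/
theorem exists_coprod_closedImmersion :
    ∃ c : ProjSpaceOver n S ⨿ ProjSpaceOver m S ⟶ ProjSpaceOver (n + m + 1) S,
      IsClosedImmersion c ∧ c ≫ ProjSpaceOver.toBase (n + m + 1) S =
        coprod.desc (ProjSpaceOver.toBase n S) (ProjSpaceOver.toBase m S) :=
  ⟨coprodEmb S n m, inferInstance, coprodEmb_toBase S n m⟩

variable {S n m}

/-- Two immersions into projective spaces over `S` give an immersion of the disjoint union into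
one projective space over `S`. -/
theorem exists_immersion_coprod {X₁ X₂ : Scheme.{u}} (f₁ : X₁ ⟶ S) (f₂ : X₂ ⟶ S)
    (j₁ : X₁ ⟶ ProjSpaceOver n S) (j₂ : X₂ ⟶ ProjSpaceOver m S) [IsImmersion j₁] [IsImmersion j₂]
    (h₁ : j₁ ≫ ProjSpaceOver.toBase n S = f₁) (h₂ : j₂ ≫ ProjSpaceOver.toBase m S = f₂) :
    ∃ j : X₁ ⨿ X₂ ⟶ ProjSpaceOver (n + m + 1) S, IsImmersion j ∧
      j ≫ ProjSpaceOver.toBase (n + m + 1) S = coprod.desc f₁ f₂ := by
  have : IsImmersion (coprod.map j₁ j₂) :=
    IsZariskiLocalAtTarget.coprodMap (P := @IsImmersion) j₁ j₂ ‹_› ‹_›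
  refine ⟨coprod.map j₁ j₂ ≫ coprodEmb S n m, inferInstance, ?_⟩
  rw [Category.assoc, coprodEmb_toBase]
  ext <;> simp [h₁, h₂]

/-- closed immersion version -/
theorem exists_closedImmersion_coprod {X₁ X₂ : Scheme.{u}} (f₁ : X₁ ⟶ S) (f₂ : X₂ ⟶ S)
    (j₁ : X₁ ⟶ ProjSpaceOver n S) (j₂ : X₂ ⟶ ProjSpaceOver m S) [IsClosedImmersion j₁]
    [IsClosedImmersion j₂]
    (h₁ : j₁ ≫ ProjSpaceOver.toBase n S = f₁) (h₂ : j₂ ≫ ProjSpaceOver.toBase m S = f₂) :
    ∃ j : X₁ ⨿ X₂ ⟶ ProjSpaceOver (n + m + 1) S, IsClosedImmersion j ∧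
      j ≫ ProjSpaceOver.toBase (n + m + 1) S = coprod.desc f₁ f₂ := by
  have : IsClosedImmersion (coprod.map j₁ j₂) :=
    IsZariskiLocalAtTarget.coprodMap (P := @IsClosedImmersion) j₁ j₂ ‹_› ‹_›
  refine ⟨coprod.map j₁ j₂ ≫ coprodEmb S n m, inferInstance, ?_⟩
  rw [Category.assoc, coprodEmb_toBase]
  ext <;> simp [h₁, h₂]

end Main

end Groth.Agent.R2.H16.PnCoprod
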