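import Mathlib
import Groth.Prelude.Def_CohB1
import Groth.Agent.R2.H16PnCoprod

/-!
# helper16: algebra for hyperplanes in projective space

* `ker_awayMap`: for a graded ring hom `φ` whose kernel is generated by one element `ℓ` of degree one and
  `f` of degree one, the kernel of `Away.map φ f` is generated by `ℓ / f`.
* `vv a i0 u`: the linear substitution `R[X_0..X_{n+1}] → R[Y_0..Y_n]` eliminating `X_{i0}` by means of the
  linear form `lin a = ∑ a_i X_i` (`u * a i0 = 1`); it is surjective with kernel `(lin a)`.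
* `eq_lin_of_isHomogeneous_one`: a homogeneous polynomial of degree one is `lin` of its coefficients.
-/

set_option autoImplicit false

open CategoryTheory AlgebraicGeometry MvPolynomial CohB1 HomogeneousLocalization

universe u

namespace Groth.Agent.R2.H16.HyperAlg

section Away

variable {R A B : Type u} [CommRing R] [CommRing A] [Algebra R A] [CommRing B] [Algebra R B]
  (𝒜 : ℕ → Submodule R A) [GradedAlgebra 𝒜] (ℬ : ℕ → Submodule R B) [GradedAlgebra ℬ]

theorem mem_smul_one {k : ℕ} {x : A} (hx : x ∈ 𝒜 k) : x ∈ 𝒜 (k • 1) := by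
  rwa [smul_eq_mul, mul_one]

theorem mem_of_smul_one {k : ℕ} {x : A} (hx : x ∈ 𝒜 (k • 1)) : x ∈ 𝒜 k := by
  rwa [smul_eq_mul, mul_one] at hx

variable {𝒜 ℬ}

theorem away_mk_zero {f : A} (hf : f ∈ 𝒜 1) (k : ℕ) (h0 : (0 : A) ∈ 𝒜 (k • 1)) :
    Away.mk 𝒜 hf k 0 h0 = 0 := by
  apply HomogeneousLocalization.val_injective
  rw [Away.val_mk, HomogeneousLocalization.val_zero, Localization.mk_zero]

/-- the kernel of `Away.map φ f` when `ker φ = (ℓ)`, `ℓ` and `f` of degree one. -/
theorem ker_awayMap (φ : 𝒜 →+*ᵍ ℬ) {ℓ : A} (hℓ : ℓ ∈ 𝒜 1) (hℓ0 : φ ℓ = 0)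
    (hker : ∀ x : A, φ x = 0 → x ∈ Ideal.span {ℓ}) {f : A} (hf : f ∈ 𝒜 1) :
    RingHom.ker (Away.map φ f) = Ideal.span {Away.mk 𝒜 hf 1 ℓ (mem_smul_one 𝒜 hℓ)} := by
  apply le_antisymm
  · intro z hz
    rw [RingHom.mem_ker] at hz
    obtain ⟨k, a, ha, rfl⟩ := Away.mk_surjective 𝒜 hf z
    rw [Away.map_mk] at hz
    have hz' := congrArg HomogeneousLocalization.val hz
    rw [Away.val_mk, HomogeneousLocalization.val_zero, Localization.mk_eq_mk',
      IsLocalization.mk'_eq_zero_iff] at hz'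
    obtain ⟨⟨_, N, rfl⟩, hN⟩ := hz'
    replace hN : φ f ^ N * φ a = 0 := hN
    have h1 : φ (f ^ N * a) = 0 := by rw [map_mul, map_pow, hN]
    obtain ⟨q, hq⟩ := Ideal.mem_span_singleton'.1 (hker _ h1)
    have ha' : a ∈ 𝒜 k := mem_of_smul_one 𝒜 ha
    have hdeg : f ^ (N + 1) * a ∈ 𝒜 (N + k + 1) := by
      have h2 : f ^ (N + 1) ∈ 𝒜 (N + 1) := by
        have := SetLike.pow_mem_graded (N + 1) hf
        rwa [smul_eq_mul, mul_one] at this
      have h3 := SetLike.mul_mem_graded h2 ha'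
      have h4 : N + 1 + k = N + k + 1 := by omega
      rwa [h4] at h3
    have hq1 : f * q * ℓ = f ^ (N + 1) * a := by rw [mul_assoc, hq, pow_succ]; ring
    have hq' : (DirectSum.decompose 𝒜 (f * q) (N + k) : A) * ℓ = f ^ (N + 1) * a := by
      rw [← DirectSum.coe_decompose_mul_add_of_right_mem 𝒜 hℓ, hq1,
        DirectSum.decompose_of_mem_same 𝒜 hdeg]
    refine Ideal.mem_span_singleton'.2
      ⟨Away.mk 𝒜 hf (N + k) (DirectSum.decompose 𝒜 (f * q) (N + k) : A)
        (mem_smul_one 𝒜 (SetLike.coe_mem _)), ?_⟩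
    apply HomogeneousLocalization.val_injective
    rw [HomogeneousLocalization.val_mul, Away.val_mk, Away.val_mk, Away.val_mk, Localization.mk_mul,
      Localization.mk_eq_mk_iff, Localization.r_iff_exists]
    refine ⟨1, ?_⟩
    simp only [OneMemClass.coe_one, one_mul, Submonoid.coe_mul]
    rw [hq']
    ring
  · rw [Ideal.span_le, Set.singleton_subset_iff, SetLike.mem_coe, RingHom.mem_ker, Away.map_mk]
    have h0 : φ ℓ ∈ ℬ (1 • 1) := Graded.map_mem φ (mem_smul_one 𝒜 hℓ)
    have : Away.mk ℬ (Graded.map_mem φ hf) 1 (φ ℓ) h0 = Away.mk ℬ (Graded.map_mem φ hf) 1 0 (hℓ0 ▸ h0) := by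
      congr 1
    rw [this, away_mk_zero]

end Away

section Lin

open Groth.Agent.R2.H16.PnCoprod

variable {R : Type u} [CommRing R] {n : ℕ}

/-- the linear form `∑ a_i X_i`. -/
noncomputable def lin (a : Fin (n + 1) → R) : MvPolynomial (Fin (n + 1)) R := ∑ i, C (a i) * X i

theorem lin_mem (a : Fin (n + 1) → R) : lin a ∈ polyGrading n R 1 := by
  refine Submodule.sum_mem _ (fun i _ => ?_)
  exact (mem_homogeneousSubmodule _ _).mpr (isHomogeneous_C_mul_X (a i) i)

theorem coeff_lin (a : Fin (n + 1) → R) (i : Fin (n + 1)) : coeff (Finsupp.single i 1) (lin a) = a i := by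
  classical
  rw [lin, coeff_sum]
  rw [Finset.sum_eq_single i]
  · rw [coeff_C_mul, coeff_X, if_pos rfl, mul_one]
  · intro j _ hji
    rw [coeff_C_mul, coeff_X, if_neg, mul_zero]
    intro h
    exact hji (Finsupp.single_left_injective one_ne_zero h)
  · intro h; exact absurd (Finset.mem_univ i) h

/-- a homogeneous polynomial of degree one is the linear form of its coefficients. -/
theorem eq_lin_of_isHomogeneous_one {b : MvPolynomial (Fin (n + 1)) R} (hb : b.IsHomogeneous 1) :
    b = lin (fun i => coeff (Finsupp.single i 1) b) := by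
  classical
  ext m
  by_cases hm : ∃ i, m = Finsupp.single i 1
  · obtain ⟨i, rfl⟩ := hm
    rw [coeff_lin]
  · have h1 : coeff m b = 0 := by
      by_contra hne
      have hdeg : Finsupp.weight (fun _ => 1) m = 1 := hb hne
      rw [← Finsupp.degree_eq_weight_one] at hdeg
      have : m ∈ Set.range (fun a : Fin (n + 1) => Finsupp.single a 1) := by
        rw [Finsupp.range_single_one]; exact hdeg
      obtain ⟨i, hi⟩ := this
      exact hm ⟨i, hi.symm⟩
    rw [h1, lin, coeff_sum]
    symm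
    refine Finset.sum_eq_zero (fun j _ => ?_)
    rw [coeff_C_mul, coeff_X, if_neg, mul_zero]
    intro h
    exact hm ⟨j, h.symm⟩

variable (a : Fin (n + 1 + 1) → R) (i0 : Fin (n + 1 + 1)) (u : R)

/-- the substitution eliminating `X_{i0}`: `X_{i0} ↦ -u ∑_t a_{σ t} Y_t`, `X_{σ t} ↦ Y_t`
(`σ = i0.succAbove`). -/
noncomputable def vv : Fin (n + 1 + 1) → MvPolynomial (Fin (n + 1)) R :=
  Fin.insertNth (α := fun _ => MvPolynomial (Fin (n + 1)) R) i0
    (-(C u) * ∑ t, C (a (i0.succAbove t)) * X t) (fun t => X t)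

theorem vv_self : vv a i0 u i0 = -(C u) * ∑ t, C (a (i0.succAbove t)) * X t := by
  simp [vv]

theorem vv_succAbove (t : Fin (n + 1)) : vv a i0 u (i0.succAbove t) = X t := by
  simp [vv]

theorem vv_hom (k : Fin (n + 1 + 1)) : (vv a i0 u k).IsHomogeneous 1 := by
  rcases Fin.eq_self_or_eq_succAbove i0 k with rfl | ⟨t, rfl⟩
  · rw [vv_self]
    have h1 : (∑ t, C (a (k.succAbove t)) * X t : MvPolynomial (Fin (n + 1)) R).IsHomogeneous 1 :=
      IsHomogeneous.sum _ _ _ (fun t _ => isHomogeneous_C_mul_X _ t)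
    have h2 := (isHomogeneous_C (Fin (n + 1)) (-u)).mul h1
    rw [zero_add] at h2
    rwa [map_neg] at h2
  · rw [vv_succAbove]; exact isHomogeneous_X R t

theorem vv_surjective : Function.Surjective (gHom (vv a i0 u) (vv_hom a i0 u)) :=
  gHom_surjective _ _ i0.succAbove (vv_succAbove a i0 u)

theorem gHom_vv_lin (hu : u * a i0 = 1) : gHom (vv a i0 u) (vv_hom a i0 u) (lin a) = 0 := by
  rw [gHom_apply, lin, map_sum, Fin.sum_univ_succAbove _ i0]
  simp only [map_mul, aeval_C, aeval_X, vv_self, vv_succAbove]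
  have : (algebraMap R (MvPolynomial (Fin (n + 1)) R)) (a i0) * (-(C u)) = -1 := by
    rw [algebraMap_eq, mul_neg, ← C_mul, mul_comm, hu, C_1]
  rw [← mul_assoc, this]
  simp only [algebraMap_eq]
  ring

theorem mem_span_lin_of_gHom_vv_eq_zero (hu : u * a i0 = 1) (p : MvPolynomial (Fin (n + 1 + 1)) R)
    (hp : gHom (vv a i0 u) (vv_hom a i0 u) p = 0) : p ∈ Ideal.span {lin a} := by
  let I : Ideal (MvPolynomial (Fin (n + 1 + 1)) R) := Ideal.span {lin a}
  let F1 : MvPolynomial (Fin (n + 1 + 1)) R →ₐ[R] (MvPolynomial (Fin (n + 1 + 1)) R ⧸ I) :=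
    Ideal.Quotient.mkₐ R I
  let F2 : MvPolynomial (Fin (n + 1 + 1)) R →ₐ[R] (MvPolynomial (Fin (n + 1 + 1)) R ⧸ I) :=
    (F1.comp (rename i0.succAbove)).comp (aeval (vv a i0 u))
  have hlin : F1 (lin a) = 0 := Ideal.Quotient.eq_zero_iff_mem.2 (Ideal.subset_span rfl)
  have h12 : F1 = F2 := by
    apply MvPolynomial.algHom_ext
    intro k
    rcases Fin.eq_self_or_eq_succAbove i0 k with rfl | ⟨t, rfl⟩
    · change F1 (X k) = F1 (rename k.succAbove (aeval (vv a k u) (X k)))
      rw [aeval_X, vv_self]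
      have h1 : rename k.succAbove (-(C u) * ∑ t, C (a (k.succAbove t)) * X t) =
          X k - C u * lin a := by
        rw [map_mul, map_neg, rename_C, map_sum]
        simp only [map_mul, rename_C, rename_X]
        rw [lin, Fin.sum_univ_succAbove _ k, mul_add, ← mul_assoc, ← C_mul, hu, C_1]
        ring
      rw [h1, map_sub, map_mul, hlin, mul_zero, sub_zero]
    · change F1 (X (i0.succAbove t)) = F1 (rename i0.succAbove (aeval (vv a i0 u) (X (i0.succAbove t))))
      rw [aeval_X, vv_succAbove, rename_X]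
  have h3 : F1 p = 0 := by
    rw [h12]
    change F1 (rename i0.succAbove (aeval (vv a i0 u) p)) = 0
    have : aeval (vv a i0 u) p = 0 := hp
    rw [this, map_zero, map_zero]
  exact Ideal.Quotient.eq_zero_iff_mem.1 h3

end Lin

end Groth.Agent.R2.H16.HyperAlg
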