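import Mathlib
import Groth.Prelude.Def_PicF2
import Groth.Agent.Lib.Helper23SecTw2
import Groth.Agent.Lib.Helper2QCoh

/-!
# The zero scheme of a section of a (locally free rank one) module, computed from local frames (helper16)

`PicF2.zeroScheme L s` is defined as the largest ideal sheaf contained, on every affine open `U`, in
`PicF2.zeroIdealOn L s U = {a | a • L(U) ⊆ O(U) • s}`.  This file computes it from local frames:

* `mem_zeroIdealOn_of_frame`: if `e` generates `L` over `W` and `s = c • e` there, then on every `V ≤ W`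
  all multiples of `c|_V` lie in `zeroIdealOn L s V`.
* `zeroIdealOn_le_span_of_frame`: conversely `zeroIdealOn L s W ≤ span {c}`.
* `le_zeroScheme_of_frames`: an ideal sheaf `J` which is, near every point, contained in `span {c}` for a frame
  `(W, e, c)` satisfies `J ≤ zeroScheme L s` (`L` quasi-coherent).
* `zeroScheme_le_of_frames`, `zeroScheme_eq_of_frames`: if `J.ideal W = span {c}` on a cover by frames, then
  `zeroScheme L s = J`.
-/

set_option autoImplicit false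
universe u
open CategoryTheory Limits AlgebraicGeometry TopologicalSpace Opposite

namespace Groth.Agent.R2.H16.ZeroScheme
open Groth.Agent.Lib.Helper23.SecTw Groth.Agent.Lib.Helper6

variable {X : Scheme.{u}} (L : X.Modules) (s : Coh.structureModule X ⟶ L)

theorem mem_zeroIdealOn_iff (U : X.Opens) (a : Γ(X, U)) :
    a ∈ PicF2.zeroIdealOn L s U ↔ ∀ m : Γ(L, U), ∃ b : Γ(X, U), a • m = b • sv s U := Iff.rfl

theorem sv_eq_of_frame {W : X.Opens} (e : Γ(L, W)) (c : Γ(X, W)) (hs : sv s W = c • e)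
    {V : X.Opens} (hVW : V ≤ W) : sv s V = resf hVW c • res L hVW e := by
  rw [← res_sv s hVW, hs, res_smul]

theorem mem_zeroIdealOn_of_frame {W : X.Opens} (e : Γ(L, W)) (c : Γ(X, W)) (he : IsGen L W e)
    (hs : sv s W = c • e) {V : X.Opens} (hVW : V ≤ W) (r : Γ(X, V)) :
    r * resf hVW c ∈ PicF2.zeroIdealOn L s V := by
  rw [mem_zeroIdealOn_iff]
  intro m
  obtain ⟨m', hm'⟩ := (he V hVW).2 m
  replace hm' : m' • res L hVW e = m := hm'
  refine ⟨r * m', ?_⟩
  rw [sv_eq_of_frame L s e c hs hVW, ← hm', smul_smul, smul_smul]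
  congr 1
  ring

theorem zeroIdealOn_le_span_of_frame {W : X.Opens} (e : Γ(L, W)) (c : Γ(X, W)) (he : IsGen L W e)
    (hs : sv s W = c • e) : PicF2.zeroIdealOn L s W ≤ Ideal.span {c} := by
  intro (a : Γ(X, W)) ha
  obtain ⟨b, hb⟩ := (mem_zeroIdealOn_iff L s W a).1 ha e
  rw [hs, smul_smul] at hb
  have hres : res L (le_refl W) e = e := by
    change L.presheaf.map (𝟙 _) e = e
    rw [L.presheaf.map_id]; rfl
  have hinj := (he W le_rfl).1
  have : a = b * c := by
    apply hinj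
    change a • res L (le_refl W) e = (b * c) • res L (le_refl W) e
    rw [hres]; exact hb
  rw [this]
  exact Ideal.mem_span_singleton'.2 ⟨b, rfl⟩

/-- The local statement: on an affine open `U`, near a point `x` with a frame `(W, e, c)` such that
`J.ideal W ≤ span {c}`, some power of a function `f` with `x ∈ D(f)` multiplies `a • m` into `O(U) • s`. -/
theorem exists_basicOpen_pow_smul_mem [L.IsQuasicoherent] (J : X.IdealSheafData) (U : X.affineOpens)
    (a : Γ(X, U.1)) (ha : a ∈ J.ideal U) (m : Γ(L, U.1)) (x : X) (hxU : x ∈ U.1)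
    {W : X.Opens} (hW : IsAffineOpen W) (e : Γ(L, W)) (c : Γ(X, W)) (hxW : x ∈ W) (he : IsGen L W e)
    (hs : sv s W = c • e) (hJ : J.ideal ⟨W, hW⟩ ≤ Ideal.span {c}) :
    ∃ (f : Γ(X, U.1)) (k : ℕ) (b : Γ(X, U.1)), x ∈ X.basicOpen f ∧ f ^ k • (a • m) = b • sv s U.1 := by
  obtain ⟨f, g, hfg, hxf⟩ := exists_basicOpen_le_affine_inter U.2 hW x ⟨hxU, hxW⟩
  have hVU : X.basicOpen f ≤ U.1 := X.basicOpen_le f
  have hVW : X.basicOpen f ≤ W := hfg ▸ X.basicOpen_le g
  have hV : IsAffineOpen (X.basicOpen f) := U.2.basicOpen f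
  have ha' : resf hVU a ∈ J.ideal ⟨X.basicOpen f, hV⟩ :=
    J.ideal_le_comap_ideal (U := ⟨X.basicOpen f, hV⟩) (V := U) hVU ha
  have hJV : J.ideal ⟨X.basicOpen f, hV⟩ ≤ Ideal.span {resf hVW c} := by
    rw [← J.map_ideal (U := ⟨X.basicOpen f, hV⟩) (V := ⟨W, hW⟩) hVW]
    refine (Ideal.map_mono hJ).trans ?_
    rw [Ideal.map_span, Set.image_singleton]
    exact le_rfl
  obtain ⟨r, hr⟩ := Ideal.mem_span_singleton'.1 (hJV ha')
  have hz := mem_zeroIdealOn_of_frame L s e c he hs hVW r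
  rw [hr] at hz
  obtain ⟨b', hb'⟩ := (mem_zeroIdealOn_iff L s _ _).1 hz (res L hVU m)
  have := U.2.isLocalization_basicOpen f
  obtain ⟨⟨β, ⟨_, N1, rfl⟩⟩, hβ⟩ := IsLocalization.surj (Submonoid.powers f) b'
  replace hβ : b' * resf hVU (f ^ N1) = resf hVU β := hβ
  have ht : L.presheaf.map (homOfLE (X.basicOpen_le f)).op (f ^ N1 • (a • m) - β • sv s U.1) = 0 := by
    change res L hVU (f ^ N1 • (a • m) - β • sv s U.1) = 0
    rw [res_sub, res_smul, res_smul, res_smul, res_sv, hb', ← hβ, smul_smul, mul_comm, sub_self]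
  obtain ⟨n, hn⟩ := Groth.Agent.Lib.Helper2.QCoh.exists_pow_smul_eq_zero U.2 L f _ ht
  refine ⟨f, n + N1, f ^ n * β, hxf, ?_⟩
  rw [smul_sub, sub_eq_zero] at hn
  rw [pow_add, mul_smul, hn, smul_smul]

theorem ideal_le_zeroIdealOn_of_frames [L.IsQuasicoherent] (J : X.IdealSheafData)
    (h : ∀ x : X, ∃ (W : X.Opens) (hW : IsAffineOpen W) (e : Γ(L, W)) (c : Γ(X, W)), x ∈ W ∧ IsGen L W e ∧
      sv s W = c • e ∧ J.ideal ⟨W, hW⟩ ≤ Ideal.span {c}) (U : X.affineOpens) :
    J.ideal U ≤ PicF2.zeroIdealOn L s U.1 := by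
  intro (a : Γ(X, U.1)) ha
  refine (mem_zeroIdealOn_iff L s U.1 a).2 ?_
  intro m
  let N : Ideal Γ(X, U.1) :=
    (Submodule.span Γ(X, U.1) {sv s U.1}).colon ({a • m} : Set Γ(L, U.1))
  have hN : ∀ r : Γ(X, U.1), r ∈ N ↔ ∃ b : Γ(X, U.1), r • (a • m) = b • sv s U.1 := by
    intro r
    change r ∈ (Submodule.span Γ(X, U.1) {sv s U.1}).colon ({a • m} : Set Γ(L, U.1)) ↔ _
    rw [Submodule.mem_colon_singleton, Submodule.mem_span_singleton]
    constructor <;> rintro ⟨b, hb⟩ <;> exact ⟨b, hb.symm⟩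
  suffices h1 : (1 : Γ(X, U.1)) ∈ N by
    obtain ⟨b, hb⟩ := (hN 1).1 h1
    exact ⟨b, by rwa [one_smul] at hb⟩
  rw [← Ideal.eq_top_iff_one, ← Ideal.radical_eq_top]
  have key : ∀ x : U.1, ∃ f : Γ(X, U.1), x.1 ∈ X.basicOpen f ∧ f ∈ N.radical := by
    rintro ⟨x, hxU⟩
    obtain ⟨W, hW, e, c, hxW, he, hs, hJ⟩ := h x
    obtain ⟨f, k, b, hxf, hfb⟩ := exists_basicOpen_pow_smul_mem L s J U a ha m x hxU hW e c hxW he hs hJ
    exact ⟨f, hxf, k, (hN _).2 ⟨b, hfb⟩⟩
  choose f hxf hfN using key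
  have hspan : Ideal.span (Set.range f) = ⊤ := by
    rw [← U.2.self_le_iSup_basicOpen_iff]
    exact fun x hxU => TopologicalSpace.Opens.mem_iSup.mpr ⟨⟨_, ⟨x, hxU⟩, rfl⟩, hxf ⟨x, hxU⟩⟩
  rw [eq_top_iff, ← hspan, Ideal.span_le]
  rintro _ ⟨x, rfl⟩
  exact hfN x

/-- An ideal sheaf which is locally contained in the ideal of the local equation of `s` is contained in the
zero scheme of `s`. -/
theorem le_zeroScheme_of_frames [L.IsQuasicoherent] (J : X.IdealSheafData)
    (h : ∀ x : X, ∃ (W : X.Opens) (hW : IsAffineOpen W) (e : Γ(L, W)) (c : Γ(X, W)), x ∈ W ∧ IsGen L W e ∧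
      sv s W = c • e ∧ J.ideal ⟨W, hW⟩ ≤ Ideal.span {c}) :
    J ≤ PicF2.zeroScheme L s := by
  rw [PicF2.zeroScheme, Scheme.IdealSheafData.le_ofIdeals_iff]
  exact fun U => ideal_le_zeroIdealOn_of_frames L s J h U

/-- The zero scheme of `s` is contained in every ideal sheaf containing the local equations of `s` on a cover
by frames. -/
theorem zeroScheme_le_of_frames (J : X.IdealSheafData) {ι : Type*} (W : ι → X.affineOpens)
    (hW : ⨆ i, (W i).1 = ⊤) (e : ∀ i, Γ(L, (W i).1)) (c : ∀ i, Γ(X, (W i).1))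
    (he : ∀ i, IsGen L (W i).1 (e i)) (hs : ∀ i, sv s (W i).1 = c i • e i)
    (hJ : ∀ i, Ideal.span {c i} ≤ J.ideal (W i)) :
    PicF2.zeroScheme L s ≤ J := by
  refine Scheme.IdealSheafData.le_of_iSup_eq_top W hW (fun i => ?_)
  refine (Scheme.IdealSheafData.ideal_ofIdeals_le _ (W i)).trans ?_
  exact (zeroIdealOn_le_span_of_frame L s (e i) (c i) (he i) (hs i)).trans (hJ i)

/-- **The zero scheme from local equations**: if `L` is quasi-coherent, `(W i, e i, c i)` is a cover of `X` by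
affine frames of `L` with `s = c i • e i`, and `J` is an ideal sheaf with `J(W i) = (c i)`, then
`zeroScheme L s = J`. -/
theorem zeroScheme_eq_of_frames [L.IsQuasicoherent] (J : X.IdealSheafData) {ι : Type*}
    (W : ι → X.affineOpens) (hW : ⨆ i, (W i).1 = ⊤) (e : ∀ i, Γ(L, (W i).1)) (c : ∀ i, Γ(X, (W i).1))
    (he : ∀ i, IsGen L (W i).1 (e i)) (hs : ∀ i, sv s (W i).1 = c i • e i)
    (hJ : ∀ i, J.ideal (W i) = Ideal.span {c i}) :
    PicF2.zeroScheme L s = J := by
  refine le_antisymm (zeroScheme_le_of_frames L s J W hW e c he hs (fun i => (hJ i).ge)) ?_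
  refine le_zeroScheme_of_frames L s J (fun x => ?_)
  obtain ⟨i, hi⟩ := TopologicalSpace.Opens.mem_iSup.mp (hW.ge (Set.mem_univ x) : x ∈ ⨆ i, (W i).1)
  exact ⟨(W i).1, (W i).2, e i, c i, hi, he i, hs i, (hJ i).le⟩

end Groth.Agent.R2.H16.ZeroScheme
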