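import Mathlib
import Groth.Agent.R2.H16ZeroScheme
import Groth.Agent.R2.H16HyperAlg
import Groth.Agent.Lib.Helper27PnSections
import Groth.Agent.Lib.Helper27PMapTwist
import Groth.Agent.Lib.Helper23Restr
import Groth.Agent.Lib.Helper27PnChart
import Groth.Agent.Lib.Helper27GrTildeQCoh

/-!
# helper16: hyperplanes in projective space

For a linear form `ℓ = ∑ a_i X_i` over a ring `R` with a unit coefficient `a i0` (`u * a i0 = 1`):
* `hypMap a i0 u : P^n_R ⟶ P^(n+1)_R`, a closed immersion (the linear embedding with image `V₊(ℓ)`);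
* `ker_ideal_chart`: the ideal of `hypMap` on `D₊(X j)` is generated by `ℓ / X j`;
* `zeroScheme_eq_ker`: for a section `s` of `O(1)` with `s(1) = ℓ`, `PicF2.zeroScheme O(1) s = (hypMap).ker`;
* `nonempty_pullback_twist_iso`: `hypMap^* O(d) ≅ O(d)`.
-/

set_option autoImplicit false

open CategoryTheory CategoryTheory.Limits AlgebraicGeometry MvPolynomial CohB1 HomogeneousLocalization
  TopologicalSpace Opposite

universe u

namespace Groth.Agent.R2.H16.Hyperplane

open Groth.Agent.R2.H16.HyperAlg Groth.Agent.R2.H16.PnCoprod Groth.Agent.R2.H16.ZeroScheme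
open Groth.Agent.Lib.Helper23.SecTw Groth.Agent.Lib.Helper6 Groth.Agent.Lib.Helper27GrTildeSect

variable {R : Type u} [CommRing R] {n : ℕ} (a : Fin (n + 1 + 1) → R) (i0 : Fin (n + 1 + 1)) (u : R)

theorem hX (m : ℕ) (j : Fin (m + 1)) : (X j : MvPolynomial (Fin (m + 1)) R) ∈ polyGrading m R 1 :=
  isHomogeneous_X R j

/-- the chart `D₊(X j)` of `P^(n+1)_R`. -/
noncomputable abbrev chart (j : Fin (n + 1 + 1)) : (Proj (polyGrading (n + 1) R)).Opens :=
  Proj.basicOpen (polyGrading (n + 1) R) (X j)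

theorem isAffineOpen_chart (j : Fin (n + 1 + 1)) : IsAffineOpen (chart (R := R) (n := n) j) :=
  Proj.isAffineOpen_basicOpen (polyGrading (n + 1) R) (X j) (hX (n + 1) j) one_pos

/-- the local equation `ℓ / X j` of the hyperplane on `D₊(X j)`. -/
noncomputable def eqn (j : Fin (n + 1 + 1)) : Γ(Proj (polyGrading (n + 1) R), chart (R := R) (n := n) j) :=
  (Proj.awayToSection (polyGrading (n + 1) R) (X j)).hom
    (Away.mk (polyGrading (n + 1) R) (hX (n + 1) j) 1 (lin a) (mem_smul_one _ (lin_mem a)))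

/-- the linear embedding `P^n_R ⟶ P^(n+1)_R` with image `V₊(ℓ)`. -/
noncomputable def hypMap : Proj (polyGrading n R) ⟶ Proj (polyGrading (n + 1) R) :=
  linMap (vv a i0 u) (vv_hom a i0 u) (vv_surjective a i0 u)

instance : IsClosedImmersion (hypMap a i0 u) :=
  isClosedImmersion_linMap _ _ _

theorem hypMap_toSpec : hypMap a i0 u ≫ ProjSpace.toSpec (n + 1) R = ProjSpace.toSpec n R :=
  linMap_toSpec _ _ _

theorem bijective_awayToSection {m : ℕ} (f : MvPolynomial (Fin (m + 1)) R) (hf : f ∈ polyGrading m R 1) :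
    Function.Bijective (Proj.awayToSection (polyGrading m R) f).hom := by
  have hiso : IsIso (Proj.awayToSection (polyGrading m R) f) := by
    have := (Proj.basicOpenIsoAway (polyGrading m R) f hf one_pos).isIso_hom
    rwa [Proj.basicOpenIsoAway_hom] at this
  exact ConcreteCategory.bijective_of_isIso (Proj.awayToSection (polyGrading m R) f)

variable {a i0 u}

/-- the ideal of the hyperplane on the chart `D₊(X j)` is generated by `ℓ / X j`. -/
theorem ker_ideal_chart (hu : u * a i0 = 1) (j : Fin (n + 1 + 1)) :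
    (hypMap a i0 u).ker.ideal ⟨chart j, isAffineOpen_chart j⟩ = Ideal.span {eqn a j} := by
  rw [Scheme.Hom.ker_apply]
  set φ := gHom (vv a i0 u) (vv_hom a i0 u) with hφ
  have hsq := Proj.awayToSection_comp_appLE φ
    (irrelevant_le_map_of_surjective _ (vv_surjective a i0 u)) (hX (n + 1) j)
  have hsq' : ∀ z, ((hypMap a i0 u).app (chart j)).hom
      ((Proj.awayToSection (polyGrading (n + 1) R) (X j)).hom z) =
      (Proj.awayToSection (polyGrading n R) (φ (X j))).hom (Away.map φ (X j) z) := by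
    intro z
    have := congrArg (fun f => f.hom z) hsq
    exact this
  have hK := ker_awayMap φ (lin_mem a) (gHom_vv_lin a i0 u hu)
    (mem_span_lin_of_gHom_vv_eq_zero a i0 u hu) (hX (n + 1) j)
  have hbij := bijective_awayToSection (R := R) (X j) (hX (n + 1) j)
  have hbij' := bijective_awayToSection (R := R) (φ (X j)) (Graded.map_mem φ (hX (n + 1) j))
  apply le_antisymm
  · intro x hx
    rw [RingHom.mem_ker] at hx
    obtain ⟨z, rfl⟩ := hbij.2 x
    rw [hsq'] at hx
    have hz : Away.map φ (X j) z = 0 := hbij'.1 (hx.trans (map_zero _).symm)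
    have hz' : z ∈ RingHom.ker (Away.map φ (X j)) := hz
    rw [hK] at hz'
    obtain ⟨w, rfl⟩ := Ideal.mem_span_singleton'.1 hz'
    rw [map_mul]
    exact Ideal.mem_span_singleton'.2 ⟨_, rfl⟩
  · rw [Ideal.span_le, Set.singleton_subset_iff, SetLike.mem_coe, RingHom.mem_ker, eqn, hsq']
    have : Away.mk (polyGrading (n + 1) R) (hX (n + 1) j) 1 (lin a) (mem_smul_one _ (lin_mem a)) ∈
        RingHom.ker (Away.map φ (X j)) := by
      rw [hK]; exact Ideal.subset_span rfl
    rw [RingHom.mem_ker] at this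
    rw [this]
    exact map_zero _

variable (a) in
/-- `ℓ / 1 = (ℓ / X j) • (X j / 1)` on `D₊(X j)`. -/
theorem gsec_lin_chart (j : Fin (n + 1 + 1)) :
    gsec (polyGrading (n + 1) R) 1 (chart j) (lin_mem a) =
      eqn a j • gsec (polyGrading (n + 1) R) 1 (chart j) (hX (n + 1) j) := by
  apply sec_ext
  intro y hy
  change (secVal (polyGrading (n + 1) R) (polyGrading (n + 1) R) ((1 : ℕ) : ℤ) (chart j)
      (gsec (polyGrading (n + 1) R) 1 (chart j) (lin_mem a)) y hy : Twist.Loc (polyGrading (n + 1) R) y) =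
    (secVal (polyGrading (n + 1) R) (polyGrading (n + 1) R) ((1 : ℕ) : ℤ) (chart j)
      (eqn a j • gsec (polyGrading (n + 1) R) 1 (chart j) (hX (n + 1) j)) y hy :
        Twist.Loc (polyGrading (n + 1) R) y)
  rw [secVal_smul', eqn, funVal_awayToSection_val (hX (n + 1) j) 1 (lin a) _ y hy]
  change Localization.mk (lin a) (1 : y.asHomogeneousIdeal.toIdeal.primeCompl) =
    Localization.mk (lin a) _ * Localization.mk (X j) (1 : y.asHomogeneousIdeal.toIdeal.primeCompl)
  rw [Localization.mk_mul, Localization.mk_eq_mk_iff, Localization.r_iff_exists]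
  refine ⟨1, ?_⟩
  simp only [OneMemClass.coe_one, one_mul, mul_one]
  ring

theorem iSup_chart : ⨆ j : Fin (n + 1 + 1), chart (R := R) (n := n) j = ⊤ :=
  Groth.Agent.Lib.Helper27PnChart.iSup_basicOpen_X (n + 1) R

/-- **The zero scheme of the section `ℓ` of `O(1)` is the hyperplane `V₊(ℓ)`.** -/
theorem zeroScheme_eq_ker (hu : u * a i0 = 1)
    (s : Coh.structureModule (Proj (polyGrading (n + 1) R)) ⟶
      GrTilde.tilde (polyGrading (n + 1) R) (polyGrading (n + 1) R) ((1 : ℕ) : ℤ))
    (hs : sv s ⊤ = gsec (polyGrading (n + 1) R) 1 ⊤ (lin_mem a)) :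
    PicF2.zeroScheme _ s = (hypMap a i0 u).ker := by
  have : (GrTilde.tilde (polyGrading (n + 1) R) (polyGrading (n + 1) R) ((1 : ℕ) : ℤ)).IsQuasicoherent :=
    isQuasicoherent_tilde _ _ _
  refine zeroScheme_eq_of_frames _ s _ (fun j => ⟨chart j, isAffineOpen_chart j⟩) iSup_chart
    (fun j => gsec (polyGrading (n + 1) R) 1 (chart j) (hX (n + 1) j)) (fun j => eqn a j)
    (fun j => isGen_gsec _ 1 (hX (n + 1) j)) (fun j => ?_) (fun j => ker_ideal_chart hu j)
  rw [← gsec_lin_chart, ← res_sv s (le_top : chart j ≤ ⊤), hs]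
  rfl

section Pullback

/-- pulling back along an isomorphism reflects isomorphy of modules. -/
theorem nonempty_iso_of_pullback_iso {X Y : Scheme.{u}} (j : X ⟶ Y) [IsIso j] {F G : Y.Modules}
    (E : (Scheme.Modules.pullback j).obj F ≅ (Scheme.Modules.pullback j).obj G) : Nonempty (F ≅ G) := by
  have key : ∀ H : Y.Modules,
      (Scheme.Modules.pullback (inv j)).obj ((Scheme.Modules.pullback j).obj H) ≅ H := fun H =>
    (Scheme.Modules.pullbackComp (inv j) j).app H ≪≫
      (Scheme.Modules.pullbackCongr (IsIso.inv_hom_id j)).app H ≪≫ (Scheme.Modules.pullbackId Y).app H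
  exact ⟨(key F).symm ≪≫ (Scheme.Modules.pullback (inv j)).mapIso E ≪≫ key G⟩

variable (a i0 u) in
/-- `hypMap^* O(d) ≅ O(d)`. -/
theorem nonempty_pullback_twist_iso (d : ℤ) :
    Nonempty ((Scheme.Modules.pullback (hypMap a i0 u)).obj
        (GrTilde.tilde (polyGrading (n + 1) R) (polyGrading (n + 1) R) d) ≅
      GrTilde.tilde (polyGrading n R) (polyGrading n R) d) := by
  set φ := gHom (vv a i0 u) (vv_hom a i0 u) with hφ
  have hirr := irrelevant_le_map_of_surjective φ (vv_surjective a i0 u)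
  let j : ((⊤ : (Proj (polyGrading n R)).Opens) : Scheme.{u}) ⟶ Proj (polyGrading n R) :=
    (⊤ : (Proj (polyGrading n R)).Opens).ι
  have hcovB : ∀ x : Proj (polyGrading n R), ∃ t : Fin (n + 1),
      x ∈ Proj.basicOpen (polyGrading n R) (X t) := by
    intro x
    have h1 := Groth.Agent.Lib.Helper27PnChart.iSup_basicOpen_X n R
    have h2 : x ∈ (⊤ : (Proj (polyGrading n R)).Opens) := trivial
    rw [← h1] at h2
    exact TopologicalSpace.Opens.mem_iSup.mp h2
  have hj : Groth.Agent.Helper13RelProj.IsDomOf φ j := by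
    intro x
    constructor
    · intro _
      obtain ⟨t, ht⟩ := hcovB x
      refine ⟨1, X (i0.succAbove t), one_pos, hX (n + 1) _, ?_⟩
      have : φ (X (i0.succAbove t)) = X t := by
        rw [hφ, gHom_X, vv_succAbove]
      rw [this]; exact ht
    · intro _
      exact ⟨⟨x, trivial⟩, rfl⟩
  have hp : Groth.Agent.Helper13RelProj.IsPMap φ j (j ≫ hypMap a i0 u) := by
    intro e f he hf c hc
    rw [← Category.assoc, hc]
    exact Proj.awayι_comp_map φ hirr he f hf
  obtain ⟨Ψ⟩ := Groth.Agent.Lib.Helper27GrTildeSect.nonempty_pullback_twist_iso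
    (fun k : Fin (n + 1 + 1) => (X k : MvPolynomial (Fin (n + 1 + 1)) R)) (fun k => hX (n + 1) k) hp hj
    (by
      intro x
      have h2 : (j ≫ hypMap a i0 u) x ∈ (⊤ : (Proj (polyGrading (n + 1) R)).Opens) := trivial
      rw [← iSup_chart] at h2
      obtain ⟨k, hk⟩ := TopologicalSpace.Opens.mem_iSup.mp h2
      exact ⟨k, hk⟩) d
  have : IsIso j := (Scheme.topIso (Proj (polyGrading n R))).isIso_hom
  refine nonempty_iso_of_pullback_iso j ?_
  exact (Scheme.Modules.pullbackComp j (hypMap a i0 u)).app _ ≪≫ Ψ ≪≫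
    (Scheme.Modules.restrictFunctorIsoPullback j).app _

end Pullback

end Groth.Agent.R2.H16.Hyperplane
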