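import Mathlib

/-!
# Invertible modules: local generators (helper16)

Pure commutative algebra used for `S3590`.  For an `R`-module `N` and `f : R`, `HasLocGen f x` says that
`x / 1` freely generates `N_f` over `R_f`.

* `bijective_smul_of_hasLocGen`, `hasLocGen_of_bijective_smul`: transfer between the canonical localisations
  and arbitrary models `(A, P, ρ)` of `(R_f, N_f, N → N_f)`.
* `span_eq_top_of_locGen`, `projective_of_locGen`, `rankAtStalk_eq_one_of_locGen`: a module which has, around
  every prime, a local generator among a family `t` is spanned by `t`, projective, of rank one.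
* `exists_locGen_of_projective`: a finite projective module of rank one has local generators.
-/

set_option autoImplicit false

universe u

open TensorProduct

namespace Groth.Agent.R2.H16.InvAlg

variable {R : Type u} [CommRing R] {N : Type u} [AddCommGroup N] [Module R N]

/-- `y` freely generates `N_f` over `R_f`. -/
def IsFreeGen (f : R) (y : LocalizedModule.Away f N) : Prop :=
  Function.Bijective (fun c : Localization.Away f => c • y)

/-- `x / 1` freely generates `N_f` over `R_f`. -/
def HasLocGen (f : R) (x : N) : Prop :=
  IsFreeGen f (LocalizedModule.mkLinearMap (Submonoid.powers f) N x)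

section transfer

variable (f : R) {A : Type u} [CommRing A] [Algebra R A] [IsLocalization.Away f A]
  {P : Type u} [AddCommGroup P] [Module R P] [Module A P] [IsScalarTower R A P]
  (ρ : N →ₗ[R] P) [IsLocalizedModule (Submonoid.powers f) ρ]

/-- the comparison `N_f ≃ P` is semilinear over the comparison `R_f ≃ A`. -/
theorem iso_smul (c : Localization.Away f) (y : LocalizedModule.Away f N) :
    IsLocalizedModule.iso (Submonoid.powers f) ρ (c • y) =
      (IsLocalization.algEquiv (Submonoid.powers f) (Localization.Away f) A c) •
        IsLocalizedModule.iso (Submonoid.powers f) ρ y := by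
  obtain ⟨r, s, rfl⟩ := IsLocalization.exists_mk'_eq (Submonoid.powers f) c
  apply ((Module.End.isUnit_iff _).mp (IsLocalizedModule.map_units ρ s)).1
  simp [← map_smul, ← smul_assoc]

theorem bijective_smul_of_isFreeGen {y : LocalizedModule.Away f N} (h : IsFreeGen f y) :
    Function.Bijective (fun a : A => a • IsLocalizedModule.iso (Submonoid.powers f) ρ y) := by
  have : (fun a : A => a • IsLocalizedModule.iso (Submonoid.powers f) ρ y) =
      (IsLocalizedModule.iso (Submonoid.powers f) ρ) ∘ (fun c : Localization.Away f => c • y) ∘
        (IsLocalization.algEquiv (Submonoid.powers f) (Localization.Away f) A).symm := by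
    funext a
    simp only [Function.comp_apply]
    rw [iso_smul (A := A) f ρ, AlgEquiv.apply_symm_apply]
  rw [this]
  exact (LinearEquiv.bijective _).comp (h.comp (AlgEquiv.bijective _))

theorem hasLocGen_of_bijective_smul {x : N} (h : Function.Bijective (fun a : A => a • ρ x)) :
    HasLocGen f x := by
  have : (fun c : Localization.Away f => c • LocalizedModule.mkLinearMap (Submonoid.powers f) N x) =
      (IsLocalizedModule.iso (Submonoid.powers f) ρ).symm ∘ (fun a : A => a • ρ x) ∘
        (IsLocalization.algEquiv (Submonoid.powers f) (Localization.Away f) A) := by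
    funext c
    simp only [Function.comp_apply]
    rw [LinearEquiv.eq_symm_apply, iso_smul (A := A) f ρ]
    congr 1
    simp [IsLocalizedModule.iso_apply_mk]
  unfold HasLocGen IsFreeGen
  rw [this]
  exact (LinearEquiv.bijective _).comp (h.comp (AlgEquiv.bijective _))

end transfer

section locGen

/-- the `R_f`-linear equivalence `R_f ≃ N_f` given by a free generator. -/
noncomputable def IsFreeGen.equiv {f : R} {y : LocalizedModule.Away f N} (h : IsFreeGen f y) :
    Localization.Away f ≃ₗ[Localization.Away f] LocalizedModule.Away f N :=
  LinearEquiv.ofBijective (LinearMap.toSpanSingleton (Localization.Away f) _ y) h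

variable {ι : Type*} (t : ι → N)

/-- the set of `f` admitting a local generator among the `t k`. -/
def genSet (R : Type u) [CommRing R] {N : Type u} [AddCommGroup N] [Module R N] {ι : Type*}
    (t : ι → N) : Set R := {f : R | ∃ k, HasLocGen f (t k)}

variable (h : ∀ p : PrimeSpectrum R, ∃ f, f ∉ p.asIdeal ∧ ∃ k, HasLocGen f (t k))
include h

theorem span_genSet_eq_top : Ideal.span (genSet R t) = ⊤ := by
  by_contra hne
  obtain ⟨m, hm, hle⟩ := Ideal.exists_le_maximal _ hne
  obtain ⟨f, hf, k, hk⟩ := h ⟨m, hm.isPrime⟩
  exact hf (hle (Ideal.subset_span ⟨k, hk⟩))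

theorem span_eq_top_of_locGen : Submodule.span R (Set.range t) = ⊤ := by
  rw [eq_top_iff]
  intro x _
  refine Submodule.mem_of_span_eq_top_of_smul_pow_mem _ (genSet R t) (span_genSet_eq_top t h) x ?_
  rintro ⟨f, k, hk⟩
  obtain ⟨c, hc⟩ := hk.2 (LocalizedModule.mkLinearMap (Submonoid.powers f) N x)
  obtain ⟨a, s, rfl⟩ := IsLocalization.exists_mk'_eq (Submonoid.powers f) c
  obtain ⟨m, hm⟩ := s.2
  replace hc : IsLocalization.mk' (Localization.Away f) a s •
      LocalizedModule.mkLinearMap (Submonoid.powers f) N (t k) =
      LocalizedModule.mkLinearMap (Submonoid.powers f) N x := hc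
  have hc' : LocalizedModule.mk (a • t k) s = LocalizedModule.mk x (1 : Submonoid.powers f) := by
    rw [LocalizedModule.mkLinearMap_apply, LocalizedModule.mkLinearMap_apply,
      ← Localization.mk_eq_mk', LocalizedModule.mk_smul_mk, mul_one] at hc
    exact hc
  rw [LocalizedModule.mk_eq] at hc'
  obtain ⟨u, hu⟩ := hc'
  obtain ⟨l, hl⟩ := u.2
  refine ⟨l + m, ?_⟩
  have h1 : (f ^ (l + m)) • x = (f ^ l * a) • t k := by
    have h2 : u • (1 : Submonoid.powers f) • a • t k = u • s • x := hu
    simp only [Submonoid.smul_def, OneMemClass.coe_one, one_smul] at h2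
    rw [← hl, ← hm] at h2
    rw [pow_add, mul_smul, mul_smul]
    exact h2.symm
  rw [h1]
  exact Submodule.smul_mem _ _ (Submodule.subset_span ⟨k, rfl⟩)

theorem flat_of_locGen : Module.Flat R N := by
  refine Module.flat_of_localized_span R N (genSet R t) (span_genSet_eq_top t h) ?_
  rintro ⟨f, k, hk⟩
  have e : Localization.Away f ≃ₗ[R] LocalizedModule.Away f N := hk.equiv.restrictScalars R
  haveI : Module.Flat R (Localization.Away f) := IsLocalization.flat _ (Submonoid.powers f)
  exact Module.Flat.of_linearEquiv e.symm

theorem finitePresentation_of_locGen : Module.FinitePresentation R N := by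
  refine Module.FinitePresentation.of_localizationSpan (genSet R t) (span_genSet_eq_top t h) ?_
  rintro ⟨f, k, hk⟩
  exact Module.FinitePresentation.of_equiv hk.equiv

theorem projective_of_locGen : Module.Projective R N := by
  haveI := flat_of_locGen t h
  haveI := finitePresentation_of_locGen t h
  exact Module.Flat.projective_of_finitePresentation

theorem rankAtStalk_eq_one_of_locGen (p : PrimeSpectrum R) : Module.rankAtStalk N p = 1 := by
  obtain ⟨f, hf, k, hk⟩ := h p
  have hdisj : Disjoint (Submonoid.powers f : Set R) (p.asIdeal : Set R) := by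
    rw [Set.disjoint_left]
    rintro _ ⟨n, rfl⟩ hn
    exact hf (p.2.mem_of_pow_mem n hn)
  let S := Localization.Away f
  let q : PrimeSpectrum S := ⟨Ideal.map (algebraMap R S) p.asIdeal,
    IsLocalization.isPrime_of_isPrime_disjoint (Submonoid.powers f) S _ p.2 hdisj⟩
  have hq : q.comap (algebraMap R S) = p := by
    ext1
    exact IsLocalization.under_map_of_isPrime_disjoint (Submonoid.powers f) S p.2 hdisj
  haveI := flat_of_locGen t h
  haveI := finitePresentation_of_locGen t h
  have hbc := Module.rankAtStalk_isBaseChange
    (IsLocalizedModule.isBaseChange (Submonoid.powers f) S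
      (LocalizedModule.mkLinearMap (Submonoid.powers f) N)) q
  rw [hq] at hbc
  rw [← hbc, ← Module.rankAtStalk_eq_of_equiv hk.equiv]
  haveI : Nontrivial S := q.nontrivial
  rw [Module.rankAtStalk_self]
  rfl

end locGen

section proj

/-- a finite projective module of rank one has free generators locally. -/
theorem exists_isFreeGen_of_projective [Module.Finite R N] [Module.Projective R N]
    (hr : ∀ p : PrimeSpectrum R, Module.rankAtStalk N p = 1) (p : PrimeSpectrum R) :
    ∃ f, f ∉ p.asIdeal ∧ ∃ y : LocalizedModule.Away f N, IsFreeGen f y := by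
  haveI : Module.FinitePresentation R N := Module.finitePresentation_of_projective R N
  haveI : Module.Free (Localization.AtPrime p.asIdeal) (LocalizedModule p.asIdeal.primeCompl N) :=
    Module.free_of_flat_of_isLocalRing
  obtain ⟨r, hr', hfree, hrank⟩ := Module.FinitePresentation.exists_free_localizedModule_powers
    p.asIdeal.primeCompl (LocalizedModule.mkLinearMap p.asIdeal.primeCompl N)
    (Localization.AtPrime p.asIdeal)
  have h1 : Module.finrank (Localization.Away r) (LocalizedModule.Away r N) = 1 :=
    hrank.trans (hr p)
  haveI : Nontrivial (Localization.Away r) :=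
    (show Localization (Submonoid.powers r) →+* Localization.AtPrime p.asIdeal from
      IsLocalization.map (M := Submonoid.powers r) (T := p.asIdeal.primeCompl) _
        (RingHom.id _) (Submonoid.powers_le.mpr hr')).domain_nontrivial
  obtain ⟨e'⟩ : Nonempty (Localization.Away r ≃ₗ[Localization.Away r] LocalizedModule.Away r N) :=
    Module.nonempty_linearEquiv_of_finrank_eq_one h1
  let e := e'.symm
  refine ⟨r, hr', e.symm 1, ?_⟩
  have : (fun c : Localization.Away r => c • e.symm 1) = e.symm := by
    funext c
    rw [← map_smul, smul_eq_mul, mul_one]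
  unfold IsFreeGen
  rw [this]
  exact e.symm.bijective

end proj

end Groth.Agent.R2.H16.InvAlg
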