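import Mathlib

/-!
# Pro-isomorphisms of inverse systems induce bijections on limits (helper16; package (LIM) of helper2's G-FF, #1976)

Namespace `Groth.Agent.R2.H16.LimAR`.  Pure Mathlib.

* `existsUnique_of_proInverse` (sets): `a : A ⟶ B` inverse systems of types indexed by `ℕᵒᵖ`, with maps
  `b n : B_(n+d) → A_n` such that `b n ∘ a_(n+d)` and `a_n ∘ b n` are the transition maps; then every compatible
  family of `B` comes from exactly one compatible family of `A`.
* `exists_proInverse` (abelian category): if `ker(α_(n+c)) → P_(n+c) → P_n` and `Q_(n+c) → Q_n → coker(α_n)` vanish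
  for all `n`, there are `β n : Q_(n+(c+c)) ⟶ P_n` with `α ≫ β` and `β ≫ α` the transition maps.
* `existsUnique_lim` / `existsUnique_lim_ab`: for ANY functor `G` to types / abelian groups (no exactness needed),
  every compatible family of `G(Q_n)` comes from exactly one compatible family of `G(P_n)`.
-/

set_option autoImplicit false
universe w v u
open CategoryTheory CategoryTheory.Limits Opposite

namespace Groth.Agent.R2.H16.LimAR

section tr

variable {C : Type u} [Category.{v} C]

/-- the transition morphism `F_m ⟶ F_n` of an inverse system, for `n ≤ m`. -/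
abbrev tr (F : ℕᵒᵖ ⥤ C) {n m : ℕ} (h : n ≤ m) : F.obj (op m) ⟶ F.obj (op n) :=
  F.map (homOfLE h).op

theorem tr_comp (F : ℕᵒᵖ ⥤ C) {n m k : ℕ} (h : n ≤ m) (h' : m ≤ k) :
    tr F h' ≫ tr F h = tr F (h.trans h') := by
  unfold tr
  rw [← F.map_comp]
  rfl

theorem tr_refl (F : ℕᵒᵖ ⥤ C) (n : ℕ) : tr F (le_refl n) = 𝟙 _ := by
  unfold tr
  rw [← F.map_id]
  rfl

theorem tr_naturality {F G : ℕᵒᵖ ⥤ C} (α : F ⟶ G) {n m : ℕ} (h : n ≤ m) :
    tr F h ≫ α.app (op n) = α.app (op m) ≫ tr G h :=
  α.naturality _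

end tr

section sets

variable {A B : ℕᵒᵖ ⥤ Type w} (a : A ⟶ B)

theorem trT_trT (F : ℕᵒᵖ ⥤ Type w) {n m k : ℕ} (h : n ≤ m) (h' : m ≤ k) (x : F.obj (op k)) :
    tr F h (tr F h' x) = tr F (h.trans h') x :=
  (ConcreteCategory.comp_apply (tr F h') (tr F h) x).symm.trans
    (ConcreteCategory.congr_hom (tr_comp F h h') x)

theorem trT_nat {n m : ℕ} (h : n ≤ m) (x : A.obj (op m)) :
    a.app (op n) (tr A h x) = tr B h (a.app (op m) x) :=
  (ConcreteCategory.comp_apply (tr A h) (a.app (op n)) x).symm.trans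
    ((ConcreteCategory.congr_hom (tr_naturality a h) x).trans
      (ConcreteCategory.comp_apply (a.app (op m)) (tr B h) x))

/-- a family compatible with successive transition maps is compatible with all of them. -/
theorem compat_le (F : ℕᵒᵖ ⥤ Type w) (x : ∀ n, F.obj (op n))
    (hx : ∀ n, tr F (Nat.le_succ n) (x (n + 1)) = x n) {n m : ℕ} (h : n ≤ m) :
    tr F h (x m) = x n := by
  induction m, h using Nat.le_induction with
  | base => exact (ConcreteCategory.congr_hom (tr_refl F n) (x n)).trans (ConcreteCategory.id_apply _)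
  | succ m hnm ih =>
    have h1 := trT_trT F hnm (Nat.le_succ m) (x (m + 1))
    rw [hx m, ih] at h1
    exact h1.symm

/-- **(LIM-b)**: a pro-inverse with shift `d` gives a bijection on compatible families. -/
theorem existsUnique_of_proInverse (d : ℕ)
    (b : ∀ n, B.obj (op (n + d)) → A.obj (op n))
    (hb1 : ∀ n (x : A.obj (op (n + d))),
      b n (a.app (op (n + d)) x) = tr A (Nat.le_add_right n d) x)
    (hb2 : ∀ n (y : B.obj (op (n + d))),
      a.app (op n) (b n y) = tr B (Nat.le_add_right n d) y)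
    (y : ∀ n, B.obj (op n)) (hy : ∀ n, tr B (Nat.le_succ n) (y (n + 1)) = y n) :
    ∃! x : ∀ n, A.obj (op n),
      (∀ n, tr A (Nat.le_succ n) (x (n + 1)) = x n) ∧ ∀ n, a.app (op n) (x n) = y n := by
  have hyle : ∀ {n m : ℕ} (h : n ≤ m), tr B h (y m) = y n := fun h => compat_le B y hy h
  -- the levelwise preimages
  let u : ∀ n, A.obj (op n) := fun n => b n (y (n + d))
  have hu : ∀ n, a.app (op n) (u n) = y n := fun n => (hb2 n _).trans (hyle _)
  let x : ∀ n, A.obj (op n) := fun n => tr A (Nat.le_add_right n d) (u (n + d))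
  have hxa : ∀ n, a.app (op n) (x n) = y n := fun n => by
    change a.app (op n) (tr A (Nat.le_add_right n d) (u (n + d))) = y n
    rw [trT_nat, hu, hyle]
  have key : ∀ n (v w : A.obj (op (n + d))), a.app (op (n + d)) v = a.app (op (n + d)) w →
      tr A (Nat.le_add_right n d) v = tr A (Nat.le_add_right n d) w := fun n v w hvw => by
    rw [← hb1, ← hb1, hvw]
  refine ⟨x, ⟨fun n => ?_, hxa⟩, ?_⟩
  · -- compatibility
    change tr A (Nat.le_succ n) (tr A (Nat.le_add_right (n + 1) d) (u (n + 1 + d))) =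
      tr A (Nat.le_add_right n d) (u (n + d))
    have hle : n + d ≤ n + 1 + d := by omega
    have h1 : a.app (op (n + d)) (tr A hle (u (n + 1 + d))) = a.app (op (n + d)) (u (n + d)) := by
      rw [trT_nat, hu, hu, hyle]
    have h2 := key n _ _ h1
    rw [trT_trT] at h2
    rw [trT_trT]
    exact h2
  · -- uniqueness
    rintro x' ⟨hx', hx'a⟩
    funext n
    have h1 : tr A (Nat.le_add_right n d) (x' (n + d)) = x' n := compat_le A x' hx' _
    have h2 : a.app (op (n + d)) (x' (n + d)) = a.app (op (n + d)) (u (n + d)) := by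
      rw [hx'a, hu]
    rw [← h1]
    exact key n _ _ h2

end sets

section abelian

variable {𝒜 : Type u} [Category.{v} 𝒜] [Abelian 𝒜] {P Q : ℕᵒᵖ ⥤ 𝒜} (α : P ⟶ Q) (c : ℕ)
  (h1 : ∀ n, kernel.ι (α.app (op (n + c))) ≫ tr P (Nat.le_add_right n c) = 0)
  (h2 : ∀ n, tr Q (Nat.le_add_right n c) ≫ cokernel.π (α.app (op n)) = 0)

/-- `Q_(m+c) ⟶ im(α_m)`. -/
noncomputable def τ (m : ℕ) : Q.obj (op (m + c)) ⟶ Abelian.image (α.app (op m)) :=
  kernel.lift (cokernel.π (α.app (op m))) (tr Q (Nat.le_add_right m c)) (h2 m)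

theorem τ_ι (m : ℕ) : τ α c h2 m ≫ Abelian.image.ι (α.app (op m)) = tr Q (Nat.le_add_right m c) :=
  kernel.lift_ι _ _ _

include h1 in
theorem kernel_factorThruImage_comp (m : ℕ) :
    kernel.ι (Abelian.factorThruImage (α.app (op (m + c)))) ≫ tr P (Nat.le_add_right m c) = 0 := by
  have h3 : kernel.ι (Abelian.factorThruImage (α.app (op (m + c)))) ≫ α.app (op (m + c)) = 0 :=
    calc kernel.ι (Abelian.factorThruImage (α.app (op (m + c)))) ≫ α.app (op (m + c))
        = kernel.ι (Abelian.factorThruImage (α.app (op (m + c)))) ≫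
            (Abelian.factorThruImage (α.app (op (m + c))) ≫
              Abelian.image.ι (α.app (op (m + c)))) := by rw [Abelian.image.fac]
      _ = 0 := by rw [← Category.assoc, kernel.condition, zero_comp]
  rw [← kernel.lift_ι (α.app (op (m + c))) _ h3, Category.assoc, h1, comp_zero]

/-- `im(α_(m+c)) ⟶ P_m`. -/
noncomputable def σ (m : ℕ) : Abelian.image (α.app (op (m + c))) ⟶ P.obj (op m) :=
  Abelian.epiDesc (Abelian.factorThruImage (α.app (op (m + c)))) (tr P (Nat.le_add_right m c))
    (kernel_factorThruImage_comp α c h1 m)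

theorem factorThruImage_σ (m : ℕ) :
    Abelian.factorThruImage (α.app (op (m + c))) ≫ σ α c h1 m = tr P (Nat.le_add_right m c) :=
  Abelian.comp_epiDesc _ _ _

theorem α_τ (m : ℕ) :
    α.app (op (m + c)) ≫ τ α c h2 m =
      tr P (Nat.le_add_right m c) ≫ Abelian.factorThruImage (α.app (op m)) := by
  rw [← cancel_mono (Abelian.image.ι (α.app (op m))), Category.assoc, τ_ι, Category.assoc,
    Abelian.image.fac, tr_naturality]

theorem σ_α (m : ℕ) :
    σ α c h1 m ≫ α.app (op m) =
      Abelian.image.ι (α.app (op (m + c))) ≫ tr Q (Nat.le_add_right m c) := by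
  rw [← cancel_epi (Abelian.factorThruImage (α.app (op (m + c)))), ← Category.assoc,
    factorThruImage_σ, ← Category.assoc, Abelian.image.fac, tr_naturality]

/-- the pro-inverse `Q_(n+(c+c)) ⟶ P_n`. -/
noncomputable def β (n : ℕ) : Q.obj (op (n + (c + c))) ⟶ P.obj (op n) :=
  tr Q (show n + c + c ≤ n + (c + c) by omega) ≫ τ α c h2 (n + c) ≫ σ α c h1 n

theorem α_β (n : ℕ) :
    α.app (op (n + (c + c))) ≫ β α c h1 h2 n = tr P (Nat.le_add_right n (c + c)) := by
  unfold β
  rw [← Category.assoc, ← tr_naturality, Category.assoc, ← Category.assoc (α.app _), α_τ,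
    Category.assoc, factorThruImage_σ, tr_comp, tr_comp]

theorem β_α (n : ℕ) :
    β α c h1 h2 n ≫ α.app (op n) = tr Q (Nat.le_add_right n (c + c)) := by
  unfold β
  rw [Category.assoc, Category.assoc, σ_α, ← Category.assoc (τ α c h2 (n + c)), τ_ι, tr_comp, tr_comp]

include h1 h2 in
/-- **(LIM-a)**: existence of a pro-inverse with shift `c + c`. -/
theorem exists_proInverse (n : ℕ) :
    ∃ b : Q.obj (op (n + (c + c))) ⟶ P.obj (op n),
      α.app (op (n + (c + c))) ≫ b = tr P (Nat.le_add_right n (c + c)) ∧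
        b ≫ α.app (op n) = tr Q (Nat.le_add_right n (c + c)) :=
  ⟨β α c h1 h2 n, α_β α c h1 h2 n, β_α α c h1 h2 n⟩

include h1 h2 in
/-- **(LIM)** for functors to types: every compatible family of `G(Q_n)` comes from exactly one compatible family
of `G(P_n)`. No hypothesis on `G`. -/
theorem existsUnique_lim (G : 𝒜 ⥤ Type w) (y : ∀ n, G.obj (Q.obj (op n)))
    (hy : ∀ n, G.map (tr Q (Nat.le_succ n)) (y (n + 1)) = y n) :
    ∃! x : ∀ n, G.obj (P.obj (op n)),
      (∀ n, G.map (tr P (Nat.le_succ n)) (x (n + 1)) = x n) ∧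
        ∀ n, G.map (α.app (op n)) (x n) = y n := by
  refine existsUnique_of_proInverse (A := P ⋙ G) (B := Q ⋙ G) (Functor.whiskerRight α G) (c + c)
    (fun n => G.map (β α c h1 h2 n)) (fun n x => ?_) (fun n z => ?_) y hy
  · have h3 := congrArg (fun φ => G.map φ) (α_β α c h1 h2 n)
    exact (ConcreteCategory.comp_apply (G.map (α.app (op (n + (c + c))))) (G.map (β α c h1 h2 n))
      x).symm.trans (ConcreteCategory.congr_hom ((G.map_comp _ _).symm.trans h3) x)
  · have h3 := congrArg (fun φ => G.map φ) (β_α α c h1 h2 n)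
    exact (ConcreteCategory.comp_apply (G.map (β α c h1 h2 n)) (G.map (α.app (op n)))
      z).symm.trans (ConcreteCategory.congr_hom ((G.map_comp _ _).symm.trans h3) z)

include h1 h2 in
/-- **(LIM)** for functors to abelian groups. -/
theorem existsUnique_lim_ab (G : 𝒜 ⥤ AddCommGrpCat.{w}) (y : ∀ n, G.obj (Q.obj (op n)))
    (hy : ∀ n, G.map (tr Q (Nat.le_succ n)) (y (n + 1)) = y n) :
    ∃! x : ∀ n, G.obj (P.obj (op n)),
      (∀ n, G.map (tr P (Nat.le_succ n)) (x (n + 1)) = x n) ∧
        ∀ n, G.map (α.app (op n)) (x n) = y n :=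
  existsUnique_lim α c h1 h2 (G ⋙ forget AddCommGrpCat) y hy

end abelian

end Groth.Agent.R2.H16.LimAR
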