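import Groth.Agent.Lib.Helper11Models

/-!
# helper16: contractions of numerical types — basic relations and the map on Picard groups
-/

set_option autoImplicit false

namespace Groth.Agent.R2.H16.NumContr

open Finset Models Groth.Agent.Lib.Helper11

variable {n : ℕ} (T : Models.NumericalType (n + 1)) (h : T.IsMinusOne (Fin.last n))
  (T' : Models.NumericalType n) (hT' : T.IsContraction T')

include hT' in
/-- `w' i` is `w i` or `w i / 2` (exactly). -/
theorem w'_cases (i : Fin n) :
    T'.w i = T.w i.castSucc ∨ 2 * T'.w i = T.w i.castSucc := by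
  have hw := hT'.2.2.1 i
  split_ifs at hw with hc
  · right
    obtain ⟨⟨s, hs⟩, hodd⟩ := hc
    have h1 : T.a i.castSucc (Fin.last n) = T.w (Fin.last n) * (2 * s) := by
      have hd : T.w (Fin.last n) ∣ T.a i.castSucc (Fin.last n) := by
        rw [a_symm T]; exact T.w_dvd _ _
      rw [← hs, Int.mul_ediv_cancel' hd]
    have h2 : T.a i.castSucc (Fin.last n) =
        T.w i.castSucc * (T.a i.castSucc (Fin.last n) / T.w i.castSucc) :=
      (Int.mul_ediv_cancel' (T.w_dvd _ _)).symm
    have h3 : (2 : ℤ) ∣ T.w i.castSucc * (T.a i.castSucc (Fin.last n) / T.w i.castSucc) := by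
      rw [← h2, h1]; exact ⟨T.w (Fin.last n) * s, by ring⟩
    have h4 : (2 : ℤ) ∣ T.w i.castSucc :=
      (Int.prime_two.dvd_or_dvd h3).resolve_right hodd
    rw [hw, Int.mul_ediv_cancel' h4]
  · left; exact hw

include hT' in
theorem w'_dvd_w (i : Fin n) : T'.w i ∣ T.w i.castSucc := by
  rcases w'_cases T T' hT' i with h1 | h1
  · rw [h1]
  · exact ⟨2, by rw [← h1]; ring⟩

include hT' in
theorem w'_dvd_a (i : Fin n) (k : Fin (n + 1)) : T'.w i ∣ T.a i.castSucc k :=
  (w'_dvd_w T T' hT' i).trans (T.w_dvd _ _)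

theorem wl_dvd (k : Fin (n + 1)) : T.w (Fin.last n) ∣ T.a k (Fin.last n) := by
  rw [a_symm T]; exact T.w_dvd _ _

include h hT' in
/-- the contracted matrix: `(a' i j - a i j) * w l = a i l * a j l`. -/
theorem a'_mul (i j : Fin n) :
    (T'.a i j - T.a i.castSucc j.castSucc) * T.w (Fin.last n) =
      T.a i.castSucc (Fin.last n) * T.a j.castSucc (Fin.last n) := by
  have ha := hT'.2.1 i j
  rw [h.2, Int.ediv_neg] at ha
  have hd : T.w (Fin.last n) ∣ T.a i.castSucc (Fin.last n) * T.a j.castSucc (Fin.last n) :=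
    Dvd.dvd.mul_right (wl_dvd T _) _
  rw [ha]
  have := Int.ediv_mul_cancel hd
  linarith

/-- the ratio `w i / w' i ∈ {1, 2}` -/
def rho (i : Fin n) : ℤ := T.w i.castSucc / T'.w i

/-- `a i l / w' i` -/
def alpha (i : Fin n) : ℤ := T.a i.castSucc (Fin.last n) / T'.w i

include hT' in
theorem rho_mul (i : Fin n) : rho T T' i * T'.w i = T.w i.castSucc :=
  Int.ediv_mul_cancel (w'_dvd_w T T' hT' i)

include hT' in
theorem alpha_mul (i : Fin n) : alpha T T' i * T'.w i = T.a i.castSucc (Fin.last n) :=
  Int.ediv_mul_cancel (w'_dvd_a T T' hT' i _)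

include hT' in
theorem rho_cases (i : Fin n) : rho T T' i = 1 ∨ rho T T' i = 2 := by
  have hpos := T'.w_pos i
  have hm := rho_mul T T' hT' i
  rcases w'_cases T T' hT' i with h1 | h1
  · left
    rw [← h1] at hm
    exact mul_right_cancel₀ hpos.ne' (by rw [hm, one_mul])
  · right
    rw [← h1] at hm
    exact mul_right_cancel₀ hpos.ne' (by rw [hm])

/-- the map `ℤ^(n+1) → ℤ^n` inducing `Pic T → Pic T'` -/
def phi : (Fin (n + 1) → ℤ) →ₗ[ℤ] (Fin n → ℤ) where
  toFun d i := rho T T' i * d i.castSucc + alpha T T' i * d (Fin.last n)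
  map_add' d e := by funext i; simp only [Pi.add_apply]; ring
  map_smul' c d := by funext i; simp only [Pi.smul_apply, smul_eq_mul, RingHom.id_apply]; ring

@[simp] theorem phi_apply (d : Fin (n + 1) → ℤ) (i : Fin n) :
    phi T T' d i = rho T T' i * d i.castSucc + alpha T T' i * d (Fin.last n) := rfl

theorem pic_mul (S : Models.NumericalType n) (i j : Fin n) :
    S.picMatrix i j * S.w i = S.a i j := (a_eq_kk S i j).symm

include h hT' in
/-- `φ (M v) = M' (v ∘ castSucc)` -/
theorem phi_mulVec (v : Fin (n + 1) → ℤ) :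
    phi T T' (T.picMatrix.mulVec v) = T'.picMatrix.mulVec (fun j => v j.castSucc) := by
  funext i
  have hw' := T'.w_pos i
  have hwl := T.w_pos (Fin.last n)
  have hne : T'.w i * T.w (Fin.last n) ≠ 0 := mul_ne_zero hw'.ne' hwl.ne'
  apply mul_left_cancel₀ hne
  simp only [phi_apply, Matrix.mulVec, dotProduct]
  have e1 : T'.w i * T.w (Fin.last n) *
      (rho T T' i * ∑ k, T.picMatrix i.castSucc k * v k +
        alpha T T' i * ∑ k, T.picMatrix (Fin.last n) k * v k) =
      T.w (Fin.last n) * ∑ k, T.a i.castSucc k * v k +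
        T.a i.castSucc (Fin.last n) * ∑ k, T.a (Fin.last n) k * v k := by
    have r1 : ∑ k, T.a i.castSucc k * v k =
        T.w i.castSucc * ∑ k, T.picMatrix i.castSucc k * v k := by
      rw [Finset.mul_sum]
      exact Finset.sum_congr rfl fun k _ => by rw [← pic_mul T i.castSucc k]; ring
    have r2 : ∑ k, T.a (Fin.last n) k * v k =
        T.w (Fin.last n) * ∑ k, T.picMatrix (Fin.last n) k * v k := by
      rw [Finset.mul_sum]
      exact Finset.sum_congr rfl fun k _ => by rw [← pic_mul T (Fin.last n) k]; ring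
    rw [r1, r2, ← rho_mul T T' hT' i, ← alpha_mul T T' hT' i]
    ring
  have e2 : T'.w i * T.w (Fin.last n) * ∑ j, T'.picMatrix i j * v j.castSucc =
      ∑ j, T.w (Fin.last n) * T'.a i j * v j.castSucc := by
    rw [Finset.mul_sum]
    exact Finset.sum_congr rfl fun j _ => by rw [← pic_mul T' i j]; ring
  rw [e1, e2, Fin.sum_univ_castSucc, Fin.sum_univ_castSucc, h.2]
  have e3 : ∀ j : Fin n, T.w (Fin.last n) * T'.a i j * v j.castSucc =
      T.w (Fin.last n) * (T.a i.castSucc j.castSucc * v j.castSucc) +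
        T.a i.castSucc (Fin.last n) * (T.a (Fin.last n) j.castSucc * v j.castSucc) := by
    intro j
    have := a'_mul T h T' hT' i j
    rw [a_symm T (Fin.last n) j.castSucc]
    linear_combination (v j.castSucc) * this
  rw [Finset.sum_congr rfl fun j _ => e3 j, Finset.sum_add_distrib, ← Finset.mul_sum,
    ← Finset.mul_sum]
  ring

include h hT' in
/-- the kernel of `φ` lies in the range of `M`. -/
theorem mem_range_of_phi_eq_zero (e : Fin (n + 1) → ℤ) (he : phi T T' e = 0) :
    e ∈ LinearMap.range (Matrix.mulVecLin T.picMatrix) := by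
  refine ⟨Pi.single (Fin.last n) (-e (Fin.last n)), ?_⟩
  funext k
  simp only [Matrix.mulVecLin_apply, Matrix.mulVec_single, MulOpposite.op_neg, Pi.smul_apply,
    Matrix.col_apply]
  refine Fin.lastCases ?_ (fun i => ?_) k
  · have : T.picMatrix (Fin.last n) (Fin.last n) = -1 := by
      have h1 := pic_mul T (Fin.last n) (Fin.last n)
      rw [h.2] at h1
      have hwl := T.w_pos (Fin.last n)
      exact mul_right_cancel₀ hwl.ne' (by rw [h1]; ring)
    simp [this]
  · have h0 := congrFun he i
    simp only [phi_apply, Pi.zero_apply] at h0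
    have h1 := rho_mul T T' hT' i
    have h2 := alpha_mul T T' hT' i
    have h3 := pic_mul T i.castSucc (Fin.last n)
    have hw := T.w_pos i.castSucc
    have h4 : T.w i.castSucc *
        (e i.castSucc + T.picMatrix i.castSucc (Fin.last n) * e (Fin.last n)) = 0 := by
      have : T'.w i * (rho T T' i * e i.castSucc + alpha T T' i * e (Fin.last n)) = 0 := by
        rw [h0, mul_zero]
      linear_combination this - (e i.castSucc) * h1 - (e (Fin.last n)) * h2 +
        (e (Fin.last n)) * h3
    have h5 := (mul_eq_zero.mp h4).resolve_left hw.ne'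
    simp only [MulOpposite.smul_eq_mul_unop, MulOpposite.unop_neg, MulOpposite.unop_op]
    linarith

include h hT' in
theorem range_le_comap : LinearMap.range (Matrix.mulVecLin T.picMatrix) ≤
    (LinearMap.range (Matrix.mulVecLin T'.picMatrix)).comap (phi T T') := by
  rintro _ ⟨v, rfl⟩
  rw [Submodule.mem_comap, Matrix.mulVecLin_apply, phi_mulVec T h T' hT' v]
  exact ⟨fun j => v j.castSucc, rfl⟩

/-- the induced map `Pic T → Pic T'` -/
def picMap : T.Pic →ₗ[ℤ] T'.Pic :=
  Submodule.mapQ _ _ (phi T T') (range_le_comap T h T' hT')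

include h hT' in
theorem picMap_injective : Function.Injective (picMap T h T' hT') := by
  rw [injective_iff_map_eq_zero]
  intro x hx
  obtain ⟨d, rfl⟩ := Submodule.Quotient.mk_surjective _ x
  rw [picMap, Submodule.mapQ_apply, Submodule.Quotient.mk_eq_zero] at hx
  obtain ⟨u, hu⟩ := hx
  rw [Submodule.Quotient.mk_eq_zero]
  -- lift `u` to `v` on `n + 1` indices
  let v : Fin (n + 1) → ℤ := Fin.snoc u 0
  have hv : (fun j : Fin n => v j.castSucc) = u := by
    funext j; simp [v]
  have h1 : phi T T' (d - T.picMatrix.mulVec v) = 0 := by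
    rw [map_sub, phi_mulVec T h T' hT' v, hv, ← hu, Matrix.mulVecLin_apply, sub_self]
  have h2 := mem_range_of_phi_eq_zero T h T' hT' _ h1
  have h3 : T.picMatrix.mulVec v ∈ LinearMap.range (Matrix.mulVecLin T.picMatrix) := ⟨v, rfl⟩
  have := Submodule.add_mem _ h2 h3
  simpa using this

include hT' in
theorem two_smul_mem (y : T'.Pic) : ∃ x : T.Pic, 2 • y = picMap T h T' hT' x := by
  obtain ⟨c, rfl⟩ := Submodule.Quotient.mk_surjective _ y
  let d : Fin (n + 1) → ℤ :=
    Fin.snoc (fun i => if rho T T' i = 1 then 2 * c i else c i) 0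
  refine ⟨Submodule.Quotient.mk d, ?_⟩
  rw [picMap, Submodule.mapQ_apply, ← Submodule.Quotient.mk_smul]
  congr 1
  funext i
  simp only [Pi.smul_apply, phi_apply, d, Fin.snoc_castSucc, Fin.snoc_last, mul_zero, add_zero]
  rcases rho_cases T T' hT' i with h1 | h1
  · rw [if_pos h1, h1]; simp
  · rw [if_neg (by rw [h1]; norm_num), h1]; simp

end Groth.Agent.R2.H16.NumContr
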