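import Groth.Agent.R2.H16NumContr
import Groth.Agent.Lib.Helper11Genus

/-!
# helper16: existence of the contraction of a `(-1)`-index and invariance of the genus (S2175)
-/

set_option autoImplicit false

namespace Groth.Agent.R2.H16.NumContr

open Finset Models Groth.Agent.Lib.Helper11

variable {n : ℕ} (T : Models.NumericalType (n + 1))

/-- `b i = a i l` -/
def cb (i : Fin n) : ℤ := T.a i.castSucc (Fin.last n)

/-- the contracted matrix -/
def ca (i j : Fin n) : ℤ :=
  T.a i.castSucc j.castSucc -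
    T.a i.castSucc (Fin.last n) * T.a j.castSucc (Fin.last n) / T.a (Fin.last n) (Fin.last n)

/-- the contracted `w` -/
def cw (i : Fin n) : ℤ :=
  if 2 ∣ T.a i.castSucc (Fin.last n) / T.w (Fin.last n) ∧
      ¬ 2 ∣ T.a i.castSucc (Fin.last n) / T.w i.castSucc
  then T.w i.castSucc / 2 else T.w i.castSucc

/-- the correction term in the contracted `g` -/
def cq (i : Fin n) : ℤ :=
  (T.a i.castSucc (Fin.last n) ^ 2 - T.w (Fin.last n) * T.a i.castSucc (Fin.last n)) /
    (2 * cw T i * T.w (Fin.last n))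

/-- the contracted `g` -/
def cg (i : Fin n) : ℤ :=
  T.w i.castSucc / cw T i * (T.g i.castSucc - 1) + 1 + cq T i

theorem cb_nonneg (i : Fin n) : 0 ≤ cb T i :=
  T.offDiag_nonneg _ _ (Fin.castSucc_lt_last i).ne

/-- `s i = b i / w l` -/
def cs (i : Fin n) : ℤ := cb T i / T.w (Fin.last n)

/-- `t i = b i / w i` -/
def ct (i : Fin n) : ℤ := cb T i / T.w i.castSucc

theorem cs_mul (i : Fin n) : cs T i * T.w (Fin.last n) = cb T i :=
  Int.ediv_mul_cancel (wl_dvd T _)

theorem ct_mul (i : Fin n) : ct T i * T.w i.castSucc = cb T i :=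
  Int.ediv_mul_cancel (T.w_dvd _ _)

theorem cs_nonneg (i : Fin n) : 0 ≤ cs T i :=
  Int.ediv_nonneg (cb_nonneg T i) (T.w_pos _).le

theorem ct_nonneg (i : Fin n) : 0 ≤ ct T i :=
  Int.ediv_nonneg (cb_nonneg T i) (T.w_pos _).le

theorem cw_def (i : Fin n) :
    cw T i = if 2 ∣ cs T i ∧ ¬ 2 ∣ ct T i then T.w i.castSucc / 2 else T.w i.castSucc := rfl

/-- `cw i = w i`, or `2 cw i = w i` with `s i` even and `t i` odd. -/
theorem cw_cases (i : Fin n) :
    (cw T i = T.w i.castSucc ∧ ¬ (2 ∣ cs T i ∧ ¬ 2 ∣ ct T i)) ∨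
      (2 * cw T i = T.w i.castSucc ∧ 2 ∣ cs T i ∧ ¬ 2 ∣ ct T i) := by
  rw [cw_def]
  split_ifs with hc
  · right
    refine ⟨?_, hc⟩
    obtain ⟨⟨s, hs⟩, hodd⟩ := hc
    have h1 := cs_mul T i
    have h2 := ct_mul T i
    have h3 : (2 : ℤ) ∣ ct T i * T.w i.castSucc := by
      rw [h2, ← h1, hs]; exact ⟨s * T.w (Fin.last n), by ring⟩
    have h4 : (2 : ℤ) ∣ T.w i.castSucc :=
      (Int.prime_two.dvd_or_dvd h3).resolve_left hodd
    exact Int.mul_ediv_cancel' h4
  · left; exact ⟨rfl, hc⟩

theorem cw_pos (i : Fin n) : 0 < cw T i := by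
  have hw := T.w_pos i.castSucc
  rcases cw_cases T i with ⟨h1, -⟩ | ⟨h1, -⟩ <;> omega

theorem cw_dvd_w (i : Fin n) : cw T i ∣ T.w i.castSucc := by
  rcases cw_cases T i with ⟨h1, -⟩ | ⟨h1, -⟩
  · rw [h1]
  · exact ⟨2, by rw [← h1]; ring⟩

/-- `ρ i = w i / cw i ∈ {1, 2}` -/
def crho (i : Fin n) : ℤ := T.w i.castSucc / cw T i

theorem crho_mul (i : Fin n) : crho T i * cw T i = T.w i.castSucc :=
  Int.ediv_mul_cancel (cw_dvd_w T i)

theorem cg_def (i : Fin n) : cg T i = crho T i * (T.g i.castSucc - 1) + 1 + cq T i := rfl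

variable (h : T.IsMinusOne (Fin.last n))

include h in
theorem ca_mul (i j : Fin n) :
    (ca T i j - T.a i.castSucc j.castSucc) * T.w (Fin.last n) = cb T i * cb T j := by
  unfold ca cb
  rw [h.2, Int.ediv_neg]
  have hd : T.w (Fin.last n) ∣ T.a i.castSucc (Fin.last n) * T.a j.castSucc (Fin.last n) :=
    Dvd.dvd.mul_right (wl_dvd T _) _
  have := Int.ediv_mul_cancel hd
  linarith

include h in
theorem ca_eq (i j : Fin n) : ca T i j = T.a i.castSucc j.castSucc + cb T i * cs T j := by
  have h1 := ca_mul T h i j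
  have h2 := cs_mul T j
  have hwl := T.w_pos (Fin.last n)
  have : (ca T i j - T.a i.castSucc j.castSucc - cb T i * cs T j) * T.w (Fin.last n) = 0 := by
    linear_combination h1 - (cb T i) * h2
  have := (mul_eq_zero.mp this).resolve_right hwl.ne'
  linarith

/-- exactness of the division defining `cq`. -/
theorem cq_mul (i : Fin n) :
    cq T i * (2 * cw T i * T.w (Fin.last n)) = cb T i ^ 2 - T.w (Fin.last n) * cb T i := by
  unfold cq
  apply Int.ediv_mul_cancel
  change 2 * cw T i * T.w (Fin.last n) ∣ cb T i ^ 2 - T.w (Fin.last n) * cb T i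
  have h1 := cs_mul T i
  have h2 := ct_mul T i
  have e1 : cb T i ^ 2 - T.w (Fin.last n) * cb T i =
      T.w (Fin.last n) * (cb T i * (cs T i - 1)) := by
    rw [← h1]; ring
  rw [e1, mul_comm (2 * cw T i) (T.w (Fin.last n))]
  apply mul_dvd_mul_left
  rcases cw_cases T i with ⟨hw, hc⟩ | ⟨hw, hc⟩
  · -- `cw = w`: need `2 w ∣ b (s - 1) = w t (s - 1)`
    rw [hw, ← h2]
    have h3 : (2 : ℤ) ∣ ct T i * (cs T i - 1) := by
      by_cases hs : 2 ∣ cs T i
      · have ht : 2 ∣ ct T i := by
          by_contra ht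
          exact hc ⟨hs, ht⟩
        exact Dvd.dvd.mul_right ht _
      · have : 2 ∣ cs T i - 1 := by omega
        exact Dvd.dvd.mul_left this _
    obtain ⟨c, hc'⟩ := h3
    exact ⟨c, by linear_combination (T.w i.castSucc) * hc'⟩
  · rw [hw, ← h2]
    exact ⟨ct T i * (cs T i - 1), by ring⟩

theorem cq_nonneg (i : Fin n) : 0 ≤ cq T i := by
  have h1 := cq_mul T i
  have h2 := cs_mul T i
  have hs := cs_nonneg T i
  have hwl := T.w_pos (Fin.last n)
  have hcw := cw_pos T i
  have e1 : cb T i ^ 2 - T.w (Fin.last n) * cb T i =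
      T.w (Fin.last n) ^ 2 * (cs T i * (cs T i - 1)) := by
    rw [← h2]; ring
  have h3 : 0 ≤ cs T i * (cs T i - 1) := by
    rcases hs.eq_or_lt with h0 | h0
    · rw [← h0]; norm_num
    · exact mul_nonneg hs (by omega)
  have h4 : 0 ≤ cq T i * (2 * cw T i * T.w (Fin.last n)) := by
    rw [h1, e1]; positivity
  have h5 : 0 < 2 * cw T i * T.w (Fin.last n) := by positivity
  exact nonneg_of_mul_nonneg_left h4 h5

theorem cg_nonneg (i : Fin n) : 0 ≤ cg T i := by
  rw [cg_def]
  have hq := cq_nonneg T i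
  have hg := T.g_nonneg i.castSucc
  have hr := crho_mul T i
  have hcw := cw_pos T i
  rcases cw_cases T i with ⟨hw, hc⟩ | ⟨hw, hs, ht⟩
  · have : crho T i = 1 := by
      rw [← hw] at hr
      exact mul_right_cancel₀ hcw.ne' (by rw [hr, one_mul])
    rw [this]; linarith
  · have hrho : crho T i = 2 := by
      rw [← hw] at hr
      exact mul_right_cancel₀ hcw.ne' (by rw [hr])
    rw [hrho]
    -- `q ≥ 1`
    have h1 := cq_mul T i
    have h2 := cs_mul T i
    have hs0 := cs_nonneg T i
    have hwl := T.w_pos (Fin.last n)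
    have hs2 : 2 ≤ cs T i := by
      have : cs T i ≠ 0 := by
        intro h0
        have hb : cb T i = 0 := by rw [← h2, h0, zero_mul]
        have : ct T i = 0 := by unfold ct; rw [hb, Int.zero_ediv]
        exact ht (by rw [this]; exact dvd_zero _)
      omega
    have e1 : cb T i ^ 2 - T.w (Fin.last n) * cb T i =
        T.w (Fin.last n) ^ 2 * (cs T i * (cs T i - 1)) := by
      rw [← h2]; ring
    have h3 : 0 < cs T i * (cs T i - 1) := mul_pos (by omega) (by omega)
    have h4 : 0 < cq T i * (2 * cw T i * T.w (Fin.last n)) := by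
      rw [h1, e1]; positivity
    have h5 : 0 < 2 * cw T i * T.w (Fin.last n) := by positivity
    have h6 : 0 < cq T i := pos_of_mul_pos_left h4 h5.le
    linarith

include h in
theorem ca_symm (i j : Fin n) : ca T i j = ca T j i := by
  have h1 := ca_mul T h i j
  have h2 := ca_mul T h j i
  have hwl := T.w_pos (Fin.last n)
  have h3 : T.a i.castSucc j.castSucc = T.a j.castSucc i.castSucc := a_symm T _ _
  have : (ca T i j - ca T j i) * T.w (Fin.last n) = 0 := by
    linear_combination h1 - h2 + (T.w (Fin.last n)) * h3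
  have := (mul_eq_zero.mp this).resolve_right hwl.ne'
  linarith

include h in
theorem ca_ge (i j : Fin n) : T.a i.castSucc j.castSucc ≤ ca T i j := by
  rw [ca_eq T h]
  have := mul_nonneg (cb_nonneg T i) (cs_nonneg T j)
  linarith

include h in
theorem ca_pos_of_cb (i j : Fin n) (hij : i ≠ j) (hi : cb T i ≠ 0) (hj : cb T j ≠ 0) :
    0 < ca T i j := by
  rw [ca_eq T h]
  have h0 : 0 ≤ T.a i.castSucc j.castSucc :=
    T.offDiag_nonneg _ _ (fun h' => hij (Fin.castSucc_injective _ h'))
  have hbi : 0 < cb T i := lt_of_le_of_ne (cb_nonneg T i) (Ne.symm hi)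
  have hsj : 0 < cs T j := by
    rcases (cs_nonneg T j).eq_or_lt with h1 | h1
    · exfalso; apply hj; rw [← cs_mul T j, ← h1, zero_mul]
    · exact h1
  have := mul_pos hbi hsj
  linarith

include h in
theorem ca_offDiag_nonneg (i j : Fin n) (hij : i ≠ j) : 0 ≤ ca T i j :=
  le_trans (T.offDiag_nonneg _ _ (fun h' => hij (Fin.castSucc_injective _ h'))) (ca_ge T h i j)

include h in
theorem ca_connected (I : Finset (Fin n)) (hI : I.Nonempty) (hI' : I ≠ univ) :
    ∃ i ∈ I, ∃ j ∉ I, ca T i j ≠ 0 := by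
  classical
  -- a helper: an edge of `T` between `I` and its complement gives an edge of the contraction
  have key : ∀ i ∈ I, ∀ j ∉ I, T.a i.castSucc j.castSucc ≠ 0 → ca T i j ≠ 0 := by
    intro i hi j hj ha
    have hij : i ≠ j := fun h' => hj (h' ▸ hi)
    have h0 : 0 ≤ T.a i.castSucc j.castSucc :=
      T.offDiag_nonneg _ _ (fun h' => hij (Fin.castSucc_injective _ h'))
    have := ca_ge T h i j
    have : 0 < T.a i.castSucc j.castSucc := lt_of_le_of_ne h0 (Ne.symm ha)
    omega
  let I1 : Finset (Fin (n + 1)) := I.map Fin.castSuccEmb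
  have hI1 : I1.Nonempty := hI.map
  have hlast : Fin.last n ∉ I1 := by
    simp only [I1, Finset.mem_map, not_exists, not_and]
    intro i _ hi
    exact (Fin.castSucc_lt_last i).ne hi
  have hI1' : I1 ≠ univ := fun h' => hlast (h' ▸ mem_univ _)
  have memI1 : ∀ i : Fin n, i.castSucc ∈ I1 ↔ i ∈ I := by
    intro i
    simp only [I1, Finset.mem_map]
    constructor
    · rintro ⟨i', hi', he⟩
      have : i' = i := Fin.castSucc_injective _ he
      exact this ▸ hi'
    · intro hi; exact ⟨i, hi, rfl⟩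
  obtain ⟨k, hk, k', hk', hkk'⟩ := T.connected I1 hI1 hI1'
  obtain ⟨i, hi, rfl⟩ := Finset.mem_map.mp hk
  have hi : i ∈ I := hi
  refine Fin.lastCases ?_ (fun j hj hkk' => ?_) k' hk' hkk'
  · intro _ hb
    -- `i` is adjacent to the last index; enlarge `I1` by the last index
    let I2 : Finset (Fin (n + 1)) := insert (Fin.last n) I1
    have hI2 : I2.Nonempty := ⟨Fin.last n, Finset.mem_insert_self _ _⟩
    have hI2' : I2 ≠ univ := by
      intro h'
      apply hI'
      rw [Finset.eq_univ_iff_forall]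
      intro j
      have : j.castSucc ∈ I2 := h' ▸ mem_univ _
      rcases Finset.mem_insert.mp this with h1 | h1
      · exact absurd h1 (Fin.castSucc_lt_last j).ne
      · exact (memI1 j).mp h1
    obtain ⟨k2, hk2, k3, hk3, hk23⟩ := T.connected I2 hI2 hI2'
    have hk3l : k3 ≠ Fin.last n := fun h' => hk3 (h' ▸ Finset.mem_insert_self _ _)
    obtain ⟨j, rfl⟩ : ∃ j : Fin n, j.castSucc = k3 := by
      refine Fin.lastCases (fun h' => absurd rfl h') (fun j _ => ⟨j, rfl⟩) k3 hk3l
    have hj : j ∉ I := fun h' => hk3 (Finset.mem_insert_of_mem ((memI1 j).mpr h'))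
    rcases Finset.mem_insert.mp hk2 with h1 | h1
    · -- `k2` is the last index
      subst h1
      refine ⟨i, hi, j, hj, ?_⟩
      have hij : i ≠ j := fun h' => hj (h' ▸ hi)
      have hbj : cb T j ≠ 0 := by
        unfold cb; rw [a_symm T]; exact hk23
      exact (ca_pos_of_cb T h i j hij hb hbj).ne'
    · obtain ⟨i', hi', rfl⟩ := Finset.mem_map.mp h1
      exact ⟨i', hi', j, hj, key i' hi' j hj hk23⟩
  · have hj' : j ∉ I := fun h' => hj ((memI1 j).mpr h')
    exact ⟨i, hi, j, hj', key i hi j hj' hkk'⟩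

include h in
theorem ca_mulVec : (Matrix.of (ca T)).mulVec (fun i => T.m i.castSucc) = 0 := by
  funext i
  simp only [Matrix.mulVec, dotProduct, Matrix.of_apply, Pi.zero_apply]
  have hwl := T.w_pos (Fin.last n)
  have r1 := row_sum T i.castSucc
  have r2 := row_sum T (Fin.last n)
  rw [Fin.sum_univ_castSucc] at r1 r2
  rw [h.2] at r2
  have e : ∀ j : Fin n, ca T i j * T.m j.castSucc =
      T.a i.castSucc j.castSucc * T.m j.castSucc +
        cs T i * (T.a (Fin.last n) j.castSucc * T.m j.castSucc) := by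
    intro j
    have h1 := ca_eq T h j i
    rw [ca_symm T h i j, h1, a_symm T j.castSucc i.castSucc]
    unfold cb
    rw [a_symm T (Fin.last n) j.castSucc]
    ring
  rw [Finset.sum_congr rfl fun j _ => e j, Finset.sum_add_distrib, ← Finset.mul_sum]
  have h3 := cs_mul T i
  unfold cb at h3
  have e2 : ∑ j : Fin n, T.a (Fin.last n) j.castSucc * T.m j.castSucc =
      T.w (Fin.last n) * T.m (Fin.last n) := by linarith
  rw [e2]
  have : cs T i * (T.w (Fin.last n) * T.m (Fin.last n)) =
      T.a i.castSucc (Fin.last n) * T.m (Fin.last n) := by rw [← h3]; ring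
  rw [this]; linarith

include h in
theorem cw_dvd_ca (i j : Fin n) : cw T i ∣ ca T i j := by
  rw [ca_eq T h]
  refine dvd_add ((cw_dvd_w T i).trans (T.w_dvd _ _)) ?_
  exact Dvd.dvd.mul_right ((cw_dvd_w T i).trans (T.w_dvd _ _)) _

include h in
theorem n_pos : 0 < n := by
  by_contra hn
  have hn0 : n = 0 := by omega
  subst hn0
  have r := row_sum T (Fin.last 0)
  rw [Fin.sum_univ_castSucc] at r
  simp only [Finset.univ_eq_empty, Finset.sum_empty, zero_add] at r
  have hm := T.m_pos (Fin.last 0)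
  have hw := T.w_pos (Fin.last 0)
  rw [h.2] at r
  have : T.w (Fin.last 0) * T.m (Fin.last 0) = 0 := by linarith
  rcases mul_eq_zero.mp this with h1 | h1 <;> omega

/-- The contraction of a numerical type along a `(-1)`-index in last position. -/
def contraction : Models.NumericalType n where
  m i := T.m i.castSucc
  a := Matrix.of (ca T)
  w := cw T
  g := cg T
  pos := n_pos T h
  m_pos i := T.m_pos _
  w_pos := cw_pos T
  g_nonneg := cg_nonneg T
  symm := by
    ext i j
    simp only [Matrix.transpose_apply, Matrix.of_apply]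
    exact ca_symm T h j i
  offDiag_nonneg i j hij := ca_offDiag_nonneg T h i j hij
  connected I hI hI' := ca_connected T h I hI hI'
  mulVec_m := ca_mulVec T h
  w_dvd i j := cw_dvd_ca T h i j

theorem isContraction_contraction : T.IsContraction (contraction T h) :=
  ⟨fun _ => rfl, fun _ _ => rfl, fun _ => rfl, fun _ => rfl⟩

include h in
/-- the contribution of the index `i` to the genus, before and after contraction -/
theorem contribution_eq (i : Fin n) :
    2 * cw T i * (cg T i - 1) - ca T i i =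
      2 * T.w i.castSucc * (T.g i.castSucc - 1) - T.a i.castSucc i.castSucc - cb T i := by
  have hwl := T.w_pos (Fin.last n)
  have h1 := cq_mul T i
  have h2 := ca_mul T h i i
  have h3 := crho_mul T i
  have : (2 * cw T i * (cg T i - 1) - ca T i i -
      (2 * T.w i.castSucc * (T.g i.castSucc - 1) - T.a i.castSucc i.castSucc - cb T i)) *
      T.w (Fin.last n) = 0 := by
    rw [cg_def]
    linear_combination h1 - h2 + (2 * (T.g i.castSucc - 1) * T.w (Fin.last n)) * h3
  have := (mul_eq_zero.mp this).resolve_right hwl.ne'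
  linarith

include h in
/-- **S2175, second part**: a contraction has the same genus. -/
theorem genus_eq_of_isContraction (T' : Models.NumericalType n) (hT' : T.IsContraction T') :
    T'.genus = T.genus := by
  have g1 := two_genus T'
  have g2 := two_genus T
  have hw : ∀ i, T'.w i = cw T i := hT'.2.2.1
  have hg : ∀ i, T'.g i = cg T i := by
    intro i
    have := hT'.2.2.2 i
    rw [hw i] at this
    exact this
  have e1 : ∀ i : Fin n, T'.m i * (2 * T'.w i * (T'.g i - 1) - T'.a i i) =
      T.m i.castSucc * (2 * T.w i.castSucc * (T.g i.castSucc - 1) - T.a i.castSucc i.castSucc) -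
        T.a (Fin.last n) i.castSucc * T.m i.castSucc := by
    intro i
    have ha : T'.a i i = ca T i i := hT'.2.1 i i
    rw [hT'.1 i, hw i, hg i, ha, contribution_eq T h i]
    unfold cb
    rw [a_symm T (Fin.last n) i.castSucc]
    ring
  rw [Finset.sum_congr rfl fun i _ => e1 i, Finset.sum_sub_distrib] at g1
  rw [Fin.sum_univ_castSucc, h.1, h.2] at g2
  have r := row_sum T (Fin.last n)
  rw [Fin.sum_univ_castSucc, h.2] at r
  linarith

end Groth.Agent.R2.H16.NumContr
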