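import Groth.Agent.R2.H16NumContr2

/-!
# helper16: permuting the indices of a numerical type; `Pic ≃ ℤ` for genus `≤ 0` (S2181)
-/

set_option autoImplicit false

namespace Groth.Agent.R2.H16.NumPerm

open Finset Models Groth.Agent.Lib.Helper11

variable {n : ℕ} (T : Models.NumericalType n) (σ : Equiv.Perm (Fin n))

/-- the numerical type with indices permuted by `σ` -/
def perm : Models.NumericalType n where
  m i := T.m (σ i)
  a := Matrix.of fun i j => T.a (σ i) (σ j)
  w i := T.w (σ i)
  g i := T.g (σ i)
  pos := T.pos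
  m_pos i := T.m_pos _
  w_pos i := T.w_pos _
  g_nonneg i := T.g_nonneg _
  symm := by
    ext i j
    simp only [Matrix.transpose_apply, Matrix.of_apply]
    exact a_symm T _ _
  offDiag_nonneg i j hij := T.offDiag_nonneg _ _ (fun h => hij (σ.injective h))
  connected I hI hI' := by
    classical
    have h1 : (I.map σ.toEmbedding).Nonempty := hI.map
    have h2 : I.map σ.toEmbedding ≠ univ := by
      intro h
      apply hI'
      rw [Finset.eq_univ_iff_forall]
      intro i
      have : σ i ∈ I.map σ.toEmbedding := h ▸ mem_univ _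
      obtain ⟨i', hi', he⟩ := Finset.mem_map.mp this
      have : i' = i := σ.injective he
      exact this ▸ hi'
    obtain ⟨k, hk, k', hk', hkk'⟩ := T.connected _ h1 h2
    obtain ⟨i, hi, rfl⟩ := Finset.mem_map.mp hk
    refine ⟨i, hi, σ.symm k', ?_, ?_⟩
    · intro hj
      apply hk'
      exact Finset.mem_map.mpr ⟨σ.symm k', hj, by simp⟩
    · simpa using hkk'
  mulVec_m := by
    funext i
    simp only [Matrix.mulVec, dotProduct, Matrix.of_apply, Pi.zero_apply]
    rw [Equiv.sum_comp σ (fun k => T.a (σ i) k * T.m k)]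
    exact row_sum T (σ i)
  w_dvd i j := T.w_dvd _ _

@[simp] theorem perm_m (i : Fin n) : (perm T σ).m i = T.m (σ i) := rfl
@[simp] theorem perm_a (i j : Fin n) : (perm T σ).a i j = T.a (σ i) (σ j) := rfl
@[simp] theorem perm_w (i : Fin n) : (perm T σ).w i = T.w (σ i) := rfl
@[simp] theorem perm_g (i : Fin n) : (perm T σ).g i = T.g (σ i) := rfl

theorem genus_perm : (perm T σ).genus = T.genus := by
  unfold NumericalType.genus
  simp only [perm_m, perm_a, perm_w, perm_g]
  rw [Equiv.sum_comp σ (fun k => T.m k * T.w k * (T.g k - 1)),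
    Equiv.sum_comp σ (fun k => T.m k * T.a k k)]

theorem isMinusOne_perm (i : Fin n) : (perm T σ).IsMinusOne i ↔ T.IsMinusOne (σ i) := Iff.rfl

theorem picMatrix_perm (i j : Fin n) :
    (perm T σ).picMatrix i j = T.picMatrix (σ i) (σ j) := rfl

/-- `Pic` is invariant under permutation of the indices. -/
noncomputable def picEquiv : T.Pic ≃ₗ[ℤ] (perm T σ).Pic := by
  refine Submodule.Quotient.equiv _ _ (LinearEquiv.funCongrLeft ℤ ℤ σ) ?_
  apply le_antisymm
  · rintro _ ⟨_, ⟨v, rfl⟩, rfl⟩
    refine ⟨fun j => v (σ j), ?_⟩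
    funext i
    change ((perm T σ).picMatrix.mulVec fun j => v (σ j)) i = (T.picMatrix.mulVec v) (σ i)
    simp only [Matrix.mulVec, dotProduct, picMatrix_perm]
    exact Equiv.sum_comp σ (fun k => T.picMatrix (σ i) k * v k)
  · rintro _ ⟨v, rfl⟩
    refine ⟨T.picMatrix.mulVec (fun k => v (σ.symm k)), ⟨_, rfl⟩, ?_⟩
    funext i
    change (T.picMatrix.mulVec fun k => v (σ.symm k)) (σ i) = ((perm T σ).picMatrix.mulVec v) i
    simp only [Matrix.mulVec, dotProduct, picMatrix_perm]
    rw [← Equiv.sum_comp σ (fun k => T.picMatrix (σ i) k * v (σ.symm k))]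
    simp

/-- A group which embeds into a copy of `ℤ` with image containing the doubles is a copy of `ℤ`. -/
theorem nonempty_equiv_int {G H : Type*} [AddCommGroup G] [AddCommGroup H] (f : G →+ H)
    (hf : Function.Injective f) (e : H ≃+ ℤ) (h2 : ∀ y : H, ∃ x : G, 2 • y = f x) :
    Nonempty (G ≃+ ℤ) := by
  let φ : G →ₗ[ℤ] ℤ := (e.toAddMonoidHom.comp f).toIntLinearMap
  have hφ : Function.Injective φ := e.injective.comp hf
  have hprin : (LinearMap.range φ).IsPrincipal := inferInstance
  set a := Submodule.IsPrincipal.generator (LinearMap.range φ) with ha_def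
  have hspan : Submodule.span ℤ {a} = LinearMap.range φ :=
    Submodule.IsPrincipal.span_singleton_generator _
  have ha : a ≠ 0 := by
    intro h0
    obtain ⟨x, hx⟩ := h2 (e.symm 1)
    have h3 : φ x = 2 := by
      change e (f x) = 2
      rw [← hx, map_nsmul, AddEquiv.apply_symm_apply]; rfl
    have h4 : (2 : ℤ) ∈ LinearMap.range φ := ⟨x, h3⟩
    rw [← hspan, h0, Submodule.span_singleton_eq_bot.mpr rfl, Submodule.mem_bot] at h4
    norm_num at h4
  have e1 : G ≃ₗ[ℤ] LinearMap.range φ := LinearEquiv.ofInjective φ hφ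
  have e2 : LinearMap.range φ ≃ₗ[ℤ] Submodule.span ℤ {a} := LinearEquiv.ofEq _ _ hspan.symm
  have e3 : ℤ ≃ₗ[ℤ] Submodule.span ℤ {a} := LinearEquiv.toSpanNonzeroSingleton ℤ ℤ a ha
  exact ⟨((e1.trans e2).trans e3.symm).toAddEquiv⟩

/-- **S2181**: genus `≤ 0` implies `Pic ≃ ℤ`. -/
theorem pic_equiv_int : ∀ (n : ℕ) (T : Models.NumericalType n), T.genus ≤ 0 →
    Nonempty (T.Pic ≃+ ℤ) := by
  intro n
  induction n with
  | zero => intro T; exact absurd T.pos (lt_irrefl 0)
  | succ k ih =>
    intro T hg
    by_cases hk : k = 0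
    · subst hk
      -- one index: the matrix is zero
      let _ : Unique (Fin (0 + 1)) := inferInstanceAs (Unique (Fin 1))
      have h0 : ∀ i j : Fin (0 + 1), T.a i j = 0 := by
        intro i j
        have hi : i = Fin.last 0 := Subsingleton.elim _ _
        have hj : j = Fin.last 0 := Subsingleton.elim _ _
        subst hi hj
        have r := row_sum T (Fin.last 0)
        rw [Fin.sum_univ_castSucc] at r
        simp only [Finset.univ_eq_empty, Finset.sum_empty, zero_add] at r
        rcases mul_eq_zero.mp r with h | h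
        · exact h
        · exact absurd h (T.m_pos _).ne'
      have hM : T.picMatrix = 0 := by
        ext i j
        simp [NumericalType.picMatrix, h0 i j]
      have hbot : LinearMap.range (Matrix.mulVecLin T.picMatrix) = ⊥ := by
        rw [hM, Matrix.mulVecLin_zero, LinearMap.range_zero]
      exact ⟨((Submodule.quotEquivOfEqBot _ hbot).trans
        (LinearEquiv.funUnique (Fin (0 + 1)) ℤ ℤ)).toAddEquiv⟩
    · have hn : 1 < k + 1 := by omega
      have hnotmin : ¬ T.IsMinimal := fun hmin => by
        have := one_le_genus_of_isMinimal T hmin hn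
        omega
      unfold NumericalType.IsMinimal at hnotmin
      push Not at hnotmin
      obtain ⟨i, hi⟩ := hnotmin
      let σ : Equiv.Perm (Fin (k + 1)) := Equiv.swap i (Fin.last k)
      have hσ : (perm T σ).IsMinusOne (Fin.last k) := by
        rw [isMinusOne_perm]
        simpa [σ] using hi
      let T' := NumContr.contraction (perm T σ) hσ
      have hc : (perm T σ).IsContraction T' := NumContr.isContraction_contraction _ hσ
      have hg' : T'.genus ≤ 0 := by
        rw [NumContr.genus_eq_of_isContraction _ hσ T' hc, genus_perm]; exact hg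
      obtain ⟨e⟩ := ih T' hg'
      obtain ⟨e'⟩ := nonempty_equiv_int (NumContr.picMap (perm T σ) hσ T' hc).toAddMonoidHom
        (NumContr.picMap_injective _ hσ T' hc) e (fun y => NumContr.two_smul_mem _ hσ T' hc y)
      exact ⟨(picEquiv T σ).toAddEquiv.trans e'⟩

end Groth.Agent.R2.H16.NumPerm
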