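import Groth.Agent.Lib.Helper11Genus
import Groth.Agent.Lib.Helper11Graph

/-!
# helper16: the spanning-tree inequality for numerical types, and `topGenus ≤ genus`

For a numerical type `T` and a root `r` with `w r` minimal:
`Σ_{i ≠ j} a_ij ≥ 2 Σ_{i ≠ r} w_i + (2 e - 2 n + 2) w_r`.
-/

set_option autoImplicit false

namespace Groth.Agent.R2.H16.NumTree

open Finset Models Groth.Agent.Lib.Helper11

variable {n : ℕ} (T : Models.NumericalType n)

/-- sum of `a i j` over ordered pairs `i ≠ j` inside `I` -/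
def SS (I : Finset (Fin n)) : ℤ := ∑ i ∈ I, ∑ j ∈ I.erase i, T.a i j

/-- number of ordered adjacent pairs inside `I` -/
def DD (I : Finset (Fin n)) : ℤ := ∑ i ∈ I, (((I.erase i).filter fun j => T.a i j ≠ 0).card : ℤ)

/-- sum of the `w i` over `I` minus the root -/
def WW (r : Fin n) (I : Finset (Fin n)) : ℤ := ∑ i ∈ I.erase r, T.w i

/-- the inductive invariant -/
def Inv (r : Fin n) (I : Finset (Fin n)) : Prop :=
  2 * WW T r I + (DD T I - 2 * (I.card : ℤ) + 2) * T.w r ≤ SS T I

theorem inv_singleton (r : Fin n) : Inv T r {r} := by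
  simp [Inv, SS, DD, WW]

theorem a_ge_w {i j : Fin n} (hij : i ≠ j) (ha : T.a i j ≠ 0) : T.w j ≤ T.a i j := by
  have hpos : 0 < T.a i j := lt_of_le_of_ne (T.offDiag_nonneg i j hij) (Ne.symm ha)
  have hd : T.w j ∣ T.a i j := by rw [a_symm T i j]; exact T.w_dvd j i
  exact Int.le_of_dvd hpos hd

theorem SS_insert (I : Finset (Fin n)) (j : Fin n) (hj : j ∉ I) :
    SS T (insert j I) = SS T I + 2 * ∑ i ∈ I, T.a i j := by
  unfold SS
  rw [Finset.sum_insert hj, Finset.erase_insert hj]
  have h1 : ∀ i ∈ I, ∑ k ∈ (insert j I).erase i, T.a i k = T.a i j + ∑ k ∈ I.erase i, T.a i k := by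
    intro i hi
    have hne : j ≠ i := fun h => hj (h ▸ hi)
    rw [Finset.erase_insert_of_ne hne, Finset.sum_insert (by simp [hj])]
  rw [Finset.sum_congr rfl h1, Finset.sum_add_distrib]
  have h2 : ∑ k ∈ I, T.a j k = ∑ i ∈ I, T.a i j :=
    Finset.sum_congr rfl fun k _ => a_symm T j k
  rw [h2]; ring

theorem DD_insert (I : Finset (Fin n)) (j : Fin n) (hj : j ∉ I) :
    DD T (insert j I) = DD T I + 2 * ((I.filter fun i => T.a i j ≠ 0).card : ℤ) := by
  unfold DD
  rw [Finset.sum_insert hj, Finset.erase_insert hj]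
  have h1 : ∀ i ∈ I, ((((insert j I).erase i).filter fun k => T.a i k ≠ 0).card : ℤ) =
      (if T.a i j ≠ 0 then 1 else 0) + (((I.erase i).filter fun k => T.a i k ≠ 0).card : ℤ) := by
    intro i hi
    have hne : j ≠ i := fun h => hj (h ▸ hi)
    rw [Finset.erase_insert_of_ne hne, Finset.filter_insert]
    split_ifs with h
    · rw [Finset.card_insert_of_notMem (by simp [hj])]; push_cast; ring
    · simp
  rw [Finset.sum_congr rfl h1, Finset.sum_add_distrib]
  have h2 : (I.filter fun k => T.a j k ≠ 0) = I.filter fun i => T.a i j ≠ 0 := by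
    ext k; simp [a_symm T j k]
  have h3 : ∑ i ∈ I, (if T.a i j ≠ 0 then (1 : ℤ) else 0) =
      ((I.filter fun i => T.a i j ≠ 0).card : ℤ) := by
    rw [Finset.sum_ite, Finset.sum_const_zero, add_zero, Finset.sum_const]; simp
  rw [h2, h3]; ring

theorem WW_insert (r : Fin n) (I : Finset (Fin n)) (hr : r ∈ I) (j : Fin n) (hj : j ∉ I) :
    WW T r (insert j I) = WW T r I + T.w j := by
  unfold WW
  have hne : j ≠ r := fun h => hj (h ▸ hr)
  rw [Finset.erase_insert_of_ne hne, Finset.sum_insert (by simp [hj])]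
  ring

theorem inv_insert (r : Fin n) (hr : ∀ i, T.w r ≤ T.w i) (I : Finset (Fin n)) (hrI : r ∈ I)
    (hI : Inv T r I) (j : Fin n) (hj : j ∉ I) (i₀ : Fin n) (hi₀ : i₀ ∈ I) (ha : T.a i₀ j ≠ 0) :
    Inv T r (insert j I) := by
  unfold Inv at hI ⊢
  rw [SS_insert T I j hj, DD_insert T I j hj, WW_insert T r I hrI j hj,
    Finset.card_insert_of_notMem hj]
  set N : ℤ := ((I.filter fun i => T.a i j ≠ 0).card : ℤ) with hN
  have hN1 : 1 ≤ N := by
    have : 0 < (I.filter fun i => T.a i j ≠ 0).card :=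
      Finset.card_pos.mpr ⟨i₀, by simp [hi₀, ha]⟩
    rw [hN]; exact_mod_cast this
  -- the new edges
  have h1 : N * T.w j ≤ ∑ i ∈ I, T.a i j := by
    have h2 : ∑ i ∈ I, T.a i j = ∑ i ∈ I.filter (fun i => T.a i j ≠ 0), T.a i j := by
      rw [Finset.sum_filter]
      refine Finset.sum_congr rfl fun i _ => ?_
      split_ifs with h
      · rfl
      · push Not at h; exact h
    rw [h2, hN, ← nsmul_eq_mul]
    refine Finset.card_nsmul_le_sum _ _ _ fun i hi => ?_
    rw [Finset.mem_filter] at hi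
    have hne : i ≠ j := fun h => hj (h ▸ hi.1)
    exact a_ge_w T hne hi.2
  have h3 : (N - 1) * T.w r ≤ (N - 1) * T.w j :=
    mul_le_mul_of_nonneg_left (hr j) (by linarith)
  push_cast
  nlinarith

theorem inv_univ (r : Fin n) (hr : ∀ i, T.w r ≤ T.w i) : Inv T r univ := by
  classical
  have key : ∀ k : ℕ, ∀ I : Finset (Fin n), r ∈ I → (univ \ I).card = k → Inv T r I →
      Inv T r univ := by
    intro k
    induction k with
    | zero =>
      intro I _ hk hI
      have : I = univ := by
        rw [Finset.card_eq_zero, Finset.sdiff_eq_empty_iff_subset] at hk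
        exact Finset.univ_subset_iff.mp hk
      rwa [this] at hI
    | succ k ih =>
      intro I hrI hk hI
      have hne : I ≠ univ := by
        rintro rfl
        simp at hk
      obtain ⟨i₀, hi₀, j, hj, ha⟩ := T.connected I ⟨r, hrI⟩ hne
      refine ih (insert j I) (Finset.mem_insert_of_mem hrI) ?_
        (inv_insert T r hr I hrI hI j hj i₀ hi₀ ha)
      have : univ \ insert j I = (univ \ I).erase j := by
        ext x; simp
      rw [this, Finset.card_erase_of_mem (by simp [hj]), hk]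
      rfl
  exact key _ {r} (by simp) rfl (inv_singleton T r)

theorem DD_univ : DD T univ = 2 * (T.edgeCount : ℤ) := by
  unfold DD
  have h1 : ∀ i : Fin n, ((univ.erase i).filter fun j => T.a i j ≠ 0) =
      (dualGraph T).neighborFinset i := by
    intro i
    ext j
    simp [SimpleGraph.mem_neighborFinset, dualGraph_adj, eq_comm]
  simp_rw [h1, SimpleGraph.card_neighborFinset_eq_degree]
  have h2 := (dualGraph T).sum_degrees_eq_twice_card_edges
  rw [card_edgeFinset_dualGraph] at h2
  exact_mod_cast h2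

/-- The spanning tree inequality. -/
theorem tree_ineq (r : Fin n) (hr : ∀ i, T.w r ≤ T.w i) :
    2 * ∑ i ∈ univ.erase r, T.w i + (2 * (T.edgeCount : ℤ) - 2 * (n : ℤ) + 2) * T.w r ≤
      ∑ i, ∑ j ∈ univ.erase i, T.a i j := by
  have h := inv_univ T r hr
  unfold Inv at h
  rw [DD_univ] at h
  simpa [WW, SS] using h

/-- there is an index with minimal `w` -/
theorem exists_min_w : ∃ r : Fin n, ∀ i, T.w r ≤ T.w i := by
  have hne : (univ : Finset (Fin n)).Nonempty := ⟨⟨0, T.pos⟩, mem_univ _⟩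
  obtain ⟨r, -, hr⟩ := Finset.exists_min_image univ T.w hne
  exact ⟨r, fun i => hr i (mem_univ i)⟩

/-- `Σ_{i,j} a_ij ≤ 0` -/
theorem sum_a_nonpos : ∑ i, ∑ j, T.a i j ≤ 0 := by
  have h := qf_nonpos T (fun _ => 1)
  simpa [qf] using h

/-- **S2177**: for a minimal numerical type with at least two indices, `topGenus ≤ genus`. -/
theorem topGenus_le_genus (hmin : T.IsMinimal) (hn : 1 < n) : T.topGenus ≤ T.genus := by
  obtain ⟨r, hr⟩ := exists_min_w T
  have h1 := two_genus T
  have hg1 := one_le_genus_of_isMinimal T hmin hn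
  -- contributions are at least `κ_i`
  have h2 : ∑ i, (2 * T.w i * (T.g i - 1) - T.a i i) ≤
      ∑ i, T.m i * (2 * T.w i * (T.g i - 1) - T.a i i) := by
    refine Finset.sum_le_sum fun i _ => ?_
    have hc := contribution_nonneg T hn hmin i
    have hm := T.m_pos i
    have hk : 0 ≤ 2 * T.w i * (T.g i - 1) - T.a i i := by
      by_contra hcon
      push Not at hcon
      have := mul_neg_of_pos_of_neg hm hcon
      linarith
    nlinarith
  have h3 : ∑ i, (-(2 * T.w i) - T.a i i) ≤ ∑ i, (2 * T.w i * (T.g i - 1) - T.a i i) := by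
    refine Finset.sum_le_sum fun i _ => ?_
    have := T.g_nonneg i
    have := T.w_pos i
    nlinarith
  have h4 : ∑ i, (-(2 * T.w i) - T.a i i) = -(2 * ∑ i, T.w i) - ∑ i, T.a i i := by
    rw [Finset.sum_sub_distrib, Finset.sum_neg_distrib, Finset.mul_sum]
  have h5 : ∑ i, ∑ j, T.a i j = ∑ i, T.a i i + ∑ i, ∑ j ∈ univ.erase i, T.a i j := by
    rw [← Finset.sum_add_distrib]
    refine Finset.sum_congr rfl fun i _ => ?_
    rw [Finset.add_sum_erase _ _ (mem_univ i)]
  have h6 := sum_a_nonpos T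
  have h7 := tree_ineq T r hr
  have h8 : ∑ i, T.w i = T.w r + ∑ i ∈ univ.erase r, T.w i :=
    (Finset.add_sum_erase _ _ (mem_univ r)).symm
  have hw := T.w_pos r
  unfold NumericalType.topGenus
  by_cases he : (n : ℤ) ≤ (T.edgeCount : ℤ)
  · have h9 : ((T.edgeCount : ℤ) - n) * 1 ≤ ((T.edgeCount : ℤ) - n) * T.w r :=
      mul_le_mul_of_nonneg_left (by linarith) (by linarith)
    nlinarith
  · push Not at he
    linarith

end Groth.Agent.R2.H16.NumTree
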