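import Groth.Agent.R2.H16InvAlg
import Groth.Agent.Lib.Helper20LocFree
import Groth.Agent.Lib.Helper2QCoh
import Groth.Agent.Lib.Helper23SecTw6
import Groth.Prelude.Def_ProjUP

/-!
# Invertible modules on an affine scheme and their global sections (helper16)

For a quasi-coherent module `M` on `Spec R`:
* `hasLocGen_of_bij`: a section whose restriction to `D(f)` freely generates `Γ(M, D(f))` is a local
  generator (in the sense of `InvAlg.HasLocGen`) of the `R`-module `Γ(M, ⊤)`;
* `isInvertible_of_projective`: if `Γ(M, ⊤)` is finite projective of rank one then `M` is invertible;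
* `generatedBy_of_span`: global sections spanning `Γ(M, ⊤)` generate `M`.
-/

set_option autoImplicit false
set_option linter.style.haveILetI false
universe u

open AlgebraicGeometry CategoryTheory CategoryTheory.Limits PrimeSpectrum Opposite
open Groth.Agent.R2.H16.InvAlg

namespace Groth.Agent.R2.H16.ProjSec

variable {R : CommRingCat.{u}} (M : (Spec R).Modules)

/-- the basic open `D(f)` as an open of `Spec R`. -/
abbrev D (f : R) : (Spec R).Opens := PrimeSpectrum.basicOpen f

/-- restriction `Γ(M, ⊤) → Γ(M, D f)` as an `R`-linear map. -/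
noncomputable def ρ (f : R) : Γ(M, ⊤) →ₗ[R] Γ(M, D f) :=
  ((modulesSpecToSheaf.obj M).obj.map (D f).leTop.op).hom

instance [M.IsQuasicoherent] (f : R) : IsLocalizedModule (Submonoid.powers f) (ρ M f) :=
  (isIso_fromTildeΓ_iff_isLocalizing M).mp inferInstance f

theorem ρ_apply (f : R) (x : Γ(M, ⊤)) : ρ M f x = M.presheaf.map (D f).leTop.op x := rfl

theorem hasLocGen_of_bij [M.IsQuasicoherent] (f : R) (x : Γ(M, ⊤))
    (h : Function.Bijective (fun a : Γ(Spec R, D f) => a • M.presheaf.map (D f).leTop.op x)) :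
    HasLocGen (R := R) (N := Γ(M, ⊤)) f x :=
  hasLocGen_of_bijective_smul (A := Γ(Spec R, D f)) f (ρ M f) h

/-- a basis with one element from a free generator. -/
noncomputable def basisOfBijective {A P : Type*} [CommRing A] [AddCommGroup P] [Module A P] (e₀ : P)
    (h : Function.Bijective (fun a : A => a • e₀)) : Module.Basis (Fin 1) A P :=
  Module.Basis.ofEquivFun ((LinearEquiv.ofBijective (LinearMap.toSpanSingleton A P e₀) h).symm ≪≫ₗ
    (LinearEquiv.funUnique (Fin 1) A A).symm)

/-- a quasi-coherent module on `Spec R` whose module of global sections is finite projective of rank one is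
invertible. -/
theorem isInvertible_of_projective [M.IsQuasicoherent] [Module.Finite R Γ(M, ⊤)]
    [Module.Projective R Γ(M, ⊤)]
    (hr : ∀ p : PrimeSpectrum R, Module.rankAtStalk (R := R) Γ(M, ⊤) p = 1) :
    PicF.IsInvertible M := by
  intro p
  obtain ⟨f, hf, y, hy⟩ := exists_isFreeGen_of_projective (R := R) (N := Γ(M, ⊤)) hr p
  have hb := bijective_smul_of_isFreeGen (A := Γ(Spec R, D f)) f (ρ M f) hy
  have hU : IsAffineOpen (D f) := by
    have : D f = (Spec R).basicOpen ((Scheme.ΓSpecIso R).inv f) := (basicOpen_eq_of_affine f).symm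
    rw [this]
    exact (isAffineOpen_top (Spec R)).basicOpen _
  refine ⟨D f, hf, ⟨?_⟩⟩
  exact Groth.Agent.Lib.Helper20.LocFree.restrictIsoFreeMod M hU (basisOfBijective _ hb) ≪≫
    coproductUniqueIso (fun _ : Fin 1 => Coh.structureModule (↑(D f) : Scheme.{u}))

/-- global sections spanning `Γ(M, ⊤)` over `R` generate the quasi-coherent module `M`. -/
theorem generatedBy_of_span [M.IsQuasicoherent] {ι : Type*} (t : ι → Γ(M, ⊤))
    (h : Submodule.span R (Set.range t) = ⊤) : ProjUP.GeneratedBy M t := by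
  intro x
  have key : ∀ m ∈ Submodule.span R (Set.range t),
      M.presheaf.germ ⊤ x trivial m ∈ Submodule.span ((Spec R).presheaf.stalk x)
        (Set.range fun i => (M.presheaf.germ ⊤ x trivial).hom (t i)) := by
    intro m hm'
    induction hm' using Submodule.span_induction with
    | mem z hz =>
      obtain ⟨i, rfl⟩ := hz
      exact Submodule.subset_span ⟨i, rfl⟩
    | zero => rw [map_zero]; exact zero_mem _
    | add a b _ _ ha hb => rw [map_add]; exact add_mem ha hb
    | smul c a _ ha =>
      have h1 := Groth.Agent.Lib.Helper2.QCoh.germ_smul M x ⊤ trivial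
        (((Spec R).presheaf.map (TopologicalSpace.Opens.leTop ⊤).op) ((Scheme.ΓSpecIso R).inv c)) a
      have h2 : c • a = (((Spec R).presheaf.map (TopologicalSpace.Opens.leTop ⊤).op)
          ((Scheme.ΓSpecIso R).inv c)) • a := Scheme.Modules.smul_Spec_def c a
      rw [h2, h1]
      exact Submodule.smul_mem _ _ ha
  rw [eq_top_iff]
  intro y _
  obtain ⟨s, m, hxs, hsm⟩ := Groth.Agent.Lib.Helper2.QCoh.exists_smul_eq_germ
    (isAffineOpen_top (Spec R)) M x trivial y
  have hu : IsUnit ((Spec R).presheaf.germ ⊤ x trivial s) :=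
    ((Spec R).mem_basicOpen s x trivial).mp hxs
  have hm := key m (h ▸ Submodule.mem_top)
  obtain ⟨u, hu'⟩ := hu
  have hy : y = (u⁻¹ : ((Spec R).presheaf.stalk x)ˣ).1 • M.presheaf.germ ⊤ x trivial m := by
    rw [← hsm, ← hu', smul_smul, Units.inv_mul, one_smul]
  rw [hy]
  exact Submodule.smul_mem _ _ hm

open Groth.Agent.Lib.Helper23.SecTw Groth.Agent.Lib.Helper6 in
/-- global sections which locally generate (in the sense of `IsGen`) give local generators of `Γ(M, ⊤)`. -/
theorem hasLocGen_of_isGen [M.IsQuasicoherent] {ι : Type*} (t : ι → Γ(M, ⊤))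
    (h : ∀ x : Spec R, ∃ (V : (Spec R).Opens) (k : ι), x ∈ V ∧ IsGen M V (res M le_top (t k)))
    (p : PrimeSpectrum R) :
    ∃ f, f ∉ p.asIdeal ∧ ∃ k, HasLocGen (R := R) (N := Γ(M, ⊤)) f (t k) := by
  obtain ⟨V, k, hpV, hgen⟩ := h p
  obtain ⟨_, ⟨_, ⟨f, rfl⟩, rfl⟩, hpf, hfV⟩ :=
    PrimeSpectrum.isBasis_basic_opens.exists_subset_of_mem_open hpV V.2
  refine ⟨f, hpf, k, hasLocGen_of_bij M f (t k) ?_⟩
  have hfV' : D f ≤ V := hfV
  have h1 := hgen (D f) hfV'
  have h2 : res M hfV' (res M le_top (t k)) = M.presheaf.map (D f).leTop.op (t k) :=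
    res_res M le_top hfV' (t k)
  rw [h2] at h1
  exact h1

end Groth.Agent.R2.H16.ProjSec
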