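import Groth.Agent.R2.H16ProjSecFwd
import Groth.Agent.S3572

/-!
# Sections of projective space over an affine base from invertible quotients of `R^{n+1}` (helper16)
-/

set_option autoImplicit false
universe u
open CategoryTheory CategoryTheory.Limits AlgebraicGeometry

namespace Groth.Agent.R2.H16.ProjSecBwd

open Groth.Agent.R2.H16.InvAlg Groth.Agent.R2.H16.ProjSec Groth.Agent.R2.H16.ProjSecFwd

variable {R : Type u} [CommRing R] (n : ℕ)

theorem backward (F : Submodule R (Fin (n + 1) → R))
    (hp : Module.Projective R ((Fin (n + 1) → R) ⧸ F))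
    (hr : ∀ p : PrimeSpectrum R, Module.rankAtStalk (R := R) ((Fin (n + 1) → R) ⧸ F) p = 1) :
    ∃ s : Spec (CommRingCat.of R) ⟶ CohB1.ProjSpace n R,
      s ≫ CohB1.ProjSpace.toSpec n R = 𝟙 _ ∧ ProjUP.secKernel n R s = F := by
  let R' : CommRingCat.{u} := CommRingCat.of R
  let Qm : ModuleCat R' := ModuleCat.of R' ((Fin (n + 1) → R) ⧸ F)
  let L : (Spec R').Modules := tilde Qm
  let e : ((Fin (n + 1) → R) ⧸ F) ≃ₗ[R] Γ(L, ⊤) := (tilde.isoTop Qm).toLinearEquiv
  have hfin : Module.Finite R Γ(L, ⊤) := Module.Finite.equiv e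
  have hproj : Module.Projective R Γ(L, ⊤) := Module.Projective.of_equiv e
  have hrank : ∀ p : PrimeSpectrum R, Module.rankAtStalk (R := R) Γ(L, ⊤) p = 1 := fun p => by
    rw [← Module.rankAtStalk_eq_of_equiv e]; exact hr p
  have hL : PicF.IsInvertible L := isInvertible_of_projective (R := R') L hrank
  let sec : Fin (n + 1) → Γ(L, ⊤) := fun i => e (Submodule.Quotient.mk (Pi.single i 1))
  have hsum : ∀ x : Fin (n + 1) → R, e (Submodule.Quotient.mk x) = ∑ i, x i • sec i := by
    intro x
    have hx : x = ∑ i, x i • (Pi.single i (1 : R) : Fin (n + 1) → R) := by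
      ext j
      simp [Finset.sum_apply, Pi.single_apply]
    have h2 : ∀ y : Fin (n + 1) → R, e (Submodule.Quotient.mk y) = (e.toLinearMap.comp F.mkQ) y :=
      fun y => rfl
    conv_lhs => rw [hx]
    rw [h2, map_sum]
    refine Finset.sum_congr rfl (fun i _ => ?_)
    rw [map_smul]
    rfl
  have hspan : Submodule.span R (Set.range sec) = ⊤ := by
    rw [eq_top_iff]
    intro y _
    obtain ⟨q, rfl⟩ := e.surjective y
    obtain ⟨x, rfl⟩ := Submodule.Quotient.mk_surjective F q
    rw [hsum]
    exact Submodule.sum_mem _ (fun i _ => Submodule.smul_mem _ _ (Submodule.subset_span ⟨i, rfl⟩))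
  have hgen : ProjUP.GeneratedBy L sec := generatedBy_of_span (R := R') L sec hspan
  obtain ⟨r, hrq, τ, hτ⟩ := Groth.Agent.S3572.result n (𝟙 (Spec (CommRingCat.of R))) L hL sec hgen
  refine ⟨r, hrq, ?_⟩
  have hinj : Function.Injective (τ.hom.app ⊤) := by
    intro a b hab
    have key : ∀ c, τ.inv.app ⊤ (τ.hom.app ⊤ c) = c := by
      intro c
      rw [← ConcreteCategory.comp_apply, ← Scheme.Modules.Hom.comp_app, τ.hom_inv_id]
      rfl
    rw [← key a, hab, key b]
  ext x
  rw [mem_secKernel_iff]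
  have h1 : τ.hom.app ⊤ (∑ i, x i •
      (ProjUP.pullSec r (Twist.twistProjSpace n R 1) (ProjUP.coord n R i) :
        Γ((Scheme.Modules.pullback r).obj (Twist.twistProjSpace n R 1), ⊤))) =
      ∑ i, x i • sec i := by
    rw [map_sum]
    refine Finset.sum_congr rfl (fun i _ => ?_)
    rw [← inv_smul_eq, Scheme.Modules.Hom.app_smul, hτ i, inv_smul_eq]
  constructor
  · intro h
    rw [h, map_zero, ← hsum] at h1
    have h2 : (Submodule.Quotient.mk x : (Fin (n + 1) → R) ⧸ F) = 0 :=
      e.injective (by rw [← h1, map_zero])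
    exact (Submodule.Quotient.mk_eq_zero F).mp h2
  · intro hx
    apply hinj
    rw [h1, ← hsum, (Submodule.Quotient.mk_eq_zero F).mpr hx, map_zero, map_zero]

end Groth.Agent.R2.H16.ProjSecBwd
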