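import Groth.Prelude.Def_ProjUP
import Groth.Agent.R2.H16ProjSec
import Groth.Agent.Lib.Helper27ProjUniq4

/-!
# Sections of projective space over an affine base: the quotient `R^{n+1}/F(s)` is invertible (helper16)
-/

set_option autoImplicit false
universe u
open CategoryTheory CategoryTheory.Limits AlgebraicGeometry

namespace Groth.Agent.R2.H16.ProjSecFwd

open Groth.Agent.R2.H16.InvAlg Groth.Agent.R2.H16.ProjSec
open Groth.Agent.Lib.Helper23.SecTw Groth.Agent.Lib.Helper6 Groth.Agent.Lib.Helper27GrTildeSect

section aux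

/-- Mathlib's `R`-module structure on sections of a module over `Spec R`, as a named term. -/
noncomputable abbrev specModule (R' : CommRingCat.{u}) (M : (Spec R').Modules) (U : (Spec R').Opens) :
    Module R' Γ(M, U) := inferInstance

variable {R : Type u} [CommRing R]

/-- the same structure for `Spec (CommRingCat.of R)` (instance search does not see through
`CommRingCat.of`). -/
noncomputable instance instModSec (M : (Spec (CommRingCat.of R)).Modules)
    (U : (Spec (CommRingCat.of R)).Opens) : Module R Γ(M, U) :=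
  specModule (CommRingCat.of R) M U

/-- the `R`-module structure used by `ProjUP.secKernel` agrees with Mathlib's on global sections. -/
theorem inv_smul_eq {M : (Spec (CommRingCat.of R)).Modules} (c : R) (m : Γ(M, ⊤)) :
    ((Scheme.ΓSpecIso (CommRingCat.of R)).inv c) • m = c • m := by
  rw [show c • m = _ from Scheme.Modules.smul_Spec_def (R := CommRingCat.of R) c m]
  have h : (TopologicalSpace.Opens.leTop (⊤ : (Spec (CommRingCat.of R)).Opens)).op =
      𝟙 (Opposite.op (⊤ : (Spec (CommRingCat.of R)).Opens)) := Subsingleton.elim _ _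
  rw [h, CategoryTheory.Functor.map_id]
  rfl

variable (n : ℕ)

theorem mem_secKernel_iff (s : Spec (CommRingCat.of R) ⟶ CohB1.ProjSpace n R) (x : Fin (n + 1) → R) :
    x ∈ ProjUP.secKernel n R s ↔
      ∑ i, x i •
        (ProjUP.pullSec s (Twist.twistProjSpace n R 1) (ProjUP.coord n R i) :
        Γ((Scheme.Modules.pullback s).obj (Twist.twistProjSpace n R 1), ⊤)) = 0 := by
  let _ : Module R (ProjUP.Γm ((Scheme.Modules.pullback s).obj (Twist.twistProjSpace n R 1))) :=
    Module.compHom _ (Scheme.ΓSpecIso (CommRingCat.of R)).inv.hom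
  change Fintype.linearCombination R
    (fun i => ProjUP.pullSec s (Twist.twistProjSpace n R 1) (ProjUP.coord n R i)) x = 0 ↔ _
  rw [Fintype.linearCombination_apply]
  change ∑ i, ((Scheme.ΓSpecIso (CommRingCat.of R)).inv (x i)) •
      (ProjUP.pullSec s (Twist.twistProjSpace n R 1) (ProjUP.coord n R i) :
        Γ((Scheme.Modules.pullback s).obj (Twist.twistProjSpace n R 1), ⊤)) = 0 ↔ _
  rw [Finset.sum_congr rfl (fun i _ => inv_smul_eq (x i) _)]

end aux

section forward

variable {R : Type u} [CommRing R] (n : ℕ)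

set_option maxHeartbeats 1600000 in
theorem forward (s : Spec (CommRingCat.of R) ⟶ CohB1.ProjSpace n R) :
    Module.Projective R ((Fin (n + 1) → R) ⧸ ProjUP.secKernel n R s) ∧
      ∀ p : PrimeSpectrum R,
        Module.rankAtStalk (R := R) ((Fin (n + 1) → R) ⧸ ProjUP.secKernel n R s) p = 1 := by
  let G : Fin (n + 1) → MvPolynomial (Fin (n + 1)) R := fun i => MvPolynomial.X i
  have hG : ∀ i, G i ∈ CohB1.polyGrading n R 1 := fun i => MvPolynomial.isHomogeneous_X R i
  have hcov : ∀ y : Proj (CohB1.polyGrading n R),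
      ∃ i, G i ∉ (show ProjectiveSpectrum (CohB1.polyGrading n R) from y).asHomogeneousIdeal := by
    intro y
    obtain ⟨i, _, hi⟩ := Groth.Agent.Lib.Helper27ProjCover.exists_not_mem (CohB1.polyGrading n R) G
      (fun _ => 1) hG MvPolynomial.adjoin_range_X
      (show ProjectiveSpectrum (CohB1.polyGrading n R) from y)
    exact ⟨i, hi⟩
  let s' : Spec (CommRingCat.of R) ⟶ Proj (CohB1.polyGrading n R) := s
  let M : (Spec (CommRingCat.of R)).Modules :=
    (Scheme.Modules.pullback s).obj (Twist.twistProjSpace n R 1)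
  let t : Fin (n + 1) → Γ(M, ⊤) :=
    fun i => ProjUP.pullSec s (Twist.twistProjSpace n R 1) (ProjUP.coord n R i)
  have hqc : M.IsQuasicoherent :=
    (inferInstance : ((Scheme.Modules.pullback s').obj (GrTilde.tilde (CohB1.polyGrading n R)
      (CohB1.polyGrading n R) ((1 : ℕ) : ℤ))).IsQuasicoherent)
  have hgen : ∀ (k : Fin (n + 1)) (V : (Spec (CommRingCat.of R)).Opens)
      (_ : V ≤ s' ⁻¹ᵁ Proj.basicOpen (CohB1.polyGrading n R) (G k)),
      IsGen M V (res M le_top (t k)) :=
    fun k V hV => isGen_res_psec (CohB1.polyGrading n R) G hG s' k hV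
  have hloc := hasLocGen_of_isGen (R := CommRingCat.of R) M t (fun x => by
    obtain ⟨k, hk⟩ := hcov (s' x)
    exact ⟨s' ⁻¹ᵁ Proj.basicOpen (CohB1.polyGrading n R) (G k), k,
      (ProjectiveSpectrum.mem_basicOpen (CohB1.polyGrading n R) (G k) (s' x)).mpr hk,
      hgen k _ le_rfl⟩)
  have hspan : Submodule.span R (Set.range t) = ⊤ := span_eq_top_of_locGen (R := R) t hloc
  have hproj : Module.Projective R Γ(M, ⊤) := projective_of_locGen (R := R) t hloc
  have hrank : ∀ p : PrimeSpectrum R, Module.rankAtStalk (R := R) Γ(M, ⊤) p = 1 :=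
    rankAtStalk_eq_one_of_locGen (R := R) t hloc
  let φ : (Fin (n + 1) → R) →ₗ[R] Γ(M, ⊤) := Fintype.linearCombination R t
  have hker : ProjUP.secKernel n R s = LinearMap.ker φ := by
    ext x
    rw [mem_secKernel_iff, LinearMap.mem_ker, Fintype.linearCombination_apply]
  have hsurj : Function.Surjective φ := by
    rw [← LinearMap.range_eq_top, Fintype.range_linearCombination, hspan]
  rw [hker]
  let e := φ.quotKerEquivOfSurjective hsurj
  exact ⟨Module.Projective.of_equiv e.symm, fun p => by
    rw [Module.rankAtStalk_eq_of_equiv e]; exact hrank p⟩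

end forward

end Groth.Agent.R2.H16.ProjSecFwd
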