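import Mathlib
import Groth.Agent.Lib.Helper16TensorCmp
import Groth.Agent.R2.H16CbcFITerm

/-!
# Seesaw, algebra part (helper16)

Namespace `Groth.Agent.R2.H16.SeesawAlg`.

* `exists_comp_θ_ne_zero` : `Q` projective over `A`, `ρ : A → A'`, `ψ : Q → A'` a nonzero `A`-linear map; then some
  `φ : Q → A` has `ρ ∘ φ ≠ 0`.
* `projective_of_surjective_comp` : `Q` is projective as soon as `Hom_A(Q, -)` preserves surjections (small form).
-/

set_option autoImplicit false
set_option linter.style.haveILetI false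
set_option linter.unusedSectionVars false
universe u
open CategoryTheory

namespace Groth.Agent.R2.H16.SeesawAlg

open Groth.Agent.Lib.Helper16.TensorCmp Groth.Agent.R2.H16.CbcFITerm

variable {A A' : Type u} [CommRing A] [CommRing A'] (ρ : A →+* A')

/-- the underlying element of `A'` -/
def toA' (m : ↑(MA' ρ)) : A' := m

theorem toA'_smul (a : A) (m : ↑(MA' ρ)) : toA' ρ (a • m) = ρ a * toA' ρ m := rfl

theorem toA'_θ_one (a : A) : toA' ρ ((θ (M := MA' ρ) (1 : A')).hom a) = ρ a := by
  have h := θ_apply (M := MA' ρ) (1 : A') a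
  refine (congrArg (toA' ρ) h).trans ?_
  exact (toA'_smul ρ a _).trans (mul_one _)

theorem exists_comp_θ_ne_zero (Q : ModuleCat.{u} A) [Module.Projective A Q] (ψ : Q ⟶ MA' ρ)
    (hψ : ψ ≠ 0) : ∃ φ : Q ⟶ ModuleCat.of A A, φ ≫ θ (M := MA' ρ) (1 : A') ≠ 0 := by
  by_contra hcon
  push Not at hcon
  apply hψ
  obtain ⟨s, hs⟩ := (Module.projective_def' (R := A) (P := Q)).1 inferInstance
  ext q
  have hq : Finsupp.linearCombination A id (s q) = q := LinearMap.congr_fun hs q
  have hterm : ∀ x : Q, (s q x) • ψ.hom x = 0 := by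
    intro x
    let φx : Q ⟶ ModuleCat.of A A := ModuleCat.ofHom ((Finsupp.lapply x).comp s)
    have h1 := hcon φx
    have h2 : (φx ≫ θ (M := MA' ρ) (1 : A')).hom q = 0 := by rw [h1]; rfl
    have h3 : toA' ρ ((φx ≫ θ (M := MA' ρ) (1 : A')).hom q) = ρ (s q x) :=
      toA'_θ_one ρ (s q x)
    rw [h2] at h3
    have h4 : toA' ρ ((s q x) • ψ.hom x) = 0 := by
      rw [toA'_smul, ← h3]
      exact zero_mul _
    exact h4
  calc ψ.hom q = ψ.hom (Finsupp.linearCombination A id (s q)) := by rw [hq]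
    _ = 0 := by
      rw [Finsupp.linearCombination_apply, Finsupp.sum, map_sum]
      refine Finset.sum_eq_zero (fun x _ => ?_)
      rw [map_smul]
      exact hterm x

/-- `Q` is projective as soon as `Hom_A(Q, -)` takes the canonical surjection `A^(Q) → Q` to a surjection. -/
theorem projective_of_surjective_comp (Q : ModuleCat.{u} A)
    (h : ∀ (M : ModuleCat.{u} A) (π : M ⟶ Q), Function.Surjective π.hom →
      ∃ σ : Q ⟶ M, σ ≫ π = 𝟙 Q) : Module.Projective A Q := by
  refine Module.Projective.of_lifting_property'' (fun π hπ => ?_)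
  obtain ⟨σ, hσ⟩ := h (ModuleCat.of A (Q →₀ A)) (ModuleCat.ofHom π) hπ
  refine ⟨σ.hom, ?_⟩
  have := congrArg ModuleCat.Hom.hom hσ
  exact this

end Groth.Agent.R2.H16.SeesawAlg
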