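import Mathlib
import Groth.Agent.S2331
import Groth.Agent.Lib.Helper23ModLocal

/-!
# Composition of `Y`-blow-ups (helper87)

The section `ε_j ⊗ g^*(ε_i^{⊗ n})` of `L_j ⊗ g^*(L_i^{⊗ n})`, its locus of generation, and the
criterion `f^* ε` iso  ⟺  `f` factors through `X_ε`.
-/

set_option autoImplicit false
set_option linter.style.haveILetI false

namespace Groth.Agent.R2.H87.YBlowUp

open CategoryTheory AlgebraicGeometry TopologicalSpace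
open Groth.Agent.Lib.Helper23.SecTw Groth.Agent.Lib.Helper23.PB Groth.Agent.Lib.Helper23.GenLocus
  Groth.Agent.Lib.Helper23.Extend Groth.Agent.Lib.Helper23.ModLocal

universe u

section genLocus

variable {X : Scheme.{u}}

theorem genLocus_eq_top_iff (L : X.Modules) (s : Coh.structureModule X ⟶ L) :
    CohB1.genLocus L s = ⊤ ↔ IsIso s := by
  constructor
  · intro h
    let ι := {V : X.Opens // IsoOn s V}
    refine isIso_of_isIso_restrict s (fun V : ι => (V.1 : Scheme.{u})) (fun V => V.1.ι) ?_ ?_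
    · intro x
      have hx : x ∈ CohB1.genLocus L s := by rw [h]; trivial
      obtain ⟨V, hxV, hV⟩ := (mem_genLocus_iff L s x).mp hx
      exact ⟨⟨V, hV⟩, ⟨x, hxV⟩, rfl⟩
    · intro V
      rw [isIso_restrict_iff, Scheme.Opens.opensRange_ι]
      exact V.2
  · intro h
    rw [eq_top_iff]
    intro x _
    refine (mem_genLocus_iff L s x).mpr ⟨⊤, trivial, fun W _ => ?_⟩
    infer_instance

end genLocus

section pullback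

variable {X Y : Scheme.{u}} (f : X ⟶ Y)

theorem isIso_pullback_map_iff (L : Y.Modules) (hL : PicF.IsInvertible L)
    (s : Coh.structureModule Y ⟶ L) :
    IsIso ((Scheme.Modules.pullback f).map s) ↔ f ⁻¹ᵁ CohB1.genLocus L s = ⊤ := by
  rw [← genLocus_pullback f L hL s (pullbackUnitIso f).symm, genLocus_eq_top_iff]
  exact (isIso_comp_left_iff _ _).symm

end pullback

section main

variable {X Y Xᵢ Xⱼ : Scheme.{u}}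

theorem exists_trivialized_relAmple_comp [CompactSpace X]
    (fᵢ : Y ⟶ Xᵢ) (gᵢ : Xᵢ ⟶ X) (fⱼ : Y ⟶ Xⱼ) (gᵢⱼ : Xⱼ ⟶ Xᵢ)
    [QuasiCompact gᵢ] [QuasiCompact gᵢⱼ] (hfac : fⱼ ≫ gᵢⱼ = fᵢ)
    (Lᵢ : Xᵢ.Modules) (εᵢ : Coh.structureModule Xᵢ ⟶ Lᵢ) (hLᵢ : RelAmple.IsRelAmple gᵢ Lᵢ)
    (hεᵢ : IsIso ((Scheme.Modules.pullback fᵢ).map εᵢ))
    (Lⱼ : Xⱼ.Modules) (εⱼ : Coh.structureModule Xⱼ ⟶ Lⱼ) (hLⱼ : RelAmple.IsRelAmple gᵢⱼ Lⱼ)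
    (hεⱼ : IsIso ((Scheme.Modules.pullback fⱼ).map εⱼ)) :
    ∃ (L : Xⱼ.Modules) (ε : Coh.structureModule Xⱼ ⟶ L),
      RelAmple.IsRelAmple (gᵢⱼ ≫ gᵢ) L ∧ IsIso ((Scheme.Modules.pullback fⱼ).map ε) := by
  have hinvᵢ : PicF.IsInvertible Lᵢ := isInvertible_of_isRelAmple gᵢ Lᵢ hLᵢ
  have hinvⱼ : PicF.IsInvertible Lⱼ := isInvertible_of_isRelAmple gᵢⱼ Lⱼ hLⱼ
  obtain ⟨n, hnpos, hn⟩ := Groth.Agent.S2331.result gᵢⱼ gᵢ Lⱼ Lᵢ hLⱼ hLᵢ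
  have hinvK : PicF.IsInvertible (CohB1.tensorPow Lᵢ n) := isInvertible_tensorPow hinvᵢ n
  have hinvK' : PicF.IsInvertible ((Scheme.Modules.pullback gᵢⱼ).obj (CohB1.tensorPow Lᵢ n)) :=
    isInvertible_pullback gᵢⱼ _ hinvK
  let σ : Coh.structureModule Xᵢ ⟶ CohB1.tensorPow Lᵢ n := SecTwist.powHom εᵢ n
  let τ : Coh.structureModule Xⱼ ⟶ (Scheme.Modules.pullback gᵢⱼ).obj (CohB1.tensorPow Lᵢ n) :=
    (pullbackUnitIso gᵢⱼ).symm.hom ≫ (Scheme.Modules.pullback gᵢⱼ).map σ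
  refine ⟨CohB1.tensorMod Lⱼ ((Scheme.Modules.pullback gᵢⱼ).obj (CohB1.tensorPow Lᵢ n)),
    SecTwist.tmulHom εⱼ τ, hn n le_rfl, ?_⟩
  rw [isIso_pullback_map_iff fⱼ _ (isInvertible_tensorMod hinvⱼ hinvK'),
    genLocus_tmulHom hinvⱼ hinvK' εⱼ τ, genLocus_pullback gᵢⱼ _ hinvK σ,
    genLocus_powHom hinvᵢ εᵢ n hnpos]
  have h1 : fⱼ ⁻¹ᵁ CohB1.genLocus Lⱼ εⱼ = ⊤ := (isIso_pullback_map_iff fⱼ Lⱼ hinvⱼ εⱼ).mp hεⱼ
  have h2 : fᵢ ⁻¹ᵁ CohB1.genLocus Lᵢ εᵢ = ⊤ := (isIso_pullback_map_iff fᵢ Lᵢ hinvᵢ εᵢ).mp hεᵢ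
  rw [← hfac] at h2
  ext y
  have hy1 : y ∈ fⱼ ⁻¹ᵁ CohB1.genLocus Lⱼ εⱼ := by rw [h1]; trivial
  have hy2 : y ∈ (fⱼ ≫ gᵢⱼ) ⁻¹ᵁ CohB1.genLocus Lᵢ εᵢ := by rw [h2]; trivial
  constructor
  · intro _; trivial
  · intro _
    exact ⟨hy1, hy2⟩

end main

end Groth.Agent.R2.H87.YBlowUp
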