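import Mathlib
import Groth.Prelude.Def_Coh
import Groth.Prelude.Def_CurvBase
import Groth.Agent.S7618

/-!
# Global functions of a proper connected reduced scheme over a field (helper89)

* `hh0Equiv`, `hh0Equiv_smul`: `H^0(X, M) ≃+ M(X)`, compatible with global functions
  (as in helper27's `Helper27PnSections`, restated here to keep imports light).
* `finite_Γ`: `Γ(X, O_X)` is finite over `k` as soon as `H^0(X, O_X)` is.
* `isField_Γ`: `Γ(X, O_X)` is a field when `X` is connected, reduced and `Γ(X, O_X)` is finite over `k`.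
* `finrank_dvd_of_isField`, `finrank_dvd_HH`, `finrank_dvd_residueField`: `[Γ(X, O_X) : k]` divides
  `dim_k H^i(X, F)` and `[κ(x) : k]`.
-/

set_option autoImplicit false
set_option linter.style.haveILetI false
universe u
open CategoryTheory CategoryTheory.Limits AlgebraicGeometry TopologicalSpace Opposite

namespace Groth.Agent.R2.H89.GammaField

/-- `H^0(X, M) ≃+ M(X)`. -/
noncomputable def hh0Equiv (X : Scheme.{u}) (M : X.Modules) :
    Coh.HH X M 0 ≃+ (Coh.toAb M).obj.obj (op (⊤ : Opens X)) :=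
  Sheaf.H.equiv₀ (Coh.toAb M) Limits.isTerminalTop

theorem hh0Equiv_smul (X : Scheme.{u}) (M : X.Modules) (r : Coh.Γtop X) (x : Coh.HH X M 0) :
    hh0Equiv X M (r • x) = (Coh.smulAb M r).hom.app (op ⊤) (hh0Equiv X M x) := by
  change Sheaf.H.equiv₀ _ _ (Sheaf.H.map (Coh.smulAb M r) 0 x) = _
  rw [← Sheaf.H.equiv₀_naturality]
  rfl

theorem resTop_top (X : Scheme.{u}) (r : Coh.Γtop X) : Coh.resTop X (op ⊤) r = r := by
  change (X.ringCatSheaf.obj.map (𝟙 (op ⊤))).hom r = r
  rw [CategoryTheory.Functor.map_id]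
  rfl

/-- a vector space over a field `K` finite-dimensional or not: `[K : k]` divides `dim_k V`. -/
theorem finrank_dvd_of_isField {k K V : Type*} [Field k] [CommRing K] [Algebra k K] (hK : IsField K)
    [AddCommGroup V] [Module K V] [Module k V]
    (h : ∀ (a : k) (v : V), a • v = algebraMap k K a • v) :
    Module.finrank k K ∣ Module.finrank k V := by
  letI := hK.toField
  haveI : IsScalarTower k K V := IsScalarTower.of_algebraMap_smul (fun a v => (h a v).symm)
  exact Dvd.intro _ (Module.finrank_mul_finrank k K V)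

variable (k : Type u) [Field k] (X : Scheme.{u}) [X.Over (Spec (CommRingCat.of k))]

/-- `H^0(X, O_X) ≃ₗ[k] Γ(X, O_X)`. -/
theorem nonempty_h0LinearEquiv :
    letI : Algebra k Γ(X, ⊤) := (Coh.toGlobal (X ↘ Spec (CommRingCat.of k))).toAlgebra
    Nonempty (Coh.HH X (Coh.structureModule X) 0 ≃ₗ[k] Γ(X, ⊤)) := by
  letI : Algebra k Γ(X, ⊤) := (Coh.toGlobal (X ↘ Spec (CommRingCat.of k))).toAlgebra
  let e₀ := hh0Equiv X (Coh.structureModule X)
  let g : Coh.HH X (Coh.structureModule X) 0 →ₗ[k] Γ(X, ⊤) :=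
    { toFun := fun x => (show Γ(X, ⊤) from e₀ x)
      map_add' := fun x y => map_add e₀ x y
      map_smul' := fun a x => by
        change (show Γ(X, ⊤) from e₀ (Coh.toGlobal (X ↘ Spec (CommRingCat.of k)) a • x)) = _
        rw [hh0Equiv_smul, Coh.smulAb_app, resTop_top]
        rfl }
  refine ⟨LinearEquiv.ofBijective g ⟨fun x y h => e₀.injective h, fun s => ⟨e₀.symm s, ?_⟩⟩⟩
  change (show Γ(X, ⊤) from e₀ (e₀.symm s)) = s
  rw [AddEquiv.apply_symm_apply]

/-- `Γ(X, O_X)` is finite over `k` as soon as `H^0(X, O_X)` is. -/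
theorem finite_Γ (hfin : Module.Finite k (Coh.HH X (Coh.structureModule X) 0)) :
    letI : Algebra k Γ(X, ⊤) := (Coh.toGlobal (X ↘ Spec (CommRingCat.of k))).toAlgebra
    Module.Finite k Γ(X, ⊤) := by
  letI : Algebra k Γ(X, ⊤) := (Coh.toGlobal (X ↘ Spec (CommRingCat.of k))).toAlgebra
  obtain ⟨e⟩ := nonempty_h0LinearEquiv k X
  exact Module.Finite.equiv e

/-- `dim_k H^0(X, O_X) = dim_k Γ(X, O_X)`. -/
theorem finrank_HH_zero :
    letI : Algebra k Γ(X, ⊤) := (Coh.toGlobal (X ↘ Spec (CommRingCat.of k))).toAlgebra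
    Module.finrank k (Coh.HH X (Coh.structureModule X) 0) = Module.finrank k Γ(X, ⊤) := by
  letI : Algebra k Γ(X, ⊤) := (Coh.toGlobal (X ↘ Spec (CommRingCat.of k))).toAlgebra
  obtain ⟨e⟩ := nonempty_h0LinearEquiv k X
  exact e.finrank_eq

/-- `Γ(X, O_X)` is a field when `X` is connected and reduced and `Γ(X, O_X)` is finite over `k`. -/
theorem isField_Γ [ConnectedSpace X] [IsReduced X]
    (hfin : letI : Algebra k Γ(X, ⊤) := (Coh.toGlobal (X ↘ Spec (CommRingCat.of k))).toAlgebra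
      Module.Finite k Γ(X, ⊤)) : IsField Γ(X, ⊤) := by
  letI : Algebra k Γ(X, ⊤) := (Coh.toGlobal (X ↘ Spec (CommRingCat.of k))).toAlgebra
  have h : IsField ↥(integralClosure k Γ(X, ⊤)) := Groth.Agent.S7618.result k X
  haveI : Algebra.IsIntegral k Γ(X, ⊤) := Algebra.IsIntegral.of_finite k _
  have htop : integralClosure k Γ(X, ⊤) = ⊤ := integralClosure_eq_top_iff.2 inferInstance
  have h' : IsField ↥(⊤ : Subalgebra k Γ(X, ⊤)) := htop ▸ h
  exact MulEquiv.isField h' (Subalgebra.topEquiv (R := k) (A := Γ(X, ⊤))).symm.toMulEquiv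

/-- `[Γ(X, O_X) : k]` divides `dim_k H^i(X, F)`. -/
theorem finrank_dvd_HH (hK : IsField Γ(X, ⊤)) (F : X.Modules) (i : ℕ) :
    letI : Algebra k Γ(X, ⊤) := (Coh.toGlobal (X ↘ Spec (CommRingCat.of k))).toAlgebra
    Module.finrank k Γ(X, ⊤) ∣ Module.finrank k (Coh.HH X F i) := by
  letI : Algebra k Γ(X, ⊤) := (Coh.toGlobal (X ↘ Spec (CommRingCat.of k))).toAlgebra
  letI : Module Γ(X, ⊤) (Coh.HH X F i) := Coh.moduleΓtop F i
  exact finrank_dvd_of_isField hK (fun a v => rfl)

/-- `[Γ(X, O_X) : k]` divides `[κ(x) : k]`. -/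
theorem finrank_dvd_residueField (hK : IsField Γ(X, ⊤)) (x : X) :
    letI : Algebra k Γ(X, ⊤) := (Coh.toGlobal (X ↘ Spec (CommRingCat.of k))).toAlgebra
    letI := Curv2.resAlgebra k X x
    Module.finrank k Γ(X, ⊤) ∣ Module.finrank k (X.residueField x) := by
  letI : Algebra k Γ(X, ⊤) := (Coh.toGlobal (X ↘ Spec (CommRingCat.of k))).toAlgebra
  letI := Curv2.resAlgebra k X x
  let ρ : Γ(X, ⊤) →+* X.residueField x :=
    (X.residue x).hom.comp (X.presheaf.germ ⊤ x trivial).hom
  letI : Module Γ(X, ⊤) (X.residueField x) := Module.compHom _ ρ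
  exact finrank_dvd_of_isField hK (fun a v => rfl)

end Groth.Agent.R2.H89.GammaField
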