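import Mathlib
import Groth.Prelude.Def_Coh
import Groth.Prelude.Def_CohB1
import Groth.Agent.S0047
import Groth.Agent.Lib.Helper27PnSections

/-!
# Global sections of coherent modules supported at closed points (helper62)

For a coherent module `M` on a locally Noetherian scheme whose support consists of closed points:
* `exists_extension` : every section over an open extends to any bigger open (flasqueness);
* `exists_global_section_germ` : every germ is the germ of a global section;
* `nontrivial_HH_zero_of_mem_support` : if the support is nonempty, `H^0(X, M) ≠ 0`.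
-/

set_option autoImplicit false
set_option linter.style.haveILetI false
universe u

open CategoryTheory CategoryTheory.Limits AlgebraicGeometry TopologicalSpace Opposite

namespace Groth.Agent.R2.H62.CurveH0

open Groth.Agent.Lib.Helper23.Support Groth.Agent.Lib.Helper23.AffVanish

variable {X : Scheme.{u}}

/-- sections of a coherent module supported at closed points extend to bigger opens -/
theorem exists_extension [IsLocallyNoetherian X] (M : X.Modules) (hM : Coh.IsCoh M)
    (h0 : ∀ x ∈ CohB1.support M, IsClosed ({x} : Set X)) {W' W : X.Opens} (hle : W' ≤ W)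
    (s : Γ(M, W')) : ∃ c : Γ(M, W), M.presheaf.map (homOfLE hle).op c = s := by
  let T : Set X := CohB1.support M ∩ (W' : Set X)
  have hTc : IsClosed T :=
    Groth.Agent.S0047.isClosed_of_subset_support M hM h0 T Set.inter_subset_left
  let W₂ : X.Opens := W ⊓ ⟨Tᶜ, hTc.isOpen_compl⟩
  have hcov : W ≤ W' ⊔ W₂ := by
    intro x hx
    by_cases hxT : x ∈ T
    · left; exact hxT.2
    · right; exact ⟨hx, hxT⟩
  have hdis : ∀ x ∈ W' ⊓ W₂, x ∉ CohB1.support M := by
    intro x hx hxZ
    exact hx.2.2 ⟨hxZ, hx.1⟩
  have hz : (ab' M).obj.map (homOfLE (inf_le_left : W' ⊓ W₂ ≤ W')).op s =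
      (ab' M).obj.map (homOfLE (inf_le_right : W' ⊓ W₂ ≤ W₂)).op 0 := by
    rw [map_zero]
    exact eq_zero_of_disjoint_support M (W' ⊓ W₂) hdis _
  obtain ⟨c, hc1, -⟩ := Groth.Agent.Lib.Helper16.SectSupp.glue2 (ab' M) W' W₂ W hle
    inf_le_left hcov s 0 hz
  exact ⟨c, hc1⟩

/-- every germ of a coherent module supported at closed points is the germ of a global section -/
theorem exists_global_section_germ [IsLocallyNoetherian X] (M : X.Modules) (hM : Coh.IsCoh M)
    (h0 : ∀ x ∈ CohB1.support M, IsClosed ({x} : Set X)) (x : X) (q : M.presheaf.stalk x) :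
    ∃ T : Γ(M, ⊤), M.presheaf.germ ⊤ x trivial T = q := by
  obtain ⟨V, hxV, t, rfl⟩ := M.presheaf.exists_germ_eq q
  obtain ⟨c, hc⟩ := exists_extension M hM h0 (le_top : V ≤ ⊤) t
  refine ⟨c, ?_⟩
  rw [← hc]
  exact (TopCat.Presheaf.germ_res_apply M.presheaf (homOfLE le_top) x hxV c).symm

/-- a coherent module supported at closed points with nonempty support has a nonzero global section -/
theorem nontrivial_HH_zero_of_mem_support [IsLocallyNoetherian X] (M : X.Modules) (hM : Coh.IsCoh M)
    (h0 : ∀ x ∈ CohB1.support M, IsClosed ({x} : Set X)) (x : X) (hx : x ∈ CohB1.support M) :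
    Nontrivial (Coh.HH X M 0) := by
  have hx' : Nontrivial (M.presheaf.stalk x) := not_subsingleton_iff_nontrivial.1 hx
  obtain ⟨q, hq⟩ := exists_ne (0 : M.presheaf.stalk x)
  obtain ⟨T, hT⟩ := exists_global_section_germ M hM h0 x q
  have hT0 : T ≠ 0 := by
    rintro rfl
    apply hq
    rw [← hT, map_zero]
  let e := Groth.Agent.Lib.Helper27PnSections.hh0Equiv X M
  refine ⟨⟨e.symm T, 0, fun h => hT0 ?_⟩⟩
  have := congrArg e h
  rwa [AddEquiv.apply_symm_apply, map_zero] at this

/-- if `H^0` vanishes, the support is empty -/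
theorem support_eq_empty_of_subsingleton [IsLocallyNoetherian X] (M : X.Modules) (hM : Coh.IsCoh M)
    (h0 : ∀ x ∈ CohB1.support M, IsClosed ({x} : Set X)) [Subsingleton (Coh.HH X M 0)] :
    CohB1.support M = ∅ := by
  rw [Set.eq_empty_iff_forall_notMem]
  intro x hx
  haveI := nontrivial_HH_zero_of_mem_support M hM h0 x hx
  exact false_of_nontrivial_of_subsingleton (Coh.HH X M 0)

end Groth.Agent.R2.H62.CurveH0
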