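import Mathlib

/-!
# Alternating sums of dimensions along a long exact sequence (helper62)
-/

set_option autoImplicit false
set_option linter.style.haveILetI false
set_option linter.unusedSectionVars false
universe u₁ u₂ u₃ v

namespace Groth.Agent.R2.H62.EulerAlg

variable {k : Type v} [Field k] {A : ℕ → Type u₁} {B : ℕ → Type u₂} {C : ℕ → Type u₃}
  [∀ i, AddCommGroup (A i)] [∀ i, Module k (A i)] [∀ i, AddCommGroup (B i)] [∀ i, Module k (B i)]
  [∀ i, AddCommGroup (C i)] [∀ i, Module k (C i)]
  [∀ i, Module.Finite k (A i)] [∀ i, Module.Finite k (B i)] [∀ i, Module.Finite k (C i)]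
  (f : ∀ i, A i →ₗ[k] B i) (g : ∀ i, B i →ₗ[k] C i) (δ : ∀ i, C i →ₗ[k] A (i + 1))
  (hf0 : Function.Injective (f 0))
  (hfg : ∀ i, Function.Exact (f i) (g i)) (hgδ : ∀ i, Function.Exact (g i) (δ i))
  (hδf : ∀ i, Function.Exact (δ i) (f (i + 1)))

include hfg in
lemma finrank_B (i : ℕ) : (Module.finrank k (B i) : ℤ) =
    Module.finrank k (LinearMap.range (f i)) + Module.finrank k (LinearMap.range (g i)) := by
  have h := LinearMap.finrank_range_add_finrank_ker (g i)
  rw [LinearMap.exact_iff.1 (hfg i)] at h
  omega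

include hgδ in
lemma finrank_C (i : ℕ) : (Module.finrank k (C i) : ℤ) =
    Module.finrank k (LinearMap.range (g i)) + Module.finrank k (LinearMap.range (δ i)) := by
  have h := LinearMap.finrank_range_add_finrank_ker (δ i)
  rw [LinearMap.exact_iff.1 (hgδ i)] at h
  omega

include hδf in
lemma finrank_A_succ (i : ℕ) : (Module.finrank k (A (i + 1)) : ℤ) =
    Module.finrank k (LinearMap.range (δ i)) + Module.finrank k (LinearMap.range (f (i + 1))) := by
  have h := LinearMap.finrank_range_add_finrank_ker (f (i + 1))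
  rw [LinearMap.exact_iff.1 (hδf i)] at h
  omega

include hf0 in
lemma finrank_A_zero : (Module.finrank k (A 0) : ℤ) = Module.finrank k (LinearMap.range (f 0)) := by
  rw [LinearMap.finrank_range_of_inj hf0]

include hf0 hfg hgδ hδf in
/-- The alternating sum of `dim B - dim A - dim C` up to degree `d` along a long exact sequence is
`(-1)^(d+1)` times the rank of the `d`-th connecting map. -/
theorem sum_alternating (d : ℕ) :
    ∑ i ∈ Finset.range (d + 1), (-1 : ℤ) ^ i * ((Module.finrank k (B i) : ℤ) -
      Module.finrank k (A i) - Module.finrank k (C i)) =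
      -((-1 : ℤ) ^ d * Module.finrank k (LinearMap.range (δ d))) := by
  induction d with
  | zero =>
    rw [Finset.sum_range_one, finrank_B f g hfg 0, finrank_C g δ hgδ 0, finrank_A_zero f hf0]
    ring
  | succ d ih =>
    rw [Finset.sum_range_succ, ih, finrank_B f g hfg (d + 1), finrank_C g δ hgδ (d + 1),
      finrank_A_succ f δ hδf d]
    ring

include hf0 hfg hgδ hδf in
/-- Additivity of the truncated Euler characteristic along a long exact sequence whose `A`-terms
vanish in degree `d + 1`. -/
theorem sum_alternating_eq (d : ℕ) (hA : Subsingleton (A (d + 1))) :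
    ∑ i ∈ Finset.range (d + 1), (-1 : ℤ) ^ i * (Module.finrank k (B i) : ℤ) =
      ∑ i ∈ Finset.range (d + 1), (-1 : ℤ) ^ i * (Module.finrank k (A i) : ℤ) +
      ∑ i ∈ Finset.range (d + 1), (-1 : ℤ) ^ i * (Module.finrank k (C i) : ℤ) := by
  have h := sum_alternating f g δ hf0 hfg hgδ hδf d
  have h0 : Module.finrank k (LinearMap.range (δ d)) = 0 := by
    haveI : Subsingleton (LinearMap.range (δ d)) :=
      ⟨fun a b => Subtype.ext (Subsingleton.elim _ _)⟩
    exact Module.finrank_zero_of_subsingleton
  rw [h0] at h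
  simp only [mul_sub, Finset.sum_sub_distrib] at h
  simp only [Nat.cast_zero, mul_zero, neg_zero] at h
  linarith

end Groth.Agent.R2.H62.EulerAlg
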