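import Mathlib
import Groth.Prelude.Def_Coh
import Groth.Prelude.Def_CurvBase
import Groth.Prelude.Def_FGA
import Groth.Agent.R2.H62CohDelta
import Groth.Agent.R2.H62EulerAlg

/-!
# Additivity of the Euler characteristic of `O_X`-modules over a field (helper62)

Given finite-dimensionality of all cohomology groups of the three terms of a short exact sequence
and vanishing in large degrees, `Curv2.euler` and `FGA.eulerCharLE` are additive.
-/

set_option autoImplicit false
set_option linter.style.haveILetI false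
universe u

open CategoryTheory CategoryTheory.Limits AlgebraicGeometry

namespace Groth.Agent.R2.H62.CohLES

variable (k : Type u) [Field k] {X : Scheme.{u}} [X.Over (Spec (CommRingCat.of k))]

/-- The truncated alternating sum of the dimensions of cohomology groups. -/
lemma eulerCharLE_def (F : X.Modules) (d : ℕ) : FGA.eulerCharLE k X F d =
    ∑ i ∈ Finset.range (d + 1), (-1 : ℤ) ^ i * (Module.finrank k (Coh.HH X F i) : ℤ) := rfl

/-- `Curv2.euler` is the truncated sum when cohomology vanishes above degree `d`. -/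
lemma euler_eq_eulerCharLE (F : X.Modules) (d : ℕ)
    (hvan : ∀ i, d < i → Subsingleton (Coh.HH X F i)) :
    Curv2.euler k X F = FGA.eulerCharLE k X F d := by
  unfold Curv2.euler
  rw [eulerCharLE_def]
  apply finsum_eq_sum_of_support_subset
  intro i hi
  rw [Function.mem_support] at hi
  rw [Finset.coe_range, Set.mem_Iio]
  by_contra hcon
  apply hi
  haveI := hvan i (by omega)
  rw [Module.finrank_zero_of_subsingleton]
  simp

variable {S : ShortComplex X.Modules} (hS : S.ShortExact)

include hS in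
/-- Additivity of the truncated Euler characteristic. -/
theorem eulerCharLE_additive
    (h₁ : ∀ i, Module.Finite k (Coh.HH X S.X₁ i)) (h₂ : ∀ i, Module.Finite k (Coh.HH X S.X₂ i))
    (h₃ : ∀ i, Module.Finite k (Coh.HH X S.X₃ i)) (d : ℕ)
    (hvan : Subsingleton (Coh.HH X S.X₁ (d + 1))) :
    FGA.eulerCharLE k X S.X₂ d = FGA.eulerCharLE k X S.X₁ d + FGA.eulerCharLE k X S.X₃ d := by
  rw [eulerCharLE_def, eulerCharLE_def, eulerCharLE_def]
  exact Groth.Agent.R2.H62.EulerAlg.sum_alternating_eq
    (A := fun i => Coh.HH X S.X₁ i) (B := fun i => Coh.HH X S.X₂ i) (C := fun i => Coh.HH X S.X₃ i)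
    (fun i => HHmapA k S.f i) (fun i => HHmapA k S.g i) (fun i => δA hS k i)
    (HHmap_f_zero_injective hS) (fun i => exact_f_g hS i) (fun i => exact_g_δ hS i)
    (fun i => exact_δ_f hS i) d hvan

include hS in
/-- Additivity of the Euler characteristic `Curv2.euler`. -/
theorem euler_additive
    (h₁ : ∀ i, Module.Finite k (Coh.HH X S.X₁ i)) (h₂ : ∀ i, Module.Finite k (Coh.HH X S.X₂ i))
    (h₃ : ∀ i, Module.Finite k (Coh.HH X S.X₃ i)) (d : ℕ)
    (hv₁ : ∀ i, d < i → Subsingleton (Coh.HH X S.X₁ i))
    (hv₂ : ∀ i, d < i → Subsingleton (Coh.HH X S.X₂ i))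
    (hv₃ : ∀ i, d < i → Subsingleton (Coh.HH X S.X₃ i)) :
    Curv2.euler k X S.X₂ = Curv2.euler k X S.X₁ + Curv2.euler k X S.X₃ := by
  rw [euler_eq_eulerCharLE k S.X₁ d hv₁, euler_eq_eulerCharLE k S.X₂ d hv₂,
    euler_eq_eulerCharLE k S.X₃ d hv₃]
  exact eulerCharLE_additive k hS h₁ h₂ h₃ d (hv₁ (d + 1) (by omega))

end Groth.Agent.R2.H62.CohLES
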