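import Mathlib
import Groth.Prelude.Def_Coh
import Groth.Prelude.Def_CurvBase
import Groth.Agent.R2.H62CohEuler
import Groth.Agent.Lib.Helper23AffOpen4

/-!
# Euler characteristic on proper schemes over a field, against the finiteness theorem (helper62)

Everything here is stated against a hypothesis `HFin k X` of the exact shape of the finiteness
theorem for proper schemes (S0002) so that the corresponding rows become one-liners once that theorem
is available.
-/

set_option autoImplicit false
set_option linter.style.haveILetI false
universe u

open CategoryTheory CategoryTheory.Limits AlgebraicGeometry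

namespace Groth.Agent.R2.H62.CurveCore

variable (k : Type u) [Field k] (X : Scheme.{u}) [X.Over (Spec (CommRingCat.of k))]

/-- The conclusion of the finiteness theorem for `X` over the field `k`. -/
def HFin : Prop :=
  ∀ (M : X.Modules), Coh.IsCoh M → ∀ n : ℕ, Module.Finite k (Coh.HH X M n)

variable {k X}

/-- Additivity of the Euler characteristic on a quasi-compact quasi-separated scheme over a field,
given finiteness of coherent cohomology. -/
theorem euler_additive_of_hfin [CompactSpace X] [QuasiSeparatedSpace X] (hfin : HFin k X)
    (S : ShortComplex X.Modules) (hS : S.ShortExact)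
    (h₁ : Coh.IsCoh S.X₁) (h₂ : Coh.IsCoh S.X₂) (h₃ : Coh.IsCoh S.X₃) :
    Curv2.euler k X S.X₂ = Curv2.euler k X S.X₁ + Curv2.euler k X S.X₃ := by
  obtain ⟨d, hd⟩ := Groth.Agent.Lib.Helper23.AffVanish.exists_bound_HH (X := X)
  exact Groth.Agent.R2.H62.CohLES.euler_additive k hS (hfin _ h₁) (hfin _ h₂) (hfin _ h₃) d
    (fun i hi => hd _ h₁.1 i hi.le) (fun i hi => hd _ h₂.1 i hi.le) (fun i hi => hd _ h₃.1 i hi.le)

end Groth.Agent.R2.H62.CurveCore
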