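import Mathlib
import Groth.Prelude.Def_Coh
import Groth.Prelude.Def_Pic
import Groth.Prelude.Def_CohB1
import Groth.Prelude.Def_CurvBase
import Groth.Agent.S1526
import Groth.Agent.R2.H62CurveCore
import Groth.Agent.R2.H62CurveCoker

/-!
# Degrees of invertible modules on proper curves, against the finiteness theorem (helper62)

`deg_eq_add_finrank`: for a nonzero map `φ : N ⟶ L` of invertible modules on a proper integral curve
`deg L = deg N + dim_k H^0(X, coker φ)`.
-/

set_option autoImplicit false
set_option linter.style.haveILetI false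
universe u

open CategoryTheory CategoryTheory.Limits AlgebraicGeometry TopologicalSpace Opposite Order

namespace Groth.Agent.R2.H62.CurveCore

open Groth.Agent.R2.H62.CurveInv

variable {k : Type u} [Field k] {X : Scheme.{u}} [X.Over (Spec (CommRingCat.of k))]

theorem compactSpace_of_isProper (k : Type u) [Field k] (X : Scheme.{u})
    [X.Over (Spec (CommRingCat.of k))] [IsProper (X ↘ Spec (CommRingCat.of k))] : CompactSpace X :=
  QuasiCompact.compactSpace_of_compactSpace (X ↘ Spec (CommRingCat.of k))

theorem quasiSeparatedSpace_of_isProper (k : Type u) [Field k] (X : Scheme.{u})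
    [X.Over (Spec (CommRingCat.of k))] [IsProper (X ↘ Spec (CommRingCat.of k))] :
    QuasiSeparatedSpace X :=
  quasiSeparatedSpace_of_quasiSeparated (X ↘ Spec (CommRingCat.of k))

/-- the short exact sequence `0 → N → L → coker φ → 0` of a monomorphism -/
theorem shortExact_cokernel {N L : X.Modules} (φ : N ⟶ L) [Mono φ] :
    (ShortComplex.mk φ (cokernel.π φ) (cokernel.condition φ)).ShortExact :=
  ShortComplex.ShortExact.mk' (ShortComplex.exact_cokernel φ) inferInstance inferInstance

/-- Euler characteristic of a coherent module with zero-dimensional support -/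
theorem euler_eq_finrank_of_dim_zero [IsProper (X ↘ Spec (CommRingCat.of k))]
    (Q : X.Modules) (hQ : Coh.IsCoh Q) (hsupp : topologicalKrullDim (CohB1.support Q) ≤ 0) :
    Curv2.euler k X Q = Module.finrank k (Coh.HH X Q 0) := by
  rw [Groth.Agent.R2.H62.CohLES.euler_eq_eulerCharLE k Q 0
    (fun i hi => Groth.Agent.S1526.result k X Q hQ hsupp i hi),
    Groth.Agent.R2.H62.CohLES.eulerCharLE_def]
  simp

/-- **Degree formula**: for a nonzero map `φ : N ⟶ L` of invertible modules on a proper integral curve,
`deg L = deg N + dim_k H^0(X, coker φ)`. -/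
theorem deg_eq_add_finrank [IsIntegral X] [IsProper (X ↘ Spec (CommRingCat.of k))]
    (hdim : topologicalKrullDim X ≤ 1) (hfin : HFin k X)
    {N L : X.Modules} (hN : PicF.IsInvertible N) (hL : PicF.IsInvertible L) (φ : N ⟶ L)
    (h : φ ≠ 0) :
    Curv2.deg k X L 1 = Curv2.deg k X N 1 + Module.finrank k (Coh.HH X (cokernel φ) 0) := by
  haveI := compactSpace_of_isProper k X
  haveI := quasiSeparatedSpace_of_isProper k X
  haveI : Mono φ := mono_of_ne_zero hN hL φ h
  have hcN := isCoh_of_isInvertible hN
  have hcL := isCoh_of_isInvertible hL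
  have hcQ := isCoh_cokernel hcN hcL φ
  have hadd := euler_additive_of_hfin hfin _ (shortExact_cokernel φ) hcN hcL hcQ
  have hQ := euler_eq_finrank_of_dim_zero (k := k) (cokernel φ) hcQ
    (dim_support_cokernel_le_zero hdim hN hL φ h)
  simp only at hadd
  unfold Curv2.deg
  rw [hadd, hQ]
  ring

end Groth.Agent.R2.H62.CurveCore
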