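import Mathlib
import Groth.Prelude.Def_Coh
import Groth.Prelude.Def_Pic
import Groth.Prelude.Def_CohB1
import Groth.Prelude.Def_CurvBase
import Groth.Agent.R2.H62CurveDeg
import Groth.Agent.R2.H62CurveH0
import Groth.Agent.Lib.Helper7TopDim

/-!
# Degree inequalities for maps of invertible modules on proper curves (helper62)

Against the finiteness hypothesis `HFin k X`:
* `deg_le_and_isIso` : a nonzero map `N ⟶ L` of invertible modules on a proper integral curve has
  `deg N ≤ deg L`, with equality only if it is an isomorphism.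
* consequences for sections `s : O_X ⟶ L`.
-/

set_option autoImplicit false
set_option linter.style.haveILetI false
universe u

open CategoryTheory CategoryTheory.Limits AlgebraicGeometry TopologicalSpace Opposite Order

namespace Groth.Agent.R2.H62.CurveCore

open Groth.Agent.R2.H62.CurveInv Groth.Agent.R2.H62.CurveH0
open Groth.Agent.Lib.Helper4.NormDelta

variable {k : Type u} [Field k] {X : Scheme.{u}} [X.Over (Spec (CommRingCat.of k))]

/-- a closed subset of dimension `≤ 0` of a scheme consists of closed points -/
theorem isClosed_singleton_of_support_dim_le_zero (M : X.Modules)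
    (hcl : IsClosed (CohB1.support M))
    (hsupp : topologicalKrullDim (CohB1.support M) ≤ 0) (x : X) (hx : x ∈ CohB1.support M) :
    IsClosed ({x} : Set X) := by
  have h1 : IsClosed ({⟨x, hx⟩} : Set (CohB1.support M)) :=
    Groth.Agent.Lib.Helper7.TopDim.isClosed_singleton_of_dim_le_zero hsupp ⟨x, hx⟩
  have h2 := hcl.isClosedEmbedding_subtypeVal.isClosedMap _ h1
  simpa using h2

/-- a monomorphism with vanishing cokernel stalks is an isomorphism -/
theorem isIso_of_mono_of_support_cokernel_eq_empty {N L : X.Modules} (φ : N ⟶ L) [Mono φ]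
    (h : CohB1.support (cokernel φ) = ∅) : IsIso φ := by
  rw [Groth.Agent.Lib.Helper20.ZClosLib.isIso_iff_stalk_bijective]
  intro x
  refine ⟨Groth.Agent.Lib.Helper23.StalkLin.stalkLin_injective φ x, ?_⟩
  intro m
  have hsub : Subsingleton ((cokernel φ).presheaf.stalk x) := by
    by_contra hns
    have : x ∈ CohB1.support (cokernel φ) := hns
    rw [h] at this
    exact this
  have hex := Groth.Agent.Lib.Helper23.StalkLin.stalkLin_exact _ (shortExact_cokernel φ) x
  have h0 : stalkLin (cokernel.π φ) x m = 0 := Subsingleton.elim _ _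
  obtain ⟨z, hz⟩ := (hex m).1 h0
  exact ⟨z, hz⟩

/-- **Degree inequality**: a nonzero map `N ⟶ L` of invertible modules on a proper integral curve has
`deg N ≤ deg L`, with equality only if it is an isomorphism. -/
theorem deg_le_and_isIso [IsIntegral X] [IsProper (X ↘ Spec (CommRingCat.of k))]
    (hdim : topologicalKrullDim X ≤ 1) (hfin : HFin k X)
    {N L : X.Modules} (hN : PicF.IsInvertible N) (hL : PicF.IsInvertible L) (φ : N ⟶ L)
    (h : φ ≠ 0) :
    Curv2.deg k X N 1 ≤ Curv2.deg k X L 1 ∧
      (Curv2.deg k X N 1 = Curv2.deg k X L 1 → IsIso φ) := by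
  have hdeg := deg_eq_add_finrank hdim hfin hN hL φ h
  refine ⟨by rw [hdeg]; simp, fun heq => ?_⟩
  have hN' : IsLocallyNoetherian X :=
    LocallyOfFiniteType.isLocallyNoetherian (X ↘ (Spec (CommRingCat.of k)))
  haveI : Mono φ := mono_of_ne_zero hN hL φ h
  have hcQ := isCoh_cokernel (isCoh_of_isInvertible hN) (isCoh_of_isInvertible hL) φ
  have hsupp := dim_support_cokernel_le_zero hdim hN hL φ h
  have hcl : IsClosed (CohB1.support (cokernel φ)) := Groth.Agent.S0020.result X _ hcQ.2
  have h0 := isClosed_singleton_of_support_dim_le_zero (cokernel φ) hcl hsupp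
  have hfr : Module.finrank k (Coh.HH X (cokernel φ) 0) = 0 := by
    have : (Module.finrank k (Coh.HH X (cokernel φ) 0) : ℤ) = 0 := by linarith
    exact_mod_cast this
  haveI : Module.Finite k (Coh.HH X (cokernel φ) 0) := hfin _ hcQ 0
  haveI : Subsingleton (Coh.HH X (cokernel φ) 0) := Module.finrank_zero_iff.1 hfr
  exact isIso_of_mono_of_support_cokernel_eq_empty φ
    (support_eq_empty_of_subsingleton (cokernel φ) hcQ h0)

end Groth.Agent.R2.H62.CurveCore
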