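import Mathlib
import Groth.Prelude.Def_Coh
import Groth.Prelude.Def_Pic
import Groth.Prelude.Def_CohB1
import Groth.Prelude.Def_CurvBase
import Groth.Agent.R2.H62CurveDeg2
import Groth.Agent.Lib.Helper23TensorUnit

/-!
# Sections of invertible modules on proper curves and degrees (helper62)

Against the finiteness hypothesis `HFin k X`, for a nonzero section `s : O_X ⟶ L` of an invertible
module on a proper integral curve: `deg L ≥ 0`; `deg L > 0` if `s` vanishes somewhere; `L ≅ O_X` if
`deg L ≤ 0`.
-/

set_option autoImplicit false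
set_option linter.style.haveILetI false
universe u

open CategoryTheory CategoryTheory.Limits AlgebraicGeometry TopologicalSpace Opposite Order

namespace Groth.Agent.R2.H62.CurveCore

variable {k : Type u} [Field k] {X : Scheme.{u}} [X.Over (Spec (CommRingCat.of k))]

theorem deg_structureModule : Curv2.deg k X (Coh.structureModule X) 1 = 0 := by
  unfold Curv2.deg
  simp

variable [IsIntegral X] [IsProper (X ↘ Spec (CommRingCat.of k))]

theorem deg_nonneg_of_section (hdim : topologicalKrullDim X ≤ 1) (hfin : HFin k X)
    {L : X.Modules} (hL : PicF.IsInvertible L) (s : Coh.structureModule X ⟶ L) (hs : s ≠ 0) :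
    0 ≤ Curv2.deg k X L 1 := by
  have := (deg_le_and_isIso hdim hfin
    (Groth.Agent.Lib.Helper23.TensorUnit.isInvertible_structureModule X) hL s hs).1
  rwa [deg_structureModule] at this

theorem isIso_of_deg_le_zero (hdim : topologicalKrullDim X ≤ 1) (hfin : HFin k X)
    {L : X.Modules} (hL : PicF.IsInvertible L) (s : Coh.structureModule X ⟶ L) (hs : s ≠ 0)
    (hdeg : Curv2.deg k X L 1 ≤ 0) : IsIso s := by
  have h := deg_le_and_isIso hdim hfin
    (Groth.Agent.Lib.Helper23.TensorUnit.isInvertible_structureModule X) hL s hs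
  rw [deg_structureModule] at h
  exact h.2 (le_antisymm h.1 hdeg)

theorem deg_pos_of_notMem_genLocus (hdim : topologicalKrullDim X ≤ 1) (hfin : HFin k X)
    {L : X.Modules} (hL : PicF.IsInvertible L) (s : Coh.structureModule X ⟶ L) (hs : s ≠ 0)
    (x : X) (hx : x ∉ CohB1.genLocus L s) : 0 < Curv2.deg k X L 1 := by
  by_contra hneg
  push Not at hneg
  haveI : IsIso s := isIso_of_deg_le_zero hdim hfin hL s hs hneg
  apply hx
  unfold CohB1.genLocus
  rw [Opens.mem_sSup]
  exact ⟨⊤, inferInstanceAs (IsIso ((Scheme.Modules.restrictFunctor (⊤ : X.Opens).ι).map s)), trivial⟩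

end Groth.Agent.R2.H62.CurveCore
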