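import Mathlib

/-!
# Zero-dimensional Noetherian T0 spaces are finite and T1 (helper98)
-/

set_option autoImplicit false

open TopologicalSpace

namespace Groth.Agent.R2.H98.FinDim

/-- a T0 space of Krull dimension `≤ 0`: every irreducible closed subset is a singleton. -/
theorem irreducibleCloseds_eq_singleton {Z : Type*} [TopologicalSpace Z] [T0Space Z]
    (h : topologicalKrullDim Z ≤ 0) (C : IrreducibleCloseds Z) (z : Z) (hz : z ∈ (C : Set Z)) :
    (C : Set Z) = {z} := by
  have hmin : ∀ C : IrreducibleCloseds Z, IsMin C := Order.krullDim_nonpos_iff_forall_isMin.1 h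
  have key : ∀ w : Z, w ∈ (C : Set Z) → closure ({w} : Set Z) = (C : Set Z) := by
    intro w hw
    let Cw : IrreducibleCloseds Z := ⟨closure {w}, isIrreducible_singleton.closure, isClosed_closure⟩
    have h1 : Cw ≤ C := closure_minimal (Set.singleton_subset_iff.2 hw) C.isClosed'
    have h2 : C ≤ Cw := hmin C h1
    exact le_antisymm h1 h2
  ext w
  constructor
  · intro hw
    have : closure ({w} : Set Z) = closure {z} := by rw [key w hw, key z hz]
    exact (inseparable_iff_closure_eq.2 this).eq
  · rintro rfl
    exact hz

/-- a Noetherian T0 space of Krull dimension `≤ 0` is finite and T1. -/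
theorem finite_and_t1 (Z : Type*) [TopologicalSpace Z] [T0Space Z] [NoetherianSpace Z]
    (h : topologicalKrullDim Z ≤ 0) : Finite Z ∧ T1Space Z := by
  have hcomp : ∀ z : Z, irreducibleComponent z = {z} := fun z =>
    irreducibleCloseds_eq_singleton h
      ⟨irreducibleComponent z, isIrreducible_irreducibleComponent, isClosed_irreducibleComponent⟩ z
      mem_irreducibleComponent
  refine ⟨?_, ⟨fun z => ?_⟩⟩
  · haveI : Finite ↥(irreducibleComponents Z) :=
      (NoetherianSpace.finite_irreducibleComponents (α := Z)).to_subtype
    refine Finite.of_injective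
      (fun z : Z => (⟨irreducibleComponent z, irreducibleComponent_mem_irreducibleComponents z⟩ :
        ↥(irreducibleComponents Z))) ?_
    intro z w hzw
    have h1 : irreducibleComponent z = irreducibleComponent w := congrArg Subtype.val hzw
    rw [hcomp z, hcomp w] at h1
    exact Set.singleton_injective h1
  · rw [← hcomp z]
    exact isClosed_irreducibleComponent

/-- a closed subset of Krull dimension `≤ 0` of a Noetherian T0 space is a finite set of closed
points. -/
theorem finite_of_isClosed {T : Type*} [TopologicalSpace T] [T0Space T] [NoetherianSpace T]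
    {Z : Set T} (hZ : IsClosed Z) (h : topologicalKrullDim Z ≤ 0) :
    Z.Finite ∧ ∀ x ∈ Z, IsClosed ({x} : Set T) := by
  obtain ⟨hfin, ht1⟩ := finite_and_t1 Z h
  refine ⟨Set.toFinite Z, fun x hx => ?_⟩
  have h1 : IsClosed ({(⟨x, hx⟩ : Z)} : Set Z) := isClosed_singleton
  have h2 := hZ.isClosedMap_subtype_val _ h1
  simpa using h2

end Groth.Agent.R2.H98.FinDim
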