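import Mathlib
import Groth.Prelude.Def_Coh
import Groth.Prelude.Def_Pic
import Groth.Prelude.Def_CohB1
import Groth.Prelude.Def_CurvBase
import Groth.Agent.R2.H98FinDim
import Groth.Agent.R2.H62CurveSec
import Groth.Agent.R2.H62CurveH0
import Groth.Agent.R2.H62CohDelta
import Groth.Agent.Lib.Helper23SecTw10
import Groth.Agent.Lib.Helper23GenNear
import Groth.Agent.Lib.Helper23Support
import Groth.Agent.Lib.Helper2ModExact
import Groth.Agent.S0020

/-!
# Generating sections on proper curves (helper98; PROJ:curves-rr package CR5)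

`X` integral, proper over a field `k`, of dimension `≤ 1`, `M` invertible, `s : O ⟶ M` a nonzero
section.  Against the finiteness hypothesis `HFin k X` we show that for some `j` there is a section
`t` of `M^{⊗ (j+1)}` which generates `M^{⊗ (j+1)}` at all zeros of `s`:
`X_s ∪ X_t = X` (`genStmt`).

Route: multiplication by `s` gives short exact sequences `0 → M^j → M^{j+1} → Q_j → 0` with `Q_j`
supported at the finitely many zeros of `s`; `H^1(Q_j) = 0`, so `h^1(M^j)` is non-increasing and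
stabilises; then `H^0(M^{j+1}) → H^0(Q_j)` is onto and a section of `Q_j` which is the class of a
local generator at every zero of `s` lifts to the desired `t`.
-/

set_option autoImplicit false
set_option linter.style.haveILetI false
universe u

open CategoryTheory CategoryTheory.Limits AlgebraicGeometry TopologicalSpace Opposite

namespace Groth.Agent.R2.H98.CurveGen

open Groth.Agent.Lib.Helper23.SecTw Groth.Agent.Lib.Helper23.GenLocus
  Groth.Agent.Lib.Helper23.Extend Groth.Agent.Lib.Helper6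

variable {X : Scheme.{u}}

/-- multiplication by a global section `s` of `L`: `F ⟶ F ⊗ L`, `m ↦ m ⊗ s`. -/
theorem exists_mulSec (F : X.Modules) {L : X.Modules} (s : Coh.structureModule X ⟶ L) :
    ∃ Φ : F ⟶ CohB1.tensorMod F L, ∀ (V : X.Opens) (m : Γ(F, V)),
      Φ.app V m = tm F L V m (sv s V) :=
  exists_hom_of_sections F (CohB1.tensorMod F L) (fun V m => tm F L V m (sv s V))
    (fun V m m' => tm_add_left F L V m m' (sv s V))
    (fun V r m => tm_smul_left F L V r m (sv s V))
    (fun U V h m => by rw [res_tm, res_sv])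

/-- multiplication by a global section `s` of `L`: `F ⟶ F ⊗ L`, `m ↦ m ⊗ s`. -/
noncomputable def mulSec (F : X.Modules) {L : X.Modules} (s : Coh.structureModule X ⟶ L) :
    F ⟶ CohB1.tensorMod F L := (exists_mulSec F s).choose

theorem mulSec_app (F : X.Modules) {L : X.Modules} (s : Coh.structureModule X ⟶ L)
    (V : X.Opens) (m : Γ(F, V)) : (mulSec F s).app V m = tm F L V m (sv s V) :=
  (exists_mulSec F s).choose_spec V m

/-- local formula for `mulSec` in frames: if `sv s W = f • e` then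
`(c • n) ⊗ s = (c * f) • (n ⊗ e)`. -/
theorem mulSec_app_frame (F : X.Modules) {L : X.Modules} (s : Coh.structureModule X ⟶ L)
    {W : X.Opens} (e : Γ(L, W)) (f : Γ(X, W)) (hs : sv s W = f • e) (n : Γ(F, W))
    {V : X.Opens} (hV : V ≤ W) (c : Γ(X, V)) :
    (mulSec F s).app V (c • res F hV n) =
      (c * resf hV f) • res (CohB1.tensorMod F L) hV (tm F L W n e) := by
  rw [mulSec_app, ← res_sv s hV, hs, res_smul, tm_smul_left, tm_smul_right, ← mul_smul, res_tm]

section glue

open Groth.Agent.Lib.Helper23.Support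

/-- a finite set of closed points is closed -/
theorem isClosed_of_finite_of_closedPoints {T : Type*} [TopologicalSpace T] {Z : Set T}
    (hZ : Z.Finite) (hcl : ∀ x ∈ Z, IsClosed ({x} : Set T)) : IsClosed Z := by
  have : Z = ⋃ x ∈ Z, {x} := by ext y; simp
  rw [this]
  exact hZ.isClosed_biUnion hcl

/-- **Gluing prescribed local sections at finitely many closed points.**  If the support of `Q` is
contained in a finite set `Z` of closed points, any family of local sections `p x` near the points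
`x ∈ Z` is induced, near each `x`, by one global section. -/
theorem exists_glue_of_finite (Q : X.Modules) (Z : Set X) (hZfin : Z.Finite)
    (hZcl : ∀ x ∈ Z, IsClosed ({x} : Set X)) (hsupp : CohB1.support Q ⊆ Z)
    (W : ∀ _ : Z, X.Opens) (hW : ∀ x : Z, (x : X) ∈ W x) (p : ∀ x : Z, Γ(Q, W x)) :
    ∃ q : Γ(Q, ⊤), ∀ x : Z, ∃ (V : X.Opens) (hV : V ≤ W x), (x : X) ∈ V ∧
      res Q le_top q = res Q hV (p x) := by
  classical
  have hcl' : ∀ x : Z, IsClosed (Z \ {(x : X)}) := fun x =>
    isClosed_of_finite_of_closedPoints (hZfin.subset Set.sdiff_subset)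
      (fun y hy => hZcl y hy.1)
  have hZc : IsClosed Z := isClosed_of_finite_of_closedPoints hZfin hZcl
  let W' : Z → X.Opens := fun x => W x ⊓ ⟨(Z \ {(x : X)})ᶜ, (hcl' x).isOpen_compl⟩
  let U₀ : X.Opens := ⟨Zᶜ, hZc.isOpen_compl⟩
  let Uι : Option Z → X.Opens := fun i => i.elim U₀ W'
  have hW'x : ∀ x : Z, (x : X) ∈ W' x := fun x => ⟨hW x, fun h => h.2 rfl⟩
  let sf : ∀ i : Option Z, Γ(Q, Uι i) := fun i =>
    match i with
    | none => 0
    | some x => res Q (inf_le_left : W' x ≤ W x) (p x)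
  -- pairwise intersections of distinct members avoid `Z`
  have hdisj : ∀ i j : Option Z, i ≠ j → ∀ y ∈ Uι i ⊓ Uι j, y ∉ CohB1.support Q := by
    intro i j hij y hy hyS
    have hyZ : y ∈ Z := hsupp hyS
    rcases i with _ | x <;> rcases j with _ | x'
    · exact hij rfl
    · exact hy.1 hyZ
    · exact hy.2 hyZ
    · have h1 : y = x := by
        by_contra hne
        exact hy.1.2 ⟨hyZ, hne⟩
      have h2 : y = x' := by
        by_contra hne
        exact hy.2.2 ⟨hyZ, hne⟩
      apply hij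
      congr 1
      exact Subtype.ext (h1.symm.trans h2)
  have hcompat : TopCat.Presheaf.IsCompatible (modSheaf Q).1 Uι sf := by
    intro i j
    by_cases hij : i = j
    · subst hij
      rfl
    · have h0 := eq_zero_of_disjoint_support Q (Uι i ⊓ Uι j) (hdisj i j hij)
      exact (h0 _).trans (h0 _).symm
  have hcover : (⊤ : X.Opens) ≤ iSup Uι := by
    intro y _
    by_cases hy : y ∈ Z
    · exact Opens.mem_iSup.2 ⟨some ⟨y, hy⟩, hW'x ⟨y, hy⟩⟩
    · exact Opens.mem_iSup.2 ⟨none, hy⟩
  obtain ⟨q, hq, -⟩ := (modSheaf Q).existsUnique_gluing' Uι ⊤ (fun i => homOfLE le_top) hcover sf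
    hcompat
  refine ⟨q, fun x => ⟨W' x, inf_le_left, hW'x x, ?_⟩⟩
  exact hq (some x)

end glue

section ne_zero

open Groth.Agent.R2.H62.CurveInv Groth.Agent.Lib.Helper4.NormDelta

/-- on an integral scheme, multiplication by a nonzero section of an invertible module on an
invertible module is nonzero. -/
theorem mulSec_ne_zero [IsIntegral X] {F M : X.Modules} (hF : PicF.IsInvertible F)
    (hM : PicF.IsInvertible M) (s : Coh.structureModule X ⟶ M) (hs : s ≠ 0) :
    mulSec F s ≠ 0 := by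
  intro h0
  apply hs
  obtain ⟨x⟩ : Nonempty X := inferInstance
  obtain ⟨W, hxW, -, e, f, hsv, -, he⟩ := exists_frame M hM s x
  obtain ⟨W', n, hxW', hn⟩ := exists_gen F hF x
  have hV₁ : W ⊓ W' ≤ W := inf_le_left
  have hV₂ : W ⊓ W' ≤ W' := inf_le_right
  have hn' := hn.mono hV₂
  have he' := he.mono hV₁
  have hsv' : sv s (W ⊓ W') = resf hV₁ f • res M hV₁ e := by
    rw [← res_sv s hV₁, hsv, res_smul]
  have h1 := mulSec_app_frame F s (res M hV₁ e) (resf hV₁ f) hsv' (res F hV₂ n) le_rfl 1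
  have hgen := isGen_tm F M (W ⊓ W') _ _ hn' he'
  have hf0 : resf hV₁ f = 0 := by
    apply (hgen (W ⊓ W') le_rfl).1
    change resf hV₁ f • res _ le_rfl _ = (0 : Γ(X, W ⊓ W')) • res _ le_rfl _
    rw [zero_smul]
    have h2 : (mulSec F s).app (W ⊓ W') ((1 : Γ(X, W ⊓ W')) • res F le_rfl (res F hV₂ n)) = 0 := by
      rw [h0]; rfl
    rw [h1, one_mul] at h2
    have h3 : resf (le_refl (W ⊓ W')) (resf hV₁ f) = resf hV₁ f := by
      rw [resf_resf]
    rw [h3] at h2
    exact h2
  have hsv0 : sv s (W ⊓ W') = 0 := by rw [hsv', hf0, zero_smul]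
  have hx : x ∈ W ⊓ W' := ⟨hxW, hxW'⟩
  have hgerm : M.presheaf.germ ⊤ x trivial (sv s ⊤) = 0 := by
    rw [← TopCat.Presheaf.germ_res_apply M.presheaf (homOfLE (le_top : W ⊓ W' ≤ ⊤)) x hx (sv s ⊤)]
    have : M.presheaf.map (homOfLE (le_top : W ⊓ W' ≤ ⊤)).op (sv s ⊤) = sv s (W ⊓ W') :=
      res_sv s le_top
    rw [this, hsv0, map_zero]
  have htop : sv s ⊤ = 0 := eq_zero_of_germ_eq_zero M hM (sv s ⊤) x trivial hgerm
  apply hom_ext_of_sv
  rw [htop, sv_zero]

end ne_zero

section cohomology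

open Groth.Agent.R2.H62.CohLES

variable (k : Type u) [Field k] [X.Over (Spec (CommRingCat.of k))]

/-- if `H^1(S.X₃) = 0`, then `H^1(S.X₁) → H^1(S.X₂)` is onto. -/
theorem HHmap_one_surjective {S : ShortComplex X.Modules} (hS : S.ShortExact)
    (_h₃ : Subsingleton (Coh.HH X S.X₃ 1)) : Function.Surjective (HHmap S.f 1) := by
  intro y
  exact (exact_f_g hS 1 y).1 (Subsingleton.elim _ _)

/-- if `H^1(S.X₃) = 0`, then `h^1(S.X₂) ≤ h^1(S.X₁)`. -/
theorem finrank_H1_le {S : ShortComplex X.Modules} (hS : S.ShortExact)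
    (h₃ : Subsingleton (Coh.HH X S.X₃ 1)) (_h₁ : Module.Finite k (Coh.HH X S.X₁ 1)) :
    Module.finrank k (Coh.HH X S.X₂ 1) ≤ Module.finrank k (Coh.HH X S.X₁ 1) :=
  LinearMap.finrank_le_finrank_of_surjective (f := HHmapA k S.f 1) (HHmap_one_surjective hS h₃)

/-- if `H^1(S.X₃) = 0` and `h^1(S.X₂) = h^1(S.X₁)` (finite), then `H^0(S.X₂) → H^0(S.X₃)` is
onto. -/
theorem HHmap_zero_surjective_of_finrank_eq {S : ShortComplex X.Modules} (hS : S.ShortExact)
    (h₃ : Subsingleton (Coh.HH X S.X₃ 1)) (_h₁ : Module.Finite k (Coh.HH X S.X₁ 1))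
    (_h₂ : Module.Finite k (Coh.HH X S.X₂ 1))
    (h : Module.finrank k (Coh.HH X S.X₁ 1) = Module.finrank k (Coh.HH X S.X₂ 1)) :
    Function.Surjective (HHmap S.g 0) := by
  have hinj : Function.Injective (HHmapA k S.f 1) :=
    (LinearMap.injective_iff_surjective_of_finrank_eq_finrank h).2 (HHmap_one_surjective hS h₃)
  intro z
  apply (exact_g_δ hS 0 z).1
  apply hinj
  change HHmap S.f 1 (δ hS 0 z) = HHmap S.f 1 0
  rw [map_zero]
  exact (exact_δ_f hS 0 (δ hS 0 z)).2 ⟨z, rfl⟩

omit [X.Over (Spec (CommRingCat.of k))] in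
/-- surjectivity on `H^0` in terms of global sections. -/
theorem app_top_surjective_of_HHmap {M N : X.Modules} (g : M ⟶ N)
    (h : Function.Surjective (HHmap g 0)) (q : Γ(N, ⊤)) : ∃ T : Γ(M, ⊤), g.app ⊤ T = q := by
  let eM := Groth.Agent.Lib.Helper27PnSections.hh0Equiv X M
  let eN := Groth.Agent.Lib.Helper27PnSections.hh0Equiv X N
  obtain ⟨y, hy⟩ := h (eN.symm q)
  refine ⟨eM y, ?_⟩
  have h1 := CategoryTheory.Sheaf.H.equiv₀_naturality (f := toAbMap g) (hT := Limits.isTerminalTop) y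
  have h2 : eN (HHmap g 0 y) = q := by rw [hy, AddEquiv.apply_symm_apply]
  exact h1.trans h2

/-- an antitone sequence of natural numbers has two equal consecutive terms. -/
theorem exists_eq_succ_of_antitone (a : ℕ → ℕ) (h : ∀ j, a (j + 1) ≤ a j) :
    ∃ j, a j = a (j + 1) := by
  by_contra hne
  push Not at hne
  have hlt : ∀ j, a (j + 1) < a j := fun j => lt_of_le_of_ne (h j) (hne j).symm
  have hbound : ∀ j, a j + j ≤ a 0 := by
    intro j
    induction j with
    | zero => simp
    | succ j ih => have := hlt j; omega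
  have := hbound (a 0 + 1)
  omega

end cohomology

section main

open Groth.Agent.R2.H62.CurveCore Groth.Agent.R2.H62.CurveInv Groth.Agent.R2.H62.CohLES

/-- a section of an invertible module on an integral scheme vanishing on a nonempty open is zero -/
theorem eq_zero_of_sv_eq_zero [IsIntegral X] {M : X.Modules} (hM : PicF.IsInvertible M)
    (s : Coh.structureModule X ⟶ M) (V : X.Opens) (x : X) (hx : x ∈ V) (h : sv s V = 0) :
    s = 0 := by
  have hgerm : M.presheaf.germ ⊤ x trivial (sv s ⊤) = 0 := by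
    rw [← TopCat.Presheaf.germ_res_apply M.presheaf (homOfLE (le_top : V ≤ ⊤)) x hx (sv s ⊤)]
    have : M.presheaf.map (homOfLE (le_top : V ≤ ⊤)).op (sv s ⊤) = sv s V := res_sv s le_top
    rw [this, h, map_zero]
  have htop : sv s ⊤ = 0 := eq_zero_of_germ_eq_zero M hM (sv s ⊤) x trivial hgerm
  apply hom_ext_of_sv
  rw [htop, sv_zero]

/-- the non-vanishing locus of a nonzero section of an invertible module on an integral scheme is
nonempty -/
theorem genLocus_ne_bot [IsIntegral X] {M : X.Modules} (hM : PicF.IsInvertible M)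
    (s : Coh.structureModule X ⟶ M) (hs : s ≠ 0) : CohB1.genLocus M s ≠ ⊥ := by
  intro hbot
  apply hs
  obtain ⟨x⟩ : Nonempty X := inferInstance
  obtain ⟨W, hxW, -, e, f, hsv, hbo, -⟩ := exists_frame M hM s x
  rw [hbot, bot_inf_eq] at hbo
  have hf : f = 0 := (basicOpen_eq_bot_iff f).1 hbo
  refine eq_zero_of_sv_eq_zero hM s W x hxW ?_
  rw [hsv, hf, zero_smul]

/-- **Lifting a generating section.**  If `H^0(M^{j+1}) → H^0(Q_j)` is onto, where `Q_j` is the
cokernel of multiplication by `s` on `M^j`, then there is a section `t` of `M^{⊗ (j+1)}` with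
`X_s ∪ X_t = X`. -/
theorem exists_section_of_surjective (k : Type u) [Field k] [X.Over (Spec (CommRingCat.of k))]
    [IsIntegral X] [IsProper (X ↘ Spec (CommRingCat.of k))]
    (hdim : topologicalKrullDim X ≤ 1) {M : X.Modules}
    (hM : PicF.IsInvertible M) (s : Coh.structureModule X ⟶ M) (hs : s ≠ 0) (j : ℕ)
    (hsurj : Function.Surjective (HHmap (cokernel.π (mulSec (CohB1.tensorPow M j) s)) 0)) :
    ∃ t : Coh.structureModule X ⟶ CohB1.tensorPow M (j + 1),
      CohB1.genLocus M s ⊔ CohB1.genLocus _ t = ⊤ := by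
  classical
  haveI := compactSpace_of_isProper k X
  haveI : IsLocallyNoetherian X :=
    LocallyOfFiniteType.isLocallyNoetherian (X ↘ (Spec (CommRingCat.of k)))
  haveI : IsNoetherian X := {}
  have hP : ∀ j, PicF.IsInvertible (CohB1.tensorPow M j) := fun j => isInvertible_tensorPow hM j
  let ψ : ∀ j, CohB1.tensorPow M j ⟶ CohB1.tensorPow M (j + 1) :=
    fun j => mulSec (CohB1.tensorPow M j) s
  have hψ : ∀ j, ψ j ≠ 0 := fun j => mulSec_ne_zero (hP j) hM s hs
  haveI hmono : ∀ j, Mono (ψ j) := fun j => mono_of_ne_zero (hP j) (hP (j + 1)) (ψ j) (hψ j)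
  let S : ∀ _ : ℕ, ShortComplex X.Modules :=
    fun j => ShortComplex.mk (ψ j) (cokernel.π (ψ j)) (cokernel.condition (ψ j))
  have hS : ∀ j, (S j).ShortExact := fun j => shortExact_cokernel (ψ j)
  have hcP : ∀ j, Coh.IsCoh (CohB1.tensorPow M j) := fun j => isCoh_of_isInvertible (hP j)
  have hcQ : ∀ j, Coh.IsCoh (cokernel (ψ j)) := fun j => isCoh_cokernel (hcP j) (hcP (j + 1)) (ψ j)
  have hdQ : ∀ j, topologicalKrullDim (CohB1.support (cokernel (ψ j))) ≤ 0 :=
    fun j => dim_support_cokernel_le_zero hdim (hP j) (hP (j + 1)) (ψ j) (hψ j)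
  -- the finite set of closed points
  set Q := cokernel (ψ j) with hQdef
  let π : CohB1.tensorPow M (j + 1) ⟶ Q := cokernel.π (ψ j)
  let Z' : Set X := (CohB1.genLocus M s : Set X)ᶜ
  have hZ'cl : IsClosed Z' := (CohB1.genLocus M s).2.isClosed_compl
  have hZ'ne : Z' ≠ Set.univ := by
    intro h
    apply genLocus_ne_bot hM s hs
    ext y
    simp only [Opens.coe_bot, Set.mem_empty_iff_false, iff_false]
    intro hy
    have : y ∈ Z' := h ▸ Set.mem_univ y
    exact this hy
  have hZ'dim : topologicalKrullDim Z' ≤ 0 :=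
    topologicalKrullDim_le_zero_of_isClosed_ne_univ hdim hZ'cl hZ'ne
  obtain ⟨hZ'fin, hZ'pt⟩ := Groth.Agent.R2.H98.FinDim.finite_of_isClosed hZ'cl hZ'dim
  have hZscl : IsClosed (CohB1.support Q) := Groth.Agent.S0020.result X Q (hcQ j).2
  obtain ⟨hZsfin, hZspt⟩ := Groth.Agent.R2.H98.FinDim.finite_of_isClosed hZscl (hdQ j)
  let Z : Set X := Z' ∪ CohB1.support Q
  have hZfin : Z.Finite := hZ'fin.union hZsfin
  have hZpt : ∀ x ∈ Z, IsClosed ({x} : Set X) := by
    rintro x (hx | hx)
    · exact hZ'pt x hx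
    · exact hZspt x hx
  -- frames at the points of `Z`
  choose W hxW _hWaff e f hsv hbo he using fun x : Z => exists_frame M hM s (x : X)
  let l : ∀ x : Z, Γ(CohB1.tensorPow M (j + 1), W x) :=
    fun x => tm (CohB1.tensorPow M j) M (W x) (pw M (W x) (e x) j) (e x)
  have hl : ∀ x : Z, IsGen (CohB1.tensorPow M (j + 1)) (W x) (l x) :=
    fun x => isGen_tm _ _ _ _ _ (isGen_pw M (W x) (e x) (he x) j) (he x)
  obtain ⟨q, hq⟩ := exists_glue_of_finite Q Z hZfin hZpt Set.subset_union_right W hxW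
    (fun x => π.app (W x) (l x))
  obtain ⟨T, hT⟩ := app_top_surjective_of_HHmap π hsurj q
  let t : Coh.structureModule X ⟶ CohB1.tensorPow M (j + 1) := secHom _ T
  refine ⟨t, ?_⟩
  -- it suffices to show that every point outside `X_s` lies in `X_t`
  rw [eq_top_iff]
  intro y _
  by_cases hy : y ∈ CohB1.genLocus M s
  · exact Or.inl hy
  right
  have hyZ : y ∈ Z := Or.inl hy
  obtain ⟨V, hVW, hyV, hqV⟩ := hq ⟨y, hyZ⟩
  set x : Z := ⟨y, hyZ⟩ with hxdef
  -- `π (T|_V - l|_V) = 0`
  set TV : Γ(CohB1.tensorPow M (j + 1), V) := res _ le_top T with hTV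
  set lV : Γ(CohB1.tensorPow M (j + 1), V) := res _ hVW (l x) with hlV
  have h1 : π.app V (TV - lV) = 0 := by
    rw [map_sub, hTV, hlV]
    have e1 : π.app V (res _ le_top T) = res Q le_top (π.app ⊤ T) := app_map π (homOfLE le_top) T
    have e2 : π.app V (res _ hVW (l x)) = res Q hVW (π.app (W x) (l x)) :=
      app_map π (homOfLE hVW) (l x)
    rw [e1, e2, hT, hqV, sub_self]
  obtain ⟨z, hz⟩ := Groth.Agent.Lib.Helper2.ModExact.exists_app_eq_of_shortExact (S j) (hS j) V (TV - lV) h1
  -- write `z = c • n|_V`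
  have hn : IsGen (CohB1.tensorPow M j) (W x) (pw M (W x) (e x) j) := isGen_pw M (W x) (e x) (he x) j
  set c : Γ(X, V) := coef hn hVW z with hc
  have hz' : z = c • res _ hVW (pw M (W x) (e x) j) := (coef_spec hn hVW z).symm
  have h2 : TV - lV = (c * resf hVW (f x)) • lV := by
    rw [← hz, hz']
    exact mulSec_app_frame (CohB1.tensorPow M j) s (e x) (f x) (hsv x) (pw M (W x) (e x) j) hVW c
  have h3 : TV = (1 + c * resf hVW (f x)) • lV := by
    rw [add_smul, one_smul, ← h2]; abel
  -- `1 + c f` is invertible near `y`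
  have hyf : y ∉ X.basicOpen (c * resf hVW (f x)) := by
    intro hmem
    rw [Scheme.basicOpen_mul] at hmem
    have h4 : y ∈ X.basicOpen (resf hVW (f x)) := hmem.2
    rw [Scheme.basicOpen_res] at h4
    have h5 : y ∈ X.basicOpen (f x) := h4.2
    rw [hbo x] at h5
    exact hy h5.1
  have hy1 : y ∈ X.basicOpen (1 : Γ(X, V)) := by
    rw [Scheme.basicOpen_of_isUnit _ isUnit_one]; exact hyV
  have hya : y ∈ X.basicOpen (1 + c * resf hVW (f x)) := mem_basicOpen_add _ _ y hy1 hyf
  set a : Γ(X, V) := 1 + c * resf hVW (f x) with ha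
  have hV₁ : X.basicOpen a ≤ V := X.basicOpen_le a
  have hgen₁ : IsGen (CohB1.tensorPow M (j + 1)) (X.basicOpen a) (res _ hV₁ TV) := by
    rw [h3, res_smul]
    have hl₁ : IsGen (CohB1.tensorPow M (j + 1)) (X.basicOpen a) (res _ hV₁ lV) := by
      rw [hlV, res_res]
      exact (hl x).mono (hV₁.trans hVW)
    exact (Groth.Agent.Lib.Helper23.GenNear.isGen_smul_iff hl₁ _).2 (RingedSpace.isUnit_res_basicOpen _ a)
  have hsvt : sv t (X.basicOpen a) = res _ hV₁ TV := by
    rw [sv_secHom, hTV, res_res]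
  exact le_genLocus_of_isGen _ t (X.basicOpen a) (hsvt ▸ hgen₁) hya

variable {k : Type u} [Field k] [X.Over (Spec (CommRingCat.of k))] [IsIntegral X]
  [IsProper (X ↘ Spec (CommRingCat.of k))]

/-- **CR5 (GenStmt).**  On an integral proper curve over a field (against `HFin`), for a nonzero
section `s` of an invertible module `M` there are `j` and a section `t` of `M^{⊗ (j+1)}` with
`X_s ∪ X_t = X`. -/
theorem genStmt (hdim : topologicalKrullDim X ≤ 1) (hfin : HFin k X) {M : X.Modules}
    (hM : PicF.IsInvertible M) (s : Coh.structureModule X ⟶ M) (hs : s ≠ 0) :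
    ∃ (j : ℕ) (t : Coh.structureModule X ⟶ CohB1.tensorPow M (j + 1)),
      CohB1.genLocus M s ⊔ CohB1.genLocus _ t = ⊤ := by
  classical
  haveI := compactSpace_of_isProper k X
  haveI : IsLocallyNoetherian X :=
    LocallyOfFiniteType.isLocallyNoetherian (X ↘ (Spec (CommRingCat.of k)))
  haveI : IsNoetherian X := {}
  have hP : ∀ j, PicF.IsInvertible (CohB1.tensorPow M j) := fun j => isInvertible_tensorPow hM j
  let ψ : ∀ j, CohB1.tensorPow M j ⟶ CohB1.tensorPow M (j + 1) :=
    fun j => mulSec (CohB1.tensorPow M j) s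
  have hψ : ∀ j, ψ j ≠ 0 := fun j => mulSec_ne_zero (hP j) hM s hs
  haveI hmono : ∀ j, Mono (ψ j) := fun j => mono_of_ne_zero (hP j) (hP (j + 1)) (ψ j) (hψ j)
  let S : ∀ _ : ℕ, ShortComplex X.Modules :=
    fun j => ShortComplex.mk (ψ j) (cokernel.π (ψ j)) (cokernel.condition (ψ j))
  have hS : ∀ j, (S j).ShortExact := fun j => shortExact_cokernel (ψ j)
  have hcP : ∀ j, Coh.IsCoh (CohB1.tensorPow M j) := fun j => isCoh_of_isInvertible (hP j)
  have hcQ : ∀ j, Coh.IsCoh (cokernel (ψ j)) := fun j => isCoh_cokernel (hcP j) (hcP (j + 1)) (ψ j)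
  have hdQ : ∀ j, topologicalKrullDim (CohB1.support (cokernel (ψ j))) ≤ 0 :=
    fun j => dim_support_cokernel_le_zero hdim (hP j) (hP (j + 1)) (ψ j) (hψ j)
  have hsub : ∀ j, Subsingleton (Coh.HH X (cokernel (ψ j)) 1) :=
    fun j => Groth.Agent.S1526.result k X _ (hcQ j) (hdQ j) 1 le_rfl
  have hfin1 : ∀ j, Module.Finite k (Coh.HH X (CohB1.tensorPow M j) 1) :=
    fun j => hfin _ (hcP j) 1
  have hle : ∀ j, Module.finrank k (Coh.HH X (CohB1.tensorPow M (j + 1)) 1) ≤
      Module.finrank k (Coh.HH X (CohB1.tensorPow M j) 1) :=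
    fun j => finrank_H1_le k (S := S j) (hS j) (hsub j) (hfin1 j)
  obtain ⟨j, hj⟩ := exists_eq_succ_of_antitone
    (fun j => Module.finrank k (Coh.HH X (CohB1.tensorPow M j) 1)) hle
  have hsurj : Function.Surjective (HHmap (cokernel.π (ψ j)) 0) :=
    HHmap_zero_surjective_of_finrank_eq k (S := S j) (hS j) (hsub j) (hfin1 j) (hfin1 (j + 1)) hj
  obtain ⟨t, ht⟩ := exists_section_of_surjective k hdim hM s hs j hsurj
  exact ⟨j, t, ht⟩

end main

end Groth.Agent.R2.H98.CurveGen
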