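import Mathlib
import Groth.Agent.Lib.Helper23SecTw10
import Groth.Agent.Lib.Helper23TensorUnit
import Groth.Agent.Lib.Helper23AmpleIso
import Groth.Agent.Lib.Helper23Restr
import Groth.Agent.R2.H98CurveGen
import Groth.Agent.R2.H87YBlowUp
import Groth.Agent.R2.H89GammaField

/-!
# Seesaw, fibre part: triviality of an invertible module on an integral proper scheme (helper16)

Namespace `Groth.Agent.R2.H16.SeesawFib`.

* `isIso_of_sections` : `Z` integral, every nonzero global function a unit, `L ⊗ M ≅ O_Z` with `L`, `M`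
  invertible; nonzero sections `a` of `L` and `b` of `M` ⇒ `a : O_Z ⟶ L` is an isomorphism.
* `nonempty_iso_iff` : under the same hypotheses, `L ≅ O_Z` iff `H^0(Z, L) ≠ 0` and `H^0(Z, M) ≠ 0`.
-/

set_option autoImplicit false
set_option linter.style.haveILetI false
set_option linter.unusedSectionVars false
universe u
open CategoryTheory CategoryTheory.Limits AlgebraicGeometry Opposite TopologicalSpace

namespace Groth.Agent.R2.H16.SeesawFib

open Groth.Agent.Lib.Helper23.SecTw Groth.Agent.Lib.Helper23.GenLocus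
  Groth.Agent.Lib.Helper23.TensorUnit Groth.Agent.Lib.Helper23.AmpleIso

variable {Z : Scheme.{u}}

/-- two nonzero sections of mutually inverse invertible modules on an integral scheme whose nonzero global
functions are units: each of them is a trivialisation. -/
theorem isIso_of_sections [IsIntegral Z] {L M : Z.Modules} (hL : PicF.IsInvertible L)
    (hM : PicF.IsInvertible M) (e : CohB1.tensorMod L M ≅ Coh.structureModule Z)
    (hunit : ∀ c : Γ(Z, ⊤), c ≠ 0 → IsUnit c)
    (a : Coh.structureModule Z ⟶ L) (ha : a ≠ 0) (b : Coh.structureModule Z ⟶ M) (hb : b ≠ 0) :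
    IsIso a := by
  have h1 := Groth.Agent.R2.H98.CurveGen.genLocus_ne_bot hL a ha
  have h2 := Groth.Agent.R2.H98.CurveGen.genLocus_ne_bot hM b hb
  have h3 : CohB1.genLocus (CohB1.tensorMod L M) (SecTwist.tmulHom a b) =
      CohB1.genLocus L a ⊓ CohB1.genLocus M b := genLocus_tmulHom hL hM a b
  have h4 := genLocus_eq_basicOpen (CohB1.tensorMod L M) e (SecTwist.tmulHom a b)
  set c : Γ(Z, ⊤) := endFun (SecTwist.tmulHom a b ≫ e.hom) ⊤ with hc
  -- the two loci meet, as `Z` is irreducible
  have h5 : CohB1.genLocus L a ⊓ CohB1.genLocus M b ≠ ⊥ := by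
    intro h
    have hA : ((CohB1.genLocus L a : Z.Opens) : Set Z).Nonempty := by
      rw [Set.nonempty_iff_ne_empty]
      intro h'
      exact h1 (Opens.ext h')
    have hB : ((CohB1.genLocus M b : Z.Opens) : Set Z).Nonempty := by
      rw [Set.nonempty_iff_ne_empty]
      intro h'
      exact h2 (Opens.ext h')
    obtain ⟨x, hxA, hxB⟩ := nonempty_preirreducible_inter (CohB1.genLocus L a).isOpen
      (CohB1.genLocus M b).isOpen hA hB
    have : x ∈ (CohB1.genLocus L a ⊓ CohB1.genLocus M b : Z.Opens) := ⟨hxA, hxB⟩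
    rw [h] at this
    exact this
  have hc0 : c ≠ 0 := by
    intro h0
    apply h5
    rw [← h3, h4, h0, Scheme.basicOpen_zero]
  have hcu : IsUnit c := hunit c hc0
  have h6 : Z.basicOpen c = ⊤ := Scheme.basicOpen_of_isUnit Z hcu
  have h7 : CohB1.genLocus L a = ⊤ := by
    rw [eq_top_iff]
    calc (⊤ : Z.Opens) = CohB1.genLocus L a ⊓ CohB1.genLocus M b := by rw [← h3, h4, h6]
      _ ≤ CohB1.genLocus L a := inf_le_left
  exact (Groth.Agent.R2.H87.YBlowUp.genLocus_eq_top_iff L a).1 h7

/-- a module with no nonzero global section receives only the zero map from the structure sheaf. -/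
theorem eq_zero_of_subsingleton_HH (L : Z.Modules) (h : Subsingleton (Coh.HH Z L 0))
    (a : Coh.structureModule Z ⟶ L) : a = 0 := by
  apply hom_ext_of_sv
  rw [sv_zero]
  haveI : Subsingleton ((Coh.toAb L).obj.obj (op (⊤ : Opens Z))) :=
    (Groth.Agent.R2.H89.GammaField.hh0Equiv Z L).symm.injective.subsingleton
  exact Subsingleton.elim (α := (Coh.toAb L).obj.obj (op (⊤ : Opens Z))) _ _

/-- a nonzero class in `H^0` gives a nonzero section. -/
theorem exists_ne_zero_of_not_subsingleton_HH (L : Z.Modules) (h : ¬ Subsingleton (Coh.HH Z L 0)) :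
    ∃ a : Coh.structureModule Z ⟶ L, a ≠ 0 := by
  by_contra hcon
  push Not at hcon
  apply h
  refine ⟨fun x y => ?_⟩
  apply (Groth.Agent.R2.H89.GammaField.hh0Equiv Z L).injective
  have key : ∀ σ : Γ(L, ⊤), σ = 0 := by
    intro σ
    have h1 := sv_secHom L σ ⊤
    rw [hcon (secHom L σ), sv_zero] at h1
    rw [h1]
    exact (res_self L σ).symm
  exact (key _).trans (key _).symm

/-- the structure sheaf of a nonempty scheme has nonzero `H^0` as soon as a module isomorphic to it is given. -/
theorem not_subsingleton_HH_of_iso [Nonempty Z] (L : Z.Modules) (hL : PicF.IsInvertible L)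
    (φ : Coh.structureModule Z ≅ L) : ¬ Subsingleton (Coh.HH Z L 0) := by
  intro h
  have h0 : φ.hom = 0 := eq_zero_of_subsingleton_HH L h φ.hom
  have h1 : CohB1.genLocus L φ.hom = ⊤ :=
    (Groth.Agent.R2.H87.YBlowUp.genLocus_eq_top_iff L φ.hom).2 inferInstance
  rw [h0, genLocus_zero L hL] at h1
  obtain ⟨z⟩ : Nonempty Z := inferInstance
  have : z ∈ (⊥ : Z.Opens) := h1 ▸ (trivial : z ∈ (⊤ : Z.Opens))
  exact this

/-- **Fibre criterion**: on an integral scheme whose nonzero global functions are units, an invertible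
module `L` with inverse `M` is trivial iff both `L` and `M` have a nonzero global section. -/
theorem nonempty_iso_iff [IsIntegral Z] {L M : Z.Modules} (hL : PicF.IsInvertible L)
    (hM : PicF.IsInvertible M) (e : CohB1.tensorMod L M ≅ Coh.structureModule Z)
    (hunit : ∀ c : Γ(Z, ⊤), c ≠ 0 → IsUnit c) :
    Nonempty (L ≅ Coh.structureModule Z) ↔
      (¬ Subsingleton (Coh.HH Z L 0) ∧ ¬ Subsingleton (Coh.HH Z M 0)) := by
  constructor
  · rintro ⟨φ⟩
    refine ⟨not_subsingleton_HH_of_iso L hL φ.symm, ?_⟩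
    -- `M ≅ O ⊗ M ≅ L ⊗ M ≅ O`
    let ψ : M ≅ Coh.structureModule Z :=
      (unitTensorIso M).symm ≪≫ tensorModIso φ.symm (Iso.refl M) ≪≫ e
    exact not_subsingleton_HH_of_iso M hM ψ.symm
  · rintro ⟨h1, h2⟩
    obtain ⟨a, ha⟩ := exists_ne_zero_of_not_subsingleton_HH L h1
    obtain ⟨b, hb⟩ := exists_ne_zero_of_not_subsingleton_HH M h2
    haveI := isIso_of_sections hL hM e hunit a ha b hb
    exact ⟨(asIso a).symm⟩

end Groth.Agent.R2.H16.SeesawFib
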