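import Mathlib
import Groth.Agent.R2.H16SeesawFib
import Groth.Agent.R2.H16CbcConc
import Groth.Agent.R2.H34InvDual
import Groth.Agent.R2.H62CurveCoker
import Groth.Agent.Lib.Helper23PB
import Groth.Agent.Lib.Helper2FlatOver2
import Groth.Agent.S0002

/-!
# Seesaw: the locus of fibrewise triviality is closed (helper16)

Namespace `Groth.Agent.R2.H16.SeesawClosed`.

* `isFlatOver_of_isInvertible` : an invertible module on `X` is flat over `S` when `X ⟶ S` is flat.
* `isField_Γ_fiber` : global functions of an integral fibre of a proper morphism form a field.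
* `fibre_trivial_iff` : for `f` proper with integral fibre at `y` and `L ⊗ M ≅ O_X` invertible,
  `L_y ≅ O_{X_y}` iff `H^0(X_y, L_y) ≠ 0` and `H^0(X_y, M_y) ≠ 0`.
* `isClosed_setOf_fibre_trivial` : the set of such `y` is closed (`f` proper flat, `Y` locally Noetherian).
-/

set_option autoImplicit false
set_option linter.style.haveILetI false
set_option linter.unusedSectionVars false
universe u
open CategoryTheory CategoryTheory.Limits AlgebraicGeometry Opposite TopologicalSpace

namespace Groth.Agent.R2.H16.SeesawClosed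

open Groth.Agent.Lib.Helper23.SecTw Groth.Agent.Lib.Helper23.GenLocus
  Groth.Agent.Lib.Helper23.TensorUnit Groth.Agent.Lib.Helper23.AmpleIso Groth.Agent.Lib.Helper6

section flat

variable {X S : Scheme.{u}}

/-- an invertible module is flat over the base of a flat morphism. -/
theorem isFlatOver_of_isInvertible (f : X ⟶ S) [Flat f] (L : X.Modules) (hL : PicF.IsInvertible L) :
    FlatMod.IsFlatOver f L := by
  haveI : L.IsQuasicoherent := isQuasicoherent_of_isInvertible L hL
  intro x
  obtain ⟨W, e, hxW, he⟩ := exists_gen L hL x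
  obtain ⟨V, hV, hxV, -⟩ := exists_isAffineOpen_mem_and_subset (X := S) (x := f.base x) (U := ⊤) trivial
  obtain ⟨U, hU, hxU, hUle⟩ := exists_isAffineOpen_mem_and_subset (X := X) (x := x)
    (U := W ⊓ f ⁻¹ᵁ V) ⟨hxW, hxV⟩
  have hUV : U ≤ f ⁻¹ᵁ V := hUle.trans inf_le_right
  have hUW : U ≤ W := hUle.trans inf_le_left
  refine Groth.Agent.Lib.Helper2.FlatOver.isFlatOverAt_of_flat_sections f L hU hV hUV ?_ x hxU
  have h1 : (f.appLE V U hUV).hom.Flat :=
    HasRingHomProperty.appLE (P := @Flat) f inferInstance ⟨V, hV⟩ ⟨U, hU⟩ hUV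
  letI := (f.appLE V U hUV).hom.toAlgebra
  letI : Module Γ(S, V) Γ(L, U) := Module.compHom Γ(L, U) (f.appLE V U hUV).hom
  haveI : Module.Flat Γ(S, V) Γ(X, U) := h1
  have hb := he U hUW
  let φ : Γ(X, U) →ₗ[Γ(S, V)] Γ(L, U) :=
    { toFun := fun r => r • res L hUW e
      map_add' := fun r r' => add_smul r r' _
      map_smul' := fun a r => by
        change ((f.appLE V U hUV).hom a * r) • res L hUW e = (f.appLE V U hUV).hom a • (r • res L hUW e)
        rw [mul_smul] }
  exact Module.Flat.of_linearEquiv (LinearEquiv.ofBijective φ hb).symm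

end flat

section fibre

variable {X Y : Scheme.{u}} (f : X ⟶ Y)

/-- global functions of an integral fibre of a proper morphism form a field. -/
theorem isField_Γ_fiber [IsProper f] (y : Y) [IsIntegral (f.fiber y)] : IsField Γ(f.fiber y, ⊤) := by
  letI : (f.fiber y).Over (Spec (CommRingCat.of (Y.residueField y))) :=
    ⟨f.fiberToSpecResidueField y⟩
  haveI : IsProper (f.fiberToSpecResidueField y) := by
    have : IsProper (pullback.snd f (Y.fromSpecResidueField y)) := inferInstance
    exact this
  haveI : IsProper ((f.fiber y) ↘ Spec (CommRingCat.of (Y.residueField y))) :=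
    (inferInstance : IsProper (f.fiberToSpecResidueField y))
  have hfin := Groth.Agent.S0002.result (Y.residueField y) (f.fiber y)
    (Coh.structureModule (f.fiber y))
    (Groth.Agent.R2.H5.CohThick.isCoh_structureModule (f.fiber y)) 0
  exact Groth.Agent.R2.H89.GammaField.isField_Γ (Y.residueField y) (f.fiber y)
    (Groth.Agent.R2.H89.GammaField.finite_Γ (Y.residueField y) (f.fiber y) hfin)

/-- the restriction to a fibre of a pair of mutually inverse invertible modules is again such a pair. -/
theorem nonempty_fiber_tensor_iso (y : Y) {L M : X.Modules} (hL : PicF.IsInvertible L)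
    (hM : PicF.IsInvertible M) (e : CohB1.tensorMod L M ≅ Coh.structureModule X) :
    Nonempty (CohB1.tensorMod (CohIII.fiberMod f L y) (CohIII.fiberMod f M y) ≅
      Coh.structureModule (f.fiber y)) := by
  obtain ⟨t⟩ := Groth.Agent.Lib.Helper23.PB.nonempty_pullback_tensorMod_iso (f.fiberι y) L M hL hM
  exact ⟨t.symm ≪≫ (Scheme.Modules.pullback (f.fiberι y)).mapIso e ≪≫
    Groth.Agent.Lib.Helper23.PB.pullbackUnitIso (f.fiberι y)⟩

/-- **Fibrewise triviality through sections.** -/
theorem fibre_trivial_iff [IsProper f] (y : Y) [IsIntegral (f.fiber y)] {L M : X.Modules}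
    (hL : PicF.IsInvertible L) (hM : PicF.IsInvertible M)
    (e : CohB1.tensorMod L M ≅ Coh.structureModule X) :
    Nonempty (CohIII.fiberMod f L y ≅ Coh.structureModule (f.fiber y)) ↔
      (¬ Subsingleton (CohIII.fiberH f L y 0) ∧ ¬ Subsingleton (CohIII.fiberH f M y 0)) := by
  obtain ⟨ey⟩ := nonempty_fiber_tensor_iso f y hL hM e
  have hK := isField_Γ_fiber f y
  refine Groth.Agent.R2.H16.SeesawFib.nonempty_iso_iff
    (Groth.Agent.Lib.Helper23.PB.isInvertible_pullback (f.fiberι y) L hL)
    (Groth.Agent.Lib.Helper23.PB.isInvertible_pullback (f.fiberι y) M hM) ey ?_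
  intro c hc
  letI := hK.toField
  exact IsUnit.mk0 c hc

/-- nonvanishing of `H^0` of the fibres of a flat coherent module is a closed condition. -/
theorem isClosed_setOf_not_subsingleton_fiberH [IsProper f] [IsLocallyNoetherian Y] (F : X.Modules)
    (hF : Coh.IsCoh F) (hfl : FlatMod.IsFlatOver f F) :
    IsClosed {y : Y | ¬ Subsingleton (CohIII.fiberH f F y 0)} := by
  rw [← isOpen_compl_iff, isOpen_iff_forall_mem_open]
  intro y₀ hy₀
  have h₀ : Subsingleton (CohIII.fiberH f F y₀ 0) := not_not.1 hy₀
  obtain ⟨U, hyU, hU⟩ := Groth.Agent.R2.H16.CbcConc.exists_open_fibre_vanishing f F hF hfl y₀ {0}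
    (fun p hp => by rw [Set.mem_singleton_iff.1 hp]; exact h₀)
  exact ⟨U, fun y hy => not_not.2 (hU y hy 0 rfl), U.isOpen, hyU⟩

/-- **The locus of fibrewise triviality is closed** (integral fibres). -/
theorem isClosed_setOf_fibre_trivial [IsProper f] [Flat f] [IsLocallyNoetherian Y]
    (hint : ∀ y : Y, IsIntegral (f.fiber y)) (L : X.Modules) (hL : PicF.IsInvertible L) :
    IsClosed {y : Y | Nonempty (CohIII.fiberMod f L y ≅ Coh.structureModule (f.fiber y))} := by
  obtain ⟨M, hM, ⟨e⟩, -⟩ := Groth.Agent.R2.H34.InvDual.exists_inverse L hL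
  have hset : {y : Y | Nonempty (CohIII.fiberMod f L y ≅ Coh.structureModule (f.fiber y))} =
      {y : Y | ¬ Subsingleton (CohIII.fiberH f L y 0)} ∩
        {y : Y | ¬ Subsingleton (CohIII.fiberH f M y 0)} := by
    ext y
    haveI := hint y
    exact fibre_trivial_iff f y hL hM e
  rw [hset]
  exact (isClosed_setOf_not_subsingleton_fiberH f L
      (Groth.Agent.R2.H62.CurveInv.isCoh_of_isInvertible hL) (isFlatOver_of_isInvertible f L hL)).inter
    (isClosed_setOf_not_subsingleton_fiberH f M
      (Groth.Agent.R2.H62.CurveInv.isCoh_of_isInvertible hM) (isFlatOver_of_isInvertible f M hM))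

end fibre

end Groth.Agent.R2.H16.SeesawClosed
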