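import Mathlib
import Groth.Agent.R2.H16CohFlat0Geom
import Groth.Agent.R2.H16CohFlat0Pre
import Groth.Agent.R2.H89GammaField
import Groth.Agent.S0002

/-!
# `h^0(Z, O_Z) = 1` for a proper, geometrically connected and geometrically reduced scheme over a field (helper16)

Namespace `Groth.Agent.R2.H16.SeesawGeomH0`.

* `finrank_Γ_eq_of_corep` : from a semilinear identification `Γ(X', O) ≃ Hom_A(Q, A')` to an equality of ranks.
* `finrank_Γ_eq_one` : `Z` proper and flat over a field `k`, geometrically connected and geometrically reduced ⇒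
  `dim_k Γ(Z, O_Z) = 1`.
-/

set_option autoImplicit false
set_option linter.style.haveILetI false
set_option linter.unusedSectionVars false
universe u
open CategoryTheory CategoryTheory.Limits AlgebraicGeometry Opposite TopologicalSpace

namespace Groth.Agent.R2.H16.SeesawGeomH0

open Groth.Agent.R2.H16.CbcFITerm Groth.Agent.R2.H16.CbcFINat Groth.Agent.R2.H16.CohFlat0Pre

section rank

variable {A A' : Type u} [CommRing A] [CommRing A'] (ρ : A →+* A') (Q : ModuleCat.{u} A)
  {X' : Scheme.{u}} (f' : X' ⟶ Spec (CommRingCat.of A'))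

/-- from a semilinear identification `Γ(X', O) ≃ Hom_A(Q, A')` to an equality of ranks. -/
theorem finrank_Γ_eq_of_corep (ε : Coh.Γtop X' ≃+ (Q ⟶ MA' ρ))
    (hε : ∀ (a' : A') (b : Coh.Γtop X'), ε (Coh.toGlobal f' a' * b) = ε b ≫ mulEnd ρ a') :
    letI : Algebra A A' := ρ.toAlgebra
    letI : Algebra A' ↑Γ(X', ⊤) := (Coh.toGlobal f').toAlgebra
    Module.finrank A' ↑Γ(X', ⊤) = Module.finrank A' (↑Q →ₗ[A] A') := by
  letI : Algebra A A' := ρ.toAlgebra
  letI : Algebra A' ↑Γ(X', ⊤) := (Coh.toGlobal f').toAlgebra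
  refine LinearEquiv.finrank_eq ?_
  exact
    { toFun := fun b => toLin Q (ε b)
      invFun := fun l => ε.symm ((toLin Q).symm l)
      left_inv := fun b => by
        change ε.symm ((toLin Q).symm (toLin Q (ε b))) = b
        rw [AddEquiv.symm_apply_apply]
        exact ε.symm_apply_apply b
      right_inv := fun l => by
        change toLin Q (ε (ε.symm ((toLin Q).symm l))) = l
        rw [AddEquiv.apply_symm_apply, AddEquiv.apply_symm_apply]
      map_add' := fun b b' => by
        change toLin Q (ε (b + b')) = toLin Q (ε b) + toLin Q (ε b')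
        have : ε (b + b') = ε b + ε b' := ε.map_add b b'
        rw [this, map_add]
      map_smul' := fun c b => by
        change toLin Q (ε (c • b)) = c • toLin Q (ε b)
        have e1 : ε (c • b) = ε b ≫ mulEnd ρ c := hε c b
        rw [e1]
        exact toLin_comp_mulEnd Q (ε b) c }

end rank

section field

variable (k : Type u) [Field k] (Z : Scheme.{u}) [Z.Over (Spec (CommRingCat.of k))]

/-- **`h^0(Z, O_Z) = 1`** for `Z` proper, geometrically connected and geometrically reduced over a field. -/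
theorem finrank_Γ_eq_one [IsProper (Z ↘ Spec (CommRingCat.of k))] [Flat (Z ↘ Spec (CommRingCat.of k))]
    [GeometricallyConnected (Z ↘ Spec (CommRingCat.of k))]
    [GeometricallyReduced (Z ↘ Spec (CommRingCat.of k))] :
    letI : Algebra k ↑Γ(Z, ⊤) := (Coh.toGlobal (Z ↘ Spec (CommRingCat.of k))).toAlgebra
    Module.finrank k ↑Γ(Z, ⊤) = 1 := by
  obtain ⟨Q, hQ, hε⟩ := Groth.Agent.R2.H16.CohFlat0Geom.exists_corep k (X := Z)
  -- over `k` itself
  have hid : IsPullback (𝟙 Z) (Z ↘ Spec (CommRingCat.of k)) (Z ↘ Spec (CommRingCat.of k))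
      (Spec.map (CommRingCat.ofHom (RingHom.id k))) := by
    have : Spec.map (CommRingCat.ofHom (RingHom.id k)) = 𝟙 _ := Spec.map_id _
    rw [this]
    exact IsPullback.of_id_fst
  obtain ⟨ε0, hε0⟩ := hε k (RingHom.id k) Z (𝟙 Z) (Z ↘ Spec (CommRingCat.of k)) hid
  have h1 := finrank_Γ_eq_of_corep (RingHom.id k) Q (Z ↘ Spec (CommRingCat.of k)) ε0 hε0
  -- over an algebraic closure
  let K := AlgebraicClosure k
  let ρ : k →+* K := algebraMap k K
  let X' := pullback (Z ↘ Spec (CommRingCat.of k)) (Spec.map (CommRingCat.ofHom ρ))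
  have hc : IsPullback (pullback.fst (Z ↘ Spec (CommRingCat.of k)) (Spec.map (CommRingCat.ofHom ρ)))
      (pullback.snd (Z ↘ Spec (CommRingCat.of k)) (Spec.map (CommRingCat.ofHom ρ)))
      (Z ↘ Spec (CommRingCat.of k)) (Spec.map (CommRingCat.ofHom ρ)) := IsPullback.of_hasPullback _ _
  obtain ⟨ε1, hε1⟩ := hε K ρ X' _ _ hc
  have h2 := finrank_Γ_eq_of_corep ρ Q
    (pullback.snd (Z ↘ Spec (CommRingCat.of k)) (Spec.map (CommRingCat.ofHom ρ))) ε1 hε1
  -- ranks of the `Hom` modules
  haveI : Module.Finite k ↑Q := hQ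
  have h1' : (letI : Algebra k ↑Γ(Z, ⊤) := (Coh.toGlobal (Z ↘ Spec (CommRingCat.of k))).toAlgebra
      Module.finrank k ↑Γ(Z, ⊤)) = Module.finrank k ↑Q := by
    letI : Algebra k k := (RingHom.id k).toAlgebra
    exact h1.trans (Module.finrank_linearMap_self k k ↑Q)
  have h2' : (letI : Algebra K ↑Γ(X', ⊤) := (Coh.toGlobal
      (pullback.snd (Z ↘ Spec (CommRingCat.of k)) (Spec.map (CommRingCat.ofHom ρ)))).toAlgebra
      Module.finrank K ↑Γ(X', ⊤)) = Module.finrank k ↑Q := by
    letI : Algebra k K := ρ.toAlgebra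
    exact h2.trans (Module.finrank_linearMap_self k K ↑Q)
  -- the geometric fibre
  letI : X'.Over (Spec (CommRingCat.of K)) :=
    ⟨pullback.snd (Z ↘ Spec (CommRingCat.of k)) (Spec.map (CommRingCat.ofHom ρ))⟩
  haveI : IsProper (X' ↘ Spec (CommRingCat.of K)) :=
    (inferInstance : IsProper (pullback.snd (Z ↘ Spec (CommRingCat.of k))
      (Spec.map (CommRingCat.ofHom ρ))))
  haveI : ConnectedSpace X' :=
    GeometricallyConnected.geometrically_connectedSpace (f := Z ↘ Spec (CommRingCat.of k))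
      (Spec.map (CommRingCat.ofHom ρ)) _ _ hc
  haveI : IsReduced X' :=
    GeometricallyReduced.geometrically_isReduced (f := Z ↘ Spec (CommRingCat.of k))
      (Spec.map (CommRingCat.ofHom ρ)) _ _ hc
  have hfin := Groth.Agent.R2.H89.GammaField.finite_Γ K X'
    (Groth.Agent.S0002.result K X' (Coh.structureModule X')
      (Groth.Agent.R2.H5.CohThick.isCoh_structureModule X') 0)
  have hK := Groth.Agent.R2.H89.GammaField.isField_Γ K X' hfin
  letI : Algebra K ↑Γ(X', ⊤) := (Coh.toGlobal (X' ↘ Spec (CommRingCat.of K))).toAlgebra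
  haveI : IsDomain ↑Γ(X', ⊤) := hK.isDomain
  haveI : Module.Finite K ↑Γ(X', ⊤) := hfin
  haveI : Algebra.IsIntegral K ↑Γ(X', ⊤) := Algebra.IsIntegral.of_finite K _
  have hb : Function.Bijective (algebraMap K ↑Γ(X', ⊤)) :=
    IsAlgClosed.algebraMap_bijective_of_isIntegral
  have h3 : Module.finrank K ↑Γ(X', ⊤) = 1 := by
    have e : K ≃ₗ[K] ↑Γ(X', ⊤) := LinearEquiv.ofBijective (Algebra.linearMap K ↑Γ(X', ⊤)) hb
    rw [← e.finrank_eq, Module.finrank_self]
  exact h1'.trans (h2'.symm.trans h3)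

end field

end Groth.Agent.R2.H16.SeesawGeomH0
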