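import Mathlib
import Groth.Agent.R2.H16CbcFINat
import Groth.Agent.Lib.Helper23PB

/-!
# Seesaw: the unit `F ⟶ g'_* g'^* F` on global sections detects `F ⊗_A A'` (helper16)

Namespace `Groth.Agent.R2.H16.SeesawUnit`.

In the setting of the fibre identification (`X' = X ×_{Spec A} Spec A'`, `F` quasi-coherent on `X`):
a global section `z` of `F ⊗_A A` whose pullback `η(z) ∈ Γ(X', g'^*(F ⊗_A A))` vanishes has `z ⊗ 1 = 0` in
`Γ(X, F ⊗_A A')` (`φm_one_eq_zero_of_η_eq_zero`). Only the termwise (affine) comparison is used.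
-/

set_option autoImplicit false
set_option linter.style.haveILetI false
set_option linter.unusedSectionVars false
universe u
open CategoryTheory CategoryTheory.Limits AlgebraicGeometry Opposite TopologicalSpace

namespace Groth.Agent.R2.H16.SeesawUnit

open Groth.Agent.R2.H11.CbcSpec Groth.Agent.R2.H11.CbcLin Groth.Agent.R2.H11.CbcEW
  Groth.Agent.Lib.Helper16.TensorCmp Groth.Agent.R2.H16.CbcFISec Groth.Agent.Helper13PullbackUnit
  Groth.Agent.R2.H16.CbcG2 Groth.Agent.R2.H16.CbcG3 Groth.Agent.R2.H16.CbcFITerm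
  Groth.Agent.R2.H16.CbcFINat Groth.Agent.Lib.Helper6

variable {A A' : Type u} [CommRing A] [CommRing A'] {ρ : A →+* A'}
  {X X' : Scheme.{u}} [X.Over (Spec (CommRingCat.of A))] {g' : X' ⟶ X}
  {f' : X' ⟶ Spec (CommRingCat.of A')} (F : X.Modules)
  (hc : IsPullback g' f' (X ↘ Spec (CommRingCat.of A)) (Spec.map (CommRingCat.ofHom ρ)))
  [F.IsQuasicoherent]

include hc in
/-- if the pullback of a global section `z` of `F ⊗_A A` to `X'` vanishes, then `z ⊗ 1 = 0` in `F ⊗_A A'`. -/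
theorem φm_one_eq_zero_of_η_eq_zero (z : ↑((PP A F (ModuleCat.of A A)).obj (op ⊤)))
    (hz : ηP A g' F ⊤ z = 0) : φm A ρ F (1 : A') ⊤ z = 0 := by
  refine Groth.Agent.Lib.Helper23.PB.res_ext_affine ((CohIII.tensorAFunctor A F).obj (MA' ρ))
    (W := ⊤) (φm A ρ F (1 : A') ⊤ z) 0 (fun W hW hWaff => ?_)
  have h0 : res ((CohIII.tensorAFunctor A F).obj (MA' ρ)) hW 0 = 0 := map_zero _
  rw [h0]
  have n1 : (PP A F (MA' ρ)).map (homOfLE hW).op (φm A ρ F (1 : A') ⊤ z) =
      φm A ρ F (1 : A') W ((PP A F (ModuleCat.of A A)).map (homOfLE hW).op z) :=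
    (NatTrans.naturality_apply
      ((toPsh X).map ((CohIII.tensorAFunctor A F).map (θ (M := MA' ρ) (1 : A')))) (homOfLE hW).op z).symm
  have n2 : ηP A g' F W ((PP A F (ModuleCat.of A A)).map (homOfLE hW).op z) =
      (QQ A g' F).map (homOfLE hW).op (ηP A g' F ⊤ z) :=
    NatTrans.naturality_apply ((toPsh X).map (η A g' F)) (homOfLE hW).op z
  have h1 := termEquiv_gen F hc hWaff (1 : A') ((PP A F (ModuleCat.of A A)).map (homOfLE hW).op z)
  rw [n2, hz, map_zero, map_zero] at h1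
  have h2 : φm A ρ F (1 : A') W ((PP A F (ModuleCat.of A A)).map (homOfLE hW).op z) = 0 :=
    (AddEquiv.map_eq_zero_iff (termEquiv F hc hWaff)).1 h1
  exact n1.trans h2

end Groth.Agent.R2.H16.SeesawUnit
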