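import Mathlib
import Groth.Agent.R2.H16SeesawUnit
import Groth.Agent.R2.H16SeesawAlg
import Groth.Agent.R2.H16CohFlat0Geom

/-!
# Seesaw: lifting a nonzero section of the fibre (helper16)

Namespace `Groth.Agent.R2.H16.SeesawLift`.

`exists_section_unit_ne_zero`: `X` over `Spec A`, `F` quasi-coherent with `Γ(X, F ⊗_A -) ≅ Hom_A(Q, -)` for a
PROJECTIVE `A`-module `Q`; for a cartesian square `X' = X ×_{Spec A} Spec A'` with `H^0(X', g'^*F) ≠ 0` there is a global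
section `t` of `F` whose pullback to `X'` is nonzero.
-/

set_option autoImplicit false
set_option linter.style.haveILetI false
set_option linter.unusedSectionVars false
universe u
open CategoryTheory CategoryTheory.Limits AlgebraicGeometry Opposite TopologicalSpace

namespace Groth.Agent.R2.H16.SeesawLift

open Groth.Agent.R2.H11.CbcSpec Groth.Agent.R2.H11.CbcLin Groth.Agent.R2.H11.CbcEW
  Groth.Agent.Lib.Helper16.TensorCmp Groth.Agent.R2.H16.CbcFISec Groth.Agent.Helper13PullbackUnit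
  Groth.Agent.R2.H16.CbcG2 Groth.Agent.R2.H16.CbcG3 Groth.Agent.R2.H16.CbcFITerm
  Groth.Agent.R2.H16.CbcFINat Groth.Agent.Lib.Helper6 Groth.Agent.R2.H16.CbcGeom
  Groth.Agent.R2.H16.CbcFI

variable {A A' : Type u} [CommRing A] [CommRing A'] {ρ : A →+* A'}
  {X X' : Scheme.{u}} [X.Over (Spec (CommRingCat.of A))] {g' : X' ⟶ X}
  {f' : X' ⟶ Spec (CommRingCat.of A')} (F : X.Modules)
  (hc : IsPullback g' f' (X ↘ Spec (CommRingCat.of A)) (Spec.map (CommRingCat.ofHom ρ)))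
  [F.IsQuasicoherent]

include hc in
/-- a global section of `F ⊗_A A` with nonzero pullback to `X'`. -/
theorem exists_section_η_ne_zero [CompactSpace X] [IsSeparated (X ↘ Spec (CommRingCat.of A))]
    (Q : ModuleCat.{u} A) [Module.Projective A Q]
    (eQ : CohIII.tensorAFunctor A F ⋙ CohIII.globalSectionsA A ≅
      (linearCoyoneda A (ModuleCat.{u} A)).obj (op Q))
    (hne : ¬ Subsingleton (Coh.HH X' ((Scheme.Modules.pullback g').obj F) 0)) :
    ∃ t₁ : ↑((PP A F (ModuleCat.of A A)).obj (op ⊤)), ηP A g' F ⊤ t₁ ≠ 0 := by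
  obtain ⟨e, -⟩ := Groth.Agent.R2.H16.CbcFI.exists_fi F hc 0
  let G : ModuleCat.{u} A ⥤ ModuleCat.{u} A :=
    CohIII.tensorAFunctor A F ⋙ CohIII.globalSectionsA A
  let d : ∀ M : ModuleCat.{u} A, ↑((Tn A F 0).obj M) ≃+ ↑(G.obj M) := fun M =>
    (Groth.Agent.R2.H8.CbcG8.equivH0 A ((CohIII.tensorAFunctor A F).obj M)).symm
  let c : ∀ M : ModuleCat.{u} A, ↑(G.obj M) ≃+ (Q ⟶ M) := fun M =>
    (eQ.app M).toLinearEquiv.toAddEquiv
  have hcn : ∀ {M N : ModuleCat.{u} A} (φ : M ⟶ N) (x : ↑(G.obj M)),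
      c N ((G.map φ).hom x) = c M x ≫ φ := by
    intro M N φ x
    have h := ConcreteCategory.congr_hom (eQ.hom.naturality φ) x
    exact h
  -- a nonzero `A`-linear map `Q → A'`
  obtain ⟨x₀, hx₀⟩ : ∃ x₀ : Coh.HH X' ((Scheme.Modules.pullback g').obj F) 0, x₀ ≠ 0 := by
    by_contra hcon
    push Not at hcon
    exact hne ⟨fun a b => (hcon a).trans (hcon b).symm⟩
  let ψ : Q ⟶ MA' ρ := c (MA' ρ) (d (MA' ρ) (e x₀))
  have hψ : ψ ≠ 0 := by
    intro h
    apply hx₀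
    have h1 : c (MA' ρ) (d (MA' ρ) (e x₀)) = c (MA' ρ) 0 := h.trans (map_zero (c (MA' ρ))).symm
    have h2 := (c (MA' ρ)).injective h1
    have h3 : d (MA' ρ) (e x₀) = d (MA' ρ) 0 := h2.trans (map_zero (d (MA' ρ))).symm
    have h4 := (d (MA' ρ)).injective h3
    exact e.injective (h4.trans (map_zero e).symm)
  obtain ⟨φ, hφ⟩ := Groth.Agent.R2.H16.SeesawAlg.exists_comp_θ_ne_zero ρ Q ψ hψ
  -- the corresponding global section of `F ⊗_A A`
  let t₁ : ↑(G.obj (ModuleCat.of A A)) := (c (ModuleCat.of A A)).symm φ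
  have ht₁ : (G.map (θ (M := MA' ρ) (1 : A'))).hom t₁ ≠ 0 := by
    intro h
    apply hφ
    have h1 := hcn (θ (M := MA' ρ) (1 : A')) t₁
    rw [h, map_zero] at h1
    have h2 : c (ModuleCat.of A A) t₁ = φ := (c (ModuleCat.of A A)).apply_symm_apply φ
    rw [h2] at h1
    exact h1.symm
  refine ⟨t₁, fun hz => ht₁ ?_⟩
  exact Groth.Agent.R2.H16.SeesawUnit.φm_one_eq_zero_of_η_eq_zero F hc t₁ hz

include hc in
/-- a global section of `F` with nonzero pullback to `X'`. -/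
theorem exists_section_unitSec_ne_zero [CompactSpace X] [IsSeparated (X ↘ Spec (CommRingCat.of A))]
    (Q : ModuleCat.{u} A) [Module.Projective A Q]
    (eQ : CohIII.tensorAFunctor A F ⋙ CohIII.globalSectionsA A ≅
      (linearCoyoneda A (ModuleCat.{u} A)).obj (op Q))
    (hne : ¬ Subsingleton (Coh.HH X' ((Scheme.Modules.pullback g').obj F) 0)) :
    ∃ t : Γ(F, ⊤), unitSec g' F (le_refl (g' ⁻¹ᵁ ⊤)) t ≠ 0 := by
  obtain ⟨t₁, ht₁⟩ := exists_section_η_ne_zero F hc Q eQ hne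
  let e9 := Groth.Agent.R2.H8.CbcG9.tensorAFunctorSelfIso A F
  refine ⟨e9.hom.app ⊤ (show Γ(F₁ A F, ⊤) from t₁), fun h => ht₁ ?_⟩
  have h1 := Groth.Agent.Lib.Helper23.PB.map_unitSec g' e9.hom (le_refl (g' ⁻¹ᵁ ⊤))
    (show Γ(F₁ A F, ⊤) from t₁)
  rw [h] at h1
  have hiso : IsIso (((Scheme.Modules.pullback g').map e9.hom).app (g' ⁻¹ᵁ ⊤)) :=
    Scheme.Modules.Hom.isIso_iff_isIso_app.1 inferInstance _
  have hinj : Function.Injective (((Scheme.Modules.pullback g').map e9.hom).app (g' ⁻¹ᵁ ⊤)) :=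
    (ConcreteCategory.bijective_of_isIso _).1
  have h2 : unitSec g' (F₁ A F) (le_refl (g' ⁻¹ᵁ ⊤)) (show Γ(F₁ A F, ⊤) from t₁) = 0 :=
    hinj (h1.trans (map_zero _).symm)
  rw [unitSec_refl] at h2
  exact h2

omit [F.IsQuasicoherent] in
/-- `T^0(M) = H^0(X, F ⊗_A M) ≃ Hom_A(Q, M)`, naturally in `M`. -/
theorem exists_T0_corep (Q : ModuleCat.{u} A)
    (eQ : CohIII.tensorAFunctor A F ⋙ CohIII.globalSectionsA A ≅
      (linearCoyoneda A (ModuleCat.{u} A)).obj (op Q)) :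
    ∃ κ : ∀ M : ModuleCat.{u} A, ↑((Tn A F 0).obj M) ≃+ (Q ⟶ M),
      ∀ {M N : ModuleCat.{u} A} (φ : M ⟶ N) (z : ↑((Tn A F 0).obj M)),
        κ N (((Tn A F 0).map φ).hom z) = κ M z ≫ φ := by
  let G : ModuleCat.{u} A ⥤ ModuleCat.{u} A :=
    CohIII.tensorAFunctor A F ⋙ CohIII.globalSectionsA A
  let d : ∀ M : ModuleCat.{u} A, ↑((Tn A F 0).obj M) ≃+ ↑(G.obj M) := fun M =>
    (Groth.Agent.R2.H8.CbcG8.equivH0 A ((CohIII.tensorAFunctor A F).obj M)).symm
  have hd : ∀ {M N : ModuleCat.{u} A} (φ : M ⟶ N) (x : ↑((Tn A F 0).obj M)),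
      d N (((Tn A F 0).map φ).hom x) = (G.map φ).hom (d M x) := by
    intro M N φ x
    apply (Groth.Agent.R2.H8.CbcG8.equivH0 A ((CohIII.tensorAFunctor A F).obj N)).injective
    rw [AddEquiv.apply_symm_apply]
    have h := Groth.Agent.R2.H8.CbcG8.equivH0_naturality A ((CohIII.tensorAFunctor A F).map φ) (d M x)
    refine Eq.trans ?_ h.symm
    rw [AddEquiv.apply_symm_apply]
    rfl
  let c : ∀ M : ModuleCat.{u} A, ↑(G.obj M) ≃+ (Q ⟶ M) := fun M =>
    (eQ.app M).toLinearEquiv.toAddEquiv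
  have hcn : ∀ {M N : ModuleCat.{u} A} (φ : M ⟶ N) (x : ↑(G.obj M)),
      c N ((G.map φ).hom x) = c M x ≫ φ := by
    intro M N φ x
    have h := ConcreteCategory.congr_hom (eQ.hom.naturality φ) x
    exact h
  refine ⟨fun M => (d M).trans (c M), fun {M N} φ z => ?_⟩
  change c N (d N (((Tn A F 0).map φ).hom z)) = c M (d M z) ≫ φ
  rw [hd, hcn]

end Groth.Agent.R2.H16.SeesawLift
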