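import Mathlib
import Groth.Agent.R2.H16SeesawLift
import Groth.Agent.R2.H16SeesawClosed
import Groth.Agent.R2.H16CbcFIGlob4
import Groth.Agent.R2.H11CbcGamma
import Groth.Agent.S2381
import Groth.Agent.S0002
import Groth.Agent.Lib.Helper23GenNear
import Groth.Agent.Lib.Helper23Restr

/-!
# Seesaw: a generator near a fibre (helper16)

Namespace `Groth.Agent.R2.H16.SeesawLocal`.

* `projective_of_bridge` : a module corepresenting `T^0` is projective as soon as `T^0` preserves epimorphisms.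
* `exists_isGen_near_fibre` : `f : X ⟶ Y` proper flat, `Y` locally Noetherian and reduced, `L` invertible on `X` with
  `h^0(X_y, L_y) = 1` for all `y`; if `L_{y₀} ≅ O` and the nonzero global functions of `X_{y₀}` are units, then `L` has a
  generator over `f⁻¹U` for an open neighbourhood `U` of `y₀`.
-/

set_option autoImplicit false
set_option linter.style.haveILetI false
set_option linter.unusedSectionVars false
universe u
open CategoryTheory CategoryTheory.Limits AlgebraicGeometry Opposite TopologicalSpace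

namespace Groth.Agent.R2.H16.SeesawLocal

open Groth.Agent.R2.H16.CbcFITerm Groth.Agent.R2.H16.CbcFINat Groth.Agent.R2.H16.CbcGeom
  Groth.Agent.R2.H16.CbcFI Groth.Agent.R2.H16.CbcFIGlob Groth.Agent.R2.H16.CbcFIFib
  Groth.Agent.Lib.Helper23.SecTw Groth.Agent.Lib.Helper23.GenLocus Groth.Agent.Lib.Helper6
  Groth.Agent.Helper13PullbackUnit Groth.Agent.Lib.Helper23.Extend

section proj

variable {A : Type u} [CommRing A] {X : Scheme.{u}} [X.Over (Spec (CommRingCat.of A))] (F : X.Modules)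

/-- a module corepresenting `T^0` is projective as soon as `T^0` preserves epimorphisms. -/
theorem projective_of_bridge (Q : ModuleCat.{u} A)
    (eQ : CohIII.tensorAFunctor A F ⋙ CohIII.globalSectionsA A ≅
      (linearCoyoneda A (ModuleCat.{u} A)).obj (op Q))
    (Lc : ChainComplex (ModuleCat.{u} A) ℤ) (q : ℤ)
    (β : Tn A F 0 ≅ CohIII.TFun Lc q ⋙ forget₂ (ModuleCat.{u} A) AddCommGrpCat.{u})
    (hepi : (CohIII.TFun Lc q).PreservesEpimorphisms) : Module.Projective A Q := by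
  obtain ⟨κ, hκ⟩ := Groth.Agent.R2.H16.SeesawLift.exists_T0_corep F Q eQ
  refine Groth.Agent.R2.H16.SeesawAlg.projective_of_surjective_comp Q (fun M π hπ => ?_)
  haveI : Epi π := (ModuleCat.epi_iff_surjective π).2 hπ
  haveI : Epi ((CohIII.TFun Lc q).map π) := inferInstance
  have hs : Function.Surjective ((CohIII.TFun Lc q).map π).hom :=
    (ModuleCat.epi_iff_surjective _).1 inferInstance
  haveI h2 : Epi ((CohIII.TFun Lc q ⋙ forget₂ (ModuleCat.{u} A) AddCommGrpCat.{u}).map π) :=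
    (AddCommGrpCat.epi_iff_surjective _).2 hs
  have h1 : (Tn A F 0).map π =
      β.hom.app M ≫ (CohIII.TFun Lc q ⋙ forget₂ (ModuleCat.{u} A) AddCommGrpCat.{u}).map π ≫
        β.inv.app Q := by
    rw [← Category.assoc, ← β.hom.naturality π, Category.assoc, Iso.hom_inv_id_app, Category.comp_id]
  have h3 : Epi ((Tn A F 0).map π) := by
    rw [h1]
    infer_instance
  have hsT : Function.Surjective ((Tn A F 0).map π).hom := (AddCommGrpCat.epi_iff_surjective _).1 h3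
  obtain ⟨z, hz⟩ := hsT ((κ Q).symm (𝟙 Q))
  refine ⟨κ M z, ?_⟩
  rw [← hκ π z, hz, AddEquiv.apply_symm_apply]

end proj

section fibre

variable {X' X : Scheme.{u}} (g : X' ⟶ X)

/-- if the pullback of a global section `t` of an invertible module `F` generates `g^*F`, then `g` maps into the
locus where `t` generates `F`. -/
theorem range_le_genLocus_of_isGen_unitSec (F : X.Modules) (hF : PicF.IsInvertible F) (t : Γ(F, ⊤))
    (hu : IsGen ((Scheme.Modules.pullback g).obj F) (g ⁻¹ᵁ ⊤) (unitSec g F (le_refl (g ⁻¹ᵁ ⊤)) t))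
    (x' : X') : g x' ∈ CohB1.genLocus F (secHom F t) := by
  haveI : F.IsQuasicoherent := isQuasicoherent_of_isInvertible F hF
  obtain ⟨W, ε, hxW, hW, hε⟩ := Groth.Agent.Lib.Helper23.PB.exists_affine_gen F hF (g x')
  have hσ := Groth.Agent.Lib.Helper23.PB.isGen_unitSec g F hW ε hε
  obtain ⟨c, hc⟩ : ∃ c : Γ(X, W), c = coef hε le_rfl (res F le_top t) := ⟨_, rfl⟩
  have hspec : c • ε = res F le_top t := by
    have := coef_spec hε le_rfl (res F (le_top : W ≤ ⊤) t)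
    rw [res_self, ← hc] at this
    exact this
  -- the pulled back section on `g⁻¹W`
  have h1 : res ((Scheme.Modules.pullback g).obj F) (g.preimage_mono (le_top : W ≤ ⊤))
      (unitSec g F (le_refl (g ⁻¹ᵁ ⊤)) t) = (g.app W c) • unitSec g F (le_refl (g ⁻¹ᵁ W)) ε := by
    rw [Groth.Agent.Lib.Helper23.PB.res_unitSec g F (le_refl (g ⁻¹ᵁ ⊤)) (le_refl (g ⁻¹ᵁ W)) le_top
      (g.preimage_mono le_top) t, ← hspec, unitSec_smul, Scheme.Hom.appLE_eq_app]
  have h2 : IsGen ((Scheme.Modules.pullback g).obj F) (g ⁻¹ᵁ W)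
      ((g.app W c) • unitSec g F (le_refl (g ⁻¹ᵁ W)) ε) := by
    rw [← h1]
    exact hu.mono (g.preimage_mono le_top)
  have h3 : IsUnit (g.app W c) := (Groth.Agent.Lib.Helper23.GenNear.isGen_smul_iff hσ _).1 h2
  have h4 : g ⁻¹ᵁ (X.basicOpen c) = g ⁻¹ᵁ W := by
    rw [Scheme.preimage_basicOpen, Scheme.basicOpen_of_isUnit _ h3]
  have h5 : g x' ∈ X.basicOpen c := by
    have : x' ∈ g ⁻¹ᵁ (X.basicOpen c) := by rw [h4]; exact hxW
    exact this
  have hsv : sv (secHom F t) W = c • ε := by rw [sv_secHom, hspec]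
  have h6 := genLocus_inf_eq_of_isGen F (secHom F t) W ε c hε hsv
  rw [← h6] at h5
  exact h5.1

/-- a nonzero global section of a trivial module generates it, when the nonzero global functions are units. -/
theorem isGen_of_ne_zero {Z : Scheme.{u}} (N : Z.Modules) (τ : N ≅ Coh.structureModule Z)
    (hK : ∀ c : Γ(Z, ⊤), c ≠ 0 → IsUnit c) (W : Z.Opens) (hW : W = ⊤) (u : Γ(N, W)) (hu : u ≠ 0) :
    IsGen N W u := by
  subst hW
  have hgen0 : IsGen N ⊤ (τ.symm.hom.app ⊤ (toS ⊤ 1)) :=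
    Groth.Agent.Lib.Helper23.PB.isGen_of_iso τ.symm (isGen_one ⊤)
  obtain ⟨c, hc⟩ : ∃ c : Γ(Z, ⊤), c = coef hgen0 le_rfl u := ⟨_, rfl⟩
  have hspec : c • τ.symm.hom.app ⊤ (toS ⊤ 1) = u := by
    have := coef_spec hgen0 le_rfl u
    rw [res_self, ← hc] at this
    exact this
  have hc0 : c ≠ 0 := by
    intro h0
    apply hu
    rw [← hspec, h0, zero_smul]
  rw [← hspec]
  exact (Groth.Agent.Lib.Helper23.GenNear.isGen_smul_iff hgen0 c).2 (hK c hc0)

end fibre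

section main

variable {X Y : Scheme.{u}} (f : X ⟶ Y)

set_option maxHeartbeats 1000000 in
/-- **A generator near a fibre.** -/
theorem exists_isGen_near_fibre [IsProper f] [Flat f] [IsLocallyNoetherian Y] [IsReduced Y]
    (L : X.Modules) (hL : PicF.IsInvertible L)
    (h1 : ∀ y, CohIII.fiberRank f L 0 y = 1)
    (y₀ : Y) (τ : CohIII.fiberMod f L y₀ ≅ Coh.structureModule (f.fiber y₀))
    (hK : ∀ c : Γ(f.fiber y₀, ⊤), c ≠ 0 → IsUnit c) :
    ∃ (U : Y.Opens) (t : Γ(L, f ⁻¹ᵁ U)), y₀ ∈ U ∧ IsGen L (f ⁻¹ᵁ U) t := by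
  obtain ⟨V, hV, hy₀V, -⟩ := exists_isAffineOpen_mem_and_subset (x := y₀) (U := ⊤) trivial
  letI := overV (A := ↑Γ(Y, V)) f hV.isoSpec
  haveI : IsNoetherianRing ↑Γ(Y, V) := IsLocallyNoetherian.component_noetherian ⟨V, hV⟩
  haveI : IsReduced ↑Γ(Y, V) := inferInstance
  haveI hprop : IsProper ((f ⁻¹ᵁ V).toScheme ↘ Spec (CommRingCat.of ↑Γ(Y, V))) :=
    isProper_overV (A := ↑Γ(Y, V)) f hV.isoSpec
  haveI : IsSeparated ((f ∣_ V) ≫ hV.isoSpec.hom) :=
    (isProper_overV (A := ↑Γ(Y, V)) f hV.isoSpec).toIsSeparated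
  haveI : CompactSpace ↥(f ⁻¹ᵁ V).toScheme :=
    Groth.Agent.R2.H16.CbcFinal.compactSpace_of_isProper ↑Γ(Y, V) (f ⁻¹ᵁ V).toScheme
  have hcohL : Coh.IsCoh L := Groth.Agent.R2.H62.CurveInv.isCoh_of_isInvertible hL
  have hflL := Groth.Agent.R2.H16.SeesawClosed.isFlatOver_of_isInvertible f L hL
  haveI : L.IsQuasicoherent := hcohL.1
  have hcoh := isCoh_restrict f L (V := V) hcohL
  haveI : (L.restrict (f ⁻¹ᵁ V).ι).IsQuasicoherent := hcoh.1
  have hflV := isFlatOver_restrict (A := ↑Γ(Y, V)) f L hV.isoSpec hflL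
  obtain ⟨Q, -, ⟨eQ⟩⟩ := Groth.Agent.R2.H11.CbcGamma.s2436_of ↑Γ(Y, V) (L.restrict (f ⁻¹ᵁ V).ι) hcoh hflV
    (fun n => Groth.Agent.S0002.result ↑Γ(Y, V) (f ⁻¹ᵁ V).toScheme (L.restrict (f ⁻¹ᵁ V).ι) hcoh n)
  -- projectivity of `Q`
  obtain ⟨Lc, dd, hLc, -, -, hbr, hfib⟩ := exists_bridge_glob' f L hV hcohL hflL
  obtain ⟨β⟩ := hbr 0
  have hLc' : ∀ i, Module.Finite ↑Γ(Y, V) (Lc.X i) ∧ Module.Flat ↑Γ(Y, V) (Lc.X i) := fun i =>
    ⟨(hLc i).1, haveI := (hLc i).2; inferInstance⟩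
  have hlc : IsLocallyConstant (CohIII.dRank Lc (-((0 : ℕ) : ℤ))) := by
    have hfun : CohIII.dRank Lc (-((0 : ℕ) : ℤ)) = fun _ => 1 := by
      funext x
      have h := (hfib 0 (hV.fromSpec x) (Groth.Agent.Lib.Helper2.QCoh.fromSpec_mem hV x)).1
      rw [Groth.Agent.Lib.Helper2.QCoh.primeIdealOf_fromSpec hV x] at h
      rw [← h]
      exact h1 _
    rw [hfun]
    exact IsLocallyConstant.const 1
  have hex := (Groth.Agent.S2381.result Lc hLc' (-((0 : ℕ) : ℤ))).2 inferInstance hlc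
  haveI : Module.Projective ↑Γ(Y, V) Q :=
    projective_of_bridge (L.restrict (f ⁻¹ᵁ V).ι) Q eQ Lc _ β hex.2
  -- the fibre has a nonzero section
  have hne : ¬ Subsingleton (Coh.HH (f.fiber y₀)
      ((Scheme.Modules.pullback (gV f hV.isoSpec y₀ hy₀V)).obj (L.restrict (f ⁻¹ᵁ V).ι)) 0) := by
    intro hs
    haveI : Subsingleton (CohIII.fiberH f L y₀ 0) :=
      (HHcongr (fiberModIso f L hV.isoSpec y₀ hy₀V _ (eRestrict f L)) 0).symm.injective.subsingleton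
    have h := h1 y₀
    unfold CohIII.fiberRank at h
    rw [Module.finrank_zero_of_subsingleton] at h
    exact zero_ne_one h
  obtain ⟨t, ht⟩ := Groth.Agent.R2.H16.SeesawLift.exists_section_unitSec_ne_zero
    (ρ := (ρYc hV.isoSpec y₀ hy₀V).hom) (L.restrict (f ⁻¹ᵁ V).ι)
    (isPullback_gV f hV.isoSpec y₀ hy₀V) Q eQ hne
  -- the pulled back section generates on the fibre
  have hFVinv : PicF.IsInvertible (L.restrict (f ⁻¹ᵁ V).ι) := isInvertible_restrict L hL (f ⁻¹ᵁ V)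
  have hu := isGen_of_ne_zero _
    (fiberModIso f L hV.isoSpec y₀ hy₀V _ (eRestrict f L) ≪≫ τ) hK
    ((gV f hV.isoSpec y₀ hy₀V) ⁻¹ᵁ ⊤) rfl _ ht
  have hrange := range_le_genLocus_of_isGen_unitSec (gV f hV.isoSpec y₀ hy₀V)
    (L.restrict (f ⁻¹ᵁ V).ι) hFVinv t hu
  -- spreading out, as `f` is closed
  obtain ⟨G, hG⟩ : ∃ G : (f ⁻¹ᵁ V).toScheme.Opens,
      G = CohB1.genLocus (L.restrict (f ⁻¹ᵁ V).ι) (secHom (L.restrict (f ⁻¹ᵁ V).ι) t) := ⟨_, rfl⟩
  rw [← hG] at hrange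
  have hZ : IsClosed ((((f ⁻¹ᵁ V).ι ''ᵁ G : X.Opens) : Set X)ᶜ) :=
    isClosed_compl_iff.2 ((f ⁻¹ᵁ V).ι ''ᵁ G).isOpen
  have hfZ : IsClosed (f.base '' ((((f ⁻¹ᵁ V).ι ''ᵁ G : X.Opens) : Set X)ᶜ)) := f.isClosedMap _ hZ
  let U : Y.Opens := V ⊓ ⟨(f.base '' ((((f ⁻¹ᵁ V).ι ''ᵁ G : X.Opens) : Set X)ᶜ))ᶜ, hfZ.isOpen_compl⟩
  have hy₀U : y₀ ∈ U := by
    refine ⟨hy₀V, ?_⟩
    rintro ⟨z, hzZ, hzy⟩
    apply hzZ
    have hz : z ∈ Set.range (f.fiberι y₀) := by
      rw [f.range_fiberι y₀]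
      exact hzy
    obtain ⟨x', rfl⟩ := hz
    refine ⟨gV f hV.isoSpec y₀ hy₀V x', hrange x', ?_⟩
    have := congrArg (fun φ : f.fiber y₀ ⟶ X => φ.base x') (gV_ι f hV.isoSpec y₀ hy₀V)
    exact this
  have hUG : f ⁻¹ᵁ U ≤ (f ⁻¹ᵁ V).ι ''ᵁ G := by
    intro x hx
    by_contra hx'
    exact hx.2 ⟨x, hx', rfl⟩
  -- the generator
  have hgenG := isGen_sv_genLocus (L.restrict (f ⁻¹ᵁ V).ι) (secHom (L.restrict (f ⁻¹ᵁ V).ι) t)
  rw [← hG, sv_secHom] at hgenG
  have hgenG' := isGen_of_isGen_restrict L (f ⁻¹ᵁ V) G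
    (show Γ(L, (f ⁻¹ᵁ V).ι ''ᵁ G) from res (L.restrict (f ⁻¹ᵁ V).ι) le_top t) hgenG
  exact ⟨U, _, hy₀U, hgenG'.mono hUG⟩

end main

end Groth.Agent.R2.H16.SeesawLocal
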