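import Mathlib
import Groth.Agent.R2.H16SeesawLocal
import Groth.Agent.R2.H16CohFlat0Main

/-!
# Seesaw: invertibility of the direct image and the counit (helper16)

Namespace `Groth.Agent.R2.H16.SeesawMain`.

* `isoOn_of_isGen` : a morphism taking a generator to a generator is an isomorphism there.
* `isIso_app_of_finrank` : `h^0(X_y, O) = 1` for all `y` ⇒ `O_Y(W) ≅ O_X(f⁻¹W)` for all opens `W`.
* `isGen_pushforward`, `counit_app_unitSec`.
* `seesaw` : `f : X ⟶ Y` proper flat, `Y` locally Noetherian reduced, `h^0(X_y, O) = 1` for all `y`, `L` invertible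
  and trivial on every fibre ⇒ `f_*L` invertible and `f^*f_*L ⟶ L` an isomorphism.
-/

set_option autoImplicit false
set_option linter.style.haveILetI false
set_option linter.unusedSectionVars false
universe u
open CategoryTheory CategoryTheory.Limits AlgebraicGeometry Opposite TopologicalSpace

namespace Groth.Agent.R2.H16.SeesawMain

open Groth.Agent.Lib.Helper23.SecTw Groth.Agent.Lib.Helper23.GenLocus Groth.Agent.Lib.Helper6
  Groth.Agent.Helper13PullbackUnit Groth.Agent.Lib.Helper23.Extend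

section gen

variable {X : Scheme.{u}}

/-- a morphism taking a generator to a generator is an isomorphism there. -/
theorem isoOn_of_isGen {M N : X.Modules} (φ : M ⟶ N) {W : X.Opens} {a : Γ(M, W)} (ha : IsGen M W a)
    (hb : IsGen N W (φ.app W a)) : IsoOn φ W := by
  intro W' hW'
  rw [ConcreteCategory.isIso_iff_bijective]
  have h1 := ha W' hW'
  have h2 := hb W' hW'
  have hfun : (fun r : Γ(X, W') => r • res N hW' (φ.app W a)) =
      ⇑(φ.app W') ∘ (fun r : Γ(X, W') => r • res M hW' a) := by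
    funext r
    simp only [Function.comp]
    rw [Scheme.Modules.Hom.app_smul]
    congr 1
    exact (app_map φ (homOfLE hW') a).symm
  rw [hfun] at h2
  exact (Function.Bijective.of_comp_iff _ h1).1 h2

end gen

section main

variable {X Y : Scheme.{u}} (f : X ⟶ Y)

/-- `h^0(X_y, O) = 1` for all `y` ⇒ `O_Y(W) ≅ O_X(f⁻¹W)`. -/
theorem isIso_app_of_finrank [IsProper f] [Flat f] [IsLocallyNoetherian Y]
    (h0 : ∀ y : Y, Module.finrank (Y.residueField y) Γ(f.fiber y, ⊤) = 1) (W : Y.Opens) :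
    IsIso (f.app W) := by
  have h := Groth.Agent.R2.H16.CohFlat0Main.isIso_app_baseChange f h0 Y (𝟙 Y) W
  have hp : pullback.snd f (𝟙 Y) = pullback.fst f (𝟙 Y) ≫ f := by
    rw [pullback.condition, Category.comp_id]
  rw [hp, Scheme.Hom.comp_app] at h
  haveI hiso1 : IsIso (pullback.fst f (𝟙 Y)) := inferInstance
  have hiso2 : IsIso ((pullback.fst f (𝟙 Y)).app (f ⁻¹ᵁ W)) := inferInstance
  exact @IsIso.of_isIso_comp_right _ _ _ _ _ (f.app W) ((pullback.fst f (𝟙 Y)).app (f ⁻¹ᵁ W)) hiso2 h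

/-- a generator of `L` over `f⁻¹U` generates `f_*L` over `U`, if `O_Y = f_*O_X` over `U`. -/
theorem isGen_pushforward (L : X.Modules) {U : Y.Opens} (t : Γ(L, f ⁻¹ᵁ U)) (ht : IsGen L (f ⁻¹ᵁ U) t)
    (hiso : ∀ W : Y.Opens, W ≤ U → Function.Bijective (f.app W)) :
    IsGen ((Scheme.Modules.pushforward f).obj L) U
      (show Γ((Scheme.Modules.pushforward f).obj L, U) from t) := by
  intro W hW
  have h1 := ht (f ⁻¹ᵁ W) (f.preimage_mono hW)
  have hfun : (fun r : Γ(Y, W) => r • res ((Scheme.Modules.pushforward f).obj L) hW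
        (show Γ((Scheme.Modules.pushforward f).obj L, U) from t)) =
      (fun r' : Γ(X, f ⁻¹ᵁ W) => r' • res L (f.preimage_mono hW) t) ∘ ⇑(f.app W) := by
    funext r
    rfl
  rw [hfun]
  exact h1.comp (hiso W hW)

/-- the counit on the pulled back sections (triangle identity). -/
theorem counit_app_unitSec (L : X.Modules) (U : Y.Opens)
    (e : Γ((Scheme.Modules.pushforward f).obj L, U)) :
    ((Scheme.Modules.pullbackPushforwardAdjunction f).counit.app L).app (f ⁻¹ᵁ U)
        (unitSec f ((Scheme.Modules.pushforward f).obj L) (le_refl (f ⁻¹ᵁ U)) e) =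
      (show Γ(L, f ⁻¹ᵁ U) from e) := by
  have h := (Scheme.Modules.pullbackPushforwardAdjunction f).right_triangle_components L
  have h2 := congrArg (fun ψ => Scheme.Modules.Hom.app ψ U e) h
  rw [unitSec_apply]
  have hid : (homOfLE (le_refl (f ⁻¹ᵁ U))).op = 𝟙 (op (f ⁻¹ᵁ U)) := rfl
  rw [hid, CategoryTheory.Functor.map_id]
  exact h2

/-- `h^0(X_y, O) = 1` ⇒ the nonzero global functions of the fibre are units. -/
theorem isUnit_of_finrank_eq_one (y : Y)
    (h0 : Module.finrank (Y.residueField y) Γ(f.fiber y, ⊤) = 1) (c : Γ(f.fiber y, ⊤)) (hc : c ≠ 0) :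
    IsUnit c := by
  haveI : Nontrivial Γ(f.fiber y, ⊤) := ⟨⟨c, 0, hc⟩⟩
  have h1 : (1 : Γ(f.fiber y, ⊤)) ≠ 0 := one_ne_zero
  obtain ⟨k, hk⟩ := (finrank_eq_one_iff_of_nonzero' (1 : Γ(f.fiber y, ⊤)) h1).1 h0 c
  have hk0 : k ≠ 0 := by
    intro h
    apply hc
    rw [← hk, h, zero_smul]
  have hku : IsUnit k := isUnit_iff_ne_zero.2 hk0
  have : c = algebraMap (Y.residueField y) Γ(f.fiber y, ⊤) k := by
    rw [← hk, Algebra.smul_def, mul_one]
  rw [this]
  exact hku.map _

/-- `h^0(X_y, L_y) = h^0(X_y, O)` when `L_y ≅ O`. -/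
theorem fiberRank_eq_of_iso (L : X.Modules) (y : Y)
    (τ : CohIII.fiberMod f L y ≅ Coh.structureModule (f.fiber y)) :
    CohIII.fiberRank f L 0 y = Module.finrank (Y.residueField y) Γ(f.fiber y, ⊤) := by
  letI : (f.fiber y).Over (Spec (CommRingCat.of (Y.residueField y))) :=
    ⟨f.fiberToSpecResidueField y⟩
  have h1 := Groth.Agent.R2.H89.GammaField.finrank_HH_zero (Y.residueField y) (f.fiber y)
  refine Eq.trans ?_ h1
  unfold CohIII.fiberRank
  let e : CohIII.fiberH f L y 0 ≃ₗ[Y.residueField y]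
      Coh.HH (f.fiber y) (Coh.structureModule (f.fiber y)) 0 :=
    { (Groth.Agent.R2.H16.CbcFIGlob.HHcongr τ 0) with
      map_smul' := fun r x =>
        Groth.Agent.R2.H16.CbcFIGlob.HHcongr_smul τ 0
          (Coh.toGlobal (X := f.fiber y) (A := Y.residueField y) (f.fiberToSpecResidueField y) r) x }
  exact e.finrank_eq

/-- **Seesaw**: over a reduced locally Noetherian base, with `h^0(X_y, O) = 1` for all `y`, an invertible module
trivial on all fibres has invertible direct image and is the pullback of it. -/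
theorem seesaw [IsProper f] [Flat f] [IsLocallyNoetherian Y] [IsReduced Y]
    (h0 : ∀ y : Y, Module.finrank (Y.residueField y) Γ(f.fiber y, ⊤) = 1)
    (L : X.Modules) (hL : PicF.IsInvertible L)
    (htriv : ∀ y : Y, Nonempty (CohIII.fiberMod f L y ≅ Coh.structureModule (f.fiber y))) :
    PicF.IsInvertible ((Scheme.Modules.pushforward f).obj L) ∧
      IsIso ((Scheme.Modules.pullbackPushforwardAdjunction f).counit.app L) := by
  have h1 : ∀ y, CohIII.fiberRank f L 0 y = 1 := fun y => by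
    obtain ⟨τ⟩ := htriv y
    rw [fiberRank_eq_of_iso f L y τ, h0 y]
  have hbij : ∀ W : Y.Opens, Function.Bijective (f.app W) := fun W => by
    haveI := isIso_app_of_finrank f h0 W
    exact ConcreteCategory.bijective_of_isIso _
  -- local generators
  have hloc : ∀ y₀ : Y, ∃ (U : Y.Opens) (t : Γ(L, f ⁻¹ᵁ U)), y₀ ∈ U ∧ IsGen L (f ⁻¹ᵁ U) t := fun y₀ => by
    obtain ⟨τ⟩ := htriv y₀
    exact Groth.Agent.R2.H16.SeesawLocal.exists_isGen_near_fibre f L hL h1 y₀ τ
      (isUnit_of_finrank_eq_one f y₀ (h0 y₀))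
  have hinv : PicF.IsInvertible ((Scheme.Modules.pushforward f).obj L) := by
    refine isInvertible_of_isGen _ (fun y₀ => ?_)
    obtain ⟨U, t, hy₀U, ht⟩ := hloc y₀
    exact ⟨U, _, hy₀U, isGen_pushforward f L t ht (fun W _ => hbij W)⟩
  refine ⟨hinv, ?_⟩
  haveI : ((Scheme.Modules.pushforward f).obj L).IsQuasicoherent :=
    isQuasicoherent_of_isInvertible _ hinv
  rw [Scheme.Modules.Hom.isIso_iff_isIso_app]
  intro W
  rw [ConcreteCategory.isIso_iff_bijective]
  refine bijective_app_of_cover _ W (fun x _ => ?_)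
  obtain ⟨U, t, hy₀U, ht⟩ := hloc (f x)
  obtain ⟨U', hU', hxU', hU'U⟩ := exists_isAffineOpen_mem_and_subset (X := Y) (x := f x) (U := U) hy₀U
  have hgen := (isGen_pushforward f L t ht (fun W _ => hbij W)).mono hU'U
  have hσ := Groth.Agent.Lib.Helper23.PB.isGen_unitSec f ((Scheme.Modules.pushforward f).obj L) hU' _ hgen
  refine ⟨f ⁻¹ᵁ U', hxU', isoOn_of_isGen _ hσ ?_⟩
  rw [counit_app_unitSec]
  exact ht.mono (f.preimage_mono hU'U)

end main

end Groth.Agent.R2.H16.SeesawMain
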