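import Mathlib
import Groth.Prelude.Def_Curv2
import Groth.Agent.R2.H79TwistCalc
import Groth.Agent.Lib.Helper23SecTw6
import Groth.Agent.Lib.Helper23TensorUnit
import Groth.Agent.R2.H62CohLES

/-!
# The twisting functors `M ↦ M ⊗ L_0^{n_0} ⊗ ⋯ ⊗ L_{r-1}^{n_{r-1}}` (helper62, PROJ:snapper)

`twF r L n : X.Modules ⥤ X.Modules` with `(twF r L n).obj M = Curv2.tensorPows M r L n`; for invertible `L i` it
is exact and preserves coherence; `twF r L n ≅ (- ⊗ twB r L n)` with `twB r L n` invertible; the shift identity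
`twF (r+1) L n (L_last) ≅ twF (r+1) L (n + e_last) (O)`; invariance of the Euler characteristic under isos.
-/

set_option autoImplicit false
universe u
open CategoryTheory CategoryTheory.Limits AlgebraicGeometry

namespace Groth.Agent.R2.H62.Snapper

open Groth.Agent.R2.H79.TwistCalc Groth.Agent.Lib.Helper21.ModTensor5

variable {X : Scheme.{u}}

/-- the twisting functor -/
noncomputable def twF : (r : ℕ) → (Fin r → X.Modules) → (Fin r → ℕ) → (X.Modules ⥤ X.Modules)
  | 0, _, _ => 𝟭 _
  | r + 1, L, n => twF r (fun i => L i.castSucc) (fun i => n i.castSucc) ⋙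
      tensorRightF (CohB1.tensorPow (L (Fin.last r)) (n (Fin.last r)))

theorem twF_obj : ∀ (r : ℕ) (L : Fin r → X.Modules) (n : Fin r → ℕ) (M : X.Modules),
    (twF r L n).obj M = Curv2.tensorPows M r L n
  | 0, _, _, _ => rfl
  | r + 1, L, n, M => by
    change CohB1.tensorMod ((twF r _ _).obj M) _ = CohB1.tensorMod (Curv2.tensorPows M r _ _) _
    rw [twF_obj r]

theorem twF_succ (r : ℕ) (L : Fin (r + 1) → X.Modules) (n : Fin (r + 1) → ℕ) :
    twF (r + 1) L n = twF r (fun i => L i.castSucc) (fun i => n i.castSucc) ⋙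
      tensorRightF (CohB1.tensorPow (L (Fin.last r)) (n (Fin.last r))) := rfl

theorem additive_twF : ∀ (r : ℕ) (L : Fin r → X.Modules) (n : Fin r → ℕ), (twF r L n).Additive
  | 0, _, _ => inferInstanceAs (𝟭 X.Modules).Additive
  | r + 1, L, n => by
    have := additive_twF r (fun i => L i.castSucc) (fun i => n i.castSucc)
    rw [twF_succ]
    infer_instance

instance (r : ℕ) (L : Fin r → X.Modules) (n : Fin r → ℕ) : (twF r L n).Additive :=
  additive_twF r L n

/-- braiding `A ⊗ B ≅ B ⊗ A` -/
noncomputable def brdIso (A B : X.Modules) : CohB1.tensorMod A B ≅ CohB1.tensorMod B A :=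
  ((brd X.sheaf).app A).app B

theorem preservesFiniteLimits_twF : ∀ (r : ℕ) (L : Fin r → X.Modules) (n : Fin r → ℕ)
    (_ : ∀ i, PicF.IsInvertible (L i)), PreservesFiniteLimits (twF r L n)
  | 0, _, _, _ => inferInstanceAs (PreservesFiniteLimits (𝟭 X.Modules))
  | r + 1, L, n, hL => by
    have := preservesFiniteLimits_twF r (fun i => L i.castSucc) (fun i => n i.castSucc)
      (fun i => hL i.castSucc)
    have := preservesFiniteLimits_tensorRightF _
      (Groth.Agent.Lib.Helper23.SecTw.isInvertible_tensorPow (hL (Fin.last r)) (n (Fin.last r)))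
    rw [twF_succ]
    exact comp_preservesFiniteLimits _ _

theorem preservesFiniteColimits_twF : ∀ (r : ℕ) (L : Fin r → X.Modules) (n : Fin r → ℕ),
    PreservesFiniteColimits (twF r L n)
  | 0, _, _ => inferInstanceAs (PreservesFiniteColimits (𝟭 X.Modules))
  | r + 1, L, n => by
    have := preservesFiniteColimits_twF r (fun i => L i.castSucc) (fun i => n i.castSucc)
    rw [twF_succ]
    exact comp_preservesFiniteColimits _ _

/-- short exact sequences are preserved -/
theorem shortExact_map_twF (r : ℕ) (L : Fin r → X.Modules) (n : Fin r → ℕ)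
    (hL : ∀ i, PicF.IsInvertible (L i)) (S : ShortComplex X.Modules) (hS : S.ShortExact) :
    (S.map (twF r L n)).ShortExact := by
  have := preservesFiniteLimits_twF r L n hL
  have := preservesFiniteColimits_twF r L n
  exact hS.map_of_exact (twF r L n)

/-- coherence is preserved -/
theorem isCoh_twF : ∀ (r : ℕ) (L : Fin r → X.Modules) (n : Fin r → ℕ)
    (_ : ∀ i, PicF.IsInvertible (L i)) (M : X.Modules) (_ : Coh.IsCoh M),
    Coh.IsCoh ((twF r L n).obj M)
  | 0, _, _, _, _, hM => hM
  | r + 1, L, n, hL, M, hM =>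
    isCoh_tensorMod _ _ (isCoh_twF r (fun i => L i.castSucc) (fun i => n i.castSucc)
      (fun i => hL i.castSucc) M hM)
      (Groth.Agent.Lib.Helper23.SecTw.isInvertible_tensorPow (hL (Fin.last r)) (n (Fin.last r)))

/-- the invertible module `O ⊗ L_0^{n_0} ⊗ ⋯` -/
noncomputable def twB (r : ℕ) (L : Fin r → X.Modules) (n : Fin r → ℕ) : X.Modules :=
  (twF r L n).obj (Coh.structureModule X)

theorem isInvertible_twB : ∀ (r : ℕ) (L : Fin r → X.Modules) (n : Fin r → ℕ)
    (_ : ∀ i, PicF.IsInvertible (L i)), PicF.IsInvertible (twB r L n)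
  | 0, _, _, _ => Groth.Agent.Lib.Helper23.TensorUnit.isInvertible_structureModule X
  | r + 1, L, n, hL =>
    Groth.Agent.Lib.Helper23.SecTw.isInvertible_tensorMod
      (isInvertible_twB r (fun i => L i.castSucc) (fun i => n i.castSucc) (fun i => hL i.castSucc))
      (Groth.Agent.Lib.Helper23.SecTw.isInvertible_tensorPow (hL (Fin.last r)) (n (Fin.last r)))

/-- `twF r L n ≅ (- ⊗ twB r L n)` -/
noncomputable def twFIso : ∀ (r : ℕ) (L : Fin r → X.Modules) (n : Fin r → ℕ),
    twF r L n ≅ tensorRightF (twB r L n)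
  | 0, _, _ => tensorRightFUnit.symm
  | r + 1, L, n =>
    Functor.isoWhiskerRight (twFIso r (fun i => L i.castSucc) (fun i => n i.castSucc)) _ ≪≫
      tensorAssocNatIso _ _


/-- **shift identity**: twisting `L_last` by `n` is twisting `O` by `n + e_last`. -/
theorem nonempty_twF_shift_iso (r : ℕ) (L : Fin (r + 1) → X.Modules) (n : Fin (r + 1) → ℕ) :
    Nonempty ((twF (r + 1) L n).obj (L (Fin.last r)) ≅
      (twF (r + 1) L (Function.update n (Fin.last r) (n (Fin.last r) + 1))).obj
        (Coh.structureModule X)) := by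
  have h1 : (fun i : Fin r => Function.update n (Fin.last r) (n (Fin.last r) + 1) i.castSucc) =
      fun i => n i.castSucc :=
    funext fun i => Function.update_of_ne (Fin.castSucc_lt_last i).ne _ _
  have h2 : Function.update n (Fin.last r) (n (Fin.last r) + 1) (Fin.last r) = n (Fin.last r) + 1 :=
    Function.update_self _ _ _
  rw [twF_succ, twF_succ, h1, h2]
  let L' : Fin r → X.Modules := fun i => L i.castSucc
  let n' : Fin r → ℕ := fun i => n i.castSucc
  let Λ := L (Fin.last r)
  let m := n (Fin.last r)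
  let A := twB r L' n'
  have e1 : (twF r L' n').obj Λ ≅ CohB1.tensorMod Λ A := (twFIso r L' n').app Λ
  have e2 : CohB1.tensorMod (CohB1.tensorMod Λ A) (CohB1.tensorPow Λ m) ≅
      CohB1.tensorMod (CohB1.tensorMod A Λ) (CohB1.tensorPow Λ m) :=
    (tensorRightF (CohB1.tensorPow Λ m)).mapIso (brdIso Λ A)
  have e3 : CohB1.tensorMod (CohB1.tensorMod A Λ) (CohB1.tensorPow Λ m) ≅
      CohB1.tensorMod A (CohB1.tensorMod Λ (CohB1.tensorPow Λ m)) := tensorAssocIso A Λ _
  have e4 : CohB1.tensorMod A (CohB1.tensorMod Λ (CohB1.tensorPow Λ m)) ≅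
      CohB1.tensorMod A (CohB1.tensorMod (CohB1.tensorPow Λ m) Λ) :=
    (tensorRightFCongr (brdIso Λ (CohB1.tensorPow Λ m))).app A
  exact ⟨(tensorRightF (CohB1.tensorPow Λ m)).mapIso e1 ≪≫ e2 ≪≫ e3 ≪≫ e4⟩

/-- twisting by `(n', 0)` is twisting by `n'` -/
theorem nonempty_twF_snoc_zero_iso (r : ℕ) (L : Fin (r + 1) → X.Modules) (n' : Fin r → ℕ)
    (M : X.Modules) :
    Nonempty ((twF (r + 1) L (Fin.snoc n' 0)).obj M ≅
      (twF r (fun i => L i.castSucc) n').obj M) := by
  have h1 : (fun i : Fin r => (Fin.snoc n' 0 : Fin (r + 1) → ℕ) i.castSucc) = n' :=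
    funext fun i => Fin.snoc_castSucc (α := fun _ => ℕ) _ _ _
  have h2 : (Fin.snoc n' 0 : Fin (r + 1) → ℕ) (Fin.last r) = 0 := Fin.snoc_last (α := fun _ => ℕ) _ _
  rw [twF_succ, h1, h2]
  exact ⟨tensorRightFUnit.app _⟩

section euler

variable (k : Type u) [Field k] [X.Over (Spec (CommRingCat.of k))]

open Groth.Agent.R2.H62.CohLES in
/-- the Euler characteristic only depends on the isomorphism class -/
theorem euler_congr {M N : X.Modules} (e : M ≅ N) : Curv2.euler k X M = Curv2.euler k X N := by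
  unfold Curv2.euler
  refine finsum_congr fun i => ?_
  have h : Module.finrank k (Coh.HH X M i) = Module.finrank k (Coh.HH X N i) := by
    refine LinearEquiv.finrank_eq (LinearEquiv.ofLinear (HHmapA k e.hom i) (HHmapA k e.inv i) ?_ ?_)
    · ext x
      change HHmap e.hom i (HHmap e.inv i x) = x
      rw [← HHmap_comp, e.inv_hom_id, HHmap_id]
    · ext x
      change HHmap e.inv i (HHmap e.hom i x) = x
      rw [← HHmap_comp, e.hom_inv_id, HHmap_id]
  rw [h]

end euler

end Groth.Agent.R2.H62.Snapper
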