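import Mathlib
import Groth.Agent.R2.H16SeesawClosed
import Groth.Agent.R2.H62SnapTw
import Groth.Agent.Lib.Helper23AmpleIso
import Groth.Agent.Lib.Helper23SecTw6

/-!
# Seesaw, relative form: fibrewise isomorphic invertible modules differ by a pullback (helper16)

Namespace `Groth.Agent.R2.H16.SeesawTensor`.

* `fibre_trivial_tensor_inverse` : `L_y ≅ M_y`, `M ⊗ M' ≅ O` ⇒ `(L ⊗ M')_y ≅ O`.
* `nonempty_iso_tensor_of_iso` : `N ≅ L ⊗ M'`-bookkeeping: `P ≅ L ⊗ M'`, `M ⊗ M' ≅ O` ⇒ `L ≅ M ⊗ P`.
* `exists_iso_tensor_pullback` : given the seesaw conclusion for all fibrewise trivial invertible modules,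
  fibrewise isomorphic invertible `L, M` satisfy `L ≅ M ⊗ f^*E` with `E` invertible.
-/

set_option autoImplicit false
set_option linter.style.haveILetI false
set_option linter.unusedSectionVars false
universe u
open CategoryTheory CategoryTheory.Limits AlgebraicGeometry Opposite TopologicalSpace

namespace Groth.Agent.R2.H16.SeesawTensor

open Groth.Agent.Lib.Helper23.AmpleIso Groth.Agent.Lib.Helper23.TensorUnit
  Groth.Agent.R2.H79.TwistCalc Groth.Agent.R2.H62.Snapper

variable {X Y : Scheme.{u}}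

/-- `P ≅ L ⊗ M'` and `M ⊗ M' ≅ O` give `L ≅ M ⊗ P`. -/
theorem nonempty_iso_tensor_of_iso {L M M' P : X.Modules} (eP : P ≅ CohB1.tensorMod L M')
    (e : CohB1.tensorMod M M' ≅ Coh.structureModule X) :
    Nonempty (L ≅ CohB1.tensorMod M P) := by
  refine ⟨Iso.symm ?_⟩
  exact tensorModIso (Iso.refl M) eP ≪≫ (tensorAssocIso M L M').symm ≪≫
    tensorModIso (brdIso M L) (Iso.refl M') ≪≫ tensorAssocIso L M M' ≪≫
    tensorModIso (Iso.refl L) e ≪≫ tensorUnitIso L

/-- `L_y ≅ M_y` and `M ⊗ M' ≅ O` give `(L ⊗ M')_y ≅ O_{X_y}` (any morphism `g` in place of the fibre inclusion). -/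
theorem nonempty_pullback_tensor_inverse_iso {Z : Scheme.{u}} (g : Z ⟶ X) {L M M' : X.Modules}
    (hL : PicF.IsInvertible L) (hM : PicF.IsInvertible M) (hM' : PicF.IsInvertible M')
    (e : CohB1.tensorMod M M' ≅ Coh.structureModule X)
    (hLM : Nonempty ((Scheme.Modules.pullback g).obj L ≅ (Scheme.Modules.pullback g).obj M)) :
    Nonempty ((Scheme.Modules.pullback g).obj (CohB1.tensorMod L M') ≅ Coh.structureModule Z) := by
  obtain ⟨t1⟩ := Groth.Agent.Lib.Helper23.PB.nonempty_pullback_tensorMod_iso g L M' hL hM'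
  obtain ⟨t2⟩ := Groth.Agent.Lib.Helper23.PB.nonempty_pullback_tensorMod_iso g M M' hM hM'
  obtain ⟨τ⟩ := hLM
  exact ⟨t1 ≪≫ tensorModIso τ (Iso.refl _) ≪≫ t2.symm ≪≫ (Scheme.Modules.pullback g).mapIso e ≪≫
    Groth.Agent.Lib.Helper23.PB.pullbackUnitIso g⟩

/-- **Relative seesaw**: if every fibrewise trivial invertible module is the pullback of its (invertible) direct
image, then two fibrewise isomorphic invertible modules differ by the pullback of an invertible module on `Y`. -/
theorem exists_iso_tensor_pullback (f : X ⟶ Y) (L M : X.Modules) (hL : PicF.IsInvertible L)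
    (hM : PicF.IsInvertible M)
    (hLM : ∀ y : Y, Nonempty ((Scheme.Modules.pullback (f.fiberι y)).obj L ≅
      (Scheme.Modules.pullback (f.fiberι y)).obj M))
    (hsee : ∀ N : X.Modules, PicF.IsInvertible N →
      (∀ y : Y, Nonempty ((Scheme.Modules.pullback (f.fiberι y)).obj N ≅ Coh.structureModule (f.fiber y))) →
      PicF.IsInvertible ((Scheme.Modules.pushforward f).obj N) ∧
        IsIso ((Scheme.Modules.pullbackPushforwardAdjunction f).counit.app N)) :
    ∃ E : Y.Modules, PicF.IsInvertible E ∧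
      Nonempty (L ≅ CohB1.tensorMod M ((Scheme.Modules.pullback f).obj E)) := by
  obtain ⟨M', hM', ⟨e⟩, -⟩ := Groth.Agent.R2.H34.InvDual.exists_inverse M hM
  have hN : PicF.IsInvertible (CohB1.tensorMod L M') :=
    Groth.Agent.Lib.Helper23.SecTw.isInvertible_tensorMod hL hM'
  obtain ⟨hE, hiso⟩ := hsee (CohB1.tensorMod L M') hN
    (fun y => nonempty_pullback_tensor_inverse_iso (f.fiberι y) hL hM hM' e (hLM y))
  haveI := hiso
  exact ⟨_, hE, nonempty_iso_tensor_of_iso
    (asIso ((Scheme.Modules.pullbackPushforwardAdjunction f).counit.app (CohB1.tensorMod L M'))) e⟩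

end Groth.Agent.R2.H16.SeesawTensor
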