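import Mathlib
import Groth.Agent.R2.H16SeesawTensor
import Groth.Agent.R2.H16SeesawMain
import Groth.Agent.R2.H16SeesawGeomH0

/-!
# Seesaw over a Jacobson base: fibrewise conditions at closed points only (helper16)

Namespace `Groth.Agent.R2.H16.SeesawJac`.

* `fibre_trivial_of_closedPoints` : `f` proper flat with integral fibres over a locally Noetherian Jacobson base,
  `N` invertible trivial on the fibres over all closed points ⇒ trivial on all fibres.
* `exists_iso_tensor_pullback_of_closedPoints` : relative seesaw with the hypothesis at closed points only.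
* `geometricallyConnected_of_geometricallyIrreducible`.
* `finrank_Γ_fiber_eq_one_of_geom` : `f` proper flat, geometrically connected and geometrically reduced ⇒
  `h^0(X_y, O) = 1` for all `y`.
-/

set_option autoImplicit false
set_option linter.style.haveILetI false
set_option linter.unusedSectionVars false
universe u
open CategoryTheory CategoryTheory.Limits AlgebraicGeometry Opposite TopologicalSpace

namespace Groth.Agent.R2.H16.SeesawJac

variable {X Y : Scheme.{u}} (f : X ⟶ Y)

/-- triviality on the fibres over closed points spreads to all fibres (Jacobson base). -/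
theorem fibre_trivial_of_closedPoints [IsProper f] [Flat f] [IsLocallyNoetherian Y] [JacobsonSpace Y]
    (hint : ∀ y : Y, IsIntegral (f.fiber y)) (N : X.Modules) (hN : PicF.IsInvertible N)
    (h : ∀ y : Y, IsClosed ({y} : Set Y) →
      Nonempty (CohIII.fiberMod f N y ≅ Coh.structureModule (f.fiber y))) (y : Y) :
    Nonempty (CohIII.fiberMod f N y ≅ Coh.structureModule (f.fiber y)) := by
  have hcl := Groth.Agent.R2.H16.SeesawClosed.isClosed_setOf_fibre_trivial f hint N hN
  by_contra hy
  obtain ⟨y₁, hy₁, hy₁c⟩ := nonempty_inter_closedPoints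
    (Z := {y : Y | Nonempty (CohIII.fiberMod f N y ≅ Coh.structureModule (f.fiber y))}ᶜ)
    ⟨y, hy⟩ hcl.isOpen_compl.isLocallyClosed
  exact hy₁ (h y₁ hy₁c)

/-- **Relative seesaw, closed points**: `L_y ≅ M_y` for all closed points `y` ⇒ `L ≅ M ⊗ f^*E`. -/
theorem exists_iso_tensor_pullback_of_closedPoints [IsProper f] [Flat f] [IsLocallyNoetherian Y]
    [IsReduced Y] [JacobsonSpace Y] (hint : ∀ y : Y, IsIntegral (f.fiber y))
    (h0 : ∀ y : Y, Module.finrank (Y.residueField y) Γ(f.fiber y, ⊤) = 1)
    (L M : X.Modules) (hL : PicF.IsInvertible L) (hM : PicF.IsInvertible M)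
    (hLM : ∀ y : Y, IsClosed ({y} : Set Y) →
      Nonempty ((Scheme.Modules.pullback (f.fiberι y)).obj L ≅
        (Scheme.Modules.pullback (f.fiberι y)).obj M)) :
    ∃ E : Y.Modules, PicF.IsInvertible E ∧
      Nonempty (L ≅ CohB1.tensorMod M ((Scheme.Modules.pullback f).obj E)) := by
  obtain ⟨M', hM', ⟨e⟩, -⟩ := Groth.Agent.R2.H34.InvDual.exists_inverse M hM
  have hN : PicF.IsInvertible (CohB1.tensorMod L M') :=
    Groth.Agent.Lib.Helper23.SecTw.isInvertible_tensorMod hL hM'
  have htriv := fibre_trivial_of_closedPoints f hint (CohB1.tensorMod L M') hN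
    (fun y hy => Groth.Agent.R2.H16.SeesawTensor.nonempty_pullback_tensor_inverse_iso
      (f.fiberι y) hL hM hM' e (hLM y hy))
  obtain ⟨hE, hiso⟩ := Groth.Agent.R2.H16.SeesawMain.seesaw f h0 (CohB1.tensorMod L M') hN htriv
  haveI := hiso
  exact ⟨_, hE, Groth.Agent.R2.H16.SeesawTensor.nonempty_iso_tensor_of_iso
    (asIso ((Scheme.Modules.pullbackPushforwardAdjunction f).counit.app (CohB1.tensorMod L M'))) e⟩

/-- geometrically irreducible morphisms are geometrically connected. -/
theorem geometricallyConnected_of_geometricallyIrreducible [GeometricallyIrreducible f] :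
    GeometricallyConnected f := by
  refine ⟨fun K _ y Z fst snd h => ?_⟩
  haveI : IrreducibleSpace Z :=
    GeometricallyIrreducible.geometrically_irreducibleSpace (f := f) y fst snd h
  change ConnectedSpace Z
  infer_instance

/-- `h^0(X_y, O) = 1` for `f` proper flat, geometrically connected and geometrically reduced. -/
theorem finrank_Γ_fiber_eq_one_of_geom [IsProper f] [Flat f] [GeometricallyConnected f]
    [GeometricallyReduced f] (y : Y) :
    Module.finrank (Y.residueField y) Γ(f.fiber y, ⊤) = 1 := by
  letI : (f.fiber y).Over (Spec (CommRingCat.of (Y.residueField y))) :=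
    ⟨f.fiberToSpecResidueField y⟩
  haveI : IsProper (f.fiberToSpecResidueField y) := by
    have : IsProper (Limits.pullback.snd f (Y.fromSpecResidueField y)) := inferInstance
    exact this
  haveI : IsProper ((f.fiber y) ↘ Spec (CommRingCat.of (Y.residueField y))) :=
    (inferInstance : IsProper (f.fiberToSpecResidueField y))
  haveI : Flat (f.fiberToSpecResidueField y) := by
    have : Flat (Limits.pullback.snd f (Y.fromSpecResidueField y)) := inferInstance
    exact this
  haveI : Flat ((f.fiber y) ↘ Spec (CommRingCat.of (Y.residueField y))) :=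
    (inferInstance : Flat (f.fiberToSpecResidueField y))
  haveI : GeometricallyConnected ((f.fiber y) ↘ Spec (CommRingCat.of (Y.residueField y))) :=
    (inferInstance : GeometricallyConnected (f.fiberToSpecResidueField y))
  haveI : GeometricallyReduced ((f.fiber y) ↘ Spec (CommRingCat.of (Y.residueField y))) :=
    (inferInstance : GeometricallyReduced (f.fiberToSpecResidueField y))
  exact Groth.Agent.R2.H16.SeesawGeomH0.finrank_Γ_eq_one (Y.residueField y) (f.fiber y)

end Groth.Agent.R2.H16.SeesawJac
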