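import Mathlib
import Groth.Agent.R2.H16SeesawMain
import Groth.Agent.R2.H16CbcFIGlob4
import Groth.Agent.S2380
import Groth.Agent.S9705

/-!
# Seesaw over a variety: `h^0(X_y, O) = 1` from integral fibres over an algebraically closed field (helper16)

Namespace `Groth.Agent.R2.H16.SeesawProj`.

* `upperSemicontinuous_fiberRank` : `y ↦ dim H^p(X_y, F_y)` is upper semicontinuous (f proper, Y loc. Noetherian,
  F coherent flat over Y).
* `finrank_Γ_fiber_eq_one_of_isAlgClosed` : integral fibre of a proper morphism over a point with algebraically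
  closed residue field has `h^0(O) = 1`.
* `finrank_Γ_fiber_eq_one` : `Y` of finite type over an algebraically closed field, `f` proper flat with integral fibres
  ⇒ `h^0(X_y, O) = 1` for all `y`.
-/

set_option autoImplicit false
set_option linter.style.haveILetI false
set_option linter.unusedSectionVars false
universe u
open CategoryTheory CategoryTheory.Limits AlgebraicGeometry Opposite TopologicalSpace

namespace Groth.Agent.R2.H16.SeesawProj

variable {X Y : Scheme.{u}} (f : X ⟶ Y)

/-- **Semicontinuity**: `y ↦ dim_{κ(y)} H^p(X_y, F_y)` is upper semicontinuous. -/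
theorem upperSemicontinuous_fiberRank [IsProper f] [IsLocallyNoetherian Y] (F : X.Modules)
    (hF : Coh.IsCoh F) (hfl : FlatMod.IsFlatOver f F) (p : ℕ) :
    UpperSemicontinuous (CohIII.fiberRank f F p) := by
  intro y₀ c hc
  obtain ⟨V, hV, hyV, -⟩ := exists_isAffineOpen_mem_and_subset (x := y₀) (U := ⊤) trivial
  haveI : IsNoetherianRing ↑Γ(Y, V) := IsLocallyNoetherian.component_noetherian ⟨V, hV⟩
  obtain ⟨L, d, hL, -, -, -, hfib⟩ :=
    Groth.Agent.R2.H16.CbcFIGlob.exists_bridge_glob' f F hV hF hfl
  have husc := Groth.Agent.S2380.result L (fun i => ⟨(hL i).1, by haveI := (hL i).2; infer_instance⟩)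
    (-(p : ℤ))
  have h1 := husc (hV.primeIdealOf ⟨y₀, hyV⟩) c (by
    change CohIII.dRank L (-(p : ℤ)) (hV.primeIdealOf ⟨y₀, hyV⟩) < c
    rw [← (hfib p y₀ hyV).1]; exact hc)
  have hcont : Continuous (fun y : V => hV.primeIdealOf y) := by
    unfold IsAffineOpen.primeIdealOf
    exact hV.isoSpec.hom.continuous
  have h2 := (hcont.tendsto ⟨y₀, hyV⟩).eventually h1
  rw [Filter.Eventually, mem_nhds_iff] at h2 ⊢
  obtain ⟨t, ht, hto, hyt⟩ := h2
  refine ⟨Subtype.val '' t, ?_, V.isOpen.isOpenMap_subtype_val t hto, ⟨⟨y₀, hyV⟩, hyt, rfl⟩⟩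
  rintro _ ⟨y, hy, rfl⟩
  have := ht hy
  simp only [Set.mem_ofPred_eq] at this ⊢
  rw [(hfib p y.1 y.2).1]
  exact this

/-- finiteness of `Γ(X_y, O)` over `κ(y)` for a proper morphism. -/
theorem finite_Γ_fiber [IsProper f] (y : Y) : Module.Finite (Y.residueField y) Γ(f.fiber y, ⊤) := by
  letI : (f.fiber y).Over (Spec (CommRingCat.of (Y.residueField y))) :=
    ⟨f.fiberToSpecResidueField y⟩
  haveI : IsProper (f.fiberToSpecResidueField y) := by
    have : IsProper (pullback.snd f (Y.fromSpecResidueField y)) := inferInstance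
    exact this
  haveI : IsProper ((f.fiber y) ↘ Spec (CommRingCat.of (Y.residueField y))) :=
    (inferInstance : IsProper (f.fiberToSpecResidueField y))
  have hfin := Groth.Agent.S0002.result (Y.residueField y) (f.fiber y)
    (Coh.structureModule (f.fiber y))
    (Groth.Agent.R2.H5.CohThick.isCoh_structureModule (f.fiber y)) 0
  exact Groth.Agent.R2.H89.GammaField.finite_Γ (Y.residueField y) (f.fiber y) hfin

/-- an integral fibre over a point with algebraically closed residue field has `h^0(O) = 1`. -/
theorem finrank_Γ_fiber_eq_one_of_isAlgClosed [IsProper f] (y : Y) [IsIntegral (f.fiber y)]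
    [IsAlgClosed (Y.residueField y)] :
    Module.finrank (Y.residueField y) Γ(f.fiber y, ⊤) = 1 := by
  haveI := finite_Γ_fiber f y
  have hK := Groth.Agent.R2.H16.SeesawClosed.isField_Γ_fiber f y
  letI := hK.toField
  haveI : Algebra.IsIntegral (Y.residueField y) Γ(f.fiber y, ⊤) := Algebra.IsIntegral.of_finite _ _
  have hb : Function.Bijective (algebraMap (Y.residueField y) Γ(f.fiber y, ⊤)) :=
    IsAlgClosed.algebraMap_bijective_of_isIntegral
  have e : (Y.residueField y) ≃ₗ[Y.residueField y] Γ(f.fiber y, ⊤) :=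
    LinearEquiv.ofBijective (Algebra.linearMap (Y.residueField y) Γ(f.fiber y, ⊤)) hb
  rw [← e.finrank_eq, Module.finrank_self]

/-- a nonempty fibre of a proper morphism has `h^0(O) ≥ 1`. -/
theorem one_le_finrank_Γ_fiber [IsProper f] (y : Y) [Nonempty (f.fiber y)] :
    1 ≤ Module.finrank (Y.residueField y) Γ(f.fiber y, ⊤) := by
  haveI := finite_Γ_fiber f y
  haveI : Nonempty ((⊤ : (f.fiber y).Opens) : Type u) :=
    ⟨⟨Classical.arbitrary _, trivial⟩⟩
  haveI : Nontrivial Γ(f.fiber y, ⊤) := Scheme.component_nontrivial (f.fiber y) ⊤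
  exact Module.finrank_pos

/-- `h^0(X_y, O_{X_y}) = dim H^0(X_y, (O_X)_y)`. -/
theorem fiberRank_structureModule (y : Y) :
    CohIII.fiberRank f (Coh.structureModule X) 0 y =
      Module.finrank (Y.residueField y) Γ(f.fiber y, ⊤) :=
  Groth.Agent.R2.H16.SeesawMain.fiberRank_eq_of_iso f (Coh.structureModule X) y
    (Groth.Agent.Lib.Helper23.PB.pullbackUnitIso (f.fiberι y))

/-- **`h^0(X_y, O) = 1` for all `y`**: `Y` of finite type over an algebraically closed field, `f` proper flat with
integral fibres. -/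
theorem finrank_Γ_fiber_eq_one (k : Type u) [Field k] [IsAlgClosed k]
    (g : Y ⟶ Spec (CommRingCat.of k)) [LocallyOfFiniteType g] [QuasiCompact g]
    [IsProper f] [Flat f] (hint : ∀ y : Y, IsIntegral (f.fiber y)) (y : Y) :
    Module.finrank (Y.residueField y) Γ(f.fiber y, ⊤) = 1 := by
  haveI : IsLocallyNoetherian Y := LocallyOfFiniteType.isLocallyNoetherian g
  haveI : CompactSpace Y := QuasiCompact.compactSpace_of_compactSpace g
  have husc := upperSemicontinuous_fiberRank f (Coh.structureModule X)
    (Groth.Agent.R2.H5.CohThick.isCoh_structureModule X)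
    (Groth.Agent.R2.H16.SeesawClosed.isFlatOver_of_isInvertible f _
      (Groth.Agent.Lib.Helper23.TensorUnit.isInvertible_structureModule X)) 0
  have hclosed : IsClosed {y : Y | 2 ≤ CohIII.fiberRank f (Coh.structureModule X) 0 y} := by
    have h1 : IsOpen {y : Y | CohIII.fiberRank f (Coh.structureModule X) 0 y < 2} :=
      (upperSemicontinuous_iff_isOpen_preimage.1 husc) 2
    rw [← isOpen_compl_iff]
    convert h1 using 1
    ext y
    simp
  have hempty : {y : Y | 2 ≤ CohIII.fiberRank f (Coh.structureModule X) 0 y} = ∅ := by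
    by_contra hne
    obtain ⟨y₁, hy₁, hcl⟩ := hclosed.exists_closed_singleton (Set.nonempty_iff_ne_empty.2 hne)
    haveI := hint y₁
    haveI : IsAlgClosed (Y.residueField y₁) :=
      IsAlgClosed.of_ringEquiv (k := k) (Y.residueField y₁)
        (residueFieldIsoBase g y₁ hcl).commRingCatIsoToRingEquiv.symm
    have h1 := finrank_Γ_fiber_eq_one_of_isAlgClosed f y₁
    rw [Set.mem_ofPred_eq, fiberRank_structureModule, h1] at hy₁
    omega
  haveI := hint y
  have h1 := one_le_finrank_Γ_fiber f y
  have h2 : ¬ (2 ≤ CohIII.fiberRank f (Coh.structureModule X) 0 y) := fun h => by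
    have : y ∈ {y : Y | 2 ≤ CohIII.fiberRank f (Coh.structureModule X) 0 y} := h
    rw [hempty] at this
    exact this
  rw [fiberRank_structureModule] at h2
  omega

end Groth.Agent.R2.H16.SeesawProj
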