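import Mathlib
import Groth.Agent.R2.H16SeesawMain

/-!
# Seesaw: pullbacks from the base are trivial on the fibres (helper16)

Namespace `Groth.Agent.R2.H16.SeesawPull`.

* `nonempty_iso_of_subsingleton` : an invertible module on a one-point scheme is trivial.
* `fibre_trivial_of_pullback` : `L ≅ f^*M` with `M` invertible ⇒ `L_y ≅ O_{X_y}` for every `y`.
* `seesaw_iff` : the statement of `S16759`.
-/

set_option autoImplicit false
set_option linter.style.haveILetI false
set_option linter.unusedSectionVars false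
universe u
open CategoryTheory CategoryTheory.Limits AlgebraicGeometry Opposite TopologicalSpace

namespace Groth.Agent.R2.H16.SeesawPull

open Groth.Agent.Lib.Helper23.SecTw Groth.Agent.Lib.Helper23.GenLocus Groth.Agent.Lib.Helper6
  Groth.Agent.Helper13PullbackUnit Groth.Agent.Lib.Helper23.Extend

/-- an invertible module on a one-point scheme is trivial. -/
theorem nonempty_iso_of_subsingleton {Z : Scheme.{u}} [Subsingleton Z] [Nonempty Z] (N : Z.Modules)
    (hN : PicF.IsInvertible N) : Nonempty (N ≅ Coh.structureModule Z) := by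
  obtain ⟨z⟩ : Nonempty Z := inferInstance
  obtain ⟨W, e, hzW, he⟩ := exists_gen N hN z
  have hW : W = ⊤ := by
    rw [eq_top_iff]
    intro x _
    rw [Subsingleton.elim x z]
    exact hzW
  subst hW
  have h1 : sv (secHom N e) ⊤ = e := by rw [sv_secHom, res_self]
  have h2 : IsGen N ⊤ (sv (secHom N e) ⊤) := by rw [h1]; exact he
  have h3 := le_genLocus_of_isGen N (secHom N e) ⊤ h2
  haveI : IsIso (secHom N e) :=
    (Groth.Agent.R2.H87.YBlowUp.genLocus_eq_top_iff N (secHom N e)).1 (top_le_iff.1 h3)
  exact ⟨(asIso (secHom N e)).symm⟩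

variable {X Y : Scheme.{u}} (f : X ⟶ Y)

/-- a module pulled back from the base is trivial on every fibre. -/
theorem fibre_trivial_of_pullback (M : Y.Modules) (hM : PicF.IsInvertible M) (L : X.Modules)
    (e : (Scheme.Modules.pullback f).obj M ≅ L) (y : Y) :
    Nonempty (CohIII.fiberMod f L y ≅ Coh.structureModule (f.fiber y)) := by
  -- `M` restricted to the point `y`
  haveI : Subsingleton ↥(Spec (Y.residueField y)) :=
    (inferInstance : Subsingleton (PrimeSpectrum (Y.residueField y)))
  haveI : Nonempty ↥(Spec (Y.residueField y)) :=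
    (inferInstance : Nonempty (PrimeSpectrum (Y.residueField y)))
  obtain ⟨τ⟩ := nonempty_iso_of_subsingleton
    ((Scheme.Modules.pullback (Y.fromSpecResidueField y)).obj M)
    (Groth.Agent.Lib.Helper23.PB.isInvertible_pullback (Y.fromSpecResidueField y) M hM)
  refine ⟨(Scheme.Modules.pullback (f.fiberι y)).mapIso e.symm ≪≫
    (Scheme.Modules.pullbackComp (f.fiberι y) f).app M ≪≫
    (Scheme.Modules.pullbackCongr (f.fiber_fac y)).app M ≪≫
    ((Scheme.Modules.pullbackComp (f.fiberToSpecResidueField y) (Y.fromSpecResidueField y)).app M).symm ≪≫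
    (Scheme.Modules.pullback (f.fiberToSpecResidueField y)).mapIso τ ≪≫
    Groth.Agent.Lib.Helper23.PB.pullbackUnitIso (f.fiberToSpecResidueField y)⟩

/-- **Seesaw, the statement of `S16759`.** -/
theorem seesaw_iff [IsProper f] [Flat f] [IsLocallyNoetherian Y] [IsReduced Y]
    (h0 : ∀ y : Y, Module.finrank (Y.residueField y) Γ(f.fiber y, ⊤) = 1)
    (L : X.Modules) (hL : PicF.IsInvertible L) :
    ((∃ M : Y.Modules, PicF.IsInvertible M ∧ Nonempty ((Scheme.Modules.pullback f).obj M ≅ L)) ↔
        ∀ y : Y, Nonempty (CohIII.fiberMod f L y ≅ Coh.structureModule (f.fiber y))) ∧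
      ((∀ y : Y, Nonempty (CohIII.fiberMod f L y ≅ Coh.structureModule (f.fiber y))) →
        PicF.IsInvertible ((Scheme.Modules.pushforward f).obj L) ∧
          IsIso ((Scheme.Modules.pullbackPushforwardAdjunction f).counit.app L)) := by
  refine ⟨⟨?_, ?_⟩, fun h => Groth.Agent.R2.H16.SeesawMain.seesaw f h0 L hL h⟩
  · rintro ⟨M, hM, ⟨e⟩⟩ y
    exact fibre_trivial_of_pullback f M hM L e y
  · intro h
    obtain ⟨hinv, hiso⟩ := Groth.Agent.R2.H16.SeesawMain.seesaw f h0 L hL h
    haveI := hiso
    exact ⟨_, hinv, ⟨asIso ((Scheme.Modules.pullbackPushforwardAdjunction f).counit.app L)⟩⟩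

end Groth.Agent.R2.H16.SeesawPull
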