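import Mathlib

/-!
# helper16: closed immersions from local retractions (pn-toolkit P2, part B, generic part)
-/

set_option autoImplicit false

open CategoryTheory CategoryTheory.Limits AlgebraicGeometry

universe u

namespace Groth.Agent.R2.H16.SegreB

/-- A morphism is a closed immersion if, over an open cover `V k` of the target, the restriction
`f ∣_ V k` becomes a closed immersion (e.g. an isomorphism) after composing with a separated
morphism `ρ k` out of `V k`. -/
theorem isClosedImmersion_of_local_retractions {X Y : Scheme.{u}} (f : X ⟶ Y) {ι : Type*}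
    (V : ι → Y.Opens) (hV : ⨆ k, V k = ⊤) (Z : ι → Scheme.{u})
    (ρ : ∀ k, (V k : Scheme.{u}) ⟶ Z k) [∀ k, IsSeparated (ρ k)]
    (h : ∀ k, IsClosedImmersion ((f ∣_ V k) ≫ ρ k)) : IsClosedImmersion f := by
  rw [IsZariskiLocalAtTarget.iff_of_iSup_eq_top (P := @IsClosedImmersion) V hV]
  intro k
  have := h k
  exact IsClosedImmersion.of_comp (f ∣_ V k) (ρ k)

/-- morphisms out of an affine scheme into an affine scheme are separated: convenient instance
for retractions between affine opens. -/
theorem isSeparated_of_isAffineOpen {X Y : Scheme.{u}} {U : X.Opens} {V : Y.Opens}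
    (hU : IsAffineOpen U) (hV : IsAffineOpen V) (ρ : (U : Scheme.{u}) ⟶ (V : Scheme.{u})) :
    IsSeparated ρ := by
  have : IsAffine (U : Scheme.{u}) := hU
  have : IsAffine (V : Scheme.{u}) := hV
  infer_instance

end Groth.Agent.R2.H16.SegreB
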