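import Groth.Agent.R2.LeadSegreSpec
import Groth.Agent.Lib.Helper27PnChart
import Groth.Agent.R2.H16SegreB

/-!
# helper16: the universal Segre morphism is a closed immersion (pn-toolkit P2, part B)

`ChartProp σ → IsClosedImmersion σ`.
-/

set_option autoImplicit false

open CategoryTheory CategoryTheory.Limits AlgebraicGeometry TopologicalSpace

universe u

namespace Groth.Agent.R2.H16.SegreB

open CohB1 Groth.Agent.Helper13Dehom Groth.Agent.Helper13AffMor Groth.Agent.Helper13ProjUP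
  Groth.Agent.R2.Lead.SegreSpec

section General

variable {R A : Type u} [CommRing R] [CommRing A] [Algebra R A] {𝒜 : ℕ → Submodule R A}
  [GradedAlgebra 𝒜]

/-- the non-vanishing locus of the pull-back of `f'/f`. -/
theorem basicOpen_appLE_dehom {Y : Scheme.{u}} (g : Y ⟶ Proj 𝒜) {f f' : A} (hf : f ∈ 𝒜 1)
    (hf' : f' ∈ 𝒜 1) {V : Y.Opens} (hle : V ≤ g ⁻¹ᵁ Proj.basicOpen 𝒜 f) :
    Y.basicOpen ((g.appLE _ V hle).hom (dehom hf f')) = V ⊓ g ⁻¹ᵁ Proj.basicOpen 𝒜 f' := by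
  rw [basicOpen_appLE, basicOpen_dehom hf' hf]
  apply le_antisymm
  · intro y hy
    exact ⟨hy.1, hy.2.1⟩
  · intro y hy
    exact ⟨hy.1, hy.2, hle hy.1⟩

/-- `exists_dehomLift` with values in `CommRingCat`. -/
theorem exists_dehomLift' {f : A} (hf : f ∈ 𝒜 1) {B : CommRingCat.{u}} (ψ : A →+* B)
    (hψ : ψ f = 1) :
    ∃ φ : Γ(Proj 𝒜, Proj.basicOpen 𝒜 f) ⟶ B, ∀ a, φ.hom (dehom hf a) = ψ a := by
  obtain ⟨φ, hφ⟩ := exists_dehomLift hf ψ hψ
  exact ⟨CommRingCat.ofHom (R := Γ(Proj 𝒜, Proj.basicOpen 𝒜 f)) (S := B) φ, hφ⟩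

/-- a morphism into a pullback composed with a lift. -/
theorem comp_lift_eq {C : Type*} [Category C] {P Q S T Y : C} (p : P ⟶ S) (q : Q ⟶ S)
    [HasPullback p q] (a₁ : T ⟶ P) (a₂ : T ⟶ Q) (h : a₁ ≫ p = a₂ ≫ q) (r : Y ⟶ T)
    (ι : Y ⟶ pullback p q) (h₁ : r ≫ a₁ = ι ≫ pullback.fst p q)
    (h₂ : r ≫ a₂ = ι ≫ pullback.snd p q) : r ≫ pullback.lift a₁ a₂ h = ι := by
  apply pullback.hom_ext
  · rw [Category.assoc, pullback.lift_fst, h₁]
  · rw [Category.assoc, pullback.lift_snd, h₂]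

/-- `toAff` composed with the structure morphism. -/
theorem toAff_toBase {Y : Scheme.{u}} {V : Y.Opens} {f : A} (hf : f ∈ 𝒜 1)
    (φ : Γ(Proj 𝒜, Proj.basicOpen 𝒜 f) ⟶ Γ(Y, V)) :
    toAff (isAffineOpen_basicOpen hf) φ ≫ toBase 𝒜 = V.toSpecΓ ≫ Spec.map (strMap hf ≫ φ) := by
  unfold toAff
  rw [Category.assoc, Category.assoc, fromSpec_toBase hf, Spec.map_comp]

/-- restricting the source of `toAff`. -/
theorem resLE_toAff {Y Y' Z : Scheme.{u}} (g : Y' ⟶ Y) {V : Y.Opens} {V' : Y'.Opens}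
    (e : V' ≤ g ⁻¹ᵁ V) {U : Z.Opens} (hU : IsAffineOpen U) (φ : Γ(Z, U) ⟶ Γ(Y, V)) :
    g.resLE V V' e ≫ toAff hU φ = toAff hU (φ ≫ g.appLE V V' e) := by
  unfold toAff
  rw [← Category.assoc, ← Scheme.Opens.toSpecΓ_SpecMap_appLE, Category.assoc, Spec.map_comp,
    Category.assoc]

/-- the structure maps `R → Γ(Y, V)` through two morphisms to `Proj`s over the same base. -/
theorem strMap_comp_appLE_eq {B : Type u} [CommRing B] [Algebra R B] {ℬ : ℕ → Submodule R B}
    [GradedAlgebra ℬ] {Y : Scheme.{u}} (g : Y ⟶ Proj 𝒜) (g' : Y ⟶ Proj ℬ)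
    (hgg' : g ≫ toBase 𝒜 = g' ≫ toBase ℬ) {f : A} (hf : f ∈ 𝒜 1) {f' : B} (hf' : f' ∈ ℬ 1)
    {V : Y.Opens} (hle : V ≤ g ⁻¹ᵁ Proj.basicOpen 𝒜 f) (hle' : V ≤ g' ⁻¹ᵁ Proj.basicOpen ℬ f') :
    strMap hf ≫ g.appLE _ V hle = strMap hf' ≫ g'.appLE _ V hle' := by
  apply toSpecΓ_SpecMap_injective
  rw [← toAff_toBase hf, ← toAff_toBase hf', ← ι_comp_eq_toAff, ← ι_comp_eq_toAff,
    Category.assoc, Category.assoc, hgg']

end General

variable (n m : ℕ) (R : Type u) [CommRing R]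

theorem exists_mem_W (y : X n m R) : ∃ k l, y ∈ W n m R k l := by
  have h1 : pr₁ n m R y ∈ (⊤ : (Proj (polyGrading n R)).Opens) := trivial
  rw [← Groth.Agent.Lib.Helper27PnChart.iSup_basicOpen_X] at h1
  obtain ⟨k, hk⟩ := Opens.mem_iSup.mp h1
  have h2 : pr₂ n m R y ∈ (⊤ : (Proj (polyGrading m R)).Opens) := trivial
  rw [← Groth.Agent.Lib.Helper27PnChart.iSup_basicOpen_X] at h2
  obtain ⟨l, hl⟩ := Opens.mem_iSup.mp h2
  exact ⟨k, l, hk, hl⟩

/-- ring maps out of the coordinate ring of a standard chart of `P^a_R` are determined by the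
structure map and the images of the coordinates. -/
theorem chart_hom_ext {a : ℕ} (i : Fin (a + 1)) {B : CommRingCat.{u}}
    (α β : Γ(Proj (polyGrading a R), D R a i) ⟶ B)
    (h0 : strMap (X_mem R a i) ≫ α = strMap (X_mem R a i) ≫ β)
    (h1 : ∀ k : Fin (a + 1), α.hom (dehom (X_mem R a i) (MvPolynomial.X k)) =
      β.hom (dehom (X_mem R a i) (MvPolynomial.X k))) : α = β := by
  ext r
  obtain ⟨j, p, -, rfl⟩ := exists_dehom_eq (X_mem R a i) r
  have : (α.hom.comp (dehom (X_mem R a i))) = (β.hom.comp (dehom (X_mem R a i))) := by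
    apply MvPolynomial.ringHom_ext
    · intro c
      have := congrArg (fun φ => φ.hom c) h0
      exact this
    · intro k
      exact h1 k
  exact congrArg (fun φ => φ p) this

variable {n m R}
variable {σ : X n m R ⟶ Proj (polyGrading (n * m + n + m) R)} (hσ : ChartProp n m R σ)

include hσ in
/-- `σ⁻¹ D₊(z_(i,j)) = W i j`. -/
theorem preimage_D_eq_W (i : Fin (n + 1)) (j : Fin (m + 1)) :
    σ ⁻¹ᵁ D R (n * m + n + m) (idx n m (i, j)) = W n m R i j := by
  apply le_antisymm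
  · intro y hy
    obtain ⟨k, l, hkl⟩ := exists_mem_W n m R y
    obtain ⟨hle, hch⟩ := hσ.2 k l
    have h1 := basicOpen_appLE_dehom σ (X_mem R _ (idx n m (k, l))) (X_mem R _ (idx n m (i, j))) hle
    rw [hch i j, Scheme.basicOpen_mul] at h1
    have h2 : (X n m R).basicOpen (ξ n m R k l i) =
        W n m R k l ⊓ (pr₁ n m R) ⁻¹ᵁ D R n i :=
      basicOpen_appLE_dehom (pr₁ n m R) (X_mem R n k) (X_mem R n i) (W_le₁ n m R k l)
    have h3 : (X n m R).basicOpen (η n m R k l j) =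
        W n m R k l ⊓ (pr₂ n m R) ⁻¹ᵁ D R m j :=
      basicOpen_appLE_dehom (pr₂ n m R) (X_mem R m l) (X_mem R m j) (W_le₂ n m R k l)
    rw [h2, h3] at h1
    have h4 : y ∈ W n m R k l ⊓ σ ⁻¹ᵁ D R (n * m + n + m) (idx n m (i, j)) := ⟨hkl, hy⟩
    rw [← h1] at h4
    exact ⟨h4.1.2, h4.2.2⟩
  · exact (hσ.2 i j).choose

include hσ in
/-- the local retraction of `σ` over `D₊(z_(i,j))`. -/
theorem exists_retraction (i : Fin (n + 1)) (j : Fin (m + 1)) :
    ∃ ρ₀ : (D R (n * m + n + m) (idx n m (i, j)) : Scheme.{u}) ⟶ X n m R,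
      σ.resLE (D R (n * m + n + m) (idx n m (i, j))) (W n m R i j) (hσ.2 i j).choose ≫ ρ₀ =
        (W n m R i j).ι ∧ ∀ y, ρ₀ y ∈ W n m R i j := by
  obtain ⟨hle, hch⟩ := hσ.2 i j
  have hz := X_mem R (n * m + n + m) (idx n m (i, j))
  have hx := X_mem R n i
  have hy := X_mem R m j
  -- the two ring maps
  let ψ₁ : MvPolynomial (Fin (n + 1)) R →+* Γ(Proj (polyGrading (n * m + n + m) R),
      D R (n * m + n + m) (idx n m (i, j))) :=
    MvPolynomial.eval₂Hom ((dehom hz).comp MvPolynomial.C)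
      (fun k => dehom hz (MvPolynomial.X (idx n m (k, j))))
  let ψ₂ : MvPolynomial (Fin (m + 1)) R →+* Γ(Proj (polyGrading (n * m + n + m) R),
      D R (n * m + n + m) (idx n m (i, j))) :=
    MvPolynomial.eval₂Hom ((dehom hz).comp MvPolynomial.C)
      (fun l => dehom hz (MvPolynomial.X (idx n m (i, l))))
  have hψ₁ : ψ₁ (MvPolynomial.X i) = 1 := by
    simp only [ψ₁, MvPolynomial.coe_eval₂Hom, MvPolynomial.eval₂_X]
    exact dehom_self hz
  have hψ₂ : ψ₂ (MvPolynomial.X j) = 1 := by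
    simp only [ψ₂, MvPolynomial.coe_eval₂Hom, MvPolynomial.eval₂_X]
    exact dehom_self hz
  obtain ⟨φ₁, hφ₁⟩ := exists_dehomLift' hx ψ₁ hψ₁
  obtain ⟨φ₂, hφ₂⟩ := exists_dehomLift' hy ψ₂ hψ₂
  -- structure maps
  have hs₁ : strMap hx ≫ φ₁ = strMap hz := by
    ext c
    change φ₁.hom (dehom hx (algebraMap R _ c)) = dehom hz (algebraMap R _ c)
    rw [hφ₁]
    simp [ψ₁, MvPolynomial.algebraMap_eq]
  have hs₂ : strMap hy ≫ φ₂ = strMap hz := by
    ext c
    change φ₂.hom (dehom hy (algebraMap R _ c)) = dehom hz (algebraMap R _ c)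
    rw [hφ₂]
    simp [ψ₂, MvPolynomial.algebraMap_eq]
  let a₁ := toAff (isAffineOpen_basicOpen hx) φ₁
  let a₂ := toAff (isAffineOpen_basicOpen hy) φ₂
  have hcomp : a₁ ≫ ProjSpace.toSpec n R = a₂ ≫ ProjSpace.toSpec m R := by
    change a₁ ≫ toBase (polyGrading n R) = a₂ ≫ toBase (polyGrading m R)
    rw [toAff_toBase hx, toAff_toBase hy, hs₁, hs₂]
  refine ⟨pullback.lift a₁ a₂ hcomp, ?_, ?_⟩
  · -- the retraction identity
    have hbase : σ ≫ toBase (polyGrading (n * m + n + m) R) =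
        pr₁ n m R ≫ toBase (polyGrading n R) := hσ.1
    have hbase' : σ ≫ toBase (polyGrading (n * m + n + m) R) =
        pr₂ n m R ≫ toBase (polyGrading m R) := by
      rw [hbase]; exact pullback.condition
    have hη : η n m R i j j = 1 := by
      unfold η
      rw [dehom_self, map_one]
    have hξ : ξ n m R i j i = 1 := by
      unfold ξ
      rw [dehom_self, map_one]
    refine comp_lift_eq _ _ a₁ a₂ hcomp _ _ ?_ ?_
    · change σ.resLE _ _ hle ≫ a₁ = (W n m R i j).ι ≫ pr₁ n m R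
      rw [ι_comp_eq_toAff (isAffineOpen_basicOpen hx) (pr₁ n m R) (W_le₁ n m R i j),
        resLE_toAff]
      congr 1
      apply chart_hom_ext R i
      · rw [← Category.assoc, hs₁]
        exact strMap_comp_appLE_eq σ (pr₁ n m R) hbase hz hx hle (W_le₁ n m R i j)
      · intro k
        change (σ.appLE _ _ hle).hom (φ₁.hom (dehom hx (MvPolynomial.X k))) = ξ n m R i j k
        rw [hφ₁]
        simp only [ψ₁, MvPolynomial.coe_eval₂Hom, MvPolynomial.eval₂_X]
        rw [hch k j, hη, mul_one]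
    · change σ.resLE _ _ hle ≫ a₂ = (W n m R i j).ι ≫ pr₂ n m R
      rw [ι_comp_eq_toAff (isAffineOpen_basicOpen hy) (pr₂ n m R) (W_le₂ n m R i j),
        resLE_toAff]
      congr 1
      apply chart_hom_ext R j
      · rw [← Category.assoc, hs₂]
        exact strMap_comp_appLE_eq σ (pr₂ n m R) hbase' hz hy hle (W_le₂ n m R i j)
      · intro l
        change (σ.appLE _ _ hle).hom (φ₂.hom (dehom hy (MvPolynomial.X l))) = η n m R i j l
        rw [hφ₂]
        simp only [ψ₂, MvPolynomial.coe_eval₂Hom, MvPolynomial.eval₂_X]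
        rw [hch i l, hξ, one_mul]
  · intro y
    constructor
    · change (pullback.lift a₁ a₂ hcomp ≫ pr₁ n m R) y ∈ D R n i
      have : pullback.lift a₁ a₂ hcomp ≫ pr₁ n m R = a₁ := pullback.lift_fst _ _ _
      rw [this]
      exact range_toAff_subset _ _ y
    · change (pullback.lift a₁ a₂ hcomp ≫ pr₂ n m R) y ∈ D R m j
      have : pullback.lift a₁ a₂ hcomp ≫ pr₂ n m R = a₂ := pullback.lift_snd _ _ _
      rw [this]
      exact range_toAff_subset _ _ y

include hσ in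
/-- **P2, part B**: a morphism with the chart property is a closed immersion. -/
theorem isClosedImmersion_of_chartProp : IsClosedImmersion σ := by
  have hcover : ⨆ p : Fin (n + 1) × Fin (m + 1), D R (n * m + n + m) (idx n m p) = ⊤ := by
    rw [(idx n m).iSup_comp (g := fun k => D R (n * m + n + m) k)]
    exact Groth.Agent.Lib.Helper27PnChart.iSup_basicOpen_X (n * m + n + m) R
  have key : ∀ p : Fin (n + 1) × Fin (m + 1),
      ∃ ρ : (D R (n * m + n + m) (idx n m p) : Scheme.{u}) ⟶ (W n m R p.1 p.2 : Scheme.{u}),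
        IsSeparated ρ ∧ IsClosedImmersion ((σ ∣_ D R (n * m + n + m) (idx n m p)) ≫ ρ) := by
    rintro ⟨i, j⟩
    obtain ⟨ρ₀, h1, h2⟩ := exists_retraction hσ i j
    have hrange : Set.range ρ₀ ⊆ Set.range (W n m R i j).ι := by
      rw [Scheme.Opens.range_ι]
      rintro _ ⟨y, rfl⟩
      exact h2 y
    refine ⟨IsOpenImmersion.lift (W n m R i j).ι ρ₀ hrange, ?_, ?_⟩
    · have haff : IsAffine (D R (n * m + n + m) (idx n m (i, j)) : Scheme.{u}) :=
        isAffineOpen_basicOpen (X_mem R (n * m + n + m) (idx n m (i, j)))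
      have : IsSeparated (IsOpenImmersion.lift (W n m R i j).ι ρ₀ hrange ≫
          ((W n m R i j).ι ≫ pr₁ n m R ≫ ProjSpace.toSpec n R)) := inferInstance
      exact IsSeparated.of_comp _ ((W n m R i j).ι ≫ pr₁ n m R ≫ ProjSpace.toSpec n R)
    · have hW := preimage_D_eq_W hσ i j
      have e : (σ ∣_ D R (n * m + n + m) (idx n m (i, j))) ≫
          IsOpenImmersion.lift (W n m R i j).ι ρ₀ hrange = ((X n m R).isoOfEq hW).hom := by
        rw [← cancel_mono (W n m R i j).ι, Category.assoc, IsOpenImmersion.lift_fac,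
          Scheme.isoOfEq_hom_ι, ← Scheme.Hom.resLE_eq_morphismRestrict]
        have h3 : σ.resLE (D R (n * m + n + m) (idx n m (i, j)))
            (σ ⁻¹ᵁ D R (n * m + n + m) (idx n m (i, j))) le_rfl =
            (X n m R).homOfLE hW.le ≫ σ.resLE _ (W n m R i j) (hσ.2 i j).choose :=
          (Scheme.Hom.map_resLE σ (hσ.2 i j).choose hW.le).symm
        rw [h3, Category.assoc, h1, Scheme.homOfLE_ι]
      rw [e]
      infer_instance
  choose ρ hsep hcl using key
  exact isClosedImmersion_of_local_retractions σ _ hcover _ ρ hcl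

variable (n m R) in
/-- Part A suffices for the universal Segre embedding. -/
theorem univSegre_of_exists (hA : ∃ σ, ChartProp n m R σ) :
    Groth.Agent.R2.Lead.SegreBC.UnivSegre n m R :=
  univSegre_of n m R hA (fun _ hσ => isClosedImmersion_of_chartProp hσ)

end Groth.Agent.R2.H16.SegreB
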