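import Mathlib
import Groth.Prelude.Def_FSch3
import Groth.Agent.S3861

set_option autoImplicit false
universe u

namespace Groth.Agent.R2.H17.FSchBase

open AlgebraicGeometry CategoryTheory CategoryTheory.Limits

/-- The pullback of a power of an ideal sheaf is the power of the pullback. -/
theorem comap_pow {X Y : Scheme.{u}} (f : X ⟶ Y) (K : Y.IdealSheafData) (n : ℕ) :
    (K ^ (n + 1)).comap f = (K.comap f) ^ (n + 1) := by
  induction n with
  | zero => simp
  | succ n ih =>
    rw [pow_succ, Groth.Agent.S3861.result, ih, ← pow_succ]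

/-- The closed subscheme of the `(n+1)`-st power of the pulled back ideal is the pullback of the closed
subscheme of the `(n+1)`-st power. -/
theorem isPullback_subschemeMap_pow {X Y : Scheme.{u}} (f : X ⟶ Y) (𝓚 : Y.IdealSheafData) (n : ℕ)
    (H : 𝓚 ^ (n + 1) ≤ ((𝓚.comap f) ^ (n + 1)).map f) :
    IsPullback ((𝓚.comap f) ^ (n + 1)).subschemeι
      (Scheme.IdealSheafData.subschemeMap ((𝓚.comap f) ^ (n + 1)) (𝓚 ^ (n + 1)) f H) f
      (𝓚 ^ (n + 1)).subschemeι := by
  refine isPullback_of_isClosedImmersion _ _ _ _ ?_ ?_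
  · rw [Scheme.IdealSheafData.subschemeMap_subschemeι]
  · rw [Scheme.IdealSheafData.ker_subschemeι, Scheme.IdealSheafData.ker_subschemeι]
    exact comap_pow f 𝓚 n

/-- A commutative square of systems which is levelwise cartesian is cartesian in the category of systems. -/
theorem isPullback_of_levelwise {P 𝔛 𝔜 𝔖 : FSch.Sys.{u}} (fst : P ⟶ 𝔛) (snd : P ⟶ 𝔜) (f : 𝔛 ⟶ 𝔖) (g : 𝔜 ⟶ 𝔖)
    (h : ∀ n, IsPullback ((fst : FSch.Hom P 𝔛).app n) ((snd : FSch.Hom P 𝔜).app n)
      ((f : FSch.Hom 𝔛 𝔖).app n) ((g : FSch.Hom 𝔜 𝔖).app n)) :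
    IsPullback fst snd f g := by
  have w : fst ≫ f = snd ≫ g := by
    apply FSch.Hom.ext
    funext n
    exact (h n).w
  refine ⟨⟨w⟩, ⟨PullbackCone.IsLimit.mk w ?_ ?_ ?_ ?_⟩⟩
  · intro s
    refine ⟨fun n => (h n).lift ((s.fst : FSch.Hom _ _).app n) ((s.snd : FSch.Hom _ _).app n)
      (congrArg (fun φ : FSch.Hom _ _ => φ.app n) s.condition), fun n => ?_⟩
    apply (h (n + 1)).hom_ext
    · rw [Category.assoc, Category.assoc, (h (n + 1)).lift_fst, ← (fst : FSch.Hom P 𝔛).comm n,
        ← Category.assoc, (h n).lift_fst]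
      exact (s.fst : FSch.Hom _ _).comm n
    · rw [Category.assoc, Category.assoc, (h (n + 1)).lift_snd, ← (snd : FSch.Hom P 𝔜).comm n,
        ← Category.assoc, (h n).lift_snd]
      exact (s.snd : FSch.Hom _ _).comm n
  · intro s
    apply FSch.Hom.ext
    funext n
    exact (h n).lift_fst _ _ _
  · intro s
    apply FSch.Hom.ext
    funext n
    exact (h n).lift_snd _ _ _
  · intro s m hm1 hm2
    apply FSch.Hom.ext
    funext n
    apply (h n).hom_ext
    · rw [(h n).lift_fst]
      exact congrArg (fun φ : FSch.Hom _ _ => φ.app n) hm1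
    · rw [(h n).lift_snd]
      exact congrArg (fun φ : FSch.Hom _ _ => φ.app n) hm2

end Groth.Agent.R2.H17.FSchBase
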