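import Mathlib

set_option autoImplicit false
universe u

namespace Groth.Agent.R2.H17.ThickAlg

/-- Nakayama for nilpotent ideals, without finiteness: `P ≤ P' ⊔ I * P` and `I` nilpotent give `P ≤ P'`. -/
theorem le_of_le_sup_mul_of_isNilpotent {R : Type*} [CommRing R] (I : Ideal R) (hI : IsNilpotent I)
    (P P' : Ideal R) (h : P ≤ P' ⊔ I * P) : P ≤ P' := by
  obtain ⟨n, hn⟩ := hI
  have key : ∀ k : ℕ, P ≤ P' ⊔ I ^ k * P := by
    intro k
    induction k with
    | zero => rw [pow_zero, Ideal.one_eq_top, Ideal.top_mul]; exact le_sup_right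
    | succ k ih =>
      refine ih.trans (sup_le le_sup_left ?_)
      calc I ^ k * P ≤ I ^ k * (P' ⊔ I * P) := Ideal.mul_mono_right h
        _ = I ^ k * P' ⊔ I ^ k * (I * P) := Ideal.mul_sup _ _ _
        _ ≤ P' ⊔ I ^ (k + 1) * P := by
          refine sup_le_sup Ideal.mul_le_right ?_
          rw [← mul_assoc, ← pow_succ]
  have := key n
  rwa [hn, Ideal.zero_eq_bot, Ideal.bot_mul, sup_bot_eq] at this

/-- A ring `B` surjecting onto a Noetherian ring with kernel contained in a nilpotent ideal `I`, where the kernel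
is generated by a finitely generated ideal modulo `I * I`, is Noetherian. -/
theorem isNoetherianRing_of_surjective_of_nilpotent {B C : Type*} [CommRing B] [CommRing C]
    (φ : B →+* C) (hφ : Function.Surjective φ) [IsNoetherianRing C] (I : Ideal B) (hI : IsNilpotent I)
    (hker : RingHom.ker φ ≤ I) (F : Ideal B) (hF : F.FG) (hFle : F ≤ RingHom.ker φ)
    (hle : RingHom.ker φ ≤ F ⊔ I * I) : IsNoetherianRing B := by
  apply IsNoetherianRing.of_prime
  intro P hP
  have hIP : I ≤ P := by
    obtain ⟨n, hn⟩ := hI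
    intro x hx
    have : x ^ n ∈ I ^ n := Ideal.pow_mem_pow hx n
    rw [hn] at this
    have h0 : x ^ n = 0 := this
    exact hP.mem_of_pow_mem n (h0 ▸ P.zero_mem)
  have hfg : (P.map φ).FG := IsNoetherian.noetherian _
  obtain ⟨s, hs⟩ := hfg
  -- lift generators
  have hlift : ∀ c ∈ (s : Set C), ∃ b ∈ P, φ b = c := by
    intro c hc
    have hc' : c ∈ P.map φ := hs ▸ Ideal.subset_span hc
    rw [Ideal.mem_map_iff_of_surjective φ hφ] at hc'
    exact hc'
  choose! g hgP hgφ using hlift
  let P' : Ideal B := Ideal.span (g '' (s : Set C))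
  have hP'fg : P'.FG := by
    classical
    exact ⟨s.image g, by simp [P', Finset.coe_image]⟩
  have hP'le : P' ≤ P := by
    rw [Ideal.span_le]
    rintro _ ⟨c, hc, rfl⟩
    exact hgP c hc
  have hP'map : P'.map φ = P.map φ := by
    rw [Ideal.map_span, ← hs]
    congr 1
    ext c
    constructor
    · rintro ⟨_, ⟨c', hc', rfl⟩, rfl⟩
      rw [hgφ c' hc']; exact hc'
    · intro hc
      exact ⟨g c, ⟨c, hc, rfl⟩, hgφ c hc⟩
  have hPle : P ≤ P' ⊔ RingHom.ker φ := by
    intro p hp
    have : φ p ∈ P'.map φ := hP'map ▸ Ideal.mem_map_of_mem φ hp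
    rw [Ideal.mem_map_iff_of_surjective φ hφ] at this
    obtain ⟨q, hq, hqp⟩ := this
    have hk : p - q ∈ RingHom.ker φ := by rw [RingHom.mem_ker, map_sub, hqp, sub_self]
    have : p = q + (p - q) := by ring
    rw [this]
    exact Ideal.add_mem _ (Ideal.mem_sup_left hq) (Ideal.mem_sup_right hk)
  have hPle2 : P ≤ (P' ⊔ F) ⊔ I * P := by
    refine hPle.trans (sup_le (le_sup_left.trans le_sup_left) ?_)
    refine hle.trans (sup_le (le_sup_right.trans le_sup_left) ?_)
    exact (Ideal.mul_mono_right hIP).trans le_sup_right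
  have h1 : P ≤ P' ⊔ F := le_of_le_sup_mul_of_isNilpotent I ⟨_, hI.choose_spec⟩ P _ hPle2
  have h2 : P' ⊔ F ≤ P := sup_le hP'le (hFle.trans (hker.trans hIP))
  rw [le_antisymm h1 h2]
  exact Submodule.FG.sup hP'fg hF

end Groth.Agent.R2.H17.ThickAlg
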