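import Mathlib
import Groth.Prelude.Def_FSch3
import Groth.Agent.R2.H17FSchBase
import Groth.Agent.R2.H17ThickAlg
import Groth.Agent.Lib.Helper22IdealComap

set_option autoImplicit false
universe u

namespace Groth.Agent.R2.H17.Thick

open AlgebraicGeometry CategoryTheory CategoryTheory.Limits
open Groth.Agent.Lib.Helper22.IdealComap

/-- The preimage of an affine open under an affine morphism, as an affine open. -/
abbrev preAff {Z X : Scheme.{u}} (i : Z ⟶ X) [IsAffineHom i] (U : X.affineOpens) : Z.affineOpens :=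
  ⟨i ⁻¹ᵁ U.1, IsAffineOpen.preimage (show IsAffineOpen U.1 from U.2) i⟩

@[simp] theorem preAff_coe {Z X : Scheme.{u}} (i : Z ⟶ X) [IsAffineHom i] (U : X.affineOpens) :
    (preAff i U).1 = i ⁻¹ᵁ U.1 := rfl

/-- The family of preimages of affine opens under an affine morphism covers the source. -/
theorem iSup_preimage_affineOpens {Z X : Scheme.{u}} (i : Z ⟶ X) [IsAffineHom i] :
    (⨆ U : X.affineOpens, ((preAff i U : Z.affineOpens) : Z.Opens)) = ⊤ := by
  rw [eq_top_iff]
  intro z _
  obtain ⟨_, ⟨U, hU, rfl⟩, hzU, -⟩ := X.isBasis_affineOpens.exists_subset_of_mem_open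
    (Set.mem_univ (i z)) isOpen_univ
  exact TopologicalSpace.Opens.mem_iSup.mpr ⟨⟨U, hU⟩, hzU⟩

/-- Local formula for the pullback of an ideal sheaf along an affine morphism, on the preimage of an affine open. -/
theorem ideal_comap_preimage {Z X : Scheme.{u}} (i : Z ⟶ X) [IsAffineHom i] (J : X.IdealSheafData)
    (U : X.affineOpens) :
    (J.comap i).ideal (preAff i U) = (J.ideal U).map (i.app U.1).hom := by
  rw [ideal_comap_eq_map i J (preAff i U) U le_rfl]
  rw [← Scheme.Hom.app_eq_appLE]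

/-- For a closed immersion `i`, the pullback along `i` of the kernel of `f ≫ i` is the kernel of `f`. -/
theorem ker_comp_comap {W Z X : Scheme.{u}} (f : W ⟶ Z) (i : Z ⟶ X) [IsClosedImmersion i]
    [QuasiCompact f] : (f ≫ i).ker.comap i = f.ker := by
  apply Scheme.IdealSheafData.ext_of_iSup_eq_top
    (fun U : X.affineOpens => preAff i U)
    (iSup_preimage_affineOpens i)
  intro U
  rw [ideal_comap_preimage, Scheme.Hom.ker_apply, Scheme.Hom.ker_apply]
  have hs : Function.Surjective (i.app U.1).hom := i.app_surjective U.1 U.2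
  have e : ∀ b, ((f ≫ i).app U.1).hom b = (f.app (i ⁻¹ᵁ U.1)).hom ((i.app U.1).hom b) := by
    intro b
    rw [Scheme.Hom.comp_app]; rfl
  apply le_antisymm
  · rw [Ideal.map_le_iff_le_comap]
    intro b hb
    rw [RingHom.mem_ker] at hb
    rw [Ideal.mem_comap, RingHom.mem_ker]
    rw [e] at hb
    exact hb
  · intro c hc
    obtain ⟨b, rfl⟩ := hs c
    apply Ideal.mem_map_of_mem
    rw [RingHom.mem_ker, e]
    exact hc

/-- For a closed immersion `i`, the pullback along `i` of its kernel is zero. -/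
theorem ker_comap_self {Z X : Scheme.{u}} (i : Z ⟶ X) [IsClosedImmersion i] : i.ker.comap i = ⊥ := by
  have := ker_comp_comap (𝟙 Z) i
  rw [Category.id_comp] at this
  rw [this]
  exact Scheme.Hom.ker_eq_bot_of_isIso (𝟙 Z)

end Groth.Agent.R2.H17.Thick

namespace Groth.Agent.R2.H17.Thick

open AlgebraicGeometry CategoryTheory CategoryTheory.Limits

section Sys

variable (𝔛 : FSch.Sys.{u})

theorem isClosedImmersion_ι (hF : 𝔛.IsFormal) (n : ℕ) : IsClosedImmersion (𝔛.ι n) := (hF n).1

theorem isClosedImmersion_toX (hF : 𝔛.IsFormal) (n : ℕ) : IsClosedImmersion (𝔛.toX n) := by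
  induction n with
  | zero => exact inferInstanceAs (IsClosedImmersion (𝟙 _))
  | succ n ih =>
    have := ih
    have := isClosedImmersion_ι 𝔛 hF n
    exact inferInstanceAs (IsClosedImmersion (𝔛.toX n ≫ 𝔛.ι n))

theorem toX_succ (n : ℕ) : 𝔛.toX (n + 1) = 𝔛.toX n ≫ 𝔛.ι n := rfl

/-- In a formal adic system, the `(n+1)`-st power of the ideal of `X 0` in `X n` vanishes. -/
theorem ker_toX_pow (hF : 𝔛.IsFormal) (hA : 𝔛.IsAdic) (m : ℕ) : (𝔛.toX m).ker ^ (m + 1) = ⊥ := by
  have := isClosedImmersion_ι 𝔛 hF m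
  have := isClosedImmersion_toX 𝔛 hF m
  have h : (𝔛.ι m).ker.comap (𝔛.ι m) = ((𝔛.toX (m + 1)).ker ^ (m + 1)).comap (𝔛.ι m) := by
    rw [← hA m]
  rw [ker_comap_self, Groth.Agent.R2.H17.FSchBase.comap_pow, toX_succ, ker_comp_comap] at h
  exact h.symm

theorem ideal_pow_apply {X : Scheme.{u}} (I : X.IdealSheafData) (n : ℕ) (U : X.affineOpens) :
    (I ^ n).ideal U = (I.ideal U) ^ n := rfl

/-- Levels of a formal adic system with locally Noetherian `X 0` and finite type first ideal are locally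
Noetherian. -/
theorem isLocallyNoetherian_level (hF : 𝔛.IsFormal) (hA : 𝔛.IsAdic) [IsLocallyNoetherian (𝔛.X 0)]
    (hft : FSch.IdealFT (𝔛.ι 0).ker) (n : ℕ) : IsLocallyNoetherian (𝔛.X n) := by
  induction n with
  | zero => infer_instance
  | succ n ih =>
    have := isClosedImmersion_ι 𝔛 hF n
    have := isClosedImmersion_toX 𝔛 hF (n + 1)
    refine ⟨fun U => ?_⟩
    have hs : Function.Surjective ((𝔛.ι n).app U.1).hom := (𝔛.ι n).app_surjective U.1 U.2
    have : IsNoetherianRing Γ(𝔛.X n, 𝔛.ι n ⁻¹ᵁ U.1) :=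
      IsLocallyNoetherian.component_noetherian (preAff (𝔛.ι n) U)
    have hker : RingHom.ker ((𝔛.ι n).app U.1).hom = ((𝔛.toX (n + 1)).ker.ideal U) ^ (n + 1) := by
      rw [← Scheme.Hom.ker_apply, hA n, ideal_pow_apply]
    have hnil : IsNilpotent ((𝔛.toX (n + 1)).ker.ideal U) := by
      refine ⟨n + 2, ?_⟩
      rw [← ideal_pow_apply, ker_toX_pow 𝔛 hF hA (n + 1)]
      rfl
    cases n with
    | zero =>
      refine Groth.Agent.R2.H17.ThickAlg.isNoetherianRing_of_surjective_of_nilpotent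
        ((𝔛.ι 0).app U.1).hom hs ((𝔛.toX (0 + 1)).ker.ideal U) hnil ?_
        (RingHom.ker ((𝔛.ι 0).app U.1).hom) ?_ le_rfl le_sup_left
      · rw [hker, pow_one]
      · rw [← Scheme.Hom.ker_apply]
        exact hft U
    | succ k =>
      refine Groth.Agent.R2.H17.ThickAlg.isNoetherianRing_of_surjective_of_nilpotent
        ((𝔛.ι (k + 1)).app U.1).hom hs ((𝔛.toX (k + 1 + 1)).ker.ideal U) hnil ?_
        ⊥ Submodule.fg_bot bot_le ?_
      · rw [hker]
        exact Ideal.pow_le_self (by omega)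
      · rw [hker, bot_sup_eq, ← pow_two]
        exact Ideal.pow_le_pow_right (by omega)

end Sys

end Groth.Agent.R2.H17.Thick
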