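import Mathlib
import Groth.Prelude.Def_FSch3
import Groth.Agent.R2.H17Thick
import Groth.Agent.Lib.Helper22FTIdeal

set_option autoImplicit false
universe u

namespace Groth.Agent.R2.H17.Adic

open AlgebraicGeometry CategoryTheory CategoryTheory.Limits TopologicalSpace
open Groth.Agent.R2.H17.Thick Groth.Agent.Lib.Helper22.IdealComap Groth.Agent.Lib.Helper22.FTIdeal

/-- Being of finite type is local for ideal sheaves. -/
theorem ft_of_local {X : Scheme.{u}} (J : X.IdealSheafData)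
    (h : ∀ x : X, ∃ V : X.affineOpens, x ∈ V.1 ∧ (J.ideal V).FG) (W : X.affineOpens) :
    (J.ideal W).FG := by
  have key : ∀ x : W.1, ∃ r : Γ(X, W.1), x.1 ∈ X.basicOpen r ∧
      (J.ideal (X.affineBasicOpen r)).FG := by
    intro ⟨x, hx⟩
    obtain ⟨V, hxV, hV⟩ := h x
    obtain ⟨r, hr, hxr⟩ := W.2.exists_basicOpen_le (V := V.1) ⟨x, hxV⟩ hx
    exact ⟨r, hxr, ftOn_of_fg V hV _ hr⟩
  choose r hxr hr using key
  have hspan : Ideal.span (Set.range r) = ⊤ := by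
    rw [← W.2.self_le_iSup_basicOpen_iff]
    exact fun x hxW ↦ Opens.mem_iSup.mpr ⟨⟨_, ⟨x, hxW⟩, rfl⟩, hxr ⟨x, hxW⟩⟩
  have inst := W.2.isLocalization_basicOpen
  refine fg_of_span_isLocalization _ _ hspan (fun g => Γ(X, X.basicOpen g.1)) ?_
  rintro ⟨_, x, rfl⟩
  have hle : X.affineBasicOpen (r x) ≤ W := X.affineBasicOpen_le (r x)
  have hmap := J.map_ideal hle
  have := hr x
  rw [← hmap] at this
  exact this

/-- The pullback of a finite type ideal sheaf is of finite type. -/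
theorem ft_comap {X S : Scheme.{u}} (g : X ⟶ S) (I : S.IdealSheafData)
    (hI : ∀ V : S.affineOpens, (I.ideal V).FG) (W : X.affineOpens) : ((I.comap g).ideal W).FG := by
  apply ft_of_local
  intro x
  obtain ⟨_, ⟨V, hV, rfl⟩, hxV, -⟩ := S.isBasis_affineOpens.exists_subset_of_mem_open
    (Set.mem_univ (g x)) isOpen_univ
  obtain ⟨_, ⟨U', hU', rfl⟩, hxU', hU'V⟩ := X.isBasis_affineOpens.exists_subset_of_mem_open
    (show x ∈ (g ⁻¹ᵁ V : Set X) from hxV) (g ⁻¹ᵁ V).isOpen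
  refine ⟨⟨U', hU'⟩, hxU', ?_⟩
  rw [ideal_comap_eq_map g I ⟨U', hU'⟩ ⟨V, hV⟩ hU'V]
  exact (hI ⟨V, hV⟩).map _

/-- Kernel of the base change of a closed immersion. -/
theorem ker_of_isPullback {P X Y Z : Scheme.{u}} {fst : P ⟶ X} {snd : P ⟶ Z} {f : X ⟶ Y} {i : Z ⟶ Y}
    [IsClosedImmersion i] (h : IsPullback fst snd f i) : fst.ker = i.ker.comap f := by
  rw [← Scheme.IdealSheafData.ker_fst_of_isClosedImmersion, ← h.isoPullback_hom_fst,
    Scheme.Hom.ker_comp_of_isIso]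

section AdicHom

variable {𝔛 𝔖 : FSch.Sys.{u}} (f : 𝔛 ⟶ 𝔖)

theorem isPullback_toX (hf : FSch.IsAdicHom f) (n : ℕ) :
    IsPullback (𝔛.toX n) ((f : FSch.Hom 𝔛 𝔖).app 0) ((f : FSch.Hom 𝔛 𝔖).app n) (𝔖.toX n) := by
  induction n with
  | zero =>
    have h1 : IsIso (𝔛.toX 0) := inferInstanceAs (IsIso (𝟙 _))
    have h2 : IsIso (𝔖.toX 0) := inferInstanceAs (IsIso (𝟙 _))
    refine IsPullback.of_horiz_isIso ⟨?_⟩
    change 𝟙 _ ≫ _ = _ ≫ 𝟙 _
    rw [Category.id_comp, Category.comp_id]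
  | succ n ih => exact ih.paste_horiz (hf n)

theorem isFormal_of_isAdicHom (hf : FSch.IsAdicHom f) (h𝔖 : 𝔖.IsFormal) : 𝔛.IsFormal := by
  intro n
  have h1 : IsClosedImmersion (𝔖.ι n) := (h𝔖 n).1
  have h2 : Surjective (𝔖.ι n) := ⟨(h𝔖 n).2⟩
  have h3 : IsClosedImmersion (𝔛.ι n) := MorphismProperty.of_isPullback (hf n).flip h1
  have h4 : Surjective (𝔛.ι n) := MorphismProperty.of_isPullback (hf n).flip h2
  exact ⟨h3, h4.surj⟩

theorem isAdic_of_isAdicHom (hf : FSch.IsAdicHom f) (h𝔖 : 𝔖.IsFormal) (hA : 𝔖.IsAdic) : 𝔛.IsAdic := by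
  intro n
  have h1 : IsClosedImmersion (𝔖.ι n) := (h𝔖 n).1
  have h2 : IsClosedImmersion (𝔖.toX (n + 1)) := isClosedImmersion_toX 𝔖 h𝔖 (n + 1)
  rw [ker_of_isPullback (hf n), ker_of_isPullback (isPullback_toX f hf (n + 1)), hA n,
    Groth.Agent.R2.H17.FSchBase.comap_pow]

theorem ideaFT_of_isAdicHom (hf : FSch.IsAdicHom f) (h𝔖 : 𝔖.IsFormal) [IsLocallyNoetherian (𝔖.X 1)] :
    FSch.IdealFT (𝔛.ι 0).ker := by
  have h1 : IsClosedImmersion (𝔖.ι 0) := (h𝔖 0).1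
  rw [ker_of_isPullback (hf 0)]
  intro W
  have hn : IsLocallyNoetherian (𝔖.X (0 + 1)) := ‹IsLocallyNoetherian (𝔖.X 1)›
  exact ft_comap _ _ (fun V => by
    have : IsNoetherianRing Γ(𝔖.X (0 + 1), V.1) := IsLocallyNoetherian.component_noetherian V
    exact IsNoetherian.noetherian _) W

/-- A system adic over a locally Noetherian adic formal system, with locally Noetherian level `0`, is a locally
Noetherian adic formal system. -/
theorem isLocNoethFormal_of_isAdicHom (h𝔖 : 𝔖.IsLocNoethFormal) (hf : FSch.IsAdicHom f)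
    [IsLocallyNoetherian (𝔛.X 0)] : 𝔛.IsLocNoethFormal := by
  have hF := isFormal_of_isAdicHom f hf h𝔖.1
  have hA := isAdic_of_isAdicHom f hf h𝔖.1 h𝔖.2.1
  have := h𝔖.2.2 1
  exact ⟨hF, hA, isLocallyNoetherian_level 𝔛 hF hA (ideaFT_of_isAdicHom f hf h𝔖.1)⟩

end AdicHom

end Groth.Agent.R2.H17.Adic
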