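import Mathlib

/-!
# Successive approximation for a complete separated filtration compatible with a f.g. ideal (helper17)

Namespace `Groth.Agent.R2.H17.AdicApprox`.

`le_pow_smul_top`: let `I` be a finitely generated ideal of `A`, `M` an `A`-module with a decreasing
filtration `K 0 ⊇ K 1 ⊇ ...` by submodules such that `I^(k+1) M ⊆ K k ⊆ K (k+1) + I^(k+1) M`, and such that
`M` is separated and complete for the filtration `K`.  Then `K n ⊆ I^(n+1) M` (hence `K n = I^(n+1) M`).
This is the algebra behind "`lim M_k` is `I`-adically complete with `(lim M_k)/I^(n+1) = M_n`" for a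
system with `M_k = M_(k+1)/I^(k+1) M_(k+1)`.
-/

set_option autoImplicit false

universe u v

open scoped BigOperators

namespace Groth.Agent.R2.H17.AdicApprox

variable {A : Type u} [CommRing A] {M : Type v} [AddCommGroup M] [Module A M]

/-- elements of `span (range a) • N` are of the form `∑ a_j • v_j` with `v_j ∈ N`. -/
lemma exists_sum_of_mem_span_smul {r : ℕ} (a : Fin r → A) (N : Submodule A M) {u : M}
    (hu : u ∈ Ideal.span (Set.range a) • N) :
    ∃ v : Fin r → M, (∀ j, v j ∈ N) ∧ u = ∑ j, a j • v j := by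
  refine Submodule.smul_induction_on
    (p := fun u => ∃ v : Fin r → M, (∀ j, v j ∈ N) ∧ u = ∑ j, a j • v j) hu ?_ ?_
  · intro c hc n hn
    obtain ⟨f, rfl⟩ := Ideal.mem_span_range_iff_exists_fun.1 hc
    refine ⟨fun j => f j • n, fun j => N.smul_mem _ hn, ?_⟩
    rw [Finset.sum_smul]
    refine Finset.sum_congr rfl fun j _ => ?_
    rw [smul_smul, mul_comm]
  · rintro x y ⟨v, hv, rfl⟩ ⟨w, hw, rfl⟩
    refine ⟨fun j => v j + w j, fun j => N.add_mem (hv j) (hw j), ?_⟩
    rw [← Finset.sum_add_distrib]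
    refine Finset.sum_congr rfl fun j _ => ?_
    rw [smul_add]

variable (I : Ideal A) (K : ℕ → Submodule A M)

theorem le_pow_smul_top (hI : I.FG)
    (h1 : ∀ k, K k ≤ K (k + 1) ⊔ I ^ (k + 1) • (⊤ : Submodule A M))
    (h2 : ∀ k, I ^ (k + 1) • (⊤ : Submodule A M) ≤ K k)
    (hmono : ∀ k, K (k + 1) ≤ K k)
    (hcomplete : ∀ z : ℕ → M, (∀ N, z (N + 1) - z N ∈ K N) → ∃ w, ∀ N, w - z N ∈ K N)
    (hsep : ∀ x, (∀ N, x ∈ K N) → x = 0) (n : ℕ) :
    K n ≤ I ^ (n + 1) • (⊤ : Submodule A M) := by
  intro x hx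
  have hfg : (I ^ (n + 1)).FG := Ideal.FG.pow hI
  obtain ⟨r, a, ha0⟩ := Submodule.fg_iff_exists_fin_generating_family.1 hfg
  have ha : Ideal.span (Set.range a) = I ^ (n + 1) := ha0
  have hmono' : ∀ k d, K (k + d) ≤ K k := by
    intro k d
    induction d with
    | zero => exact le_rfl
    | succ d ih => exact (hmono (k + d)).trans ih
  -- the approximation step
  have hstep : ∀ (m : ℕ) (y : Fin r → M), x - ∑ j, a j • y j ∈ K (n + m) →
      ∃ y' : Fin r → M, x - ∑ j, a j • y' j ∈ K (n + m + 1) ∧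
        ∀ j, y' j - y j ∈ I ^ m • (⊤ : Submodule A M) := by
    intro m y hy
    obtain ⟨k', hk', u, hu, hku⟩ := Submodule.mem_sup.1 (h1 (n + m) hy)
    have hpow : I ^ (n + m + 1) = Ideal.span (Set.range a) * I ^ m := by
      rw [ha, ← pow_add]
      congr 1
      omega
    rw [hpow, Submodule.mul_smul] at hu
    obtain ⟨v, hv, rfl⟩ := exists_sum_of_mem_span_smul a _ hu
    refine ⟨fun j => y j + v j, ?_, fun j => by simpa using hv j⟩
    have : x - ∑ j, a j • (y j + v j) = k' := by
      have e : ∑ j, a j • (y j + v j) = ∑ j, a j • y j + ∑ j, a j • v j := by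
        rw [← Finset.sum_add_distrib]
        exact Finset.sum_congr rfl fun j _ => smul_add _ _ _
      rw [e, sub_add_eq_sub_sub, ← hku]
      abel
    rw [this]
    exact hk'
  -- the sequence of approximations
  let seq : ∀ m : ℕ, {y : Fin r → M // x - ∑ j, a j • y j ∈ K (n + m)} := fun m =>
    Nat.rec (motive := fun m => {y : Fin r → M // x - ∑ j, a j • y j ∈ K (n + m)})
      ⟨0, by simpa using hx⟩
      (fun m y => ⟨Classical.choose (hstep m y.1 y.2), (Classical.choose_spec (hstep m y.1 y.2)).1⟩) m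
  have hseq : ∀ m j, (seq (m + 1)).1 j - (seq m).1 j ∈ I ^ m • (⊤ : Submodule A M) := fun m j =>
    (Classical.choose_spec (hstep m (seq m).1 (seq m).2)).2 j
  -- limits of the approximations
  have hw : ∀ j, ∃ w, ∀ N, w - (seq (N + 1)).1 j ∈ K N := by
    intro j
    apply hcomplete (fun N => (seq (N + 1)).1 j)
    intro N
    exact h2 N (hseq (N + 1) j)
  choose w hw using hw
  have hxw : x = ∑ j, a j • w j := by
    rw [← sub_eq_zero]
    apply hsep
    intro N
    have e : x - ∑ j, a j • w j =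
        (x - ∑ j, a j • (seq (N + 1)).1 j) - ∑ j, a j • (w j - (seq (N + 1)).1 j) := by
      have : ∑ j, a j • (w j - (seq (N + 1)).1 j) =
          ∑ j, a j • w j - ∑ j, a j • (seq (N + 1)).1 j := by
        rw [← Finset.sum_sub_distrib]
        exact Finset.sum_congr rfl fun j _ => smul_sub _ _ _
      rw [this]
      abel
    rw [e]
    refine (K N).sub_mem ?_ ?_
    · have h3 := (seq (N + 1)).2
      have h4 : K (n + (N + 1)) ≤ K N := by
        have : n + (N + 1) = N + (n + 1) := by omega
        rw [this]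
        exact hmono' N (n + 1)
      exact h4 h3
    · exact (K N).sum_mem fun j _ => (K N).smul_mem _ (hw j N)
  rw [hxw]
  refine Submodule.sum_mem _ fun j _ => ?_
  refine Submodule.smul_mem_smul ?_ Submodule.mem_top
  rw [← ha]
  exact Ideal.subset_span ⟨j, rfl⟩

end Groth.Agent.R2.H17.AdicApprox
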