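import Mathlib

/-!
# Inverse limits of adic towers of modules (helper17)

ns `Groth.Agent.R2.H17.LimMod`.  EGA 0_I 7.2.9: `R` a ring, `J` an ideal with `R` `J`-adically
precomplete, `t n : M (n+1) →ₗ[R] M n` surjective with `ker (t n) = J^(n+1) M (n+1)`, `M 0` finite.
Then `lim t` is a finite `R`-module and `lim t → M n` is surjective with kernel `J^(n+1) (lim t)`.
-/

set_option autoImplicit false
universe u

namespace Groth.Agent.R2.H17.LimMod

section Tower

variable {R : Type u} [CommRing R]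
variable {M : ℕ → Type u} [∀ n, AddCommGroup (M n)] [∀ n, Module R (M n)]
  (t : ∀ n, M (n + 1) →ₗ[R] M n)

/-- The inverse limit of the tower, as a submodule of the product. -/
def lim : Submodule R (∀ n, M n) where
  carrier := {x | ∀ n, t n (x (n + 1)) = x n}
  add_mem' := by
    intro x y hx hy n
    simp only [Pi.add_apply, map_add, hx n, hy n]
  zero_mem' := by intro n; simp
  smul_mem' := by
    intro c x hx n
    simp only [Pi.smul_apply, map_smul, hx n]

/-- The projections. -/
def π (n : ℕ) : lim t →ₗ[R] M n := (LinearMap.proj n).comp (lim t).subtype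

theorem π_apply (n : ℕ) (x : lim t) : π t n x = x.1 n := rfl

theorem t_π (n : ℕ) (x : lim t) : t n (π t (n + 1) x) = π t n x := x.2 n

theorem lim_ext {x y : lim t} (h : ∀ n, π t n x = π t n y) : x = y := Subtype.ext (funext h)

/-- The universal property. -/
def lift {N : Type*} [AddCommGroup N] [Module R N] (f : ∀ n, N →ₗ[R] M n)
    (hf : ∀ n x, t n (f (n + 1) x) = f n x) : N →ₗ[R] lim t :=
  LinearMap.codRestrict (lim t) (LinearMap.pi f) (fun x n => hf n x)

theorem π_lift {N : Type*} [AddCommGroup N] [Module R N] (f : ∀ n, N →ₗ[R] M n)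
    (hf : ∀ n x, t n (f (n + 1) x) = f n x) (n : ℕ) (x : N) : π t n (lift t f hf x) = f n x := rfl

theorem π_eq_zero_of_add (m : lim t) (p k : ℕ) (h : π t (p + k) m = 0) : π t p m = 0 := by
  induction k with
  | zero => exact h
  | succ k ih =>
    apply ih
    have h' : π t (p + k + 1) m = 0 := h
    rw [← t_π t (p + k) m, h', map_zero]

theorem π_eq_zero_of_le (m : lim t) {p q : ℕ} (hpq : p ≤ q) (h : π t q m = 0) : π t p m = 0 := by
  obtain ⟨k, rfl⟩ := Nat.exists_eq_add_of_le hpq
  exact π_eq_zero_of_add t m p k h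

section Surj

theorem exists_partial (n : ℕ) (a : M n) :
    ∃ x : ∀ m, M m, x n = a ∧ ∀ m < n, t m (x (m + 1)) = x m := by
  classical
  induction n with
  | zero => exact ⟨Pi.single 0 a, by simp, by intro m hm; omega⟩
  | succ n ih =>
    obtain ⟨x, hx, hc⟩ := ih (t n a)
    refine ⟨Function.update x (n + 1) a, by simp, ?_⟩
    intro m hm
    rcases Nat.lt_succ_iff_lt_or_eq.mp hm with h | rfl
    · rw [Function.update_of_ne (by omega), Function.update_of_ne (by omega)]
      exact hc m h
    · rw [Function.update_self, Function.update_of_ne (by omega), hx]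

variable (hs : ∀ n, Function.Surjective (t n))

/-- Extend a partial section to a full one. -/
noncomputable def extend (n : ℕ) (x : ∀ m, M m) : ∀ m, M m
  | 0 => x 0
  | m + 1 => if m + 1 ≤ n then x (m + 1) else Classical.choose (hs m (extend n x m))

theorem extend_of_le (n : ℕ) (x : ∀ m, M m) (m : ℕ) (hm : m ≤ n) : extend t hs n x m = x m := by
  cases m with
  | zero => rfl
  | succ m => simp only [extend, if_pos hm]

theorem extend_compat (n : ℕ) (x : ∀ m, M m) (hx : ∀ m < n, t m (x (m + 1)) = x m) (m : ℕ) :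
    t m (extend t hs n x (m + 1)) = extend t hs n x m := by
  by_cases h : m + 1 ≤ n
  · rw [extend_of_le t hs n x _ h, extend_of_le t hs n x _ (by omega)]
    exact hx m h
  · simp only [extend, if_neg h]
    exact Classical.choose_spec (hs m (extend t hs n x m))

include hs in
theorem π_surjective (n : ℕ) : Function.Surjective (π t n) := by
  intro a
  obtain ⟨x, hx, hc⟩ := exists_partial t n a
  refine ⟨⟨extend t hs n x, extend_compat t hs n x hc⟩, ?_⟩
  rw [π_apply]
  change extend t hs n x n = a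
  rw [extend_of_le t hs n x n le_rfl, hx]

end Surj

variable (J : Ideal R) (hs : ∀ n, Function.Surjective (t n))
  (hk : ∀ n, LinearMap.ker (t n) = J ^ (n + 1) • (⊤ : Submodule R (M (n + 1))))

include hs hk in
theorem pow_smul_top_eq_bot (n : ℕ) : J ^ (n + 1) • (⊤ : Submodule R (M n)) = ⊥ := by
  have h1 : (⊤ : Submodule R (M n)) = Submodule.map (t n) ⊤ := by
    rw [Submodule.map_top, LinearMap.range_eq_top.mpr (hs n)]
  rw [h1, ← Submodule.map_smul'', ← hk n, eq_bot_iff]
  rintro _ ⟨y, hy, rfl⟩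
  exact hy

include hs hk in
theorem pow_smul_top_eq_bot' (n q : ℕ) (h : n + 1 ≤ q) : J ^ q • (⊤ : Submodule R (M n)) = ⊥ := by
  rw [eq_bot_iff, ← pow_smul_top_eq_bot t J hs hk n]
  exact Submodule.smul_mono_left (Ideal.pow_le_pow_right h)

include hs hk in
theorem smul_eq_zero_of_mem (n q : ℕ) (h : n + 1 ≤ q) (a : R) (ha : a ∈ J ^ q) (y : M n) :
    a • y = 0 := by
  have : a • y ∈ J ^ q • (⊤ : Submodule R (M n)) := Submodule.smul_mem_smul ha trivial
  rw [pow_smul_top_eq_bot' t J hs hk n q h] at this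
  exact this

section Gens

variable {r : ℕ} (x : Fin r → lim t)
  (hx : Submodule.span R (Set.range fun i => π t 0 (x i)) = ⊤)

include hs hk hx in
theorem span_level (n : ℕ) : Submodule.span R (Set.range fun i => π t n (x i)) = ⊤ := by
  induction n with
  | zero => exact hx
  | succ n ih =>
    set N := Submodule.span R (Set.range fun i => π t (n + 1) (x i)) with hN
    have hmap : Submodule.map (t n) N = ⊤ := by
      rw [hN, Submodule.map_span, ← ih]
      congr 1
      ext y
      simp only [Set.mem_image, Set.mem_range, exists_exists_eq_and, t_π]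
    have h1 : (⊤ : Submodule R (M (n + 1))) ≤ N ⊔ J ^ (n + 1) • ⊤ := by
      intro y _
      have : t n y ∈ Submodule.map (t n) N := by rw [hmap]; trivial
      obtain ⟨z, hz, hzy⟩ := this
      have h2 : y - z ∈ LinearMap.ker (t n) := by
        rw [LinearMap.mem_ker, map_sub, hzy, sub_self]
      rw [hk n] at h2
      have : y = z + (y - z) := by abel
      rw [this]
      exact Submodule.add_mem _ (Submodule.mem_sup_left hz) (Submodule.mem_sup_right h2)
    have h2 : J ^ (n + 1) • (⊤ : Submodule R (M (n + 1))) ≤ N := by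
      calc J ^ (n + 1) • (⊤ : Submodule R (M (n + 1)))
          ≤ J ^ (n + 1) • (N ⊔ J ^ (n + 1) • ⊤) := Submodule.smul_mono le_rfl h1
        _ = J ^ (n + 1) • N ⊔ J ^ (n + 1) • (J ^ (n + 1) • ⊤) := Submodule.smul_sup _ _ _
        _ ≤ N := by
          refine sup_le Submodule.smul_le_right ?_
          rw [← Submodule.mul_smul, ← pow_add,
            pow_smul_top_eq_bot' t J hs hk (n + 1) (n + 1 + (n + 1)) (by omega)]
          exact bot_le
    exact top_le_iff.mp (h1.trans (sup_le le_rfl h2))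

include hs hk hx in
theorem exists_coeff (n q : ℕ) (y : M n) (hy : y ∈ J ^ q • (⊤ : Submodule R (M n))) :
    ∃ a : Fin r → R, (∀ i, a i ∈ J ^ q) ∧ y = ∑ i, a i • π t n (x i) := by
  rw [← span_level t J hs hk x hx n, Submodule.mem_ideal_smul_span_iff_exists_sum] at hy
  obtain ⟨a, ha, rfl⟩ := hy
  refine ⟨fun i => a i, ha, ?_⟩
  rw [Finsupp.sum_fintype]
  intro i
  exact zero_smul _ _

include hs hk hx in
theorem step (q : ℕ) (m : lim t) (hm : ∀ p, p < q → π t p m = 0) :
    ∃ a : Fin r → R, (∀ i, a i ∈ J ^ q) ∧ ∀ p, p < q + 1 → π t p (m - ∑ i, a i • x i) = 0 := by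
  have h1 : π t q m ∈ J ^ q • (⊤ : Submodule R (M q)) := by
    cases q with
    | zero => simp
    | succ q =>
      rw [← hk q, LinearMap.mem_ker, t_π]
      exact hm q (Nat.lt_succ_self q)
  obtain ⟨a, ha, hy⟩ := exists_coeff t J hs hk x hx q q _ h1
  refine ⟨a, ha, fun p hp => ?_⟩
  apply π_eq_zero_of_le t _ (Nat.lt_succ_iff.mp hp)
  rw [map_sub, map_sum, hy, sub_eq_zero]
  refine Finset.sum_congr rfl fun i _ => ?_
  rw [map_smul]

/-- remainder sequence -/
noncomputable def rem (q : ℕ) (m : lim t) (hm : ∀ p, p < q → π t p m = 0) :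
    ∀ k, {y : lim t // ∀ p, p < q + k → π t p y = 0}
  | 0 => ⟨m, hm⟩
  | k + 1 => ⟨(rem q m hm k).1 - ∑ i,
        (Classical.choose (step t J hs hk x hx (q + k) (rem q m hm k).1 (rem q m hm k).2)) i • x i,
      (Classical.choose_spec (step t J hs hk x hx (q + k) (rem q m hm k).1 (rem q m hm k).2)).2⟩

/-- coefficient sequence -/
noncomputable def coef (q : ℕ) (m : lim t) (hm : ∀ p, p < q → π t p m = 0) (k : ℕ) : Fin r → R :=
  Classical.choose (step t J hs hk x hx (q + k) (rem t J hs hk x hx q m hm k).1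
    (rem t J hs hk x hx q m hm k).2)

theorem coef_mem (q : ℕ) (m : lim t) (hm : ∀ p, p < q → π t p m = 0) (k : ℕ) (i : Fin r) :
    coef t J hs hk x hx q m hm k i ∈ J ^ (q + k) :=
  (Classical.choose_spec (step t J hs hk x hx (q + k) (rem t J hs hk x hx q m hm k).1
    (rem t J hs hk x hx q m hm k).2)).1 i

theorem rem_succ (q : ℕ) (m : lim t) (hm : ∀ p, p < q → π t p m = 0) (k : ℕ) :
    (rem t J hs hk x hx q m hm (k + 1)).1 =
      (rem t J hs hk x hx q m hm k).1 - ∑ i, coef t J hs hk x hx q m hm k i • x i := rfl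

theorem rem_eq (q : ℕ) (m : lim t) (hm : ∀ p, p < q → π t p m = 0) (k : ℕ) :
    (rem t J hs hk x hx q m hm k).1 =
      m - ∑ i, (∑ l ∈ Finset.range k, coef t J hs hk x hx q m hm l i) • x i := by
  induction k with
  | zero => simp [rem]
  | succ k ih =>
    rw [rem_succ, ih, sub_sub, ← Finset.sum_add_distrib]
    congr 1
    refine Finset.sum_congr rfl fun i _ => ?_
    rw [Finset.sum_range_succ, add_smul]

include hs hk hx in
theorem exists_repr [IsPrecomplete J R] (q : ℕ) (m : lim t) (hm : ∀ p, p < q → π t p m = 0) :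
    ∃ a : Fin r → R, (∀ i, a i ∈ J ^ q) ∧ m = ∑ i, a i • x i := by
  set c := coef t J hs hk x hx q m hm with hc
  let s : ℕ → Fin r → R := fun k i => ∑ l ∈ Finset.range k, c l i
  have hmem : ∀ k i, s k i ∈ J ^ q := fun k i =>
    Ideal.sum_mem _ fun l _ => Ideal.pow_le_pow_right (Nat.le_add_right q l)
      (coef_mem t J hs hk x hx q m hm l i)
  have hcauchy : ∀ i, ∀ {a b : ℕ}, a ≤ b →
      s a i ≡ s b i [SMOD (J ^ a • ⊤ : Submodule R R)] := by
    intro i a b hab
    rw [SModEq.sub_mem]
    have : s a i - s b i = - ∑ l ∈ Finset.Ico a b, c l i := by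
      simp only [s]
      rw [Finset.sum_Ico_eq_sub _ hab]
      ring
    rw [this]
    refine neg_mem (Submodule.sum_mem _ fun l hl => ?_)
    have h1 : c l i ∈ J ^ (q + l) := coef_mem t J hs hk x hx q m hm l i
    have h2 : c l i ∈ J ^ a :=
      Ideal.pow_le_pow_right (by have := (Finset.mem_Ico.mp hl).1; omega) h1
    simpa using h2
  have hL : ∀ i, ∃ L : R, ∀ k, s k i ≡ L [SMOD (J ^ k • ⊤ : Submodule R R)] := fun i =>
    IsPrecomplete.prec inferInstance (hcauchy i)
  choose L hL using hL
  have hLmem : ∀ i, L i ∈ J ^ q := by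
    intro i
    have h1 := hL i q
    rw [SModEq.sub_mem] at h1
    have h2 : s q i - L i ∈ J ^ q := by simpa using h1
    have : L i = s q i - (s q i - L i) := by ring
    rw [this]
    exact sub_mem (hmem q i) h2
  refine ⟨L, hLmem, ?_⟩
  apply lim_ext
  intro p
  -- compare at level p using the partial sum s (p+1)
  have h1 : π t p (rem t J hs hk x hx q m hm (p + 1)).1 = 0 :=
    (rem t J hs hk x hx q m hm (p + 1)).2 p (by omega)
  rw [rem_eq, map_sub, sub_eq_zero] at h1
  rw [h1, map_sum, map_sum]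
  refine Finset.sum_congr rfl fun i _ => ?_
  rw [map_smul, map_smul, ← sub_eq_zero, ← sub_smul]
  apply smul_eq_zero_of_mem t J hs hk p (p + 1) le_rfl
  have h2 := hL i (p + 1)
  rw [SModEq.sub_mem] at h2
  simpa using h2

end Gens

include hs hk in
theorem main [IsPrecomplete J R] [Module.Finite R (M 0)] :
    Module.Finite R (lim t) ∧ ∀ n, LinearMap.ker (π t n) = J ^ (n + 1) • (⊤ : Submodule R (lim t)) := by
  obtain ⟨r, v, hv⟩ := Module.Finite.exists_fin (R := R) (M := M 0)
  choose x hx using fun i => π_surjective t hs 0 (v i)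
  have hx' : Submodule.span R (Set.range fun i => π t 0 (x i)) = ⊤ := by
    rw [← hv]; congr 2; ext i; exact hx i
  have hspan : Submodule.span R (Set.range x) = ⊤ := by
    rw [eq_top_iff]
    intro m _
    obtain ⟨a, -, rfl⟩ := exists_repr t J hs hk x hx' 0 m (fun p hp => absurd hp (Nat.not_lt_zero p))
    exact Submodule.sum_mem _ fun i _ => Submodule.smul_mem _ _ (Submodule.subset_span ⟨i, rfl⟩)
  refine ⟨Module.Finite.of_surjective (Fintype.linearCombination R x) ?_, fun n => le_antisymm ?_ ?_⟩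
  · rw [← LinearMap.range_eq_top, Fintype.range_linearCombination, hspan]
  · intro m hm
    rw [LinearMap.mem_ker] at hm
    obtain ⟨a, ha, rfl⟩ := exists_repr t J hs hk x hx' (n + 1) m
      (fun p hp => π_eq_zero_of_le t m (Nat.lt_succ_iff.mp hp) hm)
    exact Submodule.sum_mem _ fun i _ => Submodule.smul_mem_smul (ha i) trivial
  · rw [Submodule.smul_le]
    intro a ha m _
    rw [LinearMap.mem_ker, map_smul]
    exact smul_eq_zero_of_mem t J hs hk n (n + 1) le_rfl a ha _

end Tower

section Lift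
open Submodule

variable {A : Type*} [CommRing A] (J : Ideal A) {M N : Type*} [AddCommGroup M] [Module A M]
  [AddCommGroup N] [Module A N] [IsAdicComplete J N]
  {Q : ℕ → Type*} [∀ n, AddCommGroup (Q n)] [∀ n, Module A (Q n)]
  (p : ∀ n, N →ₗ[A] Q n) (hp : ∀ n, Function.Surjective (p n))
  (hk : ∀ n, LinearMap.ker (p n) = J ^ (n + 1) • (⊤ : Submodule A N))
  (r : ∀ n, Q (n + 1) →ₗ[A] Q n) (hr : ∀ n, r n ∘ₗ p (n + 1) = p n)
  (α : ∀ n, M →ₗ[A] Q n) (hα : ∀ n, r n ∘ₗ α (n + 1) = α n)

/-- the identification `N ⧸ J^(n+1) N ≃ Q n`. -/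
noncomputable def quotEquiv (n : ℕ) : (N ⧸ (J ^ (n + 1) • ⊤ : Submodule A N)) ≃ₗ[A] Q n :=
  (Submodule.quotEquivOfEq _ _ (hk n).symm) ≪≫ₗ (p n).quotKerEquivOfSurjective (hp n)

omit [IsAdicComplete J N] in
theorem quotEquiv_mk (n : ℕ) (y : N) :
    quotEquiv J p hp hk n (Submodule.Quotient.mk y) = p n y := rfl

include hp hk hr hα in
theorem exists_lift_of_compat : ∃ u : M →ₗ[A] N, ∀ n, p n ∘ₗ u = α n := by
  let f : ∀ n, M →ₗ[A] N ⧸ (J ^ (n + 1) • ⊤ : Submodule A N) := fun n =>
    (quotEquiv J p hp hk n).symm.toLinearMap ∘ₗ α n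
  have ha : StrictMono (fun n : ℕ => n + 1) := fun _ _ h => Nat.succ_lt_succ h
  have hf : ∀ {m : ℕ}, factorPow J N (ha.monotone m.le_succ) ∘ₗ f (m + 1) = f m := by
    intro m
    ext x
    apply (quotEquiv J p hp hk m).injective
    simp only [f, LinearMap.comp_apply, LinearEquiv.coe_coe, LinearEquiv.apply_symm_apply]
    obtain ⟨y, hy⟩ := Submodule.Quotient.mk_surjective _ ((quotEquiv J p hp hk (m + 1)).symm (α (m + 1) x))
    rw [← hy]
    have h1 : p (m + 1) y = α (m + 1) x := by
      rw [← quotEquiv_mk J p hp hk (m + 1) y, hy, LinearEquiv.apply_symm_apply]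
    change quotEquiv J p hp hk m (Submodule.Quotient.mk y) = _
    rw [quotEquiv_mk, ← hr m, LinearMap.comp_apply, h1, ← LinearMap.comp_apply, hα m]
  refine ⟨IsAdicComplete.StrictMono.lift J ha f hf, fun n => ?_⟩
  ext x
  rw [LinearMap.comp_apply, ← quotEquiv_mk J p hp hk n]
  have := IsAdicComplete.StrictMono.mk_lift J ha f hf (n := n) x
  rw [this]
  simp [f]

end Lift


end Groth.Agent.R2.H17.LimMod
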