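import Mathlib
import Groth.Prelude.Def_Algz

/-!
# Pro-isomorphic inverse systems have isomorphic limits (helper17)

Namespace `Groth.Agent.R2.H17.ProIsoLim`.

* `exists_limit_iso`: for `a : reindex X hm ⟶ Y` a pro-isomorphism (`n ≤ m n`), there is an isomorphism
  `θ : limit X ≅ limit Y` with `θ.hom ≫ limit.π Y (op n) = limit.π X (op (m n)) ≫ a.app (op n)`.
-/

set_option autoImplicit false
set_option linter.unusedSectionVars false
set_option linter.style.haveILetI false

universe v u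

open CategoryTheory CategoryTheory.Limits Opposite

namespace Groth.Agent.R2.H17.ProIsoLim

variable {C : Type u} [Category.{v} C]

/-- the transition maps. -/
abbrev trm (X : ℕᵒᵖ ⥤ C) {n k : ℕ} (h : n ≤ k) : X.obj (op k) ⟶ X.obj (op n) := X.map (homOfLE h).op

lemma trm_comp (X : ℕᵒᵖ ⥤ C) {i j k : ℕ} (hij : i ≤ j) (hjk : j ≤ k) :
    trm X hjk ≫ trm X hij = trm X (hij.trans hjk) := by
  dsimp only [trm]
  rw [← X.map_comp]
  rfl

lemma π_trm (X : ℕᵒᵖ ⥤ C) [HasLimit X] {n k : ℕ} (h : n ≤ k) :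
    limit.π X (op k) ≫ trm X h = limit.π X (op n) :=
  limit.w X (homOfLE h).op

/-- a cone over `X : ℕᵒᵖ ⥤ C` from a compatible family. -/
def coneOf (X : ℕᵒᵖ ⥤ C) {P : C} (c : ∀ n, P ⟶ X.obj (op n))
    (hc : ∀ {n k : ℕ} (h : n ≤ k), c k ≫ trm X h = c n) : Cone X where
  pt := P
  π :=
    { app := fun n => c n.unop
      naturality := by
        intro i j f
        have hf : f = (homOfLE (leOfHom f.unop)).op := Subsingleton.elim _ _
        dsimp only [Functor.const_obj_obj, Functor.const_obj_map]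
        rw [Category.id_comp, hf]
        exact (hc (leOfHom f.unop)).symm }

variable {X Y : ℕᵒᵖ ⥤ C} [HasLimit X] [HasLimit Y]

theorem exists_limit_iso {m : ℕ → ℕ} (hm : Monotone m) (hle : ∀ n, n ≤ m n)
    (a : DerCA.reindex X hm ⟶ Y) (ha : DerCA.IsProIso a) :
    ∃ θ : limit X ≅ limit Y, ∀ n, θ.hom ≫ limit.π Y (op n) = limit.π X (op (m n)) ≫ a.app (op n) := by
  let a' : ∀ k, X.obj (op (m k)) ⟶ Y.obj (op k) := fun k => a.app (op k)
  have hnat : ∀ {i j : ℕ} (hij : i ≤ j), trm X (hm hij) ≫ a' i = a' j ≫ trm Y hij := fun hij =>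
    a.naturality (homOfLE hij).op
  choose m' hm' b₀ hb1₀ hb2₀ using ha
  let b : ∀ n, Y.obj (op (m' n)) ⟶ X.obj (op (m n)) := fun n => b₀ n
  have hb1 : ∀ n, a' (m' n) ≫ b n = trm X (hm (hm' n)) := fun n => hb1₀ n
  have hb2 : ∀ n, b n ≫ a' n = trm Y (hm' n) := fun n => hb2₀ n
  -- the forward map
  let θ : limit X ⟶ limit Y := limit.lift Y (coneOf Y (fun n => limit.π X (op (m n)) ≫ a' n) (by
    intro n k h
    rw [Category.assoc, ← hnat h, ← Category.assoc, π_trm]))
  have hθ : ∀ n, θ ≫ limit.π Y (op n) = limit.π X (op (m n)) ≫ a' n := fun n =>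
    limit.lift_π _ _
  -- the backward map
  let c : ∀ n, limit Y ⟶ X.obj (op n) := fun n => limit.π Y (op (m' n)) ≫ b n ≫ trm X (hle n)
  have hindep : ∀ (n L : ℕ) (hL : m' n ≤ L),
      c n = limit.π Y (op (m' L)) ≫ b L ≫ trm X ((hle n).trans (hm ((hm' n).trans hL))) := by
    intro n L hL
    have e1 : trm Y (hL.trans (hm' L)) = b L ≫ trm X (hm hL) ≫ a' (m' n) := by
      rw [← trm_comp Y hL (hm' L), ← hb2 L, Category.assoc, hnat hL]
    calc c n = (limit.π Y (op (m' L)) ≫ trm Y (hL.trans (hm' L))) ≫ b n ≫ trm X (hle n) := by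
            rw [π_trm]
      _ = limit.π Y (op (m' L)) ≫ b L ≫ trm X (hm hL) ≫ (a' (m' n) ≫ b n) ≫ trm X (hle n) := by
            rw [e1]
            simp only [Category.assoc]
      _ = limit.π Y (op (m' L)) ≫ b L ≫ trm X ((hle n).trans (hm ((hm' n).trans hL))) := by
            rw [hb1, trm_comp, trm_comp]
  have hc : ∀ {n k : ℕ} (h : n ≤ k), c k ≫ trm X h = c n := by
    intro n k h
    rw [hindep k (max (m' n) (m' k)) (le_max_right _ _), hindep n (max (m' n) (m' k)) (le_max_left _ _),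
      Category.assoc, Category.assoc, trm_comp]
  let θ' : limit Y ⟶ limit X := limit.lift X (coneOf X c hc)
  have hθ' : ∀ n, θ' ≫ limit.π X (op n) = c n := fun n => limit.lift_π _ _
  refine ⟨⟨θ, θ', ?_, ?_⟩, hθ⟩
  · apply limit.hom_ext
    rintro ⟨n⟩
    rw [Category.assoc, hθ', Category.id_comp]
    dsimp only [c]
    rw [← Category.assoc, hθ, Category.assoc, ← Category.assoc (a' (m' n)), hb1, trm_comp, π_trm]
  · apply limit.hom_ext
    rintro ⟨n⟩
    rw [Category.assoc, hθ, ← Category.assoc, hθ', Category.id_comp]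
    dsimp only [c]
    rw [Category.assoc, Category.assoc, hnat (hle n), ← Category.assoc (b (m n)), hb2, trm_comp, π_trm]

end Groth.Agent.R2.H17.ProIsoLim
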