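import Mathlib
import Groth.Agent.R2.H17LimMod
import Groth.Agent.R2.H17AdicApprox
import Groth.Agent.R2.H17ProIsoLim

/-!
# The limit topology of an adic tower of modules is the adic topology (helper17)

Namespace `Groth.Agent.R2.H17.AdicLimTop`.

* `mk`, `π_mk`, `limit_ext`: elements of the categorical limit of `X : ℕᵒᵖ ⥤ ModuleCat A` from compatible families.
* `ker_π_le`: for a tower `Y` with surjective transition maps `Y_(n+1) → Y_n` of kernel `I^(n+1) Y_(n+1)` (`I` finitely
  generated), `ker (lim Y → Y_n) ≤ I^(n+1) (lim Y)`.  No completeness assumption on the ring.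
* `exists_ker_π_le_of_isProIsomorphic`: if `X` is pro-isomorphic to such a `Y`, then for every `k` some
  `ker (lim X → X_n)` lies in `I^k (lim X)`.
-/

set_option autoImplicit false
set_option linter.unusedSectionVars false
set_option linter.style.haveILetI false

universe u

open CategoryTheory CategoryTheory.Limits Opposite

namespace Groth.Agent.R2.H17.AdicLimTop

open Groth.Agent.R2.H17.ProIsoLim Groth.Agent.R2.H17

variable {A : Type u} [CommRing A] (X : ℕᵒᵖ ⥤ ModuleCat.{u} A)

/-- the terms, as types. -/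
abbrev Mx (n : ℕ) : Type u := ↑(X.obj (op n))

/-- successive transition maps, as linear maps. -/
def tX (n : ℕ) : Mx X (n + 1) →ₗ[A] Mx X n := (X.map (homOfLE (Nat.le_succ n)).op).hom

/-- the concrete limit. -/
abbrev limC : Submodule A (∀ n, Mx X n) := LimMod.lim (R := A) (M := Mx X) (tX X)

/-- the concrete projections. -/
abbrev πC (n : ℕ) : limC X →ₗ[A] Mx X n := LimMod.π (R := A) (M := Mx X) (tX X) n

lemma trm_π {n k : ℕ} (h : n ≤ k) (x : limC X) :
    (trm X h).hom (πC X k x) = πC X n x := by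
  induction k, h using Nat.le_induction with
  | base =>
    have : trm X (le_refl n) = 𝟙 _ := X.map_id (op n)
    rw [this]
    rfl
  | succ k hk ih =>
    have e : trm X (hk.trans (Nat.le_succ k)) = trm X (Nat.le_succ k) ≫ trm X hk := (trm_comp X _ _).symm
    rw [e]
    change (trm X hk).hom ((tX X k) (πC X (k + 1) x)) = _
    rw [LimMod.t_π, ih]

/-- the comparison from the concrete limit to the categorical one. -/
noncomputable def φ : ModuleCat.of A (limC X) ⟶ limit X :=
  limit.lift X (coneOf X (fun n => ModuleCat.ofHom (πC X n)) (by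
    intro n k h
    ext x
    exact trm_π X h x))

lemma φ_π (n : ℕ) : φ X ≫ limit.π X (op n) = ModuleCat.ofHom (πC X n) := limit.lift_π _ _

/-- the element of the limit with given compatible components. -/
noncomputable def mk (x : limC X) : ↑(limit X) := (φ X).hom x

lemma π_mk (x : limC X) (n : ℕ) : (limit.π X (op n)).hom (mk X x) = x.1 n := by
  have := congrArg (fun f => f.hom x) (φ_π X n)
  exact this

lemma limit_ext {x y : ↑(limit X)} (h : ∀ n, (limit.π X (op n)).hom x = (limit.π X (op n)).hom y) : x = y := by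
  apply Concrete.limit_ext X x y
  rintro ⟨n⟩
  exact h n

lemma π_trm_apply {n k : ℕ} (h : n ≤ k) (x : ↑(limit X)) :
    (trm X h).hom ((limit.π X (op k)).hom x) = (limit.π X (op n)).hom x := by
  have := congrArg (fun f => f.hom x) (π_trm X h)
  exact this

section adic

variable (I : Ideal A) (Y : ℕᵒᵖ ⥤ ModuleCat.{u} A)
  (hs : ∀ n, Function.Surjective (tX Y n))
  (hk : ∀ n, LinearMap.ker (tX Y n) = I ^ (n + 1) • ⊤)

include hs in
lemma π_surjective (n : ℕ) : Function.Surjective (limit.π Y (op n)).hom := by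
  intro y
  obtain ⟨x, hx⟩ := LimMod.π_surjective (R := A) (M := Mx Y) (tX Y) hs n y
  exact ⟨mk Y x, (π_mk Y x n).trans hx⟩

include hs hk in
lemma smul_eq_zero (n : ℕ) (a : A) (ha : a ∈ I ^ (n + 1)) (y : Mx Y n) : a • y = 0 := by
  obtain ⟨y', rfl⟩ := hs n y
  rw [← map_smul]
  have h : a • y' ∈ LinearMap.ker (tX Y n) := by
    rw [hk]
    exact Submodule.smul_mem_smul ha trivial
  exact h

include hs hk in
/-- for an adic tower, the kernel of `lim Y → Y_n` is `I^(n+1) (lim Y)`. -/
theorem ker_π_le (hI : I.FG) (n : ℕ) :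
    LinearMap.ker (limit.π Y (op n)).hom ≤ I ^ (n + 1) • (⊤ : Submodule A ↑(limit Y)) := by
  refine AdicApprox.le_pow_smul_top I (fun k => LinearMap.ker (limit.π Y (op k)).hom) hI ?_ ?_ ?_ ?_ ?_ n
  · intro k x hx
    have h1 : (limit.π Y (op (k + 1))).hom x ∈ LinearMap.ker (tX Y k) := by
      rw [LinearMap.mem_ker]
      exact (π_trm_apply Y (Nat.le_succ k) x).trans hx
    rw [hk k] at h1
    have h2 : (I ^ (k + 1) • ⊤ : Submodule A (Mx Y (k + 1))) =
        Submodule.map (limit.π Y (op (k + 1))).hom (I ^ (k + 1) • ⊤) := by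
      rw [Submodule.map_smul'', Submodule.map_top, LinearMap.range_eq_top.2 (π_surjective Y hs (k + 1))]
    rw [h2] at h1
    obtain ⟨z, hz, hzx⟩ := h1
    have e : x = (x - z) + z := by abel
    rw [e]
    exact Submodule.add_mem_sup (by rw [LinearMap.mem_ker, map_sub, hzx, sub_self]) hz
  · intro k
    rw [Submodule.smul_le]
    intro a ha x _
    rw [LinearMap.mem_ker, map_smul]
    exact smul_eq_zero I Y hs hk k a ha _
  · intro k x hx
    rw [LinearMap.mem_ker] at hx ⊢
    rw [← π_trm_apply Y (Nat.le_succ k) x, hx, map_zero]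
  · intro z hz
    let w : ∀ n, Mx Y n := fun n => (limit.π Y (op n)).hom (z n)
    have hw : ∀ n, tX Y n (w (n + 1)) = w n := by
      intro n
      change (trm Y (Nat.le_succ n)).hom ((limit.π Y (op (n + 1))).hom (z (n + 1))) = _
      rw [π_trm_apply]
      have := hz n
      rw [LinearMap.mem_ker, map_sub, sub_eq_zero] at this
      exact this
    refine ⟨mk Y ⟨w, hw⟩, fun N => ?_⟩
    rw [LinearMap.mem_ker, map_sub, π_mk, sub_self]
  · intro x hx
    apply limit_ext Y
    intro n
    rw [map_zero]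
    exact hx n

include hs hk in
/-- if `X` is pro-isomorphic to an adic tower `Y`, the limit topology on `lim X` is finer than the adic one. -/
theorem exists_ker_π_le_of_isProIsomorphic (X : ℕᵒᵖ ⥤ ModuleCat.{u} A) (h : Algz.IsProIsomorphic X Y)
    (hI : I.FG) (k : ℕ) :
    ∃ n : ℕ, LinearMap.ker (limit.π X (op n)).hom ≤ I ^ k • (⊤ : Submodule A ↑(limit X)) := by
  obtain ⟨m, hm, hle, a, ha⟩ := h
  obtain ⟨θ, hθ⟩ := exists_limit_iso hm hle a ha
  refine ⟨m k, fun x hx => ?_⟩
  have h1 : θ.hom.hom x ∈ LinearMap.ker (limit.π Y (op k)).hom := by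
    rw [LinearMap.mem_ker]
    have e := congrArg (fun f => f.hom x) (hθ k)
    refine e.trans ?_
    rw [LinearMap.mem_ker] at hx
    let ak : X.obj (op (m k)) ⟶ Y.obj (op k) := a.app (op k)
    change ak.hom ((limit.π X (op (m k))).hom x) = 0
    rw [hx, map_zero]
  have h2 : θ.hom.hom x ∈ I ^ k • (⊤ : Submodule A ↑(limit Y)) :=
    Submodule.smul_mono_left (Ideal.pow_le_pow_right (Nat.le_succ k)) (ker_π_le I Y hs hk hI k h1)
  have h3 : θ.inv.hom (θ.hom.hom x) ∈ I ^ k • (⊤ : Submodule A ↑(limit X)) := by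
    have hle' : Submodule.map θ.inv.hom (I ^ k • (⊤ : Submodule A ↑(limit Y))) ≤ I ^ k • ⊤ := by
      rw [Submodule.map_smul'']
      exact Submodule.smul_mono le_rfl le_top
    exact hle' ⟨_, h2, rfl⟩
  have e : θ.inv.hom (θ.hom.hom x) = x := by
    have := congrArg (fun f => f.hom x) θ.hom_inv_id
    exact this
  rw [e] at h3
  exact h3

end adic

end Groth.Agent.R2.H17.AdicLimTop
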