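import Mathlib
import Groth.Agent.Lib.Helper20OmegaAff

/-!
# Units of pullback–pushforward adjunctions on affine schemes (helper17)

ns `Groth.Agent.R2.H17.AffDict`.

* `unit_comp` : the unit of `(f ≫ g)^* ⊣ (f ≫ g)_*` in terms of those of `f`, `g`.
* `isIso_unit_of_isIso` : the unit is an isomorphism for an isomorphism of schemes.
* `specUnit ψ M : M ⟶ Γ(Spec B, (Spec ψ)_* (Spec ψ)^* M~)`, identified with `m ↦ 1 ⊗ m`
  (`specUnit_apply`); for surjective `ψ`: `specUnit_surjective`, `specUnit_eq_zero_iff`.
* `clUnit i N`, `ΓUnit i G` for `i : Z ⟶ Spec B`; if `i = e ≫ Spec.map ψ` with `e` an isomorphism and `ψ`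
  surjective: `clUnit_surjective`, `clUnit_eq_zero_iff`, `ΓUnit_surjective`, `ΓUnit_eq_zero_iff`
  (the latter two for quasi-coherent `G`): global sections of `G → i_* i^* G` are `Γ(G) → Γ(G)/ker ψ Γ(G)`.
-/

set_option autoImplicit false
set_option linter.style.haveILetI false
universe u
open CategoryTheory AlgebraicGeometry Limits TensorProduct
open Groth.Agent.Lib.Helper20.OmegaAff

namespace Groth.Agent.R2.H17.AffDict

section Alg

theorem one_tmul_eq_zero_iff {R S : Type*} [CommRing R] [CommRing S] (f : R →+* S)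
    (hf : Function.Surjective f) {M : Type*} [AddCommGroup M] [Module R M] (m : M) :
    letI := Module.compHom S f
    ((1 : S) ⊗ₜ[R] m = 0 ↔ m ∈ RingHom.ker f • (⊤ : Submodule R M)) := by
  let _ : Module R S := Module.compHom S f
  let e0 := RingHom.quotientKerEquivOfSurjective hf
  let e : (R ⧸ RingHom.ker f) ≃ₗ[R] S :=
    { e0.toAddEquiv with
      map_smul' := by
        intro r x
        obtain ⟨y, rfl⟩ := Ideal.Quotient.mk_surjective x
        change e0 (r • Ideal.Quotient.mk _ y) = f r * e0 (Ideal.Quotient.mk _ y)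
        rw [Algebra.smul_def, map_mul]
        rfl }
  have h1 : (TensorProduct.congr e (LinearEquiv.refl R M)) ((1 : R ⧸ RingHom.ker f) ⊗ₜ[R] m) =
      (1 : S) ⊗ₜ[R] m := by
    rw [TensorProduct.congr_tmul]
    congr 1
    exact map_one e0
  rw [← h1, LinearEquiv.map_eq_zero_iff,
    ← LinearMap.ker_tensorProductMk (Q := M) (I := RingHom.ker f), LinearMap.mem_ker]
  rfl

theorem one_tmul_surjective {R S : Type*} [CommRing R] [CommRing S] (f : R →+* S)
    (hf : Function.Surjective f) {M : Type*} [AddCommGroup M] [Module R M] :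
    letI := Module.compHom S f
    Function.Surjective (fun m : M => (1 : S) ⊗ₜ[R] m) := by
  let _ : Module R S := Module.compHom S f
  have hsm : ∀ (a : R) (b : S), a • b = f a * b := fun _ _ => rfl
  intro z
  induction z using TensorProduct.induction_on with
  | zero => exact ⟨0, by simp⟩
  | tmul b n =>
    obtain ⟨a, rfl⟩ := hf b
    refine ⟨a • n, ?_⟩
    change (1 : S) ⊗ₜ[R] (a • n) = f a ⊗ₜ[R] n
    rw [← TensorProduct.smul_tmul, hsm, mul_one]
  | add z w hz hw =>
    obtain ⟨n, rfl⟩ := hz
    obtain ⟨n', rfl⟩ := hw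
    exact ⟨n + n', by simp [TensorProduct.tmul_add]⟩

end Alg

section SpecUnit
variable {B A : CommRingCat.{u}} (ψ : B ⟶ A) (M : ModuleCat.{u} B)

/-- the map `M → Γ(Spec B, (Spec ψ)_* (Spec ψ)^* M~)` -/
noncomputable def specUnit :
    M ⟶ (moduleSpecΓFunctor (R := B)).obj ((Scheme.Modules.pushforward (Spec.map ψ)).obj
      ((Scheme.Modules.pullback (Spec.map ψ)).obj (tilde M))) :=
  (tilde.adjunction (R := B)).unit.app M ≫ (moduleSpecΓFunctor (R := B)).map
    ((Scheme.Modules.pullbackPushforwardAdjunction (Spec.map ψ)).unit.app (tilde M))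

theorem specUnit_comp :
    specUnit ψ M ≫ (pushforwardΓIso ψ).hom.app _ ≫
      (moduleSpecΓFunctor (R := A) ⋙ ModuleCat.restrictScalars ψ.hom).map
        ((pullbackTildeIso ψ).hom.app M) =
    (ModuleCat.extendRestrictScalarsAdj ψ.hom).unit.app M ≫
      (ModuleCat.restrictScalars ψ.hom).map ((tilde.adjunction (R := A)).unit.app _) := by
  have h := Adjunction.unit_leftAdjointUniq_hom_app
    ((adj1 ψ).ofNatIsoRight (pushforwardΓIso ψ)) (adj2 ψ) M
  rw [adj2, Adjunction.comp_unit_app] at h
  refine Eq.trans ?_ h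
  simp only [specUnit, adj1, Adjunction.ofNatIsoRight_unit, Adjunction.comp_unit_app,
    NatTrans.comp_app, Functor.whiskerLeft_app, Category.assoc, Functor.comp_map]
  rfl

/-- the comparison iso -/
noncomputable def specUnitIso :
    (moduleSpecΓFunctor (R := B)).obj ((Scheme.Modules.pushforward (Spec.map ψ)).obj
      ((Scheme.Modules.pullback (Spec.map ψ)).obj (tilde M))) ≅
    (ModuleCat.restrictScalars ψ.hom).obj ((ModuleCat.extendScalars ψ.hom).obj M) :=
  (pushforwardΓIso ψ).app _ ≪≫
    (moduleSpecΓFunctor (R := A) ⋙ ModuleCat.restrictScalars ψ.hom).mapIso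
      ((pullbackTildeIso ψ).app M) ≪≫
    ((ModuleCat.restrictScalars ψ.hom).mapIso
      (asIso ((tilde.adjunction (R := A)).unit.app ((ModuleCat.extendScalars ψ.hom).obj M)))).symm

theorem specUnit_specUnitIso :
    specUnit ψ M ≫ (specUnitIso ψ M).hom = (ModuleCat.extendRestrictScalarsAdj ψ.hom).unit.app M := by
  have h := specUnit_comp ψ M
  unfold specUnitIso
  rw [Iso.trans_hom, Iso.trans_hom, Iso.symm_hom, ← Category.assoc, ← Category.assoc,
    Iso.comp_inv_eq, Category.assoc]
  exact h

open ChangeOfRings in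
theorem specUnit_apply (m : M) :
    (specUnitIso ψ M).hom.hom ((specUnit ψ M).hom m) = (1 : A) ⊗ₜ[B, ψ.hom] m := by
  have h := specUnit_specUnitIso ψ M
  have h2 := congrArg (fun φ => φ.hom m) h
  exact h2

theorem specUnit_surjective (hψ : Function.Surjective ψ.hom) :
    Function.Surjective (specUnit ψ M).hom := by
  intro y
  obtain ⟨m, hm⟩ := one_tmul_surjective ψ.hom hψ (M := M) ((specUnitIso ψ M).hom.hom y)
  refine ⟨m, ?_⟩
  apply (ConcreteCategory.bijective_of_isIso (specUnitIso ψ M).hom).injective
  rw [← hm]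
  exact specUnit_apply ψ M m

theorem specUnit_eq_zero_iff (hψ : Function.Surjective ψ.hom) (m : M) :
    (specUnit ψ M).hom m = 0 ↔ m ∈ RingHom.ker ψ.hom • (⊤ : Submodule B M) := by
  rw [← one_tmul_eq_zero_iff ψ.hom hψ m, ← specUnit_apply ψ M m]
  constructor
  · intro h; rw [h, map_zero]; rfl
  · intro h
    apply (ConcreteCategory.bijective_of_isIso (specUnitIso ψ M).hom).injective
    rw [h, map_zero]; rfl

end SpecUnit

section Unit
variable {X Y Z : Scheme.{u}} (f : X ⟶ Y) (g : Y ⟶ Z)

/-- unit of the adjunction of a composite. -/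
theorem unit_comp (G : Z.Modules) :
    (Scheme.Modules.pullbackPushforwardAdjunction g).unit.app G ≫
      (Scheme.Modules.pushforward g).map
        ((Scheme.Modules.pullbackPushforwardAdjunction f).unit.app
          ((Scheme.Modules.pullback g).obj G)) ≫
      (Scheme.Modules.pushforwardComp f g).hom.app _ =
    (Scheme.Modules.pullbackPushforwardAdjunction (f ≫ g)).unit.app G ≫
      (Scheme.Modules.pushforward (f ≫ g)).map ((Scheme.Modules.pullbackComp f g).inv.app G) := by
  have h := unit_conjugateEquiv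
    ((Scheme.Modules.pullbackPushforwardAdjunction g).comp
      (Scheme.Modules.pullbackPushforwardAdjunction f))
    (Scheme.Modules.pullbackPushforwardAdjunction (f ≫ g))
    (Scheme.Modules.pullbackComp f g).inv G
  rw [Scheme.Modules.conjugateEquiv_pullbackComp_inv, Adjunction.comp_unit_app] at h
  simpa using h

end Unit

section IsoUnit
variable {X Y : Scheme.{u}} (e : X ⟶ Y) [IsIso e]

theorem mem_essImage_pushforward_of_isIso (H : Y.Modules) :
    (Scheme.Modules.pushforward e).essImage H := by
  refine ⟨(Scheme.Modules.pushforward (inv e)).obj H, ⟨?_⟩⟩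
  exact (Scheme.Modules.pushforwardComp (inv e) e).app H ≪≫
    (Scheme.Modules.pushforwardCongr (IsIso.inv_hom_id e)).app H ≪≫
    (Scheme.Modules.pushforwardId Y).app H

instance isIso_unit_of_isIso (H : Y.Modules) :
    IsIso ((Scheme.Modules.pullbackPushforwardAdjunction e).unit.app H) :=
  (Adjunction.isIso_unit_app_iff_mem_essImage _).mpr (mem_essImage_pushforward_of_isIso e H)

/-- the unit of a composite `e ≫ s` with `e` an isomorphism, in terms of the unit of `s`. -/
noncomputable def unitCompIso {Z : Scheme.{u}} (s : Y ⟶ Z) (G : Z.Modules) :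
    (Scheme.Modules.pushforward s).obj ((Scheme.Modules.pullback s).obj G) ≅
      (Scheme.Modules.pushforward (e ≫ s)).obj ((Scheme.Modules.pullback (e ≫ s)).obj G) :=
  asIso ((Scheme.Modules.pushforward s).map
      ((Scheme.Modules.pullbackPushforwardAdjunction e).unit.app
        ((Scheme.Modules.pullback s).obj G))) ≪≫
    (Scheme.Modules.pushforwardComp e s).app _ ≪≫
    (Scheme.Modules.pushforward (e ≫ s)).mapIso ((Scheme.Modules.pullbackComp e s).app G)

theorem unit_unitCompIso {Z : Scheme.{u}} (s : Y ⟶ Z) (G : Z.Modules) :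
    (Scheme.Modules.pullbackPushforwardAdjunction s).unit.app G ≫ (unitCompIso e s G).hom =
      (Scheme.Modules.pullbackPushforwardAdjunction (e ≫ s)).unit.app G := by
  have h := unit_comp e s G
  simp only [unitCompIso, Iso.trans_hom, asIso_hom, Iso.app_hom, Functor.mapIso_hom]
  rw [← Category.assoc, ← Category.assoc, Category.assoc ((Scheme.Modules.pullbackPushforwardAdjunction s).unit.app G), h,
    Category.assoc, ← CategoryTheory.Functor.map_comp, Iso.inv_hom_id_app, CategoryTheory.Functor.map_id]
  exact Category.comp_id _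

end IsoUnit

section Abstract

theorem map_unit_eq {C D : Type*} [Category C] [Category D] {T : D ⥤ C} {Γ : C ⥤ D}
    (adj₁ : T ⊣ Γ) {E : C ⥤ C} (η : 𝟭 C ⟶ E) (G : C) :
    Γ.map (η.app G) = (adj₁.unit.app (Γ.obj G) ≫ Γ.map (η.app (T.obj (Γ.obj G)))) ≫
      Γ.map (E.map (adj₁.counit.app G)) := by
  have h := η.naturality (adj₁.counit.app G)
  simp only [Functor.comp_obj, Functor.id_obj, Functor.id_map] at h
  rw [Category.assoc, ← Γ.map_comp, ← h, Γ.map_comp, ← Category.assoc,
    adj₁.right_triangle_components]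
  exact (Category.id_comp _).symm

end Abstract

section FormA
variable {B : CommRingCat.{u}} {Z : Scheme.{u}} (i : Z ⟶ Spec B)

/-- `N → Γ(Spec B, i_* i^* N~)`. -/
noncomputable def clUnit (N : ModuleCat.{u} B) :
    N ⟶ (moduleSpecΓFunctor (R := B)).obj ((Scheme.Modules.pushforward i).obj
      ((Scheme.Modules.pullback i).obj (tilde N))) :=
  (tilde.adjunction (R := B)).unit.app N ≫ (moduleSpecΓFunctor (R := B)).map
    ((Scheme.Modules.pullbackPushforwardAdjunction i).unit.app (tilde N))

/-- `Γ(Spec B, G) → Γ(Spec B, i_* i^* G)`. -/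
noncomputable def ΓUnit (G : (Spec B).Modules) :
    (moduleSpecΓFunctor (R := B)).obj G ⟶ (moduleSpecΓFunctor (R := B)).obj
      ((Scheme.Modules.pushforward i).obj ((Scheme.Modules.pullback i).obj G)) :=
  (moduleSpecΓFunctor (R := B)).map ((Scheme.Modules.pullbackPushforwardAdjunction i).unit.app G)

theorem ΓUnit_eq (G : (Spec B).Modules) :
    ΓUnit i G = clUnit i ((moduleSpecΓFunctor (R := B)).obj G) ≫
      (moduleSpecΓFunctor (R := B)).map ((Scheme.Modules.pushforward i).map
        ((Scheme.Modules.pullback i).map ((tilde.adjunction (R := B)).counit.app G))) :=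
  map_unit_eq (tilde.adjunction (R := B)) (Scheme.Modules.pullbackPushforwardAdjunction i).unit G


theorem clUnit_naturality {M N : ModuleCat.{u} B} (w : M ⟶ N) :
    w ≫ clUnit i N = clUnit i M ≫ (moduleSpecΓFunctor (R := B)).map
      ((Scheme.Modules.pushforward i).map ((Scheme.Modules.pullback i).map ((tilde.functor B).map w))) := by
  have h1 := (tilde.adjunction (R := B)).unit.naturality w
  have h2 := (Scheme.Modules.pullbackPushforwardAdjunction i).unit.naturality ((tilde.functor B).map w)
  simp only [Functor.id_obj, Functor.id_map, Functor.comp_obj, Functor.comp_map] at h1 h2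
  unfold clUnit
  rw [← Category.assoc, h1, Category.assoc, Category.assoc]
  congr 1
  erw [← Functor.map_comp, ← Functor.map_comp]
  congr 1

variable {A : CommRingCat.{u}} (e : Z ⟶ Spec A) [IsIso e] (ψ : B ⟶ A)

theorem clUnit_comp (N : ModuleCat.{u} B) :
    clUnit (e ≫ Spec.map ψ) N = specUnit ψ N ≫
      (moduleSpecΓFunctor (R := B)).map (unitCompIso e (Spec.map ψ) (tilde N)).hom := by
  have h := unit_unitCompIso e (Spec.map ψ) (tilde N)
  unfold clUnit specUnit
  rw [Category.assoc]
  congr 1
  erw [← Functor.map_comp]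
  congr 1
  exact h.symm

include e in
theorem clUnit_surjective (hi : e ≫ Spec.map ψ = i) (hψ : Function.Surjective ψ.hom)
    (N : ModuleCat.{u} B) : Function.Surjective (clUnit i N).hom := by
  subst hi
  rw [clUnit_comp]
  have h2 : Function.Bijective ((moduleSpecΓFunctor (R := B)).map
      (unitCompIso e (Spec.map ψ) (tilde N)).hom).hom :=
    ConcreteCategory.bijective_of_isIso _
  rw [ModuleCat.hom_comp]
  exact h2.surjective.comp (specUnit_surjective ψ N hψ)

include e in
theorem clUnit_eq_zero_iff (hi : e ≫ Spec.map ψ = i) (hψ : Function.Surjective ψ.hom)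
    (N : ModuleCat.{u} B) (m : N) :
    (clUnit i N).hom m = 0 ↔ m ∈ RingHom.ker ψ.hom • (⊤ : Submodule B N) := by
  subst hi
  rw [← specUnit_eq_zero_iff ψ N hψ m]
  have h2 : Function.Bijective ((moduleSpecΓFunctor (R := B)).map
      (unitCompIso e (Spec.map ψ) (tilde N)).hom).hom :=
    ConcreteCategory.bijective_of_isIso _
  have key : (clUnit (e ≫ Spec.map ψ) N).hom m = ((moduleSpecΓFunctor (R := B)).map
      (unitCompIso e (Spec.map ψ) (tilde N)).hom).hom ((specUnit ψ N).hom m) := by
    rw [clUnit_comp]; rfl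
  rw [key]
  exact map_eq_zero_iff _ h2.injective

include e in
theorem ΓUnit_surjective (hi : e ≫ Spec.map ψ = i) (hψ : Function.Surjective ψ.hom)
    (G : (Spec B).Modules) [G.IsQuasicoherent] : Function.Surjective (ΓUnit i G).hom := by
  rw [ΓUnit_eq, ModuleCat.hom_comp]
  haveI : IsIso ((tilde.adjunction (R := B)).counit.app G) :=
    Scheme.Modules.isIso_fromTildeΓ_of_isQuasicoherent G
  have h2 : Function.Bijective ((moduleSpecΓFunctor (R := B)).map ((Scheme.Modules.pushforward i).map
      ((Scheme.Modules.pullback i).map ((tilde.adjunction (R := B)).counit.app G)))).hom :=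
    ConcreteCategory.bijective_of_isIso _
  exact h2.surjective.comp (clUnit_surjective i e ψ hi hψ _)

include e in
theorem ΓUnit_eq_zero_iff (hi : e ≫ Spec.map ψ = i) (hψ : Function.Surjective ψ.hom)
    (G : (Spec B).Modules) [G.IsQuasicoherent] (m : (moduleSpecΓFunctor (R := B)).obj G) :
    (ΓUnit i G).hom m = 0 ↔
      m ∈ RingHom.ker ψ.hom • (⊤ : Submodule B ((moduleSpecΓFunctor (R := B)).obj G)) := by
  rw [← clUnit_eq_zero_iff i e ψ hi hψ _ m]
  haveI : IsIso ((tilde.adjunction (R := B)).counit.app G) :=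
    Scheme.Modules.isIso_fromTildeΓ_of_isQuasicoherent G
  have h2 : Function.Bijective ((moduleSpecΓFunctor (R := B)).map ((Scheme.Modules.pushforward i).map
      ((Scheme.Modules.pullback i).map ((tilde.adjunction (R := B)).counit.app G)))).hom :=
    ConcreteCategory.bijective_of_isIso _
  have key : (ΓUnit i G).hom m = ((moduleSpecΓFunctor (R := B)).map ((Scheme.Modules.pushforward i).map
      ((Scheme.Modules.pullback i).map ((tilde.adjunction (R := B)).counit.app G)))).hom
        ((clUnit i ((moduleSpecΓFunctor (R := B)).obj G)).hom m) := by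
    rw [ΓUnit_eq]; rfl
  rw [key]
  exact map_eq_zero_iff _ h2.injective

end FormA

end Groth.Agent.R2.H17.AffDict
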