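import Groth.Agent.R2.H17ComplRestrict
import Groth.Agent.R2.H17LimMod
import Groth.Agent.R2.H51CbcG1
import Groth.Agent.Lib.Helper23FinType2
import Groth.Agent.Lib.Helper23FinTypeLocal

/-!
# Coherent formal modules on `Spec A`, `A` complete, are completions of coherent modules (helper17)

Namespace `Groth.Agent.R2.H17.AffExist`.  `Spec A` is a scheme over itself through the identity.

* `IsQuot.exists_iso`: uniqueness of quotients `M / J M`.
* `isQuot_tilde_map`: for `π : M ⟶ Q` surjective with kernel `J M`, `π~ : M~ ⟶ Q~` is the quotient by `J`.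
* `Γ_map_of_isQuot`: if `t : N ⟶ Q` (`N` quasi-coherent on `Spec A`) is the quotient by `J`, then `Γ(t)` is surjective
  with kernel `J Γ(N)`.
* `exists_coh_completion_iso`: `A` `I`-adically (pre)complete, `G` a coherent formal module on `Spec A`; then
  `G ≅ completion I F` for a coherent `F`.
* `exists_coh_completion_iso_of_extends`: (6) ⇒ (2) on an open `U ⊆ Spec A`.
-/

set_option autoImplicit false
set_option linter.unusedSectionVars false
set_option linter.style.haveILetI false

universe u

open CategoryTheory CategoryTheory.Limits Opposite AlgebraicGeometry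

namespace Groth.Agent.R2.H17.AffExist

open Groth.Agent.R2.H17.ComplRestrict Groth.Agent.R2.H17.AlgzExt Groth.Agent.R2.H17.ProIso

section general

variable {A : Type u} [CommRing A] {X : Scheme.{u}} [X.Over (Spec (CommRingCat.of A))]

theorem IsQuot.exists_iso {J : Ideal A} {M N N' : X.Modules} {p : M ⟶ N} {p' : M ⟶ N'}
    (h : IsQuot J p) (h' : IsQuot J p') : ∃ θ : N ≅ N', p ≫ θ.hom = p' := by
  obtain ⟨h0, hi⟩ := h
  obtain ⟨h0', hi'⟩ := h'
  refine ⟨(asIso (cokernel.desc _ _ h0)).symm ≪≫ asIso (cokernel.desc _ _ h0'), ?_⟩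
  have e : p ≫ inv (cokernel.desc _ p h0) = cokernel.π _ := by
    rw [IsIso.comp_inv_eq, cokernel.π_desc]
  rw [Iso.trans_hom, Iso.symm_hom, asIso_inv, asIso_hom, ← Category.assoc, e, cokernel.π_desc]

end general

section Mod

variable {A : Type u} [CommRing A]

theorem exists_factor_of_ker_le {M Q P : ModuleCat.{u} A} (π : M ⟶ Q) (hs : Function.Surjective π.hom)
    (φ : M ⟶ P) (h : LinearMap.ker π.hom ≤ LinearMap.ker φ.hom) : ∃ ψ : Q ⟶ P, π ≫ ψ = φ := by
  refine ⟨ModuleCat.ofHom (((LinearMap.ker π.hom).liftQ φ.hom h) ∘ₗ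
    (π.hom.quotKerEquivOfSurjective hs).symm.toLinearMap), ?_⟩
  ext m
  have e1 : (π.hom.quotKerEquivOfSurjective hs).symm (π.hom m) = Submodule.Quotient.mk m := by
    rw [LinearEquiv.symm_apply_eq]
    rfl
  change ((LinearMap.ker π.hom).liftQ φ.hom h)
    ((π.hom.quotKerEquivOfSurjective hs).symm (π.hom m)) = φ.hom m
  rw [e1]
  rfl

theorem ker_le_of_smul_comp_eq_zero {M Q P : ModuleCat.{u} A} (J : Ideal A) (π : M ⟶ Q)
    (hk : LinearMap.ker π.hom = J • ⊤) (φ : M ⟶ P) (h : ∀ a ∈ J, (a • 𝟙 M) ≫ φ = 0) :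
    LinearMap.ker π.hom ≤ LinearMap.ker φ.hom := by
  rw [hk, Submodule.smul_le]
  intro a ha m _
  have := congrArg (fun f => f.hom m) (h a ha)
  rw [LinearMap.mem_ker]
  exact this

theorem smul_comp_eq_zero_of_ker {M Q : ModuleCat.{u} A} (J : Ideal A) (π : M ⟶ Q)
    (hk : LinearMap.ker π.hom = J • ⊤) (a : A) (ha : a ∈ J) : (a • 𝟙 M) ≫ π = 0 := by
  ext m
  have hm : a • m ∈ LinearMap.ker π.hom := by
    rw [hk]
    exact Submodule.smul_mem_smul ha trivial
  exact hm

theorem exists_quot (J : Ideal A) (N : ModuleCat.{u} A) :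
    ∃ (P : ModuleCat.{u} A) (q : N ⟶ P), Function.Surjective q.hom ∧ LinearMap.ker q.hom = J • ⊤ :=
  ⟨ModuleCat.of A (N ⧸ (J • ⊤ : Submodule A N)), ModuleCat.ofHom (Submodule.mkQ _),
    Submodule.mkQ_surjective _, Submodule.ker_mkQ _⟩

open Groth.Agent.R2.H17 in
theorem exists_lim (J : Ideal A) [IsPrecomplete J A]
    (Q : ℕ → ModuleCat.{u} A) (r : ∀ n, Q (n + 1) ⟶ Q n)
    (hs : ∀ n, Function.Surjective (r n).hom)
    (hk : ∀ n, LinearMap.ker (r n).hom = J ^ (n + 1) • ⊤)
    [Module.Finite A (Q 0)] :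
    ∃ (M : ModuleCat.{u} A) (π : ∀ n, M ⟶ Q n), Module.Finite A M ∧ (∀ n, π (n + 1) ≫ r n = π n) ∧
      (∀ n, Function.Surjective (π n).hom) ∧
      ∀ n, LinearMap.ker (π n).hom = J ^ (n + 1) • ⊤ := by
  obtain ⟨hfin, hker⟩ := LimMod.main (R := A) (M := fun n => ↑(Q n)) (fun n => (r n).hom) J hs hk
  refine ⟨ModuleCat.of A (LimMod.lim (R := A) (M := fun n => ↑(Q n)) (fun n => (r n).hom)),
    fun n => ModuleCat.ofHom (LimMod.π (R := A) (M := fun n => ↑(Q n)) (fun n => (r n).hom) n),
    hfin, ?_, ?_, ?_⟩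
  · intro n
    ext x
    exact LimMod.t_π (R := A) (M := fun n => ↑(Q n)) (fun n => (r n).hom) n x
  · intro n
    exact LimMod.π_surjective (R := A) (M := fun n => ↑(Q n)) (fun n => (r n).hom) hs n
  · intro n
    exact hker n

end Mod

section affine

variable {A : Type u} [CommRing A]

/-- `Spec A` over itself through the identity. -/
noncomputable local instance specOverSelf :
    (Spec (CommRingCat.of A)).Over (Spec (CommRingCat.of A)) := ⟨𝟙 _⟩

lemma smulMod_eq (N : (Spec (CommRingCat.of A)).Modules) (a : A) :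
    Formal.smulMod A N a =
      Formal.smulModΓ N ((Scheme.ΓSpecIso (CommRingCat.of A)).inv.hom a) := by
  rfl

lemma Γ_map_smulMod (N : (Spec (CommRingCat.of A)).Modules) (a : A) :
    (moduleSpecΓFunctor (R := CommRingCat.of A)).map (Formal.smulMod A N a) = a • 𝟙 _ := by
  rw [smulMod_eq]
  exact Groth.Agent.R2.H51.CbcG1.moduleSpecΓFunctor_map_smulModΓ (CommRingCat.of A) N a

lemma tilde_map_smul (M : ModuleCat.{u} A) (a : A) :
    (tilde.functor (CommRingCat.of A)).map (a • 𝟙 M) =
      Formal.smulMod A ((tilde.functor (CommRingCat.of A)).obj M) a := by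
  rw [smulMod_eq]
  exact Groth.Agent.R2.H51.CbcG1.tilde_map_smul (CommRingCat.of A) M a

/-- for `π : M ⟶ Q` surjective with kernel `J M`, the map `π~` is the quotient by `J`. -/
theorem isQuot_tilde_map (J : Ideal A) {M Q : ModuleCat.{u} A} (π : M ⟶ Q)
    (hs : Function.Surjective π.hom) (hk : LinearMap.ker π.hom = J • ⊤) :
    IsQuot J ((tilde.functor (CommRingCat.of A)).map π) := by
  have hepi : Epi π := (ModuleCat.epi_iff_surjective π).2 hs
  let adj := tilde.adjunction (R := CommRingCat.of A)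
  haveI : (tilde.functor (CommRingCat.of A)).PreservesEpimorphisms :=
    Functor.preservesEpimorphisms_of_adjunction adj
  haveI : (tilde.functor (CommRingCat.of A)).Additive :=
    AlgebraicGeometry.instAdditiveModuleCatCarrierModulesSpecOfFunctor (R := CommRingCat.of A)
  refine (isQuot_iff J _).2 ⟨inferInstance, fun a ha => ?_, fun {T} φ hφ => ?_⟩
  · rw [← tilde_map_smul, ← Functor.map_comp, smul_comp_eq_zero_of_ker J π hk a ha, Functor.map_zero]
  · let φ' : M ⟶ (moduleSpecΓFunctor (R := CommRingCat.of A)).obj T := adj.homEquiv _ _ φ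
    have h1 : ∀ a ∈ J, (a • 𝟙 M) ≫ φ' = 0 := by
      intro a ha
      have e := adj.homEquiv_naturality_left (a • 𝟙 M) φ
      rw [← e, tilde_map_smul, hφ a ha]
      have e0 := adj.homEquiv_naturality_left (0 : M ⟶ M) φ
      rw [Functor.map_zero, zero_comp, zero_comp] at e0
      exact e0
    obtain ⟨ψ', h3⟩ := exists_factor_of_ker_le π hs φ' (ker_le_of_smul_comp_eq_zero J π hk φ' h1)
    refine ⟨(adj.homEquiv _ _).symm ψ', ?_⟩
    rw [← adj.homEquiv_naturality_left_symm, h3, Equiv.symm_apply_apply]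

/-- if `t : N ⟶ Q` is the quotient by `J` and `N` is quasi-coherent, then `Γ(t)` is surjective with kernel `J Γ(N)`. -/
theorem Γ_map_of_isQuot (J : Ideal A) {N Q : (Spec (CommRingCat.of A)).Modules} [hN : N.IsQuasicoherent]
    (t : N ⟶ Q) (h : IsQuot J t) :
    Function.Surjective ((moduleSpecΓFunctor (R := CommRingCat.of A)).map t).hom ∧
      LinearMap.ker ((moduleSpecΓFunctor (R := CommRingCat.of A)).map t).hom = J • ⊤ := by
  let adj := tilde.adjunction (R := CommRingCat.of A)
  obtain ⟨P, q, hqs, hqk⟩ := exists_quot J ((moduleSpecΓFunctor (R := CommRingCat.of A)).obj N)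
  have hq := isQuot_tilde_map J q hqs hqk
  haveI hc : IsIso (adj.counit.app N) :=
    @Groth.Agent.Lib.Helper23.QCohLocal.isIso_fromTildeΓ (CommRingCat.of A) N hN
  have h2 : IsQuot J (adj.counit.app N ≫ t) := h.iso_comp (asIso (adj.counit.app N))
  obtain ⟨θ, hθ⟩ := IsQuot.exists_iso hq h2
  -- apply `Γ` and use the triangle identity
  have h3 : q ≫ adj.unit.app P ≫ (moduleSpecΓFunctor (R := CommRingCat.of A)).map θ.hom =
      (moduleSpecΓFunctor (R := CommRingCat.of A)).map t := by
    have e1 := congrArg (fun f => adj.unit.app _ ≫ (moduleSpecΓFunctor (R := CommRingCat.of A)).map f) hθ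
    simp only [Functor.map_comp] at e1
    have e2 := adj.unit.naturality q
    have e3 := adj.right_triangle_components N
    simp only [Functor.id_obj, Functor.id_map, Functor.comp_obj, Functor.comp_map] at e2 e3
    rw [← Category.assoc, e2, Category.assoc, e1, ← Category.assoc, e3]
    exact Category.id_comp _
  haveI : IsIso (adj.unit.app P) := by
    change IsIso ((tilde.toTildeΓNatIso (R := CommRingCat.of A)).hom.app P)
    infer_instance
  let ι := asIso (adj.unit.app P) ≪≫ (moduleSpecΓFunctor (R := CommRingCat.of A)).mapIso θ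
  have h4 : (moduleSpecΓFunctor (R := CommRingCat.of A)).map t = q ≫ ι.hom := by
    rw [← h3]
    rfl
  have hιb : Function.Bijective ι.hom.hom := ConcreteCategory.bijective_of_isIso ι.hom
  constructor
  · rw [h4]
    exact hιb.2.comp hqs
  · rw [h4, ← hqk]
    ext m
    simp only [LinearMap.mem_ker]
    change ι.hom.hom (q.hom m) = 0 ↔ _
    rw [← map_zero ι.hom.hom]
    exact hιb.1.eq_iff

/-- a coherent formal module on `Spec A`, `A` `I`-adically precomplete, is the completion of a coherent module. -/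
theorem exists_coh_completion_iso (I : Ideal A) [IsPrecomplete I A]
    (G : ℕᵒᵖ ⥤ (Spec (CommRingCat.of A)).Modules) (hG : Formal.IsCohFormal I G) :
    ∃ F : (Spec (CommRingCat.of A)).Modules, Coh.IsCoh F ∧ Nonempty (Formal.completion I F ≅ G) := by
  let adj := tilde.adjunction (R := CommRingCat.of A)
  let Q : ℕ → ModuleCat.{u} A := fun n => (moduleSpecΓFunctor (R := CommRingCat.of A)).obj (G.obj (op n))
  let r : ∀ n, Q (n + 1) ⟶ Q n := fun n =>
    (moduleSpecΓFunctor (R := CommRingCat.of A)).map (G.map (homOfLE (Nat.le_succ n)).op)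
  have hsk : ∀ n, Function.Surjective (r n).hom ∧ LinearMap.ker (r n).hom = I ^ (n + 1) • ⊤ := by
    intro n
    haveI : (G.obj (op (n + 1))).IsQuasicoherent := (hG.1 (n + 1)).1
    exact Γ_map_of_isQuot (I ^ (n + 1)) _ (hG.2.2 n)
  haveI : Module.Finite A (Q 0) := by
    haveI : (G.obj (op 0)).IsQuasicoherent := (hG.1 0).1
    haveI : SheafOfModules.IsFiniteType (R := (Spec (CommRingCat.of A)).ringCatSheaf) (G.obj (op 0)) :=
      (hG.1 0).2
    have h1 := Groth.Agent.Lib.Helper23.FinType.finite_of_isFiniteType (G.obj (op 0))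
      (isAffineOpen_top (Spec (CommRingCat.of A)))
    exact (Groth.Agent.Lib.Helper23.FinType.finite_Γtop_iff (CommRingCat.of A) _).mp h1
  obtain ⟨M, π, hfin, hcomp, hπs, hπk⟩ :=
    exists_lim I Q r (fun n => (hsk n).1) (fun n => (hsk n).2)
  have hiso : ∀ n, IsIso (adj.counit.app (G.obj (op n))) := fun n =>
    @Groth.Agent.Lib.Helper23.QCohLocal.isIso_fromTildeΓ (CommRingCat.of A) (G.obj (op n)) (hG.1 n).1
  have hF : Coh.IsCoh ((tilde.functor (CommRingCat.of A)).obj M) :=
    ⟨AlgebraicGeometry.instIsQuasicoherentOpensCarrierCarrierCommRingCatSpecOfCarrierObjModuleCatModulesFunctor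
      (R := CommRingCat.of A) M, (Groth.Agent.Lib.Helper23.FinType.isFiniteType_tilde_iff (CommRingCat.of A) M).2 hfin⟩
  refine ⟨(tilde.functor (CommRingCat.of A)).obj M, hF, ?_⟩
  apply nonempty_completion_iso_of_isQuot I ((tilde.functor (CommRingCat.of A)).obj M) G
    (fun n => (tilde.functor (CommRingCat.of A)).map (π n) ≫ adj.counit.app (G.obj (op n)))
  · intro n
    have e1 := adj.counit.naturality (G.map (homOfLE (Nat.le_succ n)).op)
    simp only [Functor.comp_obj, Functor.comp_map, Functor.id_obj, Functor.id_map] at e1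
    rw [Category.assoc, ← e1, ← Category.assoc, ← Functor.map_comp]
    have e2 : π (n + 1) ≫ (moduleSpecΓFunctor (R := CommRingCat.of A)).map
        (G.map (homOfLE (Nat.le_succ n)).op) = π n := hcomp n
    rw [e2]
  · intro n
    haveI := hiso n
    exact (isQuot_tilde_map (I ^ (n + 1)) (π n) (hπs n) (hπk n)).comp_iso
      (asIso (adj.counit.app (G.obj (op n))))

variable (U : (Spec (CommRingCat.of A)).Opens)

/-- completion commutes with restriction to an open of `Spec A`. -/
theorem nonempty_completion_restrict_iso (I : Ideal A) (F' : (Spec (CommRingCat.of A)).Modules) :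
    Nonempty (Formal.completion I (F'.restrict U.ι) ≅ Algz.restrictSys U (Formal.completion I F')) :=
  nonempty_completion_iso_of_isQuot I (F'.restrict U.ι)
    (Algz.restrictSys U (Formal.completion I F'))
    (fun n => (Scheme.Modules.restrictFunctor U.ι).map (complπ I F' n))
    (fun n => by
      change (Scheme.Modules.restrictFunctor U.ι).map _ ≫ (Scheme.Modules.restrictFunctor U.ι).map _ = _
      rw [← Functor.map_comp, complπ_succ])
    (fun n => isQuot_restrict U _ (isQuot_complπ I F' n))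

/-- (6) ⇒ (2): a system on `U ⊆ Spec A` (`A` complete) that extends to `Spec A` is the completion of a coherent
module on `U`. -/
theorem exists_coh_completion_iso_of_extends (I : Ideal A) [IsPrecomplete I A]
    (G : ℕᵒᵖ ⥤ (U : Scheme.{u}).Modules) (h : Algz.Extends I U G) :
    ∃ F : (U : Scheme.{u}).Modules, Coh.IsCoh F ∧ Nonempty (Formal.completion I F ≅ G) := by
  obtain ⟨G', hG', ⟨e⟩⟩ := h
  obtain ⟨F', hF', ⟨e'⟩⟩ := exists_coh_completion_iso I G' hG'
  haveI : F'.IsQuasicoherent := hF'.1
  haveI : SheafOfModules.IsFiniteType (R := (Spec (CommRingCat.of A)).ringCatSheaf) F' := hF'.2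
  have hq : (F'.restrict U.ι).IsQuasicoherent := Scheme.Modules.isQuasicoherent_restrictFunctor U.ι F'
  refine ⟨F'.restrict U.ι, ⟨hq, Groth.Agent.Lib.Helper23.FinType.isFiniteType_restrict U.ι F'⟩, ?_⟩
  obtain ⟨e1⟩ := nonempty_completion_restrict_iso U I F'
  exact ⟨e1 ≪≫ Functor.isoWhiskerRight e' (Scheme.Modules.restrictFunctor U.ι) ≪≫ e⟩

end affine

end Groth.Agent.R2.H17.AffExist
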