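import Groth.Agent.R2.H17ProIso
import Groth.Agent.Lib.Helper20FormalPull
import Groth.Agent.Lib.Helper23QCohLocal

/-!
# A canonically extending formal system on an open of `Spec A` extends (helper17)

Namespace `Groth.Agent.R2.H17.AlgzExt`.

* `isIso_cokernel_desc_iff`: `cokernel.desc f t h` is an isomorphism iff `t` is epi and every map killing `f`
  factors through `t`.
* `IsFormalSys.of_iso`: `ProIso.IsFormalSys` is invariant under isomorphisms of systems.
* `isProIsomorphic_comp`, `isProIsomorphic_of_iso_left`: functoriality / invariance of `Algz.IsProIsomorphic`.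
* `sectSysRestrictIso`: `(H⁰(U, G_n)~)|_U ≅ G_n` naturally, for quasi-coherent `G_n` on a quasi-compact open `U ⊆ Spec A`.
* `extends_of_canonicallyExtends`.
-/

set_option autoImplicit false
set_option linter.unusedSectionVars false
set_option linter.style.haveILetI false

universe u

open CategoryTheory CategoryTheory.Limits Opposite AlgebraicGeometry

namespace Groth.Agent.R2.H17.AlgzExt

open Groth.Agent.R2.H17.ProIso

section Cat

variable {𝒞 : Type*} [Category 𝒞] [HasZeroMorphisms 𝒞]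

theorem isIso_cokernel_desc_iff {K M N : 𝒞} (f : K ⟶ M) [HasCokernel f] (t : M ⟶ N) (h : f ≫ t = 0) :
    IsIso (cokernel.desc f t h) ↔
      (Epi t ∧ ∀ {T : 𝒞} (φ : M ⟶ T), f ≫ φ = 0 → ∃ ψ : N ⟶ T, t ≫ ψ = φ) := by
  constructor
  · intro hi
    have e' : t ≫ inv (cokernel.desc f t h) = cokernel.π f := by
      rw [IsIso.comp_inv_eq]
      exact (cokernel.π_desc f t h).symm
    refine ⟨?_, fun φ hφ => ⟨inv (cokernel.desc f t h) ≫ cokernel.desc f φ hφ, ?_⟩⟩
    · have e : t = cokernel.π f ≫ cokernel.desc f t h := (cokernel.π_desc f t h).symm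
      rw [e]
      have : Epi (cokernel.desc f t h) := IsIso.epi_of_iso _
      exact epi_comp _ _
    · rw [← Category.assoc, e', cokernel.π_desc]
  · rintro ⟨hepi, hfac⟩
    obtain ⟨r, hr⟩ := hfac (cokernel.π f) (cokernel.condition f)
    refine ⟨r, ?_, ?_⟩
    · rw [← cancel_epi (cokernel.π f), ← Category.assoc, cokernel.π_desc, hr, Category.comp_id]
    · rw [← cancel_epi t, ← Category.assoc, hr, cokernel.π_desc, Category.comp_id]

end Cat

section ProIso

variable {C : Type*} [Category C] {D : Type*} [Category D]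

theorem isProIsomorphic_comp {X Y : ℕᵒᵖ ⥤ C} (Φ : C ⥤ D) (h : Algz.IsProIsomorphic X Y) :
    Algz.IsProIsomorphic (X ⋙ Φ) (Y ⋙ Φ) := by
  obtain ⟨m, hm, hle, a, ha⟩ := h
  refine ⟨m, hm, hle, Functor.whiskerRight a Φ, fun n => ?_⟩
  obtain ⟨m', hnm', b, hb1, hb2⟩ := ha n
  refine ⟨m', hnm', Φ.map b, ?_, ?_⟩
  · have := congrArg Φ.map hb1
    rw [Φ.map_comp] at this
    exact this
  · have := congrArg Φ.map hb2
    rw [Φ.map_comp] at this
    exact this

theorem isProIsomorphic_of_iso_left {X X' Y : ℕᵒᵖ ⥤ C} (e : X ≅ X') (h : Algz.IsProIsomorphic X Y) :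
    Algz.IsProIsomorphic X' Y := by
  obtain ⟨m, hm, hle, a, ha⟩ := h
  refine ⟨m, hm, hle, Functor.whiskerLeft (Monotone.functor hm).op e.inv ≫ a, fun n => ?_⟩
  obtain ⟨m', hnm', b₀, hb1, hb2⟩ := ha n
  let b : Y.obj (op m') ⟶ X.obj (op (m n)) := b₀
  let a' : ∀ k, X.obj (op (m k)) ⟶ Y.obj (op k) := fun k => a.app (op k)
  have hb1' : a' m' ≫ b = X.map (homOfLE (hm hnm')).op := hb1
  have hb2' : b ≫ a' n = Y.map (homOfLE hnm').op := hb2
  refine ⟨m', hnm', b ≫ e.hom.app (op (m n)), ?_, ?_⟩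
  · change (e.inv.app (op (m m')) ≫ a' m') ≫ b ≫ e.hom.app (op (m n)) =
      X'.map (homOfLE (hm hnm')).op
    rw [Category.assoc, ← Category.assoc (a' m'), hb1', e.hom.naturality,
      ← Category.assoc, ← NatTrans.comp_app, e.inv_hom_id, NatTrans.id_app, Category.id_comp]
  · change (b ≫ e.hom.app (op (m n))) ≫ e.inv.app (op (m n)) ≫ a' n = Y.map (homOfLE hnm').op
    rw [Category.assoc, ← Category.assoc (e.hom.app _), ← NatTrans.comp_app, e.hom_inv_id,
      NatTrans.id_app, Category.id_comp]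
    exact hb2'

end ProIso

section FormalSys

variable {A : Type u} [CommRing A] {X : Scheme.{u}} [X.Over (Spec (CommRingCat.of A))] {I : Ideal A}

theorem IsFormalSys.of_iso {F F' : ℕᵒᵖ ⥤ X.Modules} (hF : IsFormalSys I F) (e : F ≅ F') :
    IsFormalSys I F' := by
  have hk : ∀ n, Formal.KilledBy (I ^ (n + 1)) (F'.obj (op n)) := by
    intro n a ha
    have h1 : Formal.smulMod A (F'.obj (op n)) a =
        e.inv.app (op n) ≫ Formal.smulMod A (F.obj (op n)) a ≫ e.hom.app (op n) := by
      rw [Groth.Agent.S9530.smulMod_comp, ← Category.assoc, ← NatTrans.comp_app, e.inv_hom_id,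
        NatTrans.id_app, Category.id_comp]
    rw [h1, hF.1 n a ha, zero_comp, comp_zero]
  refine ⟨hk, fun n => ?_⟩
  have h' : Formal.smulFamily (I ^ (n + 1)) (F'.obj (op (n + 1))) ≫
      F'.map (homOfLE (Nat.le_succ n)).op = 0 := by
    refine (Groth.Agent.S9530.smulFamily_comp_eq_zero_iff _).2 (fun a ha => ?_)
    rw [Groth.Agent.S9530.smulMod_comp, hk n a ha, comp_zero]
  refine ⟨h', ?_⟩
  obtain ⟨h, hi⟩ := hF.2 n
  obtain ⟨hepi, hfac⟩ := (isIso_cokernel_desc_iff _ _ h).1 hi
  rw [isIso_cokernel_desc_iff]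
  have hnat : F'.map (homOfLE (Nat.le_succ n)).op =
      e.inv.app (op (n + 1)) ≫ F.map (homOfLE (Nat.le_succ n)).op ≫ e.hom.app (op n) := by
    rw [e.hom.naturality, ← Category.assoc, ← NatTrans.comp_app, e.inv_hom_id, NatTrans.id_app,
      Category.id_comp]
  refine ⟨?_, fun {T} φ hφ => ?_⟩
  · rw [hnat]
    haveI := hepi
    infer_instance
  · have h1 : Formal.smulFamily (I ^ (n + 1)) (F.obj (op (n + 1))) ≫ (e.hom.app (op (n + 1)) ≫ φ) = 0 := by
      refine (Groth.Agent.S9530.smulFamily_comp_eq_zero_iff _).2 (fun a ha => ?_)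
      rw [← Category.assoc, Groth.Agent.S9530.smulMod_comp, Category.assoc,
        (Groth.Agent.S9530.smulFamily_comp_eq_zero_iff φ).1 hφ a ha, comp_zero]
    obtain ⟨ψ, hψ⟩ := hfac _ h1
    refine ⟨e.inv.app (op n) ≫ ψ, ?_⟩
    rw [hnat, Category.assoc, Category.assoc, ← Category.assoc (e.hom.app (op n)),
      ← NatTrans.comp_app, e.hom_inv_id, NatTrans.id_app, Category.id_comp, hψ, ← Category.assoc,
      ← NatTrans.comp_app, e.inv_hom_id, NatTrans.id_app, Category.id_comp]

end FormalSys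

section Spec

variable (A : Type u) [CommRing A] (I : Ideal A)

/-- `Spec A` over itself through the identity (the instance used by `Algz.Extends`, `Algz.CanonicallyExtends`). -/
noncomputable local instance specOverSelf :
    (Spec (CommRingCat.of A)).Over (Spec (CommRingCat.of A)) := ⟨𝟙 _⟩

variable (U : (Spec (CommRingCat.of A)).Opens)

/-- restriction of formal systems from `Spec A` to the open `U`. -/
theorem isFormalSys_restrictSys {G' : ℕᵒᵖ ⥤ (Spec (CommRingCat.of A)).Modules} (hG' : IsFormalSys I G') :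
    IsFormalSys I (Algz.restrictSys U G') := by
  have hf : U.ι ≫ ((Spec (CommRingCat.of A)) ↘ (Spec (CommRingCat.of A))) = (U : Scheme.{u}) ↘ (Spec (CommRingCat.of A)) := Category.comp_id _
  -- first for the pullback functor
  have h1 : IsFormalSys I (G' ⋙ Scheme.Modules.pullback U.ι) := by
    refine ⟨fun n => Groth.Agent.Lib.Helper20.FormalPull.killedBy_pullback U.ι hf _ _ (hG'.1 n),
      fun n => ?_⟩
    obtain ⟨h, hi⟩ := hG'.2 n
    exact Groth.Agent.Lib.Helper20.FormalPull.isIso_cokernelDesc_pullback U.ι hf _ _ h hi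
  -- transfer along `restrictFunctor ≅ pullback`
  let ρ : Scheme.Modules.restrictFunctor U.ι ≅ Scheme.Modules.pullback U.ι :=
    (Scheme.Modules.restrictAdjunction U.ι).leftAdjointUniq
      (Scheme.Modules.pullbackPushforwardAdjunction U.ι)
  exact IsFormalSys.of_iso h1 (Functor.isoWhiskerLeft G' ρ.symm)

variable [QuasiCompact U.ι]

/-- `(H⁰(U, G_n)~)|_U ≅ G_n`, naturally. -/
theorem nonempty_sectSys_restrict_iso (G : ℕᵒᵖ ⥤ (U : Scheme.{u}).Modules)
    (hq : ∀ n, (G.obj n).IsQuasicoherent) :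
    Nonempty (Algz.restrictSys U (Algz.sectSys A U G) ≅ G) := by
  -- the counit of the tilde adjunction is an isomorphism on the pushforwards
  have h1 : ∀ n, IsIso ((tilde.adjunction (R := CommRingCat.of A)).counit.app
      ((Scheme.Modules.pushforward U.ι).obj (G.obj n))) := by
    intro n
    haveI := hq n
    have hqp : ((Scheme.Modules.pushforward U.ι).obj (G.obj n)).IsQuasicoherent :=
      Groth.Agent.Lib.Helper23.QCohLocal.isQuasicoherent_pushforward U.ι (G.obj n)
    exact @Groth.Agent.Lib.Helper23.QCohLocal.isIso_fromTildeΓ (CommRingCat.of A)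
      ((Scheme.Modules.pushforward U.ι).obj (G.obj n)) hqp
  let α : (G ⋙ Scheme.Modules.pushforward U.ι) ⋙
      (moduleSpecΓFunctor (R := CommRingCat.of A) ⋙ tilde.functor (CommRingCat.of A)) ⟶
      (G ⋙ Scheme.Modules.pushforward U.ι) ⋙ 𝟭 _ :=
    Functor.whiskerLeft (G ⋙ Scheme.Modules.pushforward U.ι)
      (tilde.adjunction (R := CommRingCat.of A)).counit
  haveI : ∀ n, IsIso (α.app n) := fun n => h1 n
  haveI := NatIso.isIso_of_isIso_app α
  let e0 : Algz.sectSys A U G ≅ (G ⋙ Scheme.Modules.pushforward U.ι) ⋙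
      (moduleSpecΓFunctor (R := CommRingCat.of A) ⋙ tilde.functor (CommRingCat.of A)) := Iso.refl _
  let e1 : Algz.sectSys A U G ≅ G ⋙ Scheme.Modules.pushforward U.ι :=
    e0 ≪≫ asIso α ≪≫ Functor.rightUnitor _
  haveI : IsIso (Scheme.Modules.restrictAdjunction U.ι).counit := inferInstance
  let e2 : (G ⋙ Scheme.Modules.pushforward U.ι) ⋙ Scheme.Modules.restrictFunctor U.ι ≅ G :=
    Functor.associator _ _ _ ≪≫
      Functor.isoWhiskerLeft G (asIso (Scheme.Modules.restrictAdjunction U.ι).counit) ≪≫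
      Functor.rightUnitor _
  exact ⟨Functor.isoWhiskerRight e1 (Scheme.Modules.restrictFunctor U.ι) ≪≫ e2⟩

theorem extends_of_canonicallyExtends (G : ℕᵒᵖ ⥤ (U : Scheme.{u}).Modules)
    (hG : Formal.IsCohFormal I G) (h : Algz.CanonicallyExtends A I U G) :
    Algz.Extends I U G := by
  obtain ⟨G', hG', hpro⟩ := h
  refine ⟨G', hG', ?_⟩
  have h1 : Algz.IsProIsomorphic (Algz.restrictSys U (Algz.sectSys A U G)) (Algz.restrictSys U G') :=
    isProIsomorphic_comp _ hpro
  obtain ⟨e⟩ := nonempty_sectSys_restrict_iso A U G (fun n => (hG.1 n.unop).1)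
  have h2 : Algz.IsProIsomorphic G (Algz.restrictSys U G') := isProIsomorphic_of_iso_left e h1
  obtain ⟨i⟩ := nonempty_iso_of_isProIsomorphic (isFormalSys_of_isCohFormal hG)
    (isFormalSys_restrictSys A I U (isFormalSys_of_isCohFormal hG')) h2
  exact ⟨i.symm⟩

end Spec

end Groth.Agent.R2.H17.AlgzExt
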