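import Groth.Agent.R2.H17MLMod
import Groth.Agent.R2.H17AlgzExt
import Groth.Agent.S9530

/-!
# `M~|_U ⟶ F_n` is an epimorphism for Mittag-Leffler systems of sections (helper17)

Namespace `Groth.Agent.R2.H17.AlgzEpi`.
-/

set_option autoImplicit false
set_option linter.unusedSectionVars false
set_option linter.style.haveILetI false

universe u

open CategoryTheory CategoryTheory.Limits Opposite AlgebraicGeometry

namespace Groth.Agent.R2.H17.AlgzEpi

open Groth.Agent.R2.H17.MLMod Groth.Agent.R2.H17.AlgzExt Groth.Agent.R2.H17.ProIsoLim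

section Mod

variable {A : Type u} [CommRing A]

/-- a functor preserving epimorphisms sends maps with the same range to maps that are epi simultaneously. -/
theorem epi_map_of_range_eq {D : Type*} [Category D] (Φ : ModuleCat.{u} A ⥤ D) [Φ.PreservesEpimorphisms]
    {M M' N : ModuleCat.{u} A} (f : M ⟶ N) (g : M' ⟶ N)
    (h : LinearMap.range f.hom = LinearMap.range g.hom) (hg : Epi (Φ.map g)) : Epi (Φ.map f) := by
  let R : ModuleCat.{u} A := ModuleCat.of A ↥(LinearMap.range g.hom)
  let ι : R ⟶ N := ModuleCat.ofHom (LinearMap.range g.hom).subtype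
  let e' : M' ⟶ R := ModuleCat.ofHom g.hom.rangeRestrict
  let e : M ⟶ R := ModuleCat.ofHom (f.hom.codRestrict (LinearMap.range g.hom) (fun x => h ▸ ⟨x, rfl⟩))
  have he : e ≫ ι = f := by ext x; rfl
  have he' : e' ≫ ι = g := by ext x; rfl
  haveI : Epi e := by
    rw [ModuleCat.epi_iff_surjective]
    rintro ⟨y, hy⟩
    have hy' : y ∈ LinearMap.range f.hom := h ▸ hy
    obtain ⟨x, rfl⟩ := hy'
    exact ⟨x, rfl⟩
  haveI : Epi (Φ.map ι) := by
    rw [← he', Φ.map_comp] at hg
    exact epi_of_epi (Φ.map e') (Φ.map ι)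
  rw [← he, Φ.map_comp]
  exact epi_comp _ _

end Mod

section affine

variable (A : Type u) [CommRing A] (I : Ideal A)

/-- `Spec A` over itself through the identity. -/
noncomputable local instance specOverSelf :
    (Spec (CommRingCat.of A)).Over (Spec (CommRingCat.of A)) := ⟨𝟙 _⟩

variable (U : (Spec (CommRingCat.of A)).Opens) [QuasiCompact U.ι]
  (G : ℕᵒᵖ ⥤ (U : Scheme.{u}).Modules)

/-- the functor `M ↦ M~|_U`. -/
noncomputable abbrev Φ : ModuleCat.{u} A ⥤ (U : Scheme.{u}).Modules :=
  tilde.functor (CommRingCat.of A) ⋙ Scheme.Modules.restrictFunctor U.ι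

instance : (Φ A U).PreservesEpimorphisms :=
  Functor.preservesEpimorphisms_of_adjunction
    ((tilde.adjunction (R := CommRingCat.of A)).comp (Scheme.Modules.restrictAdjunction U.ι))

/-- `(H⁰(U, G_d)~)|_U ⟶ (H⁰(U, G_n)~)|_U` is an epimorphism for a coherent formal module. -/
theorem epi_Φ_map_trm (hG : Formal.IsCohFormal I G) {n d : ℕ} (h : n ≤ d) :
    Epi ((Φ A U).map (trm (Algz.sectMod A U G) h)) := by
  obtain ⟨e⟩ := nonempty_sectSys_restrict_iso A U G (fun n => (hG.1 n.unop).1)
  have hnat := e.hom.naturality (homOfLE h).op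
  have e1 : (Φ A U).map (trm (Algz.sectMod A U G) h) =
      e.hom.app (op d) ≫ G.map (homOfLE h).op ≫ e.inv.app (op n) := by
    rw [← Category.assoc, ← hnat, Category.assoc, ← NatTrans.comp_app, e.hom_inv_id, NatTrans.id_app,
      Category.comp_id]
    rfl
  rw [e1]
  haveI := Groth.Agent.S9530.epi_le hG n d h
  haveI hi1 : IsIso (e.inv.app (op n)) := (e.symm.app (op n)).isIso_hom
  haveI hi2 : IsIso (e.hom.app (op d)) := (e.app (op d)).isIso_hom
  haveI h2 : Epi (G.map (homOfLE h).op ≫ e.inv.app (op n)) := epi_comp _ _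
  haveI h3 : Epi (e.hom.app (op d)) := IsIso.epi_of_iso _
  exact @epi_comp _ _ _ _ _ _ h3 _ h2

theorem epi_fromLimitSections (hG : Formal.IsCohFormal I G)
    (ha : ARSys.IsML (Algz.sectMod A U G)) (n : ℕ) :
    Epi (((Scheme.Modules.restrictAdjunction U.ι).homEquiv _ (G.obj (op n))).symm
      (((tilde.adjunction (R := CommRingCat.of A)).homEquiv (limit (Algz.sectMod A U G))
        ((Scheme.Modules.pushforward U.ι).obj (G.obj (op n)))).symm
          (limit.π (Algz.sectMod A U G) (op n)))) := by
  obtain ⟨d, hd, hst⟩ := exists_range_limit_π_eq (Algz.sectMod A U G) ha n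
  have h1 : Epi ((Φ A U).map (limit.π (Algz.sectMod A U G) (op n))) :=
    epi_map_of_range_eq (Φ A U) _ _ (hst d le_rfl) (epi_Φ_map_trm A I U G hG (hd.trans le_rfl))
  let π' : limit (Algz.sectMod A U G) ⟶ (moduleSpecΓFunctor (R := CommRingCat.of A)).obj
      ((Scheme.Modules.pushforward U.ι).obj (G.obj (op n))) := limit.π (Algz.sectMod A U G) (op n)
  have h1' : Epi ((Scheme.Modules.restrictFunctor U.ι).map ((tilde.functor (CommRingCat.of A)).map π')) := h1
  change Epi (((Scheme.Modules.restrictAdjunction U.ι).homEquiv _ (G.obj (op n))).symm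
      (((tilde.adjunction (R := CommRingCat.of A)).homEquiv (limit (Algz.sectMod A U G))
        ((Scheme.Modules.pushforward U.ι).obj (G.obj (op n)))).symm π'))
  rw [Adjunction.homEquiv_counit, Adjunction.homEquiv_counit, Functor.map_comp, Category.assoc]
  haveI hq : ((Scheme.Modules.pushforward U.ι).obj (G.obj (op n))).IsQuasicoherent := by
    haveI : (G.obj (op n)).IsQuasicoherent := (hG.1 n).1
    exact Groth.Agent.Lib.Helper23.QCohLocal.isQuasicoherent_pushforward U.ι (G.obj (op n))
  haveI hc1 : IsIso ((tilde.adjunction (R := CommRingCat.of A)).counit.app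
      ((Scheme.Modules.pushforward U.ι).obj (G.obj (op n)))) :=
    @Groth.Agent.Lib.Helper23.QCohLocal.isIso_fromTildeΓ (CommRingCat.of A)
      ((Scheme.Modules.pushforward U.ι).obj (G.obj (op n))) hq
  haveI : IsIso (Scheme.Modules.restrictAdjunction U.ι).counit := inferInstance
  haveI := h1'
  haveI h3 : Epi ((Scheme.Modules.restrictFunctor U.ι).map
      ((tilde.adjunction (R := CommRingCat.of A)).counit.app
        ((Scheme.Modules.pushforward U.ι).obj (G.obj (op n)))) ≫
      (Scheme.Modules.restrictAdjunction U.ι).counit.app (G.obj (op n))) := epi_comp _ _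
  exact epi_comp _ _

end affine

end Groth.Agent.R2.H17.AlgzEpi
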