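import Groth.Agent.R2.H17MLProIso
import Groth.Agent.R2.H17AdicLimTop

/-!
# Canonical extension: the limit topology on `lim H⁰(U, F_n)` is the `I`-adic one (helper17)

Namespace `Groth.Agent.R2.H17.AlgzLimTop`.
-/

set_option autoImplicit false
set_option linter.unusedSectionVars false

universe u

open CategoryTheory CategoryTheory.Limits Opposite AlgebraicGeometry

namespace Groth.Agent.R2.H17.AlgzLimTop

open Groth.Agent.R2.H17.MLProIso Groth.Agent.R2.H17.AdicLimTop

variable (A : Type u) [CommRing A] (I : Ideal A)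

/-- `Spec A` over itself through the identity. -/
noncomputable local instance specOverSelf :
    (Spec (CommRingCat.of A)).Over (Spec (CommRingCat.of A)) := ⟨𝟙 _⟩

variable (U : (Spec (CommRingCat.of A)).Opens) (G : ℕᵒᵖ ⥤ (U : Scheme.{u}).Modules)

theorem ker_limit_sectMod_le_pow (hI : I.FG) (h : Algz.CanonicallyExtends A I U G) (k : ℕ) :
    ∃ n : ℕ, LinearMap.ker (limit.π (Algz.sectMod A U G) (op n)).hom ≤
      I ^ k • (⊤ : Submodule A ↑(limit (Algz.sectMod A U G))) := by
  obtain ⟨G', hG', hpro⟩ := isProIsomorphic_sectMod A I U G h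
  exact exists_ker_π_le_of_isProIsomorphic I (G' ⋙ moduleSpecΓFunctor (R := CommRingCat.of A))
    (fun n => (Γ_map_succ I hG' n).1) (fun n => (Γ_map_succ I hG' n).2) _ hpro hI k

end Groth.Agent.R2.H17.AlgzLimTop
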