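import Groth.Agent.R2.H17CanonExt
import Groth.Agent.S9498

/-!
# `(M/I^(n+1)M)~|_U` is coherent and `((M/I^(n+1)M)~|_U) → (F_n)` is injective on compatible families (helper17)

Namespace `Groth.Agent.R2.H17.AlgzMono`.
-/

set_option autoImplicit false
set_option linter.unusedSectionVars false
set_option linter.style.haveILetI false

universe u

open CategoryTheory CategoryTheory.Limits Opposite AlgebraicGeometry

namespace Groth.Agent.R2.H17.AlgzMono

open Groth.Agent.R2.H17.ProIsoLim Groth.Agent.R2.H17.AdicLimTop Groth.Agent.R2.H17.MLMod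
  Groth.Agent.R2.H17.CanonExt Groth.Agent.R2.H17.AffExist

section Mod

variable {A : Type u} [CommRing A]

/-- factor a map killing `ker ℓ` through the image of `ℓ`. -/
theorem exists_factor_through_range {P Q S : ModuleCat.{u} A} (ℓ : P ⟶ S) (t : P ⟶ Q)
    (h : LinearMap.ker ℓ.hom ≤ LinearMap.ker t.hom) :
    ∃ (R : ModuleCat.{u} A) (ℓ' : P ⟶ R) (ι : R ⟶ S) (σ : R ⟶ Q),
      ℓ' ≫ ι = ℓ ∧ Function.Injective ι.hom ∧ ℓ' ≫ σ = t := by
  let R : ModuleCat.{u} A := ModuleCat.of A ↥(LinearMap.range ℓ.hom)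
  let ℓ' : P ⟶ R := ModuleCat.ofHom ℓ.hom.rangeRestrict
  let ι : R ⟶ S := ModuleCat.ofHom (LinearMap.range ℓ.hom).subtype
  have hι : ℓ' ≫ ι = ℓ := by ext y; rfl
  have hs' : Function.Surjective ℓ'.hom := LinearMap.surjective_rangeRestrict _
  have hker : LinearMap.ker ℓ'.hom ≤ LinearMap.ker t.hom := by
    intro y hy
    apply h
    rw [LinearMap.mem_ker] at hy ⊢
    exact congrArg Subtype.val hy
  obtain ⟨σ, hσ⟩ := exists_factor_of_ker_le ℓ' hs' t hker
  exact ⟨R, ℓ', ι, σ, hι, Subtype.val_injective, hσ⟩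

theorem mono_tilde_map {P Q : ModuleCat.{u} A} (f : P ⟶ Q) (hf : Function.Injective f.hom) :
    Mono ((tilde.functor (CommRingCat.of A)).map f) := by
  haveI : Mono f := (ModuleCat.mono_iff_injective f).2 hf
  exact Groth.Agent.S9498.tilde_map_mono (R := CommRingCat.of A) f

end Mod

section Sch

variable {X : Scheme.{u}}

lemma app_injective_of_isIso {M N : X.Modules} (c : M ⟶ N) [IsIso c] (W : X.Opens) :
    Function.Injective (Scheme.Modules.Hom.app c W) := by
  have e : ∀ y, Scheme.Modules.Hom.app (inv c) W (Scheme.Modules.Hom.app c W y) = y := fun y => by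
    have := congrArg (fun f => Scheme.Modules.Hom.app f W y) (IsIso.hom_inv_id c)
    exact this
  intro a b h
  have h2 := congrArg (Scheme.Modules.Hom.app (inv c) W) h
  rw [e, e] at h2
  exact h2

end Sch

section affine

variable (A : Type u) [CommRing A] (I : Ideal A)

/-- `Spec A` over itself through the identity. -/
noncomputable local instance specOverSelf :
    (Spec (CommRingCat.of A)).Over (Spec (CommRingCat.of A)) := ⟨𝟙 _⟩

variable (X : ℕᵒᵖ ⥤ ModuleCat.{u} A)

/-- the transition map `M / I^(k+1) M → M / I^(n+1) M` for `n ≤ k`. -/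
def τ (M : Type u) [AddCommGroup M] [Module A M] {n k : ℕ} (h : n ≤ k) :
    Formal2.quotPow A I M k →ₗ[A] Formal2.quotPow A I M n :=
  Submodule.mapQ _ _ LinearMap.id (by
    rw [Submodule.comap_id]
    exact Submodule.smul_mono_left (Ideal.pow_le_pow_right (Nat.succ_le_succ h)))

lemma τ_mk (M : Type u) [AddCommGroup M] [Module A M] {n k : ℕ} (h : n ≤ k) (μ : M) :
    τ A I M h (Submodule.Quotient.mk μ) = Submodule.Quotient.mk μ := rfl

lemma τ_refl (M : Type u) [AddCommGroup M] [Module A M] (n : ℕ) : τ A I M (le_refl n) = LinearMap.id := by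
  apply LinearMap.ext
  intro y
  obtain ⟨μ, rfl⟩ := Submodule.Quotient.mk_surjective _ y
  exact τ_mk A I M _ μ

lemma τ_succ (M : Type u) [AddCommGroup M] [Module A M] {n k : ℕ} (h : n ≤ k) :
    τ A I M (h.trans (Nat.le_succ k)) = τ A I M h ∘ₗ Formal2.quotPowTrans A I M k := by
  apply LinearMap.ext
  intro y
  obtain ⟨μ, rfl⟩ := Submodule.Quotient.mk_surjective _ y
  rw [LinearMap.comp_apply, τ_mk, quotPowTrans_mk, τ_mk]

lemma tmodMap_comp {P Q R : Type u} [AddCommGroup P] [Module A P] [AddCommGroup Q] [Module A Q]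
    [AddCommGroup R] [Module A R] (φ : P →ₗ[A] Q) (ψ : Q →ₗ[A] R) :
    Formal2.tmodMap A (ψ ∘ₗ φ) = Formal2.tmodMap A φ ≫ Formal2.tmodMap A ψ :=
  (tilde.functor (CommRingCat.of A)).map_comp (ModuleCat.ofHom φ) (ModuleCat.ofHom ψ)

lemma tmodMap_id {P : Type u} [AddCommGroup P] [Module A P] :
    Formal2.tmodMap A (LinearMap.id : P →ₗ[A] P) = 𝟙 _ :=
  (tilde.functor (CommRingCat.of A)).map_id (ModuleCat.of A P)

/-- compatible families of sections of `(M / I^(n+1) M)~` are determined by their high components. -/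
theorem compat_le (M : Type u) [AddCommGroup M] [Module A M] (W : (Spec (CommRingCat.of A)).Opens)
    (x : ∀ n : ℕ, (Scheme.Modules.presheaf (Formal2.tmod A (Formal2.quotPow A I M n))).obj (op W))
    (hx : ∀ n : ℕ, Scheme.Modules.Hom.app (Formal2.tmodMap A (Formal2.quotPowTrans A I M n)) W (x (n + 1)) = x n)
    {n k : ℕ} (h : n ≤ k) :
    Scheme.Modules.Hom.app (Formal2.tmodMap A (τ A I M h)) W (x k) = x n := by
  induction k, h using Nat.le_induction with
  | base =>
    rw [τ_refl, tmodMap_id]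
    rfl
  | succ k hk ih =>
    rw [τ_succ, tmodMap_comp, Scheme.Modules.Hom.comp_app]
    change Scheme.Modules.Hom.app (Formal2.tmodMap A (τ A I M hk)) W
      (Scheme.Modules.Hom.app (Formal2.tmodMap A (Formal2.quotPowTrans A I M k)) W (x (k + 1))) = x n
    rw [hx k]
    exact ih

variable (U : (Spec (CommRingCat.of A)).Opens) (G : ℕᵒᵖ ⥤ (U : Scheme.{u}).Modules)

/-- injectivity of `((M / I^(n+1) M)~) → (j_* F_n)` on compatible families of sections over any open `W`. -/
theorem eq_zero_of_compat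
    (hq : ∀ n : ℕ, ((Scheme.Modules.pushforward U.ι).obj (G.obj (op n))).IsQuasicoherent)
    (hb : ∀ k : ℕ, ∃ n : ℕ, LinearMap.ker (limit.π (Algz.sectMod A U G) (op n)).hom ≤
      I ^ k • (⊤ : Submodule A ↑(limit (Algz.sectMod A U G))))
    (ℓ : ∀ n : ℕ, ModuleCat.of A (Formal2.quotPow A I ↑(limit (Algz.sectMod A U G)) n) ⟶
      (moduleSpecΓFunctor (R := CommRingCat.of A)).obj ((Scheme.Modules.pushforward U.ι).obj (G.obj (op n))))
    (hℓ : ∀ (n : ℕ) (μ : ↑(limit (Algz.sectMod A U G))),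
      (ℓ n).hom (Submodule.Quotient.mk μ) = (limit.π (Algz.sectMod A U G) (op n)).hom μ)
    (W : (Spec (CommRingCat.of A)).Opens)
    (x : ∀ n : ℕ, (Scheme.Modules.presheaf
      (Formal2.tmod A (Formal2.quotPow A I ↑(limit (Algz.sectMod A U G)) n))).obj (op W))
    (hx : ∀ n : ℕ, Scheme.Modules.Hom.app
      (Formal2.tmodMap A (Formal2.quotPowTrans A I ↑(limit (Algz.sectMod A U G)) n)) W (x (n + 1)) = x n)
    (h0 : ∀ n : ℕ, Scheme.Modules.Hom.app
        (((tilde.adjunction (R := CommRingCat.of A)).homEquiv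
          (ModuleCat.of A (Formal2.quotPow A I ↑(limit (Algz.sectMod A U G)) n))
          ((Scheme.Modules.pushforward U.ι).obj (G.obj (op n)))).symm (ℓ n)) W (x n) = 0)
    (n : ℕ) : x n = 0 := by
  obtain ⟨N0, hN0⟩ := hb (n + 1)
  have hnN : n ≤ max N0 n := le_max_right _ _
  have hN : LinearMap.ker (limit.π (Algz.sectMod A U G) (op (max N0 n))).hom ≤
      I ^ (n + 1) • (⊤ : Submodule A ↑(limit (Algz.sectMod A U G))) :=
    (ker_π_mono (Algz.sectMod A U G) (le_max_left N0 n)).trans hN0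
  rw [← compat_le A I _ W x hx hnN]
  -- factor `τ` through the image of `ℓ_N`
  have hker : LinearMap.ker (ℓ (max N0 n)).hom ≤
      LinearMap.ker (ModuleCat.ofHom (τ A I ↑(limit (Algz.sectMod A U G)) hnN)).hom := by
    intro y hy
    obtain ⟨μ, rfl⟩ := Submodule.Quotient.mk_surjective _ y
    rw [LinearMap.mem_ker] at hy ⊢
    rw [hℓ] at hy
    have h2 : μ ∈ I ^ (n + 1) • (⊤ : Submodule A ↑(limit (Algz.sectMod A U G))) := hN hy
    change τ A I ↑(limit (Algz.sectMod A U G)) hnN (Submodule.Quotient.mk μ) = 0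
    rw [τ_mk]
    exact (Submodule.Quotient.mk_eq_zero _).2 h2
  obtain ⟨R, ℓ', ι, σ, hι, hιinj, hσ⟩ := exists_factor_through_range (ℓ (max N0 n)) _ hker
  -- sections
  let T := tilde.functor (CommRingCat.of A)
  let adj := tilde.adjunction (R := CommRingCat.of A)
  have e1 : Formal2.tmodMap A (τ A I ↑(limit (Algz.sectMod A U G)) hnN) = T.map ℓ' ≫ T.map σ := by
    rw [← T.map_comp, hσ]
    rfl
  have h0N := h0 (max N0 n)
  rw [Adjunction.homEquiv_counit, Scheme.Modules.Hom.comp_app] at h0N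
  haveI hc : IsIso (adj.counit.app ((Scheme.Modules.pushforward U.ι).obj (G.obj (op (max N0 n))))) :=
    @Groth.Agent.Lib.Helper23.QCohLocal.isIso_fromTildeΓ (CommRingCat.of A) _ (hq (max N0 n))
  have h1 : Scheme.Modules.Hom.app (T.map (ℓ (max N0 n))) W (x (max N0 n)) = 0 := by
    apply app_injective_of_isIso
      (adj.counit.app ((Scheme.Modules.pushforward U.ι).obj (G.obj (op (max N0 n))))) W
    rw [map_zero]
    exact h0N
  rw [← hι, T.map_comp, Scheme.Modules.Hom.comp_app] at h1
  have h3 : Scheme.Modules.Hom.app (T.map ℓ') W (x (max N0 n)) = 0 := by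
    apply Groth.Agent.S9498.tilde_map_app_injective ι hιinj W
    exact h1.trans (map_zero _).symm
  rw [e1]
  change Scheme.Modules.Hom.app (T.map σ) W (Scheme.Modules.Hom.app (T.map ℓ') W (x (max N0 n))) = 0
  rw [h3]
  exact map_zero _

attribute [local instance] Groth.Agent.Lib.Helper23.QCohLocal.restrictFunctor_isRightAdjoint in
/-- `(M / I^(n+1) M)~|_U` is coherent when the limit topology on `M = lim H⁰(U, F_n)` is finer than the adic one. -/
theorem isCoh_restrict_tmod_quotPow [IsLocallyNoetherian (U : Scheme.{u})] [QuasiCompact U.ι]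
    (hcoh : ∀ n : ℕ, Coh.IsCoh (G.obj (op n)))
    (hb : ∀ k : ℕ, ∃ n : ℕ, LinearMap.ker (limit.π (Algz.sectMod A U G) (op n)).hom ≤
      I ^ k • (⊤ : Submodule A ↑(limit (Algz.sectMod A U G)))) (n : ℕ) :
    Coh.IsCoh ((Scheme.Modules.restrictFunctor U.ι).obj
      (Formal2.tmod A (Formal2.quotPow A I ↑(limit (Algz.sectMod A U G)) n))) := by
  obtain ⟨N, hN⟩ := hb (n + 1)
  let T := tilde.functor (CommRingCat.of A)
  let adj := tilde.adjunction (R := CommRingCat.of A)
  let πN : limit (Algz.sectMod A U G) ⟶ (moduleSpecΓFunctor (R := CommRingCat.of A)).obj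
      ((Scheme.Modules.pushforward U.ι).obj (G.obj (op N))) := limit.π (Algz.sectMod A U G) (op N)
  have hker : LinearMap.ker πN.hom ≤ LinearMap.ker (ModuleCat.ofHom
      (Formal2.quotPowπ A I ↑(limit (Algz.sectMod A U G)) n)).hom := by
    intro y hy
    rw [LinearMap.mem_ker]
    exact (Submodule.Quotient.mk_eq_zero _).2 (hN hy)
  obtain ⟨R, π', ι, σ, hι, hιinj, hσ⟩ := exists_factor_through_range πN _ hker
  -- `σ` is surjective
  haveI hσepi : Epi σ := by
    rw [ModuleCat.epi_iff_surjective]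
    intro y
    obtain ⟨μ, rfl⟩ := Submodule.Quotient.mk_surjective _ y
    refine ⟨π'.hom μ, ?_⟩
    have := congrArg (fun f => f.hom μ) hσ
    exact this
  haveI hιmono : Mono ι := (ModuleCat.mono_iff_injective ι).2 hιinj
  -- quasi-coherence
  have hqT : ∀ P : ModuleCat.{u} A, (T.obj P).IsQuasicoherent := fun P =>
    AlgebraicGeometry.instIsQuasicoherentOpensCarrierCarrierCommRingCatSpecOfCarrierObjModuleCatModulesFunctor
      (R := CommRingCat.of A) P
  have hqR : ((Scheme.Modules.restrictFunctor U.ι).obj (T.obj R)).IsQuasicoherent := by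
    haveI := hqT R
    exact Scheme.Modules.isQuasicoherent_restrictFunctor U.ι (T.obj R)
  have hqP : ((Scheme.Modules.restrictFunctor U.ι).obj
      (Formal2.tmod A (Formal2.quotPow A I ↑(limit (Algz.sectMod A U G)) n))).IsQuasicoherent := by
    haveI := hqT (ModuleCat.of A (Formal2.quotPow A I ↑(limit (Algz.sectMod A U G)) n))
    exact Scheme.Modules.isQuasicoherent_restrictFunctor U.ι _
  -- the monomorphism `R~|_U ⟶ G_N`
  haveI hqG : (G.obj (op N)).IsQuasicoherent := (hcoh N).1
  haveI hfG : SheafOfModules.IsFiniteType (R := (U : Scheme.{u}).ringCatSheaf) (G.obj (op N)) := (hcoh N).2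
  have hqp : ((Scheme.Modules.pushforward U.ι).obj (G.obj (op N))).IsQuasicoherent :=
    Groth.Agent.Lib.Helper23.QCohLocal.isQuasicoherent_pushforward U.ι (G.obj (op N))
  haveI hc1 : IsIso (adj.counit.app ((Scheme.Modules.pushforward U.ι).obj (G.obj (op N)))) :=
    @Groth.Agent.Lib.Helper23.QCohLocal.isIso_fromTildeΓ (CommRingCat.of A) _ hqp
  haveI : IsIso (Scheme.Modules.restrictAdjunction U.ι).counit := inferInstance
  haveI hm1 : Mono (T.map ι) := mono_tilde_map ι hιinj
  let j : (Scheme.Modules.restrictFunctor U.ι).obj (T.obj R) ⟶ G.obj (op N) :=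
    (Scheme.Modules.restrictFunctor U.ι).map (T.map ι ≫
      adj.counit.app ((Scheme.Modules.pushforward U.ι).obj (G.obj (op N)))) ≫
      (Scheme.Modules.restrictAdjunction U.ι).counit.app (G.obj (op N))
  haveI hm2 : Mono (T.map ι ≫ adj.counit.app ((Scheme.Modules.pushforward U.ι).obj (G.obj (op N)))) :=
    mono_comp _ _
  haveI hm3 : Mono ((Scheme.Modules.restrictFunctor U.ι).map (T.map ι ≫
      adj.counit.app ((Scheme.Modules.pushforward U.ι).obj (G.obj (op N))))) := inferInstance
  haveI hj : Mono j := mono_comp _ _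
  haveI := hqR
  haveI hfR : SheafOfModules.IsFiniteType (R := (U : Scheme.{u}).ringCatSheaf)
      ((Scheme.Modules.restrictFunctor U.ι).obj (T.obj R)) :=
    Groth.Agent.Lib.Helper23.FinType.isFiniteType_of_mono j
  -- the epimorphism `R~|_U ⟶ (M/I^(n+1)M)~|_U`
  haveI : (T ⋙ Scheme.Modules.restrictFunctor U.ι).PreservesEpimorphisms :=
    Functor.preservesEpimorphisms_of_adjunction (adj.comp (Scheme.Modules.restrictAdjunction U.ι))
  haveI he : Epi ((Scheme.Modules.restrictFunctor U.ι).map (T.map σ)) :=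
    (inferInstance : Epi ((T ⋙ Scheme.Modules.restrictFunctor U.ι).map σ))
  haveI := hqP
  exact ⟨hqP, @Groth.Agent.Lib.Helper23.FinType.isFiniteType_of_epi _ _ _ hqR hqP
    ((Scheme.Modules.restrictFunctor U.ι).map (T.map σ)) he hfR⟩

end affine

end Groth.Agent.R2.H17.AlgzMono
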