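import Mathlib
import Groth.Prelude.Def_Formal2
import Groth.Agent.S9530

/-!
# Multiplication maps on `O_X`-modules and quotients `F/f^n F` (helper40)
-/

set_option autoImplicit false
set_option linter.unusedSectionVars false
set_option linter.style.haveILetI false
universe u

open CategoryTheory CategoryTheory.Limits AlgebraicGeometry Opposite

namespace Groth.Agent.R2.H40.FormalMod

variable {A : Type u} [CommRing A] {X : Scheme.{u}} [X.Over (Spec (CommRingCat.of A))]

theorem smulModΓ_mul (M : X.Modules) (r s : Coh.Γtop X) :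
    Formal.smulModΓ M (r * s) = Formal.smulModΓ M s ≫ Formal.smulModΓ M r := by
  apply Scheme.Modules.hom_ext
  intro U
  ext m
  change @HSMul.hSMul (X.ringCatSheaf.obj.obj (op U)) (M.val.obj (op U)) (M.val.obj (op U)) _
      (Coh.resTop X (op U) (r * s)) m =
    @HSMul.hSMul (X.ringCatSheaf.obj.obj (op U)) (M.val.obj (op U)) (M.val.obj (op U)) _
      (Coh.resTop X (op U) r)
      (@HSMul.hSMul (X.ringCatSheaf.obj.obj (op U)) (M.val.obj (op U)) (M.val.obj (op U)) _
        (Coh.resTop X (op U) s) m)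
  rw [map_mul]
  exact @mul_smul (X.ringCatSheaf.obj.obj (op U)) (M.val.obj (op U)) _ _ _ _ m

theorem smulMod_mul (M : X.Modules) (a b : A) :
    Formal.smulMod A M (a * b) = Formal.smulMod A M b ≫ Formal.smulMod A M a := by
  unfold Formal.smulMod
  rw [map_mul, smulModΓ_mul]

theorem smulMod_mul' (M : X.Modules) (a b : A) :
    Formal.smulMod A M (a * b) = Formal.smulMod A M a ≫ Formal.smulMod A M b := by
  rw [mul_comm, smulMod_mul]

theorem smulModΓ_one (M : X.Modules) : Formal.smulModΓ M (1 : Coh.Γtop X) = 𝟙 M := by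
  apply Scheme.Modules.hom_ext
  intro U
  ext m
  change @HSMul.hSMul (X.ringCatSheaf.obj.obj (op U)) (M.val.obj (op U)) (M.val.obj (op U)) _
      (Coh.resTop X (op U) 1) m = m
  rw [map_one]
  exact @one_smul (X.ringCatSheaf.obj.obj (op U)) (M.val.obj (op U)) _ _ m

theorem smulMod_one (M : X.Modules) : Formal.smulMod A M (1 : A) = 𝟙 M := by
  unfold Formal.smulMod
  rw [map_one, smulModΓ_one]

theorem smulMod_pow_succ (M : X.Modules) (a : A) (k : ℕ) :
    Formal.smulMod A M (a ^ (k + 1)) = Formal.smulMod A M (a ^ k) ≫ Formal.smulMod A M a := by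
  rw [pow_succ, smulMod_mul']

theorem mono_smulMod_pow (M : X.Modules) (a : A) (h : Mono (Formal.smulMod A M a)) (k : ℕ) :
    Mono (Formal.smulMod A M (a ^ k)) := by
  induction k with
  | zero =>
    rw [pow_zero, smulMod_one]
    infer_instance
  | succ k ih =>
    rw [smulMod_pow_succ]
    exact mono_comp _ _

/-- A map kills `(f)^k M` iff it kills `f^k M`. -/
theorem smulFamily_span_pow_comp_eq_zero_iff {M T : X.Modules} (f : A) (k : ℕ) (g : M ⟶ T) :
    Formal.smulFamily (Ideal.span ({f} : Set A) ^ k) M ≫ g = 0 ↔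
      Formal.smulMod A M (f ^ k) ≫ g = 0 := by
  rw [Groth.Agent.S9530.smulFamily_comp_eq_zero_iff, Ideal.span_singleton_pow]
  constructor
  · intro h
    exact h _ (Ideal.mem_span_singleton_self _)
  · intro h a ha
    obtain ⟨b, rfl⟩ := Ideal.mem_span_singleton'.mp ha
    rw [smulMod_mul, Category.assoc, Groth.Agent.S9530.smulMod_comp g b, ← Category.assoc, h,
      zero_comp]

theorem smulMod_pow_comp_modPowπ (M : X.Modules) (f : A) (k : ℕ) :
    Formal.smulMod A M (f ^ k) ≫ Formal.modPowπ (Ideal.span ({f} : Set A)) k M = 0 :=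
  (smulFamily_span_pow_comp_eq_zero_iff f k _).mp (cokernel.condition _)

instance epi_modPowπ (I : Ideal A) (k : ℕ) (M : X.Modules) : Epi (Formal.modPowπ I k M) :=
  @coequalizer.π_epi _ _ _ _ _ _ _

/-- `M → M/(f)^k M` is a cokernel of multiplication by `f^k`. -/
noncomputable def isColimitModPowπ (M : X.Modules) (f : A) (k : ℕ) :
    IsColimit (CokernelCofork.ofπ (Formal.modPowπ (Ideal.span ({f} : Set A)) k M)
      (smulMod_pow_comp_modPowπ M f k)) :=
  CokernelCofork.IsColimit.ofπ _ _
    (fun g hg => cokernel.desc _ g ((smulFamily_span_pow_comp_eq_zero_iff f k g).mpr hg))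
    (fun g hg => cokernel.π_desc _ _ _)
    (fun g hg m hm => by
      apply (cancel_epi (Formal.modPowπ (Ideal.span ({f} : Set A)) k M)).mp
      rw [hm]
      exact (cokernel.π_desc _ _ _).symm)

/-- A map out of `M` killing `f^k M` factors through `M/(f)^k M`. -/
theorem exists_fac_of_smulMod_pow_comp_eq_zero {M T : X.Modules} (f : A) (k : ℕ) (g : M ⟶ T)
    (hg : Formal.smulMod A M (f ^ k) ≫ g = 0) :
    ∃ g' : Formal.modPow (Ideal.span ({f} : Set A)) k M ⟶ T,
      Formal.modPowπ (Ideal.span ({f} : Set A)) k M ≫ g' = g :=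
  ⟨cokernel.desc _ g ((smulFamily_span_pow_comp_eq_zero_iff f k g).mpr hg),
    cokernel.π_desc _ _ _⟩

/-- `0 → F/fF → F/f^{n+1}F → F/f^nF → 0` when `f` is a nonzerodivisor on `F`. -/
theorem exists_shortExact (f : A) (F : X.Modules) (hF : Mono (Formal.smulMod A F f)) (n : ℕ) :
    ∃ i : Formal.modPow (Ideal.span ({f} : Set A)) 1 F ⟶
        Formal.modPow (Ideal.span ({f} : Set A)) (n + 1) F,
      Mono i ∧
      Formal2.modPowLE (Ideal.span ({f} : Set A)) (Nat.le_add_left 1 n) F ≫ i =
        Formal.smulMod A (Formal.modPow (Ideal.span ({f} : Set A)) (n + 1) F) (f ^ n) ∧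
      ∃ w : i ≫ Formal.modPowTrans (Ideal.span ({f} : Set A)) n F = 0,
        (ShortComplex.mk i (Formal.modPowTrans (Ideal.span ({f} : Set A)) n F) w).ShortExact := by
  set I := Ideal.span ({f} : Set A) with hI
  haveI hmono : ∀ k, Mono (Formal.smulMod A F (f ^ k)) := mono_smulMod_pow F f hF
  have hφπ : ∀ k, Formal.smulMod A F (f ^ k) ≫ Formal.modPowπ I k F = 0 :=
    smulMod_pow_comp_modPowπ F f
  -- construction of `i`
  have h1 : Formal.smulMod A F (f ^ 1) ≫
      (Formal.smulMod A F (f ^ n) ≫ Formal.modPowπ I (n + 1) F) = 0 := by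
    rw [← Category.assoc, ← smulMod_mul', ← pow_add, Nat.add_comm 1 n]
    exact hφπ (n + 1)
  obtain ⟨i, hi⟩ := exists_fac_of_smulMod_pow_comp_eq_zero f 1 _ h1
  have hw : i ≫ Formal.modPowTrans I n F = 0 := by
    apply (cancel_epi (Formal.modPowπ I 1 F)).mp
    rw [← Category.assoc, hi, Category.assoc, Formal.modPowπ_trans, comp_zero]
    exact hφπ n
  have hmonoi : Mono i := by
    apply Preadditive.mono_of_cancel_zero
    intro T x hx
    have h2 : (pullback.snd x (Formal.modPowπ I 1 F) ≫ Formal.smulMod A F (f ^ n)) ≫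
        Formal.modPowπ I (n + 1) F = 0 := by
      rw [Category.assoc, ← hi, ← Category.assoc, ← pullback.condition, Category.assoc, hx,
        comp_zero]
    have hker := Abelian.monoIsKernelOfCokernel _ (isColimitModPowπ F f (n + 1))
    obtain ⟨z, hz'⟩ : ∃ z : pullback x (Formal.modPowπ I 1 F) ⟶ F,
        z ≫ Formal.smulMod A F (f ^ (n + 1)) =
          pullback.snd x (Formal.modPowπ I 1 F) ≫ Formal.smulMod A F (f ^ n) :=
      ⟨(KernelFork.IsLimit.lift' hker _ h2).1, (KernelFork.IsLimit.lift' hker _ h2).2⟩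
    have h3 : z ≫ Formal.smulMod A F f = pullback.snd x (Formal.modPowπ I 1 F) := by
      apply (cancel_mono (Formal.smulMod A F (f ^ n))).mp
      rw [Category.assoc, ← smulMod_mul', ← pow_succ', hz']
    have h4 : pullback.fst x (Formal.modPowπ I 1 F) ≫ x = 0 := by
      rw [pullback.condition, ← h3, Category.assoc]
      have h5 := hφπ 1
      rw [pow_one] at h5
      rw [h5, comp_zero]
    exact (cancel_epi (pullback.fst x (Formal.modPowπ I 1 F))).mp (h4.trans comp_zero.symm)
  haveI hepi : Epi (Formal.modPowTrans I n F) := by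
    have h6 : Epi (Formal.modPowπ I (n + 1) F ≫ Formal.modPowTrans I n F) := by
      rw [Formal.modPowπ_trans]
      infer_instance
    exact epi_of_epi (Formal.modPowπ I (n + 1) F) _
  refine ⟨i, hmonoi, ?_, hw, ?_⟩
  · apply (cancel_epi (Formal.modPowπ I (n + 1) F)).mp
    rw [← Category.assoc, Formal2.modPowπ_modPowLE, hi]
    exact Groth.Agent.S9530.smulMod_comp _ _
  · have hkill : ∀ {T : X.Modules} (g : Formal.modPow I (n + 1) F ⟶ T), i ≫ g = 0 →
        Formal.smulMod A F (f ^ n) ≫ (Formal.modPowπ I (n + 1) F ≫ g) = 0 := by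
      intro T g hg
      rw [← Category.assoc, ← hi, Category.assoc, hg, comp_zero]
    have hcolim : IsColimit (CokernelCofork.ofπ (Formal.modPowTrans I n F) hw) :=
      CokernelCofork.IsColimit.ofπ _ _
        (fun g hg => cokernel.desc _ (Formal.modPowπ I (n + 1) F ≫ g)
          ((smulFamily_span_pow_comp_eq_zero_iff f n _).mpr (hkill g hg)))
        (fun g hg => by
          apply (cancel_epi (Formal.modPowπ I (n + 1) F)).mp
          exact (Category.assoc _ _ _).symm.trans
            ((congrArg (· ≫ _) (Formal.modPowπ_trans I n F)).trans (cokernel.π_desc _ _ _)))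
        (fun g hg m hm => by
          apply (cancel_epi (Formal.modPowπ I n F)).mp
          have h7 : Formal.modPowπ I n F ≫ m = Formal.modPowπ I (n + 1) F ≫ g := by
            rw [← Formal.modPowπ_trans, Category.assoc, hm]
          exact h7.trans (cokernel.π_desc _ _ _).symm)
    exact ShortComplex.ShortExact.mk'
      (ShortComplex.exact_of_g_is_cokernel (ShortComplex.mk i (Formal.modPowTrans I n F) hw) hcolim)
      hmonoi hepi

end Groth.Agent.R2.H40.FormalMod
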