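import Mathlib
import Groth.Prelude.Def_Formal
import Groth.Agent.S9530
import Groth.Agent.R2.H40FormalMod

/-!
# The Rees system `I^n M` of an `O_X`-module (helper35, coh-core package F3, sheaf side)

For `X` over `Spec A`, `I` an ideal of `A` and `M : X.Modules`:
* `powMod I n M := kernel (M ⟶ M/I^n M)`  ("`I^n M`"), with inclusion `powModι`;
* `powModLift a ha : M ⟶ powMod I n M` for `a ∈ I^n` (multiplication by `a`), jointly epi;
* `mulPow a ha n : powMod I n M ⟶ powMod I (n+1) M` for `a ∈ I` (multiplication by `a`);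
* `powModIncl : powMod I (n+1) M ⟶ powMod I n M`;
* if `I = span (range a)` then `∐_i powMod I n M ⟶ powMod I (n+1) M` is an epimorphism.
-/

set_option autoImplicit false
universe u

open CategoryTheory CategoryTheory.Limits AlgebraicGeometry Opposite

namespace Groth.Agent.R2.H35.FFRees

open Groth.Agent.R2.H40.FormalMod

variable {A : Type u} [CommRing A] {X : Scheme.{u}} [X.Over (Spec (CommRingCat.of A))]

theorem smulModΓ_add (M : X.Modules) (r s : Coh.Γtop X) :
    Formal.smulModΓ M (r + s) = Formal.smulModΓ M r + Formal.smulModΓ M s := by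
  apply Scheme.Modules.hom_ext
  intro U
  ext m
  change @HSMul.hSMul (X.ringCatSheaf.obj.obj (op U)) (M.val.obj (op U)) (M.val.obj (op U)) _
      (Coh.resTop X (op U) (r + s)) m =
    @HSMul.hSMul (X.ringCatSheaf.obj.obj (op U)) (M.val.obj (op U)) (M.val.obj (op U)) _
      (Coh.resTop X (op U) r) m +
    @HSMul.hSMul (X.ringCatSheaf.obj.obj (op U)) (M.val.obj (op U)) (M.val.obj (op U)) _
      (Coh.resTop X (op U) s) m
  rw [map_add]
  exact @add_smul (X.ringCatSheaf.obj.obj (op U)) (M.val.obj (op U)) _ _ _ _ _ m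

theorem smulMod_add (M : X.Modules) (a b : A) :
    Formal.smulMod A M (a + b) = Formal.smulMod A M a + Formal.smulMod A M b := by
  unfold Formal.smulMod
  rw [map_add, smulModΓ_add]

theorem smulModΓ_zero (M : X.Modules) : Formal.smulModΓ M (0 : Coh.Γtop X) = 0 := by
  have h := smulModΓ_add M 0 0
  rw [add_zero] at h
  exact left_eq_add.mp h

theorem smulMod_zero (M : X.Modules) : Formal.smulMod A M (0 : A) = 0 := by
  unfold Formal.smulMod
  rw [map_zero, smulModΓ_zero]

theorem smulMod_sum {ι : Type*} (M : X.Modules) (s : Finset ι) (f : ι → A) :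
    Formal.smulMod A M (∑ i ∈ s, f i) = ∑ i ∈ s, Formal.smulMod A M (f i) := by
  classical
  induction s using Finset.induction_on with
  | empty => simp [smulMod_zero]
  | insert i s hi ih => rw [Finset.sum_insert hi, Finset.sum_insert hi, smulMod_add, ih]

/-! ### The submodule `I^n M` -/

/-- `I^n M`, as the kernel of `M ⟶ M / I^n M`. -/
noncomputable def powMod (I : Ideal A) (n : ℕ) (M : X.Modules) : X.Modules :=
  kernel (Formal.modPowπ I n M)

/-- The inclusion `I^n M ⟶ M`. -/
noncomputable def powModι (I : Ideal A) (n : ℕ) (M : X.Modules) : powMod I n M ⟶ M :=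
  kernel.ι (Formal.modPowπ I n M)

instance (I : Ideal A) (n : ℕ) (M : X.Modules) : Mono (powModι I n M) :=
  @equalizer.ι_mono _ _ _ _ _ _ _

@[reassoc (attr := simp)]
theorem powModι_π (I : Ideal A) (n : ℕ) (M : X.Modules) :
    powModι I n M ≫ Formal.modPowπ I n M = 0 :=
  kernel.condition _

/-- `0 ⟶ I^n M ⟶ M ⟶ M / I^n M ⟶ 0` is short exact. -/
theorem shortExact_powMod (I : Ideal A) (n : ℕ) (M : X.Modules) :
    (ShortComplex.mk (powModι I n M) (Formal.modPowπ I n M) (powModι_π I n M)).ShortExact where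
  exact := ShortComplex.exact_of_f_is_kernel _ (kernelIsKernel (Formal.modPowπ I n M))
  mono_f := by dsimp; infer_instance
  epi_g := by dsimp; infer_instance

/-- The canonical map `∐_{a ∈ I^n} M ⟶ I^n M`. -/
noncomputable def toPowMod (I : Ideal A) (n : ℕ) (M : X.Modules) :
    (∐ fun _ : ↥(I ^ n) => M) ⟶ powMod I n M :=
  kernel.lift (Formal.modPowπ I n M) (Formal.smulFamily (I ^ n) M) (cokernel.condition _)

@[reassoc (attr := simp)]
theorem toPowMod_ι (I : Ideal A) (n : ℕ) (M : X.Modules) :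
    toPowMod I n M ≫ powModι I n M = Formal.smulFamily (I ^ n) M :=
  kernel.lift_ι _ _ _

instance (I : Ideal A) (n : ℕ) (M : X.Modules) : Epi (toPowMod I n M) := by
  change Epi (Abelian.factorThruImage (Formal.smulFamily (I ^ n) M))
  infer_instance

/-- Multiplication by `a ∈ I^n`, as a map `M ⟶ I^n M`. -/
noncomputable def powModLift (I : Ideal A) (n : ℕ) (M : X.Modules) (a : A) (ha : a ∈ I ^ n) :
    M ⟶ powMod I n M :=
  Sigma.ι (fun _ : ↥(I ^ n) => M) ⟨a, ha⟩ ≫ toPowMod I n M

@[reassoc (attr := simp)]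
theorem powModLift_ι (I : Ideal A) (n : ℕ) (M : X.Modules) (a : A) (ha : a ∈ I ^ n) :
    powModLift I n M a ha ≫ powModι I n M = Formal.smulMod A M a := by
  unfold powModLift
  rw [Category.assoc, toPowMod_ι]
  simp [Formal.smulFamily]

/-- The maps `powModLift a : M ⟶ I^n M` (`a ∈ I^n`) are jointly epimorphic. -/
theorem powMod_hom_ext {I : Ideal A} {n : ℕ} {M T : X.Modules} {g h : powMod I n M ⟶ T}
    (H : ∀ (a : A) (ha : a ∈ I ^ n), powModLift I n M a ha ≫ g = powModLift I n M a ha ≫ h) :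
    g = h := by
  rw [← cancel_epi (toPowMod I n M)]
  apply Sigma.hom_ext
  rintro ⟨a, ha⟩
  simpa [powModLift] using H a ha

theorem smulMod_π_eq_zero (I : Ideal A) (n : ℕ) (M : X.Modules) (a : A) (ha : a ∈ I ^ n) :
    Formal.smulMod A M a ≫ Formal.modPowπ I n M = 0 :=
  (Groth.Agent.S9530.smulFamily_comp_eq_zero_iff (J := I ^ n) (Formal.modPowπ I n M)).mp
    (cokernel.condition _) a ha

/-- A map `φ : T ⟶ M` with `φ ≫ π_n = 0` lifts to `I^n M`. -/
noncomputable def powModFac (I : Ideal A) (n : ℕ) {M T : X.Modules} (φ : T ⟶ M)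
    (h : φ ≫ Formal.modPowπ I n M = 0) : T ⟶ powMod I n M :=
  kernel.lift _ φ h

@[reassoc (attr := simp)]
theorem powModFac_ι (I : Ideal A) (n : ℕ) {M T : X.Modules} (φ : T ⟶ M)
    (h : φ ≫ Formal.modPowπ I n M = 0) : powModFac I n φ h ≫ powModι I n M = φ :=
  kernel.lift_ι _ _ _

theorem powModι_smulMod_π (I : Ideal A) (n : ℕ) (M : X.Modules) (a : A) (ha : a ∈ I) :
    (powModι I n M ≫ Formal.smulMod A M a) ≫ Formal.modPowπ I (n + 1) M = 0 := by
  apply powMod_hom_ext
  intro b hb
  rw [comp_zero, Category.assoc, powModLift_ι_assoc, ← Category.assoc, ← smulMod_mul]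
  exact smulMod_π_eq_zero I (n + 1) M (a * b) (by rw [pow_succ']; exact Ideal.mul_mem_mul ha hb)

/-- Multiplication by `a ∈ I` as a map `I^n M ⟶ I^(n+1) M`. -/
noncomputable def mulPow (I : Ideal A) (n : ℕ) (M : X.Modules) (a : A) (ha : a ∈ I) :
    powMod I n M ⟶ powMod I (n + 1) M :=
  powModFac I (n + 1) (powModι I n M ≫ Formal.smulMod A M a) (powModι_smulMod_π I n M a ha)

@[reassoc (attr := simp)]
theorem mulPow_ι (I : Ideal A) (n : ℕ) (M : X.Modules) (a : A) (ha : a ∈ I) :
    mulPow I n M a ha ≫ powModι I (n + 1) M = powModι I n M ≫ Formal.smulMod A M a :=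
  powModFac_ι _ _ _ _

theorem powModLift_mulPow (I : Ideal A) (n : ℕ) (M : X.Modules) (a : A) (ha : a ∈ I) (b : A)
    (hb : b ∈ I ^ n) :
    powModLift I n M b hb ≫ mulPow I n M a ha =
      powModLift I (n + 1) M (a * b) (by rw [pow_succ']; exact Ideal.mul_mem_mul ha hb) := by
  rw [← cancel_mono (powModι I (n + 1) M), Category.assoc, mulPow_ι, powModLift_ι_assoc,
    powModLift_ι, smulMod_mul]

theorem mulPow_comm (I : Ideal A) (n : ℕ) (M : X.Modules) (a b : A) (ha : a ∈ I) (hb : b ∈ I) :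
    mulPow I n M a ha ≫ mulPow I (n + 1) M b hb = mulPow I n M b hb ≫ mulPow I (n + 1) M a ha := by
  rw [← cancel_mono (powModι I (n + 1 + 1) M), Category.assoc, Category.assoc, mulPow_ι, mulPow_ι,
    mulPow_ι_assoc, mulPow_ι_assoc, ← smulMod_mul, ← smulMod_mul, mul_comm]

/-- The inclusion `I^(n+1) M ⟶ I^n M`. -/
noncomputable def powModIncl (I : Ideal A) (n : ℕ) (M : X.Modules) :
    powMod I (n + 1) M ⟶ powMod I n M :=
  powModFac I n (powModι I (n + 1) M) (by
    rw [← Formal.modPowπ_trans, ← Category.assoc, powModι_π, zero_comp])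

@[reassoc (attr := simp)]
theorem powModIncl_ι (I : Ideal A) (n : ℕ) (M : X.Modules) :
    powModIncl I n M ≫ powModι I n M = powModι I (n + 1) M :=
  powModFac_ι _ _ _ _

instance (I : Ideal A) (n : ℕ) (M : X.Modules) : Mono (powModIncl I n M) :=
  mono_of_mono_fac (powModIncl_ι I n M)

theorem mulPow_incl (I : Ideal A) (n : ℕ) (M : X.Modules) (a : A) (ha : a ∈ I) :
    mulPow I n M a ha ≫ powModIncl I n M = Formal.smulMod A (powMod I n M) a := by
  rw [← cancel_mono (powModι I n M), Category.assoc, powModIncl_ι, mulPow_ι,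
    Groth.Agent.S9530.smulMod_comp]

theorem incl_mulPow (I : Ideal A) (n : ℕ) (M : X.Modules) (a : A) (ha : a ∈ I) :
    powModIncl I n M ≫ mulPow I n M a ha = Formal.smulMod A (powMod I (n + 1) M) a := by
  rw [← cancel_mono (powModι I (n + 1) M), Category.assoc, mulPow_ι, powModIncl_ι_assoc,
    Groth.Agent.S9530.smulMod_comp]

theorem incl_mulPow_eq (I : Ideal A) (n : ℕ) (M : X.Modules) (a : A) (ha : a ∈ I) :
    powModIncl I n M ≫ mulPow I n M a ha = mulPow I (n + 1) M a ha ≫ powModIncl I (n + 1) M := by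
  rw [incl_mulPow, mulPow_incl]

/-- **Generation.** If `I` is generated by the family `a`, the maps
`mulPow (a i) : I^n M ⟶ I^(n+1) M` are jointly epimorphic. -/
theorem mulPow_jointly_epi {σ : Type*} (I : Ideal A) (a : σ → A) (hI : Ideal.span (Set.range a) = I)
    (n : ℕ) (M : X.Modules) {T : X.Modules} {g h : powMod I (n + 1) M ⟶ T}
    (H : ∀ i, mulPow I n M (a i) (hI ▸ Ideal.subset_span ⟨i, rfl⟩) ≫ g =
      mulPow I n M (a i) (hI ▸ Ideal.subset_span ⟨i, rfl⟩) ≫ h) : g = h := by
  have hai : ∀ i, a i ∈ I := fun i => hI ▸ Ideal.subset_span ⟨i, rfl⟩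
  -- the ideal of good multipliers
  let J : Ideal A :=
    { carrier := {b | ∃ φ : M ⟶ powMod I (n + 1) M,
        φ ≫ powModι I (n + 1) M = Formal.smulMod A M b ∧ φ ≫ g = φ ≫ h}
      zero_mem' := ⟨0, by rw [zero_comp, smulMod_zero], by rw [zero_comp, zero_comp]⟩
      add_mem' := by
        rintro b c ⟨φ, h1, h2⟩ ⟨ψ, h3, h4⟩
        exact ⟨φ + ψ, by rw [Preadditive.add_comp, h1, h3, smulMod_add],
          by rw [Preadditive.add_comp, Preadditive.add_comp, h2, h4]⟩
      smul_mem' := by
        rintro c b ⟨φ, h1, h2⟩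
        refine ⟨Formal.smulMod A M c ≫ φ, ?_, ?_⟩
        · rw [Category.assoc, h1, smul_eq_mul, mul_comm, smulMod_mul]
        · rw [Category.assoc, Category.assoc, h2] }
  have hJ : I ^ (n + 1) ≤ J := by
    rw [pow_succ', ← hI]
    rw [Ideal.mul_le]
    intro r hr s hs
    have hs' : s ∈ I ^ n := hI ▸ hs
    induction hr using Submodule.span_induction with
    | mem x hx =>
      obtain ⟨i, rfl⟩ := hx
      refine ⟨powModLift I n M s hs' ≫ mulPow I n M (a i) (hai i), ?_, ?_⟩
      · rw [Category.assoc, mulPow_ι, powModLift_ι_assoc, ← smulMod_mul]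
      · rw [Category.assoc, Category.assoc, H i]
    | zero => rw [zero_mul]; exact J.zero_mem
    | add x y _ _ hx hy => rw [add_mul]; exact J.add_mem hx hy
    | smul c x _ hx => rw [smul_eq_mul, mul_assoc]; exact J.mul_mem_left c hx
  apply powMod_hom_ext
  intro b hb
  obtain ⟨φ, h1, h2⟩ := hJ hb
  have : φ = powModLift I (n + 1) M b hb := by
    rw [← cancel_mono (powModι I (n + 1) M), h1, powModLift_ι]
  rw [← this, h2]

/-- **Generation, coproduct form.** -/
theorem epi_sigmaDesc_mulPow {σ : Type} [Finite σ] (I : Ideal A) (a : σ → A)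
    (hI : Ideal.span (Set.range a) = I) (n : ℕ) (M : X.Modules) :
    Epi (Sigma.desc (fun i : σ => mulPow I n M (a i) (hI ▸ Ideal.subset_span ⟨i, rfl⟩))) := by
  constructor
  intro T g h hgh
  apply mulPow_jointly_epi I a hI n M
  intro i
  have := congrArg (fun k => Sigma.ι (fun _ : σ => powMod I n M) i ≫ k) hgh
  simpa using this

end Groth.Agent.R2.H35.FFRees
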