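import Mathlib
import Groth.Agent.R2.H35FFRees
import Groth.Agent.Lib.Helper23QCohAbelian
import Groth.Agent.Lib.Helper23FinTypeLocal
import Groth.Agent.Lib.Helper23FinType

/-!
# Coherence of `M / I^n M` and `I^n M` (helper35, coh-core package F3)
-/

set_option autoImplicit false
set_option linter.style.haveILetI false
universe u

open CategoryTheory CategoryTheory.Limits AlgebraicGeometry Opposite

namespace Groth.Agent.R2.H35.FFRees

open Groth.Agent.Lib.Helper23.QCohLocal

variable {A : Type u} [CommRing A] {X : Scheme.{u}} [X.Over (Spec (CommRingCat.of A))]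

/-- A coproduct (indexed by a `u`-small type) of copies of a quasi-coherent module is
quasi-coherent. -/
theorem isQuasicoherent_sigma_const {σ : Type u} (M : X.Modules) [M.IsQuasicoherent] :
    (∐ fun _ : σ => M).IsQuasicoherent :=
  isQuasicoherent_colimit (Discrete.functor fun _ : σ => M) (fun _ => ‹M.IsQuasicoherent›)

/-- `M / I^n M` is quasi-coherent if `M` is. -/
theorem isQCoh_modPow (I : Ideal A) (n : ℕ) (M : X.Modules) (hM : Coh.IsQCoh M) :
    Coh.IsQCoh (Formal.modPow I n M) := by
  haveI : M.IsQuasicoherent := hM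
  haveI := isQuasicoherent_sigma_const (σ := ↥(I ^ n)) M
  exact isQuasicoherent_cokernel (Formal.smulFamily (I ^ n) M)

/-- `M / I^n M` is coherent if `M` is (no Noetherian hypothesis). -/
theorem isCoh_modPow (I : Ideal A) (n : ℕ) (M : X.Modules) (hM : Coh.IsCoh M) :
    Coh.IsCoh (Formal.modPow I n M) := by
  haveI : M.IsQuasicoherent := hM.1
  haveI : SheafOfModules.IsFiniteType (R := X.ringCatSheaf) M := hM.2
  haveI : (Formal.modPow I n M).IsQuasicoherent := isQCoh_modPow I n M hM.1
  exact ⟨inferInstance, Groth.Agent.Lib.Helper23.FinType.isFiniteType_of_epi (Formal.modPowπ I n M)⟩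

/-- `I^n M` is quasi-coherent if `M` is. -/
theorem isQCoh_powMod (I : Ideal A) (n : ℕ) (M : X.Modules) (hM : Coh.IsQCoh M) :
    Coh.IsQCoh (powMod I n M) := by
  haveI : M.IsQuasicoherent := hM
  haveI : (Formal.modPow I n M).IsQuasicoherent := isQCoh_modPow I n M hM
  exact isQuasicoherent_kernel (Formal.modPowπ I n M)

/-- `I^n M` is coherent if `M` is and `X` is locally Noetherian. -/
theorem isCoh_powMod [IsLocallyNoetherian X] (I : Ideal A) (n : ℕ) (M : X.Modules)
    (hM : Coh.IsCoh M) : Coh.IsCoh (powMod I n M) := by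
  haveI : M.IsQuasicoherent := hM.1
  haveI : SheafOfModules.IsFiniteType (R := X.ringCatSheaf) M := hM.2
  haveI : (powMod I n M).IsQuasicoherent := isQCoh_powMod I n M hM.1
  exact ⟨inferInstance, Groth.Agent.Lib.Helper23.FinType.isFiniteType_of_mono (powModι I n M)⟩

end Groth.Agent.R2.H35.FFRees
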