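import Groth.Agent.R2.H17AlgzExt
import Groth.Agent.R2.H35FFReesCoh
import Groth.Agent.S9530
import Groth.Agent.S9831

/-!
# Completion of a coherent module commutes with restriction to an open (helper17)

Namespace `Groth.Agent.R2.H17.ComplRestrict`.

* `IsQuot J p`: `p : M ⟶ N` exhibits `N` as `M / J M`; `isQuot_iff`: universal property.
* `isCohFormal_completion`: the completion of a coherent module is an object of `Coh(X, I O_X)`.
* `nonempty_completion_iso_of_isQuot`: uniqueness of the system `M / I^(n+1) M`.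
* `extends_of_completion_iso`: a system on an open `U ⊆ Spec A` (`A` Noetherian) isomorphic to the completion of
  a coherent module extends to `Spec A`.
-/

set_option autoImplicit false
set_option linter.unusedSectionVars false
set_option linter.style.haveILetI false

universe u

open CategoryTheory CategoryTheory.Limits Opposite AlgebraicGeometry

namespace Groth.Agent.R2.H17.ComplRestrict

open Groth.Agent.R2.H17.AlgzExt Groth.Agent.R2.H17.ProIso

section general

variable {A : Type u} [CommRing A] {X : Scheme.{u}} [X.Over (Spec (CommRingCat.of A))]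

/-- `p : M ⟶ N` exhibits `N` as `M / J M`. -/
def IsQuot (J : Ideal A) {M N : X.Modules} (p : M ⟶ N) : Prop :=
  ∃ h : Formal.smulFamily J M ≫ p = 0, IsIso (cokernel.desc _ _ h)

theorem isQuot_iff (J : Ideal A) {M N : X.Modules} (p : M ⟶ N) :
    IsQuot J p ↔ (Epi p ∧ (∀ a ∈ J, Formal.smulMod A M a ≫ p = 0) ∧
      ∀ {T : X.Modules} (φ : M ⟶ T), (∀ a ∈ J, Formal.smulMod A M a ≫ φ = 0) →
        ∃ ψ : N ⟶ T, p ≫ ψ = φ) := by
  constructor
  · rintro ⟨h, hi⟩
    obtain ⟨he, hf⟩ := (isIso_cokernel_desc_iff _ p h).1 hi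
    exact ⟨he, (Groth.Agent.S9530.smulFamily_comp_eq_zero_iff p).1 h, fun φ hφ =>
      hf φ ((Groth.Agent.S9530.smulFamily_comp_eq_zero_iff φ).2 hφ)⟩
  · rintro ⟨he, h0, hf⟩
    have h := (Groth.Agent.S9530.smulFamily_comp_eq_zero_iff p).2 h0
    exact ⟨h, (isIso_cokernel_desc_iff _ p h).2 ⟨he, fun φ hφ =>
      hf φ ((Groth.Agent.S9530.smulFamily_comp_eq_zero_iff φ).1 hφ)⟩⟩

theorem isQuot_cokernelπ (J : Ideal A) (M : X.Modules) : IsQuot J (cokernel.π (Formal.smulFamily J M)) := by
  refine ⟨cokernel.condition _, ?_⟩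
  have : cokernel.desc (Formal.smulFamily J M) (cokernel.π (Formal.smulFamily J M)) (cokernel.condition _) = 𝟙 _ := by
    apply coequalizer.hom_ext
    rw [cokernel.π_desc, Category.comp_id]
  rw [this]
  infer_instance

theorem isQuot_modPowπ (I : Ideal A) (n : ℕ) (M : X.Modules) : IsQuot (I ^ n) (Formal.modPowπ I n M) :=
  isQuot_cokernelπ _ M

theorem IsQuot.killedBy {J : Ideal A} {M N : X.Modules} {p : M ⟶ N} (h : IsQuot J p) :
    Formal.KilledBy J N := by
  obtain ⟨he, h0, -⟩ := (isQuot_iff J p).1 h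
  intro a ha
  rw [← cancel_epi p, comp_zero, ← Groth.Agent.S9530.smulMod_comp, h0 a ha]

/-- if `p` is epi and `p ≫ q` is the quotient by `J`, then so is `q`. -/
theorem IsQuot.of_epi_comp {J : Ideal A} {M N N' : X.Modules} (p : M ⟶ N) [Epi p] (q : N ⟶ N')
    (h : IsQuot J (p ≫ q)) : IsQuot J q := by
  obtain ⟨he, h0, hf⟩ := (isQuot_iff J _).1 h
  refine (isQuot_iff J q).2 ⟨epi_of_epi p q, fun a ha => ?_, fun φ hφ => ?_⟩
  · rw [← cancel_epi p, comp_zero, ← Category.assoc, ← Groth.Agent.S9530.smulMod_comp, Category.assoc,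
      h0 a ha]
  · obtain ⟨ψ, hψ⟩ := hf (p ≫ φ) (fun a ha => by
      rw [← Category.assoc, Groth.Agent.S9530.smulMod_comp, Category.assoc, hφ a ha, comp_zero])
    refine ⟨ψ, ?_⟩
    rw [← cancel_epi p, ← Category.assoc, hψ]

theorem IsQuot.iso_comp {J : Ideal A} {M M' N : X.Modules} {p : M ⟶ N} (h : IsQuot J p) (e : M' ≅ M) :
    IsQuot J (e.hom ≫ p) := by
  obtain ⟨he, h0, hf⟩ := (isQuot_iff J _).1 h
  refine (isQuot_iff J _).2 ⟨inferInstance, fun a ha => ?_, fun φ hφ => ?_⟩
  · rw [← Category.assoc, Groth.Agent.S9530.smulMod_comp, Category.assoc, h0 a ha, comp_zero]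
  · obtain ⟨ψ, hψ⟩ := hf (e.inv ≫ φ) (fun a ha => by
      rw [← Category.assoc, Groth.Agent.S9530.smulMod_comp, Category.assoc, hφ a ha, comp_zero])
    refine ⟨ψ, ?_⟩
    rw [Category.assoc, hψ, e.hom_inv_id_assoc]

theorem IsQuot.comp_iso {J : Ideal A} {M N N' : X.Modules} {p : M ⟶ N} (h : IsQuot J p) (e : N ≅ N') :
    IsQuot J (p ≫ e.hom) := by
  obtain ⟨he, h0, hf⟩ := (isQuot_iff J _).1 h
  refine (isQuot_iff J _).2 ⟨inferInstance, fun a ha => ?_, fun φ hφ => ?_⟩
  · rw [← Category.assoc, h0 a ha, zero_comp]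
  · obtain ⟨ψ, hψ⟩ := hf φ hφ
    refine ⟨e.inv ≫ ψ, ?_⟩
    rw [Category.assoc, e.hom_inv_id_assoc, hψ]

lemma epi_modPowπ (I : Ideal A) (n : ℕ) (M : X.Modules) : Epi (Formal.modPowπ I n M) := by
  unfold Formal.modPowπ
  exact @coequalizer.π_epi _ _ _ _ _ _ _

lemma completion_map_succ (I : Ideal A) (M : X.Modules) (n : ℕ) :
    (Formal.completion I M).map (homOfLE (Nat.le_succ n)).op = Formal.modPowTrans I (n + 1) M :=
  Functor.ofOpSequence_map_homOfLE_succ _ n

/-- the completion of a coherent module is a coherent formal module. -/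
theorem isCohFormal_completion (I : Ideal A) (M : X.Modules) (hM : Coh.IsCoh M) :
    Formal.IsCohFormal I (Formal.completion I M) := by
  refine ⟨fun n => Groth.Agent.R2.H35.FFRees.isCoh_modPow I (n + 1) M hM,
    fun n => (isQuot_modPowπ I (n + 1) M).killedBy, fun n => ?_⟩
  haveI := epi_modPowπ I (n + 1 + 1) M
  have h : IsQuot (I ^ (n + 1)) (Formal.modPowTrans I (n + 1) M) := by
    apply IsQuot.of_epi_comp (Formal.modPowπ I (n + 1 + 1) M)
    rw [Formal.modPowπ_trans]
    exact isQuot_modPowπ I (n + 1) M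
  rw [completion_map_succ]
  exact h

/-- uniqueness of the system of quotients `M / I^(n+1) M`. -/
theorem nonempty_completion_iso_of_isQuot (I : Ideal A) (M : X.Modules) (C : ℕᵒᵖ ⥤ X.Modules)
    (p : ∀ n, M ⟶ C.obj (op n))
    (hp : ∀ n, p (n + 1) ≫ C.map (homOfLE (Nat.le_succ n)).op = p n)
    (hq : ∀ n, IsQuot (I ^ (n + 1)) (p n)) : Nonempty (Formal.completion I M ≅ C) := by
  choose h hiso using hq
  let e : ∀ n, Formal.modPow I (n + 1) M ⟶ C.obj (op n) := fun n => cokernel.desc _ _ (h n)
  have he : ∀ n, Formal.modPowπ I (n + 1) M ≫ e n = p n := fun n => cokernel.π_desc _ _ _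
  have nat : ∀ n, Formal.modPowTrans I (n + 1) M ≫ e n =
      e (n + 1) ≫ C.map (homOfLE (Nat.le_succ n)).op := by
    intro n
    haveI := epi_modPowπ I (n + 1 + 1) M
    rw [← cancel_epi (Formal.modPowπ I (n + 1 + 1) M), ← Category.assoc,
      Formal.modPowπ_trans, he n, ← Category.assoc, he (n + 1), hp n]
  let τ : Formal.completion I M ⟶ C :=
    NatTrans.ofOpSequence (F := Formal.completion I M) (G := C) e (fun n => by
        have e1 : (Formal.completion I M).map (homOfLE (n.le_add_right 1)).op =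
            Formal.modPowTrans I (n + 1) M := Functor.ofOpSequence_map_homOfLE_succ _ n
        rw [e1]
        exact nat n)
  haveI : ∀ n : ℕᵒᵖ, IsIso (τ.app n) := fun n => hiso n.unop
  haveI := NatIso.isIso_of_isIso_app τ
  exact ⟨asIso τ⟩

/-- the projection `M ⟶ M / I^(n+1) M`, typed as a map to the `n`-th term of the completion. -/
noncomputable def complπ (I : Ideal A) (M : X.Modules) (n : ℕ) : M ⟶ (Formal.completion I M).obj (op n) :=
  Formal.modPowπ I (n + 1) M

lemma complπ_succ (I : Ideal A) (M : X.Modules) (n : ℕ) :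
    complπ I M (n + 1) ≫ (Formal.completion I M).map (homOfLE (Nat.le_succ n)).op = complπ I M n :=
  (congrArg (fun k => Formal.modPowπ I (n + 1 + 1) M ≫ k) (completion_map_succ I M n)).trans
    (Formal.modPowπ_trans I (n + 1) M)

lemma isQuot_complπ (I : Ideal A) (M : X.Modules) (n : ℕ) : IsQuot (I ^ (n + 1)) (complπ I M n) :=
  isQuot_modPowπ I (n + 1) M

/-- the completion is functorial for isomorphisms. -/
theorem nonempty_completion_iso_of_iso (I : Ideal A) {M M' : X.Modules} (e : M ≅ M') :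
    Nonempty (Formal.completion I M ≅ Formal.completion I M') :=
  nonempty_completion_iso_of_isQuot I M (Formal.completion I M')
    (fun n => e.hom ≫ complπ I M' n)
    (fun n => by rw [Category.assoc, complπ_succ])
    (fun n => (isQuot_complπ I M' n).iso_comp e)

end general

section affine

variable {A : Type u} [CommRing A] (I : Ideal A)

/-- `Spec A` over itself through the identity (the instance used by `Algz.Extends`). -/
noncomputable local instance specOverSelf :
    (Spec (CommRingCat.of A)).Over (Spec (CommRingCat.of A)) := ⟨𝟙 _⟩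

variable (U : (Spec (CommRingCat.of A)).Opens)

/-- restriction to `U` preserves quotients by `J`. -/
theorem isQuot_restrict (J : Ideal A) {M N : (Spec (CommRingCat.of A)).Modules} {p : M ⟶ N}
    (h : IsQuot J p) : IsQuot J ((Scheme.Modules.restrictFunctor U.ι).map p) := by
  have hf : U.ι ≫ ((Spec (CommRingCat.of A)) ↘ (Spec (CommRingCat.of A))) =
      (U : Scheme.{u}) ↘ (Spec (CommRingCat.of A)) := Category.comp_id _
  obtain ⟨h0, hi⟩ := h
  have h1 : IsQuot J ((Scheme.Modules.pullback U.ι).map p) :=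
    Groth.Agent.Lib.Helper20.FormalPull.isIso_cokernelDesc_pullback U.ι hf J p h0 hi
  let ρ : Scheme.Modules.restrictFunctor U.ι ≅ Scheme.Modules.pullback U.ι :=
    (Scheme.Modules.restrictAdjunction U.ι).leftAdjointUniq
      (Scheme.Modules.pullbackPushforwardAdjunction U.ι)
  have e : (Scheme.Modules.restrictFunctor U.ι).map p =
      (ρ.app M).hom ≫ ((Scheme.Modules.pullback U.ι).map p ≫ (ρ.app N).symm.hom) := by
    simp
  rw [e]
  exact (h1.comp_iso (ρ.app N).symm).iso_comp (ρ.app M)

/-- (2) ⇒ (6): a system on `U` isomorphic to the completion of a coherent module extends to `Spec A`. -/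
theorem extends_of_completion_iso [IsNoetherianRing A] (G : ℕᵒᵖ ⥤ (U : Scheme.{u}).Modules)
    (F : (U : Scheme.{u}).Modules) (hF : Coh.IsCoh F) (e : Formal.completion I F ≅ G) :
    Algz.Extends I U G := by
  haveI : Coh.IsQCoh F := hF.1
  have hU : IsCompact (U : Set (Spec (CommRingCat.of A))) :=
    TopologicalSpace.NoetherianSpace.isCompact _
  obtain ⟨F', hq, hft, ⟨e0⟩⟩ := Groth.Agent.S9831.result U hU F hF.2
  refine ⟨Formal.completion I F', isCohFormal_completion I F' ⟨hq, hft⟩, ?_⟩
  obtain ⟨e1⟩ := nonempty_completion_iso_of_isQuot I (F'.restrict U.ι)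
    (Algz.restrictSys U (Formal.completion I F'))
    (fun n => (Scheme.Modules.restrictFunctor U.ι).map (complπ I F' n))
    (fun n => by
      change (Scheme.Modules.restrictFunctor U.ι).map _ ≫ (Scheme.Modules.restrictFunctor U.ι).map _ = _
      rw [← Functor.map_comp, complπ_succ])
    (fun n => isQuot_restrict U _ (isQuot_complπ I F' n))
  obtain ⟨e2⟩ := nonempty_completion_iso_of_iso I e0
  exact ⟨e1.symm ≪≫ e2 ≪≫ e⟩

end affine

end Groth.Agent.R2.H17.ComplRestrict
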