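import Groth.Agent.R2.H1AlgzSpec
import Groth.Agent.R2.H17ComplRestrict
import Groth.Agent.S0019

/-!
# PROJ:algz — package [PF] (helper17)

Namespace `Groth.Agent.R2.H17.AlgzPF`.

The pushed-forward tower `n ↦ (c n)_* (S.F n)` of a compatible coherent system on an adic tower along compatible
closed immersions `c n : T.Xs n ⟶ X` is a coherent formal module on `X`.

* `push_smulMod`: `g_* (μ_a) = μ_a` on `g_* M`.
* `isQuot_pushforward_map`: `g_* p` is the quotient by `J` when `p` is (checked on affine opens).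
* `pkgPF : AlgzSpec.PkgPF`.
-/

set_option autoImplicit false
set_option linter.unusedSectionVars false
set_option linter.style.haveILetI false

universe u

open CategoryTheory CategoryTheory.Limits Opposite AlgebraicGeometry

namespace Groth.Agent.R2.H17.AlgzPF

open Groth.Agent.R2.H1.TowerMod Groth.Agent.R2.H1.AlgzSpec Groth.Agent.R2.H17.ComplRestrict
open Groth.Agent.R2.H1.Tower Groth.Agent.R2.H1.FibreKer Scheme.Modules

section general

variable {A : Type u} [CommRing A] {X : Scheme.{u}} [X.Over (Spec (CommRingCat.of A))]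
  {Z : Scheme.{u}} (g : Z ⟶ X) (q : Z ⟶ Spec (CommRingCat.of A))
  (hq : g ≫ (X ↘ Spec (CommRingCat.of A)) = q)

include hq in
/-- the direct image of multiplication by `a` is multiplication by `a` -/
theorem push_smulMod (M : Z.Modules) (a : A) :
    (pushforward g).map (@Formal.smulMod A _ Z ⟨q⟩ M a) =
      Formal.smulMod A ((pushforward g).obj M) a := by
  apply Scheme.Modules.hom_ext
  intro U
  ext m
  have h1 : ((pushforward g).map (@Formal.smulMod A _ Z ⟨q⟩ M a)).app U m =
      (ρ q (g ⁻¹ᵁ U)).hom a • (show Γ(M, g ⁻¹ᵁ U) from m) := rfl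
  have h2 : (Formal.smulMod A ((pushforward g).obj M) a).app U m =
      (ρ (X ↘ Spec (CommRingCat.of A)) U).hom a • m := rfl
  rw [h1, h2, Groth.Agent.Helper13PullbackUnit.pushforward_smul, ρ_comp, hq]

include hq in
/-- sections version: `φ` kills `ρ(a) • x` when it kills multiplication by `a` -/
theorem app_smul_eq_zero {M : Z.Modules} {T' : X.Modules} (φ : (pushforward g).obj M ⟶ T') (a : A)
    (hφ : Formal.smulMod A ((pushforward g).obj M) a ≫ φ = 0) (U : X.Opens) (x : Γ(M, g ⁻¹ᵁ U)) :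
    φ.app U ((ρ q (g ⁻¹ᵁ U)).hom a • x : Γ(M, g ⁻¹ᵁ U)) = 0 := by
  have h1 : (Formal.smulMod A ((pushforward g).obj M) a).app U x =
      ((ρ q (g ⁻¹ᵁ U)).hom a • x : Γ(M, g ⁻¹ᵁ U)) := by
    rw [← push_smulMod g q hq]
    rfl
  rw [← h1]
  have := congrArg (fun ψ => ψ.app U x) hφ
  exact this

variable [IsClosedImmersion g]

include hq in
/-- `g_* p` is the quotient by `J` when `p` is epi, killed by `J`, and its kernel on affine opens is `J M`. -/
theorem isQuot_pushforward_map (J : Ideal A) {M N : Z.Modules} (p : M ⟶ N) [Epi p]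
    (hp0 : ∀ a ∈ J, @Formal.smulMod A _ Z ⟨q⟩ M a ≫ p = 0)
    (hker : ∀ (V : Z.Opens), IsAffineOpen V → ∀ m : Γ(M, V), p.app V m = 0 →
      m ∈ (Ideal.map (ρ q V).hom J • ⊤ : Submodule Γ(Z, V) Γ(M, V))) :
    IsQuot J ((pushforward g).map p) := by
  haveI : (pushforward g).PreservesEpimorphisms := by
    haveI := Groth.Agent.R2.H16.ClosedImmAdj.isLeftAdjoint_pushforward_of_isClosedImmersion g
    infer_instance
  refine (isQuot_iff J _).2 ⟨inferInstance, fun a ha => ?_, fun {T'} φ hφ => ?_⟩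
  · rw [← push_smulMod g q hq, ← Functor.map_comp, hp0 a ha, Functor.map_zero]
  · have hk : kernel.ι ((pushforward g).map p) ≫ φ = 0 := by
      apply Groth.Agent.Helper13ModAffine.hom_ext_affine
      intro U hU
      ext k
      have hm0 : p.app (g ⁻¹ᵁ U) ((kernel.ι ((pushforward g).map p)).app U k) = 0 := by
        have := congrArg (fun ψ => ψ.app U k) (kernel.condition ((pushforward g).map p))
        exact this
      have hmem := hker (g ⁻¹ᵁ U) (hU.preimage g) _ hm0
      have key : ∀ r ∈ Ideal.map (ρ q (g ⁻¹ᵁ U)).hom J, ∀ x : Γ(M, g ⁻¹ᵁ U),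
          φ.app U (r • x : Γ(M, g ⁻¹ᵁ U)) = 0 := by
        intro r hr
        refine Submodule.span_induction (p := fun r _ => ∀ x : Γ(M, g ⁻¹ᵁ U),
          φ.app U (r • x : Γ(M, g ⁻¹ᵁ U)) = 0) ?_ ?_ ?_ ?_ hr
        · rintro _ ⟨a, ha, rfl⟩ x
          exact app_smul_eq_zero g q hq φ a (hφ a ha) U x
        · intro x
          rw [zero_smul]
          exact map_zero _
        · intro r₁ r₂ _ _ h₁ h₂ x
          rw [add_smul]
          erw [map_add]
          rw [h₁ x, h₂ x, add_zero]
        · intro s r₁ _ h₁ x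
          rw [smul_eq_mul, mul_comm, mul_smul]
          exact h₁ (s • x)
      have key2 : ∀ y ∈ (Ideal.map (ρ q (g ⁻¹ᵁ U)).hom J • ⊤ :
          Submodule Γ(Z, g ⁻¹ᵁ U) Γ(M, g ⁻¹ᵁ U)), φ.app U y = 0 := by
        intro y hy
        refine Submodule.smul_induction_on hy (fun r hr x _ => key r hr x) (fun x y hx hy => ?_)
        erw [map_add]
        rw [hx, hy, add_zero]
      exact key2 _ hmem
    exact ⟨Abelian.epiDesc ((pushforward g).map p) φ hk, Abelian.comp_epiDesc _ _ _⟩

end general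

section tower

variable {A : Type u} [CommRing A] {I : Ideal A} {T : Sys I} {X : Scheme.{u}}
  [X.Over (Spec (CommRingCat.of A))] (c : TowerMap T (X ↘ Spec (CommRingCat.of A))) (S : T.Mod)

theorem pushTower_obj (n : ℕ) :
    (pushTower c S).obj (op n) = (pushforward (c.c n)).obj (S.F n) := rfl

theorem pushTower_map_succ (n : ℕ) :
    (pushTower c S).map (homOfLE (Nat.le_succ n)).op = pushTrans c S n :=
  Functor.ofOpSequence_map_homOfLE_succ _ n

theorem killedBy_pushTower (n : ℕ) : Formal.KilledBy (I ^ (n + 1)) ((pushTower c S).obj (op n)) := by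
  intro a ha
  change Formal.smulMod A ((pushforward (c.c n)).obj (S.F n)) a = 0
  rw [← push_smulMod (c.c n) (T.q n) (c.hq n)]
  change (pushforward (c.c n)).map (T.μ n (S.F n) a) = 0
  rw [T.μ_eq_zero n _ a ha, Functor.map_zero]

theorem isQuot_push_tr (hc : ∀ n, IsClosedImmersion (c.c n)) (n : ℕ) :
    IsQuot (I ^ (n + 1)) ((pushforward (c.c (n + 1))).map (S.tr n)) := by
  haveI := hc (n + 1)
  refine isQuot_pushforward_map (c.c (n + 1)) (T.q (n + 1)) (c.hq (n + 1)) (I ^ (n + 1)) (S.tr n)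
    (fun a ha => ?_) (fun V hV m hm => ?_)
  · change T.μ (n + 1) (S.F (n + 1)) a ≫ S.tr n = 0
    rw [T.μ_comp, ← T.push_μ, T.μ_eq_zero n _ a ha, Functor.map_zero, comp_zero]
  · rw [← T.ker_app_i n hV]
    exact mem_smul_top_of_trans_app_eq_zero (T.i n) (S.F (n + 1)) (S.F n) (S.ψ n) hV m hm

theorem isQuot_pushTrans (hc : ∀ n, IsClosedImmersion (c.c n)) (n : ℕ) :
    IsQuot (I ^ (n + 1)) (pushTrans c S n) := by
  let e₀ : (pushforward (c.c (n + 1))).obj ((pushforward (T.i n)).obj (S.F n)) ≅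
      (pushforward (T.i n ≫ c.c (n + 1))).obj (S.F n) := Iso.refl _
  exact (isQuot_push_tr c S hc n).comp_iso
    (e₀ ≪≫ (Scheme.Modules.pushforwardCongr (c.hc n)).app (S.F n))

end tower

/-- **[PF]** -/
theorem pkgPF : PkgPF := by
  intro A _ _ I T X _ _ c hc S hS
  refine ⟨fun n => ?_, fun n => killedBy_pushTower c S n, fun n => ?_⟩
  · haveI := hc n
    exact Groth.Agent.S0019.result (c.c n) (S.F n) (hS n)
  · have h : IsQuot (I ^ (n + 1)) ((pushTower c S).map (homOfLE (Nat.le_succ n)).op) := by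
      rw [pushTower_map_succ]
      exact isQuot_pushTrans c S hc n
    exact h

end Groth.Agent.R2.H17.AlgzPF
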