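import Groth.Agent.R2.H17MLMod
import Groth.Agent.R2.H17AffExist
import Groth.Prelude.Def_Formal2

/-!
# Construction of the canonical extension from (ML) + (limit topology = adic topology) + (finite images) (helper17)

Namespace `Groth.Agent.R2.H17.CanonExt`.

* `Psys I M`: the system `n ↦ M / I^(n+1) M` of `A`-modules.
* `isProIsomorphic_Psys`: for a Mittag-Leffler tower `X` of `A`-modules with `X_n` killed by `I^(n+1)` and such that
  the limit topology on `M = lim X` is the `I`-adic one, `X` is pro-isomorphic to `Psys I M`.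
-/

set_option autoImplicit false
set_option linter.unusedSectionVars false
set_option linter.style.haveILetI false

universe u

open CategoryTheory CategoryTheory.Limits Opposite AlgebraicGeometry

namespace Groth.Agent.R2.H17.CanonExt

open Groth.Agent.R2.H17.ProIsoLim Groth.Agent.R2.H17.AdicLimTop Groth.Agent.R2.H17.MLMod

section Psys

variable {A : Type u} [CommRing A] (I : Ideal A) (M : Type u) [AddCommGroup M] [Module A M]

/-- the system `n ↦ M / I^(n+1) M`. -/
noncomputable def Psys : ℕᵒᵖ ⥤ ModuleCat.{u} A :=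
  Functor.ofOpSequence (X := fun n => ModuleCat.of A (Formal2.quotPow A I M n))
    (fun n => ModuleCat.ofHom (Formal2.quotPowTrans A I M n))

lemma Psys_map_succ (n : ℕ) :
    (Psys I M).map (homOfLE (Nat.le_succ n)).op = ModuleCat.ofHom (Formal2.quotPowTrans A I M n) :=
  Functor.ofOpSequence_map_homOfLE_succ _ n

/-- the class of `μ` in `M / I^(n+1) M`, as an element of the `n`-th term of `Psys`. -/
def cls (n : ℕ) (μ : M) : ↑((Psys I M).obj (op n)) :=
  (Submodule.Quotient.mk μ : Formal2.quotPow A I M n)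

lemma trm_cls {n k : ℕ} (h : n ≤ k) (μ : M) : (trm (Psys I M) h).hom (cls I M k μ) = cls I M n μ := by
  induction k, h using Nat.le_induction with
  | base =>
    have : trm (Psys I M) (le_refl n) = 𝟙 _ := (Psys I M).map_id (op n)
    rw [this]
    rfl
  | succ k hk ih =>
    have e : trm (Psys I M) (hk.trans (Nat.le_succ k)) =
        trm (Psys I M) (Nat.le_succ k) ≫ trm (Psys I M) hk := (trm_comp (Psys I M) _ _).symm
    rw [e]
    change (trm (Psys I M) hk).hom ((trm (Psys I M) (Nat.le_succ k)).hom (cls I M (k + 1) μ)) = _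
    have e2 : (trm (Psys I M) (Nat.le_succ k)).hom (cls I M (k + 1) μ) = cls I M k μ := by
      have := congrArg (fun f => f.hom (cls I M (k + 1) μ)) (Psys_map_succ I M k)
      exact this
    rw [e2, ih]

lemma cls_surjective (n : ℕ) (y : ↑((Psys I M).obj (op n))) : ∃ μ, cls I M n μ = y :=
  Submodule.Quotient.mk_surjective _ y

lemma cls_eq_zero_iff (n : ℕ) (μ : M) : cls I M n μ = 0 ↔ μ ∈ I ^ (n + 1) • (⊤ : Submodule A M) :=
  Submodule.Quotient.mk_eq_zero _

end Psys

section Mono

/-- a monotone majorant of a sequence of natural numbers. -/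
def majorant (f : ℕ → ℕ) (n : ℕ) : ℕ := n + ∑ i ∈ Finset.range (n + 1), f i

lemma majorant_mono (f : ℕ → ℕ) : Monotone (majorant f) := by
  intro n n' h
  unfold majorant
  have : ∑ i ∈ Finset.range (n + 1), f i ≤ ∑ i ∈ Finset.range (n' + 1), f i :=
    Finset.sum_le_sum_of_subset (Finset.range_mono (by omega))
  omega

lemma le_majorant (f : ℕ → ℕ) (n : ℕ) : f n ≤ majorant f n := by
  unfold majorant
  have : f n ≤ ∑ i ∈ Finset.range (n + 1), f i :=
    Finset.single_le_sum (f := f) (fun _ _ => Nat.zero_le _) (Finset.self_mem_range_succ n)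
  omega

lemma self_le_majorant (f : ℕ → ℕ) (n : ℕ) : n ≤ majorant f n := Nat.le_add_right _ _

end Mono

section ProIso

variable {A : Type u} [CommRing A] (I : Ideal A) (X : ℕᵒᵖ ⥤ ModuleCat.{u} A)

lemma ker_π_mono {n k : ℕ} (h : n ≤ k) :
    LinearMap.ker (limit.π X (op k)).hom ≤ LinearMap.ker (limit.π X (op n)).hom := by
  intro x hx
  rw [LinearMap.mem_ker] at hx ⊢
  rw [← π_trm_apply X h x, hx, map_zero]

theorem isProIsomorphic_Psys (hML : ARSys.IsML X)
    (hb : ∀ k : ℕ, ∃ n : ℕ, LinearMap.ker (limit.π X (op n)).hom ≤ I ^ k • (⊤ : Submodule A ↑(limit X)))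
    (hkill : ∀ (n : ℕ) (a : A), a ∈ I ^ (n + 1) → ∀ x : Mx X n, a • x = 0) :
    Algz.IsProIsomorphic X (Psys I ↑(limit X)) := by
  -- the indices
  choose K0 hK0 using fun n => hb (n + 1)
  let K : ℕ → ℕ := majorant K0
  have hKmono : Monotone K := majorant_mono K0
  have hKle : ∀ n, n ≤ K n := self_le_majorant K0
  have hK : ∀ n, LinearMap.ker (limit.π X (op (K n))).hom ≤ I ^ (n + 1) • (⊤ : Submodule A ↑(limit X)) :=
    fun n => (ker_π_mono X (le_majorant K0 n)).trans (hK0 n)
  choose D0 hD0 hst using fun k => exists_range_limit_π_eq X hML k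
  let D : ℕ → ℕ := majorant D0
  have hDmono : Monotone D := majorant_mono D0
  have hDle : ∀ n, n ≤ D n := self_le_majorant D0
  have hD : ∀ (n d' : ℕ) (_ : D n ≤ d') (h0 : n ≤ d'),
      LinearMap.range (limit.π X (op n)).hom = LinearMap.range (trm X h0).hom :=
    fun n d' h h0 => hst n d' ((le_majorant D0 n).trans h)
  let m : ℕ → ℕ := fun n => D (K n)
  have hm : Monotone m := fun _ _ h => hDmono (hKmono h)
  have hKm : ∀ n, K n ≤ m n := fun n => hDle (K n)
  have hle : ∀ n, n ≤ m n := fun n => (hKle n).trans (hKm n)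
  -- the maps `X_(m n) ⟶ M / I^(n+1) M`
  let σ : ∀ n, ↥(LinearMap.range (limit.π X (op (K n))).hom) →ₗ[A] Formal2.quotPow A I ↑(limit X) n :=
    fun n => (Submodule.mapQ (LinearMap.ker (limit.π X (op (K n))).hom) (I ^ (n + 1) • ⊤) LinearMap.id
      (by rw [Submodule.comap_id]; exact hK n)) ∘ₗ
      (LinearMap.quotKerEquivRange (limit.π X (op (K n))).hom).symm.toLinearMap
  let c : ∀ n, Mx X (m n) →ₗ[A] ↥(LinearMap.range (limit.π X (op (K n))).hom) := fun n =>
    LinearMap.codRestrict _ (trm X (hKm n)).hom (fun x => by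
      rw [hD (K n) (m n) le_rfl (hKm n)]
      exact ⟨x, rfl⟩)
  let a' : ∀ n, X.obj (op (m n)) ⟶ (Psys I ↑(limit X)).obj (op n) := fun n =>
    ModuleCat.ofHom (σ n ∘ₗ c n)
  have ha_char : ∀ (n : ℕ) (x : Mx X (m n)) (μ : ↑(limit X)),
      (trm X (hKm n)).hom x = (limit.π X (op (K n))).hom μ → (a' n).hom x = cls I ↑(limit X) n μ := by
    intro n x μ hx
    have e1 : c n x = ⟨(limit.π X (op (K n))).hom μ, ⟨μ, rfl⟩⟩ := Subtype.ext hx
    change σ n (c n x) = _
    rw [e1]
    have e2 := LinearMap.quotKerEquivRange_symm_apply_image (limit.π X (op (K n))).hom μ ⟨μ, rfl⟩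
    simp only [σ, LinearMap.comp_apply, LinearEquiv.coe_coe]
    rw [e2]
    rfl
  have hex : ∀ (n : ℕ) (x : Mx X (m n)), ∃ μ : ↑(limit X),
      (trm X (hKm n)).hom x = (limit.π X (op (K n))).hom μ := by
    intro n x
    have : (trm X (hKm n)).hom x ∈ LinearMap.range (limit.π X (op (K n))).hom := by
      rw [hD (K n) (m n) le_rfl (hKm n)]
      exact ⟨x, rfl⟩
    obtain ⟨μ, hμ⟩ := this
    exact ⟨μ, hμ.symm⟩
  -- naturality
  have hnat_el : ∀ (n : ℕ) (x : Mx X (m (n + 1))),
      (a' n).hom ((trm X (hm (Nat.le_succ n))).hom x) =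
        (trm (Psys I ↑(limit X)) (Nat.le_succ n)).hom ((a' (n + 1)).hom x) := by
    intro n x
    obtain ⟨μ, hμ⟩ := hex (n + 1) x
    have h1 : (a' (n + 1)).hom x = cls I ↑(limit X) (n + 1) μ := ha_char (n + 1) x μ hμ
    have h2 : (trm X (hKm n)).hom ((trm X (hm (Nat.le_succ n))).hom x) =
        (limit.π X (op (K n))).hom μ := by
      rw [trm_trm_apply, ← π_trm_apply X (hKmono (Nat.le_succ n)) μ, ← hμ, trm_trm_apply]
    have h3 : (a' n).hom ((trm X (hm (Nat.le_succ n))).hom x) = cls I ↑(limit X) n μ :=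
      ha_char n _ μ h2
    rw [h3, h1, trm_cls]
  have hnat : ∀ n, (DerCA.reindex X hm).map (homOfLE (n.le_add_right 1)).op ≫ a' n =
      a' (n + 1) ≫ (Psys I ↑(limit X)).map (homOfLE (n.le_add_right 1)).op := by
    intro n
    ext x
    exact hnat_el n x
  let a : DerCA.reindex X hm ⟶ Psys I ↑(limit X) :=
    NatTrans.ofOpSequence (F := DerCA.reindex X hm) (G := Psys I ↑(limit X)) a' hnat
  have ha_app : ∀ n, a.app (op n) = a' n := fun n => rfl
  refine ⟨m, hm, hle, a, fun n => ?_⟩
  -- the maps back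
  have hker : I ^ (m n + 1) • (⊤ : Submodule A ↑(limit X)) ≤ LinearMap.ker (limit.π X (op (m n))).hom := by
    rw [Submodule.smul_le]
    intro r hr μ _
    rw [LinearMap.mem_ker, map_smul]
    exact hkill (m n) r hr _
  let b : (Psys I ↑(limit X)).obj (op (m n)) ⟶ X.obj (op (m n)) :=
    ModuleCat.ofHom (Submodule.liftQ _ (limit.π X (op (m n))).hom hker)
  have hb_cls : ∀ μ : ↑(limit X), b.hom (cls I ↑(limit X) (m n) μ) = (limit.π X (op (m n))).hom μ :=
    fun μ => rfl
  have hb1_el : ∀ x : Mx X (m (m n)), b.hom ((a' (m n)).hom x) = (trm X (hm (hle n))).hom x := by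
    intro x
    obtain ⟨μ, hμ⟩ := hex (m n) x
    have h1 : (a' (m n)).hom x = cls I ↑(limit X) (m n) μ := ha_char (m n) x μ hμ
    rw [h1, hb_cls, ← π_trm_apply X (hKle (m n)) μ, ← hμ, trm_trm_apply]
  have hb2_el : ∀ y : ↑((Psys I ↑(limit X)).obj (op (m n))),
      (a' n).hom (b.hom y) = (trm (Psys I ↑(limit X)) (hle n)).hom y := by
    intro y
    obtain ⟨μ, rfl⟩ := cls_surjective I ↑(limit X) (m n) y
    rw [hb_cls, trm_cls]
    exact ha_char n _ μ (π_trm_apply X (hKm n) μ)
  refine ⟨m n, hle n, b, ?_, ?_⟩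
  · rw [ha_app]
    ext x
    exact hb1_el x
  · rw [ha_app]
    ext y
    exact hb2_el y

end ProIso

section quot

variable {A : Type u} [CommRing A] (I : Ideal A) (M : Type u) [AddCommGroup M] [Module A M]

lemma quotPowTrans_mk (n : ℕ) (μ : M) :
    Formal2.quotPowTrans A I M n (Submodule.Quotient.mk μ) = Submodule.Quotient.mk μ := rfl

lemma quotPowTrans_surjective (n : ℕ) : Function.Surjective (Formal2.quotPowTrans A I M n) := by
  intro y
  obtain ⟨μ, rfl⟩ := Submodule.Quotient.mk_surjective _ y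
  exact ⟨Submodule.Quotient.mk μ, rfl⟩

lemma ker_quotPowTrans (n : ℕ) :
    LinearMap.ker (Formal2.quotPowTrans A I M n) = I ^ (n + 1) • ⊤ := by
  have hmap : (I ^ (n + 1) • ⊤ : Submodule A (Formal2.quotPow A I M (n + 1))) =
      Submodule.map (I ^ (n + 1 + 1) • (⊤ : Submodule A M)).mkQ (I ^ (n + 1) • ⊤) := by
    rw [Submodule.map_smul'', Submodule.map_top, Submodule.range_mkQ]
  ext y
  obtain ⟨μ, rfl⟩ := Submodule.Quotient.mk_surjective _ y
  rw [LinearMap.mem_ker, quotPowTrans_mk, Submodule.Quotient.mk_eq_zero, hmap]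
  constructor
  · intro h
    exact ⟨μ, h, rfl⟩
  · rintro ⟨ν, hν, hνμ⟩
    have h1 : ν - μ ∈ I ^ (n + 1 + 1) • (⊤ : Submodule A M) := by
      rw [← Submodule.Quotient.mk_eq_zero, Submodule.Quotient.mk_sub, sub_eq_zero]
      exact hνμ
    have h2 : ν - μ ∈ I ^ (n + 1) • (⊤ : Submodule A M) :=
      Submodule.smul_mono_left (Ideal.pow_le_pow_right (Nat.le_succ (n + 1))) h1
    have e : μ = ν - (ν - μ) := by abel
    rw [e]
    exact Submodule.sub_mem _ hν h2

end quot

section affine

variable (A : Type u) [CommRing A] (I : Ideal A)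

open Groth.Agent.R2.H17.ComplRestrict Groth.Agent.R2.H17.AffExist Groth.Agent.R2.H17.AlgzExt

/-- `Spec A` over itself through the identity. -/
noncomputable local instance specOverSelf :
    (Spec (CommRingCat.of A)).Over (Spec (CommRingCat.of A)) := ⟨𝟙 _⟩

/-- the system `(M / I^(n+1) M)~` is a coherent formal module on `Spec A` if the quotients are finite. -/
theorem isCohFormal_Psys_tilde (M : Type u) [AddCommGroup M] [Module A M]
    (hfin : ∀ n, Module.Finite A (Formal2.quotPow A I M n)) :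
    Formal.IsCohFormal I (Psys I M ⋙ tilde.functor (CommRingCat.of A)) := by
  refine ⟨fun n => ?_, fun n => ?_, fun n => ?_⟩
  · exact ⟨AlgebraicGeometry.instIsQuasicoherentOpensCarrierCarrierCommRingCatSpecOfCarrierObjModuleCatModulesFunctor
      (R := CommRingCat.of A) (ModuleCat.of A (Formal2.quotPow A I M n)),
      (Groth.Agent.Lib.Helper23.FinType.isFiniteType_tilde_iff (CommRingCat.of A)
        (ModuleCat.of A (Formal2.quotPow A I M n))).2 (hfin n)⟩
  · exact (isQuot_tilde_map (I ^ (n + 1)) (ModuleCat.ofHom (Formal2.quotPowπ A I M n))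
      (Submodule.mkQ_surjective _) (Submodule.ker_mkQ _)).killedBy
  · have h : IsQuot (I ^ (n + 1))
        ((Psys I M ⋙ tilde.functor (CommRingCat.of A)).map (homOfLE (Nat.le_succ n)).op) := by
      rw [Functor.comp_map, Psys_map_succ]
      exact isQuot_tilde_map (I ^ (n + 1)) (ModuleCat.ofHom (Formal2.quotPowTrans A I M n))
        (quotPowTrans_surjective I M n) (ker_quotPowTrans I M n)
    exact h

variable (U : (Spec (CommRingCat.of A)).Opens) (G : ℕᵒᵖ ⥤ (U : Scheme.{u}).Modules)

/-- sections of a module killed by `J` are killed by `J`. -/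
theorem smul_sectMod_eq_zero (J : Ideal A) (N : (U : Scheme.{u}).Modules) (hN : Formal.KilledBy J N) (a : A)
    (ha : a ∈ J)
    (x : ↑((moduleSpecΓFunctor (R := CommRingCat.of A)).obj ((Scheme.Modules.pushforward U.ι).obj N))) :
    a • x = 0 := by
  have hf : U.ι ≫ ((Spec (CommRingCat.of A)) ↘ (Spec (CommRingCat.of A))) =
      (U : Scheme.{u}) ↘ (Spec (CommRingCat.of A)) := Category.comp_id _
  have e1 : (Scheme.Modules.pushforward U.ι).map (Formal.smulMod A N a) =
      Formal.smulMod A ((Scheme.Modules.pushforward U.ι).obj N) a := by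
    rw [Formal.smulMod, Formal.smulMod, Groth.Agent.Lib.Helper20.FormalPull.toGlobal_eq U.ι hf]
    exact Groth.Agent.Lib.Helper20.FormalPull.pushforward_map_smulModΓ U.ι N _
  have e2 := Γ_map_smulMod ((Scheme.Modules.pushforward U.ι).obj N) a
  haveI : (tilde.functor (CommRingCat.of A)).Additive :=
    AlgebraicGeometry.instAdditiveModuleCatCarrierModulesSpecOfFunctor (R := CommRingCat.of A)
  haveI : (moduleSpecΓFunctor (R := CommRingCat.of A)).Additive :=
    (tilde.adjunction (R := CommRingCat.of A)).right_adjoint_additive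
  rw [← e1, hN a ha, Functor.map_zero, Functor.map_zero] at e2
  have := congrArg (fun f => f.hom x) e2
  exact this.symm

/-- finiteness of `M / I^k M` from finiteness of the images and the comparison of topologies. -/
theorem finite_quotPow (X : ℕᵒᵖ ⥤ ModuleCat.{u} A)
    (hb : ∀ k : ℕ, ∃ n : ℕ, LinearMap.ker (limit.π X (op n)).hom ≤ I ^ k • (⊤ : Submodule A ↑(limit X)))
    (hc : ∀ n : ℕ, Module.Finite A ↥(LinearMap.range (limit.π X (op n)).hom)) (n : ℕ) :
    Module.Finite A (Formal2.quotPow A I ↑(limit X) n) := by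
  obtain ⟨N, hN⟩ := hb (n + 1)
  haveI := hc N
  haveI : Module.Finite A (↑(limit X) ⧸ LinearMap.ker (limit.π X (op N)).hom) :=
    Module.Finite.equiv (LinearMap.quotKerEquivRange (limit.π X (op N)).hom).symm
  refine Module.Finite.of_surjective
    (Submodule.mapQ (LinearMap.ker (limit.π X (op N)).hom) (I ^ (n + 1) • ⊤) LinearMap.id
      (by rw [Submodule.comap_id]; exact hN)) ?_
  intro y
  obtain ⟨μ, rfl⟩ := Submodule.Quotient.mk_surjective _ y
  exact ⟨Submodule.Quotient.mk μ, rfl⟩

/-- (4) ⇒ (5): Mittag-Leffler + (limit topology = adic topology) + finite images ⇒ canonical extension. -/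
theorem canonicallyExtends_of_isML (hG : Formal.IsCohFormal I G)
    (ha : ARSys.IsML (Algz.sectMod A U G))
    (hb : ∀ k : ℕ, ∃ n : ℕ, LinearMap.ker (limit.π (Algz.sectMod A U G) (op n)).hom ≤
      I ^ k • (⊤ : Submodule A ↑(limit (Algz.sectMod A U G))))
    (hc : ∀ n : ℕ, Module.Finite A ↥(LinearMap.range (limit.π (Algz.sectMod A U G) (op n)).hom)) :
    Algz.CanonicallyExtends A I U G := by
  have hkill : ∀ (n : ℕ) (a : A), a ∈ I ^ (n + 1) → ∀ x : Mx (Algz.sectMod A U G) n, a • x = 0 :=
    fun n a ha' x => smul_sectMod_eq_zero A U (I ^ (n + 1)) (G.obj (op n)) (hG.2.1 n) a ha' x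
  have hpro := isProIsomorphic_Psys I (Algz.sectMod A U G) ha hb hkill
  have hpro' := isProIsomorphic_comp (tilde.functor (CommRingCat.of A)) hpro
  exact ⟨_, isCohFormal_Psys_tilde A I _ (finite_quotPow A I _ hb hc), hpro'⟩

end affine

end Groth.Agent.R2.H17.CanonExt
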