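import Mathlib
import Groth.Prelude.Def_FSch3
import Groth.Agent.R2.H17Thick

set_option autoImplicit false
universe u

namespace Groth.Agent.R2.H17.Compl

open AlgebraicGeometry CategoryTheory CategoryTheory.Limits
open Groth.Agent.R2.H17.Thick

variable {X : Scheme.{u}}

theorem isClosedImmersion_inclusion {I J : X.IdealSheafData} (h : I ≤ J) :
    IsClosedImmersion (Scheme.IdealSheafData.inclusion h) := by
  have : IsClosedImmersion (Scheme.IdealSheafData.inclusion h ≫ I.subschemeι) := by
    rw [Scheme.IdealSheafData.inclusion_subschemeι]; infer_instance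
  exact IsClosedImmersion.of_comp_isClosedImmersion (Scheme.IdealSheafData.inclusion h) I.subschemeι

theorem ker_inclusion {I J : X.IdealSheafData} (h : I ≤ J) :
    (Scheme.IdealSheafData.inclusion h).ker = J.comap I.subschemeι := by
  have := isClosedImmersion_inclusion h
  rw [← ker_comp_comap (Scheme.IdealSheafData.inclusion h) I.subschemeι,
    Scheme.IdealSheafData.inclusion_subschemeι, Scheme.IdealSheafData.ker_subschemeι]

theorem surjective_inclusion {I J : X.IdealSheafData} (h : I ≤ J) (hs : I.support = J.support) :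
    Function.Surjective (Scheme.IdealSheafData.inclusion h).base := by
  intro y
  have hy : I.subschemeι y ∈ Set.range J.subschemeι := by
    rw [Scheme.IdealSheafData.range_subschemeι, ← hs, ← Scheme.IdealSheafData.range_subschemeι]
    exact ⟨y, rfl⟩
  obtain ⟨x, hx⟩ := hy
  refine ⟨x, ?_⟩
  apply I.subschemeι.isClosedEmbedding.injective
  rw [← hx, ← Scheme.Hom.comp_apply, Scheme.IdealSheafData.inclusion_subschemeι]

section Completion

variable (X) (𝓘 : X.IdealSheafData)

theorem pow_succ_le_pow_one (n : ℕ) : 𝓘 ^ (n + 1) ≤ 𝓘 ^ (0 + 1) :=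
  pow_le_pow_of_le_one bot_le le_top (by omega)

theorem toX_completionAlong (n : ℕ) :
    (FSch.completionAlong X 𝓘).toX n = Scheme.IdealSheafData.inclusion (pow_succ_le_pow_one X 𝓘 n) := by
  induction n with
  | zero => exact (Scheme.IdealSheafData.inclusion_id _).symm
  | succ n ih =>
    exact (congrArg (fun φ => φ ≫ Scheme.IdealSheafData.inclusion (FSch.pow_succ_le X 𝓘 n)) ih).trans
      (Scheme.IdealSheafData.inclusion_comp _ _)

theorem isFormal_completionAlong : (FSch.completionAlong X 𝓘).IsFormal := by
  intro n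
  exact ⟨isClosedImmersion_inclusion _, surjective_inclusion _ (by simp)⟩

theorem isAdic_completionAlong : (FSch.completionAlong X 𝓘).IsAdic := by
  intro n
  rw [toX_completionAlong]
  change (Scheme.IdealSheafData.inclusion (FSch.pow_succ_le X 𝓘 n)).ker =
    (Scheme.IdealSheafData.inclusion (pow_succ_le_pow_one X 𝓘 (n + 1))).ker ^ (n + 1)
  rw [ker_inclusion, ker_inclusion, Groth.Agent.R2.H17.FSchBase.comap_pow, zero_add, pow_one]

theorem isLocallyNoetherian_completionAlong [IsLocallyNoetherian X] (n : ℕ) :
    IsLocallyNoetherian ((FSch.completionAlong X 𝓘).X n) :=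
  have : LocallyOfFiniteType (FSch.completionToX X 𝓘 n) :=
    inferInstanceAs (LocallyOfFiniteType (𝓘 ^ (n + 1)).subschemeι)
  LocallyOfFiniteType.isLocallyNoetherian (FSch.completionToX X 𝓘 n)

theorem isLocNoethFormal_completionAlong [IsLocallyNoetherian X] :
    (FSch.completionAlong X 𝓘).IsLocNoethFormal :=
  ⟨isFormal_completionAlong X 𝓘, isAdic_completionAlong X 𝓘, isLocallyNoetherian_completionAlong X 𝓘⟩

end Completion

end Groth.Agent.R2.H17.Compl
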