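import Mathlib
import Groth.Prelude.Def_FSch3
import Groth.Agent.R2.H17Thick
import Groth.Agent.R2.H17AffDict

/-!
# The levels of the completion of `Spec A` along `J` (helper17)

ns `Groth.Agent.R2.H17.ComplAff`. `Xn A J n`, `lvι A J n : Xn ⟶ Spec A` (closed immersion), `lvψ A J n : A ⟶ Γ(Xn, ⊤)`
(surjective with kernel `J^(n+1)`), `lvι_eq : isoSpec.hom ≫ Spec.map lvψ = lvι`; global sections of the unit
`G → (lvι)_* (lvι)^* G` for quasi-coherent `G` on `Spec A` are `Γ(G) → Γ(G)/J^(n+1)Γ(G)`.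
-/

set_option autoImplicit false
universe u
open CategoryTheory AlgebraicGeometry Limits

namespace Groth.Agent.R2.H17.ComplAff

open Groth.Agent.R2.H17.AffDict

variable (A : Type u) [CommRing A] (J : Ideal A)

/-- the levels of the completion of `Spec A` along `J` -/
noncomputable abbrev Xn (n : ℕ) : Scheme.{u} :=
  (FSch.completionAlong (Spec (CommRingCat.of A)) (FSch.idealSpec A J)).X n

/-- the closed immersions `X_n ⟶ Spec A` -/
noncomputable abbrev lvι (n : ℕ) : Xn A J n ⟶ Spec (CommRingCat.of A) :=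
  FSch.completionToX (Spec (CommRingCat.of A)) (FSch.idealSpec A J) n

instance (n : ℕ) : IsClosedImmersion (lvι A J n) :=
  inferInstanceAs (IsClosedImmersion ((FSch.idealSpec A J ^ (n + 1)).subschemeι))

instance (n : ℕ) : IsAffine (Xn A J n) := isAffine_of_isAffineHom (lvι A J n)

/-- the ring maps `A ⟶ Γ(X_n, ⊤)` -/
noncomputable def lvψ (n : ℕ) : CommRingCat.of A ⟶ Γ(Xn A J n, ⊤) :=
  (Scheme.ΓSpecIso (CommRingCat.of A)).inv ≫ (lvι A J n).appTop

theorem lvι_eq (n : ℕ) : (Xn A J n).isoSpec.hom ≫ Spec.map (lvψ A J n) = lvι A J n := by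
  rw [lvψ, Spec.map_comp, ← Category.assoc, Scheme.isoSpec_hom_naturality, Category.assoc,
    ← Scheme.isoSpec_Spec_inv, Iso.hom_inv_id, Category.comp_id]

theorem idealSpec_ideal_top :
    (FSch.idealSpec A J).ideal ⟨⊤, isAffineOpen_top _⟩ =
      J.comap (Scheme.ΓSpecIso (CommRingCat.of A)).hom.hom := by
  unfold FSch.idealSpec
  rw [Scheme.ker_of_isAffine]
  simp only [Scheme.IdealSheafData.ofIdealTop_ideal]
  have h := Scheme.ΓSpecIso_naturality (CommRingCat.ofHom (Ideal.Quotient.mk J))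
  have hid : ((Spec (CommRingCat.of A)).presheaf.map (homOfLE (le_top : (⊤ : (Spec (CommRingCat.of A)).Opens) ≤ ⊤)).op) = 𝟙 _ :=
    (Spec (CommRingCat.of A)).presheaf.map_id _
  rw [hid]
  change Ideal.map (RingHom.id _) _ = _
  rw [Ideal.map_id]
  ext x
  rw [RingHom.mem_ker, Ideal.mem_comap]
  have h2 := congrArg (fun φ => φ.hom x) h
  simp only [CommRingCat.hom_comp, RingHom.coe_comp, Function.comp_apply, CommRingCat.hom_ofHom] at h2
  rw [← Ideal.Quotient.eq_zero_iff_mem, ← h2]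
  constructor
  · intro hx; rw [hx, map_zero]
  · intro hx
    have hinj : Function.Injective (Scheme.ΓSpecIso (CommRingCat.of (A ⧸ J))).hom.hom :=
      (ConcreteCategory.bijective_of_isIso (Scheme.ΓSpecIso (CommRingCat.of (A ⧸ J))).hom).injective
    apply hinj
    rw [map_zero]
    exact hx

theorem lvψ_surjective (n : ℕ) : Function.Surjective (lvψ A J n).hom := by
  have h1 : Function.Surjective ((lvι A J n).appTop).hom :=
    (FSch.idealSpec A J ^ (n + 1)).subschemeι_app_surjective ⟨⊤, isAffineOpen_top _⟩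
  have h2 : Function.Surjective (Scheme.ΓSpecIso (CommRingCat.of A)).inv.hom :=
    (ConcreteCategory.bijective_of_isIso (Scheme.ΓSpecIso (CommRingCat.of A)).inv).surjective
  rw [lvψ, CommRingCat.hom_comp]
  exact h1.comp h2

theorem ker_lvψ (n : ℕ) : RingHom.ker (lvψ A J n).hom = J ^ (n + 1) := by
  have h1 : RingHom.ker ((lvι A J n).appTop).hom =
      (J.comap (Scheme.ΓSpecIso (CommRingCat.of A)).hom.hom) ^ (n + 1) := by
    rw [← idealSpec_ideal_top, ← Groth.Agent.R2.H17.Thick.ideal_pow_apply]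
    exact (FSch.idealSpec A J ^ (n + 1)).ker_subschemeι_app ⟨⊤, isAffineOpen_top _⟩
  let e : Γ(Spec (CommRingCat.of A), ⊤) ≃+* A := (Scheme.ΓSpecIso (CommRingCat.of A)).commRingCatIsoToRingEquiv
  have he : (Scheme.ΓSpecIso (CommRingCat.of A)).hom.hom = (e : _ →+* _) := rfl
  have he' : (Scheme.ΓSpecIso (CommRingCat.of A)).inv.hom = (e.symm : _ →+* _) := rfl
  rw [lvψ, CommRingCat.hom_comp, ← RingHom.comap_ker, h1, he, he']
  change Ideal.comap e.symm (Ideal.comap e J ^ (n + 1)) = _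
  rw [Ideal.comap_symm, Ideal.map_pow, Ideal.map_comap_of_surjective _ e.surjective]


theorem clUnit_lv_surjective (n : ℕ) (N : ModuleCat.{u} A) :
    Function.Surjective (clUnit (B := CommRingCat.of A) (lvι A J n) N).hom :=
  clUnit_surjective (B := CommRingCat.of A) (lvι A J n) (Xn A J n).isoSpec.hom (lvψ A J n)
    (lvι_eq A J n) (lvψ_surjective A J n) N

theorem clUnit_lv_eq_zero_iff (n : ℕ) (N : ModuleCat.{u} A) (m : N) :
    (clUnit (B := CommRingCat.of A) (lvι A J n) N).hom m = 0 ↔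
      m ∈ J ^ (n + 1) • (⊤ : Submodule A N) := by
  rw [clUnit_eq_zero_iff (B := CommRingCat.of A) (lvι A J n) (Xn A J n).isoSpec.hom (lvψ A J n)
    (lvι_eq A J n) (lvψ_surjective A J n) N m, ker_lvψ]

theorem ΓUnit_lv_surjective (n : ℕ) (G : (Spec (CommRingCat.of A)).Modules) [G.IsQuasicoherent] :
    Function.Surjective (ΓUnit (B := CommRingCat.of A) (lvι A J n) G).hom :=
  ΓUnit_surjective (B := CommRingCat.of A) (lvι A J n) (Xn A J n).isoSpec.hom (lvψ A J n)
    (lvι_eq A J n) (lvψ_surjective A J n) G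

theorem ΓUnit_lv_eq_zero_iff (n : ℕ) (G : (Spec (CommRingCat.of A)).Modules) [G.IsQuasicoherent]
    (m : (moduleSpecΓFunctor (R := CommRingCat.of A)).obj G) :
    (ΓUnit (B := CommRingCat.of A) (lvι A J n) G).hom m = 0 ↔
      m ∈ J ^ (n + 1) • (⊤ : Submodule A ((moduleSpecΓFunctor (R := CommRingCat.of A)).obj G)) := by
  rw [ΓUnit_eq_zero_iff (B := CommRingCat.of A) (lvι A J n) (Xn A J n).isoSpec.hom (lvψ A J n)
    (lvι_eq A J n) (lvψ_surjective A J n) G m, ker_lvψ]

end Groth.Agent.R2.H17.ComplAff
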