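import Mathlib
import Groth.Prelude.Def_FSch3
import Groth.Agent.R2.H17AffDict

/-!
# Transition maps of direct images for systems of modules on a completion (helper17)

ns `Groth.Agent.R2.H17.ComplTrans`. Abstractly, for `ι : Z₀ ⟶ Z₁`, `i₁ : Z₁ ⟶ X`, `i₀ : Z₀ ⟶ X`, `h : ι ≫ i₁ = i₀`:
* `transIso ι i₁ i₀ h : i₁^* ⋙ ι^* ≅ i₀^*`, `rho ι i₁ i₀ h H : (i₁)_* H ⟶ (i₀)_* ι^* H` (natural in `H`);
* `unit_rho` : the units `G → (i_k)_* i_k^* G` are compatible with `rho` and `transIso`;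
* `adj_comm_iff` : `ι^* φ₁ ≫ e = T_F ≫ φ₀` iff the adjuncts satisfy `a₁ ≫ rho ≫ (i₀)_* e = a₀`.
For `𝔛 = completionAlong X 𝓘`: `iN`, `ι_iN`, `complTransIso_eq`.
-/

set_option autoImplicit false
universe u
open CategoryTheory AlgebraicGeometry Limits

namespace Groth.Agent.R2.H17.ComplTrans

open Groth.Agent.R2.H17.AffDict

theorem unit_map_homEquiv_symm {C D : Type*} [Category C] [Category D] {L : C ⥤ D} {R : D ⥤ C}
    (adj : L ⊣ R) {X : C} {Y : D} (a : X ⟶ R.obj Y) :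
    adj.unit.app X ≫ R.map ((adj.homEquiv X Y).symm a) = a :=
  (Adjunction.homEquiv_unit adj X Y ((adj.homEquiv X Y).symm a)).symm.trans
    (Equiv.apply_symm_apply _ a)

section Congr
variable {X Y : Scheme.{u}}

theorem pushforwardCongr_rfl_hom_app (f : X ⟶ Y) (M : X.Modules) :
    (Scheme.Modules.pushforwardCongr (rfl : f = f)).hom.app M = 𝟙 _ := by
  ext U
  simp

theorem unit_congr {f g : X ⟶ Y} (h : f = g) (G : Y.Modules) :
    (Scheme.Modules.pullbackPushforwardAdjunction f).unit.app G ≫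
      (Scheme.Modules.pushforwardCongr h).hom.app _ ≫
      (Scheme.Modules.pushforward g).map ((Scheme.Modules.pullbackCongr h).hom.app G) =
    (Scheme.Modules.pullbackPushforwardAdjunction g).unit.app G := by
  subst h
  rw [pushforwardCongr_rfl_hom_app]
  simp [Scheme.Modules.pullbackCongr]

end Congr

section Abstract
variable {Z₀ Z₁ X : Scheme.{u}} (ι : Z₀ ⟶ Z₁) (i₁ : Z₁ ⟶ X) (i₀ : Z₀ ⟶ X) (h : ι ≫ i₁ = i₀)

/-- `i₁^* ⋙ ι^* ≅ i₀^*`. -/
noncomputable def transIso :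
    Scheme.Modules.pullback i₁ ⋙ Scheme.Modules.pullback ι ≅ Scheme.Modules.pullback i₀ :=
  Scheme.Modules.pullbackComp ι i₁ ≪≫ Scheme.Modules.pullbackCongr h

/-- `(i₁)_* H ⟶ (i₀)_* ι^* H`. -/
noncomputable def rho (H : Z₁.Modules) :
    (Scheme.Modules.pushforward i₁).obj H ⟶
      (Scheme.Modules.pushforward i₀).obj ((Scheme.Modules.pullback ι).obj H) :=
  (Scheme.Modules.pushforward i₁).map
      ((Scheme.Modules.pullbackPushforwardAdjunction ι).unit.app H) ≫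
    (Scheme.Modules.pushforwardComp ι i₁).hom.app ((Scheme.Modules.pullback ι).obj H) ≫
    (Scheme.Modules.pushforwardCongr h).hom.app ((Scheme.Modules.pullback ι).obj H)

theorem rho_naturality {H H' : Z₁.Modules} (f : H ⟶ H') :
    (Scheme.Modules.pushforward i₁).map f ≫ rho ι i₁ i₀ h H' =
      rho ι i₁ i₀ h H ≫ (Scheme.Modules.pushforward i₀).map ((Scheme.Modules.pullback ι).map f) := by
  unfold rho
  have h1 := (Scheme.Modules.pullbackPushforwardAdjunction ι).unit.naturality f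
  have h2 := (Scheme.Modules.pushforwardComp ι i₁).hom.naturality ((Scheme.Modules.pullback ι).map f)
  have h3 := (Scheme.Modules.pushforwardCongr h).hom.naturality ((Scheme.Modules.pullback ι).map f)
  simp only [Functor.id_obj, Functor.id_map, Functor.comp_obj, Functor.comp_map] at h1 h2 h3
  rw [← Category.assoc, ← Functor.map_comp, h1, Functor.map_comp, Category.assoc, Category.assoc,
    Category.assoc, ← h3, ← Category.assoc ((Scheme.Modules.pushforwardComp _ _).hom.app _), ← h2,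
    Category.assoc]

theorem unit_rho (G : X.Modules) :
    (Scheme.Modules.pullbackPushforwardAdjunction i₁).unit.app G ≫
      rho ι i₁ i₀ h ((Scheme.Modules.pullback i₁).obj G) ≫
      (Scheme.Modules.pushforward i₀).map ((transIso ι i₁ i₀ h).hom.app G) =
    (Scheme.Modules.pullbackPushforwardAdjunction i₀).unit.app G := by
  have h1 := unit_comp ι i₁ G
  have h2 := unit_congr h G
  have h3 := (Scheme.Modules.pushforwardCongr h).hom.naturality
    ((Scheme.Modules.pullbackComp ι i₁).inv.app G)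
  simp only [Functor.comp_obj] at h3
  rw [← h2]
  unfold rho transIso
  simp only [Iso.trans_hom, NatTrans.comp_app, Functor.map_comp, Category.assoc]
  rw [reassoc_of% h1, reassoc_of% h3, ← Functor.map_comp_assoc, Iso.inv_hom_id_app,
    CategoryTheory.Functor.map_id, Category.id_comp]

/-- Compatibility with the transition isomorphisms, in terms of adjuncts. -/
theorem adj_comm_iff (F : X.Modules) {H₁ : Z₁.Modules} {H₀ : Z₀.Modules}
    (e : (Scheme.Modules.pullback ι).obj H₁ ⟶ H₀)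
    (φ₁ : (Scheme.Modules.pullback i₁).obj F ⟶ H₁) (φ₀ : (Scheme.Modules.pullback i₀).obj F ⟶ H₀) :
    (Scheme.Modules.pullback ι).map φ₁ ≫ e = (transIso ι i₁ i₀ h).hom.app F ≫ φ₀ ↔
      ((Scheme.Modules.pullbackPushforwardAdjunction i₁).unit.app F ≫
          (Scheme.Modules.pushforward i₁).map φ₁) ≫
        rho ι i₁ i₀ h H₁ ≫ (Scheme.Modules.pushforward i₀).map e =
      (Scheme.Modules.pullbackPushforwardAdjunction i₀).unit.app F ≫
        (Scheme.Modules.pushforward i₀).map φ₀ := by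
  have key : ((Scheme.Modules.pullbackPushforwardAdjunction i₁).unit.app F ≫
          (Scheme.Modules.pushforward i₁).map φ₁) ≫
        rho ι i₁ i₀ h H₁ ≫ (Scheme.Modules.pushforward i₀).map e =
      (Scheme.Modules.pullbackPushforwardAdjunction i₀).unit.app F ≫
        (Scheme.Modules.pushforward i₀).map ((transIso ι i₁ i₀ h).inv.app F ≫
          (Scheme.Modules.pullback ι).map φ₁ ≫ e) := by
    rw [← unit_rho ι i₁ i₀ h F]
    simp only [Category.assoc, Functor.map_comp]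
    rw [reassoc_of% (rho_naturality ι i₁ i₀ h φ₁), ← Functor.map_comp_assoc, Iso.hom_inv_id_app]
    erw [CategoryTheory.Functor.map_id, Category.id_comp]
  rw [key]
  constructor
  · intro hh
    rw [hh, Iso.inv_hom_id_app_assoc]
  · intro hh
    have h4 := ((Scheme.Modules.pullbackPushforwardAdjunction i₀).homEquiv F H₀).injective
      (a₁ := (transIso ι i₁ i₀ h).inv.app F ≫ (Scheme.Modules.pullback ι).map φ₁ ≫ e) (a₂ := φ₀)
      (by rw [Adjunction.homEquiv_unit, Adjunction.homEquiv_unit]; exact hh)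
    rw [← h4, Iso.hom_inv_id_app_assoc]

/-- the comparison `i₀^* (i₁)_* H₁ ⟶ H₀` induced by `e : ι^* H₁ ⟶ H₀`. -/
noncomputable def beta {H₁ : Z₁.Modules} {H₀ : Z₀.Modules}
    (e : (Scheme.Modules.pullback ι).obj H₁ ⟶ H₀) :
    (Scheme.Modules.pullback i₀).obj ((Scheme.Modules.pushforward i₁).obj H₁) ⟶ H₀ :=
  (transIso ι i₁ i₀ h).inv.app ((Scheme.Modules.pushforward i₁).obj H₁) ≫
    (Scheme.Modules.pullback ι).map ((Scheme.Modules.pullbackPushforwardAdjunction i₁).counit.app H₁) ≫ e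

instance isIso_beta {H₁ : Z₁.Modules} {H₀ : Z₀.Modules}
    (e : (Scheme.Modules.pullback ι).obj H₁ ⟶ H₀) [IsIso e]
    [IsIso ((Scheme.Modules.pullbackPushforwardAdjunction i₁).counit.app H₁)] :
    IsIso (beta ι i₁ i₀ h e) := by
  unfold beta
  infer_instance

theorem rho_comp_eq {H₁ : Z₁.Modules} {H₀ : Z₀.Modules}
    (e : (Scheme.Modules.pullback ι).obj H₁ ⟶ H₀) :
    rho ι i₁ i₀ h H₁ ≫ (Scheme.Modules.pushforward i₀).map e =
      (Scheme.Modules.pullbackPushforwardAdjunction i₀).unit.app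
          ((Scheme.Modules.pushforward i₁).obj H₁) ≫
        (Scheme.Modules.pushforward i₀).map (beta ι i₁ i₀ h e) := by
  have h1 : (Scheme.Modules.pullback ι).map
        ((Scheme.Modules.pullbackPushforwardAdjunction i₁).counit.app H₁) ≫ e =
      (transIso ι i₁ i₀ h).hom.app ((Scheme.Modules.pushforward i₁).obj H₁) ≫ beta ι i₁ i₀ h e := by
    unfold beta
    rw [Iso.hom_inv_id_app_assoc]
  have h2 := (adj_comm_iff ι i₁ i₀ h ((Scheme.Modules.pushforward i₁).obj H₁) e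
    ((Scheme.Modules.pullbackPushforwardAdjunction i₁).counit.app H₁) (beta ι i₁ i₀ h e)).mp h1
  have h3 := (Scheme.Modules.pullbackPushforwardAdjunction i₁).right_triangle_components H₁
  rw [← h2]
  refine ((Category.id_comp _).symm.trans ?_)
  exact congrArg (· ≫ rho ι i₁ i₀ h H₁ ≫ (Scheme.Modules.pushforward i₀).map e) h3.symm

end Abstract

section SysIso
variable {𝔛 : FSch.Sys.{u}} {𝔐 𝔑 : FSch.ModSys 𝔛}

/-- a morphism of systems of modules which is an isomorphism on every level is an isomorphism. -/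
theorem isIso_of_isIso_app (φ : 𝔐 ⟶ 𝔑) (hφ : ∀ n, IsIso (φ.app n)) : IsIso φ := by
  have hc : ∀ n, (Scheme.Modules.pullback (𝔛.ι n)).map (inv (φ.app (n + 1))) ≫ (𝔐.e n).hom =
      (𝔑.e n).hom ≫ inv (φ.app n) := by
    intro n
    rw [IsIso.eq_comp_inv, Category.assoc, ← φ.comm n, ← Category.assoc, ← Functor.map_comp,
      IsIso.inv_hom_id, CategoryTheory.Functor.map_id, Category.id_comp]
  refine ⟨⟨FSch.ModSys.Hom.mk (fun n => inv (φ.app n)) hc, ?_, ?_⟩⟩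
  · apply FSch.ModSys.Hom.ext
    funext n
    exact IsIso.hom_inv_id (φ.app n)
  · apply FSch.ModSys.Hom.ext
    funext n
    exact IsIso.inv_hom_id (φ.app n)

end SysIso

section Trans
variable {X : Scheme.{u}} (𝓘 : X.IdealSheafData)

/-- the closed immersions `X_n ⟶ X`. -/
noncomputable abbrev iN (n : ℕ) : (FSch.completionAlong X 𝓘).X n ⟶ X := FSch.completionToX X 𝓘 n

instance isClosedImmersion_iN (n : ℕ) : IsClosedImmersion (iN 𝓘 n) :=
  inferInstanceAs (IsClosedImmersion ((𝓘 ^ (n + 1)).subschemeι))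

theorem ι_iN (n : ℕ) : (FSch.completionAlong X 𝓘).ι n ≫ iN 𝓘 (n + 1) = iN 𝓘 n :=
  Scheme.IdealSheafData.inclusion_subschemeι (FSch.pow_succ_le X 𝓘 n)

theorem complTransIso_eq (n : ℕ) :
    FSch.complTransIso 𝓘 n =
      transIso ((FSch.completionAlong X 𝓘).ι n) (iN 𝓘 (n + 1)) (iN 𝓘 n) (ι_iN 𝓘 n) := rfl

/-- the transition `(i_{n+1})_* F_{n+1} ⟶ (i_n)_* F_n` of a system of modules. -/
noncomputable def tSys (𝔑 : FSch.ModSys (FSch.completionAlong X 𝓘)) (n : ℕ) :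
    (Scheme.Modules.pushforward (iN 𝓘 (n + 1))).obj (𝔑.F (n + 1)) ⟶
      (Scheme.Modules.pushforward (iN 𝓘 n)).obj (𝔑.F n) :=
  rho ((FSch.completionAlong X 𝓘).ι n) (iN 𝓘 (n + 1)) (iN 𝓘 n) (ι_iN 𝓘 n) (𝔑.F (n + 1)) ≫
    (Scheme.Modules.pushforward (iN 𝓘 n)).map (𝔑.e n).hom

theorem complMod_e_hom (G : X.Modules) (n : ℕ) :
    ((FSch.complMod 𝓘 G).e n).hom =
      (transIso ((FSch.completionAlong X 𝓘).ι n) (iN 𝓘 (n + 1)) (iN 𝓘 n) (ι_iN 𝓘 n)).hom.app G := by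
  rw [FSch.complMod_e, Iso.app_hom, complTransIso_eq]

theorem unit_tSys (G : X.Modules) (n : ℕ) :
    (Scheme.Modules.pullbackPushforwardAdjunction (iN 𝓘 (n + 1))).unit.app G ≫
        tSys 𝓘 (FSch.complMod 𝓘 G) n =
      (Scheme.Modules.pullbackPushforwardAdjunction (iN 𝓘 n)).unit.app G := by
  unfold tSys
  rw [complMod_e_hom]
  exact unit_rho ((FSch.completionAlong X 𝓘).ι n) (iN 𝓘 (n + 1)) (iN 𝓘 n) (ι_iN 𝓘 n) G

theorem tSys_eq (𝔑 : FSch.ModSys (FSch.completionAlong X 𝓘)) (n : ℕ) :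
    tSys 𝓘 𝔑 n =
      (Scheme.Modules.pullbackPushforwardAdjunction (iN 𝓘 n)).unit.app
          ((Scheme.Modules.pushforward (iN 𝓘 (n + 1))).obj (𝔑.F (n + 1))) ≫
        (Scheme.Modules.pushforward (iN 𝓘 n)).map
          (beta ((FSch.completionAlong X 𝓘).ι n) (iN 𝓘 (n + 1)) (iN 𝓘 n) (ι_iN 𝓘 n) (𝔑.e n).hom) :=
  rho_comp_eq ((FSch.completionAlong X 𝓘).ι n) (iN 𝓘 (n + 1)) (iN 𝓘 n) (ι_iN 𝓘 n) (𝔑.e n).hom

variable {𝓘} in
/-- the adjunct of the `n`-th component of a morphism of systems out of `F^Δ`. -/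
noncomputable def aφ {F : X.Modules} {𝔑 : FSch.ModSys (FSch.completionAlong X 𝓘)}
    (φ : FSch.complMod 𝓘 F ⟶ 𝔑) (n : ℕ) :
    F ⟶ (Scheme.Modules.pushforward (iN 𝓘 n)).obj (𝔑.F n) :=
  (Scheme.Modules.pullbackPushforwardAdjunction (iN 𝓘 n)).unit.app F ≫
    (Scheme.Modules.pushforward (iN 𝓘 n)).map (φ.app n)

variable {𝓘} in
theorem aφ_tSys {F : X.Modules} {𝔑 : FSch.ModSys (FSch.completionAlong X 𝓘)}
    (φ : FSch.complMod 𝓘 F ⟶ 𝔑) (n : ℕ) :
    aφ φ (n + 1) ≫ tSys 𝓘 𝔑 n = aφ φ n := by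
  have h := φ.comm n
  rw [complMod_e_hom] at h
  unfold aφ tSys
  exact (adj_comm_iff ((FSch.completionAlong X 𝓘).ι n) (iN 𝓘 (n + 1)) (iN 𝓘 n) (ι_iN 𝓘 n) F
    (𝔑.e n).hom (φ.app (n + 1)) (φ.app n)).mp h

variable {𝓘} in
theorem ofAdjuncts_comm {F : X.Modules} {𝔑 : FSch.ModSys (FSch.completionAlong X 𝓘)}
    (a : ∀ n, F ⟶ (Scheme.Modules.pushforward (iN 𝓘 n)).obj (𝔑.F n))
    (ha : ∀ n, a (n + 1) ≫ tSys 𝓘 𝔑 n = a n) (n : ℕ) :
    (Scheme.Modules.pullback ((FSch.completionAlong X 𝓘).ι n)).map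
        (((Scheme.Modules.pullbackPushforwardAdjunction (iN 𝓘 (n + 1))).homEquiv F (𝔑.F (n + 1))).symm
          (a (n + 1))) ≫ (𝔑.e n).hom =
      ((FSch.complMod 𝓘 F).e n).hom ≫
        ((Scheme.Modules.pullbackPushforwardAdjunction (iN 𝓘 n)).homEquiv F (𝔑.F n)).symm (a n) := by
  rw [complMod_e_hom]
  refine (adj_comm_iff ((FSch.completionAlong X 𝓘).ι n) (iN 𝓘 (n + 1)) (iN 𝓘 n) (ι_iN 𝓘 n) F
    (𝔑.e n).hom _ _).mpr ?_
  have h1 := unit_map_homEquiv_symm (Scheme.Modules.pullbackPushforwardAdjunction (iN 𝓘 (n + 1)))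
    (a (n + 1))
  have h2 := unit_map_homEquiv_symm (Scheme.Modules.pullbackPushforwardAdjunction (iN 𝓘 n)) (a n)
  refine (congrArg (· ≫ rho ((FSch.completionAlong X 𝓘).ι n) (iN 𝓘 (n + 1)) (iN 𝓘 n) (ι_iN 𝓘 n)
    (𝔑.F (n + 1)) ≫ (Scheme.Modules.pushforward (iN 𝓘 n)).map (𝔑.e n).hom) h1).trans ?_
  exact (ha n).trans h2.symm

variable {𝓘} in
/-- a compatible family of maps `F ⟶ (i_n)_* F_n` defines a morphism of systems `F^Δ ⟶ 𝔑`. -/
noncomputable def ofAdjuncts {F : X.Modules} {𝔑 : FSch.ModSys (FSch.completionAlong X 𝓘)}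
    (a : ∀ n, F ⟶ (Scheme.Modules.pushforward (iN 𝓘 n)).obj (𝔑.F n))
    (ha : ∀ n, a (n + 1) ≫ tSys 𝓘 𝔑 n = a n) : FSch.complMod 𝓘 F ⟶ 𝔑 :=
  FSch.ModSys.Hom.mk
    (fun n => ((Scheme.Modules.pullbackPushforwardAdjunction (iN 𝓘 n)).homEquiv F (𝔑.F n)).symm (a n))
    (ofAdjuncts_comm a ha)

variable {𝓘} in
theorem ofAdjuncts_app {F : X.Modules} {𝔑 : FSch.ModSys (FSch.completionAlong X 𝓘)}
    (a : ∀ n, F ⟶ (Scheme.Modules.pushforward (iN 𝓘 n)).obj (𝔑.F n))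
    (ha : ∀ n, a (n + 1) ≫ tSys 𝓘 𝔑 n = a n) (n : ℕ) :
    (ofAdjuncts a ha).app n =
      ((Scheme.Modules.pullbackPushforwardAdjunction (iN 𝓘 n)).homEquiv F (𝔑.F n)).symm (a n) := rfl

variable {𝓘} in
theorem aφ_ofAdjuncts {F : X.Modules} {𝔑 : FSch.ModSys (FSch.completionAlong X 𝓘)}
    (a : ∀ n, F ⟶ (Scheme.Modules.pushforward (iN 𝓘 n)).obj (𝔑.F n))
    (ha : ∀ n, a (n + 1) ≫ tSys 𝓘 𝔑 n = a n) (n : ℕ) : aφ (ofAdjuncts a ha) n = a n := by
  unfold aφ
  rw [ofAdjuncts_app]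
  exact unit_map_homEquiv_symm (Scheme.Modules.pullbackPushforwardAdjunction (iN 𝓘 n)) (a n)

variable {𝓘} in
theorem hom_ext_of_aφ {F : X.Modules} {𝔑 : FSch.ModSys (FSch.completionAlong X 𝓘)}
    (φ ψ : FSch.complMod 𝓘 F ⟶ 𝔑) (hφ : ∀ n, aφ φ n = aφ ψ n) : φ = ψ := by
  apply FSch.ModSys.Hom.ext
  funext n
  apply ((Scheme.Modules.pullbackPushforwardAdjunction (iN 𝓘 n)).homEquiv F (𝔑.F n)).injective
  erw [Adjunction.homEquiv_unit, Adjunction.homEquiv_unit]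
  exact hφ n

variable {𝓘} in
theorem aφ_complModMap {F G : X.Modules} (f : F ⟶ G) (n : ℕ) :
    aφ (FSch.complModMap 𝓘 f) n =
      f ≫ (Scheme.Modules.pullbackPushforwardAdjunction (iN 𝓘 n)).unit.app G := by
  unfold aφ
  rw [FSch.complModMap_app]
  exact ((Scheme.Modules.pullbackPushforwardAdjunction (iN 𝓘 n)).unit.naturality f).symm

end Trans

end Groth.Agent.R2.H17.ComplTrans
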