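import Mathlib
import Groth.Prelude.Def_FSch3
import Groth.Agent.R2.H17ComplTrans

/-!
# Global sections of systems of modules on a completion (helper17)

ns `Groth.Agent.R2.H17.ComplHom`. Generic setting: a scheme `X`, an ideal sheaf `𝓘`, an adjunction `T ⊣ Γ`
between a category `D` and `X.Modules` (in applications `X = Spec A`, `T = ~`, `Γ` = global sections).
For a system of modules `𝔑` on `completionAlong X 𝓘`:
* `ΓSys Γ 𝔑 n = Γ((i_n)_* 𝔑_n)`, `rSys Γ 𝔑 n : ΓSys Γ 𝔑 (n+1) ⟶ ΓSys Γ 𝔑 n`;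
* for `φ : (T M)^Δ ⟶ 𝔑`: `αφ adj φ n : M ⟶ ΓSys Γ 𝔑 n`, `αφ_rSys`, `hom_ext_of_αφ`;
* `ofα adj π hπ : (T M)^Δ ⟶ 𝔑` for a compatible family `π n : M ⟶ ΓSys Γ 𝔑 n`, `αφ_ofα`;
* `pN adj N n : N ⟶ ΓSys Γ ((T N)^Δ) n`, `pN_rSys`, `αφ_complModMap : αφ (u^Δ) n = u ≫ pN N n`,
  `αφ_eq_pN_comp : αφ φ n = pN M n ≫ Γ((i_n)_* φ_n)`.
-/

set_option autoImplicit false
universe u
open CategoryTheory AlgebraicGeometry Limits

namespace Groth.Agent.R2.H17.ComplHom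

open Groth.Agent.R2.H17.AffDict Groth.Agent.R2.H17.ComplTrans

theorem comp_map_eq {C D : Type*} [Category C] [Category D] (Γ : C ⥤ D) {M : D} {X Y Z : C}
    (η : M ⟶ Γ.obj X) (a : X ⟶ Y) (t : Y ⟶ Z) (b : X ⟶ Z) (h : a ≫ t = b) :
    (η ≫ Γ.map a) ≫ Γ.map t = η ≫ Γ.map b := by
  rw [Category.assoc, ← Γ.map_comp, h]

section Generic
variable {X : Scheme.{u}} {𝓘 : X.IdealSheafData} {D : Type*} [Category D]
  {T : D ⥤ X.Modules} {Γ : X.Modules ⥤ D} (adj : T ⊣ Γ)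

/-- `Γ((i_n)_* 𝔑_n)`. -/
noncomputable abbrev ΓSys (Γ : X.Modules ⥤ D) (𝔑 : FSch.ModSys (FSch.completionAlong X 𝓘)) (n : ℕ) : D :=
  Γ.obj ((Scheme.Modules.pushforward (iN 𝓘 n)).obj (𝔑.F n))

/-- `Γ` of the transition map. -/
noncomputable def rSys (Γ : X.Modules ⥤ D) (𝔑 : FSch.ModSys (FSch.completionAlong X 𝓘)) (n : ℕ) :
    ΓSys Γ 𝔑 (n + 1) ⟶ ΓSys Γ 𝔑 n :=
  Γ.map (tSys 𝓘 𝔑 n)

/-- global sections of the adjuncts of the components of a morphism of systems `(T M)^Δ ⟶ 𝔑`. -/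
noncomputable def αφ {M : D} {𝔑 : FSch.ModSys (FSch.completionAlong X 𝓘)}
    (φ : FSch.complMod 𝓘 (T.obj M) ⟶ 𝔑) (n : ℕ) : M ⟶ ΓSys Γ 𝔑 n :=
  adj.unit.app M ≫ Γ.map (aφ φ n)

theorem αφ_rSys {M : D} {𝔑 : FSch.ModSys (FSch.completionAlong X 𝓘)}
    (φ : FSch.complMod 𝓘 (T.obj M) ⟶ 𝔑) (n : ℕ) :
    αφ adj φ (n + 1) ≫ rSys Γ 𝔑 n = αφ adj φ n :=
  comp_map_eq Γ _ _ _ _ (aφ_tSys φ n)

theorem hom_ext_of_αφ {M : D} {𝔑 : FSch.ModSys (FSch.completionAlong X 𝓘)}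
    (φ ψ : FSch.complMod 𝓘 (T.obj M) ⟶ 𝔑) (h : ∀ n, αφ adj φ n = αφ adj ψ n) : φ = ψ := by
  apply hom_ext_of_aφ
  intro n
  apply (adj.homEquiv M _).injective
  exact (Adjunction.homEquiv_unit adj M _ _).trans ((h n).trans
    (Adjunction.homEquiv_unit adj M _ _).symm)

theorem ofα_aux {M : D} {𝔑 : FSch.ModSys (FSch.completionAlong X 𝓘)}
    (π : ∀ n, M ⟶ ΓSys Γ 𝔑 n) (hπ : ∀ n, π (n + 1) ≫ rSys Γ 𝔑 n = π n) (n : ℕ) :
    (adj.homEquiv M _).symm (π (n + 1)) ≫ tSys 𝓘 𝔑 n = (adj.homEquiv M _).symm (π n) := by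
  apply (adj.homEquiv M _).injective
  rw [Equiv.apply_symm_apply, Adjunction.homEquiv_naturality_right, Equiv.apply_symm_apply]
  exact hπ n

/-- a compatible family `π n : M ⟶ Γ((i_n)_* 𝔑_n)` defines a morphism of systems `(T M)^Δ ⟶ 𝔑`. -/
noncomputable def ofα {M : D} {𝔑 : FSch.ModSys (FSch.completionAlong X 𝓘)}
    (π : ∀ n, M ⟶ ΓSys Γ 𝔑 n) (hπ : ∀ n, π (n + 1) ≫ rSys Γ 𝔑 n = π n) :
    FSch.complMod 𝓘 (T.obj M) ⟶ 𝔑 :=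
  ofAdjuncts (fun n => (adj.homEquiv M _).symm (π n)) (ofα_aux adj π hπ)

theorem αφ_ofα {M : D} {𝔑 : FSch.ModSys (FSch.completionAlong X 𝓘)}
    (π : ∀ n, M ⟶ ΓSys Γ 𝔑 n) (hπ : ∀ n, π (n + 1) ≫ rSys Γ 𝔑 n = π n) (n : ℕ) :
    αφ adj (ofα adj π hπ) n = π n := by
  unfold αφ ofα
  rw [aφ_ofAdjuncts]
  exact unit_map_homEquiv_symm adj (π n)

/-- `N ⟶ Γ((i_n)_* i_n^* (T N))`. -/
noncomputable def pN (N : D) (n : ℕ) : N ⟶ ΓSys Γ (FSch.complMod 𝓘 (T.obj N)) n :=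
  αφ adj (𝟙 (FSch.complMod 𝓘 (T.obj N))) n

theorem pN_rSys (N : D) (n : ℕ) :
    pN adj N (n + 1) ≫ rSys Γ (FSch.complMod 𝓘 (T.obj N)) n = pN (𝓘 := 𝓘) adj N n :=
  αφ_rSys adj _ n

theorem pN_eq (N : D) (n : ℕ) :
    pN (𝓘 := 𝓘) adj N n = adj.unit.app N ≫
      Γ.map ((Scheme.Modules.pullbackPushforwardAdjunction (iN 𝓘 n)).unit.app (T.obj N)) := by
  unfold pN αφ aφ
  refine congrArg (_ ≫ ·) (congrArg Γ.map ?_)
  have h : (Scheme.Modules.pushforward (iN 𝓘 n)).map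
      ((𝟙 (FSch.complMod 𝓘 (T.obj N)) : FSch.complMod 𝓘 (T.obj N) ⟶ _).app n) = 𝟙 _ :=
    CategoryTheory.Functor.map_id _ _
  exact (congrArg ((Scheme.Modules.pullbackPushforwardAdjunction (iN 𝓘 n)).unit.app (T.obj N) ≫ ·)
    h).trans (Category.comp_id _)

theorem αφ_comp {M N : D} {𝔑 : FSch.ModSys (FSch.completionAlong X 𝓘)} (u : M ⟶ N)
    (φ : FSch.complMod 𝓘 (T.obj N) ⟶ 𝔑) (n : ℕ) :
    αφ adj (FSch.complModMap 𝓘 (T.map u) ≫ φ) n = u ≫ αφ adj φ n := by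
  have h1 := adj.unit.naturality u
  have h2 := (Scheme.Modules.pullbackPushforwardAdjunction (iN 𝓘 n)).unit.naturality (T.map u)
  simp only [Functor.id_obj, Functor.id_map, Functor.comp_obj, Functor.comp_map] at h1 h2
  have h3 : (FSch.complModMap 𝓘 (T.map u) ≫ φ).app n =
      (Scheme.Modules.pullback (iN 𝓘 n)).map (T.map u) ≫ φ.app n := rfl
  unfold αφ aφ
  rw [h3, ← Category.assoc u, h1, Category.assoc, ← Γ.map_comp, ← Category.assoc (T.map u), h2,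
    Category.assoc]
  refine congrArg (_ ≫ ·) (congrArg Γ.map (congrArg (_ ≫ ·) ?_))
  exact CategoryTheory.Functor.map_comp _ _ _

theorem αφ_complModMap {M N : D} (u : M ⟶ N) (n : ℕ) :
    αφ adj (FSch.complModMap 𝓘 (T.map u)) n = u ≫ pN adj N n := by
  have h := αφ_comp adj u (𝟙 (FSch.complMod 𝓘 (T.obj N))) n
  rw [Category.comp_id] at h
  exact h

theorem αφ_eq_pN_comp {M : D} {𝔑 : FSch.ModSys (FSch.completionAlong X 𝓘)}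
    (φ : FSch.complMod 𝓘 (T.obj M) ⟶ 𝔑) (n : ℕ) :
    αφ adj φ n = pN adj M n ≫ Γ.map ((Scheme.Modules.pushforward (iN 𝓘 n)).map (φ.app n)) := by
  rw [pN_eq]
  unfold αφ aφ
  exact (comp_map_eq Γ _ _ _ _ rfl).symm

end Generic

end Groth.Agent.R2.H17.ComplHom
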