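import Mathlib
import Groth.Prelude.Def_FSch3
import Groth.Agent.R2.H17ComplAff
import Groth.Agent.R2.H17ComplHom

/-!
# Systems of modules on the completion of `Spec A` along `J`: the affine dictionary (helper17)

ns `Groth.Agent.R2.H17.ComplSpec`. Specialisation of `H17ComplHom` to `X = Spec A`, `T = ~`, `Γ` = global sections:
`pN_surjective`, `pN_eq_zero_iff`.
-/

set_option autoImplicit false
universe u
open CategoryTheory AlgebraicGeometry Limits

namespace Groth.Agent.R2.H17.ComplSpec

open Groth.Agent.R2.H17.AffDict Groth.Agent.R2.H17.ComplAff Groth.Agent.R2.H17.ComplTrans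
  Groth.Agent.R2.H17.ComplHom

variable (A : Type u) [CommRing A] (J : Ideal A)

theorem pN_surjective (N : ModuleCat.{u} A) (n : ℕ) :
    Function.Surjective (pN (𝓘 := FSch.idealSpec A J) (tilde.adjunction (R := CommRingCat.of A)) N n).hom := by
  rw [pN_eq]
  exact clUnit_lv_surjective A J n N

theorem pN_eq_zero_iff (N : ModuleCat.{u} A) (n : ℕ) (m : N) :
    (pN (𝓘 := FSch.idealSpec A J) (tilde.adjunction (R := CommRingCat.of A)) N n).hom m = 0 ↔
      m ∈ J ^ (n + 1) • (⊤ : Submodule A N) := by
  rw [pN_eq]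
  exact clUnit_lv_eq_zero_iff A J n N m

end Groth.Agent.R2.H17.ComplSpec
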