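import Mathlib
import Groth.Agent.Lib.Helper1PT4
import Groth.Agent.R2.H16ClosedImmAdj
set_option backward.isDefEq.respectTransparency.types false

/-!
# Closed immersions and `O`-modules (helper54)

For a closed immersion `i : X ⟶ P` of schemes:

* `psi` : the comparison of stalks `(i_* M)_{i x} → M_x`, bijective and semilinear over the stalk map;
* `subsingleton_stalk_push` : `(i_* M)_p = 0` for `p` outside the image;
* `isIso_unit_of` : the unit `N ⟶ i_* i^* N` is an isomorphism as soon as the stalks of `N` vanish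
  outside the image and are killed by the kernel of the stalk maps at points of the image;
* `isIso_counit`, `fullyFaithfulPush` : `i_*` is fully faithful;
* `isIso_unit_tensor_push` : the unit is an isomorphism on `H ⊗ i_* E`;
* `pfIso` : the projection formula `H ⊗ i_* E ≅ i_* (i^* H ⊗ E)`, naturally in `H`.
-/

set_option autoImplicit false
set_option linter.style.haveILetI false
universe u
open CategoryTheory CategoryTheory.Limits AlgebraicGeometry TopologicalSpace Opposite
  MonoidalCategory TensorProduct

namespace Groth.Agent.R2.H54.ClosedImm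

open Groth.Agent.Lib.Helper1 Groth.Agent.Lib.Helper1.Sky Groth.Agent.Lib.Helper1.StalkTensor
  Groth.Agent.Lib.Helper21.ModTensor2 Groth.Agent.Lib.Helper1.KBC Groth.Agent.Lib.Helper1.PT

variable {X P : Scheme.{u}} (i : X ⟶ P)

section stalk

variable (M : X.Modules) (x : X)

/-- the comparison of stalks `(i_* M)_{i x} → M_x` -/
noncomputable def psi : St (toPM ((psh i).obj M)) (i x) →+ St (toPM M) x :=
  (TopCat.Presheaf.stalkPushforward AddCommGrpCat i.base (toPM M).presheaf x).hom

lemma psi_gm (V : P.Opens) (hV : i x ∈ V) (s : (toPM M).obj (op (i ⁻¹ᵁ V))) :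
    psi i M x (gm (toPM ((psh i).obj M)) (i x) V hV s) = gm (toPM M) x (i ⁻¹ᵁ V) hV s :=
  ConcreteCategory.congr_hom
    (TopCat.Presheaf.stalkPushforward_germ AddCommGrpCat i.base (toPM M).presheaf V x hV) s

lemma psi_smul (a : Sky.Ox (i x)) (t : St (toPM ((psh i).obj M)) (i x)) :
    psi i M x (a • t) = (i.stalkMap x).hom a • psi i M x t := by
  obtain ⟨V, hV, c, s, rfl, rfl⟩ := gm_surj_smul a t
  let s' : (toPM M).obj (op (i ⁻¹ᵁ V)) := s
  rw [← gm_smul]
  have h1 : c • s = (show (toPM ((psh i).obj M)).obj (op V) from ((i.app V).hom c • s')) :=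
    psh_smul i M V c s'
  rw [h1, psi_gm, psi_gm, gm_smul]
  congr 1
  exact (Scheme.Hom.germ_stalkMap_apply i V x hV c).symm

lemma psi_bijective [IsClosedImmersion i] : Function.Bijective (psi i M x) := by
  haveI : IsIso (TopCat.Presheaf.stalkPushforward AddCommGrpCat i.base (toPM M).presheaf x) :=
    TopCat.Presheaf.stalkPushforward.stalkPushforward_iso_of_isInducing AddCommGrpCat
      i.isEmbedding.isInducing (toPM M).presheaf x
  exact ConcreteCategory.bijective_of_isIso
    (TopCat.Presheaf.stalkPushforward AddCommGrpCat i.base (toPM M).presheaf x)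

/-- elements of the kernel of the stalk map kill the stalk of `i_* M` -/
lemma smul_eq_zero_of_stalkMap_eq_zero [IsClosedImmersion i] (a : Sky.Ox (i x))
    (ha : (i.stalkMap x).hom a = 0) (t : St (toPM ((psh i).obj M)) (i x)) : a • t = 0 := by
  apply (psi_bijective i M x).1
  rw [psi_smul, ha, zero_smul, map_zero]

/-- sections of a sheaf of modules over the empty open vanish -/
lemma eq_zero_of_eq_bot (U : X.Opens) (hU : U = ⊥) (s : (toPM M).obj (op U)) : s = 0 := by
  haveI : Subsingleton (ToType ((abSheaf M).obj.obj (op U))) :=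
    Groth.Agent.Lib.Helper16.ClosedEmb.subsingleton_of_eq_bot (abSheaf M) hU
  exact Subsingleton.elim (α := ToType ((abSheaf M).obj.obj (op U))) s 0

/-- the stalks of `i_* M` vanish outside the image of `i` -/
lemma subsingleton_stalk_push [IsClosedImmersion i] (p : P) (hp : p ∉ Set.range i) :
    Subsingleton (St (toPM ((psh i).obj M)) p) := by
  refine ⟨fun a b => ?_⟩
  suffices h : ∀ a : St (toPM ((psh i).obj M)) p, a = 0 by rw [h a, h b]
  intro a
  obtain ⟨V, hV, s, rfl⟩ := exists_gm_eq a
  let W : P.Opens := ⟨(Set.range i)ᶜ, i.isClosedEmbedding.isClosed_range.isOpen_compl⟩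
  have hpW : p ∈ W := hp
  have hVW : p ∈ V ⊓ W := ⟨hV, hpW⟩
  rw [← gm_rs (homOfLE (inf_le_left : V ⊓ W ≤ V)) hVW s]
  have hbot : i ⁻¹ᵁ (V ⊓ W) = ⊥ := by
    ext z
    simp only [Opens.coe_bot, Set.mem_empty_iff_false, iff_false]
    intro hz
    exact hz.2 ⟨z, rfl⟩
  have h0 : rs (toPM ((psh i).obj M)) (homOfLE (inf_le_left : V ⊓ W ≤ V)) s = 0 :=
    eq_zero_of_eq_bot M (i ⁻¹ᵁ (V ⊓ W)) hbot _
  rw [h0, map_zero]

end stalk

section algebra

/-- for a surjective ring map `φ : A → B` and an `A`-module `N` killed by `ker φ`,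
`n ↦ 1 ⊗ n : N → B ⊗[A] N` is bijective -/
theorem bijective_one_tmul {A B N : Type u} [CommRing A] [CommRing B] (φ : A →+* B)
    (hφ : Function.Surjective φ) [AddCommGroup N] [Module A N]
    (hN : ∀ a : A, φ a = 0 → ∀ n : N, a • n = 0) :
    letI := Module.compHom B φ
    Function.Bijective (fun n : N => (1 : B) ⊗ₜ[A] n) := by
  letI : Module A B := Module.compHom B φ
  have hsm : ∀ (a : A) (b : B), a • b = φ a * b := fun _ _ => rfl
  let φl : A →ₗ[A] B :=
    { toFun := φ
      map_add' := map_add φ
      map_smul' := fun a a' => by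
        change φ (a * a') = φ a * φ a'
        exact map_mul φ a a' }
  have hφl : Function.Surjective φl := hφ
  have hle : LinearMap.ker φl ≤ LinearMap.ker (LinearMap.lsmul A N) := by
    intro a ha
    rw [LinearMap.mem_ker] at ha ⊢
    ext n
    exact hN a ha n
  let g : B →ₗ[A] N →ₗ[A] N :=
    ((LinearMap.ker φl).liftQ (LinearMap.lsmul A N) hle) ∘ₗ
      (φl.quotKerEquivOfSurjective hφl).symm.toLinearMap
  have hg : ∀ a : A, g (φ a) = LinearMap.lsmul A N a := by
    intro a
    have h1 : (φl.quotKerEquivOfSurjective hφl).symm (φ a) = (LinearMap.ker φl).mkQ a := by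
      rw [LinearEquiv.symm_apply_eq]
      rfl
    change ((LinearMap.ker φl).liftQ (LinearMap.lsmul A N) hle)
      ((φl.quotKerEquivOfSurjective hφl).symm (φ a)) = _
    rw [h1]
    rfl
  let ρ : B ⊗[A] N →ₗ[A] N := TensorProduct.lift g
  constructor
  · intro n n' h
    have h2 := congrArg ρ h
    change ρ ((1 : B) ⊗ₜ[A] n) = ρ ((1 : B) ⊗ₜ[A] n') at h2
    rw [TensorProduct.lift.tmul, TensorProduct.lift.tmul, ← map_one φ, hg] at h2
    simpa using h2
  · intro z
    induction z using TensorProduct.induction_on with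
    | zero => exact ⟨0, by simp⟩
    | tmul b n =>
      obtain ⟨a, rfl⟩ := hφ b
      refine ⟨a • n, ?_⟩
      change (1 : B) ⊗ₜ[A] (a • n) = φ a ⊗ₜ[A] n
      rw [← TensorProduct.smul_tmul, hsm, mul_one]
    | add z w hz hw =>
      obtain ⟨n, rfl⟩ := hz
      obtain ⟨n', rfl⟩ := hw
      exact ⟨n + n', by simp [TensorProduct.tmul_add]⟩

end algebra

section crit

variable [IsClosedImmersion i] (N : P.Modules)

open ChangeOfRings in
/-- criterion for the unit `N ⟶ i_* i^* N` to be an isomorphism -/
theorem isIso_unit_of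
    (ha : ∀ p : P, p ∉ Set.range i → Subsingleton (St (toPM N) p))
    (hb : ∀ (x : X) (a : Sky.Ox (i x)), (i.stalkMap x).hom a = 0 →
      ∀ t : St (toPM N) (i x), a • t = 0) :
    IsIso ((ppAdj i).unit.app N) := by
  apply isIso_of_forall_isIso_stalk
  intro p
  rw [ConcreteCategory.isIso_iff_bijective]
  by_cases hp : p ∈ Set.range i
  · obtain ⟨x, rfl⟩ := hp
    let g0 : St (toPM N) (i x) → St (toPM ((psh i).obj ((plb i).obj N))) (i x) :=
      fun t => sm (toPMMap (un i N)) (i x) t
    let g1 : St (toPM ((psh i).obj ((plb i).obj N))) (i x) → St (toPM ((plb i).obj N)) x :=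
      fun t => psi i ((plb i).obj N) x t
    let g2 := fun t => ((stalkPullbackIso i x).hom.app N).hom t
    have hc : ∀ t, g2 (g1 (g0 t)) = (1 : Sky.Ox x) ⊗ₜ[Sky.Ox (i x), (i.stalkMap x).hom] t := by
      intro t
      obtain ⟨V, hV, n, rfl⟩ := exists_gm_eq t
      have h1 : g1 (g0 (gm (toPM N) (i x) V hV n)) =
          gm (toPM ((plb i).obj N)) x (i ⁻¹ᵁ V) hV ((toPMMap (un i N)).app (op V) n) := by
        simp only [g0, g1]
        rw [sm_gm, psi_gm]
      rw [h1]
      exact sigma_unit i x N V hV n
    have hbij := bijective_one_tmul (i.stalkMap x).hom (i.stalkMap_surjective x)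
      (N := St (toPM N) (i x)) (hb x)
    have h21 : Function.Bijective (fun t => g2 (g1 t)) := by
      have hg2 : Function.Bijective g2 :=
        ConcreteCategory.bijective_of_isIso ((stalkPullbackIso i x).hom.app N)
      exact hg2.comp (psi_bijective i ((plb i).obj N) x)
    have h210 : Function.Bijective ((fun t => g2 (g1 t)) ∘ g0) := by
      have : ((fun t => g2 (g1 t)) ∘ g0) =
          (fun t => (1 : Sky.Ox x) ⊗ₜ[Sky.Ox (i x), (i.stalkMap x).hom] t) := funext hc
      rw [this]
      exact hbij
    exact (Function.Bijective.of_comp_iff' h21 g0).1 h210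
  · haveI := ha p hp
    haveI := subsingleton_stalk_push i ((plb i).obj N) p hp
    refine ⟨fun a b _ => Subsingleton.elim (α := St (toPM N) p) a b, fun b => ⟨(0 : St (toPM N) p), ?_⟩⟩
    exact Subsingleton.elim (α := St (toPM ((psh i).obj ((plb i).obj N))) p) _ _

end crit

section ff

variable [IsClosedImmersion i]

/-- `i_*` on modules is faithful -/
instance faithful_push : (psh i).Faithful := by
  have hcomp : psh i ⋙ SheafOfModules.toSheaf.{u} P.ringCatSheaf =
      SheafOfModules.toSheaf.{u} X.ringCatSheaf ⋙ CohTop.push i.base := rfl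
  have h1 : (CohTop.push i.base).Faithful :=
    Groth.Agent.Lib.Helper16.ClosedEmb.push_faithful i.base i.isClosedEmbedding
  have h2 : (SheafOfModules.toSheaf.{u} X.ringCatSheaf).Faithful := inferInstance
  haveI : (psh i ⋙ SheafOfModules.toSheaf.{u} P.ringCatSheaf).Faithful := by
    rw [hcomp]
    exact @Functor.Faithful.comp _ _ _ _ _ _ _ _ h2 h1
  exact Functor.Faithful.of_comp (psh i) (SheafOfModules.toSheaf.{u} P.ringCatSheaf)

/-- the unit is an isomorphism on the essential image of `i_*` -/
instance isIso_unit_push (M : X.Modules) : IsIso ((ppAdj i).unit.app ((psh i).obj M)) :=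
  isIso_unit_of i ((psh i).obj M) (fun p hp => subsingleton_stalk_push i M p hp)
    (fun x a ha t => smul_eq_zero_of_stalkMap_eq_zero i M x a ha t)

/-- the counit `i^* i_* M ⟶ M` is an isomorphism -/
instance isIso_counit_app (M : X.Modules) : IsIso ((ppAdj i).counit.app M) := by
  have h : (ppAdj i).unit.app ((psh i).obj M) ≫ (psh i).map ((ppAdj i).counit.app M) = 𝟙 _ :=
    (ppAdj i).right_triangle_components M
  haveI : IsIso ((psh i).map ((ppAdj i).counit.app M)) := by
    have : (psh i).map ((ppAdj i).counit.app M) = inv ((ppAdj i).unit.app ((psh i).obj M)) := by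
      rw [← cancel_epi ((ppAdj i).unit.app ((psh i).obj M)), h, IsIso.hom_inv_id]
    rw [this]; infer_instance
  haveI : Mono ((ppAdj i).counit.app M) := (psh i).mono_of_mono_map inferInstance
  haveI : Epi ((ppAdj i).counit.app M) := (psh i).epi_of_epi_map inferInstance
  exact isIso_of_mono_of_epi _

instance isIso_counit : IsIso (ppAdj i).counit :=
  NatIso.isIso_of_isIso_app _

/-- `i_*` on modules is fully faithful -/
noncomputable def fullyFaithfulPush : (psh i).FullyFaithful :=
  (ppAdj i).fullyFaithfulROfIsIsoCounit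

instance full_push : (psh i).Full := (fullyFaithfulPush i).full

end ff

section pf

variable [IsClosedImmersion i] (E : X.Modules)

/-- the unit is an isomorphism on `H ⊗ i_* E` -/
instance isIso_unit_tensor_push (H : P.Modules) :
    IsIso ((ppAdj i).unit.app (tens H ((psh i).obj E))) := by
  apply isIso_unit_of
  · intro p hp
    haveI := subsingleton_stalk_push i E p hp
    exact (stalkTensorEquiv p H ((psh i).obj E)).toEquiv.subsingleton
  · intro x a ha t
    apply (stalkTensorEquiv (i x) H ((psh i).obj E)).injective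
    rw [map_smul, map_zero]
    generalize (stalkTensorEquiv (i x) H ((psh i).obj E)) t = z
    induction z using TensorProduct.induction_on with
    | zero => rw [smul_zero]
    | tmul m n =>
      rw [← TensorProduct.tmul_smul, smul_eq_zero_of_stalkMap_eq_zero i E x a ha n,
        TensorProduct.tmul_zero]
    | add z w hz hw => rw [smul_add, hz, hw, add_zero]

/-- the projection formula, componentwise -/
noncomputable def pfApp (H : P.Modules) :
    tens H ((psh i).obj E) ≅ (psh i).obj (tens ((plb i).obj H) E) :=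
  asIso ((ppAdj i).unit.app (tens H ((psh i).obj E))) ≪≫
    (psh i).mapIso (asIso (delta i H ((psh i).obj E)) ≪≫
      (DCoh.tensorBi.obj ((plb i).obj H)).mapIso (asIso ((ppAdj i).counit.app E)))

lemma pfApp_hom (H : P.Modules) :
    (pfApp i E H).hom = (ppAdj i).unit.app (tens H ((psh i).obj E)) ≫
      (psh i).map (delta i H ((psh i).obj E) ≫
        (DCoh.tensorBi.obj ((plb i).obj H)).map ((ppAdj i).counit.app E)) := rfl

/-- the projection formula `H ⊗ i_* E ≅ i_* (i^* H ⊗ E)`, naturally in `H` -/
noncomputable def pfIso :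
    (DCoh.tensorBi (X := P)).flip.obj ((psh i).obj E) ≅
      plb i ⋙ (DCoh.tensorBi (X := X)).flip.obj E ⋙ psh i :=
  NatIso.ofComponents (fun H => pfApp i E H) (fun {H H'} φ => by
    change (DCoh.tensorBi.map φ).app ((psh i).obj E) ≫ (pfApp i E H').hom =
      (pfApp i E H).hom ≫ (psh i).map ((DCoh.tensorBi.map ((plb i).map φ)).app E)
    rw [pfApp_hom, pfApp_hom]
    have h1 := (ppAdj i).unit.naturality ((DCoh.tensorBi.map φ).app ((psh i).obj E))
    have h2 := delta_naturality_left i φ ((psh i).obj E)
    have h3 := (DCoh.tensorBi.map ((plb i).map φ)).naturality ((ppAdj i).counit.app E)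
    dsimp only [Functor.id_obj, Functor.id_map, Functor.comp_obj, Functor.comp_map] at h1 h3
    rw [← Category.assoc, h1, Category.assoc, ← Functor.map_comp, ← Category.assoc, h2,
      Category.assoc, ← h3, Category.assoc, ← Functor.map_comp, Category.assoc])

end pf

end Groth.Agent.R2.H54.ClosedImm
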