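import Mathlib
import Groth.Prelude.Def_FSch3
import Groth.Agent.R2.H17ComplSpec
import Groth.Agent.R2.H17LimMod
import Groth.Agent.R2.H54ClosedImm
import Groth.Agent.Lib.Helper2FinPushFP
import Groth.Agent.Lib.Helper2PullbackSec

/-!
# Coherent systems of modules on the completion of `Spec A` along `J` are of the form `M^Δ` (helper17)

ns `Groth.Agent.R2.H17.ComplCoh`.
* `isIso_of_isIso_Γ`: on `Spec R`, a map of quasi-coherent modules is an iso as soon as it is on global sections.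
* `rSys_surjective`, `rSys_ker`: for a system of quasi-coherent modules on the completion of `Spec A` along `J`, the
  transition maps `Γ((i_{n+1})_* F_{n+1}) → Γ((i_n)_* F_n)` are surjective with kernel `J^(n+1) • ⊤`.
* `finite_ΓSys`: finiteness of `Γ((i_n)_* F_n)` for `F_n` of finite type.
* `exists_iso`: EGA I 10.11.3 (strong form).
-/

set_option autoImplicit false
universe u
open CategoryTheory AlgebraicGeometry Limits

namespace Groth.Agent.R2.H17.ComplCoh

open Groth.Agent.R2.H17.AffDict Groth.Agent.R2.H17.ComplAff Groth.Agent.R2.H17.ComplTrans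
  Groth.Agent.R2.H17.ComplHom Groth.Agent.R2.H17.ComplSpec

section Alg

theorem bijective_of_factor {R M P Q : Type*} [CommRing R] [AddCommGroup M] [Module R M]
    [AddCommGroup P] [Module R P] [AddCommGroup Q] [Module R Q] (K : Submodule R M)
    (p : M →ₗ[R] P) (π : M →ₗ[R] Q) (g : P →ₗ[R] Q) (hg : g ∘ₗ p = π)
    (hp : Function.Surjective p) (hπ : Function.Surjective π)
    (hkp : ∀ m, p m = 0 ↔ m ∈ K) (hkπ : ∀ m, π m = 0 ↔ m ∈ K) : Function.Bijective g := by
  constructor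
  · rw [injective_iff_map_eq_zero]
    intro x hx
    obtain ⟨m, rfl⟩ := hp x
    have h1 : π m = 0 := by rw [← hg]; exact hx
    exact (hkp m).mpr ((hkπ m).mp h1)
  · intro y
    obtain ⟨m, rfl⟩ := hπ y
    exact ⟨p m, by rw [← hg]; rfl⟩

theorem exists_lim {A : Type u} [CommRing A] (J : Ideal A) [IsPrecomplete J A]
    (Q : ℕ → ModuleCat.{u} A) (r : ∀ n, Q (n + 1) ⟶ Q n)
    (hs : ∀ n, Function.Surjective (r n).hom)
    (hk : ∀ n (m : Q (n + 1)), (r n).hom m = 0 ↔ m ∈ J ^ (n + 1) • (⊤ : Submodule A (Q (n + 1))))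
    [Module.Finite A (Q 0)] :
    ∃ (M : ModuleCat.{u} A) (π : ∀ n, M ⟶ Q n), Module.Finite A M ∧ (∀ n, π (n + 1) ≫ r n = π n) ∧
      (∀ n, Function.Surjective (π n).hom) ∧
      ∀ n (m : M), (π n).hom m = 0 ↔ m ∈ J ^ (n + 1) • (⊤ : Submodule A M) := by
  have hk' : ∀ n, LinearMap.ker (r n).hom = J ^ (n + 1) • ⊤ := by
    intro n
    ext m
    rw [LinearMap.mem_ker]
    exact hk n m
  obtain ⟨hfin, hker⟩ := LimMod.main (R := A) (M := fun n => ↑(Q n)) (fun n => (r n).hom) J hs hk'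
  refine ⟨ModuleCat.of A (LimMod.lim (R := A) (M := fun n => ↑(Q n)) (fun n => (r n).hom)),
    fun n => ModuleCat.ofHom (LimMod.π (R := A) (M := fun n => ↑(Q n)) (fun n => (r n).hom) n),
    hfin, ?_, ?_, ?_⟩
  · intro n
    ext x
    exact LimMod.t_π (R := A) (M := fun n => ↑(Q n)) (fun n => (r n).hom) n x
  · intro n
    exact LimMod.π_surjective (R := A) (M := fun n => ↑(Q n)) (fun n => (r n).hom) hs n
  · intro n m
    have := hker n
    rw [← this, LinearMap.mem_ker]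
    rfl

end Alg

section Reflect
variable {R : CommRingCat.{u}}

theorem isIso_of_isIso_Γ {G G' : (Spec (.of R)).Modules} [G.IsQuasicoherent] [G'.IsQuasicoherent]
    (f : G ⟶ G') [IsIso ((moduleSpecΓFunctor (R := R)).map f)] : IsIso f := by
  haveI : IsIso ((tilde.adjunction (R := R)).counit.app G) :=
    Scheme.Modules.isIso_fromTildeΓ_of_isQuasicoherent G
  haveI : IsIso ((tilde.adjunction (R := R)).counit.app G') :=
    Scheme.Modules.isIso_fromTildeΓ_of_isQuasicoherent G'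
  have h := (tilde.adjunction (R := R)).counit.naturality f
  have h2 : f = inv ((tilde.adjunction (R := R)).counit.app G) ≫
      (tilde.functor R).map ((moduleSpecΓFunctor (R := R)).map f) ≫
        (tilde.adjunction (R := R)).counit.app G' := by
    rw [IsIso.eq_inv_comp]
    exact h.symm
  rw [h2]
  infer_instance

end Reflect

section Generic
variable {X : Scheme.{u}} {𝓘 : X.IdealSheafData} {D : Type*} [Category D] (Γ : X.Modules ⥤ D)

theorem rSys_eq (𝔑 : FSch.ModSys (FSch.completionAlong X 𝓘)) (n : ℕ) :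
    rSys Γ 𝔑 n =
      Γ.map ((Scheme.Modules.pullbackPushforwardAdjunction (iN 𝓘 n)).unit.app
          ((Scheme.Modules.pushforward (iN 𝓘 (n + 1))).obj (𝔑.F (n + 1)))) ≫
        Γ.map ((Scheme.Modules.pushforward (iN 𝓘 n)).map
          (beta ((FSch.completionAlong X 𝓘).ι n) (iN 𝓘 (n + 1)) (iN 𝓘 n) (ι_iN 𝓘 n) (𝔑.e n).hom)) := by
  unfold rSys
  rw [tSys_eq, Γ.map_comp]

instance isIso_beta_sys (𝔑 : FSch.ModSys (FSch.completionAlong X 𝓘)) (n : ℕ) :
    IsIso (beta ((FSch.completionAlong X 𝓘).ι n) (iN 𝓘 (n + 1)) (iN 𝓘 n) (ι_iN 𝓘 n) (𝔑.e n).hom) := by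
  haveI : IsIso ((Scheme.Modules.pullbackPushforwardAdjunction (iN 𝓘 (n + 1))).counit.app (𝔑.F (n + 1))) :=
    Groth.Agent.R2.H54.ClosedImm.isIso_counit_app (iN 𝓘 (n + 1)) (𝔑.F (n + 1))
  infer_instance

theorem isIso_app_of_isIso_push {𝔐 𝔑 : FSch.ModSys (FSch.completionAlong X 𝓘)} (φ : 𝔐 ⟶ 𝔑) (n : ℕ)
    [IsIso ((Scheme.Modules.pushforward (iN 𝓘 n)).map (φ.app n))] : IsIso (φ.app n) := by
  haveI : (Scheme.Modules.pushforward (iN 𝓘 n)).Full := Groth.Agent.R2.H54.ClosedImm.full_push (iN 𝓘 n)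
  haveI : (Scheme.Modules.pushforward (iN 𝓘 n)).Faithful :=
    Groth.Agent.R2.H54.ClosedImm.faithful_push (iN 𝓘 n)
  exact isIso_of_fully_faithful (Scheme.Modules.pushforward (iN 𝓘 n)) (φ.app n)

end Generic

section GenericMod
variable {X : Scheme.{u}} {𝓘 : X.IdealSheafData} {A' : Type u} [CommRing A']
  (Γ : X.Modules ⥤ ModuleCat.{u} A') (𝔑 : FSch.ModSys (FSch.completionAlong X 𝓘))

theorem rSys_surjective_of (n : ℕ)
    (h : Function.Surjective (Γ.map ((Scheme.Modules.pullbackPushforwardAdjunction (iN 𝓘 n)).unit.app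
      ((Scheme.Modules.pushforward (iN 𝓘 (n + 1))).obj (𝔑.F (n + 1))))).hom) :
    Function.Surjective (rSys Γ 𝔑 n).hom := by
  rw [rSys_eq, ModuleCat.hom_comp]
  have h2 : Function.Bijective (Γ.map ((Scheme.Modules.pushforward (iN 𝓘 n)).map
      (beta ((FSch.completionAlong X 𝓘).ι n) (iN 𝓘 (n + 1)) (iN 𝓘 n) (ι_iN 𝓘 n) (𝔑.e n).hom))).hom :=
    ConcreteCategory.bijective_of_isIso _
  intro y
  obtain ⟨z, hz⟩ := h2.surjective y
  obtain ⟨w, hw⟩ := h z
  refine ⟨w, ?_⟩
  rw [LinearMap.comp_apply, hw, hz]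

theorem rSys_eq_zero_iff_of (n : ℕ) (m : ↑(ΓSys Γ 𝔑 (n + 1))) :
    (rSys Γ 𝔑 n).hom m = 0 ↔
      (Γ.map ((Scheme.Modules.pullbackPushforwardAdjunction (iN 𝓘 n)).unit.app
        ((Scheme.Modules.pushforward (iN 𝓘 (n + 1))).obj (𝔑.F (n + 1))))).hom m = 0 := by
  have h2 : Function.Bijective (Γ.map ((Scheme.Modules.pushforward (iN 𝓘 n)).map
      (beta ((FSch.completionAlong X 𝓘).ι n) (iN 𝓘 (n + 1)) (iN 𝓘 n) (ι_iN 𝓘 n) (𝔑.e n).hom))).hom :=
    ConcreteCategory.bijective_of_isIso _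
  rw [rSys_eq, ModuleCat.hom_comp, LinearMap.comp_apply]
  exact map_eq_zero_iff _ h2.injective

theorem bijective_Γ_push_app {T : ModuleCat.{u} A' ⥤ X.Modules} (adj : T ⊣ Γ) {M : ModuleCat.{u} A'}
    (φ : FSch.complMod 𝓘 (T.obj M) ⟶ 𝔑) (n : ℕ) (K : Submodule A' M)
    (hp : Function.Surjective (pN (𝓘 := 𝓘) adj M n).hom)
    (hkp : ∀ m, (pN (𝓘 := 𝓘) adj M n).hom m = 0 ↔ m ∈ K)
    (hπ : Function.Surjective (αφ adj φ n).hom)
    (hkπ : ∀ m, (αφ adj φ n).hom m = 0 ↔ m ∈ K) :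
    Function.Bijective (Γ.map ((Scheme.Modules.pushforward (iN 𝓘 n)).map (φ.app n))).hom := by
  refine bijective_of_factor K (pN (𝓘 := 𝓘) adj M n).hom (αφ adj φ n).hom _ ?_ hp hπ hkp hkπ
  rw [← ModuleCat.hom_comp, ← αφ_eq_pN_comp]

end GenericMod

section Spec
variable (A : Type u) [CommRing A] (J : Ideal A)
  (𝔑 : FSch.ModSys (FSch.completionAlong (Spec (CommRingCat.of A)) (FSch.idealSpec A J)))

theorem isQuasicoherent_push (n : ℕ) [(𝔑.F n).IsQuasicoherent] :
    ((Scheme.Modules.pushforward (iN (FSch.idealSpec A J) n)).obj (𝔑.F n)).IsQuasicoherent :=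
  Groth.Agent.Lib.Helper23.QCohLocal.isQuasicoherent_pushforward _ _

theorem Γ_unit_surjective (n : ℕ) (G : (Spec (CommRingCat.of A)).Modules) [G.IsQuasicoherent] :
    Function.Surjective ((moduleSpecΓFunctor (R := CommRingCat.of A)).map
      ((Scheme.Modules.pullbackPushforwardAdjunction (iN (FSch.idealSpec A J) n)).unit.app G)).hom :=
  ΓUnit_lv_surjective A J n G

theorem Γ_unit_eq_zero_iff (n : ℕ) (G : (Spec (CommRingCat.of A)).Modules) [G.IsQuasicoherent]
    (m : (moduleSpecΓFunctor (R := CommRingCat.of A)).obj G) :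
    ((moduleSpecΓFunctor (R := CommRingCat.of A)).map
      ((Scheme.Modules.pullbackPushforwardAdjunction (iN (FSch.idealSpec A J) n)).unit.app G)).hom m = 0 ↔
      m ∈ J ^ (n + 1) • (⊤ : Submodule A ((moduleSpecΓFunctor (R := CommRingCat.of A)).obj G)) :=
  ΓUnit_lv_eq_zero_iff A J n G m

theorem rSys_surjective (n : ℕ) [(𝔑.F (n + 1)).IsQuasicoherent] :
    Function.Surjective (rSys (moduleSpecΓFunctor (R := CommRingCat.of A)) 𝔑 n).hom := by
  haveI := isQuasicoherent_push A J 𝔑 (n + 1)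
  exact rSys_surjective_of (moduleSpecΓFunctor (R := CommRingCat.of A)) 𝔑 n
    (Γ_unit_surjective A J n _)

theorem rSys_eq_zero_iff (n : ℕ) [(𝔑.F (n + 1)).IsQuasicoherent]
    (m : ↑(ΓSys (moduleSpecΓFunctor (R := CommRingCat.of A)) 𝔑 (n + 1))) :
    (rSys (moduleSpecΓFunctor (R := CommRingCat.of A)) 𝔑 n).hom m = 0 ↔
      m ∈ J ^ (n + 1) • (⊤ : Submodule A ↑(ΓSys (moduleSpecΓFunctor (R := CommRingCat.of A)) 𝔑 (n + 1))) := by
  haveI := isQuasicoherent_push A J 𝔑 (n + 1)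
  exact (rSys_eq_zero_iff_of (moduleSpecΓFunctor (R := CommRingCat.of A)) 𝔑 n m).trans
    (Γ_unit_eq_zero_iff A J n _ m)

theorem finite_ΓSys (n : ℕ) [(𝔑.F n).IsQuasicoherent]
    (hft : SheafOfModules.IsFiniteType
      (R := ((FSch.completionAlong (Spec (CommRingCat.of A)) (FSch.idealSpec A J)).X n).ringCatSheaf)
      (𝔑.F n)) :
    Module.Finite A ↑(ΓSys (moduleSpecΓFunctor (R := CommRingCat.of A)) 𝔑 n) := by
  haveI := isQuasicoherent_push A J 𝔑 n
  haveI : SheafOfModules.IsFiniteType (R := (Spec (CommRingCat.of A)).ringCatSheaf)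
      ((Scheme.Modules.pushforward (iN (FSch.idealSpec A J) n)).obj (𝔑.F n)) :=
    (Groth.Agent.Lib.Helper2.FinPushFP.isFiniteType_pushforward_iff (iN (FSch.idealSpec A J) n)
      (𝔑.F n)).mp hft
  have h1 := Groth.Agent.Lib.Helper23.FinType.finite_of_isFiniteType
    ((Scheme.Modules.pushforward (iN (FSch.idealSpec A J) n)).obj (𝔑.F n))
    (isAffineOpen_top (Spec (CommRingCat.of A)))
  exact (Groth.Agent.Lib.Helper23.FinType.finite_Γtop_iff (CommRingCat.of A) _).mp h1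

theorem isQuasicoherent_complMod_F (G : (Spec (CommRingCat.of A)).Modules) [G.IsQuasicoherent] (n : ℕ) :
    ((FSch.complMod (FSch.idealSpec A J) G).F n).IsQuasicoherent :=
  Groth.Agent.Lib.Helper2.PullbackSec.isQuasicoherent_pullback (iN (FSch.idealSpec A J) n) G

theorem isIso_app_of_bijective {M : ModuleCat.{u} A} [∀ n, (𝔑.F n).IsQuasicoherent]
    (φ : FSch.complMod (FSch.idealSpec A J) ((tilde.functor (CommRingCat.of A)).obj M) ⟶ 𝔑) (n : ℕ)
    (h : Function.Bijective ((moduleSpecΓFunctor (R := CommRingCat.of A)).map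
      ((Scheme.Modules.pushforward (iN (FSch.idealSpec A J) n)).map (φ.app n))).hom) :
    IsIso (φ.app n) := by
  haveI : IsIso ((moduleSpecΓFunctor (R := CommRingCat.of A)).map
      ((Scheme.Modules.pushforward (iN (FSch.idealSpec A J) n)).map (φ.app n))) :=
    (ConcreteCategory.isIso_iff_bijective _).mpr h
  haveI : ((tilde.functor (CommRingCat.of A)).obj M).IsQuasicoherent :=
    inferInstanceAs ((tilde (R := CommRingCat.of A) M).IsQuasicoherent)
  haveI : ((FSch.complMod (FSch.idealSpec A J) ((tilde.functor (CommRingCat.of A)).obj M)).F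
      n).IsQuasicoherent :=
    isQuasicoherent_complMod_F A J _ n
  haveI := isQuasicoherent_push A J
    (FSch.complMod (FSch.idealSpec A J) ((tilde.functor (CommRingCat.of A)).obj M)) n
  haveI := isQuasicoherent_push A J 𝔑 n
  haveI : IsIso ((Scheme.Modules.pushforward (iN (FSch.idealSpec A J) n)).map (φ.app n)) :=
    isIso_of_isIso_Γ (R := CommRingCat.of A) _
  exact isIso_app_of_isIso_push φ n

/-- EGA I 10.11.3, strong form: a system of coherent modules on the completion of `Spec A` along `J`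
(with `A` `J`-adically precomplete) is isomorphic to `M^Δ` for a finite `A`-module `M`. -/
theorem exists_iso [IsPrecomplete J A] (h𝔑 : 𝔑.IsCoh) :
    ∃ M : ModuleCat.{u} A, Module.Finite A M ∧
      Nonempty (𝔑 ≅ FSch.complMod (FSch.idealSpec A J) ((tilde.functor (CommRingCat.of A)).obj M)) := by
  haveI hq : ∀ n, (𝔑.F n).IsQuasicoherent := fun n => (h𝔑 n).1
  haveI : Module.Finite A ↑(ΓSys (moduleSpecΓFunctor (R := CommRingCat.of A)) 𝔑 0) :=
    finite_ΓSys A J 𝔑 0 (h𝔑 0).2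
  obtain ⟨M, π, hfin, hπ, hπs, hπk⟩ := exists_lim J
    (fun n => ΓSys (moduleSpecΓFunctor (R := CommRingCat.of A)) 𝔑 n)
    (fun n => rSys (moduleSpecΓFunctor (R := CommRingCat.of A)) 𝔑 n)
    (fun n => rSys_surjective A J 𝔑 n) (fun n m => rSys_eq_zero_iff A J 𝔑 n m)
  have hφ : ∀ n, αφ (tilde.adjunction (R := CommRingCat.of A))
      (ofα (tilde.adjunction (R := CommRingCat.of A)) π hπ) n = π n :=
    αφ_ofα (tilde.adjunction (R := CommRingCat.of A)) π hπ
  have hiso : ∀ n, IsIso ((ofα (tilde.adjunction (R := CommRingCat.of A)) π hπ).app n) := by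
    intro n
    apply isIso_app_of_bijective A J 𝔑
    refine bijective_Γ_push_app (moduleSpecΓFunctor (R := CommRingCat.of A)) 𝔑
      (tilde.adjunction (R := CommRingCat.of A)) _ n (J ^ (n + 1) • (⊤ : Submodule A M))
      (pN_surjective A J M n) (pN_eq_zero_iff A J M n) ?_ ?_
    · rw [hφ n]
      exact hπs n
    · intro m
      rw [hφ n]
      exact hπk n m
  haveI := isIso_of_isIso_app _ hiso
  exact ⟨M, hfin, ⟨(asIso (ofα (tilde.adjunction (R := CommRingCat.of A)) π hπ)).symm⟩⟩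

end Spec

end Groth.Agent.R2.H17.ComplCoh
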