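import Groth.Agent.Lib.Helper4LambdaInv
import Groth.Agent.Lib.Helper4LambdaAmple

/-!
# The determinant on a λ-ring with positive structure (helper17)

ns `Groth.Agent.R2.H17.Det`.  For a λ-ring `K` with positive structure `P` (only the additive λ-axioms!):
* `top P e he : Kˣ` the top exterior power `λ^{ε e}(e)` of a positive element, multiplicative (`top_add`);
* `det P : K →+ Additive Kˣ`, the unique additive extension, `det_pos`, `det_line`, `map_det` (extensions);
* a three step filtration `lineSpan ⊇ I1 ⊇ I2` by products of `(line - 1)`; `gamma_mem_Fil`, `prod_mem_Fil`;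
* `det_I2`: `det` kills `I2`; `det_gammaFiltration_two` (under splitting): `det` kills `F²`.
-/

set_option autoImplicit false
universe u

namespace Groth.Agent.R2.H17.Det

open PowerSeries LambdaRing Finset Groth.Agent.Lib.Helper4

section Top

variable {K : Type u} [CommRing K] [LambdaOps K] (P : PosStructure K)

theorem toNat_aug_add {e e' : K} (he : e ∈ P.pos) (he' : e' ∈ P.pos) :
    (P.aug (e + e')).toNat = (P.aug e).toNat + (P.aug e').toNat := by
  have h1 := P.aug_pos e he
  have h2 := P.aug_pos e' he'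
  rw [map_add]
  omega

theorem lam_top_add {e e' : K} (he : e ∈ P.pos) (he' : e' ∈ P.pos) :
    LambdaOps.lam (P.aug (e + e')).toNat (e + e') =
      LambdaOps.lam (P.aug e).toNat e * LambdaOps.lam (P.aug e').toNat e' := by
  rw [toNat_aug_add P he he', LambdaOps.lam_add]
  rw [Finset.sum_eq_single (P.aug e).toNat]
  · congr 2
    omega
  · intro i hi hne
    rw [mem_range] at hi
    rcases lt_or_gt_of_ne hne with h | h
    · rw [lam_eq_zero_of_pos P e' he' _ (by omega), mul_zero]
    · rw [lam_eq_zero_of_pos P e he _ h, zero_mul]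
  · intro h
    exact absurd (mem_range.2 (by omega)) h

/-- The top exterior power of a positive element, as a unit. -/
noncomputable def top (e : K) (he : e ∈ P.pos) : Kˣ := (P.isUnit_lam e he).unit

theorem top_val (e : K) (he : e ∈ P.pos) :
    ((top P e he : Kˣ) : K) = LambdaOps.lam (P.aug e).toNat e := rfl

theorem top_congr {e e' : K} (h : e = e') (he : e ∈ P.pos) (he' : e' ∈ P.pos) :
    top P e he = top P e' he' := by
  subst h; rfl

theorem top_add (e e' : K) (he : e ∈ P.pos) (he' : e' ∈ P.pos) :
    top P (e + e') (P.add_mem e e' he he') = top P e he * top P e' he' := by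
  ext
  rw [Units.val_mul, top_val, top_val, top_val, lam_top_add P he he']

theorem top_line (u : K) (hu : P.IsLine u) : ((top P u hu.1 : Kˣ) : K) = u := by
  rw [top_val, hu.2]
  simp [LambdaOps.lam_one]

theorem one_mem_pos : (1 : K) ∈ P.pos := (isLine_one P).1

theorem top_one : top P 1 (one_mem_pos P) = 1 := by
  ext
  rw [top_line P 1 (isLine_one P)]
  rfl

theorem exists_sub' (x : K) : ∃ p : K × K, p.1 ∈ P.pos ∧ p.2 ∈ P.pos ∧ x = p.1 - p.2 := by
  obtain ⟨e, f, he, hf, h⟩ := P.exists_sub x
  exact ⟨(e, f), he, hf, h⟩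

/-- a chosen representation `x = e - f`. -/
noncomputable def rep (x : K) : K × K := (exists_sub' P x).choose

theorem rep_spec (x : K) :
    (rep P x).1 ∈ P.pos ∧ (rep P x).2 ∈ P.pos ∧ x = (rep P x).1 - (rep P x).2 :=
  (exists_sub' P x).choose_spec

/-- the determinant as a function. -/
noncomputable def detFun (x : K) : Kˣ :=
  top P (rep P x).1 (rep_spec P x).1 * (top P (rep P x).2 (rep_spec P x).2.1)⁻¹

theorem detFun_eq (x e f : K) (he : e ∈ P.pos) (hf : f ∈ P.pos) (h : x = e - f) :
    detFun P x = top P e he * (top P f hf)⁻¹ := by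
  obtain ⟨h1, h2, h3⟩ := rep_spec P x
  have h4 : e + (rep P x).2 = (rep P x).1 + f := by
    have : e - f = (rep P x).1 - (rep P x).2 := by rw [← h, ← h3]
    linear_combination this
  have h5 : top P e he * top P (rep P x).2 h2 = top P (rep P x).1 h1 * top P f hf := by
    rw [← top_add, ← top_add]
    exact top_congr P h4 _ _
  rw [detFun, mul_inv_eq_iff_eq_mul, mul_assoc, mul_comm _ (top P (rep P x).2 h2), ← mul_assoc,
    _root_.eq_mul_inv_iff_mul_eq]
  exact h5.symm

/-- The determinant `K →+ Additive Kˣ`. -/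
noncomputable def det : K →+ Additive Kˣ where
  toFun x := Additive.ofMul (detFun P x)
  map_zero' := by
    have h1 := one_mem_pos P
    rw [detFun_eq P 0 1 1 h1 h1 (by ring), mul_inv_cancel]
    rfl
  map_add' x y := by
    obtain ⟨hx1, hx2, hx⟩ := rep_spec P x
    obtain ⟨hy1, hy2, hy⟩ := rep_spec P y
    have h : x + y = ((rep P x).1 + (rep P y).1) - ((rep P x).2 + (rep P y).2) := by
      linear_combination hx + hy
    rw [detFun_eq P (x + y) _ _ (P.add_mem _ _ hx1 hy1) (P.add_mem _ _ hx2 hy2) h, top_add, top_add,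
      ← ofMul_mul]
    congr 1
    rw [detFun, detFun, mul_inv, mul_mul_mul_comm]

theorem det_apply (x : K) : det P x = Additive.ofMul (detFun P x) := rfl

theorem det_pos (e : K) (he : e ∈ P.pos) : det P e = Additive.ofMul (top P e he) := by
  have h1 := one_mem_pos P
  rw [det_apply, detFun_eq P e (e + 1) 1 (P.add_mem _ _ he h1) h1 (by ring), top_add P e 1 he h1,
    mul_inv_cancel_right]

theorem det_line (u : K) (hu : P.IsLine u) : (((det P u).toMul : Kˣ) : K) = u := by
  rw [det_pos P u hu.1]
  exact top_line P u hu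

theorem det_mul_line (u v : K) (hu : P.IsLine u) (hv : P.IsLine v) :
    det P (u * v) = det P u + det P v := by
  rw [det_pos P _ (isLine_mul P hu hv).1, det_pos P u hu.1, det_pos P v hv.1, ← ofMul_mul]
  congr 1
  ext
  rw [Units.val_mul, top_line P _ (isLine_mul P hu hv), top_line P u hu, top_line P v hv]

end Top

section Ext

variable {K K' : Type u} [CommRing K] [LambdaOps K] [CommRing K'] [LambdaOps K']
  {P : PosStructure K} {P' : PosStructure K'} {f : K →+* K'}

theorem map_top (hf : IsExtension P P' f) (e : K) (he : e ∈ P.pos) :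
    Units.map (f : K →* K') (top P e he) = top P' (f e) (hf.pos_subset e he) := by
  ext
  rw [Units.coe_map, top_val, top_val, hf.aug_comp]
  exact hf.isLambdaHom _ _

theorem map_det (hf : IsExtension P P' f) (x : K) :
    Units.map (f : K →* K') (det P x).toMul = (det P' (f x)).toMul := by
  obtain ⟨h1, h2, h3⟩ := rep_spec P x
  have h4 : f x = f (rep P x).1 - f (rep P x).2 := by rw [← map_sub, ← h3]
  rw [det_apply, det_apply, detFun_eq P' (f x) _ _ (hf.pos_subset _ h1) (hf.pos_subset _ h2) h4,
    toMul_ofMul, toMul_ofMul, detFun, map_mul, map_inv, map_top hf, map_top hf]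

theorem det_eq_zero_of_map (hf : IsExtension P P' f) (x : K) (h : det P' (f x) = 0) : det P x = 0 := by
  have h1 := map_det hf x
  rw [h] at h1
  have h2 : Units.map (f : K →* K') (det P x).toMul = Units.map (f : K →* K') 1 := by
    rw [h1, map_one]; rfl
  have h3 := Units.map_injective (f := (f : K →* K')) hf.injective h2
  exact h3

end Ext

section Fil

variable {K : Type u} [CommRing K] [LambdaOps K] (P : PosStructure K)

omit [LambdaOps K] in
theorem closure_mul_mem {A B : Set K} {C : AddSubgroup K} (h : ∀ a ∈ A, ∀ b ∈ B, a * b ∈ C) {x y : K}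
    (hx : x ∈ AddSubgroup.closure A) (hy : y ∈ AddSubgroup.closure B) : x * y ∈ C := by
  induction hx using AddSubgroup.closure_induction with
  | mem a ha =>
    induction hy using AddSubgroup.closure_induction with
    | mem b hb => exact h a ha b hb
    | zero => rw [mul_zero]; exact C.zero_mem
    | add y z _ _ hy hz => rw [mul_add]; exact C.add_mem hy hz
    | neg y _ hy => rw [mul_neg]; exact C.neg_mem hy
  | zero => rw [zero_mul]; exact C.zero_mem
  | add x z _ _ hx hz => rw [add_mul]; exact C.add_mem hx hz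
  | neg x _ hx => rw [neg_mul]; exact C.neg_mem hx

/-- the additive span of the `u - 1`, `u` a line element. -/
def I1 : AddSubgroup K := AddSubgroup.closure {x | ∃ u, P.IsLine u ∧ x = u - 1}

/-- the additive span of the `(u - 1)(v - 1) w`, `u v w` line elements. -/
def I2 : AddSubgroup K :=
  AddSubgroup.closure {x | ∃ u v w, P.IsLine u ∧ P.IsLine v ∧ P.IsLine w ∧ x = (u - 1) * (v - 1) * w}

theorem line_mem_lineSpan {u : K} (hu : P.IsLine u) : u ∈ lineSpan P := AddSubgroup.subset_closure hu

theorem line_sub_one_mem_I1 {u : K} (hu : P.IsLine u) : u - 1 ∈ I1 P :=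
  AddSubgroup.subset_closure ⟨u, hu, rfl⟩

theorem I1_le : I1 P ≤ lineSpan P := by
  rw [I1, AddSubgroup.closure_le]
  rintro x ⟨u, hu, rfl⟩
  exact (lineSpan P).sub_mem (line_mem_lineSpan P hu) (one_mem_lineSpan P)

theorem I2_le : I2 P ≤ I1 P := by
  rw [I2, AddSubgroup.closure_le]
  rintro x ⟨u, v, w, hu, hv, hw, rfl⟩
  have e : (u - 1) * (v - 1) * w = (u * v * w - 1) - (u * w - 1) - (v * w - 1) + (w - 1) := by ring
  rw [e]
  refine (I1 P).add_mem ((I1 P).sub_mem ((I1 P).sub_mem ?_ ?_) ?_) ?_
  · exact line_sub_one_mem_I1 P (isLine_mul P (isLine_mul P hu hv) hw)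
  · exact line_sub_one_mem_I1 P (isLine_mul P hu hw)
  · exact line_sub_one_mem_I1 P (isLine_mul P hv hw)
  · exact line_sub_one_mem_I1 P hw

theorem lineSpan_mul_I1 {x y : K} (hx : x ∈ lineSpan P) (hy : y ∈ I1 P) : x * y ∈ I1 P := by
  refine closure_mul_mem ?_ hx hy
  rintro w hw _ ⟨u, hu, rfl⟩
  have e : w * (u - 1) = (w * u - 1) - (w - 1) := by ring
  rw [e]
  exact (I1 P).sub_mem (line_sub_one_mem_I1 P (isLine_mul P hw hu)) (line_sub_one_mem_I1 P hw)

theorem lineSpan_mul_I2 {x y : K} (hx : x ∈ lineSpan P) (hy : y ∈ I2 P) : x * y ∈ I2 P := by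
  refine closure_mul_mem ?_ hx hy
  rintro w' hw' _ ⟨u, v, w, hu, hv, hw, rfl⟩
  refine AddSubgroup.subset_closure ⟨u, v, w' * w, hu, hv, isLine_mul P hw' hw, ?_⟩
  ring

theorem I1_mul_I1 {x y : K} (hx : x ∈ I1 P) (hy : y ∈ I1 P) : x * y ∈ I2 P := by
  refine closure_mul_mem ?_ hx hy
  rintro _ ⟨u, hu, rfl⟩ _ ⟨v, hv, rfl⟩
  refine AddSubgroup.subset_closure ⟨u, v, 1, hu, hv, isLine_one P, ?_⟩
  ring

/-- The three step filtration. -/
def Fil (n : ℕ) : AddSubgroup K := if n = 0 then lineSpan P else if n = 1 then I1 P else I2 P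

theorem Fil_zero : Fil P 0 = lineSpan P := by simp [Fil]
theorem Fil_one : Fil P 1 = I1 P := by simp [Fil]
theorem Fil_two_le {n : ℕ} (hn : 2 ≤ n) : Fil P n = I2 P := by
  rw [Fil, if_neg (by omega), if_neg (by omega)]

theorem Fil_le_lineSpan (n : ℕ) : Fil P n ≤ lineSpan P := by
  rcases Nat.lt_or_ge n 2 with h | h
  · interval_cases n
    · rw [Fil_zero]
    · rw [Fil_one]; exact I1_le P
  · rw [Fil_two_le P h]; exact (I2_le P).trans (I1_le P)

theorem Fil_mul {i j : ℕ} {x y : K} (hx : x ∈ Fil P i) (hy : y ∈ Fil P j) : x * y ∈ Fil P (i + j) := by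
  rcases Nat.lt_or_ge i 2 with hi | hi
  · rcases Nat.lt_or_ge j 2 with hj | hj
    · interval_cases i <;> interval_cases j
      · rw [Fil_zero] at *; exact mul_mem_lineSpan P hx hy
      · rw [Fil_zero] at hx; rw [Fil_one] at hy ⊢; exact lineSpan_mul_I1 P hx hy
      · rw [Fil_zero] at hy; rw [Fil_one] at hx ⊢; rw [mul_comm]; exact lineSpan_mul_I1 P hy hx
      · rw [Fil_one] at hx hy; rw [Fil_two_le P le_rfl]; exact I1_mul_I1 P hx hy
    · rw [Fil_two_le P hj] at hy
      rw [Fil_two_le P (by omega)]
      exact lineSpan_mul_I2 P (Fil_le_lineSpan P i hx) hy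
  · rw [Fil_two_le P hi] at hx
    rw [Fil_two_le P (by omega), mul_comm]
    exact lineSpan_mul_I2 P (Fil_le_lineSpan P j hy) hx

/-- series whose `k`-th coefficient lies in `Fil k`. -/
def Good (g : K⟦X⟧) : Prop := ∀ k, coeff k g ∈ Fil P k

theorem good_one : Good P (1 : K⟦X⟧) := by
  intro i
  rw [coeff_one]
  split_ifs with h
  · subst h; rw [Fil_zero]; exact one_mem_lineSpan P
  · exact (Fil P i).zero_mem

theorem good_mul {g h : K⟦X⟧} (hg : Good P g) (hh : Good P h) : Good P (g * h) := by
  intro i
  rw [coeff_mul]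
  apply AddSubgroup.sum_mem
  rintro ⟨p, q⟩ hpq
  have hpq' : p + q = i := by simpa using hpq
  rw [← hpq']
  exact Fil_mul P (hg p) (hh q)

theorem good_inv {f g : K⟦X⟧} (hf : Good P f) (hf0 : coeff 0 f = 1) (h : g * f = 1) :
    Good P g := by
  intro i
  induction i using Nat.strong_induction_on with
  | _ i ih =>
    have hc := congrArg (coeff i) h
    rw [coeff_mul, Finset.Nat.sum_antidiagonal_eq_sum_range_succ_mk, Finset.sum_range_succ,
      Nat.sub_self, hf0, mul_one] at hc
    have : coeff i g = coeff i (1 : K⟦X⟧) - ∑ p ∈ range i, coeff p g * coeff (i - p) f := by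
      rw [← hc]; ring
    rw [this]
    apply AddSubgroup.sub_mem
    · exact good_one P i
    · apply AddSubgroup.sum_mem
      intro p hp
      rw [Finset.mem_range] at hp
      have := Fil_mul P (ih p hp) (hf (i - p))
      rwa [Nat.add_sub_cancel' hp.le] at this

theorem good_line {u : K} (hu : P.IsLine u) : Good P (1 + C (u - 1) * X : K⟦X⟧) := by
  intro k
  rcases Nat.lt_or_ge k 2 with hk | hk
  · interval_cases k
    · rw [Fil_zero]
      simp only [map_add, coeff_zero_eq_constantCoeff, map_one, map_mul, constantCoeff_X, mul_zero,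
        add_zero]
      exact one_mem_lineSpan P
    · rw [Fil_one]
      simp only [map_add, coeff_one, coeff_succ_mul_X, coeff_zero_eq_constantCoeff]
      simpa using line_sub_one_mem_I1 P hu
  · have : coeff k (1 + C (u - 1) * X : K⟦X⟧) = 0 := by
      obtain ⟨k, rfl⟩ : ∃ k', k = k' + 1 := ⟨k - 1, by omega⟩
      rw [map_add, coeff_succ_mul_X, coeff_one, if_neg (by omega), coeff_C, if_neg (by omega), add_zero]
    rw [this]
    exact (Fil P k).zero_mem

theorem good_gammaSeries {x : K} (hx : x ∈ lineSpan P) :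
    Good P (gammaSeries (x - ((P.aug x : ℤ) : K))) := by
  induction hx using AddSubgroup.closure_induction with
  | mem u hu =>
    have hu' : P.IsLine u := hu
    rw [hu'.2, Int.cast_one,
      gammaSeries_sub_one (lam_one_eq_zero P) u (lam_eq_zero_of_isLine P u hu')]
    exact good_line P hu'
  | zero =>
    rw [map_zero, Int.cast_zero, sub_zero, gammaSeries_zero]
    exact good_one P
  | add a b _ _ ha hb =>
    have e : a + b - ((P.aug (a + b) : ℤ) : K) = (a - ((P.aug a : ℤ) : K)) + (b - ((P.aug b : ℤ) : K)) := by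
      rw [map_add]; push_cast; ring
    rw [e, gammaSeries_add]
    exact good_mul P ha hb
  | neg a _ ha =>
    have e : -a - ((P.aug (-a) : ℤ) : K) = -(a - ((P.aug a : ℤ) : K)) := by
      rw [map_neg]; push_cast; ring
    rw [e]
    refine good_inv P ha ?_ (gammaSeries_neg_mul _)
    rw [coeff_zero_eq_constantCoeff_apply, constantCoeff_gammaSeries]

theorem gamma_mem_Fil {x : K} (hx : x ∈ lineSpan P) (h0 : P.aug x = 0) (k : ℕ) :
    gamma k x ∈ Fil P k := by
  have := good_gammaSeries P hx k
  rwa [coeff_gammaSeries, h0, Int.cast_zero, sub_zero] at this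

theorem prod_mem_Fil (l : List (ℕ × K)) (hl : ∀ p ∈ l, p.2 ∈ lineSpan P ∧ P.aug p.2 = 0) :
    (l.map fun p => gamma p.1 p.2).prod ∈ Fil P (l.map Prod.fst).sum := by
  induction l with
  | nil =>
    simp only [List.map_nil, List.prod_nil, List.sum_nil]
    rw [Fil_zero]; exact one_mem_lineSpan P
  | cons p l ih =>
    simp only [List.map_cons, List.prod_cons, List.sum_cons]
    exact Fil_mul P (gamma_mem_Fil P (hl p (by simp)).1 (hl p (by simp)).2 p.1)
      (ih fun q hq => hl q (List.mem_cons_of_mem _ hq))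

theorem det_I2 {y : K} (hy : y ∈ I2 P) : det P y = 0 := by
  have : I2 P ≤ (det P).ker := by
    rw [I2, AddSubgroup.closure_le]
    rintro x ⟨u, v, w, hu, hv, hw, rfl⟩
    have e : (u - 1) * (v - 1) * w = u * v * w - u * w - v * w + w := by ring
    change det P ((u - 1) * (v - 1) * w) = 0
    rw [e, map_add, map_sub, map_sub, det_mul_line P _ _ (isLine_mul P hu hv) hw,
      det_mul_line P _ _ hu hv, det_mul_line P _ _ hu hw, det_mul_line P _ _ hv hw]
    abel
  exact this hy

end Fil

section Main

variable {K : Type u} [CommRing K] [LambdaOps K] {P : PosStructure K}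

/-- Under the splitting property the determinant kills `F²`. -/
theorem det_gammaFiltration_two (hK : HasSplitting K P) {y : K} (hy : y ∈ gammaFiltration P 2) :
    det P y = 0 := by
  have : gammaFiltration P 2 ≤ (det P).ker := by
    rw [gammaFiltration_of_ne_zero P (by norm_num), AddSubgroup.closure_le]
    rintro y ⟨l, hl, hn, rfl⟩
    change det P _ = 0
    obtain ⟨L, f, hf, -, hsplit⟩ := exists_extension_lineSpan hK (l.map Prod.snd)
    apply det_eq_zero_of_map hf
    have e : f (l.map fun p => gamma p.1 p.2).prod =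
        ((l.map fun p => (p.1, f p.2)).map fun p => gamma p.1 p.2).prod := by
      rw [map_list_prod, List.map_map, List.map_map]
      congr 1
      apply List.map_congr_left
      intro p _
      simp only [Function.comp_apply]
      exact map_gamma hf.isLambdaHom _ _
    rw [e]
    apply det_I2
    have h1 := prod_mem_Fil L.posStr (l.map fun p => (p.1, f p.2)) (by
      intro q hq
      obtain ⟨p, hp, rfl⟩ := List.mem_map.1 hq
      refine ⟨hsplit _ (List.mem_map.2 ⟨p, hp, rfl⟩), ?_⟩
      change L.posStr.aug (f p.2) = 0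
      rw [hf.aug_comp]; exact hl p hp)
    rw [List.map_map] at h1
    have h2 : ((fun p : ℕ × L.carrier => p.1) ∘ fun p : ℕ × K => (p.1, f p.2)) = Prod.fst := rfl
    rw [Fil_two_le] at h1
    · exact h1
    · have : (List.map (Prod.fst ∘ fun p : ℕ × K => (p.1, f p.2)) l) = l.map Prod.fst := rfl
      rw [this]; exact hn
  exact this hy

/-- injectivity: line elements congruent modulo `F²` are equal. -/
theorem line_eq_of_sub_mem (hK : HasSplitting K P) {u v : K} (hu : P.IsLine u) (hv : P.IsLine v)
    (h : u - v ∈ gammaFiltration P 2) : u = v := by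
  have h1 := det_gammaFiltration_two hK h
  rw [map_sub, sub_eq_zero] at h1
  rw [← det_line P u hu, ← det_line P v hv, h1]

end Main

end Groth.Agent.R2.H17.Det
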