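import Mathlib

/-!
# Flatness over a directed union of images (helper17)

ns `Groth.Agent.R2.H17.FlatUnion`.  If `φ i : R i →+* C` are flat ring maps whose ranges form a directed family of
subrings of `C`, then `C` is flat over the union of the ranges (equational criterion).  Also: a ring over which some
Noetherian ring is faithfully flat is Noetherian.
-/

set_option autoImplicit false
universe u v w

namespace Groth.Agent.R2.H17.FlatUnion

theorem flat_iSup_range {C : Type u} [CommRing C] {ι : Type v} [Nonempty ι] {R : ι → Type w}
    [∀ i, CommRing (R i)] (φ : ∀ i, R i →+* C)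
    (hd : Directed (· ≤ ·) (fun i => (φ i).range)) (hflat : ∀ i, (φ i).Flat) :
    Module.Flat (⨆ i, (φ i).range : Subring C) C := by
  apply Module.Flat.of_forall_isTrivialRelation
  intro l f x hfx
  have h1 : ∀ i : Fin l, ∃ j, (f i : C) ∈ (φ j).range :=
    fun i => (Subring.mem_iSup_of_directed hd).mp (f i).2
  choose j hj using h1
  obtain ⟨j0, hj0⟩ := hd.finite_le (fun i : Fin l => j i)
  have h2 : ∀ i, ∃ g : R j0, φ j0 g = f i := fun i => hj0 i (hj i)
  choose g hg using h2
  let incl : R j0 →+* (⨆ i, (φ i).range : Subring C) :=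
    (φ j0).codRestrict _ (fun r => le_iSup (fun i => (φ i).range) j0 ⟨r, rfl⟩)
  have hincl : ∀ i, incl (g i) = f i := fun i => Subtype.ext (hg i)
  let _ : Algebra (R j0) C := (φ j0).toAlgebra
  have : Module.Flat (R j0) C := hflat j0
  have hsmul : ∀ (r : R j0) (c : C), r • c = incl r • c := by
    intro r c
    rw [Algebra.smul_def, RingHom.algebraMap_toAlgebra]
    rfl
  have hrel : ∑ i, g i • x i = 0 := by
    rw [← hfx]
    refine Finset.sum_congr rfl fun i _ => ?_
    rw [hsmul, hincl]
  obtain ⟨k, a, y, hxy, haz⟩ := Module.Flat.isTrivialRelation_of_sum_smul_eq_zero (R := R j0) (M := C) (f := g) (x := x) hrel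
  refine ⟨k, fun i j' => incl (a i j'), y, ?_, ?_⟩
  · intro i
    rw [hxy i]
    exact Finset.sum_congr rfl fun j' _ => hsmul _ _
  · intro j'
    have h3 := congrArg incl (haz j')
    rw [map_sum, map_zero] at h3
    rw [← h3]
    refine Finset.sum_congr rfl fun i _ => ?_
    rw [map_mul, hincl]

/-- Descent of the Noetherian property along a faithfully flat algebra. -/
theorem isNoetherianRing_of_faithfullyFlat (B : Type u) (C : Type v) [CommRing B] [CommRing C] [Algebra B C]
    [Module.FaithfullyFlat B C] [IsNoetherianRing C] : IsNoetherianRing B := by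
  have h : IsNoetherian C (TensorProduct B C B) :=
    isNoetherian_of_linearEquiv (TensorProduct.AlgebraTensorModule.rid B C C).symm
  exact Submodule.IsNoetherian.of_isNoetherian_tensorProduct_of_faithfullyFlat (A := C) h

end Groth.Agent.R2.H17.FlatUnion
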