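import Groth.Agent.R2.H17FormalLim
import Groth.Agent.R2.H17MilnorExt

/-!
# The Milnor sequence for the cohomology of the limit of a quasi-coherent formal system (helper17)

Namespace `Groth.Agent.R2.H17.FormalLim`.  `milnor_formal` is the statement of S0827 for a system of quasi-coherent
modules with epimorphic transition maps.
-/

set_option autoImplicit false
set_option linter.unusedSectionVars false
set_option linter.style.haveILetI false

universe u

open CategoryTheory CategoryTheory.Limits Opposite AlgebraicGeometry TopologicalSpace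

namespace Groth.Agent.R2.H17.FormalLim

open DerivedCategory Groth.Agent.Lib.Helper17.Hyp Groth.Agent.R2.H10.RlimSingle

variable {X : Scheme.{u}} (G : ℕᵒᵖ ⥤ X.Modules)

section

universe w

variable [HasDerivedCategory.{w} (CohTop.Ab X.carrier)]

/-- `toAb (lim G_n)` is a derived limit of the `toAb G_n`. -/
theorem isRlimVia_toAb_limit (hq : ∀ n, (G.obj (op n)).IsQuasicoherent)
    (hepi : ∀ n, Epi (G.map (homOfLE (Nat.le_succ n)).op)) :
    haveI := hasLimitsOfShape_nat' (J := Opens.grothendieckTopology X.carrier)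
    CohCx.IsRlimVia (KK (Fab G)) (tK (tab G)) (dsgl (Coh.toAb (limit G)))
      (fun n => sMap ((tS X).map (limit.π G (op n)))) := by
  haveI := hasLimitsOfShape_nat' (J := Opens.grothendieckTopology X.carrier)
  let B : Set (Opens X.carrier) := {V | IsAffineOpen (X := X) V}
  have hB' : ∀ U : Opens X.carrier, ∃ (ι : Type u) (Y : ι → Opens X.carrier) (f : ∀ i, Y i ⟶ U),
      Sieve.ofArrows Y f ∈ Opens.grothendieckTopology X.carrier U ∧ ∀ i, Y i ∈ B := by
    intro U
    refine ⟨{V : Opens X.carrier // V ∈ B ∧ V ≤ U}, fun V => V.1, fun V => homOfLE V.2.2, ?_,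
      fun V => V.2.1⟩
    intro x hx
    obtain ⟨V, hVB, hxV, hVU⟩ := Opens.isBasis_iff_nbhd.1 X.isBasis_affineOpens hx
    exact ⟨V, homOfLE hVU,
      Sieve.ofArrows_mk _ _ (⟨V, hVB, hVU⟩ : {V : Opens X.carrier // V ∈ B ∧ V ≤ U}), hxV⟩
  have h1 : ∀ V ∈ B, ∀ (p n : ℕ), Subsingleton (CohSite.HU (Fab G n) (p + 1) V) := by
    intro V hV p n
    haveI := hq n
    exact Groth.Agent.Lib.Helper23.AffVanish.subsingleton_HE_of_isAffineOpen hV (G.obj (op n)) p
  have h2 : ∀ V ∈ B, CohCx.LimOneIsZero (fun n => (Fab G n).obj.obj (op V))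
      (fun n => ((tab G n).hom.app (op V)).hom) := by
    intro V hV
    apply limOneIsZero_of_surjective
    intro n
    haveI := hq n
    haveI := hq (n + 1)
    haveI := hepi n
    exact Groth.Agent.Lib.Helper23.FinType.surjective_app_of_epi (G.map (homOfLE (Nat.le_succ n)).op) hV
  obtain ⟨hR, -⟩ := isRlimVia_limit (Fab G) (tab G) B hB' h1 h2
  haveI : IsIso (sMap (limIso G).hom) :=
    inferInstanceAs (IsIso ((singleFunctor (CohTop.Ab X.carrier) 0).map (limIso G).hom))
  exact isRlimVia_of_iso hR (sMap (limIso G).hom) _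
    (fun n => (sMap_comp _ _).symm.trans (congrArg sMap (limIso_hom_π G n)))

end

theorem milnor_formal (hq : ∀ n, (G.obj (op n)).IsQuasicoherent)
    (hepi : ∀ n, Epi (G.map (homOfLE (Nat.le_succ n)).op)) (p : ℕ) :
    ∃ (α : Formal2.limOne (fun n => Coh.HH X (G.obj (op n)) p) (Formal2.HHsysMap G p) →+
        Coh.HH X (limit G) (p + 1))
      (β : Coh.HH X (limit G) (p + 1) →+
        Formal2.limZero (fun n => Coh.HH X (G.obj (op n)) (p + 1)) (Formal2.HHsysMap G (p + 1))),
      Function.Injective α ∧ Function.Surjective β ∧ α.range = β.ker ∧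
      ∀ (x : Coh.HH X (limit G) (p + 1)) (n : ℕ),
        (β x : ∀ n, Coh.HH X (G.obj (op n)) (p + 1)) n =
          Sheaf.H.map ((SheafOfModules.toSheaf _).map (limit.π G (op n))) (p + 1) x := by
  letI : HasDerivedCategory.{u + 1} (CohTop.Ab X.carrier) := HasDerivedCategory.standard _
  haveI := hasLimitsOfShape_nat'.{u, u + 1} (J := Opens.grothendieckTopology X.carrier)
  have hL := isRlimVia_toAb_limit.{u, u + 1} G hq hepi
  have hπ : ∀ n, (tS X).map (limit.π G (op (n + 1))) ≫ tab G n = (tS X).map (limit.π G (op n)) := by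
    intro n
    rw [← Functor.map_comp, limit.w]
  have hL' : CohCx.IsRlimVia
      (fun n => (singleFunctor (CohTop.Ab X.carrier) 0).obj (Fab G n))
      (fun n => (singleFunctor (CohTop.Ab X.carrier) 0).map (tab G n))
      ((singleFunctor (CohTop.Ab X.carrier) 0).obj (Coh.toAb (limit G)))
      (fun n => (singleFunctor (CohTop.Ab X.carrier) 0).map ((tS X).map (limit.π G (op n)))) := hL
  exact Groth.Agent.R2.H17.MilnorExt.ext_milnor (A := CohTop.Ab X.carrier)
    ((constantSheaf (Opens.grothendieckTopology X.carrier) AddCommGrpCat.{u}).obj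
      (AddCommGrpCat.of (ULift ℤ)))
    (Fab G) (tab G) (Coh.toAb (limit G)) (fun n => (tS X).map (limit.π G (op n))) hL' hπ p

end Groth.Agent.R2.H17.FormalLim
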