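import Groth.Agent.R2.H17RlimMod
import Groth.Agent.R2.H17AdicApprox
import Groth.Agent.R2.H35FFRees
import Groth.Agent.Lib.Helper23QCohSum
import Groth.Prelude.Def_Formal2

/-!
# `(lim G_n)/I^(n+1) = G_n` for a quasi-coherent formal system, `I` finitely generated (helper17)

Namespace `Groth.Agent.R2.H17.FormalTrunc`.

* `HomA A P N`: the group `P ⟶ N` of maps of `O_X`-modules (`X` over `Spec A`) as an `A`-module,
  `postc φ : HomA A P N →ₗ[A] HomA A P N'`.
* `eq_zero_of_affine`, `epi_of_affine_lift`: the modules `O_X ⊗ ℤ_V` (`V` affine) detect zero maps and epimorphisms.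
* `lift_of_epi`: maps out of `O_X ⊗ ℤ_V` (`V` affine) lift along epimorphisms of quasi-coherent modules.
* `exists_sum_of_comp_eq_zero`: sections over an affine of `J N` (quasi-coherent `N`, `J` f.g.) are
  finite sums `∑ a_j • v_j`.
* `exists_lift_limit_of_surj`: lifting a map to one level of a tower to the limit.
* `truncation`: the statement `(lim G_n)/I^(n+1) ≅ G_n` in the form of `Formal2.limit_formal_system_truncation`.
-/

set_option autoImplicit false
set_option linter.unusedSectionVars false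
set_option linter.style.haveILetI false

universe u

open CategoryTheory CategoryTheory.Limits Opposite AlgebraicGeometry TopologicalSpace

namespace Groth.Agent.R2.H17.FormalTrunc

open Groth.Agent.Lib.Helper17.Hyp Groth.Agent.R2.H10.RlimSingle
  Groth.Agent.R2.H17.FormalLim Groth.Agent.R2.H17.RlimMod
  Groth.Agent.R2.H35.FFRees Groth.Agent.R2.H40.FormalMod

attribute [local instance] Abelian.hasFiniteBiproducts

section Generic

variable {𝒞 : Type*} [Category 𝒞] [Preadditive 𝒞] (G : ℕᵒᵖ ⥤ 𝒞) [HasLimit G]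

/-- if maps out of `P` lift along all transition maps, they lift from any level to the limit. -/
lemma exists_lift_limit_of_surj {P : 𝒞}
    (hs : ∀ (m : ℕ) (s : P ⟶ G.obj (op m)),
      ∃ s' : P ⟶ G.obj (op (m + 1)), s' ≫ G.map (homOfLE (Nat.le_succ m)).op = s)
    (k : ℕ) (v : P ⟶ G.obj (op k)) : ∃ w : P ⟶ limit G, w ≫ limit.π G (op k) = v := by
  choose lft hlft using hs
  let x : ∀ m, P ⟶ G.obj (op m) := fun m => Nat.rec (motive := fun m => P ⟶ G.obj (op m))
    (v ≫ G.map (homOfLE (Nat.zero_le k)).op)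
    (fun m xm => if h : m + 1 ≤ k then v ≫ G.map (homOfLE h).op else lft m xm) m
  have hx1 : ∀ m (h : m ≤ k), x m = v ≫ G.map (homOfLE h).op := by
    intro m h
    cases m with
    | zero => rfl
    | succ m => exact dif_pos h
  have hx2 : ∀ m, ¬ (m + 1 ≤ k) → x (m + 1) = lft m (x m) := fun m h => dif_neg h
  obtain ⟨w, hw⟩ := exists_lift_limit G x (fun m => by
    by_cases h : m + 1 ≤ k
    · rw [hx1 (m + 1) h, hx1 m (Nat.le_of_succ_le h), Category.assoc, ← G.map_comp]
      rfl
    · rw [hx2 m h, hlft])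
  refine ⟨w, ?_⟩
  rw [hw k, hx1 k le_rfl]
  have : (homOfLE (le_refl k)).op = 𝟙 (op k) := rfl
  rw [this, G.map_id, Category.comp_id]

end Generic

variable {A : Type u} [CommRing A] {X : Scheme.{u}} [X.Over (Spec (CommRingCat.of A))]

/-! ### Hom groups as `A`-modules -/

/-- `P ⟶ N` as an `A`-module (`a • s = s ≫ a`). -/
def HomA (_A : Type u) {X : Scheme.{u}} (P N : X.Modules) : Type u := P ⟶ N

noncomputable instance (P N : X.Modules) : AddCommGroup (HomA A P N) :=
  inferInstanceAs (AddCommGroup (P ⟶ N))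

noncomputable instance (P N : X.Modules) : Module A (HomA A P N) where
  smul a s := (show P ⟶ N from s) ≫ Formal.smulMod A N a
  one_smul s := by
    change (show P ⟶ N from s) ≫ Formal.smulMod A N 1 = s
    rw [smulMod_one, Category.comp_id]
  mul_smul a b s := by
    change (show P ⟶ N from s) ≫ Formal.smulMod A N (a * b) =
      ((show P ⟶ N from s) ≫ Formal.smulMod A N b) ≫ Formal.smulMod A N a
    rw [smulMod_mul, Category.assoc]
  smul_zero a := by
    change (0 : P ⟶ N) ≫ Formal.smulMod A N a = 0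
    rw [zero_comp]
  smul_add a s t := by
    change ((show P ⟶ N from s) + (show P ⟶ N from t)) ≫ Formal.smulMod A N a =
      (show P ⟶ N from s) ≫ Formal.smulMod A N a + (show P ⟶ N from t) ≫ Formal.smulMod A N a
    rw [Preadditive.add_comp]
  add_smul a b s := by
    change (show P ⟶ N from s) ≫ Formal.smulMod A N (a + b) =
      (show P ⟶ N from s) ≫ Formal.smulMod A N a + (show P ⟶ N from s) ≫ Formal.smulMod A N b
    rw [smulMod_add, Preadditive.comp_add]
  zero_smul s := by
    change (show P ⟶ N from s) ≫ Formal.smulMod A N 0 = 0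
    rw [smulMod_zero, comp_zero]

lemma smul_def {P N : X.Modules} (a : A) (s : HomA A P N) :
    a • s = (show P ⟶ N from s) ≫ Formal.smulMod A N a := rfl

/-- post-composition, as an `A`-linear map. -/
noncomputable def postc {P N N' : X.Modules} (φ : N ⟶ N') : HomA A P N →ₗ[A] HomA A P N' where
  toFun s := (show P ⟶ N from s) ≫ φ
  map_add' s t := Preadditive.add_comp _ _ _ _ _ _
  map_smul' a s := by
    change ((show P ⟶ N from s) ≫ Formal.smulMod A N a) ≫ φ =
      ((show P ⟶ N from s) ≫ φ) ≫ Formal.smulMod A N' a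
    rw [Category.assoc, Category.assoc, Groth.Agent.S9530.smulMod_comp]

lemma postc_apply {P N N' : X.Modules} (φ : N ⟶ N') (s : HomA A P N) :
    postc (A := A) φ s = (show P ⟶ N from s) ≫ φ := rfl

/-! ### Affine generators -/

omit [X.Over (Spec (CommRingCat.of A))] in
/-- a map of modules is zero if it kills all maps from the `O_X ⊗ ℤ_V`, `V` affine. -/
theorem eq_zero_of_affine {M N : X.Modules} (ψ : M ⟶ N)
    (h : ∀ (V : X.Opens), IsAffineOpen V → ∀ s : (frX X).obj V ⟶ M, s ≫ ψ = 0) : ψ = 0 := by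
  have hL := locFr_frX (X := X)
  apply hL.gen
  intro U s
  refine hL.sep U (s ≫ ψ) (sieveB {V : Opens X.carrier | IsAffineOpen (X := X) V} U)
    (sieveB_mem' _ (affine_cover X) U) ?_
  rintro W g ⟨V, k, g', hV, rfl⟩
  rw [Functor.map_comp, Category.assoc, ← Category.assoc ((frX X).map g') s ψ, h V hV, comp_zero]

omit [X.Over (Spec (CommRingCat.of A))] in
/-- a map of modules along which all maps from the `O_X ⊗ ℤ_V`, `V` affine, lift is an epimorphism. -/
theorem epi_of_affine_lift {M N : X.Modules} (φ : M ⟶ N)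
    (h : ∀ (V : X.Opens), IsAffineOpen V → ∀ s : (frX X).obj V ⟶ N, ∃ s', s' ≫ φ = s) : Epi φ := by
  refine epi_of_local_lift' (locFr_frX (X := X)) φ (fun U s => ?_)
  refine ⟨sieveB {V : Opens X.carrier | IsAffineOpen (X := X) V} U,
    sieveB_mem' _ (affine_cover X) U, ?_⟩
  rintro W g ⟨V, k, g', hV, rfl⟩
  obtain ⟨s', hs'⟩ := h V hV ((frX X).map g' ≫ s)
  exact ⟨(frX X).map k ≫ s', by rw [Category.assoc, hs', Functor.map_comp, Category.assoc]⟩

omit [X.Over (Spec (CommRingCat.of A))] in
/-- maps out of `O_X ⊗ ℤ_V`, `V` affine, lift along epimorphisms of quasi-coherent modules. -/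
theorem lift_of_epi {M N : X.Modules} [M.IsQuasicoherent] [N.IsQuasicoherent] (φ : M ⟶ N) [Epi φ]
    {V : X.Opens} (hV : IsAffineOpen V) (s : (frX X).obj V ⟶ N) : ∃ s', s' ≫ φ = s := by
  have hsurj : Function.Surjective (((tS X).map φ).hom.app (op V)) :=
    Groth.Agent.Lib.Helper23.FinType.surjective_app_of_epi φ hV
  obtain ⟨τ, hτ⟩ := hsurj (homFrEquiv V N s)
  refine ⟨(homFrEquiv V M).symm τ, (homFrEquiv V N).injective ?_⟩
  rw [homFrEquiv_comp, AddEquiv.apply_symm_apply, hτ]

/-! ### Sections of `J N` over an affine open -/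

/-- the map `⨁_j N ⟶ N` given by multiplication by the `a j`. -/
noncomputable def sumMul {r : ℕ} (a : Fin r → A) (N : X.Modules) : (⨁ fun _ : Fin r => N) ⟶ N :=
  biproduct.desc (fun j => Formal.smulMod A N (a j))

theorem exists_sum_of_comp_eq_zero {N Q : X.Modules} [N.IsQuasicoherent] [Q.IsQuasicoherent]
    (t : N ⟶ Q) (J : Ideal A) {r : ℕ} (a : Fin r → A) (ha : Ideal.span (Set.range a) = J)
    (h : Formal.smulFamily J N ≫ t = 0) (hiso : IsIso (cokernel.desc _ _ h))
    {V : X.Opens} (hV : IsAffineOpen V) (s : (frX X).obj V ⟶ N) (hs : s ≫ t = 0) :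
    ∃ v : Fin r → ((frX X).obj V ⟶ N), s = ∑ j, v j ≫ Formal.smulMod A N (a j) := by
  classical
  have haJ : ∀ j, a j ∈ J := fun j => ha ▸ Ideal.subset_span ⟨j, rfl⟩
  -- `t` is a cokernel of `smulFamily`
  have hcok : IsColimit (CokernelCofork.ofπ t h) :=
    IsColimit.ofIsoColimit (cokernelIsCokernel (Formal.smulFamily J N))
      (Cofork.ext (asIso (cokernel.desc _ _ h)) (by simp))
  have hex : (ShortComplex.mk (Formal.smulFamily J N) t h).Exact :=
    ShortComplex.exact_of_g_is_cokernel _ hcok
  have hepi : Epi (kernel.lift t (Formal.smulFamily J N) h) :=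
    (ShortComplex.exact_iff_epi_kernel_lift _).1 hex
  -- coefficients
  have hcoef : ∀ b : J, ∃ c : Fin r → A, ∑ j, c j * a j = (b : A) := fun b =>
    Ideal.mem_span_range_iff_exists_fun.1 (ha ▸ b.2)
  choose coef hcoef using hcoef
  let c : (∐ fun _ : J => N) ⟶ ⨁ fun _ : Fin r => N :=
    Sigma.desc (fun b => biproduct.lift (fun j => Formal.smulMod A N (coef b j)))
  have hc : c ≫ sumMul a N = Formal.smulFamily J N := by
    apply Sigma.hom_ext
    intro b
    have e1 : Sigma.ι (fun _ : J => N) b ≫ Formal.smulFamily J N = Formal.smulMod A N (b : A) := by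
      simp [Formal.smulFamily]
    rw [e1]
    simp only [c, sumMul, colimit.ι_desc_assoc, Cofan.mk_ι_app, biproduct.lift_desc]
    rw [← hcoef b, smulMod_sum]
    refine Finset.sum_congr rfl fun j _ => ?_
    rw [smulMod_mul']
  have hσt : sumMul a N ≫ t = 0 := by
    apply biproduct.hom_ext'
    intro j
    rw [comp_zero]
    simp only [sumMul, biproduct.ι_desc_assoc]
    exact (Groth.Agent.S9530.smulFamily_comp_eq_zero_iff t).1 h (a j) (haJ j)
  have hσ' : Epi (kernel.lift t (sumMul a N) hσt) := by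
    have e : c ≫ kernel.lift t (sumMul a N) hσt = kernel.lift t (Formal.smulFamily J N) h := by
      rw [← cancel_mono (kernel.ι t), Category.assoc, kernel.lift_ι, kernel.lift_ι, hc]
    exact epi_of_epi_fac e
  haveI : (kernel t).IsQuasicoherent := Groth.Agent.Lib.Helper23.QCohLocal.isQuasicoherent_kernel t
  haveI : (⨁ fun _ : Fin r => N).IsQuasicoherent :=
    Groth.Agent.Lib.Helper23.QCohLocal.isQuasicoherent_biproduct _ (fun _ => inferInstance)
  obtain ⟨s', hs'⟩ := lift_of_epi (kernel.lift t (sumMul a N) hσt) hV (kernel.lift t s hs)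
  refine ⟨fun j => s' ≫ biproduct.π _ j, ?_⟩
  have e1 : s = s' ≫ sumMul a N := by
    have := congrArg (fun k => k ≫ kernel.ι t) hs'
    simpa using this.symm
  rw [e1]
  conv_lhs => rw [← Category.id_comp (sumMul a N), ← biproduct.total, Preadditive.sum_comp,
    Preadditive.comp_sum]
  refine Finset.sum_congr rfl fun j _ => ?_
  simp only [sumMul, Category.assoc, biproduct.ι_desc]

/-! ### The truncation theorem -/

variable (I : Ideal A) (G : ℕᵒᵖ ⥤ X.Modules)

/-- the kernel filtration on `Hom(P, lim G)`. -/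
noncomputable def Kfil (P : X.Modules) (k : ℕ) : Submodule A (HomA A P (limit G)) :=
  LinearMap.ker (postc (A := A) (P := P) (limit.π G (op k)))

lemma mem_Kfil {P : X.Modules} {k : ℕ} (s : HomA A P (limit G)) :
    s ∈ Kfil (A := A) G P k ↔ (show P ⟶ limit G from s) ≫ limit.π G (op k) = 0 := Iff.rfl

theorem Kfil_le (hI : I.FG) (hG : Formal2.IsQCohFormal I G) {V : X.Opens} (hV : IsAffineOpen V) (n : ℕ) :
    Kfil (A := A) G ((frX X).obj V) n ≤ I ^ (n + 1) • (⊤ : Submodule A (HomA A ((frX X).obj V) (limit G))) := by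
  obtain ⟨hq, hkill, hiso⟩ := hG
  have hepi : ∀ m, Epi (G.map (homOfLE (Nat.le_succ m)).op) := by
    intro m
    obtain ⟨h, hi⟩ := hiso m
    have := hi
    have e : G.map (homOfLE (Nat.le_succ m)).op = cokernel.π _ ≫ cokernel.desc _ _ h :=
      (cokernel.π_desc _ _ h).symm
    rw [e]
    have : Epi (cokernel.desc _ _ h) := IsIso.epi_of_iso _
    exact epi_comp _ _
  have hlift : ∀ (m : ℕ) (s : (frX X).obj V ⟶ G.obj (op m)),
      ∃ s' : (frX X).obj V ⟶ G.obj (op (m + 1)), s' ≫ G.map (homOfLE (Nat.le_succ m)).op = s := by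
    intro m s
    haveI := hq m
    haveI := hq (m + 1)
    haveI := hepi m
    exact lift_of_epi _ hV s
  refine Groth.Agent.R2.H17.AdicApprox.le_pow_smul_top I (Kfil (A := A) G ((frX X).obj V)) hI
    ?_ ?_ ?_ ?_ ?_ n
  · -- h1
    intro k s hs
    rw [mem_Kfil] at hs
    obtain ⟨r, a, ha0⟩ := Submodule.fg_iff_exists_fin_generating_family.1 (Ideal.FG.pow (n := k + 1) hI)
    have ha : Ideal.span (Set.range a) = I ^ (k + 1) := ha0
    have haI : ∀ j, a j ∈ I ^ (k + 1) := fun j => ha ▸ Ideal.subset_span ⟨j, rfl⟩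
    obtain ⟨h, hi⟩ := hiso k
    haveI := hq k
    haveI := hq (k + 1)
    have hs1 : ((show (frX X).obj V ⟶ limit G from s) ≫ limit.π G (op (k + 1))) ≫
        G.map (homOfLE (Nat.le_succ k)).op = 0 := by
      rw [Category.assoc, π_succ_comp, hs]
    obtain ⟨v, hv⟩ := exists_sum_of_comp_eq_zero (G.map (homOfLE (Nat.le_succ k)).op) (I ^ (k + 1)) a ha h hi hV
      _ hs1
    have hw : ∀ j, ∃ w : (frX X).obj V ⟶ limit G, w ≫ limit.π G (op (k + 1)) = v j := fun j =>
      exists_lift_limit_of_surj G hlift (k + 1) (v j)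
    choose w hw using hw
    let w' : Fin r → HomA A ((frX X).obj V) (limit G) := w
    refine Submodule.mem_sup.2 ⟨s - ∑ j, a j • w' j, ?_, ∑ j, a j • w' j, ?_, by abel⟩
    · change postc (A := A) (limit.π G (op (k + 1))) (s - ∑ j, a j • w' j) = 0
      rw [map_sub, map_sum, sub_eq_zero]
      have e1 : postc (A := A) (limit.π G (op (k + 1))) s =
          (show (frX X).obj V ⟶ limit G from s) ≫ limit.π G (op (k + 1)) := rfl
      rw [e1, hv]
      refine Finset.sum_congr rfl fun j _ => ?_
      rw [map_smul]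
      change _ = (w j ≫ limit.π G (op (k + 1))) ≫ Formal.smulMod A _ (a j)
      rw [hw j]
    · exact Submodule.sum_mem _ fun j _ => Submodule.smul_mem_smul (haI j) Submodule.mem_top
  · -- h2
    intro k
    refine Submodule.smul_le.2 (fun a ha s _ => ?_)
    rw [mem_Kfil]
    change ((show (frX X).obj V ⟶ limit G from s) ≫ Formal.smulMod A (limit G) a) ≫ limit.π G (op k) = 0
    rw [Category.assoc, Groth.Agent.S9530.smulMod_comp, hkill k a ha, comp_zero, comp_zero]
  · -- mono
    intro k s hs
    rw [mem_Kfil] at hs ⊢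
    rw [← π_succ_comp G k, ← Category.assoc, hs, zero_comp]
  · -- complete
    intro z hz
    obtain ⟨w, hw⟩ := exists_lift_limit G
      (fun N => (show (frX X).obj V ⟶ limit G from z N) ≫ limit.π G (op N)) (fun N => by
        have h1 := hz N
        rw [mem_Kfil] at h1
        have h2 : (show (frX X).obj V ⟶ limit G from z (N + 1)) ≫ limit.π G (op N) =
            (show (frX X).obj V ⟶ limit G from z N) ≫ limit.π G (op N) := by
          rw [← sub_eq_zero, ← Preadditive.sub_comp]
          exact h1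
        rw [Category.assoc, π_succ_comp, h2])
    refine ⟨w, fun N => ?_⟩
    rw [mem_Kfil]
    change (w - (show (frX X).obj V ⟶ limit G from z N)) ≫ limit.π G (op N) = 0
    rw [Preadditive.sub_comp, hw N, sub_self]
  · -- separated
    intro x hx
    exact hom_ext_limit G (show (frX X).obj V ⟶ limit G from x) (fun N => (mem_Kfil G x).1 (hx N))

theorem truncation (hI : I.FG) (hG : Formal2.IsQCohFormal I G) (n : ℕ) :
    ∃ h : Formal.smulFamily (I ^ (n + 1)) (limit G) ≫ limit.π G (op n) = 0,
      IsIso (cokernel.desc _ _ h) := by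
  have hG' := hG
  obtain ⟨hq, hkill, hiso⟩ := hG
  have h : Formal.smulFamily (I ^ (n + 1)) (limit G) ≫ limit.π G (op n) = 0 := by
    refine (Groth.Agent.S9530.smulFamily_comp_eq_zero_iff _).2 (fun a ha => ?_)
    rw [Groth.Agent.S9530.smulMod_comp, hkill n a ha, comp_zero]
  refine ⟨h, ?_⟩
  have hepi : ∀ m, Epi (G.map (homOfLE (Nat.le_succ m)).op) := by
    intro m
    obtain ⟨h, hi⟩ := hiso m
    have := hi
    have e : G.map (homOfLE (Nat.le_succ m)).op = cokernel.π _ ≫ cokernel.desc _ _ h :=
      (cokernel.π_desc _ _ h).symm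
    rw [e]
    have : Epi (cokernel.desc _ _ h) := IsIso.epi_of_iso _
    exact epi_comp _ _
  -- `π_n` is an epimorphism
  haveI hπ : Epi (limit.π G (op n)) := by
    refine epi_of_affine_lift _ (fun V hV s => ?_)
    refine exists_lift_limit_of_surj G (fun m s => ?_) n s
    haveI := hq m
    haveI := hq (m + 1)
    haveI := hepi m
    exact lift_of_epi _ hV s
  -- the kernel of `π_n` dies in the cokernel
  have hker : kernel.ι (limit.π G (op n)) ≫ cokernel.π (Formal.smulFamily (I ^ (n + 1)) (limit G)) = 0 := by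
    refine eq_zero_of_affine _ (fun V hV s => ?_)
    let s₀ : HomA A ((frX X).obj V) (limit G) := s ≫ kernel.ι (limit.π G (op n))
    have hs₀ : s₀ ∈ Kfil (A := A) G ((frX X).obj V) n := by
      rw [mem_Kfil]
      change (s ≫ kernel.ι (limit.π G (op n))) ≫ limit.π G (op n) = 0
      rw [Category.assoc, kernel.condition, comp_zero]
    have h1 := Kfil_le I G hI hG' hV n hs₀
    have h2 : I ^ (n + 1) • (⊤ : Submodule A (HomA A ((frX X).obj V) (limit G))) ≤
        LinearMap.ker (postc (A := A) (cokernel.π (Formal.smulFamily (I ^ (n + 1)) (limit G)))) := by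
      refine Submodule.smul_le.2 (fun a ha x _ => ?_)
      change ((show (frX X).obj V ⟶ limit G from x) ≫ Formal.smulMod A (limit G) a) ≫
        cokernel.π (Formal.smulFamily (I ^ (n + 1)) (limit G)) = 0
      rw [Category.assoc,
        (Groth.Agent.S9530.smulFamily_comp_eq_zero_iff _).1 (cokernel.condition _) a ha, comp_zero]
    have h3 := h2 h1
    rw [← Category.assoc]
    exact h3
  -- the inverse
  have hcok : IsColimit (CokernelCofork.ofπ (limit.π G (op n)) (kernel.condition _)) :=
    Abelian.epiIsCokernelOfKernel _ (limit.isLimit _)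
  let r : G.obj (op n) ⟶ cokernel (Formal.smulFamily (I ^ (n + 1)) (limit G)) :=
    hcok.desc (CokernelCofork.ofπ _ hker)
  have hr : limit.π G (op n) ≫ r = cokernel.π _ := hcok.fac _ WalkingParallelPair.one
  refine ⟨r, ?_, ?_⟩
  · rw [← cancel_epi (cokernel.π (Formal.smulFamily (I ^ (n + 1)) (limit G))), ← Category.assoc,
      cokernel.π_desc, hr, Category.comp_id]
  · rw [← cancel_epi (limit.π G (op n)), ← Category.assoc, hr, cokernel.π_desc, Category.comp_id]

end Groth.Agent.R2.H17.FormalTrunc
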