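import Mathlib

/-!
# Inverse limits of adic towers of rings (helper17)

ns `Groth.Agent.R2.H17.LimAlg`.  Given a tower `t n : A (n+1) →+* A n` of surjective ring maps with
`ker (t n) = ker (A (n+1) → A 0)^(n+1)` and `ker (A 1 → A 0)` finitely generated, the inverse limit
`lim t` (a subring of the product) is `J`-adically complete for `J = ker (lim t → A 0)`, and
`lim t → A n` is surjective with kernel `J^(n+1)` (EGA 0_I 7.2.7).
-/

set_option autoImplicit false
universe u

namespace Groth.Agent.R2.H17.LimAlg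

section Tower

variable {A : ℕ → Type u} [∀ n, CommRing (A n)] (t : ∀ n, A (n + 1) →+* A n)

/-- The inverse limit of the tower, as a subring of the product. -/
def lim : Subring (∀ n, A n) where
  carrier := {x | ∀ n, t n (x (n + 1)) = x n}
  mul_mem' := by
    intro x y hx hy n
    simp only [Pi.mul_apply, map_mul, hx n, hy n]
  one_mem' := by intro n; simp
  add_mem' := by
    intro x y hx hy n
    simp only [Pi.add_apply, map_add, hx n, hy n]
  zero_mem' := by intro n; simp
  neg_mem' := by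
    intro x hx n
    simp only [Pi.neg_apply, map_neg, hx n]

/-- The projections. -/
def π (n : ℕ) : lim t →+* A n := (Pi.evalRingHom A n).comp (lim t).subtype

theorem π_apply (n : ℕ) (x : lim t) : π t n x = x.1 n := rfl

theorem t_π (n : ℕ) (x : lim t) : t n (π t (n + 1) x) = π t n x := x.2 n

theorem lim_ext {x y : lim t} (h : ∀ n, π t n x = π t n y) : x = y := Subtype.ext (funext h)

/-- The universal property. -/
def lift {R : Type*} [CommRing R] (f : ∀ n, R →+* A n) (hf : ∀ n r, t n (f (n + 1) r) = f n r) :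
    R →+* lim t :=
  RingHom.codRestrict (RingHom.pi f) (lim t) (fun r n => hf n r)

theorem π_lift {R : Type*} [CommRing R] (f : ∀ n, R →+* A n) (hf : ∀ n r, t n (f (n + 1) r) = f n r)
    (n : ℕ) (r : R) : π t n (lift t f hf r) = f n r := rfl

/-- The composite `A n → A 0`. -/
def toZero : ∀ n, A n →+* A 0
  | 0 => RingHom.id _
  | n + 1 => (toZero n).comp (t n)

theorem toZero_succ (n : ℕ) : toZero t (n + 1) = (toZero t n).comp (t n) := rfl

theorem toZero_π (n : ℕ) (x : lim t) : toZero t n (π t n x) = π t 0 x := by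
  induction n with
  | zero => rfl
  | succ n ih =>
    change toZero t n (t n (π t (n + 1) x)) = _
    rw [t_π, ih]

section Surj

theorem exists_partial (n : ℕ) (a : A n) :
    ∃ x : ∀ m, A m, x n = a ∧ ∀ m < n, t m (x (m + 1)) = x m := by
  classical
  induction n with
  | zero => exact ⟨Pi.single 0 a, by simp, by intro m hm; omega⟩
  | succ n ih =>
    obtain ⟨x, hx, hc⟩ := ih (t n a)
    refine ⟨Function.update x (n + 1) a, by simp, ?_⟩
    intro m hm
    rcases Nat.lt_succ_iff_lt_or_eq.mp hm with h | rfl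
    · rw [Function.update_of_ne (by omega), Function.update_of_ne (by omega)]
      exact hc m h
    · rw [Function.update_self, Function.update_of_ne (by omega), hx]

variable (hs : ∀ n, Function.Surjective (t n))

/-- Extend a partial section to a full one. -/
noncomputable def extend (n : ℕ) (x : ∀ m, A m) : ∀ m, A m
  | 0 => x 0
  | m + 1 => if m + 1 ≤ n then x (m + 1) else Classical.choose (hs m (extend n x m))

theorem extend_of_le (n : ℕ) (x : ∀ m, A m) (m : ℕ) (hm : m ≤ n) : extend t hs n x m = x m := by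
  cases m with
  | zero => rfl
  | succ m => simp only [extend, if_pos hm]

theorem extend_compat (n : ℕ) (x : ∀ m, A m) (hx : ∀ m < n, t m (x (m + 1)) = x m) (m : ℕ) :
    t m (extend t hs n x (m + 1)) = extend t hs n x m := by
  by_cases h : m + 1 ≤ n
  · rw [extend_of_le t hs n x _ h, extend_of_le t hs n x _ (by omega)]
    exact hx m h
  · simp only [extend, if_neg h]
    exact Classical.choose_spec (hs m (extend t hs n x m))

include hs in
theorem π_surjective (n : ℕ) : Function.Surjective (π t n) := by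
  intro a
  obtain ⟨x, hx, hc⟩ := exists_partial t n a
  refine ⟨⟨extend t hs n x, extend_compat t hs n x hc⟩, ?_⟩
  rw [π_apply]
  change extend t hs n x n = a
  rw [extend_of_le t hs n x n le_rfl, hx]

end Surj

/-- The kernels of the projections. -/
abbrev K (n : ℕ) : Ideal (lim t) := RingHom.ker (π t n)

/-- The kernels of `A n → A 0`. -/
abbrev J' (n : ℕ) : Ideal (A n) := RingHom.ker (toZero t n)

theorem K_succ_le (n : ℕ) : K t (n + 1) ≤ K t n := by
  intro x hx
  rw [RingHom.mem_ker] at hx ⊢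
  rw [← t_π, hx, map_zero]

theorem K_antitone : Antitone (K t) := antitone_nat_of_succ_le (K_succ_le t)

theorem iInf_K : ∀ x : lim t, (∀ n, x ∈ K t n) → x = 0 := by
  intro x hx
  apply lim_ext
  intro n
  rw [map_zero]
  exact hx n

theorem K_zero_eq_comap (n : ℕ) : K t 0 = (J' t n).comap (π t n) := by
  ext x
  simp only [RingHom.mem_ker, Ideal.mem_comap, toZero_π]

theorem J'_succ_comap (n : ℕ) : J' t (n + 1) = (J' t n).comap (t n) := by
  ext x
  simp only [RingHom.mem_ker, Ideal.mem_comap, toZero_succ, RingHom.comp_apply]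

variable (hs : ∀ n, Function.Surjective (t n))
variable (hk : ∀ n, RingHom.ker (t n) = RingHom.ker (toZero t (n + 1)) ^ (n + 1))

include hs in
theorem map_K_zero (n : ℕ) : (K t 0).map (π t n) = J' t n := by
  rw [K_zero_eq_comap t n, Ideal.map_comap_of_surjective _ (π_surjective t hs n)]

include hs hk in
theorem J'_pow (n : ℕ) : (J' t n) ^ (n + 1) = ⊥ := by
  have h : J' t n = (J' t (n + 1)).map (t n) := by
    rw [J'_succ_comap, Ideal.map_comap_of_surjective _ (hs n)]
  rw [h, ← Ideal.map_pow, ← hk n]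
  exact (Ideal.map_eq_bot_iff_le_ker _).mpr le_rfl

include hs hk in
theorem J_pow_le_K (n : ℕ) : (K t 0) ^ (n + 1) ≤ K t n := by
  rw [← Ideal.map_eq_bot_iff_le_ker, Ideal.map_pow, map_K_zero t hs, J'_pow t hs hk]

include hs hk in
theorem K_le_sup (n : ℕ) : K t n ≤ (K t 0) ^ (n + 1) ⊔ K t (n + 1) := by
  intro x hx
  have h1 : π t (n + 1) x ∈ RingHom.ker (t n) := by
    rw [RingHom.mem_ker, t_π]; exact hx
  rw [hk n] at h1
  change π t (n + 1) x ∈ (J' t (n + 1)) ^ (n + 1) at h1
  rw [← map_K_zero t hs (n + 1), ← Ideal.map_pow] at h1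
  obtain ⟨y, hy, hxy⟩ := (Ideal.mem_map_iff_of_surjective _ (π_surjective t hs (n + 1))).mp h1
  have h2 : x = y + (x - y) := by ring
  rw [h2]
  refine Ideal.add_mem _ (Ideal.mem_sup_left hy) (Ideal.mem_sup_right ?_)
  rw [RingHom.mem_ker, map_sub, hxy, sub_self]

include hs hk in
theorem J_mul_K_le (n : ℕ) : K t 0 * K t n ≤ K t (n + 1) := by
  rw [Ideal.mul_le]
  intro x hx y hy
  rw [RingHom.mem_ker, map_mul]
  have h1 : π t (n + 1) x ∈ J' t (n + 1) := by
    rw [RingHom.mem_ker, toZero_π]; exact hx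
  have h2 : π t (n + 1) y ∈ (J' t (n + 1)) ^ (n + 1) := by
    change _ ∈ RingHom.ker (toZero t (n + 1)) ^ (n + 1)
    rw [← hk n, RingHom.mem_ker, t_π]; exact hy
  have h3 : π t (n + 1) x * π t (n + 1) y ∈ (J' t (n + 1)) ^ (n + 1 + 1) := by
    rw [pow_succ']; exact Ideal.mul_mem_mul h1 h2
  rw [J'_pow t hs hk (n + 1)] at h3
  exact h3

include hs hk in
theorem J_pow_mul_K_le (m n : ℕ) : (K t 0) ^ m * K t n ≤ K t (n + m) := by
  induction m with
  | zero => simp
  | succ m ih =>
    rw [pow_succ', mul_assoc]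
    exact (Ideal.mul_mono_right ih).trans (J_mul_K_le t hs hk (n + m))

section FG

variable (a : Ideal (lim t)) (haJ : a ≤ K t 0) (hJa : K t 0 ≤ a ⊔ K t 1)

include hs hk haJ hJa in
theorem J_pow_le_sup (n : ℕ) : (K t 0) ^ (n + 1) ≤ a ^ (n + 1) ⊔ K t (n + 1) := by
  induction n with
  | zero => simpa using hJa
  | succ n ih =>
    calc (K t 0) ^ (n + 1 + 1) = K t 0 * (K t 0) ^ (n + 1) := pow_succ' _ _
      _ ≤ (a ⊔ K t 1) * (K t 0) ^ (n + 1) := Ideal.mul_mono_left hJa
      _ = a * (K t 0) ^ (n + 1) ⊔ K t 1 * (K t 0) ^ (n + 1) := Ideal.sup_mul _ _ _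
      _ ≤ a ^ (n + 1 + 1) ⊔ K t (n + 1 + 1) := by
        refine sup_le ?_ ?_
        · calc a * (K t 0) ^ (n + 1) ≤ a * (a ^ (n + 1) ⊔ K t (n + 1)) := Ideal.mul_mono_right ih
            _ = a * a ^ (n + 1) ⊔ a * K t (n + 1) := Ideal.mul_sup _ _ _
            _ ≤ a ^ (n + 1 + 1) ⊔ K t (n + 1 + 1) := by
              refine sup_le_sup (le_of_eq (pow_succ' _ _).symm) ?_
              exact (Ideal.mul_mono_left haJ).trans (J_mul_K_le t hs hk (n + 1))
        · refine le_sup_of_le_right ?_
          rw [mul_comm]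
          have := J_pow_mul_K_le t hs hk (n + 1) 1
          rwa [Nat.add_comm 1 (n + 1)] at this

include hs hk haJ hJa in
theorem K_le_sup' (n : ℕ) : K t n ≤ a ^ (n + 1) ⊔ K t (n + 1) :=
  (K_le_sup t hs hk n).trans (sup_le (J_pow_le_sup t hs hk a haJ hJa n) le_sup_right)

include hs hk haJ in
theorem pow_le_K (n : ℕ) : a ^ (n + 1) ≤ K t n :=
  (Ideal.pow_right_mono haJ _).trans (J_pow_le_K t hs hk n)

end FG

section Completion

open AdicCompletion

theorem ker_evalₐ {R : Type u} [CommRing R] (I : Ideal R) (hI : I.FG) (n : ℕ) :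
    RingHom.ker (AdicCompletion.evalₐ I n).toRingHom =
      (I.map (algebraMap R (AdicCompletion I R))) ^ n := by
  ext x
  trans x ∈ (AdicCompletion.eval I R n).ker
  · have eq : I ^ n * ⊤ = I ^ n := by simp
    have : Function.Injective (Ideal.Quotient.factor ((le_of_eq eq))) := by
      simpa [RingHom.injective_iff_ker_eq_bot, Ideal.Quotient.factor_ker]
        using Ideal.map_mk_eq_bot_of_le (le_of_eq eq.symm)
    simpa [← factor_eval_eq_evalₐ] using map_eq_zero_iff _ this
  · rw [← pow_smul_top_eq_ker_eval hI, ← Ideal.map_pow, Ideal.smul_top_eq_map]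
    simp

variable (a : Ideal (lim t)) (haJ : a ≤ K t 0) (hJa : K t 0 ≤ a ⊔ K t 1)

/-- The level maps `AdicCompletion a (lim t) → A m`. -/
noncomputable def ψlevel (m : ℕ) : AdicCompletion a (lim t) →+* A m :=
  (Ideal.Quotient.lift (a ^ (m + 1)) (π t m) (fun _ hx => pow_le_K t hs hk a haJ m hx)).comp
    (AdicCompletion.evalₐ a (m + 1)).toRingHom

theorem ψlevel_mk (m : ℕ) (f : AdicCauchySequence a (lim t)) :
    ψlevel t hs hk a haJ m (AdicCompletion.mk a (lim t) f) = π t m (f.val (m + 1)) := by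
  simp only [ψlevel, RingHom.comp_apply, AlgHom.toRingHom_eq_coe, RingHom.coe_coe, AdicCompletion.evalₐ_mk]
  exact Ideal.Quotient.lift_mk _ _ _

theorem ψlevel_compat (m : ℕ) (b : AdicCompletion a (lim t)) :
    t m (ψlevel t hs hk a haJ (m + 1) b) = ψlevel t hs hk a haJ m b := by
  obtain ⟨f, rfl⟩ := AdicCompletion.mk_surjective a (lim t) b
  rw [ψlevel_mk, ψlevel_mk, t_π]
  have h := f.2 (Nat.le_succ (m + 1))
  rw [SModEq.sub_mem] at h
  have h2 : f.val (m + 1) - f.val (m + 1 + 1) ∈ K t m := by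
    apply pow_le_K t hs hk a haJ m
    simpa using h
  rw [RingHom.mem_ker, map_sub, sub_eq_zero] at h2
  exact h2.symm

/-- The retraction of `lim t → AdicCompletion a (lim t)`. -/
noncomputable def ψ : AdicCompletion a (lim t) →+* lim t :=
  lift t (ψlevel t hs hk a haJ) (ψlevel_compat t hs hk a haJ)

theorem π_ψ_mk (m : ℕ) (f : AdicCauchySequence a (lim t)) :
    π t m (ψ t hs hk a haJ (AdicCompletion.mk a (lim t) f)) = π t m (f.val (m + 1)) := by
  rw [ψ, π_lift, ψlevel_mk]

theorem ψ_algebraMap (x : lim t) :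
    ψ t hs hk a haJ (algebraMap (lim t) (AdicCompletion a (lim t)) x) = x := by
  apply lim_ext
  intro m
  rw [ψ, π_lift, ψlevel]
  simp only [RingHom.comp_apply, AlgHom.toRingHom_eq_coe, RingHom.coe_coe, AdicCompletion.algebraMap_apply,
    Algebra.algebraMap_self, RingHom.id_apply, AdicCompletion.evalₐ_of]
  exact Ideal.Quotient.lift_mk _ _ _

theorem ψ_comp : (ψ t hs hk a haJ).comp (algebraMap (lim t) (AdicCompletion a (lim t))) =
    RingHom.id _ := RingHom.ext (ψ_algebraMap t hs hk a haJ)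

include hs hk haJ hJa in
theorem step_exists (N : ℕ) (y : lim t) (hy : y ∈ K t N) :
    ∃ v, v ∈ K t (N + 1) ∧ y - v ∈ a ^ (N + 1) := by
  obtain ⟨u, hu, v, hv, huv⟩ := Submodule.mem_sup.mp (K_le_sup' t hs hk a haJ hJa N hy)
  refine ⟨v, hv, ?_⟩
  rw [← huv]; simpa using hu

/-- remainder sequence -/
noncomputable def rem (n : ℕ) (x : lim t) (hx : x ∈ K t n) : ∀ N, {y : lim t // y ∈ K t (n + N)}
  | 0 => ⟨x, hx⟩
  | N + 1 => ⟨Classical.choose (step_exists t hs hk a haJ hJa (n + N) (rem n x hx N).1 (rem n x hx N).2),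
      (Classical.choose_spec (step_exists t hs hk a haJ hJa (n + N) (rem n x hx N).1 (rem n x hx N).2)).1⟩

theorem rem_sub (n : ℕ) (x : lim t) (hx : x ∈ K t n) (N : ℕ) :
    (rem t hs hk a haJ hJa n x hx N).1 - (rem t hs hk a haJ hJa n x hx (N + 1)).1 ∈ a ^ (n + N + 1) :=
  (Classical.choose_spec (step_exists t hs hk a haJ hJa (n + N) (rem t hs hk a haJ hJa n x hx N).1
    (rem t hs hk a haJ hJa n x hx N).2)).2

include hs hk haJ hJa in
theorem K_le_pow (ha : a.FG) (n : ℕ) : K t n ≤ a ^ (n + 1) := by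
  intro x hx
  set r := rem t hs hk a haJ hJa n x hx with hr
  let s : ℕ → lim t := fun N => x - (r N).1
  have hs0 : s 0 = 0 := by simp [s, hr, rem]
  have hstep : ∀ N, s (N + 1) - s N ∈ a ^ (n + N + 1) := by
    intro N
    have := rem_sub t hs hk a haJ hJa n x hx N
    have e : s (N + 1) - s N = (r N).1 - (r (N + 1)).1 := by simp only [s]; ring
    rw [e]; exact this
  have hmem : ∀ N, s N ∈ a ^ (n + 1) := by
    intro N
    induction N with
    | zero => rw [hs0]; exact zero_mem _
    | succ N ih =>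
      have e : s (N + 1) = s N + (s (N + 1) - s N) := by ring
      rw [e]
      exact Ideal.add_mem _ ih (Ideal.pow_le_pow_right (by omega) (hstep N))
  have hcauchy : ∀ N, s N ≡ s (N + 1) [SMOD (a ^ N • ⊤ : Submodule (lim t) (lim t))] := by
    intro N
    rw [SModEq.sub_mem]
    have h1 : s N - s (N + 1) ∈ a ^ (n + N + 1) := by
      have := hstep N
      rw [← neg_sub]; exact neg_mem this
    have h2 : s N - s (N + 1) ∈ a ^ N := Ideal.pow_le_pow_right (by omega) h1
    simpa using h2
  set sc : AdicCauchySequence a (lim t) := AdicCauchySequence.mk a (lim t) s hcauchy with hsc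
  set b : AdicCompletion a (lim t) := AdicCompletion.mk a (lim t) sc with hb
  have hb1 : b ∈ RingHom.ker (AdicCompletion.evalₐ a (n + 1)).toRingHom := by
    rw [RingHom.mem_ker]
    change AdicCompletion.evalₐ a (n + 1) b = 0
    rw [hb, AdicCompletion.evalₐ_mk]
    exact Ideal.Quotient.eq_zero_iff_mem.mpr (hmem (n + 1))
  rw [ker_evalₐ a ha, ← Ideal.map_pow] at hb1
  have hb2 : ψ t hs hk a haJ b ∈ (Ideal.map (algebraMap (lim t) (AdicCompletion a (lim t))) (a ^ (n + 1))).map
      (ψ t hs hk a haJ) := Ideal.mem_map_of_mem _ hb1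
  rw [Ideal.map_map, ψ_comp, Ideal.map_id] at hb2
  have hx2 : ψ t hs hk a haJ b = x := by
    apply lim_ext
    intro m
    rw [hb, π_ψ_mk]
    change π t m (s (m + 1)) = π t m x
    have h3 : x - s (m + 1) ∈ K t m := by
      have : x - s (m + 1) = (r (m + 1)).1 := by simp only [s]; ring
      rw [this]
      exact K_antitone t (by omega) (r (m + 1)).2
    rw [RingHom.mem_ker, map_sub, sub_eq_zero] at h3
    exact h3.symm
  rwa [hx2] at hb2

end Completion

section Main

variable (hfg : (J' t 1).FG)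

include hs hfg in
theorem exists_fg : ∃ a : Ideal (lim t), a.FG ∧ a ≤ K t 0 ∧ K t 0 ≤ a ⊔ K t 1 := by
  classical
  obtain ⟨S, hS⟩ := hfg
  have hmem : ∀ b ∈ S, ∃ c ∈ K t 0, π t 1 c = b := by
    intro b hb
    have h : b ∈ J' t 1 := by rw [← hS]; exact Ideal.subset_span hb
    rw [← map_K_zero t hs 1] at h
    exact (Ideal.mem_map_iff_of_surjective _ (π_surjective t hs 1)).mp h
  choose! g hg1 hg2 using hmem
  have himg : (π t 1) '' (g '' (S : Set (A 1))) = S := by
    rw [Set.image_image]
    ext b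
    constructor
    · rintro ⟨c, hc, rfl⟩
      change (π t 1) (g c) ∈ (S : Set (A 1))
      rw [hg2 c hc]; exact hc
    · intro hb
      exact ⟨b, hb, hg2 b hb⟩
  refine ⟨Ideal.span (g '' (S : Set (A 1))), ⟨S.image g, by rw [Finset.coe_image]⟩, ?_, ?_⟩
  · rw [Ideal.span_le]
    rintro c ⟨b, hb, rfl⟩
    exact hg1 b hb
  · intro x hx
    have h1 : π t 1 x ∈ J' t 1 := by rw [RingHom.mem_ker, toZero_π]; exact hx
    have h2 : J' t 1 = (Ideal.span (g '' (S : Set (A 1)))).map (π t 1) := by
      rw [Ideal.map_span, himg, hS]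
    rw [h2] at h1
    obtain ⟨y, hy, hxy⟩ := (Ideal.mem_map_iff_of_surjective _ (π_surjective t hs 1)).mp h1
    have h3 : x = y + (x - y) := by ring
    rw [h3]
    refine Ideal.add_mem _ (Ideal.mem_sup_left hy) (Ideal.mem_sup_right ?_)
    rw [RingHom.mem_ker, map_sub, hxy, sub_self]

include hs hk hfg in
theorem ker_π (n : ℕ) : RingHom.ker (π t n) = (RingHom.ker (π t 0)) ^ (n + 1) := by
  obtain ⟨a, ha, haJ, hJa⟩ := exists_fg t hs hfg
  have h0 : K t 0 = a := le_antisymm (by simpa using K_le_pow t hs hk a haJ hJa ha 0) haJ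
  apply le_antisymm
  · have := K_le_pow t hs hk a haJ hJa ha n
    rwa [← h0] at this
  · exact J_pow_le_K t hs hk n

include hs hk hfg in
theorem ker_π_zero_fg : (RingHom.ker (π t 0)).FG := by
  obtain ⟨a, ha, haJ, hJa⟩ := exists_fg t hs hfg
  have h0 : K t 0 = a := le_antisymm (by simpa using K_le_pow t hs hk a haJ hJa ha 0) haJ
  change (K t 0).FG
  rw [h0]; exact ha

include hs hk hfg in
theorem isAdicComplete : IsAdicComplete (RingHom.ker (π t 0)) (lim t) := by
  have hker := ker_π t hs hk hfg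
  refine { haus' := ?_, prec' := ?_ }
  · intro x hx
    apply iInf_K t x
    intro n
    have h := hx (n + 1)
    rw [SModEq.sub_mem, sub_zero] at h
    change x ∈ RingHom.ker (π t n)
    rw [hker n]
    simpa using h
  · intro f hf
    have hc : ∀ m, t m (π t (m + 1) (f (m + 1 + 1))) = π t m (f (m + 1)) := by
      intro m
      rw [t_π]
      have h := hf (Nat.le_succ (m + 1))
      rw [SModEq.sub_mem] at h
      have h2 : f (m + 1) - f (m + 1 + 1) ∈ RingHom.ker (π t m) := by
        rw [hker m]; simpa using h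
      rw [RingHom.mem_ker, map_sub, sub_eq_zero] at h2
      exact h2.symm
    refine ⟨⟨fun m => π t m (f (m + 1)), hc⟩, ?_⟩
    intro n
    rw [SModEq.sub_mem]
    cases n with
    | zero => simp
    | succ k =>
      have h : f (k + 1) - (⟨fun m => π t m (f (m + 1)), hc⟩ : lim t) ∈ RingHom.ker (π t k) := by
        rw [RingHom.mem_ker, map_sub, sub_eq_zero]; rfl
      rw [hker k] at h
      simpa using h

/-- The comparison map `lim t ⧸ J^(n+1) → A n`. -/
noncomputable def σ (n : ℕ) : (lim t ⧸ (RingHom.ker (π t 0)) ^ (n + 1)) →+* A n :=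
  Ideal.Quotient.lift _ (π t n) (fun x hx => by
    rw [← ker_π t hs hk hfg n] at hx; exact hx)

theorem σ_mk (n : ℕ) (x : lim t) : σ t hs hk hfg n (Ideal.Quotient.mk _ x) = π t n x :=
  Ideal.Quotient.lift_mk _ _ _

theorem σ_bijective (n : ℕ) : Function.Bijective (σ t hs hk hfg n) := by
  constructor
  · apply RingHom.lift_injective_of_ker_le_ideal
    rw [ker_π t hs hk hfg n]
  · exact Ideal.Quotient.lift_surjective_of_surjective _ _ (π_surjective t hs n)

theorem σ_factor (n : ℕ) :
    (σ t hs hk hfg n).comp (Ideal.Quotient.factor (Ideal.pow_le_pow_right (Nat.le_succ (n + 1)))) =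
      (t n).comp (σ t hs hk hfg (n + 1)) := by
  apply Ideal.Quotient.ringHom_ext
  ext x
  simp only [RingHom.comp_apply, Ideal.Quotient.factor_mk, σ_mk, t_π]

end Main

end Tower

end Groth.Agent.R2.H17.LimAlg
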