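import Groth.Agent.R2.H17FormalTrunc
import Groth.Agent.Lib.Helper23FinTypeLocal
import Groth.Agent.S0020

/-!
# The image of `lim G_d ⟶ G_e` for a Mittag-Leffler system of quasi-coherent modules (helper17)

Namespace `Groth.Agent.R2.H17.MLImage`.

For `G : ℕᵒᵖ ⥤ X.Modules` quasi-coherent with the Mittag-Leffler condition on image subobjects:
* `epi_toStableImage`: `lim G ⟶ image (G_d ⟶ G_e)` is an epimorphism for `d` the stabilisation index of `e`;
* `imageIso`: `image (lim G ⟶ G_e) ≅ image (G_d ⟶ G_e)`;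
* `isClosed_support_image`: if the `G_n` are of finite type, the support of `image (lim G ⟶ G_e)` is closed.
-/

set_option autoImplicit false
set_option linter.unusedSectionVars false
set_option linter.style.haveILetI false

universe u

open CategoryTheory CategoryTheory.Limits Opposite AlgebraicGeometry TopologicalSpace

namespace Groth.Agent.R2.H17.MLImage

open Groth.Agent.R2.H17.RlimMod Groth.Agent.R2.H17.FormalTrunc

section Generic

variable {𝒞 : Type*} [Category 𝒞] [Preadditive 𝒞] (G : ℕᵒᵖ ⥤ 𝒞) [HasLimit G]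

/-- lifting to the limit along a family of sub-towers with surjective transition maps. -/
lemma exists_lift_limit_of_surj_pred {P : 𝒞} (Q : ∀ m, (P ⟶ G.obj (op m)) → Prop)
    (hs : ∀ (m : ℕ) (s : P ⟶ G.obj (op m)), Q m s →
      ∃ s' : P ⟶ G.obj (op (m + 1)), Q (m + 1) s' ∧ s' ≫ G.map (homOfLE (Nat.le_succ m)).op = s)
    (k : ℕ) (v : P ⟶ G.obj (op k)) (hv : Q k v) : ∃ w : P ⟶ limit G, w ≫ limit.π G (op k) = v := by
  -- the tower above `k`
  let up : ∀ j : ℕ, {s : P ⟶ G.obj (op (k + j)) // Q (k + j) s} := fun j =>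
    Nat.rec (motive := fun j => {s : P ⟶ G.obj (op (k + j)) // Q (k + j) s}) ⟨v, hv⟩
      (fun j s => ⟨Classical.choose (hs (k + j) s.1 s.2), (Classical.choose_spec (hs (k + j) s.1 s.2)).1⟩) j
  have hup : ∀ j, (up (j + 1)).1 ≫ G.map (homOfLE (Nat.le_succ (k + j))).op = (up j).1 := fun j =>
    (Classical.choose_spec (hs (k + j) (up j).1 (up j).2)).2
  -- the whole compatible family: `x m = up (m - k)` pushed down to level `m`
  let x : ∀ m, P ⟶ G.obj (op m) := fun m =>
    (up (m - k)).1 ≫ G.map (homOfLE (show m ≤ k + (m - k) by omega)).op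
  obtain ⟨w, hw⟩ := exists_lift_limit G x (fun m => by
    dsimp only [x]
    rw [Category.assoc, ← G.map_comp]
    by_cases h : k ≤ m
    · have e : m + 1 - k = (m - k) + 1 := by omega
      have key : ∀ (j j' : ℕ) (hj : j' = j + 1) (h1 : m ≤ k + j') (h2 : m ≤ k + j),
          (up j').1 ≫ G.map (homOfLE h1).op = (up j).1 ≫ G.map (homOfLE h2).op := by
        intro j j' hj h1 h2
        subst hj
        rw [← hup j, Category.assoc, ← G.map_comp]
        rfl
      exact key (m - k) (m + 1 - k) e _ _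
    · have e : m + 1 - k = m - k := by omega
      have key : ∀ (j j' : ℕ) (hj : j' = j) (h1 : m ≤ k + j') (h2 : m ≤ k + j),
          (up j').1 ≫ G.map (homOfLE h1).op = (up j).1 ≫ G.map (homOfLE h2).op := by
        intro j j' hj h1 h2
        subst hj
        rfl
      exact key (m - k) (m + 1 - k) e _ _)
  refine ⟨w, ?_⟩
  rw [hw k]
  dsimp only [x]
  have key : ∀ (j : ℕ) (hj : j = 0) (h1 : k ≤ k + j),
      (up j).1 ≫ G.map (homOfLE h1).op = v := by
    intro j hj h1
    subst hj
    have e1 : G.map (homOfLE h1).op = 𝟙 (G.obj (op k)) := G.map_id (op k)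
    exact (congrArg (fun z => (up 0).1 ≫ z) e1).trans (Category.comp_id _)
  exact key (k - k) (by omega) _

end Generic

variable {X : Scheme.{u}} (G : ℕᵒᵖ ⥤ X.Modules)

/-- the transition maps. -/
noncomputable abbrev trm {n k : ℕ} (h : n ≤ k) : G.obj (op k) ⟶ G.obj (op n) := G.map (homOfLE h).op

lemma trm_comp {i j k : ℕ} (hij : i ≤ j) (hjk : j ≤ k) :
    trm G hjk ≫ trm G hij = trm G (hij.trans hjk) := by
  dsimp only [trm]
  rw [← G.map_comp]
  rfl

theorem isQuasicoherent_image {M N : X.Modules} [M.IsQuasicoherent] [N.IsQuasicoherent] (f : M ⟶ N) :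
    (image f).IsQuasicoherent := by
  haveI : (cokernel f).IsQuasicoherent := Groth.Agent.Lib.Helper23.QCohLocal.isQuasicoherent_cokernel f
  have h : (Abelian.image f).IsQuasicoherent :=
    Groth.Agent.Lib.Helper23.QCohLocal.isQuasicoherent_kernel (cokernel.π f)
  exact (SheafOfModules.isQuasicoherent X.ringCatSheaf).prop_of_iso (Abelian.imageIsoImage f) h

variable (hq : ∀ n, (G.obj (op n)).IsQuasicoherent)
  (hML : ∀ e : ℕ, ∃ (d : ℕ) (hd : e ≤ d), ∀ (d' : ℕ) (hd' : d ≤ d'),
      imageSubobject (G.map (homOfLE (hd.trans hd')).op) = imageSubobject (G.map (homOfLE hd).op))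

include hq in
/-- maps out of `O_X ⊗ ℤ_V` into the image lift to the source (`V` affine). -/
lemma lift_image {V : X.Opens} (hV : IsAffineOpen V) {n k : ℕ} (h : n ≤ k)
    (s₁ : (frX X).obj V ⟶ image (trm G h)) :
    ∃ y : (frX X).obj V ⟶ G.obj (op k), y ≫ factorThruImage (trm G h) = s₁ := by
  haveI := hq n
  haveI := hq k
  haveI := isQuasicoherent_image (trm G h)
  exact lift_of_epi _ hV s₁

include hq in
/-- Mittag-Leffler at the level of maps out of `O_X ⊗ ℤ_V`. -/
lemma ml_hom {V : X.Opens} (hV : IsAffineOpen V) {e d d' : ℕ} (hd : e ≤ d) (hd' : d ≤ d')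
    (himg : imageSubobject (G.map (homOfLE (hd.trans hd')).op) = imageSubobject (G.map (homOfLE hd).op))
    (y : (frX X).obj V ⟶ G.obj (op d)) :
    ∃ y' : (frX X).obj V ⟶ G.obj (op d'), y' ≫ trm G (hd.trans hd') = y ≫ trm G hd := by
  have himg' : Subobject.mk (image.ι (trm G hd)) = Subobject.mk (image.ι (trm G (hd.trans hd'))) :=
    himg.symm
  let i := Subobject.ofMkLEMk _ _ himg'.le
  have hi : i ≫ image.ι (trm G (hd.trans hd')) = image.ι (trm G hd) := Subobject.ofMkLEMk_comp _
  obtain ⟨y', hy'⟩ := lift_image G hq hV (hd.trans hd') (y ≫ factorThruImage (trm G hd) ≫ i)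
  refine ⟨y', ?_⟩
  rw [← image.fac (trm G (hd.trans hd')), ← Category.assoc, hy', Category.assoc, Category.assoc, hi,
    image.fac]

include hq in
/-- maps factoring through the stable image lift to the limit. -/
lemma exists_lift_of_stable {V : X.Opens} (hV : IsAffineOpen V)
    (D : ℕ → ℕ) (hD : ∀ e, e ≤ D e)
    (hDs : ∀ e (d' : ℕ) (hd' : D e ≤ d'),
      imageSubobject (G.map (homOfLE ((hD e).trans hd')).op) = imageSubobject (G.map (homOfLE (hD e)).op))
    (e : ℕ) (y : (frX X).obj V ⟶ G.obj (op (D e))) :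
    ∃ w : (frX X).obj V ⟶ limit G, w ≫ limit.π G (op e) = y ≫ trm G (hD e) := by
  refine exists_lift_limit_of_surj_pred G
    (fun m s => ∃ y : (frX X).obj V ⟶ G.obj (op (D m)), y ≫ trm G (hD m) = s) ?_ e _ ⟨y, rfl⟩
  rintro m s ⟨y, rfl⟩
  -- go up to `d' = max (D m) (D (m+1))`
  obtain ⟨y', hy'⟩ := ml_hom G hq hV (hD m) (le_max_left (D m) (D (m + 1)))
    (hDs m (max (D m) (D (m + 1))) (le_max_left (D m) (D (m + 1)))) y
  refine ⟨y' ≫ trm G ((hD (m + 1)).trans (le_max_right (D m) (D (m + 1)))),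
    ⟨y' ≫ trm G (le_max_right (D m) (D (m + 1))), ?_⟩, ?_⟩
  · rw [Category.assoc, trm_comp]
  · rw [Category.assoc]
    have : trm G ((hD (m + 1)).trans (le_max_right (D m) (D (m + 1)))) ≫
        G.map (homOfLE (Nat.le_succ m)).op = trm G ((hD m).trans (le_max_left (D m) (D (m + 1)))) :=
      trm_comp G (Nat.le_succ m) _
    rw [this, hy']

include hq hML in
theorem exists_stable (e : ℕ) :
    ∃ (d : ℕ) (hd : e ≤ d), Epi (limit.π G (op d) ≫ factorThruImage (trm G hd)) := by
  classical
  choose D hD hDs using hML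
  refine ⟨D e, hD e, ?_⟩
  refine epi_of_affine_lift _ (fun V hV s₁ => ?_)
  obtain ⟨y, hy⟩ := lift_image G hq hV (hD e) s₁
  obtain ⟨w, hw⟩ := exists_lift_of_stable G hq hV D hD hDs e y
  refine ⟨w, ?_⟩
  rw [← cancel_mono (image.ι (trm G (hD e))), Category.assoc, Category.assoc, image.fac, ← hy,
    Category.assoc, image.fac]
  have : limit.π G (op (D e)) ≫ trm G (hD e) = limit.π G (op e) := limit.w G (homOfLE (hD e)).op
  rw [this, hw]

include hq hML in
/-- the image of `lim G ⟶ G_e` is the stable image. -/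
theorem nonempty_imageIso (e : ℕ) :
    ∃ (d : ℕ) (hd : e ≤ d), Nonempty (image (trm G hd) ≅ image (limit.π G (op e))) := by
  obtain ⟨d, hd, hepi⟩ := exists_stable G hq hML e
  refine ⟨d, hd, ⟨?_⟩⟩
  haveI := hepi
  haveI : StrongEpi (limit.π G (op d) ≫ factorThruImage (trm G hd)) := strongEpi_of_epi _
  refine image.isoStrongEpiMono (limit.π G (op d) ≫ factorThruImage (trm G hd)) (image.ι (trm G hd)) ?_
  rw [Category.assoc, image.fac]
  exact limit.w G (homOfLE hd).op

include hML in
theorem isClosed_support_image (hc : ∀ n, Coh.IsCoh (G.obj (op n))) (e : ℕ) :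
    IsClosed (CohB1.support (image (limit.π G (op e)))) := by
  have hq : ∀ n, (G.obj (op n)).IsQuasicoherent := fun n => (hc n).1
  obtain ⟨d, hd, ⟨i⟩⟩ := nonempty_imageIso G hq hML e
  haveI := hq e
  haveI := hq d
  haveI := isQuasicoherent_image (trm G hd)
  haveI : SheafOfModules.IsFiniteType (R := X.ringCatSheaf) (G.obj (op d)) := (hc d).2
  let Im : X.Modules := image (trm G hd)
  have hft : SheafOfModules.IsFiniteType (R := X.ringCatSheaf) Im :=
    Groth.Agent.Lib.Helper23.FinType.isFiniteType_of_epi (factorThruImage (trm G hd))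
  exact Groth.Agent.S0020.result X _ (Groth.Agent.Lib.Helper23.FinType.isFiniteType_of_iso i)

end Groth.Agent.R2.H17.MLImage
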