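import Mathlib
import Groth.Prelude.Def_ARSys
import Groth.Agent.R2.H17AdicLimTop

/-!
# Mittag-Leffler towers of modules: the image of the limit is the stable image (helper17)

Namespace `Groth.Agent.R2.H17.MLMod`.

* `range_eq_of_imageSubobject_eq`: in `ModuleCat A`, equal image subobjects have equal ranges.
* `exists_range_limit_π_eq`: for `X : ℕᵒᵖ ⥤ ModuleCat A` Mittag-Leffler (`ARSys.IsML`), for every `k` there is `d ≥ k`
  with `range (lim X → X_k) = range (X_d' → X_k)` for all `d' ≥ d`.
-/

set_option autoImplicit false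
set_option linter.unusedSectionVars false
set_option linter.style.haveILetI false

universe u

open CategoryTheory CategoryTheory.Limits Opposite

namespace Groth.Agent.R2.H17.MLMod

open Groth.Agent.R2.H17.ProIsoLim Groth.Agent.R2.H17.AdicLimTop Groth.Agent.R2.H17

variable {A : Type u} [CommRing A]

lemma range_comp_of_epi {M N P : ModuleCat.{u} A} (e : M ⟶ N) [Epi e] (ι : N ⟶ P) :
    LinearMap.range (e ≫ ι).hom = LinearMap.range ι.hom := by
  have hs : Function.Surjective e.hom := (ModuleCat.epi_iff_surjective e).1 inferInstance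
  rw [ModuleCat.hom_comp, LinearMap.range_comp, LinearMap.range_eq_top.2 hs, Submodule.map_top]

lemma range_eq_range_arrow {M N : ModuleCat.{u} A} (f : M ⟶ N) :
    LinearMap.range f.hom = LinearMap.range (imageSubobject f).arrow.hom := by
  conv_lhs => rw [← imageSubobject_arrow_comp f]
  exact range_comp_of_epi _ _

theorem range_eq_of_imageSubobject_eq {M M' N : ModuleCat.{u} A} (f : M ⟶ N) (g : M' ⟶ N)
    (h : imageSubobject f = imageSubobject g) : LinearMap.range f.hom = LinearMap.range g.hom := by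
  rw [range_eq_range_arrow f, range_eq_range_arrow g]
  have e : (Subobject.isoOfEq _ _ h).hom ≫ (imageSubobject g).arrow = (imageSubobject f).arrow :=
    Subobject.ofLE_arrow _
  rw [← e]
  exact range_comp_of_epi _ _

variable (X : ℕᵒᵖ ⥤ ModuleCat.{u} A)

/-- the Mittag-Leffler condition in terms of ranges. -/
lemma exists_stable (hML : ARSys.IsML X) (n : ℕ) :
    ∃ (d : ℕ) (hd : n ≤ d), ∀ (d' : ℕ) (h : d ≤ d'),
      LinearMap.range (trm X (hd.trans h)).hom = LinearMap.range (trm X hd).hom := by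
  obtain ⟨r, hr⟩ := hML n
  refine ⟨n + r, Nat.le_add_right n r, fun d' h => ?_⟩
  obtain ⟨s, rfl⟩ : ∃ s, d' = n + s := ⟨d' - n, by omega⟩
  exact range_eq_of_imageSubobject_eq _ _ (hr s (by omega))

lemma trm_trm_apply {i j k : ℕ} (hij : i ≤ j) (hjk : j ≤ k) (z : Mx X k) :
    (trm X hij).hom ((trm X hjk).hom z) = (trm X (hij.trans hjk)).hom z := by
  have := congrArg (fun f => f.hom z) (trm_comp X hij hjk)
  exact this

/-- for a Mittag-Leffler tower of modules the image of the limit in `X_k` is the stable image. -/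
theorem exists_range_limit_π_eq (hML : ARSys.IsML X) (k : ℕ) :
    ∃ (d : ℕ) (hd : k ≤ d), ∀ (d' : ℕ) (hd' : d ≤ d'),
      LinearMap.range (limit.π X (op k)).hom = LinearMap.range (trm X (hd.trans hd')).hom := by
  choose D hD hst using fun n => exists_stable X hML n
  let S : ∀ n, Submodule A (Mx X n) := fun n => LinearMap.range (trm X (hD n)).hom
  have hS : ∀ (n d' : ℕ) (h : D n ≤ d'), LinearMap.range (trm X ((hD n).trans h)).hom = S n := hst
  have hDs : ∀ n, n + 1 ≤ max (D n) (D (n + 1)) := fun n => (hD (n + 1)).trans (le_max_right _ _)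
  have hmaps : ∀ n, ∀ y ∈ S (n + 1), tX X n y ∈ S n := by
    intro n y hy
    rw [← hS (n + 1) (max (D n) (D (n + 1))) (le_max_right _ _)] at hy
    obtain ⟨z, rfl⟩ := hy
    rw [← hS n (max (D n) (D (n + 1))) (le_max_left _ _)]
    exact ⟨z, (trm_trm_apply X (Nat.le_succ n) (hDs n) z).symm⟩
  let t' : ∀ n, S (n + 1) →ₗ[A] S n := fun n => (tX X n).restrict (hmaps n)
  have hsurj : ∀ n, Function.Surjective (t' n) := by
    rintro n ⟨y, hy⟩
    rw [← hS n (max (D n) (D (n + 1))) (le_max_left _ _)] at hy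
    obtain ⟨z, rfl⟩ := hy
    have hy' : (trm X (hDs n)).hom z ∈ S (n + 1) := by
      rw [← hS (n + 1) (max (D n) (D (n + 1))) (le_max_right _ _)]
      exact ⟨z, rfl⟩
    refine ⟨⟨_, hy'⟩, Subtype.ext ?_⟩
    exact trm_trm_apply X (Nat.le_succ n) (hDs n) z
  have key : LinearMap.range (limit.π X (op k)).hom = S k := by
    apply le_antisymm
    · rintro y ⟨w, rfl⟩
      change _ ∈ LinearMap.range (trm X (hD k)).hom
      exact ⟨(limit.π X (op (D k))).hom w, π_trm_apply X (hD k) w⟩
    · intro y hy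
      obtain ⟨x', hx'⟩ := LimMod.π_surjective (R := A) (M := fun n => ↥(S n)) t' hsurj k ⟨y, hy⟩
      let x : limC X := ⟨fun n => ((x'.1 n : S n) : Mx X n), fun n => congrArg Subtype.val (x'.2 n)⟩
      refine ⟨mk X x, ?_⟩
      rw [π_mk]
      exact congrArg Subtype.val hx'
  exact ⟨D k, hD k, fun d' hd' => key.trans (hS k d' hd').symm⟩

end Groth.Agent.R2.H17.MLMod
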