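import Groth.Agent.R2.H17AffExist

/-!
# Mittag-Leffler for systems pro-isomorphic to a strict system (helper17)

Namespace `Groth.Agent.R2.H17.MLProIso`.

* `imageSubobject_epi_comp`: in an abelian category, `im (f ≫ g) = im g` for `f` epi.
* `isML_of_isProIsomorphic`: if `X` is pro-isomorphic to `Y` and the transition maps of `Y` are epimorphisms, then
  `X` satisfies the Mittag-Leffler condition.
* `isProIsomorphic_sectMod`: if `(F_n)` canonically extends to `Spec A`, then the system of modules `H⁰(U, F_n)` is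
  pro-isomorphic to `Γ(Spec A, G'_n)` for a coherent formal module `G'` on `Spec A`.
* `isML_sectMod_of_canonicallyExtends`.
-/

set_option autoImplicit false
set_option linter.unusedSectionVars false
set_option linter.style.haveILetI false

universe u

open CategoryTheory CategoryTheory.Limits Opposite AlgebraicGeometry

namespace Groth.Agent.R2.H17.MLProIso

open Groth.Agent.R2.H17.ComplRestrict Groth.Agent.R2.H17.AlgzExt Groth.Agent.R2.H17.ProIso
  Groth.Agent.R2.H17.AffExist

section abelian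

variable {C : Type*} [Category C] [Abelian C]

lemma imageSubobject_epi_comp {X Y Z : C} (f : X ⟶ Y) [Epi f] (g : Y ⟶ Z) :
    imageSubobject (f ≫ g) = imageSubobject g := by
  refine le_antisymm (imageSubobject_comp_le f g) ?_
  haveI : IsIso (Subobject.ofLE _ _ (imageSubobject_comp_le f g)) := isIso_of_mono_of_epi _
  exact Subobject.le_of_comm (inv (Subobject.ofLE _ _ (imageSubobject_comp_le f g)))
    (by rw [IsIso.inv_comp_eq, Subobject.ofLE_arrow])

variable {X Y : ℕᵒᵖ ⥤ C}

/-- the transition maps. -/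
abbrev trm (X : ℕᵒᵖ ⥤ C) {n k : ℕ} (h : n ≤ k) : X.obj (op k) ⟶ X.obj (op n) := X.map (homOfLE h).op

lemma trm_comp (X : ℕᵒᵖ ⥤ C) {i j k : ℕ} (hij : i ≤ j) (hjk : j ≤ k) :
    trm X hjk ≫ trm X hij = trm X (hij.trans hjk) := by
  dsimp only [trm]
  rw [← X.map_comp]
  rfl

lemma epi_trm (hY : ∀ n, Epi (Y.map (homOfLE (Nat.le_succ n)).op)) {n k : ℕ} (h : n ≤ k) :
    Epi (trm Y h) := by
  induction k, h using Nat.le_induction with
  | base =>
    have : (homOfLE (le_refl n)).op = 𝟙 (op n) := rfl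
    dsimp only [trm]
    rw [this, Y.map_id]; infer_instance
  | succ k hk ih =>
    have e : trm Y (hk.trans (Nat.le_succ k)) = trm Y (Nat.le_succ k) ≫ trm Y hk := (trm_comp Y _ _).symm
    rw [e]
    haveI := ih
    haveI := hY k
    exact epi_comp _ _

theorem isML_of_isProIsomorphic (h : Algz.IsProIsomorphic X Y)
    (hY : ∀ n, Epi (Y.map (homOfLE (Nat.le_succ n)).op)) : ARSys.IsML X := by
  obtain ⟨m, hm, hle, a, ha⟩ := h
  let a' : ∀ k, X.obj (op (m k)) ⟶ Y.obj (op k) := fun k => a.app (op k)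
  have hnat : ∀ {i j : ℕ} (hij : i ≤ j), trm X (hm hij) ≫ a' i = a' j ≫ trm Y hij := fun hij =>
    a.naturality (homOfLE hij).op
  intro n
  obtain ⟨m', hnm', b₀, hb1₀, hb2₀⟩ := ha n
  let b : Y.obj (op m') ⟶ X.obj (op (m n)) := b₀
  have hb1 : a' m' ≫ b = trm X (hm hnm') := hb1₀
  -- the stable image
  have claim : ∀ (k : ℕ) (hk0 : m m' ≤ k) (hk : n ≤ k),
      imageSubobject (trm X hk) = imageSubobject (b ≫ trm X (hle n)) := by
    intro k hk0 hk
    apply le_antisymm
    · have e : trm X hk = (trm X hk0 ≫ a' m') ≫ (b ≫ trm X (hle n)) := by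
        rw [Category.assoc, ← Category.assoc (a' m'), hb1, trm_comp, trm_comp]
      rw [e]
      exact imageSubobject_comp_le _ _
    · have hl1 : k ≤ max k m' := le_max_left _ _
      have hl2 : m' ≤ max k m' := le_max_right _ _
      obtain ⟨m'', hlm'', b₁, hb1₁, hb2₁⟩ := ha (max k m')
      let b' : Y.obj (op m'') ⟶ X.obj (op (m (max k m'))) := b₁
      have hb2' : b' ≫ a' (max k m') = trm Y hlm'' := hb2₁
      haveI : Epi (trm Y (hl2.trans hlm'')) := epi_trm hY _
      have hkl : k ≤ m (max k m') := hl1.trans (hle _)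
      have e0 : a' (max k m') ≫ trm Y hl2 = trm X (hm hl2) ≫ a' m' := (hnat hl2).symm
      have e : trm Y (hl2.trans hlm'') ≫ b ≫ trm X (hle n) = (b' ≫ trm X hkl) ≫ trm X hk :=
        calc trm Y (hl2.trans hlm'') ≫ b ≫ trm X (hle n)
            = (b' ≫ a' (max k m') ≫ trm Y hl2) ≫ b ≫ trm X (hle n) := by
              rw [← trm_comp Y hl2 hlm'', ← hb2']
              simp only [Category.assoc]
          _ = (b' ≫ trm X (hm hl2) ≫ a' m') ≫ b ≫ trm X (hle n) := by rw [e0]
          _ = b' ≫ trm X (hm hl2) ≫ (a' m' ≫ b) ≫ trm X (hle n) := by simp only [Category.assoc]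
          _ = b' ≫ trm X (hm hl2) ≫ trm X (hm hnm') ≫ trm X (hle n) := by rw [hb1]
          _ = b' ≫ trm X ((hle n).trans ((hm hnm').trans (hm hl2))) := by rw [trm_comp, trm_comp]
          _ = (b' ≫ trm X hkl) ≫ trm X hk := by rw [Category.assoc, trm_comp]
      rw [← imageSubobject_epi_comp (trm Y (hl2.trans hlm'')), e]
      exact imageSubobject_comp_le _ _
  have h0 : n ≤ m m' := hnm'.trans (hle m')
  refine ⟨m m' - n, fun s hs => ?_⟩
  have e1 := claim (n + s) (by omega) (Nat.le_add_right n s)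
  have e2 := claim (n + (m m' - n)) (by omega) (Nat.le_add_right n (m m' - n))
  exact e1.trans e2.symm

end abelian

section affine

variable (A : Type u) [CommRing A] (I : Ideal A)

/-- `Spec A` over itself through the identity. -/
noncomputable local instance specOverSelf :
    (Spec (CommRingCat.of A)).Over (Spec (CommRingCat.of A)) := ⟨𝟙 _⟩

variable (U : (Spec (CommRingCat.of A)).Opens) (G : ℕᵒᵖ ⥤ (U : Scheme.{u}).Modules)

/-- the system `Γ(Spec A, (H⁰(U, G_n))~)` is the system `H⁰(U, G_n)`. -/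
noncomputable def sectSysΓIso :
    Algz.sectSys A U G ⋙ moduleSpecΓFunctor (R := CommRingCat.of A) ≅ Algz.sectMod A U G :=
  let e0 : Algz.sectSys A U G ⋙ moduleSpecΓFunctor (R := CommRingCat.of A) ≅
      (Algz.sectMod A U G ⋙ tilde.functor (CommRingCat.of A)) ⋙
        moduleSpecΓFunctor (R := CommRingCat.of A) := Iso.refl _
  e0 ≪≫ Functor.associator _ _ _ ≪≫
    Functor.isoWhiskerLeft (Algz.sectMod A U G) (tilde.toTildeΓNatIso (R := CommRingCat.of A)).symm ≪≫
    Functor.rightUnitor _

/-- if `(G_n)` canonically extends, the system of modules `H⁰(U, G_n)` is pro-isomorphic to the system of global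
sections of a coherent formal module on `Spec A`. -/
theorem isProIsomorphic_sectMod (h : Algz.CanonicallyExtends A I U G) :
    ∃ G' : ℕᵒᵖ ⥤ (Spec (CommRingCat.of A)).Modules, Formal.IsCohFormal I G' ∧
      Algz.IsProIsomorphic (Algz.sectMod A U G) (G' ⋙ moduleSpecΓFunctor (R := CommRingCat.of A)) := by
  obtain ⟨G', hG', hpro⟩ := h
  exact ⟨G', hG', isProIsomorphic_of_iso_left (sectSysΓIso A U G)
    (isProIsomorphic_comp (moduleSpecΓFunctor (R := CommRingCat.of A)) hpro)⟩

variable {A}

/-- the transition maps of `Γ(Spec A, G'_n)` are surjective with kernel `I^(n+1) Γ(G'_(n+1))`. -/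
theorem Γ_map_succ {G' : ℕᵒᵖ ⥤ (Spec (CommRingCat.of A)).Modules} (hG' : Formal.IsCohFormal I G') (n : ℕ) :
    Function.Surjective ((G' ⋙ moduleSpecΓFunctor (R := CommRingCat.of A)).map
        (homOfLE (Nat.le_succ n)).op).hom ∧
      LinearMap.ker ((G' ⋙ moduleSpecΓFunctor (R := CommRingCat.of A)).map
        (homOfLE (Nat.le_succ n)).op).hom = I ^ (n + 1) • ⊤ := by
  haveI : (G'.obj (op (n + 1))).IsQuasicoherent := (hG'.1 (n + 1)).1
  exact Γ_map_of_isQuot (I ^ (n + 1)) _ (hG'.2.2 n)

variable (A)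

theorem isML_sectMod_of_canonicallyExtends (h : Algz.CanonicallyExtends A I U G) :
    ARSys.IsML (Algz.sectMod A U G) := by
  obtain ⟨G', hG', hpro⟩ := isProIsomorphic_sectMod A I U G h
  refine isML_of_isProIsomorphic hpro (fun n => ?_)
  exact (ModuleCat.epi_iff_surjective _).2 (Γ_map_succ I hG' n).1

end affine

end Groth.Agent.R2.H17.MLProIso
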