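import Groth.Agent.S9530
import Groth.Prelude.Def_Algz

/-!
# Pro-isomorphic formal systems are isomorphic (helper17)

Namespace `Groth.Agent.R2.H17.ProIso`.

For a system `F : ℕᵒᵖ ⥤ X.Modules` (`X` over `Spec A`, `I` an ideal of `A`) with `F_n` killed by `I^(n+1)` and
`F_n = F_(n+1)/I^(n+1)F_(n+1)`:
* `epi_tr`: all transition maps are epimorphisms;
* `fac_tr`: a map out of `F_k` killing `I^(n+1)` factors through `F_k ⟶ F_n` (`n ≤ k`).
* `nonempty_iso_of_isProIsomorphic`: two such systems which are pro-isomorphic are isomorphic.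
-/

set_option autoImplicit false
set_option linter.unusedSectionVars false
set_option linter.style.haveILetI false

universe u

open CategoryTheory CategoryTheory.Limits Opposite AlgebraicGeometry

namespace Groth.Agent.R2.H17.ProIso

variable {A : Type u} [CommRing A] {X : Scheme.{u}} [X.Over (Spec (CommRingCat.of A))] (I : Ideal A)

/-- the part of `Formal.IsCohFormal` used here. -/
def IsFormalSys (F : ℕᵒᵖ ⥤ X.Modules) : Prop :=
  (∀ n, Formal.KilledBy (I ^ (n + 1)) (F.obj (op n))) ∧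
  ∀ n, ∃ h : Formal.smulFamily (I ^ (n + 1)) (F.obj (op (n + 1))) ≫ F.map (homOfLE (Nat.le_succ n)).op = 0,
    IsIso (cokernel.desc _ _ h)

variable {I} {F : ℕᵒᵖ ⥤ X.Modules} (hF : IsFormalSys I F)

lemma map_comp_map {i j k : ℕ} (hij : i ≤ j) (hjk : j ≤ k) :
    F.map (homOfLE hjk).op ≫ F.map (homOfLE hij).op = F.map (homOfLE (hij.trans hjk)).op := by
  rw [← F.map_comp]
  rfl

lemma map_refl (n : ℕ) : F.map (homOfLE (le_refl n)).op = 𝟙 _ := by
  have : (homOfLE (le_refl n)).op = 𝟙 (op n) := rfl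
  rw [this, F.map_id]

include hF in
lemma epi_succ (n : ℕ) : Epi (F.map (homOfLE (Nat.le_succ n)).op) := by
  obtain ⟨h, hi⟩ := hF.2 n
  have := hi
  have e : F.map (homOfLE (Nat.le_succ n)).op = cokernel.π _ ≫ cokernel.desc _ _ h :=
    (cokernel.π_desc _ _ h).symm
  rw [e]
  have : Epi (cokernel.desc _ _ h) := IsIso.epi_of_iso _
  exact epi_comp _ _

include hF in
lemma epi_tr {n k : ℕ} (h : n ≤ k) : Epi (F.map (homOfLE h).op) := by
  induction k, h using Nat.le_induction with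
  | base => rw [map_refl]; infer_instance
  | succ k hk ih =>
    rw [← map_comp_map hk (Nat.le_succ k)]
    haveI := ih
    haveI := epi_succ hF k
    exact epi_comp _ _

include hF in
lemma fac_succ (n : ℕ) {T : X.Modules} (φ : F.obj (op (n + 1)) ⟶ T)
    (hφ : ∀ a ∈ I ^ (n + 1), Formal.smulMod A _ a ≫ φ = 0) :
    ∃ φ' : F.obj (op n) ⟶ T, F.map (homOfLE (Nat.le_succ n)).op ≫ φ' = φ := by
  obtain ⟨h, hi⟩ := hF.2 n
  have := hi
  have h0 : Formal.smulFamily (I ^ (n + 1)) (F.obj (op (n + 1))) ≫ φ = 0 :=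
    (Groth.Agent.S9530.smulFamily_comp_eq_zero_iff φ).2 hφ
  refine ⟨inv (cokernel.desc _ _ h) ≫ cokernel.desc _ φ h0, ?_⟩
  have e' : F.map (homOfLE (Nat.le_succ n)).op ≫ inv (cokernel.desc _ _ h) = cokernel.π _ := by
    rw [IsIso.comp_inv_eq]
    exact (cokernel.π_desc _ _ h).symm
  rw [← Category.assoc, e', cokernel.π_desc]

include hF in
lemma fac_tr {n k : ℕ} (h : n ≤ k) {T : X.Modules} (φ : F.obj (op k) ⟶ T)
    (hφ : ∀ a ∈ I ^ (n + 1), Formal.smulMod A _ a ≫ φ = 0) :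
    ∃ φ' : F.obj (op n) ⟶ T, F.map (homOfLE h).op ≫ φ' = φ := by
  induction k, h using Nat.le_induction with
  | base => exact ⟨φ, by rw [map_refl, Category.id_comp]⟩
  | succ k hk ih =>
    obtain ⟨φ₁, hφ₁⟩ := fac_succ hF k φ (fun a ha => hφ a
      (Ideal.pow_le_pow_right (Nat.succ_le_succ hk) ha))
    haveI := epi_succ hF k
    obtain ⟨φ', hφ'⟩ := ih φ₁ (fun a ha => by
      rw [← cancel_epi (F.map (homOfLE (Nat.le_succ k)).op), comp_zero, ← Category.assoc,
        ← Groth.Agent.S9530.smulMod_comp, Category.assoc, hφ₁, hφ a ha])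
    exact ⟨φ', by rw [← map_comp_map hk (Nat.le_succ k), Category.assoc, hφ', hφ₁]⟩

variable {G : ℕᵒᵖ ⥤ X.Modules} (hG : IsFormalSys I G)

include hF hG in
theorem nonempty_iso_of_isProIsomorphic (h : Algz.IsProIsomorphic F G) : Nonempty (F ≅ G) := by
  obtain ⟨m, hm, hle, a, ha⟩ := h
  -- components of `a`
  let a' : ∀ n, F.obj (op (m n)) ⟶ G.obj (op n) := fun n => a.app (op n)
  have hnat : ∀ {i j : ℕ} (hij : i ≤ j),
      F.map (homOfLE (hm hij)).op ≫ a' i = a' j ≫ G.map (homOfLE hij).op := fun hij =>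
    a.naturality (homOfLE hij).op
  have hkillG : ∀ n (a₀ : A), a₀ ∈ I ^ (n + 1) → ∀ {T : X.Modules} (φ : T ⟶ G.obj (op n)),
      Formal.smulMod A T a₀ ≫ φ = 0 := by
    intro n a₀ ha₀ T φ
    rw [Groth.Agent.S9530.smulMod_comp, hG.1 n a₀ ha₀, comp_zero]
  have hkillF : ∀ n (a₀ : A), a₀ ∈ I ^ (n + 1) → ∀ {T : X.Modules} (φ : T ⟶ F.obj (op n)),
      Formal.smulMod A T a₀ ≫ φ = 0 := by
    intro n a₀ ha₀ T φ
    rw [Groth.Agent.S9530.smulMod_comp, hF.1 n a₀ ha₀, comp_zero]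
  have hφ := fun n => fac_tr hF (hle n) (a' n) (fun a₀ ha₀ => hkillG n a₀ ha₀ _)
  choose φ hφ using hφ
  -- the natural transformation
  let τ : F ⟶ G := NatTrans.ofOpSequence (F := F) (G := G) φ (fun n => by
    haveI := epi_tr hF (hle (n + 1))
    rw [← cancel_epi (F.map (homOfLE (hle (n + 1))).op), ← Category.assoc,
      map_comp_map (n.le_add_right 1) (hle (n + 1)), ← Category.assoc, hφ (n + 1),
      ← hnat (n.le_add_right 1), ← hφ n, ← Category.assoc, map_comp_map (hle n) (hm (n.le_add_right 1))])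
  -- components are isomorphisms
  have hiso : ∀ n : ℕ, IsIso (φ n) := by
    intro n
    obtain ⟨m', hnm', b₀, hb1, hb2⟩ := ha n
    let b : G.obj (op m') ⟶ F.obj (op (m n)) := b₀
    have hb1' : a' m' ≫ b = F.map (homOfLE (hm hnm')).op := hb1
    have hb2' : b ≫ a' n = G.map (homOfLE hnm').op := hb2
    obtain ⟨ψ, hψ⟩ := fac_tr hG hnm' (b ≫ F.map (homOfLE (hle n)).op)
      (fun a₀ ha₀ => hkillF n a₀ ha₀ _)
    refine ⟨ψ, ?_, ?_⟩
    · haveI := epi_tr hF ((hle n).trans (hm hnm'))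
      rw [← cancel_epi (F.map (homOfLE ((hle n).trans (hm hnm'))).op), Category.comp_id,
        ← map_comp_map (hle n) (hm hnm'), Category.assoc, ← Category.assoc _ (φ n) ψ, hφ n,
        ← hb1', Category.assoc, Category.assoc, ← Category.assoc b, hb2', hψ]
    · haveI := epi_tr hG hnm'
      rw [← cancel_epi (G.map (homOfLE hnm').op), Category.comp_id, ← Category.assoc, hψ,
        Category.assoc, hφ n, hb2']
  haveI : ∀ n : ℕᵒᵖ, IsIso (τ.app n) := fun n => hiso n.unop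
  haveI := NatIso.isIso_of_isIso_app τ
  exact ⟨asIso τ⟩

omit hF in
theorem isFormalSys_of_isCohFormal {F : ℕᵒᵖ ⥤ X.Modules} (hF : Formal.IsCohFormal I F) :
    IsFormalSys I F := ⟨hF.2.1, hF.2.2⟩

end Groth.Agent.R2.H17.ProIso
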