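import Groth.Agent.R2.H17FormalLim
import Groth.Agent.Lib.Helper17Hyp14
import Groth.Prelude.Def_DCoh2

/-!
# `R lim = lim` for towers of quasi-coherent modules with (eventually) surjective transition maps, in `D(O_X)` (helper17)

Namespace `Groth.Agent.R2.H17.RlimMod`.
* `limOneIsZero_of_surjective_succ`: `R¹lim = 0` when the transition maps are surjective from index `1` on.
* `isRlimVia_limit_modules`: for `G : ℕᵒᵖ ⥤ X.Modules` quasi-coherent with epimorphic transition maps from index `1` on,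
  `(limit G)[0]` is a derived limit of the `G_n[0]` in `D(O_X)` (any universe for the derived category).
* `subsingleton_HHon_limit'`: `H^p(U, lim G_n) = 0` for `U` affine, `p > 0` (same hypotheses).
-/

set_option autoImplicit false
set_option linter.unusedSectionVars false
set_option linter.style.haveILetI false

universe w u

open CategoryTheory CategoryTheory.Limits Opposite AlgebraicGeometry TopologicalSpace

namespace Groth.Agent.R2.H17.RlimMod

open DerivedCategory Groth.Agent.Lib.Helper17.Hyp Groth.Agent.R2.H10.RlimSingle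
  Groth.Agent.R2.H17.FormalLim Groth.Agent.Lib.Helper21.FreeAb

section LimOne

lemma limOneIsZero_of_surjective_succ (A : ℕ → Type u) [∀ n, AddCommGroup (A n)]
    (t : ∀ n, A (n + 1) →+ A n) (ht : ∀ n, 1 ≤ n → Function.Surjective (t n)) :
    CohCx.LimOneIsZero A t := by
  intro b
  obtain ⟨a', ha'⟩ := limOneIsZero_of_surjective (fun n => A (n + 1)) (fun n => t (n + 1))
    (fun n => ht (n + 1) (Nat.succ_pos n)) (fun n => b (n + 1))
  let a : ∀ n, A n := fun n => Nat.casesOn (motive := fun n => A n) n (b 0 + t 0 (a' 0)) (fun n => a' n)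
  refine ⟨a, ?_⟩
  funext n
  cases n with
  | zero =>
    change (b 0 + t 0 (a' 0)) - t 0 (a' 0) = b 0
    abel
  | succ n => exact congrFun ha' n

end LimOne

section Generic

variable {𝒞 : Type*} [Category 𝒞] [Preadditive 𝒞] (G : ℕᵒᵖ ⥤ 𝒞) [HasLimit G]

lemma π_succ_comp (n : ℕ) :
    limit.π G (op (n + 1)) ≫ G.map (homOfLE (Nat.le_succ n)).op = limit.π G (op n) :=
  limit.w G (homOfLE (Nat.le_succ n)).op

lemma hom_ext_limit {P : 𝒞} (s : P ⟶ limit G) (hs : ∀ n, s ≫ limit.π G (op n) = 0) : s = 0 := by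
  apply limit.hom_ext
  rintro ⟨n⟩
  rw [hs n, zero_comp]

lemma exists_lift_limit {P : 𝒞} (x : ∀ n, P ⟶ G.obj (op n))
    (hx : ∀ n, x (n + 1) ≫ G.map (homOfLE (Nat.le_succ n)).op = x n) :
    ∃ s : P ⟶ limit G, ∀ n, s ≫ limit.π G (op n) = x n := by
  let c : Cone G :=
    { pt := P
      π := NatTrans.ofOpSequence (F := (Functor.const ℕᵒᵖ).obj P) (G := G)
        (fun n => x n) (fun n => (Category.id_comp (x n)).trans (hx n).symm) }
  exact ⟨limit.lift _ c, fun n => limit.lift_π c (op n)⟩

end Generic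

variable {X : Scheme.{u}}

/-- `O_X ⊗ -` from abelian sheaves to `X.Modules`. -/
noncomputable def frAb (X : Scheme.{u}) :
    Sheaf (Opens.grothendieckTopology X.carrier) AddCommGrpCat.{u} ⥤ X.Modules :=
  freeShR X.ringCatSheaf

/-- `O_X ⊗ - ⊣ forget`. -/
noncomputable def frAdj (X : Scheme.{u}) : frAb X ⊣ tS X := freeShRAdj X.ringCatSheaf

instance : (frAb X).Additive := freeShR_additive X.ringCatSheaf

/-- `U ↦ O_X ⊗ ℤ_U` with values in `X.Modules`. -/
noncomputable def frX (X : Scheme.{u}) : Opens X.carrier ⥤ X.Modules :=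
  frSh (Opens.grothendieckTopology X.carrier) ⋙ frAb X

theorem locFr_frX : LocFr (Opens.grothendieckTopology X.carrier) (frX X) := locFr_frModR X.ringCatSheaf

instance : IsGrothendieckAbelian.{u} X.Modules :=
  Groth.Agent.S0484.result (Opens.grothendieckTopology X.carrier) X.ringCatSheaf

/-- `Hom(O_X ⊗ ℤ_U, M) ≃+ Γ(U, M)`. -/
noncomputable def homFrEquiv (U : Opens X.carrier) (M : X.Modules) :
    ((frX X).obj U ⟶ M) ≃+ (Coh.toAb M).obj.obj (op U) :=
  ((frAdj X).homAddEquiv (CohCx.freeSheaf (Opens.grothendieckTopology X.carrier) U) M).trans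
    (CohFree.homEquivSect (Opens.grothendieckTopology X.carrier) U (Coh.toAb M))

lemma homFrEquiv_apply (U : Opens X.carrier) (M : X.Modules) (a : (frX X).obj U ⟶ M) :
    homFrEquiv U M a = CohFree.homEquivSect (Opens.grothendieckTopology X.carrier) U (Coh.toAb M)
      ((frAdj X).homEquiv (CohCx.freeSheaf (Opens.grothendieckTopology X.carrier) U) M a) := rfl

lemma homFrEquiv_comp (U : Opens X.carrier) {M N : X.Modules} (φ : M ⟶ N) (a : (frX X).obj U ⟶ M) :
    homFrEquiv U N (a ≫ φ) = ((tS X).map φ).hom.app (op U) (homFrEquiv U M a) := by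
  have h := (frAdj X).homEquiv_naturality_right
    (X := CohCx.freeSheaf (Opens.grothendieckTopology X.carrier) U) a φ
  exact (congrArg (CohFree.homEquivSect (Opens.grothendieckTopology X.carrier) U (Coh.toAb N)) h).trans rfl

variable (G : ℕᵒᵖ ⥤ X.Modules)

/-- `R¹lim` of the sections over an affine open vanishes. -/
theorem limOne_sections (hq : ∀ n, (G.obj (op n)).IsQuasicoherent)
    (hepi : ∀ n, 1 ≤ n → Epi (G.map (homOfLE (Nat.le_succ n)).op)) {V : X.Opens} (hV : IsAffineOpen V) :
    CohCx.LimOneIsZero (fun n => (Fab G n).obj.obj (op V)) (fun n => ((tab G n).hom.app (op V)).hom) := by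
  apply limOneIsZero_of_surjective_succ
  intro n hn
  haveI := hq n
  haveI := hq (n + 1)
  haveI := hepi n hn
  exact Groth.Agent.Lib.Helper23.FinType.surjective_app_of_epi (G.map (homOfLE (Nat.le_succ n)).op) hV

theorem affine_cover (X : Scheme.{u}) :
    ∀ U : Opens X.carrier, ∃ (ι : Type u) (Y : ι → Opens X.carrier) (f : ∀ i, Y i ⟶ U),
      Sieve.ofArrows Y f ∈ Opens.grothendieckTopology X.carrier U ∧
        ∀ i, Y i ∈ {V : Opens X.carrier | IsAffineOpen (X := X) V} := by
  intro U
  refine ⟨{V : Opens X.carrier // IsAffineOpen (X := X) V ∧ V ≤ U}, fun V => V.1,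
    fun V => homOfLE V.2.2, ?_, fun V => V.2.1⟩
  intro x hx
  obtain ⟨V, hVB, hxV, hVU⟩ := Opens.isBasis_iff_nbhd.1 X.isBasis_affineOpens hx
  exact ⟨V, homOfLE hVU,
    Sieve.ofArrows_mk _ _ (⟨V, hVB, hVU⟩ : {V : Opens X.carrier // IsAffineOpen (X := X) V ∧ V ≤ U}), hxV⟩

/-- affine vanishing for the limit (transition maps epi from index `1` on). -/
theorem subsingleton_HHon_limit' (hq : ∀ n, (G.obj (op n)).IsQuasicoherent)
    (hepi : ∀ n, 1 ≤ n → Epi (G.map (homOfLE (Nat.le_succ n)).op))
    (U : X.Opens) (hU : IsAffineOpen U) (p : ℕ) (hp : 0 < p) :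
    Subsingleton (Coh.HHon X (limit G) U p) := by
  obtain ⟨q, rfl⟩ := Nat.exists_eq_succ_of_ne_zero hp.ne'
  letI : HasDerivedCategory.{u + 1} (CohTop.Ab X.carrier) := HasDerivedCategory.standard _
  have h1 : ∀ V ∈ {V : Opens X.carrier | IsAffineOpen (X := X) V}, ∀ (p n : ℕ),
      Subsingleton (CohSite.HU (Fab G n) (p + 1) V) := by
    intro V hV p n
    haveI := hq n
    exact Groth.Agent.Lib.Helper23.AffVanish.subsingleton_HE_of_isAffineOpen hV (G.obj (op n)) p
  obtain ⟨-, hvan⟩ := isRlimVia_limit.{u, u + 1} (Fab G) (tab G) _ (affine_cover X) h1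
    (fun V hV => limOne_sections G hq hepi hV)
  have h := subsingleton_HU_of_iso (limIso G) (q + 1) U (hvan U hU q)
  obtain ⟨e⟩ := Groth.Agent.Lib.Helper16.Restr.nonempty_HU_equiv (X := X.carrier) U (Coh.toAb (limit G)) (q + 1)
  have e' : CohTop.HU (Coh.toAb (limit G)) (q + 1) U ≃+ Coh.HHon X (limit G) U (q + 1) := e
  exact e'.symm.toEquiv.subsingleton

section Derived

variable [HasDerivedCategory.{w} X.Modules]

/-- vanishing of `Hom(O_X ⊗ ℤ_V [0], M[k+1])` for `V` affine and `M` quasi-coherent. -/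
theorem subsingleton_hom_frX (M : X.Modules) [M.IsQuasicoherent] {V : X.Opens} (hV : IsAffineOpen V) (k : ℕ) :
    Subsingleton (dsgl ((frX X).obj V) ⟶ (dsgl M)⟦((k + 1 : ℕ) : ℤ)⟧) := by
  haveI : HasExt.{u} X.Modules := hasExt_of_enoughInjectives _
  have e0 := @nonempty_ext_freeShR_iso _ _ _ X.ringCatSheaf ‹HasExt.{u} X.Modules›
    (CohCx.freeSheaf (Opens.grothendieckTopology X.carrier) V) (TF_freeSheaf V) M (k + 1)
  have e2 : Nonempty (AddCommGrpCat.of (Abelian.Ext.{u} ((frAb X).obj
      (CohCx.freeSheaf (Opens.grothendieckTopology X.carrier) V)) M (k + 1)) ≅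
      AddCommGrpCat.of (Abelian.Ext.{u} (CohCx.freeSheaf (Opens.grothendieckTopology X.carrier) V)
        ((tS X).obj M) (k + 1))) := e0
  obtain ⟨e⟩ := e2
  have h0 : Subsingleton (Abelian.Ext.{u} (CohCx.freeSheaf (Opens.grothendieckTopology X.carrier) V)
      (Coh.toAb M) (k + 1)) :=
    Groth.Agent.Lib.Helper23.AffVanish.subsingleton_HE_of_isAffineOpen hV M k
  have e' : Abelian.Ext.{u} ((frAb X).obj
      (CohCx.freeSheaf (Opens.grothendieckTopology X.carrier) V)) M (k + 1) ≃+
      Abelian.Ext.{u} (CohCx.freeSheaf (Opens.grothendieckTopology X.carrier) V) ((tS X).obj M) (k + 1) :=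
    e.addCommGroupIsoToAddEquiv
  have h1 : Subsingleton (Abelian.Ext.{u} ((frX X).obj V) M (k + 1)) :=
    e'.toEquiv.subsingleton
  exact @Equiv.subsingleton _ _
    (Abelian.Ext.homEquiv (X := (frX X).obj V) (Y := M) (n := k + 1)).symm h1

theorem isRlimVia_limit_modules (hq : ∀ n, (G.obj (op n)).IsQuasicoherent)
    (hepi : ∀ n, 1 ≤ n → Epi (G.map (homOfLE (Nat.le_succ n)).op))
    [HasProduct (KK (fun n => G.obj (op n)))] :
    CohCx.IsRlimVia (KK (fun n => G.obj (op n))) (tK (fun n => G.map (homOfLE (Nat.le_succ n)).op))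
      (dsgl (limit G)) (fun n => sMap (limit.π G (op n))) := by
  refine (isRlimVia_single.{w, u} (locFr_frX (X := X)) (fun n => G.obj (op n))
    (fun n => G.map (homOfLE (Nat.le_succ n)).op) (limit G)
    (fun n => limit.π G (op n)) (π_succ_comp G)
    (fun U s hs => hom_ext_limit G s hs) (fun U x hx => exists_lift_limit G x hx)
    {V : Opens X.carrier | IsAffineOpen (X := X) V} (sieveB_mem' _ (affine_cover X))
    (fun V hV k n => ?_) (fun V hV => ?_)).1
  · haveI := hq n
    exact subsingleton_hom_frX (G.obj (op n)) hV k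
  · refine limOneIsZero_of_equiv _ _ _ _ (fun n => homFrEquiv V (G.obj (op n)))
      (fun n => (homFrEquiv V (G.obj (op n))).injective)
      (fun n => (homFrEquiv V (G.obj (op n))).surjective)
      (fun n a b => map_sub (homFrEquiv V (G.obj (op n))) a b)
      (fun n a => homFrEquiv_comp V (G.map (homOfLE (Nat.le_succ n)).op) a)
      (limOne_sections G hq hepi hV)

end Derived

end Groth.Agent.R2.H17.RlimMod
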