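import Mathlib
import Groth.Prelude.Def_Tors

/-!
# `H¹` of an abelian sheaf and torsors (helper17)

ns `Groth.Agent.R2.H17.TorsH1`.
-/

set_option autoImplicit false
universe u
open CategoryTheory CategoryTheory.Limits Opposite

namespace Groth.Agent.R2.H17.TorsH1

variable {C : Type u} [SmallCategory C] {J : GrothendieckTopology C}

section Sections

/-- the constant sheaf `ℤ`. -/
noncomputable abbrev Zc (J : GrothendieckTopology C) : Sheaf J AddCommGrpCat.{u} :=
  (constantSheaf J AddCommGrpCat.{u}).obj (AddCommGrpCat.of (ULift ℤ))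

/-- the constant presheaf `ℤ`. -/
abbrev Zp (C : Type u) [SmallCategory C] : Cᵒᵖ ⥤ AddCommGrpCat.{u} :=
  (Functor.const Cᵒᵖ).obj (AddCommGrpCat.of (ULift ℤ))

variable {F F' : Sheaf J AddCommGrpCat.{u}}

/-- the presheaf morphism attached to `ℤ ⟶ F`. -/
noncomputable def preOfHom (φ : Zc J ⟶ F) : Zp C ⟶ F.obj :=
  (sheafificationAdjunction J AddCommGrpCat.{u}).homEquiv (Zp C) F φ

/-- the global section attached to `ℤ ⟶ F`. -/
noncomputable def secOfHom (φ : Zc J ⟶ F) (U : Cᵒᵖ) : F.obj.obj U :=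
  ((preOfHom φ).app U).hom ⟨1⟩

theorem secOfHom_map (φ : Zc J ⟶ F) {U V : Cᵒᵖ} (f : U ⟶ V) :
    (F.obj.map f).hom (secOfHom φ U) = secOfHom φ V := by
  have h := (preOfHom φ).naturality f
  have h2 := congrArg (fun g => g.hom (⟨1⟩ : ULift ℤ)) h
  simp only [AddCommGrpCat.hom_comp, AddMonoidHom.coe_comp, Function.comp_apply] at h2
  exact h2.symm

theorem preOfHom_comp (φ : Zc J ⟶ F) (g : F ⟶ F') : preOfHom (φ ≫ g) = preOfHom φ ≫ g.hom := by
  exact Adjunction.homEquiv_naturality_right (sheafificationAdjunction J AddCommGrpCat.{u}) φ g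

theorem secOfHom_comp (φ : Zc J ⟶ F) (g : F ⟶ F') (U : Cᵒᵖ) :
    secOfHom (φ ≫ g) U = (g.hom.app U).hom (secOfHom φ U) := by
  unfold secOfHom
  rw [preOfHom_comp]
  rfl

theorem preOfHom_ext {a b : Zp C ⟶ F.obj}
    (h : ∀ U, (a.app U).hom ⟨1⟩ = (b.app U).hom ⟨1⟩) : a = b := by
  ext U n
  obtain ⟨n⟩ := n
  have h1 : (⟨n⟩ : ULift ℤ) = n • (⟨1⟩ : ULift ℤ) := by
    ext; simp
  rw [h1, map_zsmul, map_zsmul, h U]

theorem secOfHom_injective {φ ψ : Zc J ⟶ F} (h : ∀ U, secOfHom φ U = secOfHom ψ U) : φ = ψ := by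
  apply ((sheafificationAdjunction J AddCommGrpCat.{u}).homEquiv (Zp C) F).injective
  exact preOfHom_ext h

/-- the morphism `ℤ ⟶ F` attached to a global section. -/
noncomputable def homOfSec (s : ∀ U : Cᵒᵖ, F.obj.obj U)
    (hs : ∀ {U V : Cᵒᵖ} (f : U ⟶ V), (F.obj.map f).hom (s U) = s V) : Zc J ⟶ F :=
  ((sheafificationAdjunction J AddCommGrpCat.{u}).homEquiv (Zp C) F).symm
    { app := fun U => AddCommGrpCat.ofHom (uliftZMultiplesHom (F.obj.obj U) (s U))
      naturality := by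
        intro U V f
        ext n
        simp only [Functor.const_obj_obj, Functor.const_obj_map, Category.id_comp,
          AddCommGrpCat.hom_comp, AddCommGrpCat.hom_ofHom, AddMonoidHom.coe_comp,
          Function.comp_apply, uliftZMultiplesHom_apply_apply, map_zsmul]
        rw [← hs f]
        rfl }

theorem secOfHom_homOfSec (s : ∀ U : Cᵒᵖ, F.obj.obj U)
    (hs : ∀ {U V : Cᵒᵖ} (f : U ⟶ V), (F.obj.map f).hom (s U) = s V) (U : Cᵒᵖ) :
    secOfHom (homOfSec s hs) U = s U := by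
  unfold secOfHom preOfHom homOfSec
  rw [Equiv.apply_symm_apply]
  simp only [AddCommGrpCat.hom_ofHom]
  exact one_zsmul _

end Sections

section Glue

/-- the sieve of arrows `V ⟶ U` over which the presheaf `T'` has a section. -/
def neSieve (T' : Cᵒᵖ ⥤ Type u) (U : C) : Sieve U where
  arrows V _ := Nonempty (T'.obj (op V))
  downward_closed := by
    rintro V W f ⟨p⟩ g
    exact ⟨T'.map g.op p⟩

/-- a locally nonempty presheaf of sets. -/
def LocNonempty (J : GrothendieckTopology C) (T' : Cᵒᵖ ⥤ Type u) : Prop :=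
  ∀ U : C, ∃ S ∈ J U, ∀ ⦃V : C⦄ (f : V ⟶ U), S f → Nonempty (T'.obj (op V))

theorem neSieve_mem {T' : Cᵒᵖ ⥤ Type u} (hT : LocNonempty J T') (U : C) : neSieve T' U ∈ J U := by
  obtain ⟨S, hS, h⟩ := hT U
  exact J.superset_covering (fun V f hf => h f hf) hS

/-- **Gluing lemma**: a morphism from a locally nonempty presheaf of sets to a sheaf of sets which is
constant on every set of sections comes from a unique global section of the sheaf. -/
theorem exists_section_of_const {T' F : Cᵒᵖ ⥤ Type u} (hF : Presheaf.IsSheaf J F)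
    (hT : LocNonempty J T') (a : T' ⟶ F)
    (ha : ∀ (U : Cᵒᵖ) (p p' : T'.obj U), a.app U p = a.app U p') :
    ∃ x : ∀ U : Cᵒᵖ, F.obj U, (∀ {U V : Cᵒᵖ} (f : U ⟶ V), F.map f (x U) = x V) ∧
      ∀ (U : Cᵒᵖ) (p : T'.obj U), a.app U p = x U := by
  have hF' : Presieve.IsSheaf J F := (isSheaf_iff_isSheaf_of_type J F).mp hF
  -- the local family
  let fam : ∀ U : C, Presieve.FamilyOfElements F (neSieve T' U).arrows :=
    fun U V f hf => a.app (op V) (Classical.choice hf)
  have hfam : ∀ U : C, (fam U).Compatible := by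
    intro U
    intro Y₁ Y₂ W g₁ g₂ f₁ f₂ h₁ h₂ _
    have e1 : F.map g₁.op (a.app (op Y₁) (Classical.choice h₁)) =
        a.app (op W) (T'.map g₁.op (Classical.choice h₁)) :=
      (NatTrans.naturality_apply a g₁.op _).symm
    have e2 : F.map g₂.op (a.app (op Y₂) (Classical.choice h₂)) =
        a.app (op W) (T'.map g₂.op (Classical.choice h₂)) :=
      (NatTrans.naturality_apply a g₂.op _).symm
    exact e1.trans ((ha _ _ _).trans e2.symm)
  let x : ∀ U : Cᵒᵖ, F.obj U := fun U =>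
    (hF' _ (neSieve_mem hT U.unop)).amalgamate (fam U.unop) (hfam U.unop)
  have hx : ∀ (U : Cᵒᵖ) ⦃V : C⦄ (f : V ⟶ U.unop) (p : T'.obj (op V)),
      F.map f.op (x U) = a.app (op V) p := by
    intro U V f p
    have h1 := (hF' _ (neSieve_mem hT U.unop)).valid_glue (hfam U.unop) f ⟨p⟩
    exact h1.trans (ha _ _ _)
  refine ⟨x, ?_, ?_⟩
  · intro U V f
    apply (hF' _ (neSieve_mem hT V.unop)).isSeparatedFor.ext
    intro W g hg
    obtain ⟨p⟩ := hg
    rw [hx V g p, ← Functor.map_comp_apply]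
    have h2 := hx U (g ≫ f.unop) p
    rw [op_comp, Quiver.Hom.op_unop] at h2
    exact h2
  · intro U p
    have h1 := hx U (𝟙 U.unop) p
    rw [op_id, Functor.map_id_apply] at h1
    exact h1.symm

end Glue

section Terminal

theorem hom_of_family (P : Sheaf J (Type u)) (x : ∀ U : Cᵒᵖ, P.obj.obj U)
    (hx : ∀ {U V : Cᵒᵖ} (f : U ⟶ V), P.obj.map f (x U) = x V) :
    Nonempty (⊤_ (Sheaf J (Type u)) ⟶ P) := by
  refine ⟨ObjectProperty.homMk
    { app := fun U => ↾(fun _ => x U)
      naturality := ?_ }⟩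
  intro U V f
  ext y
  simp only [TypeCat.Fun.toFun_apply, types_comp_apply, TypeCat.ofHom_apply]
  exact (hx f).symm

theorem family_of_hom (G : Sheaf J AddCommGrpCat.{u}) (P : Sheaf J (Type u))
    (σ : ⊤_ (Sheaf J (Type u)) ⟶ P) :
    ∃ x : ∀ U : Cᵒᵖ, P.obj.obj U, ∀ {U V : Cᵒᵖ} (f : U ⟶ V), P.obj.map f (x U) = x V := by
  let Gs := (sheafCompose J (forget AddCommGrpCat.{u})).obj G
  let star : ∀ U : Cᵒᵖ, (⊤_ (Sheaf J (Type u))).obj.obj U :=
    fun U => (terminal.from Gs).hom.app U (0 : G.obj.obj U)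
  have hstar : ∀ {U V : Cᵒᵖ} (f : U ⟶ V),
      (⊤_ (Sheaf J (Type u))).obj.map f (star U) = star V := by
    intro U V f
    have h1 := NatTrans.naturality_apply (terminal.from Gs).hom f (0 : G.obj.obj U)
    rw [← h1]
    congr 1
    exact map_zero (G.obj.map f).hom
  refine ⟨fun U => σ.hom.app U (star U), ?_⟩
  intro U V f
  have h1 := NatTrans.naturality_apply σ.hom f (star U)
  rw [← h1, hstar]

end Terminal

section Exact
variable {S : ShortComplex (Sheaf J AddCommGrpCat.{u})} (hS : S.ShortExact)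

/-- evaluation of abelian sheaves at `U`. -/
noncomputable abbrev evalAt (J : GrothendieckTopology C) (U : Cᵒᵖ) :
    Sheaf J AddCommGrpCat.{u} ⥤ AddCommGrpCat.{u} :=
  sheafToPresheaf J AddCommGrpCat.{u} ⋙ (evaluation Cᵒᵖ AddCommGrpCat.{u}).obj U

include hS in
theorem f_injective (U : Cᵒᵖ) : Function.Injective (S.f.hom.app U).hom := by
  haveI := hS.mono_f
  have h : Mono ((evalAt J U).map S.f) := inferInstance
  exact (AddCommGrpCat.mono_iff_injective _).mp h

include hS in
theorem exact_sections (U : Cᵒᵖ) (x : S.X₂.obj.obj U) (hx : (S.g.hom.app U).hom x = 0) :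
    ∃ y : S.X₁.obj.obj U, (S.f.hom.app U).hom y = x := by
  haveI := hS.mono_f
  have h : (S.map (evalAt J U)).Exact :=
    hS.exact.map_of_mono_of_preservesKernel (evalAt J U) inferInstance inferInstance
  rw [ShortComplex.ab_exact_iff] at h
  exact h x hx

include hS in
theorem g_locally_surjective (U : C) (z : S.X₃.obj.obj (op U)) :
    ∃ R ∈ J U, ∀ ⦃V : C⦄ (h : V ⟶ U), R h →
      ∃ y : S.X₂.obj.obj (op V), (S.g.hom.app (op V)).hom y = (S.X₃.obj.map h.op).hom z := by
  haveI := hS.epi_g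
  have hls : Sheaf.IsLocallySurjective S.g :=
    (Sheaf.isLocallySurjective_iff_epi' (φ := S.g)).2 inferInstance
  refine ⟨Presheaf.imageSieve S.g.hom z, Presheaf.imageSieve_mem J S.g.hom z, ?_⟩
  intro V h hh
  exact hh

end Exact

section Fibre

theorem nat_apply {F F' : Sheaf J AddCommGrpCat.{u}} (g : F ⟶ F') {U V : Cᵒᵖ} (f : U ⟶ V)
    (x : F.obj.obj U) :
    (g.hom.app V).hom ((F.obj.map f).hom x) = (F'.obj.map f).hom ((g.hom.app U).hom x) :=
  congrArg (fun k => k.hom x) (g.hom.naturality f)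

variable {I Q : Sheaf J AddCommGrpCat.{u}} (π : I ⟶ Q) (q : ∀ U : Cᵒᵖ, Q.obj.obj U)
  (hq : ∀ {U V : Cᵒᵖ} (f : U ⟶ V), (Q.obj.map f).hom (q U) = q V)

/-- sections of `I` over `U` lying over the global section `q` of `Q`. -/
abbrev FibObj (U : Cᵒᵖ) : Type u := {i : I.obj.obj U // (π.hom.app U).hom i = q U}

include hq in
theorem fib_map_mem {U V : Cᵒᵖ} (f : U ⟶ V) (i : I.obj.obj U) (hi : (π.hom.app U).hom i = q U) :
    (π.hom.app V).hom ((I.obj.map f).hom i) = q V := by
  rw [nat_apply, hi, hq f]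

/-- restriction on the fibre. -/
def fibMap {U V : Cᵒᵖ} (f : U ⟶ V) (x : FibObj π q U) : FibObj π q V :=
  ⟨(I.obj.map f).hom x.1, fib_map_mem π q hq f x.1 x.2⟩

/-- the fibre of `π` over `q`, as a presheaf of sets. -/
def fibPresheaf : Cᵒᵖ ⥤ Type u where
  obj U := FibObj π q U
  map f := ↾(fibMap π q hq f)
  map_id U := by
    apply ConcreteCategory.hom_ext
    intro x
    apply Subtype.ext
    show (I.obj.map (𝟙 U)).hom x.1 = x.1
    rw [I.obj.map_id]
    rfl
  map_comp f g := by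
    apply ConcreteCategory.hom_ext
    intro x
    apply Subtype.ext
    show (I.obj.map (f ≫ g)).hom x.1 = (I.obj.map g).hom ((I.obj.map f).hom x.1)
    rw [I.obj.map_comp]
    rfl

/-- the underlying sheaf of sets of an abelian sheaf. -/
noncomputable abbrev uSh (F : Sheaf J AddCommGrpCat.{u}) : Sheaf J (Type u) :=
  (sheafCompose J (forget AddCommGrpCat.{u})).obj F

theorem fibPresheaf_isSheaf : Presheaf.IsSheaf J (fibPresheaf π q hq) := by
  rw [isSheaf_iff_isSheaf_of_type]
  intro X S hS x hx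
  have hI : Presieve.IsSheafFor (uSh I).obj S.arrows :=
    (isSheaf_iff_isSheaf_of_type J _).1 (uSh I).property S hS
  have hQ : Presieve.IsSheafFor (uSh Q).obj S.arrows :=
    (isSheaf_iff_isSheaf_of_type J _).1 (uSh Q).property S hS
  obtain ⟨y, hydef⟩ : ∃ y : Presieve.FamilyOfElements (uSh I).obj S.arrows,
      ∀ ⦃V : C⦄ (f : V ⟶ X) (hf : S.arrows f), y f hf = (x f hf).1 :=
    ⟨fun V f hf => (x f hf).1, fun _ _ _ => rfl⟩
  have hy : y.Compatible := by
    intro Y₁ Y₂ Z g₁ g₂ f₁ f₂ h₁ h₂ comm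
    have h := hx g₁ g₂ h₁ h₂ comm
    rw [hydef f₁ h₁, hydef f₂ h₂]
    exact congrArg Subtype.val h
  have hval : ∀ ⦃V : C⦄ (f : V ⟶ X) (hf : S.arrows f),
      (uSh I).obj.map f.op (hI.amalgamate y hy) = y f hf := fun V f hf => hI.valid_glue hy f hf
  have hmem : (π.hom.app (op X)).hom (hI.amalgamate y hy) = q (op X) := by
    apply hQ.isSeparatedFor.ext
    intro V f hf
    have h1 := nat_apply π f.op (hI.amalgamate y hy)
    have h2 : (I.obj.map f.op).hom (hI.amalgamate y hy) = (x f hf).1 :=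
      (hval f hf).trans (hydef f hf)
    rw [h2] at h1
    exact h1.symm.trans (((x f hf).2).trans (hq f.op).symm)
  refine ⟨(⟨hI.amalgamate y hy, hmem⟩ : FibObj π q (op X)), ?_, ?_⟩
  · intro V f hf
    apply Subtype.ext
    show (I.obj.map f.op).hom (hI.amalgamate y hy) = (x f hf).1
    exact (hval f hf).trans (hydef f hf)
  · intro t ht
    apply Subtype.ext
    show t.1 = hI.amalgamate y hy
    apply hI.isSeparatedFor.ext
    intro V f hf
    exact (congrArg Subtype.val (ht f hf)).trans ((hval f hf).trans (hydef f hf)).symm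

end Fibre

section FibTorsor
variable {S : ShortComplex (Sheaf J AddCommGrpCat.{u})} (hS : S.ShortExact)
  (q : ∀ U : Cᵒᵖ, S.X₃.obj.obj U)
  (hq : ∀ {U V : Cᵒᵖ} (f : U ⟶ V), (S.X₃.obj.map f).hom (q U) = q V)

theorem g_f_apply (U : Cᵒᵖ) (g : S.X₁.obj.obj U) :
    (S.g.hom.app U).hom ((S.f.hom.app U).hom g) = 0 :=
  congrArg (fun k : S.X₁ ⟶ S.X₃ => (k.hom.app U).hom g) S.zero

/-- the torsor of liftings of a global section `q` of `S.X₃` to `S.X₂`, under `S.X₁`. -/
noncomputable def fibTorsor : Tors.Torsor S.X₁ where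
  P := ⟨fibPresheaf S.g q hq, fibPresheaf_isSheaf S.g q hq⟩
  vadd {U} g x := ⟨(S.f.hom.app U).hom g + x.1, by
    rw [map_add, g_f_apply, zero_add, x.2]⟩
  zero_vadd {U} p := by
    apply Subtype.ext
    show (S.f.hom.app U).hom 0 + p.1 = p.1
    rw [map_zero, zero_add]
  add_vadd {U} g h p := by
    apply Subtype.ext
    show (S.f.hom.app U).hom (g + h) + p.1 = (S.f.hom.app U).hom g + ((S.f.hom.app U).hom h + p.1)
    rw [map_add, add_assoc]
  map_vadd {U V} f g p := by
    apply Subtype.ext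
    show (S.X₂.obj.map f).hom ((S.f.hom.app U).hom g + p.1) =
      (S.f.hom.app V).hom ((S.X₁.obj.map f).hom g) + (S.X₂.obj.map f).hom p.1
    rw [map_add, nat_apply]
  free_transitive {U} p p' := by
    have h0 : (S.g.hom.app U).hom (p'.1 - p.1) = 0 := by
      rw [map_sub, p.2, p'.2, sub_self]
    obtain ⟨g, hg⟩ := exact_sections hS U _ h0
    refine ⟨g, ?_, ?_⟩
    · apply Subtype.ext
      show (S.f.hom.app U).hom g + p.1 = p'.1
      rw [hg, sub_add_cancel]
    · intro g' hg'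
      apply f_injective hS U
      have h1 : (S.f.hom.app U).hom g' + p.1 = p'.1 := congrArg Subtype.val hg'
      rw [hg, ← h1, add_sub_cancel_right]
  locally_nonempty U := by
    obtain ⟨R, hR, h⟩ := g_locally_surjective hS U (q (op U))
    refine ⟨R, hR, fun V f hf => ?_⟩
    obtain ⟨y, hy⟩ := h f hf
    exact ⟨⟨y, hy.trans (hq f.op)⟩⟩

theorem fibTorsor_P_obj (U : Cᵒᵖ) :
    (fibTorsor hS q hq).P.obj.obj U = {i : S.X₂.obj.obj U // (S.g.hom.app U).hom i = q U} := rfl

end FibTorsor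

section Diff
variable {G : Sheaf J AddCommGrpCat.{u}} (T : Tors.Torsor G)

/-- the difference `a - b` of two sections of a torsor. -/
noncomputable def diff {U : Cᵒᵖ} (a b : T.P.obj.obj U) : G.obj.obj U :=
  (T.free_transitive b a).choose

theorem vadd_diff {U : Cᵒᵖ} (a b : T.P.obj.obj U) : T.vadd (diff T a b) b = a :=
  (T.free_transitive b a).choose_spec.1

theorem eq_diff {U : Cᵒᵖ} {a b : T.P.obj.obj U} {g : G.obj.obj U} (h : T.vadd g b = a) :
    g = diff T a b :=
  (T.free_transitive b a).choose_spec.2 g h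

theorem diff_vadd {U : Cᵒᵖ} (g : G.obj.obj U) (a b : T.P.obj.obj U) :
    diff T (T.vadd g a) b = g + diff T a b := by
  symm
  apply eq_diff
  rw [T.add_vadd, vadd_diff]

theorem map_diff {U V : Cᵒᵖ} (f : U ⟶ V) (a b : T.P.obj.obj U) :
    (G.obj.map f).hom (diff T a b) = diff T (T.P.obj.map f a) (T.P.obj.map f b) := by
  apply eq_diff
  rw [← T.map_vadd, vadd_diff]

theorem vadd_left_cancel {U : Cᵒᵖ} {g g' : G.obj.obj U} {p : T.P.obj.obj U}
    (h : T.vadd g p = T.vadd g' p) : g = g' :=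
  (eq_diff T h).trans (eq_diff T rfl).symm

end Diff

section B0
variable {G : Sheaf J AddCommGrpCat.{u}} (T : Tors.Torsor G)

/-- `B₀(U) = ∏_{(V, h : V ⟶ U, p ∈ T(V))} G(V)`. -/
abbrev B0obj (U : Cᵒᵖ) : Type u :=
  ∀ (V : C) (_ : V ⟶ U.unop) (_ : T.P.obj.obj (op V)), G.obj.obj (op V)

/-- restriction of `B₀`: reindexing. -/
def B0map {U U' : Cᵒᵖ} (f : U ⟶ U') : B0obj T U →+ B0obj T U' where
  toFun b := fun V h p => b V (h ≫ f.unop) p
  map_zero' := rfl
  map_add' _ _ := rfl

/-- the presheaf of abelian groups `B₀`. -/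
def B0 : Cᵒᵖ ⥤ AddCommGrpCat.{u} where
  obj U := AddCommGrpCat.of (B0obj T U)
  map f := AddCommGrpCat.ofHom (B0map T f)
  map_id U := by
    ext b V h p
    show b V (h ≫ (𝟙 U).unop) p = b V h p
    rw [unop_id, Category.comp_id]
  map_comp f g := by
    ext b V h p
    show b V (h ≫ (f ≫ g).unop) p = b V ((h ≫ g.unop) ≫ f.unop) p
    rw [unop_comp, Category.assoc]

/-- `G ⟶ B₀`, `g ↦ (g|_V)`. -/
def iota0 : G.obj ⟶ B0 T where
  app U := AddCommGrpCat.ofHom
    { toFun := fun g V h _ => (G.obj.map h.op).hom g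
      map_zero' := by funext V h p; exact map_zero _
      map_add' := fun a b => by funext V h p; exact map_add _ a b }
  naturality U U' f := by
    ext g
    funext V h p
    show (G.obj.map h.op).hom ((G.obj.map f).hom g) = (G.obj.map (h ≫ f.unop).op).hom g
    rw [op_comp, Quiver.Hom.op_unop, G.obj.map_comp]
    rfl

theorem iota0_apply (U : Cᵒᵖ) (g : G.obj.obj U) (V : C) (h : V ⟶ U.unop) (p : T.P.obj.obj (op V)) :
    ((iota0 T).app U).hom g V h p = (G.obj.map h.op).hom g := rfl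

theorem iota0_injective (U : Cᵒᵖ) : Function.Injective ((iota0 T).app U).hom := by
  rw [injective_iff_map_eq_zero]
  intro g hg
  have hG : Presieve.IsSheafFor (uSh G).obj (neSieve T.P.obj U.unop).arrows :=
    (isSheaf_iff_isSheaf_of_type J _).1 (uSh G).property _ (neSieve_mem T.locally_nonempty U.unop)
  apply hG.isSeparatedFor.ext
  rintro V h ⟨p⟩
  have h1 : ((iota0 T).app U).hom g V h p = 0 := by rw [hg]; rfl
  rw [iota0_apply] at h1
  show (G.obj.map h.op).hom g = (G.obj.map h.op).hom 0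
  rw [map_zero]
  exact h1

instance mono_iota0 : Mono (iota0 T) := by
  haveI : ∀ U, Mono ((iota0 T).app U) := fun U =>
    (AddCommGrpCat.mono_iff_injective _).mpr (iota0_injective T U)
  exact NatTrans.mono_of_mono_app _

/-- the tautological equivariant map `T ⟶ B₀`, `p ↦ (p|_V - p')`. -/
noncomputable def f0 (U : Cᵒᵖ) (p : T.P.obj.obj U) : (B0 T).obj U :=
  fun V h p' => diff T (T.P.obj.map h.op p) p'

theorem f0_vadd (U : Cᵒᵖ) (g : G.obj.obj U) (p : T.P.obj.obj U) :
    f0 T U (T.vadd g p) = ((iota0 T).app U).hom g + f0 T U p := by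
  funext V h p'
  show diff T (T.P.obj.map h.op (T.vadd g p)) p' =
    (G.obj.map h.op).hom g + diff T (T.P.obj.map h.op p) p'
  rw [T.map_vadd, diff_vadd]

theorem f0_map {U U' : Cᵒᵖ} (f : U ⟶ U') (p : T.P.obj.obj U) :
    ((B0 T).map f).hom (f0 T U p) = f0 T U' (T.P.obj.map f p) := by
  funext V h p'
  show diff T (T.P.obj.map (h ≫ f.unop).op p) p' = diff T (T.P.obj.map h.op (T.P.obj.map f p)) p'
  rw [op_comp, Quiver.Hom.op_unop, Functor.map_comp_apply]

end B0

section EquivMap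
variable {G : Sheaf J AddCommGrpCat.{u}}

/-- an equivariant map from a `G`-torsor to an abelian sheaf `I` receiving `G`. -/
structure EquivMap (T : Tors.Torsor G) {I : Sheaf J AddCommGrpCat.{u}} (ι : G ⟶ I) where
  /-- the map on sections -/
  f : ∀ U : Cᵒᵖ, T.P.obj.obj U → I.obj.obj U
  nat : ∀ {U V : Cᵒᵖ} (k : U ⟶ V) (p : T.P.obj.obj U),
    (I.obj.map k).hom (f U p) = f V (T.P.obj.map k p)
  equiv : ∀ (U : Cᵒᵖ) (g : G.obj.obj U) (p : T.P.obj.obj U),
    f U (T.vadd g p) = (ι.hom.app U).hom g + f U p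

theorem exists_equivMap (T : Tors.Torsor G) {I : Sheaf J AddCommGrpCat.{u}} (ι : G ⟶ I)
    [Injective I] : Nonempty (EquivMap T ι) := by
  haveI : Injective I.obj :=
    Injective.injective_of_adjoint (sheafificationAdjunction J AddCommGrpCat.{u}) I
  let φ : B0 T ⟶ I.obj := Injective.factorThru ι.hom (iota0 T)
  have hφ : iota0 T ≫ φ = ι.hom := Injective.comp_factorThru _ _
  refine ⟨⟨fun U p => (φ.app U).hom (f0 T U p), ?_, ?_⟩⟩
  · intro U V k p
    rw [← f0_map]
    exact (congrArg (fun m => m.hom (f0 T U p)) (φ.naturality k)).symm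
  · intro U g p
    rw [f0_vadd, map_add]
    congr 1
    exact congrArg (fun m : G.obj ⟶ I.obj => (m.app U).hom g) hφ

end EquivMap

section Lift
variable {G : Sheaf J AddCommGrpCat.{u}} {T : Tors.Torsor G} {I : Sheaf J AddCommGrpCat.{u}}
  {ι : G ⟶ I} (e : EquivMap T ι) (s : ∀ U : Cᵒᵖ, I.obj.obj U)
  (hs : ∀ {U V : Cᵒᵖ} (k : U ⟶ V), (I.obj.map k).hom (s U) = s V)

/-- the sub-presheaf of `T` of sections mapping to the global section `s` of `I`. -/
def liftPre : Cᵒᵖ ⥤ Type u where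
  obj U := {t : T.P.obj.obj U // e.f U t = s U}
  map {U V} k := ↾(fun t => ⟨T.P.obj.map k t.1, by rw [← e.nat, t.2, hs k]⟩)
  map_id U := by
    apply ConcreteCategory.hom_ext
    intro x
    apply Subtype.ext
    show T.P.obj.map (𝟙 U) x.1 = x.1
    rw [T.P.obj.map_id]
    rfl
  map_comp f g := by
    apply ConcreteCategory.hom_ext
    intro x
    apply Subtype.ext
    show T.P.obj.map (f ≫ g) x.1 = T.P.obj.map g (T.P.obj.map f x.1)
    rw [T.P.obj.map_comp]
    rfl

/-- the inclusion into `T`. -/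
def liftIncl : liftPre e s hs ⟶ T.P.obj where
  app U := ↾(fun t => t.1)
  naturality := by
    intro U V k
    rfl

theorem liftPre_subsingleton (hι : ∀ U, Function.Injective (ι.hom.app U).hom) (U : Cᵒᵖ)
    (t t' : (liftPre e s hs).obj U) : t = t' := by
  apply Subtype.ext
  have h1 : T.vadd (diff T t'.1 t.1) t.1 = t'.1 := vadd_diff T t'.1 t.1
  have h2 := e.equiv U (diff T t'.1 t.1) t.1
  rw [h1, t.2, t'.2] at h2
  have h3 : (ι.hom.app U).hom (diff T t'.1 t.1) = 0 := by
    have := h2.symm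
    rwa [add_eq_right] at this
  have h4 : diff T t'.1 t.1 = 0 := hι U (h3.trans (map_zero _).symm)
  rw [h4, T.zero_vadd] at h1
  exact h1

end Lift

section Main
open Abelian

variable (G : Sheaf J AddCommGrpCat.{u})

/-- the injective-hull short exact sequence `0 → G → I → I/G → 0`. -/
noncomputable abbrev injSC : ShortComplex (Sheaf J AddCommGrpCat.{u}) :=
  ShortComplex.mk (Injective.ι G) (cokernel.π (Injective.ι G)) (cokernel.condition _)

theorem injSC_shortExact : (injSC G).ShortExact :=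
  { exact := ShortComplex.exact_cokernel (Injective.ι G)
    mono_f := inferInstanceAs (Mono (Injective.ι G))
    epi_g := inferInstanceAs (Epi (cokernel.π (Injective.ι G))) }

theorem subsingleton_H1_of_sections (h : ∀ T : Tors.Torsor G, T.HasSection) :
    Subsingleton (Sheaf.H.{u} G 1) := by
  refine subsingleton_of_forall_eq 0 fun x₁ => ?_
  have hS := injSC_shortExact G
  have h0 : x₁.comp (Ext.mk₀ (injSC G).f) (add_zero 1) = 0 :=
    Ext.eq_zero_of_injective (I := Injective.under G) _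
  obtain ⟨x₃, hx₃⟩ := Ext.covariant_sequence_exact₁ _ hS x₁ h0 (zero_add 1)
  obtain ⟨ψ, rfl⟩ := (Ext.mk₀_bijective _ _).surjective x₃
  obtain ⟨σ, hσ⟩ : ∃ σ : Zc J ⟶ (injSC G).X₂, σ ≫ (injSC G).g = ψ := by
    obtain ⟨t⟩ := h (fibTorsor hS (secOfHom ψ) (secOfHom_map ψ))
    obtain ⟨x, hx⟩ := family_of_hom G _ t
    let y : ∀ U : Cᵒᵖ, {i : (injSC G).X₂.obj.obj U //
        ((injSC G).g.hom.app U).hom i = secOfHom ψ U} := x
    have hy : ∀ {U V : Cᵒᵖ} (f : U ⟶ V),
        ((injSC G).X₂.obj.map f).hom (y U).1 = (y V).1 := fun f => congrArg Subtype.val (hx f)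
    refine ⟨homOfSec (F := (injSC G).X₂) (fun U => (y U).1) hy, ?_⟩
    apply secOfHom_injective
    intro U
    rw [secOfHom_comp, secOfHom_homOfSec]
    exact (y U).2
  rw [← hx₃, ← hσ, ← Ext.mk₀_comp_mk₀, Ext.comp_assoc_of_second_deg_zero, hS.comp_extClass,
    Ext.comp_zero]

theorem hasSection_of_equivMap {S : ShortComplex (Sheaf J AddCommGrpCat.{u})} (hS : S.ShortExact)
    (T : Tors.Torsor S.X₁) (e : EquivMap T S.f) [Subsingleton (Sheaf.H.{u} S.X₁ 1)] :
    T.HasSection := by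
  -- the image of `T` in `S.X₃` is a global section `q`
  let a : T.P.obj ⟶ (uSh S.X₃).obj :=
    { app := fun U => ↾(fun p => (S.g.hom.app U).hom (e.f U p))
      naturality := by
        intro U V k
        ext p
        show (S.g.hom.app V).hom (e.f V (T.P.obj.map k p)) =
          (S.X₃.obj.map k).hom ((S.g.hom.app U).hom (e.f U p))
        rw [← e.nat, nat_apply] }
  have ha : ∀ (U : Cᵒᵖ) (p p' : T.P.obj.obj U), a.app U p = a.app U p' := by
    intro U p p'
    show (S.g.hom.app U).hom (e.f U p) = (S.g.hom.app U).hom (e.f U p')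
    rw [← vadd_diff T p' p, e.equiv, map_add, g_f_apply, zero_add]
  obtain ⟨q, hq', hqa'⟩ : ∃ q : ∀ U : Cᵒᵖ, S.X₃.obj.obj U,
      (∀ {U V : Cᵒᵖ} (k : U ⟶ V), (S.X₃.obj.map k).hom (q U) = q V) ∧
      ∀ (U : Cᵒᵖ) (p : T.P.obj.obj U), (S.g.hom.app U).hom (e.f U p) = q U :=
    exists_section_of_const (uSh S.X₃).property T.locally_nonempty a ha
  -- lift `q` to a global section `s` of `S.X₂`
  have hψ : ∀ U, secOfHom (homOfSec q hq') U = q U := secOfHom_homOfSec q hq'
  have h0 : (Ext.mk₀ (homOfSec q hq')).comp hS.extClass (zero_add 1) = 0 := Subsingleton.elim _ _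
  obtain ⟨x₂, hx₂⟩ := Ext.covariant_sequence_exact₃ _ hS (Ext.mk₀ (homOfSec q hq')) (zero_add 1) h0
  obtain ⟨σ, rfl⟩ := (Ext.mk₀_bijective _ _).surjective x₂
  rw [Ext.mk₀_comp_mk₀] at hx₂
  have hσ : σ ≫ S.g = homOfSec q hq' := (Ext.mk₀_bijective _ _).injective hx₂
  have hs : ∀ U, (S.g.hom.app U).hom (secOfHom σ U) = q U := fun U => by
    rw [← secOfHom_comp, hσ, hψ]
  -- the sections of `T` over `s` form a locally nonempty presheaf with subsingleton sections
  have hloc : LocNonempty J (liftPre e (secOfHom σ) (secOfHom_map σ)) := by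
    intro U
    refine ⟨neSieve T.P.obj U, neSieve_mem T.locally_nonempty U, ?_⟩
    rintro V h ⟨p⟩
    have h1 : (S.g.hom.app (op V)).hom (e.f (op V) p - secOfHom σ (op V)) = 0 := by
      rw [map_sub, hqa', hs, sub_self]
    obtain ⟨g, hg⟩ := exact_sections hS (op V) _ h1
    refine ⟨⟨T.vadd (-g) p, ?_⟩⟩
    rw [e.equiv, map_neg, hg]
    abel
  obtain ⟨x, hx, -⟩ := exists_section_of_const T.P.property hloc
    (liftIncl e (secOfHom σ) (secOfHom_map σ))
    (fun U p p' => congrArg Subtype.val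
      (liftPre_subsingleton e (secOfHom σ) (secOfHom_map σ) (f_injective hS) U p p'))
  exact hom_of_family T.P x hx

theorem sections_of_subsingleton_H1 [Subsingleton (Sheaf.H.{u} G 1)] (T : Tors.Torsor G) :
    T.HasSection := by
  obtain ⟨e⟩ := exists_equivMap T (Injective.ι G)
  exact hasSection_of_equivMap (S := injSC G) (injSC_shortExact G) T e

/-- `H¹(G) = 0` iff every `G`-torsor has a global section. -/
theorem main : Subsingleton (Sheaf.H.{u} G 1) ↔ ∀ T : Tors.Torsor G, T.HasSection :=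
  ⟨fun _ T => sections_of_subsingleton_H1 G T, subsingleton_H1_of_sections G⟩

end Main

end Groth.Agent.R2.H17.TorsH1
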