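import Groth.Agent.R2.H17FormalTrunc

/-!
# Quasi-coherent systems `0 → F_n → F_(n+1) → F_1 → 0` are `f`-adic completions of an `f`-torsion free module (helper17)

Namespace `Groth.Agent.R2.H17.TorsionFreeLim`.

Let `G : ℕᵒᵖ ⥤ X.Modules` be a system of quasi-coherent modules (`X` over `Spec A`, `f : A`) with monomorphisms
`i_n : G_n ⟶ G_(n+1)` such that `t_n ≫ i_n = f` on `G_(n+1)` and `0 → G_n → G_(n+1) → G_0 → 0` is short exact.
Then `G` is a quasi-coherent formal system for the ideal `(f)` (`isQCohFormal`), multiplication by `f` is a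
monomorphism on `lim G` (`mono_smulMod_limit`) and `(lim G)/f^(n+1) ≅ G_n` compatibly (`completionIso`).
-/

set_option autoImplicit false
set_option linter.unusedSectionVars false
set_option linter.style.haveILetI false

universe u

open CategoryTheory CategoryTheory.Limits Opposite AlgebraicGeometry TopologicalSpace

namespace Groth.Agent.R2.H17.TorsionFreeLim

open Groth.Agent.R2.H17.RlimMod Groth.Agent.R2.H17.FormalTrunc
  Groth.Agent.R2.H35.FFRees Groth.Agent.R2.H40.FormalMod

section Abelian

variable {𝒞 : Type*} [Category 𝒞] [Abelian 𝒞]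

/-- an epimorphism `π` killing `g` whose kernel dies in the cokernel of `g` is a cokernel of `g`. -/
theorem isIso_cokernel_desc_of {K M N : 𝒞} (g : K ⟶ M) (π : M ⟶ N) [Epi π] (h : g ≫ π = 0)
    (hker : kernel.ι π ≫ cokernel.π g = 0) : IsIso (cokernel.desc g π h) := by
  have hcok : IsColimit (CokernelCofork.ofπ π (kernel.condition _)) :=
    Abelian.epiIsCokernelOfKernel _ (limit.isLimit _)
  let r : N ⟶ cokernel g := hcok.desc (CokernelCofork.ofπ _ hker)
  have hr : π ≫ r = cokernel.π _ := hcok.fac _ WalkingParallelPair.one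
  refine ⟨r, ?_, ?_⟩
  · rw [← cancel_epi (cokernel.π g), ← Category.assoc, cokernel.π_desc, hr, Category.comp_id]
  · rw [← cancel_epi π, ← Category.assoc, hr, cokernel.π_desc, Category.comp_id]

end Abelian

variable {A : Type u} [CommRing A] {X : Scheme.{u}} [X.Over (Spec (CommRingCat.of A))]

/-- a module killed by `f^k` is killed by the ideal `(f)^k`. -/
theorem killedBy_span_pow (f : A) (k : ℕ) (M : X.Modules) (h : Formal.smulMod A M (f ^ k) = 0) :
    Formal.KilledBy (Ideal.span ({f} : Set A) ^ k) M := by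
  intro a ha
  rw [Ideal.span_singleton_pow, Ideal.mem_span_singleton'] at ha
  obtain ⟨c, rfl⟩ := ha
  rw [smulMod_mul, h, zero_comp]

variable (f : A) (G : ℕᵒᵖ ⥤ X.Modules)

/-- the transition map. -/
noncomputable abbrev tr (n : ℕ) : G.obj (op (n + 1)) ⟶ G.obj (op n) := G.map (homOfLE (Nat.le_succ n)).op

/-- the projection to level `0`. -/
noncomputable abbrev pr (n : ℕ) : G.obj (op n) ⟶ G.obj (op 0) := G.map (homOfLE (Nat.zero_le n)).op

lemma pr_succ (n : ℕ) : pr G (n + 1) = tr G n ≫ pr G n := by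
  dsimp only [pr, tr]
  rw [← G.map_comp]
  rfl

lemma pr_zero : pr G 0 = 𝟙 _ := by
  dsimp only [pr]
  have : (homOfLE (Nat.zero_le 0)).op = 𝟙 (op 0) := rfl
  rw [this, G.map_id]

variable {f G}
variable (i : ∀ n, G.obj (op n) ⟶ G.obj (op (n + 1))) (hmono : ∀ n, Mono (i n))
  (hti : ∀ n, tr G n ≫ i n = Formal.smulMod A (G.obj (op (n + 1))) f)
  (w : ∀ n, i n ≫ pr G (n + 1) = 0)
  (hse : ∀ n, (ShortComplex.mk (i n) (pr G (n + 1)) (w n)).ShortExact)

include hmono hti in
lemma i_tr (n : ℕ) : i n ≫ tr G n = Formal.smulMod A (G.obj (op n)) f := by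
  haveI := hmono n
  rw [← cancel_mono (i n), Category.assoc, hti n, Groth.Agent.S9530.smulMod_comp]

include hse in
lemma epi_pr (n : ℕ) : Epi (pr G (n + 1)) := (hse n).epi_g

include hmono hti hse in
lemma epi_tr (n : ℕ) : Epi (tr G n) := by
  induction n with
  | zero =>
    have h := epi_pr i w hse 0
    rw [pr_succ, pr_zero, Category.comp_id] at h
    exact h
  | succ n ih =>
    apply Preadditive.epi_of_cancel_zero
    intro T φ hφ
    -- `i_n ≫ φ = 0`
    have h1 : i n ≫ φ = 0 := by
      haveI := ih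
      rw [← cancel_epi (tr G n), comp_zero, ← Category.assoc, hti n, ← i_tr i hmono hti (n + 1),
        Category.assoc, hφ, comp_zero]
    -- `φ` factors through `pr (n+1)`
    have hcok := (hse n).gIsCokernel
    let χ : G.obj (op 0) ⟶ T := hcok.desc (CokernelCofork.ofπ φ h1)
    have hχ : pr G (n + 1) ≫ χ = φ := hcok.fac (CokernelCofork.ofπ φ h1) WalkingParallelPair.one
    have h2 : pr G (n + 1 + 1) ≫ χ = 0 := by
      rw [pr_succ, Category.assoc, hχ, hφ]
    haveI := epi_pr i w hse (n + 1)
    have h3 : χ = 0 := by rwa [← cancel_epi (pr G (n + 1 + 1)), comp_zero]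
    rw [← hχ, h3, comp_zero]

include hmono hti hse in
lemma smulMod_pow_eq_zero (n : ℕ) : Formal.smulMod A (G.obj (op n)) (f ^ (n + 1)) = 0 := by
  induction n with
  | zero =>
    haveI := epi_tr i hmono hti w hse 0
    rw [zero_add, pow_one, ← cancel_epi (tr G 0), comp_zero, ← Groth.Agent.S9530.smulMod_comp,
      ← hti 0, Category.assoc]
    have h := w 0
    rw [pr_succ, pr_zero, Category.comp_id] at h
    rw [h, comp_zero]
  | succ n ih =>
    rw [pow_succ, smulMod_mul, ← hti n, Category.assoc, ← Groth.Agent.S9530.smulMod_comp, ih,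
      zero_comp, comp_zero]

include hmono hti hse in
/-- a map out of `G_(n+1)` killing `f^(n+1)` kills the kernel of the transition map. -/
lemma kernel_tr_comp (n : ℕ) {T : X.Modules} (φ : G.obj (op (n + 1)) ⟶ T)
    (hφ : Formal.smulMod A (G.obj (op (n + 1))) (f ^ (n + 1)) ≫ φ = 0) :
    kernel.ι (tr G n) ≫ φ = 0 := by
  induction n generalizing T with
  | zero =>
    -- `kernel.ι t_0` factors through `i_0`
    have hk := (hse 0).fIsKernel
    have h0 : kernel.ι (tr G 0) ≫ pr G (0 + 1) = 0 := by
      rw [pr_succ, pr_zero, Category.comp_id, kernel.condition]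
    let y : kernel (tr G 0) ⟶ G.obj (op 0) := hk.lift (KernelFork.ofι _ h0)
    have hy : y ≫ i 0 = kernel.ι (tr G 0) := hk.fac (KernelFork.ofι _ h0) WalkingParallelPair.zero
    have h1 : i 0 ≫ φ = 0 := by
      haveI := epi_tr i hmono hti w hse 0
      rw [← cancel_epi (tr G 0), comp_zero, ← Category.assoc, hti 0]
      have e : f ^ (0 + 1) = f := by ring
      rw [e] at hφ
      exact hφ
    rw [← hy, Category.assoc, h1, comp_zero]
  | succ n ih =>
    have hk := (hse (n + 1)).fIsKernel
    have h0 : kernel.ι (tr G (n + 1)) ≫ pr G (n + 1 + 1) = 0 := by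
      rw [pr_succ, ← Category.assoc, kernel.condition, zero_comp]
    let y : kernel (tr G (n + 1)) ⟶ G.obj (op (n + 1)) := hk.lift (KernelFork.ofι _ h0)
    have hy : y ≫ i (n + 1) = kernel.ι (tr G (n + 1)) :=
      hk.fac (KernelFork.ofι _ h0) WalkingParallelPair.zero
    -- `y ≫ t_n = 0`
    have hyt : y ≫ tr G n = 0 := by
      haveI := hmono n
      rw [← cancel_mono (i n), Category.assoc, hti n, zero_comp, ← i_tr i hmono hti (n + 1),
        ← Category.assoc, hy, kernel.condition]
    -- `i_(n+1) ≫ φ` kills `f^(n+1)`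
    have h1 : Formal.smulMod A (G.obj (op (n + 1))) (f ^ (n + 1)) ≫ (i (n + 1) ≫ φ) = 0 := by
      haveI := epi_tr i hmono hti w hse (n + 1)
      rw [← cancel_epi (tr G (n + 1)), comp_zero, ← Category.assoc, ← Groth.Agent.S9530.smulMod_comp,
        Category.assoc, ← Category.assoc (tr G (n + 1)), hti (n + 1), ← Category.assoc, ← smulMod_mul]
      rw [pow_succ] at hφ
      rwa [mul_comm] at hφ
    -- hence `i_(n+1) ≫ φ` kills the kernel of `t_n`, and factors through `t_n`
    have h2 := ih (i (n + 1) ≫ φ) h1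
    haveI := epi_tr i hmono hti w hse n
    have hcok : IsColimit (CokernelCofork.ofπ (tr G n) (kernel.condition _)) :=
      Abelian.epiIsCokernelOfKernel _ (limit.isLimit _)
    let ψ : G.obj (op n) ⟶ T := hcok.desc (CokernelCofork.ofπ _ h2)
    have hψ : tr G n ≫ ψ = i (n + 1) ≫ φ := hcok.fac (CokernelCofork.ofπ _ h2) WalkingParallelPair.one
    rw [← hy, Category.assoc, ← hψ, ← Category.assoc, hyt, zero_comp]

include hmono hti hse in
theorem isQCohFormal (hq : ∀ n : ℕ, Coh.IsQCoh (G.obj (op n))) :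
    Formal2.IsQCohFormal (Ideal.span ({f} : Set A)) G := by
  refine ⟨hq, fun n => killedBy_span_pow f (n + 1) _ (smulMod_pow_eq_zero i hmono hti w hse n), fun n => ?_⟩
  have hk := killedBy_span_pow f (n + 1) _ (smulMod_pow_eq_zero i hmono hti w hse n)
  have h : Formal.smulFamily (Ideal.span ({f} : Set A) ^ (n + 1)) (G.obj (op (n + 1))) ≫
      G.map (homOfLE (Nat.le_succ n)).op = 0 := by
    refine (Groth.Agent.S9530.smulFamily_comp_eq_zero_iff _).2 (fun a ha => ?_)
    rw [Groth.Agent.S9530.smulMod_comp, hk a ha, comp_zero]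
  refine ⟨h, ?_⟩
  haveI : Epi (G.map (homOfLE (Nat.le_succ n)).op) := epi_tr i hmono hti w hse n
  refine isIso_cokernel_desc_of _ _ h ?_
  refine kernel_tr_comp i hmono hti w hse n _ ?_
  refine (Groth.Agent.S9530.smulFamily_comp_eq_zero_iff _).1 (cokernel.condition _) _ ?_
  rw [Ideal.span_singleton_pow]
  exact Ideal.mem_span_singleton_self _

include hmono hti in
theorem mono_smulMod_limit : Mono (Formal.smulMod A (limit G) f) := by
  apply Preadditive.mono_of_cancel_zero
  intro P s hs
  apply hom_ext_limit G s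
  intro n
  haveI := hmono n
  have h1 : ((s ≫ limit.π G (op (n + 1))) ≫ tr G n) ≫ i n = 0 := by
    rw [Category.assoc, hti n, Category.assoc, ← Groth.Agent.S9530.smulMod_comp, ← Category.assoc, hs,
      zero_comp]
  have h3 : (s ≫ limit.π G (op (n + 1))) ≫ tr G n = 0 := by
    rw [← cancel_mono (i n), zero_comp]
    exact h1
  rw [Category.assoc, π_succ_comp] at h3
  exact h3

/-- the comparison isomorphism `(lim G)/I^(n+1) ≅ G_n`, assembled. -/
theorem nonempty_completion_iso (I : Ideal A) (hI : I.FG) (hG : Formal2.IsQCohFormal I G) :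
    Nonempty (Formal.completion I (limit G) ≅ G) := by
  have hT := fun n => truncation I G hI hG n
  choose h hiso using hT
  let e : ∀ n, Formal.modPow I (n + 1) (limit G) ⟶ G.obj (op n) := fun n => cokernel.desc _ _ (h n)
  have he : ∀ n, Formal.modPowπ I (n + 1) (limit G) ≫ e n = limit.π G (op n) := fun n =>
    cokernel.π_desc _ _ _
  have nat : ∀ n, Formal.modPowTrans I (n + 1) (limit G) ≫ e n =
      e (n + 1) ≫ G.map (homOfLE (Nat.le_succ n)).op := by
    intro n
    haveI : Epi (Formal.modPowπ I (n + 1 + 1) (limit G)) := by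
      unfold Formal.modPowπ
      exact @coequalizer.π_epi _ _ _ _ _ _ _
    rw [← cancel_epi (Formal.modPowπ I (n + 1 + 1) (limit G)), ← Category.assoc,
      Formal.modPowπ_trans, he n, ← Category.assoc, he (n + 1)]
    exact (π_succ_comp G n).symm
  let τ : Formal.completion I (limit G) ⟶ G :=
    NatTrans.ofOpSequence (F := Formal.completion I (limit G)) (G := G) e (fun n => by
        have e1 : (Formal.completion I (limit G)).map (homOfLE (n.le_add_right 1)).op =
            Formal.modPowTrans I (n + 1) (limit G) := Functor.ofOpSequence_map_homOfLE_succ _ n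
        rw [e1]
        exact nat n)
  haveI : ∀ n : ℕᵒᵖ, IsIso (τ.app n) := fun n => hiso n.unop
  haveI := NatIso.isIso_of_isIso_app τ
  exact ⟨asIso τ⟩

end Groth.Agent.R2.H17.TorsionFreeLim
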