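import Mathlib

/-!
# helper18 (round 2): Serre's general position proposition — pointwise linear algebra

For a module `M` over a ring `R` and a maximal ideal `x`, `V(x) = M(x)/B(x)` is the quotient of the
fibre `M/xM` by the classes of elements killed mod `x` by all linear forms.  We show that linear
independence in `V(x)` is detected by minors of linear forms, hence is an open condition on `x`.
-/

set_option autoImplicit false
universe u

namespace Groth.Agent.R2.H18.Serre

open Module

variable {R : Type u} [CommRing R] {M : Type u} [AddCommGroup M] [Module R M]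

/-- The subspace `B(x)` of `M/xM`. -/
def Bq (M : Type u) [AddCommGroup M] [Module R M] (x : MaximalSpectrum R) :
    Submodule (R ⧸ x.asIdeal) (M ⧸ (x.asIdeal • ⊤ : Submodule R M)) :=
  Submodule.span (R ⧸ x.asIdeal)
    ((x.asIdeal • ⊤ : Submodule R M).mkQ '' {m : M | ∀ φ : M →ₗ[R] R, φ m ∈ x.asIdeal})

/-- The image of an element of `M` in `V(x)`. -/
def img (x : MaximalSpectrum R) (m : M) : (M ⧸ (x.asIdeal • ⊤ : Submodule R M)) ⧸ Bq M x :=
  (Bq M x).mkQ ((x.asIdeal • ⊤ : Submodule R M).mkQ m)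

theorem img_add (x : MaximalSpectrum R) (m m' : M) : img x (m + m') = img x m + img x m' := by
  rw [img, img, img, map_add, map_add]

theorem img_zero (x : MaximalSpectrum R) : img x (0 : M) = 0 := by
  rw [img, map_zero, map_zero]

theorem img_smul (x : MaximalSpectrum R) (a : R) (m : M) :
    img x (a • m) = Ideal.Quotient.mk x.asIdeal a • img x m := by
  rfl

theorem img_surjective (x : MaximalSpectrum R) : Function.Surjective (img (M := M) x) := by
  intro v
  obtain ⟨w, rfl⟩ := (Bq M x).mkQ_surjective v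
  obtain ⟨m, rfl⟩ := (x.asIdeal • ⊤ : Submodule R M).mkQ_surjective w
  exact ⟨m, rfl⟩

theorem img_smul_of_mem (x : MaximalSpectrum R) {a : R} (ha : a ∈ x.asIdeal) (m : M) :
    img x (a • m) = 0 := by
  rw [img_smul, Ideal.Quotient.eq_zero_iff_mem.mpr ha, zero_smul]

/-- The functional on `M/xM` induced by a linear form. -/
noncomputable def bar₁ (x : MaximalSpectrum R) (φ : M →ₗ[R] R) :
    (M ⧸ (x.asIdeal • ⊤ : Submodule R M)) →ₗ[R ⧸ x.asIdeal] (R ⧸ x.asIdeal) where
  toFun := Submodule.liftQ _ ((Ideal.Quotient.mkₐ R x.asIdeal).toLinearMap ∘ₗ φ) (by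
    rw [Submodule.smul_le]
    intro r hr m _
    rw [LinearMap.mem_ker, LinearMap.comp_apply, map_smul, smul_eq_mul, AlgHom.toLinearMap_apply,
      map_mul, Ideal.Quotient.mkₐ_eq_mk, Ideal.Quotient.eq_zero_iff_mem.mpr hr, zero_mul])
  map_add' := map_add _
  map_smul' := by
    intro c v
    obtain ⟨r, rfl⟩ := Ideal.Quotient.mk_surjective c
    obtain ⟨m, rfl⟩ := Submodule.Quotient.mk_surjective _ v
    rw [Module.Quotient.mk_smul_mk, Submodule.liftQ_apply, Submodule.liftQ_apply,
      LinearMap.comp_apply, LinearMap.comp_apply, map_smul, smul_eq_mul, AlgHom.toLinearMap_apply,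
      map_mul, Ideal.Quotient.mkₐ_eq_mk]
    rfl

theorem bar₁_mk (x : MaximalSpectrum R) (φ : M →ₗ[R] R) (m : M) :
    bar₁ x φ ((x.asIdeal • ⊤ : Submodule R M).mkQ m) = Ideal.Quotient.mk x.asIdeal (φ m) := rfl

/-- The functional on `V(x)` induced by a linear form. -/
noncomputable def bar (x : MaximalSpectrum R) (φ : M →ₗ[R] R) :
    ((M ⧸ (x.asIdeal • ⊤ : Submodule R M)) ⧸ Bq M x) →ₗ[R ⧸ x.asIdeal] (R ⧸ x.asIdeal) :=
  (Bq M x).liftQ (bar₁ x φ) (by
    rw [Bq, Submodule.span_le]
    rintro _ ⟨m, hm, rfl⟩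
    rw [SetLike.mem_coe, LinearMap.mem_ker, bar₁_mk]
    exact Ideal.Quotient.eq_zero_iff_mem.mpr (hm φ))

theorem bar_img (x : MaximalSpectrum R) (φ : M →ₗ[R] R) (m : M) :
    bar x φ (img x m) = Ideal.Quotient.mk x.asIdeal (φ m) := rfl

theorem img_eq_zero_iff (x : MaximalSpectrum R) (m : M) :
    img x m = 0 ↔ ∀ φ : M →ₗ[R] R, φ m ∈ x.asIdeal := by
  constructor
  · intro h φ
    have := congrArg (bar x φ) h
    rw [bar_img, map_zero] at this
    exact Ideal.Quotient.eq_zero_iff_mem.mp this
  · intro h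
    rw [img, Submodule.mkQ_apply, Submodule.Quotient.mk_eq_zero]
    exact Submodule.subset_span ⟨m, h, rfl⟩

theorem bar_add (x : MaximalSpectrum R) (φ ψ : M →ₗ[R] R) : bar x (φ + ψ) = bar x φ + bar x ψ := by
  refine LinearMap.ext fun v => ?_
  obtain ⟨m, rfl⟩ := img_surjective x v
  rw [LinearMap.add_apply, bar_img, bar_img, bar_img, LinearMap.add_apply, map_add]

theorem bar_smul (x : MaximalSpectrum R) (a : R) (φ : M →ₗ[R] R) :
    bar x (a • φ) = Ideal.Quotient.mk x.asIdeal a • bar x φ := by
  refine LinearMap.ext fun v => ?_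
  obtain ⟨m, rfl⟩ := img_surjective x v
  rw [LinearMap.smul_apply, bar_img, bar_img, LinearMap.smul_apply, smul_eq_mul, map_mul,
    smul_eq_mul]

/-- `img x` as an additive map. -/
def imgHom (x : MaximalSpectrum R) : M →+ (M ⧸ (x.asIdeal • ⊤ : Submodule R M)) ⧸ Bq M x where
  toFun := img x
  map_zero' := img_zero x
  map_add' := img_add x

theorem imgHom_apply (x : MaximalSpectrum R) (m : M) : imgHom x m = img x m := rfl

theorem img_sum (x : MaximalSpectrum R) {ι : Type*} (s : Finset ι) (f : ι → M) :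
    img x (∑ i ∈ s, f i) = ∑ i ∈ s, img x (f i) := by
  rw [← imgHom_apply, map_sum]
  rfl

theorem img_sub (x : MaximalSpectrum R) (m m' : M) : img x (m - m') = img x m - img x m' := by
  rw [← imgHom_apply, map_sub]
  rfl

instance finite_V [Module.Finite R M] (x : MaximalSpectrum R) :
    Module.Finite (R ⧸ x.asIdeal) ((M ⧸ (x.asIdeal • ⊤ : Submodule R M)) ⧸ Bq M x) := by
  obtain ⟨n, g, hg⟩ := Module.Finite.exists_fin (R := R) (M := M)
  refine Module.Finite.of_surjective
    (Fintype.linearCombination (R ⧸ x.asIdeal) (fun i => img x (g i))) ?_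
  intro v
  obtain ⟨m, rfl⟩ := img_surjective x v
  have hm : m ∈ Submodule.span R (Set.range g) := by rw [hg]; trivial
  obtain ⟨c, rfl⟩ := (Submodule.mem_span_range_iff_exists_fun R).mp hm
  refine ⟨fun i => Ideal.Quotient.mk x.asIdeal (c i), ?_⟩
  rw [Fintype.linearCombination_apply, img_sum]
  exact Finset.sum_congr rfl (fun i _ => (img_smul x (c i) (g i)).symm)

section Minors

open scoped Matrix

/-- Independence at `x` detected by a minor of linear forms. -/
def Ind (x : MaximalSpectrum R) {m : ℕ} (T : Fin m → M) : Prop :=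
  ∃ φ : Fin m → M →ₗ[R] R, (Matrix.of fun i j => φ i (T j)).det ∉ x.asIdeal

theorem linearIndependent_of_ind (x : MaximalSpectrum R) {m : ℕ} (T : Fin m → M)
    (h : Ind x T) : LinearIndependent (R ⧸ x.asIdeal) (fun j => img x (T j)) := by
  classical
  obtain ⟨φ, hφ⟩ := h
  letI := Ideal.Quotient.field x.asIdeal
  rw [Fintype.linearIndependent_iff]
  intro c hc i
  set A : Matrix (Fin m) (Fin m) (R ⧸ x.asIdeal) :=
    (Ideal.Quotient.mk x.asIdeal).mapMatrix (Matrix.of fun i j => φ i (T j)) with hA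
  have hAu : IsUnit A := by
    rw [Matrix.isUnit_iff_isUnit_det, hA, ← RingHom.map_det]
    exact IsUnit.mk0 _ (fun h0 => hφ (Ideal.Quotient.eq_zero_iff_mem.mp h0))
  have h2 : A *ᵥ c = 0 := by
    ext i
    have := congrArg (bar x (φ i)) hc
    simp only [map_sum, map_smul, bar_img, map_zero, smul_eq_mul] at this
    simp only [Matrix.mulVec, dotProduct, hA, RingHom.mapMatrix_apply, Matrix.map_apply,
      Matrix.of_apply, Pi.zero_apply]
    rw [← this]
    exact Finset.sum_congr rfl (fun j _ => mul_comm _ _)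
  have h3 := Matrix.mulVec_injective_of_isUnit hAu
    (by rw [h2, Matrix.mulVec_zero] : A *ᵥ c = A *ᵥ 0)
  exact congrFun h3 i

theorem ind_of_linearIndependent [Module.Finite R M] (x : MaximalSpectrum R) {m : ℕ}
    (T : Fin m → M) (h : LinearIndependent (R ⧸ x.asIdeal) (fun j => img x (T j))) :
    Ind x T := by
  classical
  letI := Ideal.Quotient.field x.asIdeal
  -- the subspace of functionals induced by linear forms
  let Φ : Submodule (R ⧸ x.asIdeal)
      (Module.Dual (R ⧸ x.asIdeal) ((M ⧸ (x.asIdeal • ⊤ : Submodule R M)) ⧸ Bq M x)) :=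
    { carrier := Set.range (bar x)
      add_mem' := by
        rintro _ _ ⟨φ, rfl⟩ ⟨ψ, rfl⟩
        exact ⟨φ + ψ, bar_add x φ ψ⟩
      zero_mem' := ⟨0, by rw [← zero_smul R (0 : M →ₗ[R] R), bar_smul, map_zero, zero_smul]⟩
      smul_mem' := by
        rintro c _ ⟨φ, rfl⟩
        obtain ⟨r, rfl⟩ := Ideal.Quotient.mk_surjective c
        exact ⟨r • φ, bar_smul x r φ⟩ }
  have hΦ : Φ = ⊤ := by
    have hco : Φ.dualCoannihilator = ⊥ := by
      rw [eq_bot_iff]
      intro v hv
      rw [Submodule.mem_dualCoannihilator] at hv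
      obtain ⟨m', rfl⟩ := img_surjective x v
      rw [Submodule.mem_bot, img_eq_zero_iff]
      intro φ
      have := hv (bar x φ) ⟨φ, rfl⟩
      rwa [bar_img, Ideal.Quotient.eq_zero_iff_mem] at this
    rw [← Subspace.dualCoannihilator_dualAnnihilator_eq (W := Φ), hco,
      Submodule.dualAnnihilator_bot]
  -- dual functionals
  have hinj := (linearIndependent_iff_injective_fintypeLinearCombination.mp h)
  obtain ⟨g, hg⟩ := LinearMap.exists_leftInverse_of_injective
    (Fintype.linearCombination (R ⧸ x.asIdeal) (fun j => img x (T j)))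
    (LinearMap.ker_eq_bot.mpr hinj)
  have hmem : ∀ i : Fin m, (LinearMap.proj i ∘ₗ g) ∈ Φ := fun i => by rw [hΦ]; trivial
  choose φ hφ using hmem
  refine ⟨φ, ?_⟩
  have hone : (Ideal.Quotient.mk x.asIdeal).mapMatrix (Matrix.of fun i j => φ i (T j)) = 1 := by
    ext i j
    simp only [RingHom.mapMatrix_apply, Matrix.map_apply, Matrix.of_apply]
    rw [← bar_img, hφ i]
    have e : img x (T j) = Fintype.linearCombination (R ⧸ x.asIdeal) (fun j => img x (T j))
        (Pi.single j 1) := by
      simp [Fintype.linearCombination_apply, Pi.single_apply]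
    rw [e, LinearMap.comp_apply, ← LinearMap.comp_apply g, hg]
    simp [Matrix.one_apply, Pi.single_apply, eq_comm]
  intro hmem
  have h1 : (Ideal.Quotient.mk x.asIdeal) (Matrix.of fun i j => φ i (T j)).det = 1 := by
    rw [RingHom.map_det, hone, Matrix.det_one]
  rw [Ideal.Quotient.eq_zero_iff_mem.mpr hmem] at h1
  exact zero_ne_one h1

theorem isOpen_setOf_linearIndependent [Module.Finite R M] {m : ℕ} (T : Fin m → M) :
    IsOpen {x : MaximalSpectrum R |
      LinearIndependent (R ⧸ x.asIdeal) (fun j => img x (T j))} := by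
  rw [isOpen_iff_forall_mem_open]
  intro x₀ hx₀
  obtain ⟨φ, hφ⟩ := ind_of_linearIndependent x₀ T hx₀
  refine ⟨{x | (Matrix.of fun i j => φ i (T j)).det ∉ x.asIdeal}, ?_, ?_, hφ⟩
  · intro x hx
    exact linearIndependent_of_ind x T ⟨φ, hx⟩
  · exact (PrimeSpectrum.basicOpen (Matrix.of fun i j => φ i (T j)).det).isOpen.preimage
      MaximalSpectrum.toPrimeSpectrum_continuous

/-- The dependency locus of a finite family is closed. -/
theorem isClosed_setOf_not_linearIndependent [Module.Finite R M] {m : ℕ} (T : Fin m → M) :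
    IsClosed {x : MaximalSpectrum R |
      ¬ LinearIndependent (R ⧸ x.asIdeal) (fun j => img x (T j))} :=
  (isOpen_setOf_linearIndependent T).isClosed_compl

end Minors

end Groth.Agent.R2.H18.Serre
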