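import Mathlib
import Groth.Agent.R2.H18SerreA

/-!
# helper18 (round 2): Serre's general position proposition — auxiliary lemmas

Chinese remainders in the fibres, closed subsets of the maximal spectrum, prime avoidance,
decomposition into irreducible closed sets, and some linear algebra with `Fin.snoc`.
-/

set_option autoImplicit false
universe u

namespace Groth.Agent.R2.H18.Serre

open Module TopologicalSpace

section LinAlg

variable {K V : Type*} [Field K] [AddCommGroup V] [Module K V]

theorem li_snoc_add_smul_of_li_snoc_snoc {n : ℕ} {u : Fin n → V} {p q : V} (c : K)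
    (h : LinearIndependent K (Fin.snoc (Fin.snoc u p : Fin (n + 1) → V) q : Fin (n + 2) → V)) :
    LinearIndependent K (Fin.snoc u (p + c • q) : Fin (n + 1) → V) := by
  rw [linearIndependent_finSnoc, linearIndependent_finSnoc, Fin.range_snoc] at h
  obtain ⟨⟨hu, hp⟩, hq⟩ := h
  rw [linearIndependent_finSnoc]
  refine ⟨hu, fun hmem => ?_⟩
  have hle : Submodule.span K (Set.range u) ≤ Submodule.span K (insert p (Set.range u)) :=
    Submodule.span_mono (Set.subset_insert _ _)
  have hp' : p ∈ Submodule.span K (insert p (Set.range u)) :=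
    Submodule.subset_span (Set.mem_insert _ _)
  by_cases hc : c = 0
  · rw [hc, zero_smul, add_zero] at hmem
    exact hp hmem
  · apply hq
    have h1 : c • q ∈ Submodule.span K (insert p (Set.range u)) := by
      have := Submodule.sub_mem _ (hle hmem) hp'
      rwa [add_sub_cancel_left] at this
    have h2 := Submodule.smul_mem _ c⁻¹ h1
    rwa [smul_smul, inv_mul_cancel₀ hc, one_smul] at h2

theorem li_snoc_add_smul_of_mem_span {n : ℕ} {u : Fin n → V} {p q : V} {c : K} (hc : c ≠ 0)
    (hp : p ∈ Submodule.span K (Set.range u))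
    (h : LinearIndependent K (Fin.snoc u q : Fin (n + 1) → V)) :
    LinearIndependent K (Fin.snoc u (p + c • q) : Fin (n + 1) → V) := by
  rw [linearIndependent_finSnoc] at h ⊢
  refine ⟨h.1, fun hmem => h.2 ?_⟩
  have h1 : c • q ∈ Submodule.span K (Set.range u) := by
    have := Submodule.sub_mem _ hmem hp
    rwa [add_sub_cancel_left] at this
  have h2 := Submodule.smul_mem _ c⁻¹ h1
  rwa [smul_smul, inv_mul_cancel₀ hc, one_smul] at h2

theorem mem_span_of_not_li_snoc {n : ℕ} {u : Fin n → V} {p : V} (hu : LinearIndependent K u)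
    (h : ¬ LinearIndependent K (Fin.snoc u p : Fin (n + 1) → V)) :
    p ∈ Submodule.span K (Set.range u) := by
  rw [linearIndependent_finSnoc] at h
  by_contra hp
  exact h ⟨hu, hp⟩

end LinAlg

section CRT

variable {R : Type u} [CommRing R] {M : Type u} [AddCommGroup M] [Module R M]

/-- Chinese remainders: prescribe the images of an element in finitely many fibres. -/
theorem exists_img_eq (P : Finset (MaximalSpectrum R)) (m : MaximalSpectrum R → M) :
    ∃ s : M, ∀ x ∈ P, img x s = img x (m x) := by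
  classical
  have hcop : Pairwise (Function.onFun IsCoprime fun p : ↥P => p.1.asIdeal) := by
    intro p q hpq
    have : p.1.asIdeal ≠ q.1.asIdeal := fun h => hpq (Subtype.ext (MaximalSpectrum.ext h))
    exact Ideal.isCoprime_of_isMaximal this
  have he : ∀ p : ↥P, ∃ e : R, ∀ q : ↥P, e - (if q = p then 1 else 0) ∈ q.1.asIdeal :=
    fun p => Ideal.exists_forall_sub_mem_ideal hcop (fun q => if q = p then 1 else 0)
  choose e he using he
  refine ⟨∑ p : ↥P, e p • m p.1, fun x hx => ?_⟩
  rw [img_sum]
  have hterm : ∀ p : ↥P, img x (e p • m p.1) =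
      if p = ⟨x, hx⟩ then img x (m x) else 0 := by
    intro p
    have h1 := he p ⟨x, hx⟩
    by_cases hp : p = ⟨x, hx⟩
    · subst hp
      rw [if_pos rfl] at h1
      rw [if_pos rfl]
      have : e ⟨x, hx⟩ • m x = m x + (e ⟨x, hx⟩ - 1) • m x := by
        rw [sub_smul, one_smul]; abel
      show img x (e ⟨x, hx⟩ • m x) = img x (m x)
      rw [this, img_add, img_smul_of_mem x h1, add_zero]
    · rw [if_neg hp]
      rw [if_neg (fun h => hp h.symm), sub_zero] at h1
      exact img_smul_of_mem x h1 _
  rw [Finset.sum_congr rfl (fun p _ => hterm p)]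
  simp

end CRT

section Top

variable {R : Type u} [CommRing R]

/-- Closed subsets of the maximal spectrum are cut out by ideals. -/
theorem exists_ideal_of_isClosed {D : Set (MaximalSpectrum R)} (hD : IsClosed D) :
    ∃ I : Ideal R, ∀ x, x ∈ D ↔ I ≤ x.asIdeal := by
  obtain ⟨t, ht, rfl⟩ := isClosed_induced_iff.mp hD
  obtain ⟨s, rfl⟩ := (PrimeSpectrum.isClosed_iff_zeroLocus t).mp ht
  refine ⟨Ideal.span s, fun x => ?_⟩
  rw [Set.mem_preimage, PrimeSpectrum.mem_zeroLocus, Ideal.span_le]
  rfl

/-- Prime avoidance for finitely many maximal ideals. -/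
theorem exists_mem_forall_notMem (I : Ideal R) (Q : Finset (MaximalSpectrum R))
    (h : ∀ z ∈ Q, ¬ I ≤ z.asIdeal) : ∃ a ∈ I, ∀ z ∈ Q, a ∉ z.asIdeal := by
  classical
  by_contra hcon
  push Not at hcon
  have hsub : (I : Set R) ⊆ ⋃ z ∈ (↑Q : Set (MaximalSpectrum R)), (z.asIdeal : Set R) := by
    intro a ha
    obtain ⟨z, hz, haz⟩ := hcon a ha
    exact Set.mem_biUnion hz haz
  by_cases hQ : Q.Nonempty
  · obtain ⟨z₀, -⟩ := hQ
    obtain ⟨z, hz, hIz⟩ := (Ideal.subset_union_prime (f := fun z : MaximalSpectrum R => z.asIdeal)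
      z₀ z₀ (fun z _ _ _ => z.isMaximal.isPrime)).mp hsub
    exact h z hz hIz
  · rw [Finset.not_nonempty_iff_eq_empty] at hQ
    subst hQ
    obtain ⟨z, hz, -⟩ := hcon 0 I.zero_mem
    simp at hz

variable {X : Type*} [TopologicalSpace X]

/-- In a Noetherian space every closed set is a finite union of irreducible closed sets. -/
theorem exists_finset_irreducibleCloseds [NoetherianSpace X] {W : Set X} (hW : IsClosed W) :
    ∃ T : Finset (IrreducibleCloseds X), W = ⋃ t ∈ T, (t : Set X) := by
  classical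
  obtain ⟨S, hSf, hSc, hSi, rfl⟩ := NoetherianSpace.exists_finite_set_isClosed_irreducible hW
  lift S to Finset (Set X) using hSf
  let f : ↥S → IrreducibleCloseds X := fun t => ⟨t.1, hSi t.1 t.2, hSc t.1 t.2⟩
  refine ⟨Finset.univ.image f, ?_⟩
  ext x
  simp only [Set.mem_sUnion, Finset.mem_coe, Finset.mem_image, Finset.mem_univ, true_and,
    Set.mem_iUnion, exists_prop]
  constructor
  · rintro ⟨t, ht, hxt⟩
    exact ⟨f ⟨t, ht⟩, ⟨⟨t, ht⟩, rfl⟩, hxt⟩
  · rintro ⟨_, ⟨t, rfl⟩, hxt⟩
    exact ⟨t.1, t.2, hxt⟩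

/-- An irreducible closed set inside `F ∪ ⋃ T` lies in `F` or in a member of `T`. -/
theorem subset_or_exists_le (E : IrreducibleCloseds X) {F : Set X}
    (hF : IsClosed F) (T : Finset (IrreducibleCloseds X))
    (h : (E : Set X) ⊆ F ∪ ⋃ t ∈ T, (t : Set X)) : (E : Set X) ⊆ F ∨ ∃ t ∈ T, E ≤ t := by
  classical
  have := (isIrreducible_iff_sUnion_isClosed.mp E.isIrreducible)
    (insert F (T.image (fun t : IrreducibleCloseds X => (t : Set X)))) (by
      intro z hz
      rw [Finset.mem_insert, Finset.mem_image] at hz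
      rcases hz with rfl | ⟨t, -, rfl⟩
      · exact hF
      · exact t.isClosed) (by
      intro x hx
      rcases h hx with hx | hx
      · exact Set.mem_sUnion.mpr ⟨F, by simp, hx⟩
      · obtain ⟨t, ht, hxt⟩ := Set.mem_iUnion₂.mp hx
        exact Set.mem_sUnion.mpr ⟨t, by simp only [Finset.coe_insert, Finset.coe_image,
          Set.mem_insert_iff, Set.mem_image, Finset.mem_coe]; exact Or.inr ⟨t, ht, rfl⟩, hxt⟩)
  obtain ⟨z, hz, hEz⟩ := this
  rw [Finset.mem_insert, Finset.mem_image] at hz
  rcases hz with rfl | ⟨t, ht, rfl⟩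
  · exact Or.inl hEz
  · exact Or.inr ⟨t, ht, hEz⟩

theorem isClosed_biUnion_irreducibleCloseds (T : Finset (IrreducibleCloseds X)) :
    IsClosed (⋃ t ∈ T, (t : Set X)) :=
  T.finite_toSet.isClosed_biUnion (fun t _ => t.isClosed)

end Top

end Groth.Agent.R2.H18.Serre
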