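import Mathlib
import Groth.Agent.R2.H18SerreB

/-!
# helper18 (round 2): Serre's general position proposition — the induction
-/

set_option autoImplicit false
universe u

namespace Groth.Agent.R2.H18.Serre

open Module TopologicalSpace

variable {R : Type u} [CommRing R] {M : Type u} [AddCommGroup M] [Module R M]

theorem img_comp_snoc (x : MaximalSpectrum R) {n : ℕ} (s : Fin n → M) (t : M) :
    (fun i => img x ((Fin.snoc s t : Fin (n + 1) → M) i)) =
      (Fin.snoc (fun i => img x (s i)) (img x t) : Fin (n + 1) → _) :=
  Fin.comp_snoc (img x) s t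

/-- Serre's proposition, in a form convenient for induction: the prescribed values are given by a
function on a finite set of points of `F`. -/
theorem serre_aux [Module.Finite R M] [NoetherianSpace (MaximalSpectrum R)] (k : ℕ) :
    ∀ (h : ℕ) (s : Fin h → M) (F : Set (MaximalSpectrum R)), IsClosed F →
      ∀ (P : Finset (MaximalSpectrum R)) (m : MaximalSpectrum R → M), (∀ x ∈ P, x ∈ F) →
      (∀ x : MaximalSpectrum R, h + k ≤ Module.finrank (R ⧸ x.asIdeal)
        ((M ⧸ (x.asIdeal • ⊤ : Submodule R M)) ⧸ Bq M x)) →
      (∀ x : MaximalSpectrum R,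
        ¬ LinearIndependent (R ⧸ x.asIdeal) (fun i => img x (s i)) → x ∈ F) →
      ∃ (t : M) (F' : Set (MaximalSpectrum R)), IsClosed F' ∧
        (∀ x ∈ P, img x t = img x (m x)) ∧
        (∀ x : MaximalSpectrum R,
          ¬ LinearIndependent (R ⧸ x.asIdeal)
            (Fin.snoc (fun i => img x (s i)) (img x t) : Fin (h + 1) → _) → x ∈ F ∪ F') ∧
        ∀ Z : IrreducibleCloseds (MaximalSpectrum R), (Z : Set (MaximalSpectrum R)) ⊆ F' →
          (k : ℕ∞) ≤ Order.coheight Z := by
  classical
  induction k with
  | zero =>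
    intro h s F hF P m hPF hd hZ
    obtain ⟨t, ht⟩ := exists_img_eq P m
    exact ⟨t, Set.univ, isClosed_univ, ht, fun x _ => Or.inr trivial, fun Z _ => by simp⟩
  | succ k ih =>
    intro h s F hF P m hPF hd hZ
    rcases isEmpty_or_nonempty (MaximalSpectrum R) with hemp | hne
    · exact ⟨0, ∅, isClosed_empty, fun x => (hemp.false x).elim, fun x => (hemp.false x).elim,
        fun Z => (hemp.false Z.isIrreducible.nonempty.some).elim⟩
    -- Step 1: the case `k`
    obtain ⟨s', F0, hF0, hs'P, hs'Z, hF0c⟩ :=
      ih h s F hF P m hPF (fun x => by have := hd x; omega) hZ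
    -- the dependency locus of `(s, s')`
    have hW : IsClosed {x : MaximalSpectrum R | ¬ LinearIndependent (R ⧸ x.asIdeal)
        (fun i => img x ((Fin.snoc s s' : Fin (h + 1) → M) i))} :=
      isClosed_setOf_not_linearIndependent _
    set W : Set (MaximalSpectrum R) := {x : MaximalSpectrum R | ¬ LinearIndependent (R ⧸ x.asIdeal)
        (fun i => img x ((Fin.snoc s s' : Fin (h + 1) → M) i))} with hWdef
    have hWsub : W ⊆ F ∪ F0 := by
      intro x hx
      apply hs'Z x
      rw [hWdef, Set.mem_ofPred_eq, img_comp_snoc] at hx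
      exact hx
    obtain ⟨T, hT⟩ := exists_finset_irreducibleCloseds hW
    have hTW : ∀ t ∈ T, (t : Set (MaximalSpectrum R)) ⊆ W := by
      intro t ht
      rw [hT]
      exact Set.subset_biUnion_of_mem (u := fun t : IrreducibleCloseds (MaximalSpectrum R) =>
        (t : Set (MaximalSpectrum R))) ht
    have hTco : ∀ t ∈ T, ¬ (t : Set (MaximalSpectrum R)) ⊆ F → (k : ℕ∞) ≤ Order.coheight t := by
      intro t ht htF
      have h1 : (t : Set (MaximalSpectrum R)) ⊆ F ∪ F0 := (hTW t ht).trans hWsub
      rcases (isPreirreducible_iff_isClosed_union_isClosed.mp t.isIrreducible.isPreirreducible)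
        F F0 hF hF0 h1 with h2 | h2
      · exact absurd h2 htF
      · exact hF0c t h2
    -- the bad components
    set Tbad : Finset (IrreducibleCloseds (MaximalSpectrum R)) :=
      T.filter (fun t => ¬ (t : Set (MaximalSpectrum R)) ⊆ F ∧ Order.coheight t ≤ (k : ℕ∞))
      with hTbad
    have hz : ∀ t ∈ Tbad, ∃ z : MaximalSpectrum R, z ∈ (t : Set (MaximalSpectrum R)) ∧ z ∉ F := by
      intro t ht
      by_contra hcon
      push Not at hcon
      exact (Finset.mem_filter.mp ht).2.1 hcon
    choose! z hzt hzF using hz
    -- independent values outside `F`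
    have hsli : ∀ y : MaximalSpectrum R, y ∉ F →
        LinearIndependent (R ⧸ y.asIdeal) (fun i => img y (s i)) := by
      intro y hy
      by_contra hcon
      exact hy (hZ y hcon)
    have hw : ∀ y : MaximalSpectrum R, y ∉ F → ∃ w : M, LinearIndependent (R ⧸ y.asIdeal)
        (Fin.snoc (fun i => img y (s i)) (img y w) : Fin (h + 1) → _) := by
      intro y hy
      letI := Ideal.Quotient.field y.asIdeal
      obtain ⟨v, hv⟩ := exists_linearIndependent_snoc_of_lt_finrank (hsli y hy)
        (by have := hd y; omega)
      obtain ⟨w, rfl⟩ := img_surjective y v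
      exact ⟨w, hv⟩
    choose! w hw using hw
    -- Step 2: the case `(h + 1, k)` applied to `(s, s')`
    obtain ⟨t, F2, hF2, htP, htZ, hF2c⟩ :=
      ih (h + 1) (Fin.snoc s s') (F ∪ W) (hF.union hW) (P ∪ Tbad.image z)
        (fun x => if x ∈ P then 0 else w x)
        (by
          intro x hx
          rcases Finset.mem_union.mp hx with hx | hx
          · exact Or.inl (hPF x hx)
          · obtain ⟨t, ht, rfl⟩ := Finset.mem_image.mp hx
            exact Or.inr (hTW t (Finset.mem_filter.mp ht).1 (hzt t ht)))
        (fun x => by have := hd x; omega)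
        (fun x hx => Or.inr hx)
    -- values of `t`
    have htP0 : ∀ x ∈ P, img x t = 0 := by
      intro x hx
      rw [htP x (Finset.mem_union_left _ hx), if_pos hx, img_zero]
    have htz : ∀ c ∈ Tbad, img (z c) t = img (z c) (w (z c)) := by
      intro c hc
      rw [htP (z c) (Finset.mem_union_right _ (Finset.mem_image_of_mem z hc)),
        if_neg (fun hP => hzF c hc (hPF _ hP))]
    -- dependency locus of `(s, s', t)`
    have hZ3 : IsClosed {x : MaximalSpectrum R | ¬ LinearIndependent (R ⧸ x.asIdeal)
        (fun i => img x ((Fin.snoc (Fin.snoc s s' : Fin (h + 1) → M) t : Fin (h + 2) → M) i))} :=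
      isClosed_setOf_not_linearIndependent _
    obtain ⟨T3, hT3⟩ := exists_finset_irreducibleCloseds hZ3
    set T3bad : Finset (IrreducibleCloseds (MaximalSpectrum R)) :=
      T3.filter (fun E => ¬ (E : Set (MaximalSpectrum R)) ⊆ F ∪ W) with hT3bad
    set D : Set (MaximalSpectrum R) := ⋃ E ∈ T3bad, (E : Set (MaximalSpectrum R)) with hDdef
    have hD : IsClosed D := isClosed_biUnion_irreducibleCloseds T3bad
    have hT3co : ∀ E ∈ T3bad, (k : ℕ∞) ≤ Order.coheight E := by
      intro E hE
      obtain ⟨hE3, hEFW⟩ := Finset.mem_filter.mp hE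
      have h1 : (E : Set (MaximalSpectrum R)) ⊆ (F ∪ W) ∪ F2 := by
        intro x hx
        apply htZ x
        have hx3 : x ∈ {x : MaximalSpectrum R | ¬ LinearIndependent (R ⧸ x.asIdeal)
            (fun i => img x ((Fin.snoc (Fin.snoc s s' : Fin (h + 1) → M) t :
              Fin (h + 2) → M) i))} := by
          rw [hT3]
          exact Set.mem_biUnion hE3 hx
        rw [Set.mem_ofPred_eq, img_comp_snoc] at hx3
        exact hx3
      rcases (isPreirreducible_iff_isClosed_union_isClosed.mp E.isIrreducible.isPreirreducible)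
        (F ∪ W) F2 (hF.union hW) hF2 h1 with h2 | h2
      · exact absurd h2 hEFW
      · exact hF2c E h2
    have hZ3D : ∀ x : MaximalSpectrum R, x ∉ F → x ∉ W →
        ¬ LinearIndependent (R ⧸ x.asIdeal)
          (fun i => img x ((Fin.snoc (Fin.snoc s s' : Fin (h + 1) → M) t :
            Fin (h + 2) → M) i)) → x ∈ D := by
      intro x hxF hxW hx
      have hx3 : x ∈ {x : MaximalSpectrum R | ¬ LinearIndependent (R ⧸ x.asIdeal)
          (fun i => img x ((Fin.snoc (Fin.snoc s s' : Fin (h + 1) → M) t :
            Fin (h + 2) → M) i))} := hx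
      rw [hT3] at hx3
      obtain ⟨E, hE, hxE⟩ := Set.mem_iUnion₂.mp hx3
      refine Set.mem_biUnion (Finset.mem_filter.mpr ⟨hE, fun hsub => ?_⟩) hxE
      rcases hsub hxE with h1 | h1
      · exact hxF h1
      · exact hxW h1
    -- dependency locus of `(s, t)`
    have hZt : IsClosed {x : MaximalSpectrum R | ¬ LinearIndependent (R ⧸ x.asIdeal)
        (fun i => img x ((Fin.snoc s t : Fin (h + 1) → M) i))} :=
      isClosed_setOf_not_linearIndependent _
    -- new points on the bad components
    have hz' : ∀ c ∈ Tbad, ∃ y : MaximalSpectrum R, y ∈ (c : Set (MaximalSpectrum R)) ∧ y ∉ D ∧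
        y ∉ F ∧ LinearIndependent (R ⧸ y.asIdeal)
          (Fin.snoc (fun i => img y (s i)) (img y t) : Fin (h + 1) → _) := by
      intro c hc
      obtain ⟨hcT, hcF, hck⟩ := Finset.mem_filter.mp hc
      by_contra hcon
      push Not at hcon
      have hsub : (c : Set (MaximalSpectrum R)) ⊆ (D ∪ F) ∪
          {x : MaximalSpectrum R | ¬ LinearIndependent (R ⧸ x.asIdeal)
            (fun i => img x ((Fin.snoc s t : Fin (h + 1) → M) i))} := by
        intro y hy
        by_cases hyD : y ∈ D
        · exact Or.inl (Or.inl hyD)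
        by_cases hyF : y ∈ F
        · exact Or.inl (Or.inr hyF)
        refine Or.inr ?_
        rw [Set.mem_ofPred_eq, img_comp_snoc]
        exact hcon y hy hyD hyF
      rcases (isPreirreducible_iff_isClosed_union_isClosed.mp c.isIrreducible.isPreirreducible)
        _ _ (hD.union hF) hZt hsub with h1 | h1
      · rcases (isPreirreducible_iff_isClosed_union_isClosed.mp c.isIrreducible.isPreirreducible)
          _ _ hD hF h1 with h2 | h2
        · -- `c ⊆ D` is impossible by coheight
          rcases subset_or_exists_le c isClosed_empty T3bad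
            (by rw [Set.empty_union]; exact h2) with h3 | ⟨E, hE, hcE⟩
          · exact (Set.subset_empty_iff.mp h3 ▸ c.isIrreducible.nonempty).ne_empty rfl
          · have hne : c ≠ E := by
              rintro rfl
              exact (Finset.mem_filter.mp hE).2 ((hTW c hcT).trans Set.subset_union_right)
            have hlt : c < E := lt_of_le_of_ne hcE hne
            have h4 := Order.coheight_add_one_le hlt
            have h5 : (k : ℕ∞) + 1 ≤ k := (add_le_add_left (hT3co E hE) 1).trans (h4.trans hck)
            exact absurd h5 (by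
              rw [not_le]
              exact_mod_cast Nat.lt_succ_self k)
        · exact hcF h2
      · -- `c ⊆ Z(s, t)` is impossible because of the point `z c`
        have h2 := h1 (hzt c hc)
        rw [Set.mem_ofPred_eq, img_comp_snoc, htz c hc] at h2
        exact h2 (hw (z c) (hzF c hc))
    choose! z' hz'c hz'D hz'F hz'li using hz'
    -- Step 3: the function `a`
    obtain ⟨I, hI⟩ := exists_ideal_of_isClosed hD
    obtain ⟨a, haI, haz⟩ := exists_mem_forall_notMem I (Tbad.image z') (by
      intro y hy
      obtain ⟨c, hc, rfl⟩ := Finset.mem_image.mp hy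
      rw [← hI]
      exact hz'D c hc)
    have haD : ∀ x ∈ D, a ∈ x.asIdeal := fun x hx => (hI x).mp hx haI
    -- the new element
    have hnew : ∀ x : MaximalSpectrum R, img x (s' + a • t) =
        img x s' + Ideal.Quotient.mk x.asIdeal a • img x t := by
      intro x
      rw [img_add, img_smul]
    -- (*) the dependency locus of `(s, s' + a t)` lies in `F ∪ W`
    have hstar : ∀ x : MaximalSpectrum R, ¬ LinearIndependent (R ⧸ x.asIdeal)
        (Fin.snoc (fun i => img x (s i)) (img x (s' + a • t)) : Fin (h + 1) → _) → x ∈ F ∪ W := by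
      intro x hx
      by_contra hxFW
      have hxF : x ∉ F := fun h1 => hxFW (Or.inl h1)
      have hxW : x ∉ W := fun h1 => hxFW (Or.inr h1)
      apply hx
      have hli2 : LinearIndependent (R ⧸ x.asIdeal)
          (Fin.snoc (fun i => img x (s i)) (img x s') : Fin (h + 1) → _) := by
        have := hxW
        rw [hWdef, Set.mem_ofPred_eq, not_not, img_comp_snoc] at this
        exact this
      by_cases hx3 : LinearIndependent (R ⧸ x.asIdeal)
          (fun i => img x ((Fin.snoc (Fin.snoc s s' : Fin (h + 1) → M) t : Fin (h + 2) → M) i))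
      · rw [img_comp_snoc, img_comp_snoc] at hx3
        rw [hnew]
        letI := Ideal.Quotient.field x.asIdeal
        exact li_snoc_add_smul_of_li_snoc_snoc _ hx3
      · have hxD := hZ3D x hxF hxW hx3
        rw [hnew, Ideal.Quotient.eq_zero_iff_mem.mpr (haD x hxD), zero_smul, add_zero]
        exact hli2
    -- (**) independence at the new points
    have hstar2 : ∀ c ∈ Tbad, LinearIndependent (R ⧸ (z' c).asIdeal)
        (Fin.snoc (fun i => img (z' c) (s i)) (img (z' c) (s' + a • t)) : Fin (h + 1) → _) := by
      intro c hc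
      obtain ⟨hcT, hcF, hck⟩ := Finset.mem_filter.mp hc
      have hyW : z' c ∈ W := hTW c hcT (hz'c c hc)
      rw [hWdef, Set.mem_ofPred_eq, img_comp_snoc] at hyW
      rw [hnew]
      letI := Ideal.Quotient.field (z' c).asIdeal
      refine li_snoc_add_smul_of_mem_span ?_
        (mem_span_of_not_li_snoc (hsli (z' c) (hz'F c hc)) hyW) (hz'li c hc)
      intro h0
      exact haz (z' c) (Finset.mem_image_of_mem z' hc) (Ideal.Quotient.eq_zero_iff_mem.mp h0)
    -- the final closed set
    have hZ4 : IsClosed {x : MaximalSpectrum R | ¬ LinearIndependent (R ⧸ x.asIdeal)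
        (fun i => img x ((Fin.snoc s (s' + a • t) : Fin (h + 1) → M) i))} :=
      isClosed_setOf_not_linearIndependent _
    obtain ⟨T4, hT4⟩ := exists_finset_irreducibleCloseds hZ4
    set T4bad : Finset (IrreducibleCloseds (MaximalSpectrum R)) :=
      T4.filter (fun E => ¬ (E : Set (MaximalSpectrum R)) ⊆ F) with hT4bad
    refine ⟨s' + a • t, ⋃ E ∈ T4bad, (E : Set (MaximalSpectrum R)),
      isClosed_biUnion_irreducibleCloseds T4bad, ?_, ?_, ?_⟩
    · intro x hx
      rw [hnew, htP0 x hx, smul_zero, add_zero]
      exact hs'P x hx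
    · intro x hx
      have hx4 : x ∈ {x : MaximalSpectrum R | ¬ LinearIndependent (R ⧸ x.asIdeal)
          (fun i => img x ((Fin.snoc s (s' + a • t) : Fin (h + 1) → M) i))} := by
        rw [Set.mem_ofPred_eq, img_comp_snoc]
        exact hx
      rw [hT4] at hx4
      obtain ⟨E, hE, hxE⟩ := Set.mem_iUnion₂.mp hx4
      by_cases hEF : (E : Set (MaximalSpectrum R)) ⊆ F
      · exact Or.inl (hEF hxE)
      · exact Or.inr (Set.mem_biUnion (Finset.mem_filter.mpr ⟨hE, hEF⟩) hxE)
    · intro Zc hZc
      rcases subset_or_exists_le Zc isClosed_empty T4bad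
        (by rw [Set.empty_union]; exact hZc) with h3 | ⟨E, hE, hZcE⟩
      · exact absurd (Set.subset_empty_iff.mp h3 ▸ Zc.isIrreducible.nonempty).ne_empty (by simp)
      · refine le_trans ?_ (Order.coheight_anti hZcE)
        obtain ⟨hE4, hEF⟩ := Finset.mem_filter.mp hE
        -- `E ⊆ Z4 ⊆ F ∪ W`
        have hEsub : (E : Set (MaximalSpectrum R)) ⊆ F ∪ ⋃ c ∈ T, (c : Set (MaximalSpectrum R)) := by
          intro x hxE
          have hx4 : x ∈ {x : MaximalSpectrum R | ¬ LinearIndependent (R ⧸ x.asIdeal)
              (fun i => img x ((Fin.snoc s (s' + a • t) : Fin (h + 1) → M) i))} := by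
            rw [hT4]
            exact Set.mem_biUnion hE4 hxE
          rw [Set.mem_ofPred_eq, img_comp_snoc] at hx4
          rw [← hT]
          exact hstar x hx4
        rcases subset_or_exists_le E hF T hEsub with h5 | ⟨c, hcT, hEc⟩
        · exact absurd h5 hEF
        · have hcF : ¬ (c : Set (MaximalSpectrum R)) ⊆ F := fun h6 => hEF (fun x hx => h6 (hEc hx))
          by_cases hck : Order.coheight c ≤ (k : ℕ∞)
          · have hc : c ∈ Tbad := Finset.mem_filter.mpr ⟨hcT, hcF, hck⟩
            have hne : E ≠ c := by
              rintro rfl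
              have hx4 : z' E ∈ {x : MaximalSpectrum R | ¬ LinearIndependent (R ⧸ x.asIdeal)
                  (fun i => img x ((Fin.snoc s (s' + a • t) : Fin (h + 1) → M) i))} := by
                rw [hT4]
                exact Set.mem_biUnion hE4 (hz'c E hc)
              rw [Set.mem_ofPred_eq, img_comp_snoc] at hx4
              exact hx4 (hstar2 E hc)
            have hlt : E < c := lt_of_le_of_ne hEc hne
            have h4 := Order.coheight_add_one_le hlt
            push_cast
            exact (add_le_add_left (hTco c hcT hcF) 1).trans h4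
          · rw [not_le] at hck
            push_cast
            exact (Order.add_one_le_of_lt hck).trans (Order.coheight_anti hEc)

end Groth.Agent.R2.H18.Serre
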