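import Mathlib
import Groth.Agent.R2.H18SerreC

/-!
# helper18 (round 2): Serre's splitting theorem (a free summand of rank one)
-/

set_option autoImplicit false
universe u

namespace Groth.Agent.R2.H18.Serre

open Module TopologicalSpace

variable {R : Type u} [CommRing R] {M : Type u} [AddCommGroup M] [Module R M]

/-- A free direct summand of rank `r` of the localisation at `x` gives `r` elements of `M`
independent in `V(x)`. -/
theorem exists_ind_of_localSummand [Module.FinitePresentation R M] (x : MaximalSpectrum R) (r : ℕ)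
    (f : (Fin r → Localization.AtPrime x.asIdeal) →ₗ[Localization.AtPrime x.asIdeal]
      LocalizedModule x.asIdeal.primeCompl M)
    (g : LocalizedModule x.asIdeal.primeCompl M →ₗ[Localization.AtPrime x.asIdeal]
      (Fin r → Localization.AtPrime x.asIdeal))
    (hgf : g ∘ₗ f = LinearMap.id) : ∃ T : Fin r → M, Ind x T := by
  classical
  have hφ : ∀ i : Fin r, ∃ (φ : M →ₗ[R] R) (u : x.asIdeal.primeCompl),
      (Algebra.linearMap R (Localization.AtPrime x.asIdeal)) ∘ₗ φ =
        u • (((LinearMap.proj i ∘ₗ g).restrictScalars R) ∘ₗ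
          (LocalizedModule.mkLinearMap x.asIdeal.primeCompl M)) :=
    fun i => Module.FinitePresentation.exists_lift_of_isLocalizedModule x.asIdeal.primeCompl
      (Algebra.linearMap R (Localization.AtPrime x.asIdeal)) _
  choose φ u hφu using hφ
  have hm : ∀ j : Fin r, ∃ a : M × x.asIdeal.primeCompl,
      a.2 • f (Pi.single j 1) = LocalizedModule.mkLinearMap x.asIdeal.primeCompl M a.1 :=
    fun j => IsLocalizedModule.surj x.asIdeal.primeCompl
      (LocalizedModule.mkLinearMap x.asIdeal.primeCompl M) _
  choose a ha using hm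
  have hkey : ∀ i j : Fin r, algebraMap R (Localization.AtPrime x.asIdeal) (φ i ((a j).1)) =
      if i = j then algebraMap R (Localization.AtPrime x.asIdeal) ((u i : R) * ((a j).2 : R))
      else 0 := by
    intro i j
    have h1 := congrArg (fun l => l (a j).1) (hφu i)
    simp only [LinearMap.comp_apply, Algebra.linearMap_apply, LinearMap.smul_apply,
      LinearMap.restrictScalars_apply, LinearMap.proj_apply] at h1
    rw [h1, ← ha j, Submonoid.smul_def, Submonoid.smul_def, LinearMap.map_smul_of_tower,
      Pi.smul_apply]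
    have h2 : g (f (Pi.single j 1)) = Pi.single j 1 := by
      have := congrArg (fun l => l (Pi.single j (1 : Localization.AtPrime x.asIdeal))) hgf
      simpa using this
    rw [h2, Pi.single_apply]
    split_ifs with hij
    · rw [Algebra.smul_def, Algebra.smul_def, mul_one, map_mul]
    · rw [smul_zero, smul_zero]
  refine ⟨fun j => (a j).1, φ, ?_⟩
  letI := Ideal.Quotient.field x.asIdeal
  intro hmem
  have hdiag : (Ideal.Quotient.mk x.asIdeal).mapMatrix (Matrix.of fun i j => φ i ((a j).1)) =
      Matrix.diagonal (fun i => Ideal.Quotient.mk x.asIdeal (φ i ((a i).1))) := by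
    ext i j
    simp only [RingHom.mapMatrix_apply, Matrix.map_apply, Matrix.of_apply, Matrix.diagonal_apply]
    split_ifs with hij
    · rw [hij]
    · have h1 := hkey i j
      rw [if_neg hij] at h1
      rw [Ideal.Quotient.eq_zero_iff_mem]
      have h2 : algebraMap R (Localization.AtPrime x.asIdeal) (φ i ((a j).1)) ∈
          IsLocalRing.maximalIdeal (Localization.AtPrime x.asIdeal) := by
        rw [h1]; exact zero_mem _
      exact (IsLocalization.AtPrime.to_map_mem_maximal_iff (Localization.AtPrime x.asIdeal)
        x.asIdeal _).mp h2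
  have hdet : (Ideal.Quotient.mk x.asIdeal) (Matrix.of fun i j => φ i ((a j).1)).det ≠ 0 := by
    rw [RingHom.map_det, hdiag, Matrix.det_diagonal, Finset.prod_ne_zero_iff]
    intro i _ h0
    rw [Ideal.Quotient.eq_zero_iff_mem] at h0
    have h1 := hkey i i
    rw [if_pos rfl] at h1
    have h2 : IsUnit (algebraMap R (Localization.AtPrime x.asIdeal) (φ i ((a i).1))) := by
      rw [h1]
      exact IsLocalization.map_units (Localization.AtPrime x.asIdeal)
        ((u i) * (a i).2 : x.asIdeal.primeCompl)
    exact (IsLocalization.AtPrime.isUnit_to_map_iff (Localization.AtPrime x.asIdeal)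
      x.asIdeal _).mp h2 h0
  exact hdet (Ideal.Quotient.eq_zero_iff_mem.mpr hmem)

/-- The dimension of `V(x)` is at least the rank of a free direct summand of `M_x`. -/
theorem le_finrank_V_of_localSummand [Module.FinitePresentation R M] (x : MaximalSpectrum R)
    (r : ℕ)
    (f : (Fin r → Localization.AtPrime x.asIdeal) →ₗ[Localization.AtPrime x.asIdeal]
      LocalizedModule x.asIdeal.primeCompl M)
    (g : LocalizedModule x.asIdeal.primeCompl M →ₗ[Localization.AtPrime x.asIdeal]
      (Fin r → Localization.AtPrime x.asIdeal))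
    (hgf : g ∘ₗ f = LinearMap.id) :
    r ≤ Module.finrank (R ⧸ x.asIdeal) ((M ⧸ (x.asIdeal • ⊤ : Submodule R M)) ⧸ Bq M x) := by
  obtain ⟨T, hT⟩ := exists_ind_of_localSummand x r f g hgf
  have hli := linearIndependent_of_ind x T hT
  letI := Ideal.Quotient.field x.asIdeal
  have := hli.fintype_card_le_finrank
  simpa using this

/-- **Serre's splitting theorem**: if the maximal spectrum of `R` is Noetherian of dimension `≤ d`
and `M` is a finitely presented module which locally contains a free direct summand of rank
`d + 1`, then `M` has a unimodular element. -/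
theorem exists_unimodular (d : ℕ) [NoetherianSpace (MaximalSpectrum R)]
    (hdim : topologicalKrullDim (MaximalSpectrum R) ≤ d) [Module.FinitePresentation R M]
    (hM : ∀ (m : Ideal R) [m.IsMaximal],
      ∃ (f : (Fin (d + 1) → Localization.AtPrime m) →ₗ[Localization.AtPrime m]
          LocalizedModule m.primeCompl M)
        (g : LocalizedModule m.primeCompl M →ₗ[Localization.AtPrime m]
          (Fin (d + 1) → Localization.AtPrime m)),
        g ∘ₗ f = LinearMap.id) :
    ∃ (s : M) (φ : M →ₗ[R] R), φ s = 1 := by
  classical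
  have hfin : Module.Finite R M := inferInstance
  obtain ⟨t, F', hF', -, htZ, hco⟩ := serre_aux (R := R) (M := M) (d + 1) 0 Fin.elim0 ∅
    isClosed_empty ∅ (fun _ => 0) (by simp)
    (fun x => by
      haveI := x.isMaximal
      obtain ⟨f, g, hgf⟩ := hM x.asIdeal
      have := le_finrank_V_of_localSummand x (d + 1) f g hgf
      omega)
    (fun x hx => (hx linearIndependent_empty_type).elim)
  -- `F'` is empty
  have hF'e : F' = ∅ := by
    by_contra hne
    obtain ⟨x, hx⟩ := Set.nonempty_iff_ne_empty.mpr hne
    let Z : IrreducibleCloseds (MaximalSpectrum R) :=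
      ⟨{x}, isIrreducible_singleton, isClosed_singleton⟩
    have h1 := hco Z (by simpa [Z] using hx)
    have h2 : (Order.coheight Z : WithBot ℕ∞) ≤ d :=
      (Order.coheight_le_krullDim Z).trans hdim
    have h3 : Order.coheight Z ≤ (d : ℕ∞) := by exact_mod_cast h2
    have h4 : ((d + 1 : ℕ) : ℕ∞) ≤ d := h1.trans h3
    exact absurd h4 (by rw [not_le]; exact_mod_cast Nat.lt_succ_self d)
  -- the values of the linear forms on `t` generate the unit ideal
  let J : Ideal R := LinearMap.range ((LinearMap.applyₗ t : (M →ₗ[R] R) →ₗ[R] R))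
  have hJ : J = ⊤ := by
    by_contra hne
    obtain ⟨𝔪, h𝔪, hJ𝔪⟩ := Ideal.exists_le_maximal J hne
    let x : MaximalSpectrum R := ⟨𝔪, h𝔪⟩
    have hx : x ∉ (∅ : Set (MaximalSpectrum R)) ∪ F' := by simp [hF'e]
    have hli : LinearIndependent (R ⧸ x.asIdeal)
        (Fin.snoc (fun i : Fin 0 => img x ((Fin.elim0 : Fin 0 → M) i)) (img x t) :
          Fin (0 + 1) → _) := by
      by_contra hcon
      exact hx (htZ x hcon)
    have hne0 : img x t ≠ 0 := by
      have := hli.ne_zero (Fin.last 0)
      rwa [Fin.snoc_last] at this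
    apply hne0
    rw [img_eq_zero_iff]
    intro φ
    exact hJ𝔪 ⟨φ, rfl⟩
  have h1 : (1 : R) ∈ J := by rw [hJ]; trivial
  obtain ⟨φ, hφ⟩ := h1
  exact ⟨t, φ, hφ⟩

end Groth.Agent.R2.H18.Serre
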