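import Mathlib
import Groth.Agent.R2.H18SerreD

/-!
# helper18 (round 2): Serre's theorem `P ≅ P₀ ⊕ R^(n-d)` for projective modules of rank `n > d`
-/

set_option autoImplicit false
universe u

namespace Groth.Agent.R2.H18.Serre

open Module TopologicalSpace

variable {R : Type u} [CommRing R]

theorem isInducing_toPrimeSpectrum :
    Topology.IsInducing (MaximalSpectrum.toPrimeSpectrum (R := R)) := ⟨rfl⟩

instance noetherianSpace_maximalSpectrum [IsNoetherianRing R] :
    NoetherianSpace (MaximalSpectrum R) :=
  isInducing_toPrimeSpectrum.noetherianSpace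

theorem topologicalKrullDim_maximalSpectrum_le :
    topologicalKrullDim (MaximalSpectrum R) ≤ ringKrullDim R := by
  rw [← PrimeSpectrum.topologicalKrullDim_eq_ringKrullDim]
  exact isInducing_toPrimeSpectrum.topologicalKrullDim_le

/-- A finite projective module of constant rank `n > dim R` over a Noetherian ring has a
unimodular element. -/
theorem exists_unimodular_of_rank [IsNoetherianRing R] (d n : ℕ) (hdim : ringKrullDim R ≤ d)
    (P : Type u) [AddCommGroup P] [Module R P] [Module.Finite R P] [Module.Projective R P]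
    (hrk : ∀ p : PrimeSpectrum R, Module.rankAtStalk (R := R) P p = n) (hnd : d < n) :
    ∃ (s : P) (φ : P →ₗ[R] R), φ s = 1 := by
  classical
  have hfp : Module.FinitePresentation R P := Module.finitePresentation_of_projective R P
  refine exists_unimodular d (topologicalKrullDim_maximalSpectrum_le.trans hdim) ?_
  intro m hm
  have hfree : Module.Free (Localization.AtPrime m) (LocalizedModule m.primeCompl P) :=
    Module.free_of_flat_of_isLocalRing
  have hfr : Module.finrank (Localization.AtPrime m) (LocalizedModule m.primeCompl P) = n :=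
    hrk ⟨m, hm.isPrime⟩
  let b : Basis (Fin n) (Localization.AtPrime m) (LocalizedModule m.primeCompl P) :=
    Module.finBasisOfFinrankEq _ _ hfr
  have hle : d + 1 ≤ n := hnd
  refine ⟨Fintype.linearCombination (Localization.AtPrime m) (fun i : Fin (d + 1) =>
      b (Fin.castLE hle i)),
    LinearMap.pi (fun i : Fin (d + 1) => b.coord (Fin.castLE hle i)), ?_⟩
  refine LinearMap.pi_ext' (fun j => ?_)
  refine LinearMap.ext_ring ?_
  funext i
  simp only [LinearMap.comp_apply, LinearMap.single_apply, LinearMap.pi_apply,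
    Fintype.linearCombination_apply, LinearMap.id_apply, Basis.coord_apply, map_sum, map_smul,
    Basis.repr_self,
    Finsupp.single_apply, smul_eq_mul, Pi.single_apply]
  rw [Finset.sum_eq_single j]
  · by_cases hij : i = j
    · subst hij; simp
    · have : Fin.castLE hle j ≠ Fin.castLE hle i := fun h => hij (Fin.castLE_injective hle h).symm
      simp [hij, this]
  · intro k _ hkj
    simp [hkj]
  · intro h; exact absurd (Finset.mem_univ j) h

/-- Complementary submodules from a product decomposition. -/
theorem exists_isCompl_of_equiv_prod {P A B : Type*} [AddCommGroup P] [Module R P]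
    [AddCommGroup A] [Module R A] [AddCommGroup B] [Module R B] (E : P ≃ₗ[R] A × B) :
    ∃ P₀ Q : Submodule R P, IsCompl P₀ Q ∧ Nonempty (Q ≃ₗ[R] B) := by
  refine ⟨LinearMap.ker (LinearMap.snd R A B ∘ₗ E.toLinearMap),
    LinearMap.ker (LinearMap.fst R A B ∘ₗ E.toLinearMap), ⟨?_, ?_⟩, ⟨?_⟩⟩
  · rw [Submodule.disjoint_def]
    intro x hx hx'
    rw [LinearMap.mem_ker, LinearMap.comp_apply] at hx hx'
    apply E.injective
    rw [map_zero]
    exact Prod.ext hx' hx
  · rw [codisjoint_iff, Submodule.eq_top_iff']
    intro x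
    rw [Submodule.mem_sup]
    refine ⟨E.symm ((E x).1, 0), ?_, E.symm (0, (E x).2), ?_, ?_⟩
    · simp
    · simp
    · rw [← map_add]
      simp
  · refine LinearEquiv.ofLinearMap
      (LinearMap.snd R A B ∘ₗ E.toLinearMap ∘ₗ Submodule.subtype _)
      (LinearMap.codRestrict _ (E.symm.toLinearMap ∘ₗ LinearMap.inr R A B) (by
        intro b
        simp)) ?_ ?_
    · ext b
      simp
    · ext ⟨q, hq⟩
      rw [LinearMap.mem_ker, LinearMap.comp_apply] at hq
      simp only [LinearMap.comp_apply, LinearMap.codRestrict_apply, Submodule.subtype_apply,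
        LinearMap.inr_apply, LinearMap.snd_apply, LinearMap.id_apply, LinearEquiv.coe_coe]
      apply E.injective
      rw [LinearEquiv.apply_symm_apply]
      exact Prod.ext hq.symm rfl

/-- Splitting off a rank one free summand along a unimodular element. -/
noncomputable def equivKerProd {P : Type*} [AddCommGroup P] [Module R P] (s : P)
    (φ : P →ₗ[R] R) (h : φ s = 1) : P ≃ₗ[R] (LinearMap.ker φ) × R where
  toFun p := (⟨p - φ p • s, by simp [h]⟩, φ p)
  map_add' p q := by
    ext
    · simp [add_smul]; abel
    · simp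
  map_smul' c p := by
    ext
    · simp [smul_sub, mul_smul]
    · simp
  invFun kr := kr.1.1 + kr.2 • s
  left_inv p := by simp
  right_inv kr := by
    obtain ⟨⟨k, hk⟩, r⟩ := kr
    rw [LinearMap.mem_ker] at hk
    ext
    · simp [hk, h]
    · simp [hk, h]

theorem exists_equiv_prod_free [IsNoetherianRing R] (d : ℕ) (hdim : ringKrullDim R ≤ d) (j : ℕ) :
    ∀ (n : ℕ) (P : Type u) [AddCommGroup P] [Module R P] [Module.Finite R P]
      [Module.Projective R P],
      (∀ p : PrimeSpectrum R, Module.rankAtStalk (R := R) P p = n) → d + j ≤ n →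
      ∃ K : Submodule R P, Nonempty (P ≃ₗ[R] K × (Fin j → R)) := by
  induction j with
  | zero =>
    intro n P _ _ _ _ _ _
    exact ⟨⊤, ⟨(Submodule.topEquiv (R := R) (M := P)).symm ≪≫ₗ
      (LinearEquiv.prodUnique (R := R) (M := (⊤ : Submodule R P)) (M₂ := Fin 0 → R)).symm⟩⟩
  | succ j ih =>
    intro n P _ _ _ _ hrk hle
    have hnd : d < n := by omega
    obtain ⟨s, φ, hφ⟩ := exists_unimodular_of_rank d n hdim P hrk hnd
    let E₁ : P ≃ₗ[R] (LinearMap.ker φ) × R := equivKerProd s φ hφ
    have : Module.Finite R (LinearMap.ker φ) :=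
      Module.Finite.of_surjective ((LinearMap.fst R _ _) ∘ₗ E₁.toLinearMap) (by
        intro k
        exact ⟨E₁.symm (k, 0), by simp⟩)
    have : Module.Projective R (LinearMap.ker φ) :=
      Module.Projective.of_split (E₁.symm.toLinearMap ∘ₗ LinearMap.inl R _ _)
        ((LinearMap.fst R _ _) ∘ₗ E₁.toLinearMap) (by
          ext k
          simp)
    have hrk₁ : ∀ p : PrimeSpectrum R, Module.rankAtStalk (R := R) (LinearMap.ker φ) p = n - 1 := by
      intro p
      have : Nontrivial R := by
        by_contra h
        rw [not_nontrivial_iff_subsingleton] at h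
        exact p.isPrime.ne_top (Subsingleton.elim _ _)
      have h1 := hrk p
      rw [Module.rankAtStalk_eq_of_equiv E₁, Module.rankAtStalk_prod, Pi.add_apply,
        Module.rankAtStalk_self, Pi.one_apply] at h1
      omega
    obtain ⟨K₂, ⟨E₂⟩⟩ := ih (n - 1) (LinearMap.ker φ) hrk₁ (by omega)
    refine ⟨K₂.map (LinearMap.ker φ).subtype, ⟨?_⟩⟩
    have e₃ : K₂ ≃ₗ[R] K₂.map (LinearMap.ker φ).subtype :=
      Submodule.equivMapOfInjective _ (Submodule.injective_subtype _) K₂
    exact E₁ ≪≫ₗ (LinearEquiv.prodCongr E₂ (LinearEquiv.refl R R)) ≪≫ₗ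
      (LinearEquiv.prodAssoc R _ _ _) ≪≫ₗ
      (LinearEquiv.prodCongr e₃ ((LinearEquiv.prodComm R _ _) ≪≫ₗ
        (Fin.consLinearEquiv R (fun _ : Fin (j + 1) => R))))

/-- **Serre's splitting theorem**: a finite projective module of constant rank `n > d = dim R`
over a Noetherian ring has a free direct summand of rank `n - d`. -/
theorem exists_isCompl_free [IsNoetherianRing R] (d n : ℕ) (hdim : ringKrullDim R ≤ d)
    (P : Type u) [AddCommGroup P] [Module R P] [Module.Finite R P] [Module.Projective R P]
    (hrk : ∀ p : PrimeSpectrum R, Module.rankAtStalk (R := R) P p = n) (hnd : d < n) :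
    ∃ (P₀ Q : Submodule R P), IsCompl P₀ Q ∧ Nonempty (Q ≃ₗ[R] (Fin (n - d) → R)) := by
  obtain ⟨K, ⟨E⟩⟩ := exists_equiv_prod_free d hdim (n - d) n P hrk (by omega)
  exact exists_isCompl_of_equiv_prod E

end Groth.Agent.R2.H18.Serre
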