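import Mathlib
import Groth.Agent.R2.H18BassA
import Groth.Agent.R2.H18SerreE

/-!
# helper18 (round 2): Bass's stable range theorem and the cancellation theorem
-/

set_option autoImplicit false
universe u

namespace Groth.Agent.R2.H18.Serre

open Module TopologicalSpace

section StableRange

variable {R : Type u} [CommRing R] {M : Type u} [AddCommGroup M] [Module R M]

theorem isClosed_setOf_mem_asIdeal (a : R) :
    IsClosed {x : MaximalSpectrum R | a ∈ x.asIdeal} := by
  have h1 : IsClosed (MaximalSpectrum.toPrimeSpectrum ⁻¹' (PrimeSpectrum.zeroLocus {a}) :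
      Set (MaximalSpectrum R)) :=
    (PrimeSpectrum.isClosed_zeroLocus {a}).preimage isInducing_toPrimeSpectrum.continuous
  convert h1 using 1
  ext x
  simp [MaximalSpectrum.toPrimeSpectrum]

/-- **Bass's stable range theorem**: if the maximal spectrum of `R` is Noetherian of dimension
`≤ d` and `M` is a finitely presented module which locally contains a free direct summand of rank
`d + 1`, then for every unimodular element `(a, p)` of `R ⊕ M` there is `q` with `p + a q`
unimodular in `M`. -/
theorem exists_unimodular_add_smul (d : ℕ) [NoetherianSpace (MaximalSpectrum R)]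
    (hdim : topologicalKrullDim (MaximalSpectrum R) ≤ d) [Module.FinitePresentation R M]
    (hM : ∀ (m : Ideal R) [m.IsMaximal],
      ∃ (f : (Fin (d + 1) → Localization.AtPrime m) →ₗ[Localization.AtPrime m]
          LocalizedModule m.primeCompl M)
        (g : LocalizedModule m.primeCompl M →ₗ[Localization.AtPrime m]
          (Fin (d + 1) → Localization.AtPrime m)),
        g ∘ₗ f = LinearMap.id)
    (a : R) (p : M) (r : R) (φ : M →ₗ[R] R) (h : r * a + φ p = 1) :
    ∃ (q : M) (ψ : M →ₗ[R] R), ψ (p + a • q) = 1 := by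
  classical
  have hfin : Module.Finite R M := inferInstance
  obtain ⟨t, F', ⟨q, hq⟩, hF', -, htZ, hco⟩ := serre_aux_coset (R := R) (M := M) a (d + 1) 0
    Fin.elim0 {x : MaximalSpectrum R | a ∈ x.asIdeal} (isClosed_setOf_mem_asIdeal a)
    (fun x hx => hx) ∅ (fun _ => 0) p (by simp) (by simp)
    (fun x => by
      haveI := x.isMaximal
      obtain ⟨f, g, hgf⟩ := hM x.asIdeal
      have := le_finrank_V_of_localSummand x (d + 1) f g hgf
      omega)
    (fun x hx => (hx linearIndependent_empty_type).elim)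
  -- `F'` is empty
  have hF'e : F' = ∅ := by
    by_contra hne
    obtain ⟨x, hx⟩ := Set.nonempty_iff_ne_empty.mpr hne
    let Z : IrreducibleCloseds (MaximalSpectrum R) :=
      ⟨{x}, isIrreducible_singleton, isClosed_singleton⟩
    have h1 := hco Z (by simpa [Z] using hx)
    have h2 : (Order.coheight Z : WithBot ℕ∞) ≤ d :=
      (Order.coheight_le_krullDim Z).trans hdim
    have h3 : Order.coheight Z ≤ (d : ℕ∞) := by exact_mod_cast h2
    have h4 : ((d + 1 : ℕ) : ℕ∞) ≤ d := h1.trans h3
    exact absurd h4 (by rw [not_le]; exact_mod_cast Nat.lt_succ_self d)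
  -- the values of the linear forms on `t` generate the unit ideal
  let J : Ideal R := LinearMap.range ((LinearMap.applyₗ t : (M →ₗ[R] R) →ₗ[R] R))
  have hJ : J = ⊤ := by
    by_contra hne
    obtain ⟨𝔪, h𝔪, hJ𝔪⟩ := Ideal.exists_le_maximal J hne
    let x : MaximalSpectrum R := ⟨𝔪, h𝔪⟩
    by_cases hax : a ∈ 𝔪
    · -- `φ t ≡ φ p` is a unit modulo `𝔪`
      have h1 : φ t ∈ 𝔪 := hJ𝔪 ⟨φ, rfl⟩
      rw [hq, map_add, map_smul, smul_eq_mul] at h1
      have h2 : φ p ∈ 𝔪 := by
        have h3 : a * φ q ∈ 𝔪 := 𝔪.mul_mem_right _ hax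
        have := 𝔪.sub_mem h1 h3
        rwa [add_sub_cancel_right] at this
      have h3 : (1 : R) ∈ 𝔪 := by
        rw [← h]
        exact 𝔪.add_mem (𝔪.mul_mem_left _ hax) h2
      exact h𝔪.ne_top ((Ideal.eq_top_iff_one _).mpr h3)
    · have hx : x ∉ {x : MaximalSpectrum R | a ∈ x.asIdeal} ∪ F' := by
        simp [hF'e, x, hax]
      have hli : LinearIndependent (R ⧸ x.asIdeal)
          (Fin.snoc (fun i : Fin 0 => img x ((Fin.elim0 : Fin 0 → M) i)) (img x t) :
            Fin (0 + 1) → _) := by
        by_contra hcon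
        exact hx (htZ x hcon)
      have hne0 : img x t ≠ 0 := by
        have := hli.ne_zero (Fin.last 0)
        rwa [Fin.snoc_last] at this
      apply hne0
      rw [img_eq_zero_iff]
      intro ψ
      exact hJ𝔪 ⟨ψ, rfl⟩
  have h1 : (1 : R) ∈ J := by rw [hJ]; trivial
  obtain ⟨ψ, hψ⟩ := h1
  exact ⟨q, ψ, by rw [← hq]; exact hψ⟩

/-- A finite projective module of constant rank `n > d` locally contains a free direct summand of
rank `d + 1`. -/
theorem localSummand_of_rank (d n : ℕ)
    (P : Type u) [AddCommGroup P] [Module R P] [Module.Finite R P] [Module.Projective R P]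
    (hrk : ∀ p : PrimeSpectrum R, Module.rankAtStalk (R := R) P p = n) (hnd : d < n)
    (m : Ideal R) [hm : m.IsMaximal] :
    ∃ (f : (Fin (d + 1) → Localization.AtPrime m) →ₗ[Localization.AtPrime m]
        LocalizedModule m.primeCompl P)
      (g : LocalizedModule m.primeCompl P →ₗ[Localization.AtPrime m]
        (Fin (d + 1) → Localization.AtPrime m)),
      g ∘ₗ f = LinearMap.id := by
  classical
  have hfree : Module.Free (Localization.AtPrime m) (LocalizedModule m.primeCompl P) :=
    Module.free_of_flat_of_isLocalRing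
  have hfr : Module.finrank (Localization.AtPrime m) (LocalizedModule m.primeCompl P) = n :=
    hrk ⟨m, hm.isPrime⟩
  let b : Basis (Fin n) (Localization.AtPrime m) (LocalizedModule m.primeCompl P) :=
    Module.finBasisOfFinrankEq _ _ hfr
  have hle : d + 1 ≤ n := hnd
  refine ⟨Fintype.linearCombination (Localization.AtPrime m) (fun i : Fin (d + 1) =>
      b (Fin.castLE hle i)),
    LinearMap.pi (fun i : Fin (d + 1) => b.coord (Fin.castLE hle i)), ?_⟩
  refine LinearMap.pi_ext' (fun j => ?_)
  refine LinearMap.ext_ring ?_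
  funext i
  simp only [LinearMap.comp_apply, LinearMap.single_apply, LinearMap.pi_apply,
    Fintype.linearCombination_apply, LinearMap.id_apply, Basis.coord_apply, map_sum, map_smul,
    Basis.repr_self,
    Finsupp.single_apply, smul_eq_mul, Pi.single_apply]
  rw [Finset.sum_eq_single j]
  · by_cases hij : i = j
    · subst hij; simp
    · have : Fin.castLE hle j ≠ Fin.castLE hle i := fun h => hij (Fin.castLE_injective hle h).symm
      simp [hij, this]
  · intro k _ hkj
    simp [hkj]
  · intro h; exact absurd (Finset.mem_univ j) h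

/-- Bass's stable range theorem for projective modules of constant rank `n > dim R`. -/
theorem exists_unimodular_add_smul_of_rank [IsNoetherianRing R] (d n : ℕ)
    (hdim : ringKrullDim R ≤ d)
    (P : Type u) [AddCommGroup P] [Module R P] [Module.Finite R P] [Module.Projective R P]
    (hrk : ∀ p : PrimeSpectrum R, Module.rankAtStalk (R := R) P p = n) (hnd : d < n)
    (a : R) (p : P) (r : R) (φ : P →ₗ[R] R) (h : r * a + φ p = 1) :
    ∃ (q : P) (ψ : P →ₗ[R] R), ψ (p + a • q) = 1 := by
  have hfp : Module.FinitePresentation R P := Module.finitePresentation_of_projective R P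
  exact exists_unimodular_add_smul d (topologicalKrullDim_maximalSpectrum_le.trans hdim)
    (fun m hm => localSummand_of_rank d n P hrk hnd m) a p r φ h

end StableRange

section Cancel

variable {R : Type*} [CommRing R] {P P' : Type*} [AddCommGroup P] [Module R P]
  [AddCommGroup P'] [Module R P']

/-- The shear `(x, r) ↦ (x + r • q, r)`. -/
def shearL (q : P) : (P × R) ≃ₗ[R] (P × R) where
  toFun v := (v.1 + v.2 • q, v.2)
  invFun v := (v.1 - v.2 • q, v.2)
  map_add' v w := by
    ext
    · simp only [Prod.fst_add, Prod.snd_add, add_smul]; abel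
    · simp
  map_smul' c v := by
    ext
    · simp [mul_smul]
    · simp
  left_inv v := by simp
  right_inv v := by simp

/-- The shear `(x, r) ↦ (x, r + ψ x)`. -/
def shearR (ψ : P →ₗ[R] R) : (P × R) ≃ₗ[R] (P × R) where
  toFun v := (v.1, v.2 + ψ v.1)
  invFun v := (v.1, v.2 - ψ v.1)
  map_add' v w := by
    ext
    · simp
    · simp only [Prod.fst_add, Prod.snd_add, map_add]; ring
  map_smul' c v := by
    ext
    · simp
    · simp [mul_add]
  left_inv v := by simp
  right_inv v := by simp

/-- An isomorphism `P ⊕ R ≅ P' ⊕ R` fixing `(0, 1)` induces `P ≅ P'`. -/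
noncomputable def equivOfFix (E : (P × R) ≃ₗ[R] (P' × R)) (hE : E (0, 1) = (0, 1)) :
    P ≃ₗ[R] P' where
  toFun x := (E (x, 0)).1
  invFun y := (E.symm (y, 0)).1
  map_add' x y := by
    rw [← Prod.fst_add, ← map_add]
    simp
  map_smul' c x := by
    rw [RingHom.id_apply, ← Prod.smul_fst, ← map_smul]
    simp
  left_inv x := by
    have hE' : E.symm (0, 1) = (0, 1) := by rw [← hE, E.symm_apply_apply]
    have key : (((E (x, 0)).1, (0 : R)) : P' × R) = E ((x, 0) - (E (x, 0)).2 • ((0 : P), (1 : R))) := by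
      rw [map_sub, map_smul, hE]
      ext <;> simp
    show (E.symm ((E (x, 0)).1, 0)).1 = x
    rw [key, E.symm_apply_apply]
    simp
  right_inv y := by
    have hE' : E.symm (0, 1) = (0, 1) := by rw [← hE, E.symm_apply_apply]
    have key : (((E.symm (y, 0)).1, (0 : R)) : P × R) =
        E.symm ((y, 0) - (E.symm (y, 0)).2 • ((0 : P'), (1 : R))) := by
      rw [map_sub, map_smul, hE']
      ext <;> simp
    show (E ((E.symm (y, 0)).1, 0)).1 = y
    rw [key, E.apply_symm_apply]
    simp

/-- Cancellation of a free summand of rank one, given the stable range condition for `P`. -/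
theorem nonempty_equiv_of_prod_equiv
    (hsr : ∀ (a : R) (p : P) (r : R) (φ : P →ₗ[R] R), r * a + φ p = 1 →
      ∃ (q : P) (ψ : P →ₗ[R] R), ψ (p + a • q) = 1)
    (e : (P × R) ≃ₗ[R] (P' × R)) : Nonempty (P ≃ₗ[R] P') := by
  set v : P × R := e.symm (0, 1) with hv
  set ψ₀ : P × R →ₗ[R] R := (LinearMap.snd R P' R) ∘ₗ e.toLinearMap with hψ₀
  have h1 : ψ₀ v = 1 := by
    rw [hψ₀, hv]
    simp
  have h2 : ψ₀ (0, 1) * v.2 + (ψ₀ ∘ₗ LinearMap.inl R P R) v.1 = 1 := by
    have h3 : v = v.2 • ((0 : P), (1 : R)) + (v.1, 0) := by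
      ext <;> simp
    have h4 : ψ₀ v = ψ₀ (0, 1) * v.2 + ψ₀ (v.1, 0) := by
      conv_lhs => rw [h3]
      rw [map_add, map_smul, smul_eq_mul, mul_comm]
    exact h4.symm.trans h1
  obtain ⟨q, ψ, hψ⟩ := hsr v.2 v.1 (ψ₀ (0, 1)) (ψ₀ ∘ₗ LinearMap.inl R P R) h2
  set p' : P := v.1 + v.2 • q with hp'
  let σ : (P × R) ≃ₗ[R] (P × R) := shearL q ≪≫ₗ shearR ((1 - v.2) • ψ) ≪≫ₗ shearL (-p')
  have hσ : σ v = (0, 1) := by
    simp only [σ, LinearEquiv.trans_apply, shearL, shearR, LinearEquiv.coe_mk, LinearMap.coe_mk,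
      AddHom.coe_mk, LinearMap.smul_apply, smul_eq_mul, ← hp', hψ]
    ext
    · simp
    · simp
  have hσ' : σ.symm (0, 1) = v := by rw [← hσ, σ.symm_apply_apply]
  refine ⟨equivOfFix (σ.symm ≪≫ₗ e) ?_⟩
  rw [LinearEquiv.trans_apply, hσ', hv, e.apply_symm_apply]

end Cancel

section Induction

variable {R : Type u} [CommRing R]

theorem rankAtStalk_prod_self (P : Type u) [AddCommGroup P] [Module R P] [Module.Finite R P]
    [Module.Projective R P] (n : ℕ)
    (hrk : ∀ p : PrimeSpectrum R, Module.rankAtStalk (R := R) P p = n) (p : PrimeSpectrum R) :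
    Module.rankAtStalk (R := R) (P × R) p = n + 1 := by
  have : Nontrivial R := by
    by_contra h
    rw [not_nontrivial_iff_subsingleton] at h
    exact p.isPrime.ne_top (Subsingleton.elim _ _)
  rw [Module.rankAtStalk_prod, Pi.add_apply, Module.rankAtStalk_self, Pi.one_apply, hrk p]

/-- **Bass's cancellation theorem**. -/
theorem nonempty_equiv_of_prod_pi_equiv [IsNoetherianRing R] (d : ℕ) (hdim : ringKrullDim R ≤ d)
    (m : ℕ) :
    ∀ (n : ℕ) (P P' : Type u) [AddCommGroup P] [Module R P] [Module.Finite R P]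
      [Module.Projective R P] [AddCommGroup P'] [Module R P'] [Module.Finite R P']
      [Module.Projective R P'],
      (∀ p : PrimeSpectrum R, Module.rankAtStalk (R := R) P p = n) →
      (∀ p : PrimeSpectrum R, Module.rankAtStalk (R := R) P' p = n) → d < n →
      ((P × (Fin m → R)) ≃ₗ[R] (P' × (Fin m → R))) → Nonempty (P ≃ₗ[R] P') := by
  induction m with
  | zero =>
    intro n P P' _ _ _ _ _ _ _ _ _ _ _ e
    exact ⟨(LinearEquiv.prodUnique (R := R) (M := P) (M₂ := Fin 0 → R)).symm ≪≫ₗ e ≪≫ₗ
      (LinearEquiv.prodUnique (R := R) (M := P') (M₂ := Fin 0 → R))⟩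
  | succ m ih =>
    intro n P P' _ _ _ _ _ _ _ _ hrk hrk' hnd e
    have split : ∀ (Q : Type u) [AddCommGroup Q] [Module R Q],
        Nonempty ((Q × (Fin (m + 1) → R)) ≃ₗ[R] ((Q × R) × (Fin m → R))) := by
      intro Q _ _
      exact ⟨(LinearEquiv.prodCongr (LinearEquiv.refl R Q)
        (Fin.consLinearEquiv R (fun _ : Fin (m + 1) => R)).symm) ≪≫ₗ
        (LinearEquiv.prodAssoc R Q R (Fin m → R)).symm⟩
    obtain ⟨e₁⟩ := split P
    obtain ⟨e₂⟩ := split P'
    obtain ⟨E⟩ := ih (n + 1) (P × R) (P' × R) (rankAtStalk_prod_self P n hrk)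
      (rankAtStalk_prod_self P' n hrk') (by omega) (e₁.symm ≪≫ₗ e ≪≫ₗ e₂)
    exact nonempty_equiv_of_prod_equiv
      (fun a p r φ h => exists_unimodular_add_smul_of_rank d n hdim P hrk hnd a p r φ h) E

end Induction

end Groth.Agent.R2.H18.Serre
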