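import Mathlib
import Groth.Agent.R2.H18BassB

/-!
# helper18 (round 2): stably isomorphic projective modules have isomorphic direct powers
-/

set_option autoImplicit false
universe u

namespace Groth.Agent.R2.H18.Serre

open Module

variable {R : Type u} [CommRing R]

/-- `(A × B)^ι ≅ A^ι × B^ι`. -/
def piProdEquiv (ι : Type*) (A B : Type*) [AddCommGroup A] [Module R A] [AddCommGroup B]
    [Module R B] : (ι → A × B) ≃ₗ[R] (ι → A) × (ι → B) where
  toFun f := (fun i => (f i).1, fun i => (f i).2)
  invFun g := fun i => (g.1 i, g.2 i)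
  map_add' _ _ := rfl
  map_smul' _ _ := rfl
  left_inv _ := rfl
  right_inv _ := rfl

theorem projective_pi_fin (N : ℕ) (P : Type u) [AddCommGroup P] [Module R P]
    [Module.Projective R P] : Module.Projective R (Fin N → P) :=
  Module.Projective.of_equiv (DFinsupp.linearEquivFunOnFintype (R := R) (ι := Fin N)
    (M := fun _ => P))

theorem rankAtStalk_pi_fin (N n : ℕ) (P : Type u) [AddCommGroup P] [Module R P]
    [Module.Finite R P] [Module.Projective R P]
    (hrk : ∀ p : PrimeSpectrum R, Module.rankAtStalk (R := R) P p = n) (p : PrimeSpectrum R) :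
    Module.rankAtStalk (R := R) (Fin N → P) p = N * n := by
  rw [Module.rankAtStalk_pi (fun _ : Fin N => P) p, finsum_eq_sum_of_fintype]
  simp [hrk p]

/-- Stably isomorphic finite projective modules of constant rank over a Noetherian ring of finite
dimension have isomorphic direct powers. -/
theorem exists_pi_equiv [IsNoetherianRing R] (d n : ℕ) (hdim : ringKrullDim R ≤ d)
    (P Q : Type u) [AddCommGroup P] [Module R P] [Module.Finite R P] [Module.Projective R P]
    [AddCommGroup Q] [Module R Q] [Module.Finite R Q] [Module.Projective R Q]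
    (hrk : ∀ p : PrimeSpectrum R, Module.rankAtStalk (R := R) P p = n)
    (hrk' : ∀ p : PrimeSpectrum R, Module.rankAtStalk (R := R) Q p = n)
    (m : ℕ) (e : (P × (Fin m → R)) ≃ₗ[R] (Q × (Fin m → R))) :
    ∃ N : ℕ, 1 ≤ N ∧ Nonempty ((Fin N → P) ≃ₗ[R] (Fin N → Q)) := by
  rcases Nat.eq_zero_or_pos n with hn | hn
  · -- rank zero: both modules are trivial
    subst hn
    have hP : Subsingleton P :=
      Module.rankAtStalk_eq_zero_iff_subsingleton.mp (funext hrk)
    have hQ : Subsingleton Q :=
      Module.rankAtStalk_eq_zero_iff_subsingleton.mp (funext hrk')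
    exact ⟨1, le_rfl, ⟨LinearEquiv.ofSubsingleton _ _⟩⟩
  · refine ⟨d + 1, by omega, ?_⟩
    have : Module.Projective R (Fin (d + 1) → P) := projective_pi_fin _ P
    have : Module.Projective R (Fin (d + 1) → Q) := projective_pi_fin _ Q
    have hfree : ((Fin (d + 1) → Fin m → R)) ≃ₗ[R] (Fin ((d + 1) * m) → R) :=
      (LinearEquiv.curry R R (Fin (d + 1)) (Fin m)).symm ≪≫ₗ
        LinearEquiv.funCongrLeft R R finProdFinEquiv.symm
    have E : ((Fin (d + 1) → P) × (Fin ((d + 1) * m) → R)) ≃ₗ[R]
        ((Fin (d + 1) → Q) × (Fin ((d + 1) * m) → R)) :=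
      (LinearEquiv.prodCongr (LinearEquiv.refl R _) hfree.symm) ≪≫ₗ
        (piProdEquiv (R := R) (Fin (d + 1)) P (Fin m → R)).symm ≪≫ₗ
        (LinearEquiv.piCongrRight (fun _ : Fin (d + 1) => e)) ≪≫ₗ
        (piProdEquiv (R := R) (Fin (d + 1)) Q (Fin m → R)) ≪≫ₗ
        (LinearEquiv.prodCongr (LinearEquiv.refl R _) hfree)
    refine nonempty_equiv_of_prod_pi_equiv d hdim ((d + 1) * m) ((d + 1) * n)
      (Fin (d + 1) → P) (Fin (d + 1) → Q) (rankAtStalk_pi_fin _ n P hrk)
      (rankAtStalk_pi_fin _ n Q hrk') ?_ E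
    nlinarith

end Groth.Agent.R2.H18.Serre
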