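import Mathlib
import Groth.Agent.Lib.Helper14LocalFree2

/-!
# helper18 (round 2): Bass's "big projective modules" — unimodular elements
-/

set_option autoImplicit false
universe u

namespace Groth.Agent.R2.H18.BigProj

open Module

variable {R : Type u} [CommRing R] {P : Type u} [AddCommGroup P] [Module R P]

/-- The order ideal `{φ x}` of an element. -/
def ord (x : P) : Ideal R := LinearMap.range (LinearMap.applyₗ x : (P →ₗ[R] R) →ₗ[R] R)

theorem mem_ord {x : P} {a : R} : a ∈ ord x ↔ ∃ φ : P →ₗ[R] R, φ x = a := Iff.rfl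

/-- In a projective module, an element all of whose coordinates lie in `𝔪` lies in `𝔪 P`. -/
theorem mem_smul_top_of_forall [Module.Projective R P] (𝔪 : Ideal R) (y : P)
    (h : ∀ φ : P →ₗ[R] R, φ y ∈ 𝔪) : y ∈ (𝔪 • ⊤ : Submodule R P) := by
  obtain ⟨s', hs'⟩ := Module.projective_def'.mp (inferInstance : Module.Projective R P)
  have hy : y = Finsupp.linearCombination R id (s' y) := by
    have := congrArg (fun l => l y) hs'
    simpa using this.symm
  rw [hy, Finsupp.linearCombination_apply, Finsupp.sum]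
  refine Submodule.sum_mem _ (fun i _ => ?_)
  exact Submodule.smul_mem_smul (h (Finsupp.lapply i ∘ₗ s')) trivial

/-- The quotient of a ring by an ideal is a Noetherian module when it is a Noetherian ring. -/
theorem isNoetherian_quotient (J : Ideal R) [IsNoetherianRing (R ⧸ J)] :
    IsNoetherian R (R ⧸ J) := by
  rw [isNoetherian_def]
  intro N
  let I : Ideal (R ⧸ J) :=
    { carrier := N
      add_mem' := N.add_mem
      zero_mem' := N.zero_mem
      smul_mem' := fun c x hx => by
        obtain ⟨r, rfl⟩ := Ideal.Quotient.mk_surjective c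
        exact N.smul_mem r hx }
  have hI : I.FG := IsNoetherian.noetherian I
  obtain ⟨t, ht⟩ := hI
  refine ⟨t, ?_⟩
  have h3 := Submodule.restrictScalars_span R (R ⧸ J) Ideal.Quotient.mk_surjective
    (t : Set (R ⧸ J))
  apply le_antisymm
  · rw [Submodule.span_le]
    intro n hn
    have : n ∈ I := ht ▸ Submodule.subset_span hn
    exact this
  · intro n hn
    have h4 : n ∈ Submodule.restrictScalars R (Submodule.span (R ⧸ J) (t : Set (R ⧸ J))) := by
      rw [Submodule.restrictScalars_mem]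
      show n ∈ Ideal.span (t : Set (R ⧸ J))
      rw [ht]
      exact hn
    rw [h3] at h4
    exact h4

theorem exists_fg_sup_ker_eq_top {N : Type*} [AddCommGroup N] [Module R N] (Ψ : P →ₗ[R] N)
    (h : (LinearMap.range Ψ).FG) : ∃ G : Submodule R P, G.FG ∧ LinearMap.ker Ψ ⊔ G = ⊤ := by
  classical
  obtain ⟨t, ht⟩ := h
  have hpre : ∀ n ∈ t, ∃ p : P, Ψ p = n := fun n hn => by
    have : n ∈ LinearMap.range Ψ := ht ▸ Submodule.subset_span hn
    exact this
  choose! pre hpre using hpre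
  refine ⟨Submodule.span R (pre '' (t : Set N)), ⟨t.image pre, by rw [Finset.coe_image]⟩, ?_⟩
  rw [eq_top_iff]
  intro p _
  have hmap : Submodule.map Ψ (Submodule.span R (pre '' (t : Set N))) = LinearMap.range Ψ := by
    rw [Submodule.map_span, Set.image_image, ← ht]
    congr 1
    ext n
    constructor
    · rintro ⟨n', hn', rfl⟩
      show Ψ (pre n') ∈ (t : Set N)
      rw [hpre n' hn']
      exact hn'
    · intro hn
      exact ⟨n, hn, hpre n hn⟩
  have hp : Ψ p ∈ Submodule.map Ψ (Submodule.span R (pre '' (t : Set N))) := by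
    rw [hmap]; exact ⟨p, rfl⟩
  obtain ⟨g, hg, hgp⟩ := hp
  have : p = (p - g) + g := by abel
  rw [this]
  exact Submodule.add_mem_sup (by rw [LinearMap.mem_ker, map_sub, hgp, sub_self]) hg

/-- If `P` is projective and `P_𝔪` is not finitely generated, then `P ≠ 𝔪 P + G` for `G`
finitely generated. -/
theorem smul_top_sup_ne_top [Module.Projective R P] (𝔪 : Ideal R) [h𝔪 : 𝔪.IsMaximal]
    (hP : ¬ Module.Finite (Localization.AtPrime 𝔪) (LocalizedModule 𝔪.primeCompl P))
    (G : Submodule R P) (hG : G.FG) : (𝔪 • ⊤ : Submodule R P) ⊔ G ≠ ⊤ := by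
  classical
  intro htop
  apply hP
  have hfree : Module.Free (Localization.AtPrime 𝔪) (LocalizedModule 𝔪.primeCompl P) :=
    Groth.Agent.Lib.Helper14.LocalFree.free_of_projective
  let b := Module.Free.chooseBasis (Localization.AtPrime 𝔪) (LocalizedModule 𝔪.primeCompl P)
  obtain ⟨S, hS⟩ := hG
  let L₀ : Finset (Module.Free.ChooseBasisIndex (Localization.AtPrime 𝔪)
      (LocalizedModule 𝔪.primeCompl P)) :=
    S.biUnion (fun g => (b.repr (LocalizedModule.mkLinearMap 𝔪.primeCompl P g)).support)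
  have hall : ∀ l, l ∈ L₀ := by
    intro l
    by_contra hl
    let N : Submodule R P :=
      { carrier := {p | b.repr (LocalizedModule.mkLinearMap 𝔪.primeCompl P p) l ∈
          IsLocalRing.maximalIdeal (Localization.AtPrime 𝔪)}
        add_mem' := by
          intro p q hp hq
          simp only [Set.mem_ofPred_eq] at hp hq ⊢
          rw [map_add, map_add, Finsupp.add_apply]
          exact Ideal.add_mem _ hp hq
        zero_mem' := by
          simp only [Set.mem_ofPred_eq]
          rw [map_zero, map_zero, Finsupp.zero_apply]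
          exact zero_mem _
        smul_mem' := by
          intro c p hp
          simp only [Set.mem_ofPred_eq] at hp ⊢
          rw [map_smul, ← algebraMap_smul (Localization.AtPrime 𝔪) c, map_smul, Finsupp.smul_apply,
            smul_eq_mul]
          exact Ideal.mul_mem_left _ _ hp }
    have h1 : (𝔪 • ⊤ : Submodule R P) ≤ N := by
      rw [Submodule.smul_le]
      intro a ha p _
      show b.repr (LocalizedModule.mkLinearMap 𝔪.primeCompl P (a • p)) l ∈
          IsLocalRing.maximalIdeal (Localization.AtPrime 𝔪)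
      rw [map_smul, ← algebraMap_smul (Localization.AtPrime 𝔪) a, map_smul, Finsupp.smul_apply,
        smul_eq_mul]
      exact Ideal.mul_mem_right _ _
        ((IsLocalization.AtPrime.to_map_mem_maximal_iff (Localization.AtPrime 𝔪) 𝔪 a).mpr ha)
    have h2 : G ≤ N := by
      rw [← hS, Submodule.span_le]
      intro g hg
      show b.repr (LocalizedModule.mkLinearMap 𝔪.primeCompl P g) l ∈
          IsLocalRing.maximalIdeal (Localization.AtPrime 𝔪)
      have h0 : b.repr (LocalizedModule.mkLinearMap 𝔪.primeCompl P g) l = 0 := by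
        by_contra h0
        exact hl (Finset.mem_biUnion.mpr ⟨g, hg, Finsupp.mem_support_iff.mpr h0⟩)
      rw [h0]
      exact zero_mem _
    have hN : N = ⊤ := eq_top_iff.mpr (htop ▸ sup_le h1 h2)
    obtain ⟨⟨p, t⟩, hpt⟩ := IsLocalizedModule.surj 𝔪.primeCompl
      (LocalizedModule.mkLinearMap 𝔪.primeCompl P) (b l)
    have hp : p ∈ N := hN ▸ Submodule.mem_top
    change b.repr (LocalizedModule.mkLinearMap 𝔪.primeCompl P p) l ∈
      IsLocalRing.maximalIdeal (Localization.AtPrime 𝔪) at hp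
    simp only at hpt
    rw [← hpt, Submonoid.smul_def, ← algebraMap_smul (Localization.AtPrime 𝔪) (t : R), map_smul,
      Finsupp.smul_apply, b.repr_self, Finsupp.single_eq_same, smul_eq_mul, mul_one] at hp
    exact t.2 ((IsLocalization.AtPrime.to_map_mem_maximal_iff (Localization.AtPrime 𝔪) 𝔪
      (t : R)).mp hp)
  haveI : Fintype (Module.Free.ChooseBasisIndex (Localization.AtPrime 𝔪)
      (LocalizedModule 𝔪.primeCompl P)) := ⟨L₀, hall⟩
  exact Module.Finite.of_basis b

/-- A module is *big* if `P / 𝔪 P` is not finitely generated for every maximal ideal `𝔪`. -/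
def Big (R : Type u) [CommRing R] (P : Type u) [AddCommGroup P] [Module R P] : Prop :=
  ∀ (𝔪 : Ideal R), 𝔪.IsMaximal → ∀ G : Submodule R P, G.FG →
    (𝔪 • ⊤ : Submodule R P) ⊔ G ≠ ⊤

theorem big_of_not_finite [Module.Projective R P]
    (hP : ∀ (m : Ideal R) [m.IsMaximal],
      ¬ Module.Finite (Localization.AtPrime m) (LocalizedModule m.primeCompl P)) : Big R P :=
  fun 𝔪 h𝔪 G hG => smul_top_sup_ne_top 𝔪 (hP 𝔪) G hG

/-- **Bass**: in a big projective module over a ring with Noetherian `R / rad R`, every coset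
`s + M` with `R s + M = P` contains a unimodular element. -/
theorem exists_unimodular_add_mem_of_big [IsNoetherianRing (R ⧸ (⊥ : Ideal R).jacobson)]
    [Module.Projective R P] (hbig : Big R P)
    (s : P) (M : Submodule R P) (hM : Submodule.span R {s} ⊔ M = ⊤) :
    ∃ m ∈ M, ∃ φ : P →ₗ[R] R, φ (s + m) = 1 := by
  classical
  set J : Ideal R := (⊥ : Ideal R).jacobson with hJ
  have hJle : ∀ (𝔪 : Ideal R), 𝔪.IsMaximal → J ≤ 𝔪 := fun 𝔪 h𝔪 => sInf_le ⟨bot_le, h𝔪⟩
  have hnoeth : IsNoetherian R (R ⧸ J) := isNoetherian_quotient J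
  obtain ⟨s', hs'⟩ := Module.projective_def'.mp (inferInstance : Module.Projective R P)
  -- maximal order ideal modulo `J`
  let 𝒮 : Set (Ideal (R ⧸ J)) :=
    {I | ∃ m ∈ M, I = Ideal.map (Ideal.Quotient.mk J) (ord (s + m))}
  have h𝒮 : 𝒮.Nonempty := ⟨_, 0, M.zero_mem, rfl⟩
  obtain ⟨I₀, ⟨m₀, hm₀, rfl⟩, hmax⟩ :=
    set_has_maximal_iff_noetherian.mpr (inferInstance : IsNoetherian (R ⧸ J) (R ⧸ J)) 𝒮 h𝒮
  obtain ⟨x, hx⟩ : ∃ x : P, x = s + m₀ := ⟨_, rfl⟩
  rw [← hx] at hmax
  have hxM : Submodule.span R {x} ⊔ M = ⊤ := by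
    rw [eq_top_iff, ← hM]
    refine sup_le ?_ le_sup_right
    rw [Submodule.span_le, Set.singleton_subset_iff]
    have : s = x - m₀ := by rw [hx]; abel
    rw [this]
    exact Submodule.sub_mem _ (Submodule.mem_sup_left (Submodule.mem_span_singleton_self x))
      (Submodule.mem_sup_right hm₀)
  refine ⟨m₀, hm₀, ?_⟩
  rw [← hx]
  suffices htop : ord x = ⊤ by
    have h1 : (1 : R) ∈ ord x := by rw [htop]; trivial
    exact h1
  by_contra hne
  obtain ⟨𝔪, h𝔪, hx𝔪⟩ := Ideal.exists_le_maximal (ord x) hne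
  -- the coordinates of `x`
  set T : Finset P := (s' x).support with hT
  have hxsum : ∀ ψ : P →ₗ[R] R, ψ x = ∑ i ∈ T, (s' x) i * ψ i := by
    intro ψ
    have h0 : x = Finsupp.linearCombination R id (s' x) := by
      have := congrArg (fun l => l x) hs'
      simpa using this.symm
    conv_lhs => rw [h0]
    rw [Finsupp.linearCombination_apply, Finsupp.sum, map_sum]
    refine Finset.sum_congr rfl (fun i _ => ?_)
    rw [map_smul, smul_eq_mul, id]
  -- the auxiliary map
  let Ψ : P →ₗ[R] (P ⧸ (M ⊔ (J • ⊤ : Submodule R P))) × (T → R ⧸ J) :=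
    LinearMap.prod (M ⊔ (J • ⊤ : Submodule R P)).mkQ
      (LinearMap.pi (fun i : T => (Submodule.mkQ J) ∘ₗ (Finsupp.lapply (i : P) ∘ₗ s')))
  have hno1 : IsNoetherian R (P ⧸ (M ⊔ (J • ⊤ : Submodule R P))) := by
    let g : (R ⧸ J) →ₗ[R] (P ⧸ (M ⊔ (J • ⊤ : Submodule R P))) :=
      Submodule.liftQ J (LinearMap.toSpanSingleton R _ ((M ⊔ (J • ⊤ : Submodule R P)).mkQ s)) (by
        intro r hr
        rw [LinearMap.mem_ker, LinearMap.toSpanSingleton_apply, ← map_smul,
          Submodule.mkQ_apply, Submodule.Quotient.mk_eq_zero]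
        exact Submodule.mem_sup_right (Submodule.smul_mem_smul hr trivial))
    refine isNoetherian_of_surjective g ?_
    rw [LinearMap.range_eq_top]
    intro q
    obtain ⟨p, rfl⟩ := Submodule.mkQ_surjective _ q
    have hp : p ∈ Submodule.span R {s} ⊔ M := by rw [hM]; trivial
    obtain ⟨y, hy, m, hm, rfl⟩ := Submodule.mem_sup.mp hp
    obtain ⟨r, rfl⟩ := Submodule.mem_span_singleton.mp hy
    refine ⟨Submodule.Quotient.mk r, ?_⟩
    show (Submodule.liftQ J (LinearMap.toSpanSingleton R _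
      ((M ⊔ (J • ⊤ : Submodule R P)).mkQ s)) _) (Submodule.Quotient.mk r) = _
    rw [Submodule.liftQ_apply, LinearMap.toSpanSingleton_apply, map_add, map_smul]
    have : (M ⊔ (J • ⊤ : Submodule R P)).mkQ m = 0 := by
      rw [Submodule.mkQ_apply, Submodule.Quotient.mk_eq_zero]
      exact Submodule.mem_sup_left hm
    rw [this, add_zero]
  have hfg : (LinearMap.range Ψ).FG := IsNoetherian.noetherian _
  obtain ⟨G, hG, hGtop⟩ := exists_fg_sup_ker_eq_top Ψ hfg
  have hnot : ¬ LinearMap.ker Ψ ≤ (𝔪 • ⊤ : Submodule R P) := by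
    intro hle
    refine hbig 𝔪 h𝔪 G hG ?_
    have h1 : LinearMap.ker Ψ ⊔ G ≤ (𝔪 • ⊤ : Submodule R P) ⊔ G := sup_le_sup_right hle G
    rw [hGtop] at h1
    exact eq_top_iff.mpr h1
  obtain ⟨y₀, hy₀ker, hy₀⟩ := Set.not_subset.mp hnot
  have hy₀1 : y₀ ∈ M ⊔ (J • ⊤ : Submodule R P) := by
    have := congrArg Prod.fst (LinearMap.mem_ker.mp hy₀ker)
    simpa [Ψ, Submodule.Quotient.mk_eq_zero] using this
  have hy₀2 : ∀ i ∈ T, (s' y₀) i ∈ J := by
    intro i hi
    have := congrArg Prod.snd (LinearMap.mem_ker.mp hy₀ker)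
    have h3 := congrFun this ⟨i, hi⟩
    refine Ideal.Quotient.eq_zero_iff_mem.mp ?_
    simpa [Ψ] using h3
  obtain ⟨y, hy, j, hj, hyj⟩ := Submodule.mem_sup.mp hy₀1
  have hjJ : ∀ φ : P →ₗ[R] R, φ j ∈ J := by
    intro φ
    refine Submodule.smul_induction_on hj ?_ ?_
    · intro r hr p _
      rw [map_smul, smul_eq_mul]
      exact J.mul_mem_right _ hr
    · intro a b ha hb
      rw [map_add]
      exact J.add_mem ha hb
  have hyT : ∀ i ∈ T, (s' y) i ∈ J := by
    intro i hi
    have h1 : (s' y) i = (s' y₀) i - (s' j) i := by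
      rw [← hyj, map_add, Finsupp.add_apply]; ring
    rw [h1]
    exact J.sub_mem (hy₀2 i hi) (hjJ (Finsupp.lapply i ∘ₗ s'))
  have hy𝔪 : y ∉ (𝔪 • ⊤ : Submodule R P) := by
    intro hmem
    apply hy₀
    rw [← hyj]
    exact Submodule.add_mem _ hmem (Submodule.smul_mono_left (hJle 𝔪 h𝔪) hj)
  -- the new element
  have hnew : Ideal.map (Ideal.Quotient.mk J) (ord x) <
      Ideal.map (Ideal.Quotient.mk J) (ord (s + (m₀ + y))) := by
    have hx' : s + (m₀ + y) = x + y := by rw [hx]; abel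
    rw [hx']
    have hle : Ideal.map (Ideal.Quotient.mk J) (ord x) ≤
        Ideal.map (Ideal.Quotient.mk J) (ord (x + y)) := by
      rw [Ideal.map_le_iff_le_comap]
      rintro a ⟨ψ, rfl⟩
      show ψ x ∈ Ideal.comap (Ideal.Quotient.mk J) _
      rw [Ideal.mem_comap, hxsum ψ, map_sum]
      refine Ideal.sum_mem _ (fun i hi => ?_)
      rw [map_mul]
      refine Ideal.mul_mem_right _ _ ?_
      have h1 : Ideal.Quotient.mk J ((s' x) i) = Ideal.Quotient.mk J ((s' (x + y)) i) := by
        rw [Ideal.Quotient.eq, map_add, Finsupp.add_apply, sub_add_cancel_left]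
        exact J.neg_mem (hyT i hi)
      rw [h1]
      exact Ideal.mem_map_of_mem _ ⟨Finsupp.lapply i ∘ₗ s', rfl⟩
    refine lt_of_le_of_ne hle (fun heq => ?_)
    apply hy𝔪
    refine mem_smul_top_of_forall 𝔪 y (fun ψ => ?_)
    have h1 : Ideal.Quotient.mk J (ψ (x + y)) ∈ Ideal.map (Ideal.Quotient.mk J) (ord x) := by
      rw [heq]
      exact Ideal.mem_map_of_mem _ ⟨ψ, rfl⟩
    obtain ⟨a', ha', ha'eq⟩ :=
      (Ideal.mem_map_iff_of_surjective _ Ideal.Quotient.mk_surjective).mp h1
    have h2 : a' - ψ (x + y) ∈ J := Ideal.Quotient.eq.mp ha'eq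
    have h3 : ψ (x + y) ∈ 𝔪 := by
      have h4 : ψ (x + y) = a' - (a' - ψ (x + y)) := by ring
      rw [h4]
      exact 𝔪.sub_mem (hx𝔪 ha') (hJle 𝔪 h𝔪 h2)
    have h5 : ψ y = ψ (x + y) - ψ x := by rw [map_add]; ring
    rw [h5]
    exact 𝔪.sub_mem h3 (hx𝔪 ⟨ψ, rfl⟩)
  exact hmax _ ⟨m₀ + y, M.add_mem hm₀ hy, rfl⟩ hnew

theorem exists_unimodular_add_mem [IsNoetherianRing (R ⧸ (⊥ : Ideal R).jacobson)]
    [Module.Projective R P]
    (hP : ∀ (m : Ideal R) [m.IsMaximal],
      ¬ Module.Finite (Localization.AtPrime m) (LocalizedModule m.primeCompl P))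
    (s : P) (M : Submodule R P) (hM : Submodule.span R {s} ⊔ M = ⊤) :
    ∃ m ∈ M, ∃ φ : P →ₗ[R] R, φ (s + m) = 1 :=
  exists_unimodular_add_mem_of_big (big_of_not_finite hP) s M hM

end Groth.Agent.R2.H18.BigProj
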