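import Mathlib
import Groth.Agent.R2.H18BigProjA
import Groth.Agent.R2.H18SerreE
import Groth.Agent.Lib.Helper10Swindle

/-!
# helper18 (round 2): Bass's "big projective modules" — finite stably free summands
-/

set_option autoImplicit false
universe u

namespace Groth.Agent.R2.H18.BigProj

open Module

variable {R : Type u} [CommRing R]

section Transfer

variable {P P' : Type u} [AddCommGroup P] [Module R P] [AddCommGroup P'] [Module R P']

theorem Big.of_surjective (f : P →ₗ[R] P') (hf : Function.Surjective f) (h : Big R P') :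
    Big R P := by
  intro 𝔪 h𝔪 G hG htop
  refine h 𝔪 h𝔪 (G.map f) (hG.map f) ?_
  have h1 : Submodule.map f ((𝔪 • ⊤ : Submodule R P) ⊔ G) = ⊤ := by
    rw [htop, Submodule.map_top, LinearMap.range_eq_top.mpr hf]
  rw [Submodule.map_sup, Submodule.map_smul'', Submodule.map_top,
    LinearMap.range_eq_top.mpr hf] at h1
  exact h1

theorem Big.of_equiv (e : P ≃ₗ[R] P') (h : Big R P) : Big R P' :=
  Big.of_surjective e.symm.toLinearMap e.symm.surjective h

theorem Big.prod_left (A : Type u) [AddCommGroup A] [Module R A] (h : Big R P) :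
    Big R (P × A) :=
  Big.of_surjective (LinearMap.fst R P A) LinearMap.fst_surjective h

theorem Big.of_prod_finite {A C : Type u} [AddCommGroup A] [Module R A] [Module.Finite R A]
    [AddCommGroup C] [Module R C] (h : Big R (A × C)) : Big R C := by
  intro 𝔪 h𝔪 G hG htop
  refine h 𝔪 h𝔪 (Submodule.prod ⊤ G) (Submodule.FG.prod Module.Finite.fg_top hG) ?_
  rw [eq_top_iff]
  rintro ⟨a, c⟩ -
  have hc : c ∈ (𝔪 • ⊤ : Submodule R C) ⊔ G := by rw [htop]; trivial
  obtain ⟨c₁, hc₁, g, hg, rfl⟩ := Submodule.mem_sup.mp hc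
  have h1 : ((0 : A), c₁) ∈ (𝔪 • ⊤ : Submodule R (A × C)) := by
    have h2 : Submodule.map (LinearMap.inr R A C) (𝔪 • ⊤ : Submodule R C) ≤
        (𝔪 • ⊤ : Submodule R (A × C)) := by
      rw [Submodule.map_smul'']
      exact Submodule.smul_mono le_rfl le_top
    exact h2 ⟨c₁, hc₁, rfl⟩
  have h3 : ((a, c₁ + g) : A × C) = (0, c₁) + (a, g) := by
    ext <;> simp
  rw [h3]
  exact Submodule.add_mem_sup h1 ⟨trivial, hg⟩

end Transfer

section Decomp

variable {N : Type u} [AddCommGroup N] [Module R N]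

/-- A decomposition `N ≅ A ⊕ C` with `A` finite free and `C` big projective. -/
structure Decomp (R : Type u) [CommRing R] (N : Type u) [AddCommGroup N] [Module R N] where
  A : Type u
  C : Type u
  [acgA : AddCommGroup A]
  [modA : Module R A]
  [finA : Module.Finite R A]
  [freeA : Module.Free R A]
  [acgC : AddCommGroup C]
  [modC : Module R C]
  [projC : Module.Projective R C]
  bigC : Big R C
  E : N ≃ₗ[R] A × C

attribute [instance] Decomp.acgA Decomp.modA Decomp.finA Decomp.freeA Decomp.acgC Decomp.modC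
  Decomp.projC

/-- Build a decomposition from an isomorphism, when `N` is big and projective. -/
noncomputable def Decomp.ofEquiv [Module.Projective R N] (hN : Big R N) (A C : Type u)
    [AddCommGroup A] [Module R A] [Module.Finite R A] [Module.Free R A]
    [AddCommGroup C] [Module R C] (E : N ≃ₗ[R] A × C) : Decomp R N :=
  haveI : Module.Projective R (A × C) := Module.Projective.of_equiv E
  { A := A
    C := C
    projC := Module.Projective.of_split (LinearMap.inr R A C) (LinearMap.snd R A C)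
      (LinearMap.ext fun _ => rfl)
    bigC := Big.of_prod_finite (Big.of_equiv E hN)
    E := E }

variable {F₀ : Type u} [AddCommGroup F₀] [Module R F₀]

/-- The restriction of `q₀` to the finite free part. -/
noncomputable def Decomp.q (d : Decomp R N) (q₀ : N →ₗ[R] F₀) : d.A →ₗ[R] F₀ :=
  q₀ ∘ₗ d.E.symm.toLinearMap ∘ₗ LinearMap.inl R d.A d.C

theorem Decomp.q_apply (d : Decomp R N) (q₀ : N →ₗ[R] F₀) (v : d.A) :
    d.q q₀ v = q₀ (d.E.symm (v, 0)) := rfl

theorem Decomp.step [IsNoetherianRing (R ⧸ (⊥ : Ideal R).jacobson)] (d : Decomp R N)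
    (q₀ : N →ₗ[R] F₀) (hq₀ : Function.Surjective q₀) (g : F₀) (D : Submodule R F₀)
    (h : LinearMap.range (d.q q₀) ⊔ Submodule.span R {g} ⊔ D = ⊤) :
    ∃ d' : Decomp R N, LinearMap.range (d'.q q₀) ⊔ D = ⊤ ∧
      ∀ x : N, (d.E x).2 = 0 → (d'.E x).2 = 0 := by
  classical
  set r : d.C →ₗ[R] F₀ := q₀ ∘ₗ d.E.symm.toLinearMap ∘ₗ LinearMap.inr R d.A d.C with hr
  have hsum : ∀ f : F₀, ∃ (v : d.A) (c : d.C), f = d.q q₀ v + r c := by
    intro f
    obtain ⟨n, rfl⟩ := hq₀ f
    refine ⟨(d.E n).1, (d.E n).2, ?_⟩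
    rw [Decomp.q_apply, hr]
    simp only [LinearMap.comp_apply, LinearEquiv.coe_coe, LinearMap.inr_apply]
    rw [← map_add, ← map_add]
    simp
  obtain ⟨v, γ, hg⟩ := hsum g
  set M₁ : Submodule R d.C := Submodule.comap r (LinearMap.range (d.q q₀) ⊔ D) with hM₁
  have hM₁top : Submodule.span R {γ} ⊔ M₁ = ⊤ := by
    rw [eq_top_iff]
    intro c _
    have hc : r c ∈ LinearMap.range (d.q q₀) ⊔ Submodule.span R {g} ⊔ D := by rw [h]; trivial
    obtain ⟨y, hy, dd, hdd, hyd⟩ := Submodule.mem_sup.mp hc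
    obtain ⟨w, hw, z, hz, hwz⟩ := Submodule.mem_sup.mp hy
    obtain ⟨t, rfl⟩ := Submodule.mem_span_singleton.mp hz
    have hdecomp : c = t • γ + (c - t • γ) := by abel
    rw [hdecomp]
    refine Submodule.add_mem_sup (Submodule.smul_mem _ _ (Submodule.mem_span_singleton_self γ)) ?_
    rw [hM₁, Submodule.mem_comap, map_sub, map_smul]
    have h1 : r c - t • r γ = (w + t • d.q q₀ v) + dd := by
      have h2 : r γ = g - d.q q₀ v := by rw [hg]; abel
      rw [h2, ← hyd, ← hwz, smul_sub]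
      abel
    rw [h1]
    refine Submodule.add_mem_sup ?_ hdd
    exact Submodule.add_mem _ hw (Submodule.smul_mem _ _ ⟨v, rfl⟩)
  obtain ⟨m, hm, φ, hφ⟩ := exists_unimodular_add_mem_of_big d.bigC γ M₁ hM₁top
  set c₀ : d.C := γ + m with hc₀
  let e₁ : d.C ≃ₗ[R] (LinearMap.ker φ) × R := Serre.equivKerProd c₀ φ hφ
  have he₁symm : ∀ (k : LinearMap.ker φ) (t : R), e₁.symm (k, t) = (k : d.C) + t • c₀ :=
    fun k t => rfl
  have he₁fst : ∀ k : LinearMap.ker φ, e₁ (k : d.C) = (k, 0) := by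
    intro k
    rw [← LinearEquiv.eq_symm_apply, he₁symm, zero_smul, add_zero]
  have hproj : Module.Projective R (LinearMap.ker φ) :=
    Module.Projective.of_split (LinearMap.ker φ).subtype
      ((LinearMap.fst R _ _) ∘ₗ e₁.toLinearMap) (by
        ext k
        simp [he₁fst])
  have hbig : Big R (LinearMap.ker φ) := by
    have h1 : Big R (R × LinearMap.ker φ) :=
      Big.of_equiv (e₁ ≪≫ₗ LinearEquiv.prodComm R _ _) d.bigC
    exact Big.of_prod_finite h1
  let E' : N ≃ₗ[R] (d.A × R) × (LinearMap.ker φ) :=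
    d.E ≪≫ₗ (LinearEquiv.prodCongr (LinearEquiv.refl R d.A)
      (e₁ ≪≫ₗ LinearEquiv.prodComm R _ _)) ≪≫ₗ
      (LinearEquiv.prodAssoc R d.A R (LinearMap.ker φ)).symm
  let d' : Decomp R N :=
    { A := d.A × R
      C := LinearMap.ker φ
      projC := hproj
      bigC := hbig
      E := E' }
  have hE'symm : ∀ (v' : d.A) (t : R), d'.E.symm ((v', t), 0) = d.E.symm (v', t • c₀) := by
    intro v' t
    have h1 : E'.symm ((v', t), 0) = d.E.symm (v', e₁.symm (0, t)) := rfl
    show E'.symm ((v', t), 0) = _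
    rw [h1, he₁symm]
    simp
  have hq' : ∀ (v' : d.A) (t : R), d'.q q₀ (v', t) = d.q q₀ v' + t • r c₀ := by
    intro v' t
    rw [Decomp.q_apply, hE'symm, Decomp.q_apply, hr]
    simp only [LinearMap.comp_apply, LinearEquiv.coe_coe, LinearMap.inr_apply]
    rw [← map_smul, ← map_smul, ← map_add, ← map_add]
    simp
  refine ⟨d', ?_, ?_⟩
  · rw [eq_top_iff, ← h]
    refine sup_le (sup_le ?_ ?_) le_sup_right
    · rintro _ ⟨v', rfl⟩
      refine Submodule.mem_sup_left ⟨(v', 0), ?_⟩
      rw [hq', zero_smul, add_zero]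
    · rw [Submodule.span_le, Set.singleton_subset_iff]
      have hm' : r m ∈ LinearMap.range (d.q q₀) ⊔ D := hm
      obtain ⟨w, ⟨v'', rfl⟩, dd, hdd, hwd⟩ := Submodule.mem_sup.mp hm'
      have hgeq : g = d'.q q₀ (v - v'', 1) + (-dd) := by
        rw [hq', one_smul, hc₀, map_add, ← hwd, hg, map_sub]
        abel
      rw [hgeq]
      exact Submodule.add_mem_sup ⟨_, rfl⟩ (D.neg_mem hdd)
  · intro x hx
    have h1 : (E' x).2 = (e₁ (d.E x).2).1 := rfl
    show (E' x).2 = 0
    rw [h1, hx, map_zero]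
    rfl

theorem Decomp.exists_surjective [IsNoetherianRing (R ⧸ (⊥ : Ideal R).jacobson)]
    (d : Decomp R N) (q₀ : N →ₗ[R] F₀) (hq₀ : Function.Surjective q₀) [Module.Finite R F₀] :
    ∃ d' : Decomp R N, Function.Surjective (d'.q q₀) ∧
      ∀ x : N, (d.E x).2 = 0 → (d'.E x).2 = 0 := by
  classical
  obtain ⟨n, g, hg⟩ := Module.Finite.exists_fin (R := R) (M := F₀)
  have key : ∀ j : ℕ, j ≤ n → ∃ d' : Decomp R N,
      LinearMap.range (d'.q q₀) ⊔ Submodule.span R (g '' {i : Fin n | j ≤ i.val}) = ⊤ ∧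
      ∀ x : N, (d.E x).2 = 0 → (d'.E x).2 = 0 := by
    intro j
    induction j with
    | zero =>
      intro _
      refine ⟨d, ?_, fun x hx => hx⟩
      have : {i : Fin n | 0 ≤ i.val} = Set.univ := by ext i; simp
      rw [this, Set.image_univ, hg, sup_top_eq]
    | succ j ih =>
      intro hj
      obtain ⟨d₁, hd₁, hpres⟩ := ih (by omega)
      have hset : {i : Fin n | j ≤ i.val} = {(⟨j, by omega⟩ : Fin n)} ∪ {i : Fin n | j + 1 ≤ i.val} := by
        ext i
        simp only [Set.mem_ofPred_eq, Set.mem_union, Set.mem_singleton_iff, Fin.ext_iff]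
        omega
      rw [hset, Set.image_union, Set.image_singleton, Submodule.span_union, ← sup_assoc] at hd₁
      obtain ⟨d₂, hd₂, hpres₂⟩ := d₁.step q₀ hq₀ _ _ hd₁
      exact ⟨d₂, hd₂, fun x hx => hpres₂ x (hpres x hx)⟩
  obtain ⟨d', hd', hpres⟩ := key n le_rfl
  refine ⟨d', ?_, hpres⟩
  have : {i : Fin n | n ≤ i.val} = ∅ := by
    ext i
    simp only [Set.mem_ofPred_eq, Set.mem_empty_iff_false, iff_false, not_le]
    exact i.2
  rw [this, Set.image_empty, Submodule.span_empty, sup_bot_eq] at hd'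
  exact LinearMap.range_eq_top.mp hd'

end Decomp

end Groth.Agent.R2.H18.BigProj
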