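import Mathlib
import Groth.Agent.R2.H18BigProjB

/-!
# helper18 (round 2): Bass's "big projective modules" — every element lies in a finite stably
free direct summand
-/

set_option autoImplicit false
universe u

namespace Groth.Agent.R2.H18.BigProj

open Module

variable {R : Type u} [CommRing R] {P : Type u} [AddCommGroup P] [Module R P]

/-- From a decomposition `P × F₀ ≅ A × C` with `A → F₀` surjective and `(s, 0) ∈ A`, a finite
stably free direct summand of `P` containing `s`. -/
theorem exists_summand_of_decomp {F₀ : Type u} [AddCommGroup F₀] [Module R F₀]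
    [Module.Finite R F₀] [Module.Free R F₀] (d : Decomp R (P × F₀))
    (hsurj : Function.Surjective (d.q (LinearMap.snd R P F₀))) (s : P)
    (hs : (d.E (s, 0)).2 = 0) :
    ∃ K K' : Submodule R P, IsCompl K K' ∧ Module.Finite R K ∧ Module.IsStablyFree R K ∧
      s ∈ K := by
  classical
  set q : d.A →ₗ[R] F₀ := d.q (LinearMap.snd R P F₀) with hq
  obtain ⟨σ, hσ⟩ := LinearMap.exists_rightInverse_of_surjective q
    (LinearMap.range_eq_top.mpr hsurj)
  have hσ' : ∀ f, q (σ f) = f := fun f => LinearMap.congr_fun hσ f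
  let eA : d.A ≃ₗ[R] F₀ × LinearMap.ker q := Groth.Agent.Lib.Helper10.splitEquiv q σ hσ
  have hfree : Module.Free R (F₀ × LinearMap.ker q) := Module.Free.of_equiv eA
  have hsf : Module.IsStablyFree R (LinearMap.ker q) :=
    Module.IsStablyFree.of_free_prod' R (LinearMap.ker q) F₀
  have hfin : Module.Finite R (LinearMap.ker q) :=
    Module.Finite.of_surjective ((LinearMap.snd R _ _) ∘ₗ eA.toLinearMap) (by
      intro k
      exact ⟨eA.symm (0, k), by simp⟩)
  -- the summand
  let κ : P →ₗ[R] d.C := LinearMap.snd R d.A d.C ∘ₗ d.E.toLinearMap ∘ₗ LinearMap.inl R P F₀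
  have hK : ∀ p : P, p ∈ LinearMap.ker κ ↔ (d.E (p, 0)).2 = 0 := fun p => Iff.rfl
  have hEK : ∀ p ∈ LinearMap.ker κ, d.E (p, 0) = ((d.E (p, 0)).1, 0) :=
    fun p hp => Prod.ext rfl ((hK p).mp hp)
  let toQ : LinearMap.ker κ →ₗ[R] LinearMap.ker q :=
    LinearMap.codRestrict (LinearMap.ker q)
      (LinearMap.fst R d.A d.C ∘ₗ d.E.toLinearMap ∘ₗ LinearMap.inl R P F₀ ∘ₗ
        (LinearMap.ker κ).subtype) (by
      intro p
      rw [LinearMap.mem_ker, hq, Decomp.q_apply]
      simp only [LinearMap.comp_apply, LinearEquiv.coe_coe, LinearMap.inl_apply,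
        LinearMap.fst_apply, Submodule.subtype_apply]
      rw [← hEK p p.2, d.E.symm_apply_apply]
      rfl)
  have hfromQ : ∀ v : LinearMap.ker q,
      ((d.E.symm ((v : d.A), 0)).1, (0 : F₀)) = d.E.symm ((v : d.A), 0) := by
    intro v
    have h1 : (d.E.symm ((v : d.A), 0)).2 = 0 := v.2
    exact Prod.ext rfl h1.symm
  let fromQ : LinearMap.ker q →ₗ[R] LinearMap.ker κ :=
    LinearMap.codRestrict (LinearMap.ker κ)
      (LinearMap.fst R P F₀ ∘ₗ d.E.symm.toLinearMap ∘ₗ LinearMap.inl R d.A d.C ∘ₗ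
        (LinearMap.ker q).subtype) (by
      intro v
      rw [hK]
      simp only [LinearMap.comp_apply, LinearEquiv.coe_coe, LinearMap.inl_apply,
        LinearMap.fst_apply, Submodule.subtype_apply]
      rw [hfromQ v, d.E.apply_symm_apply])
  have hft : ∀ p : LinearMap.ker κ, fromQ (toQ p) = p := by
    intro p
    apply Subtype.ext
    show (d.E.symm ((d.E ((p : P), 0)).1, 0)).1 = (p : P)
    rw [← hEK p p.2, d.E.symm_apply_apply]
  have htf : ∀ v : LinearMap.ker q, toQ (fromQ v) = v := by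
    intro v
    apply Subtype.ext
    show (d.E ((d.E.symm ((v : d.A), 0)).1, 0)).1 = (v : d.A)
    rw [hfromQ v, d.E.apply_symm_apply]
  let θ : LinearMap.ker κ ≃ₗ[R] LinearMap.ker q :=
    { toQ with
      invFun := fromQ
      left_inv := hft
      right_inv := htf }
  have hKfin : Module.Finite R (LinearMap.ker κ) := Module.Finite.equiv θ.symm
  have hKsf : Module.IsStablyFree R (LinearMap.ker κ) := Module.IsStablyFree.equiv θ.symm
  -- the retraction
  let projQ : d.A →ₗ[R] LinearMap.ker q :=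
    LinearMap.codRestrict (LinearMap.ker q) (LinearMap.id - σ ∘ₗ q) (by
      intro v
      rw [LinearMap.mem_ker, LinearMap.sub_apply, LinearMap.id_apply, LinearMap.comp_apply,
        map_sub, hσ', sub_self])
  let πK : P →ₗ[R] LinearMap.ker κ :=
    fromQ ∘ₗ projQ ∘ₗ (LinearMap.fst R d.A d.C ∘ₗ d.E.toLinearMap ∘ₗ LinearMap.inl R P F₀)
  have hπK : ∀ p : LinearMap.ker κ, πK (p : P) = p := by
    intro p
    have h1 : projQ ((d.E ((p : P), 0)).1) = toQ p := by
      apply Subtype.ext
      show (d.E ((p : P), 0)).1 - σ (q ((d.E ((p : P), 0)).1)) = (toQ p : d.A)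
      have h2 : q ((d.E ((p : P), 0)).1) = 0 := (toQ p).2
      rw [h2, map_zero, sub_zero]
      rfl
    show fromQ (projQ ((d.E ((p : P), 0)).1)) = p
    rw [h1, hft]
  exact ⟨LinearMap.ker κ, LinearMap.ker πK, LinearMap.isCompl_of_proj hπK, hKfin, hKsf,
    (hK s).mpr hs⟩

/-- A retraction onto a finite free module gives a decomposition. -/
theorem exists_decomp_of_retraction {N A : Type u} [AddCommGroup N] [Module R N]
    [Module.Projective R N] (hN : Big R N) [AddCommGroup A] [Module R A] [Module.Finite R A]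
    [Module.Free R A] (ρ : N →ₗ[R] A) (j : A →ₗ[R] N) (h : ρ ∘ₗ j = LinearMap.id) (x : N)
    (hx : j (ρ x) = x) : ∃ d : Decomp R N, (d.E x).2 = 0 := by
  refine ⟨Decomp.ofEquiv hN A (LinearMap.ker ρ) (Groth.Agent.Lib.Helper10.splitEquiv ρ j h), ?_⟩
  show ((Groth.Agent.Lib.Helper10.splitEquiv ρ j h) x).2 = 0
  apply Subtype.ext
  show x - j (ρ x) = 0
  rw [hx, sub_self]

/-- Stage one: a decomposition `P × F₀ ≅ A × C` with `(s, 0) ∈ A`. -/
theorem exists_decomp [Module.Projective R P] (hbig : Big R P) (s : P) :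
    ∃ (F₀ : Type u) (_ : AddCommGroup F₀) (_ : Module R F₀) (_ : Module.Finite R F₀)
      (_ : Module.Free R F₀) (d : Decomp R (P × F₀)), (d.E (s, 0)).2 = 0 := by
  classical
  obtain ⟨ι, hfree⟩ := Groth.Agent.Lib.Helper10.exists_free_prod_free_of_projective R P
  let B := Module.Free.chooseBasis R (P × (ι →₀ R))
  set x : P × (ι →₀ R) := (s, 0) with hx
  let β₀ : Finset (Module.Free.ChooseBasisIndex R (P × (ι →₀ R))) := (B.repr x).support
  let ι₀ : Finset ι := β₀.biUnion (fun i => (B i).2.support)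
  let e₀ : ↥(Finsupp.supported R R (ι₀ : Set ι)) ≃ₗ[R] ((ι₀ : Set ι) →₀ R) :=
    Finsupp.supportedEquivFinsupp (ι₀ : Set ι)
  haveI : Module.Finite R ↥(Finsupp.supported R R (ι₀ : Set ι)) := Module.Finite.equiv e₀.symm
  haveI : Module.Free R ↥(Finsupp.supported R R (ι₀ : Set ι)) := Module.Free.of_equiv e₀.symm
  let incl : (P × ↥(Finsupp.supported R R (ι₀ : Set ι))) →ₗ[R] (P × (ι →₀ R)) :=
    LinearMap.prodMap LinearMap.id (Submodule.subtype _)
  let res : (P × (ι →₀ R)) →ₗ[R] (P × ↥(Finsupp.supported R R (ι₀ : Set ι))) :=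
    LinearMap.prodMap LinearMap.id (Finsupp.restrictDom R R (ι₀ : Set ι))
  have hres : ∀ y, res (incl y) = y := by
    rintro ⟨p, f⟩
    have := LinearMap.congr_fun (Finsupp.restrictDom_comp_subtype (M := R) (R := R)
      (ι₀ : Set ι)) f
    exact Prod.ext rfl this
  have hincl : ∀ n : P × (ι →₀ R), n.2 ∈ Finsupp.supported R R (ι₀ : Set ι) →
      incl (res n) = n := by
    rintro ⟨p, f⟩ hf
    have h1 := hres (p, ⟨f, hf⟩)
    have h2 : incl (p, ⟨f, hf⟩) = (p, f) := rfl
    rw [← h2, h1]
  have hB : ∀ i ∈ β₀, (B i).2 ∈ Finsupp.supported R R (ι₀ : Set ι) := by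
    intro i hi
    rw [Finsupp.mem_supported]
    intro k hk
    exact Finset.mem_biUnion.mpr ⟨i, hi, hk⟩
  let ρ₀ : (P × ↥(Finsupp.supported R R (ι₀ : Set ι))) →ₗ[R] (β₀ → R) :=
    LinearMap.pi (fun i : β₀ => B.coord i) ∘ₗ incl
  let j : (β₀ → R) →ₗ[R] (P × ↥(Finsupp.supported R R (ι₀ : Set ι))) :=
    res ∘ₗ Fintype.linearCombination R (fun i : β₀ => B i)
  have hinclj : ∀ v : β₀ → R, incl (j v) = ∑ i : β₀, v i • B i := by
    intro v
    show incl (res (Fintype.linearCombination R (fun i : β₀ => B i) v)) = _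
    rw [Fintype.linearCombination_apply]
    refine hincl _ ?_
    rw [Prod.snd_sum]
    refine Submodule.sum_mem _ (fun i _ => ?_)
    rw [Prod.smul_snd]
    exact Submodule.smul_mem _ _ (hB i i.2)
  have hρj : ρ₀ ∘ₗ j = LinearMap.id := by
    apply LinearMap.ext
    intro v
    funext k
    show B.coord k (incl (j v)) = v k
    rw [hinclj, map_sum]
    simp only [map_smul, Basis.coord_apply, Basis.repr_self, smul_eq_mul]
    rw [Finset.sum_eq_single k]
    · simp
    · intro i _ hik
      rw [Finsupp.single_eq_of_ne, mul_zero]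
      exact fun h => hik (Subtype.ext h.symm)
    · intro h; exact absurd (Finset.mem_univ k) h
  have hbigN : Big R (P × ↥(Finsupp.supported R R (ι₀ : Set ι))) := hbig.prod_left _
  suffices hxj : j (ρ₀ (s, 0)) = (s, 0) by
    obtain ⟨d, hd⟩ := exists_decomp_of_retraction hbigN ρ₀ j hρj (s, 0) hxj
    exact ⟨↥(Finsupp.supported R R (ι₀ : Set ι)), inferInstance, inferInstance, inferInstance,
      inferInstance, d, hd⟩
  have h1 : incl (j (ρ₀ (s, 0))) = x := by
    rw [hinclj]
    have h2 : ∀ i : β₀, ρ₀ (s, 0) i = B.repr x i := fun i => rfl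
    simp only [h2]
    have h3 := B.linearCombination_repr x
    rw [Finsupp.linearCombination_apply, Finsupp.sum] at h3
    exact (Finset.sum_coe_sort β₀ (fun i => (B.repr x) i • B i)).trans h3
  have h4 : incl ((s, 0) : P × ↥(Finsupp.supported R R (ι₀ : Set ι))) = x := rfl
  have hinj : Function.Injective incl := by
    intro y z hyz
    rw [← hres y, ← hres z, hyz]
  exact hinj (h1.trans h4.symm)

/-- **Bass**: in a big projective module, every element lies in a finite stably free direct
summand. -/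
theorem exists_stablyFree_summand [IsNoetherianRing (R ⧸ (⊥ : Ideal R).jacobson)]
    [Module.Projective R P] (hbig : Big R P) (s : P) :
    ∃ K K' : Submodule R P, IsCompl K K' ∧ Module.Finite R K ∧ Module.IsStablyFree R K ∧
      s ∈ K := by
  obtain ⟨F₀, _, _, _, _, d, hd⟩ := exists_decomp hbig s
  obtain ⟨d', hsurj, hpres⟩ := d.exists_surjective (LinearMap.snd R P F₀)
    LinearMap.snd_surjective
  exact exists_summand_of_decomp d' hsurj s (hpres _ hd)

end Groth.Agent.R2.H18.BigProj
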