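import Mathlib
import Groth.Agent.R2.H18BigProjC
import Groth.Agent.Lib.Helper14Kaplansky
import Groth.Prelude.Def_Found

/-!
# helper18 (round 2): Bass's theorem — countably generated big projective modules are free
-/

set_option autoImplicit false
universe u

namespace Groth.Agent.R2.H18.BigProj

open Module

variable {R : Type u} [CommRing R]

/-- A big projective module contains free direct summands of every finite rank. -/
theorem exists_free_summand_fin [IsNoetherianRing (R ⧸ (⊥ : Ideal R).jacobson)] (a : ℕ) :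
    ∀ (C : Type u) [AddCommGroup C] [Module R C] [Module.Projective R C], Big R C →
      ∃ (c : (Fin a → R) →ₗ[R] C) (ρ : C →ₗ[R] (Fin a → R)), ρ ∘ₗ c = LinearMap.id := by
  induction a with
  | zero =>
    intro C _ _ _ _
    exact ⟨0, 0, LinearMap.ext fun v => Subsingleton.elim _ _⟩
  | succ a ih =>
    intro C _ _ _ hC
    obtain ⟨m, -, φ, hφ⟩ := exists_unimodular_add_mem_of_big hC (0 : C) ⊤ (by simp)
    rw [zero_add] at hφ
    let e₁ : C ≃ₗ[R] (LinearMap.ker φ) × R := Serre.equivKerProd m φ hφ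
    have he₁symm : ∀ (k : LinearMap.ker φ) (t : R), e₁.symm (k, t) = (k : C) + t • m :=
      fun k t => rfl
    have he₁fst : ∀ k : LinearMap.ker φ, e₁ (k : C) = (k, 0) := by
      intro k
      rw [← LinearEquiv.eq_symm_apply, he₁symm, zero_smul, add_zero]
    have hproj : Module.Projective R (LinearMap.ker φ) :=
      Module.Projective.of_split (LinearMap.ker φ).subtype
        ((LinearMap.fst R _ _) ∘ₗ e₁.toLinearMap) (by
          ext k
          simp [he₁fst])
    have hbig : Big R (LinearMap.ker φ) := by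
      have h1 : Big R (R × LinearMap.ker φ) :=
        Big.of_equiv (e₁ ≪≫ₗ LinearEquiv.prodComm R _ _) hC
      exact Big.of_prod_finite h1
    obtain ⟨c₁, ρ₁, h₁⟩ := ih (LinearMap.ker φ) hbig
    have h₁' : ∀ v, ρ₁ (c₁ v) = v := fun v => LinearMap.congr_fun h₁ v
    let eF : (Fin (a + 1) → R) ≃ₗ[R] R × (Fin a → R) :=
      (Fin.consLinearEquiv R (fun _ : Fin (a + 1) => R)).symm
    let c : (Fin (a + 1) → R) →ₗ[R] C :=
      e₁.symm.toLinearMap ∘ₗ (LinearMap.prodMap c₁ LinearMap.id) ∘ₗ
        (LinearEquiv.prodComm R R (Fin a → R)).toLinearMap ∘ₗ eF.toLinearMap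
    let ρ : C →ₗ[R] (Fin (a + 1) → R) :=
      eF.symm.toLinearMap ∘ₗ (LinearEquiv.prodComm R R (Fin a → R)).symm.toLinearMap ∘ₗ
        (LinearMap.prodMap ρ₁ LinearMap.id) ∘ₗ e₁.toLinearMap
    refine ⟨c, ρ, ?_⟩
    apply LinearMap.ext
    intro v
    simp only [c, ρ, LinearMap.comp_apply, LinearEquiv.coe_coe, LinearEquiv.apply_symm_apply,
      LinearMap.prodMap_apply, LinearMap.id_apply, h₁', LinearEquiv.symm_apply_apply]
    simp

/-- Every element of a big projective module lies in a finite free direct summand. -/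
theorem exists_split_big [IsNoetherianRing (R ⧸ (⊥ : Ideal R).jacobson)]
    {Q : Type u} [AddCommGroup Q] [Module R Q] [Module.Projective R Q] (hQ : Big R Q) (x : Q) :
    ∃ (A : Type u) (_ : AddCommGroup A) (_ : Module R A) (_ : Module.Free R A)
      (_ : Module.Finite R A) (c : A →ₗ[R] Q) (ρ : Q →ₗ[R] A),
      ρ ∘ₗ c = LinearMap.id ∧ x ∈ LinearMap.range c := by
  classical
  obtain ⟨K, K', hKK', hKfin, hKsf, hxK⟩ := exists_stablyFree_summand hQ x
  obtain ⟨N, _, _, hNfin, hNfree, hKN⟩ := Module.IsStablyFree.exist_free_prod R K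
  let e : (K × K') ≃ₗ[R] Q := Submodule.prodEquivOfIsCompl K K' hKK'
  have hprojKK' : Module.Projective R (K × K') := Module.Projective.of_equiv e.symm
  have hprojK' : Module.Projective R K' :=
    Module.Projective.of_split (LinearMap.inr R K K') (LinearMap.snd R K K')
      (LinearMap.ext fun _ => rfl)
  have hbigK' : Big R K' := Big.of_prod_finite (Big.of_equiv e.symm hQ)
  -- `N` is free of finite rank
  obtain ⟨aN, ⟨eN⟩⟩ : ∃ aN : ℕ, Nonempty (N ≃ₗ[R] (Fin aN → R)) := by
    rcases subsingleton_or_nontrivial R with hR | hR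
    · haveI := Module.subsingleton R N
      exact ⟨0, ⟨LinearEquiv.ofSubsingleton _ _⟩⟩
    · exact ⟨Module.finrank R N, ⟨(Module.finBasis R N).equivFun⟩⟩
  obtain ⟨c', ρ', h'⟩ := exists_free_summand_fin aN K' hbigK'
  have h'' : ∀ v, ρ' (c' v) = v := fun v => LinearMap.congr_fun h' v
  let c : (K × N) →ₗ[R] Q :=
    e.toLinearMap ∘ₗ LinearMap.prodMap LinearMap.id (c' ∘ₗ eN.toLinearMap)
  let ρ : Q →ₗ[R] (K × N) :=
    LinearMap.prodMap LinearMap.id (eN.symm.toLinearMap ∘ₗ ρ') ∘ₗ e.symm.toLinearMap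
  refine ⟨K × N, inferInstance, inferInstance, hKN, inferInstance, c, ρ, ?_, ?_⟩
  · apply LinearMap.ext
    rintro ⟨k, n⟩
    simp only [c, ρ, LinearMap.comp_apply, LinearEquiv.coe_coe, LinearEquiv.symm_apply_apply,
      LinearMap.prodMap_apply, LinearMap.id_apply, h'', LinearEquiv.symm_apply_apply]
  · refine ⟨(⟨x, hxK⟩, 0), ?_⟩
    simp only [c, LinearMap.comp_apply, LinearMap.prodMap_apply, LinearMap.id_apply, map_zero,
      LinearEquiv.coe_coe]
    show (Submodule.prodEquivOfIsCompl K K' hKK') (⟨x, hxK⟩, 0) = x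
    rw [Submodule.coe_prodEquivOfIsCompl']
    simp

variable {P : Type u} [AddCommGroup P] [Module R P]

/-- One step: enlarge an independent family of free submodules (whose sum is a direct summand
with big complement) so that it contains a given element. -/
theorem exists_step_big [IsNoetherianRing (R ⧸ (⊥ : Ideal R).jacobson)] [Module.Projective R P]
    (𝒞 : Set (Submodule R P)) (Q : Submodule R P)
    (hind : sSupIndep 𝒞) (hfree : ∀ C ∈ 𝒞, Module.Free R C) (hc : IsCompl (sSup 𝒞) Q)
    (hQbig : Big R Q) (x : P) :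
    ∃ (𝒞' : Set (Submodule R P)) (Q' : Submodule R P), 𝒞 ⊆ 𝒞' ∧ sSupIndep 𝒞' ∧
      (∀ C ∈ 𝒞', Module.Free R C) ∧ IsCompl (sSup 𝒞') Q' ∧ Big R Q' ∧ x ∈ sSup 𝒞' := by
  classical
  have hQproj : Module.Projective R Q :=
    Module.Projective.of_split Q.subtype (Q.projectionOnto _ hc.symm)
      (Submodule.projectionOnto_comp_subtype hc.symm)
  obtain ⟨a, ha, q, hq, rfl⟩ : ∃ a ∈ sSup 𝒞, ∃ q ∈ Q, a + q = x := by
    have : x ∈ sSup 𝒞 ⊔ Q := by rw [hc.sup_eq_top]; trivial
    exact Submodule.mem_sup.mp this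
  obtain ⟨A, _, _, hAfree, hAfin, c, ρ, hρc, hqc⟩ := exists_split_big hQbig (⟨q, hq⟩ : Q)
  have hcinj : Function.Injective c := by
    apply Function.LeftInverse.injective (g := ρ)
    intro w
    exact LinearMap.congr_fun hρc w
  let P' : Submodule R P := LinearMap.range (Q.subtype ∘ₗ c)
  let Q' : Submodule R P := (LinearMap.ker ρ).map Q.subtype
  have hP'Q : P' ≤ Q := by
    rintro _ ⟨w, rfl⟩
    exact (c w).2
  have hQ'Q : Q' ≤ Q := by
    rintro _ ⟨z, _, rfl⟩
    exact z.2
  have hP'free : Module.Free R P' := by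
    have hinj : Function.Injective (Q.subtype ∘ₗ c) := Q.injective_subtype.comp hcinj
    exact Module.Free.of_equiv (LinearEquiv.ofInjective (Q.subtype ∘ₗ c) hinj)
  have hdisj1 : Disjoint P' Q' := by
    rw [Submodule.disjoint_def]
    rintro _ ⟨w, rfl⟩ ⟨z, hz, hzw⟩
    have h1 : z = c w := Subtype.ext hzw
    replace hz : ρ z = 0 := hz
    rw [h1] at hz
    have h2 : w = 0 := by
      have := LinearMap.congr_fun hρc w
      simp only [LinearMap.coe_comp, Function.comp_apply, LinearMap.id_apply] at this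
      rw [← this, hz]
    rw [h2, map_zero]
  have hsup1 : P' ⊔ Q' = Q := by
    apply le_antisymm (sup_le hP'Q hQ'Q)
    intro z hz
    let z' : Q := ⟨z, hz⟩
    have h1 : z' - c (ρ z') ∈ LinearMap.ker ρ := by
      rw [LinearMap.mem_ker, map_sub]
      have := LinearMap.congr_fun hρc (ρ z')
      simp only [LinearMap.coe_comp, Function.comp_apply, LinearMap.id_apply] at this
      rw [this, sub_self]
    have h2 : z = ((c (ρ z') : Q) : P) + ((z' - c (ρ z') : Q) : P) := by
      simp [z']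
    rw [h2]
    exact Submodule.add_mem _ (Submodule.mem_sup_left ⟨ρ z', rfl⟩)
      (Submodule.mem_sup_right ⟨_, h1, rfl⟩)
  have hdisjA : Disjoint P' (sSup 𝒞) := (hc.disjoint.mono_right hP'Q).symm
  have hQ'big : Big R Q' := by
    have h1 : Big R (A × LinearMap.ker ρ) :=
      Big.of_equiv (Groth.Agent.Lib.Helper10.splitEquiv ρ c hρc) hQbig
    have h2 : Big R (LinearMap.ker ρ) := Big.of_prod_finite h1
    exact Big.of_equiv (Submodule.equivMapOfInjective Q.subtype Q.injective_subtype
      (LinearMap.ker ρ)) h2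
  refine ⟨insert P' 𝒞, Q', Set.subset_insert _ _,
    Groth.Agent.Lib.Helper14.Kaplansky.sSupIndep_insert hind hdisjA, ?_, ?_, hQ'big, ?_⟩
  · intro C hC
    rcases hC with rfl | hC
    · exact hP'free
    · exact hfree C hC
  · rw [sSup_insert, sup_comm]
    constructor
    · apply Disjoint.disjoint_sup_left_of_disjoint_sup_right hdisj1
      rw [hsup1]
      exact hc.disjoint
    · rw [codisjoint_iff, sup_assoc, hsup1]
      exact hc.sup_eq_top
  · rw [sSup_insert]
    apply Submodule.add_mem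
    · exact Submodule.mem_sup_right ha
    · apply Submodule.mem_sup_left
      obtain ⟨w, hw⟩ := hqc
      exact ⟨w, by rw [LinearMap.comp_apply, hw]; rfl⟩

/-- A module which is the internal direct sum of free submodules is free. -/
theorem free_of_sSupIndep' (𝒞 : Set (Submodule R P)) (hind : sSupIndep 𝒞)
    (hfree : ∀ C ∈ 𝒞, Module.Free R C) (htop : sSup 𝒞 = ⊤) : Module.Free R P := by
  classical
  have key := (DirectSum.isInternal_submodule_iff_iSupIndep_and_iSup_eq_top
    (fun C : 𝒞 => C.1)).mpr ⟨(sSupIndep_iff 𝒞).mp hind, by rw [← sSup_eq_iSup']; exact htop⟩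
  have : ∀ C : 𝒞, Module.Free R C.1 := fun C => hfree C.1 C.2
  have hfr : Module.Free R (DirectSum 𝒞 fun C => C.1) :=
    inferInstanceAs (Module.Free R (Π₀ C : 𝒞, C.1))
  exact Module.Free.of_equiv (LinearEquiv.ofBijective (DirectSum.coeLinearMap _) key)

/-- **Bass**: a countably generated big projective module is free. -/
theorem free_of_countablyGenerated_big [IsNoetherianRing (R ⧸ (⊥ : Ideal R).jacobson)]
    [Module.Projective R P] (hbig : Big R P)
    (hcg : CAlg.IsCountablyGenerated R P) : Module.Free R P := by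
  classical
  obtain ⟨s, hs, hspan⟩ := hcg
  have hs' : (s ∪ {0}).Countable := hs.union (Set.countable_singleton 0)
  obtain ⟨x, hx⟩ := hs'.exists_eq_range ⟨0, Or.inr rfl⟩
  have hxspan : Submodule.span R (Set.range x) = ⊤ := by
    rw [← hx, eq_top_iff, ← hspan]
    exact Submodule.span_mono Set.subset_union_left
  -- stages
  let St : Type u := {p : Set (Submodule R P) × Submodule R P //
    sSupIndep p.1 ∧ (∀ C ∈ p.1, Module.Free R C) ∧ IsCompl (sSup p.1) p.2 ∧ Big R p.2}
  have hstep : ∀ (p : St) (y : P), ∃ p' : St, p.1.1 ⊆ p'.1.1 ∧ y ∈ sSup p'.1.1 := by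
    intro p y
    obtain ⟨𝒞', Q', h1, h2, h3, h4, h5, h6⟩ :=
      exists_step_big p.1.1 p.1.2 p.2.1 p.2.2.1 p.2.2.2.1 p.2.2.2.2 y
    exact ⟨⟨(𝒞', Q'), h2, h3, h4, h5⟩, h1, h6⟩
  choose next hnext1 hnext2 using hstep
  let p₀ : St := ⟨(∅, ⊤), by
    refine ⟨?_, ?_, ?_, ?_⟩
    · intro a ha; exact absurd ha (Set.notMem_empty a)
    · intro C hC; exact absurd hC (Set.notMem_empty C)
    · rw [sSup_empty]; exact isCompl_bot_top
    · exact Big.of_equiv (Submodule.topEquiv (R := R) (M := P)).symm hbig⟩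
  let st : ℕ → St := fun n => Nat.rec (motive := fun _ => St) p₀ (fun n p => next p (x n)) n
  have hst1 : ∀ n : ℕ, (st n).1.1 ⊆ (st (n + 1)).1.1 := fun n => hnext1 _ _
  have hst2 : ∀ n : ℕ, x n ∈ sSup (st (n + 1)).1.1 := fun n => hnext2 _ _
  have hmono : Monotone fun n : ℕ => (st n).1.1 := monotone_nat_of_le_succ hst1
  apply free_of_sSupIndep' (⋃ n, (st n).1.1)
  · apply sSupIndep_iUnion_of_directed hmono.directed_le
    exact fun n => (st n).2.1
  · intro C hC
    obtain ⟨n, hn⟩ := Set.mem_iUnion.mp hC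
    exact (st n).2.2.1 C hn
  · rw [eq_top_iff, ← hxspan, Submodule.span_le]
    rintro _ ⟨n, rfl⟩
    exact sSup_le_sSup (Set.subset_iUnion (fun n => (st n).1.1) (n + 1)) (hst2 n)

end Groth.Agent.R2.H18.BigProj
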