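import Mathlib
import Groth.Agent.Lib.Helper26HenselIdem

/-!
# Ideals of `R[s]` avoiding the special fibre: common lemmas (helper18)
-/

set_option autoImplicit false
set_option linter.unusedSectionVars false

open Polynomial IsLocalRing

namespace Groth.Agent.R2.H18.FibreIdeals

universe u

section Jac

variable {R : Type u} [CommRing R] [IsLocalRing R]

/-- the root of a monic polynomial `≡ t ^ N` modulo `m` lies in the Jacobson radical of `R[t]/(P)` -/
theorem root_mem_jacobson (P : R[X]) (hP : P.Monic)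
    (hlow : ∀ i < P.natDegree, P.coeff i ∈ maximalIdeal R) :
    AdjoinRoot.root P ∈ (⊥ : Ideal (AdjoinRoot P)).jacobson := by
  haveI : Module.Finite R (AdjoinRoot P) := hP.finite_adjoinRoot
  haveI : Algebra.IsIntegral R (AdjoinRoot P) := Algebra.IsIntegral.of_finite R (AdjoinRoot P)
  have hmjac : maximalIdeal R ≤ (⊥ : Ideal R).jacobson := by
    rw [IsLocalRing.jacobson_eq_maximalIdeal ⊥ bot_ne_top]
  have h1 := Groth.Agent.Lib.Helper26.HenselIdem.map_le_jacobson_of_isIntegral
    (B := AdjoinRoot P) (maximalIdeal R) hmjac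
  apply (Ideal.isRadical_jacobson (⊥ : Ideal (AdjoinRoot P)))
  refine ⟨P.natDegree, h1 ?_⟩
  -- `root ^ N = -(lower terms)`
  have h2 : Polynomial.aeval (AdjoinRoot.root P) P = 0 := by
    rw [AdjoinRoot.aeval_eq, AdjoinRoot.mk_self]
  rw [Polynomial.aeval_eq_sum_range, Finset.sum_range_succ, hP.coeff_natDegree, one_smul] at h2
  have h3 : AdjoinRoot.root P ^ P.natDegree =
      -∑ i ∈ Finset.range P.natDegree, P.coeff i • AdjoinRoot.root P ^ i := by
    linear_combination h2
  rw [h3]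
  refine neg_mem (Ideal.sum_mem _ fun i hi => ?_)
  rw [Algebra.smul_def]
  exact Ideal.mul_mem_right _ _ (Ideal.mem_map_of_mem _ (hlow i (Finset.mem_range.mp hi)))

/-- polynomials with unit constant coefficient become units in `R[t]/(P)` -/
theorem isUnit_mk_of_coeff_zero (P : R[X]) (hP : P.Monic)
    (hlow : ∀ i < P.natDegree, P.coeff i ∈ maximalIdeal R) (f : R[X]) (hf : IsUnit (f.coeff 0)) :
    IsUnit (AdjoinRoot.mk P f) := by
  have h1 : f = C (f.coeff 0) + X * divX f := by
    conv_lhs => rw [← divX_mul_X_add f]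
    ring
  rw [h1, map_add, map_mul, AdjoinRoot.mk_X]
  obtain ⟨v, hv⟩ := ((hf.map C).map (AdjoinRoot.mk P)).exists_right_inv
  have hj := Ideal.mem_jacobson_bot.mp (root_mem_jacobson P hP hlow) (AdjoinRoot.mk P (divX f) * v)
  have h2 : AdjoinRoot.mk P (C (f.coeff 0)) + AdjoinRoot.root P * AdjoinRoot.mk P (divX f) =
      AdjoinRoot.mk P (C (f.coeff 0)) *
        (AdjoinRoot.root P * (AdjoinRoot.mk P (divX f) * v) + 1) := by
    linear_combination (-(AdjoinRoot.root P * AdjoinRoot.mk P (divX f))) * hv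
  rw [h2]
  exact ((hf.map C).map (AdjoinRoot.mk P)).mul hj

/-- an ideal comaximal with `m R[s]` contains a polynomial `≡ 1` modulo `m` -/
theorem exists_good_element (I : Ideal R[X])
    (hI : I ⊔ (maximalIdeal R).map (algebraMap R R[X]) = ⊤) :
    ∃ g ∈ I, IsUnit (g.coeff 0) ∧ (∀ i, 0 < i → g.coeff i ∈ maximalIdeal R) ∧
      1 - g ∈ (maximalIdeal R).map (algebraMap R R[X]) := by
  have h1 : (1 : R[X]) ∈ I ⊔ (maximalIdeal R).map (algebraMap R R[X]) := by rw [hI]; trivial
  obtain ⟨g, hg, μ, hμ, hsum⟩ := Submodule.mem_sup.mp h1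
  have hμ' : ∀ n, μ.coeff n ∈ maximalIdeal R := by
    rw [Polynomial.algebraMap_eq] at hμ
    exact Ideal.mem_map_C_iff.mp hμ
  have hgμ : g = 1 - μ := by rw [← hsum]; ring
  refine ⟨g, hg, ?_, ?_, ?_⟩
  · rw [hgμ, coeff_sub, coeff_one_zero]
    exact IsLocalRing.isUnit_one_sub_self_of_mem_nonunits _ (hμ' 0)
  · intro i hi
    rw [hgμ, coeff_sub, coeff_one, if_neg (Nat.pos_iff_ne_zero.mp hi), zero_sub]
    exact neg_mem (hμ' i)
  · rw [hgμ, sub_sub_cancel]
    exact hμ

/-- the reflected polynomial of a good element, normalised to be monic -/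
theorem reflect_props (g : R[X]) (uinv : R) (hu : g.coeff 0 * uinv = 1)
    (hg : ∀ i, 0 < i → g.coeff i ∈ maximalIdeal R) :
    (C uinv * reflect g.natDegree g).Monic ∧
      (C uinv * reflect g.natDegree g).natDegree = g.natDegree ∧
      ∀ i < g.natDegree, (C uinv * reflect g.natDegree g).coeff i ∈ maximalIdeal R := by
  set N := g.natDegree with hN
  have hcoeff : ∀ i, (C uinv * reflect N g).coeff i = uinv * g.coeff (revAt N i) := by
    intro i
    rw [coeff_C_mul, coeff_reflect]
  have hN1 : (C uinv * reflect N g).coeff N = 1 := by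
    rw [hcoeff, revAt_le le_rfl, Nat.sub_self, mul_comm, hu]
  have hle : (C uinv * reflect N g).natDegree ≤ N := by
    rw [Polynomial.natDegree_le_iff_coeff_eq_zero]
    intro i hi
    have h1 : revAt N i = i := by
      rw [revAt]
      simp [not_le.mpr hi]
    rw [hcoeff, h1, Polynomial.coeff_eq_zero_of_natDegree_lt hi, mul_zero]
  have hmonic : (C uinv * reflect N g).Monic :=
    Polynomial.monic_of_natDegree_le_of_coeff_eq_one N hle hN1
  refine ⟨hmonic, le_antisymm hle ?_, ?_⟩
  · apply Polynomial.le_natDegree_of_ne_zero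
    rw [hN1]
    exact one_ne_zero
  · intro i hi
    rw [hcoeff, revAt_le hi.le]
    exact Ideal.mul_mem_left _ _ (hg _ (Nat.sub_pos_of_lt hi))

/-- the reflected polynomial vanishes at the inverse of a root -/
theorem aeval_reflect_eq_zero {S : Type*} [CommRing S] [Algebra R S] (g : R[X]) (uinv : R) (x y : S)
    (hxy : x * y = 1) (hgx : Polynomial.aeval x g = 0) :
    Polynomial.aeval y (C uinv * reflect g.natDegree g) = 0 := by
  letI : Invertible x := ⟨y, by rw [mul_comm]; exact hxy, hxy⟩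
  have h1 := Polynomial.eval₂_reflect_mul_pow (algebraMap R S) x g.natDegree g le_rfl
  have h2 : (⅟x : S) = y := rfl
  rw [h2, ← Polynomial.aeval_def, ← Polynomial.aeval_def, hgx] at h1
  have h3 : Polynomial.aeval y (reflect g.natDegree g) = 0 := by
    have h4 : Polynomial.aeval y (reflect g.natDegree g) * x ^ g.natDegree * y ^ g.natDegree = 0 := by
      rw [h1, zero_mul]
    rwa [mul_assoc, ← mul_pow, hxy, one_pow, mul_one] at h4
  rw [map_mul, h3, mul_zero]

end Jac

section Quot

variable {R : Type u} [CommRing R] [IsLocalRing R] (I : Ideal R[X]) (g : R[X]) (hg : g ∈ I) (uinv : R)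
  (hu : g.coeff 0 * uinv = 1)

/-- the inverse of the class of `s` in `R[s]/I` -/
noncomputable def tau : R[X] ⧸ I := Ideal.Quotient.mk I (-(C uinv * divX g))

include hg hu in
theorem mk_X_mul_tau : Ideal.Quotient.mk I X * tau I g uinv = 1 := by
  have h1 : g = C (g.coeff 0) + X * divX g := by
    conv_lhs => rw [← divX_mul_X_add g]
    ring
  have h2 : (X : R[X]) * -(C uinv * divX g) = 1 - C uinv * g := by
    have h3 : (C uinv : R[X]) * C (g.coeff 0) = 1 := by rw [← C_mul, mul_comm, hu, C_1]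
    conv_rhs => rw [h1]
    linear_combination h3
  rw [tau, ← map_mul, h2, map_sub, map_one, map_mul, Ideal.Quotient.eq_zero_iff_mem.mpr hg, mul_zero,
    sub_zero]

include hg hu in
/-- the map `R[t]/(P) → R[s]/I`, `t ↦ τ` -/
theorem exists_algHom_adjoinRoot :
    ∃ κ : AdjoinRoot (C uinv * reflect g.natDegree g) →ₐ[R] R[X] ⧸ I,
      ∀ f : R[X], κ (AdjoinRoot.mk _ f) = Polynomial.aeval (tau I g uinv) f := by
  have h0 : Polynomial.aeval (Ideal.Quotient.mk I X) g = 0 := by
    have h1 : Polynomial.aeval (Ideal.Quotient.mk I X) g = Ideal.Quotient.mkₐ R I (Polynomial.aeval X g) := by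
      rw [← Polynomial.aeval_algHom_apply]
      rfl
    rw [h1, Polynomial.aeval_X_left_apply]
    exact Ideal.Quotient.eq_zero_iff_mem.mpr hg
  have h2 := aeval_reflect_eq_zero g uinv _ _ (mk_X_mul_tau I g hg uinv hu) h0
  refine ⟨AdjoinRoot.liftAlgHom _ (Algebra.ofId R _) (tau I g uinv) ?_, fun f => ?_⟩
  · rw [← h2, Polynomial.aeval_def]
    rfl
  · rw [AdjoinRoot.liftAlgHom_mk, Polynomial.aeval_def]
    rfl

end Quot

section P1

variable {R : Type u} [CommRing R] [IsLocalRing R] (I : Ideal R[X]) (g : R[X]) (hg : g ∈ I) (uinv : R)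
  (hu : g.coeff 0 * uinv = 1)
  {Λ : Type u} [CommRing Λ] [Algebra R Λ] (T : Λ) (ψ : R[X] →ₐ[R] Λ) (hψ : ψ X * T = 1)
  (θ : Λ →+* R[X] ⧸ I) (hθR : ∀ r : R, θ (algebraMap R Λ r) = algebraMap R (R[X] ⧸ I) r)
  (hθT : θ T = tau I g uinv)

include hg hu hψ hθR hθT in
theorem theta_psi (x : R[X]) : θ (ψ x) = Ideal.Quotient.mk I x := by
  have h := Polynomial.ringHom_ext (f := θ.comp ψ.toRingHom) (g := Ideal.Quotient.mk I) (by
    intro r
    change θ (ψ (C r)) = _
    rw [Polynomial.C_eq_algebraMap, ψ.commutes, hθR]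
    rfl) (by
    change θ (ψ X) = _
    have h1 : θ (ψ X) * tau I g uinv = 1 := by rw [← hθT, ← map_mul, hψ, map_one]
    have h2 := mk_X_mul_tau I g hg uinv hu
    calc θ (ψ X) = θ (ψ X) * (Ideal.Quotient.mk I X * tau I g uinv) := by rw [h2, mul_one]
      _ = Ideal.Quotient.mk I X * (θ (ψ X) * tau I g uinv) := by ring
      _ = Ideal.Quotient.mk I X := by rw [h1, mul_one])
  exact congrArg (fun k => k x) h

include hg hu hψ hθR hθT in
theorem comap_map_eq : (I.map ψ.toRingHom).comap ψ.toRingHom = I := by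
  apply le_antisymm _ Ideal.le_comap_map
  intro x hx
  rw [Ideal.mem_comap] at hx
  have hle : I.map ψ.toRingHom ≤ RingHom.ker θ := by
    rw [Ideal.map_le_iff_le_comap]
    intro y hy
    rw [Ideal.mem_comap, RingHom.mem_ker]
    change θ (ψ y) = 0
    rw [theta_psi I g hg uinv hu T ψ hψ θ hθR hθT, Ideal.Quotient.eq_zero_iff_mem.mpr hy]
  have h1 := hle hx
  rw [RingHom.mem_ker] at h1
  change θ (ψ x) = 0 at h1
  rw [theta_psi I g hg uinv hu T ψ hψ θ hθR hθT] at h1
  exact Ideal.Quotient.eq_zero_iff_mem.mp h1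

include hg hu hψ hθR hθT in
theorem quotientMap_bijective (hsurj : ∀ l : Λ, ∃ x : R[X], l - ψ x ∈ I.map ψ.toRingHom) :
    Function.Bijective (Ideal.quotientMap (I.map ψ.toRingHom) ψ.toRingHom Ideal.le_comap_map) := by
  refine ⟨Ideal.quotientMap_injective' (le_of_eq
    (comap_map_eq I g hg uinv hu T ψ hψ θ hθR hθT)), ?_⟩
  intro y
  obtain ⟨l, rfl⟩ := Ideal.Quotient.mk_surjective y
  obtain ⟨x, hx⟩ := hsurj l
  refine ⟨Ideal.Quotient.mk I x, ?_⟩
  rw [Ideal.quotientMap_mk]
  exact (Ideal.Quotient.eq.mpr hx).symm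

end P1

section Sup

variable {R : Type u} [CommRing R] [IsLocalRing R] {Λ : Type u} [CommRing Λ] [Algebra R Λ]
  (ψ : R[X] →ₐ[R] Λ)

theorem map_sup_eq_top (I : Ideal R[X])
    (hI : I ⊔ (maximalIdeal R).map (algebraMap R R[X]) = ⊤) :
    I.map ψ.toRingHom ⊔ (maximalIdeal R).map (algebraMap R Λ) = ⊤ := by
  have h1 : (I ⊔ (maximalIdeal R).map (algebraMap R R[X])).map ψ.toRingHom = ⊤ := by
    rw [hI, Ideal.map_top]
  rw [Ideal.map_sup, Ideal.map_map] at h1
  have h2 : ψ.toRingHom.comp (algebraMap R R[X]) = algebraMap R Λ := ψ.comp_algebraMap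
  rwa [h2] at h1

/-- a monic polynomial `≡ t ^ a` in `J` gives an element `≡ 1` of the contraction of `J` -/
theorem comap_sup_eq_top_of_monic (T : Λ) (hψ : ψ X * T = 1) (J : Ideal Λ) (P : R[X]) (hP : P.Monic)
    (hlow : ∀ i < P.natDegree, P.coeff i ∈ maximalIdeal R) (hPJ : Polynomial.aeval T P ∈ J) :
    J.comap ψ.toRingHom ⊔ (maximalIdeal R).map (algebraMap R R[X]) = ⊤ := by
  set a := P.natDegree with ha
  set g' := reflect a P with hg'
  have hψaeval : ∀ q : R[X], ψ q = Polynomial.aeval (ψ X) q := by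
    intro q
    rw [Polynomial.aeval_algHom_apply, Polynomial.aeval_X_left_apply]
  have hmem : g' ∈ J.comap ψ.toRingHom := by
    rw [Ideal.mem_comap]
    change ψ g' ∈ J
    letI : Invertible T := ⟨ψ X, hψ, by rw [mul_comm]; exact hψ⟩
    have h1 := Polynomial.eval₂_reflect_mul_pow (algebraMap R Λ) T a P le_rfl
    have h2 : (⅟T : Λ) = ψ X := rfl
    rw [h2, ← Polynomial.aeval_def, ← Polynomial.aeval_def, ← hψaeval] at h1
    have h3 : ψ g' = Polynomial.aeval T P * ψ X ^ a := by
      rw [← h1, mul_assoc, ← mul_pow, mul_comm T, hψ, one_pow, mul_one]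
    rw [h3]
    exact Ideal.mul_mem_right _ _ hPJ
  have h1g : 1 - g' ∈ (maximalIdeal R).map (algebraMap R R[X]) := by
    rw [Polynomial.algebraMap_eq, Ideal.mem_map_C_iff]
    intro i
    rw [coeff_sub, coeff_one, hg', coeff_reflect]
    by_cases hi0 : i = 0
    · subst hi0
      rw [if_pos rfl, revAt_le (Nat.zero_le a), Nat.sub_zero, ha, hP.coeff_natDegree, sub_self]
      exact Ideal.zero_mem _
    · rw [if_neg hi0, zero_sub]
      apply neg_mem
      by_cases hia : i ≤ a
      · rw [revAt_le hia]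
        exact hlow _ (Nat.sub_lt_self (Nat.pos_of_ne_zero hi0) hia)
      · have h1 : revAt a i = i := by
          rw [revAt]
          simp [hia]
        rw [h1, Polynomial.coeff_eq_zero_of_natDegree_lt (not_le.mp hia)]
        exact Ideal.zero_mem _
  rw [Ideal.eq_top_iff_one]
  have : (1 : R[X]) = g' + (1 - g') := by ring
  rw [this]
  exact Submodule.add_mem_sup hmem h1g

/-- extension of the contraction, given the surjectivity statement of Part 1 -/
theorem map_comap_eq (J : Ideal Λ)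
    (hsurj : ∀ l : Λ, ∃ x : R[X], l - ψ x ∈ (J.comap ψ.toRingHom).map ψ.toRingHom) :
    (J.comap ψ.toRingHom).map ψ.toRingHom = J := by
  apply le_antisymm Ideal.map_comap_le
  intro l hl
  obtain ⟨x, hx⟩ := hsurj l
  have h1 : l - ψ x ∈ J := Ideal.map_comap_le hx
  have h2 : ψ x ∈ J := by
    have := J.sub_mem hl h1
    rwa [sub_sub_cancel] at this
  have h3 : ψ x ∈ (J.comap ψ.toRingHom).map ψ.toRingHom := Ideal.mem_map_of_mem _ h2
  have := Ideal.add_mem _ hx h3
  rwa [sub_add_cancel] at this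

end Sup

end Groth.Agent.R2.H18.FibreIdeals
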