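import Mathlib
import Groth.Agent.Lib.Helper26HenselFinPart

/-!
# A Hensel factorisation lemma via the finite part (helper18)

`R` Henselian local, `h ∈ R[t]` with `h ≡ t ^ a · (unit at 0)` modulo `m`.  For every ring `D` with a map
`φ : R[t] → D` killing `h` and sending `t` and `m` into the Jacobson radical, a monic `P ≡ t ^ a` of degree `a`
vanishes in `D`.
-/

set_option autoImplicit false
set_option linter.unusedSectionVars false

open Polynomial TensorProduct

namespace Groth.Agent.R2.H18.HenselFactor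

universe u

section Finite

/-- an algebra generated by one integral element is finite -/
theorem finite_of_adjoin_integral {K T : Type*} [CommRing K] [CommRing T] [Algebra K T] (x : T)
    (hx : IsIntegral K x) (htop : Algebra.adjoin K {x} = ⊤) : Module.Finite K T := by
  have h1 := hx.fg_adjoin_singleton
  rw [htop, Algebra.top_toSubmodule] at h1
  exact Module.finite_def.mpr h1

variable {R : Type u} [CommRing R]

/-- `R[t]/(h)` is quasi-finite over `R` when some coefficient of `h` is a unit -/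
theorem quasiFinite_adjoinRoot (h : R[X]) (a : ℕ) (ha : IsUnit (h.coeff a)) :
    Algebra.QuasiFinite R (AdjoinRoot h) := by
  refine ⟨fun P hP => ?_⟩
  set K := P.ResidueField with hK
  set x : K ⊗[R] AdjoinRoot h := (1 : K) ⊗ₜ[R] AdjoinRoot.root h with hx
  have hne : h.map (algebraMap R K) ≠ 0 := by
    intro h0
    have h1 : (h.map (algebraMap R K)).coeff a = 0 := by rw [h0, coeff_zero]
    rw [coeff_map] at h1
    have h2 : IsUnit (algebraMap R K (h.coeff a)) := ha.map _
    rw [h1] at h2
    exact not_isUnit_zero h2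
  have hroot : Polynomial.aeval x (h.map (algebraMap R K)) = 0 := by
    rw [Polynomial.aeval_map_algebraMap]
    have h1 : Polynomial.aeval x h =
        Algebra.TensorProduct.includeRight (R := R) (A := K) (Polynomial.aeval (AdjoinRoot.root h) h) := by
      rw [← Polynomial.aeval_algHom_apply]
      rfl
    rw [h1, AdjoinRoot.aeval_eq, AdjoinRoot.mk_self, map_zero]
  have hint : IsIntegral K x := (IsAlgebraic.isIntegral ⟨_, hne, hroot⟩)
  apply finite_of_adjoin_integral x hint
  rw [eq_top_iff]
  rintro z -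
  induction z using TensorProduct.induction_on with
  | zero => exact Subalgebra.zero_mem _
  | add y z hy hz => exact Subalgebra.add_mem _ hy hz
  | tmul c e =>
    obtain ⟨p, rfl⟩ := AdjoinRoot.mk_surjective e
    have h1 : c ⊗ₜ[R] AdjoinRoot.mk h p = c • Polynomial.aeval x p := by
      have h2 : Polynomial.aeval x p =
          Algebra.TensorProduct.includeRight (R := R) (A := K)
            (Polynomial.aeval (AdjoinRoot.root h) p) := by
        rw [← Polynomial.aeval_algHom_apply]
        rfl
      rw [h2, AdjoinRoot.aeval_eq, Algebra.TensorProduct.includeRight_apply, TensorProduct.smul_tmul',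
        smul_eq_mul, mul_one]
    rw [h1]
    refine Subalgebra.smul_mem _ ?_ c
    rw [← Polynomial.aeval_map_algebraMap K]
    exact Polynomial.aeval_mem_adjoin_singleton K x

end Finite

section Shift

variable {R : Type u} [CommRing R]

/-- the polynomial `Σ h_{n+a} t^n` -/
noncomputable def shift (a : ℕ) (h : R[X]) : R[X] := (Polynomial.divX)^[a] h

theorem coeff_shift (a : ℕ) (h : R[X]) (n : ℕ) : (shift a h).coeff n = h.coeff (n + a) := by
  induction a generalizing h n with
  | zero => rfl
  | succ a ih =>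
    rw [shift, Function.iterate_succ_apply]
    change (shift a (divX h)).coeff n = _
    rw [ih, coeff_divX]
    congr 1

/-- the low part `Σ_{i<a} h_i t^i` -/
noncomputable def low (a : ℕ) (h : R[X]) : R[X] := h - X ^ a * shift a h

theorem coeff_low (a : ℕ) (h : R[X]) (n : ℕ) :
    (low a h).coeff n = if n < a then h.coeff n else 0 := by
  rw [low, coeff_sub, coeff_X_pow_mul', coeff_shift]
  by_cases hn : a ≤ n
  · rw [if_pos hn, if_neg (not_lt.mpr hn), Nat.sub_add_cancel hn, sub_self]
  · rw [if_neg hn, if_pos (not_le.mp hn), sub_zero]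

theorem low_add_shift (a : ℕ) (h : R[X]) : low a h + X ^ a * shift a h = h := by
  rw [low, sub_add_cancel]

theorem low_mem_map (a : ℕ) (h : R[X]) (I : Ideal R) (hlow : ∀ i < a, h.coeff i ∈ I) :
    low a h ∈ I.map (C : R →+* R[X]) := by
  rw [Ideal.mem_map_C_iff]
  intro n
  rw [coeff_low]
  split_ifs with hn
  · exact hlow n hn
  · exact I.zero_mem

end Shift

section Main

open IsLocalRing

theorem isUnit_add_of_mem_jacobson' {D : Type*} [CommRing D] {u j : D} (hu : IsUnit u)
    (hj : j ∈ (⊥ : Ideal D).jacobson) : IsUnit (u + j) := by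
  obtain ⟨v, hv⟩ := hu.exists_right_inv
  have h1 : IsUnit (j * v + 1) := Ideal.mem_jacobson_bot.mp hj v
  have h2 : u + j = u * (j * v + 1) := by linear_combination (-j) * hv
  rw [h2]
  exact hu.mul h1

variable {R : Type u} [CommRing R]

/-- evaluation of a ring hom out of `R[X]` -/
theorem ringHom_eq_eval₂ {D : Type*} [CommRing D] (φ : R[X] →+* D) (p : R[X]) :
    p.eval₂ (φ.comp C) (φ X) = φ p := by
  conv_rhs => rw [← Polynomial.eval₂_C_X (p := p)]
  rw [Polynomial.hom_eval₂]

/-- the image of a polynomial with unit constant coefficient under `φ` with `φ X` in the radical -/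
theorem isUnit_map_of_coeff_zero {D : Type*} [CommRing D] (φ : R[X] →+* D)
    (hφt : φ X ∈ (⊥ : Ideal D).jacobson) (G : R[X]) (hG : IsUnit (G.coeff 0)) : IsUnit (φ G) := by
  have h1 : G = C (G.coeff 0) + X * divX G := by
    conv_lhs => rw [← divX_mul_X_add G]
    ring
  rw [h1, map_add, map_mul]
  exact isUnit_add_of_mem_jacobson' ((hG.map C).map φ) (Ideal.mul_mem_right _ _ hφt)

section Quot

variable (h : R[X]) (a : ℕ)

/-- notation: the localisation `(R[t]/h)[1/G]` -/
abbrev Eloc : Type u := Localization.Away (AdjoinRoot.mk h (shift a h))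

/-- the image of `t` -/
noncomputable abbrev tloc : Eloc h a := algebraMap (AdjoinRoot h) (Eloc h a) (AdjoinRoot.root h)

theorem algebraMap_mk_eq_aeval (p : R[X]) :
    algebraMap (AdjoinRoot h) (Eloc h a) (AdjoinRoot.mk h p) = Polynomial.aeval (tloc h a) p := by
  have h1 : Polynomial.aeval (tloc h a) p =
      (IsScalarTower.toAlgHom R (AdjoinRoot h) (Eloc h a)) (Polynomial.aeval (AdjoinRoot.root h) p) := by
    rw [← Polynomial.aeval_algHom_apply]
    rfl
  rw [h1, AdjoinRoot.aeval_eq]
  rfl

/-- `t ^ a * G ∈ m E'` -/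
theorem tloc_pow_mul_mem (I : Ideal R) (hlow : ∀ i < a, h.coeff i ∈ I) :
    tloc h a ^ a * algebraMap (AdjoinRoot h) (Eloc h a) (AdjoinRoot.mk h (shift a h)) ∈
      I.map (algebraMap R (Eloc h a)) := by
  have h1 : AdjoinRoot.mk h (low a h) + AdjoinRoot.root h ^ a * AdjoinRoot.mk h (shift a h) = 0 := by
    rw [← AdjoinRoot.mk_X, ← map_pow, ← map_mul, ← map_add, low_add_shift, AdjoinRoot.mk_self]
  have h2 := congrArg (algebraMap (AdjoinRoot h) (Eloc h a)) h1
  rw [map_add, map_mul, map_pow, map_zero] at h2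
  have h3 : algebraMap (AdjoinRoot h) (Eloc h a) (AdjoinRoot.mk h (low a h)) ∈
      I.map (algebraMap R (Eloc h a)) := by
    have h4 : low a h ∈ I.map (C : R →+* R[X]) := low_mem_map a h I hlow
    have h5 : I.map (C : R →+* R[X]) ≤ (I.map (algebraMap R (Eloc h a))).comap
        ((algebraMap (AdjoinRoot h) (Eloc h a)).comp (AdjoinRoot.mk h)) := by
      rw [Ideal.map_le_iff_le_comap]
      intro r hr
      rw [Ideal.mem_comap, Ideal.mem_comap]
      have : ((algebraMap (AdjoinRoot h) (Eloc h a)).comp (AdjoinRoot.mk h)) (C r) =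
          algebraMap R (Eloc h a) r := by
        rw [RingHom.comp_apply, AdjoinRoot.mk_C, ← AdjoinRoot.algebraMap_eq,
          ← IsScalarTower.algebraMap_apply]
      rw [this]
      exact Ideal.mem_map_of_mem _ hr
    exact h5 h4
  have h6 : tloc h a ^ a * algebraMap (AdjoinRoot h) (Eloc h a) (AdjoinRoot.mk h (shift a h)) =
      -algebraMap (AdjoinRoot h) (Eloc h a) (AdjoinRoot.mk h (low a h)) := by
    linear_combination h2
  rw [h6]
  exact neg_mem h3

/-- the quotient `E'/I E'` -/
abbrev Qloc (I : Ideal R) : Type u := Eloc h a ⧸ I.map (algebraMap R (Eloc h a))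

/-- the image of `t` in the quotient -/
noncomputable abbrev xq (I : Ideal R) : Qloc h a I := Ideal.Quotient.mk _ (tloc h a)

theorem isUnit_mk_G (I : Ideal R) :
    IsUnit (Ideal.Quotient.mk (I.map (algebraMap R (Eloc h a)))
      (algebraMap (AdjoinRoot h) (Eloc h a) (AdjoinRoot.mk h (shift a h)))) :=
  (IsLocalization.Away.algebraMap_isUnit _).map _

theorem xq_pow_eq_zero (I : Ideal R) (hlow : ∀ i < a, h.coeff i ∈ I) : xq h a I ^ a = 0 := by
  have h1 := tloc_pow_mul_mem h a I hlow
  rw [← Ideal.Quotient.eq_zero_iff_mem, map_mul, map_pow] at h1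
  exact (isUnit_mk_G h a I).mul_left_eq_zero.mp h1

theorem mk_aeval (I : Ideal R) (p : R[X]) :
    Ideal.Quotient.mk (I.map (algebraMap R (Eloc h a))) (Polynomial.aeval (tloc h a) p) =
      Polynomial.aeval (xq h a I) p := by
  have h1 : Polynomial.aeval (xq h a I) p =
      (Ideal.Quotient.mkₐ R (I.map (algebraMap R (Eloc h a)))) (Polynomial.aeval (tloc h a) p) := by
    rw [← Polynomial.aeval_algHom_apply]
    rfl
  rw [h1]
  rfl

/-- the inverse of the image of `G` is a polynomial in `x` -/
theorem exists_aeval_mul_eq_one (I : Ideal R) (hlow : ∀ i < a, h.coeff i ∈ I)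
    (ha : IsUnit (h.coeff a)) :
    ∃ w : R[X], Polynomial.aeval (xq h a I) (shift a h) * Polynomial.aeval (xq h a I) w = 1 := by
  obtain ⟨u, hu⟩ := ha.exists_right_inv
  set G := shift a h with hG
  have hG0 : G.coeff 0 = h.coeff a := by rw [hG, coeff_shift, zero_add]
  have h1 : G = C (h.coeff a) + X * divX G := by
    conv_lhs => rw [← divX_mul_X_add G, hG0]
    ring
  -- `G * C u = 1 - n`, `n = - u X divX G`
  set n : R[X] := -(C u * (X * divX G)) with hn
  have h2 : G * C u = 1 - n := by
    have h3 : (C (h.coeff a) : R[X]) * C u = 1 := by rw [← C_mul, hu, C_1]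
    rw [hn]
    conv_lhs => rw [h1]
    linear_combination h3
  have h4 : Polynomial.aeval (xq h a I) n ^ a = 0 := by
    rw [hn, map_neg, map_mul, map_mul, Polynomial.aeval_X]
    have h5 : -(Polynomial.aeval (xq h a I) (C u) * (xq h a I * Polynomial.aeval (xq h a I) (divX G))) =
        xq h a I * -(Polynomial.aeval (xq h a I) (C u) * Polynomial.aeval (xq h a I) (divX G)) := by
      ring
    rw [h5, mul_pow, xq_pow_eq_zero h a I hlow, zero_mul]
  refine ⟨C u * ∑ i ∈ Finset.range a, n ^ i, ?_⟩
  rw [← map_mul, ← mul_assoc, h2, mul_neg_geom_sum, map_sub, map_one, map_pow, h4, sub_zero]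

theorem adjoin_xq_eq_top (I : Ideal R) (hlow : ∀ i < a, h.coeff i ∈ I) (ha : IsUnit (h.coeff a)) :
    Algebra.adjoin R {xq h a I} = ⊤ := by
  rw [eq_top_iff]
  rintro z -
  obtain ⟨z', rfl⟩ := Ideal.Quotient.mk_surjective z
  obtain ⟨j, e, he⟩ := IsLocalization.Away.surj (AdjoinRoot.mk h (shift a h)) z'
  obtain ⟨p, rfl⟩ := AdjoinRoot.mk_surjective e
  obtain ⟨w, hw⟩ := exists_aeval_mul_eq_one h a I hlow ha
  have h1 := congrArg (Ideal.Quotient.mk (I.map (algebraMap R (Eloc h a)))) he
  rw [map_mul, map_pow, algebraMap_mk_eq_aeval, algebraMap_mk_eq_aeval, mk_aeval, mk_aeval] at h1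
  have h2 : Ideal.Quotient.mk (I.map (algebraMap R (Eloc h a))) z' =
      Polynomial.aeval (xq h a I) (p * w ^ j) := by
    rw [map_mul, map_pow, ← h1]
    calc Ideal.Quotient.mk (I.map (algebraMap R (Eloc h a))) z'
        = Ideal.Quotient.mk (I.map (algebraMap R (Eloc h a))) z' *
          (Polynomial.aeval (xq h a I) (shift a h) * Polynomial.aeval (xq h a I) w) ^ j := by
          rw [hw, one_pow, mul_one]
      _ = _ := by ring
  rw [h2]
  exact Polynomial.aeval_mem_adjoin_singleton R _

theorem finite_Qloc (I : Ideal R) (hlow : ∀ i < a, h.coeff i ∈ I) (ha : IsUnit (h.coeff a)) :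
    Module.Finite R (Qloc h a I) := by
  apply finite_of_adjoin_integral (xq h a I) ?_ (adjoin_xq_eq_top h a I hlow ha)
  refine ⟨X ^ a, monic_X_pow a, ?_⟩
  rw [← Polynomial.aeval_def, map_pow, Polynomial.aeval_X, xq_pow_eq_zero h a I hlow]

end Quot

section Thm

open Groth.Agent.Lib.Helper26.HenselFinPart Groth.Agent.Lib.Helper26.HenselEtale

variable [HenselianLocalRing R]

/-- **Hensel factor lemma.** -/
theorem exists_monic_map_eq_zero (h : R[X]) (a : ℕ) (ha : IsUnit (h.coeff a))
    (hlow : ∀ i < a, h.coeff i ∈ maximalIdeal R)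
    {D : Type u} [CommRing D] (φ : R[X] →+* D) (hφh : φ h = 0)
    (hφt : φ X ∈ (⊥ : Ideal D).jacobson)
    (hφm : ∀ r ∈ maximalIdeal R, φ (C r) ∈ (⊥ : Ideal D).jacobson) :
    ∃ P : R[X], P.Monic ∧ P.natDegree = a ∧ (∀ i < a, P.coeff i ∈ maximalIdeal R) ∧ φ P = 0 := by
  set m := maximalIdeal R with hm
  haveI : Algebra.QuasiFinite R (AdjoinRoot h) := quasiFinite_adjoinRoot h a ha
  haveI : Algebra.FiniteType R (Eloc h a) :=
    Algebra.FiniteType.trans (S := AdjoinRoot h) inferInstance inferInstance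
  haveI : Module.Finite R (Eloc h a ⧸ m.map (algebraMap R (Eloc h a))) := finite_Qloc h a m hlow ha
  obtain ⟨e, he, he1, hfin⟩ := exists_idem_finite_part (A := R) (E := Eloc h a) m
  haveI := hfin
  -- the finite quotient
  let q₂ : Eloc h a →ₐ[R] (Eloc h a ⧸ Ideal.span {1 - e}) := Ideal.Quotient.mkₐ R _
  set t₂ : Eloc h a ⧸ Ideal.span {1 - e} := q₂ (tloc h a) with ht₂
  have hq₂aeval : ∀ p : R[X], q₂ (Polynomial.aeval (tloc h a) p) = Polynomial.aeval t₂ p := by
    intro p
    rw [ht₂, ← Polynomial.aeval_algHom_apply]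
  have hmem_smul : ∀ z' : Eloc h a, z' ∈ m.map (algebraMap R (Eloc h a)) →
      q₂ z' ∈ m • (⊤ : Submodule R (Eloc h a ⧸ Ideal.span {1 - e})) := by
    intro z' hz'
    have h1 : z' ∈ m • (⊤ : Submodule R (Eloc h a)) := by
      rw [Ideal.smul_top_eq_map]
      exact hz'
    have h2 : q₂.toLinearMap z' ∈ Submodule.map q₂.toLinearMap (m • (⊤ : Submodule R (Eloc h a))) :=
      Submodule.mem_map_of_mem h1
    rw [Submodule.map_smul''] at h2
    exact Submodule.smul_mono le_rfl le_top h2
  set N : Submodule R (Eloc h a ⧸ Ideal.span {1 - e}) :=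
    Submodule.span R (Set.range fun i : Fin a => t₂ ^ (i : ℕ)) with hN
  have haevalN : ∀ r : R[X], r.degree < a → Polynomial.aeval t₂ r ∈ N := by
    intro r hr
    rw [Polynomial.aeval_def, Polynomial.eval₂_eq_sum, Polynomial.sum_def]
    refine Submodule.sum_mem _ fun i hi => ?_
    have hia : i < a := by
      have := Polynomial.le_degree_of_mem_supp i hi
      exact_mod_cast lt_of_le_of_lt this hr
    rw [← Algebra.smul_def]
    exact Submodule.smul_mem _ _ (Submodule.subset_span ⟨⟨i, hia⟩, rfl⟩)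
  -- every element is a polynomial of degree `< a` in `t₂` modulo `m`
  have hxa : xq h a m ^ a = 0 := xq_pow_eq_zero h a m hlow
  have hcover : ∀ z : Eloc h a ⧸ Ideal.span {1 - e},
      z ∈ N ⊔ m • (⊤ : Submodule R (Eloc h a ⧸ Ideal.span {1 - e})) := by
    intro z
    obtain ⟨z', rfl⟩ := Ideal.Quotient.mk_surjective z
    have h1 : Ideal.Quotient.mk (m.map (algebraMap R (Eloc h a))) z' ∈ Algebra.adjoin R {xq h a m} := by
      rw [adjoin_xq_eq_top h a m hlow ha]
      trivial
    rw [Algebra.adjoin_singleton_eq_range_aeval] at h1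
    obtain ⟨p, hp⟩ := h1
    set r := p %ₘ (X ^ a) with hr
    have hpr : Polynomial.aeval (xq h a m) p = Polynomial.aeval (xq h a m) r := by
      conv_lhs => rw [← Polynomial.modByMonic_add_div p (X ^ a)]
      rw [map_add, map_mul, map_pow, Polynomial.aeval_X, hxa, zero_mul, add_zero]
    have h2 : z' - Polynomial.aeval (tloc h a) r ∈ m.map (algebraMap R (Eloc h a)) := by
      rw [← Ideal.Quotient.eq_zero_iff_mem, map_sub, mk_aeval, ← hpr]
      have : (Polynomial.aeval (xq h a m)).toRingHom p = Polynomial.aeval (xq h a m) p := rfl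
      rw [← this, hp, sub_self]
    have h3 := hmem_smul _ h2
    rw [map_sub, hq₂aeval] at h3
    have h4 : q₂ z' = Polynomial.aeval t₂ r + (q₂ z' - Polynomial.aeval t₂ r) := by ring
    change q₂ z' ∈ _
    rw [h4]
    exact Submodule.add_mem_sup (haevalN r (Polynomial.degree_modByMonic_lt p (monic_X_pow a) |>.trans_le
      (by rw [Polynomial.degree_X_pow]))) h3
  have hmjac : m ≤ (⊥ : Ideal R).jacobson := by
    rw [IsLocalRing.jacobson_eq_maximalIdeal ⊥ bot_ne_top]
  have hNtop : N = ⊤ := by
    rw [eq_top_iff]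
    exact Submodule.le_of_le_smul_of_le_jacobson_bot (Module.Finite.fg_top) hmjac
      (fun z _ => hcover z)
  -- `t₂ ^ a ∈ m • N`
  have hta : t₂ ^ a ∈ m • N := by
    rw [hNtop]
    have h1 : tloc h a ^ a ∈ m.map (algebraMap R (Eloc h a)) := by
      rw [← Ideal.Quotient.eq_zero_iff_mem, map_pow]
      exact hxa
    have h2 := hmem_smul _ h1
    rwa [map_pow] at h2
  rw [hN, Submodule.mem_ideal_smul_span_iff_exists_sum] at hta
  obtain ⟨c, hc, hsum⟩ := hta
  -- the polynomial
  set S : R[X] := ∑ i : Fin a, C (c i) * X ^ (i : ℕ) with hS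
  have hSdeg : S.degree < a := by
    rw [hS]
    exact Polynomial.degree_sum_fin_lt _
  have hScoeff : ∀ j, S.coeff j ∈ m := by
    intro j
    rw [hS, Polynomial.finsetSum_coeff]
    refine Ideal.sum_mem _ fun i _ => ?_
    rw [Polynomial.coeff_C_mul_X_pow]
    split_ifs
    · exact hc i
    · exact m.zero_mem
  have hSaeval : Polynomial.aeval t₂ S = t₂ ^ a := by
    rw [hS, map_sum, ← hsum, Finsupp.sum_fintype _ _ (fun i => by simp)]
    refine Finset.sum_congr rfl fun i _ => ?_
    rw [map_mul, Polynomial.aeval_C, map_pow, Polynomial.aeval_X, ← Algebra.smul_def]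
  set P : R[X] := X ^ a - S with hP
  have hPmonic : P.Monic := Polynomial.monic_X_pow_sub hSdeg
  have hPdeg : P.natDegree = a := by
    rw [hP]
    have h1 : (X ^ a - S : R[X]).degree = ((X : R[X]) ^ a).degree :=
      Polynomial.degree_sub_eq_left_of_degree_lt (by rw [Polynomial.degree_X_pow]; exact hSdeg)
    rw [Polynomial.degree_X_pow] at h1
    exact Polynomial.natDegree_eq_of_degree_eq_some h1
  have hPcoeff : ∀ i < a, P.coeff i ∈ m := by
    intro i hi
    rw [hP, Polynomial.coeff_sub, Polynomial.coeff_X_pow, if_neg (ne_of_lt hi), zero_sub]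
    exact neg_mem (hScoeff i)
  have hPaeval : Polynomial.aeval t₂ P = 0 := by
    rw [hP, map_sub, map_pow, Polynomial.aeval_X, hSaeval, sub_self]
  refine ⟨P, hPmonic, hPdeg, hPcoeff, ?_⟩
  -- the map to `D`
  let ΦE : AdjoinRoot h →+* D := AdjoinRoot.lift (φ.comp C) (φ X) (by
    rw [ringHom_eq_eval₂, hφh])
  have hΦE : ∀ p : R[X], ΦE (AdjoinRoot.mk h p) = φ p := by
    intro p
    rw [AdjoinRoot.lift_mk, ringHom_eq_eval₂]
  have hGunit : IsUnit (ΦE (AdjoinRoot.mk h (shift a h))) := by
    rw [hΦE]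
    exact isUnit_map_of_coeff_zero φ hφt _ (by rw [coeff_shift, zero_add]; exact ha)
  let Φ : Eloc h a →+* D := IsLocalization.Away.lift (AdjoinRoot.mk h (shift a h)) (g := ΦE) hGunit
  have hΦ : ∀ y : AdjoinRoot h, Φ (algebraMap (AdjoinRoot h) (Eloc h a) y) = ΦE y := fun y =>
    IsLocalization.Away.lift_eq _ hGunit y
  have hΦaeval : ∀ p : R[X], Φ (Polynomial.aeval (tloc h a) p) = φ p := by
    intro p
    rw [← algebraMap_mk_eq_aeval, hΦ, hΦE]
  -- `Φ (1 - e) = 0`
  have hΦe : Φ (1 - e) = 0 := by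
    apply eq_zero_of_idem_mem_jacobson _ (he.one_sub.map Φ)
    have hle : m.map (algebraMap R (Eloc h a)) ≤ ((⊥ : Ideal D).jacobson).comap Φ := by
      rw [Ideal.map_le_iff_le_comap]
      intro r hr
      rw [Ideal.mem_comap, Ideal.mem_comap]
      have : Φ (algebraMap R (Eloc h a) r) = φ (C r) := by
        rw [IsScalarTower.algebraMap_apply R (AdjoinRoot h) (Eloc h a), hΦ, AdjoinRoot.algebraMap_eq,
          ← AdjoinRoot.mk_C, hΦE]
      rw [this]
      exact hφm r hr
    exact hle he1
  -- conclude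
  have h1 : Polynomial.aeval (tloc h a) P ∈ Ideal.span {1 - e} := by
    rw [← Ideal.Quotient.eq_zero_iff_mem]
    have := hq₂aeval P
    rw [hPaeval] at this
    exact this
  obtain ⟨y, hy⟩ := Ideal.mem_span_singleton'.mp h1
  rw [← hΦaeval, ← hy, map_mul, hΦe, mul_zero]

end Thm

end Main

end Groth.Agent.R2.H18.HenselFactor
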