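import Groth.Agent.R2.H18LApproxD

/-!
# The approximation data for `R[t]_{1+tR[t]}[1/t] → R((t))` (helper18)
-/

set_option autoImplicit false
set_option linter.unusedSectionVars false

open Polynomial TensorProduct

namespace Groth.Agent.R2.H18.LApprox

universe u

section Concrete

variable (R : Type u) [CommRing R]

/-- the multiplicative set generated by `X` and the polynomials with constant term `1` -/
noncomputable abbrev sig : Submonoid R[X] := Submonoid.closure ({f : R[X] | f.coeff 0 = 1} ∪ {X})

variable {R}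

theorem X_mem_sig : (X : R[X]) ∈ sig R := Submonoid.subset_closure (Or.inr rfl)

theorem mem_sig_of_coeff_zero {g : R[X]} (hg : g.coeff 0 = 1) : g ∈ sig R :=
  Submonoid.subset_closure (Or.inl hg)

theorem exists_eq_X_pow_mul_of_mem_sig {s : R[X]} (hs : s ∈ sig R) :
    ∃ (j : ℕ) (g : R[X]), s = X ^ j * g ∧ g.coeff 0 = 1 := by
  induction hs using Submonoid.closure_induction with
  | mem x hx =>
    rcases hx with hx | hx
    · exact ⟨0, x, by simp, hx⟩
    · refine ⟨1, 1, ?_, by simp⟩
      rw [Set.mem_singleton_iff.mp hx]; simp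
  | one => exact ⟨0, 1, by simp, by simp⟩
  | mul x y _ _ hx hy =>
    obtain ⟨j, g, rfl, hg⟩ := hx
    obtain ⟨j', g', rfl, hg'⟩ := hy
    refine ⟨j + j', g * g', by ring, ?_⟩
    rw [Polynomial.mul_coeff_zero, hg, hg', mul_one]

variable (L : Type u) [CommRing L] [Algebra R[X] L] [IsLocalization (sig R) L]
  (L' : Type u) [CommRing L'] [Algebra L L'] (e : L' ≃+* LaurentSeries R)
  (he : ∀ p : R[X], e (algebraMap L L' (algebraMap R[X] L p)) =
    HahnSeries.ofPowerSeries ℤ R (Polynomial.coeToPowerSeries.ringHom p))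

include he in
theorem he' (p : R[X]) : e (algebraMap L L' (algebraMap R[X] L p)) =
    HahnSeries.ofPowerSeries ℤ R (p : PowerSeries R) := he p

theorem isUnit_algebraMap_X : IsUnit (algebraMap R[X] L X) :=
  IsLocalization.map_units L (⟨X, X_mem_sig⟩ : sig R)


/-- the integral elements of `L'`: those corresponding to power series -/
noncomputable def intSubring : Subring L' := (HahnSeries.ofPowerSeries ℤ R).range.comap e.toRingHom

theorem mem_intSubring {y : L'} :
    y ∈ intSubring L' e ↔ ∃ f : PowerSeries R, HahnSeries.ofPowerSeries ℤ R f = e y := Iff.rfl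

include he in
theorem e_tau : e (algebraMap L L' (algebraMap R[X] L X)) =
    HahnSeries.ofPowerSeries ℤ R (PowerSeries.X : PowerSeries R) := by
  rw [he' L L' e he, Polynomial.coe_X]

include he in
theorem e_tau_pow (a : ℕ) : e (algebraMap L L' (algebraMap R[X] L X)) ^ a =
    HahnSeries.ofPowerSeries ℤ R ((PowerSeries.X : PowerSeries R) ^ a) := by
  rw [e_tau L L' e he, map_pow]

include he in
theorem exists_pole_concrete (y : L') : ∃ (a : ℕ) (f : PowerSeries R),
    e (algebraMap L L' (algebraMap R[X] L X)) ^ a * e y = HahnSeries.ofPowerSeries ℤ R f := by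
  obtain ⟨⟨f, ⟨_, a, rfl⟩⟩, hf⟩ :=
    IsLocalization.surj (Submonoid.powers (PowerSeries.X : PowerSeries R)) (e y)
  refine ⟨a, f, ?_⟩
  rw [e_tau_pow L L' e he, mul_comm]
  simpa using hf


include he in
theorem dense_concrete (tinv : L) (ht : algebraMap R[X] L X * tinv = 1) (y : L') (k : ℕ) :
    ∃ x : L, ∃ z ∈ intSubring L' e,
      y = algebraMap L L' x + (algebraMap L L' (algebraMap R[X] L X)) ^ k * z := by
  obtain ⟨a, f, hf⟩ := exists_pole_concrete L L' e he y
  set T := e (algebraMap L L' (algebraMap R[X] L X)) with hT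
  set Ti := e (algebraMap L L' tinv) with hTi
  have hTTi : Ti * T = 1 := by
    rw [hT, hTi, ← map_mul, ← map_mul, mul_comm, ht, map_one, map_one]
  have hTTia : Ti ^ a * T ^ a = 1 := by rw [← mul_pow, hTTi, one_pow]
  set f' : PowerSeries R := PowerSeries.mk fun i => PowerSeries.coeff (i + (a + k)) f with hf'
  have hsplit : f = PowerSeries.X ^ (a + k) * f' + (PowerSeries.trunc (a + k) f : PowerSeries R) :=
    PowerSeries.eq_X_pow_mul_shift_add_trunc (a + k) f
  refine ⟨tinv ^ a * algebraMap R[X] L (PowerSeries.trunc (a + k) f),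
    e.symm (HahnSeries.ofPowerSeries ℤ R f'), ⟨f', (e.apply_symm_apply _).symm⟩, ?_⟩
  apply e.injective
  simp only [map_add, map_mul, map_pow, RingEquiv.apply_symm_apply]
  rw [he' L L' e he, ← hT, ← hTi]
  have hcancel : ∀ A B : LaurentSeries R, T ^ a * A = T ^ a * B → A = B := by
    intro A B hAB
    have := congrArg (fun C => Ti ^ a * C) hAB
    simpa [← mul_assoc, hTTia] using this
  apply hcancel
  rw [hf, mul_add, ← mul_assoc, ← mul_assoc, mul_comm (T ^ a) (Ti ^ a), hTTia, one_mul, ← pow_add,
    e_tau_pow L L' e he, ← map_mul, ← map_add, add_comm]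
  exact congrArg _ hsplit


include he in
theorem unitL_concrete (x : L) (hx : algebraMap L L' x ∈ intSubring L' e) :
    IsUnit (1 + algebraMap R[X] L X * x) := by
  obtain ⟨h, hh⟩ := hx
  obtain ⟨⟨f, ⟨s, hs⟩⟩, hf⟩ := IsLocalization.surj (sig R) x
  obtain ⟨j, g, rfl, hg⟩ := exists_eq_X_pow_mul_of_mem_sig hs
  have hf' : x * algebraMap R[X] L (X ^ j * g) = algebraMap R[X] L f := hf
  -- `X ^ j` divides `f`
  have hh' : HahnSeries.ofPowerSeries ℤ R h = e (algebraMap L L' x) := hh
  have h1 : h * ((X ^ j * g : R[X]) : PowerSeries R) = (f : PowerSeries R) := by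
    apply HahnSeries.ofPowerSeries_injective (Γ := ℤ)
    calc HahnSeries.ofPowerSeries ℤ R (h * ((X ^ j * g : R[X]) : PowerSeries R))
        = HahnSeries.ofPowerSeries ℤ R h *
            HahnSeries.ofPowerSeries ℤ R ((X ^ j * g : R[X]) : PowerSeries R) := map_mul _ _ _
      _ = e (algebraMap L L' x) * e (algebraMap L L' (algebraMap R[X] L (X ^ j * g))) := by
          rw [hh', he' L L' e he]
      _ = e (algebraMap L L' (x * algebraMap R[X] L (X ^ j * g))) := by
          rw [map_mul (algebraMap L L'), map_mul e]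
      _ = e (algebraMap L L' (algebraMap R[X] L f)) := by rw [hf']
      _ = HahnSeries.ofPowerSeries ℤ R (f : PowerSeries R) := he' L L' e he f
  have hdvd : (X : R[X]) ^ j ∣ f := by
    rw [Polynomial.X_pow_dvd_iff]
    intro d hd
    rw [← Polynomial.coeff_coe, ← h1, Polynomial.coe_mul, Polynomial.coe_pow, Polynomial.coe_X,
      ← mul_assoc, mul_comm h, mul_assoc, PowerSeries.coeff_X_pow_mul', if_neg (not_le.mpr hd)]
  obtain ⟨f₁, rfl⟩ := hdvd
  have hXj : IsUnit (algebraMap R[X] L (X ^ j)) :=
    IsLocalization.map_units L (⟨X ^ j, (sig R).pow_mem X_mem_sig j⟩ : sig R)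
  have hgu : IsUnit (algebraMap R[X] L g) :=
    IsLocalization.map_units L (⟨g, mem_sig_of_coeff_zero hg⟩ : sig R)
  have h2 : x * algebraMap R[X] L g = algebraMap R[X] L f₁ := by
    apply hXj.mul_left_cancel
    rw [← map_mul, ← hf', map_mul]
    ring
  have h3 : (1 + algebraMap R[X] L X * x) * algebraMap R[X] L g =
      algebraMap R[X] L (g + X * f₁) := by
    rw [map_add, map_mul, ← h2]
    ring
  have h4 : IsUnit (algebraMap R[X] L (g + X * f₁)) :=
    IsLocalization.map_units L (⟨g + X * f₁, mem_sig_of_coeff_zero (by simp [hg])⟩ : sig R)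
  rw [← h3] at h4
  exact isUnit_of_mul_isUnit_left h4

include he in
theorem unitL'_concrete (z : L') (hz : z ∈ intSubring L' e) :
    IsUnit (1 + algebraMap L L' (algebraMap R[X] L X) * z) := by
  obtain ⟨h, hh⟩ := hz
  have hh' : HahnSeries.ofPowerSeries ℤ R h = e z := hh
  have h1 : e (1 + algebraMap L L' (algebraMap R[X] L X) * z) =
      HahnSeries.ofPowerSeries ℤ R (1 + PowerSeries.X * h) := by
    rw [map_add, map_one, map_mul, e_tau L L' e he, map_add, map_one, map_mul, hh']
  have h2 : IsUnit (1 + PowerSeries.X * h : PowerSeries R) := by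
    rw [PowerSeries.isUnit_iff_constantCoeff]
    simp
  have h3 : IsUnit (e (1 + algebraMap L L' (algebraMap R[X] L X) * z)) := by
    rw [h1]
    exact h2.map _
  exact (isUnit_map_iff e _).mp h3

/-- the approximation data for `L → L'` -/
noncomputable def approxData : ApproxData L L' where
  t := algebraMap R[X] L X
  tinv := ((isUnit_algebraMap_X L).unit⁻¹ : Lˣ)
  ht := (isUnit_algebraMap_X L).mul_val_inv
  O' := intSubring L' e
  t_mem := ⟨PowerSeries.X, (e_tau L L' e he).symm⟩
  pole := fun y => by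
    obtain ⟨a, f, hf⟩ := exists_pole_concrete L L' e he y
    exact ⟨a, f, by rw [← hf]; simp⟩
  dense := dense_concrete L L' e he _ (isUnit_algebraMap_X L).mul_val_inv
  unitL := unitL_concrete L L' e he
  unitL' := unitL'_concrete L L' e he

end Concrete

end Groth.Agent.R2.H18.LApprox
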