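import Groth.Agent.R2.H18FibreIdealsA
import Groth.Agent.R2.H18HenselFactor
import Groth.Agent.R2.H18LApproxE

/-!
# Ideals avoiding the special fibre: the Zariski case `R[t]_{1+tR[t]}[1/t]` (helper18)
-/

set_option autoImplicit false
set_option linter.unusedSectionVars false

open Polynomial IsLocalRing

namespace Groth.Agent.R2.H18.FibreIdeals

universe u

open Groth.Agent.R2.H18.LApprox

section Zar

variable {R : Type u} [CommRing R] [IsLocalRing R] (L : Type u) [CommRing L] [Algebra R[X] L]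
  [IsLocalization (sig R) L] [Algebra R L] [IsScalarTower R R[X] L]
  (ψ : R[X] →ₐ[R] L) (hψ : ψ X * algebraMap R[X] L X = 1)

include hψ in
/-- Part 1 for the Zariski Laurent ring -/
theorem zar_part_one (I : Ideal R[X])
    (hI : I ⊔ (maximalIdeal R).map (algebraMap R R[X]) = ⊤) :
    (I.map ψ.toRingHom).comap ψ.toRingHom = I ∧
      I.map ψ.toRingHom ⊔ (maximalIdeal R).map (algebraMap R L) = ⊤ ∧
      Function.Bijective (Ideal.quotientMap (I.map ψ.toRingHom) ψ.toRingHom Ideal.le_comap_map) ∧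
      ∀ l : L, ∃ x : R[X], l - ψ x ∈ I.map ψ.toRingHom := by
  obtain ⟨g, hg, hg0, hgpos, -⟩ := exists_good_element I hI
  obtain ⟨uinv, hu⟩ := hg0.exists_right_inv
  obtain ⟨hPmonic, hPdeg, hPlow⟩ := reflect_props g uinv hu hgpos
  set P := C uinv * reflect g.natDegree g with hP
  obtain ⟨κ, hκ⟩ := exists_algHom_adjoinRoot I g hg uinv hu
  have hsτ := mk_X_mul_tau I g hg uinv hu
  -- the map `L → R[s]/I`
  let θ₀ : R[X] →ₐ[R] R[X] ⧸ I := Polynomial.aeval (tau I g uinv)
  have hunits : ∀ y : sig R, IsUnit (θ₀.toRingHom y) := by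
    rintro ⟨y, hy⟩
    change IsUnit (θ₀ y)
    induction hy using Submonoid.closure_induction with
    | mem f hf =>
      rcases hf with hf | hf
      · have h1 : IsUnit (AdjoinRoot.mk P f) :=
          isUnit_mk_of_coeff_zero P hPmonic (by rw [hPdeg]; exact hPlow) f (by
            rw [(show f.coeff 0 = 1 from hf)]; exact isUnit_one)
        have h2 := h1.map κ
        rwa [hκ] at h2
      · rw [Set.mem_singleton_iff.mp hf]
        change IsUnit (Polynomial.aeval (tau I g uinv) X)
        rw [Polynomial.aeval_X]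
        exact IsUnit.of_mul_eq_one _ (by rw [mul_comm]; exact hsτ)
    | one => rw [map_one]; exact isUnit_one
    | mul x y _ _ hx hy => rw [map_mul]; exact hx.mul hy
  let θ : L →+* R[X] ⧸ I := IsLocalization.lift (M := sig R) hunits
  have hθ : ∀ p : R[X], θ (algebraMap R[X] L p) = Polynomial.aeval (tau I g uinv) p := fun p =>
    IsLocalization.lift_eq hunits p
  have hθR : ∀ r : R, θ (algebraMap R L r) = algebraMap R (R[X] ⧸ I) r := by
    intro r
    rw [IsScalarTower.algebraMap_apply R R[X] L, hθ, Polynomial.algebraMap_eq, Polynomial.aeval_C]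
  have hθT : θ (algebraMap R[X] L X) = tau I g uinv := by rw [hθ, Polynomial.aeval_X]
  -- surjectivity
  have hsurj : ∀ l : L, ∃ x : R[X], l - ψ x ∈ I.map ψ.toRingHom := by
    have hcomp : (Ideal.quotientMap (I.map ψ.toRingHom) ψ.toRingHom Ideal.le_comap_map).comp θ =
        Ideal.Quotient.mk (I.map ψ.toRingHom) := by
      apply IsLocalization.ringHom_ext (sig R)
      apply Polynomial.ringHom_ext
      · intro r
        simp only [RingHom.coe_comp, Function.comp_apply]
        rw [hθ, Polynomial.aeval_C]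
        have h1 : algebraMap R (R[X] ⧸ I) r = Ideal.Quotient.mk I (C r) := rfl
        rw [h1, Ideal.quotientMap_mk]
        congr 1
        change ψ (C r) = _
        rw [Polynomial.C_eq_algebraMap, ψ.commutes, ← IsScalarTower.algebraMap_apply]
      · simp only [RingHom.coe_comp, Function.comp_apply]
        rw [hθT, tau, Ideal.quotientMap_mk, Ideal.Quotient.eq]
        change ψ (-(C uinv * divX g)) - algebraMap R[X] L X ∈ _
        have h1 : g = C (g.coeff 0) + X * divX g := by
          conv_lhs => rw [← divX_mul_X_add g]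
          ring
        have h2 : ψ g ∈ I.map ψ.toRingHom := Ideal.mem_map_of_mem ψ.toRingHom hg
        have h3 : ψ (C uinv) * ψ (C (g.coeff 0)) = 1 := by
          rw [← map_mul, ← C_mul, mul_comm, hu, C_1, map_one]
        have h4 : ψ (-(C uinv * divX g)) - algebraMap R[X] L X =
            -(algebraMap R[X] L X * ψ (C uinv)) * ψ g := by
          conv_rhs => rw [h1]
          simp only [map_add, map_mul, map_neg]
          linear_combination (algebraMap R[X] L X) * h3 +
            (ψ (C uinv) * ψ (divX g)) * hψ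
        rw [h4]
        exact Ideal.mul_mem_left _ _ h2
    intro l
    obtain ⟨x, hx⟩ := Ideal.Quotient.mk_surjective (θ l)
    refine ⟨x, ?_⟩
    have h5 : Ideal.Quotient.mk (I.map ψ.toRingHom) l = Ideal.Quotient.mk (I.map ψ.toRingHom) (ψ x) := by
      have h6 := congrArg (fun k => k l) hcomp
      simp only [RingHom.comp_apply] at h6
      rw [← h6, ← hx, Ideal.quotientMap_mk]
      rfl
    exact Ideal.Quotient.eq.mp h5
  exact ⟨comap_map_eq I g hg uinv hu _ ψ hψ θ hθR hθT, map_sup_eq_top ψ I hI,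
    quotientMap_bijective I g hg uinv hu _ ψ hψ θ hθR hθT hsurj, hsurj⟩

end Zar

section Sig0

variable (R : Type u) [CommRing R]

/-- polynomials with constant coefficient `1` -/
def sig0 : Submonoid R[X] where
  carrier := {f | f.coeff 0 = 1}
  one_mem' := coeff_one_zero
  mul_mem' := by
    intro f g hf hg
    change (f * g).coeff 0 = 1
    rw [mul_coeff_zero, (show f.coeff 0 = 1 from hf), (show g.coeff 0 = 1 from hg), mul_one]

variable {R}

theorem mem_sig0 {f : R[X]} : f ∈ sig0 R ↔ f.coeff 0 = 1 := Iff.rfl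

/-- a polynomial with unit constant coefficient is a unit of `R[t]_{1 + tR[t]}` -/
theorem isUnit_algebraMap_sig0 (f : R[X]) (hf : IsUnit (f.coeff 0)) :
    IsUnit (algebraMap R[X] (Localization (sig0 R)) f) := by
  obtain ⟨v, hv⟩ := hf.exists_right_inv
  have h1 : f = C (f.coeff 0) * (C v * f) := by
    rw [← mul_assoc, ← C_mul, hv, C_1, one_mul]
  have h2 : C v * f ∈ sig0 R := by
    rw [mem_sig0, coeff_C_mul, mul_comm, hv]
  rw [h1, map_mul]
  exact ((hf.map C).map _).mul (IsLocalization.map_units _ (⟨_, h2⟩ : sig0 R))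

theorem mem_jacobson_sig0 (q : R[X])
    (hq : ∀ p : R[X], ∀ σ ∈ sig0 R, IsUnit ((q * p + σ).coeff 0)) :
    algebraMap R[X] (Localization (sig0 R)) q ∈ (⊥ : Ideal (Localization (sig0 R))).jacobson := by
  rw [Ideal.mem_jacobson_bot]
  intro y
  obtain ⟨p, σ, rfl⟩ := IsLocalization.exists_mk'_eq (sig0 R) y
  have h1 : (algebraMap R[X] (Localization (sig0 R)) q * IsLocalization.mk' _ p σ + 1) *
      algebraMap R[X] (Localization (sig0 R)) σ =
      algebraMap R[X] (Localization (sig0 R)) (q * p + σ) := by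
    rw [add_mul, mul_assoc, IsLocalization.mk'_spec, one_mul, map_add, map_mul]
  have h2 : IsUnit (algebraMap R[X] (Localization (sig0 R)) (q * p + σ)) :=
    isUnit_algebraMap_sig0 _ (hq p σ σ.2)
  rw [← h1] at h2
  exact isUnit_of_mul_isUnit_left h2

theorem X_mem_jacobson_sig0 :
    algebraMap R[X] (Localization (sig0 R)) X ∈ (⊥ : Ideal (Localization (sig0 R))).jacobson := by
  apply mem_jacobson_sig0
  intro p σ hσ
  rw [coeff_add, mul_coeff_zero, coeff_X_zero, zero_mul, zero_add, mem_sig0.mp hσ]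
  exact isUnit_one

theorem C_mem_jacobson_sig0 [IsLocalRing R] (r : R) (hr : r ∈ maximalIdeal R) :
    algebraMap R[X] (Localization (sig0 R)) (C r) ∈ (⊥ : Ideal (Localization (sig0 R))).jacobson := by
  apply mem_jacobson_sig0
  intro p σ hσ
  rw [coeff_add, mul_coeff_zero, coeff_C_zero, mem_sig0.mp hσ]
  have h1 : r * p.coeff 0 ∈ maximalIdeal R := Ideal.mul_mem_right _ _ hr
  have h2 := IsLocalRing.isUnit_one_sub_self_of_mem_nonunits _ (neg_mem h1)
  rwa [sub_neg_eq_add, add_comm] at h2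

theorem mk_mem_jacobson {A : Type*} [CommRing A] (K : Ideal A) (x : A)
    (hx : x ∈ (⊥ : Ideal A).jacobson) :
    Ideal.Quotient.mk K x ∈ (⊥ : Ideal (A ⧸ K)).jacobson := by
  rw [Ideal.mem_jacobson_bot] at hx ⊢
  intro y
  obtain ⟨y, rfl⟩ := Ideal.Quotient.mk_surjective y
  have := (hx y).map (Ideal.Quotient.mk K)
  rwa [map_add, map_mul, map_one] at this

end Sig0

section ZarTwo

variable {R : Type u} [CommRing R] [HenselianLocalRing R] (L : Type u) [CommRing L] [Algebra R[X] L]
  [IsLocalization (sig R) L] [Algebra R L] [IsScalarTower R R[X] L]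
  (ψ : R[X] →ₐ[R] L) (hψ : ψ X * algebraMap R[X] L X = 1)

/-- Step A: a polynomial in `J` of Weierstrass shape -/
theorem zar_exists_weierstrass (J : Ideal L)
    (hJ : J ⊔ (maximalIdeal R).map (algebraMap R L) = ⊤) :
    ∃ (h : R[X]) (a : ℕ), IsUnit (h.coeff a) ∧ (∀ i < a, h.coeff i ∈ maximalIdeal R) ∧
      algebraMap R[X] L h ∈ J := by
  have h1 : (1 : L) ∈ J ⊔ (maximalIdeal R).map (algebraMap R L) := by rw [hJ]; trivial
  obtain ⟨j, hj, ν, hν, hsum⟩ := Submodule.mem_sup.mp h1
  have hmap : (maximalIdeal R).map (algebraMap R L) =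
      ((maximalIdeal R).map (algebraMap R R[X])).map (algebraMap R[X] L) := by
    rw [Ideal.map_map, ← IsScalarTower.algebraMap_eq]
  rw [hmap, IsLocalization.mem_map_algebraMap_iff (sig R) L] at hν
  obtain ⟨⟨⟨a', ha'⟩, ⟨σ, hσ⟩⟩, hνσ⟩ := hν
  have hνσ' : ν * algebraMap R[X] L σ = algebraMap R[X] L a' := hνσ
  obtain ⟨a, g₀, rfl, hg₀⟩ := exists_eq_X_pow_mul_of_mem_sig hσ
  have ha'c : ∀ n, a'.coeff n ∈ maximalIdeal R := by
    rw [Polynomial.algebraMap_eq] at ha'
    exact Ideal.mem_map_C_iff.mp ha'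
  refine ⟨X ^ a * g₀ - a', a, ?_, ?_, ?_⟩
  · rw [coeff_sub, coeff_X_pow_mul', if_pos le_rfl, Nat.sub_self, hg₀]
    exact IsLocalRing.isUnit_one_sub_self_of_mem_nonunits _ (ha'c a)
  · intro i hi
    rw [coeff_sub, coeff_X_pow_mul', if_neg (not_le.mpr hi), zero_sub]
    exact neg_mem (ha'c i)
  · have h2 : algebraMap R[X] L (X ^ a * g₀ - a') = j * algebraMap R[X] L (X ^ a * g₀) := by
      rw [map_sub, ← hνσ']
      have : j = 1 - ν := by rw [← hsum]; ring
      rw [this]
      ring
    rw [h2]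
    exact Ideal.mul_mem_right _ _ hj

include hψ in
/-- Part 2 for the Zariski Laurent ring -/
theorem zar_part_two (J : Ideal L) (hJ : J ⊔ (maximalIdeal R).map (algebraMap R L) = ⊤) :
    (J.comap ψ.toRingHom).map ψ.toRingHom = J ∧
      J.comap ψ.toRingHom ⊔ (maximalIdeal R).map (algebraMap R R[X]) = ⊤ := by
  obtain ⟨h, a, hha, hhlow, hhJ⟩ := zar_exists_weierstrass L J hJ
  -- the auxiliary ring
  have hunits : ∀ y : sig0 R, IsUnit (algebraMap R[X] L y) := fun y =>
    IsLocalization.map_units L (⟨y, mem_sig_of_coeff_zero y.2⟩ : sig R)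
  let ι₀ : Localization (sig0 R) →+* L := IsLocalization.lift (M := sig0 R) hunits
  have hι₀ : ∀ p : R[X], ι₀ (algebraMap R[X] (Localization (sig0 R)) p) = algebraMap R[X] L p :=
    fun p => IsLocalization.lift_eq hunits p
  let φ : R[X] →+* Localization (sig0 R) ⧸ J.comap ι₀ :=
    (Ideal.Quotient.mk (J.comap ι₀)).comp (algebraMap R[X] (Localization (sig0 R)))
  have hφ0 : ∀ p : R[X], φ p = 0 ↔ algebraMap R[X] L p ∈ J := by
    intro p
    change Ideal.Quotient.mk (J.comap ι₀) (algebraMap R[X] (Localization (sig0 R)) p) = 0 ↔ _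
    rw [Ideal.Quotient.eq_zero_iff_mem, Ideal.mem_comap, hι₀]
  have hφX : φ X ∈ (⊥ : Ideal (Localization (sig0 R) ⧸ J.comap ι₀)).jacobson := by
    change Ideal.Quotient.mk (J.comap ι₀) (algebraMap R[X] (Localization (sig0 R)) X) ∈ _
    exact mk_mem_jacobson _ _ X_mem_jacobson_sig0
  have hφC : ∀ r ∈ maximalIdeal R,
      φ (C r) ∈ (⊥ : Ideal (Localization (sig0 R) ⧸ J.comap ι₀)).jacobson := by
    intro r hr
    change Ideal.Quotient.mk (J.comap ι₀) (algebraMap R[X] (Localization (sig0 R)) (C r)) ∈ _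
    exact mk_mem_jacobson _ _ (C_mem_jacobson_sig0 r hr)
  obtain ⟨P, hPmonic, hPdeg, hPlow, hφP⟩ := HenselFactor.exists_monic_map_eq_zero
    (D := Localization (sig0 R) ⧸ J.comap ι₀) h a hha hhlow φ ((hφ0 h).mpr hhJ) hφX hφC
  have hPJ : Polynomial.aeval (algebraMap R[X] L X) P ∈ J := by
    rw [Polynomial.aeval_algebraMap_apply, Polynomial.aeval_X_left_apply]
    exact (hφ0 P).mp hφP
  have hI := comap_sup_eq_top_of_monic ψ (algebraMap R[X] L X) hψ J P hPmonic
    (by rw [hPdeg]; exact hPlow) hPJ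
  obtain ⟨-, -, -, hsurj⟩ := zar_part_one L ψ hψ (J.comap ψ.toRingHom) hI
  exact ⟨map_comap_eq ψ J hsurj, hI⟩

end ZarTwo

end Groth.Agent.R2.H18.FibreIdeals
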