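import Groth.Agent.R2.H18LApproxF

/-!
# Idempotents along a dense ring map with a Henselian condition (helper18)
-/

set_option autoImplicit false
set_option linter.unusedSectionVars false

namespace Groth.Agent.R2.H18.LApprox

universe u

section Idem

variable {L L' : Type*} [CommRing L] [CommRing L'] [Algebra L L'] (D : ApproxData L L')

theorem sub_pow_three_of_idem {S : Type*} [CommRing S] {e₁ e₂ : S} (h₁ : e₁ * e₁ = e₁)
    (h₂ : e₂ * e₂ = e₂) : (e₁ - e₂) ^ 3 = e₁ - e₂ := by
  linear_combination (e₁ + 1 - 3 * e₂) * h₁ + (3 * e₁ - e₂ - 1) * h₂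

include D in
theorem eq_of_idempotent_of_map_eq {e₁ e₂ : L} (h₁ : IsIdempotentElem e₁)
    (h₂ : IsIdempotentElem e₂) (h : algebraMap L L' e₁ = algebraMap L L' e₂) : e₁ = e₂ := by
  set d := e₁ - e₂ with hd
  have hd3 : d ^ 3 = d := sub_pow_three_of_idem h₁ h₂
  have hιd : algebraMap L L' d = 0 := by rw [hd, map_sub, h, sub_self]
  have hunit : IsUnit (1 + D.t * (-(D.tinv * d * d))) := by
    apply D.unitL
    rw [map_neg, map_mul, hιd, mul_zero, neg_zero]
    exact D.O'.zero_mem
  have h1 : d * (1 + D.t * (-(D.tinv * d * d))) = 0 := by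
    have := D.ht
    linear_combination (-1 : L) * hd3 + (-(d ^ 3)) * this
  have h2 : d = 0 := by
    obtain ⟨w, hw⟩ := hunit.exists_right_inv
    calc d = d * ((1 + D.t * (-(D.tinv * d * d))) * w) := by rw [hw, mul_one]
      _ = 0 := by rw [← mul_assoc, h1, zero_mul]
  exact sub_eq_zero.mp h2

/-- idempotents of `L'` lift to `L` under a Henselian-type hypothesis -/
theorem exists_idempotent
    (hens : ∀ x : L, algebraMap L L' x ∈ D.O' → ∃ y : L, algebraMap L L' y ∈ D.O' ∧
      (D.t * x * y) ^ 2 - D.t * x * y = D.t * x)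
    (e' : L') (he' : IsIdempotentElem e') :
    ∃ e : L, IsIdempotentElem e ∧ algebraMap L L' e = e' := by
  have hee : e' * e' = e' := he'
  obtain ⟨a, ha⟩ := D.pole e'
  obtain ⟨e₀, δ, hδ, hE⟩ := D.dense e' (2 * a + 1)
  have hτ : algebraMap L L' D.t = D.τ := rfl
  rw [hτ] at ha hE
  have hτmem := D.τ_mem
  have hιe₀ : algebraMap L L' e₀ = e' - D.τ ^ (2 * a + 1) * δ := by rw [hE]; ring
  -- the defect of idempotency
  set z₁ : L' := D.τ ^ a * δ - 2 * (D.τ ^ a * e') * δ + D.τ ^ (2 * a + 1 + a) * δ ^ 2 with hz₁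
  have hz₁mem : z₁ ∈ D.O' :=
    D.O'.add_mem (D.O'.sub_mem (D.O'.mul_mem (D.τ_pow_mem a) hδ)
      (D.O'.mul_mem (D.O'.mul_mem (by
        have : (2 : L') = 1 + 1 := by norm_num
        rw [this]; exact D.O'.add_mem D.O'.one_mem D.O'.one_mem) ha) hδ))
      (D.O'.mul_mem (D.τ_pow_mem _) (D.O'.pow_mem hδ 2))
  set c := e₀ ^ 2 - e₀ with hc
  have hιc : algebraMap L L' c = D.τ ^ (a + 1) * z₁ := by
    rw [hc, map_sub, map_pow, hιe₀, hz₁]
    have e1 : D.τ ^ (2 * a + 1) = D.τ ^ (a + 1) * D.τ ^ a := by rw [← pow_add]; congr 1; omega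
    have e2 : D.τ ^ (2 * a + 1 + a) = D.τ ^ (2 * a + 1) * D.τ ^ a := by rw [← pow_add]
    rw [e2, e1]
    linear_combination hee
  have hTi : algebraMap L L' D.tinv * D.τ = 1 := D.map_tinv_mul_τ
  set x := D.tinv ^ (a + 1) * c with hx
  have hιx : algebraMap L L' x = z₁ := by
    rw [hx, map_mul, map_pow, hιc, ← mul_assoc, ← mul_pow, hTi, one_pow, one_mul]
  have htx : D.t ^ (a + 1) * x = c := by
    rw [hx, ← mul_assoc, ← mul_pow, D.ht, one_pow, one_mul]
  set x' := D.t ^ a * x with hx'
  have hιx' : algebraMap L L' x' ∈ D.O' := by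
    rw [hx', map_mul, map_pow, hτ, hιx]
    exact D.O'.mul_mem (D.τ_pow_mem a) hz₁mem
  have htx' : D.t * x' = c := by rw [hx', ← mul_assoc, ← pow_succ', htx]
  obtain ⟨y, hy, hroot⟩ := hens x' hιx'
  set α := D.t * x' * y with hα
  rw [htx'] at hroot
  have hαc : α = c * y := by rw [hα, htx']
  -- the unit `u = 1 - 2 α`
  have hunit : IsUnit (1 + D.t * (-(2 * x' * y))) := by
    apply D.unitL
    rw [map_neg, map_mul, map_mul]
    refine D.O'.neg_mem (D.O'.mul_mem (D.O'.mul_mem ?_ hιx') hy)
    have : algebraMap L L' 2 = 1 + 1 := by rw [map_ofNat]; norm_num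
    rw [this]; exact D.O'.add_mem D.O'.one_mem D.O'.one_mem
  have hu : 1 + D.t * (-(2 * x' * y)) = 1 - 2 * α := by rw [hα]; ring
  rw [hu] at hunit
  obtain ⟨ui, hui⟩ := hunit.exists_right_inv
  have key : (e₀ - α) * (e₀ - α - (1 - 2 * α)) = 0 := by
    linear_combination (-1 : L) * hroot
  refine ⟨(e₀ - α) * ui, ?_, ?_⟩
  · change (e₀ - α) * ui * ((e₀ - α) * ui) = (e₀ - α) * ui
    linear_combination (ui ^ 2) * key + ((e₀ - α) * ui) * hui
  · -- `ι e = e'`
    set ιu := algebraMap L L' (1 - 2 * α) with hιu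
    set d := algebraMap L L' ((e₀ - α) * ui) - e' with hd
    have hια : algebraMap L L' α = D.τ ^ (a + 1) * z₁ * algebraMap L L' y := by
      rw [hαc, map_mul, hιc]
    have hιuui : ιu * algebraMap L L' ui = 1 := by rw [hιu, ← map_mul, hui, map_one]
    set z₂ : L' := -(D.τ ^ (2 * a) * δ) -
      z₁ * algebraMap L L' y * (D.τ ^ a - 2 * (D.τ ^ a * e')) with hz₂
    have hz₂mem : z₂ ∈ D.O' := by
      refine D.O'.sub_mem (D.O'.neg_mem (D.O'.mul_mem (D.τ_pow_mem _) hδ))
        (D.O'.mul_mem (D.O'.mul_mem hz₁mem hy) (D.O'.sub_mem (D.τ_pow_mem a) ?_))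
      have : (2 : L') = 1 + 1 := by norm_num
      rw [this]; exact D.O'.mul_mem (D.O'.add_mem D.O'.one_mem D.O'.one_mem) ha
    have hud : ιu * d = D.τ * z₂ := by
      have h1 : ιu * algebraMap L L' ((e₀ - α) * ui) = algebraMap L L' (e₀ - α) := by
        rw [map_mul, mul_comm (algebraMap L L' (e₀ - α)), ← mul_assoc, hιuui, one_mul]
      have h2 : ιu = 1 - 2 * algebraMap L L' α := by
        rw [hιu, map_sub, map_one, map_mul, map_ofNat]
      rw [hd, mul_sub, h1, h2, map_sub, hιe₀, hια, hz₂]
      have e1 : D.τ ^ (2 * a + 1) = D.τ * D.τ ^ (2 * a) := by rw [pow_succ']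
      have e2 : D.τ ^ (a + 1) = D.τ * D.τ ^ a := by rw [pow_succ']
      rw [e1, e2]
      ring
    have hd3 : d ^ 3 = d := by
      have hi : algebraMap L L' ((e₀ - α) * ui) * algebraMap L L' ((e₀ - α) * ui) =
          algebraMap L L' ((e₀ - α) * ui) := by
        rw [← map_mul]
        congr 1
        linear_combination (ui ^ 2) * key + ((e₀ - α) * ui) * hui
      exact sub_pow_three_of_idem hi hee
    -- `ιu = 1 + τ v`
    set v := algebraMap L L' (-(2 * x' * y)) with hv
    have hvmem : v ∈ D.O' := by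
      rw [hv, map_neg, map_mul, map_mul]
      refine D.O'.neg_mem (D.O'.mul_mem (D.O'.mul_mem ?_ hιx') hy)
      have : algebraMap L L' 2 = 1 + 1 := by rw [map_ofNat]; norm_num
      rw [this]; exact D.O'.add_mem D.O'.one_mem D.O'.one_mem
    have hιuv : ιu = 1 + D.τ * v := by
      rw [hιu, ← hu, map_add, map_one, map_mul, hτ]
    have hunit2 : IsUnit (1 + D.τ * (2 * v + D.τ * v ^ 2 - D.τ * z₂ ^ 2)) := by
      apply D.unitL'
      refine D.O'.sub_mem (D.O'.add_mem (D.O'.mul_mem ?_ hvmem)
        (D.O'.mul_mem hτmem (D.O'.pow_mem hvmem 2))) (D.O'.mul_mem hτmem (D.O'.pow_mem hz₂mem 2))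
      have : (2 : L') = 1 + 1 := by norm_num
      rw [this]; exact D.O'.add_mem D.O'.one_mem D.O'.one_mem
    have h3 : D.τ * z₂ * (1 + D.τ * (2 * v + D.τ * v ^ 2 - D.τ * z₂ ^ 2)) = 0 := by
      have e3 : (ιu * d) ^ 3 = ιu ^ 2 * (ιu * d) := by
        calc (ιu * d) ^ 3 = ιu ^ 3 * d ^ 3 := by ring
          _ = ιu ^ 3 * d := by rw [hd3]
          _ = ιu ^ 2 * (ιu * d) := by ring
      rw [hud, hιuv] at e3
      linear_combination (-1 : L') * e3
    have h4 : D.τ * z₂ = 0 := by
      obtain ⟨w, hw⟩ := hunit2.exists_right_inv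
      calc D.τ * z₂ = D.τ * z₂ * ((1 + D.τ * (2 * v + D.τ * v ^ 2 - D.τ * z₂ ^ 2)) * w) := by
            rw [hw, mul_one]
        _ = 0 := by rw [← mul_assoc, h3, zero_mul]
    have h5 : d = 0 := by
      calc d = (algebraMap L L' ui * ιu) * d := by
            rw [mul_comm (algebraMap L L' ui) ιu, hιuui, one_mul]
        _ = algebraMap L L' ui * (ιu * d) := by ring
        _ = 0 := by rw [hud, h4, mul_zero]
    exact sub_eq_zero.mp h5

/-- idempotents of `L'` lift uniquely to `L` under a Henselian-type hypothesis -/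
theorem existsUnique_idempotent
    (hens : ∀ x : L, algebraMap L L' x ∈ D.O' → ∃ y : L, algebraMap L L' y ∈ D.O' ∧
      (D.t * x * y) ^ 2 - D.t * x * y = D.t * x)
    (e' : L') (he' : IsIdempotentElem e') :
    ∃! e : L, IsIdempotentElem e ∧ algebraMap L L' e = e' := by
  obtain ⟨e, he, hιe⟩ := exists_idempotent D hens e' he'
  refine ⟨e, ⟨he, hιe⟩, ?_⟩
  rintro e₂ ⟨he₂, hιe₂⟩
  exact eq_of_idempotent_of_map_eq D he₂ he (by rw [hιe₂, hιe])

end Idem

section HenselianCompletion

open Polynomial

variable (A : Type u) [CommRing A] (t : A)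
  [Algebra (Localization.Away t) (Localization.Away (tcm A t))]
  (halg : algebraMap (Localization.Away t) (Localization.Away (tcm A t)) =
    Localization.awayMap (algebraMap A (Cmp A t)) t)

include halg in
/-- an element of `A[1/t]` that is integral in `Â[1/t]` comes from `A` -/
theorem exists_eq_algebraMap_of_integral (x : Localization.Away t)
    (hx : algebraMap (Localization.Away t) (Localization.Away (tcm A t)) x ∈
      (algebraMap (Cmp A t) (Localization.Away (tcm A t))).range) :
    ∃ a' : A, x = algebraMap A (Localization.Away t) a' := by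
  obtain ⟨b, hb⟩ := hx
  obtain ⟨j, a, ha⟩ := IsLocalization.Away.surj t x
  set T := algebraMap A (Localization.Away t) t with hT
  have hTu : IsUnit T := IsLocalization.Away.algebraMap_isUnit t
  have h1 : algebraMap (Cmp A t) (Localization.Away (tcm A t)) (b * tcm A t ^ j) =
      algebraMap (Cmp A t) (Localization.Away (tcm A t)) (algebraMap A (Cmp A t) a) := by
    rw [map_mul, hb, map_pow, ← iota_algebraMap A t halg, ← iota_algebraMap A t halg, ← map_pow,
      ← map_mul, ha]
  obtain ⟨⟨_, N, rfl⟩, hN⟩ := (IsLocalization.eq_iff_exists (Submonoid.powers (tcm A t))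
    (Localization.Away (tcm A t))).mp h1
  have h2 : algebraMap A (Cmp A t) (t ^ N * a) = tcm A t ^ (N + j) * b := by
    rw [map_mul, map_pow, ← hN, pow_add]
    ring
  obtain ⟨a', ha'⟩ := exists_eq_pow_mul_of_completion A t (t ^ N * a) (N + j) b h2
  refine ⟨a', ?_⟩
  have h4 : T ^ (N + j) * x = T ^ (N + j) * algebraMap A (Localization.Away t) a' := by
    calc T ^ (N + j) * x = T ^ N * (x * T ^ j) := by ring
      _ = algebraMap A (Localization.Away t) (t ^ N * a) := by
          rw [ha, map_mul, map_pow]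
      _ = T ^ (N + j) * algebraMap A (Localization.Away t) a' := by
          rw [ha', map_mul, map_pow]
  exact (hTu.pow (N + j)).mul_left_cancel h4

include halg in
/-- the Henselian hypothesis of `existsUnique_idempotent` for a Henselian pair `(A, tA)` -/
theorem hens_completion [HenselianRing A (Ideal.span {t})] (x : Localization.Away t)
    (hx : algebraMap (Localization.Away t) (Localization.Away (tcm A t)) x ∈
      (algebraMap (Cmp A t) (Localization.Away (tcm A t))).range) :
    ∃ y : Localization.Away t,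
      algebraMap (Localization.Away t) (Localization.Away (tcm A t)) y ∈
        (algebraMap (Cmp A t) (Localization.Away (tcm A t))).range ∧
      (algebraMap A (Localization.Away t) t * x * y) ^ 2 -
        algebraMap A (Localization.Away t) t * x * y = algebraMap A (Localization.Away t) t * x := by
  obtain ⟨a', rfl⟩ := exists_eq_algebraMap_of_integral A t halg x hx
  -- Hensel root of `X ^ 2 - X - t a'`
  set f : A[X] := X ^ (1 + 1) - (X + C (t * a')) with hf
  have hdeg : (X + C (t * a') : A[X]).degree ≤ 1 :=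
    (Polynomial.degree_add_le _ _).trans
      (max_le Polynomial.degree_X_le (Polynomial.degree_C_le.trans zero_le_one))
  have hmonic : f.Monic := Polynomial.monic_X_pow_sub
    (lt_of_le_of_lt hdeg (by exact_mod_cast (Nat.lt_succ_self 1)))
  have heval : f.eval 0 ∈ Ideal.span {t} := by
    rw [hf]
    simp only [eval_sub, eval_pow, eval_X, eval_add, eval_C]
    rw [Ideal.mem_span_singleton']
    exact ⟨-a', by ring⟩
  have hder : IsUnit (Ideal.Quotient.mk (Ideal.span {t}) (f.derivative.eval 0)) := by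
    have : f.derivative.eval 0 = -1 := by
      rw [hf]
      simp
    rw [this, map_neg, map_one]
    exact isUnit_one.neg
  obtain ⟨α, hroot, hαI⟩ := HenselianRing.is_henselian f hmonic 0 heval hder
  rw [sub_zero] at hαI
  have hroot' : α ^ 2 - (α + t * a') = 0 := by
    have := hroot
    rw [Polynomial.IsRoot.def, hf] at this
    simpa using this
  have hjac : α ∈ (⊥ : Ideal A).jacobson := HenselianRing.jac hαI
  have hunit : IsUnit (α * (-1) + 1) := Ideal.mem_jacobson_bot.mp hjac (-1)
  obtain ⟨w, hw⟩ := hunit.exists_right_inv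
  -- `α = t a' (-w)`
  have hα : α = t * a' * (-w) := by
    linear_combination (-α) * hw + (-w) * hroot'
  refine ⟨algebraMap A (Localization.Away t) (-w), ⟨algebraMap A (Cmp A t) (-w),
    (iota_algebraMap A t halg (-w)).symm⟩, ?_⟩
  rw [← map_mul, ← map_mul, ← hα, ← map_pow, ← map_sub]
  congr 1
  linear_combination hroot'

include halg in
theorem existsUnique_idempotent_completion [HenselianRing A (Ideal.span {t})]
    (e : Localization.Away (tcm A t)) (he : IsIdempotentElem e) :
    ∃! e₀ : Localization.Away t, IsIdempotentElem e₀ ∧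
      algebraMap (Localization.Away t) (Localization.Away (tcm A t)) e₀ = e := by
  have ht : t ∈ (⊥ : Ideal A).jacobson :=
    HenselianRing.jac (I := Ideal.span {t}) (Ideal.subset_span rfl)
  exact existsUnique_idempotent (approxDataCompletion A t halg ht)
    (hens_completion A t halg) e he

end HenselianCompletion

end Groth.Agent.R2.H18.LApprox
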