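import Mathlib

/-!
# Idempotents of `R((X))` are constants (helper18)
-/

set_option autoImplicit false

namespace Groth.Agent.R2.H18.LaurentIdem

open HahnSeries

variable {R : Type*} [CommRing R]

/-- ring hom on Laurent series induced by a ring hom on coefficients -/
noncomputable def mapHom {S : Type*} [CommRing S] (f : R →+* S) :
    LaurentSeries R →+* LaurentSeries S where
  toFun x := x.map f
  map_one' := by
    ext i
    simp only [HahnSeries.map_coeff, HahnSeries.coeff_one]
    split_ifs <;> simp
  map_mul' x y := HahnSeries.map_mul (f : R →ₙ+* S)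
  map_zero' := by
    ext i
    simp
  map_add' x y := by
    ext i
    simp

theorem mapHom_coeff {S : Type*} [CommRing S] (f : R →+* S) (x : LaurentSeries R) (i : ℤ) :
    (mapHom f x).coeff i = f (x.coeff i) := by
  simp [mapHom]

/-- An idempotent Laurent series is, modulo every prime, `0` or `1`. -/
theorem coeff_mem_prime_of_idem {e : LaurentSeries R} (he : IsIdempotentElem e)
    (P : Ideal R) [P.IsPrime] :
    (∀ i, e.coeff i ∈ P) ∨ (∀ i, (e - 1).coeff i ∈ P) := by
  have h1 : IsIdempotentElem (mapHom (Ideal.Quotient.mk P) e) := he.map _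
  rcases (IsIdempotentElem.iff_eq_zero_or_one.mp h1) with h | h
  · left
    intro i
    have := congrArg (fun x : LaurentSeries (R ⧸ P) => x.coeff i) h
    simp only [mapHom_coeff, HahnSeries.coeff_zero] at this
    exact Ideal.Quotient.eq_zero_iff_mem.mp this
  · right
    intro i
    have h2 : mapHom (Ideal.Quotient.mk P) (e - 1) = 0 := by rw [map_sub, h, map_one, sub_self]
    have := congrArg (fun x : LaurentSeries (R ⧸ P) => x.coeff i) h2
    simp only [mapHom_coeff, HahnSeries.coeff_zero] at this
    exact Ideal.Quotient.eq_zero_iff_mem.mp this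


/-- `1 - w` is a unit when all the coefficients of the Laurent series `w` are nilpotent. -/
theorem isUnit_one_sub_of_coeff_nilpotent (w : LaurentSeries R)
    (hw : ∀ i, IsNilpotent (w.coeff i)) : IsUnit (1 - w) := by
  obtain ⟨⟨f, ⟨_, a, rfl⟩⟩, hf⟩ :=
    IsLocalization.surj (Submonoid.powers (PowerSeries.X : PowerSeries R)) w
  have hf' : w * HahnSeries.ofPowerSeries ℤ R (PowerSeries.X ^ a) =
      HahnSeries.ofPowerSeries ℤ R f := hf
  rw [HahnSeries.ofPowerSeries_X_pow] at hf'
  -- coefficients of `f`
  have hfc : ∀ n : ℕ, IsNilpotent (PowerSeries.coeff n f) := by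
    intro n
    have h1 : (HahnSeries.ofPowerSeries ℤ R f).coeff ((n : ℤ)) = PowerSeries.coeff n f :=
      HahnSeries.ofPowerSeries_apply_coeff f n
    rw [← h1, ← hf']
    have h2 : (w * HahnSeries.single (a : ℤ) (1 : R)).coeff (((n : ℤ) - a) + a) =
        w.coeff ((n : ℤ) - a) * 1 := HahnSeries.coeff_mul_single_add
    rw [sub_add_cancel, mul_one] at h2
    rw [h2]
    exact hw _
  set f' : PowerSeries R := PowerSeries.mk fun i => PowerSeries.coeff (i + (a + 1)) f with hf'def
  have hsplit : f = PowerSeries.X ^ (a + 1) * f' + (PowerSeries.trunc (a + 1) f : PowerSeries R) :=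
    PowerSeries.eq_X_pow_mul_shift_add_trunc (a + 1) f
  set Xi : LaurentSeries R := HahnSeries.single (-1 : ℤ) (1 : R) with hXi
  set Xs : LaurentSeries R := HahnSeries.single (1 : ℤ) (1 : R) with hXs
  have hXX : Xi * Xs = 1 := by
    rw [hXi, hXs, HahnSeries.single_mul_single]
    simp
  have hXa : HahnSeries.single (a : ℤ) (1 : R) = Xs ^ a := by
    rw [hXs, HahnSeries.single_pow]
    simp
  have hXsP : Xs = HahnSeries.ofPowerSeries ℤ R PowerSeries.X := by
    rw [hXs, HahnSeries.ofPowerSeries_X]
  have hw2 : w = Xi ^ a * HahnSeries.ofPowerSeries ℤ R f := by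
    rw [← hf', hXa]
    calc w = w * (Xi * Xs) ^ a := by rw [hXX, one_pow, mul_one]
      _ = Xi ^ a * (w * Xs ^ a) := by rw [mul_pow]; ring
  have hnil : IsNilpotent (Xi ^ a * HahnSeries.ofPowerSeries ℤ R
      ((PowerSeries.trunc (a + 1) f : Polynomial R) : PowerSeries R)) := by
    apply Commute.isNilpotent_mul_left (Commute.all _ _)
    have h3 : IsNilpotent (PowerSeries.trunc (a + 1) f : Polynomial R) := by
      rw [Polynomial.isNilpotent_iff]
      intro n
      rw [PowerSeries.coeff_trunc]
      split_ifs
      · exact hfc n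
      · exact IsNilpotent.zero
    have h4 := h3.map (Polynomial.coeToPowerSeries.ringHom (R := R))
    exact h4.map (HahnSeries.ofPowerSeries ℤ R)
  have hunit : IsUnit (HahnSeries.ofPowerSeries ℤ R (1 - PowerSeries.X * f')) := by
    apply IsUnit.map
    rw [PowerSeries.isUnit_iff_constantCoeff]
    simp
  have hfinal : 1 - w = HahnSeries.ofPowerSeries ℤ R (1 - PowerSeries.X * f') +
      -(Xi ^ a * HahnSeries.ofPowerSeries ℤ R
        ((PowerSeries.trunc (a + 1) f : Polynomial R) : PowerSeries R)) := by
    rw [hw2]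
    conv_lhs => rw [hsplit]
    rw [map_add, map_mul, map_pow, map_sub, map_one, map_mul, ← hXsP, pow_succ]
    have : Xi ^ a * Xs ^ a = 1 := by rw [← mul_pow, hXX, one_pow]
    linear_combination (-(Xs * HahnSeries.ofPowerSeries ℤ R f')) * this
  rw [hfinal]
  exact hnil.neg.isUnit_add_left_of_commute hunit (Commute.all _ _)

/-- A Laurent series `d` with `d ^ 3 = d` and nilpotent coefficients vanishes. -/
theorem eq_zero_of_pow_three_of_coeff_nilpotent (d : LaurentSeries R) (hd : d ^ 3 = d)
    (hnil : ∀ i, IsNilpotent (d.coeff i)) : d = 0 := by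
  have h1 : IsUnit (1 - d) := isUnit_one_sub_of_coeff_nilpotent d hnil
  have h2 : IsUnit (1 - (-d)) := isUnit_one_sub_of_coeff_nilpotent (-d) (fun i => by
    rw [HahnSeries.coeff_neg]; exact (hnil i).neg)
  have h3 : d * ((1 - d) * (1 - (-d))) = 0 := by linear_combination -hd
  exact (h1.mul h2).mul_left_eq_zero.mp h3

/-- **Idempotents of `R((X))` are constants.** -/
theorem exists_idempotent_eq_C {e : LaurentSeries R} (he : IsIdempotentElem e) :
    ∃ r : R, IsIdempotentElem r ∧ e = HahnSeries.C r := by
  -- the constant coefficient is idempotent modulo the nilradical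
  have h0 : IsNilpotent (e.coeff 0 * e.coeff 0 - e.coeff 0) := by
    rw [nilpotent_iff_mem_prime]
    intro P hP
    have := hP
    rcases coeff_mem_prime_of_idem he P with h | h
    · exact P.sub_mem (P.mul_mem_left _ (h 0)) (h 0)
    · have h1 := h 0
      rw [HahnSeries.coeff_sub, HahnSeries.coeff_one, if_pos rfl] at h1
      have : e.coeff 0 * e.coeff 0 - e.coeff 0 = e.coeff 0 * (e.coeff 0 - 1) := by ring
      rw [this]
      exact P.mul_mem_left _ h1
  have hi : ∀ i, i ≠ 0 → IsNilpotent (e.coeff i) := by
    intro i hi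
    rw [nilpotent_iff_mem_prime]
    intro P hP
    have := hP
    rcases coeff_mem_prime_of_idem he P with h | h
    · exact h i
    · have h1 := h i
      rwa [HahnSeries.coeff_sub, HahnSeries.coeff_one, if_neg hi, sub_zero] at h1
  -- lift the idempotent
  obtain ⟨r, hr, hre⟩ := exists_isIdempotentElem_eq_of_ker_isNilpotent
    (Ideal.Quotient.mk (nilradical R)) (by
      intro x hx
      rw [RingHom.mem_ker, Ideal.Quotient.eq_zero_iff_mem] at hx
      exact hx) (Ideal.Quotient.mk (nilradical R) (e.coeff 0)) ⟨_, rfl⟩ (by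
      change _ * _ = _
      rw [← map_mul, ← sub_eq_zero, ← map_sub, Ideal.Quotient.eq_zero_iff_mem]
      exact h0)
  have hre' : IsNilpotent (e.coeff 0 - r) := by
    have : Ideal.Quotient.mk (nilradical R) (e.coeff 0 - r) = 0 := by
      rw [map_sub, hre, sub_self]
    exact Ideal.Quotient.eq_zero_iff_mem.mp this
  refine ⟨r, hr, ?_⟩
  have hCr : IsIdempotentElem (HahnSeries.C r : LaurentSeries R) := hr.map _
  have hd := eq_zero_of_pow_three_of_coeff_nilpotent (e - HahnSeries.C r)
    (by
      have h1 : e * e = e := he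
      have h2 : (HahnSeries.C r : LaurentSeries R) * HahnSeries.C r = HahnSeries.C r := hCr
      linear_combination (e + 1 - 3 * HahnSeries.C r) * h1 + (3 * e - HahnSeries.C r - 1) * h2)
    (by
      intro i
      rw [HahnSeries.coeff_sub, HahnSeries.C_apply]
      by_cases h : i = 0
      · rw [h, HahnSeries.coeff_single_same]; exact hre'
      · rw [HahnSeries.coeff_single_of_ne h, sub_zero]; exact hi i h)
  exact sub_eq_zero.mp hd

end Groth.Agent.R2.H18.LaurentIdem
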