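import Groth.Agent.R2.H18LApproxH
import Groth.Agent.R2.H18LApproxG
import Groth.Agent.R2.H18LaurentIdem
import Groth.Agent.Lib.Helper26PairHzUnique

/-!
# The henselization `B = R{t}` of `(R[t], t)` and its Laurent ring `B[1/t] → R((t))` (helper18)
-/

set_option autoImplicit false
set_option linter.unusedSectionVars false

open Polynomial TensorProduct

namespace Groth.Agent.R2.H18.HensLaurent

universe u

open Groth.Agent.R2.H18.LApprox Groth.Agent.Lib.Helper26.PairHz

section PS

variable (R : Type u) [CommRing R]

theorem mem_span_X_pow_iff (n : ℕ) (f : PowerSeries R) :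
    f ∈ (Ideal.span ({PowerSeries.X} : Set (PowerSeries R))) ^ n ↔
      ∀ m < n, PowerSeries.coeff m f = 0 := by
  rw [Ideal.span_singleton_pow, Ideal.mem_span_singleton, PowerSeries.X_pow_dvd_iff]

theorem isAdicComplete_span_X :
    IsAdicComplete (Ideal.span ({PowerSeries.X} : Set (PowerSeries R))) (PowerSeries R) where
  haus' := by
    intro x hx
    ext m
    have h1 := hx (m + 1)
    rw [SModEq.zero, smul_eq_mul, Ideal.mul_top, mem_span_X_pow_iff] at h1
    rw [h1 m (Nat.lt_succ_self m), map_zero]
  prec' := by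
    intro f hf
    refine ⟨PowerSeries.mk fun k => PowerSeries.coeff k (f (k + 1)), fun n => ?_⟩
    rw [SModEq.sub_mem, smul_eq_mul, Ideal.mul_top, mem_span_X_pow_iff]
    intro m hm
    have h1 := hf (Nat.succ_le_of_lt hm)
    rw [SModEq.sub_mem, smul_eq_mul, Ideal.mul_top, mem_span_X_pow_iff] at h1
    have h2 := h1 m (Nat.lt_succ_self m)
    rw [map_sub, sub_eq_zero] at h2
    rw [map_sub, PowerSeries.coeff_mk, sub_eq_zero, h2]

theorem henselianRing_powerSeries :
    HenselianRing (PowerSeries R) (Ideal.span ({PowerSeries.X} : Set (PowerSeries R))) := by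
  haveI := isAdicComplete_span_X R
  infer_instance

end PS

section Hens

variable {R : Type u} [CommRing R] {B : Type u} [CommRing B] [Algebra R[X] B]
  (hB : Hens2.IsPairHenselization R[X] (Ideal.span {(X : R[X])}) B)

include hB in
/-- the canonical map `R{t} → R⟦t⟧` -/
theorem exists_toPowerSeries : ∃ ψ : B →ₐ[R[X]] PowerSeries R, True := by
  obtain ⟨g, -⟩ := exists_algHom_of_isPairHenselization hB (PowerSeries R)
    (Ideal.span ({PowerSeries.X} : Set (PowerSeries R))) (henselianRing_powerSeries R) (by
      rw [Ideal.map_span, Set.image_singleton]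
      apply le_of_eq
      congr 2
      exact Polynomial.coe_X)
  exact ⟨g, trivial⟩

end Hens

section Main

variable {R : Type u} [CommRing R] {B : Type u} [CommRing B] [Algebra R[X] B]
  (hB : Hens2.IsPairHenselization R[X] (Ideal.span {(X : R[X])}) B)
  (ψ : B →ₐ[R[X]] PowerSeries R)

theorem algebraMap_poly_ps (p : R[X]) : algebraMap R[X] (PowerSeries R) p = (p : PowerSeries R) := by
  ext n
  simp [PowerSeries.algebraMap_apply']

theorem psi_algebraMap (p : R[X]) : ψ (algebraMap R[X] B p) = (p : PowerSeries R) := by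
  rw [ψ.commutes, algebraMap_poly_ps]

theorem isUnit_single_one : IsUnit (HahnSeries.single (1 : ℤ) (1 : R)) := by
  refine IsUnit.of_mul_eq_one (HahnSeries.single (-1 : ℤ) (1 : R)) ?_
  rw [HahnSeries.single_mul_single]
  simp

/-- `B[1/t] → R((t))` -/
noncomputable def toLaurent :
    Localization.Away (algebraMap R[X] B X) →+* LaurentSeries R :=
  IsLocalization.Away.lift (algebraMap R[X] B X)
    (g := (HahnSeries.ofPowerSeries ℤ R).comp ψ.toRingHom) (by
      change IsUnit (HahnSeries.ofPowerSeries ℤ R (ψ (algebraMap R[X] B X)))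
      rw [psi_algebraMap, Polynomial.coe_X, HahnSeries.ofPowerSeries_X]
      exact isUnit_single_one)

theorem toLaurent_algebraMap (b : B) :
    toLaurent ψ (algebraMap B (Localization.Away (algebraMap R[X] B X)) b) =
      HahnSeries.ofPowerSeries ℤ R (ψ b) := by
  unfold toLaurent
  rw [IsLocalization.Away.lift_eq]
  rfl

include hB in
theorem map_span_X_pow (n : ℕ) :
    ((Ideal.span {(X : R[X])}) ^ n).map (algebraMap R[X] B) =
      Ideal.span {(algebraMap R[X] B X) ^ n} := by
  rw [Ideal.span_singleton_pow, Ideal.map_span, Set.image_singleton, map_pow]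

include hB in
/-- an element of `B[1/t]` with integral image in `R((t))` lies in `B` -/
theorem exists_eq_algebraMap_of_integral (x : Localization.Away (algebraMap R[X] B X))
    (f : PowerSeries R) (hx : toLaurent ψ x = HahnSeries.ofPowerSeries ℤ R f) :
    ∃ b : B, x = algebraMap B (Localization.Away (algebraMap R[X] B X)) b := by
  obtain ⟨n, b, hb⟩ := IsLocalization.Away.surj (algebraMap R[X] B X) x
  have hTu : IsUnit (algebraMap B (Localization.Away (algebraMap R[X] B X)) (algebraMap R[X] B X)) :=
    IsLocalization.Away.algebraMap_isUnit _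
  -- `ψ b = f * X ^ n`
  have h1 : ψ b = f * PowerSeries.X ^ n := by
    apply HahnSeries.ofPowerSeries_injective (Γ := ℤ)
    rw [← toLaurent_algebraMap, ← hb, map_mul, map_pow, toLaurent_algebraMap, hx,
      psi_algebraMap, Polynomial.coe_X, map_mul, map_pow]
  -- approximate `b` by a polynomial modulo `t ^ n`
  obtain ⟨q, hq⟩ := (quotientMap_pow_bijective hB n).2 (Ideal.Quotient.mk _ b)
  obtain ⟨p, rfl⟩ := Ideal.Quotient.mk_surjective q
  rw [Ideal.quotientMap_mk, Ideal.Quotient.eq, map_span_X_pow hB, Ideal.mem_span_singleton'] at hq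
  obtain ⟨c, hc⟩ := hq
  -- `X ^ n` divides `p`
  have h2 : (p : PowerSeries R) = PowerSeries.X ^ n * (f + ψ c) := by
    have := congrArg ψ hc
    rw [map_mul, map_pow, map_sub, psi_algebraMap, psi_algebraMap, Polynomial.coe_X, h1] at this
    linear_combination -this
  have hdvd : (X : R[X]) ^ n ∣ p := by
    rw [Polynomial.X_pow_dvd_iff]
    intro d hd
    rw [← Polynomial.coeff_coe, h2, PowerSeries.coeff_X_pow_mul', if_neg (not_le.mpr hd)]
  obtain ⟨p₁, rfl⟩ := hdvd
  refine ⟨algebraMap R[X] B p₁ - c, ?_⟩
  have h3 : b = (algebraMap R[X] B X) ^ n * (algebraMap R[X] B p₁ - c) := by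
    rw [map_mul, map_pow] at hc
    linear_combination hc
  apply (hTu.pow n).mul_right_cancel
  rw [hb, h3, map_mul, map_pow]
  ring

include hB in
theorem isUnit_one_add_mul (x : Localization.Away (algebraMap R[X] B X))
    (f : PowerSeries R) (hx : toLaurent ψ x = HahnSeries.ofPowerSeries ℤ R f) :
    IsUnit (1 + algebraMap B (Localization.Away (algebraMap R[X] B X)) (algebraMap R[X] B X) * x) := by
  obtain ⟨b, rfl⟩ := exists_eq_algebraMap_of_integral hB ψ x f hx
  have h1 : algebraMap R[X] B X ∈ (Ideal.span {(X : R[X])}).map (algebraMap R[X] B) :=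
    Ideal.mem_map_of_mem _ (Ideal.subset_span rfl)
  have h2 : algebraMap R[X] B X ∈ (⊥ : Ideal B).jacobson := hB.1.jac h1
  have h3 : IsUnit (algebraMap R[X] B X * b + 1) := Ideal.mem_jacobson_bot.mp h2 b
  have := h3.map (algebraMap B (Localization.Away (algebraMap R[X] B X)))
  rwa [map_add, map_mul, map_one, add_comm] at this

/-- the algebra structure `B[1/t] → R((t))` -/
@[reducible] noncomputable def algL : Algebra (Localization.Away (algebraMap R[X] B X)) (LaurentSeries R) :=
  (toLaurent ψ).toAlgebra

theorem algL_algebraMap (x : Localization.Away (algebraMap R[X] B X)) :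
    @algebraMap _ _ _ _ (algL ψ) x = toLaurent ψ x := rfl

theorem algebraMap_X_eq :
    algebraMap R[X] (Localization.Away (algebraMap R[X] B X)) X =
      algebraMap B (Localization.Away (algebraMap R[X] B X)) (algebraMap R[X] B X) :=
  IsScalarTower.algebraMap_apply R[X] B _ X

/-- the approximation data for `B[1/t] → R((t))` -/
noncomputable def approxDataB :
    @ApproxData (Localization.Away (algebraMap R[X] B X)) (LaurentSeries R) _ _ (algL ψ) :=
  letI := algL ψ
  approxDataG (Localization.Away (algebraMap R[X] B X)) (LaurentSeries R) (RingEquiv.refl _)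
    (fun p => by
      change toLaurent ψ (algebraMap R[X] (Localization.Away (algebraMap R[X] B X)) p) = _
      rw [IsScalarTower.algebraMap_apply R[X] B _ p, toLaurent_algebraMap, psi_algebraMap]
      rfl)
    (IsLocalization.Away.invSelf (algebraMap R[X] B X))
    (by rw [algebraMap_X_eq]; exact IsLocalization.Away.mul_invSelf _)
    (fun x hx => by
      obtain ⟨f, hf⟩ := hx
      rw [algebraMap_X_eq]
      exact isUnit_one_add_mul hB ψ x f hf.symm)

include hB in
/-- idempotents of `B[1/t]` with the same image in `R((t))` agree -/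
theorem eq_of_idempotent_of_toLaurent_eq {e₁ e₂ : Localization.Away (algebraMap R[X] B X)}
    (h₁ : IsIdempotentElem e₁) (h₂ : IsIdempotentElem e₂) (h : toLaurent ψ e₁ = toLaurent ψ e₂) :
    e₁ = e₂ := by
  letI := algL ψ
  exact eq_of_idempotent_of_map_eq (approxDataB hB ψ) h₁ h₂ h

include hB in
/-- **Idempotents of `R{t}[1/t]` come from unique idempotents of `R`.** -/
theorem existsUnique_idempotent (e : Localization.Away (algebraMap R[X] B X))
    (he : IsIdempotentElem e) :
    ∃! r : R, IsIdempotentElem r ∧
      algebraMap B (Localization.Away (algebraMap R[X] B X)) (algebraMap R[X] B (Polynomial.C r)) = e := by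
  obtain ⟨ψ, -⟩ := exists_toPowerSeries hB
  have key : ∀ r : R, toLaurent ψ (algebraMap B (Localization.Away (algebraMap R[X] B X))
      (algebraMap R[X] B (Polynomial.C r))) = HahnSeries.C r := by
    intro r
    rw [toLaurent_algebraMap, psi_algebraMap, Polynomial.coe_C, HahnSeries.ofPowerSeries_C]
  obtain ⟨r, hr, hre⟩ := LaurentIdem.exists_idempotent_eq_C (he.map (toLaurent ψ))
  refine ⟨r, ⟨hr, ?_⟩, ?_⟩
  · apply eq_of_idempotent_of_toLaurent_eq hB ψ _ he
    · rw [key, hre]
    · exact ((hr.map (Polynomial.C : R →+* R[X])).map (algebraMap R[X] B)).map _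
  · rintro r' ⟨-, hr'⟩
    have h1 := key r'
    rw [hr', hre] at h1
    exact (HahnSeries.C_injective h1).symm

end Main

end Groth.Agent.R2.H18.HensLaurent
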