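import Mathlib
import Groth.Agent.Lib.Helper25Shear
import Groth.Agent.Lib.Helper25Points

/-!
# helper18 (round 2): a finite commutative Hopf algebra is free over the invariants of a quotient

For a finite-dimensional commutative Hopf algebra `A` over an algebraically closed field `k` and a
surjective bialgebra map `π : A → H`, `A` is free of rank `dim H` over the subalgebra of right
`H`-coinvariants (Mumford's argument for free actions of finite group schemes).
-/

set_option autoImplicit false
universe u v w

namespace Groth.Agent.R2.H18.HopfFree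

open TensorProduct Module

section LinAlg

/-- Over an infinite field, finitely many surjections `E → F` admit a common family of
`i ≤ dim F` vectors with linearly independent images. -/
theorem exists_family_linearIndependent {k E F ι : Type*} [Field k] [Infinite k]
    [AddCommGroup E] [Module k E] [AddCommGroup F] [Module k F] [FiniteDimensional k F]
    [Finite ι] (ψ : ι → E →ₗ[k] F) (hψ : ∀ g, Function.Surjective (ψ g)) :
    ∀ i ≤ Module.finrank k F, ∃ a : Fin i → E, ∀ g, LinearIndependent k (fun j => ψ g (a j)) := by
  intro i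
  induction i with
  | zero =>
    intro _
    exact ⟨Fin.elim0, fun g => linearIndependent_empty_type⟩
  | succ i ih =>
    intro hi
    obtain ⟨a, ha⟩ := ih (Nat.le_of_succ_le hi)
    -- the bad subspaces
    let S : ι → Submodule k E := fun g =>
      (Submodule.span k (Set.range (fun j => ψ g (a j)))).comap (ψ g)
    have hS : ∀ g, S g ≠ ⊤ := by
      intro g hg
      have h1 : Submodule.span k (Set.range (fun j => ψ g (a j))) = ⊤ := by
        rw [eq_top_iff]
        intro y _
        obtain ⟨x, rfl⟩ := hψ g y
        have : x ∈ S g := by rw [hg]; trivial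
        exact this
      have h2 : Module.finrank k F ≤ i := by
        have h3 := finrank_range_le_card (R := k) (fun j => ψ g (a j))
        rw [Set.finrank, h1, finrank_top] at h3
        simpa using h3
      omega
    have hcov : (⋃ g, (S g : Set E)) ≠ Set.univ := by
      intro h
      obtain ⟨g, hg⟩ := Subspace.exists_eq_top_of_iUnion_eq_univ h
      exact hS g hg
    obtain ⟨x, hx⟩ : ∃ x : E, x ∉ ⋃ g, (S g : Set E) := by
      by_contra hne
      push Not at hne
      exact hcov (Set.eq_univ_of_forall hne)
    refine ⟨Fin.snoc a x, fun g => ?_⟩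
    have e : (fun j => ψ g ((Fin.snoc a x : Fin (i + 1) → E) j)) =
        (Fin.snoc (fun j => ψ g (a j)) (ψ g x) : Fin (i + 1) → F) := by
      funext j
      refine Fin.lastCases ?_ (fun j' => ?_) j
      · simp
      · simp
    rw [e, linearIndependent_finSnoc]
    refine ⟨ha g, fun hmem => hx ?_⟩
    exact Set.mem_iUnion.mpr ⟨g, hmem⟩

/-- In a finitely generated algebra over an algebraically closed field, an element not vanishing
at any rational point is a unit. -/
theorem isUnit_of_forall_point_ne_zero {k : Type u} [Field k] [IsAlgClosed k]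
    {A : Type v} [CommRing A] [Algebra k A] [Algebra.FiniteType k A] (x : A)
    (h : ∀ g : A →ₐ[k] k, g x ≠ 0) : IsUnit x := by
  by_contra hu
  have hne : Ideal.span {x} ≠ (⊤ : Ideal A) := fun h' => hu (Ideal.span_singleton_eq_top.mp h')
  obtain ⟨g, hg⟩ := Groth.Agent.Lib.Helper25.exists_point_vanishing_on (k := k) _ hne
  exact h g (hg _ (Ideal.subset_span rfl))

end LinAlg

section Hopf

variable {k : Type u} [CommRing k] {A : Type v} [CommRing A] [HopfAlgebra k A]
  {H : Type w} [CommRing H] [HopfAlgebra k H] (π : A →ₐ[k] H)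

/-- The right coaction of `H` on `A` induced by `π : A → H`. -/
noncomputable def rho : A →ₐ[k] A ⊗[k] H :=
  (Algebra.TensorProduct.map (AlgHom.id k A) π).comp (Bialgebra.comulAlgHom k A)

theorem rho_apply (a : A) :
    rho π a = Algebra.TensorProduct.map (AlgHom.id k A) π (CoalgebraStruct.comul (R := k) a) := rfl

/-- The `A`-linear slice `A ⊗ H → A`, `x ⊗ h ↦ φ h • x`. -/
noncomputable def sl (φ : H →ₗ[k] k) : A ⊗[k] H →ₗ[A] A :=
  (Algebra.TensorProduct.rid k A A).toLinearMap ∘ₗ φ.baseChange A

@[simp] theorem sl_tmul (φ : H →ₗ[k] k) (x : A) (h : H) :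
    sl (A := A) φ (x ⊗ₜ[k] h) = φ h • x := by
  simp [sl]

/-- The translation operator `h ↦ Σ φ(h₂) h₁` on `H`. -/
noncomputable def Tr (φ : H →ₗ[k] k) : H →ₗ[k] H :=
  (TensorProduct.rid k H).toLinearMap ∘ₗ φ.lTensor H ∘ₗ CoalgebraStruct.comul

/-- Auxiliary map `y ⊗ z ↦ φ (π z) • π y`. -/
noncomputable def Gaux (φ : H →ₗ[k] k) : A ⊗[k] A →ₗ[k] H :=
  (TensorProduct.rid k H).toLinearMap ∘ₗ TensorProduct.map π.toLinearMap (φ ∘ₗ π.toLinearMap)

@[simp] theorem Gaux_tmul (φ : H →ₗ[k] k) (y z : A) :
    Gaux π φ (y ⊗ₜ[k] z) = φ (π z) • π y := by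
  simp [Gaux]

variable (hcomul : ∀ a : A, CoalgebraStruct.comul (R := k) (π a) =
    TensorProduct.map π.toLinearMap π.toLinearMap (CoalgebraStruct.comul (R := k) a))
variable (hcounit : ∀ a : A, CoalgebraStruct.counit (R := k) (π a) =
    CoalgebraStruct.counit (R := k) a)

include hcomul in
theorem Tr_apply_pi (φ : H →ₗ[k] k) (y : A) :
    Tr φ (π y) = Gaux π φ (CoalgebraStruct.comul (R := k) y) := by
  unfold Tr
  rw [LinearMap.comp_apply, LinearMap.comp_apply, hcomul]
  generalize CoalgebraStruct.comul (R := k) y = u
  induction u using TensorProduct.induction_on with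
  | zero => simp
  | add x y hx hy => simp only [map_add, hx, hy]
  | tmul y z => simp

include hcomul in
theorem key_right (φ : H →ₗ[k] k) (z : A ⊗[k] A) :
    (Tr φ).baseChange A (Algebra.TensorProduct.map (AlgHom.id k A) π z) =
      (Gaux π φ ∘ₗ CoalgebraStruct.comul).lTensor A z := by
  induction z using TensorProduct.induction_on with
  | zero => simp
  | add x y hx hy => simp only [map_add, hx, hy]
  | tmul x y =>
    simp only [Algebra.TensorProduct.map_tmul, AlgHom.id_apply, LinearMap.baseChange_tmul,
      LinearMap.lTensor_tmul, LinearMap.comp_apply]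
    rw [Tr_apply_pi π hcomul]

theorem key_left (φ : H →ₗ[k] k) (z : A ⊗[k] A) :
    rho π (sl (A := A) φ (Algebra.TensorProduct.map (AlgHom.id k A) π z)) =
      (Gaux π φ).lTensor A (TensorProduct.assoc k A A A
        ((CoalgebraStruct.comul (R := k) (A := A)).rTensor A z)) := by
  induction z using TensorProduct.induction_on with
  | zero => simp
  | add x y hx hy => simp only [map_add, hx, hy]
  | tmul x y =>
    simp only [Algebra.TensorProduct.map_tmul, AlgHom.id_apply, sl_tmul, LinearMap.rTensor_tmul,
      map_smul]
    rw [rho_apply]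
    generalize CoalgebraStruct.comul (R := k) x = u
    induction u using TensorProduct.induction_on with
    | zero => simp
    | add x y hx hy => simp only [map_add, TensorProduct.add_tmul, smul_add, hx, hy]
    | tmul x₁ x₂ => simp [TensorProduct.tmul_smul]

include hcomul in
/-- Coassociativity of the coaction, in sliced form. -/
theorem rho_sl_rho (φ : H →ₗ[k] k) (a : A) :
    rho π (sl (A := A) φ (rho π a)) = (Tr φ).baseChange A (rho π a) := by
  rw [rho_apply π a, key_left, key_right π hcomul, Coalgebra.coassoc_apply,
    LinearMap.lTensor_comp_apply]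

include hcounit in
theorem sl_counit_rho (a : A) :
    sl (A := A) (CoalgebraStruct.counit (R := k) (A := H)) (rho π a) = a := by
  have h : ∀ z : A ⊗[k] A,
      sl (A := A) (CoalgebraStruct.counit (R := k) (A := H))
        (Algebra.TensorProduct.map (AlgHom.id k A) π z) =
      TensorProduct.rid k A ((CoalgebraStruct.counit (R := k) (A := A)).lTensor A z) := by
    intro z
    induction z using TensorProduct.induction_on with
    | zero => simp
    | add x y hx hy => simp only [map_add, hx, hy]
    | tmul x y => simp [hcounit]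
  rw [rho_apply π a, h, Coalgebra.lTensor_counit_comul]
  simp

include hcounit in
theorem rho_injective : Function.Injective (rho π) := by
  intro a b hab
  rw [← sl_counit_rho π hcounit a, ← sl_counit_rho π hcounit b, hab]

/-- Surjectivity of the canonical map: `ρ(A)` spans `A ⊗ H` over `A`. -/
theorem mem_span_range_rho (hπ : Function.Surjective π) (y : A ⊗[k] H) :
    y ∈ Submodule.span A (Set.range (rho π)) := by
  obtain ⟨y', rfl⟩ : ∃ y' : A ⊗[k] A, Algebra.TensorProduct.map (AlgHom.id k A) π y' = y :=
    Algebra.TensorProduct.map_surjective (f := AlgHom.id k A) (g := π)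
      Function.surjective_id hπ y
  rw [← Groth.Agent.Lib.Helper25.shear_shearInv (k := k) y']
  generalize Groth.Agent.Lib.Helper25.shearInv (k := k) y' = z
  induction z using TensorProduct.induction_on with
  | zero => simp
  | add z₁ z₂ h₁ h₂ =>
    rw [map_add, map_add]
    exact Submodule.add_mem _ h₁ h₂
  | tmul x b =>
    rw [Groth.Agent.Lib.Helper25.shear_tmul, map_mul, Algebra.TensorProduct.map_tmul, map_one,
      AlgHom.id_apply]
    have e : (x ⊗ₜ[k] (1 : H)) * Algebra.TensorProduct.map (AlgHom.id k A) π
        (CoalgebraStruct.comul (R := k) b) = x • rho π b := by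
      rw [Algebra.smul_def, Algebra.TensorProduct.algebraMap_apply]
      rfl
    rw [e]
    exact Submodule.smul_mem _ _ (Submodule.subset_span ⟨b, rfl⟩)

theorem repr_eq_sl {ι : Type*} (hb : Basis ι k H) (w : A ⊗[k] H) (m : ι) :
    (Algebra.TensorProduct.basis A hb).repr w m = sl (A := A) (hb.coord m) w := by
  induction w using TensorProduct.induction_on with
  | zero => simp
  | add x y hx hy => simp only [map_add, Finsupp.coe_add, Pi.add_apply, hx, hy]
  | tmul x h => simp [Algebra.smul_def, mul_comm]

end Hopf

section Select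

variable {k : Type u} [Field k] {A : Type v} [CommRing A] [HopfAlgebra k A]
  {H : Type w} [CommRing H] [HopfAlgebra k H] (π : A →ₐ[k] H)

/-- Evaluation of the left factor at a rational point: `x ⊗ h ↦ g x • h`. -/
noncomputable def ev (g : A →ₐ[k] k) : A ⊗[k] H →ₗ[k] H :=
  (TensorProduct.lid k H).toLinearMap ∘ₗ g.toLinearMap.rTensor H

@[simp] theorem ev_tmul (g : A →ₐ[k] k) (x : A) (h : H) : ev g (x ⊗ₜ[k] h) = g x • h := by
  simp [ev]

theorem ev_smul (g : A →ₐ[k] k) (x : A) (w : A ⊗[k] H) : ev g (x • w) = g x • ev g w := by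
  induction w using TensorProduct.induction_on with
  | zero => simp
  | add x y hx hy => simp only [smul_add, map_add, hx, hy]
  | tmul y h => simp [TensorProduct.smul_tmul', mul_smul]

theorem repr_ev {ι : Type*} (hb : Basis ι k H) (g : A →ₐ[k] k) (w : A ⊗[k] H) (m : ι) :
    hb.repr (ev g w) m = g ((Algebra.TensorProduct.basis A hb).repr w m) := by
  induction w using TensorProduct.induction_on with
  | zero => simp
  | add x y hx hy => simp only [map_add, Finsupp.coe_add, Pi.add_apply, hx, hy]
  | tmul x h => simp

/-- The composite `A → A ⊗ H → H` of the coaction and evaluation at a point is surjective. -/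
theorem ev_rho_surjective (hπ : Function.Surjective π) (g : A →ₐ[k] k) :
    Function.Surjective (ev g ∘ₗ (rho π).toLinearMap) := by
  intro h
  have h1 : ((1 : A) ⊗ₜ[k] h) ∈ Submodule.span A (Set.range (rho π)) := mem_span_range_rho π hπ _
  have h2 : ∀ y ∈ Submodule.span A (Set.range (rho π)),
      ev g y ∈ LinearMap.range (ev g ∘ₗ (rho π).toLinearMap) := by
    intro y hy
    induction hy using Submodule.span_induction with
    | mem y hy =>
      obtain ⟨b, rfl⟩ := hy
      exact ⟨b, rfl⟩
    | zero => simp
    | add y z _ _ hy hz =>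
      rw [map_add]
      exact Submodule.add_mem _ hy hz
    | smul x y _ hy =>
      rw [ev_smul]
      exact Submodule.smul_mem _ _ hy
  obtain ⟨b, hb⟩ := h2 _ h1
  exact ⟨b, by simpa using hb⟩

variable [IsAlgClosed k] [Module.Finite k A] [Module.Finite k H]

/-- Basis selection: there are `a₁, …, aₙ ∈ A` (`n = dim H`) whose coactions form an `A`-basis of
`A ⊗ H`. -/
theorem exists_isUnit_det (hπ : Function.Surjective π) {n : ℕ} (hn : Module.finrank k H = n)
    (hb : Basis (Fin n) k H) :
    ∃ a : Fin n → A,
      IsUnit ((Algebra.TensorProduct.basis A hb).toMatrix (fun i => rho π (a i))).det := by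
  classical
  have : Finite (A →ₐ[k] k) := (linearIndependent_toLinearMap k A k).finite_of_isNoetherian
  have : Algebra.FiniteType k A := Module.Finite.finiteType A
  obtain ⟨a, ha⟩ := exists_family_linearIndependent
    (fun g : A →ₐ[k] k => ev g ∘ₗ (rho π).toLinearMap) (ev_rho_surjective π hπ) n hn.ge
  refine ⟨a, isUnit_of_forall_point_ne_zero (k := k) _ (fun g => ?_)⟩
  have e : g ((Algebra.TensorProduct.basis A hb).toMatrix (fun i => rho π (a i))).det =
      (hb.toMatrix (fun i => (ev g ∘ₗ (rho π).toLinearMap) (a i))).det := by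
    rw [AlgHom.map_det]
    congr 1
    ext m i
    simp [Basis.toMatrix_apply, repr_ev]
  rw [e]
  have hli := ha g
  have hsp : Submodule.span k (Set.range fun i => (ev g ∘ₗ (rho π).toLinearMap) (a i)) = ⊤ :=
    hli.span_eq_top_of_card_eq_finrank' (by simp [hn])
  have := (hb.is_basis_iff_det).mp ⟨hli, hsp⟩
  rw [Basis.det_apply] at this
  exact this.ne_zero

end Select

section Core

open scoped Matrix

variable {k : Type u} [CommRing k] {A : Type v} [CommRing A] [HopfAlgebra k A] [Nontrivial A]
  {H : Type w} [CommRing H] [HopfAlgebra k H] (π : A →ₐ[k] H)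

/-- **Core of Mumford's argument**: if `a₁, …, aₙ ∈ A` are such that the coactions `ρ(aᵢ)` form an
`A`-basis of `A ⊗ H` (`n` the rank of the free module `H`), then the `aᵢ` form a basis of `A` over
the subalgebra of coinvariants. -/
theorem free_of_isUnit_det
    (hcomul : ∀ a : A, CoalgebraStruct.comul (R := k) (π a) =
      TensorProduct.map π.toLinearMap π.toLinearMap (CoalgebraStruct.comul (R := k) a))
    (hcounit : ∀ a : A, CoalgebraStruct.counit (R := k) (π a) = CoalgebraStruct.counit (R := k) a)
    {n : ℕ} (hb : Basis (Fin n) k H) (a : Fin n → A)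
    (ha : IsUnit ((Algebra.TensorProduct.basis A hb).toMatrix (fun i => rho π (a i))).det) :
    Module.Free
        ↥(AlgHom.equalizer (rho π) (Algebra.TensorProduct.includeLeft : A →ₐ[k] A ⊗[k] H)) A ∧
      Module.finrank
        ↥(AlgHom.equalizer (rho π) (Algebra.TensorProduct.includeLeft : A →ₐ[k] A ⊗[k] H)) A =
        n := by
  classical
  let bA : Basis (Fin n) A (A ⊗[k] H) := Algebra.TensorProduct.basis A hb
  set M : Matrix (Fin n) (Fin n) A := bA.toMatrix (fun i => rho π (a i)) with hM
  have hMu : IsUnit M := (Matrix.isUnit_iff_isUnit_det M).mpr ha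
  set B := AlgHom.equalizer (rho π) (Algebra.TensorProduct.includeLeft : A →ₐ[k] A ⊗[k] H)
    with hB
  have hsmul : ∀ (x : A) (w : A ⊗[k] H), x • w = (x ⊗ₜ[k] (1 : H)) * w := by
    intro x w
    rw [Algebra.smul_def, Algebra.TensorProduct.algebraMap_apply]
    rfl
  have hBmem : ∀ x : A, x ∈ B ↔ rho π x = x ⊗ₜ[k] (1 : H) := fun x => by
    rw [hB, AlgHom.mem_equalizer]
    rfl
  -- coordinates
  let r : A → Fin n → A := fun x m => bA.repr (rho π x) m
  let c : A → Fin n → A := fun x => M⁻¹ *ᵥ r x
  have hMc : ∀ x, M *ᵥ c x = r x := by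
    intro x
    simp only [c, Matrix.mulVec_mulVec, Matrix.mul_nonsing_inv M ha, Matrix.one_mulVec]
  have hr : ∀ x m, r x m = ∑ i, M m i * c x i := by
    intro x m
    have := congrFun (hMc x) m
    simpa [Matrix.mulVec, dotProduct] using this.symm
  have hMapp : ∀ m i, M m i = bA.repr (rho π (a i)) m := fun m i => rfl
  -- expansion of `rho π x` in the basis `rho π (a i)`
  have hC2 : ∀ x, rho π x = ∑ i, c x i • rho π (a i) := by
    intro x
    apply bA.repr.injective
    ext m
    rw [map_sum, Finsupp.finsetSum_apply]
    simp only [map_smul, Finsupp.smul_apply, smul_eq_mul]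
    have h1 := hr x m
    simp only [r] at h1
    rw [h1]
    exact Finset.sum_congr rfl (fun i _ => by rw [hMapp, mul_comm])
  -- the coefficients are coinvariant
  have hcB : ∀ x i, c x i ∈ B := by
    intro x i
    rw [hBmem]
    let d : Fin n → A ⊗[k] H := fun i => rho π (c x i) - (c x i) ⊗ₜ[k] (1 : H)
    have hN : IsUnit (M.map (rho π)) := by
      have := hMu.map (rho π).toRingHom.mapMatrix
      simpa using this
    have hd : (M.map (rho π)) *ᵥ d = 0 := by
      ext m
      simp only [Matrix.mulVec, dotProduct, Matrix.map_apply, Pi.zero_apply, d, mul_sub,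
        Finset.sum_sub_distrib]
      rw [sub_eq_zero]
      have e1 : rho π (r x m) = ∑ i, rho π (M m i) * rho π (c x i) := by
        rw [hr x m, map_sum]
        simp only [map_mul]
      have e2 : rho π (r x m) = ∑ i, rho π (M m i) * ((c x i) ⊗ₜ[k] (1 : H)) := by
        have h1 : r x m = sl (A := A) (hb.coord m) (rho π x) := repr_eq_sl hb _ m
        rw [h1, rho_sl_rho π hcomul]
        conv_lhs => rw [hC2 x]
        rw [map_sum]
        refine Finset.sum_congr rfl (fun i _ => ?_)
        rw [map_smul, ← rho_sl_rho π hcomul, ← repr_eq_sl hb, hsmul, mul_comm, hMapp]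
      rw [← e1, e2]
    have h0 : d = 0 := Matrix.mulVec_injective_of_isUnit hN (by rw [hd, Matrix.mulVec_zero])
    have := congrFun h0 i
    simpa [d, sub_eq_zero] using this
  -- every element is a `B`-combination of the `a i`
  have hsum : ∀ x, x = ∑ i, c x i * a i := by
    intro x
    apply rho_injective π hcounit
    conv_lhs => rw [hC2 x]
    rw [map_sum]
    refine Finset.sum_congr rfl (fun i _ => ?_)
    rw [map_mul, (hBmem _).mp (hcB x i), hsmul]
  -- linear independence
  have hli : LinearIndependent ↥B a := by
    rw [Fintype.linearIndependent_iff]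
    intro b hb0 i
    have h1 : ∑ i, (b i : A) • rho π (a i) = 0 := by
      have := congrArg (rho π) hb0
      rw [map_sum, map_zero] at this
      rw [← this]
      refine Finset.sum_congr rfl (fun i _ => ?_)
      rw [Subalgebra.smul_def, smul_eq_mul, map_mul, (hBmem _).mp (b i).2, hsmul]
    have h2 : M *ᵥ (fun i => (b i : A)) = 0 := by
      ext m
      have := congrArg (fun w => bA.repr w m) h1
      simp only [map_sum, map_zero, Finsupp.coe_zero, Pi.zero_apply, Finsupp.finsetSum_apply,
        map_smul, Finsupp.smul_apply, smul_eq_mul] at this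
      simp only [Matrix.mulVec, dotProduct, Pi.zero_apply]
      rw [← this]
      exact Finset.sum_congr rfl (fun i _ => by rw [hMapp, mul_comm])
    have h3 : (fun i => (b i : A)) = 0 :=
      Matrix.mulVec_injective_of_isUnit hMu (by rw [h2, Matrix.mulVec_zero])
    exact Subtype.ext (congrFun h3 i)
  have hsp : ⊤ ≤ Submodule.span ↥B (Set.range a) := by
    intro x _
    rw [hsum x]
    refine Submodule.sum_mem _ (fun i _ => ?_)
    have : c x i * a i = (⟨c x i, hcB x i⟩ : ↥B) • a i := by
      rw [Subalgebra.smul_def, smul_eq_mul]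
    rw [this]
    exact Submodule.smul_mem _ _ (Submodule.subset_span ⟨i, rfl⟩)
  let bas : Basis (Fin n) ↥B A := Basis.mk hli hsp
  refine ⟨Module.Free.of_basis bas, ?_⟩
  rw [Module.finrank_eq_card_basis bas, Fintype.card_fin]

end Core

section Main

variable {k : Type u} [Field k] [IsAlgClosed k] {A : Type v} [CommRing A] [HopfAlgebra k A]
  [Module.Finite k A] {H : Type w} [CommRing H] [HopfAlgebra k H] [Module.Finite k H]
  (π : A →ₐ[k] H)

/-- **Freeness over the coinvariants**: for a surjective map of finite-dimensional commutative Hopf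
algebras `π : A → H` over an algebraically closed field, `A` is free of rank `dim H` over the
subalgebra of right `H`-coinvariants. -/
theorem free_finrank
    (hcomul : ∀ a : A, CoalgebraStruct.comul (R := k) (π a) =
      TensorProduct.map π.toLinearMap π.toLinearMap (CoalgebraStruct.comul (R := k) a))
    (hcounit : ∀ a : A, CoalgebraStruct.counit (R := k) (π a) = CoalgebraStruct.counit (R := k) a)
    (hπ : Function.Surjective π) :
    Module.Free
        ↥(AlgHom.equalizer (rho π) (Algebra.TensorProduct.includeLeft : A →ₐ[k] A ⊗[k] H)) A ∧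
      Module.finrank
        ↥(AlgHom.equalizer (rho π) (Algebra.TensorProduct.includeLeft : A →ₐ[k] A ⊗[k] H)) A =
        Module.finrank k H := by
  classical
  have : Nontrivial A := (Bialgebra.counitAlgHom k A).toRingHom.domain_nontrivial
  obtain ⟨n, hn⟩ : ∃ n, Module.finrank k H = n := ⟨_, rfl⟩
  let hb : Basis (Fin n) k H := (Module.finBasis k H).reindex (finCongr hn)
  obtain ⟨a, ha⟩ := exists_isUnit_det π hπ hn hb
  rw [hn]
  exact free_of_isUnit_det π hcomul hcounit hb a ha

end Main

end Groth.Agent.R2.H18.HopfFree
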