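import Mathlib
import Groth.Agent.R2.H18HopfFree

/-!
# helper18 (round 2): freeness over coinvariants, over a local base with infinite residue field

For a local ring `R` with infinite residue field, a commutative Hopf algebra `A` finite over `R`
and a surjective bialgebra map `π : A → H` onto a finite free Hopf algebra, `A` is free of rank
`rank H` over the subalgebra of right `H`-coinvariants.
-/

set_option autoImplicit false
universe u v w

namespace Groth.Agent.R2.H18.HopfFreeLoc

open TensorProduct Module Groth.Agent.R2.H18.HopfFree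

section Avoid

/-- Over a local ring with infinite residue field, a module is not a finite union of proper
submodules. -/
theorem exists_forall_notMem {R E ι : Type*} [CommRing R] [IsLocalRing R]
    [Infinite (IsLocalRing.ResidueField R)] [AddCommGroup E] [Module R E] [Finite ι]
    (S : ι → Submodule R E) (hS : ∀ g, S g ≠ ⊤) : ∃ x : E, ∀ g, x ∉ S g := by
  classical
  by_contra hne
  push Not at hne
  have := Fintype.ofFinite ι
  have hcov : ⋃ i ∈ (Finset.univ : Finset ι), (S i : Set E) = Set.univ := by
    apply Set.eq_univ_of_forall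
    intro x
    obtain ⟨g, hg⟩ := hne x
    simp only [Finset.mem_univ, Set.iUnion_true, Set.mem_iUnion, SetLike.mem_coe]
    exact ⟨g, hg⟩
  obtain ⟨g, -, hfi⟩ := Submodule.exists_finiteIndex_of_cover hcov
  have hfin : Finite (E ⧸ S g) := AddSubgroup.finite_quotient_of_finiteIndex
  obtain ⟨x, hx⟩ : ∃ x : E, x ∉ S g := by
    by_contra h
    push Not at h
    exact hS g (eq_top_iff.mpr fun x _ => h x)
  have hx0 : (S g).mkQ x ≠ 0 := by
    rwa [Submodule.mkQ_apply, Ne, Submodule.Quotient.mk_eq_zero]
  let f : IsLocalRing.ResidueField R → E ⧸ S g := fun z =>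
    (Function.surjInv IsLocalRing.residue_surjective z) • (S g).mkQ x
  have hf : Function.Injective f := by
    intro z z' hzz
    by_contra hne'
    have h1 : (Function.surjInv IsLocalRing.residue_surjective z -
        Function.surjInv IsLocalRing.residue_surjective z') • (S g).mkQ x = 0 := by
      rw [sub_smul, sub_eq_zero]
      exact hzz
    have h2 : IsUnit (Function.surjInv (IsLocalRing.residue_surjective (R := R)) z -
        Function.surjInv IsLocalRing.residue_surjective z') := by
      rw [← IsLocalRing.residue_ne_zero_iff_isUnit, map_sub,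
        Function.surjInv_eq IsLocalRing.residue_surjective,
        Function.surjInv_eq IsLocalRing.residue_surjective]
      exact sub_ne_zero.mpr hne'
    exact hx0 ((h2.smul_eq_zero).mp h1)
  have := Finite.of_injective f hf
  exact not_finite (IsLocalRing.ResidueField R)

/-- Selection lemma: over a local ring `R` with infinite residue field, given finitely many
`R`-linear maps `ψ g : E → F g` into vector spaces over fields `L g` whose images span, there is a
common family of `i ≤ dim` vectors with linearly independent images. -/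
theorem exists_family_linearIndependent {R E ι : Type*} [CommRing R] [IsLocalRing R]
    [Infinite (IsLocalRing.ResidueField R)] [AddCommGroup E] [Module R E] [Finite ι]
    (L : ι → Type*) (F : ι → Type*) [∀ g, Field (L g)] [∀ g, AddCommGroup (F g)]
    [∀ g, Module (L g) (F g)] [∀ g, Module R (F g)] [∀ g, Algebra R (L g)]
    [∀ g, IsScalarTower R (L g) (F g)] [∀ g, FiniteDimensional (L g) (F g)]
    (ψ : ∀ g, E →ₗ[R] F g) (hψ : ∀ g, Submodule.span (L g) (Set.range (ψ g)) = ⊤)
    (n : ℕ) (hn : ∀ g, Module.finrank (L g) (F g) = n) :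
    ∀ i ≤ n, ∃ a : Fin i → E, ∀ g, LinearIndependent (L g) (fun j => ψ g (a j)) := by
  intro i
  induction i with
  | zero =>
    intro _
    exact ⟨Fin.elim0, fun g => linearIndependent_empty_type⟩
  | succ i ih =>
    intro hi
    obtain ⟨a, ha⟩ := ih (Nat.le_of_succ_le hi)
    -- the bad submodules
    let S : ι → Submodule R E := fun g =>
      ((Submodule.span (L g) (Set.range (fun j => ψ g (a j)))).restrictScalars R).comap (ψ g)
    have hS : ∀ g, S g ≠ ⊤ := by
      intro g hg
      have h1 : Submodule.span (L g) (Set.range (fun j => ψ g (a j))) = ⊤ := by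
        rw [eq_top_iff, ← hψ g, Submodule.span_le]
        rintro _ ⟨x, rfl⟩
        have : x ∈ S g := by rw [hg]; trivial
        exact this
      have h2 : n ≤ i := by
        have h3 := finrank_range_le_card (R := L g) (fun j => ψ g (a j))
        rw [Set.finrank, h1, finrank_top, hn g] at h3
        simpa using h3
      omega
    obtain ⟨x, hx⟩ := exists_forall_notMem S hS
    refine ⟨Fin.snoc a x, fun g => ?_⟩
    have e : (fun j => ψ g ((Fin.snoc a x : Fin (i + 1) → E) j)) =
        (Fin.snoc (fun j => ψ g (a j)) (ψ g x) : Fin (i + 1) → F g) := by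
      funext j
      refine Fin.lastCases ?_ (fun j' => ?_) j
      · simp
      · simp
    rw [e, linearIndependent_finSnoc]
    exact ⟨ha g, fun hmem => hx g hmem⟩

end Avoid

section Select

/-- A finite algebra over a local ring has finitely many maximal ideals. -/
theorem finite_maximalSpectrum (R : Type*) (A : Type*) [CommRing R] [IsLocalRing R] [CommRing A]
    [Algebra R A] [Module.Finite R A] : Finite (MaximalSpectrum A) := by
  have hfin : Finite ((IsLocalRing.maximalIdeal R).primesOver A) :=
    (Algebra.QuasiFinite.finite_primesOver (S := A) (IsLocalRing.maximalIdeal R)).to_subtype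
  have hover : ∀ 𝔐 : MaximalSpectrum A, 𝔐.asIdeal ∈ (IsLocalRing.maximalIdeal R).primesOver A := by
    intro 𝔐
    refine ⟨𝔐.isMaximal.isPrime, ⟨?_⟩⟩
    have := 𝔐.isMaximal
    exact (IsLocalRing.eq_maximalIdeal
      (Ideal.isMaximal_comap_of_isIntegral_of_isMaximal (R := R) 𝔐.asIdeal)).symm
  let f : MaximalSpectrum A → (IsLocalRing.maximalIdeal R).primesOver A :=
    fun 𝔐 => ⟨𝔐.asIdeal, hover 𝔐⟩
  refine Finite.of_injective f ?_
  intro 𝔐 𝔑 h
  exact MaximalSpectrum.ext (congrArg Subtype.val h)

variable {R : Type u} [CommRing R] {A : Type v} [CommRing A] [HopfAlgebra R A]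
  {H : Type w} [CommRing H] [HopfAlgebra R H] (π : A →ₐ[R] H)

/-- Coordinates of an element of `A ⊗ H` modulo an ideal of `A`. -/
noncomputable def Φ {n : ℕ} (hb : Basis (Fin n) R H) (𝔐 : Ideal A) :
    A ⊗[R] H →ₗ[A] (Fin n → A ⧸ 𝔐) :=
  ((Ideal.Quotient.mkₐ A 𝔐).toLinearMap.compLeft (Fin n)) ∘ₗ
    (Algebra.TensorProduct.basis A hb).equivFun.toLinearMap

theorem Φ_apply {n : ℕ} (hb : Basis (Fin n) R H) (𝔐 : Ideal A) (w : A ⊗[R] H) (m : Fin n) :
    Φ hb 𝔐 w m = Ideal.Quotient.mk 𝔐 ((Algebra.TensorProduct.basis A hb).repr w m) := rfl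

theorem Φ_surjective {n : ℕ} (hb : Basis (Fin n) R H) (𝔐 : Ideal A) :
    Function.Surjective (Φ hb 𝔐) := by
  intro v
  refine ⟨(Algebra.TensorProduct.basis A hb).equivFun.symm
    (fun m => Function.surjInv Ideal.Quotient.mk_surjective (v m)), ?_⟩
  funext m
  rw [Φ_apply, ← Basis.equivFun_apply, LinearEquiv.apply_symm_apply]
  exact Function.surjInv_eq Ideal.Quotient.mk_surjective (v m)

/-- The images of the coactions span `(A/𝔐)ⁿ`. -/
theorem span_range_Φ_rho (hπ : Function.Surjective π) {n : ℕ} (hb : Basis (Fin n) R H)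
    (𝔐 : Ideal A) :
    Submodule.span (A ⧸ 𝔐) (Set.range (fun x : A => Φ hb 𝔐 (rho π x))) = ⊤ := by
  rw [eq_top_iff]
  rintro v -
  obtain ⟨y, rfl⟩ := Φ_surjective hb 𝔐 v
  have hy : y ∈ Submodule.span A (Set.range (rho π)) := mem_span_range_rho π hπ y
  induction hy using Submodule.span_induction with
  | mem y hy =>
    obtain ⟨b, rfl⟩ := hy
    exact Submodule.subset_span ⟨b, rfl⟩
  | zero => simp
  | add y z _ _ hy hz =>
    rw [map_add]
    exact Submodule.add_mem _ hy hz
  | smul x y _ hy =>
    rw [map_smul, ← algebraMap_smul (A ⧸ 𝔐) x (Φ hb 𝔐 y)]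
    exact Submodule.smul_mem _ _ hy

variable [IsLocalRing R] [Infinite (IsLocalRing.ResidueField R)] [Module.Finite R A]

/-- Basis selection: there are `a₁, …, aₙ ∈ A` (`n = rank H`) whose coactions form an `A`-basis of
`A ⊗ H`. -/
theorem exists_isUnit_det (hπ : Function.Surjective π) {n : ℕ} (hb : Basis (Fin n) R H) :
    ∃ a : Fin n → A,
      IsUnit ((Algebra.TensorProduct.basis A hb).toMatrix (fun i => rho π (a i))).det := by
  classical
  have : Finite (MaximalSpectrum A) := finite_maximalSpectrum R A
  let _ : ∀ g : MaximalSpectrum A, Field (A ⧸ g.asIdeal) :=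
    fun g => Ideal.Quotient.field g.asIdeal
  let ψ : ∀ g : MaximalSpectrum A, A →ₗ[R] (Fin n → A ⧸ g.asIdeal) := fun g =>
    ((Φ hb g.asIdeal).restrictScalars R) ∘ₗ (rho π).toLinearMap
  have hψ : ∀ g : MaximalSpectrum A,
      Submodule.span (A ⧸ g.asIdeal) (Set.range (ψ g)) = ⊤ :=
    fun g => span_range_Φ_rho π hπ hb g.asIdeal
  obtain ⟨a, ha⟩ := exists_family_linearIndependent (fun g : MaximalSpectrum A => A ⧸ g.asIdeal)
    (fun g : MaximalSpectrum A => Fin n → A ⧸ g.asIdeal) ψ hψ n (fun g => by simp) n le_rfl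
  refine ⟨a, ?_⟩
  by_contra hu
  obtain ⟨𝔐, h𝔐, hmem⟩ := exists_max_ideal_of_mem_nonunits hu
  let g : MaximalSpectrum A := ⟨𝔐, h𝔐⟩
  set M := (Algebra.TensorProduct.basis A hb).toMatrix (fun i => rho π (a i)) with hM
  have hcol : (M.map (Ideal.Quotient.mk 𝔐)).col = fun i => ψ g (a i) := by
    funext i m
    rfl
  have hunit : IsUnit (M.map (Ideal.Quotient.mk 𝔐)) := by
    have h1 : LinearIndependent (A ⧸ g.asIdeal) (M.map (Ideal.Quotient.mk 𝔐)).col := by
      rw [hcol]
      exact ha g
    exact (Matrix.linearIndependent_cols_iff_isUnit (K := A ⧸ g.asIdeal)).mp h1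
  have hdet : IsUnit (M.map (Ideal.Quotient.mk 𝔐)).det :=
    (Matrix.isUnit_iff_isUnit_det _).mp hunit
  have h0 : (M.map (Ideal.Quotient.mk 𝔐)).det = 0 := by
    have : (Ideal.Quotient.mk 𝔐) M.det = (M.map (Ideal.Quotient.mk 𝔐)).det :=
      RingHom.map_det _ _
    rw [← this]
    exact Ideal.Quotient.eq_zero_iff_mem.mpr hmem
  rw [h0] at hdet
  exact not_isUnit_zero hdet

end Select

section Main

variable {R : Type u} [CommRing R] [IsLocalRing R] [Infinite (IsLocalRing.ResidueField R)]
  {A : Type v} [CommRing A] [HopfAlgebra R A] [Module.Finite R A]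
  {H : Type w} [CommRing H] [HopfAlgebra R H] [Module.Finite R H] [Module.Free R H]
  (π : A →ₐ[R] H)

/-- **Freeness over the coinvariants, local base**: over a local ring with infinite residue
field, for a surjective bialgebra map `π : A → H` of commutative Hopf algebras with `A` finite and
`H` finite free, `A` is free of rank `rank H` over the subalgebra of right `H`-coinvariants. -/
theorem free_finrank_local
    (hcomul : ∀ a : A, CoalgebraStruct.comul (R := R) (π a) =
      TensorProduct.map π.toLinearMap π.toLinearMap (CoalgebraStruct.comul (R := R) a))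
    (hcounit : ∀ a : A, CoalgebraStruct.counit (R := R) (π a) = CoalgebraStruct.counit (R := R) a)
    (hπ : Function.Surjective π) :
    Module.Free
        ↥(AlgHom.equalizer (rho π) (Algebra.TensorProduct.includeLeft : A →ₐ[R] A ⊗[R] H)) A ∧
      Module.finrank
        ↥(AlgHom.equalizer (rho π) (Algebra.TensorProduct.includeLeft : A →ₐ[R] A ⊗[R] H)) A =
        Module.finrank R H := by
  classical
  have : Nontrivial A := (Bialgebra.counitAlgHom R A).toRingHom.domain_nontrivial
  obtain ⟨n, hn⟩ : ∃ n, Module.finrank R H = n := ⟨_, rfl⟩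
  let hb : Basis (Fin n) R H := (Module.finBasis R H).reindex (finCongr hn)
  obtain ⟨a, ha⟩ := exists_isUnit_det π hπ hb
  rw [hn]
  exact free_of_isUnit_det π hcomul hcounit hb a ha

end Main

end Groth.Agent.R2.H18.HopfFreeLoc
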