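import Mathlib
import Groth.Agent.R2.H18HopfFreeLoc

/-!
# helper18 (round 2): base change of coinvariants and the rank formula `|G| = |G'| · (G : G')`
-/

set_option autoImplicit false
universe u v w

namespace Groth.Agent.R2.H18.HopfFreeBC

open TensorProduct Module Groth.Agent.R2.H18.HopfFree

section BaseChange

variable {R : Type u} [CommRing R] (S : Type u) [CommRing S] [Algebra R S]
  {A : Type v} [CommRing A] [HopfAlgebra R A] {H : Type w} [CommRing H] [HopfAlgebra R H]
  (π : A →ₐc[R] H)

/-- The base change of a bialgebra map, as an algebra map. -/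
noncomputable def piS : S ⊗[R] A →ₐ[S] S ⊗[R] H :=
  Algebra.TensorProduct.map (AlgHom.id S S) (π : A →ₐ[R] H)

theorem piS_tmul (s : S) (a : A) : piS S π (s ⊗ₜ[R] a) = s ⊗ₜ[R] π a := rfl

theorem piS_comul (x : S ⊗[R] A) :
    CoalgebraStruct.comul (R := S) (piS S π x) =
      TensorProduct.map (piS S π).toLinearMap (piS S π).toLinearMap
        (CoalgebraStruct.comul (R := S) x) := by
  have := CoalgHomClass.map_comp_comul_apply
    (Bialgebra.TensorProduct.map (BialgHom.id S S) π) x
  exact this.symm

theorem piS_counit (x : S ⊗[R] A) :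
    CoalgebraStruct.counit (R := S) (piS S π x) = CoalgebraStruct.counit (R := S) x := by
  exact CoalgHomClass.counit_comp_apply
    (Bialgebra.TensorProduct.map (BialgHom.id S S) π) x

theorem piS_surjective (hπ : Function.Surjective π) : Function.Surjective (piS S π) :=
  Algebra.TensorProduct.map_surjective (f := AlgHom.id S S) (g := (π : A →ₐ[R] H))
    Function.surjective_id hπ

/-- Base change of the coaction. -/
theorem distrib_map_rho (x : S ⊗[R] A) :
    AlgebraTensorModule.distribBaseChange R S A H
        (Algebra.TensorProduct.map (AlgHom.id S S) (rho (π : A →ₐ[R] H)) x) =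
      rho (piS S π) x := by
  induction x using TensorProduct.induction_on with
  | zero => simp
  | add x y hx hy => simp only [map_add, hx, hy]
  | tmul s a =>
    rw [Algebra.TensorProduct.map_tmul, AlgHom.id_apply, rho_apply, rho_apply,
      TensorProduct.comul_tmul, CommSemiring.comul_apply]
    generalize CoalgebraStruct.comul (R := R) a = u
    induction u using TensorProduct.induction_on with
    | zero => simp
    | add x y hx hy => simp only [map_add, TensorProduct.tmul_add, hx, hy]
    | tmul a₁ a₂ =>
      simp only [Algebra.TensorProduct.map_tmul, AlgHom.id_apply,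
        AlgebraTensorModule.distribBaseChange_tmul,
        AlgebraTensorModule.tensorTensorTensorComm_tmul, piS_tmul]
      have e1 : s ⊗ₜ[R] a₁ = s • ((1 : S) ⊗ₜ[R] a₁) := by
        rw [TensorProduct.smul_tmul', smul_eq_mul, mul_one]
      have e2 : s ⊗ₜ[R] π a₂ = s • ((1 : S) ⊗ₜ[R] π a₂) := by
        rw [TensorProduct.smul_tmul', smul_eq_mul, mul_one]
      rw [e1, e2, ← TensorProduct.smul_tmul', TensorProduct.tmul_smul]
      rfl

/-- Base change of `a ↦ a ⊗ 1`. -/
theorem distrib_map_includeLeft (x : S ⊗[R] A) :
    AlgebraTensorModule.distribBaseChange R S A H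
        (Algebra.TensorProduct.map (AlgHom.id S S)
          (Algebra.TensorProduct.includeLeft : A →ₐ[R] A ⊗[R] H) x) =
      (Algebra.TensorProduct.includeLeft : S ⊗[R] A →ₐ[S] (S ⊗[R] A) ⊗[S] (S ⊗[R] H)) x := by
  induction x using TensorProduct.induction_on with
  | zero => simp
  | add x y hx hy => simp only [map_add, hx, hy]
  | tmul s a =>
    simp [Algebra.TensorProduct.one_def]

/-- The coinvariants of the base change are the base change of the equaliser. -/
theorem equalizer_eq :
    AlgHom.equalizer (Algebra.TensorProduct.map (AlgHom.id S S) (rho (π : A →ₐ[R] H)))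
        (Algebra.TensorProduct.map (AlgHom.id S S)
          (Algebra.TensorProduct.includeLeft : A →ₐ[R] A ⊗[R] H)) =
      AlgHom.equalizer (rho (piS S π))
        (Algebra.TensorProduct.includeLeft : S ⊗[R] A →ₐ[S] (S ⊗[R] A) ⊗[S] (S ⊗[R] H)) := by
  ext x
  rw [AlgHom.mem_equalizer, AlgHom.mem_equalizer, ← distrib_map_rho, ← distrib_map_includeLeft]
  exact (AlgebraTensorModule.distribBaseChange R S A H).injective.eq_iff.symm

/-- Flat base change of the coinvariants. -/
noncomputable def coinvEquiv [Module.Flat R S] :
    S ⊗[R] ↥(AlgHom.equalizer (rho (π : A →ₐ[R] H))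
        (Algebra.TensorProduct.includeLeft : A →ₐ[R] A ⊗[R] H)) ≃ₗ[S]
      ↥(AlgHom.equalizer (rho (piS S π))
        (Algebra.TensorProduct.includeLeft : S ⊗[R] A →ₐ[S] (S ⊗[R] A) ⊗[S] (S ⊗[R] H))) :=
  (AlgHom.tensorEqualizerEquiv S S (rho (π : A →ₐ[R] H))
      (Algebra.TensorProduct.includeLeft : A →ₐ[R] A ⊗[R] H)).toLinearEquiv ≪≫ₗ
    (Subalgebra.equivOfEq _ _ (equalizer_eq S π)).toLinearEquiv

end BaseChange

section Tower

/-- If an algebra `M`, finite projective over a local ring `S`, is free of rank `n` over a
subalgebra `B`, then `B` is finite free over `S` and `rank_S M = rank_S B * n`. -/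
theorem tower_subalgebra {S : Type*} [CommRing S] [IsLocalRing S] {M : Type*} [CommRing M]
    [Algebra S M] [Module.Finite S M] [Module.Projective S M] [Nontrivial M]
    (B : Subalgebra S M) [Module.Free ↥B M] :
    Module.Free S ↥B ∧ Module.Finite S ↥B ∧
      Module.finrank S M = Module.finrank S ↥B * Module.finrank ↥B M := by
  classical
  have hfinB : Module.Finite ↥B M := Module.Finite.of_restrictScalars_finite S ↥B M
  let b := Module.Free.chooseBasis ↥B M
  have hne : Nonempty (Module.Free.ChooseBasisIndex ↥B M) := by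
    by_contra h
    rw [not_nonempty_iff] at h
    have : Subsingleton M := b.repr.toEquiv.subsingleton
    exact not_subsingleton M this
  obtain ⟨i₀⟩ := hne
  let i : ↥B →ₗ[S] M := (LinearMap.toSpanSingleton ↥B M (b i₀)).restrictScalars S
  let p : M →ₗ[S] ↥B := (b.coord i₀).restrictScalars S
  have hpi : p ∘ₗ i = LinearMap.id := by
    ext c
    simp [i, p]
  have hproj : Module.Projective S ↥B :=
    Module.Projective.of_split i p hpi
  have hfin : Module.Finite S ↥B := by
    refine Module.Finite.of_surjective p ?_
    intro c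
    exact ⟨i c, by simpa using congrArg (fun f => f c) hpi⟩
  have hfree : Module.Free S ↥B := Module.free_of_flat_of_isLocalRing
  have hfreeM : Module.Free S M := Module.free_of_flat_of_isLocalRing
  exact ⟨hfree, hfin, (Module.finrank_mul_finrank S ↥B M).symm⟩

end Tower

section ResidueExt

open Polynomial

variable (R' : Type u) [CommRing R'] [IsLocalRing R']

/-- `R'[X]` localized at the prime `𝔪R'[X]`: a flat local `R'`-algebra with infinite residue
field. -/
abbrev SS : Type u :=
  Localization.AtPrime (Ideal.map (C : R' →+* R'[X]) (IsLocalRing.maximalIdeal R'))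

theorem SS_algebraMap_mem_iff (f : R'[X]) :
    algebraMap R'[X] (SS R') f ∈ IsLocalRing.maximalIdeal (SS R') ↔
      ∀ n, f.coeff n ∈ IsLocalRing.maximalIdeal R' := by
  rw [IsLocalization.AtPrime.to_map_mem_maximal_iff (SS R')
    (Ideal.map (C : R' →+* R'[X]) (IsLocalRing.maximalIdeal R')) f, Ideal.mem_map_C_iff]

instance SS_isLocalHom : IsLocalHom (algebraMap R' (SS R')) := by
  constructor
  intro a ha
  by_contra hna
  have hmem : a ∈ IsLocalRing.maximalIdeal R' := hna
  have h1 : algebraMap R' (SS R') a ∈ IsLocalRing.maximalIdeal (SS R') := by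
    rw [IsScalarTower.algebraMap_apply R' R'[X] (SS R'), SS_algebraMap_mem_iff]
    intro n
    rw [Polynomial.algebraMap_apply, Algebra.algebraMap_self, RingHom.id_apply, coeff_C]
    split_ifs
    · exact hmem
    · exact zero_mem _
  exact h1 ha

instance SS_flat : Module.Flat R' (SS R') := Module.Flat.trans R' R'[X] (SS R')

instance SS_faithfullyFlat : Module.FaithfullyFlat R' (SS R') :=
  Module.FaithfullyFlat.of_flat_of_isLocalHom

instance SS_infinite : Infinite (IsLocalRing.ResidueField (SS R')) := by
  let f : ℕ → IsLocalRing.ResidueField (SS R') :=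
    fun n => IsLocalRing.residue _ (algebraMap R'[X] (SS R') (X ^ n))
  refine Infinite.of_injective f ?_
  intro n m hnm
  by_contra hne
  have h1 : IsLocalRing.residue _ (algebraMap R'[X] (SS R') (X ^ n - X ^ m)) = 0 := by
    rw [map_sub, map_sub, sub_eq_zero]
    exact hnm
  rw [IsLocalRing.residue_eq_zero_iff, SS_algebraMap_mem_iff] at h1
  have h2 := h1 n
  rw [coeff_sub, coeff_X_pow, coeff_X_pow, if_pos rfl, if_neg hne, sub_zero] at h2
  exact (IsLocalRing.mem_maximalIdeal _).mp h2 isUnit_one

end ResidueExt

section Ranks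

/-- Ranks at a prime can be computed after base change to any algebra over the local ring, for
modules whose localisation is free. -/
theorem rankAtStalk_eq_finrank_baseChange {R : Type u} [CommRing R] (q : PrimeSpectrum R)
    (S : Type u) [CommRing S] [Nontrivial S] [Algebra R S]
    [Algebra (Localization.AtPrime q.asIdeal) S]
    [IsScalarTower R (Localization.AtPrime q.asIdeal) S]
    (M : Type v) [AddCommGroup M] [Module R M]
    [Module.Free (Localization.AtPrime q.asIdeal) (Localization.AtPrime q.asIdeal ⊗[R] M)] :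
    Module.rankAtStalk M q = Module.finrank S (S ⊗[R] M) := by
  rw [Module.rankAtStalk_eq_finrank_tensorProduct,
    ← Module.finrank_baseChange (R := S) (S := Localization.AtPrime q.asIdeal),
    (AlgebraTensorModule.cancelBaseChange R (Localization.AtPrime q.asIdeal) S S M).finrank_eq]

/-- Descent of freeness of a finite module along a faithfully flat extension of a local ring. -/
theorem free_localization_of_flat_baseChange {R : Type u} [CommRing R] (q : PrimeSpectrum R)
    (S : Type u) [CommRing S] [Algebra R S]
    [Algebra (Localization.AtPrime q.asIdeal) S]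
    [IsScalarTower R (Localization.AtPrime q.asIdeal) S]
    [Module.FaithfullyFlat (Localization.AtPrime q.asIdeal) S]
    (M : Type v) [AddCommGroup M] [Module R M] [Module.Finite R M]
    [Module.Flat S (S ⊗[R] M)] :
    Module.Free (Localization.AtPrime q.asIdeal) (Localization.AtPrime q.asIdeal ⊗[R] M) := by
  have h1 : Module.Flat S (S ⊗[Localization.AtPrime q.asIdeal]
      (Localization.AtPrime q.asIdeal ⊗[R] M)) :=
    Module.Flat.of_linearEquiv
      (AlgebraTensorModule.cancelBaseChange R (Localization.AtPrime q.asIdeal) S S M)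
  have h2 : Module.Flat (Localization.AtPrime q.asIdeal)
      (Localization.AtPrime q.asIdeal ⊗[R] M) :=
    Module.Flat.of_flat_tensorProduct _ _ S
  exact Module.free_of_flat_of_isLocalRing

end Ranks

section Main

variable (R : Type u) [CommRing R] [IsNoetherianRing R] (A : Type v) [CommRing A]
  [HopfAlgebra R A] [Module.Finite R A] [Module.Projective R A] (I : Ideal A) [I.IsHopfIdeal R]
  [Module.Projective R (A ⧸ I)] (q : PrimeSpectrum R)

/-- The rank formula, given an auxiliary faithfully flat local extension of `R_q` with infinite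
residue field. -/
theorem rank_formula_aux (S : Type u) [CommRing S] [IsLocalRing S]
    [Infinite (IsLocalRing.ResidueField S)] [Algebra R S]
    [Algebra (Localization.AtPrime q.asIdeal) S]
    [IsScalarTower R (Localization.AtPrime q.asIdeal) S]
    [Module.FaithfullyFlat (Localization.AtPrime q.asIdeal) S] :
    Module.rankAtStalk A q =
      Module.rankAtStalk (A ⧸ I) q *
        Module.rankAtStalk
          (↥(AlgHom.equalizer (rho (Ideal.Quotient.mkₐ R I))
            (Algebra.TensorProduct.includeLeft : A →ₐ[R] A ⊗[R] (A ⧸ I)))) q := by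
  classical
  let π : A →ₐc[R] A ⧸ I := Bialgebra.Quotient.mkBialgHom I
  have hπ : Function.Surjective π := Ideal.Quotient.mk_surjective
  have hflatS : Module.Flat R S := Module.Flat.trans R (Localization.AtPrime q.asIdeal) S
  have hfinH : Module.Finite R (A ⧸ I) :=
    Module.Finite.of_surjective (Ideal.Quotient.mkₐ R I).toLinearMap
      (Ideal.Quotient.mkₐ_surjective R I)
  have hfreeSH : Module.Free S (S ⊗[R] (A ⧸ I)) := Module.free_of_flat_of_isLocalRing
  obtain ⟨hfree, hrank⟩ := HopfFreeLoc.free_finrank_local (piS S π) (piS_comul S π)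
    (piS_counit S π) (piS_surjective S π hπ)
  have hntA : Nontrivial (S ⊗[R] A) :=
    (Bialgebra.counitAlgHom S (S ⊗[R] A)).toRingHom.domain_nontrivial
  obtain ⟨hBfree, hBfin, hBrank⟩ := tower_subalgebra
    (AlgHom.equalizer (rho (piS S π))
      (Algebra.TensorProduct.includeLeft : S ⊗[R] A →ₐ[S] (S ⊗[R] A) ⊗[S] (S ⊗[R] (A ⧸ I))))
  have hSB_free : Module.Free S (S ⊗[R] ↥(AlgHom.equalizer (rho (π : A →ₐ[R] A ⧸ I))
      (Algebra.TensorProduct.includeLeft : A →ₐ[R] A ⊗[R] (A ⧸ I)))) :=
    Module.Free.of_equiv (coinvEquiv S π).symm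
  have hSB_rank := (coinvEquiv S π).finrank_eq
  have hBfinR : Module.Finite R ↥(AlgHom.equalizer (rho (π : A →ₐ[R] A ⧸ I))
      (Algebra.TensorProduct.includeLeft : A →ₐ[R] A ⊗[R] (A ⧸ I))) :=
    Module.Finite.of_injective
      (AlgHom.equalizer (rho (π : A →ₐ[R] A ⧸ I))
        (Algebra.TensorProduct.includeLeft : A →ₐ[R] A ⊗[R] (A ⧸ I))).val.toLinearMap
      Subtype.val_injective
  have hA' : Module.Free (Localization.AtPrime q.asIdeal)
      (Localization.AtPrime q.asIdeal ⊗[R] A) := Module.free_of_flat_of_isLocalRing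
  have hH' : Module.Free (Localization.AtPrime q.asIdeal)
      (Localization.AtPrime q.asIdeal ⊗[R] (A ⧸ I)) := Module.free_of_flat_of_isLocalRing
  have hB' : Module.Free (Localization.AtPrime q.asIdeal)
      (Localization.AtPrime q.asIdeal ⊗[R] ↥(AlgHom.equalizer (rho (π : A →ₐ[R] A ⧸ I))
        (Algebra.TensorProduct.includeLeft : A →ₐ[R] A ⊗[R] (A ⧸ I)))) :=
    free_localization_of_flat_baseChange q S _
  rw [rankAtStalk_eq_finrank_baseChange q S A, rankAtStalk_eq_finrank_baseChange q S (A ⧸ I)]
  have e3 := rankAtStalk_eq_finrank_baseChange q S ↥(AlgHom.equalizer (rho (π : A →ₐ[R] A ⧸ I))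
      (Algebra.TensorProduct.includeLeft : A →ₐ[R] A ⊗[R] (A ⧸ I)))
  rw [hBrank, hrank, mul_comm]
  congr 1
  rw [← hSB_rank]
  exact e3.symm

/-- **Order of a finite flat group = order of a closed finite flat subgroup × index**, in terms
of ranks at a prime of the (Noetherian) base. -/
theorem rank_formula :
    Module.rankAtStalk A q =
      Module.rankAtStalk (A ⧸ I) q *
        Module.rankAtStalk
          (↥(AlgHom.equalizer (rho (Ideal.Quotient.mkₐ R I))
            (Algebra.TensorProduct.includeLeft : A →ₐ[R] A ⊗[R] (A ⧸ I)))) q :=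
  rank_formula_aux R A I q (SS (Localization.AtPrime q.asIdeal))

end Main

end Groth.Agent.R2.H18.HopfFreeBC
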