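import Mathlib

/-!
# Horrocks' theorem: generic lemmas (helper18)

* `exists_inverse_up_to`: two maps between finite modules that are mutually inverse modulo an ideal `I`
  are mutually inverse up to an element of `1 + I`.
* `eq_top_of_monic_mul_mem`: Nakayama for `B`-submodules of `B[X]` containing the multiples of a monic
  polynomial, `B` local.
-/

set_option autoImplicit false

open Polynomial

namespace Groth.Agent.R2.H18.Horrocks

universe u v w

section UpTo

variable {S : Type u} [CommRing S]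

/-- intertwining passes to polynomials -/
theorem aeval_intertwine {Z₁ : Type v} {Z₂ : Type w} [AddCommGroup Z₁] [Module S Z₁]
    [AddCommGroup Z₂] [Module S Z₂] (κ : Z₁ →ₗ[S] Z₂) (Ω₁ : Module.End S Z₁) (Ω₂ : Module.End S Z₂)
    (h : κ ∘ₗ Ω₁ = Ω₂ ∘ₗ κ) (q : S[X]) :
    κ ∘ₗ (aeval Ω₁ q) = (aeval Ω₂ q) ∘ₗ κ := by
  have hpow : ∀ n : ℕ, κ ∘ₗ (Ω₁ ^ n) = (Ω₂ ^ n) ∘ₗ κ := by
    intro n
    induction n with
    | zero => simp [Module.End.one_eq_id]
    | succ n ih =>
      rw [pow_succ, pow_succ, Module.End.mul_eq_comp, Module.End.mul_eq_comp,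
        ← LinearMap.comp_assoc, ih, LinearMap.comp_assoc, h, ← LinearMap.comp_assoc]
  induction q using Polynomial.induction_on' with
  | add p q hp hq =>
    rw [map_add, map_add, LinearMap.comp_add, LinearMap.add_comp, hp, hq]
  | monomial n a =>
    rw [aeval_monomial, aeval_monomial, ← Algebra.smul_def, ← Algebra.smul_def,
      LinearMap.comp_smul, LinearMap.smul_comp, hpow]

theorem eval_neg_one_sub_mem {I : Ideal S} {p : S[X]} (hp : p.Monic)
    (hc : ∀ k, p.coeff k ∈ I ^ (p.natDegree - k)) :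
    p.eval (-1) - (-1) ^ p.natDegree ∈ I := by
  rw [Polynomial.eval_eq_sum_range, Finset.sum_range_succ, hp.coeff_natDegree, one_mul,
    add_sub_cancel_right]
  refine Ideal.sum_mem _ fun i hi => ?_
  have hi' : i < p.natDegree := Finset.mem_range.mp hi
  refine Ideal.mul_mem_right _ _ ?_
  have h1 : I ^ (p.natDegree - i) ≤ I := by
    have : p.natDegree - i ≠ 0 := by omega
    exact Ideal.pow_le_self this
  exact h1 (hc i)

theorem aeval_key {Z : Type v} [AddCommGroup Z] [Module S Z] (Ω : Module.End S Z) {p q : S[X]}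
    (N : ℕ) (hq : p - C (p.eval (-1)) = (X - C (-1)) * q) (hΩ : aeval Ω p = 0) :
    aeval Ω ((X + 1) * (C (-(-1) ^ N) * q)) = ((-1) ^ N * p.eval (-1)) • (1 : Module.End S Z) := by
  have h3 := congrArg (aeval Ω) hq
  rw [map_sub, hΩ, aeval_C, zero_sub] at h3
  have h4 : (X + 1 : S[X]) * (C (-(-1) ^ N) * q) = C (-(-1) ^ N) * ((X - C (-1)) * q) := by
    simp only [map_neg, map_one, sub_neg_eq_add]; ring
  rw [h4, map_mul, ← h3, aeval_C, map_neg, neg_mul_neg, ← map_mul,
    Algebra.algebraMap_eq_smul_one]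

/-- Two maps between finite modules that are mutually inverse modulo `I` are mutually inverse up to an
element of `1 + I`. -/
theorem exists_inverse_up_to (I : Ideal S) {Z₁ : Type v} {Z₂ : Type w} [AddCommGroup Z₁] [Module S Z₁]
    [AddCommGroup Z₂] [Module S Z₂] [Module.Finite S Z₁] [Module.Finite S Z₂]
    (κ : Z₁ →ₗ[S] Z₂) (μ : Z₂ →ₗ[S] Z₁)
    (h₁ : LinearMap.range (μ ∘ₗ κ - LinearMap.id) ≤ I • ⊤)
    (h₂ : LinearMap.range (κ ∘ₗ μ - LinearMap.id) ≤ I • ⊤) :
    ∃ (g : S) (lam : Z₂ →ₗ[S] Z₁), g - 1 ∈ I ∧ κ ∘ₗ lam = g • LinearMap.id ∧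
      lam ∘ₗ κ = g • LinearMap.id := by
  set Ω₁ : Module.End S Z₁ := μ ∘ₗ κ - LinearMap.id with hΩ₁
  set Ω₂ : Module.End S Z₂ := κ ∘ₗ μ - LinearMap.id with hΩ₂
  obtain ⟨p₁, hp₁, -, hc₁, ha₁⟩ :=
    LinearMap.exists_monic_and_natDegree_eq_and_coeff_mem_pow_and_aeval_eq_zero S Ω₁ I h₁
  obtain ⟨p₂, hp₂, -, hc₂, ha₂⟩ :=
    LinearMap.exists_monic_and_natDegree_eq_and_coeff_mem_pow_and_aeval_eq_zero S Ω₂ I h₂
  set p := p₁ * p₂ with hp
  have hpa₁ : aeval Ω₁ p = 0 := by rw [hp, map_mul, ha₁, zero_mul]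
  have hpa₂ : aeval Ω₂ p = 0 := by rw [hp, map_mul, ha₂, mul_zero]
  set N := p₁.natDegree + p₂.natDegree with hN
  set u := p.eval (-1) with hu
  have hu' : u - (-1) ^ N ∈ I := by
    have e1 := eval_neg_one_sub_mem hp₁ hc₁
    have e2 := eval_neg_one_sub_mem hp₂ hc₂
    have : u - (-1) ^ N = (p₁.eval (-1) - (-1) ^ p₁.natDegree) * p₂.eval (-1) +
        (-1) ^ p₁.natDegree * (p₂.eval (-1) - (-1) ^ p₂.natDegree) := by
      rw [hu, hp, eval_mul, hN, pow_add]; ring
    rw [this]
    exact I.add_mem (I.mul_mem_right _ e1) (I.mul_mem_left _ e2)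
  obtain ⟨q, hq⟩ : X - C (-1 : S) ∣ p - C (p.eval (-1)) := X_sub_C_dvd_sub_C_eval
  set g : S := (-1) ^ N * u with hg
  have hg1 : g - 1 ∈ I := by
    have : g - 1 = (-1) ^ N * (u - (-1) ^ N) := by
      rw [hg, mul_sub, ← pow_add, ← two_mul, pow_mul]; simp
    rw [this]; exact I.mul_mem_left _ hu'
  -- the polynomial q' with (X+1) q' = g - (-1)^N p... 
  set q' : S[X] := C (-(-1) ^ N) * q with hq'
  have hΘ₁ : μ ∘ₗ κ = aeval Ω₁ (X + 1 : S[X]) := by
    rw [map_add, aeval_X, map_one, hΩ₁, Module.End.one_eq_id]; abel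
  have hΘ₂ : κ ∘ₗ μ = aeval Ω₂ (X + 1 : S[X]) := by
    rw [map_add, aeval_X, map_one, hΩ₂, Module.End.one_eq_id]; abel
  have hint : κ ∘ₗ Ω₁ = Ω₂ ∘ₗ κ := by
    rw [hΩ₁, hΩ₂, LinearMap.comp_sub, LinearMap.sub_comp, LinearMap.comp_id, LinearMap.id_comp,
      LinearMap.comp_assoc]
  refine ⟨g, (aeval Ω₁ q') ∘ₗ μ, hg1, ?_, ?_⟩
  · rw [← LinearMap.comp_assoc, aeval_intertwine κ Ω₁ Ω₂ hint, LinearMap.comp_assoc, hΘ₂,
      ← Module.End.mul_eq_comp, ← map_mul, mul_comm, hq', aeval_key Ω₂ N hq hpa₂, Module.End.one_eq_id]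
  · rw [LinearMap.comp_assoc, hΘ₁, ← Module.End.mul_eq_comp, ← map_mul, mul_comm, hq', aeval_key Ω₁ N hq hpa₁,
      Module.End.one_eq_id]

end UpTo

section Nak

variable {B : Type u} [CommRing B] [IsLocalRing B]

theorem coeff_mem_of_map_residue_eq_zero {h : B[X]} (hh : h.map (IsLocalRing.residue B) = 0)
    (j : ℕ) : h.coeff j ∈ IsLocalRing.maximalIdeal B := by
  have := congrArg (fun q => q.coeff j) hh
  simp only [coeff_map, coeff_zero] at this
  exact (IsLocalRing.residue_eq_zero_iff _).mp this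

/-- Nakayama for `B`-submodules of `B[X]` containing all multiples of a monic polynomial. -/
theorem eq_top_of_monic_mul_mem (V : Submodule B B[X]) {f : B[X]} (hf : f.Monic)
    (hV : ∀ s : B[X], f * s ∈ V)
    (hm : ∀ s : B[X], ∃ v ∈ V, (s - v).map (IsLocalRing.residue B) = 0) : V = ⊤ := by
  have hfin : (⊤ : Submodule B (B[X] ⧸ V)).FG := by
    have h1 : (⊤ : Submodule B (B[X] ⧸ V)) = (degreeLT B f.natDegree).map V.mkQ := by
      refine le_antisymm (fun z _ => ?_) le_top
      obtain ⟨s, rfl⟩ := V.mkQ_surjective z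
      refine ⟨s %ₘ f, ?_, ?_⟩
      · rw [SetLike.mem_coe, mem_degreeLT]
        calc (s %ₘ f).degree < f.degree := degree_modByMonic_lt _ hf
          _ = f.natDegree := degree_eq_natDegree hf.ne_zero
      · rw [Submodule.mkQ_apply, Submodule.mkQ_apply, eq_comm, Submodule.Quotient.eq]
        have : s - s %ₘ f = f * (s /ₘ f) := by
          have := modByMonic_add_div s f
          linear_combination this.symm
        rw [this]; exact hV _
    classical
    rw [h1, degreeLT_eq_span_X_pow]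
    exact (Submodule.fg_span (Finset.finite_toSet _)).map _
  have hbot := Submodule.eq_bot_of_le_smul_of_le_jacobson_bot (IsLocalRing.maximalIdeal B)
    (⊤ : Submodule B (B[X] ⧸ V)) hfin ?_ (IsLocalRing.jacobson_eq_maximalIdeal ⊥ bot_ne_top).ge
  · rw [eq_top_iff]
    intro s _
    have : V.mkQ s ∈ (⊤ : Submodule B (B[X] ⧸ V)) := trivial
    rw [hbot, Submodule.mem_bot, Submodule.mkQ_apply, Submodule.Quotient.mk_eq_zero] at this
    exact this
  · intro z _
    obtain ⟨s, rfl⟩ := V.mkQ_surjective z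
    obtain ⟨v, hv, hsv⟩ := hm s
    have h2 : V.mkQ s = V.mkQ (s - v) := by
      rw [Submodule.mkQ_apply, Submodule.mkQ_apply, Submodule.Quotient.eq]
      simpa using hv
    rw [h2, (s - v).as_sum_support_C_mul_X_pow, map_sum]
    refine Submodule.sum_mem _ fun j _ => ?_
    rw [← smul_eq_C_mul, map_smul]
    exact Submodule.smul_mem_smul (coeff_mem_of_map_residue_eq_zero hsv j) trivial

/-- An ideal of `B[X]` (`B` local) containing a monic polynomial and an element congruent to `1`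
modulo the maximal ideal is the unit ideal. -/
theorem ideal_eq_top_of_monic_mem (J : Ideal B[X]) {f r : B[X]} (hf : f.Monic) (hfJ : f ∈ J)
    (hr : r ∈ J) (hr1 : (r - 1).map (IsLocalRing.residue B) = 0) : J = ⊤ := by
  have := eq_top_of_monic_mul_mem (J.restrictScalars B) hf (fun s => J.mul_mem_right _ hfJ)
    (fun s => ⟨s * r, J.mul_mem_left _ hr, by
      have : s - s * r = - (s * (r - 1)) := by ring
      rw [this, Polynomial.map_neg, Polynomial.map_mul, hr1, mul_zero, neg_zero]⟩)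
  rw [eq_top_iff]
  intro s _
  have h : s ∈ J.restrictScalars B := by rw [this]; trivial
  exact h

end Nak

section PID

theorem exists_unimodular_add_ker {D : Type u} [CommRing D] [IsDomain D] [IsPrincipalIdealRing D]
    {F : Type v} [AddCommGroup F] [Module D F] [Module.Finite D F] [Module.IsTorsionFree D F]
    (ℓ : F →ₗ[D] D) (x : F) (hker : LinearMap.ker ℓ ≠ ⊥) :
    ∃ w ∈ LinearMap.ker ℓ, ∃ ψ : F →ₗ[D] D, ψ (x + w) = 1 := by
  -- a section of `F → range ℓ`
  have : Module.Free D (LinearMap.range ℓ) := inferInstance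
  obtain ⟨s, hs⟩ := Module.projective_lifting_property ℓ.rangeRestrict LinearMap.id
    (LinearMap.surjective_rangeRestrict ℓ)
  -- retraction onto the kernel
  have hr : ∀ y : F, y - s (ℓ.rangeRestrict y) ∈ LinearMap.ker ℓ := by
    intro y
    have := congrArg (fun g => (g (ℓ.rangeRestrict y) : D)) hs
    simp only [LinearMap.comp_apply, LinearMap.id_apply] at this
    rw [LinearMap.mem_ker, map_sub]
    exact sub_eq_zero.mpr this.symm
  let r : F →ₗ[D] LinearMap.ker ℓ :=
    LinearMap.codRestrict _ (LinearMap.id - s ∘ₗ ℓ.rangeRestrict) (fun y => by simpa using hr y)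
  have hrK : ∀ y ∈ LinearMap.ker ℓ, (r y : F) = y := by
    intro y hy
    have h0 : ℓ.rangeRestrict y = 0 := by
      ext; simpa using hy
    simp [r, h0]
  have : Module.Free D (LinearMap.ker ℓ) := inferInstance
  let b := Module.Free.chooseBasis D (LinearMap.ker ℓ)
  have hne : Nonempty (Module.Free.ChooseBasisIndex D (LinearMap.ker ℓ)) := by
    by_contra h
    rw [not_nonempty_iff] at h
    apply hker
    rw [eq_bot_iff]
    intro y hy
    have : (⟨y, hy⟩ : LinearMap.ker ℓ) = 0 := by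
      rw [← b.sum_repr ⟨y, hy⟩]
      simp
    simpa using congrArg Subtype.val this
  obtain ⟨i₀⟩ := hne
  refine ⟨(b i₀ : F) - r x, ?_, (b.coord i₀) ∘ₗ r, ?_⟩
  · exact Submodule.sub_mem _ (b i₀).2 (r x).2
  · have h1 : r (x + ((b i₀ : F) - r x)) = b i₀ := by
      apply Subtype.ext
      rw [map_add, map_sub, Submodule.coe_add, Submodule.coe_sub, hrK _ (b i₀).2, hrK _ (r x).2]
      abel
    rw [LinearMap.comp_apply, h1]
    simp

theorem exists_div_linearMap {D : Type u} [CommRing D] [IsDomain D]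
    {F : Type v} [AddCommGroup F] [Module D F] (ℓ : F →ₗ[D] D) {a : D} (ha : a ≠ 0)
    (h : ∀ x, a ∣ ℓ x) : ∃ ψ : F →ₗ[D] D, ∀ x, ℓ x = a * ψ x := by
  choose ψ hψ using h
  refine ⟨{ toFun := ψ, map_add' := fun x y => ?_, map_smul' := fun c x => ?_ }, hψ⟩
  · apply mul_left_cancel₀ ha
    rw [← hψ, map_add, hψ x, hψ y, mul_add]
  · apply mul_left_cancel₀ ha
    rw [← hψ, map_smul, hψ x, RingHom.id_apply, smul_eq_mul, smul_eq_mul]; ring

end PID

end Groth.Agent.R2.H18.Horrocks
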