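import Groth.Agent.R2.H18HorrocksA

/-!
# Horrocks' theorem over a local ring, lattice form (helper18)

`B` a local ring, `P` a finitely generated projective `B[X]`-module, `F` a finite free `B[X]`-module
and maps `ι : F → P`, `c : P → F` with `c ∘ ι = f`, `ι ∘ c = f` for a monic polynomial `f`.  Then `P` is
free (`free_of_lattice`).  The proof follows Nashier–Nichols.
-/

set_option autoImplicit false

open Polynomial TensorProduct

namespace Groth.Agent.R2.H18.Horrocks

universe u v

variable {B : Type u} [CommRing B] [IsLocalRing B]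

/-- `B[X] → k[X]` as an algebra, `k` the residue field -/
@[reducible] noncomputable def algRes (B : Type u) [CommRing B] [IsLocalRing B] :
    Algebra B[X] (IsLocalRing.ResidueField B)[X] :=
  (Polynomial.mapRingHom (IsLocalRing.residue B)).toAlgebra

attribute [local instance] algRes

local notation "kX" => (IsLocalRing.ResidueField B)[X]

theorem algebraMap_algRes (s : B[X]) :
    algebraMap B[X] kX s = s.map (IsLocalRing.residue B) := rfl

section Reduction

variable {P : Type v} [AddCommGroup P] [Module B[X] P]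

/-- reduction of a functional modulo the maximal ideal -/
noncomputable def redFun (φ : P →ₗ[B[X]] B[X]) : (kX ⊗[B[X]] P) →ₗ[kX] kX :=
  LinearMap.liftBaseChange kX ((Algebra.linearMap B[X] kX) ∘ₗ φ)

@[simp] theorem redFun_one_tmul (φ : P →ₗ[B[X]] B[X]) (x : P) :
    redFun φ ((1 : kX) ⊗ₜ[B[X]] x) = (φ x).map (IsLocalRing.residue B) := by
  rw [redFun, LinearMap.liftBaseChange_tmul, one_smul]; rfl

theorem exists_one_tmul (y : kX ⊗[B[X]] P) : ∃ x : P, y = (1 : kX) ⊗ₜ[B[X]] x := by
  induction y using TensorProduct.induction_on with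
  | zero => exact ⟨0, by simp⟩
  | tmul a x =>
    obtain ⟨s, rfl⟩ := Polynomial.map_surjective _ IsLocalRing.residue_surjective a
    refine ⟨s • x, ?_⟩
    rw [← algebraMap_algRes, Algebra.algebraMap_eq_smul_one, TensorProduct.smul_tmul]
  | add y z hy hz =>
    obtain ⟨a, rfl⟩ := hy
    obtain ⟨b, rfl⟩ := hz
    exact ⟨a + b, by rw [TensorProduct.tmul_add]⟩

/-- functionals on the reduction lift to functionals on a projective module -/
theorem exists_lift_functional [Module.Projective B[X] P] (ψ : (kX ⊗[B[X]] P) →ₗ[kX] kX) :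
    ∃ φ : P →ₗ[B[X]] B[X], ∀ x, (φ x).map (IsLocalRing.residue B) = ψ ((1 : kX) ⊗ₜ[B[X]] x) := by
  obtain ⟨φ, hφ⟩ := Module.projective_lifting_property (Algebra.linearMap B[X] kX)
    ((ψ.restrictScalars B[X]) ∘ₗ (TensorProduct.mk B[X] kX P 1))
    (Polynomial.map_surjective _ IsLocalRing.residue_surjective)
  refine ⟨φ, fun x => ?_⟩
  have := congrArg (fun g => g x) hφ
  simp only [LinearMap.comp_apply, Algebra.linearMap_apply, LinearMap.restrictScalars_apply,
    TensorProduct.mk_apply] at this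
  rw [← this, algebraMap_algRes]

end Reduction

section Step

variable {P : Type v} [AddCommGroup P] [Module B[X] P] [Module.Finite B[X] P]
  [Module.Projective B[X] P]

theorem exists_monic_coord_of_two_le (m : ℕ) (ι : (Fin (m + 2) → B[X]) →ₗ[B[X]] P)
    (c : P →ₗ[B[X]] (Fin (m + 2) → B[X])) {f : B[X]} (hf : f.Monic)
    (h1 : ∀ v, c (ι v) = f • v) :
    ∃ (p : P) (φ : P →ₗ[B[X]] B[X]), (c p 0).Monic ∧
      (φ p - 1).map (IsLocalRing.residue B) = 0 := by
  set c0 : P →ₗ[B[X]] B[X] := LinearMap.proj 0 ∘ₗ c with hc0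
  set c1 : P →ₗ[B[X]] B[X] := LinearMap.proj 1 ∘ₗ c with hc1
  set e0 : Fin (m + 2) → B[X] := Pi.single 0 1 with he0
  set e1 : Fin (m + 2) → B[X] := Pi.single 1 1 with he1
  have hc0e0 : c0 (ι e0) = f := by simp [hc0, h1, he0]
  have hc0e1 : c0 (ι e1) = 0 := by
    simp only [hc0, LinearMap.comp_apply, LinearMap.proj_apply, h1, he1, Pi.smul_apply, smul_eq_mul]
    rw [Pi.single_eq_of_ne (by simp), mul_zero]
  have hc1e1 : c1 (ι e1) = f := by simp [hc1, h1, he1]
  have hfne : f.map (IsLocalRing.residue B) ≠ 0 := (hf.map _).ne_zero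
  have hker : LinearMap.ker (redFun c0) ≠ ⊥ := by
    intro hbot
    have hy : (1 : kX) ⊗ₜ[B[X]] ι e1 ∈ LinearMap.ker (redFun c0) := by
      rw [LinearMap.mem_ker, redFun_one_tmul, hc0e1, Polynomial.map_zero]
    rw [hbot, Submodule.mem_bot] at hy
    have := congrArg (redFun c1) hy
    rw [redFun_one_tmul, hc1e1, map_zero] at this
    exact hfne this
  obtain ⟨wb, hwb, ψ, hψ⟩ := exists_unimodular_add_ker (redFun c0) ((1 : kX) ⊗ₜ[B[X]] ι e0) hker
  obtain ⟨w, rfl⟩ := exists_one_tmul wb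
  obtain ⟨φ, hφ⟩ := exists_lift_functional ψ
  rw [LinearMap.mem_ker, redFun_one_tmul] at hwb
  set p₀ : P := ι e0 + w with hp₀
  set h : B[X] := c0 p₀ - f with hh
  have hhmap : h.map (IsLocalRing.residue B) = 0 := by
    rw [hh, hp₀, map_add, hc0e0, add_sub_cancel_left, hwb]
  refine ⟨p₀ - (h /ₘ f) • ι e0, φ, ?_, ?_⟩
  · have : c (p₀ - (h /ₘ f) • ι e0) 0 = f + h %ₘ f := by
      have e1 : c (p₀ - (h /ₘ f) • ι e0) 0 = c0 p₀ - (h /ₘ f) * c0 (ι e0) := by
        simp [hc0]
      rw [e1, hc0e0]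
      have := modByMonic_add_div h f
      linear_combination (-1 : B[X]) * this
    rw [this]
    exact hf.add_of_left (degree_modByMonic_lt _ hf)
  · have e2 : φ (p₀ - (h /ₘ f) • ι e0) - 1 = (φ p₀ - 1) - (h /ₘ f) * φ (ι e0) := by
      simp only [map_sub, map_smul, smul_eq_mul]; ring
    rw [e2, Polynomial.map_sub, Polynomial.map_sub, Polynomial.map_mul, map_divByMonic _ hf, hhmap,
      zero_divByMonic, zero_mul, sub_zero, hφ, hp₀, TensorProduct.tmul_add, hψ, Polynomial.map_one,
      sub_self]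

omit [Module.Finite B[X] P] in
theorem exists_monic_coord_of_one (ι : (Fin 1 → B[X]) →ₗ[B[X]] P)
    (c : P →ₗ[B[X]] (Fin 1 → B[X])) {f : B[X]} (hf : f.Monic)
    (h1 : ∀ v, c (ι v) = f • v) :
    ∃ (p : P) (φ : P →ₗ[B[X]] B[X]), (c p 0).Monic ∧
      (φ p - 1).map (IsLocalRing.residue B) = 0 := by
  set c0 : P →ₗ[B[X]] B[X] := LinearMap.proj 0 ∘ₗ c with hc0
  set e0 : Fin 1 → B[X] := Pi.single 0 1 with he0
  have hc0e0 : c0 (ι e0) = f := by simp [hc0, h1, he0]
  have hfne : f.map (IsLocalRing.residue B) ≠ 0 := (hf.map _).ne_zero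
  -- the ideal `J̄` and its generator
  set Jb : Ideal kX := LinearMap.range (redFun c0) with hJb
  have hJmem : ∀ x : P, (c0 x).map (IsLocalRing.residue B) ∈ Jb := fun x =>
    ⟨(1 : kX) ⊗ₜ[B[X]] x, redFun_one_tmul c0 x⟩
  have hprin : Submodule.IsPrincipal Jb := IsPrincipalIdealRing.principal Jb
  set ζ : kX := Submodule.IsPrincipal.generator Jb with hζ
  have hζmem : ∀ a : kX, a ∈ Jb ↔ ζ ∣ a := by
    intro a
    rw [Submodule.IsPrincipal.mem_iff_eq_smul_generator Jb]
    constructor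
    · rintro ⟨s, rfl⟩; exact ⟨s, by rw [smul_eq_mul, mul_comm]⟩
    · rintro ⟨s, rfl⟩; exact ⟨s, by rw [smul_eq_mul, mul_comm]⟩
  have hζne : ζ ≠ 0 := by
    intro h0
    have := (hζmem _).mp (hJmem (ι e0))
    rw [hc0e0, h0, zero_dvd_iff] at this
    exact hfne this
  set d := ζ.natDegree with hd
  -- Nakayama
  set V : Submodule B B[X] := degreeLT B d ⊔ (LinearMap.range c0).restrictScalars B with hV
  have hVtop : V = ⊤ := by
    refine eq_top_of_monic_mul_mem V hf (fun s => ?_) (fun s => ?_)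
    · refine Submodule.mem_sup_right ?_
      exact ⟨s • ι e0, by rw [map_smul, hc0e0, smul_eq_mul, mul_comm]⟩
    · set sb := s.map (IsLocalRing.residue B) with hsb
      have hdiv := EuclideanDomain.div_add_mod sb ζ
      have hq : ζ * (sb / ζ) ∈ Jb := (hζmem _).mpr ⟨_, rfl⟩
      obtain ⟨yb, hyb⟩ := hq
      obtain ⟨y, rfl⟩ := exists_one_tmul yb
      rw [redFun_one_tmul] at hyb
      obtain ⟨r, hr, hrdeg⟩ := Polynomial.exists_degree_eq_of_mem_lifts
        ((Polynomial.mem_lifts (sb % ζ)).mpr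
          (Polynomial.map_surjective _ IsLocalRing.residue_surjective (sb % ζ)))
      refine ⟨r + c0 y, Submodule.add_mem _ (Submodule.mem_sup_left ?_)
        (Submodule.mem_sup_right ⟨y, rfl⟩), ?_⟩
      · rw [mem_degreeLT, hrdeg]
        calc (sb % ζ).degree < ζ.degree := degree_mod_lt _ hζne
          _ = d := degree_eq_natDegree hζne
      · rw [Polynomial.map_sub, Polynomial.map_add, hr, hyb, ← hsb]
        linear_combination hdiv.symm
  have hXd : (X : B[X]) ^ d ∈ V := by rw [hVtop]; trivial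
  obtain ⟨r, hr, j, ⟨p, hp⟩, hrj⟩ := Submodule.mem_sup.mp hXd
  rw [mem_degreeLT] at hr
  have hχ : c0 p = X ^ d - r := by
    change c0 p = j at hp
    rw [hp]; linear_combination hrj
  have hrdeg : r.degree < ((X : B[X]) ^ d).degree := by rwa [degree_X_pow]
  have hχmonic : (c0 p).Monic := by
    rw [hχ]; exact (monic_X_pow d).sub_of_left hrdeg
  have hχdeg : (c0 p).natDegree = d := by
    rw [hχ]
    apply natDegree_eq_of_degree_eq_some
    rw [degree_sub_eq_left_of_degree_lt hrdeg, degree_X_pow]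
  set χb : kX := (c0 p).map (IsLocalRing.residue B) with hχb
  have hχbmonic : χb.Monic := hχmonic.map _
  have hχbne : χb ≠ 0 := hχbmonic.ne_zero
  have hass : Associated ζ χb := by
    refine associated_of_dvd_of_natDegree_le ((hζmem _).mp (hJmem p)) hχbne ?_
    rw [hχb, hχmonic.natDegree_map, hχdeg]
  have hdvd : ∀ yb, χb ∣ redFun c0 yb := by
    intro yb
    exact hass.symm.dvd.trans ((hζmem _).mp ⟨yb, rfl⟩)
  obtain ⟨ψ, hψ⟩ := exists_div_linearMap (redFun c0) hχbne hdvd
  obtain ⟨φ, hφ⟩ := exists_lift_functional ψ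
  refine ⟨p, φ, hχmonic, ?_⟩
  have h3 := hψ ((1 : kX) ⊗ₜ[B[X]] p)
  rw [redFun_one_tmul, ← hχb] at h3
  have h4 : ψ ((1 : kX) ⊗ₜ[B[X]] p) = 1 := by
    apply mul_left_cancel₀ hχbne
    rw [← h3, mul_one]
  rw [Polynomial.map_sub, hφ, h4, Polynomial.map_one, sub_self]

theorem exists_monic_coord_unimodular (n : ℕ) (ι : (Fin (n + 1) → B[X]) →ₗ[B[X]] P)
    (c : P →ₗ[B[X]] (Fin (n + 1) → B[X])) {f : B[X]} (hf : f.Monic)
    (h1 : ∀ v, c (ι v) = f • v) :
    ∃ (p : P) (φ : P →ₗ[B[X]] B[X]), (c p 0).Monic ∧ φ p = 1 := by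
  obtain ⟨p, φ₁, hmon, hφ₁⟩ : ∃ (p : P) (φ : P →ₗ[B[X]] B[X]), (c p 0).Monic ∧
      (φ p - 1).map (IsLocalRing.residue B) = 0 := by
    cases n with
    | zero => exact exists_monic_coord_of_one ι c hf h1
    | succ m => exact exists_monic_coord_of_two_le m ι c hf h1
  set J : Ideal B[X] := LinearMap.range (LinearMap.applyₗ (R := B[X]) (M₂ := B[X]) p) with hJ
  have hJtop : J = ⊤ := by
    refine ideal_eq_top_of_monic_mem J hmon ⟨LinearMap.proj 0 ∘ₗ c, rfl⟩ ⟨φ₁, rfl⟩ hφ₁
  have : (1 : B[X]) ∈ J := by rw [hJtop]; trivial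
  obtain ⟨φ, hφ⟩ := this
  exact ⟨p, φ, hmon, hφ⟩

end Step

section Main

/-- extension by zero in the first coordinate -/
def ext0 (S : Type*) [Semiring S] (n : ℕ) : (Fin n → S) →ₗ[S] (Fin (n + 1) → S) where
  toFun v := Fin.cons 0 v
  map_add' v w := by
    funext i
    refine Fin.cases ?_ (fun j => ?_) i <;> simp
  map_smul' a v := by
    funext i
    refine Fin.cases ?_ (fun j => ?_) i <;> simp

@[simp] theorem ext0_zero (S : Type*) [Semiring S] (n : ℕ) (v : Fin n → S) : ext0 S n v 0 = 0 := rfl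

@[simp] theorem ext0_succ (S : Type*) [Semiring S] (n : ℕ) (v : Fin n → S) (j : Fin n) :
    ext0 S n v j.succ = v j := by simp [ext0]

/-- forgetting the first coordinate -/
def tl (S : Type*) [Semiring S] (n : ℕ) : (Fin (n + 1) → S) →ₗ[S] (Fin n → S) :=
  LinearMap.funLeft S S Fin.succ

@[simp] theorem tl_apply (S : Type*) [Semiring S] (n : ℕ) (u : Fin (n + 1) → S) (j : Fin n) :
    tl S n u j = u j.succ := rfl

theorem tl_ext0 (S : Type*) [Semiring S] (n : ℕ) (v : Fin n → S) : tl S n (ext0 S n v) = v := by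
  funext j; simp

theorem ext0_tl (S : Type*) [Ring S] (n : ℕ) (u : Fin (n + 1) → S) :
    ext0 S n (tl S n u) = u - u 0 • Pi.single 0 1 := by
  funext i
  refine Fin.cases ?_ (fun j => ?_) i
  · simp
  · simp

/-- splitting off a unimodular element -/
noncomputable def equivKerProd {R : Type*} [CommRing R] {P : Type*} [AddCommGroup P] [Module R P]
    (s : P) (φ : P →ₗ[R] R) (h : φ s = 1) : P ≃ₗ[R] (LinearMap.ker φ) × R where
  toFun p := (⟨p - φ p • s, by simp [h]⟩, φ p)
  map_add' p q := by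
    ext
    · simp [add_smul]; abel
    · simp
  map_smul' c p := by
    ext
    · simp [smul_sub, mul_smul]
    · simp
  invFun kr := kr.1.1 + kr.2 • s
  left_inv p := by simp
  right_inv kr := by
    obtain ⟨⟨k, hk⟩, r⟩ := kr
    rw [LinearMap.mem_ker] at hk
    ext
    · simp [hk, h]
    · simp [hk, h]

theorem free_of_lattice_fin (n : ℕ) : ∀ (P : Type v) [AddCommGroup P] [Module B[X] P]
    [Module.Finite B[X] P] [Module.Projective B[X] P]
    (ι : (Fin n → B[X]) →ₗ[B[X]] P) (c : P →ₗ[B[X]] (Fin n → B[X])) (f : B[X]), f.Monic →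
    (∀ v, c (ι v) = f • v) → (∀ x, ι (c x) = f • x) → Module.Free B[X] P := by
  induction n with
  | zero =>
    intro P _ _ _ _ ι c f hf h1 h2
    have hsub : Subsingleton P := by
      refine ⟨fun x y => ?_⟩
      have hreg : IsSMulRegular P f := Module.Flat.isSMulRegular_of_isRegular hf.isRegular
      apply hreg
      change f • x = f • y
      rw [← h2, ← h2, Subsingleton.elim (c x) (c y)]
    exact Module.Free.of_subsingleton _ _
  | succ n ih =>
    intro P _ _ _ _ ι c f hf h1 h2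
    obtain ⟨p, φ, hmon, hφ⟩ := exists_monic_coord_unimodular n ι c hf h1
    set g₁ := c p 0 with hg₁
    let E₁ : P ≃ₗ[B[X]] (LinearMap.ker φ) × B[X] := equivKerProd p φ hφ
    let π' : P →ₗ[B[X]] LinearMap.ker φ := (LinearMap.fst B[X] _ _) ∘ₗ E₁.toLinearMap
    have hπ' : ∀ x, ((π' x : LinearMap.ker φ) : P) = x - φ x • p := fun x => rfl
    have : Module.Finite B[X] (LinearMap.ker φ) :=
      Module.Finite.of_surjective π' (by
        intro k
        exact ⟨E₁.symm (k, 0), by simp [π']⟩)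
    have : Module.Projective B[X] (LinearMap.ker φ) :=
      Module.Projective.of_split (E₁.symm.toLinearMap ∘ₗ LinearMap.inl B[X] _ _) π' (by
          ext k
          simp [π'])
    -- the new lattice
    let c'' : P →ₗ[B[X]] (Fin n → B[X]) :=
      g₁ • (tl B[X] n ∘ₗ c) - LinearMap.smulRight (LinearMap.proj 0 ∘ₗ c) (tl B[X] n (c p))
    have hc''p : c'' p = 0 := by
      simp [c'', hg₁]
    have hc''ι : ∀ v, c'' (ι (ext0 B[X] n v)) = (g₁ * f) • v := by
      intro v
      simp only [c'', LinearMap.sub_apply, LinearMap.smul_apply, LinearMap.comp_apply, h1, map_smul,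
        tl_ext0, LinearMap.smulRight_apply, LinearMap.proj_apply, ext0_zero,
        smul_eq_mul, mul_zero, zero_smul, sub_zero, mul_smul]
    have hιc'' : ∀ x : P, ι (ext0 B[X] n (c'' x)) = (g₁ * f) • x - (c x 0 * f) • p := by
      intro x
      have e1 : ext0 B[X] n (c'' x) = g₁ • c x - c x 0 • c p := by
        simp only [c'', LinearMap.sub_apply, LinearMap.smul_apply, LinearMap.comp_apply, map_sub,
          map_smul, ext0_tl, LinearMap.smulRight_apply, LinearMap.proj_apply]
        rw [← hg₁]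
        simp only [smul_sub, smul_smul]
        rw [mul_comm g₁ (c x 0)]
        abel
      rw [e1, map_sub, map_smul, map_smul, h2, h2, smul_smul, smul_smul]
    have hfree : Module.Free B[X] (LinearMap.ker φ) := by
      refine ih (LinearMap.ker φ) (π' ∘ₗ ι ∘ₗ ext0 B[X] n) (c'' ∘ₗ (LinearMap.ker φ).subtype)
        (g₁ * f) (hmon.mul hf) (fun v => ?_) (fun x => ?_)
      · simp only [LinearMap.comp_apply, Submodule.subtype_apply, hπ', map_sub, map_smul, hc''p,
          smul_zero, sub_zero, hc''ι]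
      · have hx : φ (x : P) = 0 := x.2
        have hπx : π' (x : P) = x := Subtype.ext (by rw [hπ', hx, zero_smul, sub_zero])
        have hπp : π' p = 0 := Subtype.ext (by rw [hπ', hφ, one_smul, sub_self]; rfl)
        simp only [LinearMap.comp_apply, Submodule.subtype_apply, hιc'', map_sub, map_smul, hπx, hπp,
          smul_zero, sub_zero]
    exact Module.Free.of_equiv E₁.symm

/-- **Horrocks' theorem over a local ring, lattice form.** -/
theorem free_of_lattice {P : Type v} [AddCommGroup P] [Module B[X] P]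
    [Module.Finite B[X] P] [Module.Projective B[X] P]
    {F : Type*} [AddCommGroup F] [Module B[X] F] [Module.Finite B[X] F] [Module.Free B[X] F]
    (ι : F →ₗ[B[X]] P) (c : P →ₗ[B[X]] F) (f : B[X]) (hf : f.Monic)
    (h1 : ∀ v, c (ι v) = f • v) (h2 : ∀ x, ι (c x) = f • x) : Module.Free B[X] P := by
  let b := Module.finBasis B[X] F
  let θ : F ≃ₗ[B[X]] (Fin (Module.finrank B[X] F) → B[X]) := b.equivFun
  refine free_of_lattice_fin _ P (ι ∘ₗ θ.symm.toLinearMap) (θ.toLinearMap ∘ₗ c) f hf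
    (fun v => ?_) (fun x => ?_)
  · simp [h1]
  · simp [h2]

end Main

end Groth.Agent.R2.H18.Horrocks
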