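import Groth.Agent.R2.H18HorrocksA

/-!
# Horrocks' theorem: from the chart at infinity to a lattice (helper18)

`exists_lattice`: if a finitely generated projective `A[X]`-module `M` extends to the projective line
(there are a finitely generated projective `A[X]`-module `N` and a bijection
`A[T;T⁻¹] ⊗ M → A[T;T⁻¹] ⊗ N` semilinear over `T ↦ T⁻¹`), then there are a finitely generated projective
`A`-module `Q` and maps `ι : A[X] ⊗ Q → M`, `c : M → A[X] ⊗ Q` with `c ∘ ι = f`, `ι ∘ c = f`, `f` monic.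
-/

set_option autoImplicit false

open Polynomial TensorProduct LaurentPolynomial

namespace Groth.Agent.R2.H18.Horrocks

universe u v

variable {A : Type u} [CommRing A]

section ModX

variable (Q : Type v) [AddCommGroup Q] [Module A Q] [Module A[X] Q] [IsScalarTower A A[X] Q]

/-- elements of `A[X] ⊗[A] Q` killed by the evaluation at zero are multiples of `X`
(hypothesis: `X` acts as zero on `Q`) -/
theorem mem_X_smul_top_of_liftBaseChange_eq_zero (hX : ∀ q : Q, (X : A[X]) • q = 0)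
    {z : A[X] ⊗[A] Q} (hz : LinearMap.liftBaseChange A[X] (LinearMap.id : Q →ₗ[A] Q) z = 0) :
    z ∈ (Ideal.span {(X : A[X])}) • (⊤ : Submodule A[X] (A[X] ⊗[A] Q)) := by
  have key : ∀ z : A[X] ⊗[A] Q, ∃ w : A[X] ⊗[A] Q, z = (1 : A[X]) ⊗ₜ[A]
      (LinearMap.liftBaseChange A[X] (LinearMap.id : Q →ₗ[A] Q) z) + (X : A[X]) • w := by
    intro z
    induction z using TensorProduct.induction_on with
    | zero => exact ⟨0, by simp⟩
    | tmul p q =>
      refine ⟨(divX p) ⊗ₜ[A] q, ?_⟩
      rw [LinearMap.liftBaseChange_tmul, LinearMap.id_apply]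
      have hp : p • q = (p.coeff 0) • q := by
        conv_lhs => rw [← X_mul_divX_add p]
        rw [add_smul, mul_smul, hX, zero_add, ← algebraMap_eq, algebraMap_smul]
      rw [hp, TensorProduct.tmul_smul, TensorProduct.smul_tmul', TensorProduct.smul_tmul',
        ← TensorProduct.add_tmul]
      congr 1
      conv_lhs => rw [← X_mul_divX_add p]
      rw [Algebra.smul_def, mul_one, algebraMap_eq, smul_eq_mul, add_comm]
    | add a b ha hb =>
      obtain ⟨wa, hwa⟩ := ha
      obtain ⟨wb, hwb⟩ := hb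
      refine ⟨wa + wb, ?_⟩
      rw [map_add, TensorProduct.tmul_add, smul_add]
      conv_lhs => rw [hwa, hwb]
      abel
  obtain ⟨w, hw⟩ := key z
  rw [hz, TensorProduct.tmul_zero, zero_add] at hw
  rw [hw]
  exact Submodule.smul_mem_smul (Ideal.subset_span rfl) trivial

end ModX

section Present

variable (N : Type v) [AddCommGroup N] [Module A[X] N] [Module.Finite A[X] N]
  [Module.Projective A[X] N]

/-- evaluation at zero, coordinatewise -/
noncomputable def ev0 (A : Type u) [CommRing A] (n : ℕ) : (Fin n → A[X]) →ₗ[A] (Fin n → A) :=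
  LinearMap.compLeft (Polynomial.leval (0 : A)) (Fin n)

/-- constant polynomials, coordinatewise -/
noncomputable def cst (A : Type u) [CommRing A] (n : ℕ) : (Fin n → A) →ₗ[A] (Fin n → A[X]) :=
  LinearMap.compLeft (Algebra.linearMap A A[X]) (Fin n)

@[simp] theorem ev0_apply (n : ℕ) (u : Fin n → A[X]) (j : Fin n) : ev0 A n u j = (u j).eval 0 := rfl

@[simp] theorem cst_apply (n : ℕ) (v : Fin n → A) (j : Fin n) : cst A n v j = Polynomial.C (v j) := rfl

theorem ev0_smul (n : ℕ) (p : A[X]) (u : Fin n → A[X]) : ev0 A n (p • u) = p.eval 0 • ev0 A n u := by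
  funext j; simp

theorem ev0_cst (n : ℕ) (v : Fin n → A) : ev0 A n (cst A n v) = v := by
  funext j; simp

theorem exists_eq_cst_add (n : ℕ) (u : Fin n → A[X]) :
    ∃ u' : Fin n → A[X], u = cst A n (ev0 A n u) + (X : A[X]) • u' := by
  refine ⟨fun j => divX (u j), ?_⟩
  funext j
  simp only [Pi.add_apply, cst_apply, ev0_apply, Pi.smul_apply, smul_eq_mul]
  rw [← coeff_zero_eq_eval_zero, add_comm, X_mul_divX_add]

/-- A finitely generated projective `A[X]`-module `N` has a "reduction modulo `X`": a finitely generated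
projective `A`-module `Q` (with `A[X]` acting through evaluation at `0`) and a surjection `N → Q` with
kernel `X N`. -/
theorem exists_reduction : ∃ (Q : Type u) (_ : AddCommGroup Q) (_ : Module A Q)
    (_ : Module.Finite A Q) (_ : Module.Projective A Q) (_ : Module A[X] Q)
    (_ : IsScalarTower A A[X] Q) (ρ : N →ₗ[A[X]] Q), (∀ q : Q, (X : A[X]) • q = 0) ∧
    Function.Surjective ρ ∧
    ∀ x, ρ x = 0 → x ∈ (Ideal.span {(X : A[X])}) • (⊤ : Submodule A[X] N) := by
  obtain ⟨n, pr, i, -, -, hpi⟩ := Module.Finite.exists_comp_eq_id_of_projective A[X] N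
  have hpi' : ∀ x, pr (i x) = x := fun x => congrArg (fun g => g x) hpi
  set E : (Fin n → A[X]) →ₗ[A[X]] (Fin n → A[X]) := i ∘ₗ pr with hE
  have hEE : ∀ u, E (E u) = E u := fun u => by simp [hE, hpi']
  have hEi : ∀ x, E (i x) = i x := fun x => by simp [hE, hpi']
  set ε : (Fin n → A) →ₗ[A] (Fin n → A) := ev0 A n ∘ₗ (E.restrictScalars A) ∘ₗ cst A n with hε
  have hεv : ∀ v, ε v = ev0 A n (E (cst A n v)) := fun v => rfl
  have F3 : ∀ u, ev0 A n (E u) = ε (ev0 A n u) := by
    intro u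
    obtain ⟨u', hu'⟩ := exists_eq_cst_add n u
    conv_lhs => rw [hu']
    rw [map_add, map_smul, map_add, ev0_smul, eval_X, zero_smul, add_zero, hεv]
  have F4 : ∀ v, ε (ε v) = ε v := by
    intro v
    rw [hεv v, ← F3, hEE]
  let Q := LinearMap.range ε
  let instQ : Module A[X] Q := Module.compHom Q (Polynomial.evalRingHom (0 : A))
  have hsmul : ∀ (p : A[X]) (q : Q), p • q = p.eval 0 • q := fun p q => rfl
  have : IsScalarTower A A[X] Q := ⟨fun a p q => by
    rw [hsmul, hsmul, eval_smul, smul_eq_mul, mul_smul]⟩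
  have hεQ : ∀ q : Q, ε (q : Fin n → A) = q := by
    rintro ⟨_, v, rfl⟩
    exact F4 v
  have : Module.Projective A Q :=
    Module.Projective.of_split Q.subtype ε.rangeRestrict (by
      ext q : 1
      apply Subtype.ext
      simp [hεQ])
  let ρ : N →ₗ[A[X]] Q :=
    { toFun := fun x => ⟨ev0 A n (i x), ⟨ev0 A n (i x), by rw [← F3, hEi]⟩⟩
      map_add' := fun x y => by
        apply Subtype.ext
        simp only [map_add, Submodule.coe_add]
      map_smul' := fun p x => by
        apply Subtype.ext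
        rw [RingHom.id_apply, hsmul]
        simp only [map_smul, ev0_smul, Submodule.coe_smul] }
  have hρ : ∀ x, ((ρ x : Q) : Fin n → A) = ev0 A n (i x) := fun x => rfl
  refine ⟨Q, inferInstance, inferInstance, inferInstance, inferInstance, instQ, inferInstance, ρ,
    fun q => ?_, fun q => ?_, fun x hx => ?_⟩
  · rw [hsmul, eval_X, zero_smul]
  · refine ⟨pr (cst A n q), ?_⟩
    apply Subtype.ext
    rw [hρ]
    change ev0 A n (E (cst A n q)) = q
    rw [← hεv, hεQ]
  · have h0 : ev0 A n (i x) = 0 := by rw [← hρ, hx]; rfl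
    obtain ⟨u', hu'⟩ := exists_eq_cst_add n (i x)
    rw [h0, map_zero, zero_add] at hu'
    have : x = (X : A[X]) • pr u' := by rw [← map_smul, ← hu', hpi']
    rw [this]
    exact Submodule.smul_mem_smul (Ideal.subset_span rfl) trivial

/-- A finitely generated projective `A[X]`-module `N` is isomorphic to an extended module `A[X] ⊗ Q`
up to an element `g ≡ 1 mod X`. -/
theorem exists_mod_X_lattice : ∃ (Q : Type u) (_ : AddCommGroup Q) (_ : Module A Q)
    (_ : Module.Finite A Q) (_ : Module.Projective A Q)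
    (κ : A[X] ⊗[A] Q →ₗ[A[X]] N) (lam : N →ₗ[A[X]] A[X] ⊗[A] Q) (g : A[X]),
    g - 1 ∈ Ideal.span {(X : A[X])} ∧ κ ∘ₗ lam = g • LinearMap.id ∧
      lam ∘ₗ κ = g • LinearMap.id := by
  obtain ⟨Q, _, _, _, _, _, _, ρ, hX, hρsurj, hρker⟩ := exists_reduction (A := A) N
  set ρZ : A[X] ⊗[A] Q →ₗ[A[X]] Q := LinearMap.liftBaseChange A[X] (LinearMap.id : Q →ₗ[A] Q)
    with hρZ
  have hρZsurj : Function.Surjective ρZ := fun q => ⟨(1 : A[X]) ⊗ₜ[A] q, by
    rw [hρZ, LinearMap.liftBaseChange_tmul, one_smul, LinearMap.id_apply]⟩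
  obtain ⟨κ, hκ⟩ := Module.projective_lifting_property ρ ρZ hρsurj
  obtain ⟨μ, hμ⟩ := Module.projective_lifting_property ρZ ρ hρZsurj
  have hκ' : ∀ z, ρ (κ z) = ρZ z := fun z => congrArg (fun g => g z) hκ
  have hμ' : ∀ x, ρZ (μ x) = ρ x := fun x => congrArg (fun g => g x) hμ
  have hr1 : LinearMap.range (μ ∘ₗ κ - LinearMap.id) ≤
      Ideal.span {(X : A[X])} • (⊤ : Submodule A[X] (A[X] ⊗[A] Q)) := by
    rintro _ ⟨z, rfl⟩
    apply mem_X_smul_top_of_liftBaseChange_eq_zero Q hX
    rw [LinearMap.sub_apply, LinearMap.comp_apply, LinearMap.id_apply, map_sub, ← hρZ, hμ', hκ',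
      sub_self]
  have hr2 : LinearMap.range (κ ∘ₗ μ - LinearMap.id) ≤
      Ideal.span {(X : A[X])} • (⊤ : Submodule A[X] N) := by
    rintro _ ⟨x, rfl⟩
    apply hρker
    rw [LinearMap.sub_apply, LinearMap.comp_apply, LinearMap.id_apply, map_sub, hκ', hμ', sub_self]
  obtain ⟨g, lam, hg, h1, h2⟩ := exists_inverse_up_to (Ideal.span {(X : A[X])}) κ μ hr1 hr2
  exact ⟨Q, inferInstance, inferInstance, inferInstance, inferInstance, κ, lam, g, hg, h1, h2⟩

end Present

section Laurent

instance isScalarTower_laurent : IsScalarTower A A[X] A[T;T⁻¹] :=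
  IsScalarTower.of_algebraMap_eq (fun a => by
    rw [LaurentPolynomial.algebraMap_eq_toLaurent, Polynomial.algebraMap_apply, Algebra.algebraMap_self,
      RingHom.id_apply, Polynomial.toLaurent_C, LaurentPolynomial.C_eq_algebraMap])

variable (Q : Type v) [AddCommGroup Q] [Module A Q]

/-- `T ↦ T⁻¹` on `A[T;T⁻¹] ⊗[A] Q` -/
noncomputable def twist : A[T;T⁻¹] ⊗[A] Q →ₗ[A] A[T;T⁻¹] ⊗[A] Q :=
  LinearMap.rTensor Q (LaurentPolynomial.invert (R := A)).toLinearMap

theorem twist_smul (a : A[T;T⁻¹]) (t : A[T;T⁻¹] ⊗[A] Q) :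
    twist Q (a • t) = LaurentPolynomial.invert a • twist Q t := by
  induction t using TensorProduct.induction_on with
  | zero => simp
  | tmul b q =>
    rw [TensorProduct.smul_tmul', twist, LinearMap.rTensor_tmul, LinearMap.rTensor_tmul,
      TensorProduct.smul_tmul', smul_eq_mul, smul_eq_mul]
    simp
  | add x y hx hy => rw [smul_add, map_add, hx, hy, map_add, smul_add]

theorem twist_twist (t : A[T;T⁻¹] ⊗[A] Q) : twist Q (twist Q t) = t := by
  induction t using TensorProduct.induction_on with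
  | zero => simp
  | tmul b q =>
    rw [twist, LinearMap.rTensor_tmul, LinearMap.rTensor_tmul]
    simp [LaurentPolynomial.involutive_invert b]
  | add x y hx hy => rw [map_add, map_add, hx, hy]

/-- `T ↦ T⁻¹` on `A[T;T⁻¹] ⊗[A[X]] (A[X] ⊗[A] Q)` -/
noncomputable def twist' (t : A[T;T⁻¹] ⊗[A[X]] (A[X] ⊗[A] Q)) :
    A[T;T⁻¹] ⊗[A[X]] (A[X] ⊗[A] Q) :=
  (TensorProduct.AlgebraTensorModule.cancelBaseChange A A[X] A[T;T⁻¹] A[T;T⁻¹] Q).symm
    (twist Q (TensorProduct.AlgebraTensorModule.cancelBaseChange A A[X] A[T;T⁻¹] A[T;T⁻¹] Q t))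

theorem twist'_add (s t : A[T;T⁻¹] ⊗[A[X]] (A[X] ⊗[A] Q)) :
    twist' Q (s + t) = twist' Q s + twist' Q t := by
  simp only [twist', map_add]

theorem twist'_smul (a : A[T;T⁻¹]) (t : A[T;T⁻¹] ⊗[A[X]] (A[X] ⊗[A] Q)) :
    twist' Q (a • t) = LaurentPolynomial.invert a • twist' Q t := by
  simp only [twist', map_smul, twist_smul]

theorem twist'_twist' (t : A[T;T⁻¹] ⊗[A[X]] (A[X] ⊗[A] Q)) : twist' Q (twist' Q t) = t := by
  simp only [twist', LinearEquiv.apply_symm_apply, twist_twist, LinearEquiv.symm_apply_apply]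

end Laurent

section Transfer

instance isLocalizedModule_mk_laurent (M : Type v) [AddCommGroup M] [Module A[X] M] :
    IsLocalizedModule (Submonoid.powers (X : A[X])) (TensorProduct.mk A[X] A[T;T⁻¹] M 1) :=
  (isLocalizedModule_iff_isBaseChange (Submonoid.powers (X : A[X])) A[T;T⁻¹] _).mpr
    (TensorProduct.isBaseChange A[X] M A[T;T⁻¹])

theorem injective_mk_laurent (M : Type v) [AddCommGroup M] [Module A[X] M] [Module.Flat A[X] M] :
    Function.Injective (TensorProduct.mk A[X] A[T;T⁻¹] M 1) := by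
  intro x y hxy
  obtain ⟨⟨_, k, rfl⟩, hc⟩ := (IsLocalizedModule.eq_iff_exists (Submonoid.powers (X : A[X]))
    (TensorProduct.mk A[X] A[T;T⁻¹] M 1)).mp hxy
  have hreg : IsSMulRegular M ((X : A[X]) ^ k) :=
    Module.Flat.isSMulRegular_of_isRegular (monic_X_pow k).isRegular
  exact hreg hc

theorem X_pow_smul_eq_T_smul {W : Type*} [AddCommGroup W] [Module A[X] W] [Module A[T;T⁻¹] W]
    [IsScalarTower A[X] A[T;T⁻¹] W] (k : ℕ) (w : W) :
    ((X : A[X]) ^ k) • w = (T (k : ℤ) : A[T;T⁻¹]) • w := by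
  rw [← LaurentPolynomial.algebraMap_X_pow, algebraMap_smul]

theorem poly_smul_eq_toLaurent_smul {W : Type*} [AddCommGroup W] [Module A[X] W]
    [Module A[T;T⁻¹] W] [IsScalarTower A[X] A[T;T⁻¹] W] (p : A[X]) (w : W) :
    p • w = (toLaurent p) • w := by
  rw [← LaurentPolynomial.algebraMap_eq_toLaurent, algebraMap_smul]

variable {M N : Type v} [AddCommGroup M] [Module A[X] M] [Module.Finite A[X] M]
  [Module.Projective A[X] M] [AddCommGroup N] [Module A[X] N] [Module.Finite A[X] N]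
  [Module.Projective A[X] N]

/-- **From the chart at infinity to a lattice.** -/
theorem exists_lattice
    (e : (A[T;T⁻¹] ⊗[A[X]] M) →ₛₗ[(LaurentPolynomial.invert (R := A)).toRingEquiv.toRingHom]
      (A[T;T⁻¹] ⊗[A[X]] N)) (he : Function.Bijective e) :
    ∃ (Q : Type u) (_ : AddCommGroup Q) (_ : Module A Q) (_ : Module.Finite A Q)
      (_ : Module.Projective A Q) (ι : A[X] ⊗[A] Q →ₗ[A[X]] M) (c : M →ₗ[A[X]] A[X] ⊗[A] Q)
      (f : A[X]), f.Monic ∧ (∀ z, c (ι z) = f • z) ∧ (∀ x, ι (c x) = f • x) := by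
  obtain ⟨Q, _, _, _, _, κ, lam, g, hg, hκl, hlκ⟩ := exists_mod_X_lattice (A := A) N
  have hκl' : ∀ x, κ (lam x) = g • x := fun x => congrArg (fun h => h x) hκl
  have hlκ' : ∀ z, lam (κ z) = g • z := fun z => congrArg (fun h => h z) hlκ
  set κL := κ.baseChange A[T;T⁻¹] with hκL
  set lamL := lam.baseChange A[T;T⁻¹] with hlamL
  have hκlL : ∀ y, κL (lamL y) = g • y := by
    intro y
    have : κL ∘ₗ lamL = (g • LinearMap.id : N →ₗ[A[X]] N).baseChange A[T;T⁻¹] := by
      rw [hκL, hlamL, ← LinearMap.baseChange_comp, hκl]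
    have h2 := congrArg (fun h => h y) this
    simp only [LinearMap.comp_apply] at h2
    rw [h2, LinearMap.baseChange_smul, LinearMap.baseChange_id, LinearMap.smul_apply,
      LinearMap.id_apply]
  have hlκL : ∀ t, lamL (κL t) = g • t := by
    intro t
    have : lamL ∘ₗ κL = (g • LinearMap.id : A[X] ⊗[A] Q →ₗ[A[X]] A[X] ⊗[A] Q).baseChange
        A[T;T⁻¹] := by
      rw [hκL, hlamL, ← LinearMap.baseChange_comp, hlκ]
    have h2 := congrArg (fun h => h t) this
    simp only [LinearMap.comp_apply] at h2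
    rw [h2, LinearMap.baseChange_smul, LinearMap.baseChange_id, LinearMap.smul_apply,
      LinearMap.id_apply]
  -- the inverse of `e`
  let E := Equiv.ofBijective e he
  have hE1 : ∀ w, e (E.symm w) = w := E.apply_symm_apply
  have hE2 : ∀ y, E.symm (e y) = y := E.symm_apply_apply
  have hesmul : ∀ (a : A[T;T⁻¹]) y, e (a • y) = LaurentPolynomial.invert a • e y :=
    fun a y => e.map_smulₛₗ a y
  have hEadd : ∀ w₁ w₂, E.symm (w₁ + w₂) = E.symm w₁ + E.symm w₂ := by
    intro w₁ w₂
    apply he.1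
    rw [hE1, map_add, hE1, hE1]
  have hEsmul : ∀ (a : A[T;T⁻¹]) w, E.symm (a • w) = LaurentPolynomial.invert a • E.symm w := by
    intro a w
    apply he.1
    rw [hE1, hesmul, hE1, LaurentPolynomial.involutive_invert a]
  let κ' : A[T;T⁻¹] ⊗[A[X]] (A[X] ⊗[A] Q) →ₗ[A[T;T⁻¹]] A[T;T⁻¹] ⊗[A[X]] M :=
    { toFun := fun t => E.symm (κL (twist' Q t))
      map_add' := fun s t => by rw [twist'_add, map_add, hEadd]
      map_smul' := fun a t => by
        rw [twist'_smul, map_smul, hEsmul, LaurentPolynomial.involutive_invert a,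
          RingHom.id_apply] }
  let lam' : A[T;T⁻¹] ⊗[A[X]] M →ₗ[A[T;T⁻¹]] A[T;T⁻¹] ⊗[A[X]] (A[X] ⊗[A] Q) :=
    { toFun := fun y => twist' Q (lamL (e y))
      map_add' := fun s t => by rw [map_add, map_add, twist'_add]
      map_smul' := fun a t => by
        rw [hesmul, map_smul, twist'_smul, LaurentPolynomial.involutive_invert a,
          RingHom.id_apply] }
  set γ : A[T;T⁻¹] := LaurentPolynomial.invert (toLaurent g) with hγ
  have hKL : ∀ y, κ' (lam' y) = γ • y := by
    intro y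
    change E.symm (κL (twist' Q (twist' Q (lamL (e y))))) = γ • y
    rw [twist'_twist', hκlL, poly_smul_eq_toLaurent_smul g (e y), hEsmul, hE2]
  have hLK : ∀ t, lam' (κ' t) = γ • t := by
    intro t
    change twist' Q (lamL (e (E.symm (κL (twist' Q t))))) = γ • t
    rw [hE1, hlκL, poly_smul_eq_toLaurent_smul g (twist' Q t), twist'_smul, twist'_twist']
  -- descent
  let ℓM := TensorProduct.mk A[X] A[T;T⁻¹] M 1
  let ℓZ := TensorProduct.mk A[X] A[T;T⁻¹] (A[X] ⊗[A] Q) 1
  have hinjM : Function.Injective ℓM := injective_mk_laurent M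
  have hinjZ : Function.Injective ℓZ := injective_mk_laurent (A[X] ⊗[A] Q)
  have : Module.FinitePresentation A[X] (A[X] ⊗[A] Q) :=
    Module.finitePresentation_of_projective _ _
  have : Module.FinitePresentation A[X] M := Module.finitePresentation_of_projective _ _
  obtain ⟨ι₀, ⟨_, a, rfl⟩, hι₀⟩ := Module.FinitePresentation.exists_lift_of_isLocalizedModule
    (Submonoid.powers (X : A[X])) ℓM ((κ'.restrictScalars A[X]) ∘ₗ ℓZ)
  obtain ⟨c₀, ⟨_, b, rfl⟩, hc₀⟩ := Module.FinitePresentation.exists_lift_of_isLocalizedModule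
    (Submonoid.powers (X : A[X])) ℓZ ((lam'.restrictScalars A[X]) ∘ₗ ℓM)
  have hι₀' : ∀ z, ℓM (ι₀ z) = (T (a : ℤ) : A[T;T⁻¹]) • κ' (ℓZ z) := fun z => by
    rw [← X_pow_smul_eq_T_smul a (κ' (ℓZ z))]
    exact congrArg (fun h => h z) hι₀
  have hc₀' : ∀ x, ℓZ (c₀ x) = (T (b : ℤ) : A[T;T⁻¹]) • lam' (ℓM x) := fun x => by
    rw [← X_pow_smul_eq_T_smul b (lam' (ℓM x))]
    exact congrArg (fun h => h x) hc₀
  set d := g.natDegree with hd
  have hrev : toLaurent g.reverse = γ * T (d : ℤ) := toLaurent_reverse g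
  have hmonic : g.reverse.Monic := by
    rcases subsingleton_or_nontrivial A with h | h
    · exact Subsingleton.elim _ _
    · have hg0 : g.coeff 0 = 1 := by
        obtain ⟨q, hq⟩ := Ideal.mem_span_singleton.mp hg
        have : g = X * q + 1 := by linear_combination hq
        rw [this]; simp
      rw [Monic, reverse_leadingCoeff, trailingCoeff,
        natTrailingDegree_eq_zero.mpr (Or.inr (by rw [hg0]; exact one_ne_zero)), hg0]
  refine ⟨Q, inferInstance, inferInstance, inferInstance, inferInstance, ι₀,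
    ((X : A[X]) ^ d) • c₀, (X : A[X]) ^ (a + b) * g.reverse, (monic_X_pow _).mul hmonic,
    fun z => ?_, fun x => ?_⟩
  · apply hinjZ
    rw [LinearMap.smul_apply, map_smul, X_pow_smul_eq_T_smul d (ℓZ (c₀ (ι₀ z))), hc₀', hι₀',
      map_smul, hLK, map_smul, poly_smul_eq_toLaurent_smul (_ * _) (ℓZ z)]
    simp only [smul_smul]
    congr 1
    rw [map_mul, Polynomial.toLaurent_X_pow, hrev, Nat.cast_add, T_add]
    ring
  · apply hinjM
    rw [LinearMap.smul_apply, map_smul, map_smul, X_pow_smul_eq_T_smul d (ℓM (ι₀ (c₀ x))), hι₀',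
      hc₀', map_smul, hKL, map_smul, poly_smul_eq_toLaurent_smul (_ * _) (ℓM x)]
    simp only [smul_smul]
    congr 1
    rw [map_mul, Polynomial.toLaurent_X_pow, hrev, Nat.cast_add, T_add]
    ring

end Transfer

end Groth.Agent.R2.H18.Horrocks
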