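import Mathlib

/-!
# Quillen patching for idempotent matrices over `A[X]` (helper18)

For an idempotent matrix `E` over `A[X]` we consider the set `quillenIdeal E` of all `a : A` such that the
idempotents `E(X)` and `E(X + aY)` over `A[X][Y]` are equivalent.  It is an ideal; if the image of `E`
becomes free over `A_𝔪[X]` for every maximal ideal `𝔪` then it is the unit ideal, and then `E(X)` is
equivalent to the constant idempotent `E(0)` (`exists_equiv_const_of_local`).
-/

set_option autoImplicit false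

open Polynomial

namespace Groth.Agent.R2.H18.Quillen

universe u

section Subst

variable {A : Type u} [CommRing A]

/-- `p(X) ↦ p(X + aY)` -/
noncomputable def tau (a : A) : A[X] →+* A[X][X] :=
  eval₂RingHom (C.comp C) (C X + C (C a) * X)

/-- `X ↦ X + bY`, `Y ↦ Y` -/
noncomputable def subst (b : A) : A[X][X] →+* A[X][X] :=
  eval₂RingHom (tau b) X

/-- `Y ↦ cY` -/
noncomputable def scale (c : A) : A[X][X] →+* A[X][X] :=
  eval₂RingHom C (C (C c) * X)

/-- `X ↦ 0`, `Y ↦ X` -/
noncomputable def evX0 : A[X][X] →+* A[X] :=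
  eval₂RingHom (C.comp (evalRingHom 0)) X

/-- `Y ↦ 0` -/
noncomputable def evY0 : A[X][X] →+* A[X] := evalRingHom 0

@[simp] theorem tau_C (a r : A) : tau a (C r) = C (C r) := by simp [tau]

@[simp] theorem tau_X (a : A) : tau a X = C X + C (C a) * X := by simp [tau]

theorem tau_zero : tau (0 : A) = C := by
  apply Polynomial.ringHom_ext <;> simp

@[simp] theorem subst_C (b : A) (p : A[X]) : subst b (C p) = tau b p := by simp [subst]

@[simp] theorem subst_X (b : A) : subst b (X : A[X][X]) = X := by simp [subst]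

theorem subst_comp_C (b : A) : (subst b).comp C = tau b := by
  ext p <;> simp

theorem subst_comp_tau (a b : A) : (subst b).comp (tau a) = tau (a + b) := by
  apply Polynomial.ringHom_ext
  · intro r; simp
  · simp only [RingHom.comp_apply, tau_X, map_add, map_mul, subst_C, tau_C, subst_X]
    rw [add_mul, add_assoc, add_comm (C (C a) * X)]

@[simp] theorem scale_C (c : A) (p : A[X]) : scale c (C p) = C p := by simp [scale]

@[simp] theorem scale_X (c : A) : scale c (X : A[X][X]) = C (C c) * X := by simp [scale]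

theorem scale_comp_C (c : A) : (scale c).comp C = C := by
  ext p <;> simp

theorem scale_comp_tau (c a : A) : (scale c).comp (tau a) = tau (c * a) := by
  apply Polynomial.ringHom_ext
  · intro r; simp
  · simp only [RingHom.comp_apply, tau_X, map_add, map_mul, scale_C, scale_X]
    ring

@[simp] theorem evX0_C (p : A[X]) : evX0 (C p) = C (p.eval 0) := by simp [evX0]

@[simp] theorem evX0_X : evX0 (X : A[X][X]) = X := by simp [evX0]

theorem evX0_comp_tau_one : (evX0 (A := A)).comp (tau 1) = RingHom.id A[X] := by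
  apply Polynomial.ringHom_ext
  · intro r; simp
  · simp

@[simp] theorem evY0_C (p : A[X]) : evY0 (C p) = p := by simp [evY0]

@[simp] theorem evY0_X : evY0 (X : A[X][X]) = 0 := by simp [evY0]

theorem evY0_comp_C : (evY0 (A := A)).comp C = RingHom.id A[X] := by
  ext p <;> simp

theorem evY0_comp_tau (a : A) : (evY0 (A := A)).comp (tau a) = RingHom.id A[X] := by
  apply Polynomial.ringHom_ext
  · intro r; simp
  · simp

end Subst

section BaseChange

variable {A : Type u} [CommRing A] {B : Type*} [CommRing B] (φ : A →+* B)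

/-- the induced map `A[X][Y] → B[X][Y]` -/
noncomputable def map₂ : A[X][X] →+* B[X][X] := mapRingHom (mapRingHom φ)

@[simp] theorem map₂_C (p : A[X]) : map₂ φ (C p) = C (p.map φ) := by simp [map₂]

@[simp] theorem map₂_X : map₂ φ (X : A[X][X]) = X := by simp [map₂]

theorem map₂_comp_C : (map₂ φ).comp C = C.comp (mapRingHom φ) := by
  ext p <;> simp

theorem map₂_comp_tau (a : A) : (map₂ φ).comp (tau a) = (tau (φ a)).comp (mapRingHom φ) := by
  apply Polynomial.ringHom_ext
  · intro r; simp
  · simp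

theorem map₂_comp_scale (c : A) : (map₂ φ).comp (scale c) = (scale (φ c)).comp (map₂ φ) := by
  apply Polynomial.ringHom_ext
  · intro p; simp
  · simp

theorem evY0_comp_map₂ : (evY0 (A := B)).comp (map₂ φ) = (mapRingHom φ).comp evY0 := by
  apply Polynomial.ringHom_ext
  · intro p; simp
  · simp

end BaseChange

section Ideal

variable {A : Type u} [CommRing A] {n : ℕ}

/-- the Quillen ideal of an idempotent matrix (as a set) -/
def quillenSet (E : Matrix (Fin n) (Fin n) A[X]) : Set A :=
  {a | ∃ U V : Matrix (Fin n) (Fin n) A[X][X], U * V = E.map C ∧ V * U = E.map (tau a)}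

variable {E : Matrix (Fin n) (Fin n) A[X]}

theorem zero_mem_quillenSet (hE : E * E = E) : (0 : A) ∈ quillenSet E := by
  refine ⟨E.map C, E.map C, ?_, ?_⟩
  · rw [← Matrix.map_mul, hE]
  · rw [tau_zero, ← Matrix.map_mul, hE]

theorem add_mem_quillenSet (hE : E * E = E) {a b : A} (ha : a ∈ quillenSet E)
    (hb : b ∈ quillenSet E) : a + b ∈ quillenSet E := by
  obtain ⟨Ua, Va, hUVa, hVUa⟩ := ha
  obtain ⟨Ub, Vb, hUVb, hVUb⟩ := hb
  have h1 : (Ua * Va).map (subst b) = E.map (tau b) := by
    rw [hUVa, Matrix.map_map]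
    congr 1
    exact congrArg DFunLike.coe (subst_comp_C b)
  have h2 : (Va * Ua).map (subst b) = E.map (tau (a + b)) := by
    rw [hVUa, Matrix.map_map]
    congr 1
    exact congrArg DFunLike.coe (subst_comp_tau a b)
  rw [Matrix.map_mul] at h1 h2
  refine ⟨Ub * Ua.map (subst b), Va.map (subst b) * Vb, ?_, ?_⟩
  · calc Ub * Ua.map (subst b) * (Va.map (subst b) * Vb)
        = Ub * (Ua.map (subst b) * Va.map (subst b)) * Vb := by simp only [Matrix.mul_assoc]
      _ = Ub * (Vb * Ub) * Vb := by rw [h1, hVUb]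
      _ = (Ub * Vb) * (Ub * Vb) := by simp only [Matrix.mul_assoc]
      _ = E.map C := by rw [hUVb, ← Matrix.map_mul, hE]
  · calc Va.map (subst b) * Vb * (Ub * Ua.map (subst b))
        = Va.map (subst b) * (Vb * Ub) * Ua.map (subst b) := by simp only [Matrix.mul_assoc]
      _ = Va.map (subst b) * (Ua.map (subst b) * Va.map (subst b)) * Ua.map (subst b) := by
          rw [hVUb, h1]
      _ = (Va.map (subst b) * Ua.map (subst b)) * (Va.map (subst b) * Ua.map (subst b)) := by
          simp only [Matrix.mul_assoc]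
      _ = E.map (tau (a + b)) := by rw [h2, ← Matrix.map_mul, hE]

theorem mul_mem_quillenSet (c : A) {a : A} (ha : a ∈ quillenSet E) : c * a ∈ quillenSet E := by
  obtain ⟨U, V, hUV, hVU⟩ := ha
  refine ⟨U.map (scale c), V.map (scale c), ?_, ?_⟩
  · rw [← Matrix.map_mul, hUV, Matrix.map_map]
    congr 1
    exact congrArg DFunLike.coe (scale_comp_C c)
  · rw [← Matrix.map_mul, hVU, Matrix.map_map]
    congr 1
    exact congrArg DFunLike.coe (scale_comp_tau c a)

/-- the Quillen ideal -/
def quillenIdeal (E : Matrix (Fin n) (Fin n) A[X]) (hE : E * E = E) : Ideal A where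
  carrier := quillenSet E
  add_mem' := add_mem_quillenSet hE
  zero_mem' := zero_mem_quillenSet hE
  smul_mem' := fun c _ ha => mul_mem_quillenSet c ha

theorem mem_quillenIdeal (hE : E * E = E) (a : A) : a ∈ quillenIdeal E hE ↔ a ∈ quillenSet E :=
  Iff.rfl

/-- if `1` is in the Quillen set then `E` is equivalent to the constant idempotent `E(0)` -/
theorem exists_equiv_const_of_one_mem (h1 : (1 : A) ∈ quillenSet E) :
    ∃ U V : Matrix (Fin n) (Fin n) A[X],
      U * V = (E.map (evalRingHom 0)).map C ∧ V * U = E := by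
  obtain ⟨U, V, hUV, hVU⟩ := h1
  refine ⟨U.map evX0, V.map evX0, ?_, ?_⟩
  · rw [← Matrix.map_mul, hUV, Matrix.map_map, Matrix.map_map]
    congr 1
    funext p
    simp
  · rw [← Matrix.map_mul, hVU, Matrix.map_map]
    have : (evX0 (A := A)) ∘ (tau 1) = id := by
      funext p
      exact congrArg (fun h => h p) evX0_comp_tau_one
    rw [this, Matrix.map_id]

end Ideal

section Loc

variable {R : Type*} [CommRing R] (S : Submonoid R) {R' : Type*} [CommRing R'] [Algebra R R']
  [IsLocalization S R']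

theorem exists_matrix_lift {m n : Type*} [Finite m] [Finite n] (W : Matrix m n R') :
    ∃ (s : S) (W₀ : Matrix m n R), W₀.map (algebraMap R R') = (algebraMap R R' s) • W := by
  obtain ⟨b, hb⟩ := IsLocalization.exist_integer_multiples_of_finite S
    (fun ij : m × n => W ij.1 ij.2)
  choose w hw using hb
  refine ⟨b, Matrix.of fun i j => w (i, j), ?_⟩
  ext i j
  rw [Matrix.map_apply, Matrix.of_apply, hw (i, j), Matrix.smul_apply, Algebra.smul_def, smul_eq_mul]

theorem exists_matrix_kill {m n : Type*} [Fintype m] [Fintype n] (D : Matrix m n R)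
    (hD : D.map (algebraMap R R') = 0) : ∃ s : S, (s : R) • D = 0 := by
  classical
  have h1 : ∀ ij : m × n, ∃ t : S, (t : R) * D ij.1 ij.2 = 0 := by
    intro ij
    apply (IsLocalization.map_eq_zero_iff S R' _).mp
    have := congrFun (congrFun hD ij.1) ij.2
    simpa using this
  choose t ht using h1
  refine ⟨∏ ij, t ij, ?_⟩
  ext i j
  rw [Matrix.smul_apply, Matrix.zero_apply, smul_eq_mul, Submonoid.coe_finsetProd,
    ← Finset.prod_erase_mul _ _ (Finset.mem_univ (i, j)), mul_assoc, ht (i, j), mul_zero]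

end Loc

section Local

theorem eq_const_add_X_mul {K : Type*} [CommRing K] (p : K[X]) :
    p = C (p.eval 0) + X * divX p := by
  rw [← coeff_zero_eq_eval_zero, add_comm, X_mul_divX_add]

variable {A : Type u} [CommRing A]

theorem scale_eq (t : A) (p : A[X][X]) :
    scale t p = C (evY0 p) + (C (C t) * X) * scale t (divX p) := by
  conv_lhs => rw [eq_const_add_X_mul p]
  rw [map_add, map_mul, scale_C, scale_X]
  rfl

theorem scale_eq_zero_of (s : A) (p : A[X][X]) (h0 : evY0 p = 0) (hs : C (C s) * p = 0) :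
    scale s p = 0 := by
  rw [scale_eq, h0, map_zero, zero_add]
  have h1 : C (C s) * divX p = 0 := by rw [← divX_C_mul, hs, divX_zero]
  calc C (C s) * X * scale s (divX p) = X * scale s (C (C s) * divX p) := by
        rw [map_mul, scale_C]; ring
    _ = 0 := by rw [h1, map_zero, mul_zero]

variable (S : Submonoid A) (B : Type u) [CommRing B] [Algebra A B] [IsLocalization S B] {n : ℕ}

theorem exists_mem_quillenSet_of_free {E : Matrix (Fin n) (Fin n) A[X]} (hE : E * E = E) {r : ℕ}
    (U' : Matrix (Fin r) (Fin n) B[X]) (V' : Matrix (Fin n) (Fin r) B[X]) (hUV : U' * V' = 1)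
    (hVU : V' * U' = E.map (mapRingHom (algebraMap A B))) : ∃ s ∈ S, s ∈ quillenSet E := by
  set φ := algebraMap A B with hφ
  set EB := E.map (mapRingHom φ) with hEB
  set Θ : Matrix (Fin n) (Fin n) B[X][X] := V'.map C * U'.map (tau 1) with hΘ
  set Θ' : Matrix (Fin n) (Fin n) B[X][X] := V'.map (tau 1) * U'.map C with hΘ'
  have hΘΘ' : Θ * Θ' = EB.map C := by
    calc Θ * Θ' = V'.map C * (U'.map (tau 1) * V'.map (tau 1)) * U'.map C := by
          simp only [hΘ, hΘ', Matrix.mul_assoc]
      _ = V'.map C * U'.map C := by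
          rw [← Matrix.map_mul, hUV, Matrix.map_one _ (map_zero _) (map_one _), Matrix.mul_one]
      _ = EB.map C := by rw [← Matrix.map_mul, hVU]
  have hΘ'Θ : Θ' * Θ = EB.map (tau 1) := by
    calc Θ' * Θ = V'.map (tau 1) * (U'.map C * V'.map C) * U'.map (tau 1) := by
          simp only [hΘ, hΘ', Matrix.mul_assoc]
      _ = V'.map (tau 1) * U'.map (tau 1) := by
          rw [← Matrix.map_mul, hUV, Matrix.map_one _ (map_zero _) (map_one _), Matrix.mul_one]
      _ = EB.map (tau 1) := by rw [← Matrix.map_mul, hVU]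
  have hidC : (evY0 (A := B)) ∘ C = id := by
    funext p; exact congrArg (fun h => h p) evY0_comp_C
  have hidtau : ∀ a : B, (evY0 (A := B)) ∘ (tau a) = id := by
    intro a; funext p; exact congrArg (fun h => h p) (evY0_comp_tau a)
  have hΘ0 : Θ.map evY0 = EB := by
    rw [hΘ, Matrix.map_mul, Matrix.map_map, Matrix.map_map, hidC, hidtau, Matrix.map_id,
      Matrix.map_id, hVU]
  have hΘ'0 : Θ'.map evY0 = EB := by
    rw [hΘ', Matrix.map_mul, Matrix.map_map, Matrix.map_map, hidC, hidtau, Matrix.map_id,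
      Matrix.map_id, hVU]
  -- the localization structure on `B[X][X]`
  letI alg1 : Algebra A[X] B[X] := Polynomial.algebra A B
  haveI loc1 : IsLocalization (S.map C) B[X] := Polynomial.isLocalization S B
  letI alg2 : Algebra A[X][X] B[X][X] := Polynomial.algebra A[X] B[X]
  haveI loc2 : IsLocalization ((S.map C).map C) B[X][X] := Polynomial.isLocalization (S.map C) B[X]
  have halg : ∀ p : A[X][X], algebraMap A[X][X] B[X][X] p = map₂ φ p := fun p => rfl
  have hS₂ : ∀ t : ((S.map C).map C : Submonoid A[X][X]), ∃ a ∈ S, (t : A[X][X]) = C (C a) := by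
    rintro ⟨_, ⟨_, ⟨a, ha, rfl⟩, rfl⟩⟩
    exact ⟨a, ha, rfl⟩
  obtain ⟨t₁, Ψ₁, hΨ₁⟩ := exists_matrix_lift ((S.map C).map C) (Θ.map divX)
  obtain ⟨t₁', Ψ₁', hΨ₁'⟩ := exists_matrix_lift ((S.map C).map C) (Θ'.map divX)
  obtain ⟨a₁, ha₁, ht₁⟩ := hS₂ t₁
  obtain ⟨a₁', ha₁', ht₁'⟩ := hS₂ t₁'
  have hΨ₁e : ∀ i j, map₂ φ (Ψ₁ i j) = C (C (φ a₁)) * divX (Θ i j) := by
    intro i j
    have := congrFun (congrFun hΨ₁ i) j
    rw [Matrix.map_apply, Matrix.smul_apply, Matrix.map_apply, halg, halg, ht₁, smul_eq_mul] at this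
    simpa using this
  have hΨ₁'e : ∀ i j, map₂ φ (Ψ₁' i j) = C (C (φ a₁')) * divX (Θ' i j) := by
    intro i j
    have := congrFun (congrFun hΨ₁' i) j
    rw [Matrix.map_apply, Matrix.smul_apply, Matrix.map_apply, halg, halg, ht₁', smul_eq_mul]
      at this
    simpa using this
  set s := a₁ * a₁' with hs
  have hsS : s ∈ S := S.mul_mem ha₁ ha₁'
  set Ut : Matrix (Fin n) (Fin n) A[X][X] :=
    E.map C + (X : A[X][X]) • (C (C a₁') • Ψ₁).map (scale s) with hUt
  set Vt : Matrix (Fin n) (Fin n) A[X][X] :=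
    E.map C + (X : A[X][X]) • (C (C a₁) • Ψ₁').map (scale s) with hVt
  have hscaleφ : ∀ p : A[X][X], map₂ φ (scale s p) = scale (φ s) (map₂ φ p) := fun p =>
    congrArg (fun h => h p) (map₂_comp_scale φ s)
  have hentry : ∀ (a a' : A) (Ψ : Matrix (Fin n) (Fin n) A[X][X])
      (Ξ : Matrix (Fin n) (Fin n) B[X][X]) (i j : Fin n),
      map₂ φ (Ψ i j) = C (C (φ a)) * divX (Ξ i j) → evY0 (Ξ i j) = (E i j).map φ →
      map₂ φ (C (E i j) + X * scale (a * a') (C (C a') * Ψ i j)) =
        scale (φ (a * a')) (Ξ i j) := by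
    intro a a' Ψ Ξ i j h1 h0
    have h2 : map₂ φ (scale (a * a') (C (C a') * Ψ i j)) =
        scale (φ (a * a')) (map₂ φ (C (C a') * Ψ i j)) :=
      congrArg (fun h => h (C (C a') * Ψ i j)) (map₂_comp_scale φ (a * a'))
    have e1 : map₂ φ (C (C a') * Ψ i j) = C (C (φ a')) * (C (C (φ a)) * divX (Ξ i j)) := by
      rw [map_mul, h1, map₂_C, Polynomial.map_C]
    rw [map_add, map_mul, h2, e1, map₂_C, map₂_X, scale_eq (φ (a * a')) (Ξ i j), h0,
      map_mul (scale _), map_mul (scale _), scale_C, scale_C, map_mul φ, map_mul C, map_mul C]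
    ring
  have hΘ0e : ∀ i j, evY0 (Θ i j) = (E i j).map φ := by
    intro i j
    have := congrFun (congrFun hΘ0 i) j
    rwa [Matrix.map_apply, hEB, Matrix.map_apply] at this
  have hΘ'0e : ∀ i j, evY0 (Θ' i j) = (E i j).map φ := by
    intro i j
    have := congrFun (congrFun hΘ'0 i) j
    rwa [Matrix.map_apply, hEB, Matrix.map_apply] at this
  have hUtφ : Ut.map (map₂ φ) = Θ.map (scale (φ s)) := by
    refine Matrix.ext fun i j => ?_
    rw [Matrix.map_apply, Matrix.map_apply, hUt, Matrix.add_apply, Matrix.smul_apply,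
      Matrix.map_apply, Matrix.map_apply, Matrix.smul_apply, smul_eq_mul, smul_eq_mul]
    exact hentry a₁ a₁' Ψ₁ Θ i j (hΨ₁e i j) (hΘ0e i j)
  have hVtφ : Vt.map (map₂ φ) = Θ'.map (scale (φ s)) := by
    refine Matrix.ext fun i j => ?_
    rw [Matrix.map_apply, Matrix.map_apply, hVt, Matrix.add_apply, Matrix.smul_apply,
      Matrix.map_apply, Matrix.map_apply, Matrix.smul_apply, smul_eq_mul, smul_eq_mul, hs,
      mul_comm a₁ a₁']
    exact hentry a₁' a₁ Ψ₁' Θ' i j (hΨ₁'e i j) (hΘ'0e i j)
  have hUt0 : Ut.map evY0 = E := by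
    refine Matrix.ext fun i j => ?_
    simp [hUt]
  have hVt0 : Vt.map evY0 = E := by
    refine Matrix.ext fun i j => ?_
    simp [hVt]
  set D₁ : Matrix (Fin n) (Fin n) A[X][X] := Ut * Vt - E.map C with hD₁
  set D₂ : Matrix (Fin n) (Fin n) A[X][X] := Vt * Ut - E.map (tau s) with hD₂
  have hD₁φ : D₁.map (algebraMap A[X][X] B[X][X]) = 0 := by
    change D₁.map (map₂ φ) = 0
    rw [hD₁, Matrix.map_sub _ (map_sub _), Matrix.map_mul, hUtφ, hVtφ, ← Matrix.map_mul, hΘΘ', Matrix.map_map,
      Matrix.map_map, sub_eq_zero, Matrix.map_map]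
    congr 1
    funext p
    simp
  have hD₂φ : D₂.map (algebraMap A[X][X] B[X][X]) = 0 := by
    change D₂.map (map₂ φ) = 0
    rw [hD₂, Matrix.map_sub _ (map_sub _), Matrix.map_mul, hUtφ, hVtφ, ← Matrix.map_mul, hΘ'Θ, Matrix.map_map,
      Matrix.map_map, sub_eq_zero, Matrix.map_map]
    congr 1
    funext p
    have e1 := congrArg (fun h => h (p.map φ)) (scale_comp_tau (φ s) (1 : B))
    have e2 := congrArg (fun h => h p) (map₂_comp_tau φ s)
    simp only [RingHom.comp_apply, mul_one, coe_mapRingHom] at e1 e2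
    simp only [Function.comp_apply, coe_mapRingHom]
    rw [e1, e2]
  have hidCA : (evY0 (A := A)) ∘ C = id := by
    funext p; exact congrArg (fun h => h p) evY0_comp_C
  have hidtauA : ∀ a : A, (evY0 (A := A)) ∘ (tau a) = id := by
    intro a; funext p; exact congrArg (fun h => h p) (evY0_comp_tau a)
  have hD₁0 : D₁.map evY0 = 0 := by
    rw [hD₁, Matrix.map_sub _ (map_sub _), Matrix.map_mul, hUt0, hVt0, hE, Matrix.map_map, hidCA, Matrix.map_id,
      sub_self]
  have hD₂0 : D₂.map evY0 = 0 := by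
    rw [hD₂, Matrix.map_sub _ (map_sub _), Matrix.map_mul, hUt0, hVt0, hE, Matrix.map_map, hidtauA, Matrix.map_id,
      sub_self]
  obtain ⟨t₂, ht₂⟩ := exists_matrix_kill ((S.map C).map C) D₁ hD₁φ
  obtain ⟨t₂', ht₂'⟩ := exists_matrix_kill ((S.map C).map C) D₂ hD₂φ
  obtain ⟨a₂, ha₂, hta₂⟩ := hS₂ t₂
  obtain ⟨a₂', ha₂', hta₂'⟩ := hS₂ t₂'
  set s₂ := a₂ * a₂' with hs₂
  have hkill : ∀ (D : Matrix (Fin n) (Fin n) A[X][X]) (a a' : A), D.map evY0 = 0 →
      (C (C a) : A[X][X]) • D = 0 → D.map (scale (a * a')) = 0 ∧ D.map (scale (a' * a)) = 0 := by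
    intro D a a' h0 hk
    have key : D.map (scale (a * a')) = 0 := by
      refine Matrix.ext fun i j => ?_
      rw [Matrix.map_apply, Matrix.zero_apply]
      apply scale_eq_zero_of
      · have := congrFun (congrFun h0 i) j
        simpa using this
      · have := congrFun (congrFun hk i) j
        rw [Matrix.smul_apply, Matrix.zero_apply, smul_eq_mul] at this
        rw [map_mul, map_mul, mul_comm (C (C a)), mul_assoc, this, mul_zero]
    exact ⟨key, by rw [mul_comm]; exact key⟩
  have hD₁s : D₁.map (scale s₂) = 0 := (hkill D₁ a₂ a₂' hD₁0 (by rw [← hta₂]; exact ht₂)).1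
  have hD₂s : D₂.map (scale s₂) = 0 := (hkill D₂ a₂' a₂ hD₂0 (by rw [← hta₂']; exact ht₂')).2
  refine ⟨s₂ * s, S.mul_mem (S.mul_mem ha₂ ha₂') hsS, Ut.map (scale s₂), Vt.map (scale s₂), ?_, ?_⟩
  · rw [← Matrix.map_mul]
    have : Ut * Vt = D₁ + E.map C := by rw [hD₁]; abel
    rw [this, Matrix.map_add _ (map_add _), hD₁s, zero_add, Matrix.map_map]
    congr 1
    funext p
    simp
  · rw [← Matrix.map_mul]
    have : Vt * Ut = D₂ + E.map (tau s) := by rw [hD₂]; abel
    rw [this, Matrix.map_add _ (map_add _), hD₂s, zero_add, Matrix.map_map]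
    congr 1
    funext p
    exact congrArg (fun h => h p) (scale_comp_tau s₂ s)

end Local

section Main

variable {A : Type u} [CommRing A] {n : ℕ}

/-- **Quillen patching for idempotent matrices.**  If the image of the idempotent `E` over `A[X]`
becomes free over `A_𝔪[X]` for every maximal ideal `𝔪`, then `E` is equivalent to the constant
idempotent `E(0)`. -/
theorem exists_equiv_const_of_local (E : Matrix (Fin n) (Fin n) A[X]) (hE : E * E = E)
    (hloc : ∀ (m : Ideal A) [m.IsMaximal], ∃ (r : ℕ)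
      (U' : Matrix (Fin r) (Fin n) (Localization.AtPrime m)[X])
      (V' : Matrix (Fin n) (Fin r) (Localization.AtPrime m)[X]), U' * V' = 1 ∧
        V' * U' = E.map (mapRingHom (algebraMap A (Localization.AtPrime m)))) :
    ∃ U V : Matrix (Fin n) (Fin n) A[X],
      U * V = (E.map (evalRingHom 0)).map C ∧ V * U = E := by
  have htop : quillenIdeal E hE = ⊤ := by
    by_contra hne
    obtain ⟨m, hm, hJm⟩ := Ideal.exists_le_maximal _ hne
    obtain ⟨r, U', V', hUV, hVU⟩ := hloc m
    obtain ⟨s, hs, hsJ⟩ := exists_mem_quillenSet_of_free m.primeCompl (Localization.AtPrime m) hE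
      U' V' hUV hVU
    exact hs (hJm hsJ)
  apply exists_equiv_const_of_one_mem
  rw [← mem_quillenIdeal hE, htop]
  trivial

end Main

end Groth.Agent.R2.H18.Quillen
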