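import Groth.Agent.R2.H18HorrocksB
import Groth.Agent.R2.H18HorrocksC
import Groth.Agent.R2.H18QuillenA

/-!
# Horrocks' theorem, global form (helper18)

`extended_of_lattice`: a finitely generated projective `A[X]`-module `M` with maps
`ι : A[X] ⊗ Q → M`, `c : M → A[X] ⊗ Q` (`Q` finitely generated projective over `A`), `c ∘ ι = f`,
`ι ∘ c = f`, `f` monic, is extended from `A`.

`extended_of_extends_to_projectiveLine`: a finitely generated projective `A[X]`-module which extends to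
the projective line over `A` is extended from `A`.
-/

set_option autoImplicit false

open Polynomial TensorProduct LaurentPolynomial

namespace Groth.Agent.R2.H18.Horrocks

universe u v

variable {A : Type u} [CommRing A]

/-- `A[X] → A_𝔪[X]` -/
@[reducible] noncomputable def polyAlg (m : Ideal A) [m.IsPrime] :
    Algebra A[X] (Localization.AtPrime m)[X] := Polynomial.algebra A _

attribute [local instance] polyAlg

section LocalFree

variable (m : Ideal A) [m.IsMaximal]

local notation "Bm" => Localization.AtPrime m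

variable {M : Type v} [AddCommGroup M] [Module A[X] M] [Module.Finite A[X] M]
  [Module.Projective A[X] M]

theorem free_baseChange_of_lattice {Q : Type u} [AddCommGroup Q] [Module A Q] [Module.Finite A Q]
    [Module.Projective A Q] (ι : A[X] ⊗[A] Q →ₗ[A[X]] M) (c : M →ₗ[A[X]] A[X] ⊗[A] Q) (f : A[X])
    (hf : f.Monic) (h1 : ∀ z, c (ι z) = f • z) (h2 : ∀ x, ι (c x) = f • x) :
    Module.Free Bm[X] (Bm[X] ⊗[A[X]] M) := by
  have hfreeQ : Module.Free Bm (Bm ⊗[A] Q) := Module.free_of_flat_of_isLocalRing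
  let e1 : Bm[X] ⊗[A[X]] (A[X] ⊗[A] Q) ≃ₗ[Bm[X]] Bm[X] ⊗[A] Q :=
    TensorProduct.AlgebraTensorModule.cancelBaseChange A A[X] Bm[X] Bm[X] Q
  let e2 : Bm[X] ⊗[Bm] (Bm ⊗[A] Q) ≃ₗ[Bm[X]] Bm[X] ⊗[A] Q :=
    TensorProduct.AlgebraTensorModule.cancelBaseChange A Bm Bm[X] Bm[X] Q
  have hfreeF : Module.Free Bm[X] (Bm[X] ⊗[A[X]] (A[X] ⊗[A] Q)) :=
    Module.Free.of_equiv (e2.trans e1.symm)
  have hι : ι.baseChange Bm[X] ∘ₗ c.baseChange Bm[X] =
      (f.map (algebraMap A Bm)) • LinearMap.id := by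
    rw [← LinearMap.baseChange_comp]
    have : ι ∘ₗ c = f • LinearMap.id := LinearMap.ext h2
    rw [this, LinearMap.baseChange_smul, LinearMap.baseChange_id]
    apply LinearMap.ext
    intro x
    simp only [LinearMap.smul_apply, LinearMap.id_apply]
    rw [← algebraMap_smul Bm[X] f x]
    rfl
  have hc : c.baseChange Bm[X] ∘ₗ ι.baseChange Bm[X] =
      (f.map (algebraMap A Bm)) • LinearMap.id := by
    rw [← LinearMap.baseChange_comp]
    have : c ∘ₗ ι = f • LinearMap.id := LinearMap.ext h1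
    rw [this, LinearMap.baseChange_smul, LinearMap.baseChange_id]
    apply LinearMap.ext
    intro x
    simp only [LinearMap.smul_apply, LinearMap.id_apply]
    rw [← algebraMap_smul Bm[X] f x]
    rfl
  exact free_of_lattice (ι.baseChange Bm[X]) (c.baseChange Bm[X]) (f.map (algebraMap A Bm))
    (hf.map _) (fun v => congrArg (fun h => h v) hc) (fun x => congrArg (fun h => h x) hι)

end LocalFree

section Matrices

variable (m : Ideal A) [m.IsMaximal]

local notation "Bm" => Localization.AtPrime m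

variable {M : Type v} [AddCommGroup M] [Module A[X] M] [Module.Finite A[X] M]

theorem exists_matrices_of_free {n : ℕ} (i : M →ₗ[A[X]] (Fin n → A[X]))
    (pr : (Fin n → A[X]) →ₗ[A[X]] M) (hpi : pr ∘ₗ i = LinearMap.id)
    [Module.Free Bm[X] (Bm[X] ⊗[A[X]] M)] :
    ∃ (r : ℕ) (U' : Matrix (Fin r) (Fin n) Bm[X]) (V' : Matrix (Fin n) (Fin r) Bm[X]),
      U' * V' = 1 ∧ V' * U' = (LinearMap.toMatrix' (i ∘ₗ pr)).map
        (mapRingHom (algebraMap A Bm)) := by
  classical
  let b := Module.finBasis Bm[X] (Bm[X] ⊗[A[X]] M)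
  let bn := Algebra.TensorProduct.basis Bm[X] (Pi.basisFun A[X] (Fin n))
  refine ⟨_, LinearMap.toMatrix bn b (pr.baseChange Bm[X]),
    LinearMap.toMatrix b bn (i.baseChange Bm[X]), ?_, ?_⟩
  · rw [← LinearMap.toMatrix_comp, ← LinearMap.baseChange_comp, hpi, LinearMap.baseChange_id,
      LinearMap.toMatrix_id]
  · rw [← LinearMap.toMatrix_comp, ← LinearMap.baseChange_comp, LinearMap.toMatrix_baseChange,
      LinearMap.toMatrix_eq_toMatrix']
    rfl

end Matrices

section Extended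

variable {M : Type v} [AddCommGroup M] [Module A[X] M]

theorem toLin'_toMatrix_basis {R : Type*} [CommRing R] {F : Type*} [AddCommGroup F] [Module R F]
    {n : ℕ} (b : Module.Basis (Fin n) R F) (g : F →ₗ[R] F) :
    Matrix.toLin' (LinearMap.toMatrix b b g) =
      b.equivFun.toLinearMap ∘ₗ g ∘ₗ b.equivFun.symm.toLinearMap := by
  rw [LinearMap.toMatrix, LinearEquiv.trans_apply, Matrix.toLin'_toMatrix']
  rfl

theorem exists_extended_of_matrices' {n : ℕ} (i : M →ₗ[A[X]] (Fin n → A[X]))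
    (pr : (Fin n → A[X]) →ₗ[A[X]] M) (hpi : pr ∘ₗ i = LinearMap.id)
    (U V : Matrix (Fin n) (Fin n) A[X])
    (hUV : U * V = ((LinearMap.toMatrix' (i ∘ₗ pr)).map (evalRingHom 0)).map Polynomial.C)
    (hVU : V * U = LinearMap.toMatrix' (i ∘ₗ pr)) :
    ∃ (P : Type u) (_ : AddCommGroup P) (_ : Module A P) (_ : Module.Finite A P)
      (_ : Module.Projective A P), Nonempty (M ≃ₗ[A[X]] (A[X] ⊗[A] P)) := by
  classical
  set E := LinearMap.toMatrix' (i ∘ₗ pr) with hE
  have hEE : E * E = E := by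
    rw [hE, ← LinearMap.toMatrix'_comp, LinearMap.comp_assoc, ← LinearMap.comp_assoc pr i pr, hpi,
      LinearMap.id_comp]
  set E0 : Matrix (Fin n) (Fin n) A := E.map (evalRingHom 0) with hE0
  have hE0E0 : E0 * E0 = E0 := by rw [hE0, ← Matrix.map_mul, hEE]
  set ε : (Fin n → A) →ₗ[A] (Fin n → A) := Matrix.toLin' E0 with hε
  have hεε : ∀ v, ε (ε v) = ε v := by
    intro v
    rw [hε, ← LinearMap.comp_apply, ← Matrix.toLin'_mul, hE0E0]
  let P := LinearMap.range ε
  let j : P →ₗ[A] (Fin n → A) := P.subtype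
  let ε' : (Fin n → A) →ₗ[A] P := ε.rangeRestrict
  have hjε' : j ∘ₗ ε' = ε := by
    apply LinearMap.ext; intro v; rfl
  have hε'j : ε' ∘ₗ ε ∘ₗ j = LinearMap.id := by
    apply LinearMap.ext
    rintro ⟨_, v, rfl⟩
    apply Subtype.ext
    change ε (ε (ε v)) = ε v
    rw [hεε, hεε]
  let b₀ := Algebra.TensorProduct.basis A[X] (Pi.basisFun A (Fin n))
  let β : A[X] ⊗[A] (Fin n → A) ≃ₗ[A[X]] (Fin n → A[X]) := b₀.equivFun
  have hβ : β.toLinearMap ∘ₗ (ε.baseChange A[X]) ∘ₗ β.symm.toLinearMap =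
      Matrix.toLin' (E0.map Polynomial.C) := by
    rw [← toLin'_toMatrix_basis b₀, LinearMap.toMatrix_baseChange, LinearMap.toMatrix_eq_toMatrix',
      hε, LinearMap.toMatrix'_toLin']
    rfl
  have hipr : i ∘ₗ pr = Matrix.toLin' E := by rw [hE, Matrix.toLin'_toMatrix']
  let Φ : M →ₗ[A[X]] A[X] ⊗[A] P :=
    (ε'.baseChange A[X]) ∘ₗ β.symm.toLinearMap ∘ₗ (Matrix.toLin' U) ∘ₗ i
  let Ψ : A[X] ⊗[A] P →ₗ[A[X]] M :=
    pr ∘ₗ (Matrix.toLin' V) ∘ₗ β.toLinearMap ∘ₗ (j.baseChange A[X])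
  have h1 : Ψ ∘ₗ Φ = LinearMap.id := by
    have e1 : (j.baseChange A[X]) ∘ₗ (ε'.baseChange A[X]) = ε.baseChange A[X] := by
      rw [← LinearMap.baseChange_comp, hjε']
    have e2 : (Matrix.toLin' V) ∘ₗ (Matrix.toLin' (E0.map Polynomial.C)) ∘ₗ (Matrix.toLin' U) =
        Matrix.toLin' E := by
      rw [← Matrix.toLin'_mul, ← Matrix.toLin'_mul, ← hUV]
      have : V * (U * V * U) = (V * U) * (V * U) := by simp only [Matrix.mul_assoc]
      rw [this, hVU, hEE]
    calc Ψ ∘ₗ Φ = pr ∘ₗ (Matrix.toLin' V) ∘ₗ (β.toLinearMap ∘ₗ ((j.baseChange A[X]) ∘ₗ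
          (ε'.baseChange A[X])) ∘ₗ β.symm.toLinearMap) ∘ₗ (Matrix.toLin' U) ∘ₗ i := by
          simp only [Φ, Ψ, LinearMap.comp_assoc]
      _ = pr ∘ₗ ((Matrix.toLin' V) ∘ₗ (Matrix.toLin' (E0.map Polynomial.C)) ∘ₗ (Matrix.toLin' U)) ∘ₗ i := by
          rw [e1, hβ]; simp only [LinearMap.comp_assoc]
      _ = LinearMap.id := by
          rw [e2, ← hipr, LinearMap.comp_assoc, hpi, LinearMap.comp_id, hpi]
  have h2 : Φ ∘ₗ Ψ = LinearMap.id := by
    have e2 : (Matrix.toLin' U) ∘ₗ (Matrix.toLin' E) ∘ₗ (Matrix.toLin' V) =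
        Matrix.toLin' (E0.map Polynomial.C) := by
      rw [← Matrix.toLin'_mul, ← Matrix.toLin'_mul, ← hVU]
      have : U * (V * U * V) = (U * V) * (U * V) := by simp only [Matrix.mul_assoc]
      rw [this, hUV, ← Matrix.map_mul, hE0E0]
    calc Φ ∘ₗ Ψ = (ε'.baseChange A[X]) ∘ₗ β.symm.toLinearMap ∘ₗ ((Matrix.toLin' U) ∘ₗ
          (i ∘ₗ pr) ∘ₗ (Matrix.toLin' V)) ∘ₗ β.toLinearMap ∘ₗ (j.baseChange A[X]) := by
          simp only [Φ, Ψ, LinearMap.comp_assoc]
      _ = (ε'.baseChange A[X]) ∘ₗ (β.symm.toLinearMap ∘ₗ (β.toLinearMap ∘ₗ (ε.baseChange A[X]) ∘ₗ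
          β.symm.toLinearMap) ∘ₗ β.toLinearMap) ∘ₗ (j.baseChange A[X]) := by
          rw [hipr, e2, hβ]; simp only [LinearMap.comp_assoc]
      _ = (ε'.baseChange A[X]) ∘ₗ (ε.baseChange A[X]) ∘ₗ (j.baseChange A[X]) := by
          congr 1
          apply LinearMap.ext; intro x
          simp
      _ = LinearMap.id := by
          rw [← LinearMap.baseChange_comp, ← LinearMap.baseChange_comp, hε'j,
            LinearMap.baseChange_id]
  have hproj : Module.Projective A P :=
    Module.Projective.of_split j ε' (by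
      apply LinearMap.ext
      rintro ⟨_, v, rfl⟩
      apply Subtype.ext
      change ε (ε v) = ε v
      rw [hεε])
  exact ⟨P, inferInstance, inferInstance, inferInstance, hproj,
    ⟨LinearEquiv.ofLinearMap Φ Ψ h2 h1⟩⟩

theorem exists_extended_of_matrices {n : ℕ} (i : M →ₗ[A[X]] (Fin n → A[X]))
    (pr : (Fin n → A[X]) →ₗ[A[X]] M) (hpi : pr ∘ₗ i = LinearMap.id)
    (U V : Matrix (Fin n) (Fin n) A[X])
    (hUV : U * V = ((LinearMap.toMatrix' (i ∘ₗ pr)).map (evalRingHom 0)).map Polynomial.C)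
    (hVU : V * U = LinearMap.toMatrix' (i ∘ₗ pr)) :
    ∃ (P : Type u) (_ : AddCommGroup P) (_ : Module A P),
      Nonempty (M ≃ₗ[A[X]] (A[X] ⊗[A] P)) := by
  obtain ⟨P, _, _, _, _, h⟩ := exists_extended_of_matrices' i pr hpi U V hUV hVU
  exact ⟨P, inferInstance, inferInstance, h⟩

end Extended

section Global

variable {M : Type v} [AddCommGroup M] [Module A[X] M] [Module.Finite A[X] M]
  [Module.Projective A[X] M]

/-- **Horrocks' theorem, global lattice form** (via Quillen patching). -/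
theorem extended_of_lattice' {Q : Type u} [AddCommGroup Q] [Module A Q] [Module.Finite A Q]
    [Module.Projective A Q] (ι : A[X] ⊗[A] Q →ₗ[A[X]] M) (c : M →ₗ[A[X]] A[X] ⊗[A] Q) (f : A[X])
    (hf : f.Monic) (h1 : ∀ z, c (ι z) = f • z) (h2 : ∀ x, ι (c x) = f • x) :
    ∃ (P : Type u) (_ : AddCommGroup P) (_ : Module A P) (_ : Module.Finite A P)
      (_ : Module.Projective A P), Nonempty (M ≃ₗ[A[X]] (A[X] ⊗[A] P)) := by
  obtain ⟨n, pr, i, -, -, hpi⟩ := Module.Finite.exists_comp_eq_id_of_projective A[X] M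
  have hEE : LinearMap.toMatrix' (i ∘ₗ pr) * LinearMap.toMatrix' (i ∘ₗ pr) =
      LinearMap.toMatrix' (i ∘ₗ pr) := by
    rw [← LinearMap.toMatrix'_comp, LinearMap.comp_assoc, ← LinearMap.comp_assoc pr i pr, hpi,
      LinearMap.id_comp]
  obtain ⟨U, V, hUV, hVU⟩ := Quillen.exists_equiv_const_of_local _ hEE (fun m _ => by
    have := free_baseChange_of_lattice m ι c f hf h1 h2
    exact exists_matrices_of_free m i pr hpi)
  exact exists_extended_of_matrices' i pr hpi U V hUV hVU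

theorem extended_of_lattice {Q : Type u} [AddCommGroup Q] [Module A Q] [Module.Finite A Q]
    [Module.Projective A Q] (ι : A[X] ⊗[A] Q →ₗ[A[X]] M) (c : M →ₗ[A[X]] A[X] ⊗[A] Q) (f : A[X])
    (hf : f.Monic) (h1 : ∀ z, c (ι z) = f • z) (h2 : ∀ x, ι (c x) = f • x) :
    ∃ (P : Type u) (_ : AddCommGroup P) (_ : Module A P),
      Nonempty (M ≃ₗ[A[X]] (A[X] ⊗[A] P)) := by
  obtain ⟨P, _, _, _, _, h⟩ := extended_of_lattice' ι c f hf h1 h2
  exact ⟨P, inferInstance, inferInstance, h⟩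

variable {N : Type v} [AddCommGroup N] [Module A[X] N] [Module.Finite A[X] N]
  [Module.Projective A[X] N]

/-- **Horrocks' theorem (Quillen's global form).**  A finitely generated projective `A[X]`-module which
extends to a vector bundle on the projective line over `A` is extended from `A`. -/
theorem extended_of_extends_to_projectiveLine
    (e : (A[T;T⁻¹] ⊗[A[X]] M) →ₛₗ[(LaurentPolynomial.invert (R := A)).toRingEquiv.toRingHom]
      (A[T;T⁻¹] ⊗[A[X]] N)) (he : Function.Bijective e) :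
    ∃ (P : Type u) (_ : AddCommGroup P) (_ : Module A P),
      Nonempty (M ≃ₗ[A[X]] (A[X] ⊗[A] P)) := by
  obtain ⟨Q, _, _, _, _, ι, c, f, hf, h1, h2⟩ := exists_lattice e he
  exact extended_of_lattice ι c f hf h1 h2

/-- the same, with `P` finitely generated projective -/
theorem extended_of_extends_to_projectiveLine'
    (e : (A[T;T⁻¹] ⊗[A[X]] M) →ₛₗ[(LaurentPolynomial.invert (R := A)).toRingEquiv.toRingHom]
      (A[T;T⁻¹] ⊗[A[X]] N)) (he : Function.Bijective e) :
    ∃ (P : Type u) (_ : AddCommGroup P) (_ : Module A P) (_ : Module.Finite A P)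
      (_ : Module.Projective A P), Nonempty (M ≃ₗ[A[X]] (A[X] ⊗[A] P)) := by
  obtain ⟨Q, _, _, _, _, ι, c, f, hf, h1, h2⟩ := exists_lattice e he
  exact extended_of_lattice' ι c f hf h1 h2

end Global

end Groth.Agent.R2.H18.Horrocks
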