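import Groth.Agent.R2.H18HorrocksD

/-!
# Consequences of Horrocks' theorem (helper18)

* `exists_cover_free_of_extended`: an extended module `A[X] ⊗ P₀` (`P₀` finitely generated projective) is
  free over `A_g[X]` for `g` running through a finite family generating the unit ideal.
-/

set_option autoImplicit false

open Polynomial TensorProduct

namespace Groth.Agent.R2.H18.Horrocks

universe u

variable {R : Type u} [CommRing R] {P : Type u} [AddCommGroup P] [Module R[X] P]
  {P₀ : Type u} [AddCommGroup P₀] [Module R P₀]

theorem free_localizedModule_C_of_free_away (θ : P ≃ₗ[R[X]] R[X] ⊗[R] P₀) (g : R)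
    (h : Module.Free (Localization.Away g) (LocalizedModule.Away g P₀)) :
    Module.Free (Localization.Away (C g : R[X]))
      (LocalizedModule (Submonoid.powers (C g : R[X])) P) := by
  have hunit : IsUnit (algebraMap R (Localization.Away (C g : R[X])) g) := by
    rw [IsScalarTower.algebraMap_apply R R[X] (Localization.Away (C g : R[X]))]
    exact IsLocalization.Away.algebraMap_isUnit (C g)
  let ψ : Localization.Away g →+* Localization.Away (C g : R[X]) :=
    IsLocalization.Away.lift g hunit
  let _ : Algebra (Localization.Away g) (Localization.Away (C g : R[X])) := ψ.toAlgebra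
  have : IsScalarTower R (Localization.Away g) (Localization.Away (C g : R[X])) :=
    IsScalarTower.of_algebraMap_eq (fun a => (IsLocalization.Away.lift_eq g hunit a).symm)
  let E1 := (IsLocalizedModule.isBaseChange (Submonoid.powers (C g : R[X]))
    (Localization.Away (C g : R[X]))
    (LocalizedModule.mkLinearMap (Submonoid.powers (C g : R[X])) P)).equiv
  let E2 : Localization.Away (C g : R[X]) ⊗[R[X]] P ≃ₗ[Localization.Away (C g : R[X])]
      Localization.Away (C g : R[X]) ⊗[R[X]] (R[X] ⊗[R] P₀) :=
    TensorProduct.AlgebraTensorModule.congr (LinearEquiv.refl _ _) θ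
  let E3 := TensorProduct.AlgebraTensorModule.cancelBaseChange R R[X]
    (Localization.Away (C g : R[X])) (Localization.Away (C g : R[X])) P₀
  let E4 := TensorProduct.AlgebraTensorModule.cancelBaseChange R (Localization.Away g)
    (Localization.Away (C g : R[X])) (Localization.Away (C g : R[X])) P₀
  let E5 := (IsLocalizedModule.isBaseChange (Submonoid.powers g) (Localization.Away g)
    (LocalizedModule.mkLinearMap (Submonoid.powers g) P₀)).equiv
  have hfree : Module.Free (Localization.Away g) (Localization.Away g ⊗[R] P₀) :=
    Module.Free.of_equiv E5.symm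
  exact Module.Free.of_equiv (E4.trans (E3.symm.trans (E2.symm.trans E1)))

theorem exists_cover_free_away (P₀ : Type u) [AddCommGroup P₀] [Module R P₀] [Module.Finite R P₀]
    [Module.Projective R P₀] :
    ∃ (n : ℕ) (g : Fin n → R), Ideal.span (Set.range g) = ⊤ ∧
      ∀ i, Module.Free (Localization.Away (g i)) (LocalizedModule.Away (g i) P₀) := by
  have : Module.FinitePresentation R P₀ := Module.finitePresentation_of_projective _ _
  set G : Set R := {g | Module.Free (Localization.Away g) (LocalizedModule.Away g P₀)} with hG
  have hspan : Ideal.span G = ⊤ := by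
    by_contra hne
    obtain ⟨p, hp, hle⟩ := Ideal.exists_le_maximal _ hne
    have hfree : Module.Free (Localization.AtPrime p) (LocalizedModule p.primeCompl P₀) :=
      Module.free_of_flat_of_isLocalRing
    obtain ⟨r, hr, hr', _⟩ := Module.FinitePresentation.exists_free_localizedModule_powers
      p.primeCompl (LocalizedModule.mkLinearMap p.primeCompl P₀) (Localization.AtPrime p)
    exact hr (hle (Ideal.subset_span hr'))
  have h1 : (1 : R) ∈ Ideal.span G := by rw [hspan]; trivial
  obtain ⟨T, hTG, hT1⟩ := Submodule.mem_span_finite_of_mem_span h1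
  refine ⟨T.card, fun i => (T.equivFin.symm i : R), ?_, fun i => ?_⟩
  · rw [Ideal.eq_top_iff_one]
    have : Set.range (fun i => (T.equivFin.symm i : R)) = (T : Set R) := by
      ext x
      constructor
      · rintro ⟨i, rfl⟩; exact (T.equivFin.symm i).2
      · intro hx; exact ⟨T.equivFin ⟨x, hx⟩, by simp⟩
    rw [this]
    exact hT1
  · exact hTG (T.equivFin.symm i).2

theorem exists_cover_free_of_extended [Module.Finite R P₀] [Module.Projective R P₀]
    (θ : P ≃ₗ[R[X]] R[X] ⊗[R] P₀) :
    ∃ (n : ℕ) (g : Fin n → R), Ideal.span (Set.range g) = ⊤ ∧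
      ∀ i, Module.Free (Localization.Away (C (g i) : R[X]))
        (LocalizedModule (Submonoid.powers (C (g i) : R[X])) P) := by
  obtain ⟨n, g, hg, hfree⟩ := exists_cover_free_away (R := R) P₀
  exact ⟨n, g, hg, fun i => free_localizedModule_C_of_free_away θ (g i) (hfree i)⟩

end Groth.Agent.R2.H18.Horrocks
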