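import Groth.Agent.R2.H18HorrocksD

/-!
# Isomorphisms over `A(t)` descend (helper18)

* `nonempty_equiv_of_monic_lattice`: finitely generated projective `A`-modules `P`, `P'` such that
  `P[X]` and `P'[X]` are isogenous by a monic polynomial are isomorphic.
-/

set_option autoImplicit false

open Polynomial TensorProduct LaurentPolynomial

namespace Groth.Agent.R2.H18.Horrocks

universe u

variable {A : Type u} [CommRing A]

section Spec

variable (a : A)

/-- evaluation at `a` on an extended module -/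
noncomputable def evMap (Q : Type*) [AddCommGroup Q] [Module A Q] : A[X] ⊗[A] Q →ₗ[A] Q :=
  (TensorProduct.lid A Q).toLinearMap ∘ₗ
    LinearMap.rTensor Q (Polynomial.aeval a : A[X] →ₐ[A] A).toLinearMap

variable {Q₁ Q₂ Q₃ : Type*} [AddCommGroup Q₁] [Module A Q₁] [AddCommGroup Q₂] [Module A Q₂]
  [AddCommGroup Q₃] [Module A Q₃]

@[simp] theorem evMap_tmul (p : A[X]) (q : Q₁) : evMap a Q₁ (p ⊗ₜ[A] q) = p.eval a • q := by
  simp [evMap]

theorem evMap_smul (p : A[X]) (z : A[X] ⊗[A] Q₁) :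
    evMap a Q₁ (p • z) = p.eval a • evMap a Q₁ z := by
  induction z using TensorProduct.induction_on with
  | zero => simp
  | tmul r q => rw [TensorProduct.smul_tmul', evMap_tmul, evMap_tmul, smul_eq_mul, eval_mul, mul_smul]
  | add x y hx hy => rw [smul_add, map_add, hx, hy, map_add, smul_add]

/-- specialisation at `a` of a map between extended modules -/
noncomputable def specMap (u : A[X] ⊗[A] Q₁ →ₗ[A[X]] A[X] ⊗[A] Q₂) : Q₁ →ₗ[A] Q₂ :=
  evMap a Q₂ ∘ₗ u.restrictScalars A ∘ₗ (TensorProduct.mk A A[X] Q₁ 1)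

theorem specMap_apply (u : A[X] ⊗[A] Q₁ →ₗ[A[X]] A[X] ⊗[A] Q₂) (q : Q₁) :
    specMap a u q = evMap a Q₂ (u ((1 : A[X]) ⊗ₜ[A] q)) := rfl

theorem evMap_map (u : A[X] ⊗[A] Q₁ →ₗ[A[X]] A[X] ⊗[A] Q₂) (z : A[X] ⊗[A] Q₁) :
    evMap a Q₂ (u z) = specMap a u (evMap a Q₁ z) := by
  induction z using TensorProduct.induction_on with
  | zero => simp
  | tmul p q =>
    have : p ⊗ₜ[A] q = p • ((1 : A[X]) ⊗ₜ[A] q) := by
      rw [TensorProduct.smul_tmul', smul_eq_mul, mul_one]
    rw [this, map_smul, evMap_smul, evMap_smul, evMap_tmul, eval_one, one_smul, map_smul,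
      specMap_apply]
  | add x y hx hy => rw [map_add, map_add, hx, hy, map_add, map_add]

theorem specMap_comp (v : A[X] ⊗[A] Q₂ →ₗ[A[X]] A[X] ⊗[A] Q₃)
    (u : A[X] ⊗[A] Q₁ →ₗ[A[X]] A[X] ⊗[A] Q₂) :
    specMap a (v ∘ₗ u) = specMap a v ∘ₗ specMap a u := by
  apply LinearMap.ext
  intro q
  change evMap a Q₃ (v (u ((1 : A[X]) ⊗ₜ[A] q))) = specMap a v (specMap a u q)
  rw [evMap_map a v, ← specMap_apply]

theorem specMap_smul_id (h : A[X]) :
    specMap a (h • (LinearMap.id : A[X] ⊗[A] Q₁ →ₗ[A[X]] A[X] ⊗[A] Q₁)) =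
      h.eval a • LinearMap.id := by
  apply LinearMap.ext
  intro q
  rw [specMap_apply, LinearMap.smul_apply, LinearMap.id_apply, evMap_smul, evMap_tmul, eval_one,
    one_smul, LinearMap.smul_apply, LinearMap.id_apply]

/-- extended modules isogenous by a polynomial with value `1` at `a` come from isomorphic modules -/
theorem nonempty_equiv_of_eval_eq_one (u : A[X] ⊗[A] Q₁ →ₗ[A[X]] A[X] ⊗[A] Q₂)
    (v : A[X] ⊗[A] Q₂ →ₗ[A[X]] A[X] ⊗[A] Q₁) (h : A[X]) (ha : h.eval a = 1)
    (huv : u ∘ₗ v = h • LinearMap.id) (hvu : v ∘ₗ u = h • LinearMap.id) :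
    Nonempty (Q₁ ≃ₗ[A] Q₂) := by
  refine ⟨LinearEquiv.ofLinearMap (specMap a u) (specMap a v) ?_ ?_⟩
  · rw [← specMap_comp, huv, specMap_smul_id, ha, one_smul]
  · rw [← specMap_comp, hvu, specMap_smul_id, ha, one_smul]

end Spec

section Core

theorem isRegular_of_coeff_zero_eq_one {g : A[X]} (hg : g.coeff 0 = 1) : IsRegular g := by
  have hunit : IsUnit (g : PowerSeries A) := by
    rw [PowerSeries.isUnit_iff_constantCoeff, ← PowerSeries.coeff_zero_eq_constantCoeff_apply,
      Polynomial.coeff_coe, hg]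
    exact isUnit_one
  have hleft : IsLeftRegular g := by
    intro p q hpq
    apply Polynomial.coe_injective A
    apply hunit.isRegular.left
    simpa [← Polynomial.coe_mul] using congrArg (fun r : A[X] => (r : PowerSeries A)) hpq
  exact ⟨hleft, by
    intro p q hpq
    apply hleft
    simpa [mul_comm] using hpq⟩

variable {P P' : Type u} [AddCommGroup P] [Module A P] [Module.Finite A P] [Module.Projective A P]
  [AddCommGroup P'] [Module A P'] [Module.Finite A P'] [Module.Projective A P']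

/-- If `P[X]` and `P'[X]` are isogenous by `X ^ K * g` with `g(0) = 1`, then `P ≅ P'`
(the intermediate lattice is extended by Horrocks' theorem; evaluate at `0` and at `1`). -/
theorem nonempty_equiv_of_two_lattices (u : A[X] ⊗[A] P →ₗ[A[X]] A[X] ⊗[A] P')
    (w : A[X] ⊗[A] P' →ₗ[A[X]] A[X] ⊗[A] P) (K : ℕ) (g : A[X]) (hg : g.coeff 0 = 1)
    (h1 : ∀ x, w (u x) = (X ^ K * g) • x) (h2 : ∀ y, u (w y) = (X ^ K * g) • y) :
    Nonempty (P ≃ₗ[A] P') := by
  have hreg : IsRegular ((X : A[X]) ^ K * g) :=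
    (isRegular_X_pow K).mul (isRegular_of_coeff_zero_eq_one hg)
  have hu : Function.Injective u := by
    intro x y hxy
    have hsm : IsSMulRegular (A[X] ⊗[A] P) ((X : A[X]) ^ K * g) :=
      Module.Flat.isSMulRegular_of_isRegular hreg
    apply hsm
    change ((X : A[X]) ^ K * g) • x = ((X : A[X]) ^ K * g) • y
    rw [← h1, ← h1, hxy]
  -- the intermediate lattice
  let Nt : Submodule A[X] (A[X] ⊗[A] P') :=
    Submodule.comap (((X : A[X]) ^ K) • (LinearMap.id : A[X] ⊗[A] P' →ₗ[A[X]] A[X] ⊗[A] P'))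
      (LinearMap.range u)
  have hNt : ∀ y, y ∈ Nt ↔ ((X : A[X]) ^ K) • y ∈ LinearMap.range u := fun y => Iff.rfl
  let ιN : Nt →ₗ[A[X]] A[X] ⊗[A] P' := Nt.subtype
  let cN : A[X] ⊗[A] P' →ₗ[A[X]] Nt :=
    LinearMap.codRestrict Nt (g • LinearMap.id) (fun y => by
      rw [hNt]
      exact ⟨w y, by rw [h2, mul_smul]; rfl⟩)
  let ιN' : A[X] ⊗[A] P →ₗ[A[X]] Nt :=
    LinearMap.codRestrict Nt u (fun x => by
      rw [hNt]
      exact ⟨((X : A[X]) ^ K) • x, by rw [map_smul]⟩)
  let uE := LinearEquiv.ofInjective u hu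
  let cN' : Nt →ₗ[A[X]] A[X] ⊗[A] P :=
    uE.symm.toLinearMap ∘ₗ LinearMap.codRestrict (LinearMap.range u)
      ((((X : A[X]) ^ K) • (LinearMap.id : A[X] ⊗[A] P' →ₗ[A[X]] A[X] ⊗[A] P')) ∘ₗ Nt.subtype)
      (fun y => y.2)
  have hcN' : ∀ y : Nt, u (cN' y) = ((X : A[X]) ^ K) • (y : A[X] ⊗[A] P') := by
    intro y
    have := uE.apply_symm_apply (LinearMap.codRestrict (LinearMap.range u)
      ((((X : A[X]) ^ K) • (LinearMap.id : A[X] ⊗[A] P' →ₗ[A[X]] A[X] ⊗[A] P')) ∘ₗ Nt.subtype)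
      (fun y => y.2) y)
    exact congrArg Subtype.val this
  have e1 : ∀ y : Nt, cN (ιN y) = g • y := fun y => Subtype.ext rfl
  have e2 : ∀ y, ιN (cN y) = g • y := fun y => rfl
  have e3 : ∀ y : Nt, ιN' (cN' y) = ((X : A[X]) ^ K) • y := fun y => Subtype.ext (hcN' y)
  have e4 : ∀ x, cN' (ιN' x) = ((X : A[X]) ^ K) • x := by
    intro x
    apply hu
    rw [hcN', map_smul]
    rfl
  -- `Nt` is finitely generated projective
  obtain ⟨a, b, hab⟩ : IsCoprime ((X : A[X]) ^ K) g := by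
    apply IsCoprime.pow_left
    refine ⟨-divX g, 1, ?_⟩
    have h3 : X * divX g + 1 = g := by simpa [hg] using X_mul_divX_add g
    linear_combination (-1 : A[X]) * h3
  let α : Nt →ₗ[A[X]] (A[X] ⊗[A] P) × (A[X] ⊗[A] P') := LinearMap.prod cN' ιN
  let β : (A[X] ⊗[A] P) × (A[X] ⊗[A] P') →ₗ[A[X]] Nt :=
    LinearMap.coprod (a • ιN') (b • cN)
  have hβα : β ∘ₗ α = LinearMap.id := by
    apply LinearMap.ext
    intro y
    change a • ιN' (cN' y) + b • cN (ιN y) = y
    rw [e3, e1, smul_smul, smul_smul, ← add_smul, hab, one_smul]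
  have hfin : Module.Finite A[X] Nt :=
    Module.Finite.of_surjective β (fun y => ⟨α y, congrArg (fun h => h y) hβα⟩)
  have hproj : Module.Projective A[X] Nt := Module.Projective.of_split α β hβα
  -- Horrocks
  have := hfin
  have := hproj
  obtain ⟨N₀, _, _, _, _, ⟨θ⟩⟩ :=
    extended_of_lattice' (M := Nt) ιN' cN' (X ^ K) (monic_X_pow K) e4 e3
  -- evaluate at `0` and at `1`
  obtain ⟨E0⟩ : Nonempty (N₀ ≃ₗ[A] P') :=
    nonempty_equiv_of_eval_eq_one 0 (ιN ∘ₗ θ.symm.toLinearMap) (θ.toLinearMap ∘ₗ cN) g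
      (by rw [← coeff_zero_eq_eval_zero, hg])
      (by
        apply LinearMap.ext; intro y
        simp only [LinearMap.comp_apply, LinearEquiv.coe_coe, LinearEquiv.symm_apply_apply, e2,
          LinearMap.smul_apply, LinearMap.id_apply])
      (by
        apply LinearMap.ext; intro z
        simp only [LinearMap.comp_apply, LinearEquiv.coe_coe, e1, map_smul,
          LinearEquiv.apply_symm_apply, LinearMap.smul_apply, LinearMap.id_apply])
  obtain ⟨E1⟩ : Nonempty (N₀ ≃ₗ[A] P) :=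
    nonempty_equiv_of_eval_eq_one 1 (cN' ∘ₗ θ.symm.toLinearMap) (θ.toLinearMap ∘ₗ ιN') (X ^ K)
      (by simp)
      (by
        apply LinearMap.ext; intro y
        simp only [LinearMap.comp_apply, LinearEquiv.coe_coe, LinearEquiv.symm_apply_apply, e4,
          LinearMap.smul_apply, LinearMap.id_apply])
      (by
        apply LinearMap.ext; intro z
        simp only [LinearMap.comp_apply, LinearEquiv.coe_coe, e3, map_smul,
          LinearEquiv.apply_symm_apply, LinearMap.smul_apply, LinearMap.id_apply])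
  exact ⟨E1.symm.trans E0⟩


/-- **Reversal**: an isogeny by a monic polynomial `f` between `P[X]` and `P'[X]` yields an isogeny
by `X ^ K * f.reverse` (transport along `X ↦ X⁻¹` over the Laurent polynomials). -/
theorem exists_reversed_lattice (ι : A[X] ⊗[A] P →ₗ[A[X]] A[X] ⊗[A] P')
    (c : A[X] ⊗[A] P' →ₗ[A[X]] A[X] ⊗[A] P) (f : A[X]) (hf : f.Monic)
    (h1 : ∀ z, c (ι z) = f • z) (h2 : ∀ y, ι (c y) = f • y) :
    ∃ (u : A[X] ⊗[A] P →ₗ[A[X]] A[X] ⊗[A] P') (w : A[X] ⊗[A] P' →ₗ[A[X]] A[X] ⊗[A] P) (K : ℕ)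
      (g : A[X]), g.coeff 0 = 1 ∧ (∀ x, w (u x) = (X ^ K * g) • x) ∧
        (∀ y, u (w y) = (X ^ K * g) • y) := by
  have hcι : c ∘ₗ ι = f • LinearMap.id := LinearMap.ext h1
  have hιc : ι ∘ₗ c = f • LinearMap.id := LinearMap.ext h2
  set ιL := ι.baseChange A[T;T⁻¹] with hιL
  set cL := c.baseChange A[T;T⁻¹] with hcL
  have hcιL : ∀ t, cL (ιL t) = f • t := by
    intro t
    have : cL ∘ₗ ιL = (f • LinearMap.id : A[X] ⊗[A] P →ₗ[A[X]] A[X] ⊗[A] P).baseChange
        A[T;T⁻¹] := by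
      rw [hιL, hcL, ← LinearMap.baseChange_comp, hcι]
    have h3 := congrArg (fun h => h t) this
    simp only [LinearMap.comp_apply] at h3
    rw [h3, LinearMap.baseChange_smul, LinearMap.baseChange_id, LinearMap.smul_apply,
      LinearMap.id_apply]
  have hιcL : ∀ t, ιL (cL t) = f • t := by
    intro t
    have : ιL ∘ₗ cL = (f • LinearMap.id : A[X] ⊗[A] P' →ₗ[A[X]] A[X] ⊗[A] P').baseChange
        A[T;T⁻¹] := by
      rw [hιL, hcL, ← LinearMap.baseChange_comp, hιc]
    have h3 := congrArg (fun h => h t) this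
    simp only [LinearMap.comp_apply] at h3
    rw [h3, LinearMap.baseChange_smul, LinearMap.baseChange_id, LinearMap.smul_apply,
      LinearMap.id_apply]
  let u' : A[T;T⁻¹] ⊗[A[X]] (A[X] ⊗[A] P) →ₗ[A[T;T⁻¹]] A[T;T⁻¹] ⊗[A[X]] (A[X] ⊗[A] P') :=
    { toFun := fun t => twist' P' (ιL (twist' P t))
      map_add' := fun s t => by rw [twist'_add, map_add, twist'_add]
      map_smul' := fun a t => by
        rw [twist'_smul, map_smul, twist'_smul, LaurentPolynomial.involutive_invert a,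
          RingHom.id_apply] }
  let w' : A[T;T⁻¹] ⊗[A[X]] (A[X] ⊗[A] P') →ₗ[A[T;T⁻¹]] A[T;T⁻¹] ⊗[A[X]] (A[X] ⊗[A] P) :=
    { toFun := fun t => twist' P (cL (twist' P' t))
      map_add' := fun s t => by rw [twist'_add, map_add, twist'_add]
      map_smul' := fun a t => by
        rw [twist'_smul, map_smul, twist'_smul, LaurentPolynomial.involutive_invert a,
          RingHom.id_apply] }
  set γ : A[T;T⁻¹] := LaurentPolynomial.invert (toLaurent f) with hγ
  have hwu : ∀ t, w' (u' t) = γ • t := by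
    intro t
    change twist' P (cL (twist' P' (twist' P' (ιL (twist' P t))))) = γ • t
    rw [twist'_twist', hcιL, poly_smul_eq_toLaurent_smul f (twist' P t), twist'_smul,
      twist'_twist']
  have huw : ∀ t, u' (w' t) = γ • t := by
    intro t
    change twist' P' (ιL (twist' P (twist' P (cL (twist' P' t))))) = γ • t
    rw [twist'_twist', hιcL, poly_smul_eq_toLaurent_smul f (twist' P' t), twist'_smul,
      twist'_twist']
  -- descent
  let ℓP := TensorProduct.mk A[X] A[T;T⁻¹] (A[X] ⊗[A] P) 1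
  let ℓP' := TensorProduct.mk A[X] A[T;T⁻¹] (A[X] ⊗[A] P') 1
  have hinjP : Function.Injective ℓP := injective_mk_laurent (A[X] ⊗[A] P)
  have hinjP' : Function.Injective ℓP' := injective_mk_laurent (A[X] ⊗[A] P')
  have : Module.FinitePresentation A[X] (A[X] ⊗[A] P) :=
    Module.finitePresentation_of_projective _ _
  have : Module.FinitePresentation A[X] (A[X] ⊗[A] P') :=
    Module.finitePresentation_of_projective _ _
  obtain ⟨u₀, ⟨_, a, rfl⟩, hu₀⟩ := Module.FinitePresentation.exists_lift_of_isLocalizedModule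
    (Submonoid.powers (X : A[X])) ℓP' ((u'.restrictScalars A[X]) ∘ₗ ℓP)
  obtain ⟨w₀, ⟨_, b, rfl⟩, hw₀⟩ := Module.FinitePresentation.exists_lift_of_isLocalizedModule
    (Submonoid.powers (X : A[X])) ℓP ((w'.restrictScalars A[X]) ∘ₗ ℓP')
  have hu₀' : ∀ z, ℓP' (u₀ z) = (T (a : ℤ) : A[T;T⁻¹]) • u' (ℓP z) := fun z => by
    rw [← X_pow_smul_eq_T_smul a (u' (ℓP z))]
    exact congrArg (fun h => h z) hu₀
  have hw₀' : ∀ y, ℓP (w₀ y) = (T (b : ℤ) : A[T;T⁻¹]) • w' (ℓP' y) := fun y => by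
    rw [← X_pow_smul_eq_T_smul b (w' (ℓP' y))]
    exact congrArg (fun h => h y) hw₀
  set d := f.natDegree with hd
  have hrev : toLaurent f.reverse = γ * T (d : ℤ) := toLaurent_reverse f
  have hcoeff : f.reverse.coeff 0 = 1 := by
    rw [coeff_zero_reverse]
    exact hf
  refine ⟨u₀, ((X : A[X]) ^ d) • w₀, a + b, f.reverse, hcoeff, fun z => ?_, fun y => ?_⟩
  · apply hinjP
    rw [LinearMap.smul_apply, map_smul, X_pow_smul_eq_T_smul d (ℓP (w₀ (u₀ z))), hw₀', hu₀',
      map_smul, hwu, map_smul, poly_smul_eq_toLaurent_smul (_ * _) (ℓP z)]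
    simp only [smul_smul]
    congr 1
    rw [map_mul, Polynomial.toLaurent_X_pow, hrev, Nat.cast_add, T_add]
    ring
  · apply hinjP'
    rw [LinearMap.smul_apply, map_smul, map_smul, X_pow_smul_eq_T_smul d (ℓP' (u₀ (w₀ y))), hu₀',
      hw₀', map_smul, huw, map_smul, poly_smul_eq_toLaurent_smul (_ * _) (ℓP' y)]
    simp only [smul_smul]
    congr 1
    rw [map_mul, Polynomial.toLaurent_X_pow, hrev, Nat.cast_add, T_add]
    ring

/-- If `P[X]` and `P'[X]` are isogenous by a monic polynomial, then `P ≅ P'`. -/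
theorem nonempty_equiv_of_monic_lattice (ι : A[X] ⊗[A] P →ₗ[A[X]] A[X] ⊗[A] P')
    (c : A[X] ⊗[A] P' →ₗ[A[X]] A[X] ⊗[A] P) (f : A[X]) (hf : f.Monic)
    (h1 : ∀ z, c (ι z) = f • z) (h2 : ∀ y, ι (c y) = f • y) : Nonempty (P ≃ₗ[A] P') := by
  obtain ⟨u, w, K, g, hg, h3, h4⟩ := exists_reversed_lattice ι c f hf h1 h2
  exact nonempty_equiv_of_two_lattices u w K g hg h3 h4

end Core

section MonicLocalization

variable (M : Submonoid A[X]) (hM : ∀ f : A[X], f ∈ M ↔ f.Monic)
  (At : Type u) [CommRing At] [Algebra A[X] At] [IsLocalization M At]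


include hM in
theorem injective_mk_monicLocalization (W : Type*) [AddCommGroup W] [Module A[X] W]
    [Module.Flat A[X] W] : Function.Injective (TensorProduct.mk A[X] At W 1) := by
  have : IsLocalizedModule M (TensorProduct.mk A[X] At W 1) :=
    (isLocalizedModule_iff_isBaseChange M At _).mpr (TensorProduct.isBaseChange A[X] W At)
  intro x y hxy
  obtain ⟨⟨m, hm⟩, hc⟩ := (IsLocalizedModule.eq_iff_exists M
    (TensorProduct.mk A[X] At W 1)).mp hxy
  have hreg : IsSMulRegular W m :=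
    Module.Flat.isSMulRegular_of_isRegular ((hM m).mp hm).isRegular
  exact hreg hc

variable [Algebra A At] [IsScalarTower A A[X] At]
  {P P' : Type u} [AddCommGroup P] [Module A P] [Module.Finite A P] [Module.Projective A P]
  [AddCommGroup P'] [Module A P'] [Module.Finite A P'] [Module.Projective A P']

include hM in
/-- **Isomorphisms over `A(t)` descend**: if `A(t) ⊗ P ≅ A(t) ⊗ P'` then `P ≅ P'`. -/
theorem nonempty_equiv_of_monicLocalization
    (h : Nonempty ((At ⊗[A] P) ≃ₗ[At] (At ⊗[A] P'))) : Nonempty (P ≃ₗ[A] P') := by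
  obtain ⟨e₀⟩ := h
  let e : At ⊗[A[X]] (A[X] ⊗[A] P) ≃ₗ[At] At ⊗[A[X]] (A[X] ⊗[A] P') :=
    (TensorProduct.AlgebraTensorModule.cancelBaseChange A A[X] At At P).trans
      (e₀.trans (TensorProduct.AlgebraTensorModule.cancelBaseChange A A[X] At At P').symm)
  let ℓP := TensorProduct.mk A[X] At (A[X] ⊗[A] P) 1
  let ℓP' := TensorProduct.mk A[X] At (A[X] ⊗[A] P') 1
  have hinjP : Function.Injective ℓP := injective_mk_monicLocalization M hM At (A[X] ⊗[A] P)
  have hinjP' : Function.Injective ℓP' := injective_mk_monicLocalization M hM At (A[X] ⊗[A] P')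
  have : IsLocalizedModule M ℓP :=
    (isLocalizedModule_iff_isBaseChange M At _).mpr (TensorProduct.isBaseChange A[X] _ At)
  have : IsLocalizedModule M ℓP' :=
    (isLocalizedModule_iff_isBaseChange M At _).mpr (TensorProduct.isBaseChange A[X] _ At)
  have : Module.FinitePresentation A[X] (A[X] ⊗[A] P) :=
    Module.finitePresentation_of_projective _ _
  have : Module.FinitePresentation A[X] (A[X] ⊗[A] P') :=
    Module.finitePresentation_of_projective _ _
  obtain ⟨ι, ⟨s, hs⟩, hι⟩ := Module.FinitePresentation.exists_lift_of_isLocalizedModule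
    M ℓP' ((e.toLinearMap.restrictScalars A[X]) ∘ₗ ℓP)
  obtain ⟨c, ⟨s', hs'⟩, hc⟩ := Module.FinitePresentation.exists_lift_of_isLocalizedModule
    M ℓP ((e.symm.toLinearMap.restrictScalars A[X]) ∘ₗ ℓP')
  have hι' : ∀ z, ℓP' (ι z) = s • e (ℓP z) := fun z => congrArg (fun h => h z) hι
  have hc' : ∀ y, ℓP (c y) = s' • e.symm (ℓP' y) := fun y => congrArg (fun h => h y) hc
  have hes : ∀ (p : A[X]) t, e (p • t) = p • e t :=
    fun p t => (e.toLinearMap.restrictScalars A[X]).map_smul p t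
  have hes' : ∀ (p : A[X]) t, e.symm (p • t) = p • e.symm t :=
    fun p t => (e.symm.toLinearMap.restrictScalars A[X]).map_smul p t
  refine nonempty_equiv_of_monic_lattice ι c (s' * s) (((hM s').mp hs').mul ((hM s).mp hs))
    (fun z => ?_) (fun y => ?_)
  · apply hinjP
    rw [hc', hι', hes', e.symm_apply_apply, smul_smul, map_smul]
  · apply hinjP'
    rw [hι', hc', hes, e.apply_symm_apply, smul_smul, map_smul, mul_comm]

end MonicLocalization


end Groth.Agent.R2.H18.Horrocks
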