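import Groth.Agent.R2.H18HorrocksF
import Mathlib.RingTheory.LaurentSeries
import Mathlib.RingTheory.PowerSeries.Trunc

/-!
# Isomorphisms over `R((t))` descend (helper18)

* `exists_isogeny_of_localization`: an isomorphism of localised modules comes from an isogeny.
* `nonempty_equiv_of_powerSeries_isogeny`: `M[[X]]`, `N[[X]]` isogenous by `X ^ K` ⇒ `M ≅ N`
  (polynomial approximation + the two-lattice form of Horrocks' theorem).
* `nonempty_equiv_of_laurentSeries`.
-/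

set_option autoImplicit false

open Polynomial TensorProduct

namespace Groth.Agent.R2.H18.Horrocks

universe u

section Localization

variable {B : Type*} [CommRing B] (S : Submonoid B) (Bt : Type*) [CommRing Bt] [Algebra B Bt]
  [IsLocalization S Bt]

theorem injective_mk_of_regular (hS : ∀ s ∈ S, IsRegular s) (W : Type*) [AddCommGroup W]
    [Module B W] [Module.Flat B W] : Function.Injective (TensorProduct.mk B Bt W 1) := by
  have : IsLocalizedModule S (TensorProduct.mk B Bt W 1) :=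
    (isLocalizedModule_iff_isBaseChange S Bt _).mpr (TensorProduct.isBaseChange B W Bt)
  intro x y hxy
  obtain ⟨⟨m, hm⟩, hc⟩ := (IsLocalizedModule.eq_iff_exists S
    (TensorProduct.mk B Bt W 1)).mp hxy
  have hreg : IsSMulRegular W m := Module.Flat.isSMulRegular_of_isRegular (hS m hm)
  exact hreg hc

/-- An isomorphism between the localisations of two finitely presented flat modules comes from an
isogeny by an element of the submonoid. -/
theorem exists_isogeny_of_localization (hS : ∀ s ∈ S, IsRegular s)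
    {Z₁ Z₂ : Type*} [AddCommGroup Z₁] [Module B Z₁] [AddCommGroup Z₂] [Module B Z₂]
    [Module.FinitePresentation B Z₁] [Module.FinitePresentation B Z₂] [Module.Flat B Z₁]
    [Module.Flat B Z₂] (e : Bt ⊗[B] Z₁ ≃ₗ[Bt] Bt ⊗[B] Z₂) :
    ∃ (ι : Z₁ →ₗ[B] Z₂) (c : Z₂ →ₗ[B] Z₁) (s : B), s ∈ S ∧ (∀ z, c (ι z) = s • z) ∧
      (∀ y, ι (c y) = s • y) := by
  let ℓ₁ := TensorProduct.mk B Bt Z₁ 1
  let ℓ₂ := TensorProduct.mk B Bt Z₂ 1
  have hinj₁ : Function.Injective ℓ₁ := injective_mk_of_regular S Bt hS Z₁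
  have hinj₂ : Function.Injective ℓ₂ := injective_mk_of_regular S Bt hS Z₂
  have : IsLocalizedModule S ℓ₁ :=
    (isLocalizedModule_iff_isBaseChange S Bt _).mpr (TensorProduct.isBaseChange B _ Bt)
  have : IsLocalizedModule S ℓ₂ :=
    (isLocalizedModule_iff_isBaseChange S Bt _).mpr (TensorProduct.isBaseChange B _ Bt)
  obtain ⟨ι, ⟨s, hs⟩, hι⟩ := Module.FinitePresentation.exists_lift_of_isLocalizedModule
    S ℓ₂ ((e.toLinearMap.restrictScalars B) ∘ₗ ℓ₁)
  obtain ⟨c, ⟨s', hs'⟩, hc⟩ := Module.FinitePresentation.exists_lift_of_isLocalizedModule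
    S ℓ₁ ((e.symm.toLinearMap.restrictScalars B) ∘ₗ ℓ₂)
  have hι' : ∀ z, ℓ₂ (ι z) = s • e (ℓ₁ z) := fun z => congrArg (fun h => h z) hι
  have hc' : ∀ y, ℓ₁ (c y) = s' • e.symm (ℓ₂ y) := fun y => congrArg (fun h => h y) hc
  have hes : ∀ (p : B) t, e (p • t) = p • e t :=
    fun p t => (e.toLinearMap.restrictScalars B).map_smul p t
  have hes' : ∀ (p : B) t, e.symm (p • t) = p • e.symm t :=
    fun p t => (e.symm.toLinearMap.restrictScalars B).map_smul p t
  refine ⟨ι, c, s' * s, S.mul_mem hs' hs, fun z => ?_, fun y => ?_⟩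
  · apply hinj₁
    rw [hc', hι', hes', e.symm_apply_apply, smul_smul, map_smul]
  · apply hinj₂
    rw [hι', hc', hes, e.apply_symm_apply, smul_smul, map_smul, mul_comm]

end Localization

section Approx

variable {R : Type u} [CommRing R]

/-- the inclusion `Q[X] → Q[[X]]` -/
noncomputable def jT (Q : Type*) [AddCommGroup Q] [Module R Q] :
    R[X] ⊗[R] Q →ₗ[R] PowerSeries R ⊗[R] Q :=
  LinearMap.rTensor Q (Polynomial.coeToPowerSeries.algHom R).toLinearMap

/-- truncation `Q[[X]] → Q[X]` -/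
noncomputable def trT (n : ℕ) (Q : Type*) [AddCommGroup Q] [Module R Q] :
    PowerSeries R ⊗[R] Q →ₗ[R] R[X] ⊗[R] Q :=
  LinearMap.rTensor Q (PowerSeries.trunc n)

variable {Q : Type*} [AddCommGroup Q] [Module R Q]

@[simp] theorem jT_tmul (p : R[X]) (q : Q) : jT Q (p ⊗ₜ[R] q) = (p : PowerSeries R) ⊗ₜ[R] q := by
  simp [jT]

@[simp] theorem trT_tmul (n : ℕ) (f : PowerSeries R) (q : Q) :
    trT n Q (f ⊗ₜ[R] q) = PowerSeries.trunc n f ⊗ₜ[R] q := by
  simp [trT]

theorem jT_smul (p : R[X]) (z : R[X] ⊗[R] Q) : jT Q (p • z) = (p : PowerSeries R) • jT Q z := by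
  induction z using TensorProduct.induction_on with
  | zero => simp
  | tmul r q =>
    rw [TensorProduct.smul_tmul', jT_tmul, jT_tmul, TensorProduct.smul_tmul', smul_eq_mul,
      smul_eq_mul, Polynomial.coe_mul]
  | add x y hx hy => rw [smul_add, map_add, hx, hy, map_add, smul_add]

theorem exists_eq_jT_trT_add (n : ℕ) (y : PowerSeries R ⊗[R] Q) :
    ∃ y', y = jT Q (trT n Q y) + ((PowerSeries.X : PowerSeries R) ^ n) • y' := by
  induction y using TensorProduct.induction_on with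
  | zero => exact ⟨0, by simp⟩
  | tmul f q =>
    refine ⟨(PowerSeries.mk fun i => PowerSeries.coeff (i + n) f) ⊗ₜ[R] q, ?_⟩
    rw [trT_tmul, jT_tmul, TensorProduct.smul_tmul', ← TensorProduct.add_tmul, smul_eq_mul,
      add_comm, ← PowerSeries.eq_X_pow_mul_shift_add_trunc]
  | add x y hx hy =>
    obtain ⟨x', hx'⟩ := hx
    obtain ⟨y', hy'⟩ := hy
    refine ⟨x' + y', ?_⟩
    rw [map_add, map_add, smul_add]
    nth_rewrite 1 [hx', hy']
    abel

theorem trT_X_pow_smul (n : ℕ) (y : PowerSeries R ⊗[R] Q) :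
    trT n Q (((PowerSeries.X : PowerSeries R) ^ n) • y) = 0 := by
  induction y using TensorProduct.induction_on with
  | zero => simp
  | tmul f q =>
    rw [TensorProduct.smul_tmul', trT_tmul, smul_eq_mul, PowerSeries.trunc_X_pow_self_mul,
      TensorProduct.zero_tmul]
  | add x y hx hy => rw [smul_add, map_add, hx, hy, add_zero]

theorem exists_eq_trT_jT_add (n : ℕ) (x : R[X] ⊗[R] Q) :
    ∃ x', x = trT n Q (jT Q x) + ((X : R[X]) ^ n) • x' := by
  induction x using TensorProduct.induction_on with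
  | zero => exact ⟨0, by simp⟩
  | tmul p q =>
    have hdvd : (X : R[X]) ^ n ∣ p - PowerSeries.trunc n (p : PowerSeries R) := by
      rw [Polynomial.X_pow_dvd_iff]
      intro d hd
      rw [Polynomial.coeff_sub, PowerSeries.coeff_trunc, if_pos hd, Polynomial.coeff_coe, sub_self]
    obtain ⟨p', hp'⟩ := hdvd
    refine ⟨p' ⊗ₜ[R] q, ?_⟩
    rw [jT_tmul, trT_tmul, TensorProduct.smul_tmul', ← TensorProduct.add_tmul, smul_eq_mul, ← hp']
    congr 1
    ring
  | add x y hx hy =>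
    obtain ⟨x', hx'⟩ := hx
    obtain ⟨y', hy'⟩ := hy
    refine ⟨x' + y', ?_⟩
    rw [map_add, map_add, smul_add]
    nth_rewrite 1 [hx', hy']
    abel

/-- an element of `Q[X]` that is divisible by `X ^ n` in `Q[[X]]` is divisible by `X ^ n` -/
theorem exists_eq_X_pow_smul_of_jT (n : ℕ) (x : R[X] ⊗[R] Q) (y : PowerSeries R ⊗[R] Q)
    (h : jT Q x = ((PowerSeries.X : PowerSeries R) ^ n) • y) :
    ∃ x', x = ((X : R[X]) ^ n) • x' := by
  obtain ⟨x', hx'⟩ := exists_eq_trT_jT_add n x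
  refine ⟨x', ?_⟩
  rw [h, trT_X_pow_smul, zero_add] at hx'
  exact hx'

end Approx

section Main

variable {R : Type u} [CommRing R]

theorem exists_div_linearMap_of_regular {D : Type*} [CommRing D] {F₁ F₂ : Type*} [AddCommGroup F₁]
    [Module D F₁] [AddCommGroup F₂] [Module D F₂] (ℓ : F₁ →ₗ[D] F₂) {a : D}
    (ha : IsSMulRegular F₂ a) (h : ∀ x, ∃ y, ℓ x = a • y) :
    ∃ ψ : F₁ →ₗ[D] F₂, ∀ x, ℓ x = a • ψ x := by
  choose ψ hψ using h
  refine ⟨{ toFun := ψ, map_add' := fun x y => ?_, map_smul' := fun c x => ?_ }, hψ⟩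
  · apply ha
    change a • ψ (x + y) = a • (ψ x + ψ y)
    rw [← hψ, map_add, hψ x, hψ y, smul_add]
  · apply ha
    change a • ψ (c • x) = a • (c • ψ x)
    rw [← hψ, map_smul, hψ x, smul_comm]

/-- polynomial approximation of a map between power series modules -/
theorem exists_poly_approx {Q₁ Q₂ : Type*} [AddCommGroup Q₁] [Module R Q₁] [AddCommGroup Q₂]
    [Module R Q₂] (uh : PowerSeries R ⊗[R] Q₁ →ₗ[PowerSeries R] PowerSeries R ⊗[R] Q₂) (n : ℕ) :
    ∃ u₀ : R[X] ⊗[R] Q₁ →ₗ[R[X]] R[X] ⊗[R] Q₂, ∀ z, ∃ y',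
      uh (jT Q₁ z) = jT Q₂ (u₀ z) + ((PowerSeries.X : PowerSeries R) ^ n) • y' := by
  refine ⟨LinearMap.liftBaseChange R[X]
    (trT n Q₂ ∘ₗ uh.restrictScalars R ∘ₗ TensorProduct.mk R (PowerSeries R) Q₁ 1), fun z => ?_⟩
  induction z using TensorProduct.induction_on with
  | zero => exact ⟨0, by simp⟩
  | tmul p m =>
    obtain ⟨y', hy'⟩ := exists_eq_jT_trT_add n (uh ((1 : PowerSeries R) ⊗ₜ[R] m))
    refine ⟨(p : PowerSeries R) • y', ?_⟩
    have h1 : (p : PowerSeries R) ⊗ₜ[R] m = (p : PowerSeries R) • ((1 : PowerSeries R) ⊗ₜ[R] m) := by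
      rw [TensorProduct.smul_tmul', smul_eq_mul, mul_one]
    rw [LinearMap.liftBaseChange_tmul, jT_smul, jT_tmul, h1, map_smul]
    nth_rewrite 1 [hy']
    rw [smul_add, smul_comm]
    rfl
  | add x y hx hy =>
    obtain ⟨x', hx'⟩ := hx
    obtain ⟨y', hy'⟩ := hy
    refine ⟨x' + y', ?_⟩
    rw [map_add, map_add, map_add, map_add, hx', hy', smul_add]
    abel

theorem comp_approx {Q₁ Q₂ : Type*} [AddCommGroup Q₁] [Module R Q₁] [AddCommGroup Q₂]
    [Module R Q₂] (uh : PowerSeries R ⊗[R] Q₁ →ₗ[PowerSeries R] PowerSeries R ⊗[R] Q₂)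
    (wh : PowerSeries R ⊗[R] Q₂ →ₗ[PowerSeries R] PowerSeries R ⊗[R] Q₁) (K : ℕ)
    (h1 : ∀ x, wh (uh x) = ((PowerSeries.X : PowerSeries R) ^ K) • x)
    (u₀ : R[X] ⊗[R] Q₁ →ₗ[R[X]] R[X] ⊗[R] Q₂) (w₀ : R[X] ⊗[R] Q₂ →ₗ[R[X]] R[X] ⊗[R] Q₁)
    (hu₀ : ∀ z, ∃ y', uh (jT Q₁ z) = jT Q₂ (u₀ z) +
      ((PowerSeries.X : PowerSeries R) ^ (K + 1)) • y')
    (hw₀ : ∀ z, ∃ y', wh (jT Q₂ z) = jT Q₁ (w₀ z) +
      ((PowerSeries.X : PowerSeries R) ^ (K + 1)) • y') :
    ∀ z, ∃ x', w₀ (u₀ z) = ((X : R[X]) ^ K) • (z + (X : R[X]) • x') := by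
  intro z
  obtain ⟨y₁, hy₁⟩ := hu₀ z
  obtain ⟨y₂, hy₂⟩ := hw₀ (u₀ z)
  have h3 : jT Q₁ (w₀ (u₀ z) - ((X : R[X]) ^ K) • z) =
      ((PowerSeries.X : PowerSeries R) ^ (K + 1)) • (-(wh y₁) - y₂) := by
    have h4 : jT Q₂ (u₀ z) = uh (jT Q₁ z) - ((PowerSeries.X : PowerSeries R) ^ (K + 1)) • y₁ := by
      rw [hy₁]; abel
    have h5 : jT Q₁ (w₀ (u₀ z)) = wh (jT Q₂ (u₀ z)) -
        ((PowerSeries.X : PowerSeries R) ^ (K + 1)) • y₂ := by
      rw [hy₂]; abel
    rw [map_sub, h5, h4, map_sub, h1, map_smul, jT_smul, Polynomial.coe_pow, Polynomial.coe_X,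
      smul_sub, smul_neg]
    abel
  obtain ⟨x', hx'⟩ := exists_eq_X_pow_smul_of_jT (K + 1) _ _ h3
  refine ⟨x', ?_⟩
  rw [smul_add, smul_smul, ← pow_succ, ← hx']
  abel

variable {M N : Type u} [AddCommGroup M] [Module R M] [Module.Finite R M] [Module.Projective R M]
  [AddCommGroup N] [Module R N] [Module.Finite R N] [Module.Projective R N]

/-- an endomorphism of a finite `R[X]`-module of the form `X ^ K • ψ`, `ψ ≡ id mod X`, is
inverted by a linear map up to `X ^ K * g` with `g(0) = 1` -/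
theorem exists_inverse_up_to_X_pow {Z : Type*} [AddCommGroup Z] [Module R[X] Z] [Module.Finite R[X] Z]
    (φ : Z →ₗ[R[X]] Z) (K : ℕ) (hreg : IsSMulRegular Z ((X : R[X]) ^ K))
    (h : ∀ z, ∃ x', φ z = ((X : R[X]) ^ K) • (z + (X : R[X]) • x')) :
    ∃ (ψ lam : Z →ₗ[R[X]] Z) (g : R[X]), g.coeff 0 = 1 ∧ (∀ z, φ z = ((X : R[X]) ^ K) • ψ z) ∧
      (∀ z, lam (ψ z) = g • z) ∧ (∀ z, ψ (lam z) = g • z) := by
  obtain ⟨ψ, hψ⟩ := exists_div_linearMap_of_regular φ hreg (fun z => by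
    obtain ⟨x', hx'⟩ := h z
    exact ⟨_, hx'⟩)
  have hψ' : ∀ z, ∃ x', ψ z = z + (X : R[X]) • x' := by
    intro z
    obtain ⟨x', hx'⟩ := h z
    refine ⟨x', hreg ?_⟩
    change ((X : R[X]) ^ K) • ψ z = ((X : R[X]) ^ K) • (z + (X : R[X]) • x')
    rw [← hψ]
    exact hx'
  have hr : LinearMap.range (ψ - LinearMap.id) ≤
      Ideal.span {(X : R[X])} • (⊤ : Submodule R[X] Z) := by
    rintro _ ⟨z, rfl⟩
    obtain ⟨x', hx'⟩ := hψ' z
    rw [LinearMap.sub_apply, LinearMap.id_apply, hx', add_sub_cancel_left]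
    exact Submodule.smul_mem_smul (Ideal.subset_span rfl) trivial
  obtain ⟨g, lam, hg, hψl, hlψ⟩ := exists_inverse_up_to (Ideal.span {(X : R[X])}) ψ LinearMap.id
    (by rwa [LinearMap.id_comp]) (by rwa [LinearMap.comp_id])
  have hg0 : g.coeff 0 = 1 := by
    obtain ⟨q, hq⟩ := Ideal.mem_span_singleton.mp hg
    have : g = X * q + 1 := by linear_combination hq
    rw [this]; simp
  exact ⟨ψ, lam, g, hg0, hψ, fun z => congrArg (fun h => h z) hlψ,
    fun z => congrArg (fun h => h z) hψl⟩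

/-- If `M[[X]]` and `N[[X]]` are isogenous by `X ^ K` then `M ≅ N`. -/
theorem nonempty_equiv_of_powerSeries_isogeny
    (uh : PowerSeries R ⊗[R] M →ₗ[PowerSeries R] PowerSeries R ⊗[R] N)
    (wh : PowerSeries R ⊗[R] N →ₗ[PowerSeries R] PowerSeries R ⊗[R] M) (K : ℕ)
    (h1 : ∀ x, wh (uh x) = ((PowerSeries.X : PowerSeries R) ^ K) • x)
    (h2 : ∀ y, uh (wh y) = ((PowerSeries.X : PowerSeries R) ^ K) • y) : Nonempty (M ≃ₗ[R] N) := by
  obtain ⟨u₀, hu₀⟩ := exists_poly_approx uh (K + 1)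
  obtain ⟨w₀, hw₀⟩ := exists_poly_approx wh (K + 1)
  have key1 := comp_approx uh wh K h1 u₀ w₀ hu₀ hw₀
  have key2 := comp_approx wh uh K h2 w₀ u₀ hw₀ hu₀
  have hregM : IsSMulRegular (R[X] ⊗[R] M) ((X : R[X]) ^ K) :=
    Module.Flat.isSMulRegular_of_isRegular (monic_X_pow K).isRegular
  have hregN : IsSMulRegular (R[X] ⊗[R] N) ((X : R[X]) ^ K) :=
    Module.Flat.isSMulRegular_of_isRegular (monic_X_pow K).isRegular
  obtain ⟨ψ, lam, g, hg0, hψ, hlψ, -⟩ := exists_inverse_up_to_X_pow (w₀ ∘ₗ u₀) K hregM key1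
  obtain ⟨ψ', lam', g', hg0', hψ', -, hψl'⟩ := exists_inverse_up_to_X_pow (u₀ ∘ₗ w₀) K hregN key2
  have e1 : ∀ x, (lam ∘ₗ w₀) (u₀ x) = ((X : R[X]) ^ K * g) • x := by
    intro x
    have := hψ x
    rw [LinearMap.comp_apply] at this
    rw [LinearMap.comp_apply, this, map_smul, hlψ, smul_smul]
  refine nonempty_equiv_of_two_lattices u₀ (lam ∘ₗ w₀) K g hg0 e1 (fun y => ?_)
  have hreg' : IsSMulRegular (R[X] ⊗[R] N) ((X : R[X]) ^ K * g') :=
    Module.Flat.isSMulRegular_of_isRegular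
      ((isRegular_X_pow K).mul (isRegular_of_coeff_zero_eq_one hg0'))
  apply hreg'
  have h3 : u₀ (w₀ (lam' y)) = ((X : R[X]) ^ K * g') • y := by
    have := hψ' (lam' y)
    rw [LinearMap.comp_apply] at this
    rw [this, hψl', smul_smul]
  change ((X : R[X]) ^ K * g') • u₀ ((lam ∘ₗ w₀) y) = ((X : R[X]) ^ K * g') • (((X : R[X]) ^ K * g) • y)
  rw [← map_smul, ← map_smul, ← h3, e1, map_smul, h3, smul_comm]

end Main

section Laurent

variable (R : Type u) [CommRing R] (L : Type u) [CommRing L] [Algebra R L]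
  (eL : L ≃ₐ[R] LaurentSeries R)
  {M N : Type u} [AddCommGroup M] [Module R M] [Module.Finite R M] [Module.Projective R M]
  [AddCommGroup N] [Module R N] [Module.Finite R N] [Module.Projective R N]

include eL in
/-- **Isomorphisms over `R((t))` descend**: if `R((t)) ⊗ M ≅ R((t)) ⊗ N` then `M ≅ N`. -/
theorem nonempty_equiv_of_laurentSeries (e : L ⊗[R] M ≃ₗ[L] L ⊗[R] N) : Nonempty (M ≃ₗ[R] N) := by
  let algL : Algebra (PowerSeries R) L :=
    ((eL.symm : LaurentSeries R →+* L).comp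
      (algebraMap (PowerSeries R) (LaurentSeries R))).toAlgebra
  have halg : ∀ f : PowerSeries R, algebraMap (PowerSeries R) L f =
      eL.symm (algebraMap (PowerSeries R) (LaurentSeries R) f) := fun f => rfl
  have hCC : ∀ r : R, algebraMap (PowerSeries R) (LaurentSeries R)
      (algebraMap R (PowerSeries R) r) = algebraMap R (LaurentSeries R) r := by
    intro r
    rfl
  have : IsScalarTower R (PowerSeries R) L := IsScalarTower.of_algebraMap_eq (fun r => by
    rw [halg, hCC, eL.symm.commutes])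
  have : IsLocalization (Submonoid.powers (PowerSeries.X : PowerSeries R)) L :=
    IsLocalization.isLocalization_of_algEquiv (Submonoid.powers (PowerSeries.X : PowerSeries R))
      (AlgEquiv.ofRingEquiv (f := eL.symm.toRingEquiv) (fun x => rfl) :
        LaurentSeries R ≃ₐ[PowerSeries R] L)
  let e' : L ⊗[PowerSeries R] (PowerSeries R ⊗[R] M) ≃ₗ[L]
      L ⊗[PowerSeries R] (PowerSeries R ⊗[R] N) :=
    (TensorProduct.AlgebraTensorModule.cancelBaseChange R (PowerSeries R) L L M).trans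
      (e.trans (TensorProduct.AlgebraTensorModule.cancelBaseChange R (PowerSeries R) L L N).symm)
  have : Module.FinitePresentation (PowerSeries R) (PowerSeries R ⊗[R] M) :=
    Module.finitePresentation_of_projective _ _
  have : Module.FinitePresentation (PowerSeries R) (PowerSeries R ⊗[R] N) :=
    Module.finitePresentation_of_projective _ _
  obtain ⟨uh, wh, s, ⟨K, rfl⟩, h1, h2⟩ := exists_isogeny_of_localization
    (Submonoid.powers (PowerSeries.X : PowerSeries R)) L (by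
      rintro _ ⟨k, rfl⟩
      have hl : IsLeftRegular ((PowerSeries.X : PowerSeries R) ^ k) :=
        fun a b h => PowerSeries.X_pow_mul_cancel h
      exact ⟨hl, fun a b h => hl (by simpa [mul_comm] using h)⟩) e'
  exact nonempty_equiv_of_powerSeries_isogeny uh wh K h1 h2

end Laurent

end Groth.Agent.R2.H18.Horrocks
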