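import Mathlib

/-!
# Approximation of matrices over `L' = Ŝ[1/t]` by matrices over `L = S[1/t]` (helper18)

Abstract setting (`ApproxData`): a ring map `L → L'`, a unit `t` of `L`, a subring `O'` of `L'`
("integral elements") containing the image of `t`, such that every element of `L'` has a bounded pole,
`L` is dense in `L'`, and `1 + t x` is a unit whenever `x` is integral (in `L` resp. `L'`).
-/

set_option autoImplicit false
set_option linter.unusedSectionVars false

open Matrix

namespace Groth.Agent.R2.H18.LApprox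

universe u

/-- For a square matrix `W` over a commutative ring, `det (1 + a • W) ∈ 1 + (a)`. -/
theorem exists_det_one_add_smul {O : Type*} [CommRing O] {n : Type*} [Fintype n] [DecidableEq n]
    (a : O) (W : Matrix n n O) : ∃ x : O, (1 + a • W).det = 1 + a * x := by
  have h : Ideal.Quotient.mk (Ideal.span {a}) ((1 + a • W).det) = 1 := by
    rw [RingHom.map_det]
    have : (Ideal.Quotient.mk (Ideal.span {a})).mapMatrix (1 + a • W) = 1 := by
      rw [map_add, map_one]
      have h0 : (Ideal.Quotient.mk (Ideal.span {a})).mapMatrix (a • W) = 0 := by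
        refine Matrix.ext fun i j => ?_
        simp only [RingHom.mapMatrix_apply, Matrix.map_apply, Matrix.smul_apply, smul_eq_mul,
          map_mul, Matrix.zero_apply]
        rw [Ideal.Quotient.eq_zero_iff_mem.mpr (Ideal.mem_span_singleton_self a), zero_mul]
      rw [h0, add_zero]
    rw [this, Matrix.det_one]
  have h2 : (1 + a • W).det - 1 ∈ Ideal.span {a} := by
    rw [← Ideal.Quotient.eq_zero_iff_mem, map_sub, h, map_one, sub_self]
  obtain ⟨x, hx⟩ := Ideal.mem_span_singleton'.mp h2
  exact ⟨x, by linear_combination (-1 : O) * hx⟩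

/-- Approximation data for a ring map `L → L'`. -/
structure ApproxData (L L' : Type*) [CommRing L] [CommRing L'] [Algebra L L'] where
  t : L
  tinv : L
  ht : t * tinv = 1
  O' : Subring L'
  t_mem : algebraMap L L' t ∈ O'
  pole : ∀ y : L', ∃ a : ℕ, (algebraMap L L' t) ^ a * y ∈ O'
  dense : ∀ (y : L') (k : ℕ), ∃ x : L, ∃ z ∈ O', y = algebraMap L L' x + (algebraMap L L' t) ^ k * z
  unitL : ∀ x : L, algebraMap L L' x ∈ O' → IsUnit (1 + t * x)
  unitL' : ∀ z ∈ O', IsUnit (1 + algebraMap L L' t * z)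

variable {L L' : Type*} [CommRing L] [CommRing L'] [Algebra L L'] (D : ApproxData L L')

namespace ApproxData

/-- the image of `t` in `L'` -/
def τ : L' := algebraMap L L' D.t

theorem τ_mem : D.τ ∈ D.O' := D.t_mem

theorem τ_pow_mem (k : ℕ) : D.τ ^ k ∈ D.O' := D.O'.pow_mem D.τ_mem k

theorem map_tinv_mul_τ : algebraMap L L' D.tinv * D.τ = 1 := by
  rw [τ, ← map_mul, mul_comm, D.ht, map_one]

/-- integral matrices -/
def Int {m n : Type*} (X : Matrix m n L') : Prop := ∀ i j, X i j ∈ D.O'

variable {m n k : Type*} [Fintype m] [Fintype n] [Fintype k]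

theorem Int.add {X Y : Matrix m n L'} (hX : D.Int X) (hY : D.Int Y) : D.Int (X + Y) :=
  fun i j => D.O'.add_mem (hX i j) (hY i j)

theorem Int.neg {X : Matrix m n L'} (hX : D.Int X) : D.Int (-X) :=
  fun i j => D.O'.neg_mem (hX i j)

theorem Int.sub {X Y : Matrix m n L'} (hX : D.Int X) (hY : D.Int Y) : D.Int (X - Y) :=
  fun i j => D.O'.sub_mem (hX i j) (hY i j)

theorem Int.mul {X : Matrix m n L'} {Y : Matrix n k L'} (hX : D.Int X) (hY : D.Int Y) :
    D.Int (X * Y) := fun i j => by
  rw [Matrix.mul_apply]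
  exact D.O'.sum_mem fun l _ => D.O'.mul_mem (hX i l) (hY l j)

theorem Int.smul {X : Matrix m n L'} {c : L'} (hc : c ∈ D.O') (hX : D.Int X) : D.Int (c • X) :=
  fun i j => D.O'.mul_mem hc (hX i j)

theorem Int.τ_pow_smul {X : Matrix m n L'} (hX : D.Int X) (a : ℕ) : D.Int (D.τ ^ a • X) :=
  Int.smul D (D.τ_pow_mem a) hX

theorem int_one [DecidableEq n] : D.Int (1 : Matrix n n L') := fun i j => by
  rw [Matrix.one_apply]
  split_ifs
  · exact D.O'.one_mem
  · exact D.O'.zero_mem

/-- bounded poles, monotone version -/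
theorem exists_pole (X : Matrix m n L') : ∃ a : ℕ, ∀ b, a ≤ b → D.Int (D.τ ^ b • X) := by
  choose a ha using fun i j => D.pole (X i j)
  refine ⟨∑ i, ∑ j, a i j, fun b hb i j => ?_⟩
  have hle : a i j ≤ b := by
    refine le_trans ?_ hb
    calc a i j ≤ ∑ j', a i j' :=
          Finset.single_le_sum (f := fun j' => a i j') (fun _ _ => Nat.zero_le _) (Finset.mem_univ j)
      _ ≤ ∑ i', ∑ j', a i' j' :=
          Finset.single_le_sum (f := fun i' => ∑ j', a i' j') (fun _ _ => Nat.zero_le _)
            (Finset.mem_univ i)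
  obtain ⟨c, rfl⟩ := Nat.exists_eq_add_of_le hle
  rw [Matrix.smul_apply, smul_eq_mul, pow_add, mul_comm (D.τ ^ a i j), mul_assoc]
  exact D.O'.mul_mem (D.τ_pow_mem c) (ha i j)

/-- density for matrices -/
theorem dense_mat (X : Matrix m n L') (k : ℕ) :
    ∃ (X₀ : Matrix m n L) (Z : Matrix m n L'), D.Int Z ∧
      X = X₀.map (algebraMap L L') + D.τ ^ k • Z := by
  choose x z hz hxz using fun i j => D.dense (X i j) k
  exact ⟨Matrix.of x, Matrix.of z, fun i j => hz i j, Matrix.ext fun i j => by
    simpa [τ] using hxz i j⟩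

variable [DecidableEq n]

/-- `1 + τ • Z` is invertible for `Z` integral -/
theorem isUnit_det_one_add' {Z : Matrix n n L'} (hZ : D.Int Z) : IsUnit (1 + D.τ • Z).det := by
  let ZO : Matrix n n D.O' := Matrix.of fun i j => ⟨Z i j, hZ i j⟩
  obtain ⟨x, hx⟩ := exists_det_one_add_smul (⟨D.τ, D.τ_mem⟩ : D.O') ZO
  have h1 : (1 + D.τ • Z) = (D.O'.subtype).mapMatrix (1 + (⟨D.τ, D.τ_mem⟩ : D.O') • ZO) := by
    refine Matrix.ext fun i j => ?_
    by_cases hij : i = j <;> simp [ZO, hij]
  rw [h1, ← RingHom.map_det, hx]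
  simpa [τ] using D.unitL' x.1 x.2

/-- `1 + Y` is invertible when `Y` maps to `τ • Z` with `Z` integral -/
theorem isUnit_det_one_add {Y : Matrix n n L} {Z : Matrix n n L'} (hZ : D.Int Z)
    (h : Y.map (algebraMap L L') = D.τ • Z) : IsUnit (1 + Y).det := by
  let OL : Subring L := D.O'.comap (algebraMap L L')
  have hW : ∀ i j, D.tinv * Y i j ∈ OL := by
    intro i j
    change algebraMap L L' (D.tinv * Y i j) ∈ D.O'
    have := congrFun (congrFun h i) j
    simp only [Matrix.map_apply, Matrix.smul_apply, smul_eq_mul] at this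
    rw [map_mul, this, ← mul_assoc, D.map_tinv_mul_τ, one_mul]
    exact hZ i j
  let WO : Matrix n n OL := Matrix.of fun i j => ⟨D.tinv * Y i j, hW i j⟩
  have htO : D.t ∈ OL := D.t_mem
  obtain ⟨x, hx⟩ := exists_det_one_add_smul (⟨D.t, htO⟩ : OL) WO
  have h1 : (1 + Y) = (OL.subtype).mapMatrix (1 + (⟨D.t, htO⟩ : OL) • WO) := by
    refine Matrix.ext fun i j => ?_
    have : ∀ i j, D.t * (D.tinv * Y i j) = Y i j := fun i j => by rw [← mul_assoc, D.ht, one_mul]
    by_cases hij : i = j <;> simp [WO, hij, this]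
  rw [h1, ← RingHom.map_det, hx]
  simpa using D.unitL x.1 x.2

end ApproxData

end Groth.Agent.R2.H18.LApprox
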