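import Groth.Agent.R2.H18LApproxA

/-!
# Finite projective modules and idempotent matrices under base change (helper18)
-/

set_option autoImplicit false
set_option linter.unusedSectionVars false

open Matrix TensorProduct

namespace Groth.Agent.R2.H18.LApprox

universe u

section Present

variable {L : Type*} [CommRing L] {M : Type*} [AddCommGroup M] [Module L M] {m : ℕ}
  (i : M →ₗ[L] (Fin m → L)) (pr : (Fin m → L) →ₗ[L] M)

theorem pr_comp_toLin'_idem (hpi : pr ∘ₗ i = LinearMap.id) :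
    pr ∘ₗ Matrix.toLin' (LinearMap.toMatrix' (i ∘ₗ pr)) = pr := by
  rw [Matrix.toLin'_toMatrix', ← LinearMap.comp_assoc, hpi, LinearMap.id_comp]

theorem toLin'_idem_comp_i (hpi : pr ∘ₗ i = LinearMap.id) :
    Matrix.toLin' (LinearMap.toMatrix' (i ∘ₗ pr)) ∘ₗ i = i := by
  rw [Matrix.toLin'_toMatrix', LinearMap.comp_assoc, hpi, LinearMap.comp_id]

theorem idem_mul_idem (hpi : pr ∘ₗ i = LinearMap.id) :
    LinearMap.toMatrix' (i ∘ₗ pr) * LinearMap.toMatrix' (i ∘ₗ pr) = LinearMap.toMatrix' (i ∘ₗ pr) := by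
  rw [← LinearMap.toMatrix'_comp, LinearMap.comp_assoc, ← LinearMap.comp_assoc pr i pr, hpi,
    LinearMap.id_comp]

/-- compressing an invertible matrix commuting with the idempotent gives an automorphism -/
theorem bijective_compress (hpi : pr ∘ₗ i = LinearMap.id) (C : Matrix (Fin m) (Fin m) L)
    (hC : IsUnit C.det) (hcomm : C * LinearMap.toMatrix' (i ∘ₗ pr) =
      LinearMap.toMatrix' (i ∘ₗ pr) * C) :
    Function.Bijective (pr ∘ₗ Matrix.toLin' C ∘ₗ i) := by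
  set p := LinearMap.toMatrix' (i ∘ₗ pr) with hp
  have hip : i ∘ₗ pr = Matrix.toLin' p := by rw [hp, Matrix.toLin'_toMatrix']
  have hCinv : C * C⁻¹ = 1 := Matrix.mul_nonsing_inv C hC
  have hCinv' : C⁻¹ * C = 1 := Matrix.nonsing_inv_mul C hC
  have hcomm' : C⁻¹ * p = p * C⁻¹ := by
    calc C⁻¹ * p = C⁻¹ * (p * C) * C⁻¹ := by
          rw [Matrix.mul_assoc, Matrix.mul_assoc, hCinv, Matrix.mul_one]
      _ = C⁻¹ * (C * p) * C⁻¹ := by rw [hcomm]
      _ = p * C⁻¹ := by rw [← Matrix.mul_assoc, hCinv', Matrix.one_mul]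
  have h1 : (pr ∘ₗ Matrix.toLin' C ∘ₗ i) ∘ₗ (pr ∘ₗ Matrix.toLin' C⁻¹ ∘ₗ i) = LinearMap.id := by
    calc (pr ∘ₗ Matrix.toLin' C ∘ₗ i) ∘ₗ (pr ∘ₗ Matrix.toLin' C⁻¹ ∘ₗ i)
        = pr ∘ₗ (Matrix.toLin' C ∘ₗ (i ∘ₗ pr) ∘ₗ Matrix.toLin' C⁻¹) ∘ₗ i := by
          simp only [LinearMap.comp_assoc]
      _ = pr ∘ₗ Matrix.toLin' (C * p * C⁻¹) ∘ₗ i := by
          rw [hip, Matrix.toLin'_mul, Matrix.toLin'_mul]
          simp only [LinearMap.comp_assoc]
      _ = pr ∘ₗ Matrix.toLin' p ∘ₗ i := by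
          rw [hcomm, Matrix.mul_assoc, hCinv, Matrix.mul_one]
      _ = LinearMap.id := by
          rw [← hip, LinearMap.comp_assoc, hpi, LinearMap.comp_id, hpi]
  have h2 : (pr ∘ₗ Matrix.toLin' C⁻¹ ∘ₗ i) ∘ₗ (pr ∘ₗ Matrix.toLin' C ∘ₗ i) = LinearMap.id := by
    calc (pr ∘ₗ Matrix.toLin' C⁻¹ ∘ₗ i) ∘ₗ (pr ∘ₗ Matrix.toLin' C ∘ₗ i)
        = pr ∘ₗ (Matrix.toLin' C⁻¹ ∘ₗ (i ∘ₗ pr) ∘ₗ Matrix.toLin' C) ∘ₗ i := by
          simp only [LinearMap.comp_assoc]
      _ = pr ∘ₗ Matrix.toLin' (C⁻¹ * p * C) ∘ₗ i := by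
          rw [hip, Matrix.toLin'_mul, Matrix.toLin'_mul]
          simp only [LinearMap.comp_assoc]
      _ = pr ∘ₗ Matrix.toLin' p ∘ₗ i := by
          rw [hcomm', Matrix.mul_assoc, hCinv', Matrix.mul_one]
      _ = LinearMap.id := by
          rw [← hip, LinearMap.comp_assoc, hpi, LinearMap.comp_id, hpi]
  refine ⟨fun x y hxy => ?_, fun y => ⟨(pr ∘ₗ Matrix.toLin' C⁻¹ ∘ₗ i) y, ?_⟩⟩
  · have := congrArg (pr ∘ₗ Matrix.toLin' C⁻¹ ∘ₗ i) hxy
    rwa [← LinearMap.comp_apply, ← LinearMap.comp_apply, h2] at this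
  · rw [← LinearMap.comp_apply, h1, LinearMap.id_apply]

variable {L' : Type*} [CommRing L'] [Algebra L L']

/-- coordinates on the base change -/
noncomputable def bcI : L' ⊗[L] M →ₗ[L'] (Fin m → L') :=
  LinearMap.liftBaseChange L' ((Algebra.linearMap L L').compLeft (Fin m) ∘ₗ i)

/-- parametrisation of the base change -/
noncomputable def bcP : (Fin m → L') →ₗ[L'] L' ⊗[L] M :=
  Fintype.linearCombination L' (fun j => (1 : L') ⊗ₜ[L] pr (Pi.single j 1))

theorem bcI_tmul (c : L') (x : M) :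
    bcI (L' := L') i (c ⊗ₜ[L] x) = c • (fun j => algebraMap L L' (i x j)) := by
  rw [bcI, LinearMap.liftBaseChange_tmul]
  rfl

theorem bcP_apply (v : Fin m → L') :
    bcP (L' := L') pr v = ∑ j, v j • ((1 : L') ⊗ₜ[L] pr (Pi.single j 1)) := by
  rw [bcP, Fintype.linearCombination_apply]

theorem bcP_algebraMap (v : Fin m → L) :
    bcP (L' := L') pr (fun j => algebraMap L L' (v j)) = (1 : L') ⊗ₜ[L] pr v := by
  rw [bcP_apply]
  have hv : v = ∑ j, v j • (Pi.single j 1 : Fin m → L) := by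
    ext k
    simp [Finset.sum_apply, Pi.single_apply]
  conv_rhs => rw [hv, map_sum, TensorProduct.tmul_sum]
  refine Finset.sum_congr rfl fun j _ => ?_
  rw [map_smul, TensorProduct.tmul_smul, algebraMap_smul]

theorem bcP_comp_bcI (hpi : pr ∘ₗ i = LinearMap.id) :
    bcP (L' := L') pr ∘ₗ bcI i = LinearMap.id := by
  apply LinearMap.ext
  intro z
  induction z using TensorProduct.induction_on with
  | zero => simp
  | tmul c x =>
    rw [LinearMap.comp_apply, bcI_tmul, map_smul, bcP_algebraMap, LinearMap.id_apply,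
      ← LinearMap.comp_apply, hpi, LinearMap.id_apply, TensorProduct.smul_tmul', smul_eq_mul,
      mul_one]
  | add x y hx hy => rw [map_add, hx, hy, map_add]

theorem toMatrix'_bcI_comp_bcP :
    LinearMap.toMatrix' (bcI (L' := L') i ∘ₗ bcP pr) =
      (LinearMap.toMatrix' (i ∘ₗ pr)).map (algebraMap L L') := by
  refine Matrix.ext fun a j => ?_
  rw [LinearMap.toMatrix'_apply, Matrix.map_apply, LinearMap.toMatrix'_apply,
    LinearMap.comp_apply, LinearMap.comp_apply]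
  have h1 : (Pi.single j 1 : Fin m → L') = fun k => algebraMap L L' ((Pi.single j 1 : Fin m → L) k) := by
    ext k
    by_cases hk : k = j <;> simp [hk]
  rw [h1, bcP_algebraMap, bcI_tmul, one_smul]

end Present

end Groth.Agent.R2.H18.LApprox
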