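import Groth.Agent.R2.H18LApproxB

/-!
# Descent of isomorphisms and of stably free modules along a dense ring map (helper18)
-/

set_option autoImplicit false
set_option linter.unusedSectionVars false

open Matrix TensorProduct

namespace Groth.Agent.R2.H18.LApprox

universe u

section Core

variable {L L' : Type*} [CommRing L] [CommRing L'] [Algebra L L'] (D : ApproxData L L')

theorem core_estimate {m n : ℕ} (p' : Matrix (Fin m) (Fin m) L') (q' : Matrix (Fin n) (Fin n) L')
    (U : Matrix (Fin n) (Fin m) L') (V : Matrix (Fin m) (Fin n) L')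
    (hVU : V * U = p') (hqU : q' * U = U) (hpp : p' * p' = p')
    (a : ℕ) (hap : D.Int (D.τ ^ a • p')) (haq : D.Int (D.τ ^ a • q'))
    (haU : D.Int (D.τ ^ a • U)) (haV : D.Int (D.τ ^ a • V))
    (A : Matrix (Fin m) (Fin n) L') (B : Matrix (Fin n) (Fin m) L')
    (ZV : Matrix (Fin m) (Fin n) L') (ZU : Matrix (Fin n) (Fin m) L')
    (hZV : D.Int ZV) (hZU : D.Int ZU)
    (hA : V = A + D.τ ^ (4 * a + 1) • ZV) (hB : U = B + D.τ ^ (4 * a + 1) • ZU) :
    ∃ Z, D.Int Z ∧ p' * A * q' * B * p' - p' = D.τ • Z := by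
  have haB : D.Int (D.τ ^ a • B) := by
    have : B = U - D.τ ^ (4 * a + 1) • ZU := by rw [hB, add_sub_cancel_right]
    rw [this, smul_sub]
    exact ApproxData.Int.sub D haU
      (ApproxData.Int.τ_pow_smul D (ApproxData.Int.τ_pow_smul D hZU _) _)
  have hp' : p' = p' * V * q' * U * p' := by
    have : p' * V * q' * U = p' := by
      rw [Matrix.mul_assoc, Matrix.mul_assoc, hqU, hVU, hpp]
    rw [this, hpp]
  have key : p' * A * q' * B * p' - p' * V * q' * U * p' =
      -(p' * (D.τ ^ (4 * a + 1) • ZV) * q' * B * p') -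
        p' * V * q' * (D.τ ^ (4 * a + 1) • ZU) * p' := by
    rw [hA, hB]
    simp only [Matrix.mul_add, Matrix.add_mul]
    abel
  refine ⟨-(D.τ ^ (4 * a) • (p' * ZV * q' * B * p')) - D.τ ^ (4 * a) • (p' * V * q' * ZU * p'),
    ?_, ?_⟩
  · have h4 : D.τ ^ (4 * a) = D.τ ^ a * D.τ ^ a * D.τ ^ a * D.τ ^ a := by ring
    have e1 : D.τ ^ (4 * a) • (p' * ZV * q' * B * p') =
        (D.τ ^ a • p') * ZV * (D.τ ^ a • q') * (D.τ ^ a • B) * (D.τ ^ a • p') := by
      simp only [Matrix.smul_mul, Matrix.mul_smul, smul_smul]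
      rw [h4]
      congr 1
      ring
    have e2 : D.τ ^ (4 * a) • (p' * V * q' * ZU * p') =
        (D.τ ^ a • p') * (D.τ ^ a • V) * (D.τ ^ a • q') * ZU * (D.τ ^ a • p') := by
      simp only [Matrix.smul_mul, Matrix.mul_smul, smul_smul]
      rw [h4]
      congr 1
      ring
    rw [e1, e2]
    exact ApproxData.Int.sub D (ApproxData.Int.neg D
      (((((hap.mul D hZV).mul D haq).mul D haB).mul D hap)))
      ((((hap.mul D haV).mul D haq).mul D hZU).mul D hap)
  · calc p' * A * q' * B * p' - p' = p' * A * q' * B * p' - p' * V * q' * U * p' := by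
          rw [← hp']
      _ = -(p' * (D.τ ^ (4 * a + 1) • ZV) * q' * B * p') -
          p' * V * q' * (D.τ ^ (4 * a + 1) • ZU) * p' := key
      _ = _ := by
          simp only [Matrix.smul_mul, Matrix.mul_smul]
          rw [pow_succ', smul_sub, smul_neg, smul_smul, smul_smul]

end Core

section DescendIso

variable {L L' : Type*} [CommRing L] [CommRing L'] [Algebra L L'] (D : ApproxData L L')
  {M N : Type*} [AddCommGroup M] [Module L M] [AddCommGroup N] [Module L N]

theorem bijective_comp_of_approx {m n : ℕ} (iM : M →ₗ[L] (Fin m → L))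
    (prM : (Fin m → L) →ₗ[L] M) (hM : prM ∘ₗ iM = LinearMap.id) (iN : N →ₗ[L] (Fin n → L))
    (prN : (Fin n → L) →ₗ[L] N)
    (U₀ : Matrix (Fin n) (Fin m) L) (V₀ : Matrix (Fin m) (Fin n) L) (Z : Matrix (Fin m) (Fin m) L')
    (hZ : D.Int Z)
    (h : (LinearMap.toMatrix' (iM ∘ₗ prM) * V₀ * LinearMap.toMatrix' (iN ∘ₗ prN) * U₀ *
      LinearMap.toMatrix' (iM ∘ₗ prM) - LinearMap.toMatrix' (iM ∘ₗ prM)).map (algebraMap L L') =
        D.τ • Z) :
    Function.Bijective ((prM ∘ₗ Matrix.toLin' V₀ ∘ₗ iN) ∘ₗ (prN ∘ₗ Matrix.toLin' U₀ ∘ₗ iM)) := by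
  set p := LinearMap.toMatrix' (iM ∘ₗ prM) with hp
  set q := LinearMap.toMatrix' (iN ∘ₗ prN) with hq
  have hpp : p * p = p := idem_mul_idem iM prM hM
  have hppX : ∀ X : Matrix (Fin m) (Fin m) L, p * (p * X) = p * X := fun X => by
    rw [← Matrix.mul_assoc, hpp]
  set C : Matrix (Fin m) (Fin m) L := 1 + (p * V₀ * q * U₀ * p - p) with hC
  have hdet : IsUnit C.det := D.isUnit_det_one_add hZ h
  have hcomm : C * p = p * C := by
    simp only [hC, Matrix.add_mul, Matrix.mul_add, Matrix.sub_mul, Matrix.mul_sub, Matrix.one_mul,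
      Matrix.mul_one, Matrix.mul_assoc, hpp, hppX]
  have hbij := bijective_compress iM prM hM C hdet hcomm
  have hMx : ∀ x, prM (iM x) = x := fun x => congrArg (fun f => f x) hM
  have hpi : ∀ x, p.mulVec (iM x) = iM x := fun x => by
    rw [← Matrix.toLin'_apply, hp, Matrix.toLin'_toMatrix', LinearMap.comp_apply, hMx]
  have hprp : ∀ w, prM (p.mulVec w) = prM w := fun w => by
    rw [← Matrix.toLin'_apply, hp, Matrix.toLin'_toMatrix', LinearMap.comp_apply, hMx]
  have hqv : ∀ w, q.mulVec w = iN (prN w) := fun w => by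
    rw [hq, ← Matrix.toLin'_apply, Matrix.toLin'_toMatrix', LinearMap.comp_apply]
  have heq : (prM ∘ₗ Matrix.toLin' V₀ ∘ₗ iN) ∘ₗ (prN ∘ₗ Matrix.toLin' U₀ ∘ₗ iM) =
      prM ∘ₗ Matrix.toLin' C ∘ₗ iM := by
    apply LinearMap.ext
    intro x
    simp only [LinearMap.comp_apply, Matrix.toLin'_apply]
    rw [hC, Matrix.add_mulVec, Matrix.sub_mulVec, Matrix.one_mulVec, hpi, ← Matrix.mulVec_mulVec,
      ← Matrix.mulVec_mulVec, ← Matrix.mulVec_mulVec, ← Matrix.mulVec_mulVec, hpi, map_add, map_sub,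
      hprp, hqv]
    abel
  rw [heq]
  exact hbij

variable [Module.Finite L M] [Module.Projective L M] [Module.Finite L N] [Module.Projective L N]

include D in
/-- **Isomorphisms descend**: finite projective `L`-modules that become isomorphic over `L'` are
isomorphic. -/
theorem nonempty_equiv_of_baseChange (φ : L' ⊗[L] M ≃ₗ[L'] L' ⊗[L] N) : Nonempty (M ≃ₗ[L] N) := by
  obtain ⟨m, prM, iM, -, -, hM⟩ := Module.Finite.exists_comp_eq_id_of_projective L M
  obtain ⟨n, prN, iN, -, -, hN⟩ := Module.Finite.exists_comp_eq_id_of_projective L N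
  set p := LinearMap.toMatrix' (iM ∘ₗ prM) with hp
  set q := LinearMap.toMatrix' (iN ∘ₗ prN) with hq
  set p' := p.map (algebraMap L L') with hp'
  set q' := q.map (algebraMap L L') with hq'
  have hpp : p' * p' = p' := by
    rw [hp', ← Matrix.map_mul, idem_mul_idem iM prM hM]
  have hqq : q' * q' = q' := by
    rw [hq', ← Matrix.map_mul, idem_mul_idem iN prN hN]
  let Ulin : (Fin m → L') →ₗ[L'] (Fin n → L') := bcI iN ∘ₗ φ.toLinearMap ∘ₗ bcP prM
  let Vlin : (Fin n → L') →ₗ[L'] (Fin m → L') := bcI iM ∘ₗ φ.symm.toLinearMap ∘ₗ bcP prN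
  have hPI_M : ∀ z, bcP (L' := L') prM (bcI iM z) = z := fun z =>
    congrArg (fun f => f z) (bcP_comp_bcI (L' := L') iM prM hM)
  have hPI_N : ∀ z, bcP (L' := L') prN (bcI iN z) = z := fun z =>
    congrArg (fun f => f z) (bcP_comp_bcI (L' := L') iN prN hN)
  set U := LinearMap.toMatrix' Ulin with hU
  set V := LinearMap.toMatrix' Vlin with hV
  have hVU : V * U = p' := by
    rw [hU, hV, ← LinearMap.toMatrix'_comp, hp', hp, ← toMatrix'_bcI_comp_bcP]
    congr 1
    apply LinearMap.ext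
    intro v
    simp only [Ulin, Vlin, LinearMap.comp_apply, LinearEquiv.coe_coe, hPI_N,
      LinearEquiv.symm_apply_apply]
  have hUV : U * V = q' := by
    rw [hU, hV, ← LinearMap.toMatrix'_comp, hq', hq, ← toMatrix'_bcI_comp_bcP]
    congr 1
    apply LinearMap.ext
    intro v
    simp only [Ulin, Vlin, LinearMap.comp_apply, LinearEquiv.coe_coe, hPI_M,
      LinearEquiv.apply_symm_apply]
  have hqU : q' * U = U := by
    rw [hU, hq', hq, ← toMatrix'_bcI_comp_bcP, ← LinearMap.toMatrix'_comp]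
    congr 1
    apply LinearMap.ext
    intro v
    simp only [Ulin, LinearMap.comp_apply, LinearEquiv.coe_coe, hPI_N]
  have hpV : p' * V = V := by
    rw [hV, hp', hp, ← toMatrix'_bcI_comp_bcP, ← LinearMap.toMatrix'_comp]
    congr 1
    apply LinearMap.ext
    intro v
    simp only [Vlin, LinearMap.comp_apply, LinearEquiv.coe_coe, hPI_M]
  obtain ⟨a₁, ha₁⟩ := D.exists_pole p'
  obtain ⟨a₂, ha₂⟩ := D.exists_pole q'
  obtain ⟨a₃, ha₃⟩ := D.exists_pole U
  obtain ⟨a₄, ha₄⟩ := D.exists_pole V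
  set a := max (max a₁ a₂) (max a₃ a₄) with ha
  have hap := ha₁ a (le_trans (le_max_left _ _) (le_max_left _ _))
  have haq := ha₂ a (le_trans (le_max_right _ _) (le_max_left _ _))
  have haU := ha₃ a (le_trans (le_max_left _ _) (le_max_right _ _))
  have haV := ha₄ a (le_trans (le_max_right _ _) (le_max_right _ _))
  obtain ⟨U₀, ZU, hZU, hU₀⟩ := D.dense_mat U (4 * a + 1)
  obtain ⟨V₀, ZV, hZV, hV₀⟩ := D.dense_mat V (4 * a + 1)
  obtain ⟨Z₁, hZ₁, hE₁⟩ := core_estimate D p' q' U V hVU hqU hpp a hap haq haU haV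
    (V₀.map (algebraMap L L')) (U₀.map (algebraMap L L')) ZV ZU hZV hZU hV₀ hU₀
  obtain ⟨Z₂, hZ₂, hE₂⟩ := core_estimate D q' p' V U hUV hpV hqq a haq hap haV haU
    (U₀.map (algebraMap L L')) (V₀.map (algebraMap L L')) ZU ZV hZU hZV hU₀ hV₀
  have hb₁ := bijective_comp_of_approx D iM prM hM iN prN U₀ V₀ Z₁ hZ₁ (by
    rw [Matrix.map_sub _ (map_sub _), Matrix.map_mul, Matrix.map_mul, Matrix.map_mul,
      Matrix.map_mul]
    exact hE₁)
  have hb₂ := bijective_comp_of_approx D iN prN hN iM prM V₀ U₀ Z₂ hZ₂ (by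
    rw [Matrix.map_sub _ (map_sub _), Matrix.map_mul, Matrix.map_mul, Matrix.map_mul,
      Matrix.map_mul]
    exact hE₂)
  set u₀ := prN ∘ₗ Matrix.toLin' U₀ ∘ₗ iM
  set v₀ := prM ∘ₗ Matrix.toLin' V₀ ∘ₗ iN
  have hinj : Function.Injective u₀ := by
    have : Function.Injective (v₀ ∘ u₀) := hb₁.1
    exact Function.Injective.of_comp this
  have hsurj : Function.Surjective u₀ := by
    have : Function.Surjective (u₀ ∘ v₀) := hb₂.2
    exact Function.Surjective.of_comp this
  exact ⟨LinearEquiv.ofBijective u₀ ⟨hinj, hsurj⟩⟩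

end DescendIso

end Groth.Agent.R2.H18.LApprox
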