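import Groth.Agent.R2.H18LApproxC

/-!
# Lifting stably free modules along a dense ring map (helper18)
-/

set_option autoImplicit false
set_option linter.unusedSectionVars false

open Matrix TensorProduct

namespace Groth.Agent.R2.H18.LApprox

universe u

section Lift

variable {L L' : Type u} [CommRing L] [CommRing L'] [Algebra L L'] (D : ApproxData L L')

include D in
/-- approximate a surjection `T` with section `T'` by matrices over `L` -/
theorem exists_approx_split {m n : ℕ} (T : Matrix (Fin n) (Fin m) L') (T' : Matrix (Fin m) (Fin n) L')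
    (hTT' : T * T' = 1) :
    ∃ (T₀ : Matrix (Fin n) (Fin m) L) (S₀ : Matrix (Fin m) (Fin n) L)
      (α : Matrix (Fin m) (Fin m) L'), T₀ * S₀ = 1 ∧ IsUnit α.det ∧
        T * α = T₀.map (algebraMap L L') := by
  obtain ⟨a₁, ha₁⟩ := D.exists_pole T
  obtain ⟨a₂, ha₂⟩ := D.exists_pole T'
  set a := max a₁ a₂ with ha
  have haT := ha₁ a (le_max_left _ _)
  have haT' := ha₂ a (le_max_right _ _)
  obtain ⟨T₀, Z, hZ, hT₀⟩ := D.dense_mat T (a + 1)
  obtain ⟨T₀', Z', hZ', hT₀'⟩ := D.dense_mat T' (a + 1)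
  set A₀ := T₀.map (algebraMap L L') with hA₀
  set B₀ := T₀'.map (algebraMap L L') with hB₀
  have hA₀' : A₀ = T - D.τ ^ (a + 1) • Z := by rw [hT₀, add_sub_cancel_right]
  have hB₀' : B₀ = T' - D.τ ^ (a + 1) • Z' := by rw [hT₀', add_sub_cancel_right]
  have haB : D.Int (D.τ ^ a • B₀) := by
    rw [hB₀', smul_sub]
    exact ApproxData.Int.sub D haT'
      (ApproxData.Int.τ_pow_smul D (ApproxData.Int.τ_pow_smul D hZ' _) _)
  -- `T₀ * T₀'` is invertible
  have hE : (T₀ * T₀' - 1).map (algebraMap L L') =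
      D.τ • (-(Z * (D.τ ^ a • B₀)) - (D.τ ^ a • T) * Z') := by
    rw [Matrix.map_sub _ (map_sub _), Matrix.map_mul, Matrix.map_one _ (map_zero _) (map_one _),
      ← hA₀, ← hB₀, ← hTT']
    have : A₀ * B₀ - T * T' = -((D.τ ^ (a + 1) • Z) * B₀) - T * (D.τ ^ (a + 1) • Z') := by
      rw [hA₀']
      nth_rewrite 1 [hT₀']
      simp only [Matrix.mul_add, Matrix.add_mul, Matrix.sub_mul, Matrix.mul_sub]
      abel
    rw [this]
    simp only [Matrix.smul_mul, Matrix.mul_smul]
    rw [pow_succ', smul_sub, smul_neg, smul_smul, smul_smul]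
  have hdet : IsUnit (T₀ * T₀').det := by
    have := D.isUnit_det_one_add (ApproxData.Int.sub D (ApproxData.Int.neg D (hZ.mul D haB))
      (haT.mul D hZ')) hE
    rwa [add_sub_cancel] at this
  -- the automorphism `α`
  have hα : (1 - T' * (D.τ ^ (a + 1) • Z) : Matrix (Fin m) (Fin m) L') =
      1 + D.τ • (-((D.τ ^ a • T') * Z)) := by
    simp only [Matrix.smul_mul, Matrix.mul_smul]
    rw [pow_succ', smul_neg, smul_smul, sub_eq_add_neg]
  refine ⟨T₀, T₀' * (T₀ * T₀')⁻¹, 1 - T' * (D.τ ^ (a + 1) • Z), ?_, ?_, ?_⟩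
  · rw [← Matrix.mul_assoc, Matrix.mul_nonsing_inv _ hdet]
  · rw [hα]
    exact D.isUnit_det_one_add' (ApproxData.Int.neg D (haT'.mul D hZ))
  · rw [Matrix.mul_sub, Matrix.mul_one, ← Matrix.mul_assoc, hTT', Matrix.one_mul, ← hA₀']

include D in
/-- **Stably free modules lift**: an `L'`-module `M'` with `M' × L'ⁿ ≅ L'ᵐ` is the base change of
an `L`-module `M` with `M × Lⁿ ≅ Lᵐ`. -/
theorem exists_stablyFree_lift (M' : Type u) [AddCommGroup M'] [Module L' M'] (n m : ℕ)
    (Ψ : (M' × (Fin n → L')) ≃ₗ[L'] (Fin m → L')) :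
    ∃ (M : Type u) (_ : AddCommGroup M) (_ : Module L M), Module.Finite L M ∧
      (∃ n m : ℕ, Nonempty ((M × (Fin n → L)) ≃ₗ[L] (Fin m → L))) ∧
      Nonempty (L' ⊗[L] M ≃ₗ[L'] M') := by
  let Tlin : (Fin m → L') →ₗ[L'] (Fin n → L') :=
    LinearMap.snd L' M' (Fin n → L') ∘ₗ Ψ.symm.toLinearMap
  let T'lin : (Fin n → L') →ₗ[L'] (Fin m → L') :=
    Ψ.toLinearMap ∘ₗ LinearMap.inr L' M' (Fin n → L')
  have hTT'lin : Tlin ∘ₗ T'lin = LinearMap.id := by
    apply LinearMap.ext
    intro z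
    simp [Tlin, T'lin]
  obtain ⟨T₀, S₀, α, hTS, hα, hTα⟩ := exists_approx_split D (LinearMap.toMatrix' Tlin)
    (LinearMap.toMatrix' T'lin) (by
      rw [← LinearMap.toMatrix'_comp, hTT'lin, LinearMap.toMatrix'_id])
  set T := LinearMap.toMatrix' Tlin with hT
  set A₀ := T₀.map (algebraMap L L') with hA₀
  let t₀ := Matrix.toLin' T₀
  let s₀ := Matrix.toLin' S₀
  have hts : ∀ z, t₀ (s₀ z) = z := fun z => by
    change (Matrix.toLin' T₀ ∘ₗ Matrix.toLin' S₀) z = z
    rw [← Matrix.toLin'_mul, hTS, Matrix.toLin'_one, LinearMap.id_apply]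
  let M : Submodule L (Fin m → L) := LinearMap.ker t₀
  let pr : (Fin m → L) →ₗ[L] M := LinearMap.codRestrict M (LinearMap.id - s₀ ∘ₗ t₀) (fun x => by
    rw [LinearMap.mem_ker, LinearMap.sub_apply, map_sub, LinearMap.id_apply, LinearMap.comp_apply,
      hts, sub_self])
  let i : M →ₗ[L] (Fin m → L) := M.subtype
  have hpr : ∀ x, ((pr x : M) : Fin m → L) = x - s₀ (t₀ x) := fun x => rfl
  have hpi : pr ∘ₗ i = LinearMap.id := by
    apply LinearMap.ext
    intro y
    apply Subtype.ext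
    change (y : Fin m → L) - s₀ (t₀ y) = y
    rw [LinearMap.mem_ker.mp y.2, map_zero, sub_zero]
  have hip : i ∘ₗ pr = LinearMap.id - s₀ ∘ₗ t₀ := by
    apply LinearMap.ext
    intro x
    rfl
  have hπ : LinearMap.toMatrix' (i ∘ₗ pr) = 1 - S₀ * T₀ := by
    rw [hip, map_sub, LinearMap.toMatrix'_id, LinearMap.toMatrix'_comp, LinearMap.toMatrix'_toLin',
      LinearMap.toMatrix'_toLin']
  have hPI : ∀ z, bcP (L' := L') pr (bcI i z) = z := fun z =>
    congrArg (fun f => f z) (bcP_comp_bcI (L' := L') i pr hpi)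
  have hIP : ∀ w, bcI (L' := L') i (bcP pr w) = w - (S₀.map (algebraMap L L')).mulVec (A₀.mulVec w) := by
    intro w
    have h1 : bcI (L' := L') i ∘ₗ bcP pr =
        Matrix.toLin' ((1 - S₀ * T₀).map (algebraMap L L')) := by
      rw [← hπ, ← toMatrix'_bcI_comp_bcP, Matrix.toLin'_toMatrix']
    have h2 := congrArg (fun f => f w) h1
    simp only [LinearMap.comp_apply] at h2
    rw [h2, Matrix.toLin'_apply, Matrix.map_sub _ (map_sub _),
      Matrix.map_one _ (map_zero _) (map_one _), Matrix.map_mul, Matrix.sub_mulVec,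
      Matrix.one_mulVec, ← Matrix.mulVec_mulVec]
  -- F1
  have hF1 : ∀ z, A₀.mulVec (bcI (L' := L') i z) = 0 := by
    intro z
    induction z using TensorProduct.induction_on with
    | zero => simp
    | tmul c y =>
      rw [bcI_tmul, Matrix.mulVec_smul]
      have : A₀.mulVec (fun j => algebraMap L L' ((i y) j)) = 0 := by
        ext k
        have h3 := RingHom.map_mulVec (algebraMap L L') T₀ (i y) k
        have h4 : T₀.mulVec (i y) = 0 := by
          have := LinearMap.mem_ker.mp y.2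
          rwa [Matrix.toLin'_apply] at this
        rw [h4] at h3
        simpa [Function.comp_def] using h3.symm
      rw [this, smul_zero]
    | add x y hx hy => rw [map_add, Matrix.mulVec_add, hx, hy, add_zero]
  have hTlin : ∀ v, Tlin v = T.mulVec v := fun v => by
    rw [hT, ← Matrix.toLin'_apply (LinearMap.toMatrix' Tlin) v, Matrix.toLin'_toMatrix']
  have hαinv : α * α⁻¹ = 1 := Matrix.mul_nonsing_inv α hα
  have hαinv' : α⁻¹ * α = 1 := Matrix.nonsing_inv_mul α hα
  refine ⟨M, inferInstance, inferInstance, Module.Finite.of_surjective pr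
    (fun y => ⟨i y, congrArg (fun f => f y) hpi⟩), ⟨n, m, ⟨?_⟩⟩, ⟨?_⟩⟩
  · refine LinearEquiv.ofLinearMap (LinearMap.coprod i s₀) (LinearMap.prod pr t₀) ?_ ?_
    · rw [LinearMap.coprod_comp_prod, hip, sub_add_cancel]
    · apply LinearMap.ext
      rintro ⟨y, z⟩
      have h1 : t₀ (y : Fin m → L) = 0 := LinearMap.mem_ker.mp y.2
      refine Prod.ext (Subtype.ext ?_) ?_
      · change ((y : Fin m → L) + s₀ z) - s₀ (t₀ ((y : Fin m → L) + s₀ z)) = y
        rw [map_add, h1, zero_add, hts, add_sub_cancel_right]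
      · change t₀ ((y : Fin m → L) + s₀ z) = z
        rw [map_add, h1, zero_add, hts]
  · let ψ : L' ⊗[L] M →ₗ[L'] M' :=
      LinearMap.fst L' M' (Fin n → L') ∘ₗ Ψ.symm.toLinearMap ∘ₗ Matrix.toLin' α ∘ₗ bcI i
    have hψ : ∀ z, Ψ.symm (α.mulVec (bcI (L' := L') i z)) = (ψ z, 0) := by
      intro z
      refine Prod.ext rfl ?_
      change Tlin (α.mulVec (bcI (L' := L') i z)) = 0
      rw [hTlin, Matrix.mulVec_mulVec, hTα, hF1]
    refine LinearEquiv.ofBijective ψ ⟨?_, ?_⟩
    · rw [← LinearMap.ker_eq_bot, LinearMap.ker_eq_bot']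
      intro z hz
      have h1 := hψ z
      rw [hz] at h1
      have h2 : α.mulVec (bcI (L' := L') i z) = 0 := by
        have : Ψ.symm (α.mulVec (bcI (L' := L') i z)) = 0 := h1
        simpa using this
      have h3 : bcI (L' := L') i z = 0 := by
        have := congrArg (α⁻¹.mulVec) h2
        rwa [Matrix.mulVec_mulVec, hαinv', Matrix.one_mulVec, Matrix.mulVec_zero] at this
      rw [← hPI z, h3, map_zero]
    · intro x'
      set y := Ψ (x', 0) with hy
      set w := α⁻¹.mulVec y with hw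
      have hAw : A₀.mulVec w = 0 := by
        rw [← hTα, hw, Matrix.mulVec_mulVec, Matrix.mul_assoc, hαinv, Matrix.mul_one, ← hTlin]
        change (Ψ.symm y).2 = 0
        rw [hy, Ψ.symm_apply_apply]
      refine ⟨bcP pr w, ?_⟩
      change (Ψ.symm (α.mulVec (bcI (L' := L') i (bcP pr w)))).1 = x'
      rw [hIP, hAw, Matrix.mulVec_zero, sub_zero, hw, Matrix.mulVec_mulVec, hαinv,
        Matrix.one_mulVec, hy, Ψ.symm_apply_apply]

end Lift

end Groth.Agent.R2.H18.LApprox
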