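import Groth.Agent.R2.H18LApproxD

/-!
# The approximation data for `A[1/t] → Â[1/t]`, `t` in the Jacobson radical (helper18)
-/

set_option autoImplicit false
set_option linter.unusedSectionVars false

open TensorProduct

namespace Groth.Agent.R2.H18.LApprox

universe u

section Completion

variable (A : Type u) [CommRing A] (t : A)

/-- the `t`-adic completion -/
abbrev Cmp : Type u := AdicCompletion (Ideal.span ({t} : Set A)) A

/-- the image of `t` in the completion -/
noncomputable abbrev tcm : Cmp A t := algebraMap A (Cmp A t) t

theorem fg_span : (Ideal.span {t} : Ideal A).FG := ⟨{t}, by simp⟩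

/-- every element of the completion is congruent to an element of `A` modulo `t ^ n` -/
theorem exists_eq_add_pow_mul (y : Cmp A t) (n : ℕ) :
    ∃ (a : A) (z : Cmp A t), y = algebraMap A (Cmp A t) a + tcm A t ^ n * z := by
  obtain ⟨a, ha⟩ := Submodule.mkQ_surjective _ (AdicCompletion.eval (Ideal.span {t}) A n y)
  have hmem : y - AdicCompletion.of (Ideal.span {t}) A a ∈
      LinearMap.ker (AdicCompletion.eval (Ideal.span {t}) A n) := by
    rw [LinearMap.mem_ker, map_sub, AdicCompletion.eval_of, ha, sub_self]
  rw [← AdicCompletion.pow_smul_top_eq_ker_eval (fg_span A t), Ideal.span_singleton_pow,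
    Submodule.ideal_span_singleton_smul] at hmem
  obtain ⟨z, -, hz⟩ := (Submodule.mem_smul_pointwise_iff_exists _ _ _).mp hmem
  refine ⟨a, z, ?_⟩
  rw [← map_pow, ← Algebra.smul_def, hz]
  rw [AdicCompletion.algebraMap_apply, Algebra.algebraMap_self, RingHom.id_apply]
  abel

/-- an element of `A` that is divisible by `t ^ n` in the completion is divisible by `t ^ n` -/
theorem exists_eq_pow_mul_of_completion (a : A) (n : ℕ) (z : Cmp A t)
    (h : algebraMap A (Cmp A t) a = tcm A t ^ n * z) : ∃ a' : A, a = t ^ n * a' := by
  have h1 : AdicCompletion.eval (Ideal.span {t}) A n (algebraMap A (Cmp A t) a) = 0 := by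
    rw [h, ← map_pow, ← Algebra.smul_def]
    have : (t ^ n) • z ∈ LinearMap.ker (AdicCompletion.eval (Ideal.span {t}) A n) := by
      apply AdicCompletion.pow_smul_top_le_ker_eval
      rw [Ideal.span_singleton_pow, Submodule.ideal_span_singleton_smul]
      exact Submodule.smul_mem_pointwise_smul z (t ^ n) ⊤ trivial
    exact this
  rw [AdicCompletion.algebraMap_apply, Algebra.algebraMap_self, RingHom.id_apply,
    AdicCompletion.eval_of, Submodule.mkQ_apply, Submodule.Quotient.mk_eq_zero,
    Ideal.span_singleton_pow, Submodule.ideal_span_singleton_smul] at h1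
  obtain ⟨a', -, ha'⟩ := (Submodule.mem_smul_pointwise_iff_exists _ _ _).mp h1
  exact ⟨a', by rw [← ha', smul_eq_mul]⟩


variable [Algebra (Localization.Away t) (Localization.Away (tcm A t))]
  (halg : algebraMap (Localization.Away t) (Localization.Away (tcm A t)) =
    Localization.awayMap (algebraMap A (Cmp A t)) t)

include halg in
theorem iota_algebraMap (a : A) :
    algebraMap (Localization.Away t) (Localization.Away (tcm A t))
        (algebraMap A (Localization.Away t) a) =
      algebraMap (Cmp A t) (Localization.Away (tcm A t)) (algebraMap A (Cmp A t) a) := by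
  rw [halg]
  simp [Localization.awayMap, IsLocalization.Away.map, IsLocalization.map_eq]

theorem isUnit_tau : IsUnit (algebraMap (Cmp A t) (Localization.Away (tcm A t)) (tcm A t)) :=
  IsLocalization.Away.algebraMap_isUnit (tcm A t)

include halg in
theorem dense_completion (tinv : Localization.Away t)
    (ht : algebraMap A (Localization.Away t) t * tinv = 1) (y : Localization.Away (tcm A t))
    (k : ℕ) :
    ∃ x : Localization.Away t, ∃ z ∈ (algebraMap (Cmp A t) (Localization.Away (tcm A t))).range,
      y = algebraMap (Localization.Away t) (Localization.Away (tcm A t)) x +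
        (algebraMap (Localization.Away t) (Localization.Away (tcm A t))
          (algebraMap A (Localization.Away t) t)) ^ k * z := by
  obtain ⟨a, yh, hy⟩ := IsLocalization.Away.surj (tcm A t) y
  obtain ⟨c, zh, hc⟩ := exists_eq_add_pow_mul A t yh (a + k)
  set T := algebraMap (Cmp A t) (Localization.Away (tcm A t)) (tcm A t) with hT
  set Ti := algebraMap (Localization.Away t) (Localization.Away (tcm A t)) tinv with hTi
  have hιt : algebraMap (Localization.Away t) (Localization.Away (tcm A t))
      (algebraMap A (Localization.Away t) t) = T := iota_algebraMap A t halg t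
  have hTTi : Ti * T = 1 := by
    rw [← hιt, hTi, ← map_mul, mul_comm, ht, map_one]
  have hTTia : Ti ^ a * T ^ a = 1 := by rw [← mul_pow, hTTi, one_pow]
  refine ⟨tinv ^ a * algebraMap A (Localization.Away t) c,
    algebraMap (Cmp A t) (Localization.Away (tcm A t)) zh, ⟨zh, rfl⟩, ?_⟩
  rw [hιt, map_mul, map_pow, iota_algebraMap A t halg, ← hTi]
  have hcancel : ∀ P Q : Localization.Away (tcm A t), T ^ a * P = T ^ a * Q → P = Q := by
    intro P Q hPQ
    have := congrArg (fun C => Ti ^ a * C) hPQ
    simpa [← mul_assoc, hTTia] using this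
  apply hcancel
  rw [mul_comm (T ^ a) y, hy, mul_add, ← mul_assoc, ← mul_assoc, mul_comm (T ^ a) (Ti ^ a), hTTia,
    one_mul, ← pow_add, hc, map_add, map_mul, map_pow]

include halg in
theorem unitL_completion (ht : t ∈ (⊥ : Ideal A).jacobson) (x : Localization.Away t)
    (hx : algebraMap (Localization.Away t) (Localization.Away (tcm A t)) x ∈
      (algebraMap (Cmp A t) (Localization.Away (tcm A t))).range) :
    IsUnit (1 + algebraMap A (Localization.Away t) t * x) := by
  obtain ⟨b, hb⟩ := hx
  obtain ⟨j, a, ha⟩ := IsLocalization.Away.surj t x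
  set T := algebraMap A (Localization.Away t) t with hT
  have hTu : IsUnit T := IsLocalization.Away.algebraMap_isUnit t
  -- in the completion, `t ^ N * a = t ^ (N + j) * b`
  have h1 : algebraMap (Cmp A t) (Localization.Away (tcm A t)) (b * tcm A t ^ j) =
      algebraMap (Cmp A t) (Localization.Away (tcm A t)) (algebraMap A (Cmp A t) a) := by
    rw [map_mul, hb, map_pow, ← iota_algebraMap A t halg, ← iota_algebraMap A t halg, ← map_pow,
      ← map_mul, ha]
  obtain ⟨⟨_, N, rfl⟩, hN⟩ := (IsLocalization.eq_iff_exists (Submonoid.powers (tcm A t))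
    (Localization.Away (tcm A t))).mp h1
  have h2 : algebraMap A (Cmp A t) (t ^ N * a) = tcm A t ^ (N + j) * b := by
    rw [map_mul, map_pow, ← hN, pow_add]
    ring
  obtain ⟨a', ha'⟩ := exists_eq_pow_mul_of_completion A t (t ^ N * a) (N + j) b h2
  have h3 : x = algebraMap A (Localization.Away t) a' := by
    have h4 : T ^ (N + j) * x = T ^ (N + j) * algebraMap A (Localization.Away t) a' := by
      calc T ^ (N + j) * x = T ^ N * (x * T ^ j) := by ring
        _ = algebraMap A (Localization.Away t) (t ^ N * a) := by
            rw [ha, map_mul, map_pow]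
        _ = T ^ (N + j) * algebraMap A (Localization.Away t) a' := by
            rw [ha', map_mul, map_pow]
    exact (hTu.pow (N + j)).mul_left_cancel h4
  have h5 : IsUnit (t * a' + 1) := Ideal.mem_jacobson_bot.mp ht a'
  have h6 : (1 + T * x) = algebraMap A (Localization.Away t) (t * a' + 1) := by
    rw [h3, map_add, map_mul, map_one, add_comm]
  rw [h6]
  exact h5.map _

theorem unitL'_completion (z : Localization.Away (tcm A t))
    (hz : z ∈ (algebraMap (Cmp A t) (Localization.Away (tcm A t))).range) :
    IsUnit (1 + algebraMap (Cmp A t) (Localization.Away (tcm A t)) (tcm A t) * z) := by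
  obtain ⟨b, rfl⟩ := hz
  have hcomp : IsAdicComplete ((Ideal.span ({t} : Set A)).map (algebraMap A (Cmp A t))) (Cmp A t) :=
    (IsAdicComplete.map_algebraMap_iff (Ideal.span ({t} : Set A)) (Cmp A t)).mpr
      (AdicCompletion.isAdicComplete (I := Ideal.span ({t} : Set A)) (M := A) (fg_span A t))
  have hjac : tcm A t ∈ (⊥ : Ideal (Cmp A t)).jacobson :=
    IsAdicComplete.le_jacobson_bot ((Ideal.span ({t} : Set A)).map (algebraMap A (Cmp A t)))
      (Ideal.mem_map_of_mem _ (Ideal.subset_span rfl))
  have h5 : IsUnit (tcm A t * b + 1) := Ideal.mem_jacobson_bot.mp hjac b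
  have h6 : 1 + algebraMap (Cmp A t) (Localization.Away (tcm A t)) (tcm A t) *
      algebraMap (Cmp A t) (Localization.Away (tcm A t)) b =
        algebraMap (Cmp A t) (Localization.Away (tcm A t)) (tcm A t * b + 1) := by
    rw [map_add, map_mul, map_one, add_comm]
  rw [h6]
  exact h5.map _

/-- the approximation data for `A[1/t] → Â[1/t]` -/
noncomputable def approxDataCompletion (ht : t ∈ (⊥ : Ideal A).jacobson) :
    ApproxData (Localization.Away t) (Localization.Away (tcm A t)) where
  t := algebraMap A (Localization.Away t) t
  tinv := IsLocalization.Away.invSelf t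
  ht := IsLocalization.Away.mul_invSelf t
  O' := (algebraMap (Cmp A t) (Localization.Away (tcm A t))).range
  t_mem := ⟨tcm A t, (iota_algebraMap A t halg t).symm⟩
  pole := fun y => by
    obtain ⟨a, yh, hy⟩ := IsLocalization.Away.surj (tcm A t) y
    exact ⟨a, yh, by rw [iota_algebraMap A t halg, mul_comm, hy]⟩
  dense := dense_completion A t halg _ (IsLocalization.Away.mul_invSelf t)
  unitL := unitL_completion A t halg ht
  unitL' := fun z hz => by
    rw [iota_algebraMap A t halg]
    exact unitL'_completion A t z hz

end Completion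

end Groth.Agent.R2.H18.LApprox
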