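import Groth.Agent.R2.H18LApproxE

/-!
# Approximation data for a general `R[X]`-algebra `L → R((X))` (helper18)

The same construction as `H18LApproxE`, with the "integral ⇒ `1 + t x` is a unit" property of `L` as a
hypothesis instead of being derived from a localisation.
-/

set_option autoImplicit false
set_option linter.unusedSectionVars false

open Polynomial TensorProduct

namespace Groth.Agent.R2.H18.LApprox

universe u

section General

variable {R : Type u} [CommRing R]
variable (L : Type u) [CommRing L] [Algebra R[X] L]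
  (L' : Type u) [CommRing L'] [Algebra L L'] (e : L' ≃+* LaurentSeries R)
  (he : ∀ p : R[X], e (algebraMap L L' (algebraMap R[X] L p)) =
    HahnSeries.ofPowerSeries ℤ R (Polynomial.coeToPowerSeries.ringHom p))

include he in
theorem heG (p : R[X]) : e (algebraMap L L' (algebraMap R[X] L p)) =
    HahnSeries.ofPowerSeries ℤ R (p : PowerSeries R) := he p

include he in
theorem e_tauG : e (algebraMap L L' (algebraMap R[X] L X)) =
    HahnSeries.ofPowerSeries ℤ R (PowerSeries.X : PowerSeries R) := by
  rw [heG L L' e he, Polynomial.coe_X]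

include he in
theorem e_tau_powG (a : ℕ) : e (algebraMap L L' (algebraMap R[X] L X)) ^ a =
    HahnSeries.ofPowerSeries ℤ R ((PowerSeries.X : PowerSeries R) ^ a) := by
  rw [e_tauG L L' e he, map_pow]

include he in
theorem exists_pole_G (y : L') : ∃ (a : ℕ) (f : PowerSeries R),
    e (algebraMap L L' (algebraMap R[X] L X)) ^ a * e y = HahnSeries.ofPowerSeries ℤ R f := by
  obtain ⟨⟨f, ⟨_, a, rfl⟩⟩, hf⟩ :=
    IsLocalization.surj (Submonoid.powers (PowerSeries.X : PowerSeries R)) (e y)
  refine ⟨a, f, ?_⟩
  rw [e_tau_powG L L' e he, mul_comm]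
  simpa using hf

include he in
theorem dense_G (tinv : L) (ht : algebraMap R[X] L X * tinv = 1) (y : L') (k : ℕ) :
    ∃ x : L, ∃ z ∈ intSubring L' e,
      y = algebraMap L L' x + (algebraMap L L' (algebraMap R[X] L X)) ^ k * z := by
  obtain ⟨a, f, hf⟩ := exists_pole_G L L' e he y
  set T := e (algebraMap L L' (algebraMap R[X] L X)) with hT
  set Ti := e (algebraMap L L' tinv) with hTi
  have hTTi : Ti * T = 1 := by
    rw [hT, hTi, ← map_mul, ← map_mul, mul_comm, ht, map_one, map_one]
  have hTTia : Ti ^ a * T ^ a = 1 := by rw [← mul_pow, hTTi, one_pow]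
  set f' : PowerSeries R := PowerSeries.mk fun i => PowerSeries.coeff (i + (a + k)) f with hf'
  have hsplit : f = PowerSeries.X ^ (a + k) * f' + (PowerSeries.trunc (a + k) f : PowerSeries R) :=
    PowerSeries.eq_X_pow_mul_shift_add_trunc (a + k) f
  refine ⟨tinv ^ a * algebraMap R[X] L (PowerSeries.trunc (a + k) f),
    e.symm (HahnSeries.ofPowerSeries ℤ R f'), ⟨f', (e.apply_symm_apply _).symm⟩, ?_⟩
  apply e.injective
  simp only [map_add, map_mul, map_pow, RingEquiv.apply_symm_apply]
  rw [heG L L' e he, ← hT, ← hTi]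
  have hcancel : ∀ A B : LaurentSeries R, T ^ a * A = T ^ a * B → A = B := by
    intro A B hAB
    have := congrArg (fun C => Ti ^ a * C) hAB
    simpa [← mul_assoc, hTTia] using this
  apply hcancel
  rw [hf, mul_add, ← mul_assoc, ← mul_assoc, mul_comm (T ^ a) (Ti ^ a), hTTia, one_mul, ← pow_add,
    e_tau_powG L L' e he, ← map_mul, ← map_add, add_comm]
  exact congrArg _ hsplit

include he in
theorem unitL'_G (z : L') (hz : z ∈ intSubring L' e) :
    IsUnit (1 + algebraMap L L' (algebraMap R[X] L X) * z) := by
  obtain ⟨h, hh⟩ := hz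
  have hh' : HahnSeries.ofPowerSeries ℤ R h = e z := hh
  have h1 : e (1 + algebraMap L L' (algebraMap R[X] L X) * z) =
      HahnSeries.ofPowerSeries ℤ R (1 + PowerSeries.X * h) := by
    rw [map_add, map_one, map_mul, e_tauG L L' e he, map_add, map_one, map_mul, hh']
  have h2 : IsUnit (1 + PowerSeries.X * h : PowerSeries R) := by
    rw [PowerSeries.isUnit_iff_constantCoeff]
    simp
  have h3 : IsUnit (e (1 + algebraMap L L' (algebraMap R[X] L X) * z)) := by
    rw [h1]
    exact h2.map _
  exact (isUnit_map_iff e _).mp h3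

/-- the approximation data for `L → L' ≃ R((X))`, for an `R[X]`-algebra `L` in which `X` is invertible and
`1 + X x` is a unit for every `x` with integral image -/
noncomputable def approxDataG (tinv : L) (ht : algebraMap R[X] L X * tinv = 1)
    (hunit : ∀ x : L, algebraMap L L' x ∈ intSubring L' e → IsUnit (1 + algebraMap R[X] L X * x)) :
    ApproxData L L' where
  t := algebraMap R[X] L X
  tinv := tinv
  ht := ht
  O' := intSubring L' e
  t_mem := ⟨PowerSeries.X, (e_tauG L L' e he).symm⟩
  pole := fun y => by
    obtain ⟨a, f, hf⟩ := exists_pole_G L L' e he y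
    exact ⟨a, f, by rw [← hf]; simp⟩
  dense := dense_G L L' e he tinv ht
  unitL := hunit
  unitL' := unitL'_G L L' e he

end General

end Groth.Agent.R2.H18.LApprox
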