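import Groth.Agent.R2.H18LApproxD

/-!
# Lifting idempotent matrices along a dense ring map (helper18)

Given approximation data `L → L'` and a Henselian hypothesis for matrices, every idempotent matrix over `L'`
is conjugate to the image of an idempotent matrix over `L`; hence finite projective modules lift.
-/

set_option autoImplicit false
set_option linter.unusedSectionVars false

open Matrix TensorProduct

namespace Groth.Agent.R2.H18.LApprox

universe u

section Algebra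

/-- the basic identity for correcting an almost idempotent `a` by `z` commuting with it -/
theorem idem_formula {S : Type*} [Ring S] (a z : S) (h : Commute a z) :
    (a + (1 - (a + a)) * z) * (a + (1 - (a + a)) * z) - (a + (1 - (a + a)) * z) =
      (a * a - a) + (1 + ((a * a - a) + (a * a - a) + (a * a - a) + (a * a - a))) * (z * z - z) := by
  have hcomm : ∀ x ∈ ({a, z} : Set S), ∀ y ∈ ({a, z} : Set S), x * y = y * x := by
    intro x hx y hy
    rcases hx with rfl | rfl <;> rcases hy with rfl | rfl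
    · rfl
    · exact h.eq
    · exact h.eq.symm
    · rfl
  letI : CommRing (Subring.closure ({a, z} : Set S)) := Subring.closureCommRingOfComm hcomm
  let a' : Subring.closure ({a, z} : Set S) := ⟨a, Subring.subset_closure (by simp)⟩
  let z' : Subring.closure ({a, z} : Set S) := ⟨z, Subring.subset_closure (by simp)⟩
  have key : (a' + (1 - (a' + a')) * z') * (a' + (1 - (a' + a')) * z') - (a' + (1 - (a' + a')) * z') =
      (a' * a' - a') + (1 + ((a' * a' - a') + (a' * a' - a') + (a' * a' - a') + (a' * a' - a'))) *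
        (z' * z' - z') := by
    ring
  exact congrArg Subtype.val key

end Algebra

section IdemLift

variable {L L' : Type*} [CommRing L] [CommRing L'] [Algebra L L'] (D : ApproxData L L')

theorem int_zero {m n : Type*} : D.Int (0 : Matrix m n L') := fun _ _ => D.O'.zero_mem

theorem int_pow {n : ℕ} {X : Matrix (Fin n) (Fin n) L'} (hX : D.Int X) (k : ℕ) : D.Int (X ^ k) := by
  induction k with
  | zero => rw [pow_zero]; exact D.int_one
  | succ k ih => rw [pow_succ]; exact ApproxData.Int.mul D ih hX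

theorem int_sum {m n : Type*} [Fintype m] [Fintype n] {ι : Type*} (s : Finset ι) (f : ι → Matrix m n L')
    (hf : ∀ i ∈ s, D.Int (f i)) : D.Int (∑ i ∈ s, f i) := by
  classical
  induction s using Finset.induction_on with
  | empty => rw [Finset.sum_empty]; exact int_zero D
  | insert a s ha ih =>
    rw [Finset.sum_insert ha]
    exact ApproxData.Int.add D (hf a (Finset.mem_insert_self a s))
      (ih fun i hi => hf i (Finset.mem_insert_of_mem hi))

/-- a right inverse of `1 + τ • Z`, `Z` integral, is integral -/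
theorem int_of_one_add_mul_eq_one {n : ℕ} {Z V : Matrix (Fin n) (Fin n) L'} (hZ : D.Int Z)
    (hV : (1 + D.τ • Z) * V = 1) : D.Int V := by
  obtain ⟨a, ha⟩ := D.exists_pole V
  have h1 : V = 1 - (D.τ • Z) * V := by rw [← hV]; noncomm_ring
  have key : ∀ k : ℕ, V = ∑ i ∈ Finset.range k, (-(D.τ • Z)) ^ i + (-(D.τ • Z)) ^ k * V := by
    intro k
    induction k with
    | zero => simp
    | succ k ih =>
      rw [Finset.sum_range_succ, pow_succ]
      calc V = ∑ i ∈ Finset.range k, (-(D.τ • Z)) ^ i + (-(D.τ • Z)) ^ k * V := ih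
        _ = ∑ i ∈ Finset.range k, (-(D.τ • Z)) ^ i +
            (-(D.τ • Z)) ^ k * (1 - (D.τ • Z) * V) := by rw [← h1]
        _ = _ := by noncomm_ring
  rw [key a]
  refine ApproxData.Int.add D ?_ ?_
  · refine int_sum D _ _ fun i _ => ?_
    have : (-(D.τ • Z)) ^ i = D.τ ^ i • (-Z) ^ i := by
      rw [← smul_neg, smul_pow]
    rw [this]
    exact ApproxData.Int.τ_pow_smul D (int_pow D (ApproxData.Int.neg D hZ) i) i
  · have : (-(D.τ • Z)) ^ a * V = (-Z) ^ a * (D.τ ^ a • V) := by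
      rw [← smul_neg, smul_pow, Matrix.smul_mul, Matrix.mul_smul]
    rw [this]
    exact ApproxData.Int.mul D (int_pow D (ApproxData.Int.neg D hZ) a) (ha a le_rfl)

/-- the matrix Henselian hypothesis -/
def HensM : Prop :=
  ∀ (n : ℕ) (X : Matrix (Fin n) (Fin n) L), D.Int (X.map (algebraMap L L')) →
    ∃ (Z : Matrix (Fin n) (Fin n) L) (W : Matrix (Fin n) (Fin n) L'), D.Int W ∧
      Z.map (algebraMap L L') = D.τ • W ∧
      (∀ Y : Matrix (Fin n) (Fin n) L, Commute Y X → Commute Y Z) ∧ Z * Z - Z = D.t • X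

theorem map_smul_mat {m n : Type*} (c : L) (X : Matrix m n L) :
    (c • X).map (algebraMap L L') = algebraMap L L' c • X.map (algebraMap L L') := by
  ext i j
  simp

/-- **Idempotent matrices lift up to conjugation.** -/
theorem exists_idempotent_lift (hens : HensM D) {n : ℕ} (e' : Matrix (Fin n) (Fin n) L')
    (he' : e' * e' = e') :
    ∃ (e : Matrix (Fin n) (Fin n) L) (u : Matrix (Fin n) (Fin n) L'), e * e = e ∧ IsUnit u.det ∧
      e' * u = u * e.map (algebraMap L L') := by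
  set φ : Matrix (Fin n) (Fin n) L →+* Matrix (Fin n) (Fin n) L' := (algebraMap L L').mapMatrix with hφ
  have hφa : ∀ X, φ X = X.map (algebraMap L L') := fun X => rfl
  obtain ⟨a, ha⟩ := D.exists_pole e'
  have hae : D.Int (D.τ ^ a • e') := ha a le_rfl
  obtain ⟨e₀, Z₁, hZ₁, hdec⟩ := D.dense_mat e' (3 * a + 2)
  have hE₀ : φ e₀ = e' - D.τ ^ (3 * a + 2) • Z₁ := by
    rw [hφa, hdec, add_sub_cancel_right]
  set δ := e₀ * e₀ - e₀ with hδ
  set W₁ : Matrix (Fin n) (Fin n) L' := -((D.τ ^ a • e') * Z₁) - Z₁ * (D.τ ^ a • e') +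
    D.τ ^ (4 * a + 2) • (Z₁ * Z₁) + D.τ ^ a • Z₁ with hW₁def
  have hW₁ : D.Int W₁ := by
    refine ApproxData.Int.add D (ApproxData.Int.add D (ApproxData.Int.sub D
      (ApproxData.Int.neg D (ApproxData.Int.mul D hae hZ₁)) (ApproxData.Int.mul D hZ₁ hae))
      (ApproxData.Int.τ_pow_smul D (ApproxData.Int.mul D hZ₁ hZ₁) _))
      (ApproxData.Int.τ_pow_smul D hZ₁ _)
  have hφδ : φ δ = D.τ ^ (2 * a + 2) • W₁ := by
    rw [hδ, map_sub, map_mul, hE₀, hW₁def]
    simp only [Matrix.sub_mul, Matrix.mul_sub, Matrix.smul_mul, Matrix.mul_smul, smul_sub, smul_add,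
      smul_neg, smul_smul, he']
    have e1 : D.τ ^ (2 * a + 2) * D.τ ^ a = D.τ ^ (3 * a + 2) := by ring
    have e2 : D.τ ^ (2 * a + 2) * D.τ ^ (4 * a + 2) = D.τ ^ (3 * a + 2) * D.τ ^ (3 * a + 2) := by ring
    rw [e1, e2]
    abel
  -- `1 + 4δ` is invertible
  set δ4 := δ + δ + δ + δ with hδ4
  set W4 : Matrix (Fin n) (Fin n) L' := D.τ ^ (2 * a + 1) • (W₁ + W₁ + W₁ + W₁) with hW4def
  have hW4 : D.Int W4 :=
    ApproxData.Int.τ_pow_smul D (ApproxData.Int.add D (ApproxData.Int.add D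
      (ApproxData.Int.add D hW₁ hW₁) hW₁) hW₁) _
  have hφδ4 : φ δ4 = D.τ • W4 := by
    rw [hδ4, map_add, map_add, map_add, hφδ, hW4def, smul_smul, ← pow_succ', ← smul_add, ← smul_add,
      ← smul_add]
  have hdet4 : IsUnit (1 + δ4).det := D.isUnit_det_one_add hW4 hφδ4
  set v := (1 + δ4)⁻¹ with hv
  have hv1 : (1 + δ4) * v = 1 := Matrix.mul_nonsing_inv _ hdet4
  have hv2 : v * (1 + δ4) = 1 := Matrix.nonsing_inv_mul _ hdet4
  have hφv : D.Int (φ v) := by
    apply int_of_one_add_mul_eq_one D hW4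
    rw [← hφδ4, ← map_one φ, ← map_add, ← map_mul, hv1, map_one]
  -- the matrix `X`
  set X := -(D.tinv • (δ * v)) with hX
  set X₁ : Matrix (Fin n) (Fin n) L' := -(W₁ * φ v) with hX₁def
  have hX₁ : D.Int X₁ := ApproxData.Int.neg D (ApproxData.Int.mul D hW₁ hφv)
  have hφX : φ X = D.τ ^ (2 * a + 1) • X₁ := by
    rw [hX, map_neg, hφa (D.tinv • (δ * v)), map_smul_mat, ← hφa, map_mul, hφδ, hX₁def,
      Matrix.smul_mul, smul_smul, smul_neg]
    congr 2
    rw [pow_succ, ← mul_assoc, mul_comm (algebraMap L L' D.tinv), mul_assoc, D.map_tinv_mul_τ, mul_one]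
  have hXint : D.Int (X.map (algebraMap L L')) := by
    rw [← hφa, hφX]
    exact ApproxData.Int.τ_pow_smul D hX₁ _
  obtain ⟨Z, W, hW, hφZ, hcomm, hZeq⟩ := hens n X hXint
  have htX : D.t • X = -(δ * v) := by
    rw [hX, smul_neg, smul_smul, D.ht, one_smul]
  -- commutation
  have hc1 : Commute e₀ δ := by
    rw [hδ]
    exact ((Commute.refl e₀).mul_right (Commute.refl e₀)).sub_right (Commute.refl e₀)
  have hc2 : Commute e₀ (1 + δ4) := by
    rw [hδ4]
    exact (Commute.one_right e₀).add_right (((hc1.add_right hc1).add_right hc1).add_right hc1)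
  have hc3 : Commute e₀ v := by
    have h1 : e₀ * v = v * ((1 + δ4) * e₀) * v := by
      rw [← Matrix.mul_assoc v, hv2, Matrix.one_mul]
    have h2 : v * e₀ = v * (e₀ * (1 + δ4)) * v := by
      rw [Matrix.mul_assoc v, Matrix.mul_assoc e₀, hv1, Matrix.mul_one]
    change e₀ * v = v * e₀
    rw [h1, h2, hc2.eq]
  have hc4 : Commute e₀ X := by
    rw [hX]
    exact ((hc1.mul_right hc3).smul_right D.tinv).neg_right
  have hc5 : Commute e₀ Z := hcomm e₀ hc4
  -- the idempotent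
  set e := e₀ + (1 - (e₀ + e₀)) * Z with he
  have hee : e * e = e := by
    have h1 := idem_formula e₀ Z hc5
    rw [← he, ← hδ, ← hδ4, hZeq, htX] at h1
    have h2 : δ + (1 + δ4) * -(δ * v) = 0 := by
      have h3 : (1 + δ4) * δ = δ * (1 + δ4) := by rw [hδ4]; noncomm_ring
      rw [Matrix.mul_neg, ← Matrix.mul_assoc, h3, Matrix.mul_assoc, hv1, Matrix.mul_one, add_neg_cancel]
    rw [h2] at h1
    exact sub_eq_zero.mp h1
  -- `φ Z` is small
  have hdetW : IsUnit (1 + D.τ • (-W)).det := D.isUnit_det_one_add' (ApproxData.Int.neg D hW)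
  set V₀ := (1 + D.τ • (-W))⁻¹ with hV₀
  have hV₀1 : (1 + D.τ • (-W)) * V₀ = 1 := Matrix.mul_nonsing_inv _ hdetW
  have hV₀int : D.Int V₀ := int_of_one_add_mul_eq_one D (ApproxData.Int.neg D hW) hV₀1
  have hZZ : φ Z * (1 + D.τ • (-W)) = -(D.τ ^ (2 * a + 2) • X₁) := by
    have h1 : φ (Z * Z - Z) = D.τ • φ X := by
      rw [hZeq, hφa (D.t • X), map_smul_mat, ← hφa]
      rfl
    rw [map_sub, map_mul, hφX, smul_smul, ← pow_succ'] at h1
    have h2 : φ Z * (1 + D.τ • (-W)) = -(φ Z * φ Z - φ Z) := by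
      have h3 : D.τ • W = φ Z := by rw [hφa]; exact hφZ.symm
      rw [smul_neg, h3]
      noncomm_ring
    rw [h2, h1]
  set Z₂ : Matrix (Fin n) (Fin n) L' := -(X₁ * V₀) with hZ₂def
  have hZ₂ : D.Int Z₂ := ApproxData.Int.neg D (ApproxData.Int.mul D hX₁ hV₀int)
  have hφZ2 : φ Z = D.τ ^ (2 * a + 2) • Z₂ := by
    calc φ Z = φ Z * ((1 + D.τ • (-W)) * V₀) := by rw [hV₀1, Matrix.mul_one]
      _ = -(D.τ ^ (2 * a + 2) • X₁) * V₀ := by rw [← Matrix.mul_assoc, hZZ]
      _ = D.τ ^ (2 * a + 2) • Z₂ := by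
          rw [hZ₂def, Matrix.neg_mul, Matrix.smul_mul, smul_neg]
  -- `φ e` is close to `e'`
  set Y : Matrix (Fin n) (Fin n) L' := -(D.τ ^ (2 * a + 1) • Z₁) + D.τ ^ (a + 1) • Z₂ -
    ((D.τ ^ a • e') * (D.τ • Z₂) + (D.τ ^ a • e') * (D.τ • Z₂)) +
    (D.τ ^ (4 * a + 3) • (Z₁ * Z₂) + D.τ ^ (4 * a + 3) • (Z₁ * Z₂)) with hYdef
  have hτZ₂ : D.Int (D.τ • Z₂) := by
    have := ApproxData.Int.τ_pow_smul D hZ₂ 1
    rwa [pow_one] at this
  have hY : D.Int Y := by
    refine ApproxData.Int.add D (ApproxData.Int.sub D (ApproxData.Int.add D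
      (ApproxData.Int.neg D (ApproxData.Int.τ_pow_smul D hZ₁ _))
      (ApproxData.Int.τ_pow_smul D hZ₂ _))
      (ApproxData.Int.add D (ApproxData.Int.mul D hae hτZ₂) (ApproxData.Int.mul D hae hτZ₂)))
      (ApproxData.Int.add D (ApproxData.Int.τ_pow_smul D (ApproxData.Int.mul D hZ₁ hZ₂) _)
        (ApproxData.Int.τ_pow_smul D (ApproxData.Int.mul D hZ₁ hZ₂) _))
  have hφe : φ e - e' = D.τ ^ (a + 1) • Y := by
    rw [he, map_add, map_mul, map_sub, map_one, map_add, hE₀, hφZ2, hYdef]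
    simp only [Matrix.sub_mul, Matrix.smul_mul, Matrix.mul_smul, smul_sub, smul_add,
      smul_neg, smul_smul, Matrix.add_mul, Matrix.one_mul]
    have e1 : D.τ ^ (a + 1) * D.τ ^ (2 * a + 1) = D.τ ^ (3 * a + 2) := by ring
    have e2 : D.τ ^ (a + 1) * D.τ ^ (a + 1) = D.τ ^ (2 * a + 2) := by ring
    have e3 : D.τ ^ (a + 1) * (D.τ * D.τ ^ a) = D.τ ^ (2 * a + 2) := by ring
    have e4 : D.τ ^ (a + 1) * D.τ ^ (4 * a + 3) = D.τ ^ (2 * a + 2) * D.τ ^ (3 * a + 2) := by ring
    rw [e1, e2, e3, e4]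
    abel
  -- the conjugating matrix
  set e₁ := φ e with he₁
  have he₁e₁ : e₁ * e₁ = e₁ := by rw [he₁, ← map_mul, hee]
  set u : Matrix (Fin n) (Fin n) L' := 1 + (e' + e' - 1) * (e₁ - e') with hu
  have hu' : u = 1 + D.τ • (((D.τ ^ a • e') + (D.τ ^ a • e') - D.τ ^ a • (1 : Matrix (Fin n) (Fin n) L')) * Y) := by
    rw [hu, hφe]
    simp only [Matrix.sub_mul, Matrix.smul_mul, Matrix.mul_smul, smul_sub, smul_add,
      smul_smul, Matrix.add_mul, Matrix.one_mul]
    have e1 : D.τ * D.τ ^ a = D.τ ^ (a + 1) := by ring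
    rw [e1]
  refine ⟨e, u, hee, ?_, ?_⟩
  · rw [hu']
    exact D.isUnit_det_one_add' (ApproxData.Int.mul D (ApproxData.Int.sub D
      (ApproxData.Int.add D hae hae) (ApproxData.Int.τ_pow_smul D D.int_one _)) hY)
  · rw [← hφa, ← he₁]
    have h1 : e' * u = e' * e₁ - (e' * e' - e') + ((e' * e' - e') + (e' * e' - e')) * (e₁ - e') := by
      rw [hu]; noncomm_ring
    have h2 : u * e₁ = e' * e₁ + (e' + e' - 1) * (e₁ * e₁ - e₁) - (e' * e' - e') * e₁ -
        (e' * e' - e') * e₁ := by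
      rw [hu]; noncomm_ring
    rw [h1, h2, he', he₁e₁]
    simp

end IdemLift

section ModLift

variable {L L' : Type u} [CommRing L] [CommRing L'] [Algebra L L'] (D : ApproxData L L')

include D in
/-- **Finite projective modules lift** along a dense ring map with the matrix Henselian property. -/
theorem exists_projective_lift (hens : HensM D) (M' : Type u) [AddCommGroup M'] [Module L' M']
    [Module.Finite L' M'] [Module.Projective L' M'] :
    ∃ (M : Type u) (_ : AddCommGroup M) (_ : Module L M), Module.Finite L M ∧ Module.Projective L M ∧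
      Nonempty (L' ⊗[L] M ≃ₗ[L'] M') := by
  obtain ⟨n, pr', i', -, -, h'⟩ := Module.Finite.exists_comp_eq_id_of_projective L' M'
  set e' := LinearMap.toMatrix' (i' ∘ₗ pr') with he'def
  have he' : e' * e' = e' := idem_mul_idem i' pr' h'
  obtain ⟨e, u, hee, hu, hconj⟩ := exists_idempotent_lift D hens e' he'
  let E : (Fin n → L) →ₗ[L] (Fin n → L) := Matrix.toLin' e
  have hEE : ∀ x, E (E x) = E x := fun x => by
    change (Matrix.toLin' e ∘ₗ Matrix.toLin' e) x = _
    rw [← Matrix.toLin'_mul, hee]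
  let M : Submodule L (Fin n → L) := LinearMap.range E
  let pr : (Fin n → L) →ₗ[L] M := LinearMap.codRestrict M E (fun x => ⟨x, rfl⟩)
  let i : M →ₗ[L] (Fin n → L) := M.subtype
  have hpi : pr ∘ₗ i = LinearMap.id := by
    apply LinearMap.ext
    intro y
    apply Subtype.ext
    obtain ⟨x, hx⟩ := y.2
    change E (y : Fin n → L) = y
    rw [← hx, hEE]
  have hip : LinearMap.toMatrix' (i ∘ₗ pr) = e := by
    have : i ∘ₗ pr = Matrix.toLin' e := by
      apply LinearMap.ext
      intro x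
      rfl
    rw [this, LinearMap.toMatrix'_toLin']
  have hIP : bcI (L' := L') i ∘ₗ bcP pr = Matrix.toLin' (e.map (algebraMap L L')) := by
    rw [← hip, ← toMatrix'_bcI_comp_bcP, Matrix.toLin'_toMatrix']
  have hPI : bcP (L' := L') pr ∘ₗ bcI i = LinearMap.id := bcP_comp_bcI i pr hpi
  have huinv : u * u⁻¹ = 1 := Matrix.mul_nonsing_inv u hu
  have huinv' : u⁻¹ * u = 1 := Matrix.nonsing_inv_mul u hu
  have hi'pr' : i' ∘ₗ pr' = Matrix.toLin' e' := by rw [he'def, Matrix.toLin'_toMatrix']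
  refine ⟨M, inferInstance, inferInstance, Module.Finite.of_surjective pr
    (fun y => ⟨i y, congrArg (fun f => f y) hpi⟩), Module.Projective.of_split i pr hpi, ⟨?_⟩⟩
  let f : L' ⊗[L] M →ₗ[L'] M' := pr' ∘ₗ Matrix.toLin' u ∘ₗ bcI i
  let g : M' →ₗ[L'] L' ⊗[L] M := bcP pr ∘ₗ Matrix.toLin' u⁻¹ ∘ₗ i'
  refine LinearEquiv.ofLinearMap f g ?_ ?_
  · -- f ∘ g = id
    calc f ∘ₗ g = pr' ∘ₗ (Matrix.toLin' u ∘ₗ (bcI i ∘ₗ bcP pr) ∘ₗ Matrix.toLin' u⁻¹) ∘ₗ i' := by
          simp only [f, g, LinearMap.comp_assoc]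
      _ = pr' ∘ₗ Matrix.toLin' (u * e.map (algebraMap L L') * u⁻¹) ∘ₗ i' := by
          rw [hIP, Matrix.toLin'_mul, Matrix.toLin'_mul]
          simp only [LinearMap.comp_assoc]
      _ = pr' ∘ₗ Matrix.toLin' e' ∘ₗ i' := by
          rw [← hconj, Matrix.mul_assoc, huinv, Matrix.mul_one]
      _ = LinearMap.id := by
          rw [← hi'pr', LinearMap.comp_assoc, h', LinearMap.comp_id, h']
  · -- g ∘ f = id
    calc g ∘ₗ f = bcP pr ∘ₗ (Matrix.toLin' u⁻¹ ∘ₗ (i' ∘ₗ pr') ∘ₗ Matrix.toLin' u) ∘ₗ bcI i := by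
          simp only [f, g, LinearMap.comp_assoc]
      _ = bcP pr ∘ₗ Matrix.toLin' (u⁻¹ * e' * u) ∘ₗ bcI i := by
          rw [hi'pr', Matrix.toLin'_mul, Matrix.toLin'_mul]
          simp only [LinearMap.comp_assoc]
      _ = bcP pr ∘ₗ Matrix.toLin' (e.map (algebraMap L L')) ∘ₗ bcI i := by
          rw [Matrix.mul_assoc, hconj, ← Matrix.mul_assoc, huinv', Matrix.one_mul]
      _ = LinearMap.id := by
          rw [← hIP, LinearMap.comp_assoc, hPI, LinearMap.comp_id, hPI]

end ModLift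

end Groth.Agent.R2.H18.LApprox
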