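import Groth.Agent.R2.H18LApproxI
import Groth.Agent.S0526

/-!
# The matrix Henselian hypothesis for Henselian pairs `(A, tA)` (helper18)
-/

set_option autoImplicit false
set_option linter.unusedSectionVars false

open Matrix TensorProduct Polynomial

namespace Groth.Agent.R2.H18.LApprox

universe u

section HensM

variable {A : Type u} [CommRing A] (t : A) [HenselianRing A (Ideal.span {t})]
  {L L' : Type u} [CommRing L] [CommRing L'] [Algebra A L] [Algebra L L'] (D : ApproxData L L')

/-- a matrix commuting with `X` commutes with the image of every polynomial in a lift `X₀` of `X` -/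
theorem commute_map_aeval {n : ℕ} (X₀ : Matrix (Fin n) (Fin n) A) (Y : Matrix (Fin n) (Fin n) L)
    (hY : Commute Y (X₀.map (algebraMap A L))) (p : A[X]) :
    Commute Y ((Polynomial.aeval X₀ p).map (algebraMap A L)) := by
  set ψ : Matrix (Fin n) (Fin n) A →+* Matrix (Fin n) (Fin n) L := (algebraMap A L).mapMatrix with hψ
  have hψa : ∀ M, M.map (algebraMap A L) = ψ M := fun M => rfl
  rw [hψa] at hY ⊢
  induction p using Polynomial.induction_on' with
  | add p q hp hq => rw [map_add, map_add]; exact hp.add_right hq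
  | monomial k a =>
    rw [Polynomial.aeval_monomial, map_mul, map_pow]
    refine Commute.mul_right ?_ (hY.pow_right k)
    have : ψ (algebraMap A (Matrix (Fin n) (Fin n) A) a) =
        algebraMap L (Matrix (Fin n) (Fin n) L) (algebraMap A L a) := by
      ext i j
      simp [ψ, Matrix.algebraMap_matrix_apply]
      split_ifs <;> simp
    rw [this]
    exact (Algebra.commutes _ _).symm

theorem hensM_of_henselian (hDt : D.t = algebraMap A L t)
    (hint : ∀ x : L, algebraMap L L' x ∈ D.O' → ∃ a : A, x = algebraMap A L a)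
    (hA : ∀ a : A, algebraMap L L' (algebraMap A L a) ∈ D.O') : HensM D := by
  intro n Xm hX
  classical
  choose x₀ hx₀ using fun i j => hint (Xm i j) (hX i j)
  set X₀ : Matrix (Fin n) (Fin n) A := Matrix.of x₀ with hX₀
  have hXX₀ : Xm = X₀.map (algebraMap A L) := Matrix.ext fun i j => hx₀ i j
  set χ := X₀.charpoly with hχ
  have hχm : χ.Monic := Matrix.charpoly_monic X₀
  haveI : Module.Finite A (AdjoinRoot χ) := hχm.finite_adjoinRoot
  haveI : Algebra.IsIntegral A (AdjoinRoot χ) := Algebra.IsIntegral.of_finite A (AdjoinRoot χ)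
  haveI hC : HenselianRing (AdjoinRoot χ) ((Ideal.span {t}).map (algebraMap A (AdjoinRoot χ))) :=
    Groth.Agent.S0526.result A (Ideal.span {t}) (AdjoinRoot χ)
  -- evaluation at `X₀`
  let ev : AdjoinRoot χ →+* Matrix (Fin n) (Fin n) A :=
    Ideal.Quotient.lift (Ideal.span {χ}) (Polynomial.aeval X₀).toRingHom (by
      intro p hp
      obtain ⟨q, rfl⟩ := Ideal.mem_span_singleton'.mp hp
      change Polynomial.aeval X₀ (q * χ) = 0
      rw [map_mul, hχ, Matrix.aeval_self_charpoly, mul_zero])
  have hev : ∀ p : A[X], ev (AdjoinRoot.mk χ p) = Polynomial.aeval X₀ p := fun p => rfl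
  have hev_root : ev (AdjoinRoot.root χ) = X₀ := by
    rw [← AdjoinRoot.mk_X, hev, Polynomial.aeval_X]
  have hev_alg : ∀ a : A, ev (algebraMap A (AdjoinRoot χ) a) =
      algebraMap A (Matrix (Fin n) (Fin n) A) a := by
    intro a
    rw [AdjoinRoot.algebraMap_eq, ← AdjoinRoot.mk_C, hev, Polynomial.aeval_C]
  -- the Hensel root
  set c : AdjoinRoot χ := algebraMap A (AdjoinRoot χ) t * AdjoinRoot.root χ with hc
  set f : (AdjoinRoot χ)[X] := X ^ (1 + 1) - (X + C c) with hf
  have hdeg : (X + C c : (AdjoinRoot χ)[X]).degree ≤ 1 :=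
    (Polynomial.degree_add_le _ _).trans
      (max_le Polynomial.degree_X_le (Polynomial.degree_C_le.trans zero_le_one))
  have hmonic : f.Monic := Polynomial.monic_X_pow_sub
    (lt_of_le_of_lt hdeg (by exact_mod_cast (Nat.lt_succ_self 1)))
  have heval : f.eval 0 ∈ (Ideal.span {t}).map (algebraMap A (AdjoinRoot χ)) := by
    rw [hf]
    simp only [eval_sub, eval_pow, eval_X, eval_add, eval_C]
    rw [show (0 : AdjoinRoot χ) ^ (1 + 1) - (0 + c) = -c by ring]
    apply neg_mem
    rw [hc]
    exact Ideal.mul_mem_right _ _ (Ideal.mem_map_of_mem _ (Ideal.subset_span rfl))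
  have hder : IsUnit (Ideal.Quotient.mk ((Ideal.span {t}).map (algebraMap A (AdjoinRoot χ)))
      (f.derivative.eval 0)) := by
    have : f.derivative.eval 0 = -1 := by
      rw [hf]
      simp
    rw [this, map_neg, map_one]
    exact isUnit_one.neg
  obtain ⟨z, hroot, hzI⟩ := HenselianRing.is_henselian f hmonic 0 heval hder
  rw [sub_zero, Ideal.map_span, Set.image_singleton, Ideal.mem_span_singleton'] at hzI
  obtain ⟨w, hw⟩ := hzI
  have hroot' : z * z - z = c := by
    have := hroot
    rw [Polynomial.IsRoot.def, hf] at this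
    simp only [eval_sub, eval_pow, eval_X, eval_add, eval_C] at this
    linear_combination this
  -- transport to matrices
  set Z₀ := ev z with hZ₀
  set W₀ := ev w with hW₀
  have hZ₀eq : Z₀ * Z₀ - Z₀ = t • X₀ := by
    rw [hZ₀, ← map_mul, ← map_sub, hroot', hc, map_mul, hev_alg, hev_root, ← Algebra.smul_def]
  have hZ₀W₀ : Z₀ = t • W₀ := by
    rw [hZ₀, ← hw, map_mul, hev_alg, hW₀, ← Algebra.commutes, ← Algebra.smul_def]
  set ψ : Matrix (Fin n) (Fin n) A →+* Matrix (Fin n) (Fin n) L := (algebraMap A L).mapMatrix with hψ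
  have hψa : ∀ M, ψ M = M.map (algebraMap A L) := fun M => rfl
  have hψsmul : ∀ (a : A) (M : Matrix (Fin n) (Fin n) A), ψ (a • M) = algebraMap A L a • ψ M := by
    intro a M
    ext i j
    simp [ψ]
  refine ⟨ψ Z₀, (ψ W₀).map (algebraMap L L'), ?_, ?_, ?_, ?_⟩
  · intro i j
    exact hA (W₀ i j)
  · rw [hZ₀W₀, hψsmul, map_smul_mat, ApproxData.τ, hDt]
  · intro Y hY
    obtain ⟨p, hp⟩ := AdjoinRoot.mk_surjective z
    rw [hZ₀, ← hp, hev, hψa]
    exact commute_map_aeval X₀ Y (hXX₀ ▸ hY) p
  · rw [← map_mul, ← map_sub, hZ₀eq, hψsmul, hDt, hXX₀]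
    rfl

end HensM

end Groth.Agent.R2.H18.LApprox
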