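import Mathlib

/-!
# Picard groups along an "analytic" map `S → Λ` matching ideals avoiding a fibre (helper18)

Abstract core for S15753: if extension/contraction of ideals comaximal with `𝔞` is a bijection
along `S → Λ`, elements of `Λ` outside `𝔞Λ` are (unit)·(image of an element of `1 + 𝔞`), and
elements of `1 + 𝔞` are regular, then `Pic S → Pic Λ` is bijective.
-/

set_option autoImplicit false

open TensorProduct

namespace Groth.Agent.R2.H18.PicLaurent

universe u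

section RankOne

variable {T : Type*} [CommRing T] {N : Type*} [AddCommGroup N] [Module T N] [Module.Invertible T N]

/-- rank one identity for linear forms on an invertible module -/
theorem dual_mul_comm (φ φ' : Module.Dual T N) (x y : N) : φ x * φ' y = φ y * φ' x := by
  have h := congrArg (fun z => LinearMap.mul' T T (TensorProduct.map φ φ' z))
    (Module.Invertible.tmul_comm (R := T) (m₁ := x) (m₂ := y))
  simpa using h

theorem dual_injective_of_regular (φ₀ : Module.Dual T N) (n₀ : N)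
    (hd : φ₀ n₀ ∈ nonZeroDivisors T) : Function.Injective φ₀ := by
  rw [injective_iff_map_eq_zero]
  intro x hx
  rw [← Module.forall_dual_apply_eq_zero_iff T x]
  intro φ
  have h := dual_mul_comm φ φ₀ x n₀
  rw [hx, mul_zero] at h
  exact (mul_right_mem_nonZeroDivisors_eq_zero_iff hd).mp h

theorem range_mul_range (φ₀ : Module.Dual T N) (n₀ : N) :
    (LinearMap.range φ₀ : Ideal T) * (LinearMap.range (Module.Dual.eval T N n₀) : Ideal T) =
      Ideal.span {φ₀ n₀} := by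
  apply le_antisymm
  · rw [Ideal.mul_le]
    rintro a ⟨x, rfl⟩ a' ⟨φ, rfl⟩
    rw [Module.Dual.eval_apply, dual_mul_comm φ₀ φ x n₀]
    exact Ideal.mem_span_singleton'.mpr ⟨φ x, mul_comm _ _⟩
  · rw [Ideal.span_le, Set.singleton_subset_iff]
    have key : ∀ w : Module.Dual T N ⊗[T] N, φ₀ n₀ * Module.Invertible.linearEquiv T N w ∈
        (LinearMap.range φ₀ : Ideal T) * (LinearMap.range (Module.Dual.eval T N n₀) : Ideal T) := by
      intro w
      induction w using TensorProduct.induction_on with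
      | zero => simp
      | tmul φ x =>
        have : Module.Invertible.linearEquiv T N (φ ⊗ₜ x) = φ x := by
          simp [Module.Invertible.linearEquiv]
        rw [this, dual_mul_comm φ₀ φ n₀ x]
        exact Ideal.mul_mem_mul ⟨x, rfl⟩ ⟨φ, rfl⟩
      | add w₁ w₂ h₁ h₂ => rw [map_add, mul_add]; exact Ideal.add_mem _ h₁ h₂
    have := key ((Module.Invertible.linearEquiv T N).symm 1)
    rwa [LinearEquiv.apply_symm_apply, mul_one] at this

/-- some linear form takes a value outside a proper ideal -/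
theorem exists_dual_apply_notMem (𝔟 : Ideal T) (h𝔟 : 𝔟 ≠ ⊤) :
    ∃ (φ₀ : Module.Dual T N) (n₀ : N), φ₀ n₀ ∉ 𝔟 := by
  by_contra hcon
  push Not at hcon
  apply h𝔟
  rw [Ideal.eq_top_iff_one]
  have key : ∀ w : Module.Dual T N ⊗[T] N, Module.Invertible.linearEquiv T N w ∈ 𝔟 := by
    intro w
    induction w using TensorProduct.induction_on with
    | zero => simp
    | tmul φ x =>
      have : Module.Invertible.linearEquiv T N (φ ⊗ₜ x) = φ x := by
        simp [Module.Invertible.linearEquiv]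
      rw [this]; exact hcon φ x
    | add w₁ w₂ h₁ h₂ => rw [map_add]; exact 𝔟.add_mem h₁ h₂
  have := key ((Module.Invertible.linearEquiv T N).symm 1)
  rwa [LinearEquiv.apply_symm_apply] at this

end RankOne

section InvIdeal

variable {S : Type u} [CommRing S]

/-- an ideal `I` with `I * I' = (Q)`, `Q` regular, is an invertible module -/
theorem invertible_of_mul_eq_span (I I' : Ideal S) (Q : S)
    (hQ : Q ∈ nonZeroDivisors S) (h : I * I' = Ideal.span {Q}) : Module.Invertible S I := by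
  have hq : IsUnit (algebraMap S (FractionRing S) Q) :=
    IsLocalization.map_units (FractionRing S) ⟨Q, hQ⟩
  obtain ⟨q, hq'⟩ := hq
  have h1 : IsLocalization.coeSubmodule (FractionRing S) I *
      (Submodule.span S {((q⁻¹ : (FractionRing S)ˣ) : FractionRing S)} *
        IsLocalization.coeSubmodule (FractionRing S) I') = 1 := by
    rw [mul_left_comm, ← IsLocalization.coeSubmodule_mul, h,
      IsLocalization.coeSubmodule_span_singleton, Submodule.span_mul_span,
      Set.singleton_mul_singleton, ← hq', Units.inv_mul, Submodule.one_eq_span]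
  obtain ⟨U, hUI⟩ : ∃ U : (Submodule S (FractionRing S))ˣ,
      (U : Submodule S (FractionRing S)) = IsLocalization.coeSubmodule (FractionRing S) I :=
    ⟨⟨IsLocalization.coeSubmodule (FractionRing S) I,
      Submodule.span S {((q⁻¹ : (FractionRing S)ˣ) : FractionRing S)} *
        IsLocalization.coeSubmodule (FractionRing S) I', h1,
      by rw [mul_comm]; exact h1⟩, rfl⟩
  have hU : Module.Invertible S (U : Submodule S (FractionRing S)) := inferInstance
  have e : I ≃ₗ[S] (U : Submodule S (FractionRing S)) :=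
    (Submodule.equivMapOfInjective (Algebra.linearMap S (FractionRing S))
      (IsFractionRing.injective S (FractionRing S)) I).trans (LinearEquiv.ofEq _ _ hUI.symm)
  exact Module.Invertible.congr e.symm

end InvIdeal


section Core

variable {S Λ : Type u} [CommRing S] [CommRing Λ] [Algebra S Λ]

/-- the `Λ`-linear extension `Λ ⊗ M → Λ` of an `S`-linear form -/
noncomputable def extForm {M : Type*} [AddCommGroup M] [Module S M] (g : M →ₗ[S] S) :
    Λ ⊗[S] M →ₗ[Λ] Λ :=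
  LinearMap.liftBaseChange Λ ((Algebra.linearMap S Λ) ∘ₗ g)

theorem extForm_tmul {M : Type*} [AddCommGroup M] [Module S M] (g : M →ₗ[S] S) (l : Λ) (x : M) :
    extForm (Λ := Λ) g (l ⊗ₜ x) = l * algebraMap S Λ (g x) := by
  simp [extForm]

theorem range_extForm {M : Type*} [AddCommGroup M] [Module S M] (g : M →ₗ[S] S) :
    (LinearMap.range (extForm (Λ := Λ) g) : Ideal Λ) =
      Ideal.map (algebraMap S Λ) (LinearMap.range g : Ideal S) := by
  apply le_antisymm
  · rintro _ ⟨z, rfl⟩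
    induction z using TensorProduct.induction_on with
    | zero => simp
    | tmul l x =>
      rw [extForm_tmul]
      exact Ideal.mul_mem_left _ _ (Ideal.mem_map_of_mem _ ⟨x, rfl⟩)
    | add z₁ z₂ h₁ h₂ => rw [map_add]; exact Ideal.add_mem _ h₁ h₂
  · rw [Ideal.map_le_iff_le_comap]
    rintro _ ⟨x, rfl⟩
    exact ⟨1 ⊗ₜ x, by rw [extForm_tmul, one_mul]⟩

variable (S Λ) in
/-- the hypotheses on `S → Λ` and the ideal `𝔞` of `S` -/
structure FibreData (𝔞 : Ideal S) : Prop where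
  h1 : ∀ I : Ideal S, I ⊔ 𝔞 = ⊤ → (I.map (algebraMap S Λ)).comap (algebraMap S Λ) = I
  h2 : ∀ J : Ideal Λ, J ⊔ 𝔞.map (algebraMap S Λ) = ⊤ →
      (J.comap (algebraMap S Λ)).map (algebraMap S Λ) = J ∧ J.comap (algebraMap S Λ) ⊔ 𝔞 = ⊤
  h3 : ∀ l : Λ, l ∉ 𝔞.map (algebraMap S Λ) → ∃ Q : S, Q - 1 ∈ 𝔞 ∧
      algebraMap S Λ Q ∈ nonZeroDivisors Λ ∧ ∃ u : Λˣ, l = algebraMap S Λ Q * u
  h4 : ∀ Q : S, Q - 1 ∈ 𝔞 → Q ∈ nonZeroDivisors S
  h5 : 𝔞.map (algebraMap S Λ) ≠ ⊤
  h6 : ∀ (P : Type u) [AddCommGroup P] [Module (S ⧸ 𝔞) P] [Module.Invertible (S ⧸ 𝔞) P],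
      Module.Free (S ⧸ 𝔞) P

theorem span_sup_eq_top_of_sub_one_mem (𝔞 : Ideal S) (Q : S) (hQ : Q - 1 ∈ 𝔞) (K : Ideal S)
    (hK : Q ∈ K) : K ⊔ 𝔞 = ⊤ := by
  rw [Ideal.eq_top_iff_one]
  have : (1 : S) = Q - (Q - 1) := by ring
  rw [this]
  exact Ideal.sub_mem _ (Ideal.mem_sup_left hK) (Ideal.mem_sup_right hQ)

/-- a linear form and a vector pairing to an element of `1 + 𝔞` -/
theorem exists_dual_apply_sub_one_mem (𝔞 : Ideal S)
    (h6 : ∀ (P : Type u) [AddCommGroup P] [Module (S ⧸ 𝔞) P] [Module.Invertible (S ⧸ 𝔞) P],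
      Module.Free (S ⧸ 𝔞) P)
    (M : Type u) [AddCommGroup M] [Module S M] [Module.Invertible S M] :
    ∃ (φ₀ : Module.Dual S M) (n₀ : M), φ₀ n₀ - 1 ∈ 𝔞 := by
  have hfree : Module.Free (S ⧸ 𝔞) ((S ⧸ 𝔞) ⊗[S] M) := h6 _
  obtain ⟨e⟩ := Module.Invertible.free_iff_linearEquiv.mp hfree
  have hmk : ∀ (c : S) (x : M), (Ideal.Quotient.mk 𝔞 c) ⊗ₜ[S] x = (1 : S ⧸ 𝔞) ⊗ₜ[S] (c • x) := by
    intro c x
    rw [TensorProduct.tmul_smul, TensorProduct.smul_tmul', Algebra.smul_def, mul_one]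
    rfl
  have hsurj : ∀ z : (S ⧸ 𝔞) ⊗[S] M, ∃ x : M, z = (1 : S ⧸ 𝔞) ⊗ₜ[S] x := by
    intro z
    induction z using TensorProduct.induction_on with
    | zero => exact ⟨0, by simp⟩
    | tmul a x =>
      obtain ⟨c, rfl⟩ := Ideal.Quotient.mk_surjective a
      exact ⟨c • x, hmk c x⟩
    | add z₁ z₂ h₁ h₂ =>
      obtain ⟨x₁, rfl⟩ := h₁
      obtain ⟨x₂, rfl⟩ := h₂
      exact ⟨x₁ + x₂, (TensorProduct.tmul_add _ _ _).symm⟩
  obtain ⟨n₀, hn₀⟩ := hsurj (e.symm 1)
  have key : ∀ x : M, ∃ c : S, (1 : S ⧸ 𝔞) ⊗ₜ[S] x = (1 : S ⧸ 𝔞) ⊗ₜ[S] (c • n₀) := by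
    intro x
    obtain ⟨c, hc⟩ := Ideal.Quotient.mk_surjective (e (1 ⊗ₜ x))
    refine ⟨c, ?_⟩
    apply e.injective
    rw [← hmk, ← mul_one (Ideal.Quotient.mk 𝔞 c), ← smul_eq_mul, ← TensorProduct.smul_tmul',
      map_smul, ← hn₀, LinearEquiv.apply_symm_apply, smul_eq_mul, mul_one, hc]
  have hev : ∀ (φ : Module.Dual S M) (x y : M),
      (1 : S ⧸ 𝔞) ⊗ₜ[S] x = (1 : S ⧸ 𝔞) ⊗ₜ[S] y → φ x - φ y ∈ 𝔞 := by
    intro φ x y hxy
    have := congrArg (fun z => (TensorProduct.rid S (S ⧸ 𝔞)) (LinearMap.lTensor (S ⧸ 𝔞) φ z)) hxy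
    simp only [LinearMap.lTensor_tmul, TensorProduct.rid_tmul, Algebra.smul_def, mul_one] at this
    exact Ideal.Quotient.eq.mp this
  have claim : ∀ w : Module.Dual S M ⊗[S] M, ∃ φ₀ : Module.Dual S M,
      Module.Invertible.linearEquiv S M w - φ₀ n₀ ∈ 𝔞 := by
    intro w
    induction w using TensorProduct.induction_on with
    | zero => exact ⟨0, by simp⟩
    | tmul φ x =>
      have : Module.Invertible.linearEquiv S M (φ ⊗ₜ x) = φ x := by
        simp [Module.Invertible.linearEquiv]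
      obtain ⟨c, hc⟩ := key x
      refine ⟨c • φ, ?_⟩
      rw [this, LinearMap.smul_apply, ← map_smul]
      exact hev φ _ _ hc
    | add w₁ w₂ h₁ h₂ =>
      obtain ⟨φ₁, h₁⟩ := h₁
      obtain ⟨φ₂, h₂⟩ := h₂
      refine ⟨φ₁ + φ₂, ?_⟩
      rw [map_add, LinearMap.add_apply]
      have := 𝔞.add_mem h₁ h₂
      convert this using 1
      ring
  obtain ⟨φ₀, h⟩ := claim ((Module.Invertible.linearEquiv S M).symm 1)
  rw [LinearEquiv.apply_symm_apply] at h
  refine ⟨φ₀, n₀, ?_⟩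
  have := 𝔞.neg_mem h
  rwa [neg_sub] at this

variable {𝔞 : Ideal S}

/-- **Surjectivity**: every invertible `Λ`-module is extended from an invertible ideal of `S`. -/
theorem surj_core (hD : FibreData S Λ 𝔞) (N : Type u) [AddCommGroup N] [Module Λ N]
    [Module.Invertible Λ N] :
    ∃ I : Ideal S, Module.Invertible S I ∧ Nonempty (N ≃ₗ[Λ] Λ ⊗[S] I) := by
  obtain ⟨φ₀, n₀, hd⟩ := exists_dual_apply_notMem (N := N) (𝔞.map (algebraMap S Λ)) hD.h5
  obtain ⟨Q, hQ1, hQreg, u, hdu⟩ := hD.h3 _ hd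
  have hdreg : φ₀ n₀ ∈ nonZeroDivisors Λ := by
    rw [hdu]; exact mul_mem hQreg (IsUnit.mem_nonZeroDivisors u.isUnit)
  have hinj := dual_injective_of_regular φ₀ n₀ hdreg
  have hJJ' : (LinearMap.range φ₀ : Ideal Λ) * (LinearMap.range (Module.Dual.eval Λ N n₀) : Ideal Λ) =
      Ideal.span {algebraMap S Λ Q} := by
    rw [range_mul_range, hdu]; exact Ideal.span_singleton_mul_right_unit u.isUnit _
  have hdJ : φ₀ n₀ ∈ (LinearMap.range φ₀ : Ideal Λ) := ⟨n₀, rfl⟩
  have hdJ' : φ₀ n₀ ∈ (LinearMap.range (Module.Dual.eval Λ N n₀) : Ideal Λ) := ⟨φ₀, rfl⟩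
  have hQ𝔟 : algebraMap S Λ Q - 1 ∈ 𝔞.map (algebraMap S Λ) := by
    have := Ideal.mem_map_of_mem (algebraMap S Λ) hQ1
    simpa using this
  have hcop : ∀ K : Ideal Λ, φ₀ n₀ ∈ K → K ⊔ 𝔞.map (algebraMap S Λ) = ⊤ := by
    intro K hK
    refine span_sup_eq_top_of_sub_one_mem _ (algebraMap S Λ Q) hQ𝔟 K ?_
    have : algebraMap S Λ Q = φ₀ n₀ * ↑u⁻¹ := by rw [hdu]; simp [mul_assoc]
    rw [this]; exact K.mul_mem_right _ hK
  obtain ⟨hIJ, hI𝔞⟩ := hD.h2 _ (hcop _ hdJ)
  obtain ⟨hIJ', hI'𝔞⟩ := hD.h2 _ (hcop _ hdJ')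
  set J : Ideal Λ := LinearMap.range φ₀ with hJ
  set J' : Ideal Λ := LinearMap.range (Module.Dual.eval Λ N n₀) with hJ'
  set I := J.comap (algebraMap S Λ) with hI
  set I' := J'.comap (algebraMap S Λ) with hI'
  have hII' : I * I' = Ideal.span {Q} := by
    have hc1 : (I * I') ⊔ 𝔞 = ⊤ := by
      rw [← Ideal.isCoprime_iff_sup_eq] at hI𝔞 hI'𝔞 ⊢
      exact hI𝔞.mul_left hI'𝔞
    have hc2 : Ideal.span {Q} ⊔ 𝔞 = ⊤ :=
      span_sup_eq_top_of_sub_one_mem 𝔞 Q hQ1 _ (Ideal.mem_span_singleton_self Q)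
    rw [← hD.h1 _ hc1, ← hD.h1 _ hc2, Ideal.map_mul, hIJ, hIJ', hJJ', Ideal.map_span,
      Set.image_singleton]
  have hinvI : Module.Invertible S I := invertible_of_mul_eq_span I I' Q (hD.h4 Q hQ1) hII'
  refine ⟨I, hinvI, ?_⟩
  let ι : N ≃ₗ[Λ] J := LinearEquiv.ofInjective φ₀ hinj
  have : Module.Invertible Λ J := Module.Invertible.congr ι
  have hr : (LinearMap.range (extForm (Λ := Λ) I.subtype) : Ideal Λ) = J := by
    rw [range_extForm, Submodule.range_subtype, hIJ]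
  let g : Λ ⊗[S] I →ₗ[Λ] J := LinearMap.codRestrict J (extForm I.subtype)
    (fun z => by rw [← hr]; exact ⟨z, rfl⟩)
  have hg : Function.Surjective g := by
    rintro ⟨y, hy⟩
    have hy' := hy
    rw [← hr] at hy'
    obtain ⟨z, rfl⟩ := hy'
    exact ⟨z, rfl⟩
  have hbij := Module.Invertible.bijective_of_surjective hg
  exact ⟨ι.trans (LinearEquiv.ofBijective g hbij).symm⟩

/-- **Injectivity**: an invertible `S`-module whose base change to `Λ` is cyclic is free. -/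
theorem inj_core (hD : FibreData S Λ 𝔞) (M : Type u) [AddCommGroup M] [Module S M]
    [Module.Invertible S M] (z₀ : Λ ⊗[S] M) (hz₀ : Submodule.span Λ {z₀} = ⊤) :
    Module.Free S M := by
  obtain ⟨φ₀, n₀, hQ₀⟩ := exists_dual_apply_sub_one_mem 𝔞 hD.h6 M
  have hreg := hD.h4 _ hQ₀
  have hinj := dual_injective_of_regular φ₀ n₀ hreg
  set I : Ideal S := LinearMap.range φ₀ with hI
  have hI𝔞 : I ⊔ 𝔞 = ⊤ := span_sup_eq_top_of_sub_one_mem 𝔞 _ hQ₀ I ⟨n₀, rfl⟩
  -- `IΛ` is principal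
  have hspan : I.map (algebraMap S Λ) = Ideal.span {extForm (Λ := Λ) φ₀ z₀} := by
    rw [← range_extForm, LinearMap.range_eq_map, ← hz₀, Submodule.map_span, Set.image_singleton]
  have he₀ : extForm (Λ := Λ) φ₀ z₀ ∉ 𝔞.map (algebraMap S Λ) := by
    intro hmem
    apply hD.h5
    have h1 : I.map (algebraMap S Λ) ≤ 𝔞.map (algebraMap S Λ) := by
      rw [hspan, Ideal.span_le, Set.singleton_subset_iff]; exact hmem
    have h2 : I.map (algebraMap S Λ) ⊔ 𝔞.map (algebraMap S Λ) = ⊤ := by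
      rw [← Ideal.map_sup, hI𝔞, Ideal.map_top]
    rwa [sup_eq_right.mpr h1] at h2
  obtain ⟨Q, hQ1, -, u, hu⟩ := hD.h3 _ he₀
  have hIQ : I = Ideal.span {Q} := by
    have hc2 : Ideal.span {Q} ⊔ 𝔞 = ⊤ :=
      span_sup_eq_top_of_sub_one_mem 𝔞 Q hQ1 _ (Ideal.mem_span_singleton_self Q)
    rw [← hD.h1 _ hI𝔞, ← hD.h1 _ hc2, hspan, hu, Ideal.map_span, Set.image_singleton,
      Ideal.span_singleton_mul_right_unit u.isUnit]
  -- a generator of `M`
  obtain ⟨m₁, hm₁⟩ : ∃ m₁ : M, φ₀ m₁ = Q := by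
    have : Q ∈ I := by rw [hIQ]; exact Ideal.mem_span_singleton_self Q
    exact this
  have hsurj : Function.Surjective (LinearMap.toSpanSingleton S M m₁) := by
    intro m
    have : φ₀ m ∈ I := ⟨m, rfl⟩
    rw [hIQ, Ideal.mem_span_singleton'] at this
    obtain ⟨c, hc⟩ := this
    refine ⟨c, hinj ?_⟩
    rw [LinearMap.toSpanSingleton_apply, map_smul, hm₁, smul_eq_mul, hc]
  have hbij := Module.Invertible.bijective_of_surjective hsurj
  exact Module.Invertible.free_iff_linearEquiv.mpr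
    ⟨(LinearEquiv.ofBijective _ hbij).symm⟩

end Core


section Final

variable {S Λ K : Type u} [CommRing S] [CommRing Λ] [CommRing K] [Algebra S Λ] [Algebra Λ K]
  [Algebra S K] [IsScalarTower S Λ K] {𝔞 : Ideal S}

/-- **Abstract form of S15753**: `Pic S → Pic K` is bijective if `S → Λ` has `FibreData` and
finite projective modules over `Λ` and `K` correspond. -/
theorem pic_bijective (hD : FibreData S Λ 𝔞)
    (G1 : ∀ (N N' : Type u) [AddCommGroup N] [Module Λ N] [Module.Finite Λ N] [Module.Projective Λ N]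
        [AddCommGroup N'] [Module Λ N'] [Module.Finite Λ N'] [Module.Projective Λ N'],
        Nonempty (K ⊗[Λ] N ≃ₗ[K] K ⊗[Λ] N') → Nonempty (N ≃ₗ[Λ] N'))
    (G2 : ∀ (L : Type u) [AddCommGroup L] [Module K L] [Module.Finite K L] [Module.Projective K L],
        ∃ (N : Type u) (_ : AddCommGroup N) (_ : Module Λ N), Module.Finite Λ N ∧
          Module.Projective Λ N ∧ Nonempty (K ⊗[Λ] N ≃ₗ[K] L)) :
    (∀ (M : Type u) [AddCommGroup M] [Module S M] [Module.Invertible S M],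
        Module.Free K (K ⊗[S] M) → Module.Free S M) ∧
    (∀ (L : Type u) [AddCommGroup L] [Module K L] [Module.Invertible K L],
        ∃ (M : Type u) (_ : AddCommGroup M) (_ : Module S M), Module.Invertible S M ∧
          Nonempty (L ≃ₗ[K] K ⊗[S] M)) := by
  refine ⟨?_, ?_⟩
  · intro M _ _ _ hfree
    obtain ⟨e₁⟩ := Module.Invertible.free_iff_linearEquiv.mp hfree
    have e₂ : K ⊗[Λ] (Λ ⊗[S] M) ≃ₗ[K] K ⊗[Λ] Λ :=
      (TensorProduct.AlgebraTensorModule.cancelBaseChange S Λ K K M).trans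
        (e₁.trans (TensorProduct.AlgebraTensorModule.rid Λ K K).symm)
    obtain ⟨e₃⟩ := G1 (Λ ⊗[S] M) Λ ⟨e₂⟩
    refine inj_core hD M (e₃.symm 1) ?_
    rw [eq_top_iff]
    intro z _
    rw [Submodule.mem_span_singleton]
    refine ⟨e₃ z, ?_⟩
    rw [← map_smul, smul_eq_mul, mul_one, LinearEquiv.symm_apply_apply]
  · intro L _ _ _
    obtain ⟨N, _, _, hNf, hNp, ⟨eN⟩⟩ := G2 L
    obtain ⟨N', _, _, hN'f, hN'p, ⟨eN'⟩⟩ := G2 (Module.Dual K L)
    have e₂ : K ⊗[Λ] (N ⊗[Λ] N') ≃ₗ[K] K ⊗[Λ] Λ :=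
      (TensorProduct.AlgebraTensorModule.distribBaseChange Λ K N N').trans
        ((TensorProduct.congr eN eN').trans
          ((TensorProduct.comm K L (Module.Dual K L)).trans
            ((Module.Invertible.linearEquiv K L).trans
              (TensorProduct.AlgebraTensorModule.rid Λ K K).symm)))
    obtain ⟨e₃⟩ := G1 (N ⊗[Λ] N') Λ ⟨e₂⟩
    haveI : Module.Invertible Λ N := Module.Invertible.left e₃
    obtain ⟨I, hI, ⟨e₄⟩⟩ := surj_core hD N
    refine ⟨I, inferInstance, inferInstance, hI, ⟨?_⟩⟩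
    exact eN.symm.trans
      ((TensorProduct.AlgebraTensorModule.congr (LinearEquiv.refl K K) e₄).trans
        (TensorProduct.AlgebraTensorModule.cancelBaseChange S Λ K K I))

end Final

end Groth.Agent.R2.H18.PicLaurent
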