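import Mathlib

/-!
# Picard groups of polynomial rings over GCD domains (helper18)
-/

set_option autoImplicit false
universe u

open Polynomial

namespace Groth.Agent.R2.H18.PicVal

/-- GCD monoids transfer along ring isomorphisms. -/
theorem isGCDMonoid_of_ringEquiv {α β : Type*} [CommRing α] [CommRing β] [IsDomain α] [IsDomain β]
    (e : α ≃+* β) [h : IsGCDMonoid α] : IsGCDMonoid β := by
  classical
  obtain ⟨g⟩ := h
  refine ⟨gcdMonoidOfGCD (fun x y => e (g.gcd (e.symm x) (e.symm y))) ?_ ?_ ?_⟩
  · intro a b
    have := map_dvd e (g.gcd_dvd_left (e.symm a) (e.symm b))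
    rwa [e.apply_symm_apply] at this
  · intro a b
    have := map_dvd e (g.gcd_dvd_right (e.symm a) (e.symm b))
    rwa [e.apply_symm_apply] at this
  · intro a b c hac hab
    have h1 := g.dvd_gcd (map_dvd e.symm hac) (map_dvd e.symm hab)
    have := map_dvd e h1
    rwa [e.apply_symm_apply] at this

theorem isGCDMonoid_mvPolynomial (V : Type u) [CommRing V] [IsDomain V] [IsGCDMonoid V] (n : ℕ) :
    IsGCDMonoid (MvPolynomial (Fin n) V) := by
  induction n with
  | zero => exact isGCDMonoid_of_ringEquiv (MvPolynomial.isEmptyAlgEquiv V (Fin 0)).symm.toRingEquiv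
  | succ n ih =>
    haveI := ih
    exact isGCDMonoid_of_ringEquiv (MvPolynomial.finSuccEquiv V n).symm.toRingEquiv

theorem pic_mvPolynomial_subsingleton (V : Type u) [CommRing V] [IsDomain V] [ValuationRing V]
    (n : ℕ) : Subsingleton (CommRing.Pic (MvPolynomial (Fin n) V)) := by
  haveI := isGCDMonoid_mvPolynomial V n
  infer_instance

end Groth.Agent.R2.H18.PicVal
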