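import Mathlib
import Groth.Agent.Lib.Helper26PairHzMore
import Groth.Agent.Lib.Helper2HenselQuot
import Groth.Agent.Lib.Helper2HenselRad
import Groth.Agent.S0526

/-!
# Henselizations of pairs: quotients, descent of membership (helper18)
-/

set_option autoImplicit false
universe u

namespace Groth.Agent.R2.H18.WeierA

open Groth.Agent.Lib.Helper26.PairHz Groth.Agent.Lib.Helper18ColimSys Groth.Agent.Lib.Helper2

variable {A : Type u} [CommRing A] {I : Ideal A}

/-- Henselization of pairs commutes with quotients. -/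
theorem isPairHenselization_quotient {B : Type u} [CommRing B] [Algebra A B]
    (hB : Hens2.IsPairHenselization A I B) (J : Ideal A) :
    Hens2.IsPairHenselization (A ⧸ J) (I.map (Ideal.Quotient.mk J))
      (B ⧸ J.map (algebraMap A B)) := by
  set Q := B ⧸ J.map (algebraMap A B) with hQdef
  refine ⟨?_, ?_⟩
  · have : Algebra.IsIntegral B Q :=
      Algebra.isIntegral_of_surjective Ideal.Quotient.mk_surjective
    have : HenselianRing B (I.map (algebraMap A B)) := hB.1
    have hQ : HenselianRing Q ((I.map (algebraMap A B)).map (algebraMap B Q)) :=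
      Groth.Agent.S0526.result B (I.map (algebraMap A B)) Q
    have e : (I.map (Ideal.Quotient.mk J)).map (algebraMap (A ⧸ J) Q) =
        (I.map (algebraMap A B)).map (algebraMap B Q) := by
      rw [Ideal.map_map, Ideal.map_map]
      congr 1
    rw [e]
    exact hQ
  · intro D _ K φ hD hK
    have hK' : I.map (φ.comp (Ideal.Quotient.mk J)) ≤ K := by
      rw [← Ideal.map_map]; exact hK
    obtain ⟨g, hg, hguniq⟩ := hB.2 D K (φ.comp (Ideal.Quotient.mk J)) hD hK'
    have hgker : ∀ b ∈ J.map (algebraMap A B), g b = 0 := by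
      intro b hb
      have hle : J.map (algebraMap A B) ≤ RingHom.ker g := by
        rw [Ideal.map_le_iff_le_comap]
        intro a ha
        rw [Ideal.mem_comap, RingHom.mem_ker]
        have := congrArg (fun k : A →+* D => k a) hg
        simp only [RingHom.coe_comp, Function.comp_apply] at this
        rw [this, Ideal.Quotient.eq_zero_iff_mem.mpr ha, map_zero]
      exact hle hb
    refine ⟨Ideal.Quotient.lift _ g hgker, ?_, ?_⟩
    · apply Ideal.Quotient.ringHom_ext
      ext a
      have := congrArg (fun k : A →+* D => k a) hg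
      simp only [RingHom.coe_comp, Function.comp_apply] at this ⊢
      rw [Ideal.Quotient.algebraMap_quotient_map_quotient, Ideal.Quotient.lift_mk]
      exact this
    · intro g' hg'
      apply Ideal.Quotient.ringHom_ext
      have : g'.comp (Ideal.Quotient.mk (J.map (algebraMap A B))) = g := by
        apply hguniq
        ext a
        have := congrArg (fun k : (A ⧸ J) →+* D => k (Ideal.Quotient.mk J a)) hg'
        simp only [RingHom.coe_comp, Function.comp_apply] at this ⊢
        rw [Ideal.Quotient.algebraMap_quotient_map_quotient] at this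
        exact this
      rw [this]
      ext b
      simp

/-- Membership in an extended ideal descends to a stage of a system. -/
theorem exists_mem_map_of_sys {ι : Type u} {G : ι → Type u} [∀ i, CommRing (G i)]
    [∀ i, Algebra A (G i)] {B : Type u} [CommRing B] [Algebra A B] {ρ : ∀ i, G i →ₐ[A] B}
    (hS : Sys A G B ρ) (J : Ideal A) (x : B) (hx : x ∈ J.map (algebraMap A B)) :
    ∃ i, ∃ c : G i, c ∈ J.map (algebraMap A (G i)) ∧ ρ i c = x := by
  induction hx using Submodule.span_induction with
  | mem x hx =>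
    obtain ⟨a, ha, rfl⟩ := hx
    obtain ⟨i⟩ := hS.nonempty
    exact ⟨i, algebraMap A (G i) a, Ideal.mem_map_of_mem _ ha, AlgHom.commutes _ _⟩
  | zero =>
    obtain ⟨i⟩ := hS.nonempty
    exact ⟨i, 0, Ideal.zero_mem _, map_zero _⟩
  | add x y _ _ hx hy =>
    obtain ⟨i, c, hc, rfl⟩ := hx
    obtain ⟨j, d, hd, rfl⟩ := hy
    obtain ⟨l, φ, ψ, hφ, hψ⟩ := hS.dir i j
    refine ⟨l, φ c + ψ d, Ideal.add_mem _ (map_mem_map J φ hc) (map_mem_map J ψ hd), ?_⟩
    rw [map_add, ← AlgHom.comp_apply, ← AlgHom.comp_apply, hφ, hψ]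
  | smul b x _ hx =>
    obtain ⟨i, c, hc, rfl⟩ := hx
    obtain ⟨j, d, rfl⟩ := hS.surj b
    obtain ⟨l, φ, ψ, hφ, hψ⟩ := hS.dir i j
    refine ⟨l, ψ d * φ c, Ideal.mul_mem_left _ _ (map_mem_map J φ hc), ?_⟩
    rw [map_mul, ← AlgHom.comp_apply, ← AlgHom.comp_apply, hφ, hψ, smul_eq_mul]

end Groth.Agent.R2.H18.WeierA
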