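import Mathlib
import Groth.Agent.R2.H18WeierA
import Groth.Agent.Lib.Helper26PairHzUnique
import Groth.Agent.S17596

/-!
# A finiteness criterion for quotients of henselizations (helper18)

`(R, m)` a Henselian pair, `A` a finitely presented `R`-algebra, `t ∈ A`, `B` a henselization of
`(A, tA)` which is Henselian along `mB`; if `g ≡ t ^ a` modulo `mB` and `B/(mB + gB)` is finite
over `R`, then `B/gB` is finite over `R`.
-/

set_option autoImplicit false
universe u

namespace Groth.Agent.R2.H18.WeierB

open Groth.Agent.Lib.Helper26.PairHz Groth.Agent.Lib.Helper18ColimSys Groth.Agent.Lib.Helper2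
open Groth.Agent.R2.H18.WeierA

variable {R : Type u} [CommRing R] (m : Ideal R) [HenselianRing R m]
  {A : Type u} [CommRing A] [Algebra R A] [Algebra.FinitePresentation R A] (t : A)
  {B : Type u} [CommRing B] [Algebra A B] [Algebra R B] [IsScalarTower R A B]

theorem finite_quotient_span_singleton
    (hB : Hens2.IsPairHenselization A (Ideal.span {t}) B)
    (hBm : HenselianRing B (m.map (algebraMap R B)))
    (g : B) (a : ℕ) (hta : g - algebraMap A B t ^ a ∈ m.map (algebraMap R B))
    (hfin : Module.Finite R (B ⧸ (m.map (algebraMap R B) ⊔ Ideal.span {g}))) :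
    Module.Finite R (B ⧸ Ideal.span {g}) := by
  classical
  obtain ⟨ρ, hS⟩ := exists_sys_of_isPairHenselization hB
  have hta' : g - algebraMap A B t ^ a ∈ (m.map (algebraMap R A)).map (algebraMap A B) := by
    rw [map_map_tower]; exact hta
  obtain ⟨i, c, hc, hρc⟩ := exists_mem_map_of_sys hS _ _ hta'
  -- the neighbourhood
  have hC : IsNbhd (Ideal.span {t}) i.C := i.isNbhd
  letI : Algebra i.C B := (ρ i).toRingHom.toAlgebra
  haveI : IsScalarTower A i.C B := IsScalarTower.of_algebraMap_eq (fun x => ((ρ i).commutes x).symm)
  have hBC := isPairHenselization_of_nbhd hB hC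
  letI : Algebra R i.C := ((algebraMap A i.C).comp (algebraMap R A)).toAlgebra
  haveI : IsScalarTower R A i.C := IsScalarTower.of_algebraMap_eq (fun _ => rfl)
  haveI : IsScalarTower R i.C B := IsScalarTower.of_algebraMap_eq (fun r => by
    rw [IsScalarTower.algebraMap_apply R A B, IsScalarTower.algebraMap_apply A i.C B]
    rfl)
  set tC : i.C := algebraMap A i.C t with htC
  set gC : i.C := c + tC ^ a with hgC
  have hρg : algebraMap i.C B gC = g := by
    change ρ i gC = g
    rw [hgC, map_add, hρc, map_pow, htC, AlgHom.commutes]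
    ring
  have hcm : c ∈ m.map (algebraMap R i.C) := by
    rw [← map_map_tower (A := R) m (C := A) (D := i.C)]; exact hc
  -- the quotients
  have hle : Ideal.span {gC} ≤ (Ideal.span {g}).comap (algebraMap i.C B) := by
    rw [Ideal.span_le, Set.singleton_subset_iff, SetLike.mem_coe, Ideal.mem_comap, hρg]
    exact Ideal.mem_span_singleton_self g
  letI : Algebra (i.C ⧸ Ideal.span {gC}) (B ⧸ Ideal.span {g}) :=
    (Ideal.quotientMap (Ideal.span {g}) (algebraMap i.C B) hle).toAlgebra
  have halg : ∀ x : i.C, algebraMap (i.C ⧸ Ideal.span {gC}) (B ⧸ Ideal.span {g})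
      (Ideal.Quotient.mk _ x) = Ideal.Quotient.mk _ (algebraMap i.C B x) := fun x => rfl
  haveI : IsScalarTower R (i.C ⧸ Ideal.span {gC}) (B ⧸ Ideal.span {g}) :=
    IsScalarTower.of_algebraMap_eq (fun r => by
      change Ideal.Quotient.mk _ (algebraMap R B r) = _
      rw [IsScalarTower.algebraMap_apply R i.C B]
      rfl)
  haveI : Algebra.FinitePresentation A i.C := by
    haveI := hC.etale
    infer_instance
  haveI : Algebra.FinitePresentation R i.C := Algebra.FinitePresentation.trans R A i.C
  haveI : Algebra.FinitePresentation R (i.C ⧸ Ideal.span {gC}) :=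
    Algebra.FinitePresentation.quotient ⟨{gC}, by simp⟩
  -- Henselian property
  have hD₀ : Hens2.IsPairHenselization (i.C ⧸ Ideal.span {gC})
      (m.map (algebraMap R (i.C ⧸ Ideal.span {gC}))) (B ⧸ Ideal.span {g}) := by
    refine ⟨?_, ?_⟩
    · rw [map_map_tower]
      haveI : Algebra.IsIntegral B (B ⧸ Ideal.span {g}) :=
        Algebra.isIntegral_of_surjective Ideal.Quotient.mk_surjective
      haveI := hBm
      have h1 := Groth.Agent.S0526.result B (m.map (algebraMap R B)) (B ⧸ Ideal.span {g})
      rw [map_map_tower] at h1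
      exact h1
    · intro D _ K φ hD hK
      set φC : i.C →+* D := φ.comp (Ideal.Quotient.mk (Ideal.span {gC})) with hφC
      have hφc : φC c ∈ K := by
        apply hK
        have : Ideal.Quotient.mk (Ideal.span {gC}) c ∈
            m.map (algebraMap R (i.C ⧸ Ideal.span {gC})) := by
          have := Ideal.mem_map_of_mem (Ideal.Quotient.mk (Ideal.span {gC})) hcm
          rw [Ideal.map_map] at this
          exact this
        exact Ideal.mem_map_of_mem φ this
      have hφg : φC gC = 0 := by
        rw [hφC, RingHom.comp_apply, Ideal.Quotient.eq_zero_iff_mem.mpr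
          (Ideal.mem_span_singleton_self gC), map_zero]
      have hφt : φC tC ^ a ∈ K := by
        have : tC ^ a = gC - c := by rw [hgC]; ring
        rw [← map_pow, this, map_sub, hφg, zero_sub]
        exact K.neg_mem hφc
      have hKr : ((Ideal.span {t}).map (algebraMap A i.C)).map φC ≤ K.radical := by
        rw [Ideal.map_span, Set.image_singleton, Ideal.map_span, Set.image_singleton,
          Ideal.span_le]
        intro x hx
        rw [Set.mem_singleton_iff] at hx
        rw [hx]
        exact ⟨a, hφt⟩
      have hDr : HenselianRing D K.radical :=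
        henselianRing_of_le_radical K K.radical hD Ideal.le_radical le_rfl
      obtain ⟨g₁, hg₁, hg₁uniq⟩ := hBC.2 D K.radical φC hDr hKr
      have hg₁app : ∀ x : i.C, g₁ (algebraMap i.C B x) = φC x := fun x =>
        congrArg (fun k : i.C →+* D => k x) hg₁
      have hg₁g : g₁ g = 0 := by rw [← hρg, hg₁app, hφg]
      have hker : ∀ b ∈ Ideal.span {g}, g₁ b = 0 := by
        intro b hb
        obtain ⟨y, rfl⟩ := Ideal.mem_span_singleton'.mp hb
        rw [map_mul, hg₁g, mul_zero]
      refine ⟨Ideal.Quotient.lift _ g₁ hker, ?_, ?_⟩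
      · apply Ideal.Quotient.ringHom_ext
        ext x
        simp only [RingHom.coe_comp, Function.comp_apply]
        rw [halg, Ideal.Quotient.lift_mk, hg₁app]
        rfl
      · intro g' hg'
        apply Ideal.Quotient.ringHom_ext
        have : g'.comp (Ideal.Quotient.mk (Ideal.span {g})) = g₁ := by
          apply hg₁uniq
          ext x
          have := congrArg (fun k : (i.C ⧸ Ideal.span {gC}) →+* D =>
            k (Ideal.Quotient.mk _ x)) hg'
          simp only [RingHom.coe_comp, Function.comp_apply] at this ⊢
          rw [halg] at this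
          exact this
        rw [this]
        ext b
        simp
  -- finiteness of the special fibre
  have hfin' : (Ideal.quotientMap (m.map (algebraMap R (B ⧸ Ideal.span {g})))
      (algebraMap R (B ⧸ Ideal.span {g})) Ideal.le_comap_map).Finite := by
    have hle2 : m.map (algebraMap R B) ⊔ Ideal.span {g} ≤
        (m.map (algebraMap R (B ⧸ Ideal.span {g}))).comap
          (Ideal.Quotient.mkₐ R (Ideal.span {g})) := by
      rw [sup_le_iff]
      constructor
      · rw [Ideal.map_le_iff_le_comap]
        intro r hr
        rw [Ideal.mem_comap, Ideal.mem_comap]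
        exact Ideal.mem_map_of_mem _ hr
      · rw [Ideal.span_le, Set.singleton_subset_iff, SetLike.mem_coe, Ideal.mem_comap,
          Ideal.Quotient.mkₐ_eq_mk,
          Ideal.Quotient.eq_zero_iff_mem.mpr (Ideal.mem_span_singleton_self g)]
        exact Ideal.zero_mem _
    have h1 : Module.Finite R ((B ⧸ Ideal.span {g}) ⧸
        m.map (algebraMap R (B ⧸ Ideal.span {g}))) :=
      Module.Finite.of_surjective
        (Ideal.quotientMapₐ _ (Ideal.Quotient.mkₐ R (Ideal.span {g})) hle2).toLinearMap
        (Ideal.quotientMap_surjective (H := hle2) Ideal.Quotient.mk_surjective)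
    have h2 : Module.Finite (R ⧸ m) ((B ⧸ Ideal.span {g}) ⧸
        m.map (algebraMap R (B ⧸ Ideal.span {g}))) :=
      Module.Finite.of_restrictScalars_finite R _ _
    exact RingHom.finite_algebraMap.mpr h2
  exact (Groth.Agent.S17596.result R m (i.C ⧸ Ideal.span {gC}) (B ⧸ Ideal.span {g}) hD₀ hfin').1

end Groth.Agent.R2.H18.WeierB
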