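import Mathlib
import Groth.Agent.R2.H18WeierA
import Groth.Agent.Lib.Helper26PairHzUnique
import Groth.Agent.Lib.Helper2HenselQuot
import Groth.Agent.Lib.Helper2HenselRad
import Groth.Agent.S0526

/-!
# The henselization of `R[X]` along `(X)`: basic structure (helper18)
-/

set_option autoImplicit false
universe u

open Polynomial

namespace Groth.Agent.R2.H18.WeierC

open Groth.Agent.Lib.Helper26.PairHz Groth.Agent.Lib.Helper2 Groth.Agent.R2.H18.WeierA

section General

variable {R : Type u} [CommRing R] {B : Type u} [CommRing B] [Algebra R[X] B]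

theorem map_span_X_pow (n : ℕ) :
    ((Ideal.span {(X : R[X])}) ^ n).map (algebraMap R[X] B) =
      Ideal.span {algebraMap R[X] B X ^ n} := by
  rw [Ideal.span_singleton_pow, Ideal.map_span, Set.image_singleton, map_pow]

theorem map_span_X :
    (Ideal.span {(X : R[X])}).map (algebraMap R[X] B) = Ideal.span {algebraMap R[X] B X} := by
  rw [Ideal.map_span, Set.image_singleton]

theorem algebraMap_eq_C [Algebra R B] [IsScalarTower R R[X] B] (r : R) :
    algebraMap R B r = algebraMap R[X] B (C r) := by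
  rw [IsScalarTower.algebraMap_apply R R[X] B]
  rfl

variable (hB : Hens2.IsPairHenselization R[X] (Ideal.span {(X : R[X])}) B)

include hB

theorem t_mem_jacobson : algebraMap R[X] B X ∈ (⊥ : Ideal B).jacobson :=
  hB.1.jac (Ideal.mem_map_of_mem _ (Ideal.mem_span_singleton_self X))

/-- Division by `t ^ n` in `B` with polynomial remainder. -/
theorem exists_poly_add (n : ℕ) (b : B) :
    ∃ p : R[X], p.degree < n ∧ ∃ b' : B, b = algebraMap R[X] B p + algebraMap R[X] B X ^ n * b' := by
  obtain ⟨z, hz⟩ := (quotientMap_pow_bijective hB n).2 (Ideal.Quotient.mk _ b)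
  obtain ⟨p₀, rfl⟩ := Ideal.Quotient.mk_surjective z
  rw [Ideal.quotientMap_mk, Ideal.Quotient.eq, map_span_X_pow] at hz
  obtain ⟨y, hy⟩ := Ideal.mem_span_singleton'.mp hz
  refine ⟨p₀ %ₘ X ^ n, ?_, algebraMap R[X] B (p₀ /ₘ X ^ n) - y, ?_⟩
  · rcases subsingleton_or_nontrivial R with hR | hR
    · rw [Subsingleton.elim (p₀ %ₘ X ^ n) 0, Polynomial.degree_zero]
      exact WithBot.bot_lt_coe _
    · have := Polynomial.degree_modByMonic_lt p₀ (monic_X_pow (R := R) n)
      rwa [Polynomial.degree_X_pow] at this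
  · have h1 : algebraMap R[X] B p₀ = algebraMap R[X] B (p₀ %ₘ X ^ n) +
        algebraMap R[X] B X ^ n * algebraMap R[X] B (p₀ /ₘ X ^ n) := by
      conv_lhs => rw [← Polynomial.modByMonic_add_div p₀ (X ^ n)]
      rw [map_add, map_mul, map_pow]
    have h2 : b = algebraMap R[X] B p₀ - y * algebraMap R[X] B X ^ n := by
      rw [hy]; ring
    rw [h2, h1]
    ring

/-- A polynomial divisible by `t ^ n` in `B` is divisible by `X ^ n`. -/
theorem X_pow_dvd_of_mem (n : ℕ) (p : R[X])
    (hp : algebraMap R[X] B p ∈ Ideal.span {algebraMap R[X] B X ^ n}) : X ^ n ∣ p := by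
  have h0 : Ideal.quotientMap (((Ideal.span {(X : R[X])}) ^ n).map (algebraMap R[X] B))
      (algebraMap R[X] B) Ideal.le_comap_map (Ideal.Quotient.mk _ p) = 0 := by
    rw [Ideal.quotientMap_mk, Ideal.Quotient.eq_zero_iff_mem, map_span_X_pow]
    exact hp
  have h1 := (quotientMap_pow_bijective hB n).1 (h0.trans (map_zero _).symm)
  rw [Ideal.Quotient.eq_zero_iff_mem, Ideal.span_singleton_pow, Ideal.mem_span_singleton] at h1
  exact h1

/-- Evaluation at `t = 0`. -/
theorem exists_eps : ∃ ε : B →+* R, ∀ p : R[X], ε (algebraMap R[X] B p) = p.eval 0 := by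
  have hle : (Ideal.span {(X : R[X])}).map (Polynomial.evalRingHom (0 : R)) ≤ ⊥ := by
    rw [Ideal.map_span, Set.image_singleton, Polynomial.coe_evalRingHom, Polynomial.eval_X,
      Ideal.span_singleton_eq_bot.mpr rfl]
  obtain ⟨ε, hε, -⟩ := hB.2 R ⊥ (Polynomial.evalRingHom 0) (henselianRing_bot R) hle
  exact ⟨ε, fun p => congrArg (fun k : R[X] →+* R => k p) hε⟩

/-- The evaluation `B → R` at `t = 0`. -/
noncomputable def eps : B →+* R := (exists_eps hB).choose

theorem eps_algebraMap_poly (p : R[X]) : eps hB (algebraMap R[X] B p) = p.eval 0 :=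
  (exists_eps hB).choose_spec p

theorem eps_t : eps hB (algebraMap R[X] B X) = 0 := by
  rw [eps_algebraMap_poly, Polynomial.eval_X]

variable [Algebra R B] [IsScalarTower R R[X] B]

theorem eps_algebraMap (r : R) : eps hB (algebraMap R B r) = r := by
  rw [algebraMap_eq_C, eps_algebraMap_poly, Polynomial.eval_C]

theorem sub_eps_mem (b : B) :
    b - algebraMap R B (eps hB b) ∈ Ideal.span {algebraMap R[X] B X} := by
  obtain ⟨p, -, b', hb⟩ := exists_poly_add hB 1 b
  rw [pow_one] at hb
  have h1 : eps hB b = p.eval 0 := by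
    rw [hb, map_add, map_mul, eps_t, zero_mul, add_zero, eps_algebraMap_poly]
  have h2 : algebraMap R[X] B p = algebraMap R[X] B X * algebraMap R[X] B p.divX +
      algebraMap R B (p.eval 0) := by
    have h3 : p = X * p.divX + C (p.eval 0) := by
      rw [← Polynomial.coeff_zero_eq_eval_zero, mul_comm]
      exact (Polynomial.divX_mul_X_add p).symm
    conv_lhs => rw [h3]
    rw [map_add, map_mul, algebraMap_eq_C (B := B) (p.eval 0)]
  rw [Ideal.mem_span_singleton']
  refine ⟨algebraMap R[X] B p.divX + b', ?_⟩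
  rw [h1, hb, h2]
  ring

theorem isUnit_iff_eps (b : B) : IsUnit b ↔ IsUnit (eps hB b) := by
  refine ⟨fun h => h.map _, fun h => ?_⟩
  obtain ⟨y, hy⟩ := Ideal.mem_span_singleton'.mp (sub_eps_mem hB b)
  have : b = algebraMap R B (eps hB b) + y * algebraMap R[X] B X := by
    rw [hy]; ring
  rw [this]
  exact isUnit_add_of_mem_jacobson _ _ (h.map _)
    (Ideal.mul_mem_left _ _ (t_mem_jacobson hB))

theorem eps_mem_of_mem_map (I : Ideal R) {x : B} (hx : x ∈ I.map (algebraMap R B)) :
    eps hB x ∈ I := by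
  have hle : I.map (algebraMap R B) ≤ I.comap (eps hB) := by
    rw [Ideal.map_le_iff_le_comap]
    intro r hr
    rw [Ideal.mem_comap, Ideal.mem_comap, eps_algebraMap]
    exact hr
  exact hle hx

theorem map_le_jacobson (I : Ideal R) (hI : I ≤ Ideal.jacobson ⊥) :
    I.map (algebraMap R B) ≤ Ideal.jacobson ⊥ := by
  intro x hx
  rw [Ideal.mem_jacobson_bot]
  intro y
  rw [isUnit_iff_eps hB, map_add, map_mul, map_one]
  exact Ideal.mem_jacobson_bot.mp (hI (eps_mem_of_mem_map hB I hx)) _

end General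

section Monic

open IsLocalRing

variable {R : Type u} [CommRing R] [HenselianLocalRing R]

omit [HenselianLocalRing R] in
/-- `X ^ N - P` has coefficients in `m` for a Weierstrass polynomial `P`. -/
theorem X_pow_sub_mem {I : Ideal R} (P : R[X]) (hP : P.Monic)
    (hlow : ∀ i < P.natDegree, P.coeff i ∈ I) :
    X ^ P.natDegree - P ∈ I.map (C : R →+* R[X]) := by
  rw [Ideal.mem_map_C_iff]
  intro i
  rw [Polynomial.coeff_sub, Polynomial.coeff_X_pow]
  rcases lt_trichotomy i P.natDegree with h | h | h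
  · rw [if_neg (ne_of_lt h), zero_sub]
    exact I.neg_mem (hlow i h)
  · rw [if_pos h, h, hP.coeff_natDegree, sub_self]
    exact I.zero_mem
  · rw [if_neg (ne_of_gt h), Polynomial.coeff_eq_zero_of_natDegree_lt h, sub_self]
    exact I.zero_mem

/-- `R[X]/(P)` is Henselian along `(X)` for a Weierstrass polynomial `P`. -/
theorem henselianRing_quotient_monic (P : R[X]) (hP : P.Monic)
    (hlow : ∀ i < P.natDegree, P.coeff i ∈ maximalIdeal R) :
    HenselianRing (R[X] ⧸ Ideal.span {P})
      ((Ideal.span {(X : R[X])}).map (algebraMap R[X] (R[X] ⧸ Ideal.span {P}))) := by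
  set F := R[X] ⧸ Ideal.span {P} with hF
  haveI : Module.Finite R F := hP.finite_quotient
  haveI : Algebra.IsIntegral R F := Algebra.IsIntegral.of_finite R F
  have h1 : HenselianRing F ((maximalIdeal R).map (algebraMap R F)) :=
    Groth.Agent.S0526.result R (maximalIdeal R) F
  have h2 : algebraMap R[X] F X ^ P.natDegree ∈ (maximalIdeal R).map (algebraMap R F) := by
    have h3 := Ideal.mem_map_of_mem (algebraMap R[X] F) (X_pow_sub_mem P hP hlow)
    rw [Ideal.map_map] at h3
    have h4 : algebraMap R[X] F P = 0 :=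
      Ideal.Quotient.eq_zero_iff_mem.mpr (Ideal.mem_span_singleton_self P)
    rw [map_sub, h4, sub_zero, map_pow] at h3
    exact h3
  have h5 : (Ideal.span {(X : R[X])}).map (algebraMap R[X] F) ≤
      ((maximalIdeal R).map (algebraMap R F)).radical := by
    rw [map_span_X, Ideal.span_le, Set.singleton_subset_iff]
    exact ⟨P.natDegree, h2⟩
  have h6 : HenselianRing F ((maximalIdeal R).map (algebraMap R F)).radical :=
    henselianRing_of_le_radical _ _ h1 Ideal.le_radical le_rfl
  exact henselianRing_of_le _ _ h6 h5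

variable {B : Type u} [CommRing B] [Algebra R[X] B]
  (hB : Hens2.IsPairHenselization R[X] (Ideal.span {(X : R[X])}) B)

include hB

/-- A polynomial divisible in `B` by a Weierstrass polynomial is divisible in `R[X]`. -/
theorem mem_span_of_algebraMap_mem (P : R[X]) (hP : P.Monic)
    (hlow : ∀ i < P.natDegree, P.coeff i ∈ maximalIdeal R) (q : R[X])
    (hq : algebraMap R[X] B q ∈ Ideal.span {algebraMap R[X] B P}) : q ∈ Ideal.span {P} := by
  obtain ⟨χ, -⟩ := exists_algHom_of_isPairHenselization hB (R[X] ⧸ Ideal.span {P}) _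
    (henselianRing_quotient_monic P hP hlow) le_rfl
  obtain ⟨y, hy⟩ := Ideal.mem_span_singleton'.mp hq
  have h1 := congrArg χ hy
  rw [map_mul, AlgHom.commutes, AlgHom.commutes] at h1
  have h4 : algebraMap R[X] (R[X] ⧸ Ideal.span {P}) P = 0 :=
    Ideal.Quotient.eq_zero_iff_mem.mpr (Ideal.mem_span_singleton_self P)
  rw [h4, mul_zero] at h1
  exact Ideal.Quotient.eq_zero_iff_mem.mp h1.symm

/-- Every element of `B` is congruent to a polynomial modulo a Weierstrass polynomial. -/
theorem exists_sub_mem (P : R[X]) (hP : P.Monic)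
    (hlow : ∀ i < P.natDegree, P.coeff i ∈ maximalIdeal R) (b : B) :
    ∃ q : R[X], algebraMap R[X] B q - b ∈ Ideal.span {algebraMap R[X] B P} := by
  obtain ⟨χ, -⟩ := exists_algHom_of_isPairHenselization hB (R[X] ⧸ Ideal.span {P}) _
    (henselianRing_quotient_monic P hP hlow) le_rfl
  set G := B ⧸ Ideal.span {algebraMap R[X] B P} with hG
  haveI : Algebra.IsIntegral B G := Algebra.isIntegral_of_surjective Ideal.Quotient.mk_surjective
  haveI : HenselianRing B ((Ideal.span {(X : R[X])}).map (algebraMap R[X] B)) := hB.1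
  have hGh : HenselianRing G
      (((Ideal.span {(X : R[X])}).map (algebraMap R[X] B)).map (algebraMap B G)) :=
    Groth.Agent.S0526.result B _ G
  have hle : (Ideal.span {(X : R[X])}).map (algebraMap R[X] G) ≤
      ((Ideal.span {(X : R[X])}).map (algebraMap R[X] B)).map (algebraMap B G) := by
    rw [map_map_tower]
  obtain ⟨k, hk⟩ := exists_algHom_of_isPairHenselization hB G _ hGh hle
  have hker : ∀ p ∈ Ideal.span {P}, (Algebra.ofId R[X] G) p = 0 := by
    intro p hp
    obtain ⟨y, rfl⟩ := Ideal.mem_span_singleton'.mp hp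
    change algebraMap R[X] G (y * P) = 0
    rw [IsScalarTower.algebraMap_apply R[X] B G, map_mul, map_mul]
    have : algebraMap B G (algebraMap R[X] B P) = 0 :=
      Ideal.Quotient.eq_zero_iff_mem.mpr (Ideal.mem_span_singleton_self _)
    rw [this, mul_zero]
  let ι : (R[X] ⧸ Ideal.span {P}) →ₐ[R[X]] G := Ideal.Quotient.liftₐ _ (Algebra.ofId R[X] G) hker
  have e1 := hk (ι.comp χ)
  have e2 := hk (IsScalarTower.toAlgHom R[X] B G)
  obtain ⟨q, hq⟩ := Ideal.Quotient.mk_surjective (χ b)
  refine ⟨q, ?_⟩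
  have h3 := congrArg (fun k : B →ₐ[R[X]] G => k b) (e1.trans e2.symm)
  simp only [AlgHom.comp_apply] at h3
  rw [← hq] at h3
  have h4 : ι (Ideal.Quotient.mk _ q) = algebraMap R[X] G q := by
    change Ideal.Quotient.liftₐ _ (Algebra.ofId R[X] G) hker (Ideal.Quotient.mk _ q) = _
    rw [Ideal.Quotient.liftₐ_apply, Ideal.Quotient.lift_mk]
    rfl
  rw [h4, IsScalarTower.algebraMap_apply R[X] B G] at h3
  rw [← Ideal.Quotient.eq_zero_iff_mem, map_sub, sub_eq_zero]
  exact h3

end Monic

end Groth.Agent.R2.H18.WeierC
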