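import Mathlib
import Groth.Agent.R2.H18WeierA
import Groth.Agent.R2.H18WeierB
import Groth.Agent.R2.H18WeierC
import Groth.Agent.Lib.Helper26HzNoeth

/-!
# Weierstrass preparation in the henselization of `R[X]` along `(X)`, `R` Henselian local (helper18)
-/

set_option autoImplicit false
universe u

open Polynomial IsLocalRing

namespace Groth.Agent.R2.H18.WeierD

open Groth.Agent.Lib.Helper26.PairHz Groth.Agent.Lib.Helper2 Groth.Agent.R2.H18.WeierA
  Groth.Agent.R2.H18.WeierB Groth.Agent.R2.H18.WeierC Groth.Agent.Lib.Helper26.HzNoeth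

variable {R : Type u} [CommRing R] [HenselianLocalRing R]

theorem isNoetherianRing_quot :
    IsNoetherianRing (R[X] ⧸ (maximalIdeal R).map (C : R →+* R[X])) := by
  haveI : IsNoetherianRing (R ⧸ maximalIdeal R) := by
    letI : Field (R ⧸ maximalIdeal R) := Ideal.Quotient.field _
    infer_instance
  exact isNoetherianRing_of_ringEquiv _
    (Ideal.polynomialQuotientEquivQuotientPolynomial (maximalIdeal R))

omit [HenselianLocalRing R] in
theorem mk_X_mem_nonZeroDivisors (I : Ideal R) :
    Ideal.Quotient.mk (I.map (C : R →+* R[X])) X ∈ nonZeroDivisors (R[X] ⧸ I.map (C : R →+* R[X])) := by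
  rw [mem_nonZeroDivisors_iff_right]
  intro x hx
  obtain ⟨p, rfl⟩ := Ideal.Quotient.mk_surjective x
  rw [← map_mul, Ideal.Quotient.eq_zero_iff_mem, Ideal.mem_map_C_iff] at hx
  rw [Ideal.Quotient.eq_zero_iff_mem, Ideal.mem_map_C_iff]
  intro n
  have := hx (n + 1)
  rwa [Polynomial.coeff_mul_X] at this

variable {B : Type u} [CommRing B] [Algebra R B] [Algebra R[X] B] [IsScalarTower R R[X] B]

omit [HenselianLocalRing R] in
theorem map_map_C (I : Ideal R) :
    (I.map (C : R →+* R[X])).map (algebraMap R[X] B) = I.map (algebraMap R B) := by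
  rw [Ideal.map_map]
  congr 1
  ext r
  exact (algebraMap_eq_C r).symm

omit [HenselianLocalRing R] in
theorem algebraMap_eq_aeval (p : R[X]) :
    algebraMap R[X] B p = Polynomial.aeval (algebraMap R[X] B X) p := by
  have h := Polynomial.aeval_algHom_apply (IsScalarTower.toAlgHom R R[X] B) (X : R[X]) p
  rw [Polynomial.aeval_X_left_apply] at h
  exact h.symm

variable (hB : Hens2.IsPairHenselization R[X] (Ideal.span {(X : R[X])}) B)

include hB

omit [HenselianLocalRing R] in
/-- `t` is regular modulo `IB`. -/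
theorem of_t_mul_mem (I : Ideal R) (x : B)
    (hx : algebraMap R[X] B X * x ∈ I.map (algebraMap R B)) : x ∈ I.map (algebraMap R B) := by
  have hBq := isPairHenselization_quotient hB (I.map (C : R →+* R[X]))
  haveI := flat_of_isPairHenselization hBq
  have hreg := Module.Flat.isSMulRegular_of_nonZeroDivisors (mk_X_mem_nonZeroDivisors I)
    (M := B ⧸ (I.map (C : R →+* R[X])).map (algebraMap R[X] B))
  rw [← map_map_C] at hx ⊢
  rw [← Ideal.Quotient.eq_zero_iff_mem] at hx ⊢
  apply hreg
  change _ • _ = _ • _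
  rw [smul_zero, Algebra.smul_def, Ideal.Quotient.algebraMap_quotient_map_quotient, ← map_mul]
  exact hx

omit [HenselianLocalRing R] in
theorem of_t_pow_mul_mem (I : Ideal R) (n : ℕ) (x : B)
    (hx : algebraMap R[X] B X ^ n * x ∈ I.map (algebraMap R B)) : x ∈ I.map (algebraMap R B) := by
  induction n with
  | zero => simpa using hx
  | succ n ih =>
    apply ih
    apply of_t_mul_mem hB I
    rw [← mul_assoc, ← pow_succ']
    exact hx

/-- Krull: an element outside `mB` is outside `t ^ n B + mB` for some `n`. -/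
theorem exists_not_mem_sup (x : B) (hx : x ∉ (maximalIdeal R).map (algebraMap R B)) :
    ∃ n : ℕ, x ∉ Ideal.span {algebraMap R[X] B X ^ n} ⊔ (maximalIdeal R).map (algebraMap R B) := by
  set 𝔞 := (maximalIdeal R).map (C : R →+* R[X]) with h𝔞
  have hBq := isPairHenselization_quotient hB 𝔞
  haveI : IsNoetherianRing (R[X] ⧸ 𝔞) := isNoetherianRing_quot
  haveI : IsNoetherianRing (B ⧸ 𝔞.map (algebraMap R[X] B)) :=
    isNoetherianRing_of_isPairHenselization hBq
  set J := ((Ideal.span {(X : R[X])}).map (Ideal.Quotient.mk 𝔞)).map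
    (algebraMap (R[X] ⧸ 𝔞) (B ⧸ 𝔞.map (algebraMap R[X] B))) with hJ
  have hJjac : J ≤ Ideal.jacobson ⊥ := hBq.1.jac
  have hkrull := Ideal.iInf_pow_smul_eq_bot_of_le_jacobson (M := B ⧸ 𝔞.map (algebraMap R[X] B)) J hJjac
  have hx' : Ideal.Quotient.mk (𝔞.map (algebraMap R[X] B)) x ∉
      (⨅ i : ℕ, J ^ i • ⊤ : Submodule (B ⧸ 𝔞.map (algebraMap R[X] B))
        (B ⧸ 𝔞.map (algebraMap R[X] B))) := by
    rw [hkrull, Submodule.mem_bot, Ideal.Quotient.eq_zero_iff_mem, h𝔞, map_map_C]
    exact hx
  rw [Submodule.mem_iInf] at hx'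
  push Not at hx'
  obtain ⟨n, hn⟩ := hx'
  refine ⟨n, fun hmem => hn ?_⟩
  obtain ⟨y, hy, z, hz, rfl⟩ := Submodule.mem_sup.mp hmem
  obtain ⟨w, rfl⟩ := Ideal.mem_span_singleton'.mp hy
  have hz' : Ideal.Quotient.mk (𝔞.map (algebraMap R[X] B)) z = 0 := by
    rw [Ideal.Quotient.eq_zero_iff_mem, h𝔞, map_map_C]
    exact hz
  rw [map_add, hz', add_zero, map_mul, map_pow]
  have ht : Ideal.Quotient.mk (𝔞.map (algebraMap R[X] B)) (algebraMap R[X] B X) ∈ J := by
    rw [← Ideal.Quotient.algebraMap_quotient_map_quotient]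
    exact Ideal.mem_map_of_mem _ (Ideal.mem_map_of_mem _ (Ideal.mem_span_singleton_self X))
  rw [Ideal.smul_top_eq_map, Algebra.algebraMap_self, Ideal.map_id]
  exact Ideal.mul_mem_left _ _ (Ideal.pow_mem_pow ht n)

/-- An element outside `mB` is `t ^ a · unit` modulo `mB`. -/
theorem exists_pow_mul_unit (f : B) (hf : f ∉ (maximalIdeal R).map (algebraMap R B)) :
    ∃ (a : ℕ) (v : Bˣ), f - algebraMap R[X] B X ^ a * (v : B) ∈
      (maximalIdeal R).map (algebraMap R B) := by
  classical
  have hex := exists_not_mem_sup hB f hf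
  set n := Nat.find hex with hn
  have hn1 : f ∉ Ideal.span {algebraMap R[X] B X ^ n} ⊔ (maximalIdeal R).map (algebraMap R B) :=
    Nat.find_spec hex
  have hn0 : n ≠ 0 := by
    intro h0
    apply hn1
    rw [h0, pow_zero, Ideal.span_singleton_one]
    exact Submodule.mem_sup_left Submodule.mem_top
  obtain ⟨a, ha⟩ := Nat.exists_eq_succ_of_ne_zero hn0
  have ha1 : f ∈ Ideal.span {algebraMap R[X] B X ^ a} ⊔ (maximalIdeal R).map (algebraMap R B) := by
    by_contra hcon
    have := Nat.find_min' hex hcon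
    omega
  obtain ⟨y, hy, z, hz, hyz⟩ := Submodule.mem_sup.mp ha1
  obtain ⟨v, rfl⟩ := Ideal.mem_span_singleton'.mp hy
  -- `v` is a unit
  have hv : IsUnit v := by
    rw [isUnit_iff_eps hB]
    by_contra hcon
    have hvm : eps hB v ∈ maximalIdeal R := (IsLocalRing.mem_maximalIdeal _).mpr hcon
    apply hn1
    obtain ⟨w, hw⟩ := Ideal.mem_span_singleton'.mp (sub_eps_mem hB v)
    have hv' : v = algebraMap R B (eps hB v) + w * algebraMap R[X] B X := by
      rw [hw]; ring
    rw [← hyz, ha, hv']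
    have e : (algebraMap R B (eps hB v) + w * algebraMap R[X] B X) * algebraMap R[X] B X ^ a + z =
        w * algebraMap R[X] B X ^ (a + 1) +
          (algebraMap R[X] B X ^ a * algebraMap R B (eps hB v) + z) := by
      ring
    rw [e]
    refine Submodule.add_mem_sup (Ideal.mul_mem_left _ _ (Ideal.mem_span_singleton_self _))
      (Ideal.add_mem _ (Ideal.mul_mem_left _ _ (Ideal.mem_map_of_mem _ hvm)) hz)
  refine ⟨a, hv.unit, ?_⟩
  rw [IsUnit.unit_spec, ← hyz]
  have e : v * algebraMap R[X] B X ^ a + z - algebraMap R[X] B X ^ a * v = z := by ring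
  rw [e]
  exact hz

/-- `B` is Henselian along `mB`. -/
theorem henselianRing_map_maximalIdeal :
    HenselianRing B ((maximalIdeal R).map (algebraMap R B)) := by
  set I₁ := (Ideal.span {(X : R[X])}).map (algebraMap R[X] B) with hI₁
  have hsurj : Function.Surjective (algebraMap R (B ⧸ I₁)) := by
    intro z
    obtain ⟨b, rfl⟩ := Ideal.Quotient.mk_surjective z
    refine ⟨eps hB b, ?_⟩
    rw [IsScalarTower.algebraMap_apply R B (B ⧸ I₁), Ideal.Quotient.algebraMap_eq]
    symm
    rw [Ideal.Quotient.eq, hI₁, map_span_X]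
    exact sub_eps_mem hB b
  haveI : Algebra.IsIntegral R (B ⧸ I₁) := Algebra.isIntegral_of_surjective hsurj
  have h1 : HenselianRing (B ⧸ I₁) ((maximalIdeal R).map (algebraMap R (B ⧸ I₁))) :=
    Groth.Agent.S0526.result R (maximalIdeal R) (B ⧸ I₁)
  have h2 : ((maximalIdeal R).map (algebraMap R B) ⊔ I₁).map (Ideal.Quotient.mk I₁) =
      (maximalIdeal R).map (algebraMap R (B ⧸ I₁)) := by
    rw [Ideal.map_sup, Ideal.map_quotient_self, sup_bot_eq, Ideal.map_map]
    rfl
  have h3 : HenselianRing B ((maximalIdeal R).map (algebraMap R B) ⊔ I₁) := by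
    apply henselianRing_of_quotient I₁ _ le_sup_right hB.1
    rw [h2]
    exact h1
  exact henselianRing_of_le _ _ h3 le_sup_left

omit [HenselianLocalRing R] in
/-- The special fibre of `B/(g)` is finite when `g ≡ t ^ a`. -/
theorem finite_quot (g : B) (a : ℕ) (I : Ideal R)
    (hg : g - algebraMap R[X] B X ^ a ∈ I.map (algebraMap R B)) :
    Module.Finite R (B ⧸ (I.map (algebraMap R B) ⊔ Ideal.span {g})) := by
  set K := I.map (algebraMap R B) ⊔ Ideal.span {g} with hK
  have hta : algebraMap R[X] B X ^ a ∈ K := by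
    have : algebraMap R[X] B X ^ a = g - (g - algebraMap R[X] B X ^ a) := by ring
    rw [this]
    exact K.sub_mem (Submodule.mem_sup_right (Ideal.mem_span_singleton_self g))
      (Submodule.mem_sup_left hg)
  let L : Polynomial.degreeLT R a →ₗ[R] B ⧸ K :=
    ((Ideal.Quotient.mkₐ R K).toLinearMap.comp
      (IsScalarTower.toAlgHom R R[X] B).toLinearMap).comp (Polynomial.degreeLT R a).subtype
  haveI : Module.Finite R (Polynomial.degreeLT R a) :=
    Module.Finite.equiv (Polynomial.degreeLTEquiv R a).symm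
  refine Module.Finite.of_surjective L ?_
  intro z
  obtain ⟨b, rfl⟩ := Ideal.Quotient.mk_surjective z
  obtain ⟨p, hp, b', hb⟩ := exists_poly_add hB a b
  refine ⟨⟨p, Polynomial.mem_degreeLT.mpr hp⟩, ?_⟩
  change Ideal.Quotient.mk K (algebraMap R[X] B p) = Ideal.Quotient.mk K b
  rw [Ideal.Quotient.eq, hb]
  have : algebraMap R[X] B p - (algebraMap R[X] B p + algebraMap R[X] B X ^ a * b') =
      -(b' * algebraMap R[X] B X ^ a) := by ring
  rw [this]
  exact K.neg_mem (Ideal.mul_mem_left _ _ hta)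

/-- **Weierstrass polynomial**: if `g ≡ t ^ a` modulo `mB` then some Weierstrass polynomial of
degree `a` lies in `gB`. -/
theorem exists_weierstrass_of_congr (g : B) (a : ℕ)
    (hg : g - algebraMap R[X] B X ^ a ∈ (maximalIdeal R).map (algebraMap R B)) :
    ∃ P : R[X], P.Monic ∧ P.natDegree = a ∧ (∀ i < a, P.coeff i ∈ maximalIdeal R) ∧
      algebraMap R[X] B P ∈ Ideal.span {g} := by
  classical
  set m := maximalIdeal R with hm
  haveI : Algebra.FinitePresentation R R[X] := inferInstance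
  haveI hfinD : Module.Finite R (B ⧸ Ideal.span {g}) :=
    finite_quotient_span_singleton m (X : R[X]) hB (henselianRing_map_maximalIdeal hB) g a hg
      (finite_quot hB g a m hg)
  set D := B ⧸ Ideal.span {g} with hD
  let q₂ : B →ₐ[R] D := Ideal.Quotient.mkₐ R _
  set t₂ : D := q₂ (algebraMap R[X] B X) with ht₂
  have hq₂aeval : ∀ p : R[X], q₂ (algebraMap R[X] B p) = Polynomial.aeval t₂ p := by
    intro p
    rw [ht₂, algebraMap_eq_aeval, ← Polynomial.aeval_algHom_apply]
  have hmem_smul : ∀ z' : B, z' ∈ m.map (algebraMap R B) →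
      q₂ z' ∈ m • (⊤ : Submodule R D) := by
    intro z' hz'
    have h1 : z' ∈ m • (⊤ : Submodule R B) := by
      rw [Ideal.smul_top_eq_map]
      exact hz'
    have h2 : q₂.toLinearMap z' ∈ Submodule.map q₂.toLinearMap (m • (⊤ : Submodule R B)) :=
      Submodule.mem_map_of_mem h1
    rw [Submodule.map_smul''] at h2
    exact Submodule.smul_mono le_rfl le_top h2
  have hq₂g : q₂ g = 0 := Ideal.Quotient.eq_zero_iff_mem.mpr (Ideal.mem_span_singleton_self g)
  set N : Submodule R D := Submodule.span R (Set.range fun i : Fin a => t₂ ^ (i : ℕ)) with hN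
  have haevalN : ∀ r : R[X], r.degree < a → Polynomial.aeval t₂ r ∈ N := by
    intro r hr
    rw [Polynomial.aeval_def, Polynomial.eval₂_eq_sum, Polynomial.sum_def]
    refine Submodule.sum_mem _ fun i hi => ?_
    have hia : i < a := by
      have := Polynomial.le_degree_of_mem_supp i hi
      exact_mod_cast lt_of_le_of_lt this hr
    rw [← Algebra.smul_def]
    exact Submodule.smul_mem _ _ (Submodule.subset_span ⟨⟨i, hia⟩, rfl⟩)
  -- `t ^ a` maps into `m D`
  have hta : t₂ ^ a ∈ m • (⊤ : Submodule R D) := by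
    have h1 := hmem_smul _ hg
    rw [map_sub, hq₂g, zero_sub, map_pow] at h1
    have := (m • (⊤ : Submodule R D)).neg_mem h1
    rwa [neg_neg] at this
  have hcover : ∀ z : D, z ∈ N ⊔ m • (⊤ : Submodule R D) := by
    intro z
    obtain ⟨b, rfl⟩ := Ideal.Quotient.mk_surjective z
    obtain ⟨p, hp, b', hb⟩ := exists_poly_add hB a b
    change q₂ b ∈ _
    rw [hb, map_add, map_mul, map_pow, hq₂aeval]
    refine Submodule.add_mem_sup (haevalN p hp) ?_
    have h2 : (m • (⊤ : Submodule R D)) = (m.map (algebraMap R D)).restrictScalars R := by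
      rw [Ideal.smul_top_eq_map]
    rw [h2] at hta ⊢
    exact Ideal.mul_mem_right _ _ hta
  have hmjac : m ≤ (⊥ : Ideal R).jacobson := by
    rw [IsLocalRing.jacobson_eq_maximalIdeal ⊥ bot_ne_top]
  have hNtop : N = ⊤ := by
    rw [eq_top_iff]
    exact Submodule.le_of_le_smul_of_le_jacobson_bot (Module.Finite.fg_top) hmjac
      (fun z _ => hcover z)
  have hta' : t₂ ^ a ∈ m • N := by rw [hNtop]; exact hta
  rw [hN, Submodule.mem_ideal_smul_span_iff_exists_sum] at hta'
  obtain ⟨c, hc, hsum⟩ := hta'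
  set S : R[X] := ∑ i : Fin a, C (c i) * X ^ (i : ℕ) with hS
  have hSdeg : S.degree < a := by
    rw [hS]
    exact Polynomial.degree_sum_fin_lt _
  have hScoeff : ∀ j, S.coeff j ∈ m := by
    intro j
    rw [hS, Polynomial.finsetSum_coeff]
    refine Ideal.sum_mem _ fun i _ => ?_
    rw [Polynomial.coeff_C_mul_X_pow]
    split_ifs
    · exact hc i
    · exact m.zero_mem
  have hSaeval : Polynomial.aeval t₂ S = t₂ ^ a := by
    rw [hS, map_sum, ← hsum, Finsupp.sum_fintype _ _ (fun i => by simp)]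
    refine Finset.sum_congr rfl fun i _ => ?_
    rw [map_mul, Polynomial.aeval_C, map_pow, Polynomial.aeval_X, ← Algebra.smul_def]
  set P : R[X] := X ^ a - S with hP
  have hPmonic : P.Monic := Polynomial.monic_X_pow_sub hSdeg
  have hPdeg : P.natDegree = a := by
    rw [hP]
    have h1 : (X ^ a - S : R[X]).degree = ((X : R[X]) ^ a).degree :=
      Polynomial.degree_sub_eq_left_of_degree_lt (by rw [Polynomial.degree_X_pow]; exact hSdeg)
    rw [Polynomial.degree_X_pow] at h1
    exact Polynomial.natDegree_eq_of_degree_eq_some h1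
  have hPcoeff : ∀ i < a, P.coeff i ∈ m := by
    intro i hi
    rw [hP, Polynomial.coeff_sub, Polynomial.coeff_X_pow, if_neg (ne_of_lt hi), zero_sub]
    exact neg_mem (hScoeff i)
  have hPaeval : Polynomial.aeval t₂ P = 0 := by
    rw [hP, map_sub, map_pow, Polynomial.aeval_X, hSaeval, sub_self]
  refine ⟨P, hPmonic, hPdeg, hPcoeff, ?_⟩
  rw [← Ideal.Quotient.eq_zero_iff_mem]
  have := hq₂aeval P
  rw [hPaeval] at this
  exact this

/-- **Weierstrass preparation, existence.** -/
theorem exists_factorization (f : B) (hf : f ∉ (maximalIdeal R).map (algebraMap R B)) :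
    ∃ (P : R[X]) (u : Bˣ), P.Monic ∧ (∀ i < P.natDegree, P.coeff i ∈ maximalIdeal R) ∧
      f = algebraMap R[X] B P * (u : B) := by
  set m := maximalIdeal R with hm
  obtain ⟨a, v, hv⟩ := exists_pow_mul_unit hB f hf
  set g : B := f * ((v⁻¹ : Bˣ) : B) with hg
  have hgt : g - algebraMap R[X] B X ^ a ∈ m.map (algebraMap R B) := by
    have : g - algebraMap R[X] B X ^ a =
        ((v⁻¹ : Bˣ) : B) * (f - algebraMap R[X] B X ^ a * (v : B)) := by
      rw [hg, mul_sub, mul_comm (((v⁻¹ : Bˣ) : B)) (algebraMap R[X] B X ^ a * (v : B)), mul_assoc,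
        Units.mul_inv, mul_one, mul_comm]
    rw [this]
    exact Ideal.mul_mem_left _ _ hv
  obtain ⟨P, hPm, hPdeg, hPlow, hPg⟩ := exists_weierstrass_of_congr hB g a hgt
  obtain ⟨w, hw⟩ := Ideal.mem_span_singleton'.mp hPg
  -- `w` is a unit
  have hPt : algebraMap R[X] B P - algebraMap R[X] B X ^ a ∈ m.map (algebraMap R B) := by
    have h1 := X_pow_sub_mem P hPm (I := m) (by rw [hPdeg]; exact hPlow)
    have h2 := Ideal.mem_map_of_mem (algebraMap R[X] B) h1
    rw [map_map_C, map_sub, map_pow, hPdeg] at h2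
    have := (m.map (algebraMap R B)).neg_mem h2
    rwa [neg_sub] at this
  have h1w : 1 - w ∈ m.map (algebraMap R B) := by
    apply of_t_pow_mul_mem hB m a
    have : algebraMap R[X] B X ^ a * (1 - w) =
        -(algebraMap R[X] B P - algebraMap R[X] B X ^ a) + w * (g - algebraMap R[X] B X ^ a) := by
      rw [← hw]; ring
    rw [this]
    exact Ideal.add_mem _ (neg_mem hPt) (Ideal.mul_mem_left _ _ hgt)
  have hmjac : m ≤ (⊥ : Ideal R).jacobson := by
    rw [IsLocalRing.jacobson_eq_maximalIdeal ⊥ bot_ne_top]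
  have hwu : IsUnit w := by
    have h2 : w = 1 + -(1 - w) := by ring
    rw [h2]
    exact isUnit_add_of_mem_jacobson _ _ isUnit_one
      (map_le_jacobson hB m hmjac (neg_mem h1w))
  refine ⟨P, hwu.unit⁻¹ * v, hPm, fun i hi => hPlow i (by rwa [hPdeg] at hi), ?_⟩
  rw [Units.val_mul, ← hw]
  have h3 : w * ((hwu.unit⁻¹ : Bˣ) : B) = 1 := by
    have := Units.mul_inv hwu.unit
    rwa [IsUnit.unit_spec] at this
  have h4 : g * (v : B) = f := by
    rw [hg, mul_assoc, Units.inv_mul, mul_one]
  calc f = g * (v : B) := h4.symm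
    _ = (w * ((hwu.unit⁻¹ : Bˣ) : B)) * (g * (v : B)) := by rw [h3, one_mul]
    _ = w * g * (((hwu.unit⁻¹ : Bˣ) : B) * (v : B)) := by ring

omit [HenselianLocalRing R] [Algebra R B] [IsScalarTower R R[X] B] in
/-- The image of a monic polynomial is a nonzerodivisor of `B`. -/
theorem algebraMap_monic_regular (P : R[X]) (hP : P.Monic) (x y : B)
    (h : algebraMap R[X] B P * x = algebraMap R[X] B P * y) : x = y := by
  haveI := flat_of_isPairHenselization hB
  have hreg := Module.Flat.isSMulRegular_of_nonZeroDivisors (M := B)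
    (hP.mem_nonZeroDivisors)
  apply hreg
  change _ • _ = _ • _
  rw [Algebra.smul_def, Algebra.smul_def]
  exact h

omit [Algebra R B] [IsScalarTower R R[X] B] in
/-- **Weierstrass preparation, uniqueness.** -/
theorem factorization_unique (P P' : R[X]) (u u' : Bˣ) (hP : P.Monic) (hP' : P'.Monic)
    (hlow : ∀ i < P.natDegree, P.coeff i ∈ maximalIdeal R)
    (hlow' : ∀ i < P'.natDegree, P'.coeff i ∈ maximalIdeal R)
    (h : algebraMap R[X] B P * (u : B) = algebraMap R[X] B P' * (u' : B)) : P = P' ∧ u = u' := by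
  have h1 : algebraMap R[X] B P' ∈ Ideal.span {algebraMap R[X] B P} := by
    rw [Ideal.mem_span_singleton']
    refine ⟨(u : B) * ((u'⁻¹ : Bˣ) : B), ?_⟩
    calc (u : B) * ((u'⁻¹ : Bˣ) : B) * algebraMap R[X] B P
        = (algebraMap R[X] B P * (u : B)) * ((u'⁻¹ : Bˣ) : B) := by ring
      _ = algebraMap R[X] B P' := by rw [h, mul_assoc, Units.mul_inv, mul_one]
  have h2 : algebraMap R[X] B P ∈ Ideal.span {algebraMap R[X] B P'} := by
    rw [Ideal.mem_span_singleton']
    refine ⟨(u' : B) * ((u⁻¹ : Bˣ) : B), ?_⟩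
    calc (u' : B) * ((u⁻¹ : Bˣ) : B) * algebraMap R[X] B P'
        = (algebraMap R[X] B P' * (u' : B)) * ((u⁻¹ : Bˣ) : B) := by ring
      _ = algebraMap R[X] B P := by rw [← h, mul_assoc, Units.mul_inv, mul_one]
  have d1 : P ∣ P' := Ideal.mem_span_singleton.mp (mem_span_of_algebraMap_mem hB P hP hlow P' h1)
  have d2 : P' ∣ P := Ideal.mem_span_singleton.mp (mem_span_of_algebraMap_mem hB P' hP' hlow' P h2)
  have hdeg : P'.natDegree ≤ P.natDegree := by
    obtain ⟨c, hc⟩ := d2
    have hc0 : c ≠ 0 := by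
      rintro rfl
      rw [mul_zero] at hc
      exact hP.ne_zero hc
    rw [hc, hP'.natDegree_mul' hc0]
    exact Nat.le_add_right _ _
  have hPP : P = P' := (Polynomial.eq_of_monic_of_dvd_of_natDegree_le hP hP' d1 hdeg).symm
  refine ⟨hPP, ?_⟩
  rw [← hPP] at h
  exact Units.ext (algebraMap_monic_regular hB P hP _ _ h)

end Groth.Agent.R2.H18.WeierD
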