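import Mathlib
import Groth.Agent.R2.H18WeierD
import Groth.Agent.R2.H18FibreIdealsA

/-!
# Ideals avoiding the special fibre: the Henselian case `R{t}[1/t]` (helper18)
-/

set_option autoImplicit false
set_option linter.unusedSectionVars false
universe u

open Polynomial IsLocalRing

namespace Groth.Agent.R2.H18.WeierE

open Groth.Agent.Lib.Helper26.PairHz Groth.Agent.R2.H18.WeierC Groth.Agent.R2.H18.WeierD
  Groth.Agent.R2.H18.FibreIdeals

variable {R : Type u} [CommRing R] [HenselianLocalRing R] {B : Type u} [CommRing B] [Algebra R B]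
  [Algebra R[X] B] [IsScalarTower R R[X] B]
  (hB : Hens2.IsPairHenselization R[X] (Ideal.span {(X : R[X])}) B)
  (Λ : Type u) [CommRing Λ] [Algebra B Λ] [IsLocalization.Away (algebraMap R[X] B X) Λ]
  [Algebra R Λ] [IsScalarTower R B Λ]
  (ψ : R[X] →ₐ[R] Λ) (hψ : ψ X * algebraMap B Λ (algebraMap R[X] B X) = 1)

omit [HenselianLocalRing R] [IsLocalization.Away (algebraMap R[X] B X) Λ] in
/-- the composite `R[X] → B → Λ` is evaluation at `T` -/
theorem algebraMap_algebraMap_eq_aeval (p : R[X]) :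
    algebraMap B Λ (algebraMap R[X] B p) =
      Polynomial.aeval (algebraMap B Λ (algebraMap R[X] B X)) p := by
  rw [algebraMap_eq_aeval, ← Polynomial.aeval_algebraMap_apply]

include hB hψ in
/-- Part 1 for the Henselian Laurent ring -/
theorem hens_part_one (I : Ideal R[X])
    (hI : I ⊔ (maximalIdeal R).map (algebraMap R R[X]) = ⊤) :
    (I.map ψ.toRingHom).comap ψ.toRingHom = I ∧
      I.map ψ.toRingHom ⊔ (maximalIdeal R).map (algebraMap R Λ) = ⊤ ∧
      Function.Bijective (Ideal.quotientMap (I.map ψ.toRingHom) ψ.toRingHom Ideal.le_comap_map) ∧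
      ∀ l : Λ, ∃ x : R[X], l - ψ x ∈ I.map ψ.toRingHom := by
  obtain ⟨g, hg, hg0, hgpos, -⟩ := exists_good_element I hI
  obtain ⟨uinv, hu⟩ := hg0.exists_right_inv
  obtain ⟨hPmonic, hPdeg, hPlow⟩ := reflect_props g uinv hu hgpos
  set P := C uinv * reflect g.natDegree g with hP
  have hsτ := mk_X_mul_tau I g hg uinv hu
  set T : Λ := algebraMap B Λ (algebraMap R[X] B X) with hT
  -- `aeval τ P = 0`
  have h0 : Polynomial.aeval (Ideal.Quotient.mk I X) g = 0 := by
    have h1 : Polynomial.aeval (Ideal.Quotient.mk I X) g =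
        Ideal.Quotient.mkₐ R I (Polynomial.aeval X g) := by
      rw [← Polynomial.aeval_algHom_apply]
      rfl
    rw [h1, Polynomial.aeval_X_left_apply]
    exact Ideal.Quotient.eq_zero_iff_mem.mpr hg
  have hτP : Polynomial.aeval (tau I g uinv) P = 0 :=
    aeval_reflect_eq_zero g uinv _ _ hsτ h0
  -- the map `R[X]/(P) → R[s]/I`
  have hker : ∀ p ∈ Ideal.span {P}, (Polynomial.aeval (tau I g uinv) : R[X] →ₐ[R] R[X] ⧸ I) p = 0 := by
    intro p hp
    obtain ⟨y, rfl⟩ := Ideal.mem_span_singleton'.mp hp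
    rw [map_mul, hτP, mul_zero]
  let κ : (R[X] ⧸ Ideal.span {P}) →ₐ[R] R[X] ⧸ I :=
    Ideal.Quotient.liftₐ _ (Polynomial.aeval (tau I g uinv)) hker
  have hκ : ∀ p : R[X], κ (Ideal.Quotient.mk _ p) = Polynomial.aeval (tau I g uinv) p := by
    intro p
    change Ideal.Quotient.liftₐ _ (Polynomial.aeval (tau I g uinv)) hker (Ideal.Quotient.mk _ p) = _
    rw [Ideal.Quotient.liftₐ_apply, Ideal.Quotient.lift_mk]
    rfl
  obtain ⟨χ, -⟩ := exists_algHom_of_isPairHenselization hB (R[X] ⧸ Ideal.span {P}) _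
    (henselianRing_quotient_monic P hPmonic (by rw [hPdeg]; exact hPlow)) le_rfl
  let θ₀ : B →+* R[X] ⧸ I := κ.toRingHom.comp χ.toRingHom
  have hθ₀ : ∀ p : R[X], θ₀ (algebraMap R[X] B p) = Polynomial.aeval (tau I g uinv) p := by
    intro p
    change κ (χ (algebraMap R[X] B p)) = _
    rw [AlgHom.commutes, Ideal.Quotient.algebraMap_eq, hκ]
  have hunit : IsUnit (θ₀ (algebraMap R[X] B X)) := by
    rw [hθ₀, Polynomial.aeval_X]
    exact IsUnit.of_mul_eq_one _ (by rw [mul_comm]; exact hsτ)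
  let θ : Λ →+* R[X] ⧸ I := IsLocalization.Away.lift (algebraMap R[X] B X) (g := θ₀) hunit
  have hθ : ∀ b : B, θ (algebraMap B Λ b) = θ₀ b := fun b =>
    IsLocalization.Away.lift_eq _ hunit b
  have hθR : ∀ r : R, θ (algebraMap R Λ r) = algebraMap R (R[X] ⧸ I) r := by
    intro r
    rw [IsScalarTower.algebraMap_apply R B Λ, hθ, algebraMap_eq_C, hθ₀, Polynomial.aeval_C]
  have hθT : θ T = tau I g uinv := by rw [hT, hθ, hθ₀, Polynomial.aeval_X]
  -- surjectivity
  set 𝔍 := I.map ψ.toRingHom with h𝔍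
  have hψg : ψ g ∈ 𝔍 := Ideal.mem_map_of_mem ψ.toRingHom hg
  have hψaeval : ∀ q : R[X], ψ q = Polynomial.aeval (ψ X) q := by
    intro q
    rw [Polynomial.aeval_algHom_apply, Polynomial.aeval_X_left_apply]
  -- the image of `P` lies in `IΛ`
  have hPJ : algebraMap B Λ (algebraMap R[X] B P) ∈ 𝔍 := by
    rw [algebraMap_algebraMap_eq_aeval, ← hT]
    letI : Invertible (ψ X) := ⟨T, by rw [mul_comm]; exact hψ, hψ⟩
    have h1 := Polynomial.eval₂_reflect_mul_pow (algebraMap R Λ) (ψ X) g.natDegree g le_rfl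
    have h2 : (⅟(ψ X) : Λ) = T := rfl
    rw [h2, ← Polynomial.aeval_def, ← Polynomial.aeval_def, ← hψaeval] at h1
    have h3 : Polynomial.aeval T (reflect g.natDegree g) = ψ g * T ^ g.natDegree := by
      rw [← h1, mul_assoc, ← mul_pow, hψ, one_pow, mul_one]
    rw [hP, map_mul, h3]
    exact Ideal.mul_mem_left _ _ (Ideal.mul_mem_right _ _ hψg)
  -- `T` is congruent to a polynomial in `ψ X`
  have hTcong : T - ψ (-(C uinv * divX g)) ∈ 𝔍 := by
    have h1 : g = C (g.coeff 0) + X * divX g := by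
      conv_lhs => rw [← divX_mul_X_add g]
      ring
    have h3 : ψ (C uinv) * ψ (C (g.coeff 0)) = 1 := by
      rw [← map_mul, ← C_mul, mul_comm, hu, C_1, map_one]
    have h4 : T - ψ (-(C uinv * divX g)) = (T * ψ (C uinv)) * ψ g := by
      conv_rhs => rw [h1]
      simp only [map_add, map_mul, map_neg]
      linear_combination (-T) * h3 - (ψ (C uinv) * ψ (divX g)) * hψ
    rw [h4]
    exact Ideal.mul_mem_left _ _ hψg
  -- the subring of elements congruent to a polynomial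
  let S : Subring Λ := (((Ideal.Quotient.mk 𝔍).comp ψ.toRingHom).range).comap (Ideal.Quotient.mk 𝔍)
  have hS : ∀ l : Λ, l ∈ S ↔ ∃ x : R[X], l - ψ x ∈ 𝔍 := by
    intro l
    change (∃ x : R[X], Ideal.Quotient.mk 𝔍 (ψ x) = Ideal.Quotient.mk 𝔍 l) ↔ _
    constructor
    · rintro ⟨x, hx⟩
      exact ⟨x, Ideal.Quotient.eq.mp hx.symm⟩
    · rintro ⟨x, hx⟩
      exact ⟨x, (Ideal.Quotient.eq.mpr hx).symm⟩
  have hSψ : ∀ x : R[X], ψ x ∈ S := fun x => (hS _).mpr ⟨x, by rw [sub_self]; exact 𝔍.zero_mem⟩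
  have hS𝔍 : ∀ l ∈ 𝔍, l ∈ S := fun l hl => (hS _).mpr ⟨0, by rw [map_zero, sub_zero]; exact hl⟩
  have hST : T ∈ S := (hS _).mpr ⟨_, hTcong⟩
  have hSpoly : ∀ q : R[X], algebraMap B Λ (algebraMap R[X] B q) ∈ S := by
    intro q
    rw [algebraMap_algebraMap_eq_aeval, ← hT, Polynomial.aeval_eq_sum_range]
    refine Subring.sum_mem _ fun i _ => ?_
    rw [Algebra.smul_def]
    refine Subring.mul_mem _ ?_ (Subring.pow_mem _ hST i)
    have : algebraMap R Λ (q.coeff i) = ψ (C (q.coeff i)) := by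
      rw [Polynomial.C_eq_algebraMap, ψ.commutes]
    rw [this]
    exact hSψ _
  have hSB : ∀ b : B, algebraMap B Λ b ∈ S := by
    intro b
    obtain ⟨q, hq⟩ := exists_sub_mem hB P hPmonic (by rw [hPdeg]; exact hPlow) b
    obtain ⟨y, hy⟩ := Ideal.mem_span_singleton'.mp hq
    have : algebraMap B Λ b = algebraMap B Λ (algebraMap R[X] B q) -
        algebraMap B Λ y * algebraMap B Λ (algebraMap R[X] B P) := by
      rw [← map_mul, hy, map_sub]
      ring
    rw [this]
    exact Subring.sub_mem _ (hSpoly q) (hS𝔍 _ (Ideal.mul_mem_left _ _ hPJ))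
  have hsurj : ∀ l : Λ, ∃ x : R[X], l - ψ x ∈ 𝔍 := by
    intro l
    rw [← hS]
    obtain ⟨⟨b, ⟨_, n, rfl⟩⟩, hbl⟩ := IsLocalization.surj (Submonoid.powers (algebraMap R[X] B X)) l
    simp only at hbl
    rw [map_pow, ← hT] at hbl
    have : l = algebraMap B Λ b * ψ X ^ n := by
      rw [← hbl, mul_assoc, ← mul_pow, mul_comm T, hψ, one_pow, mul_one]
    rw [this]
    exact Subring.mul_mem _ (hSB b) (Subring.pow_mem _ (hSψ X) n)
  exact ⟨comap_map_eq I g hg uinv hu T ψ hψ θ hθR hθT, map_sup_eq_top ψ I hI,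
    quotientMap_bijective I g hg uinv hu T ψ hψ θ hθR hθT hsurj, hsurj⟩

include hB hψ in
/-- Part 2 for the Henselian Laurent ring -/
theorem hens_part_two (J : Ideal Λ) (hJ : J ⊔ (maximalIdeal R).map (algebraMap R Λ) = ⊤) :
    (J.comap ψ.toRingHom).map ψ.toRingHom = J ∧
      J.comap ψ.toRingHom ⊔ (maximalIdeal R).map (algebraMap R R[X]) = ⊤ := by
  set T : Λ := algebraMap B Λ (algebraMap R[X] B X) with hT
  have h1 : (1 : Λ) ∈ J ⊔ (maximalIdeal R).map (algebraMap R Λ) := by rw [hJ]; trivial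
  obtain ⟨j, hj, ν, hν, hsum⟩ := Submodule.mem_sup.mp h1
  have hmap : (maximalIdeal R).map (algebraMap R Λ) =
      ((maximalIdeal R).map (algebraMap R B)).map (algebraMap B Λ) := by
    rw [Ideal.map_map, ← IsScalarTower.algebraMap_eq]
  rw [hmap, IsLocalization.mem_map_algebraMap_iff (Submonoid.powers (algebraMap R[X] B X)) Λ] at hν
  obtain ⟨⟨⟨μ, hμ⟩, ⟨_, n, rfl⟩⟩, hνμ⟩ := hν
  have hνμ' : ν * T ^ n = algebraMap B Λ μ := by
    rw [hT, ← map_pow]; exact hνμ
  set f : B := algebraMap R[X] B X ^ n - μ with hf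
  have hfJ : algebraMap B Λ f ∈ J := by
    have : algebraMap B Λ f = j * T ^ n := by
      rw [hf, map_sub, map_pow, ← hT, ← hνμ']
      have : j = 1 - ν := by rw [← hsum]; ring
      rw [this]
      ring
    rw [this]
    exact Ideal.mul_mem_right _ _ hj
  have hfcong : f - algebraMap R[X] B X ^ n ∈ (maximalIdeal R).map (algebraMap R B) := by
    have : f - algebraMap R[X] B X ^ n = -μ := by rw [hf]; ring
    rw [this]
    exact neg_mem hμ
  obtain ⟨P, hPmonic, hPdeg, hPlow, hPf⟩ := exists_weierstrass_of_congr hB f n hfcong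
  have hPJ : Polynomial.aeval T P ∈ J := by
    rw [hT, ← algebraMap_algebraMap_eq_aeval]
    obtain ⟨y, hy⟩ := Ideal.mem_span_singleton'.mp hPf
    rw [← hy, map_mul]
    exact Ideal.mul_mem_left _ _ hfJ
  have hI := comap_sup_eq_top_of_monic ψ T hψ J P hPmonic (by rw [hPdeg]; exact hPlow) hPJ
  obtain ⟨-, -, -, hsurj⟩ := hens_part_one hB Λ ψ hψ (J.comap ψ.toRingHom) hI
  exact ⟨map_comap_eq ψ J hsurj, hI⟩

end Groth.Agent.R2.H18.WeierE
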