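import Mathlib
import Groth.Agent.R2.H18WeierE
import Groth.Agent.R2.H18PicValA

/-!
# The fibre data for `R[s] → R{t}[1/t]`, `s ↦ t⁻¹` (helper18)
-/

set_option autoImplicit false
set_option linter.unusedSectionVars false
universe u

open Polynomial IsLocalRing

namespace Groth.Agent.R2.H18.PicLaurent

open Groth.Agent.Lib.Helper26.PairHz Groth.Agent.R2.H18.WeierC Groth.Agent.R2.H18.WeierD
  Groth.Agent.R2.H18.WeierE

section Poly

variable {R : Type u} [CommRing R] [IsLocalRing R]

/-- elements of `1 + m R[X]` are regular -/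
theorem mem_nonZeroDivisors_of_sub_one_mem (Q : R[X])
    (hQ : Q - 1 ∈ (maximalIdeal R).map (algebraMap R R[X])) : Q ∈ nonZeroDivisors R[X] := by
  rw [Polynomial.algebraMap_eq, Ideal.mem_map_C_iff] at hQ
  have h0 := hQ 0
  rw [coeff_sub, coeff_one_zero] at h0
  have hu : IsUnit (Q.coeff 0) := by
    by_contra hnu
    have h1 : Q.coeff 0 ∈ maximalIdeal R := (mem_maximalIdeal _).mpr hnu
    have h2 : (1 : R) ∈ maximalIdeal R := by
      have := (maximalIdeal R).sub_mem h1 h0
      simpa using this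
    exact (Ideal.ne_top_iff_one _).mp (maximalIdeal.isMaximal R).ne_top h2
  exact Polynomial.mem_nonzeroDivisors_of_coeff_mem 0 hu.mem_nonZeroDivisors

/-- invertible modules over `R[X] / m R[X] = k[X]` are free -/
theorem free_of_invertible_quot (P : Type u) [AddCommGroup P]
    [Module (R[X] ⧸ (maximalIdeal R).map (algebraMap R R[X])) P]
    [Module.Invertible (R[X] ⧸ (maximalIdeal R).map (algebraMap R R[X])) P] :
    Module.Free (R[X] ⧸ (maximalIdeal R).map (algebraMap R R[X])) P := by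
  have e : (ResidueField R)[X] ≃+* R[X] ⧸ (maximalIdeal R).map (algebraMap R R[X]) :=
    Ideal.polynomialQuotientEquivQuotientPolynomial (maximalIdeal R)
  haveI : IsDomain (R[X] ⧸ (maximalIdeal R).map (algebraMap R R[X])) :=
    e.symm.toMulEquiv.isDomain
  haveI : IsGCDMonoid (R[X] ⧸ (maximalIdeal R).map (algebraMap R R[X])) :=
    Groth.Agent.R2.H18.PicVal.isGCDMonoid_of_ringEquiv e
  infer_instance

end Poly


section Hens

variable {R : Type u} [CommRing R] [HenselianLocalRing R] {B : Type u} [CommRing B] [Algebra R B]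
  [Algebra R[X] B] [IsScalarTower R R[X] B]
  (hB : Hens2.IsPairHenselization R[X] (Ideal.span {(X : R[X])}) B)
  (Λ : Type u) [CommRing Λ] [Algebra B Λ] [IsLocalization.Away (algebraMap R[X] B X) Λ]
  [Algebra R Λ] [IsScalarTower R B Λ]
  (ψ : R[X] →ₐ[R] Λ) (hψ : ψ X * algebraMap B Λ (algebraMap R[X] B X) = 1)

omit [IsLocalization.Away (algebraMap R[X] B X) Λ] in
theorem map_max_eq :
    (maximalIdeal R).map (algebraMap R Λ) =
      ((maximalIdeal R).map (algebraMap R B)).map (algebraMap B Λ) := by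
  rw [Ideal.map_map, ← IsScalarTower.algebraMap_eq]

include hB in
/-- an element of `B` whose image lies in `mΛ` lies in `mB` -/
theorem mem_of_algebraMap_mem (b : B)
    (hb : algebraMap B Λ b ∈ (maximalIdeal R).map (algebraMap R Λ)) :
    b ∈ (maximalIdeal R).map (algebraMap R B) := by
  rw [map_max_eq (B := B) Λ,
    IsLocalization.mem_map_algebraMap_iff (Submonoid.powers (algebraMap R[X] B X)) Λ] at hb
  obtain ⟨⟨⟨μ, hμ⟩, ⟨_, n, rfl⟩⟩, hνμ⟩ := hb
  simp only at hνμ
  rw [← map_mul, IsLocalization.eq_iff_exists (Submonoid.powers (algebraMap R[X] B X)) Λ] at hνμ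
  obtain ⟨⟨_, k, rfl⟩, hk⟩ := hνμ
  simp only at hk
  apply of_t_pow_mul_mem hB (maximalIdeal R) (k + n) b
  have : algebraMap R[X] B X ^ (k + n) * b = algebraMap R[X] B X ^ k * μ := by
    rw [← hk, pow_add]; ring
  rw [this]
  exact Ideal.mul_mem_left _ _ hμ

include hB in
theorem map_max_ne_top : (maximalIdeal R).map (algebraMap R Λ) ≠ ⊤ := by
  intro h
  have h1 : algebraMap B Λ 1 ∈ (maximalIdeal R).map (algebraMap R Λ) := by rw [h]; trivial
  have h2 := mem_of_algebraMap_mem hB Λ 1 h1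
  have h3 := eps_mem_of_mem_map hB (maximalIdeal R) h2
  rw [map_one] at h3
  exact (Ideal.ne_top_iff_one _).mp (maximalIdeal.isMaximal R).ne_top h3

omit [HenselianLocalRing R] [IsLocalization.Away (algebraMap R[X] B X) Λ] in
theorem psi_eq_aeval (p : R[X]) : ψ p = Polynomial.aeval (ψ X) p := by
  rw [Polynomial.aeval_algHom_apply, Polynomial.aeval_X_left_apply]

omit [HenselianLocalRing R] [IsLocalization.Away (algebraMap R[X] B X) Λ] in
include hψ in
/-- `ψ (reverse P) * T ^ deg P = P(T)` -/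
theorem psi_reverse_mul (P : R[X]) :
    ψ P.reverse * algebraMap B Λ (algebraMap R[X] B X) ^ P.natDegree =
      algebraMap B Λ (algebraMap R[X] B P) := by
  letI : Invertible (algebraMap B Λ (algebraMap R[X] B X)) :=
    ⟨ψ X, hψ, by rw [mul_comm]; exact hψ⟩
  have h := Polynomial.eval₂_reverse_mul_pow (algebraMap R Λ)
    (algebraMap B Λ (algebraMap R[X] B X)) P
  have h1 : algebraMap B Λ (algebraMap R[X] B P) =
      eval₂ (algebraMap R Λ) (algebraMap B Λ (algebraMap R[X] B X)) P := by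
    rw [algebraMap_algebraMap_eq_aeval Λ P, Polynomial.aeval_def]
  rw [h1, ← h, psi_eq_aeval Λ ψ, Polynomial.aeval_def]
  rfl

omit [HenselianLocalRing R] in
/-- the reverse of a Weierstrass polynomial lies in `1 + m R[X]` -/
theorem reverse_sub_one_mem [IsLocalRing R] (P : R[X]) (hP : P.Monic)
    (hlow : ∀ i < P.natDegree, P.coeff i ∈ maximalIdeal R) :
    P.reverse - 1 ∈ (maximalIdeal R).map (algebraMap R R[X]) := by
  rw [Polynomial.algebraMap_eq, Ideal.mem_map_C_iff]
  intro k
  rw [coeff_sub]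
  rcases Nat.eq_zero_or_pos k with rfl | hk
  · rw [coeff_zero_reverse, hP.leadingCoeff, coeff_one_zero, sub_self]
    exact zero_mem _
  · rw [coeff_one, if_neg hk.ne', sub_zero, coeff_reverse]
    by_cases hle : k ≤ P.natDegree
    · rw [revAt_le hle]
      exact hlow _ (by omega)
    · rw [revAt, Function.Embedding.coeFn_mk, if_neg hle,
        coeff_eq_zero_of_natDegree_lt (not_le.mp hle)]
      exact zero_mem _

include hB hψ in
/-- elements of `Λ` outside `mΛ` are of the form `ψ(Q) · unit` with `Q ∈ 1 + m R[s]` and `ψ Q` regular -/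
theorem exists_factor (l : Λ) (hl : l ∉ (maximalIdeal R).map (algebraMap R Λ)) :
    ∃ Q : R[X], Q - 1 ∈ (maximalIdeal R).map (algebraMap R R[X]) ∧
      ψ Q ∈ nonZeroDivisors Λ ∧ ∃ u : Λˣ, l = ψ Q * u := by
  set T : Λ := algebraMap B Λ (algebraMap R[X] B X) with hT
  have hTu : IsUnit T := IsUnit.of_mul_eq_one (ψ X) (by rw [mul_comm]; exact hψ)
  have hsu : IsUnit (ψ X) := IsUnit.of_mul_eq_one T hψ
  obtain ⟨n, b, hb⟩ := IsLocalization.Away.surj (algebraMap R[X] B X) l
  have hlb : l = algebraMap B Λ b * ψ X ^ n := by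
    rw [← hb, mul_assoc, ← mul_pow, mul_comm T, hψ, one_pow, mul_one]
  have hbm : b ∉ (maximalIdeal R).map (algebraMap R B) := by
    intro hmem
    apply hl
    rw [hlb, map_max_eq (B := B) Λ]
    exact Ideal.mul_mem_right _ _ (Ideal.mem_map_of_mem _ hmem)
  obtain ⟨P, u₀, hPm, hPlow, hbP⟩ := exists_factorization hB b hbm
  have hrev := psi_reverse_mul Λ ψ hψ P
  have hQ : ψ P.reverse = algebraMap B Λ (algebraMap R[X] B P) * ψ X ^ P.natDegree := by
    rw [← hrev, mul_assoc, ← mul_pow, mul_comm T, hψ, one_pow, mul_one]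
  refine ⟨P.reverse, reverse_sub_one_mem P hPm hPlow, ?_, ?_⟩
  · rw [hQ]
    refine mul_mem ?_ (hsu.pow _).mem_nonZeroDivisors
    apply IsLocalization.map_nonZeroDivisors_le (Submonoid.powers (algebraMap R[X] B X)) Λ
    refine ⟨algebraMap R[X] B P, ?_, rfl⟩
    rw [SetLike.mem_coe, mem_nonZeroDivisors_iff_right]
    intro x hx
    apply algebraMap_monic_regular hB P hPm x 0
    rw [mul_zero, mul_comm]; exact hx
  · have hunit : IsUnit (T ^ P.natDegree * algebraMap B Λ (u₀ : B) * ψ X ^ n) :=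
      ((hTu.pow _).mul (u₀.isUnit.map _)).mul (hsu.pow _)
    refine ⟨hunit.unit, ?_⟩
    rw [IsUnit.unit_spec, hlb, hbP, map_mul, ← hrev]
    ring

end Hens

end Groth.Agent.R2.H18.PicLaurent
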