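import Mathlib
import Groth.Agent.R2.H18PicLaurentA
import Groth.Agent.R2.H18PicLaurentB
import Groth.Agent.R2.H18HensLaurent
import Groth.Agent.S19779

/-!
# `Pic R[t⁻¹] → Pic R((t))` is bijective for `R` Henselian local (helper18)
-/

set_option autoImplicit false
set_option linter.unusedSectionVars false
universe u

open Polynomial IsLocalRing TensorProduct

namespace Groth.Agent.R2.H18.PicLaurent

open Groth.Agent.Lib.Helper26.PairHz Groth.Agent.R2.H18.WeierC Groth.Agent.R2.H18.WeierD
  Groth.Agent.R2.H18.WeierE Groth.Agent.R2.H18.HensLaurent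

/-- `B[1/t]`, to be regarded as an `R[s]`-algebra via `s ↦ t⁻¹` (type synonym, so that this
structure does not clash with the `R[t]`-algebra structure of the localization). -/
def Ls (R : Type u) [CommRing R] (B : Type u) [CommRing B] [Algebra R[X] B] : Type u :=
  Localization.Away (algebraMap R[X] B X)

section Inst

variable (R : Type u) [CommRing R] (B : Type u) [CommRing B] [Algebra R[X] B]

noncomputable instance : CommRing (Ls R B) :=
  inferInstanceAs (CommRing (Localization.Away (algebraMap R[X] B X)))

noncomputable instance : Algebra B (Ls R B) :=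
  inferInstanceAs (Algebra B (Localization.Away (algebraMap R[X] B X)))

instance : IsLocalization.Away (algebraMap R[X] B X) (Ls R B) :=
  inferInstanceAs (IsLocalization.Away (algebraMap R[X] B X) (Localization.Away (algebraMap R[X] B X)))

variable [Algebra R B] [IsScalarTower R R[X] B]

noncomputable instance : Algebra R (Ls R B) :=
  inferInstanceAs (Algebra R (Localization.Away (algebraMap R[X] B X)))

instance : IsScalarTower R B (Ls R B) :=
  inferInstanceAs (IsScalarTower R B (Localization.Away (algebraMap R[X] B X)))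

/-- `R[s] → B[1/t]`, `s ↦ t⁻¹` -/
noncomputable def sHom : R[X] →ₐ[R] Ls R B :=
  Polynomial.aeval (IsLocalization.Away.invSelf (S := Ls R B) (algebraMap R[X] B X))

theorem sHom_X_mul :
    sHom R B X * algebraMap B (Ls R B) (algebraMap R[X] B X) = 1 := by
  rw [sHom, Polynomial.aeval_X, mul_comm]
  exact IsLocalization.Away.mul_invSelf _

noncomputable instance : Algebra R[X] (Ls R B) := (sHom R B).toRingHom.toAlgebra

theorem algebraMap_Ls : algebraMap R[X] (Ls R B) = (sHom R B).toRingHom := rfl

end Inst


section Main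

variable {R : Type u} [CommRing R] [HenselianLocalRing R] {B : Type u} [CommRing B] [Algebra R B]
  [Algebra R[X] B] [IsScalarTower R R[X] B]
  (hB : Hens2.IsPairHenselization R[X] (Ideal.span {(X : R[X])}) B)

omit [HenselianLocalRing R] in
theorem map_a_eq [IsLocalRing R] :
    ((maximalIdeal R).map (algebraMap R R[X])).map (algebraMap R[X] (Ls R B)) =
      (maximalIdeal R).map (algebraMap R (Ls R B)) := by
  rw [Ideal.map_map, algebraMap_Ls]
  congr 1
  exact (sHom R B).comp_algebraMap

include hB in
theorem fibreData : FibreData R[X] (Ls R B) ((maximalIdeal R).map (algebraMap R R[X])) where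
  h1 := fun I hI => (hens_part_one hB (Ls R B) (sHom R B) (sHom_X_mul R B) I hI).1
  h2 := fun J hJ => by
    rw [map_a_eq] at hJ
    exact hens_part_two hB (Ls R B) (sHom R B) (sHom_X_mul R B) J hJ
  h3 := fun l hl => by
    rw [map_a_eq] at hl
    exact exists_factor hB (Ls R B) (sHom R B) (sHom_X_mul R B) l hl
  h4 := mem_nonZeroDivisors_of_sub_one_mem
  h5 := by
    rw [map_a_eq]
    exact map_max_ne_top hB (Ls R B)
  h6 := fun P _ _ _ => free_of_invertible_quot P

variable (ψ' : B →ₐ[R[X]] PowerSeries R)

omit [HenselianLocalRing R] in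
/-- the image of `t⁻¹` in `R((t))` -/
theorem toLaurent_sHom_X :
    toLaurent ψ' (sHom R B X) = HahnSeries.single (-1 : ℤ) (1 : R) := by
  have h1 : toLaurent ψ' (sHom R B X) *
      toLaurent ψ' (algebraMap B (Ls R B) (algebraMap R[X] B X)) = 1 :=
    ((toLaurent ψ').map_mul _ _).symm.trans
      ((congrArg (toLaurent ψ') (sHom_X_mul R B)).trans (toLaurent ψ').map_one)
  have h2' : toLaurent ψ' (algebraMap B (Localization.Away (algebraMap R[X] B X))
      (algebraMap R[X] B X)) = HahnSeries.single (1 : ℤ) (1 : R) := by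
    rw [toLaurent_algebraMap, psi_algebraMap, Polynomial.coe_X, HahnSeries.ofPowerSeries_X]
  have h2 : toLaurent ψ' (algebraMap B (Ls R B) (algebraMap R[X] B X)) =
      HahnSeries.single (1 : ℤ) (1 : R) := h2'
  rw [h2] at h1
  have h3 : HahnSeries.single (1 : ℤ) (1 : R) * HahnSeries.single (-1 : ℤ) (1 : R) = 1 := by
    rw [HahnSeries.single_mul_single]; simp
  calc toLaurent ψ' (sHom R B X)
      = toLaurent ψ' (sHom R B X) * (HahnSeries.single (1 : ℤ) (1 : R) *
          HahnSeries.single (-1 : ℤ) (1 : R)) := by rw [h3, mul_one]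
    _ = HahnSeries.single (-1 : ℤ) (1 : R) := by rw [← mul_assoc, h1, one_mul]

omit [HenselianLocalRing R] in
theorem toLaurent_sHom_C (r : R) :
    toLaurent ψ' (sHom R B (C r)) = HahnSeries.C r := by
  have h1 : sHom R B (C r) = algebraMap B (Localization.Away (algebraMap R[X] B X))
      (algebraMap R[X] B (C r)) := by
    rw [← Polynomial.algebraMap_eq, AlgHom.commutes, IsScalarTower.algebraMap_apply R B (Ls R B),
      IsScalarTower.algebraMap_apply R R[X] B]
    rfl
  rw [h1, toLaurent_algebraMap, psi_algebraMap, Polynomial.coe_C, HahnSeries.ofPowerSeries_C]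

include hB in
/-- **S15753**, for the algebra structure `s ↦ t⁻¹` on `R((t))`. -/
theorem pic_laurent [Algebra R[X] (LaurentSeries R)]
    (halg : algebraMap R[X] (LaurentSeries R) =
      Polynomial.eval₂RingHom (HahnSeries.C) (HahnSeries.single (-1 : ℤ) (1 : R))) :
    (∀ (M : Type u) [AddCommGroup M] [Module R[X] M] [Module.Invertible R[X] M],
        Module.Free (LaurentSeries R) (LaurentSeries R ⊗[R[X]] M) → Module.Free R[X] M) ∧
    (∀ (L : Type u) [AddCommGroup L] [Module (LaurentSeries R) L]
        [Module.Invertible (LaurentSeries R) L],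
        ∃ (M : Type u) (_ : AddCommGroup M) (_ : Module R[X] M), Module.Invertible R[X] M ∧
          Nonempty (L ≃ₗ[LaurentSeries R] LaurentSeries R ⊗[R[X]] M)) := by
  obtain ⟨ψ', -⟩ := exists_toPowerSeries hB
  letI algK0 : Algebra (Localization.Away (algebraMap R[X] B X)) (LaurentSeries R) := algL ψ'
  letI algK : Algebra (Ls R B) (LaurentSeries R) := algK0
  haveI : IsScalarTower R[X] (Ls R B) (LaurentSeries R) := by
    refine IsScalarTower.of_algebraMap_eq' ?_
    rw [halg]
    refine Polynomial.ringHom_ext (fun r => ?_) ?_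
    · rw [Polynomial.coe_eval₂RingHom, Polynomial.eval₂_C]
      exact (toLaurent_sHom_C ψ' r).symm
    · rw [Polynomial.coe_eval₂RingHom, Polynomial.eval₂_X]
      exact (toLaurent_sHom_X ψ').symm
  have hS := Groth.Agent.S19779.result R B hB ψ' (LaurentSeries R) (RingEquiv.refl _)
    (fun b => by rw [RingEquiv.refl_apply]; exact toLaurent_algebraMap ψ' b)
  refine pic_bijective (S := R[X]) (Λ := Ls R B) (K := LaurentSeries R) (fibreData hB) ?_ ?_
  · intro N N' i1 i2 i3 i4 i5 i6 i7 i8 h
    have hS1 := hS.1
    exact @hS1 N N' i1 i2 i3 i4 i5 i6 i7 i8 h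
  · intro L i1 i2 i3 i4
    have hS2 := hS.2
    exact @hS2 L i1 i2 i3 i4

end Main

end Groth.Agent.R2.H18.PicLaurent
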