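import Mathlib

/-!
# Gauss–Kronecker for integrally closed domains (helper18)

If `A` is an integrally closed domain with fraction field `K` and `f g : K[X]` have `f * g ∈ A[X]`,
then every product `f.coeff i * g.coeff j` lies in `A`.  Proof via valuation rings.
-/

set_option autoImplicit false

open Polynomial

namespace Groth.Agent.R2.H18.PicNormal

section Val

variable {K Γ₀ : Type*} [CommRing K] [LinearOrderedCommGroupWithZero Γ₀] (v : Valuation K Γ₀)

theorem mul_lt_mul_aux (a b α β : Γ₀) (h1 : a < α) (h2 : b ≤ β) (hβ : β ≠ 0) : a * b < α * β := by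
  have hβ' : 0 < β := zero_lt_iff.mpr hβ
  calc a * b ≤ a * β := mul_le_mul_right h2 a
    _ < α * β := MulPosStrictMono.mul_lt_mul_of_pos_right hβ' h1

/-- the least index where the valuation of the coefficients is maximal -/
theorem exists_max_index (f : K[X]) (hf : ∃ i, v (f.coeff i) ≠ 0) :
    ∃ i₀, v (f.coeff i₀) ≠ 0 ∧ (∀ i, v (f.coeff i) ≤ v (f.coeff i₀)) ∧
      ∀ i < i₀, v (f.coeff i) < v (f.coeff i₀) := by
  classical
  have hne : f.support.Nonempty := by
    obtain ⟨i, hi⟩ := hf
    refine ⟨i, ?_⟩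
    rw [mem_support_iff]
    intro h0
    rw [h0, map_zero] at hi
    exact hi rfl
  obtain ⟨m, -, hm⟩ := Finset.exists_max_image f.support (fun i => v (f.coeff i)) hne
  have hmax : ∀ i, v (f.coeff i) ≤ v (f.coeff m) := by
    intro i
    by_cases hi : i ∈ f.support
    · exact hm i hi
    · rw [notMem_support_iff.mp hi, map_zero]; exact zero_le'
  have hex : ∃ i, ∀ i', v (f.coeff i') ≤ v (f.coeff i) := ⟨m, hmax⟩
  refine ⟨Nat.find hex, ?_, Nat.find_spec hex, ?_⟩
  · obtain ⟨i, hi⟩ := hf
    intro h0
    have := Nat.find_spec hex i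
    rw [h0] at this
    exact hi (le_antisymm this zero_le')
  · intro i hi
    have h := Nat.find_min hex hi
    push Not at h
    obtain ⟨i', hi'⟩ := h
    exact lt_of_lt_of_le hi' (Nat.find_spec hex i')

/-- **Gauss lemma for valuations**: if all coefficients of `f * g` have valuation `≤ 1`, so do all
products of a coefficient of `f` and a coefficient of `g`. -/
theorem coeff_mul_coeff_le (f g : K[X]) (h : ∀ n, v ((f * g).coeff n) ≤ 1) (i j : ℕ) :
    v (f.coeff i * g.coeff j) ≤ 1 := by
  classical
  by_cases hf : ∃ i, v (f.coeff i) ≠ 0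
  swap
  · push Not at hf
    rw [map_mul, hf i, zero_mul]; exact zero_le'
  by_cases hg : ∃ j, v (g.coeff j) ≠ 0
  swap
  · push Not at hg
    rw [map_mul, hg j, mul_zero]; exact zero_le'
  obtain ⟨i₀, hi₀, hfmax, hfmin⟩ := exists_max_index v f hf
  obtain ⟨j₀, hj₀, hgmax, hgmin⟩ := exists_max_index v g hg
  have hmem : (i₀, j₀) ∈ Finset.HasAntidiagonal.antidiagonal (i₀ + j₀) := by simp
  have hrest : v (∑ x ∈ (Finset.HasAntidiagonal.antidiagonal (i₀ + j₀)).erase (i₀, j₀), f.coeff x.1 * g.coeff x.2) <
      v (f.coeff i₀) * v (g.coeff j₀) := by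
    apply Valuation.map_sum_lt v (mul_ne_zero hi₀ hj₀)
    rintro ⟨a, b⟩ hab
    rw [Finset.mem_erase, Finset.HasAntidiagonal.mem_antidiagonal] at hab
    obtain ⟨hne, hsum⟩ := hab
    simp only at hsum
    rw [map_mul]
    rcases lt_or_ge a i₀ with ha | ha
    · exact mul_lt_mul_aux _ _ _ _ (hfmin a ha) (hgmax b) hj₀
    · have hb : b < j₀ := by
        by_contra hb
        push Not at hb
        apply hne
        have : a = i₀ ∧ b = j₀ := by omega
        rw [this.1, this.2]
      rw [mul_comm (v (f.coeff a)), mul_comm (v (f.coeff i₀))]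
      exact mul_lt_mul_aux _ _ _ _ (hgmin b hb) (hfmax a) hi₀
  have hcoeff : v ((f * g).coeff (i₀ + j₀)) = v (f.coeff i₀) * v (g.coeff j₀) := by
    rw [coeff_mul, ← Finset.add_sum_erase _ _ hmem, ← map_mul]
    apply Valuation.map_add_eq_of_lt_left
    rw [map_mul]
    exact hrest
  have hle := h (i₀ + j₀)
  rw [hcoeff] at hle
  rw [map_mul]
  exact le_trans (mul_le_mul' (hfmax i) (hgmax j)) hle

end Val

section IntClosed

variable {A K : Type*} [CommRing A] [IsDomain A] [IsIntegrallyClosed A] [Field K] [Algebra A K]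
  [IsFractionRing A K]

/-- **Gauss–Kronecker** for integrally closed domains. -/
theorem coeff_mul_coeff_mem (f g : K[X]) (h : ∀ n, (f * g).coeff n ∈ (algebraMap A K).range)
    (i j : ℕ) : f.coeff i * g.coeff j ∈ (algebraMap A K).range := by
  by_contra hx
  haveI : IsIntegrallyClosedIn (algebraMap A K).range K := by
    rw [Subring.isIntegrallyClosedIn_iff]
    intro x hx
    have hx' : IsIntegral A x := by
      obtain ⟨p, hp, hpx⟩ := hx
      obtain ⟨q, hq⟩ := Polynomial.map_surjective _
        (algebraMap A K).rangeRestrict_surjective p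
      refine ⟨q, ?_, ?_⟩
      · refine Polynomial.monic_of_injective (f := (algebraMap A K).rangeRestrict) ?_
          (by rw [hq]; exact hp)
        intro a b hab
        apply IsFractionRing.injective A K
        exact congrArg Subtype.val hab
      · rw [← hpx, ← hq, Polynomial.eval₂_map]
        rfl
    obtain ⟨a, ha⟩ := IsIntegrallyClosed.isIntegral_iff.mp hx'
    exact ⟨a, ha⟩
  obtain ⟨V, hV, hxV⟩ := Subring.exists_le_valuationSubring_of_isIntegrallyClosedIn hx
  apply hxV
  rw [← V.valuation_le_one_iff]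
  apply coeff_mul_coeff_le
  intro n
  rw [V.valuation_le_one_iff]
  exact hV (h n)

end IntClosed

end Groth.Agent.R2.H18.PicNormal
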