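import Mathlib
import Groth.Agent.R2.H18PicNormalA

/-!
# `Pic A → Pic A[X]` is surjective for integrally closed domains (helper18)
-/

set_option autoImplicit false

open Polynomial TensorProduct

namespace Groth.Agent.R2.H18.PicNormal

universe u

attribute [local instance] Polynomial.algebra

section Content

variable {A K : Type u} [CommRing A] [Field K] [Algebra A K]

/-- the `A`-submodule of `K` generated by the coefficients of the elements of `W` -/
def cont (W : Submodule A[X] K[X]) : Submodule A K :=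
  Submodule.span A {x | ∃ p ∈ W, ∃ i : ℕ, p.coeff i = x}

theorem coeff_mem_cont (W : Submodule A[X] K[X]) {p : K[X]} (hp : p ∈ W) (i : ℕ) :
    p.coeff i ∈ cont W :=
  Submodule.subset_span ⟨p, hp, i, rfl⟩

theorem mem_one_poly_iff (z : K[X]) :
    z ∈ (1 : Submodule A[X] K[X]) ↔ ∀ n, z.coeff n ∈ (algebraMap A K).range := by
  rw [Submodule.mem_one]
  constructor
  · rintro ⟨r, rfl⟩ n
    exact ⟨r.coeff n, by simp⟩
  · intro h
    have hz : z ∈ Polynomial.lifts (algebraMap A K) := by
      rw [Polynomial.lifts_iff_coeff_lifts]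
      intro n
      obtain ⟨a, ha⟩ := h n
      exact ⟨a, ha⟩
    obtain ⟨r, hr⟩ := hz
    exact ⟨r, hr⟩

/-- coefficients of elements of `W₁ * W₂` lie in `cont W₁ * cont W₂` -/
theorem coeff_mem_cont_mul (W₁ W₂ : Submodule A[X] K[X]) {z : K[X]} (hz : z ∈ W₁ * W₂) (n : ℕ) :
    z.coeff n ∈ cont W₁ * cont W₂ := by
  revert n
  refine Submodule.mul_induction_on hz ?_ ?_
  · intro p hp q hq n
    rw [coeff_mul]
    exact Submodule.sum_mem _ fun x _ =>
      Submodule.mul_mem_mul (coeff_mem_cont W₁ hp _) (coeff_mem_cont W₂ hq _)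
  · intro x y hx hy n
    rw [coeff_add]; exact Submodule.add_mem _ (hx n) (hy n)

variable [IsDomain A] [IsIntegrallyClosed A] [IsFractionRing A K]

/-- Gauss–Kronecker: `W₁ * W₂ ≤ 1` implies `cont W₁ * cont W₂ ≤ 1` -/
theorem cont_mul_cont_le_one (W₁ W₂ : Submodule A[X] K[X]) (h : W₁ * W₂ ≤ 1) :
    cont W₁ * cont W₂ ≤ 1 := by
  rw [cont, cont, Submodule.span_mul_span, Submodule.span_le]
  rintro _ ⟨_, ⟨p, hp, i, rfl⟩, _, ⟨q, hq, j, rfl⟩, rfl⟩
  have hpq : p * q ∈ (1 : Submodule A[X] K[X]) := h (Submodule.mul_mem_mul hp hq)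
  rw [mem_one_poly_iff] at hpq
  obtain ⟨a, ha⟩ := coeff_mul_coeff_mem (A := A) p q hpq i j
  exact Submodule.mem_one.mpr ⟨a, ha⟩

theorem cont_mul_cont_eq_one (W₁ W₂ : Submodule A[X] K[X]) (h : W₁ * W₂ = 1) :
    cont W₁ * cont W₂ = 1 := by
  apply le_antisymm (cont_mul_cont_le_one W₁ W₂ h.le)
  rw [Submodule.one_le]
  have h1 : (1 : K[X]) ∈ W₁ * W₂ := by rw [h]; exact Submodule.one_le.mp le_rfl
  have := coeff_mem_cont_mul W₁ W₂ h1 0
  rwa [coeff_one_zero] at this

end Content


section Main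

variable {A K : Type u} [CommRing A] [IsDomain A] [IsIntegrallyClosed A] [Field K] [Algebra A K]
  [IsFractionRing A K]

omit [IsDomain A] [IsIntegrallyClosed A] [IsFractionRing A K] in
theorem smul_poly_def (r : A[X]) (q : K[X]) : r • q = r.map (algebraMap A K) * q := by
  rw [Algebra.smul_def]; rfl

/-- constants from the content of `U` lie in `U` -/
theorem C_coeff_mem (U : (Submodule A[X] K[X])ˣ) {p : K[X]} (hp : p ∈ (U : Submodule A[X] K[X]))
    (i : ℕ) : C (p.coeff i) ∈ (U : Submodule A[X] K[X]) := by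
  have hcc := cont_mul_cont_le_one (A := A) (U : Submodule A[X] K[X]) (↑U⁻¹ : Submodule A[X] K[X])
    (by rw [Units.mul_inv])
  -- `C (p.coeff i) * q ∈ 1` for `q ∈ U⁻¹`
  have h1 : ∀ q ∈ (↑U⁻¹ : Submodule A[X] K[X]), C (p.coeff i) * q ∈ (1 : Submodule A[X] K[X]) := by
    intro q hq
    rw [mem_one_poly_iff]
    intro n
    rw [coeff_C_mul]
    have := hcc (Submodule.mul_mem_mul (coeff_mem_cont _ hp i) (coeff_mem_cont _ hq n))
    obtain ⟨a, ha⟩ := Submodule.mem_one.mp this
    exact ⟨a, ha⟩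
  have h2 : ∀ z ∈ (↑U⁻¹ : Submodule A[X] K[X]) * (U : Submodule A[X] K[X]),
      C (p.coeff i) * z ∈ (U : Submodule A[X] K[X]) := by
    intro z hz
    refine Submodule.mul_induction_on hz ?_ ?_
    · intro q hq p' hp'
      obtain ⟨r, hr⟩ := Submodule.mem_one.mp (h1 q hq)
      rw [← mul_assoc, ← hr, ← Algebra.smul_def]
      exact Submodule.smul_mem _ _ hp'
    · intro x y hx hy
      rw [mul_add]; exact Submodule.add_mem _ hx hy
  have h3 : (1 : K[X]) ∈ (↑U⁻¹ : Submodule A[X] K[X]) * (U : Submodule A[X] K[X]) := by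
    rw [Units.inv_mul]; exact Submodule.one_le.mp le_rfl
  have := h2 1 h3
  rwa [mul_one] at this

omit [IsDomain A] [IsIntegrallyClosed A] [IsFractionRing A K] in
/-- the `A`-linear map `𝔞 → K[X]`, `a ↦ C a` -/
noncomputable def constMap (𝔞 : Submodule A K) : 𝔞 →ₗ[A] K[X] where
  toFun a := C (a : K)
  map_add' a b := by simp
  map_smul' c a := by
    simp only [Submodule.coe_smul, RingHom.id_apply]
    rw [Algebra.smul_def, map_mul, Algebra.smul_def]
    rfl

/-- **Invertible modules over `A[X]` are extended from `A`**, for `A` an integrally closed domain. -/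
theorem exists_extended (M : Type u) [AddCommGroup M] [Module A[X] M] [Module.Invertible A[X] M] :
    ∃ (𝔞 : Submodule A K), Module.Invertible A 𝔞 ∧ Nonempty (M ≃ₗ[A[X]] A[X] ⊗[A] 𝔞) := by
  haveI : FaithfulSMul A[X] K[X] := by
    rw [faithfulSMul_iff_algebraMap_injective]
    exact Polynomial.map_injective _ (IsFractionRing.injective A K)
  haveI : FaithfulSMul A K := by
    rw [faithfulSMul_iff_algebraMap_injective]
    exact IsFractionRing.injective A K
  -- `M` is isomorphic to an invertible submodule of `K[X]`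
  have hmem : CommRing.Pic.mk A[X] M ∈ CommRing.relPic A[X] K[X] := by
    rw [CommRing.relPic_eq_top]; trivial
  rw [← Submodule.range_unitsToPic A[X] K[X]] at hmem
  obtain ⟨U, hU⟩ := hmem
  obtain ⟨eU⟩ := CommRing.Pic.mk_eq_mk_iff.mp hU
  -- the content of `U` is invertible
  have hcont := cont_mul_cont_eq_one (A := A) (U : Submodule A[X] K[X])
    (↑U⁻¹ : Submodule A[X] K[X]) (by rw [Units.mul_inv])
  obtain ⟨𝔞u, h𝔞u⟩ : ∃ 𝔞u : (Submodule A K)ˣ, (𝔞u : Submodule A K) = cont (U : Submodule A[X] K[X]) :=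
    ⟨⟨cont (U : Submodule A[X] K[X]), cont (↑U⁻¹ : Submodule A[X] K[X]), hcont,
      by rw [mul_comm]; exact hcont⟩, rfl⟩
  have hinv : Module.Invertible A (𝔞u : Submodule A K) := inferInstance
  rw [h𝔞u] at hinv
  refine ⟨cont (U : Submodule A[X] K[X]), hinv, ?_⟩
  -- the map `A[X] ⊗ 𝔞 → U`
  set g : A[X] ⊗[A] cont (U : Submodule A[X] K[X]) →ₗ[A[X]] K[X] :=
    LinearMap.liftBaseChange A[X] (constMap (cont (U : Submodule A[X] K[X]))) with hg
  have hgU : ∀ z, g z ∈ (U : Submodule A[X] K[X]) := by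
    intro z
    induction z using TensorProduct.induction_on with
    | zero => simp
    | tmul r a =>
      rw [hg, LinearMap.liftBaseChange_tmul]
      apply Submodule.smul_mem
      -- `C a ∈ U` for `a` in the content
      obtain ⟨a, ha⟩ := a
      change C a ∈ (U : Submodule A[X] K[X])
      refine Submodule.span_induction ?_ ?_ ?_ ?_ ha
      · rintro _ ⟨p, hp, i, rfl⟩
        exact C_coeff_mem U hp i
      · simp
      · intro x y _ _ hx hy
        rw [map_add]; exact Submodule.add_mem _ hx hy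
      · intro c x _ hx
        have : C (c • x) = (C c : A[X]) • (C x : K[X]) := by
          rw [smul_poly_def, Polynomial.map_C, ← map_mul, Algebra.smul_def]
        rw [this]
        exact Submodule.smul_mem _ _ hx
    | add z₁ z₂ h₁ h₂ => rw [map_add]; exact Submodule.add_mem _ h₁ h₂
  set g' : A[X] ⊗[A] cont (U : Submodule A[X] K[X]) →ₗ[A[X]] (U : Submodule A[X] K[X]) :=
    LinearMap.codRestrict _ g hgU with hg'
  have hsurj : Function.Surjective g' := by
    rintro ⟨p, hp⟩
    refine ⟨∑ i ∈ Finset.range (p.natDegree + 1),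
      (X ^ i : A[X]) ⊗ₜ[A] (⟨p.coeff i, coeff_mem_cont _ hp i⟩ : cont (U : Submodule A[X] K[X])), ?_⟩
    apply Subtype.ext
    change g (∑ i ∈ Finset.range (p.natDegree + 1),
      (X ^ i : A[X]) ⊗ₜ[A] (⟨p.coeff i, coeff_mem_cont _ hp i⟩ : cont (U : Submodule A[X] K[X]))) = p
    rw [map_sum]
    conv_rhs => rw [Polynomial.as_sum_range_C_mul_X_pow p]
    refine Finset.sum_congr rfl fun i _ => ?_
    rw [hg, LinearMap.liftBaseChange_tmul, smul_poly_def, Polynomial.map_pow, Polynomial.map_X,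
      mul_comm]
    rfl
  have hbij := Module.Invertible.bijective_of_surjective hsurj
  exact ⟨eU.symm.trans (LinearEquiv.ofBijective g' hbij).symm⟩

end Main

end Groth.Agent.R2.H18.PicNormal
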