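import Mathlib
import Groth.Agent.R2.H18PicNormalB

/-!
# The Picard group of a normal affine cone is trivial (helper18)
-/

set_option autoImplicit false

open Polynomial TensorProduct

namespace Groth.Agent.R2.H18.PicNormal

universe u

section Homog

/-- evaluating a homogeneous polynomial at scaled variables -/
theorem eval₂_mul_of_isHomogeneous {σ k S : Type*} [CommSemiring k] [CommSemiring S] (ρ : k →+* S)
    (y : σ → S) (t : S) {f : MvPolynomial σ k} {d : ℕ} (hf : f.IsHomogeneous d) :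
    MvPolynomial.eval₂ ρ (fun i => y i * t) f = MvPolynomial.eval₂ ρ y f * t ^ d := by
  rw [MvPolynomial.eval₂_eq, MvPolynomial.eval₂_eq, Finset.sum_mul]
  refine Finset.sum_congr rfl fun m hm => ?_
  have hd := hf.degree_eq_sum_deg_support hm
  simp_rw [mul_pow]
  rw [Finset.prod_mul_distrib, Finset.prod_pow_eq_pow_sum, ← hd, mul_assoc]

end Homog

section PicSurj

variable {A : Type u} [CommRing A] [IsDomain A] [IsIntegrallyClosed A]

/-- `Pic A → Pic A[X]` is surjective for an integrally closed domain `A`. -/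
theorem mapAlgebra_surjective :
    Function.Surjective (CommRing.Pic.mapAlgebra A A[X]) := by
  intro N
  obtain ⟨𝔞, h𝔞, ⟨e⟩⟩ := exists_extended (A := A) (K := FractionRing A) N
  refine ⟨CommRing.Pic.mk A 𝔞, ?_⟩
  rw [CommRing.Pic.mapAlgebra_apply, CommRing.Pic.mk_eq_iff]
  exact ⟨(TensorProduct.AlgebraTensorModule.congr (LinearEquiv.refl A[X] A[X])
    (CommRing.Pic.mk.linearEquiv A 𝔞)).trans e.symm⟩

end PicSurj


section Cone

variable (k : Type u) [Field k] (n : ℕ) (I : Ideal (MvPolynomial (Fin n) k))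

/-- the scaling map `k[x] → (k[x]/I)[T]`, `x_i ↦ x_i T` -/
noncomputable def scaleHom₀ : MvPolynomial (Fin n) k →+* (MvPolynomial (Fin n) k ⧸ I)[X] :=
  MvPolynomial.eval₂Hom ((C : (MvPolynomial (Fin n) k ⧸ I) →+* _).comp
      (algebraMap k (MvPolynomial (Fin n) k ⧸ I)))
    (fun i => C (Ideal.Quotient.mk I (MvPolynomial.X i)) * X)

theorem eval₂_C_mk (f : MvPolynomial (Fin n) k) :
    MvPolynomial.eval₂ ((C : (MvPolynomial (Fin n) k ⧸ I) →+* _).comp
      (algebraMap k (MvPolynomial (Fin n) k ⧸ I)))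
      (fun i => C (Ideal.Quotient.mk I (MvPolynomial.X i))) f = C (Ideal.Quotient.mk I f) := by
  have : MvPolynomial.eval₂Hom ((C : (MvPolynomial (Fin n) k ⧸ I) →+* _).comp
      (algebraMap k (MvPolynomial (Fin n) k ⧸ I)))
      (fun i => C (Ideal.Quotient.mk I (MvPolynomial.X i))) =
      (C : (MvPolynomial (Fin n) k ⧸ I) →+* _).comp (Ideal.Quotient.mk I) := by
    apply MvPolynomial.ringHom_ext
    · intro r; simp; rfl
    · intro i; simp
  exact congrArg (fun g => g f) this

theorem scaleHom₀_of_isHomogeneous {f : MvPolynomial (Fin n) k} {d : ℕ} (hf : f.IsHomogeneous d) :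
    scaleHom₀ k n I f = C (Ideal.Quotient.mk I f) * X ^ d := by
  rw [scaleHom₀, MvPolynomial.coe_eval₂Hom, eval₂_mul_of_isHomogeneous _ _ _ hf, eval₂_C_mk]

variable (hI : ∃ s : Set (MvPolynomial (Fin n) k), (∀ f ∈ s, ∃ d : ℕ, f.IsHomogeneous d) ∧
  I = Ideal.span s)

include hI in
theorem le_ker_scaleHom₀ : I ≤ RingHom.ker (scaleHom₀ k n I) := by
  obtain ⟨s, hs, hIs⟩ := hI
  have h : Ideal.span s ≤ RingHom.ker (scaleHom₀ k n I) := by
    rw [Ideal.span_le]
    intro f hf
    obtain ⟨d, hd⟩ := hs f hf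
    rw [SetLike.mem_coe, RingHom.mem_ker, scaleHom₀_of_isHomogeneous k n I hd]
    have : Ideal.Quotient.mk I f = 0 := by
      rw [Ideal.Quotient.eq_zero_iff_mem, hIs]; exact Ideal.subset_span hf
    rw [this, map_zero, zero_mul]
  intro x hx
  rw [hIs] at hx
  exact h hx

/-- the scaling map `A → A[T]` -/
noncomputable def scaleHom : (MvPolynomial (Fin n) k ⧸ I) →+* (MvPolynomial (Fin n) k ⧸ I)[X] :=
  Ideal.Quotient.lift I (scaleHom₀ k n I) (fun x hx => le_ker_scaleHom₀ k n I hI hx)

theorem eval_one_comp_scaleHom :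
    (Polynomial.evalRingHom (1 : MvPolynomial (Fin n) k ⧸ I)).comp (scaleHom k n I hI) =
      RingHom.id _ := by
  apply Ideal.Quotient.ringHom_ext
  apply MvPolynomial.ringHom_ext
  · intro r
    simp [scaleHom, scaleHom₀]
    rfl
  · intro i
    simp [scaleHom, scaleHom₀]

theorem eval_zero_comp_scaleHom₀ :
    (Polynomial.evalRingHom (0 : MvPolynomial (Fin n) k ⧸ I)).comp (scaleHom₀ k n I) =
      (algebraMap k (MvPolynomial (Fin n) k ⧸ I)).comp
        (MvPolynomial.eval₂Hom (RingHom.id k) (fun _ => (0 : k))) := by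
  apply MvPolynomial.ringHom_ext
  · intro r
    simp [scaleHom₀]
  · intro i
    simp [scaleHom₀]

variable [Nontrivial (MvPolynomial (Fin n) k ⧸ I)]

include hI in
theorem le_ker_eval_zero : I ≤ RingHom.ker
    (MvPolynomial.eval₂Hom (RingHom.id k) (fun _ : Fin n => (0 : k))) := by
  intro x hx
  have h1 := le_ker_scaleHom₀ k n I hI hx
  rw [RingHom.mem_ker] at h1 ⊢
  have h2 := congrArg (fun g => g x) (eval_zero_comp_scaleHom₀ k n I)
  simp only [RingHom.comp_apply] at h2
  rw [h1, map_zero] at h2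
  exact (FaithfulSMul.algebraMap_injective k (MvPolynomial (Fin n) k ⧸ I)) (by rw [← h2, map_zero])

/-- evaluation at the vertex `A → k` -/
noncomputable def vertexHom : (MvPolynomial (Fin n) k ⧸ I) →+* k :=
  Ideal.Quotient.lift I (MvPolynomial.eval₂Hom (RingHom.id k) (fun _ : Fin n => (0 : k)))
    (fun x hx => le_ker_eval_zero k n I hI hx)

theorem eval_zero_comp_scaleHom :
    (Polynomial.evalRingHom (0 : MvPolynomial (Fin n) k ⧸ I)).comp (scaleHom k n I hI) =
      (algebraMap k (MvPolynomial (Fin n) k ⧸ I)).comp (vertexHom k n I hI) := by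
  apply Ideal.Quotient.ringHom_ext
  have := eval_zero_comp_scaleHom₀ k n I
  apply MvPolynomial.ringHom_ext
  · intro r
    have h := congrArg (fun g => g (MvPolynomial.C r)) this
    simpa [scaleHom, vertexHom] using h
  · intro i
    have h := congrArg (fun g => g (MvPolynomial.X i)) this
    simpa [scaleHom, vertexHom] using h

variable [IsDomain (MvPolynomial (Fin n) k ⧸ I)] [IsIntegrallyClosed (MvPolynomial (Fin n) k ⧸ I)]

include hI in
/-- **The Picard group of a normal affine cone is trivial.** -/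
theorem pic_cone_subsingleton (L : CommRing.Pic (MvPolynomial (Fin n) k ⧸ I)) : L = 1 := by
  obtain ⟨L₀, hL₀⟩ := mapAlgebra_surjective (A := MvPolynomial (Fin n) k ⧸ I)
    (CommRing.Pic.mapRingHom (scaleHom k n I hI) L)
  rw [← CommRing.Pic.mapRingHom_algebraMap] at hL₀
  have hc : ∀ a : MvPolynomial (Fin n) k ⧸ I, (Polynomial.evalRingHom a).comp
      (algebraMap (MvPolynomial (Fin n) k ⧸ I) (MvPolynomial (Fin n) k ⧸ I)[X]) = RingHom.id _ := by
    intro a
    exact RingHom.ext fun x => by simp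
  -- evaluate at `1`
  have h1 := congrArg (CommRing.Pic.mapRingHom
    (Polynomial.evalRingHom (1 : MvPolynomial (Fin n) k ⧸ I))) hL₀
  rw [CommRing.Pic.mapRingHom_mapRingHom, CommRing.Pic.mapRingHom_mapRingHom, hc,
    eval_one_comp_scaleHom, CommRing.Pic.mapRingHom_id_apply,
    CommRing.Pic.mapRingHom_id_apply] at h1
  -- evaluate at `0`
  have h0 := congrArg (CommRing.Pic.mapRingHom
    (Polynomial.evalRingHom (0 : MvPolynomial (Fin n) k ⧸ I))) hL₀
  rw [CommRing.Pic.mapRingHom_mapRingHom, CommRing.Pic.mapRingHom_mapRingHom, hc,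
    eval_zero_comp_scaleHom, CommRing.Pic.mapRingHom_id_apply,
    ← CommRing.Pic.mapRingHom_mapRingHom] at h0
  have hk : CommRing.Pic.mapRingHom (vertexHom k n I hI) L = 1 := Subsingleton.elim _ _
  rw [hk, map_one] at h0
  rw [← h1, h0]

end Cone

end Groth.Agent.R2.H18.PicNormal
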