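import Mathlib
import Groth.Agent.R2.H18PicValA
import Groth.Agent.R2.H18LApproxB

/-!
# Picard group of a polynomial ring over a product of valuation rings (helper18)
-/

set_option autoImplicit false
set_option linter.unusedSectionVars false
universe u

open Matrix TensorProduct

namespace Groth.Agent.R2.H18.PicVal

open Groth.Agent.R2.H18.LApprox

section RankOne

variable {D : Type*} [CommRing D] {N : Type*} [AddCommGroup N] [Module D N] {m : ℕ}
  (I : N →ₗ[D] (Fin m → D)) (P : (Fin m → D) →ₗ[D] N)

theorem toMatrix'_comp_apply (k j : Fin m) :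
    LinearMap.toMatrix' (I ∘ₗ P) k j = I (P (Pi.single j 1)) k := by
  rw [LinearMap.toMatrix'_apply, LinearMap.comp_apply]

theorem sum_smul_single (v : Fin m → D) : v = ∑ j, v j • (Pi.single j 1 : Fin m → D) := by
  ext k
  simp [Finset.sum_apply, Pi.single_apply]

/-- a split presentation of a free module of rank one gives a rank-one factorization of the
idempotent matrix -/
theorem exists_rankOne_factorization (hPI : P ∘ₗ I = LinearMap.id) (e : N ≃ₗ[D] D) :
    ∃ u w : Fin m → D, (∀ k j, LinearMap.toMatrix' (I ∘ₗ P) k j = u k * w j) ∧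
      ∑ j, w j * u j = 1 := by
  set n₀ : N := e.symm 1 with hn₀
  have hx : ∀ x : N, x = e x • n₀ := by
    intro x
    rw [hn₀, ← map_smul, smul_eq_mul, mul_one, e.symm_apply_apply]
  refine ⟨I n₀, fun j => e (P (Pi.single j 1)), ?_, ?_⟩
  · intro k j
    rw [toMatrix'_comp_apply]
    conv_lhs => rw [hx (P (Pi.single j 1)), map_smul]
    rw [Pi.smul_apply, smul_eq_mul, mul_comm]
  · have h1 : P (I n₀) = n₀ := by
      have := congrArg (fun f : N →ₗ[D] N => f n₀) hPI
      simpa using this
    have h2 : P (I n₀) = (∑ j, e (P (Pi.single j 1)) * I n₀ j) • n₀ := by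
      conv_lhs => rw [sum_smul_single (I n₀), map_sum]
      rw [Finset.sum_smul]
      refine Finset.sum_congr rfl fun j _ => ?_
      rw [map_smul]
      conv_lhs => rw [hx (P (Pi.single j 1))]
      rw [smul_smul, mul_comm]
    rw [h1] at h2
    have h3 := congrArg e h2
    rw [map_smul, hn₀, e.apply_symm_apply, smul_eq_mul, mul_one] at h3
    exact h3.symm

/-- conversely, a rank-one factorization gives freeness of rank one -/
theorem nonempty_equiv_of_factorization (hPI : P ∘ₗ I = LinearMap.id) (u w : Fin m → D)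
    (hE : ∀ k j, LinearMap.toMatrix' (I ∘ₗ P) k j = u k * w j) (h1 : ∑ j, w j * u j = 1) :
    Nonempty (N ≃ₗ[D] D) := by
  have hPIx : ∀ x, P (I x) = x := fun x => by
    have := congrArg (fun f : N →ₗ[D] N => f x) hPI
    simpa using this
  have hIinj : Function.Injective I := fun x y hxy => by
    rw [← hPIx x, ← hPIx y, hxy]
  -- `I ∘ P` in coordinates
  have hIP : ∀ v : Fin m → D, ∀ k, I (P v) k = u k * ∑ j, w j * v j := by
    intro v k
    conv_lhs => rw [sum_smul_single v, map_sum, map_sum, Finset.sum_apply]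
    rw [Finset.mul_sum]
    refine Finset.sum_congr rfl fun j _ => ?_
    rw [map_smul, map_smul, Pi.smul_apply, smul_eq_mul, ← toMatrix'_comp_apply, hE]
    ring
  let φ : N →ₗ[D] D := (∑ j, w j • LinearMap.proj j) ∘ₗ I
  have hφ : ∀ x, φ x = ∑ j, w j * I x j := by
    intro x
    simp [φ]
  let ψ : D →ₗ[D] N := LinearMap.toSpanSingleton D N (P u)
  have hψ : ∀ c, ψ c = c • P u := fun c => rfl
  have hIx : ∀ x, I x = φ x • u := by
    intro x
    ext k
    have := hIP (I x) k
    rw [hPIx] at this
    rw [this, hφ, Pi.smul_apply, smul_eq_mul, mul_comm]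
  have hIPu : I (P u) = u := by
    ext k
    rw [hIP, h1, mul_one]
  refine ⟨LinearEquiv.ofLinearMap φ ψ ?_ ?_⟩
  · apply LinearMap.ext
    intro c
    rw [LinearMap.comp_apply, hψ, map_smul, hφ, hIPu, h1, smul_eq_mul, mul_one, LinearMap.id_apply]
  · apply LinearMap.ext
    intro x
    rw [LinearMap.comp_apply, LinearMap.id_apply, hψ]
    apply hIinj
    rw [map_smul, hIPu]
    exact (hIx x).symm

end RankOne

section Prod

variable {ι : Type u} (R : ι → Type u) [∀ i, CommRing (R i)] (n : ℕ)

/-- projection to the `a`-th factor -/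
noncomputable abbrev projHom (a : ι) :
    MvPolynomial (Fin n) (∀ i, R i) →+* MvPolynomial (Fin n) (R a) :=
  MvPolynomial.map (Pi.evalRingHom R a)

theorem eq_of_forall_proj (p q : MvPolynomial (Fin n) (∀ i, R i))
    (h : ∀ a, projHom R n a p = projHom R n a q) : p = q := by
  ext μ a
  have := congrArg (MvPolynomial.coeff μ) (h a)
  simpa [projHom, MvPolynomial.coeff_map] using this

theorem totalDegree_map_le {A' B' : Type*} [CommSemiring A'] [CommSemiring B'] (f : A' →+* B')
    (p : MvPolynomial (Fin n) A') : (MvPolynomial.map f p).totalDegree ≤ p.totalDegree :=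
  Finset.sup_mono (MvPolynomial.support_map_subset f p)

/-- a family of polynomials of bounded degree comes from a polynomial over the product -/
theorem exists_assemble (d : ℕ) (q : ∀ a, MvPolynomial (Fin n) (R a))
    (hq : ∀ a, (q a).totalDegree ≤ d) :
    ∃ p : MvPolynomial (Fin n) (∀ i, R i), ∀ a, projHom R n a p = q a := by
  classical
  set F : Finset (Fin n →₀ ℕ) := Finset.Iic (Finsupp.equivFunOnFinite.symm (fun _ => d)) with hF
  refine ⟨∑ μ ∈ F, MvPolynomial.monomial μ (fun a => MvPolynomial.coeff μ (q a)), fun a => ?_⟩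
  rw [map_sum]
  ext ν
  rw [MvPolynomial.coeff_sum]
  simp only [projHom, MvPolynomial.map_monomial, Pi.evalRingHom_apply, MvPolynomial.coeff_monomial]
  rw [Finset.sum_ite_eq']
  split_ifs with hν
  · rfl
  · symm
    by_contra hne
    apply hν
    have hsup : ν ∈ (q a).support := MvPolynomial.mem_support_iff.mpr hne
    have hdeg := (MvPolynomial.le_totalDegree hsup).trans (hq a)
    rw [hF, Finset.mem_Iic, Finsupp.le_def]
    intro j
    have h1 : ν j ≤ ν.sum fun _ e => e := by
      rw [Finsupp.sum_fintype _ _ (fun _ => rfl)]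
      exact Finset.single_le_sum (f := fun j => ν j) (fun _ _ => Nat.zero_le _) (Finset.mem_univ j)
    exact h1.trans hdeg

end Prod

section Main

theorem degree_bound {V : Type*} [CommRing V] [IsDomain V] {n m : ℕ}
    (E : Matrix (Fin m) (Fin m) (MvPolynomial (Fin n) V)) (u w : Fin m → MvPolynomial (Fin n) V)
    (hE : ∀ k j, E k j = u k * w j) (h1 : ∑ j, w j * u j = 1) (d : ℕ)
    (hd : ∀ k j, (E k j).totalDegree ≤ d) :
    (∀ k, (u k).totalDegree ≤ d) ∧ ∀ j, (w j).totalDegree ≤ d := by
  have hex : ∃ j₀, w j₀ * u j₀ ≠ 0 := by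
    by_contra hcon
    push Not at hcon
    rw [Finset.sum_eq_zero (fun j _ => hcon j)] at h1
    exact zero_ne_one h1
  obtain ⟨j₀, hj₀⟩ := hex
  have hw0 : w j₀ ≠ 0 := left_ne_zero_of_mul hj₀
  have hu0 : u j₀ ≠ 0 := right_ne_zero_of_mul hj₀
  constructor
  · intro k
    by_cases hk : u k = 0
    · rw [hk, MvPolynomial.totalDegree_zero]; exact Nat.zero_le _
    · have := hd k j₀
      rw [hE, MvPolynomial.totalDegree_mul_of_isDomain hk hw0] at this
      exact (Nat.le_add_right _ _).trans this
  · intro j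
    by_cases hj : w j = 0
    · rw [hj, MvPolynomial.totalDegree_zero]; exact Nat.zero_le _
    · have := hd j₀ j
      rw [hE, MvPolynomial.totalDegree_mul_of_isDomain hu0 hj] at this
      exact (Nat.le_add_left _ _).trans this

variable {ι : Type u} (R : ι → Type u) [∀ i, CommRing (R i)] [∀ i, IsDomain (R i)]
  [∀ i, ValuationRing (R i)] (n : ℕ)

theorem free_of_invertible (M : Type u) [AddCommGroup M]
    [Module (MvPolynomial (Fin n) (∀ i, R i)) M]
    [Module.Invertible (MvPolynomial (Fin n) (∀ i, R i)) M] :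
    Module.Free (MvPolynomial (Fin n) (∀ i, R i)) M := by
  classical
  obtain ⟨m, pr, i, -, -, hpi⟩ :=
    Module.Finite.exists_comp_eq_id_of_projective (MvPolynomial (Fin n) (∀ i, R i)) M
  set E := LinearMap.toMatrix' (i ∘ₗ pr) with hEdef
  set d : ℕ := Finset.univ.sup (fun kj : Fin m × Fin m => (E kj.1 kj.2).totalDegree) with hd
  have hdE : ∀ k j, (E k j).totalDegree ≤ d := fun k j =>
    Finset.le_sup (f := fun kj : Fin m × Fin m => (E kj.1 kj.2).totalDegree)
      (Finset.mem_univ (k, j))
  have key : ∀ a, ∃ u w : Fin m → MvPolynomial (Fin n) (R a),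
      (∀ k j, projHom R n a (E k j) = u k * w j) ∧ ∑ j, w j * u j = 1 := by
    intro a
    letI : Algebra (MvPolynomial (Fin n) (∀ i, R i)) (MvPolynomial (Fin n) (R a)) :=
      (projHom R n a).toAlgebra
    haveI := pic_mvPolynomial_subsingleton (R a) n
    haveI : Module.Free (MvPolynomial (Fin n) (R a))
        (MvPolynomial (Fin n) (R a) ⊗[MvPolynomial (Fin n) (∀ i, R i)] M) := inferInstance
    obtain ⟨e⟩ := Module.Invertible.free_iff_linearEquiv.mp this
    obtain ⟨u, w, hE, h1⟩ := exists_rankOne_factorization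
      (bcI (L' := MvPolynomial (Fin n) (R a)) i) (bcP pr) (bcP_comp_bcI i pr hpi) e
    refine ⟨u, w, fun k j => ?_, h1⟩
    rw [← hE, toMatrix'_bcI_comp_bcP, Matrix.map_apply]
    rfl
  choose u w huw h1 using key
  have hdeg : ∀ a, (∀ k, (u a k).totalDegree ≤ d) ∧ ∀ j, (w a j).totalDegree ≤ d := by
    intro a
    refine degree_bound ((E.map (projHom R n a))) (u a) (w a) (fun k j => ?_) (h1 a) d
      (fun k j => ?_)
    · rw [Matrix.map_apply]; exact huw a k j
    · rw [Matrix.map_apply]
      exact (totalDegree_map_le n _ _).trans (hdE k j)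
  have hU : ∀ k, ∃ p : MvPolynomial (Fin n) (∀ i, R i), ∀ a, projHom R n a p = u a k :=
    fun k => exists_assemble R n d (fun a => u a k) (fun a => (hdeg a).1 k)
  have hW : ∀ j, ∃ p : MvPolynomial (Fin n) (∀ i, R i), ∀ a, projHom R n a p = w a j :=
    fun j => exists_assemble R n d (fun a => w a j) (fun a => (hdeg a).2 j)
  choose U hU using hU
  choose W hW using hW
  have hE' : ∀ k j, E k j = U k * W j := by
    intro k j
    apply eq_of_forall_proj
    intro a
    rw [map_mul, hU, hW, huw]
  have h1' : ∑ j, W j * U j = 1 := by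
    apply eq_of_forall_proj
    intro a
    rw [map_sum, map_one, ← h1 a]
    refine Finset.sum_congr rfl fun j _ => ?_
    rw [map_mul, hU, hW]
  obtain ⟨e⟩ := nonempty_equiv_of_factorization i pr hpi U W hE' h1'
  exact Module.Free.of_equiv e.symm

end Main

end Groth.Agent.R2.H18.PicVal
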