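import Mathlib
import Groth.Prelude.Def_HTop2

/-!
# Seminormal rings and invertible modules over polynomial rings, part A (helper18)

General algebra used in the proof of the Traverso–Swan theorem for local rings:
* seminormal rings are reduced and are "seminormal in" every reduced overring;
* integrality of the coefficients of the factors of a polynomial with constant term one;
* pushing invertible submodules of a polynomial algebra along a ring map;
* invertible submodules of `L[X]` over `K[X]` for a field `K` and a reduced `K`-algebra `L`.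
-/

set_option autoImplicit false

open Polynomial

namespace Groth.Agent.R2.H18.Seminormal

universe u

attribute [local instance] Polynomial.algebra

section Basic

variable {R : Type*} [CommRing R]

theorem isReduced_of_isSeminormalRing (hR : HTop.IsSeminormalRing R) : IsReduced R := by
  rw [isReduced_iff_pow_one_lt 2 (by norm_num)]
  intro a ha
  obtain ⟨b, -, hb⟩ := hR 0 0 (by simp)
  have h1 : a = b := hb a ⟨ha.symm, by rw [pow_succ, ha, zero_mul]⟩
  have h2 : (0 : R) = b := hb 0 ⟨by simp, by simp⟩
  rw [h1, ← h2]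

/-- a seminormal ring is seminormal in every reduced overring -/
theorem mem_range_of_sq_of_cube {C : Type*} [CommRing C] [IsReduced C] (φ : R →+* C)
    (hR : HTop.IsSeminormalRing R) (hφ : Function.Injective φ) (c : C)
    (h2 : c ^ 2 ∈ φ.range) (h3 : c ^ 3 ∈ φ.range) : c ∈ φ.range := by
  obtain ⟨x, hx⟩ := h2
  obtain ⟨y, hy⟩ := h3
  have hxy : x ^ 3 = y ^ 2 := by
    apply hφ
    rw [map_pow, map_pow, hx, hy]; ring
  obtain ⟨a, ⟨ha2, ha3⟩, -⟩ := hR x y hxy
  refine ⟨a, ?_⟩
  have e2 : φ a ^ 2 = c ^ 2 := by rw [← map_pow, ← ha2, hx]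
  have e3 : φ a ^ 3 = c ^ 3 := by rw [← map_pow, ← ha3, hy]
  have hnil : (φ a - c) ^ 3 = 0 := by
    have : (φ a - c) ^ 3 = φ a ^ 3 - 3 * φ a ^ 2 * c + 3 * φ a * c ^ 2 - c ^ 3 := by ring
    rw [this, e3, e2, ← e2]
    have : c ^ 3 - 3 * φ a ^ 2 * c + 3 * φ a * φ a ^ 2 - c ^ 3 = 3 * φ a ^ 3 - 3 * φ a ^ 2 * c := by
      ring
    rw [this, e3, e2]; ring
  have := IsReduced.eq_zero _ ⟨3, hnil⟩
  exact sub_eq_zero.mp this

end Basic

section Integral

variable {R C : Type*} [CommRing R] [CommRing C] [Algebra R C]

/-- if `f g = h` with `h` defined over `R` and `f(0) = g(0) = 1`, the coefficients of `f`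
are integral over `R` -/
theorem isIntegral_coeff_of_mul (hinj : Function.Injective (algebraMap R C)) (f g : C[X])
    (h : R[X]) (hf0 : f.coeff 0 = 1) (hg0 : g.coeff 0 = 1)
    (hfg : f * g = h.map (algebraMap R C)) (n : ℕ) : IsIntegral R (f.coeff n) := by
  set N := f.natDegree with hN
  set M := g.natDegree with hM
  have hmf : (reflect N f).Monic := by
    refine monic_of_natDegree_le_of_coeff_eq_one N ?_ ?_
    · exact natDegree_reflect_le.trans (by simp [hN])
    · rw [coeff_reflect, revAt_le le_rfl, Nat.sub_self, hf0]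
  have hmg : (reflect M g).Monic := by
    refine monic_of_natDegree_le_of_coeff_eq_one M ?_ ?_
    · exact natDegree_reflect_le.trans (by simp [hM])
    · rw [coeff_reflect, revAt_le le_rfl, Nat.sub_self, hg0]
  have hprod : (reflect (N + M) h).map (algebraMap R C) = reflect N f * reflect M g := by
    rw [← reflect_map, ← hfg, reflect_mul f g le_rfl le_rfl]
  have hmh : (reflect (N + M) h).Monic := by
    apply monic_of_injective hinj
    rw [hprod]
    exact hmf.mul hmg
  have key : ∀ i, IsIntegral R ((reflect N f).coeff i) :=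
    isIntegral_coeff_of_dvd (reflect (N + M) h) (reflect N f) hmh hmf (Dvd.intro _ hprod.symm)
  by_cases hn : n ≤ N
  · have := key (revAt N n)
    rwa [coeff_reflect, revAt_invol] at this
  · rw [coeff_eq_zero_of_natDegree_lt (not_le.mp hn)]
    exact isIntegral_zero

/-- if `g(0) = 1` and the coefficients of `g` and of `u g` lie in a subring, so do those of `u` -/
theorem coeff_mem_of_mul_mem (S : Subring C) (u g : C[X]) (hg0 : g.coeff 0 = 1)
    (hg : ∀ n, g.coeff n ∈ S) (hug : ∀ n, (u * g).coeff n ∈ S) : ∀ n, u.coeff n ∈ S := by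
  intro n
  induction n using Nat.strong_induction_on with
  | _ n ih =>
    have h1 := hug n
    rw [coeff_mul, Finset.Nat.sum_antidiagonal_eq_sum_range_succ_mk, Finset.sum_range_succ,
      Nat.sub_self, hg0, mul_one] at h1
    have h2 : ∑ k ∈ Finset.range n, u.coeff k * g.coeff (n - k) ∈ S :=
      Subring.sum_mem _ fun k hk => S.mul_mem (ih k (Finset.mem_range.mp hk)) (hg _)
    have := S.sub_mem h1 h2
    rwa [add_sub_cancel_left] at this

theorem mem_one_iff (z : C[X]) :
    z ∈ (1 : Submodule R[X] C[X]) ↔ ∀ n, z.coeff n ∈ (algebraMap R C).range := by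
  rw [Submodule.mem_one]
  constructor
  · rintro ⟨r, rfl⟩ n
    exact ⟨r.coeff n, by simp⟩
  · intro h
    have hz : z ∈ Polynomial.lifts (algebraMap R C) := by
      rw [Polynomial.lifts_iff_coeff_lifts]
      intro n
      obtain ⟨a, ha⟩ := h n
      exact ⟨a, ha⟩
    obtain ⟨r, hr⟩ := hz
    exact ⟨r, hr⟩

end Integral

section Push

variable {A A' E E' : Type*} [CommRing A] [CommRing A'] [CommRing E] [CommRing E']
  [Algebra A E] [Algebra A' E']

/-- pushing a pair of mutually inverse submodules along a compatible pair of ring maps -/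
theorem span_image_mul_span_image_eq_one (α : A →+* A') (β : E →+* E')
    (hαβ : ∀ a, β (algebraMap A E a) = algebraMap A' E' (α a))
    (U V : Submodule A E) (h : U * V = 1) :
    Submodule.span A' (β '' U) * Submodule.span A' (β '' V) = 1 := by
  apply le_antisymm
  · rw [Submodule.span_mul_span, Submodule.span_le]
    rintro _ ⟨_, ⟨u, hu, rfl⟩, _, ⟨v, hv, rfl⟩, rfl⟩
    have huv : u * v ∈ (1 : Submodule A E) := h ▸ Submodule.mul_mem_mul hu hv
    obtain ⟨a, ha⟩ := Submodule.mem_one.mp huv
    change β u * β v ∈ (1 : Submodule A' E')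
    rw [← map_mul, ← ha, hαβ]
    exact Submodule.mem_one.mpr ⟨α a, rfl⟩
  · rw [Submodule.one_le]
    have h1 : (1 : E) ∈ U * V := h ▸ Submodule.one_le.mp le_rfl
    have key : ∀ z ∈ U * V, β z ∈ Submodule.span A' (β '' U) * Submodule.span A' (β '' V) := by
      intro z hz
      refine Submodule.mul_induction_on hz ?_ ?_
      · intro u hu v hv
        rw [map_mul]
        exact Submodule.mul_mem_mul (Submodule.subset_span ⟨u, hu, rfl⟩)
          (Submodule.subset_span ⟨v, hv, rfl⟩)
      · intro x y hx hy
        rw [map_add]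
        exact Submodule.add_mem _ hx hy
    simpa using key 1 h1

/-- pulling a pair of mutually inverse submodules back along an injective algebra map -/
theorem comap_mul_comap_eq_one {E'' : Type*} [CommRing E''] [Algebra A E''] (ι : E →ₐ[A] E'')
    (hι : Function.Injective ι) (U V : Submodule A E'') (h : U * V = 1)
    (hU : U ≤ LinearMap.range ι.toLinearMap) (hV : V ≤ LinearMap.range ι.toLinearMap) :
    U.comap ι.toLinearMap * V.comap ι.toLinearMap = 1 := by
  apply Submodule.map_injective_of_injective (f := ι.toLinearMap) hι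
  rw [Submodule.map_mul, Submodule.map_comap_eq_of_le hU, Submodule.map_comap_eq_of_le hV, h,
    Submodule.map_one]

end Push

section Field

variable {K L : Type u} [Field K] [CommRing L] [Algebra K L] [IsReduced L]

/-- For a field `K` and a reduced `K`-algebra `L`, an invertible `K[X]`-submodule of `L[X]` all of
whose constant terms lie in `K` is contained in `K[X]`. -/
theorem le_one_of_field (U V : Submodule K[X] L[X]) (h : U * V = 1)
    (h0 : ∀ u ∈ U, u.coeff 0 ∈ (algebraMap K L).range) : U ≤ 1 := by
  rcases subsingleton_or_nontrivial L with hL | hL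
  · intro u _
    rw [Subsingleton.elim u 0]
    exact Submodule.zero_mem _
  have : FaithfulSMul K L := (faithfulSMul_iff_algebraMap_injective K L).mpr
    (algebraMap K L).injective
  let I : (Submodule K[X] L[X])ˣ := ⟨U, V, h, by rw [mul_comm]; exact h⟩
  have hI : I ∈ (Submodule.unitsToPic K[X] L[X]).ker := Subsingleton.elim _ _
  rw [Submodule.ker_unitsToPic] at hI
  obtain ⟨w, hw⟩ := hI
  have hU : U = Submodule.span K[X] {(w : L[X])} := by
    have := congrArg Units.val hw
    simpa [I] using this.symm
  have hwU : (w : L[X]) ∈ U := hU ▸ Submodule.mem_span_singleton_self _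
  obtain ⟨k, hk⟩ := h0 _ hwU
  have hwC : (w : L[X]) = C ((w : L[X]).coeff 0) := by
    have hu := (isUnit_iff_coeff_isUnit_isNilpotent.mp w.isUnit).2
    ext n
    rcases Nat.eq_zero_or_pos n with rfl | hn
    · simp
    · rw [coeff_C, if_neg hn.ne']
      exact IsReduced.eq_zero _ (hu n hn.ne')
  rw [hU, Submodule.span_le, Set.singleton_subset_iff, SetLike.mem_coe, hwC, ← hk]
  exact Submodule.mem_one.mpr ⟨C k, by simp⟩

end Field

end Groth.Agent.R2.H18.Seminormal
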