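import Mathlib
import Groth.Agent.R2.H18SeminormalA

/-!
# Seminormal rings and invertible modules over polynomial rings, part B (helper18)

The conductor argument: for a finite extension `R → B` in which `R` is seminormal, an invertible
`R[X]`-submodule of `B[X]` with constant terms in `R` whose coefficients generate `B` forces
`B = R`.
-/

set_option autoImplicit false

open Polynomial

namespace Groth.Agent.R2.H18.Seminormal

universe u

attribute [local instance] Polynomial.algebra

section MinimalPrime

variable {R : Type*} [CommRing R]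

/-- elements of a minimal prime over a radical ideal are killed into it by elements outside -/
theorem exists_mul_mem_of_mem_minimalPrimes {I p : Ideal R} (hI : I.IsRadical)
    (hp : p ∈ I.minimalPrimes) {x : R} (hx : x ∈ p) : ∃ s ∉ p, s * x ∈ I := by
  have : p.IsPrime := hp.1.1
  by_contra hcon
  push Not at hcon
  have hdisj : Disjoint (I : Set R) ((p.primeCompl ⊔ Submonoid.powers x : Submonoid R) : Set R) := by
    rw [Set.disjoint_left]
    intro y hyI hyS
    obtain ⟨s, hs, z, ⟨n, rfl⟩, rfl⟩ := Submonoid.mem_sup.mp hyS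
    apply hcon s hs
    apply hI
    refine ⟨n + 1, ?_⟩
    have : (s * x) ^ (n + 1) = (s ^ n * x) * (s * x ^ n) := by ring
    rw [this]
    exact I.mul_mem_left _ hyI
  obtain ⟨q, hq, hIq, hqS⟩ := Ideal.exists_le_prime_disjoint I _ hdisj
  have hqp : q ≤ p := by
    intro y hy
    by_contra hyp
    exact Set.disjoint_left.mp hqS hy (SetLike.le_def.mp le_sup_left hyp)
  have hpq : p ≤ q := hp.2 ⟨hq, hIq⟩ hqp
  exact Set.disjoint_left.mp hqS (hpq hx)
    (SetLike.le_def.mp le_sup_right (Submonoid.mem_powers x))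

end MinimalPrime

section Residue

variable {R B : Type u} [CommRing R] [CommRing B] [Algebra R B]

/-- residue data at a prime `p` of `R` and a radical, `p`-saturated ideal `F` of `B` over `p`:
a field `K`, a reduced `K`-algebra `L` and compatible maps `R → K`, `B → L` such that an element
of `B` lands in `K` only if a multiple by an element outside `p` is congruent mod `F` to an
element of `R`. -/
theorem exists_residue_data (p : Ideal R) [p.IsPrime] (F : Ideal B) [F.LiesOver p]
    (hrad : F.IsRadical)
    (hsat : ∀ s : R, s ∉ p → ∀ b : B, algebraMap R B s * b ∈ F → b ∈ F) :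
    ∃ (K L : Type u) (_ : Field K) (_ : CommRing L) (_ : Algebra K L) (_ : IsReduced L)
      (φ : R →+* K) (ψ : B →+* L),
      (∀ r, ψ (algebraMap R B r) = algebraMap K L (φ r)) ∧
      ∀ b, ψ b ∈ (algebraMap K L).range →
        ∃ s : R, s ∉ p ∧ ∃ r : R, algebraMap R B s * b - algebraMap R B r ∈ F := by
  have : IsReduced (B ⧸ F) := (Ideal.isRadical_iff_quotient_reduced F).mp hrad
  let N := Algebra.algebraMapSubmonoid (B ⧸ F) (nonZeroDivisors (R ⧸ p))
  have hN : N ≤ nonZeroDivisors (B ⧸ F) := by
    rintro _ ⟨d, hd, rfl⟩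
    obtain ⟨s, rfl⟩ := Ideal.Quotient.mk_surjective d
    have hs : s ∉ p := by
      intro hsp
      have : Ideal.Quotient.mk p s = 0 := Ideal.Quotient.eq_zero_iff_mem.mpr hsp
      exact nonZeroDivisors.ne_zero hd this
    rw [mem_nonZeroDivisors_iff_right]
    intro z hz
    obtain ⟨b, rfl⟩ := Ideal.Quotient.mk_surjective z
    rw [Ideal.Quotient.algebraMap_mk_of_liesOver, ← map_mul, Ideal.Quotient.eq_zero_iff_mem,
      mul_comm] at hz
    exact Ideal.Quotient.eq_zero_iff_mem.mpr (hsat s hs b hz)
  refine ⟨FractionRing (R ⧸ p), Localization N, inferInstance, inferInstance, inferInstance,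
    inferInstance, (algebraMap (R ⧸ p) (FractionRing (R ⧸ p))).comp (Ideal.Quotient.mk p),
    (algebraMap (B ⧸ F) (Localization N)).comp (Ideal.Quotient.mk F), ?_, ?_⟩
  · intro r
    simp only [RingHom.comp_apply]
    rw [← Ideal.Quotient.algebraMap_mk_of_liesOver F p r,
      ← IsScalarTower.algebraMap_apply (R ⧸ p) (B ⧸ F) (Localization N),
      ← IsScalarTower.algebraMap_apply (R ⧸ p) (FractionRing (R ⧸ p)) (Localization N)]
  · intro b hb
    obtain ⟨k, hk⟩ := hb
    obtain ⟨⟨d, m⟩, rfl⟩ := IsLocalization.mk'_surjective (nonZeroDivisors (R ⧸ p)) k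
    simp only [RingHom.comp_apply] at hk
    rw [IsLocalization.algebraMap_mk' (B ⧸ F) (FractionRing (R ⧸ p)) (Localization N) d m] at hk
    have hk' := IsLocalization.eq_mk'_iff_mul_eq.mp hk.symm
    simp only at hk'
    rw [← map_mul] at hk'
    have hk'' := IsLocalization.injective (Localization N) hN hk'
    obtain ⟨r, rfl⟩ := Ideal.Quotient.mk_surjective d
    obtain ⟨s, hs⟩ := Ideal.Quotient.mk_surjective (m : R ⧸ p)
    have hsp : s ∉ p := by
      intro hsp
      have : Ideal.Quotient.mk p s = 0 := Ideal.Quotient.eq_zero_iff_mem.mpr hsp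
      rw [hs] at this
      exact nonZeroDivisors.ne_zero m.2 this
    refine ⟨s, hsp, r, ?_⟩
    rw [← hs, Ideal.Quotient.algebraMap_mk_of_liesOver, Ideal.Quotient.algebraMap_mk_of_liesOver,
      ← map_mul, ← sub_eq_zero, ← map_sub, Ideal.Quotient.eq_zero_iff_mem] at hk''
    rwa [mul_comm]

end Residue

section Conductor

variable (R B : Type u) [CommRing R] [CommRing B] [Algebra R B]

/-- the conductor of `R` in `B`, as an ideal of `B` -/
def cond : Ideal B where
  carrier := {b | ∀ b' : B, b * b' ∈ (algebraMap R B).range}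
  add_mem' := by
    intro a b ha hb c
    rw [add_mul]
    exact add_mem (ha c) (hb c)
  zero_mem' := by
    intro c
    rw [zero_mul]
    exact zero_mem _
  smul_mem' := by
    intro c b hb c'
    have := hb (c * c')
    have e : c • b * c' = b * (c * c') := by rw [smul_eq_mul]; ring
    rw [e]
    exact this

variable {R B}

theorem mem_cond_iff {b : B} : b ∈ cond R B ↔ ∀ b' : B, b * b' ∈ (algebraMap R B).range :=
  Iff.rfl

theorem mem_range_of_mem_cond {b : B} (hb : b ∈ cond R B) : b ∈ (algebraMap R B).range := by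
  simpa using hb 1

theorem cond_isRadical
    (hsn : ∀ b : B, b ^ 2 ∈ (algebraMap R B).range → b ^ 3 ∈ (algebraMap R B).range →
      b ∈ (algebraMap R B).range) : (cond R B).IsRadical := by
  rw [Ideal.isRadical_iff_pow_one_lt 2 (by norm_num)]
  intro b hb c
  apply hsn
  · have := hb (c ^ 2)
    rwa [← mul_pow] at this
  · have := hb (b * c ^ 3)
    have e : b ^ 2 * (b * c ^ 3) = (b * c) ^ 3 := by ring
    rwa [e] at this

variable (p : Ideal R) [p.IsPrime]

/-- the `p`-saturation of an ideal of `B` -/
def satIdeal (J : Ideal B) : Ideal B where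
  carrier := {b | ∃ s : R, s ∉ p ∧ algebraMap R B s * b ∈ J}
  add_mem' := by
    rintro a b ⟨s, hs, hsa⟩ ⟨t, ht, htb⟩
    refine ⟨s * t, fun h => (Ideal.IsPrime.mem_or_mem ‹_› h).elim hs ht, ?_⟩
    have e : algebraMap R B (s * t) * (a + b) =
        algebraMap R B t * (algebraMap R B s * a) + algebraMap R B s * (algebraMap R B t * b) := by
      rw [map_mul]; ring
    rw [e]
    exact J.add_mem (J.mul_mem_left _ hsa) (J.mul_mem_left _ htb)
  zero_mem' := ⟨1, fun h => Ideal.IsPrime.ne_top ‹_› ((Ideal.eq_top_iff_one p).mpr h), by simp⟩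
  smul_mem' := by
    rintro c b ⟨s, hs, hsb⟩
    refine ⟨s, hs, ?_⟩
    have e : algebraMap R B s * c • b = c * (algebraMap R B s * b) := by rw [smul_eq_mul]; ring
    rw [e]
    exact J.mul_mem_left _ hsb

variable {p}

theorem mem_satIdeal_iff {J : Ideal B} {b : B} :
    b ∈ satIdeal p J ↔ ∃ s : R, s ∉ p ∧ algebraMap R B s * b ∈ J := Iff.rfl

theorem satIdeal_isRadical {J : Ideal B} (hJ : J.IsRadical) : (satIdeal p J).IsRadical := by
  rw [Ideal.isRadical_iff_pow_one_lt 2 (by norm_num)]
  rintro b ⟨s, hs, hsb⟩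
  refine ⟨s, hs, hJ ⟨2, ?_⟩⟩
  have e : (algebraMap R B s * b) ^ 2 = algebraMap R B s * (algebraMap R B s * b ^ 2) := by ring
  rw [e]
  exact J.mul_mem_left _ hsb

theorem satIdeal_sat {J : Ideal B} (s : R) (hs : s ∉ p) (b : B)
    (h : algebraMap R B s * b ∈ satIdeal p J) : b ∈ satIdeal p J := by
  obtain ⟨t, ht, htb⟩ := h
  refine ⟨t * s, fun h => (Ideal.IsPrime.mem_or_mem ‹_› h).elim ht hs, ?_⟩
  rwa [map_mul, mul_assoc]

theorem satIdeal_under {J : Ideal B} (hJ : J.IsRadical)
    (hp : p ∈ (J.comap (algebraMap R B)).minimalPrimes) :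
    p = (satIdeal p J).under R := by
  apply le_antisymm
  · intro x hx
    obtain ⟨s, hs, hsx⟩ := exists_mul_mem_of_mem_minimalPrimes (hJ.comap _) hp hx
    exact ⟨s, hs, by rw [← map_mul]; exact hsx⟩
  · rintro x ⟨s, hs, hsx⟩
    have : s * x ∈ p := hp.1.2 (by rw [Ideal.mem_comap, map_mul]; exact hsx)
    exact (Ideal.IsPrime.mem_or_mem ‹_› this).resolve_left hs

end Conductor

section Main

variable {R B : Type u} [CommRing R] [CommRing B] [Algebra R B]

/-- **Key step** of Traverso–Swan: let `R → B` be a finite ring map in which `R` is seminormal,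
and `U V = 1` invertible `R[X]`-submodules of `B[X]` with constant terms in `R` whose coefficients
generate `B` as an `R`-algebra.  Then `R → B` is surjective. -/
theorem surjective_of_seminormal [Module.Finite R B]
    (hsn : ∀ b : B, b ^ 2 ∈ (algebraMap R B).range → b ^ 3 ∈ (algebraMap R B).range →
      b ∈ (algebraMap R B).range)
    (U V : Submodule R[X] B[X]) (hUV : U * V = 1)
    (hU0 : ∀ u ∈ U, u.coeff 0 ∈ (algebraMap R B).range)
    (hV0 : ∀ v ∈ V, v.coeff 0 ∈ (algebraMap R B).range)
    (hgen : ∀ S : Subalgebra R B, (∀ u ∈ U, ∀ n, u.coeff n ∈ S) → (∀ v ∈ V, ∀ n, v.coeff n ∈ S) →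
      S = ⊤) :
    Function.Surjective (algebraMap R B) := by
  classical
  set 𝔣 : Ideal R := (cond R B).comap (algebraMap R B) with h𝔣
  by_cases htop : 𝔣 = ⊤
  · intro b
    have h1 : (1 : R) ∈ 𝔣 := htop ▸ Submodule.mem_top
    have := h1 b
    rw [map_one, one_mul] at this
    exact this
  exfalso
  obtain ⟨⟨p, hp⟩⟩ := Ideal.nonempty_minimalPrimes htop
  have hpp : p.IsPrime := hp.1.1
  have hrad : (cond R B).IsRadical := cond_isRadical hsn
  set F : Ideal B := satIdeal p (cond R B) with hF
  have hFrad : F.IsRadical := satIdeal_isRadical hrad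
  have hFover : F.LiesOver p := ⟨satIdeal_under hrad hp⟩
  obtain ⟨K, L, _, _, _, _, φ, ψ, hφψ, hres⟩ :=
    exists_residue_data p F hFrad (fun s hs b h => satIdeal_sat s hs b h)
  -- the key claim: coefficients are in `R` up to a multiple outside `p`
  have hcoef : ∀ (U V : Submodule R[X] B[X]), U * V = 1 →
      (∀ u ∈ U, u.coeff 0 ∈ (algebraMap R B).range) → ∀ u ∈ U, ∀ n,
      ∃ s : R, s ∉ p ∧ algebraMap R B s * u.coeff n ∈ (algebraMap R B).range := by
    intro U V hUV hU0 u hu n
    have hαβ : ∀ a : R[X], mapRingHom ψ (algebraMap R[X] B[X] a) =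
        algebraMap K[X] L[X] (mapRingHom φ a) := by
      intro a
      simp only [Polynomial.algebraMap_def, coe_mapRingHom, Polynomial.map_map]
      congr 1
      ext r
      exact hφψ r
    have hpush := span_image_mul_span_image_eq_one (mapRingHom φ) (mapRingHom ψ) hαβ U V hUV
    have h0 : ∀ w ∈ Submodule.span K[X] ((mapRingHom ψ) '' (U : Set B[X])),
        w.coeff 0 ∈ (algebraMap K L).range := by
      intro w hw
      induction hw using Submodule.span_induction with
      | mem w hw =>
        obtain ⟨u, hu, rfl⟩ := hw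
        obtain ⟨r, hr⟩ := hU0 u hu
        refine ⟨φ r, ?_⟩
        rw [coe_mapRingHom, coeff_map, ← hr, hφψ]
      | zero => exact ⟨0, by simp⟩
      | add x y _ _ hx hy =>
        rw [coeff_add]
        exact add_mem hx hy
      | smul a x _ hx =>
        rw [Algebra.smul_def, mul_coeff_zero, Polynomial.algebraMap_def, coe_mapRingHom, coeff_map]
        exact mul_mem ⟨_, rfl⟩ hx
    have hle := le_one_of_field _ _ hpush h0
    have hmem : mapRingHom ψ u ∈ (1 : Submodule K[X] L[X]) :=
      hle (Submodule.subset_span ⟨u, hu, rfl⟩)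
    have hcn := (mem_one_iff _).mp hmem n
    rw [coe_mapRingHom, coeff_map] at hcn
    obtain ⟨s, hs, r, hsr⟩ := hres _ hcn
    obtain ⟨t, ht, htF⟩ := hsr
    refine ⟨t * s, fun h => (Ideal.IsPrime.mem_or_mem hpp h).elim ht hs, ?_⟩
    have h1 := mem_range_of_mem_cond htF
    have e : algebraMap R B (t * s) * u.coeff n =
        algebraMap R B t * (algebraMap R B s * u.coeff n - algebraMap R B r) +
          algebraMap R B (t * r) := by
      rw [map_mul, map_mul]; ring
    rw [e]
    exact add_mem h1 ⟨_, rfl⟩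
  -- the subalgebra of elements that are in `R` up to a multiple outside `p`
  let S : Subalgebra R B :=
    { carrier := {b | ∃ s : R, s ∉ p ∧ algebraMap R B s * b ∈ (algebraMap R B).range}
      mul_mem' := by
        rintro a b ⟨s, hs, hsa⟩ ⟨t, ht, htb⟩
        refine ⟨s * t, fun h => (Ideal.IsPrime.mem_or_mem hpp h).elim hs ht, ?_⟩
        have e : algebraMap R B (s * t) * (a * b) =
            (algebraMap R B s * a) * (algebraMap R B t * b) := by rw [map_mul]; ring
        rw [e]
        exact mul_mem hsa htb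
      add_mem' := by
        rintro a b ⟨s, hs, hsa⟩ ⟨t, ht, htb⟩
        refine ⟨s * t, fun h => (Ideal.IsPrime.mem_or_mem hpp h).elim hs ht, ?_⟩
        have e : algebraMap R B (s * t) * (a + b) =
            algebraMap R B t * (algebraMap R B s * a) + algebraMap R B s * (algebraMap R B t * b) := by
          rw [map_mul]; ring
        rw [e]
        exact add_mem (mul_mem ⟨_, rfl⟩ hsa) (mul_mem ⟨_, rfl⟩ htb)
      algebraMap_mem' := by
        intro r
        refine ⟨1, fun h => hpp.ne_top ((Ideal.eq_top_iff_one p).mpr h), ?_⟩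
        rw [map_one, one_mul]
        exact ⟨r, rfl⟩ }
  have hS : S = ⊤ := by
    apply hgen
    · intro u hu n
      exact hcoef U V hUV hU0 u hu n
    · intro v hv n
      exact hcoef V U (by rw [mul_comm]; exact hUV) hV0 v hv n
  -- a common denominator for a finite generating set
  obtain ⟨T, hT⟩ := (Module.Finite.fg_top : (⊤ : Submodule R B).FG)
  have hT' : ∀ b ∈ T, ∃ s : R, s ∉ p ∧ algebraMap R B s * b ∈ (algebraMap R B).range := by
    intro b _
    have : b ∈ S := hS ▸ Algebra.mem_top
    exact this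
  choose! σ hσ1 hσ2 using hT'
  set s := ∏ b ∈ T, σ b with hs
  have hsp : s ∉ p := by
    intro h
    obtain ⟨b, hb, hbp⟩ := (Ideal.IsPrime.prod_mem_iff).mp h
    exact hσ1 b hb hbp
  have hall : ∀ b : B, algebraMap R B s * b ∈ (algebraMap R B).range := by
    intro b
    have hb : b ∈ Submodule.span R (T : Set B) := hT ▸ Submodule.mem_top
    induction hb using Submodule.span_induction with
    | mem b hb =>
      have e : algebraMap R B s * b = algebraMap R B (∏ c ∈ T.erase b, σ c) *
          (algebraMap R B (σ b) * b) := by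
        rw [hs, ← Finset.mul_prod_erase T σ hb, map_mul]; ring
      rw [e]
      exact mul_mem ⟨_, rfl⟩ (hσ2 b hb)
    | zero => rw [mul_zero]; exact zero_mem _
    | add x y _ _ hx hy => rw [mul_add]; exact add_mem hx hy
    | smul a x _ hx =>
      rw [Algebra.smul_def, mul_left_comm]
      exact mul_mem ⟨_, rfl⟩ hx
  have hs𝔣 : s ∈ 𝔣 := hall
  exact hsp (hp.1.2 hs𝔣)

end Main

end Groth.Agent.R2.H18.Seminormal
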