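import Mathlib
import Groth.Agent.R2.H18SeminormalB
import Groth.Agent.R2.H18PicValB

/-!
# Seminormal rings and invertible modules over polynomial rings, part C (helper18)

Traverso–Swan for local rings: over a seminormal local ring `R` every invertible `R[X]`-module
is free.
-/

set_option autoImplicit false

open Polynomial

namespace Groth.Agent.R2.H18.Seminormal

universe u

attribute [local instance] Polynomial.algebra

section PicTransfer

theorem pic_subsingleton_of_ringEquiv {A A' : Type u} [CommRing A] [CommRing A'] (e : A ≃+* A')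
    [Subsingleton (CommRing.Pic A)] : Subsingleton (CommRing.Pic A') := by
  refine ⟨fun x y => ?_⟩
  have key : ∀ z : CommRing.Pic A', z = 1 := by
    intro z
    have h1 : CommRing.Pic.mapRingHom e.toRingHom (CommRing.Pic.mapRingHom e.symm.toRingHom z) = z := by
      rw [CommRing.Pic.mapRingHom_mapRingHom]
      have : e.toRingHom.comp e.symm.toRingHom = RingHom.id A' := by
        ext a; simp
      rw [this, CommRing.Pic.mapRingHom_id_apply]
    rw [← h1, Subsingleton.elim (CommRing.Pic.mapRingHom e.symm.toRingHom z) 1, map_one]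
  rw [key x, key y]

/-- the Picard group of the polynomial ring over a product of fields is trivial -/
theorem pic_polynomial_pi_field {ι : Type u} (K : ι → Type u) [∀ i, Field (K i)] :
    Subsingleton (CommRing.Pic (Polynomial (∀ i, K i))) := by
  have : Subsingleton (CommRing.Pic (MvPolynomial (Fin 1) (∀ i, K i))) :=
    CommRing.Pic.subsingleton_iff.mpr fun M _ _ _ =>
      Groth.Agent.R2.H18.PicVal.free_of_invertible K 1 M
  exact pic_subsingleton_of_ringEquiv
    (MvPolynomial.uniqueAlgEquiv (∀ i, K i) (Fin 1)).toRingEquiv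

end PicTransfer

section Core

variable {R C : Type u} [CommRing R] [CommRing C] [Algebra R C] [IsReduced C]

/-- **Core lemma**: for a seminormal ring `R` inside a reduced ring `C`, mutually inverse
`R[X]`-submodules of `C[X]` containing polynomials with constant term one lie in `R[X]`. -/
theorem le_one_of_seminormal (hR : HTop.IsSeminormalRing R)
    (hinj : Function.Injective (algebraMap R C))
    (U V : Submodule R[X] C[X]) (hUV : U * V = 1) (f g : C[X]) (hf : f ∈ U) (hg : g ∈ V)
    (hf0 : f.coeff 0 = 1) (hg0 : g.coeff 0 = 1) : U ≤ 1 ∧ V ≤ 1 := by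
  classical
  have hVU : V * U = 1 := by rw [mul_comm]; exact hUV
  have hfgmem : f * g ∈ (1 : Submodule R[X] C[X]) := hUV ▸ Submodule.mul_mem_mul hf hg
  obtain ⟨h, hh⟩ := Submodule.mem_one.mp hfgmem
  have hfg : f * g = h.map (algebraMap R C) := hh.symm
  have hfi : ∀ n, IsIntegral R (f.coeff n) := isIntegral_coeff_of_mul hinj f g h hf0 hg0 hfg
  have hgi : ∀ n, IsIntegral R (g.coeff n) :=
    isIntegral_coeff_of_mul hinj g f h hg0 hf0 (by rw [mul_comm]; exact hfg)
  set T : Set C := (↑f.coeffs ∪ ↑g.coeffs : Set C) with hT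
  have hTfin : T.Finite := (Finset.finite_toSet _).union (Finset.finite_toSet _)
  have hTint : ∀ x ∈ T, IsIntegral R x := by
    rintro x (hx | hx)
    · obtain ⟨n, -, rfl⟩ := mem_coeffs_iff.mp (Finset.mem_coe.mp hx)
      exact hfi n
    · obtain ⟨n, -, rfl⟩ := mem_coeffs_iff.mp (Finset.mem_coe.mp hx)
      exact hgi n
  set B : Subalgebra R C := Algebra.adjoin R T with hB
  have hBfg : B.toSubmodule.FG := fg_adjoin_of_finite hTfin hTint
  have : Module.Finite R B := Module.Finite.of_fg hBfg
  have hfB : ∀ n, f.coeff n ∈ B := by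
    intro n
    by_cases h0 : f.coeff n = 0
    · rw [h0]; exact zero_mem _
    · exact Algebra.subset_adjoin (Or.inl (Finset.mem_coe.mpr (coeff_mem_coeffs h0)))
  have hgB : ∀ n, g.coeff n ∈ B := by
    intro n
    by_cases h0 : g.coeff n = 0
    · rw [h0]; exact zero_mem _
    · exact Algebra.subset_adjoin (Or.inr (Finset.mem_coe.mpr (coeff_mem_coeffs h0)))
  have hrB : ∀ z : C[X], z ∈ (1 : Submodule R[X] C[X]) → ∀ n, z.coeff n ∈ B := by
    intro z hz n
    obtain ⟨r, hr⟩ := (mem_one_iff z).mp hz n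
    rw [← hr]
    exact B.algebraMap_mem r
  have hUB : ∀ u ∈ U, ∀ n, u.coeff n ∈ B := fun u hu =>
    coeff_mem_of_mul_mem B.toSubring u g hg0 hgB
      (hrB _ (hUV ▸ Submodule.mul_mem_mul hu hg))
  have hVB : ∀ v ∈ V, ∀ n, v.coeff n ∈ B := fun v hv =>
    coeff_mem_of_mul_mem B.toSubring v f hf0 hfB
      (hrB _ (hVU ▸ Submodule.mul_mem_mul hv hf))
  -- the inclusion `B[X] → C[X]`
  let ι : B[X] →ₐ[R[X]] C[X] :=
    { mapRingHom B.val.toRingHom with
      commutes' := by
        intro r
        simp only [Polynomial.algebraMap_def, coe_mapRingHom, RingHom.toMonoidHom_eq_coe,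
          OneHom.toFun_eq_coe, MonoidHom.toOneHom_coe, MonoidHom.coe_coe, Polynomial.map_map]
        rfl }
  have hιapply : ∀ z : B[X], ι z = z.map B.val.toRingHom := fun _ => rfl
  have hι : Function.Injective ι := map_injective _ Subtype.val_injective
  have hrange : ∀ z : C[X], (∀ n, z.coeff n ∈ B) → z ∈ LinearMap.range ι.toLinearMap := by
    intro z hz
    have : z ∈ Polynomial.lifts B.val.toRingHom := by
      rw [Polynomial.lifts_iff_coeff_lifts]
      intro n
      exact ⟨⟨z.coeff n, hz n⟩, rfl⟩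
    obtain ⟨w, hw⟩ := this
    exact ⟨w, hw⟩
  have hcoeffι : ∀ (z : B[X]) n, (ι z).coeff n = ((z.coeff n : B) : C) := by
    intro z n
    rw [hιapply, coeff_map]
    rfl
  set UB := U.comap ι.toLinearMap with hUBdef
  set VB := V.comap ι.toLinearMap with hVBdef
  have hUVB : UB * VB = 1 :=
    comap_mul_comap_eq_one ι hι U V hUV (fun u hu => hrange u (hUB u hu))
      (fun v hv => hrange v (hVB v hv))
  have hsn : ∀ b : B, b ^ 2 ∈ (algebraMap R B).range → b ^ 3 ∈ (algebraMap R B).range →
      b ∈ (algebraMap R B).range := by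
    rintro b ⟨x, hx⟩ ⟨y, hy⟩
    have h2 : (b : C) ^ 2 ∈ (algebraMap R C).range :=
      ⟨x, by rw [← Subalgebra.coe_pow, ← hx]; rfl⟩
    have h3 : (b : C) ^ 3 ∈ (algebraMap R C).range :=
      ⟨y, by rw [← Subalgebra.coe_pow, ← hy]; rfl⟩
    obtain ⟨a, ha⟩ := mem_range_of_sq_of_cube (algebraMap R C) hR hinj (b : C) h2 h3
    exact ⟨a, Subtype.ext ha⟩
  have hU0 : ∀ u ∈ UB, u.coeff 0 ∈ (algebraMap R B).range := by
    intro u hu
    have hu' : ι u ∈ U := hu
    have h1 : ι u * g ∈ (1 : Submodule R[X] C[X]) := hUV ▸ Submodule.mul_mem_mul hu' hg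
    obtain ⟨r, hr⟩ := (mem_one_iff _).mp h1 0
    rw [mul_coeff_zero, hg0, mul_one, hcoeffι] at hr
    exact ⟨r, Subtype.ext hr⟩
  have hV0 : ∀ v ∈ VB, v.coeff 0 ∈ (algebraMap R B).range := by
    intro v hv
    have hv' : ι v ∈ V := hv
    have h1 : ι v * f ∈ (1 : Submodule R[X] C[X]) := hVU ▸ Submodule.mul_mem_mul hv' hf
    obtain ⟨r, hr⟩ := (mem_one_iff _).mp h1 0
    rw [mul_coeff_zero, hf0, mul_one, hcoeffι] at hr
    exact ⟨r, Subtype.ext hr⟩
  have hgen : ∀ S : Subalgebra R B, (∀ u ∈ UB, ∀ n, u.coeff n ∈ S) →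
      (∀ v ∈ VB, ∀ n, v.coeff n ∈ S) → S = ⊤ := by
    intro S hSU hSV
    obtain ⟨f', hf'⟩ := hrange f hfB
    obtain ⟨g', hg'⟩ := hrange g hgB
    have hf'U : f' ∈ UB := by
      change ι f' ∈ U
      rw [show ι f' = f from hf']; exact hf
    have hg'V : g' ∈ VB := by
      change ι g' ∈ V
      rw [show ι g' = g from hg']; exact hg
    rw [eq_top_iff, ← Algebra.adjoin_adjoin_coe_preimage (R := R) (s := T)]
    apply Algebra.adjoin_le
    rintro b (hb | hb)
    · obtain ⟨n, -, hn⟩ := mem_coeffs_iff.mp (Finset.mem_coe.mp hb)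
      have : b = f'.coeff n := by
        apply Subtype.ext
        rw [← hcoeffι, show ι f' = f from hf']
        exact hn
      rw [this]
      exact hSU f' hf'U n
    · obtain ⟨n, -, hn⟩ := mem_coeffs_iff.mp (Finset.mem_coe.mp hb)
      have : b = g'.coeff n := by
        apply Subtype.ext
        rw [← hcoeffι, show ι g' = g from hg']
        exact hn
      rw [this]
      exact hSV g' hg'V n
  have hsurj : Function.Surjective (algebraMap R B) :=
    surjective_of_seminormal hsn UB VB hUVB hU0 hV0 hgen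
  have hfin : ∀ z : C[X], (∀ n, z.coeff n ∈ B) → z ∈ (1 : Submodule R[X] C[X]) := by
    intro z hz
    rw [mem_one_iff]
    intro n
    obtain ⟨r, hr⟩ := hsurj ⟨z.coeff n, hz n⟩
    exact ⟨r, congrArg Subtype.val hr⟩
  exact ⟨fun u hu => hfin u (hUB u hu), fun v hv => hfin v (hVB v hv)⟩

end Core

section Main

theorem aux_mul {G : Type*} [CommMonoid G] (S S' I J : G) (h1 : I * J = 1) (h2 : S' * S = 1) :
    (S' * I) * (S * J) = 1 := by
  rw [mul_mul_mul_comm, h1, h2, mul_one]

theorem aux_mul' {G : Type*} [CommMonoid G] (S S' I : G) (h2 : S' * S = 1) :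
    S * (S' * I) = I := by
  rw [← mul_assoc, mul_comm S, h2, one_mul]

/-- Traverso–Swan for local rings, relative to a reduced overring `S` with `Pic S[X] = 0`. -/
theorem free_of_invertible_polynomial_aux (R S : Type u) [CommRing R] [IsLocalRing R]
    [CommRing S] [Algebra R S] [IsReduced S] (hinj : Function.Injective (algebraMap R S))
    [Subsingleton (CommRing.Pic S[X])] (hR : HTop.IsSeminormalRing R) (M : Type u)
    [AddCommGroup M] [Module R[X] M] [Module.Invertible R[X] M] : Module.Free R[X] M := by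
  classical
  have hfaith : FaithfulSMul R S := (faithfulSMul_iff_algebraMap_injective R S).mpr hinj
  have hmem : CommRing.Pic.mk R[X] M ∈ CommRing.relPic R[X] S[X] := by
    rw [CommRing.relPic_eq_top]; trivial
  rw [← Submodule.range_unitsToPic] at hmem
  obtain ⟨I, hI⟩ := hmem
  have hII : (I : Submodule R[X] S[X]) * ((I⁻¹ : (Submodule R[X] S[X])ˣ) :
      Submodule R[X] S[X]) = 1 := I.mul_inv
  -- normalisation at `X = 0`
  obtain ⟨u₀, hu₀, v₀, hv₀, ε, huv⟩ : ∃ u₀ ∈ (I : Submodule R[X] S[X]),
      ∃ v₀ ∈ ((I⁻¹ : (Submodule R[X] S[X])ˣ) : Submodule R[X] S[X]),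
      ∃ ε : Rˣ, u₀.coeff 0 * v₀.coeff 0 = algebraMap R S ε := by
    by_contra hcon
    push Not at hcon
    have key : ∀ z ∈ (I : Submodule R[X] S[X]) *
        ((I⁻¹ : (Submodule R[X] S[X])ˣ) : Submodule R[X] S[X]),
        ∃ r ∈ IsLocalRing.maximalIdeal R, algebraMap R S r = z.coeff 0 := by
      intro z hz
      refine Submodule.mul_induction_on hz ?_ ?_
      · intro u hu v hv
        have h1 : u * v ∈ (1 : Submodule R[X] S[X]) :=
          hII ▸ Submodule.mul_mem_mul hu hv
        obtain ⟨r, hr⟩ := (mem_one_iff _).mp h1 0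
        refine ⟨r, ?_, hr⟩
        rw [IsLocalRing.mem_maximalIdeal, mem_nonunits_iff]
        intro hru
        apply hcon u hu v hv hru.unit
        rw [← mul_coeff_zero, ← hr]
        rfl
      · rintro x y ⟨r, hr, hrx⟩ ⟨s, hs, hsy⟩
        exact ⟨r + s, Ideal.add_mem _ hr hs, by rw [map_add, hrx, hsy, coeff_add]⟩
    obtain ⟨r, hr, hr1⟩ := key 1 (hII ▸ Submodule.one_le.mp le_rfl)
    rw [coeff_one_zero, ← map_one (algebraMap R S)] at hr1
    rw [hinj hr1] at hr
    exact (IsLocalRing.maximalIdeal.isMaximal R).ne_top ((Ideal.eq_top_iff_one _).mpr hr)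
  set c : S := u₀.coeff 0 with hc
  set c' : S := algebraMap R S ((ε⁻¹ : Rˣ) : R) * v₀.coeff 0 with hc'
  have hcc' : c * c' = 1 := by
    rw [hc', mul_left_comm, huv, ← map_mul]
    simp
  have hCC : (C c' : S[X]) * C c = 1 := by rw [← C_mul, mul_comm, hcc', C_1]
  set U : Submodule R[X] S[X] := Submodule.span R[X] {C c'} * I with hU
  set V : Submodule R[X] S[X] :=
    Submodule.span R[X] {C c} * ((I⁻¹ : (Submodule R[X] S[X])ˣ) :
      Submodule R[X] S[X]) with hV
  have hSS : Submodule.span R[X] {(C c' : S[X])} * Submodule.span R[X] {C c} = 1 := by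
    rw [Submodule.span_mul_span, Set.singleton_mul_singleton, hCC, Submodule.one_eq_span]
  have hUV : U * V = 1 := aux_mul _ _ _ _ hII hSS
  set f : S[X] := C c' * u₀ with hf
  set g : S[X] := C c * ((C ((ε⁻¹ : Rˣ) : R) : R[X]) • v₀) with hg
  have hfU : f ∈ U := Submodule.mul_mem_mul (Submodule.mem_span_singleton_self _) hu₀
  have hgV : g ∈ V :=
    Submodule.mul_mem_mul (Submodule.mem_span_singleton_self _) (Submodule.smul_mem _ _ hv₀)
  have hf0 : f.coeff 0 = 1 := by
    rw [hf, mul_coeff_zero, coeff_C_zero, mul_comm]; exact hcc'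
  have hg0 : g.coeff 0 = 1 := by
    rw [hg, mul_coeff_zero, coeff_C_zero, Algebra.smul_def, mul_coeff_zero,
      Polynomial.algebraMap_def, coe_mapRingHom, map_C, coeff_C_zero]
    exact hcc'
  obtain ⟨hU1, hV1⟩ := le_one_of_seminormal hR hinj U V hUV f g hfU hgV hf0 hg0
  have hUone : U = 1 := by
    apply le_antisymm hU1
    calc (1 : Submodule R[X] S[X]) = U * V := hUV.symm
      _ ≤ U * 1 := mul_le_mul' le_rfl hV1
      _ = U := mul_one U
  have hIspan : (I : Submodule R[X] S[X]) = Submodule.span R[X] {C c} := by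
    have h1 : Submodule.span R[X] {(C c : S[X])} *
        (Submodule.span R[X] {(C c' : S[X])} * (I : Submodule R[X] S[X])) = I :=
      aux_mul' _ _ _ hSS
    rw [← hU, hUone, mul_one] at h1
    exact h1.symm
  let w : (S[X])ˣ := ⟨C c, C c', by rw [mul_comm]; exact hCC, hCC⟩
  have hker : I ∈ (Submodule.unitsToPic R[X] S[X]).ker := by
    rw [Submodule.ker_unitsToPic]
    refine ⟨w, Units.ext ?_⟩
    rw [hIspan]
    simp [w]
  have h1 : CommRing.Pic.mk R[X] M = 1 := by
    rw [← hI]; exact hker
  exact CommRing.Pic.mk_eq_one_iff_free.mp h1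

variable (R : Type u) [CommRing R]

/-- the product of all residue fields of `R` -/
abbrev ResProd : Type u := ∀ p : PrimeSpectrum R, p.asIdeal.ResidueField

theorem algebraMap_resProd_injective [IsReduced R] :
    Function.Injective (algebraMap R (ResProd R)) := by
  rw [injective_iff_map_eq_zero]
  intro r hr
  have hmem : ∀ p : PrimeSpectrum R, r ∈ p.asIdeal := fun p => by
    have := congrFun hr p
    rwa [Pi.algebraMap_apply, Pi.zero_apply, Ideal.algebraMap_residueField_eq_zero] at this
  have hnil : r ∈ nilradical R := by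
    rw [nilradical_eq_sInf, Ideal.mem_sInf]
    intro J hJ
    exact hmem ⟨J, hJ⟩
  exact IsReduced.eq_zero _ (mem_nilradical.mp hnil)

variable [IsLocalRing R]

/-- **Traverso–Swan for local rings**: over a seminormal local ring `R`, every invertible
`R[X]`-module is free. -/
theorem free_of_invertible_polynomial (hR : HTop.IsSeminormalRing R) (M : Type u)
    [AddCommGroup M] [Module R[X] M] [Module.Invertible R[X] M] : Module.Free R[X] M := by
  have hred : IsReduced R := isReduced_of_isSeminormalRing hR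
  have hpic : Subsingleton (CommRing.Pic (ResProd R)[X]) :=
    pic_polynomial_pi_field (fun p : PrimeSpectrum R => p.asIdeal.ResidueField)
  exact free_of_invertible_polynomial_aux R (ResProd R) (algebraMap_resProd_injective R) hR M

end Main

end Groth.Agent.R2.H18.Seminormal
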