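import Mathlib

/-!
# H19AxDigits: base-`p` digit sums with positional weights, and the `p`-adic valuation of
multinomial coefficients (helper19, towards the divisibility theorem of Ax for forms over finite fields)

* `dig p k t = k / p ^ t % p`, the `t`-th base-`p` digit of `k`.
* `wt p B ω k = ∑ t < B, dig p k t * ω t`, a weighted digit sum.
* `legendre_dig`: `(p - 1) * v_p(k!) + ∑ t < B, dig p k t = k` for `k < p ^ B`.
* `multinomial_dig`: the valuation of a multinomial coefficient through digit sums.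
-/

set_option autoImplicit false

namespace Groth.Agent.R2.H19.Ax

open Finset

/-- The `t`-th digit of `k` in base `p`. -/
def dig (p k t : ℕ) : ℕ := k / p ^ t % p

/-- Weighted digit sum. -/
def wt (p B : ℕ) (ω : ℕ → ℕ) (k : ℕ) : ℕ := ∑ t ∈ range B, dig p k t * ω t

theorem sum_dig_mul_pow (p k B : ℕ) : ∑ t ∈ range B, dig p k t * p ^ t = k % p ^ B := by
  induction B with
  | zero => simp [Nat.mod_one]
  | succ B ih =>
    rw [sum_range_succ, ih, Nat.mod_pow_succ, dig, mul_comm (p ^ B)]

theorem wt_pow (p k B : ℕ) (h : k < p ^ B) : wt p B (fun t => p ^ t) k = k := by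
  unfold wt
  rw [sum_dig_mul_pow, Nat.mod_eq_of_lt h]

theorem wt_pow_add (p k B b : ℕ) (h : k < p ^ B) : wt p B (fun t => p ^ (t + b)) k = p ^ b * k := by
  have : wt p B (fun t => p ^ (t + b)) k = p ^ b * wt p B (fun t => p ^ t) k := by
    unfold wt
    rw [mul_sum]
    refine sum_congr rfl fun t _ => ?_
    show dig p k t * p ^ (t + b) = p ^ b * (dig p k t * p ^ t)
    rw [pow_add]; ring
  rw [this, wt_pow p k B h]

theorem wt_congr (p B m : ℕ) (ω ω' : ℕ → ℕ) (h : ∀ t, ω t ≡ ω' t [MOD m]) (k : ℕ) :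
    wt p B ω k ≡ wt p B ω' k [MOD m] := by
  unfold wt
  -- termwise congruence
  induction B with
  | zero => simp [Nat.ModEq]
  | succ B ih =>
    rw [sum_range_succ, sum_range_succ]
    exact Nat.ModEq.add ih (Nat.ModEq.mul_left _ (h B))

theorem wt_sum {ι : Type*} (p B : ℕ) (s : Finset ι) (ω : ι → ℕ → ℕ) (k : ℕ) :
    wt p B (fun t => ∑ b ∈ s, ω b t) k = ∑ b ∈ s, wt p B (ω b) k := by
  unfold wt
  rw [sum_comm]
  refine sum_congr rfl fun t _ => ?_
  rw [mul_sum]

theorem wt_const (p B c k : ℕ) : wt p B (fun _ => c) k = c * wt p B (fun _ => 1) k := by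
  unfold wt
  rw [mul_sum]
  refine sum_congr rfl fun t _ => ?_
  ring

theorem wt_pos (p B : ℕ) (ω : ℕ → ℕ) (hω : ∀ t, 0 < ω t) (k : ℕ) (hk : 0 < k) (h : k < p ^ B) :
    0 < wt p B ω k := by
  by_contra h0
  have h0 : wt p B ω k = 0 := by omega
  unfold wt at h0
  rw [sum_eq_zero_iff] at h0
  have hd : ∀ t ∈ range B, dig p k t = 0 := by
    intro t ht
    have := h0 t ht
    rcases Nat.mul_eq_zero.mp this with h1 | h1
    · exact h1
    · exact absurd h1 (hω t).ne'
  have : wt p B (fun t => p ^ t) k = 0 := by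
    unfold wt
    exact sum_eq_zero fun t ht => by rw [hd t ht, zero_mul]
  rw [wt_pow p k B h] at this
  omega

theorem dig_sum_identity (p k B : ℕ) :
    wt p B (fun _ => 1) k + (p - 1) * ∑ t ∈ Ico 1 (B + 1), k / p ^ t + k / p ^ B = k := by
  rcases Nat.eq_zero_or_pos p with hp | hp
  · subst hp
    unfold wt dig
    rcases Nat.eq_zero_or_pos B with hB | hB
    · subst hB; simp
    · have : ∀ t ∈ range B, k / 0 ^ t % 0 * 1 = if t = 0 then k else 0 := by
        intro t _
        by_cases ht : t = 0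
        · subst ht; simp
        · simp [ht, zero_pow ht]
      rw [sum_congr rfl this, sum_ite_eq' (range B) 0 (fun _ => k), zero_pow hB.ne']
      simp [hB]
  induction B with
  | zero => simp [wt]
  | succ B ih =>
    have h1 : wt p (B + 1) (fun _ => 1) k = wt p B (fun _ => 1) k + dig p k B := by
      unfold wt; rw [sum_range_succ, mul_one]
    have h2 : ∑ t ∈ Ico 1 (B + 1 + 1), k / p ^ t = ∑ t ∈ Ico 1 (B + 1), k / p ^ t + k / p ^ (B + 1) := by
      rw [sum_Ico_succ_top (by omega)]
    have h3 : k / p ^ B = p * (k / p ^ (B + 1)) + dig p k B := by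
      unfold dig
      rw [pow_succ, ← Nat.div_div_eq_div_mul]
      exact (Nat.div_add_mod _ _).symm
    rw [h1, h2]
    have h4 : (p - 1) * (k / p ^ (B + 1)) + k / p ^ (B + 1) = p * (k / p ^ (B + 1)) := by
      have : p - 1 + 1 = p := Nat.sub_add_cancel hp
      calc (p - 1) * (k / p ^ (B + 1)) + k / p ^ (B + 1) = (p - 1 + 1) * (k / p ^ (B + 1)) := by ring
        _ = _ := by rw [this]
    rw [mul_add]
    omega

theorem legendre_dig (p : ℕ) [hp : Fact p.Prime] (k B : ℕ) (h : k < p ^ B) :
    (p - 1) * padicValNat p k.factorial + wt p B (fun _ => 1) k = k := by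
  have hlog : Nat.log p k < B + 1 := by
    rcases Nat.eq_zero_or_pos k with hk | hk
    · subst hk; simp
    · exact Nat.lt_succ_of_lt (Nat.log_lt_of_lt_pow hk.ne' h)
  rw [padicValNat_factorial hlog]
  have := dig_sum_identity p k B
  rw [Nat.div_eq_of_lt h] at this
  omega

theorem padicValNat_prod_factorial {ι : Type*} (p : ℕ) [hp : Fact p.Prime] (s : Finset ι) (κ : ι → ℕ) :
    padicValNat p (∏ e ∈ s, (κ e).factorial) = ∑ e ∈ s, padicValNat p (κ e).factorial := by
  classical
  induction s using Finset.induction_on with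
  | empty => simp
  | insert a s ha ih =>
    rw [prod_insert ha, sum_insert ha, padicValNat.mul (Nat.factorial_ne_zero _)
      (prod_ne_zero_iff.mpr fun e _ => Nat.factorial_ne_zero _), ih]

theorem multinomial_dig {ι : Type*} (p : ℕ) [hp : Fact p.Prime] (s : Finset ι) (κ : ι → ℕ) (B : ℕ)
    (h : ∑ e ∈ s, κ e < p ^ B) :
    (p - 1) * padicValNat p (Nat.multinomial s κ) + wt p B (fun _ => 1) (∑ e ∈ s, κ e) =
      ∑ e ∈ s, wt p B (fun _ => 1) (κ e) := by
  have hspec := Nat.multinomial_spec s κ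
  have hne : Nat.multinomial s κ ≠ 0 := by
    intro h0
    rw [h0, mul_zero] at hspec
    exact Nat.factorial_ne_zero _ hspec.symm
  have hv : padicValNat p (∑ e ∈ s, κ e).factorial =
      ∑ e ∈ s, padicValNat p (κ e).factorial + padicValNat p (Nat.multinomial s κ) := by
    rw [← hspec, padicValNat.mul (prod_ne_zero_iff.mpr fun e _ => Nat.factorial_ne_zero _) hne,
      padicValNat_prod_factorial]
  have hM := legendre_dig p (∑ e ∈ s, κ e) B h
  have hle : ∀ e ∈ s, κ e < p ^ B := fun e he =>
    lt_of_le_of_lt (single_le_sum (f := κ) (fun _ _ => Nat.zero_le _) he) h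
  have hsum : ∑ e ∈ s, ((p - 1) * padicValNat p (κ e).factorial + wt p B (fun _ => 1) (κ e)) =
      ∑ e ∈ s, κ e := sum_congr rfl fun e he => legendre_dig p (κ e) B (hle e he)
  rw [sum_add_distrib, ← mul_sum] at hsum
  rw [hv, mul_add] at hM
  omega

theorem dig_lt (p k t : ℕ) (hp : 0 < p) : dig p k t < p := Nat.mod_lt _ hp

/-- The digit sum of `(p ^ a - 1) * p ^ c` is at most `a * (p - 1)`. -/
theorem wt_one_le (p a c B : ℕ) (hp : 2 ≤ p) :
    wt p B (fun _ => 1) ((p ^ a - 1) * p ^ c) ≤ a * (p - 1) := by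
  have hp0 : 0 < p := by omega
  unfold wt
  have key : ∀ t ∈ range B, dig p ((p ^ a - 1) * p ^ c) t * 1 ≤
      if t ∈ Ico c (c + a) then p - 1 else 0 := by
    intro t _
    rw [mul_one]
    split_ifs with ht
    · have := dig_lt p ((p ^ a - 1) * p ^ c) t hp0
      omega
    · rw [mem_Ico, not_and_or, not_le, not_lt] at ht
      rcases ht with ht | ht
      · -- t < c
        have : (p ^ a - 1) * p ^ c = ((p ^ a - 1) * p ^ (c - t - 1) * p) * p ^ t := by
          have : c = (c - t - 1) + 1 + t := by omega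
          conv_lhs => rw [this, pow_add, pow_add, pow_one]
          ring
        unfold dig
        rw [this, Nat.mul_div_cancel _ (pow_pos hp0 t), Nat.mul_mod_left]
      · -- c + a ≤ t
        have hlt : (p ^ a - 1) * p ^ c < p ^ t := by
          calc (p ^ a - 1) * p ^ c < p ^ a * p ^ c := by
                apply Nat.mul_lt_mul_of_pos_right _ (pow_pos hp0 c)
                have := pow_pos hp0 a
                omega
            _ = p ^ (c + a) := by rw [← pow_add, add_comm]
            _ ≤ p ^ t := Nat.pow_le_pow_right hp0 ht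
        unfold dig
        rw [Nat.div_eq_of_lt hlt, Nat.zero_mod]
  calc ∑ t ∈ range B, dig p ((p ^ a - 1) * p ^ c) t * 1
      ≤ ∑ t ∈ range B, (if t ∈ Ico c (c + a) then p - 1 else 0) := sum_le_sum key
    _ = ∑ t ∈ range B ∩ Ico c (c + a), (p - 1) := by rw [sum_ite_mem]
    _ ≤ ∑ t ∈ Ico c (c + a), (p - 1) :=
        sum_le_sum_of_subset_of_nonneg inter_subset_right (fun _ _ _ => Nat.zero_le _)
    _ = a * (p - 1) := by rw [sum_const, Nat.card_Ico, smul_eq_mul]; congr 1; omega

theorem sum_pow_add_mod (p a t : ℕ) :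
    ∑ b ∈ range a, p ^ ((t + b) % a) = ∑ c ∈ range a, p ^ c := by
  induction t with
  | zero =>
    refine sum_congr rfl fun b hb => ?_
    rw [zero_add, Nat.mod_eq_of_lt (mem_range.mp hb)]
  | succ t ih =>
    rw [← ih]
    have h1 := sum_range_succ' (fun b => p ^ ((t + b) % a)) a
    have h2 := sum_range_succ (fun b => p ^ ((t + b) % a)) a
    have h3 : (t + a) % a = (t + 0) % a := by simp
    have h4 : ∀ b, (t + 1 + b) % a = (t + (b + 1)) % a := fun b => by ring_nf
    simp only [h4]
    rw [h3] at h2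
    omega

theorem pred_mul_geom (p a : ℕ) (hp : 0 < p) : (p - 1) * ∑ c ∈ range a, p ^ c = p ^ a - 1 := by
  induction a with
  | zero => simp
  | succ a ih =>
    rw [sum_range_succ, mul_add, ih, pow_succ]
    have h1 : 1 ≤ p ^ a := pow_pos hp a
    have : (p - 1) * p ^ a = p ^ a * p - p ^ a := by
      rw [Nat.sub_mul, one_mul, mul_comm]
    have h2 : p ^ a ≤ p ^ a * p := Nat.le_mul_of_pos_right _ hp
    omega

theorem pow_mod_modEq (p a n : ℕ) (hp : 0 < p) : p ^ (n % a) ≡ p ^ n [MOD p ^ a - 1] := by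
  have h1 : p ^ a ≡ 1 [MOD p ^ a - 1] := by
    have := Nat.modEq_sub (pow_pos hp a : 1 ≤ p ^ a)
    exact this
  have h2 : p ^ n = (p ^ a) ^ (n / a) * p ^ (n % a) := by
    rw [← pow_mul, ← pow_add, Nat.div_add_mod]
  rw [h2]
  have := (h1.pow (n / a)).mul_right (p ^ (n % a))
  rw [one_pow, one_mul] at this
  exact this.symm

/-- The combinatorial heart of the divisibility theorem. -/
theorem core (p : ℕ) [hp : Fact p.Prime] (a m N d j : ℕ) (ha : 0 < a) (hd : 0 < d) (hj : j * d < N)
    {ι : Type*} (s : Finset ι) (E : ι → Fin N → ℕ) (hE : ∀ e ∈ s, ∑ l, E e l = d) (κ : ι → ℕ)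
    (hκ : ∑ e ∈ s, κ e = (p ^ a - 1) * p ^ (a * m))
    (hu : ∀ l, (p ^ a - 1) ∣ ∑ e ∈ s, κ e * E e l) :
    a * j ≤ padicValNat p (Nat.multinomial s κ) +
      a * (univ.filter fun l : Fin N => ∑ e ∈ s, κ e * E e l = 0).card := by
  classical
  have hp2 : 2 ≤ p := hp.out.two_le
  have hp0 : 0 < p := by omega
  set q1 := p ^ a - 1 with hq1
  have hpa : 2 ≤ p ^ a := by
    calc 2 ≤ p := hp2
      _ = p ^ 1 := (pow_one p).symm
      _ ≤ p ^ a := Nat.pow_le_pow_right hp0 ha
  have hq1pos : 0 < q1 := by omega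
  set B := a * m + a with hB
  have hMlt : ∑ e ∈ s, κ e < p ^ B := by
    rw [hκ, hB, pow_add, mul_comm (p ^ (a * m))]
    apply Nat.mul_lt_mul_of_pos_right _ (pow_pos hp0 _)
    omega
  have hκlt : ∀ e ∈ s, κ e < p ^ B := fun e he =>
    lt_of_le_of_lt (single_le_sum (f := κ) (fun _ _ => Nat.zero_le _) he) hMlt
  set v := padicValNat p (Nat.multinomial s κ) with hv
  set S : ℕ → ℕ := wt p B (fun _ => 1) with hS
  have hleg : (p - 1) * v + S (∑ e ∈ s, κ e) = ∑ e ∈ s, S (κ e) := multinomial_dig p s κ B hMlt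
  have hSM : S (∑ e ∈ s, κ e) ≤ a * (p - 1) := by
    rw [hκ]; exact wt_one_le p a (a * m) B hp2
  -- the twisted weights
  set ω : ℕ → ℕ → ℕ := fun b t => p ^ ((t + b) % a) with hω
  set A : ℕ → ℕ := fun b => ∑ e ∈ s, wt p B (ω b) (κ e) with hA
  set g := ∑ c ∈ range a, p ^ c with hg
  have hg1 : (p - 1) * g = q1 := pred_mul_geom p a hp0
  -- (3a)
  have h3a : ∑ b ∈ range a, A b = g * ∑ e ∈ s, S (κ e) := by
    simp only [hA]
    rw [sum_comm, mul_sum]
    refine sum_congr rfl fun e _ => ?_
    rw [← wt_sum]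
    have : (fun t => ∑ b ∈ range a, ω b t) = fun _ => g := by
      funext t
      exact sum_pow_add_mod p a t
    rw [this, wt_const]
  -- congruence of twisted weights
  have hwt : ∀ b k, k < p ^ B → wt p B (ω b) k ≡ p ^ b * k [MOD q1] := by
    intro b k hk
    have h1 : wt p B (ω b) k ≡ wt p B (fun t => p ^ (t + b)) k [MOD q1] :=
      wt_congr p B q1 (ω b) (fun t => p ^ (t + b)) (fun t => pow_mod_modEq p a (t + b) hp0) k
    rw [wt_pow_add p k B b hk] at h1
    exact h1
  -- (3b)
  have h3b : ∀ b, q1 ∣ A b := by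
    intro b
    have h1 : A b ≡ ∑ e ∈ s, p ^ b * κ e [MOD q1] := by
      simp only [hA]
      -- sum of congruences
      have : ∀ (t : Finset ι), t ⊆ s →
          ∑ e ∈ t, wt p B (ω b) (κ e) ≡ ∑ e ∈ t, p ^ b * κ e [MOD q1] := by
        intro t
        induction t using Finset.induction_on with
        | empty => intro _; simp [Nat.ModEq]
        | insert x t hx ih =>
          intro hts
          rw [sum_insert hx, sum_insert hx]
          exact Nat.ModEq.add (hwt b (κ x) (hκlt x (hts (mem_insert_self x t))))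
            (ih (fun y hy => hts (mem_insert_of_mem hy)))
      exact this s (Subset.refl s)
    rw [← mul_sum, hκ] at h1
    have h2 : p ^ b * (q1 * p ^ (a * m)) ≡ 0 [MOD q1] := by
      rw [Nat.modEq_zero_iff_dvd]
      exact Dvd.dvd.mul_left (Dvd.intro _ rfl) _
    exact (Nat.modEq_zero_iff_dvd).mp (h1.trans h2)
  -- (3c)
  set u : Fin N → ℕ := fun l => ∑ e ∈ s, κ e * E e l with hu'
  set Z := (univ.filter fun l : Fin N => u l = 0) with hZ
  have h3c : ∀ b, (N - Z.card) * q1 ≤ d * A b := by
    intro b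
    set U : Fin N → ℕ := fun l => ∑ e ∈ s, wt p B (ω b) (κ e) * E e l with hU
    have hdA : d * A b = ∑ l, U l := by
      simp only [hA, hU]
      rw [sum_comm, mul_sum]
      refine sum_congr rfl fun e he => ?_
      rw [← mul_sum, hE e he, mul_comm]
    have hUdvd : ∀ l, q1 ∣ U l := by
      intro l
      have h1 : U l ≡ ∑ e ∈ s, p ^ b * κ e * E e l [MOD q1] := by
        simp only [hU]
        have : ∀ (t : Finset ι), t ⊆ s →
            ∑ e ∈ t, wt p B (ω b) (κ e) * E e l ≡ ∑ e ∈ t, p ^ b * κ e * E e l [MOD q1] := by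
          intro t
          induction t using Finset.induction_on with
          | empty => intro _; simp [Nat.ModEq]
          | insert x t hx ih =>
            intro hts
            rw [sum_insert hx, sum_insert hx]
            exact Nat.ModEq.add
              ((hwt b (κ x) (hκlt x (hts (mem_insert_self x t)))).mul_right _)
              (ih (fun y hy => hts (mem_insert_of_mem hy)))
        exact this s (Subset.refl s)
      have h2 : ∑ e ∈ s, p ^ b * κ e * E e l = p ^ b * u l := by
        simp only [hu']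
        rw [mul_sum]
        refine sum_congr rfl fun e _ => ?_
        ring
      rw [h2] at h1
      have h3 : p ^ b * u l ≡ 0 [MOD q1] := by
        rw [Nat.modEq_zero_iff_dvd]
        exact Dvd.dvd.mul_left (hu l) _
      exact (Nat.modEq_zero_iff_dvd).mp (h1.trans h3)
    have hUpos : ∀ l, u l ≠ 0 → q1 ≤ U l := by
      intro l hl
      apply Nat.le_of_dvd _ (hUdvd l)
      simp only [hu'] at hl
      obtain ⟨e, he, hne⟩ := exists_ne_zero_of_sum_ne_zero hl
      have hκe : 0 < κ e := Nat.pos_of_ne_zero fun h => hne (by rw [h, zero_mul])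
      have hEe : 0 < E e l := Nat.pos_of_ne_zero fun h => hne (by rw [h, mul_zero])
      have hwpos : 0 < wt p B (ω b) (κ e) :=
        wt_pos p B (ω b) (fun t => pow_pos hp0 _) (κ e) hκe (hκlt e he)
      calc 0 < wt p B (ω b) (κ e) * E e l := Nat.mul_pos hwpos hEe
        _ ≤ U l := single_le_sum (f := fun e => wt p B (ω b) (κ e) * E e l)
            (fun _ _ => Nat.zero_le _) he
    rw [hdA]
    have hcard : (univ.filter fun l : Fin N => ¬ u l = 0).card = N - Z.card := by
      have := card_filter_add_card_filter_not (s := (univ : Finset (Fin N)))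
        (fun l : Fin N => u l = 0)
      rw [card_univ, Fintype.card_fin] at this
      have h' : Z.card + (univ.filter fun l : Fin N => ¬ u l = 0).card = N := this
      omega
    calc (N - Z.card) * q1 = ∑ l ∈ univ.filter (fun l : Fin N => ¬ u l = 0), q1 := by
          rw [sum_const, hcard, smul_eq_mul]
      _ ≤ ∑ l ∈ univ.filter (fun l : Fin N => ¬ u l = 0), U l :=
          sum_le_sum fun l hl => hUpos l (mem_filter.mp hl).2
      _ ≤ ∑ l, U l := sum_le_sum_of_subset_of_nonneg (filter_subset _ _) (fun _ _ _ => Nat.zero_le _)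
  -- the quotients
  set c0 := (N - Z.card + (d - 1)) / d with hc0
  have hc0le : N - Z.card ≤ d * c0 := by
    have := Nat.lt_mul_div_succ (N - Z.card + (d - 1)) hd
    rw [← hc0] at this
    have : N - Z.card + (d - 1) < d * c0 + d := by rw [Nat.mul_succ] at this; exact this
    omega
  have hcb : ∀ b, q1 * c0 ≤ A b := by
    intro b
    obtain ⟨cb, hcb⟩ := h3b b
    have h1 := h3c b
    rw [hcb] at h1 ⊢
    have h2 : N - Z.card ≤ d * cb := by
      have : (N - Z.card) * q1 ≤ (d * cb) * q1 := by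
        calc (N - Z.card) * q1 ≤ d * (q1 * cb) := h1
          _ = (d * cb) * q1 := by ring
      exact Nat.le_of_mul_le_mul_right this hq1pos
    have h3 : c0 ≤ cb := by
      rw [hc0]
      rw [Nat.div_le_iff_le_mul_add_pred hd]
      omega
    exact Nat.mul_le_mul_left _ h3
  -- combine
  have hsumA : a * (q1 * c0) ≤ ∑ b ∈ range a, A b := by
    calc a * (q1 * c0) = ∑ _b ∈ range a, q1 * c0 := by rw [sum_const, card_range, smul_eq_mul]
      _ ≤ ∑ b ∈ range a, A b := sum_le_sum fun b _ => hcb b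
  have hfin : a * c0 ≤ v + a := by
    have h1 : (p - 1) * (a * (q1 * c0)) ≤ (p - 1) * (g * ∑ e ∈ s, S (κ e)) := by
      rw [← h3a]; exact Nat.mul_le_mul_left _ hsumA
    have h2 : (p - 1) * (g * ∑ e ∈ s, S (κ e)) = q1 * ∑ e ∈ s, S (κ e) := by
      rw [← mul_assoc, hg1]
    have h3 : ∑ e ∈ s, S (κ e) ≤ (p - 1) * (v + a) := by
      rw [← hleg, mul_add, mul_comm (p - 1) a]
      omega
    have h4 : q1 * ((p - 1) * (a * c0)) ≤ q1 * ((p - 1) * (v + a)) := by
      calc q1 * ((p - 1) * (a * c0)) = (p - 1) * (a * (q1 * c0)) := by ring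
        _ ≤ q1 * ∑ e ∈ s, S (κ e) := by rw [← h2]; exact h1
        _ ≤ q1 * ((p - 1) * (v + a)) := Nat.mul_le_mul_left _ h3
    have h5 := Nat.le_of_mul_le_mul_left h4 hq1pos
    exact Nat.le_of_mul_le_mul_left h5 (by omega : 0 < p - 1)
  -- final arithmetic
  have hZle : Z.card ≤ N := by
    calc Z.card ≤ (univ : Finset (Fin N)).card := card_le_card (filter_subset _ _)
      _ = N := by rw [card_univ, Fintype.card_fin]
  have hkey : j + 1 ≤ c0 + Z.card := by
    by_contra hcon
    have hcon : c0 + Z.card ≤ j := by omega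
    have h1 : d * (c0 + Z.card) ≤ d * j := Nat.mul_le_mul_left _ hcon
    have h2 : Z.card ≤ d * Z.card := Nat.le_mul_of_pos_left _ hd
    rw [mul_add] at h1
    have h3 : d * j = j * d := mul_comm _ _
    omega
  have h6 : a * (j + 1) ≤ a * (c0 + Z.card) := Nat.mul_le_mul_left _ hkey
  rw [mul_add, mul_add, mul_one] at h6
  change a * j ≤ v + a * Z.card
  omega

end Groth.Agent.R2.H19.Ax
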