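import Groth.Agent.R2.H19AxDigits

/-!
# H19AxWitt: Teichmüller lifts in Witt vectors and the divisibility theorem of Ax for forms
(helper19)

For a finite field `k` with `q = p ^ a` elements and a form `F` of degree `d > 0` in `N` variables,
`q ^ j` divides the number of zeros of `F` in `k ^ N` as soon as `j * d < N` (`ax_forms`).
The proof lifts to the ring of Witt vectors of `k`: the indicator function of the zeros is congruent
modulo `p ^ (a * j)` to `1 - Y ^ M` with `M = (q - 1) * q ^ j` and `Y` the value at Teichmüller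
representatives of the Teichmüller lift of `F`; the multinomial expansion of `Y ^ M`, the power sums
of the Teichmüller representatives and the valuation estimate `core` finish the proof.
-/

set_option autoImplicit false

namespace Groth.Agent.R2.H19.Ax

open Finset

theorem teich_injective (p : ℕ) [hp : Fact p.Prime] (k : Type*) [CommRing k] :
    Function.Injective (WittVector.teichmuller p : k → WittVector p k) := by
  intro x y h
  have := congrArg (fun w : WittVector p k => w.coeff 0) h
  simpa [WittVector.teichmuller_coeff_zero] using this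

section Witt

variable (p : ℕ) [hp : Fact p.Prime] (k : Type*) [Field k] [CharP k p]

/-- Residue map. -/
noncomputable abbrev res : WittVector p k →+* k := WittVector.constantCoeff

omit [CharP k p] in
theorem res_teich (x : k) : res p k (WittVector.teichmuller p x) = x :=
  WittVector.teichmuller_coeff_zero p x

theorem res_p : res p k (p : WittVector p k) = 0 := by simp

theorem not_isUnit_p : ¬ IsUnit (p : WittVector p k) := by
  intro h
  have := h.map (res p k)
  rw [res_p] at this
  exact not_isUnit_zero this

variable [PerfectRing k p]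

theorem p_dvd_of_res_eq_zero (y : WittVector p k) (h : res p k y = 0) : (p : WittVector p k) ∣ y := by
  by_cases hy : y = 0
  · rw [hy]; exact dvd_zero _
  obtain ⟨m, b, hb, rfl⟩ := WittVector.exists_eq_pow_p_mul y hy
  rcases Nat.eq_zero_or_pos m with hm | hm
  · subst hm
    rw [pow_zero, one_mul] at h
    exact absurd h hb
  · exact Dvd.dvd.mul_right (dvd_pow_self _ hm.ne') _

theorem natCast_dvd_of_dvd (e n : ℕ) (h : (p : WittVector p k) ^ e ∣ (n : WittVector p k)) :
    p ^ e ∣ n := by
  rcases Nat.eq_zero_or_pos n with hn | hn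
  · subst hn; exact dvd_zero _
  obtain ⟨v, n', hn', hnv⟩ := Nat.exists_eq_pow_mul_and_not_dvd hn.ne' p hp.out.ne_one
  have hunit : IsUnit (n' : WittVector p k) := by
    apply WittVector.isUnit_of_coeff_zero_ne_zero
    have : (n' : WittVector p k).coeff 0 = res p k (n' : WittVector p k) := rfl
    rw [this, map_natCast]
    intro h0
    exact hn' ((CharP.cast_eq_zero_iff k p n').mp h0)
  by_cases hev : e ≤ v
  · rw [hnv]
    exact Dvd.dvd.mul_right (pow_dvd_pow p hev) _
  · exfalso
    have hev : v < e := not_le.mp hev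
    rw [hnv, Nat.cast_mul, Nat.cast_pow] at h
    have h1 : (p : WittVector p k) ^ e ∣ (p : WittVector p k) ^ v := (hunit.dvd_mul_right).mp h
    have h2 : (p : WittVector p k) ^ e = (p : WittVector p k) ^ v * (p : WittVector p k) ^ (e - v) := by
      rw [← pow_add]; congr 1; omega
    rw [h2] at h1
    have hpv : (p : WittVector p k) ^ v ≠ 0 := pow_ne_zero _ (WittVector.p_nonzero p k)
    have h3 : (p : WittVector p k) ^ (e - v) ∣ 1 := by
      have : (p : WittVector p k) ^ v * (p : WittVector p k) ^ (e - v) ∣ (p : WittVector p k) ^ v * 1 := by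
        rwa [mul_one]
      exact (mul_dvd_mul_iff_left hpv).mp this
    have h4 : (p : WittVector p k) ∣ 1 := (dvd_pow_self _ (by omega : e - v ≠ 0)).trans h3
    exact not_isUnit_p p k (isUnit_of_dvd_one h4)

end Witt

section CharSum

variable (p : ℕ) [hp : Fact p.Prime] (k : Type*) [Field k] [Fintype k] [DecidableEq k]

/-- The power sums of Teichmüller representatives. -/
noncomputable def G (u : ℕ) : WittVector p k := ∑ t : k, (WittVector.teichmuller p t) ^ u

omit [DecidableEq k] in
theorem G_zero : G p k 0 = (Fintype.card k : WittVector p k) := by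
  simp [G]

theorem G_eq_sum_units (u : ℕ) (hu : u ≠ 0) :
    G p k u = ∑ t : kˣ, (WittVector.teichmuller p (t : k)) ^ u := by
  let φ : kˣ ↪ k := ⟨fun x ↦ x, Units.val_injective⟩
  have hφ : univ.map φ = univ \ {0} := by
    ext x
    simp only [mem_map, mem_univ, Function.Embedding.coeFn_mk, true_and, mem_sdiff,
      mem_singleton, φ]
    constructor
    · rintro ⟨a, rfl⟩; exact a.ne_zero
    · intro hx; exact ⟨Units.mk0 x hx, rfl⟩
  unfold G
  calc ∑ t : k, (WittVector.teichmuller p t) ^ u
      = ∑ t ∈ univ \ {(0 : k)}, (WittVector.teichmuller p t) ^ u := by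
        rw [← sum_sdiff ({0} : Finset k).subset_univ, sum_singleton, WittVector.teichmuller_zero,
          zero_pow hu, add_zero]
    _ = ∑ t : kˣ, (WittVector.teichmuller p (t : k)) ^ u := by
        rw [← hφ, univ.sum_map φ]; rfl

theorem G_of_dvd (u : ℕ) (hu : u ≠ 0) (hdvd : (Fintype.card k - 1) ∣ u) :
    G p k u = ((Fintype.card k - 1 : ℕ) : WittVector p k) := by
  rw [G_eq_sum_units p k u hu]
  have : ∀ t : kˣ, (WittVector.teichmuller p (t : k)) ^ u = 1 := by
    intro t
    obtain ⟨c, rfl⟩ := hdvd
    rw [← map_pow, pow_mul, FiniteField.pow_card_sub_one_eq_one (t : k) t.ne_zero, one_pow, map_one]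
  rw [sum_congr rfl fun t _ => this t, sum_const, card_univ, Fintype.card_units, nsmul_eq_mul, mul_one]

theorem G_of_not_dvd [CharP k p] (u : ℕ) (hdvd : ¬ (Fintype.card k - 1) ∣ u) : G p k u = 0 := by
  have hu : u ≠ 0 := fun h => hdvd (h ▸ dvd_zero _)
  rw [G_eq_sum_units p k u hu]
  let f : kˣ →* WittVector p k :=
    { toFun := fun t => (WittVector.teichmuller p (t : k)) ^ u
      map_one' := by simp
      map_mul' := fun x y => by simp [mul_pow] }
  have hf : f ≠ 1 := by
    intro h
    obtain ⟨g, hg⟩ := IsCyclic.exists_generator (α := kˣ)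
    have h1 : f g = 1 := by rw [h]; rfl
    have h2 : (WittVector.teichmuller p ((g : k) ^ u)) = WittVector.teichmuller p (1 : k) := by
      rw [map_pow, map_one]; exact h1
    have h3 : (g : k) ^ u = 1 := teich_injective p k h2
    have h4 : g ^ u = 1 := by
      apply Units.ext
      rw [Units.val_pow_eq_pow_val, h3, Units.val_one]
    have h5 : orderOf g ∣ u := orderOf_dvd_of_pow_eq_one h4
    rw [orderOf_eq_card_of_forall_mem_zpowers hg, Nat.card_eq_fintype_card, Fintype.card_units] at h5
    exact hdvd h5
  exact sum_hom_units_eq_zero f hf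

end CharSum

section Main

variable (p : ℕ) [hp : Fact p.Prime] (k : Type*) [Field k] [Fintype k] [DecidableEq k] [CharP k p]

/-- The value of the Teichmüller lift of `F` at the Teichmüller representatives of `x`. -/
noncomputable def Y {N : ℕ} (F : MvPolynomial (Fin N) k) (x : Fin N → k) : WittVector p k :=
  ∑ e ∈ F.support, WittVector.teichmuller p (F.coeff e) *
    ∏ l, (WittVector.teichmuller p (x l)) ^ (e l)

omit [Fintype k] [DecidableEq k] [CharP k p] in
theorem res_Y {N : ℕ} (F : MvPolynomial (Fin N) k) (x : Fin N → k) :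
    res p k (Y p k F x) = MvPolynomial.eval x F := by
  rw [MvPolynomial.eval_eq', Y, map_sum]
  refine sum_congr rfl fun e _ => ?_
  rw [map_mul, map_prod, res_teich]
  congr 1
  refine prod_congr rfl fun l _ => ?_
  rw [map_pow, res_teich]

theorem ind_congr (a j : ℕ) (hcard : Fintype.card k = p ^ a) (y : WittVector p k) :
    (p : WittVector p k) ^ (a * j) ∣
      (if res p k y = 0 then (1 : WittVector p k) else 0) - (1 - y ^ ((p ^ a - 1) * p ^ (a * j))) := by
  have hp2 : 2 ≤ p := hp.out.two_le
  have hp0 : 0 < p := by omega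
  split_ifs with h
  · -- y ≡ 0 mod p
    have h1 : (p : WittVector p k) ∣ y := p_dvd_of_res_eq_zero p k y h
    have h2 : (p : WittVector p k) ^ ((p ^ a - 1) * p ^ (a * j)) ∣ y ^ ((p ^ a - 1) * p ^ (a * j)) :=
      pow_dvd_pow_of_dvd h1 _
    have h3 : a * j ≤ (p ^ a - 1) * p ^ (a * j) := by
      rcases Nat.eq_zero_or_pos a with ha | ha
      · subst ha; simp
      have hpa : 2 ≤ p ^ a := by
        calc 2 ≤ p := hp2
          _ = p ^ 1 := (pow_one p).symm
          _ ≤ p ^ a := Nat.pow_le_pow_right hp0 ha
      calc a * j ≤ 2 ^ (a * j) := Nat.lt_two_pow_self.le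
        _ ≤ p ^ (a * j) := Nat.pow_le_pow_left hp2 _
        _ ≤ (p ^ a - 1) * p ^ (a * j) := Nat.le_mul_of_pos_left _ (by omega)
    have h4 : (1 : WittVector p k) - (1 - y ^ ((p ^ a - 1) * p ^ (a * j))) =
        y ^ ((p ^ a - 1) * p ^ (a * j)) := by ring
    rw [h4]
    exact (pow_dvd_pow _ h3).trans h2
  · -- y is a unit mod p
    have h1 : res p k (y ^ (p ^ a - 1) - 1) = 0 := by
      rw [map_sub, map_pow, map_one, ← hcard, FiniteField.pow_card_sub_one_eq_one _ h, sub_self]
    have h2 : (p : WittVector p k) ∣ y ^ (p ^ a - 1) - 1 := p_dvd_of_res_eq_zero p k _ h1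
    have h3 := dvd_sub_pow_of_dvd_sub h2 (a * j)
    rw [one_pow, ← pow_mul] at h3
    have h4 : (0 : WittVector p k) - (1 - y ^ ((p ^ a - 1) * p ^ (a * j))) =
        y ^ ((p ^ a - 1) * p ^ (a * j)) - 1 := by ring
    rw [h4]
    exact (pow_dvd_pow _ (Nat.le_succ _)).trans h3

omit [CharP k p] [DecidableEq k] in
theorem sum_prod_teich {N : ℕ} (u : Fin N → ℕ) :
    ∑ x : Fin N → k, ∏ l, (WittVector.teichmuller p (x l)) ^ u l = ∏ l, G p k (u l) := by
  unfold G
  rw [prod_univ_sum (fun _ => (univ : Finset k)) (fun l t => (WittVector.teichmuller p t) ^ u l),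
    Fintype.piFinset_univ]

/-- Each term of the multinomial expansion, summed over all points, is divisible by `p ^ (a * j)`. -/
theorem term_dvd (a N d j : ℕ) (ha : 0 < a) (hcard : Fintype.card k = p ^ a) (hd : 0 < d)
    (F : MvPolynomial (Fin N) k) (hF : F.IsHomogeneous d) (hj : j * d < N)
    (κ : (Fin N →₀ ℕ) → ℕ) (hκ : ∑ e ∈ F.support, κ e = (p ^ a - 1) * p ^ (a * j)) :
    (p : WittVector p k) ^ (a * j) ∣ ∑ x : Fin N → k,
      (Nat.multinomial F.support κ : WittVector p k) *
        ∏ e ∈ F.support, (WittVector.teichmuller p (F.coeff e) *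
          ∏ l, (WittVector.teichmuller p (x l)) ^ (e l)) ^ κ e := by
  set u : Fin N → ℕ := fun l => ∑ e ∈ F.support, κ e * e l with hu
  set C : WittVector p k := ∏ e ∈ F.support, (WittVector.teichmuller p (F.coeff e)) ^ κ e with hC
  have hterm : ∀ x : Fin N → k,
      ∏ e ∈ F.support, (WittVector.teichmuller p (F.coeff e) *
          ∏ l, (WittVector.teichmuller p (x l)) ^ (e l)) ^ κ e =
        C * ∏ l, (WittVector.teichmuller p (x l)) ^ u l := by
    intro x
    simp only [mul_pow, prod_mul_distrib]
    congr 1
    simp only [← prod_pow, ← pow_mul]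
    rw [prod_comm]
    refine prod_congr rfl fun l _ => ?_
    rw [prod_pow_eq_pow_sum]
    congr 1
    refine sum_congr rfl fun e _ => ?_
    ring
  have hsum : ∑ x : Fin N → k,
      (Nat.multinomial F.support κ : WittVector p k) *
        ∏ e ∈ F.support, (WittVector.teichmuller p (F.coeff e) *
          ∏ l, (WittVector.teichmuller p (x l)) ^ (e l)) ^ κ e =
      (Nat.multinomial F.support κ : WittVector p k) * (C * ∏ l, G p k (u l)) := by
    simp only [hterm]
    rw [← mul_sum, ← mul_sum, sum_prod_teich]
  rw [hsum]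
  by_cases hall : ∀ l, (p ^ a - 1) ∣ u l
  · -- all exponents divisible by q - 1
    have hcore := core p a j N d j ha hd hj F.support (fun e l => e l)
      (fun e he => by
        have h1 := hF.degree_eq_sum_deg_support he
        rw [h1]
        exact (Finset.sum_subset (subset_univ _) (fun l _ hl => by
          simpa using hl)).symm)
      κ hκ hall
    set Z := (univ.filter fun l : Fin N => u l = 0) with hZ
    have hG : (p : WittVector p k) ^ (a * Z.card) ∣ ∏ l, G p k (u l) := by
      rw [← prod_filter_mul_prod_filter_not univ (fun l : Fin N => u l = 0)]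
      apply Dvd.dvd.mul_right
      have : ∀ l ∈ univ.filter (fun l : Fin N => u l = 0), G p k (u l) = (p : WittVector p k) ^ a := by
        intro l hl
        rw [(mem_filter.mp hl).2, G_zero, hcard, Nat.cast_pow]
      rw [prod_congr rfl this, prod_const, ← pow_mul]
    have hm : (p : WittVector p k) ^ padicValNat p (Nat.multinomial F.support κ) ∣
        (Nat.multinomial F.support κ : WittVector p k) := by
      have := Nat.cast_dvd_cast (α := WittVector p k)
        (pow_padicValNat_dvd (p := p) (n := Nat.multinomial F.support κ))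
      rwa [Nat.cast_pow] at this
    have h1 : (p : WittVector p k) ^ (padicValNat p (Nat.multinomial F.support κ) + a * Z.card) ∣
        (Nat.multinomial F.support κ : WittVector p k) * (C * ∏ l, G p k (u l)) := by
      rw [pow_add]
      exact mul_dvd_mul hm (Dvd.dvd.mul_left hG _)
    exact (pow_dvd_pow _ hcore).trans h1
  · -- some exponent is not divisible: the term vanishes
    push Not at hall
    obtain ⟨l, hl⟩ := hall
    have : G p k (u l) = 0 := G_of_not_dvd p k (u l) (by rw [hcard]; exact hl)
    rw [prod_eq_zero (mem_univ l) this, mul_zero, mul_zero]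
    exact dvd_zero _

theorem ax_main (a N d j : ℕ) (ha : 0 < a) (hcard : Fintype.card k = p ^ a) (hd : 0 < d)
    (F : MvPolynomial (Fin N) k) (hF : F.IsHomogeneous d) (hj : j * d < N) :
    p ^ (a * j) ∣ Fintype.card {x : Fin N → k // MvPolynomial.eval x F = 0} := by
  apply natCast_dvd_of_dvd p k
  rw [Fintype.card_subtype, natCast_card_filter]
  set M := (p ^ a - 1) * p ^ (a * j) with hM
  -- replace the indicator by `1 - Y ^ M`
  have h1 : (p : WittVector p k) ^ (a * j) ∣
      (∑ x : Fin N → k, if MvPolynomial.eval x F = 0 then (1 : WittVector p k) else 0) -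
        ∑ x : Fin N → k, (1 - Y p k F x ^ M) := by
    rw [← sum_sub_distrib]
    refine dvd_sum fun x _ => ?_
    have := ind_congr p k a j hcard (Y p k F x)
    rwa [res_Y] at this
  -- the sum of `1`
  have h2 : (p : WittVector p k) ^ (a * j) ∣ ∑ _x : Fin N → k, (1 : WittVector p k) := by
    rw [sum_const, card_univ, Fintype.card_pi_const, hcard, nsmul_eq_mul, mul_one, Nat.cast_pow,
      Nat.cast_pow, ← pow_mul]
    apply pow_dvd_pow
    apply Nat.mul_le_mul_left
    have : j ≤ j * d := Nat.le_mul_of_pos_right _ hd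
    omega
  -- the sum of `Y ^ M`
  have h3 : (p : WittVector p k) ^ (a * j) ∣ ∑ x : Fin N → k, Y p k F x ^ M := by
    simp only [Y]
    simp only [sum_pow_eq_sum_piAntidiag]
    rw [sum_comm]
    refine dvd_sum fun κ hκ => ?_
    exact term_dvd p k a N d j ha hcard hd F hF hj κ (mem_piAntidiag.mp hκ).1
  have h4 : ∑ x : Fin N → k, (1 - Y p k F x ^ M) =
      ∑ _x : Fin N → k, (1 : WittVector p k) - ∑ x : Fin N → k, Y p k F x ^ M := sum_sub_distrib _ _
  rw [h4] at h1
  have h5 := (dvd_sub h2 h3)
  have := dvd_add h1 h5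
  rwa [sub_add_cancel] at this

end Main

end Groth.Agent.R2.H19.Ax
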