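import Mathlib

/-!
# Birational morphisms of regular curves (helper19)

* `valuationRing_of_regular_of_dim_le_one`: regular local domain of dimension `≤ 1` is a valuation ring.
* `bijective_of_valuationRing`: a local hom from a valuation ring to a local domain which is surjective on
  fraction fields is bijective.
* `ffMap`, `ffMap_comm_apply`: the map of function fields induced by a dominant morphism of integral schemes.
* `injective_of_isIso_stalkMap`: a morphism of integral schemes over `S` with `X/S` separated all of whose stalk
  maps are isomorphisms is injective on points.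
* `isOpenImmersion_of_valuationRing`: the assembly.
-/

set_option autoImplicit false
set_option linter.style.haveILetI false
universe u
open CategoryTheory CategoryTheory.Limits AlgebraicGeometry IsLocalRing

namespace Groth.Agent.R2.H19.BirCurve


/-- A regular local domain of dimension at most one is a valuation ring. -/
theorem valuationRing_of_regular_of_dim_le_one (R : Type*) [CommRing R] [IsDomain R]
    [IsRegularLocalRing R] (h : ringKrullDim R ≤ 1) : ValuationRing R := by
  have h1 := (IsRegularLocalRing.iff_finrank_cotangentSpace R).mp inferInstance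
  have h2 : Module.finrank (ResidueField R) (CotangentSpace R) ≤ 1 := by
    have : ((Module.finrank (ResidueField R) (CotangentSpace R) : ℕ) : WithBot ℕ∞) ≤ 1 := h1 ▸ h
    exact_mod_cast this
  exact ((tfae_of_isNoetherianRing_of_isLocalRing_of_isDomain (R := R)).out 5 1).mp h2

/-- The key algebra lemma: a local homomorphism from a valuation ring `A` into a local domain `B`
inducing a surjection on fraction fields is bijective. -/
theorem bijective_of_valuationRing {A B KA KB : Type*} [CommRing A] [IsDomain A] [ValuationRing A]
    [CommRing B] [Field KA] [Field KB] [Algebra A KA] [IsFractionRing A KA]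
    [Algebra B KB] (hB : Function.Injective (algebraMap B KB))
    (φ : A →+* B) [IsLocalHom φ] (ψ : KA →+* KB) (hψ : Function.Surjective ψ)
    (hcomm : ∀ a, ψ (algebraMap A KA a) = algebraMap B KB (φ a)) : Function.Bijective φ := by
  constructor
  · intro a a' haa'
    apply IsFractionRing.injective A KA
    apply ψ.injective
    rw [hcomm, hcomm, haa']
  · intro b
    obtain ⟨w, hw⟩ := hψ (algebraMap B KB b)
    rcases ValuationRing.isInteger_or_isInteger A w with ⟨a, ha⟩ | ⟨a, ha⟩
    · refine ⟨a, hB ?_⟩
      rw [← hcomm, ha, hw]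
    · by_cases hw0 : w = 0
      · refine ⟨0, hB ?_⟩
        rw [map_zero, map_zero, ← hw, hw0, map_zero]
      · have h1 : w * algebraMap A KA a = 1 := by rw [ha, mul_inv_cancel₀ hw0]
        have h2 : b * φ a = 1 := by
          apply hB
          rw [map_mul, map_one, ← hcomm, ← hw, ← map_mul, h1, map_one]
        have hu : IsUnit (φ a) := .of_mul_eq_one b (by rw [mul_comm]; exact h2)
        have hua : IsUnit a := isUnit_of_map_unit φ a hu
        obtain ⟨a', ha'⟩ := hua.exists_right_inv
        refine ⟨a', ?_⟩
        calc φ a' = (b * φ a) * φ a' := by rw [h2, one_mul]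
          _ = b * φ (a * a') := by rw [map_mul, mul_assoc]
          _ = b := by rw [ha', map_one, mul_one]


section Sch


variable {X Y : Scheme.{u}} [IsIntegral X] [IsIntegral Y] (f : X ⟶ Y)
  (e : f (genericPoint X) = genericPoint Y)

/-- The comparison map of function fields. -/
noncomputable def ffMap : Y.functionField ⟶ X.functionField :=
  Y.presheaf.stalkSpecializes (specializes_of_eq e) ≫ f.stalkMap (genericPoint X)

lemma algebraMap_stalk_functionField (x : X) :
    algebraMap (X.presheaf.stalk x) X.functionField =
      (X.presheaf.stalkSpecializes ((genericPoint_spec X).specializes trivial)).hom :=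
  RingHom.algebraMap_toAlgebra _

lemma ffMap_comm (x : X) :
    Y.presheaf.stalkSpecializes ((genericPoint_spec Y).specializes trivial) ≫ ffMap f e =
      f.stalkMap x ≫ X.presheaf.stalkSpecializes ((genericPoint_spec X).specializes trivial) := by
  rw [ffMap, ← Scheme.Hom.stalkSpecializes_stalkMap, ← Category.assoc,
    TopCat.Presheaf.stalkSpecializes_comp]

lemma ffMap_comm_apply (x : X) (a : Y.presheaf.stalk (f x)) :
    (ffMap f e).hom (algebraMap (Y.presheaf.stalk (f x)) Y.functionField a) =
      algebraMap (X.presheaf.stalk x) X.functionField ((f.stalkMap x).hom a) := by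
  rw [algebraMap_stalk_functionField, algebraMap_stalk_functionField]
  exact congr($(ffMap_comm f e x) a)



variable {X Y : Scheme.{u}} [IsIntegral X] [IsIntegral Y] (f : X ⟶ Y)

theorem injective_of_isIso_stalkMap {S : Scheme.{u}} (s : X ⟶ S) [IsSeparated s] (t : Y ⟶ S)
    (hf : f ≫ t = s) [∀ x, IsIso (f.stalkMap x)] : Function.Injective f := by
  intro x₁ x₂ h
  have hη₁ : genericPoint X ⤳ x₁ := (genericPoint_spec X).specializes trivial
  have hη₂ : genericPoint X ⤳ x₂ := (genericPoint_spec X).specializes trivial
  let g₁ : Spec (Y.presheaf.stalk (f x₁)) ⟶ X :=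
    Spec.map (inv (f.stalkMap x₁)) ≫ X.fromSpecStalk x₁
  let g₂ : Spec (Y.presheaf.stalk (f x₁)) ⟶ X :=
    Spec.map (inv (f.stalkMap x₂) ≫ Y.presheaf.stalkSpecializes (specializes_of_eq h)) ≫
      X.fromSpecStalk x₂
  have hg₁ : g₁ ≫ f = Y.fromSpecStalk (f x₁) := by
    simp only [g₁, Category.assoc, ← Scheme.SpecMap_stalkMap_fromSpecStalk]
    rw [← Spec.map_comp_assoc, IsIso.hom_inv_id, Spec.map_id, Category.id_comp]
  have hg₂ : g₂ ≫ f = Y.fromSpecStalk (f x₁) := by
    simp only [g₂, Category.assoc, ← Scheme.SpecMap_stalkMap_fromSpecStalk]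
    rw [← Spec.map_comp_assoc, ← Category.assoc, IsIso.hom_inv_id, Category.id_comp,
      Scheme.SpecMap_stalkSpecializes_fromSpecStalk]
  let θ : Y.presheaf.stalk (f x₁) ⟶ X.functionField :=
    f.stalkMap x₁ ≫ X.presheaf.stalkSpecializes hη₁
  have hθ : Function.Injective θ.hom := by
    have h1 : Function.Injective (f.stalkMap x₁).hom :=
      ((ConcreteCategory.isIso_iff_bijective (f.stalkMap x₁)).mp inferInstance).1
    have h2 : Function.Injective (X.presheaf.stalkSpecializes hη₁).hom :=
      IsFractionRing.injective (X.presheaf.stalk x₁) X.functionField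
    exact h2.comp h1
  have : IsDominant (Spec.map θ) := by
    rw [isDominant_iff]
    apply (PrimeSpectrum.denseRange_comap_iff_ker_le_nilRadical θ.hom).mpr
    rw [(RingHom.injective_iff_ker_eq_bot θ.hom).mp hθ]
    exact bot_le
  have hι₁ : Spec.map θ ≫ g₁ = X.fromSpecStalk (genericPoint X) := by
    simp only [g₁, θ]
    rw [← Spec.map_comp_assoc, IsIso.inv_hom_id_assoc, Scheme.SpecMap_stalkSpecializes_fromSpecStalk]
  have hι₂ : Spec.map θ ≫ g₂ = X.fromSpecStalk (genericPoint X) := by
    simp only [g₂, θ]
    rw [← Spec.map_comp_assoc]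
    have : (inv (f.stalkMap x₂) ≫ Y.presheaf.stalkSpecializes (specializes_of_eq h)) ≫
        f.stalkMap x₁ ≫ X.presheaf.stalkSpecializes hη₁ = X.presheaf.stalkSpecializes hη₂ := by
      rw [Category.assoc, IsIso.inv_comp_eq, ← Scheme.Hom.stalkSpecializes_stalkMap,
        ← Scheme.Hom.stalkSpecializes_stalkMap, ← Category.assoc,
        TopCat.Presheaf.stalkSpecializes_comp]
    rw [this, Scheme.SpecMap_stalkSpecializes_fromSpecStalk]
  have hg : g₁ = g₂ := by
    refine ext_of_isDominant_of_isSeparated s ?_ (Spec.map θ) (hι₁.trans hι₂.symm)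
    rw [← hf, ← Category.assoc, ← Category.assoc, hg₁, hg₂]
  have e₁ : g₁ (closedPoint _) = x₁ := by
    simp only [g₁, Scheme.Hom.comp_apply]
    rw [Spec_closedPoint, Scheme.fromSpecStalk_closedPoint]
  have e₂ : g₂ (closedPoint _) = x₂ := by
    haveI : IsIso (Y.presheaf.stalkSpecializes (specializes_of_eq h)) :=
      (Y.presheaf.stalkCongr (Inseparable.of_eq h.symm)).isIso_hom
    haveI : IsLocalHom (inv (f.stalkMap x₂) ≫
        Y.presheaf.stalkSpecializes (specializes_of_eq h)).hom := isLocalHom_of_isIso _
    simp only [g₂, Scheme.Hom.comp_apply]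
    rw [Spec_closedPoint, Scheme.fromSpecStalk_closedPoint]
  rw [← e₁, ← e₂, hg]


end Sch

section Assembly

variable {X Y : Scheme.{u}} [IsIntegral X] [IsIntegral Y] (f : X ⟶ Y)
  (e : f (genericPoint X) = genericPoint Y)

theorem bijective_stalkMap_of_valuationRing [∀ y, ValuationRing (Y.presheaf.stalk y)]
    (hbir : Function.Surjective (ffMap f e).hom) (x : X) :
    Function.Bijective (f.stalkMap x).hom :=
  bijective_of_valuationRing (KA := Y.functionField) (KB := X.functionField)
    (IsFractionRing.injective _ _) (f.stalkMap x).hom (ffMap f e).hom hbir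
    (ffMap_comm_apply f e x)

/-- A birational morphism `f : X ⟶ Y` of integral `S`-schemes, `X` separated over `S`, `f` locally of finite
presentation, all local rings of `Y` valuation rings, is an open immersion. -/
theorem isOpenImmersion_of_valuationRing [∀ y, ValuationRing (Y.presheaf.stalk y)]
    [LocallyOfFinitePresentation f]
    {S : Scheme.{u}} (s : X ⟶ S) [IsSeparated s] (t : Y ⟶ S) (hf : f ≫ t = s)
    (hbir : Function.Surjective (ffMap f e).hom) : IsOpenImmersion f := by
  have hbij := bijective_stalkMap_of_valuationRing f e hbir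
  haveI : ∀ x, IsIso (f.stalkMap x) := fun x =>
    (ConcreteCategory.isIso_iff_bijective _).mpr (hbij x)
  have hinj := injective_of_isIso_stalkMap f s t hf
  haveI : Flat f := Flat.of_stalkMap f fun x => RingHom.Flat.of_bijective (hbij x)
  have hopen : IsOpenMap f := isOpenMap_of_generalizingMap f (Flat.generalizingMap f)
  exact IsOpenImmersion.of_isIso_stalkMap f
    (.of_continuous_injective_isOpenMap f.continuous hinj hopen)

end Assembly

end Groth.Agent.R2.H19.BirCurve
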