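import Groth.Agent.R2.H19UnibranchOpen
import Groth.Agent.Lib.Helper6UniC
import Groth.Agent.Lib.Helper6UniD
import Groth.Agent.Lib.Helper6QFAffB
import Groth.Agent.S4925
import Groth.Agent.S4926

/-!
# Chevalley's criterion for universal openness without Noetherian hypotheses (EGA IV 14.4)
-/

set_option autoImplicit false
set_option linter.style.haveILetI false
universe u
open IsLocalRing CategoryTheory CategoryTheory.Limits AlgebraicGeometry

namespace Groth.Agent.R2.H19.ChevalleyNN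

open Groth.Agent.Lib.Helper26.UnivOpenAt EGA43 Groth.Agent.Lib.Helper6.Uni
  Groth.Agent.R2.H19.UnibranchOpen Groth.Agent.Lib.Helper6.QFAff
  Groth.Agent.Lib.Helper4.DimFormula Groth.Agent.Lib.Helper4.VarDim

section Ring
open MvPolynomial
attribute [local instance] MvPolynomial.algebraMvPolynomial

set_option maxHeartbeats 1000000 in
/-- **A dominant quasi-finite algebra with irreducible spectrum is universally open at the points
over geometrically unibranch points** (no Noetherian hypothesis). -/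
theorem isUnivOpenAt_SpecMap_of_quasiFinite' {A B : Type u} [CommRing A] [CommRing B] [Algebra A B]
    [Algebra.FiniteType A B] [Algebra.QuasiFinite A B]
    (hB : (nilradical B).IsPrime)
    (hker : ∀ a : A, IsNilpotent (algebraMap A B a) → IsNilpotent a)
    (𝔭 : PrimeSpectrum B)
    (hU : CAlg2.IsGeomUnibranch (Localization.AtPrime (𝔭.asIdeal.comap (algebraMap A B)))) :
    IsUnivOpenAt (Spec.map (CommRingCat.ofHom (algebraMap A B)))
      (𝔭 : ↥(Spec (CommRingCat.of B))) := by
  apply isUnivOpenAt_SpecMap_of_ring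
  intro A' _ _ p' hp'
  refine isOpenAt_comap_tensor 𝔭 ?_ A' p' hp'
  intro n q hq
  let A₁ := MvPolynomial (Fin n) A
  let B₁ := MvPolynomial (Fin n) B
  let f₀ := Spec.map (CommRingCat.ofHom (algebraMap A B))
  let f₁ : Spec (CommRingCat.of B₁) ⟶ Spec (CommRingCat.of A₁) :=
    Spec.map (CommRingCat.ofHom (MvPolynomial.map (algebraMap A B)))
  have sq := isPullback_mvPolynomial A B n
  have hft₀ : LocallyOfFiniteType f₀ := by
    rw [HasRingHomProperty.Spec_iff (P := @LocallyOfFiniteType)]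
    exact (RingHom.finiteType_algebraMap (A := A) (B := B)).mpr inferInstance
  have hqf₀ : LocallyQuasiFinite f₀ := by
    rw [HasRingHomProperty.Spec_iff (P := @LocallyQuasiFinite)]
    exact (RingHom.quasiFinite_algebraMap (R := A) (S := B)).mpr inferInstance
  have hft₁ : LocallyOfFiniteType f₁ :=
    MorphismProperty.of_isPullback (P := @LocallyOfFiniteType) sq hft₀
  have hqf₁ : LocallyQuasiFinite f₁ :=
    MorphismProperty.of_isPullback (P := @LocallyQuasiFinite) sq hqf₀
  haveI : Algebra.FiniteType A₁ B₁ := by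
    rw [HasRingHomProperty.Spec_iff (P := @LocallyOfFiniteType)] at hft₁
    exact (RingHom.finiteType_algebraMap (A := A₁) (B := B₁)).mp hft₁
  haveI : Algebra.QuasiFinite A₁ B₁ := by
    rw [HasRingHomProperty.Spec_iff (P := @LocallyQuasiFinite)] at hqf₁
    exact (RingHom.quasiFinite_algebraMap (R := A₁) (S := B₁)).mp hqf₁
  have hcomap : (q.asIdeal.comap (algebraMap A₁ B₁)).comap (C : A →+* A₁) =
      𝔭.asIdeal.comap (algebraMap A B) := by
    rw [Ideal.comap_comap]
    have e1 : (algebraMap A₁ B₁).comp (C : A →+* A₁) = (C : B →+* B₁).comp (algebraMap A B) := by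
      refine RingHom.ext (fun a => ?_)
      show algebraMap A₁ B₁ (C a) = C (algebraMap A B a)
      rw [MvPolynomial.algebraMap_def, MvPolynomial.map_C]
    rw [e1, ← Ideal.comap_comap]
    congr 1
    exact congrArg PrimeSpectrum.asIdeal hq
  have hU₁ : CAlg2.IsGeomUnibranch (Localization.AtPrime (q.asIdeal.comap (algebraMap A₁ B₁))) :=
    isGeomUnibranch_mvPolynomial_localization' _ _ hcomap hU
  haveI : Algebra.QuasiFiniteAt A₁ q.asIdeal := inferInstance
  exact isOpenAt_comap_of_quasiFiniteAt q.asIdeal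
    (isPrime_nilradical_mvPolynomial (Fin n) hB)
    (isNilpotent_of_isNilpotent_map (Fin n) hker) hU₁.1

end Ring

set_option maxHeartbeats 1000000 in
/-- **EGA IV 14.4.1**: a dominant quasi-finite morphism of irreducible schemes is universally
open (no Noetherian hypothesis) at the points over geometrically unibranch points. -/
theorem isUnivOpenAt_of_quasiFinite_of_isGeomUnibranch' {T Y : Scheme.{u}}
    [IrreducibleSpace T] [IrreducibleSpace Y] (h : T ⟶ Y) [LocallyOfFiniteType h]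
    [LocallyQuasiFinite h] [IsDominant h] (t : T)
    (hy : CAlg2.IsGeomUnibranch (Y.presheaf.stalk (h.base t))) : IsUnivOpenAt h t := by
  obtain ⟨_, ⟨V, hV : IsAffineOpen V, rfl⟩, hyV, -⟩ :=
    Y.isBasis_affineOpens.exists_subset_of_mem_open (Set.mem_univ (h.base t)) isOpen_univ
  obtain ⟨_, ⟨W, hW : IsAffineOpen W, rfl⟩, hxW, hWV⟩ :=
    T.isBasis_affineOpens.exists_subset_of_mem_open (show t ∈ ((h ⁻¹ᵁ V : T.Opens) : Set T) from hyV)
      (h ⁻¹ᵁ V).isOpen
  have e : W ≤ h ⁻¹ᵁ V := hWV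
  let φ : Γ(Y, V) ⟶ Γ(T, W) := h.appLE V W e
  letI : Algebra Γ(Y, V) Γ(T, W) := φ.hom.toAlgebra
  haveI hft : Algebra.FiniteType Γ(Y, V) Γ(T, W) := by
    have := HasRingHomProperty.appLE (P := @LocallyOfFiniteType) h inferInstance ⟨V, hV⟩ ⟨W, hW⟩ e
    exact (RingHom.finiteType_algebraMap (A := Γ(Y, V)) (B := Γ(T, W))).mp this
  haveI hqf : Algebra.QuasiFinite Γ(Y, V) Γ(T, W) := by
    have := HasRingHomProperty.appLE (P := @LocallyQuasiFinite) h inferInstance ⟨V, hV⟩ ⟨W, hW⟩ e
    exact (RingHom.quasiFinite_algebraMap (R := Γ(Y, V)) (S := Γ(T, W))).mp this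
  have hcomm : Spec.map φ ≫ hV.fromSpec = hW.fromSpec ≫ h :=
    IsAffineOpen.SpecMap_appLE_fromSpec h hV hW e
  have hx : t ∈ Set.range hW.fromSpec.base := by
    rw [hW.range_fromSpec]; exact hxW
  obtain ⟨P, rfl⟩ := hx
  have hfx : h.base (hW.fromSpec.base P) = hV.fromSpec.base ((Spec.map φ).base P) := by
    rw [← Scheme.Hom.comp_apply, ← Scheme.Hom.comp_apply, hcomm]
  have hB : (nilradical Γ(T, W)).IsPrime := by
    rw [← PrimeSpectrum.irreducibleSpace_iff_isPrime_nilradical]
    have hirr : IrreducibleSpace ↥W := Subtype.irreducibleSpace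
      ⟨⟨_, hxW⟩, (IrreducibleSpace.isIrreducible_univ T).2.open_subset W.isOpen (Set.subset_univ _)⟩
    exact (hW.isoSpec.hom.homeomorph.irreducibleSpace_iff).mp hirr
  have hker : ∀ a : Γ(Y, V), IsNilpotent (algebraMap Γ(Y, V) Γ(T, W) a) → IsNilpotent a := by
    intro a ha
    rw [Scheme.isNilpotent_iff_basicOpen_eq_bot_of_isCompact hV.isCompact]
    rw [Scheme.isNilpotent_iff_basicOpen_eq_bot_of_isCompact hW.isCompact] at ha
    have ha' : T.basicOpen (h.appLE V W e a) = ⊥ := ha
    rw [Scheme.basicOpen_appLE] at ha'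
    by_contra hne
    have hne' : ((Y.basicOpen a : Y.Opens) : Set Y).Nonempty := by
      rw [Set.nonempty_iff_ne_empty]
      intro h0
      apply hne
      ext z
      simp only [TopologicalSpace.Opens.coe_bot]
      rw [h0]
    have hWd : Dense (W : Set T) := W.isOpen.dense ⟨_, hxW⟩
    have hfW : Dense (h.base '' (W : Set T)) := h.denseRange.dense_image h.continuous hWd
    obtain ⟨_, hz, ⟨w, hwW, rfl⟩⟩ := hfW.inter_open_nonempty _ (Y.basicOpen a).isOpen hne'
    have : w ∈ ((W ⊓ h ⁻¹ᵁ (Y.basicOpen a) : T.Opens) : Set T) := ⟨hwW, hz⟩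
    rw [ha'] at this
    exact this
  have hU : CAlg2.IsGeomUnibranch
      (Localization.AtPrime (P.asIdeal.comap (algebraMap Γ(Y, V) Γ(T, W)))) :=
    isGeomUnibranch_localization_of_stalk V hV ((Spec.map φ).base P) (hfx ▸ hy)
  have h2 := isUnivOpenAt_SpecMap_of_quasiFinite' hB hker P hU
  have h3 : IsUnivOpenAt (Spec.map φ ≫ hV.fromSpec) P :=
    Groth.Agent.S4925.result _ _ _ h2 (isUnivOpenAt_of_universallyOpen _ _)
  rw [hcomm] at h3
  exact Groth.Agent.S4926.result _ _ _ h3

/-- the structure morphism of an affine space is universally open. -/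
instance universallyOpen_affineSpace_over (n : Type u) (S : Scheme.{u}) :
    UniversallyOpen (𝔸(n; S) ↘ S) := by
  refine ⟨fun X' Y' i₁ i₂ f' sq => ?_⟩
  have sq2 := AffineSpace.isPullback_map (n := n) i₂
  have e : f' = (sq.flip.isoIsPullback _ _ sq2).hom ≫ (𝔸(n; Y') ↘ Y') :=
    (IsPullback.isoIsPullback_hom_snd _ _ sq.flip sq2).symm
  show IsOpenMap f'.base
  rw [e, Scheme.Hom.comp_base, TopCat.coe_comp]
  exact (AffineSpace.isOpenMap_over Y').comp
    (sq.flip.isoIsPullback _ _ sq2).hom.homeomorph.isOpenMap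

/-- core A: a dominant quasi-finite morphism to an affine space over an irreducible scheme. -/
theorem isUnivOpenAt_of_toAffineSpace {U Y : Scheme.{u}} [IrreducibleSpace U] [IrreducibleSpace Y]
    (σ : Type u) (g : U ⟶ 𝔸(σ; Y)) [LocallyOfFiniteType g] [LocallyQuasiFinite g] [IsDominant g]
    (u : U) (hy : CAlg2.IsGeomUnibranch (Y.presheaf.stalk ((𝔸(σ; Y) ↘ Y).base (g.base u)))) :
    IsUnivOpenAt (g ≫ (𝔸(σ; Y) ↘ Y)) u := by
  have h1 : IsUnivOpenAt g u :=
    isUnivOpenAt_of_quasiFinite_of_isGeomUnibranch' g u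
      (isGeomUnibranch_stalk_affineSpace σ (g.base u) hy)
  exact Groth.Agent.S4925.result g _ u h1 (isUnivOpenAt_of_universallyOpen _ _)

/-- in an irreducible quasi-sober T0 space a point without proper generizations is dense. -/
theorem dense_singleton_of_forall_specializes {α : Type*} [TopologicalSpace α] [QuasiSober α]
    [IrreducibleSpace α] (ξ : α) (hmax : ∀ y : α, y ⤳ ξ → y = ξ) :
    closure ({ξ} : Set α) = Set.univ := by
  have h1 := mem_irreducibleComponents_of_forall_specializes ξ hmax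
  have h2 : (Set.univ : Set α) ⊆ closure {ξ} :=
    h1.2 (IrreducibleSpace.isIrreducible_univ α) (Set.subset_univ _)
  exact Set.eq_univ_of_univ_subset h2

set_option maxHeartbeats 1600000 in
/-- core B: Chevalley's criterion at a point for an irreducible source, in terms of the generic
point. -/
theorem isUnivOpenAt_of_generic_data {X Y : Scheme.{u}} [IrreducibleSpace X] (f : X ⟶ Y)
    [LocallyOfFiniteType f] (x : X) (e : ℕ)
    (hfd : FlatMor.fibreDimAt f x ≤ (e : WithBot ℕ∞))
    (ξ : X) (hξ : closure ({ξ} : Set X) = Set.univ) (htr : ptTrdeg f ξ = e)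
    (hξmax : ∀ y' : Y, y' ⤳ f.base ξ → y' = f.base ξ)
    (V : Y.Opens) (hVirr : IrreducibleSpace ↥V) (hxV : f.base x ∈ V)
    (hy : CAlg2.IsGeomUnibranch (Y.presheaf.stalk (f.base x))) : IsUnivOpenAt f x := by
  obtain ⟨_, ⟨V' : Y.Opens, hV', rfl⟩, hxV', hV'V⟩ :=
    Y.isBasis_affineOpens.exists_subset_of_mem_open hxV V.isOpen
  replace hV' : IsAffineOpen V' := hV'
  haveI hV'irr : IrreducibleSpace ↥V' := by
    have h1 : IsIrreducible (V : Set Y) := by
      have := (IrreducibleSpace.isIrreducible_univ ↥V).image Subtype.val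
        continuous_subtype_val.continuousOn
      rwa [Set.image_univ, Subtype.range_coe] at this
    exact Subtype.irreducibleSpace ⟨⟨_, hxV'⟩, h1.2.open_subset V'.isOpen hV'V⟩
  haveI : IrreducibleSpace ↥(V' : Scheme.{u}) := hV'irr
  obtain ⟨U, hU, hxU, g, π, hg, hπ, hqf, hft⟩ :=
    exists_affine_nhd_quasiFinite f x V' hV' hxV' e hfd
  haveI := hqf
  haveI := hft
  haveI hUirr : IrreducibleSpace ↥U := Subtype.irreducibleSpace
    ⟨⟨_, hxU⟩, (IrreducibleSpace.isIrreducible_univ X).2.open_subset U.isOpen (Set.subset_univ _)⟩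
  haveI : IrreducibleSpace ↥(U : Scheme.{u}) := hUirr
  -- the generic point lies in `U`
  have hξU : ξ ∈ U := by
    have hd : Dense ({ξ} : Set X) := by rw [dense_iff_closure_eq]; exact hξ
    obtain ⟨z, hzU, hz⟩ := hd.inter_open_nonempty _ U.isOpen ⟨x, hxU⟩
    rw [Set.mem_singleton_iff] at hz
    exact hz ▸ hzU
  let u₀ : ↥U := ⟨ξ, hξU⟩
  haveI : LocallyOfFiniteType g := by
    haveI : LocallyOfFiniteType (g ≫ V'.ι) := by rw [hg]; infer_instance
    exact locallyOfFiniteType_of_comp g V'.ι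
  have hgu₀ : V'.ι.base (g.base u₀) = f.base ξ := by
    rw [← Scheme.Hom.comp_apply, hg, Scheme.Hom.comp_apply]
    rfl
  have htr1 : ptTrdeg (π ≫ (𝔸(ULift.{u} (Fin e); (V' : Scheme.{u})) ↘ (V' : Scheme.{u}))) u₀ = e := by
    rw [hπ]
    have h1 : ptTrdeg (g ≫ V'.ι) u₀ = e := by
      rw [hg, Groth.Agent.Lib.Helper4.DimFormula.ptTrdeg_comp_of_isPreimmersion U.ι f u₀]
      exact htr
    rw [ptTrdeg_comp g V'.ι u₀, ptTrdeg_eq_zero_of_locallyQuasiFinite V'.ι, zero_add] at h1
    exact h1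
  have hmax1 : ∀ y' : ↥V', y' ⤳
      (π ≫ (𝔸(ULift.{u} (Fin e); (V' : Scheme.{u})) ↘ (V' : Scheme.{u}))).base u₀ →
      y' = (π ≫ (𝔸(ULift.{u} (Fin e); (V' : Scheme.{u})) ↘ (V' : Scheme.{u}))).base u₀ := by
    rw [hπ]
    intro y' hy'
    have h1 : V'.ι.base y' ⤳ V'.ι.base (g.base u₀) := hy'.map V'.ι.continuous
    rw [hgu₀] at h1
    have h2 := hξmax _ h1
    rw [← hgu₀] at h2
    exact V'.ι.isOpenEmbedding.injective h2
  have hwmax := maximal_of_ptTrdeg_eq e π u₀ htr1 hmax1
  haveI : IsDominant π := by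
    refine ⟨?_⟩
    have h1 := dense_singleton_of_forall_specializes _ hwmax
    intro z
    have : z ∈ closure ({π.base u₀} : Set _) := by rw [h1]; exact Set.mem_univ z
    exact closure_mono (Set.singleton_subset_iff.mpr (Set.mem_range_self u₀)) this
  let x' : ↥U := ⟨x, hxU⟩
  have hgx' : V'.ι.base (g.base x') = f.base x := by
    rw [← Scheme.Hom.comp_apply, hg, Scheme.Hom.comp_apply]
    rfl
  have hy1 : CAlg2.IsGeomUnibranch ((V' : Scheme.{u}).presheaf.stalk
      ((𝔸(ULift.{u} (Fin e); (V' : Scheme.{u})) ↘ (V' : Scheme.{u})).base (π.base x'))) := by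
    have h1 : (𝔸(ULift.{u} (Fin e); (V' : Scheme.{u})) ↘ (V' : Scheme.{u})).base (π.base x') =
        g.base x' := by
      rw [← Scheme.Hom.comp_apply, hπ]
    rw [h1]
    exact isGeomUnibranch_stalk_opens V' (g.base x') (f.base x) hgx' hy
  have h3 := isUnivOpenAt_of_toAffineSpace (ULift.{u} (Fin e)) π x' hy1
  rw [hπ] at h3
  have h4 : IsUnivOpenAt (g ≫ V'.ι) x' :=
    Groth.Agent.S4925.result g V'.ι x' h3 (isUnivOpenAt_of_universallyOpen _ _)
  rw [hg] at h4
  exact Groth.Agent.S4926.result U.ι f x' h4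

/-- **Chevalley's criterion, irreducible source and base** (no Noetherian hypothesis). -/
theorem universallyOpen_of_fibreDimAt_eq {X Y : Scheme.{u}} [IrreducibleSpace X]
    [IrreducibleSpace Y] (hY : ∀ y : Y, CAlg2.IsGeomUnibranch (Y.presheaf.stalk y)) (f : X ⟶ Y)
    [LocallyOfFiniteType f] [IsDominant f]
    (h : ∀ x : X, FlatMor.fibreDimAt f x =
      topologicalKrullDim ↥(f.fiber (f.base (genericPoint X)))) :
    UniversallyOpen f := by
  apply universallyOpen_of_forall_isUnivOpenAt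
  intro x
  set ξ := genericPoint X with hξdef
  have hξ : closure ({ξ} : Set X) = Set.univ := (genericPoint_spec X).def
  have hgen : ∀ y : X, ξ ⤳ y := fun y => (genericPoint_spec X).specializes (Set.mem_univ y)
  have hmaxξ : ∀ y : X, f.base y = f.base ξ → y ⤳ ξ → y = ξ :=
    fun y _ hy => (hy.antisymm (hgen y)).eq
  have h1 := fibreDimAt_eq_ptTrdeg_of_maximal f ξ hmaxξ
  have hfd : FlatMor.fibreDimAt f x = ((ptTrdeg f ξ : ℕ) : WithBot ℕ∞) := by
    rw [h x, ← h ξ]; exact h1
  have hfgen : ∀ y' : Y, f.base ξ ⤳ y' := by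
    intro y'
    rw [specializes_iff_mem_closure]
    have h2 : Set.range f.base ⊆ closure {f.base ξ} := by
      rintro _ ⟨z, rfl⟩
      exact ((hgen z).map f.continuous).mem_closure
    have h3 : closure (Set.range f.base) ⊆ closure {f.base ξ} :=
      closure_minimal h2 isClosed_closure
    exact h3 (f.denseRange y')
  have hξmax : ∀ y' : Y, y' ⤳ f.base ξ → y' = f.base ξ :=
    fun y' hy' => (hy'.antisymm (hfgen y')).eq
  have hVirr : IrreducibleSpace ↥(⊤ : Y.Opens) := Subtype.irreducibleSpace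
    ⟨⟨f.base x, trivial⟩, (IrreducibleSpace.isIrreducible_univ Y).2.open_subset
      (⊤ : Y.Opens).isOpen (Set.subset_univ _)⟩
  exact isUnivOpenAt_of_generic_data f x (ptTrdeg f ξ) hfd.le ξ hξ rfl hξmax ⊤ hVirr trivial
    (hY _)

/-- a point of a scheme with finitely many irreducible components whose local ring has prime
nilradical has an irreducible open neighbourhood. -/
theorem exists_opens_irreducibleSpace_of_finite {Y : Scheme.{u}}
    (hfin : (irreducibleComponents (Y : Type u)).Finite) (y : Y)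
    (hy : (nilradical (Y.presheaf.stalk y)).IsPrime) :
    ∃ V : Y.Opens, y ∈ V ∧ IrreducibleSpace ↥V := by
  let T : Set (Set Y) := {Z | Z ∈ irreducibleComponents (Y : Type u) ∧ y ∉ Z}
  have hTfin : T.Finite := hfin.subset (fun Z hZ => hZ.1)
  have hclosed : IsClosed (⋃₀ T) := by
    rw [Set.sUnion_eq_biUnion]
    exact hTfin.isClosed_biUnion fun Z hZ => isClosed_of_mem_irreducibleComponents Z hZ.1
  let U₁ : Y.Opens := ⟨(⋃₀ T)ᶜ, hclosed.isOpen_compl⟩
  have hyU₁ : y ∈ U₁ := by
    rintro ⟨Z, hZ, hyZ⟩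
    exact hZ.2 hyZ
  have hU₁ : ∀ ξ : Y, ξ ∈ U₁ → (∀ ξ' : Y, ξ' ⤳ ξ → ξ' = ξ) → ξ ⤳ y := by
    intro ξ hξU hmax
    have hc := mem_irreducibleComponents_of_forall_specializes ξ hmax
    by_contra hne
    apply hξU
    exact ⟨closure {ξ}, ⟨hc, fun hy => hne (specializes_iff_mem_closure.mpr hy)⟩,
      subset_closure rfl⟩
  set ξ₀ : Y := Y.fromSpecStalk y ⟨nilradical (Y.presheaf.stalk y), hy⟩ with hξ₀
  have hξ₀y : ξ₀ ⤳ y := fromSpecStalk_specializes y _
  have hξ₀U : ξ₀ ∈ U₁ := hξ₀y.mem_open U₁.2 hyU₁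
  have hmaxeq : ∀ ξ : Y, (∀ ξ' : Y, ξ' ⤳ ξ → ξ' = ξ) → ξ ⤳ y → ξ = ξ₀ := by
    intro ξ hmax hξy
    obtain ⟨𝔮, h𝔮, rfl⟩ := exists_prime_fromSpecStalk_eq hξy
    haveI := h𝔮
    have hle : nilradical (Y.presheaf.stalk y) ≤ 𝔮 := by
      rw [nilradical_eq_sInf]
      exact sInf_le h𝔮
    have := (fromSpecStalk_specializes_iff y (nilradical (Y.presheaf.stalk y)) 𝔮).mpr hle
    exact (hmax _ this).symm
  have hsub : (U₁ : Set Y) ⊆ closure {ξ₀} := by
    intro z hz
    obtain ⟨ξ, hξ, hξz⟩ := exists_generic_specializes z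
    have hξU : ξ ∈ U₁ := hξz.mem_open U₁.2 hz
    have hξmax : ∀ ξ' : Y, ξ' ⤳ ξ → ξ' = ξ := fun ξ' h' => eq_of_specializes_generic ξ ξ' hξ h'
    have := hmaxeq ξ hξmax (hU₁ ξ hξU hξmax)
    rw [← this]
    exact hξz.mem_closure
  refine ⟨U₁, hyU₁, ?_⟩
  exact Subtype.irreducibleSpace
    ⟨⟨_, hyU₁⟩, (isIrreducible_singleton.closure).2.open_subset U₁.isOpen hsub⟩

set_option maxHeartbeats 1600000 in
/-- Chevalley's criterion at a point of an irreducible closed subscheme. -/
theorem isUnivOpenAt_of_subscheme_isEquidimAt {X S : Scheme.{u}}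
    (hS : ∀ s : S, CAlg2.IsGeomUnibranch (S.presheaf.stalk s))
    (hfin : (irreducibleComponents (S : Type u)).Finite)
    (f : X ⟶ S) [LocallyOfFiniteType f] (I : X.IdealSheafData)
    (hI : IsIrreducible (I.support : Set X)) (w : ↥I.subscheme)
    (hequi : EGA43.IsEquidimAt (I.subschemeι ≫ f) w) : IsUnivOpenAt f (I.subschemeι.base w) := by
  have hrange : Set.range I.subschemeι = (I.support : Set X) :=
    Scheme.IdealSheafData.range_subschemeι I
  -- irreducibility of the subscheme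
  haveI hZirr : IrreducibleSpace ↥I.subscheme := by
    have h1 : IrreducibleSpace ↥(Set.range I.subschemeι) := by
      rw [hrange]; exact Subtype.irreducibleSpace hI
    exact (I.subschemeι.isEmbedding.toHomeomorph.irreducibleSpace_iff).mpr h1
  set g : I.subscheme ⟶ S := I.subschemeι ≫ f with hg
  haveI : LocallyOfFiniteType g := by rw [hg]; infer_instance
  obtain ⟨e, U₀, hwU₀, h1, h2⟩ := hequi
  set ξ := genericPoint ↥I.subscheme with hξdef
  have hξ : closure ({ξ} : Set ↥I.subscheme) = Set.univ := (genericPoint_spec _).def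
  have hgen : ∀ y : ↥I.subscheme, ξ ⤳ y :=
    fun y => (genericPoint_spec ↥I.subscheme).specializes (Set.mem_univ y)
  have hξmax : ∀ z : ↥I.subscheme, z ⤳ ξ → z = ξ := fun z hz => (hz.antisymm (hgen z)).eq
  have hξU₀ : ξ ∈ U₀ := (hgen w).mem_open U₀.2 hwU₀
  obtain ⟨htr, hfmax⟩ := maximal_data_of_equidim g e U₀
    (fun Z hZ => by obtain ⟨W', hW', -, hcl⟩ := h1 Z hZ; exact ⟨W', hW', hcl⟩) h2 ξ hξmax hξU₀
  have hfd : FlatMor.fibreDimAt g w = (e : WithBot ℕ∞) :=
    Groth.Agent.Lib.Helper6.EquiSub.fibreDimAt_eq_of_equidim g e U₀ h2 w hwU₀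
  have hnil : (nilradical (S.presheaf.stalk (g.base w))).IsPrime := by
    have := (hS (g.base w)).1.1
    exact (Ideal.Quotient.isDomain_iff_prime _).mp this
  obtain ⟨V, hyV, hVirr⟩ := exists_opens_irreducibleSpace_of_finite hfin (g.base w) hnil
  have h3 : IsUnivOpenAt g w :=
    isUnivOpenAt_of_generic_data g w e hfd.le ξ hξ htr hfmax V hVirr hyV (hS _)
  exact Groth.Agent.S4926.result I.subschemeι f w h3

/-- **EGA IV 14.4.4 (non-Noetherian Chevalley criterion)**. -/
theorem universallyOpen_of_isEquidimAt_components {X S : Scheme.{u}}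
    (hS : ∀ s : S, CAlg2.IsGeomUnibranch (S.presheaf.stalk s))
    (hfin : (irreducibleComponents (S : Type u)).Finite)
    (f : X ⟶ S) [LocallyOfFiniteType f]
    (hT : ∀ x : X, ∃ W : TopologicalSpace.Closeds X,
      (W : Set X) ∈ irreducibleComponents (X : Type u) ∧
      ∃ w : ↥((Scheme.IdealSheafData.vanishingIdeal W).subscheme),
        (Scheme.IdealSheafData.vanishingIdeal W).subschemeι.base w = x ∧
        EGA43.IsEquidimAt ((Scheme.IdealSheafData.vanishingIdeal W).subschemeι ≫ f) w) :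
    UniversallyOpen f := by
  apply universallyOpen_of_forall_isUnivOpenAt
  intro x
  obtain ⟨W, hW, w, hw, hequi⟩ := hT x
  rw [← hw]
  refine isUnivOpenAt_of_subscheme_isEquidimAt hS hfin f _ ?_ w hequi
  rw [Scheme.IdealSheafData.coe_support_vanishingIdeal]
  exact hW.1

end Groth.Agent.R2.H19.ChevalleyNN
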