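import Groth.Agent.Lib.Helper25Comod
import Mathlib.LinearAlgebra.TensorProduct.Finiteness
import Mathlib.LinearAlgebra.TensorProduct.RightExactness
import Mathlib.RingTheory.Noetherian.Basic

/-!
# Local finiteness of comodules over a flat coalgebra over a Noetherian ring (helper19)

For a comodule `V` over a coalgebra `A` flat over a Noetherian ring `k`, every finitely generated
submodule of `V` is contained in a finitely generated subcomodule.  The subcomodule is
`sat N₀ = {v | ρ v ∈ N₀ ⊗ A}` for a finitely generated `N₀` with `ρ U ⊆ N₀ ⊗ A`.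
-/

set_option autoImplicit false
universe u v w w'

namespace Groth.Agent.R2.H19.ComodFin

open TensorProduct HopfRep Groth.Agent.Lib.Helper25

variable {k : Type u} [CommRing k] {A : Type v} [AddCommGroup A] [Module k A] [Coalgebra k A]
variable {V : Type w} [AddCommGroup V] [Module k V] [Comod k A V]

/-- The map `V → (V ⧸ N₀) ⊗ A`, `v ↦ (mkQ ⊗ id)(ρ v)`. -/
noncomputable def satMap (N₀ : Submodule k V) : V →ₗ[k] (V ⧸ N₀) ⊗[k] A :=
  N₀.mkQ.rTensor A ∘ₗ Comod.coact (k := k) (A := A)

/-- `sat N₀ = {v | ρ v ∈ N₀ ⊗ A}`. -/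
noncomputable def sat (N₀ : Submodule k V) : Submodule k V :=
  LinearMap.ker (satMap (A := A) N₀)

theorem mem_sat_iff (N₀ : Submodule k V) (v : V) :
    v ∈ sat (A := A) N₀ ↔
      Comod.coact (k := k) (A := A) v ∈ LinearMap.range (N₀.subtype.rTensor A) := by
  unfold sat satMap
  rw [LinearMap.mem_ker, LinearMap.comp_apply, ← LinearMap.mem_ker, _root_.rTensor_mkQ]

theorem sat_le (N₀ : Submodule k V) : sat (A := A) N₀ ≤ N₀ := by
  intro v hv
  rw [mem_sat_iff] at hv
  obtain ⟨y, hy⟩ := hv
  have hc := counit_apply (k := k) (A := A) v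
  rw [← hy, lTensor_rTensor_comm'] at hc
  have h2 : v = N₀.subtype (TensorProduct.rid k N₀
      ((CoalgebraStruct.counit (R := k) (A := A)).lTensor N₀ y)) := by
    have e : ∀ z : N₀ ⊗[k] k, N₀.subtype (TensorProduct.rid k N₀ z) =
        TensorProduct.rid k V (N₀.subtype.rTensor k z) := by
      intro z
      induction z using TensorProduct.induction_on with
      | zero => simp
      | add x y hx hy => simp only [map_add, hx, hy]
      | tmul v a => simp
    rw [e, hc]
    simp
  rw [h2]
  exact Submodule.coe_mem _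

theorem isSubcomod_sat [Module.Flat k A] (N₀ : Submodule k V) :
    IsSubcomod (k := k) (A := A) (sat (A := A) N₀) := by
  intro v hv
  have hex : Function.Exact ((sat (A := A) N₀).subtype.rTensor A)
      ((satMap (A := A) N₀).rTensor A) :=
    Module.Flat.rTensor_exact A (LinearMap.exact_subtype_ker_map (satMap (A := A) N₀))
  rw [← LinearMap.exact_iff.mp hex, LinearMap.mem_ker]
  have hv0 : N₀.mkQ.rTensor A (Comod.coact (k := k) (A := A) v) = 0 := hv
  have hc := coassoc_apply (k := k) (A := A) v
  have h1 : (satMap (A := A) N₀).rTensor A (Comod.coact (k := k) (A := A) v) =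
      (N₀.mkQ.rTensor A).rTensor A
        ((Comod.coact (k := k) (A := A)).rTensor A (Comod.coact (k := k) (A := A) v)) := by
    unfold satMap
    rw [LinearMap.rTensor_comp, LinearMap.comp_apply]
  rw [h1]
  apply (TensorProduct.assoc k (V ⧸ N₀) A A).injective
  rw [assoc_rTensor_rTensor', hc, LinearEquiv.apply_symm_apply, map_zero,
    ← lTensor_rTensor_comm', hv0, map_zero]

/-- Local finiteness: over a Noetherian ring, for a flat coalgebra, every finitely generated
submodule of a comodule lies in a finitely generated subcomodule. -/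
theorem exists_fg_subcomod_ge [IsNoetherianRing k] [Module.Flat k A] (U : Submodule k V)
    (hU : U.FG) :
    ∃ N : Submodule k V, N.FG ∧ U ≤ N ∧ IsSubcomod (k := k) (A := A) N := by
  obtain ⟨S, hS⟩ := hU
  obtain ⟨N₀, hN₀, hsub⟩ := TensorProduct.exists_finite_submodule_left_of_setFinite
    ((Comod.coact (k := k) (A := A)) '' (S : Set V)) (S.finite_toSet.image _)
  refine ⟨sat (A := A) N₀, Submodule.FG.of_le (Module.Finite.iff_fg.mp hN₀) (sat_le N₀), ?_,
    isSubcomod_sat N₀⟩
  rw [← hS, Submodule.span_le]
  intro s hs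
  exact (mem_sat_iff N₀ s).mpr (hsub ⟨s, hs, rfl⟩)

/-- Finite-set form of local finiteness. -/
theorem exists_fg_subcomod_finset [IsNoetherianRing k] [Module.Flat k A] (S : Finset V) :
    ∃ N : Submodule k V, N.FG ∧ (S : Set V) ⊆ N ∧ IsSubcomod (k := k) (A := A) N := by
  obtain ⟨N, hN, hle, hsub⟩ := exists_fg_subcomod_ge (A := A) (Submodule.span k (S : Set V))
    ⟨S, rfl⟩
  exact ⟨N, hN, fun s hs => hle (Submodule.subset_span hs), hsub⟩

end Groth.Agent.R2.H19.ComodFin
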