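import Mathlib.RingTheory.Flat.EquationalCriterion
import Mathlib.LinearAlgebra.Dual.Defs
import Mathlib.Algebra.Module.FinitePresentation
import Mathlib.RingTheory.Noetherian.Basic

/-!
# Extending maps to flat modules along `N → N**` (helper19)

For a finitely generated module `N` over a Noetherian ring and a flat module `M`, every linear map
`N → M` extends along the evaluation map `N → N**`; if `N**` is flat the extension is unique.
-/

set_option autoImplicit false
universe u v w

namespace Groth.Agent.R2.H19.FlatExt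

open Module

variable {R : Type u} [CommRing R]
variable {N : Type v} [AddCommGroup N] [Module R N]

/-- The map `N** → R^k` induced by `α : N → R^k`: `ξ ↦ (ξ (α_i))_i`. -/
noncomputable def gam {k : ℕ} (α : N →ₗ[R] (Fin k →₀ R)) :
    Dual R (Dual R N) →ₗ[R] (Fin k →₀ R) :=
  (Finsupp.linearEquivFunOnFinite R R (Fin k)).symm.toLinearMap ∘ₗ
    LinearMap.pi (fun i => Dual.eval R (Dual R N) (Finsupp.lapply i ∘ₗ α))

theorem gam_apply {k : ℕ} (α : N →ₗ[R] (Fin k →₀ R)) (ξ : Dual R (Dual R N)) (i : Fin k) :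
    gam α ξ i = ξ (Finsupp.lapply i ∘ₗ α) := by
  simp [gam]

theorem gam_eval {k : ℕ} (α : N →ₗ[R] (Fin k →₀ R)) (n : N) :
    gam α (Dual.eval R N n) = α n := by
  ext i
  rw [gam_apply]
  simp

theorem dual_gam {k : ℕ} (α : N →ₗ[R] (Fin k →₀ R)) (l : (Fin k →₀ R) →ₗ[R] R)
    (ξ : Dual R (Dual R N)) : l (gam α ξ) = ξ (l ∘ₗ α) := by
  classical
  have hl : l = ∑ i, (l (Finsupp.single i 1)) • Finsupp.lapply i := by
    apply Finsupp.lhom_ext'
    intro j
    apply LinearMap.ext_ring
    simp [Finsupp.single_apply]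
  have h1 : l (gam α ξ) = ∑ i, l (Finsupp.single i 1) * gam α ξ i := by
    conv_lhs => rw [hl]
    simp [LinearMap.sum_apply]
  have h2 : l ∘ₗ α = ∑ i, (l (Finsupp.single i 1)) • (Finsupp.lapply i ∘ₗ α) := by
    conv_lhs => rw [hl]
    apply LinearMap.ext
    intro n
    simp [LinearMap.sum_apply]
  rw [h1, h2, map_sum]
  refine Finset.sum_congr rfl (fun i _ => ?_)
  rw [map_smul, gam_apply, smul_eq_mul]

variable {M : Type w} [AddCommGroup M] [Module R M] [Module.Flat R M]

/-- Existence of extensions along `N → N**` to flat modules. -/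
theorem exists_extension [Module.FinitePresentation R N] (g : N →ₗ[R] M) :
    ∃ g' : Dual R (Dual R N) →ₗ[R] M, g' ∘ₗ Dual.eval R N = g := by
  obtain ⟨k, α, β, h⟩ := Module.Flat.exists_factorization_of_finitePresentation g
  refine ⟨β ∘ₗ gam α, ?_⟩
  apply LinearMap.ext
  intro n
  rw [LinearMap.comp_apply, LinearMap.comp_apply, gam_eval, h, LinearMap.comp_apply]

/-- Uniqueness of extensions along `N → N**` to flat modules, when `N**` is flat. -/
theorem eq_zero_of_comp_eval_eq_zero [Module.FinitePresentation R N]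
    [Module.Flat R (Dual R (Dual R N))] (h : Dual R (Dual R N) →ₗ[R] M)
    (h0 : h ∘ₗ Dual.eval R N = 0) : h = 0 := by
  obtain ⟨k, α, β, hev⟩ :=
    Module.Flat.exists_factorization_of_finitePresentation (Dual.eval R N)
  -- `β ∘ γ = id`
  have hβγ : β ∘ₗ gam α = LinearMap.id := by
    apply LinearMap.ext
    intro ξ
    apply LinearMap.ext
    intro d
    have := dual_gam α (Dual.eval R (Dual R N) d ∘ₗ β) ξ
    rw [LinearMap.comp_apply] at this
    rw [LinearMap.comp_apply, LinearMap.id_apply]
    change Dual.eval R (Dual R N) d (β (gam α ξ)) = ξ d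
    rw [this]
    congr 1
    apply LinearMap.ext
    intro n
    have h2 := LinearMap.congr_fun hev n
    rw [LinearMap.comp_apply] at h2
    rw [LinearMap.comp_apply, LinearMap.comp_apply, ← h2]
    simp
  have hx : (h ∘ₗ β) ∘ₗ α = 0 := by
    rw [LinearMap.comp_assoc, ← hev, h0]
  have : Module.Finite R N := inferInstance
  obtain ⟨k', a, y, hya, haα⟩ := Module.Flat.exists_factorization_of_comp_eq_zero_of_free hx
  have haγ : a ∘ₗ gam α = 0 := by
    apply LinearMap.ext
    intro ξ
    ext t
    have := dual_gam α (Finsupp.lapply t ∘ₗ a) ξ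
    rw [LinearMap.comp_apply] at this
    rw [LinearMap.comp_apply]
    change Finsupp.lapply (R := R) (M := R) t (a (gam α ξ)) = 0
    rw [this, LinearMap.comp_assoc, haα, LinearMap.comp_zero]
    exact map_zero ξ
  calc h = h ∘ₗ (β ∘ₗ gam α) := by rw [hβγ, LinearMap.comp_id]
    _ = (h ∘ₗ β) ∘ₗ gam α := by rw [LinearMap.comp_assoc]
    _ = y ∘ₗ (a ∘ₗ gam α) := by rw [hya, LinearMap.comp_assoc]
    _ = 0 := by rw [haγ, LinearMap.comp_zero]

/-- Uniqueness, in the form of equality of two extensions. -/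
theorem ext_of_comp_eval_eq [Module.FinitePresentation R N]
    [Module.Flat R (Dual R (Dual R N))] {h₁ h₂ : Dual R (Dual R N) →ₗ[R] M}
    (h0 : h₁ ∘ₗ Dual.eval R N = h₂ ∘ₗ Dual.eval R N) : h₁ = h₂ := by
  rw [← sub_eq_zero]
  apply eq_zero_of_comp_eval_eq_zero
  rw [LinearMap.sub_comp, h0, sub_self]

end Groth.Agent.R2.H19.FlatExt
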