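import Groth.Agent.Lib.Helper25Comod
import Groth.Agent.R2.H19FlatExt
import Mathlib.RingTheory.Flat.Stability

/-!
# The reflexive hull of a comodule (helper19)

Let `C` be a flat coalgebra over `R` and `N` a finitely presented `R`-module with a `C`-comodule
structure such that `P = N**` is flat.  Then `P` carries a unique comodule structure making the
evaluation map `N → N**` a comodule map, and every comodule map from `N` to a comodule which is flat
over `R` extends (uniquely) to a comodule map from `P`.
-/

set_option autoImplicit false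
set_option linter.style.haveILetI false
universe u v w w'

namespace Groth.Agent.R2.H19.ComodHull

open TensorProduct HopfRep Module Groth.Agent.Lib.Helper25 Groth.Agent.R2.H19.FlatExt

section Epi

variable {k : Type u} [CommRing k] {A : Type v} [AddCommGroup A] [Module k A] [Coalgebra k A]
variable {V : Type w} [AddCommGroup V] [Module k V]
variable {W : Type w'} [AddCommGroup W] [Module k W]

/-- Transport of a comodule structure along an intertwining map which is right-cancellable for
maps into `W ⊗ (A ⊗ A)` and `W ⊗ k`. -/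
@[reducible] noncomputable def comodOfEpi (c : Comod k A V) (ρ : W →ₗ[k] W ⊗[k] A)
    (f : V →ₗ[k] W)
    (hc1 : ∀ h₁ h₂ : W →ₗ[k] W ⊗[k] (A ⊗[k] A), h₁ ∘ₗ f = h₂ ∘ₗ f → h₁ = h₂)
    (hc2 : ∀ h₁ h₂ : W →ₗ[k] W ⊗[k] k, h₁ ∘ₗ f = h₂ ∘ₗ f → h₁ = h₂)
    (h : ρ ∘ₗ f = f.rTensor A ∘ₗ c.coact) :
    Comod k A W where
  coact := ρ
  coassoc := by
    apply hc1
    apply LinearMap.ext
    intro v
    have hfv : ρ (f v) = f.rTensor A (c.coact v) := LinearMap.congr_fun h v
    have hc := LinearMap.congr_fun c.coassoc v
    simp only [LinearMap.coe_comp, Function.comp_apply, LinearEquiv.coe_coe] at hc ⊢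
    rw [hfv, ← LinearMap.comp_apply (ρ.rTensor A) (f.rTensor A), ← LinearMap.rTensor_comp, h,
      LinearMap.rTensor_comp, LinearMap.comp_apply, assoc_rTensor_rTensor', hc,
      lTensor_rTensor_comm']
  counit_comp := by
    apply hc2
    apply LinearMap.ext
    intro v
    have hfv : ρ (f v) = f.rTensor A (c.coact v) := LinearMap.congr_fun h v
    have hc := LinearMap.congr_fun c.counit_comp v
    simp only [LinearMap.coe_comp, Function.comp_apply, LinearMap.flip_apply,
      TensorProduct.mk_apply] at hc ⊢
    rw [hfv, lTensor_rTensor_comm', hc, LinearMap.rTensor_tmul]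

end Epi

section Hull

variable {R : Type u} [CommRing R] {C : Type v} [AddCommGroup C] [Module R C] [Coalgebra R C]
  [Module.Flat R C]
variable (N : Type w) [AddCommGroup N] [Module R N] [cN : Comod R C N]
  [Module.FinitePresentation R N] [Module.Flat R (Dual R (Dual R N))]

/-- The map `N → N** ⊗ C` to be extended. -/
noncomputable def preCoact : N →ₗ[R] Dual R (Dual R N) ⊗[R] C :=
  (Dual.eval R N).rTensor C ∘ₗ cN.coact

theorem exists_hullCoact : ∃ ρ : Dual R (Dual R N) →ₗ[R] Dual R (Dual R N) ⊗[R] C,
    ρ ∘ₗ Dual.eval R N = preCoact (C := C) N :=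
  exists_extension (R := R) (N := N) (M := Dual R (Dual R N) ⊗[R] C) (preCoact (C := C) N)

/-- The coaction on the reflexive hull. -/
noncomputable def hullCoact : Dual R (Dual R N) →ₗ[R] Dual R (Dual R N) ⊗[R] C :=
  (exists_hullCoact (C := C) N).choose

theorem hullCoact_comp_eval :
    hullCoact (C := C) N ∘ₗ Dual.eval R N = (Dual.eval R N).rTensor C ∘ₗ cN.coact :=
  (exists_hullCoact (C := C) N).choose_spec

/-- The comodule structure on the reflexive hull. -/
@[reducible] noncomputable def hullComod : Comod R C (Dual R (Dual R N)) :=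
  comodOfEpi cN (hullCoact (C := C) N) (Dual.eval R N)
    (fun _ _ h => ext_of_comp_eval_eq (R := R) (N := N)
      (M := Dual R (Dual R N) ⊗[R] (C ⊗[R] C)) h)
    (fun _ _ h => ext_of_comp_eval_eq (R := R) (N := N)
      (M := Dual R (Dual R N) ⊗[R] R) h)
    (hullCoact_comp_eval (C := C) N)

theorem isComodHom_eval :
    @Hoch.IsComodHom R _ C _ _ _ N _ _ cN (Dual R (Dual R N)) _ _ (hullComod (C := C) N)
      (Dual.eval R N) :=
  hullCoact_comp_eval (C := C) N

/-- Comodule maps from `N` to a flat comodule extend to the reflexive hull. -/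
theorem exists_hom_extension {W : Type w'} [AddCommGroup W] [Module R W] [cW : Comod R C W]
    [Module.Flat R W] (j : N →ₗ[R] W) (hj : Hoch.IsComodHom C j) :
    ∃ j' : Dual R (Dual R N) →ₗ[R] W,
      @Hoch.IsComodHom R _ C _ _ _ (Dual R (Dual R N)) _ _ (hullComod (C := C) N) W _ _ cW j' ∧
        j' ∘ₗ Dual.eval R N = j := by
  obtain ⟨j', hj'⟩ := exists_extension (R := R) (N := N) (M := W) j
  refine ⟨j', ?_, hj'⟩
  change cW.coact ∘ₗ j' = j'.rTensor C ∘ₗ hullCoact (C := C) N
  apply ext_of_comp_eval_eq (R := R) (N := N) (M := W ⊗[R] C)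
  rw [LinearMap.comp_assoc, hj', LinearMap.comp_assoc, hullCoact_comp_eval, ← LinearMap.comp_assoc,
    ← LinearMap.rTensor_comp, hj']
  exact hj

end Hull

end Groth.Agent.R2.H19.ComodHull
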