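import Groth.Agent.Lib.Helper25ComodMat
import Groth.Agent.Lib.Helper25ComodEnd
import Groth.Prelude.Def_ComodTens
import Mathlib.RingTheory.Finiteness.Projective
import Mathlib.LinearAlgebra.Matrix.Determinant.Basic
import Mathlib.RingTheory.Adjoin.Basic

/-!
# From a finite projective comodule mapping to a Hopf algebra to a matrix corepresentation
(helper19)

Let `A` be a commutative Hopf algebra over `R`, `E` an `A`-comodule which is finite projective over
`R`, and `g : E → A` a comodule map to the regular comodule.  Then there is a comatrix `a` (a matrix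
corepresentation) with invertible determinant such that the range of `g` lies in the subalgebra
generated by the entries of `a` (even in their span).
-/

set_option autoImplicit false
set_option linter.style.haveILetI false
universe u v w

namespace Groth.Agent.R2.H19.ComodMatrix

open TensorProduct HopfRep Groth.Agent.Lib.Helper25 Module

section Split

variable {R : Type u} [CommRing R] {E : Type w} [AddCommGroup E] [Module R E] {n : ℕ}

/-- The splitting `R^n ≃ E × ker f` attached to a split surjection `f : R^n → E`. -/
noncomputable def splitEquiv (f : (Fin n → R) →ₗ[R] E) (g : E →ₗ[R] (Fin n → R))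
    (hfg : f ∘ₗ g = LinearMap.id) : (Fin n → R) ≃ₗ[R] E × LinearMap.ker f :=
  LinearEquiv.ofLinearMap
    (LinearMap.prod f (LinearMap.codRestrict (LinearMap.ker f) (LinearMap.id - g ∘ₗ f) (by
      intro v
      have h := LinearMap.congr_fun hfg (f v)
      simp only [LinearMap.comp_apply, LinearMap.id_apply] at h
      simp [h])))
    (LinearMap.coprod g (LinearMap.ker f).subtype)
    (by
      apply LinearMap.ext
      rintro ⟨x, y⟩
      have h := LinearMap.congr_fun hfg x
      simp only [LinearMap.comp_apply, LinearMap.id_apply] at h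
      have hy : f (y : Fin n → R) = 0 := y.2
      apply Prod.ext
      · simp [h, hy]
      · apply Subtype.ext
        simp [h, hy])
    (by
      apply LinearMap.ext
      intro v
      simp)

end Split

variable {R : Type u} [CommRing R] {A : Type v} [CommRing A] [HopfAlgebra R A]

/-- The inverse determinant of a comatrix over a commutative Hopf algebra. -/
theorem IsComatrix.exists_det_inv {ι : Type*} [Fintype ι] [DecidableEq ι] {a : Matrix ι ι A}
    (ha : IsComatrix (k := R) a) : ∃ u : A, u * a.det = 1 := by
  refine ⟨(Matrix.of fun i j => HopfAlgebra.antipode R (a i j)).det, ?_⟩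
  rw [← Matrix.det_mul]
  have : (Matrix.of fun i j => HopfAlgebra.antipode R (a i j)) * a = 1 := by
    ext i j
    rw [Matrix.mul_apply, Matrix.one_apply]
    simp only [Matrix.of_apply]
    exact ha.antipode_mul i j
  rw [this, Matrix.det_one]

/-- Main statement: a comodule map from a finite projective comodule to `A` has range in the
subalgebra generated by the entries of a comatrix with invertible determinant. -/
theorem exists_comatrix_of_projective (E : Type w) [AddCommGroup E] [Module R E]
    [cE : Comod R A E] [Module.Finite R E] [Module.Projective R E]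
    (g : E →ₗ[R] A) (hg : Hoch.IsComodHom A g) :
    ∃ (d : ℕ) (a : Matrix (Fin d) (Fin d) A),
      (∀ i j, CoalgebraStruct.comul (R := R) (a i j) = ∑ l, a i l ⊗ₜ[R] a l j) ∧
      (∀ i j, CoalgebraStruct.counit (R := R) (a i j) = if i = j then 1 else 0) ∧
      ∃ u : A, u * a.det = 1 ∧
        (LinearMap.range g : Set A) ⊆
          Submodule.span R (Set.range (fun p : Fin d × Fin d => a p.1 p.2)) := by
  classical
  obtain ⟨n, f, s, -, -, hfs⟩ := Module.Finite.exists_comp_eq_id_of_projective R E
  let e := splitEquiv f s hfs
  letI cK : Comod R A (LinearMap.ker f) := Comod.trivial R A (LinearMap.ker f)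
  letI cP : Comod R A (E × LinearMap.ker f) := ComodTens.Comod.prod cE cK
  let b : Basis (Fin n) R (E × LinearMap.ker f) := (Pi.basisFun R (Fin n)).map e
  have ha := isComatrix_comatrix (A := A) b
  obtain ⟨u, hu⟩ := IsComatrix.exists_det_inv ha
  refine ⟨n, comatrix (A := A) b, ha.comul, ha.counit, u, hu, ?_⟩
  have hg' : Hoch.IsComodHom A (g ∘ₗ LinearMap.fst R E (LinearMap.ker f)) :=
    isComodHom_comp (isComodHom_fst (cV := cE) (cW := cK)) hg
  rintro _ ⟨x, rfl⟩
  have h1 := LinearMap.congr_fun (eq_coeffMap_of_isComodHom hg') (x, 0)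
  have h2 : g x = (g ∘ₗ LinearMap.fst R E (LinearMap.ker f)) (x, 0) := by simp
  rw [SetLike.mem_coe, h2, h1, coeffMap_apply, coact_eq_sum b, map_sum]
  refine Submodule.sum_mem _ (fun i _ => ?_)
  rw [lslice_tmul]
  refine Submodule.smul_mem _ _ (Submodule.sum_mem _ (fun j _ => ?_))
  exact Submodule.smul_mem _ _ (Submodule.subset_span ⟨(i, j), rfl⟩)

/-- Algebra form. -/
theorem exists_comatrix_of_projective_adjoin (E : Type w) [AddCommGroup E] [Module R E]
    [cE : Comod R A E] [Module.Finite R E] [Module.Projective R E]
    (g : E →ₗ[R] A) (hg : Hoch.IsComodHom A g) :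
    ∃ (d : ℕ) (a : Matrix (Fin d) (Fin d) A),
      (∀ i j, CoalgebraStruct.comul (R := R) (a i j) = ∑ l, a i l ⊗ₜ[R] a l j) ∧
      (∀ i j, CoalgebraStruct.counit (R := R) (a i j) = if i = j then 1 else 0) ∧
      ∃ u : A, u * a.det = 1 ∧
        (LinearMap.range g : Set A) ⊆
          Algebra.adjoin R (Set.range (fun p : Fin d × Fin d => a p.1 p.2) ∪ {u}) := by
  obtain ⟨d, a, h1, h2, u, hu, hr⟩ := exists_comatrix_of_projective E g hg
  refine ⟨d, a, h1, h2, u, hu, hr.trans ?_⟩
  intro y hy
  have : Submodule.span R (Set.range (fun p : Fin d × Fin d => a p.1 p.2)) ≤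
      Subalgebra.toSubmodule
        (Algebra.adjoin R (Set.range (fun p : Fin d × Fin d => a p.1 p.2) ∪ {u})) := by
    rw [Submodule.span_le]
    intro z hz
    exact Algebra.subset_adjoin (Or.inl hz)
  exact this hy

end Groth.Agent.R2.H19.ComodMatrix
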