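import Groth.Agent.R2.H19ComodFin
import Groth.Agent.R2.H19ComodHull
import Groth.Prelude.Def_Hoch

/-!
# Resolving finitely generated comodules by subcomodules of cofree comodules (helper19)

* `cofree P` : the cofree comodule structure on `P ⊗ C`.
* `eqz τ` : for an `R`-linear map `τ : W → F` of comodules, the largest submodule on which `τ`
  commutes with the coactions; a subcomodule when `C` is flat.
* `exists_cover` : every f.g. comodule over a flat coalgebra over a Noetherian ring is the image,
  under an `R`-linear map `τ` from a cofree comodule `W` (flat over `R`), of a f.g. subcomodule `N`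
  of `W` on which `τ` is a comodule map.
* `isComodHom_comp_hull` : the key step of the double resolution.
-/

set_option autoImplicit false
set_option linter.style.haveILetI false
universe u v w w'

namespace Groth.Agent.R2.H19.ComodRes

open TensorProduct HopfRep Module Groth.Agent.Lib.Helper25

section Cofree

variable {R : Type u} [CommRing R] {C : Type v} [AddCommGroup C] [Module R C] [Coalgebra R C]
variable (P : Type w) [AddCommGroup P] [Module R P]
variable {F : Type w'} [AddCommGroup F] [Module R F]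

/-- The cofree comodule structure on `P ⊗ C`. -/
@[reducible] noncomputable def cofree : Comod R C (P ⊗[R] C) := Hoch.Ind.comod R C P

theorem cofree_coact_tmul (p : P) (c : C) :
    (cofree (C := C) P).coact (p ⊗ₜ[R] c) =
      (TensorProduct.assoc R P C C).symm (p ⊗ₜ[R] CoalgebraStruct.comul (R := R) c) := rfl

variable {P}

/-- The `R`-linear map `P ⊗ C → F`, `p ⊗ c ↦ ε(c) • π p`. -/
noncomputable def tauOf (π : P →ₗ[R] F) : P ⊗[R] C →ₗ[R] F :=
  π ∘ₗ (TensorProduct.rid R P).toLinearMap ∘ₗ (CoalgebraStruct.counit (R := R) (A := C)).lTensor P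

@[simp] theorem tauOf_tmul (π : P →ₗ[R] F) (p : P) (c : C) :
    tauOf (C := C) π (p ⊗ₜ[R] c) = CoalgebraStruct.counit (R := R) c • π p := by
  simp [tauOf]

theorem tauOf_eq (π : P →ₗ[R] F) (w : P ⊗[R] C) :
    tauOf (C := C) π w = TensorProduct.rid R F
      ((CoalgebraStruct.counit (R := R) (A := C)).lTensor F (π.rTensor C w)) := by
  induction w using TensorProduct.induction_on with
  | zero => simp
  | add x y hx hy => simp only [map_add, hx, hy]
  | tmul p c => simp

theorem rTensor_tauOf_assoc_symm (π : P →ₗ[R] F) (p : P) (z : C ⊗[R] C) :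
    (tauOf (C := C) π).rTensor C ((TensorProduct.assoc R P C C).symm (p ⊗ₜ[R] z)) =
      π p ⊗ₜ[R] TensorProduct.lid R C
        ((CoalgebraStruct.counit (R := R) (A := C)).rTensor C z) := by
  induction z using TensorProduct.induction_on with
  | zero => simp
  | add x y hx hy => simp only [TensorProduct.tmul_add, map_add, hx, hy]
  | tmul c₁ c₂ =>
    simp [TensorProduct.smul_tmul]

theorem rTensor_tauOf_coact (π : P →ₗ[R] F) :
    (tauOf (C := C) π).rTensor C ∘ₗ (cofree (C := C) P).coact = π.rTensor C := by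
  refine TensorProduct.ext' fun p c => ?_
  rw [LinearMap.comp_apply, cofree_coact_tmul, rTensor_tauOf_assoc_symm,
    Coalgebra.rTensor_counit_comul]
  simp

end Cofree

section Eqz

variable {R : Type u} [CommRing R] {C : Type v} [AddCommGroup C] [Module R C] [Coalgebra R C]
variable {W : Type w} [AddCommGroup W] [Module R W] [cW : Comod R C W]
variable {F : Type w'} [AddCommGroup F] [Module R F] [cF : Comod R C F]

/-- The defect of an `R`-linear map from being a comodule map. -/
noncomputable def defect (τ : W →ₗ[R] F) : W →ₗ[R] F ⊗[R] C :=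
  cF.coact ∘ₗ τ - τ.rTensor C ∘ₗ cW.coact

/-- The largest submodule on which `τ` commutes with the coactions. -/
noncomputable def eqz (τ : W →ₗ[R] F) : Submodule R W := LinearMap.ker (defect (C := C) τ)

theorem mem_eqz_iff (τ : W →ₗ[R] F) (x : W) :
    x ∈ eqz (C := C) τ ↔ cF.coact (τ x) = τ.rTensor C (cW.coact x) := by
  unfold eqz defect
  rw [LinearMap.mem_ker, LinearMap.sub_apply, sub_eq_zero]
  rfl

theorem isSubcomod_eqz [Module.Flat R C] (τ : W →ₗ[R] F) :
    IsSubcomod (k := R) (A := C) (eqz (C := C) τ) := by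
  intro x hx
  have hex : Function.Exact ((eqz (C := C) τ).subtype.rTensor C)
      ((defect (C := C) τ).rTensor C) :=
    Module.Flat.rTensor_exact C (LinearMap.exact_subtype_ker_map (defect (C := C) τ))
  rw [← LinearMap.exact_iff.mp hex, LinearMap.mem_ker]
  have hx' := (mem_eqz_iff τ x).mp hx
  have hW := coassoc_apply (k := R) (A := C) x
  have hF := coassoc_apply (k := R) (A := C) (τ x)
  have e1 : (defect (C := C) τ).rTensor C (Comod.coact (k := R) (A := C) x) =
      (Comod.coact (k := R) (A := C) (V := F)).rTensor C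
        (τ.rTensor C (Comod.coact (k := R) (A := C) x)) -
      (τ.rTensor C).rTensor C ((Comod.coact (k := R) (A := C) (V := W)).rTensor C
        (Comod.coact (k := R) (A := C) x)) := by
    unfold defect
    rw [LinearMap.rTensor_sub, LinearMap.sub_apply, LinearMap.rTensor_comp,
      LinearMap.rTensor_comp, LinearMap.comp_apply, LinearMap.comp_apply]
  rw [e1, sub_eq_zero]
  apply (TensorProduct.assoc R F C C).injective
  change _ = (TensorProduct.assoc R F C C) ((τ.rTensor C).rTensor C _)
  rw [assoc_rTensor_rTensor', hW, LinearEquiv.apply_symm_apply, ← lTensor_rTensor_comm']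
  change (TensorProduct.assoc R F C C) ((Comod.coact (k := R) (A := C) (V := F)).rTensor C
    (τ.rTensor C (cW.coact x))) = _
  rw [← hx']
  rw [hF, LinearEquiv.apply_symm_apply]

end Eqz

section Cover

variable {R : Type u} [CommRing R] [IsNoetherianRing R]
variable {C : Type u} [AddCommGroup C] [Module R C] [Coalgebra R C] [Module.Flat R C]

/-- Abstract form of `exists_cover`: `W` and `τ` are given. -/
theorem exists_cover_aux (F : Type u) [AddCommGroup F] [Module R F] [cF : Comod R C F]
    [Module.Finite R F] (W : Type u) [AddCommGroup W] [Module R W] [cW : Comod R C W]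
    (τ : W →ₗ[R] F) (hlift : ∀ f : F, ∃ w ∈ eqz (C := C) τ, τ w = f) :
    ∃ (N : Type u) (_ : AddCommGroup N) (_ : Module R N) (_ : Comod R C N)
      (_ : Module.Finite R N) (ι : N →ₗ[R] W),
      Function.Injective ι ∧ Hoch.IsComodHom C ι ∧ Function.Surjective (τ ∘ₗ ι) ∧
        ∀ x : N, cF.coact (τ (ι x)) = τ.rTensor C (cW.coact (ι x)) := by
  classical
  have hE : IsSubcomod (k := R) (A := C) (eqz (C := C) τ) := isSubcomod_eqz τ
  have hlift2 : ∀ f : F, ∃ w : eqz (C := C) τ, τ (w : W) = f := by
    intro f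
    obtain ⟨w, hw, hf⟩ := hlift f
    exact ⟨⟨w, hw⟩, hf⟩
  choose lift hlift' using hlift2
  obtain ⟨s, hs⟩ := (Module.Finite.fg_top : (⊤ : Submodule R F).FG)
  letI cE : Comod R C (eqz (C := C) τ) := subComod (eqz (C := C) τ) hE
  obtain ⟨N, hNfg, hsN, hNsub⟩ :=
    Groth.Agent.R2.H19.ComodFin.exists_fg_subcomod_finset (k := R) (A := C)
      (V := eqz (C := C) τ) (s.image lift)
  letI cN : Comod R C N := subComod N hNsub
  have hfin : Module.Finite R N := Module.Finite.iff_fg.mpr hNfg
  refine ⟨N, inferInstance, inferInstance, cN, hfin, (eqz (C := C) τ).subtype ∘ₗ N.subtype,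
    ?_, ?_, ?_, ?_⟩
  · exact (eqz (C := C) τ).subtype_injective.comp N.subtype_injective
  · exact isComodHom_comp (isComodHom_subtype N hNsub) (isComodHom_subtype (eqz (C := C) τ) hE)
  · rw [← LinearMap.range_eq_top, eq_top_iff, ← hs, Submodule.span_le]
    intro f hf
    have hmem : lift f ∈ N := hsN (Finset.mem_coe.mpr (Finset.mem_image_of_mem lift hf))
    exact ⟨⟨lift f, hmem⟩, hlift' f⟩
  · intro x
    exact (mem_eqz_iff τ _).mp (x : eqz (C := C) τ).2

/-- Every finitely generated comodule `F` is the image under an `R`-linear map `τ : W → F`, from a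
comodule `W` flat over `R`, of a finitely generated comodule `N` mapping injectively to `W` by a
comodule map, in such a way that `τ` commutes with the coactions on the image of `N`. -/
theorem exists_cover (F : Type u) [AddCommGroup F] [Module R F] [cF : Comod R C F]
    [Module.Finite R F] :
    ∃ (W : Type u) (_ : AddCommGroup W) (_ : Module R W) (_ : Module.Flat R W)
      (cW : Comod R C W)
      (N : Type u) (_ : AddCommGroup N) (_ : Module R N) (_ : Comod R C N)
      (_ : Module.Finite R N) (ι : N →ₗ[R] W) (τ : W →ₗ[R] F),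
      Function.Injective ι ∧ Hoch.IsComodHom C ι ∧ Function.Surjective (τ ∘ₗ ι) ∧
        ∀ x : N, cF.coact (τ (ι x)) = τ.rTensor C (cW.coact (ι x)) := by
  obtain ⟨n, π, hπ⟩ := Module.Finite.exists_fin' R F
  letI cW : Comod R C ((Fin n → R) ⊗[R] C) := cofree (C := C) (Fin n → R)
  have hlift : ∀ f : F, ∃ w ∈ eqz (C := C) (tauOf (C := C) π), tauOf (C := C) π w = f := by
    intro f
    obtain ⟨w, hw⟩ := LinearMap.rTensor_surjective C hπ (cF.coact f)
    have hτw : tauOf (C := C) π w = f := by
      rw [tauOf_eq, hw]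
      have := counit_apply (k := R) (A := C) f
      change (CoalgebraStruct.counit (R := R) (A := C)).lTensor F (cF.coact f) = _ at this
      rw [this]
      simp
    refine ⟨w, ?_, hτw⟩
    rw [mem_eqz_iff, hτw, ← hw]
    exact (LinearMap.congr_fun (rTensor_tauOf_coact (C := C) π) w).symm
  obtain ⟨N, i1, i2, cN, hfin, ι, h1, h2, h3, h4⟩ :=
    exists_cover_aux (C := C) F ((Fin n → R) ⊗[R] C) (tauOf (C := C) π) hlift
  exact ⟨(Fin n → R) ⊗[R] C, inferInstance, inferInstance, inferInstance, cW, N, i1, i2, cN, hfin,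
    ι, tauOf (C := C) π, h1, h2, h3, h4⟩

end Cover

section Key

open Groth.Agent.R2.H19.ComodHull Groth.Agent.R2.H19.FlatExt

variable {R : Type u} [CommRing R]
variable {C : Type v} [AddCommGroup C] [Module R C] [Coalgebra R C] [Module.Flat R C]
variable {N₁ : Type w} [AddCommGroup N₁] [Module R N₁] [cN₁ : Comod R C N₁]
variable {W₁ : Type w'} [AddCommGroup W₁] [Module R W₁] [Module.Flat R W₁]
variable {W₂ : Type w} [AddCommGroup W₂] [Module R W₂] [cW₂ : Comod R C W₂] [Module.Flat R W₂]
variable (N₂ : Type w) [AddCommGroup N₂] [Module R N₂] [cN₂ : Comod R C N₂]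
  [Module.FinitePresentation R N₂] [Module.Flat R (Dual R (Dual R N₂))]

/-- The key step of the double resolution: if `N₁` embeds `R`-linearly in a flat module, `τ₂ : W₂ → N₁`
is `R`-linear from a flat comodule and commutes with the coactions on the image of a comodule map
`ι₂ : N₂ → W₂`, then `τ₂ ∘ ι₂` extends to a comodule map from the reflexive hull of `N₂`. -/
theorem exists_hull_hom (ι₁ : N₁ →ₗ[R] W₁) (hι₁ : Function.Injective ι₁)
    (τ₂ : W₂ →ₗ[R] N₁) (ι₂ : N₂ →ₗ[R] W₂) (hι₂ : Hoch.IsComodHom C ι₂)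
    (h : ∀ x : N₂, cN₁.coact (τ₂ (ι₂ x)) = τ₂.rTensor C (cW₂.coact (ι₂ x))) :
    ∃ φ : Dual R (Dual R N₂) →ₗ[R] N₁,
      @Hoch.IsComodHom R _ C _ _ _ (Dual R (Dual R N₂)) _ _ (hullComod (C := C) N₂) N₁ _ _ cN₁ φ ∧
        φ ∘ₗ Dual.eval R N₂ = τ₂ ∘ₗ ι₂ := by
  obtain ⟨j', hj'hom, hj'⟩ := exists_hom_extension (C := C) N₂ ι₂ hι₂
  refine ⟨τ₂ ∘ₗ j', ?_, by rw [LinearMap.comp_assoc, hj']⟩
  have hinj : Function.Injective (ι₁.rTensor C) :=
    Module.Flat.rTensor_preserves_injective_linearMap ι₁ hι₁
  have hdef : defect (C := C) τ₂ ∘ₗ j' = 0 := by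
    have h0 : (ι₁.rTensor C ∘ₗ defect (C := C) τ₂ ∘ₗ j') = 0 := by
      apply eq_zero_of_comp_eval_eq_zero (R := R) (N := N₂) (M := W₁ ⊗[R] C)
      apply LinearMap.ext
      intro x
      have hx : j' (Dual.eval R N₂ x) = ι₂ x := LinearMap.congr_fun hj' x
      have hx2 : defect (C := C) τ₂ (ι₂ x) = 0 := by
        have := (mem_eqz_iff (C := C) τ₂ (ι₂ x)).mpr (h x)
        exact this
      simp only [LinearMap.comp_apply, LinearMap.zero_apply]
      rw [hx, hx2, map_zero]
    apply LinearMap.ext
    intro ξ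
    apply hinj
    have := LinearMap.congr_fun h0 ξ
    simpa using this
  change cN₁.coact ∘ₗ (τ₂ ∘ₗ j') = (τ₂ ∘ₗ j').rTensor C ∘ₗ hullCoact (R := R) (C := C) N₂
  apply LinearMap.ext
  intro ξ
  have h1 := LinearMap.congr_fun hdef ξ
  have h1' : cN₁.coact (τ₂ (j' ξ)) = τ₂.rTensor C (cW₂.coact (j' ξ)) :=
    (mem_eqz_iff (C := C) τ₂ (j' ξ)).mp h1
  have h2 : cW₂.coact (j' ξ) = j'.rTensor C (hullCoact (R := R) (C := C) N₂ ξ) :=
    LinearMap.congr_fun hj'hom ξ
  simp only [LinearMap.comp_apply]
  rw [h1', h2, LinearMap.rTensor_comp, LinearMap.comp_apply]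

end Key

end Groth.Agent.R2.H19.ComodRes
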