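import Groth.Agent.R2.H19KerProj

/-!
# Duals of finitely generated modules over a regular ring of dimension ≤ 2 are projective
(helper19)
-/

set_option autoImplicit false
set_option linter.style.haveILetI false
universe u v

namespace Groth.Agent.R2.H19.DualProj

open Module

variable {R : Type u} [CommRing R] [IsRegularRing R]
variable (D : Type v) [AddCommGroup D] [Module R D] [Module.Finite R D]

/-- The dual of a finitely generated module over a regular ring of dimension at most two is
projective. -/
theorem projective_dual (hdim : ringKrullDim R ≤ 2) : Module.Projective R (Module.Dual R D) := by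
  obtain ⟨b, π, hπ⟩ := Module.Finite.exists_fin' R D
  haveI : Module.Finite R (LinearMap.ker π) := inferInstance
  obtain ⟨a, ψ', hψ'⟩ := Module.Finite.exists_fin' R (LinearMap.ker π)
  let ψ : (Fin a → R) →ₗ[R] (Fin b → R) := (LinearMap.ker π).subtype ∘ₗ ψ'
  have hrange : LinearMap.range ψ = LinearMap.ker π := by
    rw [LinearMap.range_comp, LinearMap.range_eq_top.mpr hψ', Submodule.map_top,
      Submodule.range_subtype]
  have h1 : LinearMap.range π.dualMap = LinearMap.ker ψ.dualMap := by
    rw [LinearMap.range_dualMap_eq_dualAnnihilator_ker_of_surjective π hπ,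
      LinearMap.ker_dualMap_eq_dualAnnihilator_range, hrange]
  have hproj : Module.Projective R (LinearMap.ker ψ.dualMap) :=
    Groth.Agent.R2.H19.KerProj.projective_ker_of_regular hdim ψ.dualMap
  let e : Module.Dual R D ≃ₗ[R] LinearMap.ker ψ.dualMap :=
    (LinearEquiv.ofInjective π.dualMap (LinearMap.dualMap_injective_of_surjective hπ)).trans
      (LinearEquiv.ofEq _ _ h1)
  exact Module.Projective.of_equiv e.symm


end Groth.Agent.R2.H19.DualProj
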