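import Mathlib
import Groth.Agent.S1964
import Groth.Agent.Lib.Helper3HenselLF
import Groth.Agent.Lib.Helper3Branch
import Groth.Agent.Lib.Helper5KrullAkizuki2
import Groth.Agent.Lib.Helper19ComplUnram

/-!
helper19: algebra for the DVR lifting criterion (EGA IV 14.5.8), direction (⇒).

* `isOpen_singleton_fiber`: a maximal ideal minimal over `π` is isolated in the fibre.
* `eq_zero_of_forall_pow_dvd`: the integral closure of an integrally closed domain `A` in a field
  is `π`-adically separated when `A` is.
* `exists_dvr_of_immediate`: over a complete DVR `A` with algebraically closed residue field,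
  a finite type domain `E ⊇ A` with a `k`-point `ρ` whose kernel is an immediate specialization of
  the generic point admits a finite DVR extension `B` of `A` with `E → B` lifting `ρ`.
-/

set_option autoImplicit false
set_option linter.style.haveILetI false
universe u
open IsLocalRing

namespace Groth.Agent.R2.H19.DvrLiftA

/-- a maximal ideal that is minimal among primes containing `π` is isolated in its fibre. -/
theorem isOpen_singleton_fiber {A E : Type*} [CommRing A] [CommRing E] [Algebra A E]
    [IsNoetherianRing E] (π : A) (P : PrimeSpectrum E) (hmax : P.asIdeal.IsMaximal)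
    (hπ : algebraMap A E π ∈ P.asIdeal)
    (himm : ∀ y : Ideal E, y.IsPrime → algebraMap A E π ∈ y → y ≤ P.asIdeal → y = P.asIdeal) :
    IsOpen (X := PrimeSpectrum.comap (algebraMap A E) ⁻¹' {P.comap (algebraMap A E)})
      {⟨P, rfl⟩} := by
  classical
  have hfin : (Ideal.span {algebraMap A E π}).minimalPrimes.Finite :=
    Ideal.finite_minimalPrimes_of_isNoetherianRing _ _
  let G : Set (Ideal E) := {y | y ∈ (Ideal.span {algebraMap A E π}).minimalPrimes ∧ y ≠ P.asIdeal}
  have hG : G.Finite := hfin.subset fun y hy => hy.1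
  let Z : Set (PrimeSpectrum E) := ⋃ y ∈ G, PrimeSpectrum.zeroLocus (y : Set E)
  have hZ : IsClosed Z := hG.isClosed_biUnion fun y _ => PrimeSpectrum.isClosed_zeroLocus _
  have key : ({⟨P, rfl⟩} : Set (PrimeSpectrum.comap (algebraMap A E) ⁻¹'
      {P.comap (algebraMap A E)})) = Subtype.val ⁻¹' Zᶜ := by
    ext ⟨y, hy⟩
    simp only [Set.mem_singleton_iff, Set.mem_preimage, Set.mem_compl_iff]
    constructor
    · intro hyP
      have hyP' : y = P := congrArg Subtype.val hyP
      subst hyP'
      intro hmem
      simp only [Z, Set.mem_iUnion] at hmem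
      obtain ⟨w, ⟨hw1, hw2⟩, hw3⟩ := hmem
      have hle : w ≤ y.asIdeal := (PrimeSpectrum.mem_zeroLocus _ _).mp hw3
      exact hw2 (himm w hw1.1.1 (hw1.1.2 (Ideal.mem_span_singleton_self _)) hle)
    · intro hyZ
      have hπy : algebraMap A E π ∈ y.asIdeal := by
        have h1 : π ∈ (P.comap (algebraMap A E)).asIdeal := hπ
        have h2 : y.comap (algebraMap A E) = P.comap (algebraMap A E) := hy
        rw [← h2] at h1
        exact h1
      obtain ⟨w, hw, hwy⟩ := Ideal.exists_minimalPrimes_le
        (I := Ideal.span {algebraMap A E π}) (J := y.asIdeal)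
        ((Ideal.span_singleton_le_iff_mem _).mpr hπy)
      by_cases hwP : w = P.asIdeal
      · apply Subtype.ext
        apply PrimeSpectrum.ext
        exact (hmax.eq_of_le y.2.ne_top (hwP ▸ hwy)).symm
      · exfalso
        apply hyZ
        simp only [Z, Set.mem_iUnion]
        exact ⟨w, ⟨hw, hwP⟩, (PrimeSpectrum.mem_zeroLocus _ _).mpr hwy⟩
  rw [key]
  exact hZ.isOpen_compl.preimage continuous_subtype_val

/-- the integral closure of an integrally closed `π`-adically separated domain in a field is
`π`-adically separated. -/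
theorem eq_zero_of_forall_pow_dvd {A K L : Type*} [CommRing A] [IsDomain A] [IsIntegrallyClosed A]
    [Field K] [Field L] [Algebra A K] [IsFractionRing A K] [Algebra A L] [Algebra K L]
    [IsScalarTower A K L] (π : A) (hπ : π ≠ 0) (hsep : ∀ a : A, (∀ n : ℕ, π ^ n ∣ a) → a = 0)
    (b : integralClosure A L)
    (h : ∀ n : ℕ, algebraMap A (integralClosure A L) π ^ n ∣ b) : b = 0 := by
  by_contra hb0
  have halg : IsAlgebraic A b := (integralClosure.isIntegral (R := A) (A := L) b).isAlgebraic
  obtain ⟨r, hr0, hbr⟩ := halg.exists_nonzero_dvd (mem_nonZeroDivisors_of_ne_zero hb0)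
  apply hr0
  apply hsep
  intro n
  obtain ⟨c, hc⟩ := (h n).trans hbr
  -- `c = r / π ^ n` is integral over `A`, hence in `A`
  have hπK : algebraMap A K π ≠ 0 := by
    simpa using (IsFractionRing.injective A K).ne hπ
  have hcL : (c : L) = algebraMap K L (algebraMap A K r / algebraMap A K π ^ n) := by
    have h1 := congrArg (fun z : integralClosure A L => (z : L)) hc
    simp only [Subalgebra.coe_mul, Subalgebra.coe_pow, Subalgebra.coe_algebraMap] at h1
    rw [map_div₀, map_pow, ← IsScalarTower.algebraMap_apply, ← IsScalarTower.algebraMap_apply]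
    have hπL : algebraMap A L π ^ n ≠ 0 := by
      rw [IsScalarTower.algebraMap_apply A K L]
      exact pow_ne_zero _ ((map_ne_zero _).mpr hπK)
    rw [eq_div_iff hπL, mul_comm]
    exact h1.symm
  have hint : IsIntegral A (algebraMap A K r / algebraMap A K π ^ n) := by
    have h2 : IsIntegral A (c : L) := c.2
    rw [hcL] at h2
    exact (isIntegral_algebraMap_iff (algebraMap K L).injective).mp h2
  obtain ⟨y, hy⟩ := IsIntegrallyClosed.isIntegral_iff.mp hint
  refine ⟨y, ?_⟩
  apply IsFractionRing.injective A K
  rw [map_mul, map_pow, hy, mul_div_cancel₀ _ (pow_ne_zero _ hπK)]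



/-- complete Nakayama for an algebra: if `B ⧸ (π)` is a finite `A`-module, `B` is `π`-adically
separated and `A` is `(π)`-adically complete then `B` is finite. -/
theorem finite_of_finite_quotient {A B : Type*} [CommRing A] [CommRing B] [Algebra A B] (π : A)
    [IsPrecomplete (Ideal.span {π}) A]
    (hfin : Module.Finite A (B ⧸ Ideal.span {algebraMap A B π}))
    (hsep : ∀ b : B, (∀ n : ℕ, algebraMap A B π ^ n ∣ b) → b = 0) : Module.Finite A B := by
  haveI : IsHausdorff (Ideal.span {π}) B := by
    refine ⟨fun x hx => hsep x fun n => ?_⟩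
    have h1 := hx n
    rw [SModEq.zero, Ideal.span_singleton_pow, Submodule.ideal_span_singleton_smul] at h1
    obtain ⟨c, -, hc⟩ := (Submodule.mem_smul_pointwise_iff_exists _ _ _).mp h1
    refine ⟨c, ?_⟩
    rw [← hc, Algebra.smul_def, map_pow]
  obtain ⟨r, s, hs⟩ := Module.Finite.exists_fin (R := A) (M := B ⧸ Ideal.span {algebraMap A B π})
  choose g hg using fun i => Ideal.Quotient.mk_surjective (s i)
  refine Groth.Agent.Lib.Helper19.ComplUnram.finite_of_span_sup_smul_top_eq_top
    (Ideal.span {π}) g ?_
  rw [eq_top_iff]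
  rintro x -
  have hx : Ideal.Quotient.mk (Ideal.span {algebraMap A B π}) x ∈
      Submodule.span A (Set.range s) := by rw [hs]; trivial
  have hsg : Set.range s = (Ideal.Quotient.mkₐ A (Ideal.span {algebraMap A B π})).toLinearMap ''
      (Set.range g) := by
    ext z
    constructor
    · rintro ⟨i, rfl⟩
      exact ⟨g i, ⟨i, rfl⟩, hg i⟩
    · rintro ⟨_, ⟨i, rfl⟩, rfl⟩
      exact ⟨i, (hg i).symm⟩
  rw [hsg, ← Submodule.map_span] at hx
  obtain ⟨y, hy, hyx⟩ := hx
  have hxy : x - y ∈ Ideal.span {algebraMap A B π} := by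
    rw [← Ideal.Quotient.eq]
    exact hyx.symm
  obtain ⟨c, hc⟩ := Ideal.mem_span_singleton'.mp hxy
  rw [Submodule.mem_sup]
  refine ⟨y, hy, x - y, ?_, by ring⟩
  rw [← hc, mul_comm, ← Algebra.smul_def]
  exact Submodule.smul_mem_smul (Ideal.mem_span_singleton_self π) trivial



open Groth.Agent.Lib.Helper3 Groth.Agent.Lib.Helper5 in
/-- **normalization of a finite domain over a complete DVR is a finite DVR.** -/
theorem exists_dvr_of_finite_domain {A : Type u} [CommRing A] [IsDomain A]
    [IsDiscreteValuationRing A] [IsAdicComplete (maximalIdeal A) A]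
    (D K L : Type u) [CommRing D] [IsDomain D] [Algebra A D] [Module.Finite A D]
    [FaithfulSMul A D] [Field K] [Field L] [Algebra A K] [IsFractionRing A K] [Algebra D L]
    [IsFractionRing D L] [Algebra K L] [Algebra A L] [IsScalarTower A K L] [IsScalarTower A D L] :
    ∃ (B : Type u) (_ : CommRing B) (_ : IsDomain B) (_ : IsDiscreteValuationRing B)
      (φ : A →+* B) (_ : IsLocalHom φ) (ψ : D →+* B),
      φ.Finite ∧ ψ.comp (algebraMap A D) = φ := by
  haveI : HenselianLocalRing A := Branch.henselianLocalRing_of_isAdicComplete A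
  obtain ⟨ϖ, hϖ⟩ := IsDiscreteValuationRing.exists_irreducible A
  have hϖ0 : ϖ ≠ 0 := hϖ.ne_zero
  have hmaxA : maximalIdeal A = Ideal.span {ϖ} := hϖ.maximalIdeal_eq
  haveI hintD : Algebra.IsIntegral A D := Algebra.IsIntegral.of_finite _ _
  haveI halgD : Algebra.IsAlgebraic A D := inferInstance
  haveI hfd : FiniteDimensional K L :=
    Module.Finite.of_isLocalization A D (nonZeroDivisors A)
  -- the integral closure
  haveI hfrB : IsFractionRing (integralClosure A L) L :=
    integralClosure.isFractionRing_of_finite_extension K L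
  haveI hicB : IsIntegrallyClosed (integralClosure A L) :=
    integralClosure.isIntegrallyClosedOfFiniteExtension K
  haveI hintB : Algebra.IsIntegral A (integralClosure A L) := inferInstance
  obtain ⟨hH, hloc, -⟩ := Groth.Agent.S1964.result A (integralClosure A L)
  haveI := hH
  haveI := hloc
  have hinjB : Function.Injective (algebraMap A (integralClosure A L)) := by
    intro a b hab
    have h1 : algebraMap A L a = algebraMap A L b := congrArg Subtype.val hab
    rw [IsScalarTower.algebraMap_apply A D L, IsScalarTower.algebraMap_apply A D L] at h1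
    exact FaithfulSMul.algebraMap_injective A D (IsFractionRing.injective D L h1)
  -- finiteness
  have hfin : Module.length A (A ⧸ Ideal.span ({ϖ} : Set A)) ≠ ⊤ :=
    KrullAkizuki.length_quot_ne_top (IsDiscreteValuationRing.ringKrullDim_eq_one A).le ϖ hϖ0
  have hfq : Module.Finite A
      (integralClosure A L ⧸ Ideal.span {algebraMap A (integralClosure A L) ϖ}) :=
    KrullAkizuki2.finite_quot A (integralClosure A L) K L ϖ hϖ0 hfin _
      (Ideal.mem_span_singleton_self _)
  haveI : IsPrecomplete (Ideal.span {ϖ}) A := by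
    rw [← hmaxA]; infer_instance
  have hsepA : ∀ a : A, (∀ n : ℕ, ϖ ^ n ∣ a) → a = 0 := by
    intro a ha
    have h1 : a ∈ (⨅ n : ℕ, maximalIdeal A ^ n : Ideal A) := by
      rw [Ideal.mem_iInf]
      intro n
      rw [hmaxA, Ideal.span_singleton_pow, Ideal.mem_span_singleton]
      exact ha n
    rw [Ideal.iInf_pow_eq_bot_of_isLocalRing _ (IsLocalRing.maximalIdeal.isMaximal A).ne_top] at h1
    exact h1
  haveI hfinB : Module.Finite A (integralClosure A L) :=
    finite_of_finite_quotient ϖ hfq (eq_zero_of_forall_pow_dvd (K := K) ϖ hϖ0 hsepA)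
  haveI : IsNoetherianRing (integralClosure A L) := IsNoetherianRing.of_finite A _
  have hded : IsDedekindDomain (integralClosure A L) :=
    { toIsDomain := inferInstance
      toIsDedekindRing :=
        { toIsNoetherian := inferInstance
          toDimensionLEOne := inferInstance
          toIsIntegralClosure := inferInstance } }
  have hnf : ¬ IsField (integralClosure A L) := by
    intro hf
    have h1 : algebraMap A (integralClosure A L) ϖ ≠ 0 := by
      rw [Ne, ← map_zero (algebraMap A (integralClosure A L))]
      exact fun h => hϖ0 (hinjB h)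
    have h2 : IsUnit (algebraMap A (integralClosure A L) ϖ) := by
      obtain ⟨c, hc⟩ := hf.mul_inv_cancel h1
      exact IsUnit.of_mul_eq_one c hc
    exact hϖ.not_isUnit (isUnit_of_map_unit (algebraMap A (integralClosure A L)) ϖ h2)
  have hdvr : IsDiscreteValuationRing (integralClosure A L) :=
    ((IsDiscreteValuationRing.TFAE (integralClosure A L) hnf).out 0 2).mpr hded
  let ψ : D →ₐ[A] integralClosure A L :=
    (IsScalarTower.toAlgHom A D L).codRestrict (integralClosure A L) (fun x =>
      (Algebra.IsIntegral.isIntegral (R := A) x).map (IsScalarTower.toAlgHom A D L))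
  refine ⟨integralClosure A L, inferInstance, inferInstance, hdvr,
    algebraMap A (integralClosure A L), hloc, ψ.toRingHom, ?_, ?_⟩
  · exact RingHom.finite_algebraMap.mpr hfinB
  · exact ψ.comp_algebraMap


/-- `exists_dvr_of_finite_domain` with the standard fraction fields. -/
theorem exists_dvr_of_finite_domain' {A : Type u} [CommRing A] [IsDomain A]
    [IsDiscreteValuationRing A] [IsAdicComplete (maximalIdeal A) A]
    (D : Type u) [CommRing D] [IsDomain D] [Algebra A D] [Module.Finite A D]
    [FaithfulSMul A D] :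
    ∃ (B : Type u) (_ : CommRing B) (_ : IsDomain B) (_ : IsDiscreteValuationRing B)
      (φ : A →+* B) (_ : IsLocalHom φ) (ψ : D →+* B),
      φ.Finite ∧ ψ.comp (algebraMap A D) = φ := by
  haveI hfaithL : FaithfulSMul A (FractionRing D) := by
    rw [faithfulSMul_iff_algebraMap_injective, IsScalarTower.algebraMap_eq A D (FractionRing D)]
    exact (IsFractionRing.injective D _).comp (FaithfulSMul.algebraMap_injective A D)
  letI algKL : Algebra (FractionRing A) (FractionRing D) := FractionRing.liftAlgebra A _
  haveI towAKL : IsScalarTower A (FractionRing A) (FractionRing D) :=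
    FractionRing.isScalarTower_liftAlgebra A _
  exact exists_dvr_of_finite_domain (A := A) D (FractionRing A) (FractionRing D)

/-- normalization of a finite local ring of a domain over a complete DVR. -/
theorem exists_dvr_of_finite_localization {A : Type u} [CommRing A] [IsDomain A]
    [IsDiscreteValuationRing A] [IsAdicComplete (maximalIdeal A) A]
    {E : Type u} [CommRing E] [IsDomain E] [Algebra A E] [FaithfulSMul A E]
    (P : Ideal E) [P.IsPrime] [P.LiesOver (maximalIdeal A)]
    [Module.Finite A (Localization.AtPrime P)] :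
    ∃ (B : Type u) (_ : CommRing B) (_ : IsDomain B) (_ : IsDiscreteValuationRing B)
      (φ : A →+* B) (_ : IsLocalHom φ) (ψ : E →+* B),
      φ.Finite ∧ ψ.comp (algebraMap A E) = φ ∧ ∀ p ∈ P, ψ p ∈ maximalIdeal B := by
  have hinjE : Function.Injective (algebraMap A E) := FaithfulSMul.algebraMap_injective A E
  haveI hDdom : IsDomain (Localization.AtPrime P) :=
    IsLocalization.isDomain_localization P.primeCompl_le_nonZeroDivisors
  have hinjED : Function.Injective (algebraMap E (Localization.AtPrime P)) :=
    IsLocalization.injective _ P.primeCompl_le_nonZeroDivisors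
  haveI hfaithD : FaithfulSMul A (Localization.AtPrime P) := by
    rw [faithfulSMul_iff_algebraMap_injective,
      IsScalarTower.algebraMap_eq A E (Localization.AtPrime P)]
    exact hinjED.comp hinjE
  haveI hintD : Algebra.IsIntegral A (Localization.AtPrime P) := Algebra.IsIntegral.of_finite _ _
  obtain ⟨B, hB1, hB2, hB3, φ, hφ, ψ, hfin, hψ⟩ :=
    exists_dvr_of_finite_domain' (A := A) (Localization.AtPrime P)
  refine ⟨B, hB1, hB2, hB3, φ, hφ, ψ.comp (algebraMap E (Localization.AtPrime P)), hfin, ?_, ?_⟩
  · rw [RingHom.comp_assoc, ← IsScalarTower.algebraMap_eq, hψ]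
  · intro p hp
    -- the comap of the maximal ideal of `B` to `D` is the maximal ideal
    let q : Ideal (Localization.AtPrime P) := (maximalIdeal B).comap ψ
    haveI : q.IsPrime := Ideal.comap_isPrime ψ _
    have hq : q.comap (algebraMap A (Localization.AtPrime P)) = maximalIdeal A := by
      rw [Ideal.comap_comap, hψ]
      exact ((IsLocalRing.local_hom_TFAE φ).out 0 4).mp hφ
    have hqmax : q.IsMaximal := by
      refine Ideal.IsIntegral.isMaximal_of_isMaximal_comap (R := A) q ?_
      rw [hq]; infer_instance
    have hqeq : q = maximalIdeal (Localization.AtPrime P) := IsLocalRing.eq_maximalIdeal hqmax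
    have h1 : algebraMap E (Localization.AtPrime P) p ∈ maximalIdeal (Localization.AtPrime P) :=
      (IsLocalization.AtPrime.to_map_mem_maximal_iff (Localization.AtPrime P) P p).mpr hp
    rw [← hqeq] at h1
    exact h1

open Groth.Agent.Lib.Helper3 Groth.Agent.Lib.Helper5 in
/-- **finite DVR extension through an immediate specialization.** -/
theorem exists_dvr_of_immediate {A : Type u} [CommRing A] [IsDomain A] [IsDiscreteValuationRing A]
    [IsAdicComplete (maximalIdeal A) A] [IsAlgClosed (ResidueField A)]
    {E : Type u} [CommRing E] [IsDomain E] [Algebra A E] [Algebra.FiniteType A E]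
    [FaithfulSMul A E]
    (ρ : E →+* ResidueField A) (hρ : ρ.comp (algebraMap A E) = residue A)
    (himm : ∀ y : Ideal E, y.IsPrime → y ≤ RingHom.ker ρ → y = ⊥ ∨ y = RingHom.ker ρ) :
    ∃ (B : Type u) (_ : CommRing B) (_ : IsDomain B) (_ : IsDiscreteValuationRing B)
      (φ : A →+* B) (_ : IsLocalHom φ) (ψ : E →+* B),
      φ.Finite ∧ ψ.comp (algebraMap A E) = φ ∧
        (residue B).comp ψ = (ResidueField.map φ).comp ρ := by
  haveI : HenselianLocalRing A := Branch.henselianLocalRing_of_isAdicComplete A
  have hρa : ∀ a : A, ρ (algebraMap A E a) = residue A a := fun a => RingHom.congr_fun hρ a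
  have hsurj : Function.Surjective ρ := by
    intro x
    obtain ⟨a, rfl⟩ := residue_surjective x
    exact ⟨algebraMap A E a, hρa a⟩
  obtain ⟨P, hP⟩ : ∃ P : Ideal E, P = RingHom.ker ρ := ⟨_, rfl⟩
  rw [← hP] at himm
  haveI hPmax : P.IsMaximal := hP ▸ RingHom.ker_isMaximal_of_surjective ρ hsurj
  haveI hPlies : P.LiesOver (maximalIdeal A) := by
    constructor
    ext a
    rw [Ideal.under_def, Ideal.mem_comap, hP, RingHom.mem_ker, hρa, residue_eq_zero_iff]
  obtain ⟨ϖ, hϖ⟩ := IsDiscreteValuationRing.exists_irreducible A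
  have hϖ0 : ϖ ≠ 0 := hϖ.ne_zero
  have hmaxA : maximalIdeal A = Ideal.span {ϖ} := hϖ.maximalIdeal_eq
  have hinjE : Function.Injective (algebraMap A E) := FaithfulSMul.algebraMap_injective A E
  have hϖP : algebraMap A E ϖ ∈ P := by
    rw [hP, RingHom.mem_ker, hρa, residue_eq_zero_iff, hmaxA]
    exact Ideal.mem_span_singleton_self ϖ
  haveI : IsNoetherianRing E := Algebra.FiniteType.isNoetherianRing A E
  -- quasi-finiteness at `P`
  haveI hqf : Algebra.QuasiFiniteAt A P := by
    refine Algebra.QuasiFiniteAt.of_isOpen_singleton_fiber (R := A) ⟨P, inferInstance⟩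
      (isOpen_singleton_fiber ϖ ⟨P, inferInstance⟩ hPmax hϖP ?_)
    intro y hy hϖy hyP
    rcases himm y hy hyP with h | h
    · exfalso
      rw [h, Ideal.mem_bot] at hϖy
      exact hϖ0 (hinjE (hϖy.trans (map_zero _).symm))
    · exact h
  haveI hfinD : Module.Finite A (Localization.AtPrime P) :=
    Hensel.finite_localization_of_quasiFiniteAt P
  obtain ⟨B, hB1, hB2, hB3, φ, hφ, ψ, hfin, hψ, hψP⟩ := exists_dvr_of_finite_localization (A := A) P
  refine ⟨B, hB1, hB2, hB3, φ, hφ, ψ, hfin, hψ, ?_⟩
  ext e
  obtain ⟨a, ha⟩ := residue_surjective (ρ e)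
  have he : e - algebraMap A E a ∈ P := by
    rw [hP, RingHom.mem_ker, map_sub, hρa, ha, sub_self]
  have h1 : residue B (ψ (e - algebraMap A E a)) = 0 :=
    (residue_eq_zero_iff _).mpr (hψP _ he)
  have h2 : ψ (algebraMap A E a) = φ a := by rw [← hψ]; rfl
  rw [map_sub, map_sub, sub_eq_zero, h2] at h1
  rw [RingHom.comp_apply, RingHom.comp_apply, h1, ← ha, ResidueField.map_residue]

end Groth.Agent.R2.H19.DvrLiftA
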