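import Mathlib
import Groth.Agent.S9334

/-!
helper19: quasi-sections through a closed point of a fibre over a locally Noetherian base.

* `eq_of_forall_mem_of_ne_bot`, `eq_of_lt_of_le`: Krull's principal ideal theorem + prime avoidance:
  in a Noetherian ring, if all primes strictly between `z` and `x` (and `x`) contain an element
  `j ∉ z`, then there is no prime strictly between `z` and `x`.
* `exists_immediate_generization(_spec)`: in a locally Noetherian scheme, a point `x` having a
  generization outside a closed set `E` has an immediate generization `z ∉ E` (no point strictly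
  between `z` and `x`).
* `exists_mem_specializes_of_mem_closure(_spec)`: in a locally Noetherian scheme a point of the
  closure of an open set is a specialization of a point of the open set.
* `exists_quasiFinite_closed_subscheme`: the closed subscheme `closure {z}` is quasi-finite at `x`.
-/

set_option autoImplicit false
set_option linter.style.haveILetI false
universe u
open CategoryTheory CategoryTheory.Limits AlgebraicGeometry Topology

namespace Groth.Agent.R2.H19.QuasiSec

/-- In a Noetherian domain, if every nonzero prime below the prime `x` contains the nonzero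
element `j`, then every nonzero prime below `x` is `x` itself. -/
theorem eq_of_forall_mem_of_ne_bot {D : Type*} [CommRing D] [IsDomain D] [IsNoetherianRing D]
    (x : Ideal D) [x.IsPrime] (j : D) (hj : j ≠ 0)
    (h : ∀ y : Ideal D, y.IsPrime → y ≠ ⊥ → y ≤ x → j ∈ y)
    (y : Ideal D) [y.IsPrime] (hy0 : y ≠ ⊥) (hyx : y ≤ x) : y = x := by
  classical
  by_contra hne
  have hlt : y < x := lt_of_le_of_ne hyx hne
  have hbot : (⊥ : Ideal D) < y := bot_lt_iff_ne_bot.mpr hy0
  haveI : (⊥ : Ideal D).IsPrime := Ideal.isPrime_bot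
  have hy1 : (1 : ℕ∞) ≤ y.height := by
    have := Ideal.height_add_one_le_of_lt_of_isPrime hbot
    exact le_trans (by simp) this
  have hx2 : (2 : ℕ∞) ≤ x.height := by
    have := Ideal.height_add_one_le_of_lt_of_isPrime hlt
    refine le_trans ?_ this
    have : (1 : ℕ∞) + 1 ≤ y.height + 1 := by gcongr
    simpa [one_add_one_eq_two] using this
  -- minimal primes over `j`
  have hfin : (Ideal.span {j}).minimalPrimes.Finite :=
    Ideal.finite_minimalPrimes_of_isNoetherianRing D _
  have hjy : Ideal.span {j} ≤ y := by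
    rw [Ideal.span_singleton_le_iff_mem]; exact h y inferInstance hy0 hyx
  obtain ⟨p₀, hp₀, hp₀y⟩ := Ideal.exists_minimalPrimes_le hjy
  have hP1 : ∀ p ∈ (Ideal.span {j}).minimalPrimes, p.height ≤ 1 := fun p hp =>
    Ideal.height_le_one_of_isPrincipal_of_mem_minimalPrimes _ p hp
  have hnot : ¬ ((x : Set D) ⊆ ⋃ p ∈ (↑hfin.toFinset : Set (Ideal D)), (p : Set D)) := by
    intro hsub
    rw [Ideal.subset_union_prime (f := fun p : Ideal D => p) p₀ p₀
      (fun p hp _ _ => ((hfin.mem_toFinset).mp hp).1.1)] at hsub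
    obtain ⟨p, hp, hxp⟩ := hsub
    have h1 := hP1 p ((hfin.mem_toFinset).mp hp)
    have h2 := Ideal.height_mono hxp
    have : (2 : ℕ∞) ≤ 1 := hx2.trans (h2.trans h1)
    exact absurd this (by decide)
  rw [Set.not_subset] at hnot
  obtain ⟨t, htx, htP⟩ := hnot
  have htP' : ∀ p ∈ (Ideal.span {j}).minimalPrimes, t ∉ p := by
    intro p hp htp
    apply htP
    simp only [Set.mem_iUnion]
    exact ⟨p, by simpa using hp, htp⟩
  have ht0 : t ≠ 0 := by
    rintro rfl
    exact htP' p₀ hp₀ (Ideal.zero_mem _)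
  have htx' : Ideal.span {t} ≤ x := by
    rw [Ideal.span_singleton_le_iff_mem]; exact htx
  obtain ⟨q, hq, hqx⟩ := Ideal.exists_minimalPrimes_le htx'
  haveI hqprime : q.IsPrime := hq.1.1
  have htq : t ∈ q := hq.1.2 (Ideal.mem_span_singleton_self t)
  have hq0 : q ≠ ⊥ := by
    intro hq0
    rw [hq0, Ideal.mem_bot] at htq
    exact ht0 htq
  have hq1 : q.height ≤ 1 := Ideal.height_le_one_of_isPrincipal_of_mem_minimalPrimes _ q hq
  have hjq : j ∈ q := h q inferInstance hq0 hqx
  have hjq' : Ideal.span {j} ≤ q := by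
    rw [Ideal.span_singleton_le_iff_mem]; exact hjq
  obtain ⟨p, hp, hpq⟩ := Ideal.exists_minimalPrimes_le hjq'
  haveI hpprime : p.IsPrime := hp.1.1
  have hp0 : p ≠ ⊥ := by
    intro hp0
    have : j ∈ p := hp.1.2 (Ideal.mem_span_singleton_self j)
    rw [hp0, Ideal.mem_bot] at this
    exact hj this
  have hpq' : p = q := by
    by_contra hpne
    have hlt' : p < q := lt_of_le_of_ne hpq hpne
    have h1 := Ideal.height_add_one_le_of_lt_of_isPrime hlt'
    have h2 : (1 : ℕ∞) ≤ p.height := by
      have := Ideal.height_add_one_le_of_lt_of_isPrime (bot_lt_iff_ne_bot.mpr hp0)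
      exact le_trans (by simp) this
    have h3 : (1 : ℕ∞) + 1 ≤ p.height + 1 := by gcongr
    have : (1 : ℕ∞) + 1 ≤ 1 := h3.trans (h1.trans hq1)
    exact absurd this (by decide)
  exact htP' p hp (hpq' ▸ htq)

/-- In a Noetherian ring, let `z ≤ x` be primes and `j ∉ z` an element contained in every prime
`y` with `z < y ≤ x`. Then every prime `y` with `z < y ≤ x` equals `x`. -/
theorem eq_of_lt_of_le {C : Type*} [CommRing C] [IsNoetherianRing C] (z x : Ideal C) [z.IsPrime]
    [x.IsPrime] (hzx : z ≤ x) (j : C) (hjz : j ∉ z)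
    (h : ∀ y : Ideal C, y.IsPrime → z < y → y ≤ x → j ∈ y)
    (y : Ideal C) [y.IsPrime] (hzy : z < y) (hyx : y ≤ x) : y = x := by
  set mk := Ideal.Quotient.mk z with hmk
  have hsurj : Function.Surjective mk := Ideal.Quotient.mk_surjective
  have hker : RingHom.ker mk = z := Ideal.mk_ker
  have hcm : ∀ I : Ideal C, z ≤ I → (I.map mk).comap mk = I := by
    intro I hI
    rw [Ideal.comap_map_of_surjective mk hsurj, ← RingHom.ker_eq_comap_bot, hker]
    exact sup_eq_left.mpr hI
  haveI hxp : (x.map mk).IsPrime :=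
    Ideal.map_isPrime_of_surjective hsurj (by rw [hker]; exact hzx)
  haveI hyp : (y.map mk).IsPrime :=
    Ideal.map_isPrime_of_surjective hsurj (by rw [hker]; exact hzy.le)
  have hj0 : mk j ≠ 0 := by
    intro h0
    exact hjz (Ideal.Quotient.eq_zero_iff_mem.mp h0)
  have hy0 : y.map mk ≠ ⊥ := by
    intro h0
    have : (y.map mk).comap mk = z := by
      rw [h0, ← RingHom.ker_eq_comap_bot, hker]
    rw [hcm y hzy.le] at this
    exact hzy.ne' this
  have key := eq_of_forall_mem_of_ne_bot (x.map mk) (mk j) hj0 ?_ (y.map mk) hy0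
    (Ideal.map_mono hyx)
  · have := congrArg (Ideal.comap mk) key
    rwa [hcm y hzy.le, hcm x hzx] at this
  · intro y' hy'p hy'0 hy'x
    haveI := hy'p
    have hzy' : z ≤ y'.comap mk := by
      intro a ha
      rw [Ideal.mem_comap]
      have h0 : mk a = 0 := Ideal.Quotient.eq_zero_iff_mem.mpr ha
      rw [h0]; exact Ideal.zero_mem _
    have hne : z ≠ y'.comap mk := by
      intro heq
      apply hy'0
      have : (y'.comap mk).map mk = y' := Ideal.map_comap_of_surjective mk hsurj y'
      rw [← this, ← heq]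
      exact Ideal.map_quotient_self z
    have hle : y'.comap mk ≤ x := by
      have := Ideal.comap_mono (f := mk) hy'x
      rwa [hcm x hzx] at this
    exact h (y'.comap mk) inferInstance (lt_of_le_of_ne hzy' hne) hle

/-- immediate generizations outside a closed set, in the spectrum of a Noetherian ring. -/
theorem exists_immediate_generization_spec {C : Type*} [CommRing C] [IsNoetherianRing C]
    (x : PrimeSpectrum C) (E : Set (PrimeSpectrum C)) (hE : IsClosed E)
    (x' : PrimeSpectrum C) (hx' : x' ⤳ x) (hx'E : x' ∉ E) :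
    ∃ z : PrimeSpectrum C, z ⤳ x ∧ z ∉ E ∧
      ∀ y : PrimeSpectrum C, z ⤳ y → y ⤳ x → y = z ∨ y = x := by
  obtain ⟨J, rfl⟩ := (PrimeSpectrum.isClosed_iff_zeroLocus_ideal _).mp hE
  let 𝒮 : Set (Ideal C) := {I | I.IsPrime ∧ I ≤ x.asIdeal ∧ ¬ J ≤ I}
  have hne : 𝒮.Nonempty := by
    refine ⟨x'.asIdeal, x'.2, (PrimeSpectrum.le_iff_specializes x' x).mpr hx', ?_⟩
    intro hJ
    exact hx'E ((PrimeSpectrum.mem_zeroLocus _ _).mpr hJ)
  obtain ⟨M, ⟨hMp, hMx, hMJ⟩, hmax⟩ :=
    set_has_maximal_iff_noetherian.mpr (inferInstance : IsNoetherian C C) 𝒮 hne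
  haveI := hMp
  obtain ⟨j, hjJ, hjM⟩ := SetLike.not_le_iff_exists.mp hMJ
  refine ⟨⟨M, hMp⟩, (PrimeSpectrum.le_iff_specializes _ _).mp hMx, ?_, ?_⟩
  · intro hmem
    exact hMJ ((PrimeSpectrum.mem_zeroLocus _ _).mp hmem)
  · intro y hzy hyx
    have hzy' : M ≤ y.asIdeal := (PrimeSpectrum.le_iff_specializes ⟨M, hMp⟩ y).mpr hzy
    have hyx' : y.asIdeal ≤ x.asIdeal := (PrimeSpectrum.le_iff_specializes y x).mpr hyx
    by_cases hyz : y.asIdeal = M
    · left; exact PrimeSpectrum.ext hyz
    · right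
      have hlt : M < y.asIdeal := lt_of_le_of_ne hzy' (Ne.symm hyz)
      haveI := y.2
      haveI := x.2
      apply PrimeSpectrum.ext
      refine eq_of_lt_of_le M x.asIdeal hMx j hjM ?_ y.asIdeal hlt hyx'
      intro y' hy'p hMy' hy'x
      by_contra hjy'
      have : y' ∈ 𝒮 := ⟨hy'p, hy'x, fun hJy' => hjy' (hJy' hjJ)⟩
      exact hmax y' this hMy'

/-- immediate generizations outside a closed set, in a locally Noetherian scheme. -/
theorem exists_immediate_generization {X : Scheme.{u}} [IsLocallyNoetherian X] (x : X)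
    (E : Set X) (hE : IsClosed E) (x' : X) (hx' : x' ⤳ x) (hx'E : x' ∉ E) :
    ∃ z : X, z ⤳ x ∧ z ∉ E ∧ ∀ y : X, z ⤳ y → y ⤳ x → y = z ∨ y = x := by
  obtain ⟨_, ⟨W, hW, rfl⟩, hxW, -⟩ := X.isBasis_affineOpens.exists_subset_of_mem_open
    (Set.mem_univ x) isOpen_univ
  replace hW : IsAffineOpen W := hW
  haveI : IsNoetherianRing Γ(X, W) := IsLocallyNoetherian.component_noetherian ⟨W, hW⟩
  have hrange : Set.range hW.fromSpec = (W : Set X) := hW.range_fromSpec
  have hind : IsInducing hW.fromSpec := hW.fromSpec.isOpenEmbedding.isInducing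
  obtain ⟨p, rfl⟩ : x ∈ Set.range hW.fromSpec := by rw [hrange]; exact hxW
  obtain ⟨p', rfl⟩ : x' ∈ Set.range hW.fromSpec := by
    rw [hrange]; exact hx'.mem_open W.isOpen hxW
  have hp' : p' ⤳ p := hind.specializes_iff.mp hx'
  obtain ⟨z, hzp, hzE, hz⟩ := exists_immediate_generization_spec (C := Γ(X, W)) p
    (hW.fromSpec ⁻¹' E) (hE.preimage hW.fromSpec.continuous) p' hp' hx'E
  refine ⟨hW.fromSpec z, hzp.map hW.fromSpec.continuous, hzE, ?_⟩
  intro y hzy hyx
  obtain ⟨q, rfl⟩ : y ∈ Set.range hW.fromSpec := by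
    rw [hrange]; exact hyx.mem_open W.isOpen hxW
  rcases hz q (hind.specializes_iff.mp hzy) (hind.specializes_iff.mp hyx) with h | h
  · left; rw [h]
  · right; rw [h]

/-- in the spectrum of a Noetherian ring, a point of the closure of an open set is a
specialization of a point of the open set. -/
theorem exists_mem_specializes_of_mem_closure_spec {C : Type*} [CommRing C] [IsNoetherianRing C]
    (U : Set (PrimeSpectrum C)) (hU : IsOpen U) (p : PrimeSpectrum C) (hp : p ∈ closure U) :
    ∃ u ∈ U, u ⤳ p := by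
  classical
  have hfin : (minimalPrimes C).Finite := minimalPrimes.finite_of_isNoetherianRing C
  let G : Set (Ideal C) := {q | q ∈ minimalPrimes C ∧ ∃ h : q.IsPrime, (⟨q, h⟩ : PrimeSpectrum C) ∈ U}
  have hGfin : G.Finite := hfin.subset (fun q hq => hq.1)
  let K : Set (PrimeSpectrum C) := ⋃ q ∈ G, PrimeSpectrum.zeroLocus (q : Set C)
  have hK : IsClosed K := hGfin.isClosed_biUnion (fun q _ => PrimeSpectrum.isClosed_zeroLocus _)
  have hUK : U ⊆ K := by
    intro u hu
    obtain ⟨q, hq, hqu⟩ := Ideal.exists_minimalPrimes_le (I := ⊥) (J := u.asIdeal) bot_le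
    have hqp : q.IsPrime := hq.1.1
    have hsp : (⟨q, hqp⟩ : PrimeSpectrum C) ⤳ u :=
      (PrimeSpectrum.le_iff_specializes ⟨q, hqp⟩ u).mp hqu
    have hqU : (⟨q, hqp⟩ : PrimeSpectrum C) ∈ U := hsp.mem_open hU hu
    simp only [K, Set.mem_iUnion]
    exact ⟨q, ⟨hq, hqp, hqU⟩, (PrimeSpectrum.mem_zeroLocus _ _).mpr hqu⟩
  have hpK : p ∈ K := closure_minimal hUK hK hp
  simp only [K, Set.mem_iUnion] at hpK
  obtain ⟨q, ⟨_, hqp, hqU⟩, hqp'⟩ := hpK
  exact ⟨⟨q, hqp⟩, hqU, (PrimeSpectrum.le_iff_specializes ⟨q, hqp⟩ p).mp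
    ((PrimeSpectrum.mem_zeroLocus _ _).mp hqp')⟩

theorem exists_mem_specializes_of_mem_closure {X : Scheme.{u}} [IsLocallyNoetherian X]
    (U : X.Opens) (x : X) (hx : x ∈ closure (U : Set X)) : ∃ x' ∈ U, x' ⤳ x := by
  obtain ⟨_, ⟨W, hW, rfl⟩, hxW, -⟩ := X.isBasis_affineOpens.exists_subset_of_mem_open
    (Set.mem_univ x) isOpen_univ
  replace hW : IsAffineOpen W := hW
  haveI : IsNoetherianRing Γ(X, W) := IsLocallyNoetherian.component_noetherian ⟨W, hW⟩
  have hrange : Set.range hW.fromSpec = (W : Set X) := hW.range_fromSpec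
  obtain ⟨p, rfl⟩ : x ∈ Set.range hW.fromSpec := by rw [hrange]; exact hxW
  have hpc : p ∈ closure (hW.fromSpec ⁻¹' (U : Set X)) := by
    rw [← hW.fromSpec.isOpenEmbedding.isOpenMap.preimage_closure_eq_closure_preimage
      hW.fromSpec.continuous]
    exact hx
  obtain ⟨u, hu, hup⟩ := exists_mem_specializes_of_mem_closure_spec (C := Γ(X, W))
    (hW.fromSpec ⁻¹' (U : Set X)) (U.isOpen.preimage hW.fromSpec.continuous) p hpc
  exact ⟨hW.fromSpec u, hu, hup.map hW.fromSpec.continuous⟩

/-- **Quasi-finite curve through a closed point of a fibre.** -/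
theorem exists_quasiFinite_closed_subscheme {X S : Scheme.{u}} (f : X ⟶ S) [LocallyOfFiniteType f]
    [IsLocallyNoetherian S] (x : X)
    (hcl : IsClosed (Subtype.val ⁻¹' {x} : Set ↑(f ⁻¹' {f x}))) (U : X.Opens)
    (x' : X) (hx'U : x' ∈ U) (hx'x : x' ⤳ x) (hfx' : f x' ≠ f x) :
    ∃ (I : X.IdealSheafData) (z₀ x₀ : ↑I.subscheme), I.subschemeι x₀ = x ∧
      (I.subschemeι ≫ f).QuasiFiniteAt x₀ ∧
      I.subschemeι z₀ ∈ U ∧ I.subschemeι z₀ ⤳ x ∧ f (I.subschemeι z₀) ≠ f x := by
  haveI : IsLocallyNoetherian X := LocallyOfFiniteType.isLocallyNoetherian f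
  -- the closed set to avoid
  let E : Set X := (U : Set X)ᶜ ∪ f ⁻¹' closure {f x}
  have hE : IsClosed E := (U.isOpen.isClosed_compl).union
    (isClosed_closure.preimage f.continuous)
  have hx'E : x' ∉ E := by
    rintro (h | h)
    · exact h hx'U
    · have h1 : f x ⤳ f x' := specializes_iff_mem_closure.mpr h
      have h2 : f x' ⤳ f x := hx'x.map f.continuous
      exact hfx' (h2.antisymm h1).eq
  obtain ⟨z, hzx, hzE, hz⟩ := exists_immediate_generization x E hE x' hx'x hx'E
  have hzU : z ∈ U := by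
    by_contra h
    exact hzE (Or.inl h)
  have hfz : f z ≠ f x := by
    intro h
    apply hzE
    right
    show f z ∈ closure {f x}
    rw [h]; exact subset_closure rfl
  -- the closed subscheme
  let I : X.IdealSheafData := Scheme.IdealSheafData.vanishingIdeal ⟨closure {z}, isClosed_closure⟩
  have hsupp : (I.support : Set X) = closure {z} :=
    Scheme.IdealSheafData.coe_support_vanishingIdeal _
  have hrange : Set.range I.subschemeι = closure {z} := by
    rw [Scheme.IdealSheafData.range_subschemeι, hsupp]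
  obtain ⟨z₀, hz₀⟩ : z ∈ Set.range I.subschemeι := by rw [hrange]; exact subset_closure rfl
  obtain ⟨x₀, hx₀⟩ : x ∈ Set.range I.subschemeι := by
    rw [hrange]; exact specializes_iff_mem_closure.mp hzx
  refine ⟨I, z₀, x₀, hx₀, ?_, by rw [hz₀]; exact hzU, by rw [hz₀]; exact hzx, by rw [hz₀]; exact hfz⟩
  -- quasi-finiteness
  set h : I.subscheme ⟶ S := I.subschemeι ≫ f with hh
  haveI : LocallyOfFiniteType h := by rw [hh]; infer_instance
  rw [Groth.Agent.S9334.result h x₀]
  let e : ↥(h.fiber (h.base x₀)) → X := fun w => I.subschemeι (h.fiberι _ w)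
  have he_cont : Continuous e :=
    I.subschemeι.continuous.comp (h.fiberι _).continuous
  have he_inj : Function.Injective e :=
    I.subschemeι.isEmbedding.injective.comp (h.fiberι _).isEmbedding.injective
  have he_x : e (h.asFiber x₀) = x := by
    show I.subschemeι (h.fiberι _ (h.asFiber x₀)) = x
    rw [Scheme.Hom.fiberι_asFiber, hx₀]
  have he_f : ∀ w, f (e w) = f x := by
    intro w
    have h1 : h.fiberι _ w ∈ h ⁻¹' {h x₀} := by
      rw [← h.range_fiberι]; exact ⟨w, rfl⟩
    have h2 : h (h.fiberι _ w) = h x₀ := h1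
    have h4 : h x₀ = f x := by
      have : h x₀ = f (I.subschemeι x₀) := Scheme.Hom.comp_apply _ _ _
      rw [this, hx₀]
    have h5 : h (h.fiberι _ w) = f (I.subschemeι (h.fiberι _ w)) := Scheme.Hom.comp_apply _ _ _
    exact h5.symm.trans (h2.trans h4)
  have he_z : ∀ w, z ⤳ e w := by
    intro w
    rw [specializes_iff_mem_closure, ← hrange]
    exact ⟨_, rfl⟩
  constructor
  · obtain ⟨K, hK, hKeq⟩ := isClosed_induced_iff.mp hcl
    have : ({h.asFiber x₀} : Set ↥(h.fiber (h.base x₀))) = e ⁻¹' K := by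
      ext w
      simp only [Set.mem_singleton_iff, Set.mem_preimage]
      constructor
      · rintro rfl
        rw [he_x]
        have : (⟨x, rfl⟩ : ↑(f ⁻¹' {f x})) ∈ Subtype.val ⁻¹' K := by
          rw [hKeq]; rfl
        exact this
      · intro hw
        have : (⟨e w, he_f w⟩ : ↑(f ⁻¹' {f x})) ∈ Subtype.val ⁻¹' K := hw
        rw [hKeq] at this
        have h3 : e w = x := this
        exact he_inj (h3.trans he_x.symm)
    rw [this]
    exact hK.preimage he_cont
  · intro w hw
    have h1 : e w ⤳ x := by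
      have := hw.map he_cont
      rwa [he_x] at this
    rcases hz (e w) (he_z w) h1 with h2 | h2
    · exfalso
      apply hfz
      rw [← h2]; exact he_f w
    · exact he_inj (h2.trans he_x.symm)

end Groth.Agent.R2.H19.QuasiSec
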