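import Mathlib
import Groth.Agent.R2.H19DvrLiftA
import Groth.Agent.R2.H19QuasiSec

/-!
helper19: algebra for the DVR lifting criterion (EGA IV 14.5.8), direction (⇒), continued:
`exists_dvr_lift`: over a complete DVR `A`, a `k`-point `ρ` of a finite type `A`-algebra `R` which
has a generization over the generic point of `A` lifts to a finite DVR extension of `A`.
-/

set_option autoImplicit false
set_option linter.style.haveILetI false
universe u
open IsLocalRing

namespace Groth.Agent.R2.H19.DvrLiftB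

open Groth.Agent.R2.H19.DvrLiftA Groth.Agent.R2.H19.QuasiSec

theorem exists_dvr_lift {A : Type u} [CommRing A] [IsDomain A] [IsDiscreteValuationRing A]
    [IsAdicComplete (maximalIdeal A) A] [IsAlgClosed (ResidueField A)]
    {R : Type u} [CommRing R] [Algebra A R] [Algebra.FiniteType A R]
    (ρ : R →+* ResidueField A) (hρ : ρ.comp (algebraMap A R) = residue A)
    (q₀ : Ideal R) [q₀.IsPrime] (hq₀ : q₀ ≤ RingHom.ker ρ)
    (hq₀A : q₀.comap (algebraMap A R) = ⊥) :
    ∃ (B : Type u) (_ : CommRing B) (_ : IsDomain B) (_ : IsDiscreteValuationRing B)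
      (φ : A →+* B) (_ : IsLocalHom φ) (ψ : R →+* B),
      φ.Finite ∧ ψ.comp (algebraMap A R) = φ ∧
        (residue B).comp ψ = (ResidueField.map φ).comp ρ := by
  haveI : IsNoetherianRing R := Algebra.FiniteType.isNoetherianRing A R
  obtain ⟨ϖ, hϖ⟩ := IsDiscreteValuationRing.exists_irreducible A
  have hϖ0 : ϖ ≠ 0 := hϖ.ne_zero
  have hmaxA : maximalIdeal A = Ideal.span {ϖ} := hϖ.maximalIdeal_eq
  let x : PrimeSpectrum R := ⟨RingHom.ker ρ, RingHom.ker_isPrime ρ⟩
  let x' : PrimeSpectrum R := ⟨q₀, inferInstance⟩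
  let Ecl : Set (PrimeSpectrum R) := PrimeSpectrum.zeroLocus {algebraMap A R ϖ}
  have hEcl : IsClosed Ecl := PrimeSpectrum.isClosed_zeroLocus _
  have hx'x : x' ⤳ x := (PrimeSpectrum.le_iff_specializes x' x).mp hq₀
  have hx'E : x' ∉ Ecl := by
    intro h
    have h1 : algebraMap A R ϖ ∈ q₀ := by
      have := (PrimeSpectrum.mem_zeroLocus _ _).mp h
      exact this (Set.mem_singleton _)
    have h2 : ϖ ∈ q₀.comap (algebraMap A R) := h1
    rw [hq₀A, Ideal.mem_bot] at h2
    exact hϖ0 h2
  obtain ⟨z, hzx, hzE, hz⟩ := exists_immediate_generization_spec x Ecl hEcl x' hx'x hx'E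
  have hzle : z.asIdeal ≤ RingHom.ker ρ := (PrimeSpectrum.le_iff_specializes z x).mpr hzx
  have hϖz : algebraMap A R ϖ ∉ z.asIdeal := by
    intro h
    apply hzE
    rw [PrimeSpectrum.mem_zeroLocus]
    intro w hw
    rw [Set.mem_singleton_iff] at hw
    rw [hw]; exact h
  -- the quotient domain
  haveI : IsDomain (R ⧸ z.asIdeal) := Ideal.Quotient.isDomain _
  haveI : Algebra.FiniteType A (R ⧸ z.asIdeal) :=
    Algebra.FiniteType.of_surjective (Ideal.Quotient.mkₐ A z.asIdeal)
      (Ideal.Quotient.mkₐ_surjective A _)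
  haveI : FaithfulSMul A (R ⧸ z.asIdeal) := by
    rw [faithfulSMul_iff_algebraMap_injective, injective_iff_map_eq_zero]
    intro a ha
    by_contra ha0
    have h1 : algebraMap A R a ∈ z.asIdeal := by
      rw [← Ideal.Quotient.eq_zero_iff_mem]
      exact ha
    have hne : z.asIdeal.comap (algebraMap A R) ≠ ⊥ := by
      intro h
      have : a ∈ z.asIdeal.comap (algebraMap A R) := h1
      rw [h, Ideal.mem_bot] at this
      exact ha0 this
    haveI : (z.asIdeal.comap (algebraMap A R)).IsPrime := Ideal.comap_isPrime _ _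
    have hmax : (z.asIdeal.comap (algebraMap A R)).IsMaximal :=
      Ring.DimensionLEOne.maximalOfPrime hne inferInstance
    have heq := IsLocalRing.eq_maximalIdeal hmax
    apply hϖz
    have : ϖ ∈ z.asIdeal.comap (algebraMap A R) := by
      rw [heq, hmaxA]; exact Ideal.mem_span_singleton_self ϖ
    exact this
  let ρ' : R ⧸ z.asIdeal →+* ResidueField A := Ideal.Quotient.lift z.asIdeal ρ
    (fun a ha => (RingHom.mem_ker).mp (hzle ha))
  have hρ' : ρ'.comp (algebraMap A (R ⧸ z.asIdeal)) = residue A := by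
    ext a
    have : algebraMap A (R ⧸ z.asIdeal) a = Ideal.Quotient.mk _ (algebraMap A R a) := rfl
    rw [RingHom.comp_apply, this, Ideal.Quotient.lift_mk, ← hρ]
    rfl
  have hker : (RingHom.ker ρ').comap (Ideal.Quotient.mk z.asIdeal) = RingHom.ker ρ := by
    ext a
    rw [Ideal.mem_comap, RingHom.mem_ker, RingHom.mem_ker, Ideal.Quotient.lift_mk]
  have himm : ∀ y : Ideal (R ⧸ z.asIdeal), y.IsPrime → y ≤ RingHom.ker ρ' →
      y = ⊥ ∨ y = RingHom.ker ρ' := by
    intro y hy hyle
    haveI := hy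
    let Y : PrimeSpectrum R := ⟨y.comap (Ideal.Quotient.mk z.asIdeal), Ideal.comap_isPrime _ _⟩
    have hzY : z ⤳ Y := by
      rw [← PrimeSpectrum.le_iff_specializes]
      intro a ha
      show Ideal.Quotient.mk z.asIdeal a ∈ y
      rw [Ideal.Quotient.eq_zero_iff_mem.mpr ha]
      exact y.zero_mem
    have hYx : Y ⤳ x := by
      rw [← PrimeSpectrum.le_iff_specializes]
      show y.comap (Ideal.Quotient.mk z.asIdeal) ≤ RingHom.ker ρ
      rw [← hker]
      exact Ideal.comap_mono hyle
    have hsurj : Function.Surjective (Ideal.Quotient.mk z.asIdeal) := Ideal.Quotient.mk_surjective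
    rcases hz Y hzY hYx with h | h
    · left
      have h1 : y.comap (Ideal.Quotient.mk z.asIdeal) = z.asIdeal := congrArg (·.asIdeal) h
      rw [← Ideal.map_comap_of_surjective _ hsurj y, h1, Ideal.map_quotient_self]
    · right
      have h1 : y.comap (Ideal.Quotient.mk z.asIdeal) = RingHom.ker ρ := congrArg (·.asIdeal) h
      rw [← Ideal.map_comap_of_surjective _ hsurj y, h1, ← hker,
        Ideal.map_comap_of_surjective _ hsurj]
  obtain ⟨B, hB1, hB2, hB3, φ, hφ, ψ, hfin, hψ, hcompat⟩ := exists_dvr_of_immediate ρ' hρ' himm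
  refine ⟨B, hB1, hB2, hB3, φ, hφ, ψ.comp (Ideal.Quotient.mk z.asIdeal), hfin, ?_, ?_⟩
  · rw [← hψ]
    rfl
  · rw [← RingHom.comp_assoc, hcompat]
    ext a
    rfl

end Groth.Agent.R2.H19.DvrLiftB
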