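import Mathlib

/-!
# Unramified extensions of discrete valuation rings with prescribed residue field (helper34)

Adapted from helper19's existence proof for Cohen rings (`Lib/Helper19CohenExistB/C`), with the
prime number `p` replaced by an arbitrary uniformizer `ϖ`, and the ambient algebraically closed field
replaced by a separably closed one.
-/

set_option autoImplicit false
set_option linter.style.haveILetI false
set_option linter.unusedSectionVars false
universe u

namespace Groth.Agent.R2.H34.UnramExt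

open IsLocalRing Polynomial

variable {𝕂 : Type u} [Field 𝕂] (O : ValuationSubring 𝕂) {k : Type u} [Field k]
  (ι : k →+* ResidueField O) (ϖ : 𝕂)

/-- the residue map on a subring of `O` -/
noncomputable def resOn {R : Subring 𝕂} (hle : R ≤ O.toSubring) : ↥R →+* ResidueField O :=
  (residue O).comp
    { toFun := fun x => ⟨x.1, hle x.2⟩
      map_one' := rfl
      map_mul' := fun _ _ => rfl
      map_zero' := rfl
      map_add' := fun _ _ => rfl }

theorem resOn_apply {R : Subring 𝕂} (hle : R ≤ O.toSubring) (x : ↥R) :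
    resOn O hle x = residue O ⟨x.1, hle x.2⟩ := rfl

/-- the subrings under consideration -/
structure Good (R : Subring 𝕂) : Prop where
  le : R ≤ O.toSubring
  mem : ϖ ∈ R
  inv_mem : ∀ x ∈ R, O.valuation x = 1 → x⁻¹ ∈ R
  div_mem : ∀ x ∈ R, O.valuation x < 1 → x * ϖ⁻¹ ∈ R
  val : ∀ x ∈ R, x ≠ 0 → ∃ n : ℕ, O.valuation x = O.valuation ϖ ^ n
  res : ∀ x : ↥R, resOn O le x ∈ ι.fieldRange

variable {O ι ϖ}

theorem valuation_le_one_of_mem {x : 𝕂} (hx : x ∈ O) : O.valuation x ≤ 1 :=
  (O.valuation_le_one_iff x).2 hx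

theorem residue_eq_zero_iff_valuation_lt (x : 𝕂) (hx : x ∈ O) :
    residue O ⟨x, hx⟩ = 0 ↔ O.valuation x < 1 := by
  rw [residue_eq_zero_iff, O.valuation_lt_one_iff]

theorem valuation_eq_one_of_residue_ne_zero (x : 𝕂) (hx : x ∈ O) (h : residue O ⟨x, hx⟩ ≠ 0) :
    O.valuation x = 1 := by
  rcases lt_or_eq_of_le (valuation_le_one_of_mem hx) with h1 | h1
  · exact (h ((residue_eq_zero_iff_valuation_lt x hx).2 h1)).elim
  · exact h1

section eval

variable {R : Subring 𝕂}

theorem eval₂_mem (hle : R ≤ O.toSubring) (g : (↥R)[X]) {t : 𝕂} (ht : t ∈ O) :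
    g.eval₂ R.subtype t ∈ O := by
  rw [eval₂_eq_sum_range]
  refine Subring.sum_mem O.toSubring fun i _ => ?_
  exact O.toSubring.mul_mem (hle (g.coeff i).2) (O.toSubring.pow_mem ht i)

theorem residue_eval₂ (hle : R ≤ O.toSubring) (g : (↥R)[X]) {t : 𝕂} (ht : t ∈ O) :
    residue O ⟨g.eval₂ R.subtype t, eval₂_mem hle g ht⟩ =
      g.eval₂ (resOn O hle) (residue O ⟨t, ht⟩) := by
  have h1 : (⟨g.eval₂ R.subtype t, eval₂_mem hle g ht⟩ : O) =
      g.eval₂ ({ toFun := fun x => ⟨x.1, hle x.2⟩
                 map_one' := rfl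
                 map_mul' := fun _ _ => rfl
                 map_zero' := rfl
                 map_add' := fun _ _ => rfl } : ↥R →+* O) ⟨t, ht⟩ := by
    apply Subtype.ext
    have := hom_eval₂ g ({ toFun := fun x => ⟨x.1, hle x.2⟩
                           map_one' := rfl
                           map_mul' := fun _ _ => rfl
                           map_zero' := rfl
                           map_add' := fun _ _ => rfl } : ↥R →+* O) O.subtype ⟨t, ht⟩
    exact this.symm
  rw [h1, hom_eval₂]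
  rfl

end eval

section good

variable {R : Subring 𝕂} (hR : Good O ι ϖ R) (hp0 : ϖ ≠ 0)

/-- the uniformizer as an element of a good subring -/
def unif (hR : Good O ι ϖ R) : ↥R := ⟨ϖ, hR.mem⟩

@[simp] theorem coe_unif : ((unif hR : ↥R) : 𝕂) = ϖ := rfl

include hR in
theorem resOn_eq_zero_iff (x : ↥R) : resOn O hR.le x = 0 ↔ O.valuation (x : 𝕂) < 1 :=
  residue_eq_zero_iff_valuation_lt _ _

include hp0 in
theorem dvd_of_valuation_lt (x : ↥R) (hx : O.valuation (x : 𝕂) < 1) : unif hR ∣ x := by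
  refine ⟨⟨x * ϖ⁻¹, hR.div_mem x x.2 hx⟩, Subtype.ext ?_⟩
  rw [Subring.coe_mul, coe_unif]
  field_simp

include hp0 in
/-- normalization of polynomials: pull out the content -/
theorem exists_eq_C_pow_mul (g : (↥R)[X]) (hg : g ≠ 0) :
    ∃ (n : ℕ) (g₀ : (↥R)[X]), g = C (unif hR ^ n) * g₀ ∧ g₀.map (resOn O hR.le) ≠ 0 := by
  have hvp : O.valuation ϖ ≠ 0 := (Valuation.ne_zero_iff _).2 hp0
  have key : ∀ (n : ℕ) (g : (↥R)[X]) (i : ℕ),
      O.valuation ((g.coeff i : ↥R) : 𝕂) = O.valuation ϖ ^ n →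
      ∃ (m : ℕ) (g₀ : (↥R)[X]), g = C (unif hR ^ m) * g₀ ∧ g₀.map (resOn O hR.le) ≠ 0 := by
    intro n
    induction n with
    | zero =>
      intro g i hi
      refine ⟨0, g, by simp, fun h0 => ?_⟩
      have h1 : resOn O hR.le (g.coeff i) = 0 := by rw [← coeff_map, h0, coeff_zero]
      rw [resOn_eq_zero_iff hR, hi, pow_zero] at h1
      exact lt_irrefl _ h1
    | succ n ih =>
      intro g i hi
      by_cases hg0 : g.map (resOn O hR.le) = 0
      · have hdvd : C (unif hR) ∣ g := (C_dvd_iff_dvd_coeff _ _).2 fun j =>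
          dvd_of_valuation_lt hR hp0 _ (by
            rw [← resOn_eq_zero_iff hR, ← coeff_map, hg0, coeff_zero])
        obtain ⟨g₁, rfl⟩ := hdvd
        have hi' : O.valuation ((g₁.coeff i : ↥R) : 𝕂) = O.valuation ϖ ^ n := by
          rw [coeff_C_mul, Subring.coe_mul, coe_unif, map_mul, pow_succ,
            mul_comm] at hi
          exact mul_right_cancel₀ hvp hi
        obtain ⟨m, g₀, h1, h2⟩ := ih g₁ i hi'
        refine ⟨m + 1, g₀, ?_, h2⟩
        rw [h1, pow_succ, C_mul]
        ring
      · exact ⟨0, g, by simp, hg0⟩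
  obtain ⟨i, hi⟩ : ∃ i, g.coeff i ≠ 0 := by
    by_contra hcon
    exact hg (Polynomial.ext fun i => by
      rw [coeff_zero]
      by_contra h
      exact hcon ⟨i, h⟩)
  obtain ⟨n, hn⟩ := hR.val (g.coeff i) (g.coeff i).2 (fun h => hi (Subtype.ext h))
  exact key n g i hn

end good

section conclude

variable {R : Subring 𝕂} (hR : Good O ι ϖ R) (hpv : O.valuation ϖ < 1) (hp0 : ϖ ≠ 0)

include hR in
theorem valuation_le_one_of_good (x : ↥R) : O.valuation (x : 𝕂) ≤ 1 :=
  valuation_le_one_of_mem (hR.le x.2)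

include hR in
theorem isUnit_iff_of_good (x : ↥R) : IsUnit x ↔ O.valuation (x : 𝕂) = 1 := by
  constructor
  · rintro ⟨w, rfl⟩
    have h1 : O.valuation ((w : ↥R) : 𝕂) * O.valuation (((w⁻¹ : (↥R)ˣ) : ↥R) : 𝕂) = 1 := by
      rw [← map_mul, ← Subring.coe_mul, Units.mul_inv, Subring.coe_one, map_one]
    refine le_antisymm (valuation_le_one_of_good hR _) ?_
    calc (1 : O.ValueGroup) = _ := h1.symm
      _ ≤ O.valuation ((w : ↥R) : 𝕂) * 1 :=
        mul_le_mul_right (valuation_le_one_of_good hR _) _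
      _ = _ := mul_one _
  · intro hv
    have hx0 : (x : 𝕂) ≠ 0 := by
      intro h0
      rw [h0, map_zero] at hv
      exact zero_ne_one hv
    exact IsUnit.of_mul_eq_one ⟨(x : 𝕂)⁻¹, hR.inv_mem x x.2 hv⟩ (Subtype.ext (mul_inv_cancel₀ hx0))

include hR in
theorem isLocalRing_of_good : IsLocalRing ↥R := by
  refine IsLocalRing.of_nonunits_add fun a b ha hb => ?_
  rw [mem_nonunits_iff, isUnit_iff_of_good hR] at ha hb ⊢
  have ha' := lt_of_le_of_ne (valuation_le_one_of_good hR a) ha
  have hb' := lt_of_le_of_ne (valuation_le_one_of_good hR b) hb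
  rw [Subring.coe_add]
  exact (Valuation.map_add_lt _ ha' hb').ne

include hpv hp0 in
theorem maximalIdeal_eq_of_good :
    haveI := isLocalRing_of_good hR
    maximalIdeal ↥R = Ideal.span {unif hR} := by
  haveI := isLocalRing_of_good hR
  ext x
  rw [mem_maximalIdeal, mem_nonunits_iff, isUnit_iff_of_good hR, Ideal.mem_span_singleton]
  constructor
  · intro hx
    exact dvd_of_valuation_lt hR hp0 x (lt_of_le_of_ne (valuation_le_one_of_good hR x) hx)
  · rintro ⟨y, rfl⟩
    rw [Subring.coe_mul, coe_unif, map_mul]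
    exact (lt_of_le_of_lt (mul_le_of_le_one_right' (valuation_le_one_of_good hR y)) hpv).ne

include hpv hp0 in
/-- every nonzero element is a power of the uniformizer times a unit -/
theorem exists_eq_pow_mul_of_good (x : ↥R) (hx : x ≠ 0) :
    ∃ (n : ℕ) (w : (↥R)ˣ), x = unif hR ^ n * w := by
  have hvp : O.valuation ϖ ≠ 0 := (Valuation.ne_zero_iff _).2 hp0
  have key : ∀ (n : ℕ) (x : ↥R), O.valuation (x : 𝕂) = O.valuation ϖ ^ n →
      ∃ (w : (↥R)ˣ), x = unif hR ^ n * w := by
    intro n
    induction n with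
    | zero =>
      intro x hx
      rw [pow_zero] at hx
      exact ⟨((isUnit_iff_of_good hR x).2 hx).unit, by simp⟩
    | succ n ih =>
      intro x hx
      have h1 : O.valuation (x : 𝕂) < 1 := by
        rw [hx]
        exact pow_lt_one₀ zero_le hpv (Nat.succ_ne_zero n)
      obtain ⟨y, rfl⟩ := dvd_of_valuation_lt hR hp0 x h1
      have hy : O.valuation (y : 𝕂) = O.valuation ϖ ^ n := by
        rw [Subring.coe_mul, coe_unif, map_mul, pow_succ, mul_comm] at hx
        exact mul_right_cancel₀ hvp hx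
      obtain ⟨w, rfl⟩ := ih y hy
      exact ⟨w, by rw [pow_succ]; ring⟩
  obtain ⟨n, hn⟩ := hR.val x x.2 (fun h => hx (Subtype.ext h))
  obtain ⟨w, hw⟩ := key n x hn
  exact ⟨n, w, hw⟩

include hpv hp0 in
theorem irreducible_unif : Irreducible (unif hR) := by
  have hvp : O.valuation ϖ ≠ 0 := (Valuation.ne_zero_iff _).2 hp0
  have hvp0 : 0 < O.valuation ϖ := zero_lt_iff.2 hvp
  refine ⟨fun h => ?_, fun a b hab => ?_⟩
  · rw [isUnit_iff_of_good hR, coe_unif] at h
    exact hpv.ne h
  · have hu0 : unif hR ≠ 0 := fun h => hp0 (congrArg Subtype.val h)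
    have ha0 : a ≠ 0 := by rintro rfl; rw [zero_mul] at hab; exact hu0 hab
    have hb0 : b ≠ 0 := by rintro rfl; rw [mul_zero] at hab; exact hu0 hab
    by_contra hcon
    rw [not_or, isUnit_iff_of_good hR, isUnit_iff_of_good hR] at hcon
    have ha := lt_of_le_of_ne (valuation_le_one_of_good hR a) hcon.1
    have hb := lt_of_le_of_ne (valuation_le_one_of_good hR b) hcon.2
    obtain ⟨a', rfl⟩ := dvd_of_valuation_lt hR hp0 a ha
    obtain ⟨b', rfl⟩ := dvd_of_valuation_lt hR hp0 b hb
    have h1 := congrArg (fun z : ↥R => O.valuation (z : 𝕂)) hab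
    simp only [Subring.coe_mul, coe_unif, map_mul] at h1
    have h2 : O.valuation ϖ * O.valuation (a' : 𝕂) * (O.valuation ϖ * O.valuation (b' : 𝕂)) ≤
        O.valuation ϖ * O.valuation ϖ := by
      calc _ = (O.valuation ϖ * O.valuation ϖ) * (O.valuation (a' : 𝕂) * O.valuation (b' : 𝕂)) :=
            mul_mul_mul_comm _ _ _ _
        _ ≤ (O.valuation ϖ * O.valuation ϖ) * 1 := by
            gcongr
            exact mul_le_one' (valuation_le_one_of_good hR a') (valuation_le_one_of_good hR b')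
        _ = _ := mul_one _
    have h3 : O.valuation ϖ * O.valuation ϖ < O.valuation ϖ := by
      calc O.valuation ϖ * O.valuation ϖ < O.valuation ϖ * 1 := by
            exact mul_lt_mul_of_pos_left hpv hvp0
        _ = _ := mul_one _
    rw [← h1] at h2
    exact lt_irrefl _ (lt_of_le_of_lt h2 h3)

include hR hpv hp0 in
theorem isDiscreteValuationRing_of_good : IsDiscreteValuationRing ↥R := by
  refine IsDiscreteValuationRing.ofHasUnitMulPowIrreducibleFactorization
    ⟨unif hR, irreducible_unif hR hpv hp0, fun {x} hx => ?_⟩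
  obtain ⟨n, w, hw⟩ := exists_eq_pow_mul_of_good hR hpv hp0 x hx
  exact ⟨n, w, hw.symm⟩

end conclude

section ext

variable (O) in
/-- the localization of `R[t]` at the elements of valuation one, inside `𝕂` -/
def ext (R : Subring 𝕂) (t : 𝕂) : Subring 𝕂 where
  carrier := {y | ∃ g h : (↥R)[X], O.valuation (h.eval₂ R.subtype t) = 1 ∧
    y * h.eval₂ R.subtype t = g.eval₂ R.subtype t}
  mul_mem' := by
    rintro y₁ y₂ ⟨g₁, h₁, hv₁, e₁⟩ ⟨g₂, h₂, hv₂, e₂⟩
    refine ⟨g₁ * g₂, h₁ * h₂, ?_, ?_⟩
    · rw [eval₂_mul, map_mul, hv₁, hv₂, one_mul]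
    · rw [eval₂_mul, eval₂_mul, ← e₁, ← e₂]; ring
  one_mem' := ⟨1, 1, by simp, by simp⟩
  add_mem' := by
    rintro y₁ y₂ ⟨g₁, h₁, hv₁, e₁⟩ ⟨g₂, h₂, hv₂, e₂⟩
    refine ⟨g₁ * h₂ + g₂ * h₁, h₁ * h₂, ?_, ?_⟩
    · rw [eval₂_mul, map_mul, hv₁, hv₂, one_mul]
    · rw [eval₂_mul, eval₂_add, eval₂_mul, eval₂_mul, ← e₁, ← e₂]; ring
  zero_mem' := ⟨0, 1, by simp, by simp⟩
  neg_mem' := by
    rintro y ⟨g, h, hv, e⟩
    exact ⟨-g, h, hv, by rw [eval₂_neg, ← e]; ring⟩

theorem mem_ext {R : Subring 𝕂} {t y : 𝕂} : y ∈ ext O R t ↔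
    ∃ g h : (↥R)[X], O.valuation (h.eval₂ R.subtype t) = 1 ∧
      y * h.eval₂ R.subtype t = g.eval₂ R.subtype t := Iff.rfl

theorem le_ext (R : Subring 𝕂) (t : 𝕂) : R ≤ ext O R t := fun r hr =>
  ⟨C ⟨r, hr⟩, 1, by simp, by simp⟩

theorem self_mem_ext (R : Subring 𝕂) (t : 𝕂) : t ∈ ext O R t :=
  ⟨X, 1, by simp, by simp⟩

variable {R : Subring 𝕂} (hR : Good O ι ϖ R) (hp0 : ϖ ≠ 0)
  {t : 𝕂} (ht : t ∈ O) (htι : residue O ⟨t, ht⟩ ∈ ι.fieldRange)
  (hK : ∀ g : (↥R)[X], g.eval₂ R.subtype t ≠ 0 → ∃ (n : ℕ) (g₀ : (↥R)[X]),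
    O.valuation (g₀.eval₂ R.subtype t) = 1 ∧
      g.eval₂ R.subtype t = ϖ ^ n * g₀.eval₂ R.subtype t)

include hR ht in
theorem ext_le : ext O R t ≤ O.toSubring := by
  rintro y ⟨g, h, hv, e⟩
  rw [ValuationSubring.mem_toSubring, ← O.valuation_le_one_iff]
  have h1 : O.valuation y = O.valuation (g.eval₂ R.subtype t) := by
    rw [← e, map_mul, hv, mul_one]
  rw [h1]
  exact valuation_le_one_of_mem (eval₂_mem hR.le g ht)

include hR hp0 ht htι hK in
theorem good_ext : Good O ι ϖ (ext O R t) := by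
  have hvp : O.valuation ϖ ≠ 0 := (Valuation.ne_zero_iff _).2 hp0
  refine ⟨ext_le hR ht, le_ext R t hR.mem, ?_, ?_, ?_, ?_⟩
  · rintro y ⟨g, h, hv, e⟩ hy
    have hy0 : y ≠ 0 := by
      intro h0
      rw [h0, map_zero] at hy
      exact zero_ne_one hy
    have hvg : O.valuation (g.eval₂ R.subtype t) = 1 := by
      rw [← e, map_mul, hv, hy, mul_one]
    refine ⟨h, g, hvg, ?_⟩
    rw [← e, ← mul_assoc, inv_mul_cancel₀ hy0, one_mul]
  · rintro y ⟨g, h, hv, e⟩ hy
    have hh0 : h.eval₂ R.subtype t ≠ 0 := by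
      intro h0
      rw [h0, map_zero] at hv
      exact zero_ne_one hv
    by_cases hg0 : g.eval₂ R.subtype t = 0
    · have hy0 : y = 0 := by
        rw [hg0] at e
        exact (mul_eq_zero.1 e).resolve_right hh0
      rw [hy0, zero_mul]
      exact (ext O R t).zero_mem
    · obtain ⟨n, g₀, hv₀, e₀⟩ := hK g hg0
      have hvy : O.valuation y = O.valuation ϖ ^ n := by
        have : O.valuation y = O.valuation (g.eval₂ R.subtype t) := by
          rw [← e, map_mul, hv, mul_one]
        rw [this, e₀, map_mul, map_pow, hv₀, mul_one]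
      have hn : n ≠ 0 := by
        intro h0
        rw [hvy, h0, pow_zero] at hy
        exact lt_irrefl _ hy
      obtain ⟨m, rfl⟩ := Nat.exists_eq_succ_of_ne_zero hn
      refine ⟨C (unif hR ^ m) * g₀, h, hv, ?_⟩
      rw [eval₂_mul, eval₂_C, map_pow, Subring.coe_subtype, coe_unif, mul_right_comm, e, e₀,
        pow_succ]
      field_simp
  · rintro y ⟨g, h, hv, e⟩ hy0
    have hh0 : h.eval₂ R.subtype t ≠ 0 := by
      intro h0
      rw [h0, map_zero] at hv
      exact zero_ne_one hv
    have hg0 : g.eval₂ R.subtype t ≠ 0 := by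
      rw [← e]
      exact mul_ne_zero hy0 hh0
    obtain ⟨n, g₀, hv₀, e₀⟩ := hK g hg0
    refine ⟨n, ?_⟩
    have : O.valuation y = O.valuation (g.eval₂ R.subtype t) := by
      rw [← e, map_mul, hv, mul_one]
    rw [this, e₀, map_mul, map_pow, hv₀, mul_one]
  · rintro ⟨y, g, h, hv, e⟩
    have hgm := eval₂_mem hR.le g ht
    have hhm := eval₂_mem hR.le h ht
    have hym : y ∈ O := ext_le hR ht ⟨g, h, hv, e⟩
    have hmul : residue O ⟨y, hym⟩ * residue O ⟨h.eval₂ R.subtype t, hhm⟩ =
        residue O ⟨g.eval₂ R.subtype t, hgm⟩ := by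
      rw [← map_mul]
      congr 1
      exact Subtype.ext e
    have hne : residue O ⟨h.eval₂ R.subtype t, hhm⟩ ≠ 0 := by
      rw [Ne, residue_eq_zero_iff_valuation_lt, hv]
      exact lt_irrefl _
    have hmem : ∀ f : (↥R)[X], f.eval₂ (resOn O hR.le) (residue O ⟨t, ht⟩) ∈ ι.fieldRange := by
      intro f
      rw [eval₂_eq_sum_range]
      exact Subfield.sum_mem _ fun i _ =>
        Subfield.mul_mem _ (hR.res _) (Subfield.pow_mem _ htι i)
    change residue O ⟨y, hym⟩ ∈ ι.fieldRange
    rw [eq_div_of_mul_eq hne hmul, residue_eval₂ hR.le g ht, residue_eval₂ hR.le h ht]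
    exact Subfield.div_mem _ (hmem g) (hmem h)

end ext

section step

variable {R : Subring 𝕂} (hR : Good O ι ϖ R) (hpv : O.valuation ϖ < 1) (hp0 : ϖ ≠ 0)

include hR hp0 in
/-- the common tail of the two extension steps -/
theorem exists_good_lt_of_key {t : 𝕂} (ht : t ∈ O) (htι : residue O ⟨t, ht⟩ ∈ ι.fieldRange)
    (hx : residue O ⟨t, ht⟩ ∉ Set.range (resOn O hR.le))
    (hK : ∀ g : (↥R)[X], g.eval₂ R.subtype t ≠ 0 → ∃ (n : ℕ) (g₀ : (↥R)[X]),
      O.valuation (g₀.eval₂ R.subtype t) = 1 ∧
        g.eval₂ R.subtype t = ϖ ^ n * g₀.eval₂ R.subtype t) :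
    ∃ R' : Subring 𝕂, Good O ι ϖ R' ∧ R < R' := by
  refine ⟨ext O R t, good_ext hR hp0 ht htι hK, lt_of_le_of_ne (le_ext R t) fun heq => hx ?_⟩
  have htR : t ∈ R := by rw [heq]; exact self_mem_ext R t
  exact ⟨⟨t, htR⟩, rfl⟩

/-- valuation of a product of elements of the valuation ring -/
theorem exists_valuation_lt_of_prod (s : Multiset 𝕂) (hs : ∀ a ∈ s, a ∈ O)
    (h : O.valuation s.prod < 1) : ∃ a ∈ s, O.valuation a < 1 := by
  induction s using Multiset.induction_on with
  | empty =>
    rw [Multiset.prod_zero, map_one] at h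
    exact (lt_irrefl _ h).elim
  | cons a s ih =>
    rw [Multiset.prod_cons, map_mul] at h
    rcases lt_or_eq_of_le (valuation_le_one_of_mem (hs a (Multiset.mem_cons_self a s))) with h1 | h1
    · exact ⟨a, Multiset.mem_cons_self a s, h1⟩
    · rw [h1, one_mul] at h
      obtain ⟨b, hb, hvb⟩ := ih (fun b hb => hs b (Multiset.mem_cons_of_mem hb)) h
      exact ⟨b, Multiset.mem_cons_of_mem hb, hvb⟩

/-- Over an integrally closed domain, an irreducible monic polynomial `F` such that `F + ϖ X` is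
also irreducible can be made separable over the fraction field by possibly adding `ϖ X`. -/
theorem separable_or_separable_add {A : Type*} [CommRing A] [IsDomain A] [IsIntegrallyClosed A]
    (K : Type*) [Field K] [Algebra A K] [IsFractionRing A K] (F : A[X]) (hF : F.Monic) (a : A)
    (ha : a ≠ 0) (h1 : Irreducible F)
    (h2 : (F + C a * X).Monic → (F + C a * X).natDegree = F.natDegree →
      Irreducible (F + C a * X)) :
    (F.map (algebraMap A K)).Separable ∨
      ((F + C a * X).Monic ∧ (F + C a * X).natDegree = F.natDegree ∧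
        ((F + C a * X).map (algebraMap A K)).Separable) := by
  have hinj : Function.Injective (algebraMap A K) := IsFractionRing.injective A K
  by_cases hd : derivative F = 0
  · right
    have hdeg : 2 ≤ F.natDegree := by
      by_contra hlt
      push Not at hlt
      have h01 : F.natDegree = 0 ∨ F.natDegree = 1 := by omega
      rcases h01 with h0 | h1'
      · have : F = 1 := by
          rw [eq_C_of_natDegree_eq_zero h0] at hF ⊢
          have := hF.leadingCoeff
          rw [leadingCoeff_C] at this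
          rw [this, C_1]
        exact h1.not_isUnit (this ▸ isUnit_one)
      · have := congrArg (fun q => coeff q 0) hd
        simp only [coeff_derivative, coeff_zero] at this
        have hc : F.coeff 1 = 1 := by
          have := hF.coeff_natDegree
          rwa [h1'] at this
        rw [hc] at this
        norm_num at this
    have hlt : (C a * X : A[X]).degree < F.degree := by
      calc (C a * X : A[X]).degree ≤ 1 := by
            rw [degree_C_mul_X ha]
        _ < F.degree := by
            rw [degree_eq_natDegree hF.ne_zero]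
            exact_mod_cast hdeg
    have hmon : (F + C a * X).Monic := hF.add_of_left hlt
    have hnd : (F + C a * X).natDegree = F.natDegree :=
      natDegree_add_eq_left_of_degree_lt hlt
    refine ⟨hmon, hnd, ?_⟩
    have hirr : Irreducible ((F + C a * X).map (algebraMap A K)) :=
      (Monic.irreducible_iff_irreducible_map_fraction_map hmon).1 (h2 hmon hnd)
    rw [separable_iff_derivative_ne_zero hirr, derivative_map, derivative_add, hd, zero_add,
      derivative_C_mul, derivative_X, mul_one, Polynomial.map_C]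
    intro h0
    rw [C_eq_zero] at h0
    exact ha (hinj (by rw [h0, map_zero]))
  · left
    have hirr : Irreducible (F.map (algebraMap A K)) :=
      (Monic.irreducible_iff_irreducible_map_fraction_map hF).1 h1
    rw [separable_iff_derivative_ne_zero hirr, derivative_map]
    intro h0
    apply hd
    apply Polynomial.map_injective _ hinj
    rw [h0, Polynomial.map_zero]

include hR hpv hp0 in
/-- an element of `ι(k)` outside the residue field of `R` gives a strictly larger good subring -/
theorem exists_good_lt [IsSepClosed 𝕂] (x : ResidueField O) (hxι : x ∈ ι.fieldRange)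
    (hx : x ∉ Set.range (resOn O hR.le)) : ∃ R' : Subring 𝕂, Good O ι ϖ R' ∧ R < R' := by
  classical
  obtain ⟨t₀, ht₀⟩ := residue_surjective x
  by_cases hT : ∀ g : (↥R)[X], g.map (resOn O hR.le) ≠ 0 → g.eval₂ (resOn O hR.le) x ≠ 0
  · -- transcendental step
    have ht : (t₀ : 𝕂) ∈ O := t₀.2
    have hres : residue O ⟨(t₀ : 𝕂), ht⟩ = x := ht₀
    refine exists_good_lt_of_key hR hp0 ht (by rw [hres]; exact hxι) (by rw [hres]; exact hx) ?_
    intro g hg
    have hg0 : g ≠ 0 := by
      intro h0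
      rw [h0, eval₂_zero] at hg
      exact hg rfl
    obtain ⟨n, g₀, e, hg₀⟩ := exists_eq_C_pow_mul hR hp0 g hg0
    refine ⟨n, g₀, ?_, ?_⟩
    · refine valuation_eq_one_of_residue_ne_zero _ (eval₂_mem hR.le g₀ ht) ?_
      rw [residue_eval₂ hR.le g₀ ht, hres]
      exact hT g₀ hg₀
    · rw [e, eval₂_mul, eval₂_C, map_pow, Subring.coe_subtype, coe_unif]
  · -- algebraic step
    have hex : ∃ d : ℕ, ∃ g : (↥R)[X], g.natDegree = d ∧ g.map (resOn O hR.le) ≠ 0 ∧
        g.eval₂ (resOn O hR.le) x = 0 := by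
      by_contra hcon
      apply hT
      intro g hg h0
      exact hcon ⟨g.natDegree, g, rfl, hg, h0⟩
    obtain ⟨g, hgd, hg, hgx⟩ := Nat.find_spec hex
    have hmin : ∀ h : (↥R)[X], h.map (resOn O hR.le) ≠ 0 → h.eval₂ (resOn O hR.le) x = 0 →
        g.natDegree ≤ h.natDegree := by
      intro h hh hhx
      rw [hgd]
      exact Nat.find_min' hex ⟨h, rfl, hh, hhx⟩
    -- the leading coefficient is a unit
    have hlc : resOn O hR.le g.leadingCoeff ≠ 0 := by
      intro h0
      have h1 := eraseLead_add_C_mul_X_pow g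
      have hmap : g.eraseLead.map (resOn O hR.le) = g.map (resOn O hR.le) := by
        conv_rhs => rw [← h1]
        rw [Polynomial.map_add, Polynomial.map_mul, map_C, h0, C_0, zero_mul, add_zero]
      have hev : g.eraseLead.eval₂ (resOn O hR.le) x = 0 := by
        rw [← hgx]
        conv_rhs => rw [← h1]
        rw [eval₂_add, eval₂_mul, eval₂_C, h0, zero_mul, add_zero]
      have h2 := hmin g.eraseLead (by rw [hmap]; exact hg) hev
      rcases eraseLead_natDegree_lt_or_eraseLead_eq_zero g with h3 | h3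
      · omega
      · rw [h3, Polynomial.map_zero] at hmap
        exact hg hmap.symm
    have hvlc : O.valuation ((g.leadingCoeff : ↥R) : 𝕂) = 1 :=
      valuation_eq_one_of_residue_ne_zero _ (hR.le g.leadingCoeff.2) hlc
    have hlc0 : ((g.leadingCoeff : ↥R) : 𝕂) ≠ 0 := by
      intro h0
      rw [h0, map_zero] at hvlc
      exact zero_ne_one hvlc
    let c : ↥R := ⟨((g.leadingCoeff : ↥R) : 𝕂)⁻¹, hR.inv_mem _ g.leadingCoeff.2 hvlc⟩
    have hc : c * g.leadingCoeff = 1 := Subtype.ext (inv_mul_cancel₀ hlc0)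
    have hc0 : c ≠ 0 := by
      intro h0
      rw [h0, zero_mul] at hc
      exact zero_ne_one hc
    set F₀ : (↥R)[X] := C c * g with hF₀
    have hF₀m : F₀.Monic := monic_C_mul_of_mul_leadingCoeff_eq_one hc
    have hF₀d : F₀.natDegree = g.natDegree := natDegree_C_mul hc0
    have hF₀x : F₀.eval₂ (resOn O hR.le) x = 0 := by
      rw [hF₀, eval₂_mul, hgx, mul_zero]
    -- monic polynomials of minimal degree killing `x` are irreducible
    have hirr : ∀ G : (↥R)[X], G.Monic → G.natDegree = g.natDegree →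
        G.eval₂ (resOn O hR.le) x = 0 → Irreducible G := by
      intro G hGm hGd hGx
      rw [hGm.irreducible_iff_natDegree]
      refine ⟨?_, ?_⟩
      · rintro rfl
        rw [eval₂_one] at hGx
        exact one_ne_zero hGx
      · intro a b ha hb hab
        have hab' : a.eval₂ (resOn O hR.le) x * b.eval₂ (resOn O hR.le) x = 0 := by
          rw [← eval₂_mul, hab, hGx]
        have hdeg : a.natDegree + b.natDegree = g.natDegree := by
          rw [← hGd, ← hab, ha.natDegree_mul hb]
        rcases mul_eq_zero.1 hab' with h | h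
        · right
          have := hmin a (ha.map _).ne_zero h
          omega
        · left
          have := hmin b (hb.map _).ne_zero h
          omega
    -- make it separable
    have hu0 : unif hR ≠ 0 := fun h => hp0 (congrArg Subtype.val h)
    have hresϖ : resOn O hR.le (unif hR) = 0 := (resOn_eq_zero_iff hR _).2 hpv
    obtain ⟨F, hFm, hFd, hFx, hFsep⟩ : ∃ G : (↥R)[X], G.Monic ∧ G.natDegree = g.natDegree ∧
        G.eval₂ (resOn O hR.le) x = 0 ∧ (G.map R.subtype).Separable := by
      haveI := isDiscreteValuationRing_of_good hR hpv hp0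
      have hF₂x : (F₀ + C (unif hR) * X).eval₂ (resOn O hR.le) x = 0 := by
        rw [eval₂_add, hF₀x, eval₂_mul, eval₂_C, hresϖ, zero_mul, add_zero]
      let j : FractionRing ↥R →+* 𝕂 :=
        IsFractionRing.lift (g := R.subtype) Subtype.val_injective
      have hj : j.comp (algebraMap ↥R (FractionRing ↥R)) = R.subtype :=
        IsLocalization.lift_comp _
      have tr : ∀ G : (↥R)[X], (G.map (algebraMap ↥R (FractionRing ↥R))).Separable →
          (G.map R.subtype).Separable := by
        intro G hG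
        have := hG.map (f := j)
        rwa [Polynomial.map_map, hj] at this
      rcases separable_or_separable_add (FractionRing ↥R) F₀ hF₀m (unif hR) hu0
        (hirr F₀ hF₀m hF₀d hF₀x) (fun h1 h2 => hirr _ h1 (h2.trans hF₀d) hF₂x) with h | ⟨h1, h2, h3⟩
      · exact ⟨F₀, hF₀m, hF₀d, hF₀x, tr F₀ h⟩
      · exact ⟨_, h1, h2.trans hF₀d, hF₂x, tr _ h3⟩
    have hF1 : F ≠ 1 := by
      intro h1
      rw [h1, eval₂_one] at hFx
      exact one_ne_zero hFx
    -- a root of `F` lifting `x`
    have hsplit : (F.map R.subtype).Splits := IsSepClosed.splits_of_separable _ hFsep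
    have hFKm : (F.map R.subtype).Monic := hFm.map _
    have hev0 : O.valuation ((F.map R.subtype).eval (t₀ : 𝕂)) < 1 := by
      rw [eval_map, ← residue_eq_zero_iff_valuation_lt _ (eval₂_mem hR.le F t₀.2),
        residue_eval₂ hR.le F t₀.2]
      have : residue O ⟨(t₀ : 𝕂), t₀.2⟩ = x := ht₀
      rw [this, hFx]
    have hroots : ∀ r ∈ (F.map R.subtype).roots, r ∈ O := by
      intro r hr
      have hr0 : (F.map R.subtype).eval r = 0 := (mem_roots hFKm.ne_zero).1 hr
      have hint : IsIntegral O r := by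
        refine ⟨F.map ({ toFun := fun x => ⟨x.1, hR.le x.2⟩
                         map_one' := rfl
                         map_mul' := fun _ _ => rfl
                         map_zero' := rfl
                         map_add' := fun _ _ => rfl } : ↥R →+* O), hFm.map _, ?_⟩
        rw [eval₂_map]
        rw [eval_map] at hr0
        exact hr0
      obtain ⟨y, hy⟩ := IsIntegrallyClosed.isIntegral_iff.1 hint
      rw [← hy]
      exact y.2
    rw [hsplit.eval_eq_prod_roots_of_monic hFKm] at hev0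
    obtain ⟨a, ha, hva⟩ := exists_valuation_lt_of_prod _ (by
      intro a ha
      obtain ⟨r, hr, rfl⟩ := Multiset.mem_map.1 ha
      exact O.toSubring.sub_mem t₀.2 (hroots r hr)) hev0
    obtain ⟨t, htr, rfl⟩ := Multiset.mem_map.1 ha
    have ht : t ∈ O := hroots t htr
    have hres : residue O ⟨t, ht⟩ = x := by
      have h1 : residue O (t₀ - ⟨t, ht⟩) = 0 :=
        (residue_eq_zero_iff_valuation_lt _ (O.toSubring.sub_mem t₀.2 ht)).2 hva
      rw [map_sub, sub_eq_zero] at h1
      rw [← h1]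
      exact ht₀
    have hroot : F.eval₂ R.subtype t = 0 := by
      have := (mem_roots hFKm.ne_zero).1 htr
      rw [IsRoot.def, eval_map] at this
      exact this
    refine exists_good_lt_of_key hR hp0 ht (by rw [hres]; exact hxι) (by rw [hres]; exact hx) ?_
    intro f hf
    have hrem : (f %ₘ F).eval₂ R.subtype t = f.eval₂ R.subtype t :=
      eval₂_modByMonic_eq_self_of_root hroot
    have hrem0 : f %ₘ F ≠ 0 := by
      intro h0
      rw [h0, eval₂_zero] at hrem
      exact hf hrem.symm
    have hdeg : (f %ₘ F).natDegree < g.natDegree := by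
      rw [← hFd]
      exact natDegree_modByMonic_lt f hFm hF1
    obtain ⟨n, r₀, e, hr₀⟩ := exists_eq_C_pow_mul hR hp0 (f %ₘ F) hrem0
    have hpR : (unif hR ^ n) ≠ 0 := pow_ne_zero n hu0
    have hdeg₀ : r₀.natDegree < g.natDegree := by
      have : (f %ₘ F).natDegree = r₀.natDegree := by
        conv_lhs => rw [e]
        exact natDegree_C_mul hpR
      omega
    refine ⟨n, r₀, ?_, ?_⟩
    · refine valuation_eq_one_of_residue_ne_zero _ (eval₂_mem hR.le r₀ ht) ?_
      rw [residue_eval₂ hR.le r₀ ht, hres]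
      intro h0
      have := hmin r₀ hr₀ h0
      omega
    · rw [← hrem]
      conv_lhs => rw [e]
      rw [eval₂_mul, eval₂_C, map_pow, Subring.coe_subtype, coe_unif]

end step

section zorn

variable (hpv : O.valuation ϖ < 1) (hp0 : ϖ ≠ 0) {R₀ : Subring 𝕂} (h₀ : Good O ι ϖ R₀)

include h₀ in
theorem exists_maximal_good :
    ∃ R : Subring 𝕂, R₀ ≤ R ∧ Maximal (fun R => Good O ι ϖ R) R := by
  refine zorn_le_nonempty₀ {R | Good O ι ϖ R} (fun c hc hchain y hy => ?_) R₀ h₀
  have hne : c.Nonempty := ⟨y, hy⟩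
  have hdir : DirectedOn (· ≤ ·) c := hchain.directedOn
  have hmem : ∀ {x : 𝕂}, x ∈ sSup c ↔ ∃ s ∈ c, x ∈ s := Subring.mem_sSup_of_directedOn hne hdir
  have hle : sSup c ≤ O.toSubring := by
    intro x hx
    obtain ⟨s, hs, hxs⟩ := hmem.1 hx
    exact (hc hs).le hxs
  refine ⟨sSup c, ⟨hle, hmem.2 ⟨y, hy, (hc hy).mem⟩, ?_, ?_, ?_, ?_⟩, fun z hz => le_sSup hz⟩
  · intro x hx hv
    obtain ⟨s, hs, hxs⟩ := hmem.1 hx
    exact hmem.2 ⟨s, hs, (hc hs).inv_mem x hxs hv⟩
  · intro x hx hv
    obtain ⟨s, hs, hxs⟩ := hmem.1 hx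
    exact hmem.2 ⟨s, hs, (hc hs).div_mem x hxs hv⟩
  · intro x hx hx0
    obtain ⟨s, hs, hxs⟩ := hmem.1 hx
    exact (hc hs).val x hxs hx0
  · rintro ⟨x, hx⟩
    obtain ⟨s, hs, hxs⟩ := hmem.1 hx
    exact (hc hs).res ⟨x, hxs⟩

include hpv hp0 h₀ in
/-- there is a good subring containing `R₀` whose residue field is all of `ι(k)` -/
theorem exists_good_residue_surjective [IsSepClosed 𝕂] :
    ∃ (R : Subring 𝕂) (hR : Good O ι ϖ R), R₀ ≤ R ∧
      ∀ a : k, ι a ∈ Set.range (resOn O hR.le) := by
  obtain ⟨R, hle, hR, hmax⟩ := exists_maximal_good h₀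
  refine ⟨R, hR, hle, fun a => ?_⟩
  by_contra hx
  obtain ⟨R', hR', hlt⟩ := exists_good_lt hR hpv hp0 (ι a) ⟨a, rfl⟩ hx
  exact (lt_irrefl R) (lt_of_lt_of_le hlt (hmax hR' hlt.le))

end zorn

section resfield

variable {R : Subring 𝕂} (hR : Good O ι ϖ R)

include hR in
/-- the residue field of a good subring with full residue image is `k` -/
theorem exists_residueField_equiv (hsurj : ∀ a : k, ι a ∈ Set.range (resOn O hR.le)) :
    haveI := isLocalRing_of_good hR
    ∃ e : ResidueField ↥R ≃+* k, ∀ x : ↥R, ι (e (residue ↥R x)) = resOn O hR.le x := by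
  haveI := isLocalRing_of_good hR
  let e : k ≃+* ι.fieldRange := RingEquiv.ofBijective _ ι.rangeRestrictField_bijective
  let ψ : ↥R →+* k := e.symm.toRingHom.comp ((resOn O hR.le).codRestrict ι.fieldRange hR.res)
  have hψ : ∀ x : ↥R, ι (ψ x) = resOn O hR.le x := by
    intro x
    have h1 : e (ψ x) = (resOn O hR.le).codRestrict ι.fieldRange hR.res x :=
      e.apply_symm_apply _
    exact congrArg Subtype.val h1
  have hψsurj : Function.Surjective ψ := by
    intro a
    obtain ⟨x, hx⟩ := hsurj a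
    refine ⟨x, ι.injective ?_⟩
    rw [hψ, hx]
  have hker : RingHom.ker ψ = maximalIdeal ↥R := by
    ext x
    rw [RingHom.mem_ker, mem_maximalIdeal, mem_nonunits_iff, isUnit_iff_of_good hR]
    rw [← map_eq_zero_iff ι ι.injective, hψ, resOn_eq_zero_iff hR]
    constructor
    · exact fun h => h.ne
    · exact fun h => lt_of_le_of_ne (valuation_le_one_of_good hR x) h
  refine ⟨(Ideal.quotEquivOfEq hker.symm).trans (RingHom.quotientKerEquivOfSurjective hψsurj),
    fun x => ?_⟩
  rw [← hψ x]
  congr 1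

end resfield

section algclosed

/-- the residue field of a valuation ring of a separably closed field is algebraically closed
(given a nonzero element of the maximal ideal) -/
theorem isAlgClosed_residueField [IsSepClosed 𝕂] (O : ValuationSubring 𝕂) (ϖ : 𝕂)
    (hpv : O.valuation ϖ < 1) (hp0 : ϖ ≠ 0) : IsAlgClosed (ResidueField O) := by
  apply IsAlgClosed.of_exists_root
  intro f hfm hfirr
  have hϖO : ϖ ∈ O := (O.valuation_le_one_iff ϖ).1 hpv.le
  let a : O := ⟨ϖ, hϖO⟩
  have ha0 : a ≠ 0 := fun h => hp0 (congrArg Subtype.val h)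
  have hares : residue O a = 0 := (residue_eq_zero_iff_valuation_lt ϖ hϖO).2 hpv
  obtain ⟨F₀, hF₀map⟩ := Polynomial.map_surjective (residue O) residue_surjective f
  obtain ⟨F, hFmap, hFdeg, hFm⟩ :=
    Polynomial.lifts_and_natDegree_eq_and_monic ((mem_lifts f).2 ⟨F₀, hF₀map⟩) hfm
  have hirr : ∀ G : (↥O)[X], G.Monic → G.map (residue O) = f → Irreducible G := fun G hG hGf =>
    Polynomial.Monic.irreducible_of_irreducible_map (residue O) G hG (hGf ▸ hfirr)
  have hF₂ : (F + C a * X).map (residue O) = f := by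
    rw [Polynomial.map_add, hFmap, Polynomial.map_mul, map_C, hares, C_0, zero_mul, add_zero]
  obtain ⟨G, hGm, hGf, hGsep⟩ : ∃ G : (↥O)[X], G.Monic ∧ G.map (residue O) = f ∧
      (G.map (algebraMap O 𝕂)).Separable := by
    rcases separable_or_separable_add 𝕂 F hFm a ha0 (hirr F hFm hFmap)
      (fun h1 _ => hirr _ h1 hF₂) with h | ⟨h1, -, h3⟩
    · exact ⟨F, hFm, hFmap, h⟩
    · exact ⟨_, h1, hF₂, h3⟩
  have hdeg : (G.map (algebraMap O 𝕂)).degree ≠ 0 := by
    rw [degree_map_eq_of_injective (IsFractionRing.injective O 𝕂)]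
    intro h0
    have h1 : G.natDegree = 0 := natDegree_eq_zero_iff_degree_le_zero.2 h0.le
    have h2 : G = 1 := by
      rw [eq_C_of_natDegree_eq_zero h1] at hGm ⊢
      have := hGm.leadingCoeff
      rw [leadingCoeff_C] at this
      rw [this, C_1]
    rw [h2, Polynomial.map_one] at hGf
    exact hfirr.not_isUnit (hGf ▸ isUnit_one)
  obtain ⟨t, ht⟩ := IsSepClosed.exists_root _ hdeg hGsep
  have hint : IsIntegral O t := ⟨G, hGm, by rwa [IsRoot.def, eval_map] at ht⟩
  obtain ⟨y, rfl⟩ := IsIntegrallyClosed.isIntegral_iff.1 hint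
  refine ⟨residue O y, ?_⟩
  have h0 : G.eval y = 0 := by
    apply IsFractionRing.injective O 𝕂
    rw [map_zero, ← eval₂_at_apply, ← eval_map]
    exact ht
  rw [← hGf, eval_map, eval₂_at_apply, h0, map_zero]

end algclosed

end Groth.Agent.R2.H34.UnramExt
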