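import Mathlib
import Groth.Agent.S7898
import Groth.Agent.Lib.Helper19CohenExistA
import Groth.Agent.Lib.Helper19ComplDVR

/-!
helper19: algebra for the DVR lifting criterion (EGA IV 14.5.8), direction (⇐):
every DVR `A₁` with a field extension `K` of its residue field is dominated by a complete DVR `A`
with algebraically closed residue field containing `K`.

* `exists_gauss`: the Gauss extension `A₁[Xᵢ]_(ϖ)`.
* `exists_complete_algClosed`: unramified extension with algebraically closed residue field
  (S7898) followed by completion.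
* `exists_complete_dvr_ext`: the combination.
-/

set_option autoImplicit false
set_option linter.style.haveILetI false
universe u
open IsLocalRing

namespace Groth.Agent.R2.H19.DvrLiftC

open Groth.Agent.Lib.Helper19

/-- **Gauss extension** of a DVR. -/
theorem exists_gauss (A₁ : Type u) [CommRing A₁] [IsDomain A₁] [IsDiscreteValuationRing A₁]
    (ι : Type u) :
    ∃ (A₂ : Type u) (_ : CommRing A₂) (_ : IsDomain A₂) (_ : IsDiscreteValuationRing A₂)
      (j : A₁ →+* A₂) (γ : MvPolynomial ι (A₁ ⧸ maximalIdeal A₁) →+* ResidueField A₂),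
      Function.Injective j ∧ IsLocalHom j ∧ Function.Injective γ ∧
        ∀ a : A₁, γ (MvPolynomial.C (Ideal.Quotient.mk _ a)) = residue A₂ (j a) := by
  classical
  obtain ⟨ϖ, hϖ⟩ := IsDiscreteValuationRing.exists_irreducible A₁
  have hϖ0 : ϖ ≠ 0 := hϖ.ne_zero
  have hmaxA : maximalIdeal A₁ = Ideal.span {ϖ} := hϖ.maximalIdeal_eq
  obtain ⟨p, hpdef⟩ : ∃ p : Ideal (MvPolynomial ι A₁),
      p = Ideal.map MvPolynomial.C (maximalIdeal A₁) := ⟨_, rfl⟩
  let e := MvPolynomial.quotientEquivQuotientMvPolynomial (σ := ι) (maximalIdeal A₁)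
  haveI hp : p.IsPrime := by
    rw [hpdef]
    haveI : IsDomain (MvPolynomial ι A₁ ⧸ Ideal.map MvPolynomial.C (maximalIdeal A₁)) :=
      MulEquiv.isDomain (MvPolynomial ι (A₁ ⧸ maximalIdeal A₁)) e.symm.toMulEquiv
    exact (Ideal.Quotient.isDomain_iff_prime _).mp this
  have hinj : Function.Injective (algebraMap (MvPolynomial ι A₁) (Localization.AtPrime p)) :=
    IsLocalization.injective _ p.primeCompl_le_nonZeroDivisors
  have hpspan : p = Ideal.span {(MvPolynomial.C ϖ : MvPolynomial ι A₁)} := by
    rw [hpdef, hmaxA, Ideal.map_span, Set.image_singleton]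
  have hC0 : (MvPolynomial.C ϖ : MvPolynomial ι A₁) ≠ 0 := by
    rw [Ne, MvPolynomial.C_eq_zero]; exact hϖ0
  have hprime : Prime (MvPolynomial.C ϖ : MvPolynomial ι A₁) :=
    (Ideal.span_singleton_prime hC0).mp (hpspan ▸ hp)
  have hmax₂ : maximalIdeal (Localization.AtPrime p) =
      Ideal.span {algebraMap (MvPolynomial ι A₁) (Localization.AtPrime p) (MvPolynomial.C ϖ)} := by
    rw [← Localization.AtPrime.map_eq_maximalIdeal]
    have h1 : Ideal.map (algebraMap (MvPolynomial ι A₁) (Localization.AtPrime p)) p =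
        Ideal.map (algebraMap (MvPolynomial ι A₁) (Localization.AtPrime p))
          (Ideal.span {(MvPolynomial.C ϖ : MvPolynomial ι A₁)}) := congrArg _ hpspan
    rw [h1, Ideal.map_span, Set.image_singleton]
  have hnil : ∀ n : ℕ,
      algebraMap (MvPolynomial ι A₁) (Localization.AtPrime p) (MvPolynomial.C ϖ) ^ n ≠ 0 := by
    intro n
    rw [← map_pow, Ne, ← map_zero (algebraMap (MvPolynomial ι A₁) (Localization.AtPrime p))]
    exact fun h => pow_ne_zero n hC0 (hinj h)
  have hsepA : ∀ a : A₁, (∀ n : ℕ, ϖ ^ n ∣ a) → a = 0 := by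
    intro a ha
    have h1 : a ∈ (⨅ n : ℕ, maximalIdeal A₁ ^ n : Ideal A₁) := by
      rw [Ideal.mem_iInf]
      intro n
      rw [hmaxA, Ideal.span_singleton_pow, Ideal.mem_span_singleton]
      exact ha n
    rw [Ideal.iInf_pow_eq_bot_of_isLocalRing _ (IsLocalRing.maximalIdeal.isMaximal A₁).ne_top] at h1
    exact h1
  have hsep : ∀ x : Localization.AtPrime p,
      (∀ n : ℕ, x ∈ maximalIdeal (Localization.AtPrime p) ^ n) → x = 0 := by
    intro x hx
    obtain ⟨f, s, rfl⟩ := IsLocalization.exists_mk'_eq p.primeCompl x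
    suffices hf : f = 0 by rw [hf, IsLocalization.mk'_zero]
    have hdiv : ∀ n : ℕ, (MvPolynomial.C ϖ : MvPolynomial ι A₁) ^ n ∣ f := by
      intro n
      have h1 := hx n
      rw [hmax₂, Ideal.span_singleton_pow, Ideal.mem_span_singleton] at h1
      obtain ⟨y, hy⟩ := h1
      obtain ⟨g, t, rfl⟩ := IsLocalization.exists_mk'_eq p.primeCompl y
      -- f * t = ϖ^n * g * s
      have h2 : algebraMap (MvPolynomial ι A₁) (Localization.AtPrime p) (f * (t : MvPolynomial ι A₁)) =
          algebraMap (MvPolynomial ι A₁) (Localization.AtPrime p)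
            ((MvPolynomial.C ϖ) ^ n * g * (s : MvPolynomial ι A₁)) := by
        have e1 := IsLocalization.mk'_spec (Localization.AtPrime p) f s
        have e2 := IsLocalization.mk'_spec (Localization.AtPrime p) g t
        rw [map_mul, map_mul, map_mul, map_pow, ← e1, hy, ← e2]
        ring
      have h3 := hinj h2
      have h4 : (MvPolynomial.C ϖ : MvPolynomial ι A₁) ^ n ∣ f * (t : MvPolynomial ι A₁) :=
        ⟨g * (s : MvPolynomial ι A₁), by rw [h3]; ring⟩
      refine hprime.pow_dvd_of_dvd_mul_right n ?_ h4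
      intro hdvd
      have h5 : (t : MvPolynomial ι A₁) ∈ Ideal.span {(MvPolynomial.C ϖ : MvPolynomial ι A₁)} :=
        Ideal.mem_span_singleton.mpr hdvd
      have h6 : (t : MvPolynomial ι A₁) ∈ p := hpspan ▸ h5
      exact t.2 h6
    ext m
    rw [MvPolynomial.coeff_zero]
    apply hsepA
    intro n
    obtain ⟨h, hh⟩ := hdiv n
    refine ⟨MvPolynomial.coeff m h, ?_⟩
    rw [hh, ← map_pow, MvPolynomial.coeff_C_mul]
  have hdom : IsDomain (Localization.AtPrime p) :=
    CohenExist.isDomain_of_principal _ hmax₂ hsep hnil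
  have hdvr : IsDiscreteValuationRing (Localization.AtPrime p) :=
    CohenExist.isDiscreteValuationRing_of_principal _ hmax₂ hsep hnil
  -- the maps
  let j : A₁ →+* Localization.AtPrime p :=
    (algebraMap (MvPolynomial ι A₁) (Localization.AtPrime p)).comp MvPolynomial.C
  have hj : Function.Injective j := hinj.comp (MvPolynomial.C_injective ι A₁)
  have hjloc : IsLocalHom j := by
    constructor
    intro a ha
    by_contra hna
    have ham : a ∈ maximalIdeal A₁ := hna
    have h1 : (MvPolynomial.C a : MvPolynomial ι A₁) ∈ p := by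
      rw [hpdef]; exact Ideal.mem_map_of_mem _ ham
    have h2 := (IsLocalization.AtPrime.isUnit_to_map_iff (Localization.AtPrime p) p
      (MvPolynomial.C a)).mp ha
    exact h2 h1
  let g₀ : MvPolynomial ι A₁ →+* ResidueField (Localization.AtPrime p) :=
    (residue (Localization.AtPrime p)).comp
      (algebraMap (MvPolynomial ι A₁) (Localization.AtPrime p))
  have hker : RingHom.ker g₀ = p := by
    ext f
    rw [RingHom.mem_ker, RingHom.comp_apply, residue_eq_zero_iff,
      IsLocalization.AtPrime.to_map_mem_maximal_iff (Localization.AtPrime p) p]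
  let g₁ : MvPolynomial ι A₁ ⧸ Ideal.map MvPolynomial.C (maximalIdeal A₁) →+*
      ResidueField (Localization.AtPrime p) :=
    Ideal.Quotient.lift _ g₀ (fun f hf => by
      rw [← hpdef, ← hker] at hf; exact hf)
  have hg₁ : Function.Injective g₁ := by
    rw [injective_iff_map_eq_zero]
    intro f hf
    obtain ⟨f, rfl⟩ := Ideal.Quotient.mk_surjective f
    have h0 : g₁ (Ideal.Quotient.mk _ f) = g₀ f := Ideal.Quotient.lift_mk _ _ _
    rw [h0, ← RingHom.mem_ker, hker, hpdef] at hf
    exact Ideal.Quotient.eq_zero_iff_mem.mpr hf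
  refine ⟨Localization.AtPrime p, inferInstance, hdom, hdvr, j, g₁.comp e.toRingEquiv.toRingHom,
    hj, hjloc, hg₁.comp e.injective, ?_⟩
  intro a
  have h1 : e (MvPolynomial.C (Ideal.Quotient.mk (maximalIdeal A₁) a)) =
      Ideal.Quotient.mk _ (MvPolynomial.C a) := e.commutes a
  show g₁ (e _) = _
  rw [h1]
  exact Ideal.Quotient.lift_mk _ _ _


/-- embedding of a field extension with a transcendence basis `x` into an algebraically closed
field receiving the polynomial ring on `x` injectively. -/
theorem exists_ringHom_of_transcendenceBasis {k K M : Type u} [Field k] [Field K] [Field M]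
    [IsAlgClosed M] [Algebra k K] {ι : Type u} (x : ι → K) (hx : IsTranscendenceBasis k x)
    (γ : MvPolynomial ι k →+* M) (hγ : Function.Injective γ) :
    ∃ ψ : K →+* M, ∀ c : k, ψ (algebraMap k K c) = γ (MvPolynomial.C c) := by
  let eq := hx.1.aevalEquiv
  letI algM : Algebra (Algebra.adjoin k (Set.range x)) M :=
    (γ.comp eq.symm.toRingEquiv.toRingHom).toAlgebra
  haveI : Algebra.IsAlgebraic (Algebra.adjoin k (Set.range x)) K := hx.isAlgebraic
  haveI : Module.IsTorsionFree (Algebra.adjoin k (Set.range x)) M :=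
    Module.isTorsionFree_iff_algebraMap_injective.mpr (hγ.comp eq.symm.injective)
  haveI : Module.IsTorsionFree (Algebra.adjoin k (Set.range x)) K :=
    Module.isTorsionFree_iff_algebraMap_injective.mpr Subtype.val_injective
  let ψ : K →ₐ[Algebra.adjoin k (Set.range x)] M := IsAlgClosed.lift
  refine ⟨ψ.toRingHom, fun c => ?_⟩
  have h1 : algebraMap k K c =
      algebraMap (Algebra.adjoin k (Set.range x)) K (algebraMap k _ c) := rfl
  rw [h1]
  have h2 : ψ.toRingHom (algebraMap (Algebra.adjoin k (Set.range x)) K (algebraMap k _ c)) =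
      algebraMap (Algebra.adjoin k (Set.range x)) M (algebraMap k _ c) := ψ.commutes _
  rw [h2]
  show γ (eq.symm (algebraMap k _ c)) = _
  rw [eq.symm.commutes]
  rfl

/-- a DVR is dominated by a complete DVR with algebraically closed residue field. -/
theorem exists_complete_algClosed (A₂ : Type u) [CommRing A₂] [IsDomain A₂]
    [IsDiscreteValuationRing A₂] :
    ∃ (A : Type u) (_ : CommRing A) (_ : IsDomain A) (_ : IsDiscreteValuationRing A)
      (_ : IsAdicComplete (maximalIdeal A) A) (_ : IsAlgClosed (ResidueField A)) (j : A₂ →+* A),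
      Function.Injective j ∧ IsLocalHom j := by
  obtain ⟨A₃, h1, h2, h3, φ, hφinj, hφloc, -, ⟨e, -⟩, -⟩ :=
    Groth.Agent.S7898.result A₂ (AlgebraicClosure (ResidueField A₂))
  haveI : IsNoetherianRing A₃ := inferInstance
  obtain ⟨hdomC, hdvrC⟩ := (isDiscreteValuationRing_iff_adicCompletion A₃).mp ⟨h2, h3⟩
  haveI : IsAlgClosed (ResidueField A₃) :=
    IsAlgClosed.of_ringEquiv (AlgebraicClosure (ResidueField A₂)) _ e.symm
  have hbij := AdicCompletion.residueField_map_bijective A₃
  have hac : IsAlgClosed (ResidueField (AdicCompletion (maximalIdeal A₃) A₃)) :=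
    IsAlgClosed.of_ringEquiv (ResidueField A₃) _ (RingEquiv.ofBijective _ hbij)
  have hinj : Function.Injective (algebraMap A₃ (AdicCompletion (maximalIdeal A₃) A₃)) :=
    fun a b hab => AdicCompletion.of_injective (maximalIdeal A₃) A₃ hab
  refine ⟨AdicCompletion (maximalIdeal A₃) A₃, inferInstance, hdomC, hdvrC, inferInstance, hac,
    (algebraMap A₃ (AdicCompletion (maximalIdeal A₃) A₃)).comp φ, hinj.comp hφinj, ?_⟩
  haveI := hφloc
  exact RingHom.isLocalHom_comp _ _

/-- **every DVR with a field extension of its residue field is dominated by a complete DVR with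
algebraically closed residue field containing that extension.** -/
theorem exists_complete_dvr_ext (A₁ : Type u) [CommRing A₁] [IsDomain A₁]
    [IsDiscreteValuationRing A₁] (K : Type u) [Field K] (θ : A₁ →+* K)
    (hθ : maximalIdeal A₁ ≤ RingHom.ker θ) :
    ∃ (A : Type u) (_ : CommRing A) (_ : IsDomain A) (_ : IsDiscreteValuationRing A)
      (_ : IsAdicComplete (maximalIdeal A) A) (_ : IsAlgClosed (ResidueField A))
      (j : A₁ →+* A) (ψ : K →+* ResidueField A),
      Function.Injective j ∧ IsLocalHom j ∧ ψ.comp θ = (residue A).comp j := by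
  letI : Field (A₁ ⧸ maximalIdeal A₁) := Ideal.Quotient.field _
  letI algK : Algebra (A₁ ⧸ maximalIdeal A₁) K :=
    (Ideal.Quotient.lift (maximalIdeal A₁) θ (fun a ha => RingHom.mem_ker.mp (hθ ha))).toAlgebra
  obtain ⟨ι, x, hx⟩ := exists_isTranscendenceBasis' (A₁ ⧸ maximalIdeal A₁) K
  obtain ⟨A₂, h1, h2, h3, j₁, γ, hj₁, hj₁loc, hγ, hγC⟩ := exists_gauss A₁ ι
  obtain ⟨A, g1, g2, g3, g4, g5, j₂, hj₂, hj₂loc⟩ := exists_complete_algClosed A₂
  haveI := hj₁loc
  haveI := hj₂loc
  obtain ⟨ψ, hψ⟩ := exists_ringHom_of_transcendenceBasis x hx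
    ((ResidueField.map j₂).comp γ) ((ResidueField.map j₂).injective.comp hγ)
  refine ⟨A, g1, g2, g3, g4, g5, j₂.comp j₁, ψ, hj₂.comp hj₁, RingHom.isLocalHom_comp _ _, ?_⟩
  ext a
  have h4 : θ a = algebraMap (A₁ ⧸ maximalIdeal A₁) K (Ideal.Quotient.mk _ a) := rfl
  rw [RingHom.comp_apply, h4, hψ, RingHom.comp_apply, hγC, ResidueField.map_residue]
  rfl

end Groth.Agent.R2.H19.DvrLiftC
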