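import Mathlib
import Groth.Agent.S3404
import Groth.Agent.Lib.Helper26UnivOpenAt
import Groth.Agent.R2.H19DvrLiftB
import Groth.Agent.R2.H19DvrLiftC

/-!
helper19: scheme wrappers for the DVR lifting criterion (EGA IV 14.5.8).
-/

set_option autoImplicit false
set_option linter.style.haveILetI false
universe u
open CategoryTheory CategoryTheory.Limits AlgebraicGeometry IsLocalRing

namespace Groth.Agent.R2.H19.DvrLiftD

/-- a finite homomorphism of DVRs is injective. -/
theorem injective_of_finite_of_dvr {A B : Type*} [CommRing A] [IsDomain A]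
    [IsDiscreteValuationRing A] [CommRing B] [IsDomain B] [IsDiscreteValuationRing B]
    (φ : A →+* B) (hφ : φ.Finite) : Function.Injective φ := by
  letI := φ.toAlgebra
  haveI : Module.Finite A B := hφ
  haveI : Algebra.IsIntegral A B := Algebra.IsIntegral.of_finite A B
  rw [RingHom.injective_iff_ker_eq_bot]
  by_contra hne
  haveI hkp : (RingHom.ker φ).IsPrime := RingHom.ker_isPrime φ
  have hmax : (RingHom.ker φ).IsMaximal := Ring.DimensionLEOne.maximalOfPrime hne hkp
  have hlt : (⊥ : Ideal B) < maximalIdeal B :=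
    bot_lt_iff_ne_bot.mpr (IsDiscreteValuationRing.not_a_field B)
  haveI : (⊥ : Ideal B).IsPrime := Ideal.isPrime_bot
  have h1 := Ideal.IsIntegral.comap_lt_comap (R := A) hlt
  have h2 : (⊥ : Ideal B).comap (algebraMap A B) = RingHom.ker φ := rfl
  rw [h2] at h1
  have h3 : (maximalIdeal B).comap (algebraMap A B) ≠ ⊤ :=
    (Ideal.comap_isPrime (algebraMap A B) (maximalIdeal B)).ne_top
  exact h1.ne (hmax.eq_of_le h3 h1.le)


/-- the lifting property of EGA IV 14.5.8 -/
def Lifting {X Y : Scheme.{u}} (f : X ⟶ Y) (x : X) : Prop :=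
  ∀ (A : Type u) [CommRing A] [IsDomain A] [IsDiscreteValuationRing A]
    [IsAdicComplete (IsLocalRing.maximalIdeal A) A] [IsAlgClosed (IsLocalRing.ResidueField A)]
    (g : Spec (CommRingCat.of A) ⟶ Y), g.base (IsLocalRing.closedPoint A) = f.base x →
    ∀ u₀ : Spec (CommRingCat.of (IsLocalRing.ResidueField A)) ⟶ X,
      u₀ ≫ f = Spec.map (CommRingCat.ofHom (IsLocalRing.residue A)) ≫ g → x ∈ Set.range u₀.base →
      ∃ (B : CommRingCat.{u}) (_ : IsDomain B) (_ : IsDiscreteValuationRing B) (φ : A →+* B)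
        (_ : IsLocalHom φ) (v : Spec B ⟶ X),
        φ.Finite ∧ v ≫ f = Spec.map (CommRingCat.ofHom φ) ≫ g ∧
        Spec.map (CommRingCat.ofHom (IsLocalRing.ResidueField.map φ)) ≫ u₀ =
          Spec.map (CommRingCat.ofHom (IsLocalRing.residue B)) ≫ v

/-- the image of the point of the spectrum of a field under `Spec.map θ` is `ker θ`. -/
theorem ker_eq_of_SpecMap_apply {A : Type u} [CommRing A] {K : Type u} [Field K]
    (θ : A →+* K) (pt : Spec (CommRingCat.of K)) (p : Spec (CommRingCat.of A))
    (h : (Spec.map (CommRingCat.ofHom θ)).base pt = p) : RingHom.ker θ = p.asIdeal := by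
  rw [← h]
  show RingHom.ker θ = Ideal.comap θ pt.asIdeal
  have : pt.asIdeal = ⊥ := by
    haveI := pt.isPrime
    exact (Ideal.eq_bot_or_top pt.asIdeal).resolve_right pt.isPrime.ne_top
  rw [this]
  rfl

open Groth.Agent.Lib.Helper26.UnivOpenAt Groth.Agent.R2.H19.DvrLiftC in
set_option maxHeartbeats 1000000 in
theorem dvrCrit_of_lifting {X Y : Scheme.{u}} (f : X ⟶ Y) (x : X) (H : Lifting f x) :
    DVRCrit f x := by
  intro A₁ _ _ _ g₁ hg₁ x' hx'1 hx'2
  -- the residue field of `x'`
  let t₀ : Spec ((pullback f g₁).residueField x') ⟶ pullback f g₁ :=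
    (pullback f g₁).fromSpecResidueField x'
  let θc : CommRingCat.of A₁ ⟶ (pullback f g₁).residueField x' :=
    Spec.preimage (t₀ ≫ pullback.snd f g₁)
  have hθc : Spec.map θc = t₀ ≫ pullback.snd f g₁ := Spec.map_preimage _
  let pt₀ : Spec ((pullback f g₁).residueField x') :=
    IsLocalRing.closedPoint ((pullback f g₁).residueField x')
  have hθ : maximalIdeal A₁ ≤ RingHom.ker θc.hom := by
    have h1 : (Spec.map (CommRingCat.ofHom θc.hom)).base pt₀ = IsLocalRing.closedPoint A₁ := by
      rw [CommRingCat.ofHom_hom, hθc, Scheme.Hom.comp_apply]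
      erw [Scheme.fromSpecResidueField_apply]
      exact hx'2
    rw [ker_eq_of_SpecMap_apply θc.hom pt₀ _ h1]
    exact le_rfl
  obtain ⟨A, g1, g2, g3, g4, g5, j, ψ, hj, hjloc, hψ⟩ :=
    exists_complete_dvr_ext A₁ ((pullback f g₁).residueField x') θc.hom hθ
  haveI := hjloc
  let g : Spec (CommRingCat.of A) ⟶ Y := Spec.map (CommRingCat.ofHom j) ≫ g₁
  have hg : g.base (IsLocalRing.closedPoint A) = f.base x := by
    have e0 : (Spec.map (CommRingCat.ofHom j) ≫ g₁).base
        (IsLocalRing.closedPoint A : ↥(Spec (CommRingCat.of A))) =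
        g₁.base ((Spec.map (CommRingCat.ofHom j)).base
          (IsLocalRing.closedPoint A : ↥(Spec (CommRingCat.of A)))) :=
      Scheme.Hom.comp_apply _ _ _
    refine e0.trans ?_
    have : (Spec.map (CommRingCat.ofHom j)).base
        (IsLocalRing.closedPoint A : ↥(Spec (CommRingCat.of A))) =
        IsLocalRing.closedPoint A₁ := IsLocalRing.comap_closedPoint j
    rw [this, hg₁]
  let t : Spec (CommRingCat.of (ResidueField A)) ⟶ pullback f g₁ :=
    Spec.map (CommRingCat.ofHom ψ) ≫ t₀
  have ht : ∀ s, t.base s = x' := by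
    intro s
    have e0 : (Spec.map (CommRingCat.ofHom ψ) ≫ t₀).base s =
        t₀.base ((Spec.map (CommRingCat.ofHom ψ)).base s) := Scheme.Hom.comp_apply _ _ _
    exact e0.trans (Scheme.fromSpecResidueField_apply _ _)
  have htq : t ≫ pullback.snd f g₁ =
      Spec.map (CommRingCat.ofHom (residue A)) ≫ Spec.map (CommRingCat.ofHom j) := by
    rw [Category.assoc, ← hθc, ← Spec.map_comp, ← Spec.map_comp]
    congr 1
    ext a
    exact RingHom.congr_fun hψ a
  let u₀ : Spec (CommRingCat.of (ResidueField A)) ⟶ X := t ≫ pullback.fst f g₁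
  have hu₀ : u₀ ≫ f = Spec.map (CommRingCat.ofHom (residue A)) ≫ g := by
    rw [Category.assoc, pullback.condition, ← Category.assoc, htq, Category.assoc]
  have hx : x ∈ Set.range u₀.base := by
    refine ⟨(IsLocalRing.closedPoint (ResidueField A) :
      ↥(Spec (CommRingCat.of (ResidueField A)))), ?_⟩
    have e0 : (t ≫ pullback.fst f g₁).base (IsLocalRing.closedPoint (ResidueField A) :
        ↥(Spec (CommRingCat.of (ResidueField A)))) = (pullback.fst f g₁).base (t.base
          (IsLocalRing.closedPoint (ResidueField A) :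
            ↥(Spec (CommRingCat.of (ResidueField A))))) := Scheme.Hom.comp_apply _ _ _
    refine e0.trans ?_
    exact (congrArg (pullback.fst f g₁).base (ht _)).trans hx'1
  obtain ⟨B, hB1, hB2, φ, hφloc, v, hfin, hv, hcompat⟩ := H A g hg u₀ hu₀ hx
  haveI := hφloc
  have hφinj : Function.Injective φ := injective_of_finite_of_dvr φ hfin
  let w : Spec B ⟶ pullback f g₁ :=
    pullback.lift v (Spec.map (CommRingCat.ofHom φ) ≫ Spec.map (CommRingCat.ofHom j)) (by
      rw [hv, Category.assoc])
  have hw1 : w ≫ pullback.fst f g₁ = v := pullback.lift_fst _ _ _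
  have hw2 : w ≫ pullback.snd f g₁ =
      Spec.map (CommRingCat.ofHom φ) ≫ Spec.map (CommRingCat.ofHom j) := pullback.lift_snd _ _ _
  have hw : Spec.map (CommRingCat.ofHom (residue B)) ≫ w =
      Spec.map (CommRingCat.ofHom (ResidueField.map φ)) ≫ t := by
    apply pullback.hom_ext
    · rw [Category.assoc, hw1, Category.assoc, ← hcompat]
    · rw [Category.assoc, hw2, Category.assoc, htq, ← Spec.map_comp, ← Spec.map_comp,
        ← Spec.map_comp, ← Spec.map_comp]
      congr 1
  -- the closed point maps to `x'`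
  have hcl : w.base (IsLocalRing.closedPoint B) = x' := by
    have h1 : (Spec.map (CommRingCat.ofHom (residue B))).base
        (IsLocalRing.closedPoint (ResidueField B) :
          ↥(Spec (CommRingCat.of (ResidueField B)))) = IsLocalRing.closedPoint B :=
      IsLocalRing.comap_closedPoint (residue B)
    have e0 : (Spec.map (CommRingCat.ofHom (residue B)) ≫ w).base
        (IsLocalRing.closedPoint (ResidueField B) :
          ↥(Spec (CommRingCat.of (ResidueField B)))) = w.base
        ((Spec.map (CommRingCat.ofHom (residue B))).base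
        (IsLocalRing.closedPoint (ResidueField B) :
          ↥(Spec (CommRingCat.of (ResidueField B))))) := Scheme.Hom.comp_apply _ _ _
    have e1 : (Spec.map (CommRingCat.ofHom (ResidueField.map φ)) ≫ t).base
        (IsLocalRing.closedPoint (ResidueField B) :
          ↥(Spec (CommRingCat.of (ResidueField B)))) = t.base
        ((Spec.map (CommRingCat.ofHom (ResidueField.map φ))).base
        (IsLocalRing.closedPoint (ResidueField B) :
          ↥(Spec (CommRingCat.of (ResidueField B))))) := Scheme.Hom.comp_apply _ _ _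
    rw [← h1, ← e0, hw, e1, ht]
  -- the generic point
  let η : Spec B := ⟨⊥, Ideal.isPrime_bot⟩
  have hη : η ⤳ IsLocalRing.closedPoint B := (PrimeSpectrum.le_iff_specializes η _).mp bot_le
  refine ⟨w.base η, ?_, ?_⟩
  · rw [← hcl]
    exact hη.map w.continuous
  · rw [← Scheme.Hom.comp_apply, hw2]
    intro h
    have h1 : (PrimeSpectrum.comap (φ.comp j) η).asIdeal = maximalIdeal A₁ :=
      congrArg (·.asIdeal) h
    have h2 : (PrimeSpectrum.comap (φ.comp j) η).asIdeal = ⊥ := by
      show Ideal.comap (φ.comp j) ⊥ = ⊥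
      rw [← RingHom.ker_eq_comap_bot]
      exact (RingHom.injective_iff_ker_eq_bot _).mp (hφinj.comp hj)
    rw [h2] at h1
    exact IsDiscreteValuationRing.not_a_field A₁ h1.symm


open Groth.Agent.R2.H19.DvrLiftB in
set_option maxHeartbeats 1000000 in
theorem lifting_of_isUnivOpenAt {X Y : Scheme.{u}} [IsLocallyNoetherian Y] (f : X ⟶ Y)
    [LocallyOfFiniteType f] (x : X) (h : EGA43.IsUnivOpenAt f x) : Lifting f x := by
  intro A _ _ _ _ _ g hg u₀ hu₀ hx
  let u₀' : Spec (CommRingCat.of (ResidueField A)) ⟶ pullback f g :=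
    pullback.lift u₀ (Spec.map (CommRingCat.ofHom (residue A))) hu₀
  have hu₀'1 : u₀' ≫ pullback.fst f g = u₀ := pullback.lift_fst _ _ _
  have hu₀'2 : u₀' ≫ pullback.snd f g = Spec.map (CommRingCat.ofHom (residue A)) :=
    pullback.lift_snd _ _ _
  let pt : ↥(Spec (CommRingCat.of (ResidueField A))) := IsLocalRing.closedPoint (ResidueField A)
  have hpt : ∀ s : ↥(Spec (CommRingCat.of (ResidueField A))), s = pt := by
    intro s
    apply PrimeSpectrum.ext
    have h1 : s.asIdeal = ⊥ :=
      (Ideal.eq_bot_or_top s.asIdeal).resolve_right s.isPrime.ne_top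
    have h2 : pt.asIdeal = ⊥ :=
      (Ideal.eq_bot_or_top pt.asIdeal).resolve_right pt.isPrime.ne_top
    rw [h1, h2]
  obtain ⟨x', hx'def⟩ : ∃ x' : ↥(pullback f g), x' = u₀'.base pt := ⟨_, rfl⟩
  have hx'a : (pullback.fst f g).base x' = x := by
    obtain ⟨s, hs⟩ := hx
    rw [hpt s] at hs
    rw [hx'def, ← hs, ← hu₀'1]
    exact (Scheme.Hom.comp_apply _ _ _).symm
  have hopen : EGA43.IsOpenAt (pullback.snd f g).base x' := h _ g x' hx'a
  -- a generization over the generic point
  let η : ↥(Spec (CommRingCat.of A)) := ⟨⊥, Ideal.isPrime_bot⟩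
  have hη : η ⤳ (pullback.snd f g).base x' := (PrimeSpectrum.le_iff_specializes η _).mp bot_le
  obtain ⟨z', hz'x', hz'η⟩ := (Groth.Agent.S3404.result (pullback.snd f g) x').1 hopen η hη
  -- an affine neighbourhood
  obtain ⟨_, ⟨U, hU, rfl⟩, hxU, -⟩ := (pullback f g).isBasis_affineOpens.exists_subset_of_mem_open
    (Set.mem_univ x') isOpen_univ
  replace hU : IsAffineOpen U := hU
  have hz'U : z' ∈ U := hz'x'.mem_open U.isOpen hxU
  have hrange : Set.range hU.fromSpec.base = (U : Set ↥(pullback f g)) := hU.range_fromSpec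
  let φR : CommRingCat.of A ⟶ Γ(pullback f g, U) :=
    Spec.preimage (hU.fromSpec ≫ pullback.snd f g)
  have hφR : Spec.map φR = hU.fromSpec ≫ pullback.snd f g := Spec.map_preimage _
  letI algR : Algebra A Γ(pullback f g, U) := φR.hom.toAlgebra
  haveI hft : Algebra.FiniteType A Γ(pullback f g, U) := by
    have h1 : LocallyOfFiniteType (Spec.map φR) := by rw [hφR]; infer_instance
    exact (HasRingHomProperty.Spec_iff (P := @LocallyOfFiniteType)).mp h1
  -- the point as a ring homomorphism
  let u₀'' : Spec (CommRingCat.of (ResidueField A)) ⟶ Spec Γ(pullback f g, U) :=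
    IsOpenImmersion.lift hU.fromSpec u₀' (by
      rintro _ ⟨s, rfl⟩
      rw [hrange, hpt s, ← hx'def]
      exact hxU)
  have hu₀'' : u₀'' ≫ hU.fromSpec = u₀' := IsOpenImmersion.lift_fac _ _ _
  let ρc : Γ(pullback f g, U) ⟶ CommRingCat.of (ResidueField A) := Spec.preimage u₀''
  have hρc : Spec.map ρc = u₀'' := Spec.map_preimage _
  have hρ : ρc.hom.comp (algebraMap A Γ(pullback f g, U)) = residue A := by
    have h1 : φR ≫ ρc = CommRingCat.ofHom (residue A) := by
      apply Spec.map_injective
      rw [Spec.map_comp, hρc, hφR, ← Category.assoc, hu₀'', hu₀'2]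
    exact congrArg CommRingCat.Hom.hom h1
  -- the generization as a prime
  obtain ⟨z₀, hz₀⟩ : z' ∈ Set.range hU.fromSpec.base := by rw [hrange]; exact hz'U
  have hkerρ : RingHom.ker ρc.hom = (u₀''.base pt).asIdeal := by
    apply ker_eq_of_SpecMap_apply ρc.hom pt
    rw [CommRingCat.ofHom_hom, hρc]
  have hq₀ : z₀.asIdeal ≤ RingHom.ker ρc.hom := by
    rw [hkerρ]
    refine (PrimeSpectrum.le_iff_specializes (z₀ : PrimeSpectrum Γ(pullback f g, U))
      (u₀''.base pt)).mpr ?_
    apply hU.fromSpec.isOpenEmbedding.isInducing.specializes_iff.mp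
    rw [hz₀]
    have e0 : hU.fromSpec.base (u₀''.base pt) = x' := by
      rw [hx'def, ← hu₀'']
      exact (Scheme.Hom.comp_apply _ _ _).symm
    rw [e0]
    exact hz'x'
  have hq₀A : z₀.asIdeal.comap (algebraMap A Γ(pullback f g, U)) = ⊥ := by
    have e0 : (Spec.map φR).base z₀ = η := by
      rw [hφR]
      have e1 : (hU.fromSpec ≫ pullback.snd f g).base z₀ =
          (pullback.snd f g).base (hU.fromSpec.base z₀) := Scheme.Hom.comp_apply _ _ _
      rw [e1, hz₀, hz'η]
    exact congrArg (·.asIdeal) e0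
  haveI := z₀.isPrime
  obtain ⟨B, hB1, hB2, hB3, φ, hφ, ψ, hfin, hψ, hcompat⟩ :=
    exists_dvr_lift (A := A) (R := Γ(pullback f g, U)) ρc.hom hρ z₀.asIdeal hq₀ hq₀A
  refine ⟨CommRingCat.of B, hB2, hB3, φ, hφ,
    Spec.map (CommRingCat.ofHom ψ) ≫ hU.fromSpec ≫ pullback.fst f g, hfin, ?_, ?_⟩
  · have e : φR ≫ CommRingCat.ofHom ψ = CommRingCat.ofHom φ := by
      ext a
      exact RingHom.congr_fun hψ a
    calc (Spec.map (CommRingCat.ofHom ψ) ≫ hU.fromSpec ≫ pullback.fst f g) ≫ f
        = Spec.map (CommRingCat.ofHom ψ) ≫ hU.fromSpec ≫ (pullback.fst f g ≫ f) := by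
          simp only [Category.assoc]
      _ = Spec.map (CommRingCat.ofHom ψ) ≫ (hU.fromSpec ≫ pullback.snd f g) ≫ g := by
          rw [pullback.condition, Category.assoc]
      _ = Spec.map (CommRingCat.ofHom ψ) ≫ Spec.map φR ≫ g := by rw [hφR]
      _ = Spec.map (φR ≫ CommRingCat.ofHom ψ) ≫ g := by rw [Spec.map_comp, Category.assoc]
      _ = _ := by rw [e]
  · have e2 : ρc ≫ CommRingCat.ofHom (ResidueField.map φ) =
        CommRingCat.ofHom ψ ≫ CommRingCat.ofHom (residue B) := by
      ext a
      exact (RingHom.congr_fun hcompat a).symm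
    have e3 : u₀ = Spec.map ρc ≫ hU.fromSpec ≫ pullback.fst f g := by
      rw [hρc, ← Category.assoc, hu₀'', hu₀'1]
    calc Spec.map (CommRingCat.ofHom (ResidueField.map φ)) ≫ u₀
        = Spec.map (CommRingCat.ofHom (ResidueField.map φ)) ≫ Spec.map ρc ≫ hU.fromSpec ≫
            pullback.fst f g := by rw [e3]
      _ = Spec.map (ρc ≫ CommRingCat.ofHom (ResidueField.map φ)) ≫ hU.fromSpec ≫
            pullback.fst f g := by rw [Spec.map_comp, Category.assoc]
      _ = Spec.map (CommRingCat.ofHom ψ ≫ CommRingCat.ofHom (residue B)) ≫ hU.fromSpec ≫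
            pullback.fst f g := by rw [e2]
      _ = _ := by rw [Spec.map_comp, Category.assoc]

end Groth.Agent.R2.H19.DvrLiftD
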