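import Groth.Agent.Lib.Helper3LocDimBC
import Groth.Agent.Lib.Helper4DimFormulaAP
import Groth.Agent.Lib.Helper4DimFormulaAR
import Groth.Agent.Lib.Helper4FibDimK
import Groth.Agent.Lib.Helper4VarDim9
import Groth.Agent.S14482

set_option autoImplicit false
set_option linter.style.haveILetI false
universe u

open AlgebraicGeometry CategoryTheory CategoryTheory.Limits TopologicalSpace Topology

namespace Groth.Agent.R2.H19.FibConst

open Groth.Agent.Lib.Helper4.VarDim Groth.Agent.Lib.Helper4.FibDim
  Groth.Agent.Lib.Helper4.DimFormula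

/-- all fibres have dimension exactly `d`, expressed by local fibre dimensions. -/
def HasFibDim {X S : Scheme.{u}} (f : X ⟶ S) (d : ℕ) : Prop :=
  (∀ x : X, FlatMor.fibreDimAt f x ≤ (d : WithBot ℕ∞)) ∧
    ∀ s : S, ∃ x : X, f x = s ∧ ((d : ℕ) : WithBot ℕ∞) ≤ FlatMor.fibreDimAt f x

theorem hasFibDim_of_forall_dim_fiber {X S : Scheme.{u}} (f : X ⟶ S) (d : ℕ)
    (hd : ∀ s : S, topologicalKrullDim (f.fiber s) = d) : HasFibDim f d := by
  refine ⟨fun x => ?_, fun s => ?_⟩
  · exact (topologicalKrullDim_fiber_le_iff f (f x) d).mp (hd (f x)).le x rfl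
  · exact (natCast_le_topologicalKrullDim_fiber_iff f s d).mp (hd s).ge

theorem HasFibDim.of_isPullback {X S X' S' : Scheme.{u}} {f : X ⟶ S} [LocallyOfFiniteType f]
    {g : S' ⟶ S} {g' : X' ⟶ X} {f' : X' ⟶ S'} (hsq : IsPullback g' f' f g) {d : ℕ}
    (h : HasFibDim f d) : HasFibDim f' d := by
  refine ⟨fun x' => ?_, fun s' => ?_⟩
  · rw [Groth.Agent.Lib.Helper3.LocDimBC.fibreDimAt_eq_of_isPullback f g g' f' hsq x']
    exact h.1 _
  · obtain ⟨x, hx, hxd⟩ := h.2 (g s')
    obtain ⟨x', hx'1, hx'2⟩ := Scheme.exists_preimage_of_isPullback hsq x s' hx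
    refine ⟨x', hx'2, ?_⟩
    rw [Groth.Agent.Lib.Helper3.LocDimBC.fibreDimAt_eq_of_isPullback f g g' f' hsq x', hx'1]
    exact hxd

/-- For a morphism of schemes locally of finite type over a field all of whose fibres have
dimension `d`, `dim π⁻¹(T) = dim T + d` for every locally closed `T`. -/
theorem topologicalKrullDim_preimage_eq_add (k : Type u) [Field k] {X' X : Scheme.{u}}
    [X.Over (Spec (CommRingCat.of k))] [LocallyOfFiniteType (X ↘ Spec (CommRingCat.of k))]
    [X'.Over (Spec (CommRingCat.of k))] [LocallyOfFiniteType (X' ↘ Spec (CommRingCat.of k))]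
    (π : X' ⟶ X) [LocallyOfFiniteType π]
    (hπ : π ≫ (X ↘ Spec (CommRingCat.of k)) = (X' ↘ Spec (CommRingCat.of k)))
    (d : ℕ) (h : HasFibDim π d) (T : Set X) (hT : IsLocallyClosed T) :
    topologicalKrullDim (π ⁻¹' T : Set X') = topologicalKrullDim T + (d : WithBot ℕ∞) := by
  have hT' : IsLocallyClosed (π ⁻¹' T : Set X') := hT.preimage π.continuous
  apply le_antisymm
  · haveI := quasiSober_of_isLocallyClosed (π ⁻¹' T : Set X') hT'
    refine topologicalKrullDim_le_of_forall_trdegNat_le k X' _ _ fun t ht => ?_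
    have h1 := trdegNat_eq_add_ptTrdeg k π hπ t
    have h2 := trdegNat_le_topologicalKrullDim_of_isLocallyClosed k X T hT (π t) ht
    have h3 : ((ptTrdeg π t : ℕ) : WithBot ℕ∞) ≤ (d : WithBot ℕ∞) :=
      (ptTrdeg_le_fibreDimAt π t).trans (h.1 t)
    rw [h1]
    push_cast
    exact add_le_add h2 h3
  · -- pointwise lower bound
    have hpt : ∀ x ∈ T, ∃ w ∈ (π ⁻¹' T : Set X'), trdegNat k X x + d ≤ trdegNat k X' w := by
      intro x hx
      obtain ⟨x', hx', hx'd⟩ := h.2 x
      obtain ⟨w, hw1, -, hw2⟩ := exists_ptTrdeg_eq_fibreDimAt π x'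
      have hw : π w = x := hw1.trans hx'
      refine ⟨w, by show π w ∈ T; rw [hw]; exact hx, ?_⟩
      have h1 := trdegNat_eq_add_ptTrdeg k π hπ w
      rw [hw] at h1
      have h3 : d ≤ ptTrdeg π w := by
        rw [hw2] at hx'd
        exact_mod_cast hx'd
      omega
    generalize hc : topologicalKrullDim (π ⁻¹' T : Set X') = c
    induction c using WithBot.recBotCoe with
    | bot =>
      have hemp : T = ∅ := by
        by_contra hne
        obtain ⟨x, hx⟩ := Set.nonempty_iff_ne_empty.mpr hne
        obtain ⟨w, hw, -⟩ := hpt x hx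
        have := trdegNat_le_topologicalKrullDim_of_isLocallyClosed k X' _ hT' w hw
        rw [hc] at this
        simp at this
      rw [hemp, topologicalKrullDim_eq_bot_of_isEmpty]
      simp
    | coe c =>
      induction c using ENat.recTopCoe with
      | top => exact le_top
      | coe n =>
        have := Groth.Agent.S14482.dim_add_le k X T hT d n (fun x hx => by
          obtain ⟨w, hw, hwd⟩ := hpt x hx
          have h4 := trdegNat_le_topologicalKrullDim_of_isLocallyClosed k X' _ hT' w hw
          rw [hc] at h4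
          have h5 : trdegNat k X' w ≤ n := by exact_mod_cast h4
          omega)
        exact_mod_cast this

/-- cancellation of a natural number in `WithBot ℕ∞`. -/
theorem add_natCast_le_add_natCast_iff (a b : WithBot ℕ∞) (d : ℕ) :
    a + (d : WithBot ℕ∞) ≤ b + (d : WithBot ℕ∞) ↔ a ≤ b := by
  induction a using WithBot.recBotCoe with
  | bot => simp
  | coe a =>
    induction b using WithBot.recBotCoe with
    | bot => simp
    | coe b =>
      have h1 : ((a : ℕ∞) : WithBot ℕ∞) + (d : WithBot ℕ∞) = ((a + d : ℕ∞) : WithBot ℕ∞) := by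
        push_cast; rfl
      have h2 : ((b : ℕ∞) : WithBot ℕ∞) + (d : WithBot ℕ∞) = ((b + d : ℕ∞) : WithBot ℕ∞) := by
        push_cast; rfl
      rw [h1, h2, WithBot.coe_le_coe, WithBot.coe_le_coe]
      exact WithTop.add_le_add_iff_right (ENat.natCast_ne_top d)

end Groth.Agent.R2.H19.FibConst
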