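import Mathlib
import Groth.Agent.Lib.Helper13QCAlgOfAffine

set_option autoImplicit false
set_option linter.style.haveILetI false
universe u

open CategoryTheory CategoryTheory.Limits AlgebraicGeometry Opposite TopologicalSpace
open Scheme.AffineZariskiSite

namespace Groth.Agent.R2.H19.FinExt

section Ring

/-- if the image of `y` in a localization `B'` of `B` away from `φ r` is integral over `R`, then
some `φ r ^ m * y` is integral over `R`. -/
theorem exists_pow_mul_isIntegralElem {R B B' : Type*} [CommRing R] [CommRing B] [CommRing B']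
    (φ : R →+* B) (ρ : B →+* B') (r : R)
    (hloc : letI := ρ.toAlgebra; IsLocalization.Away (φ r) B')
    (y : B) (hy : (ρ.comp φ).IsIntegralElem (ρ y)) : ∃ m : ℕ, φ.IsIntegralElem (φ r ^ m * y) := by
  letI := ρ.toAlgebra
  haveI := hloc
  obtain ⟨p, hp, hpy⟩ := hy
  have h1 : ρ (Polynomial.eval₂ φ y p) = 0 := by
    rw [Polynomial.hom_eval₂]
    exact hpy
  have h2 : algebraMap B B' (Polynomial.eval₂ φ y p) = 0 := h1
  rw [IsLocalization.map_eq_zero_iff (Submonoid.powers (φ r))] at h2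
  obtain ⟨⟨_, e, rfl⟩, he⟩ := h2
  refine ⟨e, ?_⟩
  have he' : φ (r ^ e) * Polynomial.eval₂ φ y p = 0 := by
    rw [map_pow]; exact he
  rcases Nat.eq_zero_or_pos p.natDegree with h0 | hpos
  · have hp1 : p = 1 := Polynomial.eq_one_of_monic_natDegree_zero hp h0
    rw [hp1, Polynomial.eval₂_one, mul_one] at he'
    refine ⟨Polynomial.X, Polynomial.monic_X, ?_⟩
    rw [Polynomial.eval₂_X, ← map_pow, he', zero_mul]
  · refine ⟨p.scaleRoots (r ^ e), (Polynomial.monic_scaleRoots_iff _).mpr hp, ?_⟩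
    rw [← map_pow, Polynomial.scaleRoots_eval₂_mul]
    obtain ⟨n, hn⟩ := Nat.exists_eq_succ_of_ne_zero hpos.ne'
    rw [hn, pow_succ, mul_assoc, he', mul_zero]

/-- a subring of a localization which is the localization of a subring. -/
theorem isLocalization_away_subring {B B' : Type*} [CommRing B] [CommRing B'] (ρ : B →+* B')
    (b : B) (hloc : letI := ρ.toAlgebra; IsLocalization.Away b B')
    (F : Subring B) (F' : Subring B') (hb : b ∈ F) (hFF' : ∀ x ∈ F, ρ x ∈ F')
    (hinv : ∃ c ∈ F', c * ρ b = 1)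
    (hsurj : ∀ x' ∈ F', ∃ (n : ℕ) (x : B), x ∈ F ∧ x' * ρ b ^ n = ρ x) :
    letI := (ρ.restrict F F' hFF').toAlgebra
    IsLocalization.Away (⟨b, hb⟩ : F) F' := by
  letI := ρ.toAlgebra
  haveI := hloc
  letI := (ρ.restrict F F' hFF').toAlgebra
  have halg : ∀ x : F, (algebraMap F F' x : B') = ρ x := fun x => rfl
  refine ⟨?_, ?_, ?_⟩
  · rintro ⟨_, n, rfl⟩
    obtain ⟨c, hc, hcb⟩ := hinv
    have : IsUnit (algebraMap F F' (⟨b, hb⟩ : F)) := by
      refine IsUnit.of_mul_eq_one (⟨c, hc⟩ : F') ?_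
      apply Subtype.ext
      show ρ b * c = 1
      rw [mul_comm]; exact hcb
    rw [map_pow]
    exact this.pow n
  · intro x'
    obtain ⟨n, x, hx, hxe⟩ := hsurj x'.1 x'.2
    refine ⟨(⟨x, hx⟩, ⟨(⟨b, hb⟩ : F) ^ n, n, rfl⟩), ?_⟩
    apply Subtype.ext
    show (x' : B') * (algebraMap F F' ((⟨b, hb⟩ : F) ^ n) : B') = ρ x
    rw [halg]
    show (x' : B') * ρ (b ^ n) = ρ x
    rw [map_pow]; exact hxe
  · intro x y hxy
    have h1 : algebraMap B B' x.1 = algebraMap B B' y.1 := congrArg Subtype.val hxy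
    obtain ⟨n, hn⟩ := IsLocalization.Away.exists_of_eq b h1
    refine ⟨⟨(⟨b, hb⟩ : F) ^ n, n, rfl⟩, ?_⟩
    apply Subtype.ext
    exact hn

end Ring

section Sch

variable {Y V' : Scheme.{u}} (w : V' ⟶ Y) (V : Y.Opens) (T : Set Γ(V', ⊤))

/-- restriction of sections of `V'` between preimages. -/
noncomputable def res {U U' : Y.Opens} (h : U' ≤ U) : Γ(V', w ⁻¹ᵁ U) →+* Γ(V', w ⁻¹ᵁ U') :=
  (V'.presheaf.map (homOfLE (w.preimage_mono h)).op).hom

/-- restriction of global sections. -/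
noncomputable def resTop (U : Y.Opens) : Γ(V', ⊤) →+* Γ(V', w ⁻¹ᵁ U) :=
  (V'.presheaf.map (homOfLE le_top).op).hom

theorem res_resTop {U U' : Y.Opens} (h : U' ≤ U) (t : Γ(V', ⊤)) :
    res w h (resTop w U t) = resTop w U' t := by
  unfold res resTop
  rw [← RingHom.comp_apply, ← CommRingCat.hom_comp, ← Functor.map_comp]
  rfl

theorem res_app {U U' : Y.Opens} (h : U' ≤ U) (s : Γ(Y, U)) :
    res w h ((w.app U).hom s) = (w.app U').hom ((Y.presheaf.map (homOfLE h).op).hom s) := by
  have := w.naturality (homOfLE h).op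
  have h2 := congrArg (fun φ => φ.hom s) this
  simp only [CommRingCat.hom_comp, RingHom.comp_apply] at h2
  exact h2.symm

theorem res_res {U U' U'' : Y.Opens} (h : U' ≤ U) (h' : U'' ≤ U') (x : Γ(V', w ⁻¹ᵁ U)) :
    res w h' (res w h x) = res w (h'.trans h) x := by
  unfold res
  rw [← RingHom.comp_apply, ← CommRingCat.hom_comp, ← Functor.map_comp]
  rfl

theorem res_self {U : Y.Opens} (x : Γ(V', w ⁻¹ᵁ U)) : res w (le_refl U) x = x := by
  unfold res
  have : (homOfLE (w.preimage_mono (le_refl U))).op = 𝟙 _ := rfl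
  rw [this, V'.presheaf.map_id]
  rfl

/-- generators -/
def gens (U : Y.Opens) : Set Γ(V', w ⁻¹ᵁ U) :=
  {x | (w.app U).hom.IsIntegralElem x ∧ ∃ j : Γ(Y, U), Y.basicOpen j ≤ V ∧ ∃ t ∈ T,
    x = (w.app U).hom j * resTop w U t}

/-- the subring of sections. -/
def Fsub (U : Y.Opens) : Subring Γ(V', w ⁻¹ᵁ U) :=
  Subring.closure (Set.range (w.app U).hom ∪ gens w V T U)

theorem app_mem_Fsub (U : Y.Opens) (s : Γ(Y, U)) : (w.app U).hom s ∈ Fsub w V T U :=
  Subring.subset_closure (Or.inl ⟨s, rfl⟩)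

theorem isIntegralElem_res {U U' : Y.Opens} (h : U' ≤ U) (x : Γ(V', w ⁻¹ᵁ U))
    (hx : (w.app U).hom.IsIntegralElem x) : (w.app U').hom.IsIntegralElem (res w h x) := by
  obtain ⟨p, hp, hpx⟩ := hx
  refine ⟨p.map (Y.presheaf.map (homOfLE h).op).hom, hp.map _, ?_⟩
  rw [Polynomial.eval₂_map]
  have e : (w.app U').hom.comp (Y.presheaf.map (homOfLE h).op).hom =
      (res w h).comp (w.app U).hom := by
    ext s
    exact (res_app w h s).symm
  rw [e, ← Polynomial.hom_eval₂, hpx, map_zero]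

theorem res_mem_Fsub {U U' : Y.Opens} (h : U' ≤ U) (x : Γ(V', w ⁻¹ᵁ U))
    (hx : x ∈ Fsub w V T U) : res w h x ∈ Fsub w V T U' := by
  unfold Fsub at hx
  induction hx using Subring.closure_induction with
  | mem x hx =>
    rcases hx with ⟨s, rfl⟩ | ⟨hint, j, hj, t, ht, rfl⟩
    · rw [res_app]
      exact app_mem_Fsub w V T U' _
    · refine Subring.subset_closure (Or.inr ⟨isIntegralElem_res w h _ hint,
        (Y.presheaf.map (homOfLE h).op).hom j, ?_, t, ht, ?_⟩)
      · rw [Scheme.basicOpen_res]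
        exact inf_le_right.trans hj
      · rw [map_mul, res_app, res_resTop]
  | zero => rw [map_zero]; exact Subring.zero_mem _
  | one => rw [map_one]; exact Subring.one_mem _
  | add x y _ _ hx hy => rw [map_add]; exact Subring.add_mem _ hx hy
  | neg x _ hx => rw [map_neg]; exact Subring.neg_mem _ hx
  | mul x y _ _ hx hy => rw [map_mul]; exact Subring.mul_mem _ hx hy

/-- the presheaf of algebras on the affine site. -/
noncomputable def F : Y.AffineZariskiSiteᵒᵖ ⥤ CommRingCat.{u} where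
  obj U := CommRingCat.of (Fsub w V T U.unop.1)
  map {U U'} i := CommRingCat.ofHom
    ((res w (toOpens_mono i.unop.le)).restrict (Fsub w V T U.unop.1) (Fsub w V T U'.unop.1)
      (fun x hx => res_mem_Fsub w V T _ x hx))
  map_id U := by
    ext x
    exact res_self w x.1
  map_comp i j := by
    ext x
    exact (res_res w _ _ x.1).symm

/-- the structure map. -/
noncomputable def α : (toOpensFunctor Y).op ⋙ Y.presheaf ⟶ F w V T where
  app U := CommRingCat.ofHom ((w.app U.unop.1).hom.codRestrict (Fsub w V T U.unop.1)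
    (fun s => app_mem_Fsub w V T _ s))
  naturality {U U'} i := by
    ext s
    apply Subtype.ext
    exact (res_app w (toOpens_mono i.unop.le) s).symm

end Sch

section Sch2

variable {Y V' : Scheme.{u}} (w : V' ⟶ Y) (V : Y.Opens) (T : Set Γ(V', ⊤))

theorem isLocalization_away_aux (O : V'.Opens) (f : Γ(V', O)) (O' : V'.Opens)
    (hO' : O' = V'.basicOpen f) (hle : O' ≤ O) (hc : IsCompact (O : Set V'))
    (hqs : IsQuasiSeparated (O : Set V')) :
    letI := (V'.presheaf.map (homOfLE hle).op).hom.toAlgebra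
    IsLocalization.Away f Γ(V', O') := by
  subst hO'
  exact isLocalization_basicOpen_of_qcqs hc hqs f

theorem isLocalization_away_res (U : Y.Opens) (r : Γ(Y, U))
    (hc : IsCompact (w ⁻¹ᵁ U : Set V')) (hqs : IsQuasiSeparated (w ⁻¹ᵁ U : Set V')) :
    letI := (res w (Y.basicOpen_le r)).toAlgebra
    IsLocalization.Away ((w.app U).hom r) Γ(V', w ⁻¹ᵁ Y.basicOpen r) :=
  isLocalization_away_aux (w ⁻¹ᵁ U) ((w.app U).hom r) (w ⁻¹ᵁ Y.basicOpen r)
    (Scheme.preimage_basicOpen w r) (w.preimage_mono (Y.basicOpen_le r)) hc hqs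

/-- restriction on `Y`. -/
noncomputable def resY {U U' : Y.Opens} (h : U' ≤ U) : Γ(Y, U) →+* Γ(Y, U') :=
  (Y.presheaf.map (homOfLE h).op).hom

theorem res_app' {U U' : Y.Opens} (h : U' ≤ U) (s : Γ(Y, U)) :
    res w h ((w.app U).hom s) = (w.app U').hom (resY h s) := res_app w h s

theorem basicOpen_resY {U U' : Y.Opens} (h : U' ≤ U) (s : Γ(Y, U)) :
    Y.basicOpen (resY h s) = U' ⊓ Y.basicOpen s := Scheme.basicOpen_res Y s (homOfLE h).op

theorem isIntegralElem_comp_of_isLocalization {U : Y.Opens} (hU : IsAffineOpen U) (r : Γ(Y, U))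
    (z : Γ(V', w ⁻¹ᵁ Y.basicOpen r))
    (hz : (w.app (Y.basicOpen r)).hom.IsIntegralElem z) :
    ∃ k : ℕ, ((w.app (Y.basicOpen r)).hom.comp (resY (Y.basicOpen_le r))).IsIntegralElem
      ((w.app (Y.basicOpen r)).hom (resY (Y.basicOpen_le r) r) ^ k * z) := by
  letI a1 : Algebra Γ(Y, U) Γ(Y, Y.basicOpen r) := (resY (Y.basicOpen_le r)).toAlgebra
  letI a2 : Algebra Γ(Y, Y.basicOpen r) Γ(V', w ⁻¹ᵁ Y.basicOpen r) :=
    (w.app (Y.basicOpen r)).hom.toAlgebra
  letI a3 : Algebra Γ(Y, U) Γ(V', w ⁻¹ᵁ Y.basicOpen r) :=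
    ((w.app (Y.basicOpen r)).hom.comp (resY (Y.basicOpen_le r))).toAlgebra
  haveI : IsScalarTower Γ(Y, U) Γ(Y, Y.basicOpen r) Γ(V', w ⁻¹ᵁ Y.basicOpen r) :=
    IsScalarTower.of_algebraMap_eq fun _ => rfl
  haveI : IsLocalization (Submonoid.powers r) Γ(Y, Y.basicOpen r) := hU.isLocalization_basicOpen r
  obtain ⟨⟨_, k, rfl⟩, hk⟩ := IsIntegral.exists_multiple_integral_of_isLocalization
    (Submonoid.powers r) (Rₘ := Γ(Y, Y.basicOpen r)) z hz
  refine ⟨k, ?_⟩
  have : (⟨r ^ k, k, rfl⟩ : Submonoid.powers r) • z =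
      (w.app (Y.basicOpen r)).hom (resY (Y.basicOpen_le r) r) ^ k * z := by
    show algebraMap Γ(Y, U) Γ(V', w ⁻¹ᵁ Y.basicOpen r) (r ^ k) * z = _
    rw [map_pow]
    rfl
  rw [← this]
  exact hk

theorem coequifibered (hV' : ∀ U : Y.Opens, IsCompact (w ⁻¹ᵁ U : Set V') ∧
    IsQuasiSeparated (w ⁻¹ᵁ U : Set V')) : (α w V T).Coequifibered := by
  refine coequifibered_iff_forall_isLocalizationAway.mpr fun U r => ?_
  have hU : IsAffineOpen U.1 := U.2
  set ρ := res w (Y.basicOpen_le r) with hρ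
  set φ := (w.app U.1).hom with hφ
  set φ' := (w.app (Y.basicOpen r)).hom with hφ'
  have hρφ : ∀ s, ρ (φ s) = φ' (resY (Y.basicOpen_le r) s) := fun s => res_app w _ s
  have hunit : IsUnit (resY (Y.basicOpen_le r) r) := RingedSpace.isUnit_res_basicOpen _ r
  refine isLocalization_away_subring ρ (φ r)
    (isLocalization_away_res w U.1 r (hV' U.1).1 (hV' U.1).2)
    (Fsub w V T U.1) (Fsub w V T (Y.basicOpen r)) (app_mem_Fsub w V T U.1 r)
    (fun x hx => res_mem_Fsub w V T _ x hx) ?_ ?_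
  · obtain ⟨c, hc⟩ := hunit.exists_left_inv
    refine ⟨φ' c, app_mem_Fsub w V T _ c, ?_⟩
    rw [hρφ, ← map_mul, hc, map_one]
  · intro x' hx'
    unfold Fsub at hx'
    induction hx' using Subring.closure_induction with
    | mem x' hx' =>
      rcases hx' with ⟨s', rfl⟩ | ⟨hint, j', hj', t, ht, rfl⟩
      · haveI := hU.isLocalization_basicOpen r
        obtain ⟨⟨s, ⟨_, n, rfl⟩⟩, hs⟩ := IsLocalization.surj (Submonoid.powers r) s'
        refine ⟨n, φ s, app_mem_Fsub w V T U.1 s, ?_⟩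
        rw [hρφ, hρφ, ← map_pow, ← map_mul]
        congr 1
        rw [← map_pow]
        exact hs
      · haveI := hU.isLocalization_basicOpen r
        obtain ⟨⟨a, ⟨_, k, rfl⟩⟩, ha⟩ := IsLocalization.surj (Submonoid.powers r) j'
        have ha' : j' * resY (Y.basicOpen_le r) r ^ k = resY (Y.basicOpen_le r) a := by
          rw [← map_pow]; exact ha
        -- the element `y`
        set y := φ a * resTop w U.1 t with hy
        have hρy : ρ y = φ' j' * resTop w (Y.basicOpen r) t * ρ (φ r) ^ k := by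
          rw [hy, map_mul, hρφ, res_resTop, ← ha', map_mul, hρφ, map_pow]
          ring
        have hinty : φ'.IsIntegralElem (ρ y) := by
          rw [hρy]
          refine RingHom.IsIntegralElem.mul _ hint ?_
          rw [hρφ, ← map_pow]
          exact RingHom.isIntegralElem_map _
        obtain ⟨k₂, hk₂⟩ := isIntegralElem_comp_of_isLocalization w hU r (ρ y) hinty
        have hcomp : φ'.comp (resY (Y.basicOpen_le r)) = ρ.comp φ := by
          ext s
          exact (hρφ s).symm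
        rw [hcomp] at hk₂
        have hk₂' : (ρ.comp φ).IsIntegralElem (ρ (φ r ^ k₂ * y)) := by
          rw [map_mul, map_pow, hρφ]
          exact hk₂
        obtain ⟨m, hm⟩ := exists_pow_mul_isIntegralElem φ ρ r
          (isLocalization_away_res w U.1 r (hV' U.1).1 (hV' U.1).2) (φ r ^ k₂ * y) hk₂'
        -- the generator
        set j := r ^ (m + k₂ + 1) * a with hj
        have hgen : φ j * resTop w U.1 t = φ r * (φ r ^ m * (φ r ^ k₂ * y)) := by
          rw [hj, hy, map_mul, map_pow]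
          ring
        have hjV : Y.basicOpen j ≤ V := by
          have h1 : Y.basicOpen j = Y.basicOpen r ⊓ Y.basicOpen a := by
            rw [hj, Scheme.basicOpen_mul, Scheme.basicOpen_pow _ _ (Nat.succ_pos _)]
          have h2 : Y.basicOpen (resY (Y.basicOpen_le r) a) = Y.basicOpen r ⊓ Y.basicOpen a :=
            basicOpen_resY _ a
          have h3 : Y.basicOpen (resY (Y.basicOpen_le r) a) = Y.basicOpen j' := by
            rw [← ha', Scheme.basicOpen_mul,
              Scheme.basicOpen_of_isUnit _ (hunit.pow k)]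
            exact inf_eq_left.mpr (Y.basicOpen_le j')
          rw [h1, ← h2, h3]
          exact hj'
        refine ⟨m + k₂ + 1 + k, φ j * resTop w U.1 t, ?_, ?_⟩
        · refine Subring.subset_closure (Or.inr ⟨?_, j, hjV, t, ht, rfl⟩)
          rw [hgen]
          exact RingHom.IsIntegralElem.mul _ (RingHom.isIntegralElem_map _) hm
        · rw [hgen, map_mul, map_mul, map_pow, map_mul, map_pow, hρy]
          ring
    | zero => exact ⟨0, 0, Subring.zero_mem _, by simp⟩
    | one => exact ⟨0, 1, Subring.one_mem _, by simp⟩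
    | add x y _ _ hx hy =>
      obtain ⟨n₁, x₁, hx₁, e₁⟩ := hx
      obtain ⟨n₂, x₂, hx₂, e₂⟩ := hy
      refine ⟨n₁ + n₂, x₁ * φ r ^ n₂ + x₂ * φ r ^ n₁, ?_, ?_⟩
      · exact Subring.add_mem _
          (Subring.mul_mem _ hx₁ (Subring.pow_mem _ (app_mem_Fsub w V T U.1 r) _))
          (Subring.mul_mem _ hx₂ (Subring.pow_mem _ (app_mem_Fsub w V T U.1 r) _))
      · rw [map_add, map_mul, map_mul, map_pow, map_pow, ← e₁, ← e₂]
        ring
    | neg x _ hx =>
      obtain ⟨n₁, x₁, hx₁, e₁⟩ := hx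
      exact ⟨n₁, -x₁, Subring.neg_mem _ hx₁, by rw [map_neg, ← e₁]; ring⟩
    | mul x y _ _ hx hy =>
      obtain ⟨n₁, x₁, hx₁, e₁⟩ := hx
      obtain ⟨n₂, x₂, hx₂, e₂⟩ := hy
      refine ⟨n₁ + n₂, x₁ * x₂, Subring.mul_mem _ hx₁ hx₂, ?_⟩
      rw [map_mul, ← e₁, ← e₂]
      ring

end Sch2

section Sch3

variable {Y V' : Scheme.{u}} (w : V' ⟶ Y) (V : Y.Opens) (T : Set Γ(V', ⊤))

/-- the ideal of admissible multipliers of `t`. -/
def genIdeal (U : Y.Opens) (t : Γ(V', ⊤)) : Ideal Γ(Y, U) where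
  carrier := {j | Y.basicOpen j ≤ V ∧
    (w.app U).hom.IsIntegralElem ((w.app U).hom j * resTop w U t)}
  add_mem' := by
    rintro j j' ⟨h1, h2⟩ ⟨h1', h2'⟩
    refine ⟨(Scheme.basicOpen_add_le Y j j').trans (sup_le h1 h1'), ?_⟩
    rw [map_add, add_mul]
    exact RingHom.IsIntegralElem.add _ h2 h2'
  zero_mem' := by
    refine ⟨?_, ?_⟩
    · rw [Scheme.basicOpen_zero]; exact bot_le
    · rw [map_zero, zero_mul]; exact RingHom.isIntegralElem_zero _
  smul_mem' := by
    rintro a j ⟨h1, h2⟩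
    refine ⟨?_, ?_⟩
    · rw [smul_eq_mul, Scheme.basicOpen_mul]
      exact inf_le_right.trans h1
    · rw [smul_eq_mul, map_mul, mul_assoc]
      exact RingHom.IsIntegralElem.mul _ (RingHom.isIntegralElem_map _) h2

theorem isIntegralElem_of_mem_Fsub (U : Y.Opens) (x : Γ(V', w ⁻¹ᵁ U))
    (hx : x ∈ Fsub w V T U) : (w.app U).hom.IsIntegralElem x := by
  unfold Fsub at hx
  induction hx using Subring.closure_induction with
  | mem x hx =>
    rcases hx with ⟨s, rfl⟩ | ⟨hint, -⟩
    · exact RingHom.isIntegralElem_map _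
    · exact hint
  | zero => exact RingHom.isIntegralElem_zero _
  | one => exact RingHom.isIntegralElem_one _
  | add x y _ _ hx hy => exact RingHom.IsIntegralElem.add _ hx hy
  | neg x _ hx => exact RingHom.IsIntegralElem.neg _ hx
  | mul x y _ _ hx hy => exact RingHom.IsIntegralElem.mul _ hx hy

theorem finite_codRestrict (hT : T.Finite) (U : Y.Opens) [IsNoetherianRing Γ(Y, U)] :
    ((w.app U).hom.codRestrict (Fsub w V T U) (fun s => app_mem_Fsub w V T U s)).Finite := by
  classical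
  set φ := (w.app U).hom with hφ
  letI algB : Algebra Γ(Y, U) Γ(V', w ⁻¹ᵁ U) := φ.toAlgebra
  -- finite generating sets of the ideals
  have hfg : ∀ t : Γ(V', ⊤), ∃ S : Finset Γ(Y, U), Ideal.span (S : Set Γ(Y, U)) = genIdeal w V U t :=
    fun t => (IsNoetherian.noetherian (genIdeal w V U t))
  choose S hS using hfg
  set G₀ : Set Γ(V', w ⁻¹ᵁ U) :=
    ⋃ t ∈ T, (fun j => φ j * resTop w U t) '' (S t : Set Γ(Y, U)) with hG₀
  have hG₀fin : G₀.Finite := by
    apply Set.Finite.biUnion hT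
    intro t _
    exact (Finset.finite_toSet _).image _
  have hmemI : ∀ t, ∀ j ∈ S t, j ∈ genIdeal w V U t := by
    intro t j hj
    rw [← hS t]
    exact Ideal.subset_span hj
  have hG₀gens : G₀ ⊆ gens w V T U := by
    intro x hx
    rw [hG₀, Set.mem_iUnion₂] at hx
    obtain ⟨t, ht, j, hj, rfl⟩ := hx
    obtain ⟨h1, h2⟩ := hmemI t j hj
    exact ⟨h2, j, h1, t, ht, rfl⟩
  have hG₀int : ∀ x ∈ G₀, IsIntegral Γ(Y, U) x := fun x hx => (hG₀gens hx).1
  set A₀ := Algebra.adjoin Γ(Y, U) G₀ with hA₀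
  have hA₀fg : A₀.toSubmodule.FG := fg_adjoin_of_finite hG₀fin hG₀int
  have hA₀F : ∀ x ∈ A₀, x ∈ Fsub w V T U := by
    intro x hx
    induction hx using Algebra.adjoin_induction with
    | mem x hx => exact Subring.subset_closure (Or.inr (hG₀gens hx))
    | algebraMap r => exact app_mem_Fsub w V T U r
    | add x y _ _ hx hy => exact Subring.add_mem _ hx hy
    | mul x y _ _ hx hy => exact Subring.mul_mem _ hx hy
  have key : ∀ t ∈ T, ∀ j ∈ Ideal.span (S t : Set Γ(Y, U)), φ j * resTop w U t ∈ A₀ := by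
    intro t ht j hjI
    induction hjI using Submodule.span_induction with
    | mem j hj' =>
      refine Algebra.subset_adjoin ?_
      rw [hG₀, Set.mem_iUnion₂]
      exact ⟨t, ht, j, hj', rfl⟩
    | zero => rw [map_zero, zero_mul]; exact Subalgebra.zero_mem _
    | add j j' _ _ h1 h2 =>
      rw [map_add, add_mul]
      exact Subalgebra.add_mem _ h1 h2
    | smul a j _ h1 =>
      rw [smul_eq_mul, map_mul, mul_assoc]
      exact Subalgebra.mul_mem _ (Subalgebra.algebraMap_mem A₀ a) h1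
  have hFA₀ : ∀ x ∈ Fsub w V T U, x ∈ A₀ := by
    intro x hx
    unfold Fsub at hx
    induction hx using Subring.closure_induction with
    | mem x hx =>
      rcases hx with ⟨s, rfl⟩ | ⟨hint, j, hj, t, ht, rfl⟩
      · exact Subalgebra.algebraMap_mem A₀ s
      · have hjI : j ∈ Ideal.span (S t : Set Γ(Y, U)) := by
          rw [hS t]; exact ⟨hj, hint⟩
        exact key t ht j hjI
    | zero => exact Subalgebra.zero_mem _
    | one => exact Subalgebra.one_mem _
    | add x y _ _ hx hy => exact Subalgebra.add_mem _ hx hy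
    | neg x _ hx => exact Subalgebra.neg_mem _ hx
    | mul x y _ _ hx hy => exact Subalgebra.mul_mem _ hx hy
  -- transfer finiteness
  set ψ := φ.codRestrict (Fsub w V T U) (fun s => app_mem_Fsub w V T U s) with hψ
  letI algF : Algebra Γ(Y, U) (Fsub w V T U) := ψ.toAlgebra
  haveI : Module.Finite Γ(Y, U) A₀ := Module.Finite.iff_fg.mpr hA₀fg
  let L : A₀ →ₗ[Γ(Y, U)] Fsub w V T U :=
    { toFun := fun x => ⟨x.1, hA₀F x.1 x.2⟩
      map_add' := fun _ _ => rfl
      map_smul' := fun r x => by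
        apply Subtype.ext
        show (r • x : A₀).1 = φ r * x.1
        rfl }
  have hL : Function.Surjective L := fun x => ⟨⟨x.1, hFA₀ x.1 x.2⟩, rfl⟩
  exact Module.Finite.of_surjective L hL

end Sch3

open Groth.Agent.Helper13QCAlgOfAffine

section Ext

variable {Y V' : Scheme.{u}} (w : V' ⟶ Y) (V : Y.Opens) (T : Set Γ(V', ⊤))

theorem isFinite_π [IsLocallyNoetherian Y] (hT : T.Finite) (H : (α w V T).Coequifibered) :
    IsFinite (π H) := by
  refine { toIsAffineHom := inferInstance, finite_app := fun U hU => ?_ }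
  haveI : IsNoetherianRing Γ(Y, U) := IsLocallyNoetherian.component_noetherian ⟨U, hU⟩
  have h1 : (strAff (α w V T) U hU).hom.Finite := finite_codRestrict w V T hT U
  rw [← π_app_gammaAff H U hU] at h1
  exact (RingHom.finite_respectsIso.cancel_right_isIso ((π H).app U) (gammaAff H U hU)).mp h1

theorem isIso_map_le_top (O : V'.Opens) (h : ⊤ ≤ O) :
    IsIso (V'.presheaf.map (homOfLE (le_top : O ≤ ⊤)).op) := by
  have : IsIso (homOfLE (le_top : O ≤ ⊤)) := ⟨homOfLE h, rfl, rfl⟩
  infer_instance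

theorem resTop_surjective (U : Y.Opens) (h : ⊤ ≤ w ⁻¹ᵁ U) : Function.Surjective (resTop w U) := by
  have := isIso_map_le_top (w ⁻¹ᵁ U) h
  exact ((ConcreteCategory.isIso_iff_bijective
    (V'.presheaf.map (homOfLE (le_top : w ⁻¹ᵁ U ≤ ⊤)).op)).mp this).2

theorem Fsub_eq_top (h : ⊤ ≤ w ⁻¹ᵁ V) (hint : (w.app V).hom.IsIntegral)
    (hT : Subring.closure (Set.range (w.app V).hom ∪ resTop w V '' T) = ⊤) :
    Fsub w V T V = ⊤ := by
  rw [eq_top_iff, ← hT]
  unfold Fsub
  refine Subring.closure_le.mpr ?_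
  rintro x (hx | ⟨t, ht, rfl⟩)
  · exact Subring.subset_closure (Or.inl hx)
  · refine Subring.subset_closure (Or.inr ⟨hint _, 1, Y.basicOpen_le 1, t, ht, ?_⟩)
    rw [map_one, one_mul]

end Ext

section Ext2

variable {Y V' : Scheme.{u}}

theorem finite_app_comp_ι (V : Y.Opens) (hV : IsAffineOpen V) (v : V' ⟶ V.toScheme) [IsFinite v] :
    ((v ≫ V.ι).app V).hom.Finite := by
  have key : (V.ι.app V ≫ v.app (V.ι ⁻¹ᵁ V)).hom.Finite := by
    rw [CommRingCat.hom_comp]
    refine RingHom.Finite.comp ?_ ?_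
    · apply IsFinite.finite_app v
      rw [Scheme.Opens.ι_preimage_self]
      haveI : IsAffine V.toScheme := hV
      exact isAffineOpen_top _
    · rw [Scheme.Opens.ι_app_self]
      refine RingHom.Finite.of_surjective _ ?_
      have : ∀ (O O' : Y.Opens) (h : O = O'), Function.Surjective
          (Y.presheaf.map (eqToHom h).op).hom := by
        intro O O' h
        have : IsIso (Y.presheaf.map (eqToHom h).op) := inferInstance
        exact ((ConcreteCategory.isIso_iff_bijective _).mp this).2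
      exact this _ _ _
  have e : (v ≫ V.ι).app V = V.ι.app V ≫ v.app (V.ι ⁻¹ᵁ V) := Scheme.Hom.comp_app ..
  rw [e]
  exact key

end Ext2

section Ext3

variable {Y V' : Scheme.{u}}

theorem exists_finite_extension [IsNoetherian Y] (V : Y.Opens) (hV : IsAffineOpen V)
    (v : V' ⟶ V.toScheme) [IsFinite v] :
    ∃ (Y' : Scheme.{u}) (p : Y' ⟶ Y) (i : V' ⟶ Y'), IsFinite p ∧ IsPullback i v p V.ι := by
  classical
  set w : V' ⟶ Y := v ≫ V.ι with hw
  haveI : IsAffine V.toScheme := hV
  haveI : IsAffine V' := isAffine_of_isAffineHom v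
  haveI : IsLocallyNoetherian V' := LocallyOfFiniteType.isLocallyNoetherian v
  haveI : IsNoetherian V' := { }
  have hV' : ∀ U : Y.Opens, IsCompact (w ⁻¹ᵁ U : Set V') ∧
      IsQuasiSeparated (w ⁻¹ᵁ U : Set V') := by
    intro U
    refine ⟨NoetherianSpace.isCompact _, ?_⟩
    intro A B _ _ _ _ _ _
    exact NoetherianSpace.isCompact _
  have htop : ⊤ ≤ w ⁻¹ᵁ V := by
    rw [hw, Scheme.Hom.comp_preimage, Scheme.Opens.ι_preimage_self]
    exact le_of_eq rfl
  have hfin : (w.app V).hom.Finite := finite_app_comp_ι V hV v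
  -- generators
  letI alg : Algebra Γ(Y, V) Γ(V', w ⁻¹ᵁ V) := (w.app V).hom.toAlgebra
  obtain ⟨G, hG⟩ := (hfin : Module.Finite Γ(Y, V) Γ(V', w ⁻¹ᵁ V)).fg_top
  have hsurj := resTop_surjective w V htop
  choose g hg using hsurj
  set T : Set Γ(V', ⊤) := g '' (G : Set Γ(V', w ⁻¹ᵁ V)) with hTdef
  have hTfin : T.Finite := (Finset.finite_toSet G).image g
  have himg : resTop w V '' T = (G : Set Γ(V', w ⁻¹ᵁ V)) := by
    rw [hTdef, Set.image_image]
    simp only [hg, Set.image_id']
  have hT : Subring.closure (Set.range (w.app V).hom ∪ resTop w V '' T) = ⊤ := by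
    rw [himg, eq_top_iff]
    intro x _
    have hx : x ∈ Submodule.span Γ(Y, V) (G : Set Γ(V', w ⁻¹ᵁ V)) := by rw [hG]; trivial
    induction hx using Submodule.span_induction with
    | mem x hx => exact Subring.subset_closure (Or.inr hx)
    | zero => exact Subring.zero_mem _
    | add x y _ _ hx hy => exact Subring.add_mem _ (hx trivial) (hy trivial)
    | smul a x _ hx =>
      exact Subring.mul_mem _ (Subring.subset_closure (Or.inl ⟨a, rfl⟩)) (hx trivial)
  have hFtop : Fsub w V T V = ⊤ := Fsub_eq_top w V T htop hfin.to_isIntegral hT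
  have H : (α w V T).Coequifibered := coequifibered w V T hV'
  haveI : IsFinite (π H) := isFinite_π w V T hTfin H
  -- the chart
  let incl : (F w V T).obj (op (aff V hV)) ⟶ Γ(V', w ⁻¹ᵁ V) :=
    CommRingCat.ofHom (Fsub w V T V).subtype
  have hincl : IsIso incl := by
    rw [ConcreteCategory.isIso_iff_bijective]
    refine ⟨Subtype.val_injective, fun x => ⟨⟨x, ?_⟩, rfl⟩⟩
    rw [hFtop]; trivial
  let ψ : (F w V T).obj (op (aff V hV)) ⟶ Γ(V', ⊤) :=
    incl ≫ V'.presheaf.map (homOfLE htop).op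
  have hψiso : IsIso ψ := by
    have : IsIso (homOfLE htop) := ⟨homOfLE le_top, rfl, rfl⟩
    infer_instance
  have hstr : strAff (α w V T) V hV ≫ ψ = w.appLE V ⊤ htop := by
    rw [Scheme.Hom.appLE, ← Category.assoc]
    rfl
  let i : V' ⟶ spec H := V'.isoSpec.hom ≫ Spec.map ψ ≫ ι H V hV
  have hiπ : i ≫ π H = w := by
    simp only [i, Category.assoc]
    rw [ι_π, ← Spec.map_comp_assoc, hstr,
      IsAffineOpen.SpecMap_appLE_fromSpec w hV (isAffineOpen_top V') htop,
      IsAffineOpen.fromSpec_top, Iso.hom_inv_id_assoc]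
  refine ⟨spec H, π H, i, inferInstance, ?_⟩
  refine (IsOpenImmersion.isPullback v i V.ι (π H) hiπ ?_).flip
  rw [Scheme.Opens.opensRange_ι, π_preimage H V hV]
  simp only [i]
  rw [Scheme.Hom.opensRange_comp_of_isIso, Scheme.Hom.opensRange_comp_of_isIso]

end Ext3

end Groth.Agent.R2.H19.FinExt
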