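import Groth.Agent.R2.H19FinExt
import Groth.Agent.Lib.Helper7UnivOpen
import Groth.Agent.Lib.Helper10IntDim
import Groth.Agent.Lib.Helper26UnivOpenAt
import Groth.Agent.S4925
import Groth.Agent.S4926

set_option autoImplicit false
set_option linter.style.haveILetI false
universe u

open CategoryTheory CategoryTheory.Limits AlgebraicGeometry TopologicalSpace EGA43
open Groth.Agent.Lib.Helper7 Groth.Agent.Lib.Helper26.UnivOpenAt

namespace Groth.Agent.R2.H19.FinOpen


/-- openness at the points over `x` of all finite base changes. -/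
def FinOpenAt {X Y : Scheme.{u}} (f : X ⟶ Y) (x : X) : Prop :=
  ∀ (Y' : Scheme.{u}) (g : Y' ⟶ Y) [IsFinite g] (x' : ↥(pullback f g)),
    (pullback.fst f g).base x' = x → IsOpenAt (pullback.snd f g).base x'

/-- `x` is a maximal point of its fibre. -/
def MaxInFibre {X Y : Scheme.{u}} (f : X ⟶ Y) (x : X) : Prop :=
  ∀ x' : X, f.base x' = f.base x → x' ⤳ x → x' = x

theorem finOpenAt_of_isUnivOpenAt {X Y : Scheme.{u}} (f : X ⟶ Y) (x : X) (h : IsUnivOpenAt f x) :
    FinOpenAt f x := fun Y' g _ x' hx' => h Y' g x' hx'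

/-- FO1 -/
theorem FinOpenAt.isOpenAt_of_isPullback {P X Y Y' : Scheme.{u}} {a : P ⟶ X} {b : P ⟶ Y'}
    {f : X ⟶ Y} {g : Y' ⟶ Y} [IsFinite g] (sq : IsPullback a b f g) {x : X} (h : FinOpenAt f x)
    (p : P) (hp : a.base p = x) : IsOpenAt b.base p := by
  have h1 : IsOpenAt (pullback.snd f g).base (sq.isoPullback.hom.base p) := by
    refine h Y' g _ ?_
    rw [← Scheme.Hom.comp_apply, sq.isoPullback_hom_fst, hp]
  have h2 : IsOpenAt sq.isoPullback.hom.base p :=
    isOpenAt_of_isOpenMap (sq.isoPullback.hom.homeomorph.isOpenMap) p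
  have h3 := isOpenAt_comp _ _ p h2 h1
  have h4 : (pullback.snd f g).base ∘ sq.isoPullback.hom.base = b.base := by
    have := congrArg (fun φ : P ⟶ Y' => (φ.base : P → Y')) sq.isoPullback_hom_snd
    exact this
  rw [← h4]; exact h3

/-- FO2 -/
theorem FinOpenAt.of_isPullback {P X Y Y' : Scheme.{u}} {a : P ⟶ X} {b : P ⟶ Y'}
    {f : X ⟶ Y} {g : Y' ⟶ Y} [IsFinite g] (sq : IsPullback a b f g) {x : X} (h : FinOpenAt f x)
    (p : P) (hp : a.base p = x) : FinOpenAt b p := by
  intro T t _ z hz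
  have sq2 : IsPullback (pullback.fst b t ≫ a) (pullback.snd b t) f (t ≫ g) :=
    (IsPullback.of_hasPullback b t).paste_horiz sq
  refine h.isOpenAt_of_isPullback sq2 z ?_
  rw [Scheme.Hom.comp_apply, hz, hp]

/-- FO3 -/
theorem FinOpenAt.comp_openImmersion {U X Y : Scheme.{u}} (j : U ⟶ X) [IsOpenImmersion j]
    (f : X ⟶ Y) (u : U) (h : FinOpenAt f (j.base u)) : FinOpenAt (j ≫ f) u := by
  intro Y' g _ x' hx'
  let m : pullback (j ≫ f) g ⟶ pullback f g :=
    pullback.lift (pullback.fst (j ≫ f) g ≫ j) (pullback.snd (j ≫ f) g)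
      (by rw [Category.assoc]; exact pullback.condition)
  have hm1 : m ≫ pullback.fst f g = pullback.fst (j ≫ f) g ≫ j := pullback.lift_fst _ _ _
  have hm2 : m ≫ pullback.snd f g = pullback.snd (j ≫ f) g := pullback.lift_snd _ _ _
  have sq : IsPullback m (pullback.fst (j ≫ f) g) (pullback.fst f g) j := by
    refine IsPullback.of_right ?_ hm1 (IsPullback.of_hasPullback f g).flip
    rw [hm2]
    exact (IsPullback.of_hasPullback (j ≫ f) g).flip
  haveI : IsOpenImmersion m := MorphismProperty.of_isPullback sq.flip inferInstance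
  have h1 : IsOpenAt m.base x' := isOpenAt_of_isOpenMap m.isOpenEmbedding.isOpenMap x'
  have h2 : IsOpenAt (pullback.snd f g).base (m.base x') := by
    refine h Y' g _ ?_
    rw [← Scheme.Hom.comp_apply, hm1, Scheme.Hom.comp_apply, hx']
  have h3 := isOpenAt_comp _ _ x' h1 h2
  have h4 : (pullback.snd f g).base ∘ m.base = (pullback.snd (j ≫ f) g).base := by
    have := congrArg (fun φ : pullback (j ≫ f) g ⟶ Y' => (φ.base : _ → Y')) hm2
    exact this
  rw [← h4]; exact h3


/-- openness at a point descends along an injective continuous map on the target. -/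
theorem isOpenAt_of_comp_injective {α β γ : Type*} [TopologicalSpace α] [TopologicalSpace β]
    [TopologicalSpace γ] (p : α → β) (i : β → γ) (hi : Continuous i) (hinj : Function.Injective i)
    (x : α) (h : IsOpenAt (i ∘ p) x) : IsOpenAt p x := by
  intro U hU
  have h1 : (i ∘ p) '' U ∈ nhds (i (p x)) := h U hU
  have h2 : i ⁻¹' ((i ∘ p) '' U) ∈ nhds (p x) := hi.continuousAt.preimage_mem_nhds h1
  refine Filter.mem_of_superset h2 ?_
  rintro b ⟨a, ha, hab⟩
  exact ⟨a, ha, hinj hab⟩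

/-- FO4: restriction to an affine open of a Noetherian target. -/
theorem FinOpenAt.morphismRestrict {X Y : Scheme.{u}} [IsNoetherian Y] (f : X ⟶ Y) (V : Y.Opens)
    (hV : IsAffineOpen V) (x₁ : ↥(f ⁻¹ᵁ V)) (h : FinOpenAt f ((f ⁻¹ᵁ V).ι.base x₁)) :
    FinOpenAt (f ∣_ V) x₁ := by
  intro V' v _ x' hx'
  obtain ⟨Y', π, i, hπ, sq2⟩ := FinExt.exists_finite_extension V hV v
  haveI := hπ
  have sq1 : IsPullback (pullback.fst (f ∣_ V) v) (pullback.snd (f ∣_ V) v) (f ∣_ V) v :=
    IsPullback.of_hasPullback _ _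
  have sq3 : IsPullback (pullback.snd (f ∣_ V) v ≫ i) (pullback.fst (f ∣_ V) v) π
      ((f ∣_ V) ≫ V.ι) := sq1.flip.paste_horiz sq2
  rw [morphismRestrict_ι] at sq3
  have h1 : FinOpenAt ((f ⁻¹ᵁ V).ι ≫ f) x₁ := FinOpenAt.comp_openImmersion (f ⁻¹ᵁ V).ι f x₁ h
  have h2 : IsOpenAt (pullback.snd (f ∣_ V) v ≫ i).base x' :=
    h1.isOpenAt_of_isPullback sq3.flip x' hx'
  haveI : IsOpenImmersion i := MorphismProperty.of_isPullback sq2.flip inferInstance
  refine isOpenAt_of_comp_injective _ i.base i.continuous i.isOpenEmbedding.injective x' ?_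
  have h4 : i.base ∘ (pullback.snd (f ∣_ V) v).base = (pullback.snd (f ∣_ V) v ≫ i).base := by
    ext z
    simp
  rw [h4]; exact h2

/-- FO5: composition with an isomorphism on the target. -/
theorem FinOpenAt.comp_iso {X Y Z : Scheme.{u}} (f : X ⟶ Y) (e : Y ⟶ Z) [IsIso e] (x : X)
    (h : FinOpenAt f x) : FinOpenAt (f ≫ e) x := by
  intro Y' g _ x' hx'
  have sq : IsPullback (pullback.fst (f ≫ e) g) (pullback.snd (f ≫ e) g) (f ≫ e) g :=
    IsPullback.of_hasPullback _ _
  have sqR : IsPullback (𝟙 X) f (f ≫ e) e := IsPullback.of_horiz_isIso ⟨by simp⟩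
  have sq' : IsPullback (pullback.fst (f ≫ e) g) (pullback.snd (f ≫ e) g) f (g ≫ inv e) := by
    refine IsPullback.of_right ?_ ?_ sqR
    · simpa using sq
    · rw [← Category.assoc, ← pullback.condition]
      simp
  exact h.isOpenAt_of_isPullback sq' x' hx'

/-- maximality in the fibre along a commutative square with injective `j`. -/
theorem MaxInFibre.of_square {X' Y' X Y : Scheme.{u}} (j : X' ⟶ X) (k : Y' ⟶ Y) (f' : X' ⟶ Y')
    (f : X ⟶ Y) (comm : j ≫ f = f' ≫ k) (hj : Function.Injective j.base) (x' : X')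
    (h : MaxInFibre f (j.base x')) : MaxInFibre f' x' := by
  intro z hz hsp
  apply hj
  refine h (j.base z) ?_ (hsp.map j.continuous)
  have e : ∀ w : X', f.base (j.base w) = k.base (f'.base w) := by
    intro w
    rw [← Scheme.Hom.comp_apply, comm, Scheme.Hom.comp_apply]
  rw [e, e, hz]

/-- maximality in the fibre along integral base change. -/
theorem MaxInFibre.of_isPullback_integral {P X Y Y' : Scheme.{u}} {a : P ⟶ X} {b : P ⟶ Y'}
    {f : X ⟶ Y} {g : Y' ⟶ Y} [IsIntegralHom g] (sq : IsPullback a b f g) (p : P)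
    (h : MaxInFibre f (a.base p)) : MaxInFibre b p := by
  intro z hz hsp
  haveI : IsIntegralHom a := MorphismProperty.of_isPullback sq.flip inferInstance
  refine Groth.Agent.Lib.Helper10.IntDim.eq_of_specializes_of_isIntegralHom a hsp ?_
  refine h (a.base z) ?_ (hsp.map a.continuous)
  have e : ∀ w : P, f.base (a.base w) = g.base (b.base w) := by
    intro w
    rw [← Scheme.Hom.comp_apply, sq.w, Scheme.Hom.comp_apply]
  rw [e, e, hz]

/-- globalization: from the restriction over an open of the target. -/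
theorem isUnivOpenAt_of_morphismRestrict {X Y : Scheme.{u}} (f : X ⟶ Y) (V : Y.Opens)
    (x₁ : ↥(f ⁻¹ᵁ V)) (h : IsUnivOpenAt (f ∣_ V) x₁) :
    IsUnivOpenAt f ((f ⁻¹ᵁ V).ι.base x₁) := by
  have h8 : IsUnivOpenAt ((f ∣_ V) ≫ V.ι) x₁ :=
    Groth.Agent.S4925.result _ _ _ h (isUnivOpenAt_of_universallyOpen _ _)
  rw [morphismRestrict_ι] at h8
  exact Groth.Agent.S4926.result _ _ _ h8

/-- transport of universal openness at a point along isomorphisms. -/
theorem isUnivOpenAt_of_iso {X X' Y Y' : Scheme.{u}} (f : X ⟶ Y) (f' : X' ⟶ Y') (e₁ : X ⟶ X')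
    (e₂ : Y ⟶ Y') [IsIso e₁] [IsIso e₂] (comm : f ≫ e₂ = e₁ ≫ f') (x : X)
    (h : IsUnivOpenAt f' (e₁.base x)) : IsUnivOpenAt f x := by
  have h1 : IsUnivOpenAt (e₁ ≫ f') x :=
    Groth.Agent.S4925.result e₁ f' x (isUnivOpenAt_of_universallyOpen _ _) h
  have h2 : IsUnivOpenAt ((e₁ ≫ f') ≫ inv e₂) x :=
    Groth.Agent.S4925.result _ _ x h1 (isUnivOpenAt_of_universallyOpen _ _)
  have e : (e₁ ≫ f') ≫ inv e₂ = f := by
    rw [← comm]; simp
  rw [e] at h2
  exact h2

end Groth.Agent.R2.H19.FinOpen
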