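import Groth.Agent.Lib.Helper3LocDimBC
import Groth.Agent.Lib.Helper4DimFormulaAP
import Groth.Agent.Lib.Helper4DimFormulaAN
import Groth.Agent.Lib.Helper4DimFormulaT
import Groth.Agent.Lib.Helper6EquiSubC

set_option autoImplicit false
set_option linter.style.haveILetI false
universe u

open AlgebraicGeometry CategoryTheory CategoryTheory.Limits TopologicalSpace Topology

namespace Groth.Agent.R2.H19.TrdegBC

open Groth.Agent.Lib.Helper4.VarDim Groth.Agent.Lib.Helper4.FibDim
  Groth.Agent.Lib.Helper4.DimFormula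

variable {X S T XT : Scheme.{u}} (f : X ⟶ S) [LocallyOfFiniteType f] (a : T ⟶ S)
  (b : XT ⟶ X) (fT : XT ⟶ T) (hsq : IsPullback b fT f a)

include hsq in
/-- Points of a base change lying over a fixed point `x`: their residual transcendence degree is
at most that of `x`, and every such point has a generization in its fibre, still over `x`, where
equality holds. -/
theorem ptTrdeg_baseChange_over_point [LocallyOfFiniteType fT] (x : X) :
    (∀ y : XT, b y = x → ptTrdeg fT y ≤ ptTrdeg f x) ∧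
    (∀ y₀ : XT, b y₀ = x → ∃ w : XT, w ⤳ y₀ ∧ fT w = fT y₀ ∧ b w = x ∧
      ptTrdeg fT w = ptTrdeg f x) := by
  obtain ⟨V, ι, hι, hrange⟩ := exists_isClosedImmersion_range_eq X (closure {x}) isClosed_closure
  obtain ⟨x₀, hx₀⟩ : x ∈ Set.range ι.base := hrange ▸ subset_closure rfl
  have hx₀' : ι x₀ = x := hx₀
  set h : V ⟶ S := ι ≫ f with hh
  -- `x₀` is the generic point of `V`
  have hgen : ∀ v : V, x₀ ⤳ v := by
    intro v
    rw [← ι.isEmbedding.isInducing.specializes_iff]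
    rw [hx₀', specializes_iff_mem_closure, ← hrange]
    exact ⟨v, rfl⟩
  have hmax : ∀ y : V, h y = h x₀ → y ⤳ x₀ → y = x₀ := fun y _ hy =>
    (hy.antisymm (hgen y)).eq
  have hfd : FlatMor.fibreDimAt h x₀ = (ptTrdeg f x : WithBot ℕ∞) := by
    rw [fibreDimAt_eq_ptTrdeg_of_maximal h x₀ hmax, hh, ptTrdeg_comp_of_isPreimmersion ι f x₀, hx₀']
  -- the closed subscheme of `XT`
  set ιC : pullback ι b ⟶ XT := pullback.snd ι b with hιC
  set π : pullback ι b ⟶ V := pullback.fst ι b with hπ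
  have sqC : IsPullback π (ιC ≫ fT) h a :=
    (IsPullback.of_hasPullback ι b).paste_vert hsq
  haveI : LocallyOfFiniteType (ιC ≫ fT) := inferInstance
  have hfdC : ∀ c : ↥(pullback ι b), π c = x₀ →
      FlatMor.fibreDimAt (ιC ≫ fT) c = (ptTrdeg f x : WithBot ℕ∞) := by
    intro c hc
    rw [Groth.Agent.Lib.Helper3.LocDimBC.fibreDimAt_eq_of_isPullback h a π (ιC ≫ fT) sqC c, hc, hfd]
  have hlift : ∀ y : XT, b y = x → ∃ c : ↥(pullback ι b), π c = x₀ ∧ ιC c = y := by
    intro y hy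
    exact Scheme.Pullback.exists_preimage_pullback (f := ι) (g := b) x₀ y (hx₀'.trans hy.symm)
  refine ⟨fun y hy => ?_, fun y₀ hy₀ => ?_⟩
  · obtain ⟨c, hc1, hc2⟩ := hlift y hy
    have h1 := Groth.Agent.Lib.Helper4.DimFormula.ptTrdeg_le_fibreDimAt (ιC ≫ fT) c
    rw [hfdC c hc1, ptTrdeg_comp_of_isPreimmersion ιC fT c, hc2] at h1
    exact_mod_cast h1
  · obtain ⟨c₀, hc1, hc2⟩ := hlift y₀ hy₀
    obtain ⟨wC, hw1, hw2, hw3⟩ := exists_ptTrdeg_eq_fibreDimAt (ιC ≫ fT) c₀
    have hπw : π wC = x₀ := by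
      have h1 : π wC ⤳ π c₀ := hw2.map π.continuous
      rw [hc1] at h1
      exact (h1.antisymm (hgen _)).eq
    refine ⟨ιC wC, ?_, ?_, ?_, ?_⟩
    · rw [← hc2]
      exact hw2.map ιC.continuous
    · have : (ιC ≫ fT) wC = (ιC ≫ fT) c₀ := hw1
      rw [Scheme.Hom.comp_apply, Scheme.Hom.comp_apply, hc2] at this
      exact this
    · have e : ιC ≫ b = π ≫ ι := (pullback.condition (f := ι) (g := b)).symm
      have := congrArg (fun φ : pullback ι b ⟶ X => φ wC) e
      simp only [Scheme.Hom.comp_apply] at this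
      rw [this, hπw, hx₀']
    · rw [hfdC c₀ hc1] at hw3
      rw [← ptTrdeg_comp_of_isPreimmersion ιC fT wC]
      exact_mod_cast hw3.symm

end Groth.Agent.R2.H19.TrdegBC
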