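import Groth.Agent.R2.H19FinOpen
import Groth.Agent.R2.H19TrdegBC
import Groth.Agent.Lib.Helper6OpenDimB
import Groth.Agent.Lib.Helper3QFinDim
import Groth.Agent.Lib.Helper4DimFormulaG

set_option autoImplicit false
set_option linter.style.haveILetI false
universe u

open CategoryTheory CategoryTheory.Limits AlgebraicGeometry TopologicalSpace EGA43 TensorProduct
open Groth.Agent.Lib.Helper7 Groth.Agent.Lib.Helper26.UnivOpenAt
open Groth.Agent.Lib.Helper4.DimFormula

namespace Groth.Agent.R2.H19.FinOpen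


/-- C1: the fibre of a quasi-compact morphism locally of finite type has finitely many maximal
points. -/
theorem finite_maxInFibre {X Y : Scheme.{u}} (f : X ⟶ Y) [LocallyOfFiniteType f] [QuasiCompact f]
    (y : Y) : {ξ : X | f.base ξ = y ∧ MaxInFibre f ξ}.Finite := by
  haveI := Groth.Agent.Lib.Helper3.QFinDim.noetherianSpace_fiber f y
  have hfin : (irreducibleComponents ↥(f.fiber y)).Finite :=
    NoetherianSpace.finite_irreducibleComponents
  let Φ : X → Set ↥(f.fiber y) := fun ξ => closure ((f.fiberι y).base ⁻¹' {ξ})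
  have hpre : ∀ z : ↥(f.fiber y), (f.fiberι y).base ⁻¹' {(f.fiberι y).base z} = {z} := by
    intro z
    ext w
    simp only [Set.mem_preimage, Set.mem_singleton_iff]
    exact ⟨fun h => (f.fiberι y).isEmbedding.injective h, fun h => by rw [h]⟩
  have hex : ∀ ξ : X, f.base ξ = y → ∃ z : ↥(f.fiber y), (f.fiberι y).base z = ξ := by
    intro ξ hξ
    have : ξ ∈ Set.range (f.fiberι y).base := by rw [f.range_fiberι]; exact hξ
    exact this
  refine Set.Finite.of_injOn (f := Φ) (t := irreducibleComponents ↥(f.fiber y)) ?_ ?_ hfin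
  · rintro ξ ⟨hξ, hmax⟩
    obtain ⟨z, rfl⟩ := hex ξ hξ
    show closure _ ∈ _
    rw [hpre]
    apply Groth.Agent.Lib.Helper4.DimFormula.mem_irreducibleComponents_of_forall_specializes
    intro w hw
    apply (f.fiberι y).isEmbedding.injective
    refine hmax _ ?_ (hw.map (f.fiberι y).continuous)
    have h1 : (f.fiberι y).base w ∈ Set.range (f.fiberι y).base := ⟨w, rfl⟩
    rw [f.range_fiberι] at h1
    exact h1.trans hξ.symm
  · rintro ξ₁ ⟨hξ₁, -⟩ ξ₂ ⟨hξ₂, -⟩ h12
    obtain ⟨z₁, rfl⟩ := hex ξ₁ hξ₁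
    obtain ⟨z₂, rfl⟩ := hex ξ₂ hξ₂
    have h12' : closure ({z₁} : Set ↥(f.fiber y)) = closure {z₂} := by
      have := h12
      simp only [Φ, hpre] at this
      exact this
    have s1 : z₁ ⤳ z₂ := by
      rw [specializes_iff_mem_closure, h12']; exact subset_closure rfl
    have s2 : z₂ ⤳ z₁ := by
      rw [specializes_iff_mem_closure, ← h12']; exact subset_closure rfl
    rw [(s1.antisymm s2).eq]

/-- C2: points of a pullback square. -/
theorem exists_preimage_of_isPullback {P X Y Y' : Scheme.{u}} {a : P ⟶ X} {b : P ⟶ Y'}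
    {f : X ⟶ Y} {g : Y' ⟶ Y} (sq : IsPullback a b f g) (x : X) (y' : Y')
    (h : f.base x = g.base y') : ∃ p : P, a.base p = x ∧ b.base p = y' := by
  obtain ⟨q, hq1, hq2⟩ := Scheme.Pullback.exists_preimage_pullback (f := f) (g := g) x y' h
  refine ⟨sq.isoPullback.inv.base q, ?_, ?_⟩
  · rw [← Scheme.Hom.comp_apply, sq.isoPullback_inv_fst]; exact hq1
  · rw [← Scheme.Hom.comp_apply, sq.isoPullback_inv_snd]; exact hq2

section Tensor

variable (R B S : Type u) [CommRing R] [CommRing B] [CommRing S] [Algebra R B] [Algebra R S]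

/-- the image of `B ⊗ A` in `B ⊗ S`. -/
noncomputable def rangeOf (A : Subalgebra R S) : Subalgebra R (B ⊗[R] S) :=
  (Algebra.TensorProduct.map (AlgHom.id R B) A.val).range

theorem rangeOf_mono {A A' : Subalgebra R S} (hle : A ≤ A') : rangeOf R B S A ≤ rangeOf R B S A' := by
  rintro _ ⟨δ, rfl⟩
  refine ⟨Algebra.TensorProduct.map (AlgHom.id R B) (Subalgebra.inclusion hle) δ, ?_⟩
  have e : (Algebra.TensorProduct.map (AlgHom.id R B) A'.val).comp
      (Algebra.TensorProduct.map (AlgHom.id R B) (Subalgebra.inclusion hle)) =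
      Algebra.TensorProduct.map (AlgHom.id R B) A.val := by
    apply Algebra.TensorProduct.ext'
    intro b a
    simp only [AlgHom.comp_apply, Algebra.TensorProduct.map_tmul, AlgHom.id_apply,
      Subalgebra.val_apply, Subalgebra.coe_inclusion]
  exact AlgHom.congr_fun e δ

theorem tmul_mem_rangeOf (A : Subalgebra R S) (b : B) (s : S) (hs : s ∈ A) :
    b ⊗ₜ[R] s ∈ rangeOf R B S A := by
  refine ⟨b ⊗ₜ ⟨s, hs⟩, ?_⟩
  show Algebra.TensorProduct.map (AlgHom.id R B) A.val (b ⊗ₜ ⟨s, hs⟩) = _
  rw [Algebra.TensorProduct.map_tmul]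
  rfl

theorem exists_finset_mem_rangeOf (β : B ⊗[R] S) :
    ∃ T : Finset S, β ∈ rangeOf R B S (Algebra.adjoin R (T : Set S)) := by
  classical
  induction β using TensorProduct.induction_on with
  | zero => exact ⟨∅, Subalgebra.zero_mem _⟩
  | tmul b s =>
    exact ⟨{s}, tmul_mem_rangeOf R B S _ b s (Algebra.subset_adjoin (by simp))⟩
  | add β₁ β₂ h₁ h₂ =>
    obtain ⟨T₁, hT₁⟩ := h₁
    obtain ⟨T₂, hT₂⟩ := h₂
    refine ⟨T₁ ∪ T₂, Subalgebra.add_mem _
      (rangeOf_mono R B S (Algebra.adjoin_mono ?_) hT₁)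
      (rangeOf_mono R B S (Algebra.adjoin_mono ?_) hT₂)⟩
    · exact_mod_cast Finset.subset_union_left
    · exact_mod_cast Finset.subset_union_right

end Tensor



section SpecSq

variable (R B T : Type u) [CommRing R] [CommRing B] [CommRing T] [Algebra R B] [Algebra R T]

/-- the structure morphism `Spec B ⟶ Spec R`. -/
noncomputable abbrev str : Spec (CommRingCat.of B) ⟶ Spec (CommRingCat.of R) :=
  Spec.map (CommRingCat.ofHom (algebraMap R B))

/-- the projection `Spec (B ⊗ T) ⟶ Spec B`. -/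
noncomputable def pB : Spec (CommRingCat.of (B ⊗[R] T)) ⟶ Spec (CommRingCat.of B) :=
  Spec.map (CommRingCat.ofHom Algebra.TensorProduct.includeLeftRingHom)

/-- the projection `Spec (B ⊗ T) ⟶ Spec T`. -/
noncomputable def fT : Spec (CommRingCat.of (B ⊗[R] T)) ⟶ Spec (CommRingCat.of T) :=
  Spec.map (CommRingCat.ofHom Algebra.TensorProduct.includeRight.toRingHom)

theorem sqSpec : IsPullback (pB R B T) (fT R B T) (str R B) (str R T) :=
  isPullback_SpecMap_of_isPushout _ _ _ _ (CommRingCat.isPushout_tensorProduct R B T)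

variable {R T}
variable {A : Type u} [CommRing A] [Algebra R A] (ψ : A →ₐ[R] T)

/-- the transition morphism. -/
noncomputable def tr : Spec (CommRingCat.of (B ⊗[R] T)) ⟶ Spec (CommRingCat.of (B ⊗[R] A)) :=
  Spec.map (CommRingCat.ofHom (Algebra.TensorProduct.map (AlgHom.id R B) ψ).toRingHom)

theorem tr_pB : tr B ψ ≫ pB R B A = pB R B T := by
  unfold tr pB
  rw [← Spec.map_comp]
  congr 1
  ext b
  simp

theorem tr_fT : tr B ψ ≫ fT R B A = fT R B T ≫ Spec.map (CommRingCat.ofHom ψ.toRingHom) := by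
  unfold tr fT
  rw [← Spec.map_comp, ← Spec.map_comp]
  congr 1

theorem str_comp : Spec.map (CommRingCat.ofHom ψ.toRingHom) ≫ str R A = str R T := by
  unfold str
  rw [← Spec.map_comp]
  congr 1
  ext r
  simp

theorem sqTr : IsPullback (tr B ψ) (fT R B T) (fT R B A)
    (Spec.map (CommRingCat.ofHom ψ.toRingHom)) := by
  refine IsPullback.of_right ?_ (tr_fT B ψ) (sqSpec R B A)
  rw [tr_pB, str_comp]
  exact sqSpec R B T

end SpecSq



/-- the residual transcendence degree of a maximal point of a fibre of a base change. -/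
theorem ptTrdeg_eq_of_isPullback_of_maxInFibre {P X Y Y' : Scheme.{u}} {a : P ⟶ X} {b : P ⟶ Y'}
    {f : X ⟶ Y} {g : Y' ⟶ Y} [LocallyOfFiniteType f] [LocallyOfFiniteType b]
    (sq : IsPullback a b f g) (p : P) (h : MaxInFibre b p) :
    ptTrdeg b p = ptTrdeg f (a.base p) := by
  obtain ⟨w, hw1, hw2, -, hw4⟩ :=
    (Groth.Agent.R2.H19.TrdegBC.ptTrdeg_baseChange_over_point f g a b sq (a.base p)).2 p rfl
  rw [← hw4, h w hw2 hw1]

section Key

variable (R B S : Type u) [CommRing R] [IsNoetherianRing R] [CommRing B] [Algebra R B]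
  [Algebra.FiniteType R B] [CommRing S] [IsDomain S] [Algebra R S] [Algebra.IsIntegral R S]

instance : LocallyOfFiniteType (str R B) := by
  rw [HasRingHomProperty.Spec_iff (P := @LocallyOfFiniteType)]
  exact (RingHom.finiteType_algebraMap).mpr inferInstance

instance (T : Type u) [CommRing T] [Algebra R T] : LocallyOfFiniteType (fT R B T) :=
  MorphismProperty.of_isPullback (sqSpec R B T) inferInstance

/-- the generic point of the spectrum of a domain. -/
noncomputable def genPt (T : Type u) [CommRing T] [IsDomain T] : Spec (CommRingCat.of T) :=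
  (⟨⊥, Ideal.isPrime_bot⟩ : PrimeSpectrum T)

end Key


end Groth.Agent.R2.H19.FinOpen
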