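import Mathlib
import Groth.Prelude.Def_EGA43
import Groth.Agent.Lib.Helper6UniA
import Groth.Agent.Lib.Helper6UniB
import Groth.Agent.Lib.Helper3ValTrdeg
import Groth.Agent.Lib.Helper6QFAffB
import Groth.Agent.Lib.Helper6ValRing
import Groth.Agent.Lib.Helper6ValImg
import Groth.Agent.Lib.Helper26UnivOpenAt
import Groth.Agent.Lib.Helper6LfpComp
import Groth.Agent.R2.H19TrdegBC
import Groth.Agent.S3404
import Groth.Agent.S9812

/-!
# Universal openness at a point of a quasi-finite morphism to affine space (SGA3 VI_B / EGA IV 14)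

`exists_generization_over_generic`: the valuative core.  Over a valuation ring `R`, given
`u : X ⟶ 𝔸ⁿ_S` locally quasi-finite with `f = u ≫ π` universally open at a point `z` of residual
transcendence degree `≥ n` in its fibre, every point `y` of `X ×_{𝔸ⁿ_S} Spec R` over the closed
point of `R` whose image in `X` is a specialization of `z` (in the same fibre) has a generization
over the generic point of `R`.
-/

set_option autoImplicit false
set_option linter.style.haveILetI false
universe u

open CategoryTheory CategoryTheory.Limits AlgebraicGeometry Topology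

namespace Groth.Agent.R2.H19.UnivOpenQF

open Groth.Agent.Lib.Helper4.DimFormula

/-- stalks of the spectrum of an integrally closed domain are geometrically unibranch. -/
theorem isGeomUnibranch_stalk_Spec (R : Type u) [CommRing R] [IsDomain R] [IsIntegrallyClosed R]
    (p : Spec (CommRingCat.of R)) :
    CAlg2.IsGeomUnibranch ((Spec (CommRingCat.of R)).presheaf.stalk p) := by
  haveI : IsIntegrallyClosed (Localization.AtPrime p.asIdeal) :=
    isIntegrallyClosed_of_isLocalization _ p.asIdeal.primeCompl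
      p.asIdeal.primeCompl_le_nonZeroDivisors
  have h := Groth.Agent.S9812.result (Localization.AtPrime p.asIdeal)
  exact Groth.Agent.Lib.Helper4.Unibranch.isGeomUnibranch_of_ringEquiv
    (Spec.stalkIso (CommRingCat.of R) p).commRingCatIsoToRingEquiv.symm h

set_option maxHeartbeats 1600000 in
/-- **Valuative core** of SGA3 VI_B (universal openness of a quasi-finite map to affine space). -/
theorem exists_generization_over_generic
    (R : Type u) [CommRing R] [IsDomain R] [ValuationRing R]
    {X S : Scheme.{u}} (f : X ⟶ S) [LocallyOfFiniteType f] (n : ℕ)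
    (u : X ⟶ 𝔸(ULift.{u} (Fin n); S)) [LocallyQuasiFinite u]
    (hu : u ≫ (𝔸(ULift.{u} (Fin n); S) ↘ S) = f)
    (gA : Spec (CommRingCat.of R) ⟶ 𝔸(ULift.{u} (Fin n); S))
    (y : ↥(pullback u gA))
    (hy : (pullback.snd u gA).base y = (IsLocalRing.closedPoint R : PrimeSpectrum R))
    (z : X) (hzx : z ⤳ (pullback.fst u gA).base y)
    (hfz : f.base z = f.base ((pullback.fst u gA).base y))
    (hopen : EGA43.IsUnivOpenAt f z) (hn : n ≤ ptTrdeg f z) :
    ∃ y' : ↥(pullback u gA), y' ⤳ y ∧
      (pullback.snd u gA).base y' = genericPoint (Spec (CommRingCat.of R)) := by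
  classical
  haveI hlftu : LocallyOfFiniteType u := by
    haveI : LocallyOfFiniteType (u ≫ (𝔸(ULift.{u} (Fin n); S) ↘ S)) := by rw [hu]; infer_instance
    exact locallyOfFiniteType_of_comp u (𝔸(ULift.{u} (Fin n); S) ↘ S)
  set σA : Spec (CommRingCat.of R) ⟶ S := gA ≫ (𝔸(ULift.{u} (Fin n); S) ↘ S) with hσA
  have sqP : IsPullback (AffineSpace.map (ULift.{u} (Fin n)) σA)
      (𝔸(ULift.{u} (Fin n); Spec (CommRingCat.of R)) ↘ Spec (CommRingCat.of R))
      (𝔸(ULift.{u} (Fin n); S) ↘ S) σA :=
    AffineSpace.isPullback_map (n := ULift.{u} (Fin n)) σA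
  have sqX : IsPullback (pullback.fst f σA) (pullback.snd f σA) f σA :=
    IsPullback.of_hasPullback f σA
  -- the map `u₁ : X₁ ⟶ 𝔸ⁿ_R`
  let u₁ : pullback f σA ⟶ 𝔸(ULift.{u} (Fin n); Spec (CommRingCat.of R)) :=
    sqP.lift (pullback.fst f σA ≫ u) (pullback.snd f σA)
      (by rw [Category.assoc, hu]; exact pullback.condition)
  have hu₁r : u₁ ≫ AffineSpace.map (ULift.{u} (Fin n)) σA = pullback.fst f σA ≫ u :=
    sqP.lift_fst _ _ _
  have hu₁π : u₁ ≫ (𝔸(ULift.{u} (Fin n); Spec (CommRingCat.of R)) ↘ Spec (CommRingCat.of R)) =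
      pullback.snd f σA := sqP.lift_snd _ _ _
  have sqU : IsPullback (pullback.fst f σA) u₁ u (AffineSpace.map (ULift.{u} (Fin n)) σA) := by
    refine IsPullback.of_bot ?_ hu₁r.symm sqP
    rw [hu₁π, hu]
    exact sqX
  -- the section `τ`
  let τ : Spec (CommRingCat.of R) ⟶ 𝔸(ULift.{u} (Fin n); Spec (CommRingCat.of R)) :=
    sqP.lift gA (𝟙 _) (by rw [Category.id_comp])
  have hτr : τ ≫ AffineSpace.map (ULift.{u} (Fin n)) σA = gA := sqP.lift_fst _ _ _
  have hτπ : τ ≫ (𝔸(ULift.{u} (Fin n); Spec (CommRingCat.of R)) ↘ Spec (CommRingCat.of R)) =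
      𝟙 _ := sqP.lift_snd _ _ _
  -- the comparison `j`
  let j : pullback u gA ⟶ pullback f σA :=
    pullback.lift (pullback.fst u gA) (pullback.snd u gA) (by
      rw [← hu, ← Category.assoc, pullback.condition, Category.assoc])
  have hjq : j ≫ pullback.fst f σA = pullback.fst u gA := pullback.lift_fst _ _ _
  have hjf : j ≫ pullback.snd f σA = pullback.snd u gA := pullback.lift_snd _ _ _
  have hjcomm : j ≫ u₁ = pullback.snd u gA ≫ τ := by
    apply sqP.hom_ext
    · rw [Category.assoc, hu₁r, ← Category.assoc, hjq, Category.assoc, hτr, pullback.condition]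
    · rw [Category.assoc, hu₁π, hjf, Category.assoc, hτπ, Category.comp_id]
  have sqJ : IsPullback j (pullback.snd u gA) u₁ τ := by
    refine IsPullback.of_right ?_ hjcomm sqU
    rw [hjq, hτr]
    exact IsPullback.of_hasPullback u gA
  -- instances
  haveI hlftA : LocallyOfFiniteType (pullback.snd f σA) :=
    MorphismProperty.of_isPullback (P := @LocallyOfFiniteType) sqX inferInstance
  haveI hlftu₁ : LocallyOfFiniteType u₁ :=
    MorphismProperty.of_isPullback (P := @LocallyOfFiniteType) sqU inferInstance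
  haveI hqfu₁ : LocallyQuasiFinite u₁ :=
    MorphismProperty.of_isPullback (P := @LocallyQuasiFinite) sqU inferInstance
  -- the points
  set a₀ : Spec (CommRingCat.of R) := (IsLocalRing.closedPoint R : PrimeSpectrum R) with ha₀
  set a₁ : Spec (CommRingCat.of R) := genericPoint (Spec (CommRingCat.of R)) with ha₁
  set x : X := (pullback.fst u gA).base y with hx
  set y₁ : ↥(pullback f σA) := j.base y with hy₁
  have hy₁q : (pullback.fst f σA).base y₁ = x := by
    rw [hy₁, ← Scheme.Hom.comp_apply, hjq]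
  have hy₁f : (pullback.snd f σA).base y₁ = a₀ := by
    rw [hy₁, ← Scheme.Hom.comp_apply, hjf]; exact hy
  have hfx : f.base x = σA.base a₀ := by
    have h1 : (pullback.fst f σA ≫ f).base y₁ = (pullback.snd f σA ≫ σA).base y₁ := by
      rw [pullback.condition]
    rw [Scheme.Hom.comp_apply, Scheme.Hom.comp_apply, hy₁q, hy₁f] at h1
    exact h1
  -- step 3: a point `z'₀` over `z` generizing `y₁` in the closed fibre
  obtain ⟨p, hp, -, -, hgen⟩ := Groth.Agent.Lib.Helper6.ValImg.exists_fiber_map sqX a₀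
  obtain ⟨yt, hyt⟩ : y₁ ∈ Set.range ((pullback.snd f σA).fiberι a₀).base := by
    rw [(pullback.snd f σA).range_fiberι a₀]; exact hy₁f
  obtain ⟨zt, hzt⟩ : z ∈ Set.range (f.fiberι (σA.base a₀)).base := by
    rw [f.range_fiberι (σA.base a₀)]
    show f.base z = σA.base a₀
    rw [hfz, hfx]
  have hpyt : (f.fiberι (σA.base a₀)).base (p.base yt) = x := by
    rw [← Scheme.Hom.comp_apply, hp, Scheme.Hom.comp_apply, hyt, hy₁q]
  have hsp1 : zt ⤳ p.base yt := by
    rw [← (f.fiberι (σA.base a₀)).isEmbedding.isInducing.specializes_iff, hzt, hpyt]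
    exact hzx
  obtain ⟨zt', hzt'sp, hzt'p⟩ := hgen hsp1
  set z'₀ : ↥(pullback f σA) := ((pullback.snd f σA).fiberι a₀).base zt' with hz'₀
  have hz'₀sp : z'₀ ⤳ y₁ := by
    rw [← hyt]
    exact hzt'sp.map ((pullback.snd f σA).fiberι a₀).continuous
  have hz'₀q : (pullback.fst f σA).base z'₀ = z := by
    rw [hz'₀, ← Scheme.Hom.comp_apply, ← hp, Scheme.Hom.comp_apply, hzt'p, hzt]
  -- step 3b: improve to a point with the right transcendence degree
  obtain ⟨z', hz'sp, hz'f, hz'q, hz'tr⟩ :=
    (Groth.Agent.R2.H19.TrdegBC.ptTrdeg_baseChange_over_point f σA (pullback.fst f σA)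
      (pullback.snd f σA) sqX z).2 z'₀ hz'₀q
  -- step 4/5: a generization over the generic point
  have hopenz' : EGA43.IsOpenAt (pullback.snd f σA).base z' := hopen _ σA z' hz'q
  obtain ⟨ξ, hξz', hξa₁⟩ := Groth.Agent.Lib.Helper6.OpenDim.exists_specializes_of_isOpenAt
    (pullback.snd f σA) z' hopenz' a₁ (genericPoint_specializes _)
  -- step 8: transcendence degrees
  have htr1 : ptTrdeg (pullback.snd f σA) z' ≤ ptTrdeg (pullback.snd f σA) ξ :=
    Groth.Agent.Lib.Helper3.ValTrdeg.ptTrdeg_le_of_specializes_of_valuationRing R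
      (pullback.snd f σA) z' ξ hξz'
  have htr2 : ptTrdeg (u₁ ≫ (𝔸(ULift.{u} (Fin n); Spec (CommRingCat.of R)) ↘
      Spec (CommRingCat.of R))) ξ = n := by
    have h1 := ptTrdeg_comp u₁ (𝔸(ULift.{u} (Fin n); Spec (CommRingCat.of R)) ↘
      Spec (CommRingCat.of R)) ξ
    have h2 := Groth.Agent.Lib.Helper6.QFAff.ptTrdeg_eq_zero_of_locallyQuasiFinite u₁ ξ
    have h3 := ptTrdeg_le_fibreDimAt (𝔸(ULift.{u} (Fin n); Spec (CommRingCat.of R)) ↘
      Spec (CommRingCat.of R)) (u₁.base ξ)
    rw [Groth.Agent.Lib.Helper6.QFAff.fibreDimAt_affineSpace] at h3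
    have h4 : ptTrdeg (𝔸(ULift.{u} (Fin n); Spec (CommRingCat.of R)) ↘
      Spec (CommRingCat.of R)) (u₁.base ξ) ≤ n := by exact_mod_cast h3
    have h5 : ptTrdeg (u₁ ≫ (𝔸(ULift.{u} (Fin n); Spec (CommRingCat.of R)) ↘
        Spec (CommRingCat.of R))) ξ = ptTrdeg (pullback.snd f σA) ξ := by
      congr 1
    omega
  -- step 9: `u₁ ξ` is the generic point of `𝔸ⁿ_R`
  have hξa₁' : (u₁ ≫ (𝔸(ULift.{u} (Fin n); Spec (CommRingCat.of R)) ↘
      Spec (CommRingCat.of R))).base ξ = a₁ := by
    rw [hu₁π]; exact hξa₁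
  have hmaxP := Groth.Agent.Lib.Helper6.QFAff.maximal_of_ptTrdeg_eq n u₁ ξ htr2 (by
    intro y' hy'
    rw [hξa₁'] at hy' ⊢
    exact (hy'.antisymm (genericPoint_specializes y')).eq)
  have hgenP : u₁.base ξ = genericPoint ↥(𝔸(ULift.{u} (Fin n); Spec (CommRingCat.of R))) :=
    (hmaxP _ (genericPoint_specializes _)).symm
  -- step 6: the closed subscheme `W = closure {ξ}`
  obtain ⟨W, ι, hι, hrange⟩ := exists_isClosedImmersion_range_eq (pullback f σA) (closure {ξ})
    isClosed_closure
  haveI := hι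
  obtain ⟨ξW, hξW⟩ : ξ ∈ Set.range ι.base := by rw [hrange]; exact subset_closure rfl
  have hgenW : ∀ w : W, ξW ⤳ w := by
    intro w
    rw [← ι.isEmbedding.isInducing.specializes_iff, hξW, specializes_iff_mem_closure, ← hrange]
    exact ⟨w, rfl⟩
  haveI : IrreducibleSpace W := by
    have h : closure ({ξW} : Set W) = Set.univ := by
      rw [Set.eq_univ_iff_forall]; intro w; exact (hgenW w).mem_closure
    have h2 := (isIrreducible_singleton (x := ξW)).closure
    rw [h] at h2
    exact (irreducibleSpace_def W).mpr h2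
  set hW : W ⟶ 𝔸(ULift.{u} (Fin n); Spec (CommRingCat.of R)) := ι ≫ u₁ with hhW
  haveI : LocallyQuasiFinite hW := by rw [hhW]; infer_instance
  haveI : LocallyOfFiniteType hW := by rw [hhW]; infer_instance
  haveI : IsDominant hW := by
    constructor
    have hmem : genericPoint ↥(𝔸(ULift.{u} (Fin n); Spec (CommRingCat.of R))) ∈
        Set.range hW.base := ⟨ξW, by rw [hhW, Scheme.Hom.comp_apply, hξW, hgenP]⟩
    intro t
    exact closure_mono (Set.singleton_subset_iff.mpr hmem) (genericPoint_specializes t).mem_closure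
  -- the point `w₁` over `y₁`
  obtain ⟨w₁, hw₁⟩ : y₁ ∈ Set.range ι.base := by
    rw [hrange]
    exact ((hξz'.trans hz'sp).trans hz'₀sp).mem_closure
  have hW1 : hW.base w₁ = τ.base a₀ := by
    rw [hhW, Scheme.Hom.comp_apply, hw₁, hy₁, ← Scheme.Hom.comp_apply, hjcomm,
      Scheme.Hom.comp_apply, hy]
  have hunib : CAlg2.IsUnibranch
      ((𝔸(ULift.{u} (Fin n); Spec (CommRingCat.of R))).presheaf.stalk (hW.base w₁)) :=
    (Groth.Agent.Lib.Helper6.Uni.isGeomUnibranch_stalk_affineSpace (ULift.{u} (Fin n))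
      (hW.base w₁) (isGeomUnibranch_stalk_Spec R _)).1
  have hsp2 : τ.base a₁ ⤳ hW.base w₁ := by
    rw [hW1]; exact (genericPoint_specializes a₀).map τ.continuous
  obtain ⟨w', hw'sp, hw'τ⟩ := Groth.Agent.Lib.Helper6.Uni.exists_specializes_of_isUnibranch hW w₁
    hunib (τ.base a₁) hsp2
  -- step 11: back to `X ×_P Spec R`
  obtain ⟨y', hy'j, hy'snd⟩ := Groth.Agent.Lib.Helper26.UnivOpenAt.exists_preimage_of_isPullback
    sqJ (ι.base w') a₁ (by rw [← Scheme.Hom.comp_apply]; exact hw'τ)
  haveI : IsClosedImmersion τ := by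
    haveI : IsClosedImmersion (τ ≫ (𝔸(ULift.{u} (Fin n); Spec (CommRingCat.of R)) ↘
        Spec (CommRingCat.of R))) := by rw [hτπ]; infer_instance
    exact IsClosedImmersion.of_comp τ (𝔸(ULift.{u} (Fin n); Spec (CommRingCat.of R)) ↘
        Spec (CommRingCat.of R))
  haveI : IsClosedImmersion j :=
    MorphismProperty.of_isPullback (P := @IsClosedImmersion) sqJ.flip inferInstance
  refine ⟨y', ?_, hy'snd⟩
  rw [← j.isEmbedding.isInducing.specializes_iff, hy'j]
  show ι.base w' ⤳ y₁
  rw [← hw₁]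
  exact hw'sp.map ι.continuous

/-- the generic point of a valuation ring of `κ(t')` centred on `T` maps to `t'`. -/
theorem map_genericPoint_eq {T : Scheme.{u}} {t' : T} (A : ValuationSubring (T.residueField t'))
    (h : Spec (CommRingCat.of A) ⟶ T)
    (hK : Spec.map (CommRingCat.ofHom (algebraMap A (T.residueField t'))) ≫ h =
      T.fromSpecResidueField t') :
    h.base (genericPoint (Spec (CommRingCat.of A))) = t' := by
  have hgen : (Spec.map (CommRingCat.ofHom (algebraMap A (T.residueField t')))).base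
      (IsLocalRing.closedPoint (T.residueField t') : PrimeSpectrum (T.residueField t')) =
      genericPoint (Spec (CommRingCat.of A)) := by
    rw [genericPoint_eq_bot_of_affine]
    apply PrimeSpectrum.ext
    show Ideal.comap (algebraMap A (T.residueField t'))
      (IsLocalRing.closedPoint (T.residueField t')).asIdeal = ⊥
    have : (IsLocalRing.closedPoint (T.residueField t')).asIdeal = ⊥ := Ideal.eq_bot_of_prime _
    rw [this, ← RingHom.ker_eq_comap_bot]
    exact (RingHom.injective_iff_ker_eq_bot _).mp (IsFractionRing.injective A (T.residueField t'))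
  rw [← hgen, ← Scheme.Hom.comp_apply, hK]
  exact Scheme.fromSpecResidueField_apply t' _

end Groth.Agent.R2.H19.UnivOpenQF
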