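import Groth.Agent.R2.H19FinOpenB
import Groth.Agent.R2.H19ChevalleyNN
import Groth.Agent.R2.H19UnivOpenQF
import Groth.Agent.S4942

set_option autoImplicit false
set_option linter.style.haveILetI false
set_option linter.unusedSectionVars false
universe u

open CategoryTheory CategoryTheory.Limits AlgebraicGeometry TopologicalSpace EGA43 TensorProduct
open Groth.Agent.Lib.Helper7 Groth.Agent.Lib.Helper26.UnivOpenAt
open Groth.Agent.Lib.Helper4.DimFormula

namespace Groth.Agent.R2.H19.FinOpen


section Key2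

variable (R B S : Type u) [CommRing R] [IsNoetherianRing R] [CommRing B] [Algebra R B]
  [Algebra.FiniteType R B] [CommRing S] [IsDomain S] [Algebra R S] [Algebra.IsIntegral R S]

theorem isIntegralHom_str : IsIntegralHom (str R S) := by
  rw [IsIntegralHom.SpecMap_iff]
  exact algebraMap_isIntegral_iff.mpr inferInstance

theorem mem_basicOpen_tr {A : Type u} [CommRing A] [Algebra R A] (ψ : A →ₐ[R] S)
    (δ : B ⊗[R] A) (p : Spec (CommRingCat.of (B ⊗[R] S))) :
    δ ∉ ((tr B ψ).base p : PrimeSpectrum (B ⊗[R] A)).asIdeal ↔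
      (Algebra.TensorProduct.map (AlgHom.id R B) ψ) δ ∉ (p : PrimeSpectrum (B ⊗[R] S)).asIdeal :=
  Iff.rfl

set_option maxHeartbeats 1600000 in
/-- the approximation step. -/
theorem exists_mem_basicOpen (x : Spec (CommRingCat.of (B ⊗[R] S)))
    (hFO : FinOpenAt (str R B) ((pB R B S).base x))
    (hmax : MaxInFibre (str R B) ((pB R B S).base x))
    (A : Subalgebra R S) [Module.Finite R A] (δ : B ⊗[R] A)
    (hxδ : (Algebra.TensorProduct.map (AlgHom.id R B) A.val) δ ∉
      (x : PrimeSpectrum (B ⊗[R] S)).asIdeal) :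
    ∃ ξ : Spec (CommRingCat.of (B ⊗[R] S)),
      (Algebra.TensorProduct.map (AlgHom.id R B) A.val) δ ∉
        (ξ : PrimeSpectrum (B ⊗[R] S)).asIdeal ∧
      (fT R B S).base ξ = genPt S ∧ MaxInFibre (fT R B S) ξ ∧
      ptTrdeg (fT R B S) ξ = ptTrdeg (fT R B S) x := by
  haveI := isIntegralHom_str R S
  have hxmax : MaxInFibre (fT R B S) x := MaxInFibre.of_isPullback_integral (sqSpec R B S) x hmax
  haveI : IsNoetherianRing A := Algebra.FiniteType.isNoetherianRing R A
  haveI : IsFinite (str R A) := by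
    rw [IsFinite.SpecMap_iff]
    exact RingHom.finite_algebraMap.mpr inferInstance
  haveI : IsIntegralHom (Spec.map (CommRingCat.ofHom A.val.toRingHom)) := by
    rw [IsIntegralHom.SpecMap_iff]
    refine RingHom.IsIntegral.tower_top (algebraMap R A) A.val.toRingHom ?_
    have : A.val.toRingHom.comp (algebraMap R A) = algebraMap R S := by
      ext r; simp
    rw [this]
    exact algebraMap_isIntegral_iff.mpr inferInstance
  set xA := (tr B A.val).base x with hxA
  have hpx : (pB R B A).base xA = (pB R B S).base x := by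
    rw [hxA, ← Scheme.Hom.comp_apply, tr_pB]
  have hopen : IsOpenAt (fT R B A).base xA :=
    hFO.isOpenAt_of_isPullback (sqSpec R B A) xA hpx
  have hxAmax : MaxInFibre (fT R B A) xA :=
    MaxInFibre.of_isPullback_integral (sqSpec R B A) xA (by rw [hpx]; exact hmax)
  have hηA : genPt A ⤳ (fT R B A).base xA :=
    (PrimeSpectrum.le_iff_specializes (genPt A : PrimeSpectrum A) _).mp bot_le
  obtain ⟨ξ', hξ'sp, hξ'η, hξ'max, hξ'tr⟩ :=
    Groth.Agent.Lib.Helper6.OpenDim.exists_maximal_over_of_isOpenAt (fT R B A) xA hxAmax hopen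
      (genPt A) hηA
  have hgen : (fT R B A).base ξ' =
      (Spec.map (CommRingCat.ofHom A.val.toRingHom)).base (genPt S) := by
    rw [hξ'η]
    apply PrimeSpectrum.ext
    show (⊥ : Ideal A) = Ideal.comap A.val.toRingHom ⊥
    rw [← RingHom.ker_eq_comap_bot]
    exact ((RingHom.injective_iff_ker_eq_bot _).mp Subtype.val_injective).symm
  obtain ⟨ξ, hξ1, hξ2⟩ := exists_preimage_of_isPullback (sqTr B A.val) ξ' (genPt S) hgen
  have hξmax : MaxInFibre (fT R B S) ξ :=
    MaxInFibre.of_isPullback_integral (sqTr B A.val) ξ (by rw [hξ1]; exact hξ'max)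
  have htr1 : ptTrdeg (fT R B S) ξ = ptTrdeg (fT R B A) ξ' := by
    rw [ptTrdeg_eq_of_isPullback_of_maxInFibre (sqTr B A.val) ξ hξmax, hξ1]
  have htr2 : ptTrdeg (fT R B S) x = ptTrdeg (fT R B A) xA :=
    ptTrdeg_eq_of_isPullback_of_maxInFibre (sqTr B A.val) x hxmax
  refine ⟨ξ, ?_, hξ2, hξmax, ?_⟩
  · have h1 : δ ∉ (xA : PrimeSpectrum (B ⊗[R] A)).asIdeal := by
      rw [hxA, mem_basicOpen_tr R B S A.val δ x]
      exact hxδ
    have h2 : δ ∉ (ξ' : PrimeSpectrum (B ⊗[R] A)).asIdeal := by
      have hle : (ξ' : PrimeSpectrum (B ⊗[R] A)).asIdeal ≤ (xA : PrimeSpectrum _).asIdeal :=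
        (PrimeSpectrum.le_iff_specializes (ξ' : PrimeSpectrum (B ⊗[R] A)) xA).mpr hξ'sp
      exact fun h => h1 (hle h)
    rw [← hξ1, mem_basicOpen_tr R B S A.val δ ξ] at h2
    exact h2
  · rw [htr1, hξ'tr, ← htr2]

set_option maxHeartbeats 1600000 in
/-- **Key claim**. -/
theorem exists_generic_generization (x : Spec (CommRingCat.of (B ⊗[R] S)))
    (hFO : FinOpenAt (str R B) ((pB R B S).base x))
    (hmax : MaxInFibre (str R B) ((pB R B S).base x)) :
    ∃ ξ : Spec (CommRingCat.of (B ⊗[R] S)), ξ ⤳ x ∧ (fT R B S).base ξ = genPt S ∧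
      ptTrdeg (fT R B S) ξ = ptTrdeg (fT R B S) x := by
  classical
  set d := ptTrdeg (fT R B S) x with hd
  set M : Set (Spec (CommRingCat.of (B ⊗[R] S))) :=
    {ξ | (fT R B S).base ξ = genPt S ∧ MaxInFibre (fT R B S) ξ ∧ ptTrdeg (fT R B S) ξ = d} with hM
  have hMfin : M.Finite :=
    (finite_maxInFibre (fT R B S) (genPt S)).subset (fun ξ h => ⟨h.1, h.2.1⟩)
  have hcl : x ∈ closure M := by
    rw [mem_closure_iff]
    intro O hO hxO
    obtain ⟨_, ⟨β, rfl⟩, hxβ, hβO⟩ :=
      (PrimeSpectrum.isTopologicalBasis_basic_opens (R := B ⊗[R] S)).exists_subset_of_mem_open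
        hxO hO
    obtain ⟨T, δ, hδ⟩ := exists_finset_mem_rangeOf R B S β
    haveI : Module.Finite R (Algebra.adjoin R (T : Set S)) :=
      Module.Finite.iff_fg.mpr (fg_adjoin_of_finite (Finset.finite_toSet T)
        (fun s _ => Algebra.IsIntegral.isIntegral s))
    have hδ' : (Algebra.TensorProduct.map (AlgHom.id R B) (Algebra.adjoin R (T : Set S)).val) δ
        = β := hδ
    obtain ⟨ξ, h1, h2, h3, h4⟩ := exists_mem_basicOpen R B S x hFO hmax
      (Algebra.adjoin R (T : Set S)) δ (by rw [hδ']; exact hxβ)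
    rw [hδ'] at h1
    exact ⟨ξ, hβO h1, h2, h3, h4⟩
  have hcl2 : closure M = ⋃ ξ ∈ M, closure {ξ} := by
    conv_lhs => rw [← Set.biUnion_of_singleton M]
    exact hMfin.closure_biUnion _
  rw [hcl2, Set.mem_iUnion₂] at hcl
  obtain ⟨ξ, hξM, hξx⟩ := hcl
  exact ⟨ξ, specializes_iff_mem_closure.mpr hξx, hξM.1, hξM.2.2⟩

end Key2



section Core

theorem surjective_str_of_integral (R S : Type u) [CommRing R] [CommRing S] [Algebra R S]
    [Algebra.IsIntegral R S] (hinj : Function.Injective (algebraMap R S)) :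
    Surjective (str R S) := by
  refine ⟨fun p => ?_⟩
  have hker : (⊥ : Ideal S).comap (algebraMap R S) ≤ (p : PrimeSpectrum R).asIdeal := by
    rw [← RingHom.ker_eq_comap_bot, (RingHom.injective_iff_ker_eq_bot _).mp hinj]; exact bot_le
  haveI : (p : PrimeSpectrum R).asIdeal.IsPrime := (p : PrimeSpectrum R).isPrime
  obtain ⟨Q, -, hQ, hQp⟩ := Ideal.exists_ideal_over_prime_of_isIntegral
    (p : PrimeSpectrum R).asIdeal (⊥ : Ideal S) hker
  exact ⟨(⟨Q, hQ⟩ : PrimeSpectrum S), PrimeSpectrum.ext hQp⟩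

set_option maxHeartbeats 1600000 in
/-- the normal case. -/
theorem isUnivOpenAt_fT_of_normal (R B S : Type u) [CommRing R] [IsNoetherianRing R] [CommRing B]
    [Algebra R B] [Algebra.FiniteType R B] [CommRing S] [IsDomain S] [Algebra R S]
    [Algebra.IsIntegral R S] [IsIntegrallyClosed S] (x : Spec (CommRingCat.of (B ⊗[R] S)))
    (hFO : FinOpenAt (str R B) ((pB R B S).base x))
    (hmax : MaxInFibre (str R B) ((pB R B S).base x)) : IsUnivOpenAt (fT R B S) x := by
  haveI := isIntegralHom_str R S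
  have hxmax : MaxInFibre (fT R B S) x := MaxInFibre.of_isPullback_integral (sqSpec R B S) x hmax
  obtain ⟨ξ, hξsp, hξη, hξtr⟩ := exists_generic_generization R B S x hFO hmax
  obtain ⟨Z, j, hj, hrange⟩ := exists_isClosedImmersion_range_eq _ (closure {ξ}) isClosed_closure
  haveI := hj
  obtain ⟨z, hz⟩ : x ∈ Set.range j.base := hrange ▸ hξsp.mem_closure
  obtain ⟨ζ, hζ⟩ : ξ ∈ Set.range j.base := hrange ▸ subset_closure rfl
  haveI hZirr : IrreducibleSpace ↥Z := by
    have h1 : IrreducibleSpace ↥(Set.range j.base) := by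
      rw [hrange]; exact Subtype.irreducibleSpace isIrreducible_singleton.closure
    exact (j.isEmbedding.toHomeomorph.irreducibleSpace_iff).mpr h1
  have hgen : ∀ v : Z, ζ ⤳ v := by
    intro v
    rw [← j.isEmbedding.isInducing.specializes_iff, hζ, specializes_iff_mem_closure, ← hrange]
    exact ⟨v, rfl⟩
  have hζcl : closure ({ζ} : Set Z) = Set.univ :=
    Set.eq_univ_of_forall fun v => (hgen v).mem_closure
  set d := ptTrdeg (fT R B S) x with hd
  have hfd : FlatMor.fibreDimAt (j ≫ fT R B S) z ≤ ((d : ℕ) : WithBot ℕ∞) := by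
    refine fibreDimAt_le_of_forall_maximal (j ≫ fT R B S) z d ?_
    intro w' hw' hsp _
    rw [ptTrdeg_comp_of_isPreimmersion j (fT R B S) w']
    have h1 : j.base w' = x := by
      refine hxmax _ ?_ (by rw [← hz]; exact hsp.map j.continuous)
      have := hw'
      rw [Scheme.Hom.comp_apply, Scheme.Hom.comp_apply, hz] at this
      exact this
    rw [h1]
  have htr : ptTrdeg (j ≫ fT R B S) ζ = d := by
    rw [ptTrdeg_comp_of_isPreimmersion j (fT R B S) ζ, hζ, hξtr]
  have hζη : (j ≫ fT R B S).base ζ = genPt S := by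
    rw [Scheme.Hom.comp_apply, hζ, hξη]
  have hηmax : ∀ y' : Spec (CommRingCat.of S), y' ⤳ (j ≫ fT R B S).base ζ →
      y' = (j ≫ fT R B S).base ζ := by
    intro y' hy'
    rw [hζη] at hy' ⊢
    have hle : (y' : PrimeSpectrum S).asIdeal ≤ (genPt S : PrimeSpectrum S).asIdeal :=
      (PrimeSpectrum.le_iff_specializes (y' : PrimeSpectrum S) (genPt S)).mpr hy'
    apply PrimeSpectrum.ext
    exact le_antisymm hle bot_le
  have hVirr : IrreducibleSpace ↥(⊤ : (Spec (CommRingCat.of S)).Opens) :=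
    Subtype.irreducibleSpace ⟨⟨genPt S, trivial⟩,
      (IrreducibleSpace.isIrreducible_univ (Spec (CommRingCat.of S))).2.open_subset
        (⊤ : (Spec (CommRingCat.of S)).Opens).isOpen (Set.subset_univ _)⟩
  have h := Groth.Agent.R2.H19.ChevalleyNN.isUnivOpenAt_of_generic_data (j ≫ fT R B S) z d hfd ζ
    hζcl htr hηmax ⊤ hVirr trivial
    (Groth.Agent.R2.H19.UnivOpenQF.isGeomUnibranch_stalk_Spec S _)
  have := Groth.Agent.S4926.result j (fT R B S) z h
  rw [hz] at this
  exact this

set_option maxHeartbeats 1600000 in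
/-- **Core**: the affine integral case. -/
theorem isUnivOpenAt_str_of_finOpenAt (R B : Type u) [CommRing R] [IsDomain R] [IsNoetherianRing R]
    [CommRing B] [Algebra R B] [Algebra.FiniteType R B] (x : Spec (CommRingCat.of B))
    (hFO : FinOpenAt (str R B) x) (hmax : MaxInFibre (str R B) x) : IsUnivOpenAt (str R B) x := by
  let K := FractionRing R
  let S := integralClosure R K
  haveI : IsIntegrallyClosed S := integralClosure.isIntegrallyClosedOfFiniteExtension K
  haveI := isIntegralHom_str R S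
  haveI : Surjective (str R S) := by
    apply surjective_str_of_integral
    intro a b hab
    have : algebraMap R K a = algebraMap R K b := congrArg Subtype.val hab
    exact IsFractionRing.injective R K this
  refine Groth.Agent.S4942.result (str R S) (str R B) x ?_
  intro x₁ hx₁
  set e := (sqSpec R B S).isoPullback with he
  have hcomm : pullback.snd (str R B) (str R S) ≫ 𝟙 _ = e.inv ≫ fT R B S := by
    rw [Category.comp_id, he, IsPullback.isoPullback_inv_snd]
  refine isUnivOpenAt_of_iso (pullback.snd (str R B) (str R S)) (fT R B S) e.inv (𝟙 _) hcomm x₁ ?_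
  have hpx : (pB R B S).base (e.inv.base x₁) = x := by
    rw [← Scheme.Hom.comp_apply, he, IsPullback.isoPullback_inv_fst, hx₁]
  exact isUnivOpenAt_fT_of_normal R B S _ (by rw [hpx]; exact hFO) (by rw [hpx]; exact hmax)

end Core


end Groth.Agent.R2.H19.FinOpen
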