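import Groth.Agent.R2.H19FinOpenCore
import Groth.Agent.S4929
import Groth.Agent.Lib.Helper6UniE
import Groth.Agent.Lib.Helper10RedInd

set_option autoImplicit false
set_option linter.style.haveILetI false
set_option linter.unusedSectionVars false
universe u

open CategoryTheory CategoryTheory.Limits AlgebraicGeometry TopologicalSpace EGA43 TensorProduct
open Groth.Agent.Lib.Helper7 Groth.Agent.Lib.Helper26.UnivOpenAt
open Groth.Agent.Lib.Helper4.DimFormula

namespace Groth.Agent.R2.H19.FinOpen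

set_option maxHeartbeats 1600000 in
/-- Step A: affine integral Noetherian target, affine source. -/
theorem isUnivOpenAt_of_finOpenAt_affine_integral {X Y : Scheme.{u}} [IsAffine X] [IsAffine Y]
    [IsIntegral Y] [IsNoetherian Y] (f : X ⟶ Y) [LocallyOfFiniteType f] (x : X)
    (hmax : MaxInFibre f x) (hFO : FinOpenAt f x) : IsUnivOpenAt f x := by
  let R : Type u := Γ(Y, ⊤)
  let B : Type u := Γ(X, ⊤)
  letI : Algebra R B := f.appTop.hom.toAlgebra
  haveI : IsDomain R := inferInstanceAs (IsDomain Γ(Y, ⊤))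
  haveI : IsNoetherianRing R :=
    IsLocallyNoetherian.component_noetherian (X := Y) ⟨⊤, isAffineOpen_top Y⟩
  haveI : Algebra.FiniteType R B :=
    (HasRingHomProperty.iff_of_isAffine (P := @LocallyOfFiniteType)).mp ‹LocallyOfFiniteType f›
  have hstr : str R B = Spec.map f.appTop := rfl
  have hFO' : FinOpenAt (str R B) (X.isoSpec.hom.base x) := by
    rw [hstr]
    have h1 : FinOpenAt (f ≫ Y.isoSpec.hom) x := hFO.comp_iso f Y.isoSpec.hom x
    have h2 : FinOpenAt (X.isoSpec.inv ≫ f ≫ Y.isoSpec.hom) (X.isoSpec.hom.base x) := by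
      apply FinOpenAt.comp_openImmersion
      rw [← Scheme.Hom.comp_apply, Iso.hom_inv_id]
      exact h1
    rw [← Scheme.isoSpec_hom_naturality, Iso.inv_hom_id_assoc] at h2
    exact h2
  have hmax' : MaxInFibre (str R B) (X.isoSpec.hom.base x) := by
    rw [hstr]
    refine MaxInFibre.of_square X.isoSpec.inv Y.isoSpec.inv (Spec.map f.appTop) f
      (Scheme.isoSpec_inv_naturality f).symm X.isoSpec.inv.homeomorph.injective _ ?_
    rw [← Scheme.Hom.comp_apply, Iso.hom_inv_id]
    exact hmax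
  have h := isUnivOpenAt_str_of_finOpenAt R B (X.isoSpec.hom.base x) hFO' hmax'
  rw [hstr] at h
  exact isUnivOpenAt_of_iso f (Spec.map f.appTop) X.isoSpec.hom Y.isoSpec.hom
    (Scheme.isoSpec_hom_naturality f).symm x h

open Scheme.IdealSheafData in
set_option maxHeartbeats 1600000 in
/-- Step B: affine Noetherian target, affine source. -/
theorem isUnivOpenAt_of_finOpenAt_affine {X Y : Scheme.{u}} [IsAffine X] [IsAffine Y]
    [IsNoetherian Y] (f : X ⟶ Y) [LocallyOfFiniteType f] (x : X)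
    (hmax : MaxInFibre f x) (hFO : FinOpenAt f x) : IsUnivOpenAt f x := by
  have hfin : (irreducibleComponents ↥Y).Finite := NoetherianSpace.finite_irreducibleComponents
  haveI : Finite ↥(irreducibleComponents ↥Y) := hfin.to_subtype
  let I : ↥(irreducibleComponents ↥Y) → Y.IdealSheafData := fun W =>
    vanishingIdeal ⟨W.1, isClosed_of_mem_irreducibleComponents W.1 W.2⟩
  have hrange : ∀ W : ↥(irreducibleComponents ↥Y), Set.range (I W).subschemeι.base = W.1 := by
    intro W
    rw [range_subschemeι, coe_support_vanishingIdeal]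
    rfl
  refine Groth.Agent.S4929.result f x (fun W => (I W).subscheme) (fun W => (I W).subschemeι) ?_ ?_
  · rw [Set.eq_univ_iff_forall]
    intro y
    obtain ⟨W, hW, hyW⟩ := exists_mem_irreducibleComponents_subset_of_isIrreducible
      ({y} : Set Y) isIrreducible_singleton
    refine Set.mem_iUnion.mpr ⟨⟨W, hW⟩, ?_⟩
    rw [hrange]
    exact hyW rfl
  · intro W x' hx'
    haveI : IsReduced (I W).subscheme :=
      Groth.Agent.Lib.Helper10.RedInd.isReduced_subscheme_vanishingIdeal _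
    haveI : IrreducibleSpace ↥(I W).subscheme := by
      have h1 : IrreducibleSpace ↥(Set.range (I W).subschemeι.base) := by
        rw [hrange]; exact Subtype.irreducibleSpace W.2.1
      exact ((I W).subschemeι.isEmbedding.toHomeomorph.irreducibleSpace_iff).mpr h1
    haveI : IsIntegral (I W).subscheme := isIntegral_of_irreducibleSpace_of_isReduced _
    haveI : IsAffine (I W).subscheme := isAffine_of_isAffineHom (I W).subschemeι
    haveI : IsLocallyNoetherian (I W).subscheme :=
      LocallyOfFiniteType.isLocallyNoetherian (I W).subschemeι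
    haveI : IsNoetherian (I W).subscheme := { }
    have sq := IsPullback.of_hasPullback f (I W).subschemeι
    exact isUnivOpenAt_of_finOpenAt_affine_integral (pullback.snd f (I W).subschemeι) x'
      (MaxInFibre.of_isPullback_integral sq x' (by rw [hx']; exact hmax))
      (hFO.of_isPullback sq x' hx')

set_option maxHeartbeats 1600000 in
/-- Step C: the general case (EGA IV 14.4.9, the nontrivial direction). -/
theorem isUnivOpenAt_of_finOpenAt {X Y : Scheme.{u}} [IsNoetherian Y] (f : X ⟶ Y)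
    [LocallyOfFiniteType f] (x : X) (hmax : MaxInFibre f x) (hFO : FinOpenAt f x) :
    IsUnivOpenAt f x := by
  obtain ⟨_, ⟨V : Y.Opens, hV, rfl⟩, hyV, -⟩ :=
    Y.isBasis_affineOpens.exists_subset_of_mem_open (Set.mem_univ (f.base x)) isOpen_univ
  replace hV : IsAffineOpen V := hV
  let x₁ : ↥(f ⁻¹ᵁ V) := ⟨x, hyV⟩
  have hx₁ : (f ⁻¹ᵁ V).ι.base x₁ = x := rfl
  have hFO₁ : FinOpenAt (f ∣_ V) x₁ := FinOpenAt.morphismRestrict f V hV x₁ hFO
  have hmax₁ : MaxInFibre (f ∣_ V) x₁ :=
    MaxInFibre.of_square (f ⁻¹ᵁ V).ι V.ι (f ∣_ V) f (morphismRestrict_ι f V).symm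
      (f ⁻¹ᵁ V).ι.isOpenEmbedding.injective x₁ hmax
  obtain ⟨_, ⟨U : (f ⁻¹ᵁ V).toScheme.Opens, hU, rfl⟩, hxU, -⟩ :=
    (f ⁻¹ᵁ V).toScheme.isBasis_affineOpens.exists_subset_of_mem_open (Set.mem_univ x₁) isOpen_univ
  replace hU : IsAffineOpen U := hU
  let x₂ : ↥U := ⟨x₁, hxU⟩
  have hx₂ : U.ι.base x₂ = x₁ := rfl
  have hFO₂ : FinOpenAt (U.ι ≫ (f ∣_ V)) x₂ := FinOpenAt.comp_openImmersion U.ι (f ∣_ V) x₂ hFO₁
  have hmax₂ : MaxInFibre (U.ι ≫ (f ∣_ V)) x₂ :=
    MaxInFibre.of_square U.ι (𝟙 _) (U.ι ≫ (f ∣_ V)) (f ∣_ V) (by simp)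
      U.ι.isOpenEmbedding.injective x₂ hmax₁
  haveI : IsAffine U.toScheme := hU
  haveI : IsAffine V.toScheme := hV
  haveI : IsNoetherian V.toScheme := { }
  have h2 : IsUnivOpenAt (U.ι ≫ (f ∣_ V)) x₂ :=
    isUnivOpenAt_of_finOpenAt_affine (U.ι ≫ (f ∣_ V)) x₂ hmax₂ hFO₂
  have h1 : IsUnivOpenAt (f ∣_ V) x₁ := Groth.Agent.S4926.result U.ι (f ∣_ V) x₂ h2
  exact isUnivOpenAt_of_morphismRestrict f V x₁ h1


/-- all finite base changes open maps implies `FinOpenAt` everywhere. -/
theorem finOpenAt_of_forall_isOpenMap {X Y : Scheme.{u}} (f : X ⟶ Y)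
    (h : ∀ (Y₁ : Scheme.{u}) (g : Y₁ ⟶ Y) [IsFinite g], IsOpenMap (pullback.snd f g).base)
    (x : X) : FinOpenAt f x :=
  fun Y' g _ x' _ => isOpenAt_of_isOpenMap (h Y' g) x'

/-- **EGA IV 14.4.10**: over a Noetherian base, a morphism locally of finite type all of whose
finite base changes are open is universally open. -/
theorem universallyOpen_of_forall_isOpenMap {X Y : Scheme.{u}} [IsNoetherian Y] (f : X ⟶ Y)
    [LocallyOfFiniteType f]
    (h : ∀ (Y₁ : Scheme.{u}) (g : Y₁ ⟶ Y) [IsFinite g], IsOpenMap (pullback.snd f g).base) :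
    UniversallyOpen f := by
  apply Groth.Agent.Lib.Helper6.Uni.universallyOpen_of_forall_isUnivOpenAt
  intro x
  apply Groth.Agent.Lib.Helper6.Uni.isUnivOpenAt_of_forall_maximal f x
  intro z _ _ hzmax
  exact isUnivOpenAt_of_finOpenAt f z hzmax (finOpenAt_of_forall_isOpenMap f h z)

end Groth.Agent.R2.H19.FinOpen
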