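import Mathlib
import Groth.Agent.Lib.Helper6UniA
import Groth.Agent.Lib.Helper6UniB
import Groth.Agent.S9812

/-!
# Going down to the generic fibre over a valuation ring (helper19)

Ring-theoretic core of EGA IV 14.5-type statements: for a domain `B` quasi-finite over a polynomial
ring `R[σ]` (`σ` finite nonempty) over a valuation ring `R` which is not a field, and a maximal ideal
`q'` of `B` over the closed point of `R`, there is a nonzero prime `q₂ ⊆ q'` lying over the generic
point of `R` and avoiding a given nonzero element.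
-/

set_option autoImplicit false
set_option linter.style.haveILetI false
set_option linter.unusedSectionVars false
universe u

open MvPolynomial

namespace Groth.Agent.R2.H19.GoingDownVal

section A3
/-- (A3) a nonzero element of a quasi-finite injective extension of domains divides the image of a
nonzero element. -/
theorem exists_ne_zero_dvd_map {A B : Type*} [CommRing A] [IsDomain A] [CommRing B] [IsDomain B]
    (ψ : A →+* B) (hqf : ψ.QuasiFinite) (hinj : Function.Injective ψ) (h : B) (hh : h ≠ 0) :
    ∃ a : A, a ≠ 0 ∧ h ∣ ψ a := by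
  by_contra hcon
  push Not at hcon
  have hc : (Ideal.span {h}).comap ψ = ⊥ := by
    rw [eq_bot_iff]
    intro a ha
    rw [Ideal.mem_comap, Ideal.mem_span_singleton] at ha
    by_contra hne
    exact hcon a hne ha
  have H : (⊥ : Ideal A) ∈ ((Ideal.span {h}).comap ψ).minimalPrimes := by
    rw [hc]
    have := IsDomain.minimalPrimes_eq_singleton_bot A
    change (⊥ : Ideal A) ∈ minimalPrimes A
    rw [this]; rfl
  obtain ⟨p', hp', hle, hp'c⟩ := Ideal.exists_comap_eq_of_mem_minimalPrimes ψ ⊥ H
  algebraize [ψ]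
  haveI := hp'
  have h1 : (⊥ : Ideal B) = p' := by
    refine Algebra.QuasiFinite.eq_of_le_of_under_eq (R := A) ⊥ p' bot_le ?_
    rw [Ideal.under_def, Ideal.under_def]
    change Ideal.comap ψ ⊥ = Ideal.comap ψ p'
    rw [hp'c, Ideal.comap_bot_of_injective ψ hinj]
  apply hh
  have : h ∈ p' := hle (Ideal.mem_span_singleton_self h)
  rw [← h1] at this
  exact this

end A3

variable {R : Type u} [CommRing R] [IsDomain R]
variable {σ : Type u} [Finite σ]

/-- the endomorphism `X i ↦ P i (X i)` of the polynomial ring. -/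
noncomputable def polyEnd (P : σ → Polynomial R) :
    MvPolynomial σ R →ₐ[R] MvPolynomial σ R :=
  MvPolynomial.aeval (fun i => Polynomial.aeval (X i : MvPolynomial σ R) (P i))

theorem polyEnd_X (P : σ → Polynomial R) (i : σ) :
    polyEnd P (X i) = Polynomial.aeval (X i : MvPolynomial σ R) (P i) := by
  simp [polyEnd]

theorem polyEnd_injective (P : σ → Polynomial R) (hm : ∀ i, (P i).Monic)
    (hd : ∀ i, (P i).natDegree ≠ 0) : Function.Injective (polyEnd P) := by
  have h1 : AlgebraicIndependent R (X : σ → MvPolynomial σ R) :=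
    MvPolynomial.algebraicIndependent_X σ R
  have h2 := h1.polynomial_aeval_of_transcendental (f := P) (fun i =>
    Polynomial.transcendental (P i) (hd i) (by
      rw [(hm i).leadingCoeff]; exact one_mem _))
  exact h2

theorem polyEnd_finite (P : σ → Polynomial R) (hm : ∀ i, (P i).Monic)
    (hd : ∀ i, (P i).natDegree ≠ 0) : (polyEnd P).toRingHom.Finite := by
  have hint : (polyEnd P).toRingHom.IsIntegral := by
    intro p
    induction p using MvPolynomial.induction_on with
    | C a =>
      have : (C a : MvPolynomial σ R) = (polyEnd P).toRingHom (C a) := by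
        simp [polyEnd]
      rw [this]
      exact RingHom.isIntegralElem_map _
    | add p q hp hq => exact RingHom.IsIntegralElem.add _ hp hq
    | mul_X p i hp =>
      refine RingHom.IsIntegralElem.mul _ hp ?_
      refine ⟨(P i).map (C : R →+* MvPolynomial σ R) - Polynomial.C (X i), ?_, ?_⟩
      · apply Polynomial.Monic.sub_of_left ((hm i).map _)
        refine Polynomial.degree_C_le.trans_lt ?_
        rw [(hm i).degree_map]
        exact Polynomial.natDegree_pos_iff_degree_pos.mp (Nat.pos_of_ne_zero (hd i))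
      · rw [Polynomial.eval₂_sub, Polynomial.eval₂_C, Polynomial.eval₂_map]
        have h1 : (polyEnd P).toRingHom.comp (C : R →+* MvPolynomial σ R) = C := by
          ext a; simp [polyEnd]
        rw [h1]
        show Polynomial.eval₂ C (X i) (P i) - (polyEnd P) (X i) = 0
        rw [polyEnd_X]
        exact sub_self _
  refine RingHom.IsIntegral.to_finite hint ?_
  apply RingHom.FiniteType.of_comp_finiteType (f := (C : R →+* MvPolynomial σ R))
  have h1 : (polyEnd P).toRingHom.comp (C : R →+* MvPolynomial σ R) = C := by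
    ext a; simp [polyEnd]
  rw [h1]
  have : (C : R →+* MvPolynomial σ R) = algebraMap R (MvPolynomial σ R) := rfl
  rw [this, RingHom.finiteType_algebraMap]
  infer_instance


variable [ValuationRing R] {B : Type u} [CommRing B]

/-- (A1) -/
theorem exists_monic_mem (ψ : MvPolynomial σ R →+* B) (hft : ψ.FiniteType)
    (q' : Ideal B) [q'.IsMaximal]
    (hq' : IsLocalRing.maximalIdeal R ≤ q'.comap (ψ.comp (C : R →+* MvPolynomial σ R)))
    (i : σ) :
    ∃ P : Polynomial R, P.Monic ∧ P.natDegree ≠ 0 ∧
      ψ (Polynomial.aeval (X i : MvPolynomial σ R) P) ∈ q' := by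
  classical
  letI : Field (B ⧸ q') := Ideal.Quotient.field q'
  set ρ : R →+* B ⧸ q' := (Ideal.Quotient.mk q').comp (ψ.comp (C : R →+* MvPolynomial σ R))
    with hρ
  have hρft : ρ.FiniteType := by
    rw [hρ]
    refine RingHom.FiniteType.comp ?_ ?_
    · exact RingHom.FiniteType.of_surjective _ Ideal.Quotient.mk_surjective
    · refine RingHom.FiniteType.comp hft ?_
      have : (C : R →+* MvPolynomial σ R) = algebraMap R (MvPolynomial σ R) := rfl
      rw [this, RingHom.finiteType_algebraMap]
      infer_instance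
  have hker : ∀ a ∈ IsLocalRing.maximalIdeal R, ρ a = 0 := by
    intro a ha
    have := hq' ha
    rw [Ideal.mem_comap] at this
    rw [hρ, RingHom.comp_apply, Ideal.Quotient.eq_zero_iff_mem]
    exact this
  set ρ' : R ⧸ IsLocalRing.maximalIdeal R →+* B ⧸ q' :=
    Ideal.Quotient.lift (IsLocalRing.maximalIdeal R) ρ hker with hρ'
  have hcomp : ρ'.comp (Ideal.Quotient.mk (IsLocalRing.maximalIdeal R)) = ρ := by
    ext a; simp [hρ']
  letI : Field (R ⧸ IsLocalRing.maximalIdeal R) := Ideal.Quotient.field _
  have hρ'ft : ρ'.FiniteType := by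
    apply RingHom.FiniteType.of_comp_finiteType (f := Ideal.Quotient.mk (IsLocalRing.maximalIdeal R))
    rw [hcomp]; exact hρft
  have hρ'fin : ρ'.Finite := RingHom.finite_iff_finiteType_of_isJacobsonRing.mpr hρ'ft
  have hρ'int : ρ'.IsIntegral := hρ'fin.to_isIntegral
  have hρint : ρ.IsIntegral := by
    rw [← hcomp]
    exact RingHom.IsIntegral.trans _ _
      (RingHom.isIntegral_of_surjective _ Ideal.Quotient.mk_surjective) hρ'int
  obtain ⟨P₀, hP₀m, hP₀⟩ := hρint (Ideal.Quotient.mk q' (ψ (X i)))
  refine ⟨P₀ * Polynomial.X, hP₀m.mul Polynomial.monic_X, ?_, ?_⟩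
  · rw [Polynomial.Monic.natDegree_mul hP₀m Polynomial.monic_X, Polynomial.natDegree_X]
    omega
  · rw [← Ideal.Quotient.eq_zero_iff_mem]
    have h1 : Polynomial.aeval (X i : MvPolynomial σ R) (P₀ * Polynomial.X) =
        Polynomial.eval₂ (C : R →+* MvPolynomial σ R) (X i) (P₀ * Polynomial.X) := rfl
    rw [h1, Polynomial.hom_eval₂, Polynomial.hom_eval₂, Polynomial.eval₂_mul, hP₀, zero_mul]


theorem infinite_maximalIdeal (hR : ¬ IsField R) :
    (IsLocalRing.maximalIdeal R : Set R).Infinite := by
  have hne : IsLocalRing.maximalIdeal R ≠ ⊥ := fun h =>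
    hR (IsLocalRing.isField_iff_maximalIdeal_eq.mpr h)
  obtain ⟨π, hπ, hπ0⟩ := Submodule.exists_mem_ne_zero_of_ne_bot hne
  haveI : Infinite R := by
    rw [← not_finite_iff_infinite]
    intro hfin
    exact hR (Finite.isField_of_domain R)
  refine Set.infinite_of_injective_forall_mem (f := fun r : R => r * π) ?_ ?_
  · intro a b hab
    exact mul_right_cancel₀ hπ0 hab
  · intro r
    exact Ideal.mul_mem_left _ r hπ

set_option maxHeartbeats 1600000 in
/-- **Part A**: a nonzero prime in the generic fibre below a closed point of the closed fibre. -/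
theorem exists_prime_generic_fibre (hR : ¬ IsField R) (i₀ : σ) [IsDomain B]
    (ψ : MvPolynomial σ R →+* B) (hqf : ψ.QuasiFinite) (hft : ψ.FiniteType)
    (hinj : Function.Injective ψ)
    (q' : Ideal B) [q'.IsMaximal]
    (hq' : IsLocalRing.maximalIdeal R ≤ q'.comap (ψ.comp (C : R →+* MvPolynomial σ R)))
    (h : B) (hh : h ≠ 0) :
    ∃ q₂ : Ideal B, q₂.IsPrime ∧ q₂ ≤ q' ∧
      q₂.comap (ψ.comp (C : R →+* MvPolynomial σ R)) = ⊥ ∧ h ∉ q₂ ∧ q₂ ≠ ⊥ := by
  classical
  choose P hPm hPd hPq using exists_monic_mem ψ hft q' hq'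
  set ψ' : MvPolynomial σ R →+* B := ψ.comp (polyEnd P).toRingHom with hψ'
  have hψ'X : ∀ i, ψ' (X i) ∈ q' := fun i => by
    have := hPq i
    rw [← polyEnd_X] at this
    exact this
  have hψ'C : ∀ a, ψ' (C a) = ψ (C a) := by
    intro a
    simp [hψ', polyEnd]
  have hψ'inj : Function.Injective ψ' := hinj.comp (polyEnd_injective P hPm hPd)
  have hΦfin := polyEnd_finite P hPm hPd
  have hψ'qf : ψ'.QuasiFinite := hqf.comp (.of_finite hΦfin)
  have hψ'ft : ψ'.FiniteType := hft.comp (RingHom.FiniteType.of_finite hΦfin)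
  obtain ⟨h', hh'0, hh'd⟩ := exists_ne_zero_dvd_map ψ' hψ'qf hψ'inj h hh
  -- (A4)
  obtain ⟨c, hcm, hc⟩ : ∃ c : σ → R, (∀ i, c i ∈ IsLocalRing.maximalIdeal R) ∧
      eval c h' ≠ 0 := by
    by_contra hcon
    push Not at hcon
    apply hh'0
    apply MvPolynomial.funext_set (fun _ => (IsLocalRing.maximalIdeal R : Set R))
      (fun _ => infinite_maximalIdeal hR)
    intro x hx
    rw [map_zero]
    exact hcon x (fun i => hx i (Set.mem_univ i))
  -- (A5)
  set z₂ : Ideal (MvPolynomial σ R) := RingHom.ker (eval c) with hz₂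
  haveI hz₂p : z₂.IsPrime := RingHom.ker_isPrime _
  have hθ : (Ideal.Quotient.mk q').comp ψ' =
      ((Ideal.Quotient.mk q').comp (ψ'.comp (C : R →+* MvPolynomial σ R))).comp (eval c) := by
    apply MvPolynomial.ringHom_ext
    · intro a
      simp
    · intro i
      simp only [RingHom.comp_apply, eval_X]
      rw [Ideal.Quotient.eq_zero_iff_mem.mpr (hψ'X i), hψ'C]
      symm
      rw [Ideal.Quotient.eq_zero_iff_mem]
      exact hq' (hcm i)
  have hz₂le : z₂ ≤ q'.comap ψ' := by
    intro p hp
    rw [hz₂, RingHom.mem_ker] at hp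
    rw [Ideal.mem_comap, ← Ideal.Quotient.eq_zero_iff_mem]
    have := congrArg (fun g => g p) hθ
    simp only [RingHom.comp_apply] at this
    rw [this, hp]
    simp
  -- (A6)
  algebraize [ψ']
  have hB : (nilradical B).IsPrime := by
    rw [nilradical_eq_zero]
    exact Ideal.isPrime_bot
  have hker : ∀ a : MvPolynomial σ R,
      IsNilpotent (algebraMap (MvPolynomial σ R) B a) → IsNilpotent a := by
    intro a ha
    have h0 : algebraMap (MvPolynomial σ R) B a = 0 := ha.eq_zero
    have : a = 0 := hψ'inj (by rw [map_zero]; exact h0)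
    rw [this]
    exact IsNilpotent.zero
  have hU : CAlg2.IsUnibranch (Localization.AtPrime
      (q'.comap (algebraMap (MvPolynomial σ R) B))) := by
    set Q : Ideal (MvPolynomial σ R) := q'.comap (algebraMap (MvPolynomial σ R) B)
    set p : Ideal R := Q.comap (C : R →+* MvPolynomial σ R)
    haveI : IsIntegrallyClosed (Localization.AtPrime p) :=
      isIntegrallyClosed_of_isLocalization _ p.primeCompl p.primeCompl_le_nonZeroDivisors
    have hA := Groth.Agent.S9812.result (Localization.AtPrime p)
    exact (Groth.Agent.Lib.Helper6.Uni.isGeomUnibranch_mvPolynomial_localization' Q p rfl hA).1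
  obtain ⟨q₂, hq₂p, hq₂le, hq₂c⟩ :=
    Groth.Agent.Lib.Helper6.Uni.exists_prime_le_of_quasiFiniteAt q' hB hker hU z₂ hz₂le
  have hq₂c' : ∀ p, ψ' p ∈ q₂ ↔ eval c p = 0 := by
    intro p
    have : p ∈ q₂.comap (algebraMap (MvPolynomial σ R) B) ↔ p ∈ z₂ := by rw [hq₂c]
    rw [hz₂, RingHom.mem_ker] at this
    exact this
  refine ⟨q₂, hq₂p, hq₂le, ?_, ?_, ?_⟩
  · rw [eq_bot_iff]
    intro r hr
    rw [Ideal.mem_comap, RingHom.comp_apply, ← hψ'C, hq₂c', eval_C] at hr
    exact hr
  · intro hmem
    obtain ⟨b, hb⟩ := hh'd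
    have : ψ' h' ∈ q₂ := by rw [hb]; exact Ideal.mul_mem_right _ _ hmem
    rw [hq₂c'] at this
    exact hc this
  · intro hbot
    have h1 : ψ' (X i₀ - C (c i₀)) ∈ q₂ := by
      rw [hq₂c']; simp
    rw [hbot, Ideal.mem_bot] at h1
    have h2 := hψ'inj (h1.trans (map_zero ψ').symm)
    have h4 : (X i₀ : MvPolynomial σ R) = C (c i₀) := sub_eq_zero.mp h2
    have h5 := congrArg MvPolynomial.totalDegree h4
    rw [totalDegree_X, totalDegree_C] at h5
    exact one_ne_zero h5

end Groth.Agent.R2.H19.GoingDownVal
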