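import Mathlib

set_option autoImplicit false
universe u
open MvPolynomial

namespace Groth.Agent.R2.H19.Hopf

variable (k : Type u) [Field k] (m n : ℕ)

/-- substitution killing the first `r` of the `x`'s and the first `s` of the `y`'s -/
noncomputable def theta (r s : ℕ) :
    MvPolynomial (Fin m ⊕ Fin n) k →ₐ[k] MvPolynomial (Fin m ⊕ Fin n) k :=
  aeval (Sum.elim (fun i : Fin m => if i.val < r then 0 else X (Sum.inl i))
    (fun j : Fin n => if j.val < s then 0 else X (Sum.inr j)))

/-- the Segre map `z_ij ↦ x_i y_j` -/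
noncomputable def segre : MvPolynomial (Fin m × Fin n) k →ₐ[k] MvPolynomial (Fin m ⊕ Fin n) k :=
  aeval (fun ij => X (Sum.inl ij.1) * X (Sum.inr ij.2))

noncomputable def rho (r s : ℕ) :
    MvPolynomial (Fin m × Fin n) k →ₐ[k] MvPolynomial (Fin m ⊕ Fin n) k :=
  (theta k m n r s).comp (segre k m n)

variable {k m n}

lemma rho_X (r s : ℕ) (i : Fin m) (j : Fin n) :
    rho k m n r s (X (i, j)) =
      (if i.val < r then 0 else X (Sum.inl i)) * (if j.val < s then 0 else X (Sum.inr j)) := by
  simp [rho, segre, theta]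

lemma theta_comp_theta {r s r' s' : ℕ} (hr : r ≤ r') (hs : s ≤ s') :
    (theta k m n r' s').comp (theta k m n r s) = theta k m n r' s' := by
  apply MvPolynomial.algHom_ext
  rintro (i | j)
  · simp only [theta, AlgHom.comp_apply, aeval_X, Sum.elim_inl]
    by_cases h1 : i.val < r
    · have h2 : i.val < r' := by omega
      simp [h1, h2]
    · by_cases h2 : i.val < r' <;> simp [h1, h2]
  · simp only [theta, AlgHom.comp_apply, aeval_X, Sum.elim_inr]
    by_cases h1 : j.val < s
    · have h2 : j.val < s' := by omega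
      simp [h1, h2]
    · by_cases h2 : j.val < s' <;> simp [h1, h2]

lemma rho_eq_theta_rho {r s r' s' : ℕ} (hr : r ≤ r') (hs : s ≤ s')
    (a : MvPolynomial (Fin m × Fin n) k) :
    rho k m n r' s' a = theta k m n r' s' (rho k m n r s a) := by
  simp only [rho, AlgHom.comp_apply]
  rw [← AlgHom.comp_apply (theta k m n r' s') (theta k m n r s), theta_comp_theta hr hs]

lemma theta_zero_zero : theta k m n 0 0 = AlgHom.id k _ := by
  apply MvPolynomial.algHom_ext
  rintro (i | j) <;> simp [theta]

lemma rho_zero_zero : rho k m n 0 0 = segre k m n := by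
  rw [rho, theta_zero_zero, AlgHom.id_comp]

variable (k m n) in
/-- The Segre ring (coordinate ring of the cone over the Segre variety). -/
abbrev SegreRing : Type u := MvPolynomial (Fin m × Fin n) k ⧸ RingHom.ker (segre k m n)

lemma ker_segre_le_ker_rho (r s : ℕ) :
    RingHom.ker (segre k m n) ≤ RingHom.ker (rho k m n r s) := by
  intro a ha
  rw [RingHom.mem_ker] at ha ⊢
  rw [rho, AlgHom.comp_apply, ha, map_zero]

variable (k m n) in
noncomputable def rhoBar (r s : ℕ) : SegreRing k m n →+* MvPolynomial (Fin m ⊕ Fin n) k :=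
  Ideal.Quotient.lift _ (rho k m n r s : _ →+* _) (fun _ ha => RingHom.mem_ker.mp (ker_segre_le_ker_rho r s ha))

@[simp] lemma rhoBar_mk (r s : ℕ) (a : MvPolynomial (Fin m × Fin n) k) :
    rhoBar k m n r s (Ideal.Quotient.mk _ a) = rho k m n r s a := rfl

variable (k m n) in
/-- the primes of the chain -/
noncomputable def q (r s : ℕ) : Ideal (SegreRing k m n) := RingHom.ker (rhoBar k m n r s)

instance (r s : ℕ) : (q k m n r s).IsPrime := RingHom.ker_isPrime _

lemma q_mono {r s r' s' : ℕ} (hr : r ≤ r') (hs : s ≤ s') : q k m n r s ≤ q k m n r' s' := by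
  intro x hx
  obtain ⟨a, rfl⟩ := Ideal.Quotient.mk_surjective x
  rw [q, RingHom.mem_ker, rhoBar_mk] at hx ⊢
  rw [rho_eq_theta_rho hr hs, hx, map_zero]

lemma q_lt {r s r' s' : ℕ} (hr : r ≤ r') (hs : s ≤ s') (hrm : r < m) (hsn : s < n)
    (h : r < r' ∨ s < s') : q k m n r s < q k m n r' s' := by
  refine lt_of_le_of_ne (q_mono hr hs) fun heq => ?_
  have h1 : (Ideal.Quotient.mk _ (X (⟨r, hrm⟩, ⟨s, hsn⟩)) : SegreRing k m n) ∈ q k m n r' s' := by
    rw [q, RingHom.mem_ker, rhoBar_mk, rho_X]
    rcases h with h | h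
    · simp [h]
    · simp [h]
  rw [← heq, q, RingHom.mem_ker, rhoBar_mk, rho_X] at h1
  simp at h1

/-- the chain -/
lemma chain_lt (hm : 0 < m) (hn : 0 < n) (t : ℕ) (ht : t + 1 < m + n) :
    q k m n (min t (m - 1)) (t - min t (m - 1)) <
      q k m n (min (t + 1) (m - 1)) (t + 1 - min (t + 1) (m - 1)) := by
  apply q_lt <;> omega

lemma le_height_chain (hm : 0 < m) (hn : 0 < n) (t : ℕ) (ht : t < m + n) :
    (t : ℕ∞) ≤ (q k m n (min t (m - 1)) (t - min t (m - 1))).height := by
  induction t with
  | zero => simp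
  | succ t ih =>
    have := Ideal.height_add_one_le_of_lt_of_isPrime (chain_lt (k := k) hm hn t ht)
    refine le_trans ?_ this
    push_cast
    gcongr
    exact ih (by omega)

/-- The irrelevant ideal of the Segre ring has height at least `m + n - 1`. -/
lemma le_height_top (hm : 0 < m) (hn : 0 < n) :
    ((m + n - 1 : ℕ) : ℕ∞) ≤ (q k m n m n).height := by
  have h1 := le_height_chain (k := k) hm hn (m + n - 1) (by omega)
  refine h1.trans (Ideal.height_mono (q_mono ?_ ?_)) <;> omega

end Groth.Agent.R2.H19.Hopf
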