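import Groth.Agent.R2.H19HopfChain

set_option autoImplicit false
set_option linter.unusedSectionVars false
universe u v
open MvPolynomial

namespace Groth.Agent.R2.H19.Hopf

variable {k : Type u} [Field k] {m n : ℕ} {τ : Type*} [Fintype τ]
  (c : τ → Fin m × Fin n → k)

/-- the linear forms on the space of matrices -/
noncomputable def L (t : τ) : MvPolynomial (Fin m × Fin n) k := ∑ ij, C (c t ij) * X ij

/-- `1`-genericity in coordinates -/
def OneGeneric : Prop :=
  ∀ (a : Fin m → k) (b : Fin n → k), (∀ t, ∑ ij, c t ij * (a ij.1 * b ij.2) = 0) → a = 0 ∨ b = 0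

lemma aeval_L (z : Fin m × Fin n → k) (t : τ) : aeval z (L c t) = ∑ ij, c t ij * z ij := by
  simp [L]

lemma minor_mem_ker (i i' : Fin m) (j j' : Fin n) :
    (X (i, j) * X (i', j') - X (i, j') * X (i', j) : MvPolynomial (Fin m × Fin n) k) ∈
      RingHom.ker (segre k m n) := by
  rw [RingHom.mem_ker]
  simp only [segre, map_sub, map_mul, aeval_X]
  ring

variable {c}

/-- The only common zero of the Segre relations and of the linear forms is the origin. -/
lemma eq_zero_of_zero (hc : OneGeneric c) (z : Fin m × Fin n → k)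
    (h1 : ∀ p ∈ RingHom.ker (segre k m n), aeval z p = 0) (h2 : ∀ t, aeval z (L c t) = 0) :
    z = 0 := by
  by_contra hz
  obtain ⟨⟨i₀, j₀⟩, h0⟩ : ∃ ij, z ij ≠ 0 := by
    by_contra hcon
    push Not at hcon
    exact hz (funext hcon)
  have hrel : ∀ i j, z (i, j₀) * z (i₀, j) = z (i, j) * z (i₀, j₀) := by
    intro i j
    have := h1 _ (minor_mem_ker (k := k) i i₀ j₀ j)
    simp only [map_sub, map_mul, aeval_X] at this
    linear_combination this
  rcases hc (fun i => z (i, j₀)) (fun j => z (i₀, j) / z (i₀, j₀)) (fun t => by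
    have := h2 t
    rw [aeval_L] at this
    rw [← this]
    refine Finset.sum_congr rfl fun ij _ => ?_
    obtain ⟨i, j⟩ := ij
    simp only
    rw [← mul_div_assoc, hrel, mul_div_assoc, div_self h0, mul_one]) with h | h
  · exact h0 (congr_fun h i₀)
  · have := congr_fun h j₀
    simp only [div_self h0, Pi.zero_apply] at this
    exact one_ne_zero this

variable [IsAlgClosed k]

lemma comap_eq_of_mem (hc : OneGeneric c) (p : Ideal (SegreRing k m n)) [p.IsPrime]
    (hp : ∀ t, (Ideal.Quotient.mk _ (L c t) : SegreRing k m n) ∈ p) :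
    p.comap (Ideal.Quotient.mk (RingHom.ker (segre k m n))) =
      vanishingIdeal k {(0 : Fin m × Fin n → k)} := by
  set Q := p.comap (Ideal.Quotient.mk (RingHom.ker (segre k m n))) with hQ
  have hQprime : Q.IsPrime := Ideal.comap_isPrime _ _
  have hker : RingHom.ker (segre k m n) ≤ Q := by
    intro a ha
    rw [hQ, Ideal.mem_comap, Ideal.Quotient.eq_zero_iff_mem.mpr ha]
    exact zero_mem _
  have hzl : zeroLocus k Q ⊆ {0} := by
    intro z hz
    rw [Set.mem_singleton_iff]
    exact eq_zero_of_zero hc z (fun a ha => hz a (hker ha)) (fun t => hz _ (hp t))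
  have h1 : vanishingIdeal k {(0 : Fin m × Fin n → k)} ≤ Q := by
    rw [← IsPrime.vanishingIdeal_zeroLocus (K := k) Q]
    exact vanishingIdeal_anti_mono hzl
  exact (Ideal.IsMaximal.eq_of_le inferInstance hQprime.ne_top h1).symm

lemma L_mem_top (t : τ) : (Ideal.Quotient.mk _ (L c t) : SegreRing k m n) ∈ q k m n m n := by
  rw [q, RingHom.mem_ker, rhoBar_mk, L, map_sum]
  refine Finset.sum_eq_zero fun ij _ => ?_
  rw [map_mul, rho_X]
  simp

lemma top_mem_minimalPrimes (hc : OneGeneric c) :
    q k m n m n ∈ (Ideal.span (Set.range fun t => (Ideal.Quotient.mk _ (L c t) :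
      SegreRing k m n))).minimalPrimes := by
  refine ⟨⟨inferInstance, Ideal.span_le.mpr ?_⟩, ?_⟩
  · rintro _ ⟨t, rfl⟩
    exact L_mem_top t
  · rintro p ⟨hp, hle⟩ hpq
    have hmem : ∀ t, (Ideal.Quotient.mk _ (L c t) : SegreRing k m n) ∈ p :=
      fun t => hle (Ideal.subset_span ⟨t, rfl⟩)
    have e1 := comap_eq_of_mem hc p hmem
    have e2 := comap_eq_of_mem hc (q k m n m n) L_mem_top
    have : p = q k m n m n :=
      Ideal.comap_injective_of_surjective _ Ideal.Quotient.mk_surjective (e1.trans e2.symm)
    exact this.ge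

theorem card_bound (hc : OneGeneric c) (hm : 0 < m) (hn : 0 < n) :
    m + n ≤ Fintype.card τ + 1 := by
  classical
  have h1 := le_height_top (k := k) hm hn
  have h2 : (q k m n m n).height ≤
      (Finset.univ.image fun t => (Ideal.Quotient.mk _ (L c t) : SegreRing k m n)).card := by
    apply Ideal.height_le_card_of_mem_minimalPrimes_span_finset
    rw [Finset.coe_image, Finset.coe_univ, Set.image_univ]
    exact top_mem_minimalPrimes hc
  have h3 : ((m + n - 1 : ℕ) : ℕ∞) ≤ (Fintype.card τ : ℕ∞) := by
    refine h1.trans (h2.trans ?_)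
    exact_mod_cast Finset.card_image_le.trans (le_of_eq Finset.card_univ)
  have h4 : m + n - 1 ≤ Fintype.card τ := by exact_mod_cast h3
  omega

/-- **Hopf lemma** for `1`-generic bilinear maps over an algebraically closed field. -/
theorem hopf (k : Type u) [Field k] [IsAlgClosed k]
    (U V W : Type v) [AddCommGroup U] [Module k U] [AddCommGroup V] [Module k V]
    [AddCommGroup W] [Module k W]
    [Module.Finite k U] [Module.Finite k V] [Module.Finite k W] [Nontrivial U] [Nontrivial V]
    (φ : U →ₗ[k] V →ₗ[k] W) (hφ : ∀ (a : U) (b : V), a ≠ 0 → b ≠ 0 → φ a b ≠ 0) :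
    Module.finrank k U + Module.finrank k V ≤ Module.finrank k W + 1 := by
  let bU := Module.finBasis k U
  let bV := Module.finBasis k V
  let bW := Module.finBasis k W
  let c : Fin (Module.finrank k W) → Fin (Module.finrank k U) × Fin (Module.finrank k V) → k :=
    fun t ij => bW.repr (φ (bU ij.1) (bV ij.2)) t
  have hc : OneGeneric c := by
    intro a b h
    have key : φ (∑ i, a i • bU i) (∑ j, b j • bV j) = 0 := by
      apply bW.ext_elem
      intro t
      have := h t
      rw [Fintype.sum_prod_type] at this
      simp only [map_sum, LinearMap.sum_apply, map_smul, LinearMap.smul_apply, Finsupp.coe_finsetSum,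
        Finset.sum_apply, Finsupp.coe_smul, Pi.smul_apply, smul_eq_mul, map_zero,
        Finsupp.coe_zero, Pi.zero_apply]
      rw [Finset.sum_comm] at this
      rw [← this]
      refine Finset.sum_congr rfl fun j _ => ?_
      rw [Finset.mul_sum]
      refine Finset.sum_congr rfl fun i _ => ?_
      simp only [c]
      ring
    by_contra hcon
    push Not at hcon
    refine hφ _ _ ?_ ?_ key
    · intro h0
      exact hcon.1 (funext (Fintype.linearIndependent_iff.mp bU.linearIndependent a h0))
    · intro h0
      exact hcon.2 (funext (Fintype.linearIndependent_iff.mp bV.linearIndependent b h0))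
  have := card_bound hc Module.finrank_pos Module.finrank_pos
  simpa using this

end Groth.Agent.R2.H19.Hopf
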