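import Groth.Agent.Lib.Helper19ComplDVR
import Groth.Agent.Lib.Helper5RLR
import Mathlib

/-!
# Kernels of maps of finite free modules over a regular ring of dimension ≤ 2 are projective
(helper19)
-/

set_option autoImplicit false
set_option linter.style.haveILetI false
universe u v w

namespace Groth.Agent.R2.H19.KerProj

open IsLocalRing Module
open scoped Pointwise

section PID

variable {O : Type u} [CommRing O] [IsDomain O] [IsPrincipalIdealRing O]
variable {F₁ : Type v} [AddCommGroup F₁] [Module O F₁] [Module.Free O F₁] [Module.Finite O F₁]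

theorem free_submodule_of_pid (K : Submodule O F₁) : Module.Free O K := by
  haveI : Module.IsTorsionFree O F₁ := inferInstance
  haveI : Module.IsTorsionFree O K := inferInstance
  haveI : Module.Finite O K := inferInstance
  exact Module.free_of_finite_type_torsion_free'

end PID

section Step

variable {O : Type u} [CommRing O] [IsDomain O] [IsLocalRing O] [IsNoetherianRing O]
variable {F₁ : Type v} [AddCommGroup F₁] [Module O F₁] [Module.Free O F₁] [Module.Finite O F₁]
variable {F₂ : Type w} [AddCommGroup F₂] [Module O F₂] [Module.IsTorsionFree O F₂]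

/-- If `x` lies in the maximal ideal and `O ⧸ (x)` is a principal ideal domain, the kernel of a map
from a finite free module to a torsion-free module is free. -/
theorem free_ker_of_quotient_pid (x : O) (hx : x ∈ maximalIdeal O) (hx0 : x ≠ 0)
    [IsDomain (O ⧸ Ideal.span {x})] [IsPrincipalIdealRing (O ⧸ Ideal.span {x})]
    (φ : F₁ →ₗ[O] F₂) : Module.Free O (LinearMap.ker φ) := by
  classical
  obtain ⟨K, hK⟩ : ∃ K : Submodule O F₁, K = LinearMap.ker φ := ⟨_, rfl⟩
  rw [← hK]
  haveI : Module.IsTorsionFree O F₁ := inferInstance
  haveI : Module.IsTorsionFree O K := inferInstance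
  have hreg : IsSMulRegular K x := IsSMulRegular.of_ne_zero hx0
  have hjac : x ∈ (⊥ : Ideal O).jacobson := by
    rw [IsLocalRing.jacobson_eq_maximalIdeal ⊥ bot_ne_top]
    exact hx
  haveI : Module.FinitePresentation O K := Module.finitePresentation_of_finite O K
  rw [← Module.free_quotSMulTop_iff_free O K hjac hreg]
  haveI : Module.Finite (O ⧸ Ideal.span {x}) (QuotSMulTop x K) :=
    Module.Finite.of_restrictScalars_finite O _ _
  have hprime : (Ideal.span {x}).IsPrime := (Ideal.Quotient.isDomain_iff_prime _).mp inferInstance
  haveI : Module.IsTorsionFree (O ⧸ Ideal.span {x}) (QuotSMulTop x K) := by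
    rw [Module.isTorsionFree_iff_smul_eq_zero]
    intro r' m' h
    obtain ⟨r, rfl⟩ := Ideal.Quotient.mk_surjective r'
    obtain ⟨m, rfl⟩ := Submodule.Quotient.mk_surjective _ m'
    by_cases hr : Ideal.Quotient.mk (Ideal.span {x}) r = 0
    · left; exact hr
    right
    have h' : r • m ∈ (x • ⊤ : Submodule O K) := (Submodule.Quotient.mk_eq_zero _).mp h
    obtain ⟨k, -, hk⟩ := (Submodule.mem_smul_pointwise_iff_exists _ _ _).mp h'
    let b := Module.Free.chooseBasis O F₁
    have hdiv : ∀ i, x ∣ b.repr (m : F₁) i := by
      intro i
      have e1 : x * b.repr (k : F₁) i = r * b.repr (m : F₁) i := by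
        have := congrArg (fun z : K => b.repr (z : F₁) i) hk
        simpa using this
      have hmem : r * b.repr (m : F₁) i ∈ Ideal.span {x} := by
        rw [← e1]
        exact Ideal.mul_mem_right _ _ (Ideal.mem_span_singleton_self x)
      rcases hprime.mem_or_mem hmem with h1 | h1
      · exact absurd (Ideal.Quotient.eq_zero_iff_mem.mpr h1) hr
      · exact Ideal.mem_span_singleton.mp h1
    choose c hc using hdiv
    let v : F₁ := ∑ i, c i • b i
    have hv : (m : F₁) = x • v := by
      apply b.repr.injective
      ext i
      simp only [v, map_smul, map_sum, Basis.repr_self, Finsupp.smul_apply, Finsupp.coe_finsetSum,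
        Finset.sum_apply, Finsupp.smul_single, smul_eq_mul, mul_one, Finsupp.single_apply]
      rw [Finset.sum_ite_eq' Finset.univ i]
      simp [hc i]
    have hvK : v ∈ K := by
      rw [hK, LinearMap.mem_ker]
      have h0 : x • φ v = 0 := by
        rw [← map_smul, ← hv]
        have hmK : (m : F₁) ∈ LinearMap.ker φ := hK ▸ m.2
        exact LinearMap.mem_ker.mp hmK
      exact (smul_eq_zero.mp h0).resolve_left hx0
    rw [Submodule.Quotient.mk_eq_zero]
    exact (Submodule.mem_smul_pointwise_iff_exists _ _ _).mpr
      ⟨⟨v, hvK⟩, trivial, Subtype.ext hv.symm⟩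
  exact Module.free_of_finite_type_torsion_free'

end Step

section RegLocal

open Groth.Agent.Lib.Helper5 Groth.Agent.Lib.Helper19

variable {O : Type u} [CommRing O] [IsRegularLocalRing O]
variable {F₁ : Type v} [AddCommGroup F₁] [Module O F₁] [Module.Free O F₁] [Module.Finite O F₁]
variable {F₂ : Type w} [AddCommGroup F₂] [Module O F₂] [Module.Free O F₂]

/-- Over a regular local ring of dimension at most two, the kernel of a map from a finite free
module to a free module is free. -/
theorem free_ker_of_regularLocal (hdim : ringKrullDim O ≤ 2) (φ : F₁ →ₗ[O] F₂) :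
    Module.Free O (LinearMap.ker φ) := by
  haveI : IsDomain O := isDomain_of_isRegularLocalRing O
  haveI : Module.IsTorsionFree O F₂ := inferInstance
  by_cases h0 : ringKrullDim O = 0
  · haveI : Ring.KrullDimLE 0 O := by
      rw [Ring.krullDimLE_iff, h0]
      rfl
    have hf : IsField O := Ring.KrullDimLE.isField_of_isDomain
    letI := hf.toField
    exact Module.Free.of_divisionRing O (LinearMap.ker φ)
  · by_cases h1 : ringKrullDim O = 1
    · obtain ⟨_, hdvr⟩ := (isDiscreteValuationRing_iff_regular_dim_one O).mpr ⟨inferInstance, h1⟩
      exact free_submodule_of_pid _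
    · obtain ⟨x, hxm, hx2, -⟩ := exists_mem_maximalIdeal_not_mem_sq_not_mem_minimalPrimes h0
      have hne : Ideal.span ({x} : Set O) ≠ ⊤ := by
        intro h
        have : Ideal.span ({x} : Set O) ≤ maximalIdeal O := by
          rw [Ideal.span_le]
          simpa using hxm
        rw [h] at this
        exact (IsLocalRing.maximalIdeal.isMaximal O).ne_top (top_le_iff.mp this)
      haveI : IsLocalRing (O ⧸ Ideal.span ({x} : Set O)) := isLocalRing_quotient hne
      obtain ⟨hreg, hd⟩ := isRegularLocalRing_quotient_span_singleton hxm hx2
      have hd1 : ringKrullDim (O ⧸ Ideal.span ({x} : Set O)) = 1 := by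
        obtain ⟨n, hn⟩ := exists_nat_ringKrullDim_eq O
        obtain ⟨n', hn'⟩ := exists_nat_ringKrullDim_eq (O ⧸ Ideal.span ({x} : Set O))
        rw [hn] at hdim h0 h1 hd
        rw [hn'] at hd ⊢
        have hd' : n' + 1 = n := by exact_mod_cast hd
        have hdim' : n ≤ 2 := by exact_mod_cast hdim
        have h0' : n ≠ 0 := by exact_mod_cast h0
        have h1' : n ≠ 1 := by exact_mod_cast h1
        have : n' = 1 := by omega
        rw [this]
        rfl
      obtain ⟨hdom, hdvr⟩ := (isDiscreteValuationRing_iff_regular_dim_one
        (O ⧸ Ideal.span ({x} : Set O))).mpr ⟨hreg, hd1⟩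
      have hx0 : x ≠ 0 := by
        rintro rfl
        exact hx2 (Ideal.zero_mem _)
      exact free_ker_of_quotient_pid x hxm hx0 φ

end RegLocal

section Global

variable {R : Type u} [CommRing R] [IsRegularRing R]
variable {F₁ : Type v} [AddCommGroup F₁] [Module R F₁] [Module.Free R F₁] [Module.Finite R F₁]
variable {F₂ : Type w} [AddCommGroup F₂] [Module R F₂] [Module.Free R F₂]

omit [IsRegularRing R] in
theorem ringKrullDim_localization_atPrime_le (P : Ideal R) [P.IsPrime] :
    ringKrullDim (Localization.AtPrime P) ≤ ringKrullDim R := by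
  rw [IsLocalization.AtPrime.ringKrullDim_eq_height P (Localization.AtPrime P)]
  exact Ideal.height_le_ringKrullDim_of_isPrime

/-- Over a regular ring of dimension at most two, the kernel of a map from a finite free module
to a free module is projective. -/
theorem projective_ker_of_regular (hdim : ringKrullDim R ≤ 2) (φ : F₁ →ₗ[R] F₂) :
    Module.Projective R (LinearMap.ker φ) := by
  haveI : Module.FinitePresentation R (LinearMap.ker φ) := Module.finitePresentation_of_finite R _
  refine Module.projective_of_localization_maximal' (fun P _ => Localization.AtPrime P)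
    (fun P _ => (LinearMap.ker φ).localized' (Localization.AtPrime P) P.primeCompl
      (LocalizedModule.mkLinearMap P.primeCompl F₁))
    (fun P _ => (LinearMap.ker φ).toLocalized' (Localization.AtPrime P) P.primeCompl
      (LocalizedModule.mkLinearMap P.primeCompl F₁)) ?_
  intro P hP
  rw [LinearMap.localized'_ker_eq_ker_localizedMap (Localization.AtPrime P) P.primeCompl
    (LocalizedModule.mkLinearMap P.primeCompl F₁) (LocalizedModule.mkLinearMap P.primeCompl F₂) φ]
  haveI : Module.Free (Localization.AtPrime P) (LocalizedModule P.primeCompl F₁) :=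
    Module.free_of_isLocalizedModule P.primeCompl (LocalizedModule.mkLinearMap P.primeCompl F₁)
  haveI : Module.Free (Localization.AtPrime P) (LocalizedModule P.primeCompl F₂) :=
    Module.free_of_isLocalizedModule P.primeCompl (LocalizedModule.mkLinearMap P.primeCompl F₂)
  haveI : Module.Finite (Localization.AtPrime P) (LocalizedModule P.primeCompl F₁) := inferInstance
  haveI := free_ker_of_regularLocal (O := Localization.AtPrime P)
    ((ringKrullDim_localization_atPrime_le P).trans hdim)
    ((IsLocalizedModule.map P.primeCompl (LocalizedModule.mkLinearMap P.primeCompl F₁)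
      (LocalizedModule.mkLinearMap P.primeCompl F₂) φ).extendScalarsOfIsLocalization P.primeCompl
        (Localization.AtPrime P))
  infer_instance

end Global

end Groth.Agent.R2.H19.KerProj
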