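import Groth.Agent.Lib.Helper4VarDim8

/-!
# Proper intersection with a locally complete intersection locus (helper19)

* `mem_range_iff_of_ker_eq`: over an affine open `U` on which `ι` is a closed immersion with kernel generated by
  `rs`, the range of `ι` is the common zero locus of `rs`.
* `exists_trdegNat_add_ge`: Krull's height theorem in geometric form for schemes locally of finite type over a field.
* `trdegNat_le_dim_sub`, `dim_sub_le`: dimension of a closed subset of a locally closed subspace via `trdegNat`.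
-/

set_option autoImplicit false
set_option linter.style.haveILetI false
universe u

open AlgebraicGeometry CategoryTheory TopologicalSpace Topology

namespace Groth.Agent.R2.H19.PropInt

section Range

variable {W X : Scheme.{u}} (ι : W ⟶ X)

/-- On an affine open `U` over which `ι` is a closed immersion with kernel generated by `rs`, the
range of `ι` is the common zero locus of `rs`. -/
theorem mem_range_iff_of_ker_eq [QuasiCompact ι] (U : X.affineOpens)
    (hcl : IsClosedImmersion (ι ∣_ U.1)) (rs : List Γ(X, U.1))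
    (hker : RingHom.ker (ι.app U.1).hom = Ideal.ofList rs) (y : X) (hy : y ∈ U.1) :
    y ∈ Set.range ι ↔ ∀ r ∈ rs, y ∉ X.basicOpen r := by
  constructor
  · rintro ⟨z, rfl⟩ r hr hyr
    have hr0 : (ι.app U.1).hom r = 0 := by
      have : r ∈ RingHom.ker (ι.app U.1).hom := by
        rw [hker]; exact Ideal.subset_span hr
      exact this
    have h1 : z ∈ ι ⁻¹ᵁ X.basicOpen r := hyr
    rw [Scheme.preimage_basicOpen] at h1
    have h2 : W.basicOpen ((ι.app U.1).hom r) = ⊥ := by rw [hr0, Scheme.basicOpen_zero]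
    rw [h2] at h1
    exact h1
  · intro h
    -- `y` lies in the support of the kernel ideal sheaf
    have h1 : y ∈ ι.ker.support := by
      rw [Scheme.IdealSheafData.mem_support_iff_of_mem (U := U) hy, Scheme.Hom.ker_apply, hker,
        Ideal.ofList, Scheme.zeroLocus_span, Scheme.mem_zeroLocus_iff]
      exact h
    replace h1 : y ∈ closure (Set.range ι) := by
      have := Scheme.Hom.support_ker ι
      rw [← this]
      exact h1
    -- closedness of the range over `U`
    have h2 : y ∈ closure ((U.1 : Set X) ∩ Set.range ι) :=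
      U.1.isOpen.inter_closure ⟨hy, h1⟩
    let y' : U.1.toScheme := ⟨y, hy⟩
    have h3 : y' ∈ closure (Set.range (ι ∣_ U.1)) := by
      rw [U.1.ι.isEmbedding.isInducing.closure_eq_preimage_closure_image]
      show y ∈ closure (U.1.ι '' Set.range (ι ∣_ U.1))
      refine closure_mono ?_ h2
      rintro _ ⟨hxU, z, rfl⟩
      let z' : (ι ⁻¹ᵁ U.1).toScheme := ⟨z, hxU⟩
      exact ⟨(ι ∣_ U.1) z', ⟨z', rfl⟩, morphismRestrict_base_coe ι U.1 z'⟩
    rw [(ι ∣_ U.1).isClosedEmbedding.isClosed_range.closure_eq] at h3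
    obtain ⟨z, hz⟩ := h3
    refine ⟨z.1, ?_⟩
    have := congrArg Subtype.val hz
    rwa [morphismRestrict_base_coe] at this


end Range

section Dim

open Groth.Agent.Lib.Helper4.VarDim

variable (k : Type u) [Field k] (C : Scheme.{u}) [C.Over (Spec (CommRingCat.of k))]
  [LocallyOfFiniteType (C ↘ Spec (CommRingCat.of k))]

attribute [local instance] sectionsAlgebra Curv2.resAlgebra

/-- Krull's height theorem in geometric form: if `R` is locally the zero set of `c` functions, `P` is
irreducible closed of dimension `n`, then every irreducible component of `P ∩ R` contains a point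
with `trdeg + c ≥ n`. -/
theorem exists_trdegNat_add_ge (P : Set C) (hPc : IsClosed P) (hPi : IsIrreducible P) (n : ℕ)
    (hn : topologicalKrullDim P = n) (R : Set C) (hRlc : IsLocallyClosed R) (c : ℕ)
    (hR : ∀ ξ ∈ R, ∃ (V : C.Opens) (_ : IsAffineOpen V) (gs : List Γ(C, V)), ξ ∈ V ∧
      gs.length = c ∧ ∀ η ∈ V, (η ∈ R ↔ ∀ g ∈ gs, η ∉ C.basicOpen g))
    (Q : Set ↥(P ∩ R)) (hQ : Q ∈ irreducibleComponents ↥(P ∩ R)) :
    ∃ t ∈ Q, n ≤ trdegNat k C t.1 + c := by
  classical
  have hTlc : IsLocallyClosed (P ∩ R) := hPc.isLocallyClosed.inter hRlc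
  haveI : QuasiSober ↥(P ∩ R) := quasiSober_of_isLocallyClosed _ hTlc
  have hQirr : IsIrreducible Q := hQ.1
  have hQcl : IsClosed Q := isClosed_of_mem_irreducibleComponents Q hQ
  set ξ' : ↥(P ∩ R) := hQirr.genericPoint with hξ'
  have hξ'gen : IsGenericPoint ξ' Q := hQirr.isGenericPoint_genericPoint hQcl
  have hξ'Q : ξ' ∈ Q := hξ'gen.mem
  refine ⟨ξ', hξ'Q, ?_⟩
  set ξ : C := ξ'.1 with hξ
  have hξP : ξ ∈ P := ξ'.2.1
  have hξR : ξ ∈ R := ξ'.2.2
  obtain ⟨V, hV, gs, hξV, hlen, hVR⟩ := hR ξ hξR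
  -- generic point of `P`
  set ξP : C := hPi.genericPoint with hξPdef
  have hξPgen : IsGenericPoint ξP P := hPi.isGenericPoint_genericPoint hPc
  have hsp : ξP ⤳ ξ := hξPgen.specializes hξP
  have hξPV : ξP ∈ V := hsp.mem_open V.isOpen hξV
  have hδP : trdegNat k C ξP = n := by
    have h1 := topologicalKrullDim_closure_singleton k C ξP
    have hcongr : ∀ {s t : Set C}, s = t → topologicalKrullDim ↥s = topologicalKrullDim ↥t := by
      intro s t h; subst h; rfl
    rw [hcongr hξPgen.def, hn] at h1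
    exact_mod_cast h1.symm
  haveI := finiteType_sections k C hV
  haveI : IsNoetherianRing Γ(C, V) := Algebra.FiniteType.isNoetherianRing k Γ(C, V)
  obtain ⟨m, c', n', hm, hn', hmc, hc'⟩ := trdeg_specializes k C hV ξP ξ hξPV hξV hsp
  rw [trdegNat_eq_of_trdeg_eq k C ξP m hm] at hδP
  rw [trdegNat_eq_of_trdeg_eq k C ξ n' hn']
  suffices hle : c' ≤ c by omega
  set 𝔭 : Ideal Γ(C, V) := (hV.primeIdealOf ⟨ξP, hξPV⟩).asIdeal with h𝔭
  set 𝔮 : Ideal Γ(C, V) := (hV.primeIdealOf ⟨ξ, hξV⟩).asIdeal with h𝔮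
  have hpq : 𝔭 ≤ 𝔮 := (primeIdealOf_le_iff hV ξP ξ hξPV hξV).mpr hsp
  set Q' : Ideal (Γ(C, V) ⧸ 𝔭) := 𝔮.map (Ideal.Quotient.mk 𝔭) with hQ'
  haveI hQ'prime : Q'.IsPrime :=
    Ideal.map_isPrime_of_surjective Ideal.Quotient.mk_surjective (by rw [Ideal.mk_ker]; exact hpq)
  -- the generators
  let S : Set (Γ(C, V) ⧸ 𝔭) := (fun g => Ideal.Quotient.mk 𝔭 g) '' {g | g ∈ gs}
  have hSfin : S.Finite := (List.finite_toSet gs).image _
  have hScard : S.ncard ≤ c := by
    refine (Set.ncard_image_le (List.finite_toSet gs)).trans ?_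
    rw [← hlen]
    have : {g | g ∈ gs} = (gs.toFinset : Set Γ(C, V)) := by ext; simp
    rw [this, Set.ncard_coe_finset]
    exact List.toFinset_card_le gs
  have hmin : Q' ∈ (Ideal.span S).minimalPrimes := by
    refine ⟨⟨hQ'prime, Ideal.span_le.mpr ?_⟩, ?_⟩
    · rintro _ ⟨g, hg, rfl⟩
      refine Ideal.mem_map_of_mem _ ?_
      rw [h𝔮, mem_primeIdealOf_iff_notMem_basicOpen hV ξ hξV g]
      exact (hVR ξ hξV).mp hξR g hg
    · rintro Q'' ⟨hQ''prime, hSle⟩ hQ''le
      -- the point corresponding to `Q''`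
      set 𝔮'' : Ideal Γ(C, V) := Q''.comap (Ideal.Quotient.mk 𝔭) with h𝔮''
      haveI h𝔮''prime : 𝔮''.IsPrime := Ideal.comap_isPrime _ _
      have hp𝔮'' : 𝔭 ≤ 𝔮'' := by
        intro a ha
        rw [h𝔮'', Ideal.mem_comap, Ideal.Quotient.eq_zero_iff_mem.mpr ha]
        exact zero_mem _
      have h𝔮''q : 𝔮'' ≤ 𝔮 := by
        intro a ha
        have h1 : Ideal.Quotient.mk 𝔭 a ∈ Q' := hQ''le ha
        rw [hQ', Ideal.mem_map_iff_of_surjective _ Ideal.Quotient.mk_surjective] at h1
        obtain ⟨b, hb, hab⟩ := h1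
        have : a - b ∈ 𝔭 := by
          rw [← Ideal.Quotient.eq_zero_iff_mem, map_sub, hab, sub_self]
        have h2 : a = (a - b) + b := by ring
        rw [h2]
        exact 𝔮.add_mem (hpq this) hb
      set η : C := hV.fromSpec ⟨𝔮'', h𝔮''prime⟩ with hη
      have hηV : η ∈ V := fromSpec_mem hV _
      have e : hV.primeIdealOf ⟨η, hηV⟩ = ⟨𝔮'', h𝔮''prime⟩ := primeIdealOf_fromSpec hV _ hηV
      have hξPη : ξP ⤳ η := by
        rw [← primeIdealOf_le_iff hV _ _ hξPV hηV, e]
        exact hp𝔮''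
      have hηξ : η ⤳ ξ := by
        rw [← primeIdealOf_le_iff hV _ _ hηV hξV, e]
        exact h𝔮''q
      have hηP : η ∈ P := by
        rw [← hξPgen.def]
        exact specializes_iff_mem_closure.mp hξPη
      have hηR : η ∈ R := by
        rw [hVR η hηV]
        intro g hg
        rw [← mem_primeIdealOf_iff_notMem_basicOpen hV η hηV g, e]
        show g ∈ 𝔮''
        rw [h𝔮'', Ideal.mem_comap]
        exact hSle (Ideal.subset_span ⟨g, hg, rfl⟩)
      set η' : ↥(P ∩ R) := ⟨η, hηP, hηR⟩ with hη'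
      have hη'ξ' : η' ⤳ ξ' := by
        rw [subtype_specializes_iff]
        exact hηξ
      -- maximality of Q
      have hQsub : Q ⊆ closure {η'} := by
        rw [← hξ'gen.def]
        exact closure_minimal (Set.singleton_subset_iff.mpr
          (specializes_iff_mem_closure.mp hη'ξ')) isClosed_closure
      have hcl : closure {η'} ⊆ Q := hQ.2 isIrreducible_singleton.closure hQsub
      have hη'Q : η' ∈ Q := hcl (subset_closure rfl)
      have hξ'η' : ξ' ⤳ η' := hξ'gen.specializes hη'Q
      have hξη : ξ ⤳ η := by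
        have := (subtype_specializes_iff _ _).mp hξ'η'
        exact this
      have hq𝔮'' : 𝔮 ≤ 𝔮'' := by
        have := (primeIdealOf_le_iff hV ξ η hξV hηV).mpr hξη
        rw [e] at this
        exact this
      rw [hQ', Ideal.map_le_iff_le_comap]
      exact hq𝔮''
  have hht := Ideal.height_le_card_of_mem_minimalPrimes_span hSfin hmin
  rw [hc'] at hht
  have : (c' : ℕ∞) ≤ (c : ℕ∞) := hht.trans (by exact_mod_cast hScard)
  exact_mod_cast this


/-- lower bound for the dimension of a closed subset of a locally closed subspace -/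
theorem trdegNat_le_dim_sub (T : Set C) (hT : IsLocallyClosed T) (Q : Set ↥T) (hQ : IsClosed Q)
    (t : ↥T) (ht : t ∈ Q) :
    ((trdegNat k C t.1 : ℕ) : WithBot ℕ∞) ≤ topologicalKrullDim ↥Q := by
  have hlc : IsLocallyClosed (Subtype.val '' Q : Set C) :=
    hQ.isLocallyClosed.image IsInducing.subtypeVal (by rw [Subtype.range_val]; exact hT)
  have h1 := trdegNat_le_topologicalKrullDim_of_isLocallyClosed k C _ hlc t.1 ⟨t, ht, rfl⟩
  have h2 := IsHomeomorph.topologicalKrullDim_eq _
    (IsEmbedding.subtypeVal.homeomorphImage Q).isHomeomorph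
  rw [h2]
  exact h1

/-- upper bound for the dimension of a closed subset of a locally closed subspace -/
theorem dim_sub_le (T : Set C) (hT : IsLocallyClosed T) (Q : Set ↥T) (hQ : IsClosed Q)
    (d : WithBot ℕ∞) (hd : ∀ t ∈ Q, ((trdegNat k C t.1 : ℕ) : WithBot ℕ∞) ≤ d) :
    topologicalKrullDim ↥Q ≤ d := by
  have hlc : IsLocallyClosed (Subtype.val '' Q : Set C) :=
    hQ.isLocallyClosed.image IsInducing.subtypeVal (by rw [Subtype.range_val]; exact hT)
  haveI := quasiSober_of_isLocallyClosed _ hlc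
  have h2 := IsHomeomorph.topologicalKrullDim_eq _
    (IsEmbedding.subtypeVal.homeomorphImage Q).isHomeomorph
  rw [h2]
  refine topologicalKrullDim_le_of_forall_trdegNat_le k C _ d ?_
  rintro _ ⟨t, ht, rfl⟩
  exact hd t ht

end Dim

end Groth.Agent.R2.H19.PropInt
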