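import Groth.Agent.Lib.Helper4Unibranch
import Groth.Agent.Lib.Helper3GURed
import Groth.Agent.Lib.Helper6UniB

set_option autoImplicit false
set_option linter.style.haveILetI false
universe u

namespace Groth.Agent.R2.H19.RadUnibranch

open Groth.Agent.Lib.Helper4.Unibranch IsLocalRing Groth.Agent.Lib.Helper3.GURed

/-- pointwise form of "injective on field valued points" for the normalization of `A` in `K`. -/
def PtInjAt (A : Type u) [CommRing A] (K : Type u) [Field K] [Algebra A K] (p : Ideal A) : Prop :=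
  ∀ (Ω : Type u) [Field Ω] (g₁ g₂ : integralClosure A K →+* Ω),
    g₁.comp (algebraMap A (integralClosure A K)) = g₂.comp (algebraMap A (integralClosure A K)) →
    RingHom.ker (g₁.comp (algebraMap A (integralClosure A K))) = p → g₁ = g₂

/-- geometric-point form of "radicial at `p`" for a ring map. -/
def RadAt (R S : Type u) [CommRing R] [CommRing S] [Algebra R S] (p : Ideal R) : Prop :=
  ∀ (Ω : Type u) [Field Ω] (σ₁ σ₂ : S →+* Ω),
    σ₁.comp (algebraMap R S) = σ₂.comp (algebraMap R S) →
    RingHom.ker (σ₁.comp (algebraMap R S)) = p → σ₁ = σ₂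

theorem ptInjAt_of_algEquiv {A : Type u} [CommRing A] {K K' : Type u} [Field K] [Field K']
    [Algebra A K] [Algebra A K'] (e : integralClosure A K ≃ₐ[A] integralClosure A K')
    (p : Ideal A) (h : PtInjAt A K p) : PtInjAt A K' p := by
  intro Ω _ g₁ g₂ hg hk
  have hc : ∀ g : integralClosure A K' →+* Ω,
      (g.comp (e : integralClosure A K →+* integralClosure A K')).comp (algebraMap A _) =
        g.comp (algebraMap A _) := by
    intro g
    ext a
    simp only [RingHom.comp_apply, RingHom.coe_coe, AlgEquiv.commutes]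
  have := h Ω (g₁.comp (e : integralClosure A K →+* integralClosure A K'))
    (g₂.comp (e : integralClosure A K →+* integralClosure A K')) (by rw [hc, hc, hg])
    (by rw [hc, hk])
  ext x
  obtain ⟨y, rfl⟩ := e.surjective x
  exact congrArg (fun f : integralClosure A K →+* Ω => f y) this

/-- extension of a field valued point along an injective integral extension, after enlarging the
field. -/
theorem exists_extension {S C : Type u} [CommRing S] [CommRing C] [Algebra S C]
    [Algebra.IsIntegral S C] (hinj : Function.Injective (algebraMap S C))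
    {Ω : Type u} [Field Ω] (σ : S →+* Ω) :
    ∃ σ' : C →+* AlgebraicClosure Ω,
      σ'.comp (algebraMap S C) = (algebraMap Ω (AlgebraicClosure Ω)).comp σ := by
  set q := RingHom.ker σ with hq
  haveI : q.IsPrime := RingHom.ker_isPrime σ
  obtain ⟨Q, -, hQ, hQq⟩ := Ideal.exists_ideal_over_prime_of_isIntegral q (⊥ : Ideal C)
    (by rw [← RingHom.ker_eq_comap_bot, (RingHom.injective_iff_ker_eq_bot _).mp hinj]; exact bot_le)
  haveI := hQ
  haveI : Q.LiesOver q := ⟨hQq.symm⟩
  let σbar : S ⧸ q →+* Ω := Ideal.Quotient.lift q σ (fun a ha => ha)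
  have hσbar : Function.Injective σbar := by
    rw [RingHom.injective_iff_ker_eq_bot]
    ext x
    obtain ⟨a, rfl⟩ := Ideal.Quotient.mk_surjective x
    rw [RingHom.mem_ker, Ideal.mem_bot, Ideal.Quotient.eq_zero_iff_mem]
    show σ a = 0 ↔ a ∈ RingHom.ker σ
    exact RingHom.mem_ker.symm
  letI algM : Algebra (S ⧸ q) (AlgebraicClosure Ω) :=
    ((algebraMap Ω (AlgebraicClosure Ω)).comp σbar).toAlgebra
  haveI : Module.IsTorsionFree (S ⧸ q) (AlgebraicClosure Ω) :=
    Module.isTorsionFree_iff_algebraMap_injective.mpr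
      ((algebraMap Ω (AlgebraicClosure Ω)).injective.comp hσbar)
  haveI : Algebra.IsIntegral (S ⧸ q) (C ⧸ Q) := Ideal.Quotient.algebra_isIntegral_of_liesOver Q q
  haveI : Module.IsTorsionFree (S ⧸ q) (C ⧸ Q) := by
    rw [Module.isTorsionFree_iff_algebraMap_injective, RingHom.injective_iff_ker_eq_bot]
    ext x
    obtain ⟨a, rfl⟩ := Ideal.Quotient.mk_surjective x
    rw [RingHom.mem_ker, Ideal.Quotient.algebraMap_mk_of_liesOver Q q a,
      Ideal.Quotient.eq_zero_iff_mem, Ideal.mem_bot, Ideal.Quotient.eq_zero_iff_mem, ← hQq]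
    rfl
  let l : (C ⧸ Q) →ₐ[S ⧸ q] AlgebraicClosure Ω := IsAlgClosed.lift
  refine ⟨l.toRingHom.comp (Ideal.Quotient.mk Q), ?_⟩
  ext a
  simp only [RingHom.comp_apply]
  have h1 : Ideal.Quotient.mk Q (algebraMap S C a) =
      algebraMap (S ⧸ q) (C ⧸ Q) (Ideal.Quotient.mk q a) :=
    (Ideal.Quotient.algebraMap_mk_of_liesOver Q q a).symm
  rw [h1]
  have h2 := l.commutes (Ideal.Quotient.mk q a)
  exact h2

section Domain

variable (A : Type u) [CommRing A] [IsDomain A] (p : Ideal A) [p.IsPrime]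

attribute [local instance] inclAlgebra fieldQuotMax

theorem gu_of_ptInjAt (H : PtInjAt A (FractionRing A) p) :
    IsLocalRing (integralClosure (Localization.AtPrime p) (FractionRing A)) ∧
      PowMem (algebraMap (Localization.AtPrime p)
        (integralClosure (Localization.AtPrime p) (FractionRing A))) := by
  haveI := isLocalization_incl A p
  apply isLocalRing_and_powMem_of_unique
  intro τ₁ τ₂ h₁ h₂
  apply IsLocalization.ringHom_ext
    (Algebra.algebraMapSubmonoid (integralClosure A (FractionRing A)) p.primeCompl)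
  have e : (algebraMap (integralClosure A (FractionRing A))
      (integralClosure (Localization.AtPrime p) (FractionRing A))).comp
        (algebraMap A (integralClosure A (FractionRing A))) =
      (algebraMap (Localization.AtPrime p) _).comp (algebraMap A (Localization.AtPrime p)) := by
    rw [← IsScalarTower.algebraMap_eq, ← IsScalarTower.algebraMap_eq]
  have hτ : ∀ τ : integralClosure (Localization.AtPrime p) (FractionRing A) →+*
      AlgebraicClosure (Localization.AtPrime p ⧸ maximalIdeal (Localization.AtPrime p)),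
      τ.comp (algebraMap (Localization.AtPrime p) _) = toAlgClosure (Localization.AtPrime p) →
      (τ.comp (algebraMap (integralClosure A (FractionRing A)) _)).comp (algebraMap A _) =
        (toAlgClosure (Localization.AtPrime p)).comp (algebraMap A (Localization.AtPrime p)) := by
    intro τ h
    rw [RingHom.comp_assoc, e, ← RingHom.comp_assoc, h]
  apply H _
  · rw [hτ τ₁ h₁, hτ τ₂ h₂]
  · rw [hτ τ₁ h₁]
    ext a
    rw [RingHom.mem_ker, RingHom.comp_apply]
    unfold toAlgClosure
    rw [RingHom.comp_apply]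
    erw [map_eq_zero_iff _ (algebraMap (Localization.AtPrime p ⧸ maximalIdeal (Localization.AtPrime p))
      (AlgebraicClosure (Localization.AtPrime p ⧸ maximalIdeal (Localization.AtPrime p)))).injective]
    rw [Ideal.Quotient.eq_zero_iff_mem, ← Ideal.mem_comap]
    have := IsLocalization.AtPrime.under_maximalIdeal (Localization.AtPrime p) p
    rw [Ideal.under_def] at this
    rw [this]

theorem ptInjAt_of_gu
    (H : IsLocalRing (integralClosure (Localization.AtPrime p) (FractionRing A)) ∧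
      PowMem (algebraMap (Localization.AtPrime p)
        (integralClosure (Localization.AtPrime p) (FractionRing A)))) :
    PtInjAt A (FractionRing A) p := by
  intro Ω _ g₁ g₂ hg hker
  set h : A →+* Ω := g₁.comp (algebraMap A _) with hh
  obtain ⟨hloc, hP⟩ := H
  haveI := isLocalization_incl A p
  have hu : ∀ g : integralClosure A (FractionRing A) →+* Ω, g.comp (algebraMap A _) = h →
      ∀ y : Algebra.algebraMapSubmonoid (integralClosure A (FractionRing A)) p.primeCompl,
        IsUnit (g y) := by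
    rintro g hgh ⟨_, s, hs, rfl⟩
    rw [isUnit_iff_ne_zero]
    have : g (algebraMap A _ s) = h s := congrArg (fun f : A →+* Ω => f s) hgh
    rw [this]
    intro h0
    apply hs
    rw [← hker]
    exact h0
  let τ₁ : integralClosure (Localization.AtPrime p) (FractionRing A) →+* Ω :=
    IsLocalization.lift (hu g₁ rfl)
  let τ₂ : integralClosure (Localization.AtPrime p) (FractionRing A) →+* Ω :=
    IsLocalization.lift (hu g₂ hg.symm)
  have c₁ : τ₁.comp (algebraMap _ _) = g₁ := IsLocalization.lift_comp _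
  have c₂ : τ₂.comp (algebraMap _ _) = g₂ := IsLocalization.lift_comp _
  have e : (algebraMap (integralClosure A (FractionRing A))
      (integralClosure (Localization.AtPrime p) (FractionRing A))).comp
        (algebraMap A (integralClosure A (FractionRing A))) =
      (algebraMap (Localization.AtPrime p) _).comp (algebraMap A (Localization.AtPrime p)) := by
    rw [← IsScalarTower.algebraMap_eq, ← IsScalarTower.algebraMap_eq]
  have hA : ∀ (τ : integralClosure (Localization.AtPrime p) (FractionRing A) →+* Ω)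
      (g : integralClosure A (FractionRing A) →+* Ω), τ.comp (algebraMap _ _) = g →
      g.comp (algebraMap A _) = h →
      (τ.comp (algebraMap (Localization.AtPrime p) _)).comp (algebraMap A _) = h := by
    intro τ g hτ hgh
    rw [RingHom.comp_assoc, ← e, ← RingHom.comp_assoc, hτ, hgh]
  have key : τ₁ = τ₂ := by
    haveI := hloc
    refine ringHom_ext_of_powMem hP τ₁ τ₂ ?_ ?_
    · apply IsLocalization.ringHom_ext p.primeCompl
      rw [hA τ₁ g₁ c₁ rfl, hA τ₂ g₂ c₂ hg.symm]
    · have hcomap : (RingHom.ker (τ₁.comp (algebraMap (Localization.AtPrime p) _))).comap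
          (algebraMap A (Localization.AtPrime p)) = p := by
        rw [RingHom.comap_ker, hA τ₁ g₁ c₁ rfl]
        exact hker
      rw [← IsLocalization.map_under p.primeCompl (Localization.AtPrime p)
        (RingHom.ker (τ₁.comp (algebraMap (Localization.AtPrime p) _))), Ideal.under_def, hcomap,
        Localization.AtPrime.map_eq_maximalIdeal]
  rw [← c₁, ← c₂, key]

theorem isGeomUnibranch_localization_iff_ptInjAt :
    CAlg2.IsGeomUnibranch (Localization.AtPrime p) ↔ PtInjAt A (FractionRing A) p := by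
  rw [isGeomUnibranch_iff_of_isDomain (Localization.AtPrime p) (FractionRing A)]
  exact ⟨ptInjAt_of_gu A p, gu_of_ptInjAt A p⟩

end Domain

section Core

variable (R S K : Type u) [CommRing R] [CommRing S] [Field K]
  [Algebra R S] [Algebra R K] [Algebra S K] [IsScalarTower R S K] [Algebra.IsIntegral R S]

/-- the two integral closures coincide. -/
noncomputable def iclHom : integralClosure R K →+* integralClosure S K where
  toFun x := ⟨x.1, x.2.tower_top⟩
  map_one' := rfl
  map_zero' := rfl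
  map_mul' _ _ := rfl
  map_add' _ _ := rfl

noncomputable def iclInv : integralClosure S K →+* integralClosure R K where
  toFun x := ⟨x.1, isIntegral_trans x.1 x.2⟩
  map_one' := rfl
  map_zero' := rfl
  map_mul' _ _ := rfl
  map_add' _ _ := rfl

theorem iclHom_iclInv (x : integralClosure S K) : iclHom R S K (iclInv R S K x) = x := rfl
theorem iclInv_iclHom (x : integralClosure R K) : iclInv R S K (iclHom R S K x) = x := rfl

omit [Algebra.IsIntegral R S] in
theorem iclHom_algebraMap (r : R) :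
    iclHom R S K (algebraMap R (integralClosure R K) r) =
      algebraMap S (integralClosure S K) (algebraMap R S r) := by
  apply Subtype.ext
  show algebraMap R K r = algebraMap S K (algebraMap R S r)
  rw [← IsScalarTower.algebraMap_apply]

variable {R S K}

theorem ptInjAt_iff_of_birational (hinj : Function.Injective (algebraMap S K))
    (p : Ideal R) [p.IsPrime] :
    PtInjAt R K p ↔ RadAt R S p ∧
      ∀ q : Ideal S, q.IsPrime → q.comap (algebraMap R S) = p → PtInjAt S K q := by
  have hcomp : ∀ {Ω : Type u} [Field Ω] (g : integralClosure S K →+* Ω),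
      (g.comp (iclHom R S K)).comp (algebraMap R (integralClosure R K)) =
      (g.comp (algebraMap S (integralClosure S K))).comp (algebraMap R S) := by
    intro Ω _ g
    ext r
    simp only [RingHom.comp_apply, iclHom_algebraMap]
  haveI : Algebra.IsIntegral S (integralClosure S K) := inferInstance
  have hinjC : Function.Injective (algebraMap S (integralClosure S K)) := by
    intro a b hab
    apply hinj
    exact congrArg Subtype.val hab
  have hsurj : Function.Surjective (iclHom R S K) := fun x => ⟨iclInv R S K x, rfl⟩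
  constructor
  · intro H
    refine ⟨?_, ?_⟩
    · intro Ω _ σ₁ σ₂ hσ hk
      obtain ⟨σ₁', h₁⟩ := exists_extension hinjC σ₁
      obtain ⟨σ₂', h₂⟩ := exists_extension hinjC σ₂
      have key := H (AlgebraicClosure Ω) (σ₁'.comp (iclHom R S K))
        (σ₂'.comp (iclHom R S K)) (by
          rw [hcomp, hcomp, h₁, h₂, RingHom.comp_assoc, RingHom.comp_assoc, hσ]) (by
          rw [hcomp, h₁, RingHom.comp_assoc, ← hk]
          ext a
          simp only [RingHom.mem_ker, RingHom.comp_apply]
          exact map_eq_zero_iff _ (algebraMap Ω (AlgebraicClosure Ω)).injective)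
      have h3 : σ₁' = σ₂' := by
        ext x
        obtain ⟨y, rfl⟩ := hsurj x
        exact congrArg (fun f : integralClosure R K →+* _ => f y) key
      ext s
      apply (algebraMap Ω (AlgebraicClosure Ω)).injective
      have e₁ := congrArg (fun f : S →+* _ => f s) h₁
      have e₂ := congrArg (fun f : S →+* _ => f s) h₂
      simp only [RingHom.comp_apply] at e₁ e₂
      rw [← e₁, ← e₂, h3]
    · intro q hq hqp Ω _ g₁ g₂ hg hk
      have key := H Ω (g₁.comp (iclHom R S K))
        (g₂.comp (iclHom R S K)) (by rw [hcomp, hcomp, hg]) (by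
          rw [hcomp, ← RingHom.comap_ker, hk, hqp])
      ext x
      obtain ⟨y, rfl⟩ := hsurj x
      exact congrArg (fun f : integralClosure R K →+* _ => f y) key
  · rintro ⟨hrad, hS⟩ Ω _ g₁ g₂ hg hk
    set g₁' : integralClosure S K →+* Ω := g₁.comp (iclInv R S K) with hg₁'
    set g₂' : integralClosure S K →+* Ω := g₂.comp (iclInv R S K) with hg₂'
    have hback : ∀ g : integralClosure R K →+* Ω,
        (g.comp (iclInv R S K)).comp (iclHom R S K) = g := by
      intro g
      ext x
      rfl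
    have e₁ : (g₁'.comp (algebraMap S _)).comp (algebraMap R S) = g₁.comp (algebraMap R _) := by
      rw [← hcomp, hg₁', hback]
    have e₂ : (g₂'.comp (algebraMap S _)).comp (algebraMap R S) = g₂.comp (algebraMap R _) := by
      rw [← hcomp, hg₂', hback]
    have hσ : g₁'.comp (algebraMap S (integralClosure S K)) =
        g₂'.comp (algebraMap S (integralClosure S K)) :=
      hrad Ω _ _ (by rw [e₁, e₂, hg]) (by rw [e₁, hk])
    set q := RingHom.ker (g₁'.comp (algebraMap S (integralClosure S K))) with hq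
    haveI : q.IsPrime := RingHom.ker_isPrime _
    have hqp : q.comap (algebraMap R S) = p := by
      rw [hq, RingHom.comap_ker, e₁, hk]
    have key := hS q inferInstance hqp Ω g₁' g₂' hσ rfl
    have := congrArg (fun g : integralClosure S K →+* Ω => g.comp (iclHom R S K)) key
    simp only [hg₁', hg₂', hback] at this
    exact this

end Core

section StepA

variable {R : Type u} [CommRing R]

/-- if the reduction of `R_p` is a domain, there is only one minimal prime of `R` below `p`. -/
theorem minimalPrimes_eq_of_isDomain_red (p : Ideal R) [p.IsPrime]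
    (h : IsDomain (CAlg2.red (Localization.AtPrime p))) {P₁ P₂ : Ideal R}
    (h₁ : P₁ ∈ minimalPrimes R) (h₂ : P₂ ∈ minimalPrimes R) (l₁ : P₁ ≤ p) (l₂ : P₂ ≤ p) :
    P₁ = P₂ := by
  have hN : (nilradical (Localization.AtPrime p)).IsPrime :=
    (Ideal.Quotient.isDomain_iff_prime _).mp h
  set n := (nilradical (Localization.AtPrime p)).comap (algebraMap R (Localization.AtPrime p))
    with hn
  haveI : n.IsPrime := Ideal.comap_isPrime _ _
  have key : ∀ P ∈ minimalPrimes R, P ≤ p → P = n := by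
    intro P hP hPp
    haveI := hP.1.1
    have hdisj : Disjoint (p.primeCompl : Set R) (P : Set R) := by
      rw [Set.disjoint_left]
      intro x hx hxP
      exact hx (hPp hxP)
    haveI : (P.map (algebraMap R (Localization.AtPrime p))).IsPrime :=
      IsLocalization.isPrime_of_isPrime_disjoint p.primeCompl _ P inferInstance hdisj
    have hle : n ≤ P := by
      rw [← IsLocalization.under_map_of_isPrime_disjoint p.primeCompl (Localization.AtPrime p)
        inferInstance hdisj]
      exact Ideal.comap_mono (nilradical_le_prime _)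
    exact le_antisymm (hP.2 ⟨inferInstance, bot_le⟩ hle) hle
  rw [key P₁ h₁ l₁, key P₂ h₂ l₂]

theorem minimalPrimes_eq_of_gu (p : Ideal R) [p.IsPrime]
    (h : CAlg2.IsGeomUnibranch (Localization.AtPrime p)) {P₁ P₂ : Ideal R}
    (h₁ : P₁ ∈ minimalPrimes R) (h₂ : P₂ ∈ minimalPrimes R) (l₁ : P₁ ≤ p) (l₂ : P₂ ≤ p) :
    P₁ = P₂ :=
  minimalPrimes_eq_of_isDomain_red p h.1.1 h₁ h₂ l₁ l₂

/-- geometric unibranchness at `p` can be tested on the quotient by the unique minimal prime
below `p`. -/
theorem isGeomUnibranch_localization_iff_quotient (p₀ p : Ideal R) [p₀.IsPrime] [p.IsPrime]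
    (huniq : ∀ P ∈ minimalPrimes R, P ≤ p → P = p₀)
    (pb : Ideal (R ⧸ p₀)) [pb.IsPrime] (hpb : pb.comap (Ideal.Quotient.mk p₀) = p) :
    CAlg2.IsGeomUnibranch (Localization.AtPrime p) ↔
      CAlg2.IsGeomUnibranch (Localization.AtPrime pb) := by
  set ψ : Localization.AtPrime p →+* Localization.AtPrime pb :=
    Localization.localRingHom p pb (Ideal.Quotient.mk p₀) hpb.symm with hψ
  have hψmk : ∀ (a : R) (s : p.primeCompl),
      ψ (IsLocalization.mk' (Localization.AtPrime p) a s) =
        IsLocalization.mk' (Localization.AtPrime pb) (Ideal.Quotient.mk p₀ a)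
          (⟨Ideal.Quotient.mk p₀ s, by
            intro h
            have : (s : R) ∈ pb.comap (Ideal.Quotient.mk p₀) := h
            rw [hpb] at this
            exact s.2 this⟩ : pb.primeCompl) := by
    intro a s
    rw [hψ, Localization.localRingHom_mk']
  have hsurj : Function.Surjective ψ := by
    intro y
    obtain ⟨ab, sb, rfl⟩ := IsLocalization.exists_mk'_eq pb.primeCompl y
    obtain ⟨a, rfl⟩ := Ideal.Quotient.mk_surjective ab
    obtain ⟨s, hs⟩ := Ideal.Quotient.mk_surjective (sb : R ⧸ p₀)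
    have hsp : s ∉ p := by
      intro h
      rw [← hpb, Ideal.mem_comap, hs] at h
      exact sb.2 h
    refine ⟨IsLocalization.mk' (Localization.AtPrime p) a (⟨s, hsp⟩ : p.primeCompl), ?_⟩
    rw [hψmk]
    congr 1
    exact Subtype.ext hs
  have hker : RingHom.ker ψ = nilradical (Localization.AtPrime p) := by
    ext x
    rw [RingHom.mem_ker]
    constructor
    · intro hx
      obtain ⟨a, s, rfl⟩ := IsLocalization.exists_mk'_eq p.primeCompl x
      rw [hψmk, IsLocalization.mk'_eq_zero_iff] at hx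
      obtain ⟨tb, htb⟩ := hx
      have ha0 : Ideal.Quotient.mk p₀ a = 0 := by
        rcases mul_eq_zero.mp htb with h | h
        · exact absurd (h ▸ pb.zero_mem) tb.2
        · exact h
      have ha : a ∈ p₀ := Ideal.Quotient.eq_zero_iff_mem.mp ha0
      rw [nilradical_eq_sInf, Ideal.mem_sInf]
      intro Q hQ
      have hQ' : Q.IsPrime := hQ
      rw [IsLocalization.mk'_mem_iff]
      haveI : (Q.comap (algebraMap R (Localization.AtPrime p))).IsPrime := Ideal.comap_isPrime _ _
      obtain ⟨P, hP, hPQ⟩ := Ideal.exists_minimalPrimes_le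
        (bot_le : (⊥ : Ideal R) ≤ Q.comap (algebraMap R (Localization.AtPrime p)))
      have hQp : Q.comap (algebraMap R (Localization.AtPrime p)) ≤ p := by
        have h1 : Q ≤ maximalIdeal (Localization.AtPrime p) := le_maximalIdeal hQ'.ne_top
        have h2 := Ideal.comap_mono (f := algebraMap R (Localization.AtPrime p)) h1
        have h3 := IsLocalization.AtPrime.under_maximalIdeal (Localization.AtPrime p) p
        rw [Ideal.under_def] at h3
        rwa [h3] at h2
      have : P = p₀ := huniq P hP (hPQ.trans hQp)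
      exact hPQ (this ▸ ha)
    · intro hx
      exact ((mem_nilradical.mp hx).map ψ).eq_zero
  let e : CAlg2.red (Localization.AtPrime p) ≃+* Localization.AtPrime pb :=
    (Ideal.quotEquivOfEq hker.symm).trans (RingHom.quotientKerEquivOfSurjective hsurj)
  constructor
  · intro h
    exact isGeomUnibranch_of_ringEquiv e (isGeomUnibranch_red _ h)
  · intro h
    exact Groth.Agent.Lib.Helper6.Uni.isGeomUnibranch_of_red _
      (isGeomUnibranch_of_ringEquiv e.symm h)

end StepA

section StepB

theorem isFractionRing_of_birational {A B K : Type u} [CommRing A] [CommRing B] [IsDomain B]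
    [Field K] [Algebra A B] [Algebra A K] [Algebra B K] [IsScalarTower A B K] [IsFractionRing B K]
    (hinj : Function.Injective (algebraMap A B))
    (h : ∀ b : B, ∃ a a' : A, a' ≠ 0 ∧ algebraMap A B a' * b = algebraMap A B a) :
    IsFractionRing A K := by
  have hinjK : Function.Injective (algebraMap A K) := by
    rw [IsScalarTower.algebraMap_eq A B K]
    exact (IsFractionRing.injective B K).comp hinj
  haveI : FaithfulSMul A K := (faithfulSMul_iff_algebraMap_injective A K).mpr hinjK
  apply IsFractionRing.of_field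
  intro z
  obtain ⟨b₁, b₂, hb₂, rfl⟩ := IsFractionRing.div_surjective (A := B) z
  obtain ⟨a₁, a₁', h₁', e₁⟩ := h b₁
  obtain ⟨a₂, a₂', h₂', e₂⟩ := h b₂
  refine ⟨a₁ * a₂', a₁' * a₂, ?_⟩
  have E₁ : algebraMap A K a₁' * algebraMap B K b₁ = algebraMap A K a₁ := by
    rw [IsScalarTower.algebraMap_apply A B K, IsScalarTower.algebraMap_apply A B K a₁, ← e₁,
      map_mul]
  have E₂ : algebraMap A K a₂' * algebraMap B K b₂ = algebraMap A K a₂ := by
    rw [IsScalarTower.algebraMap_apply A B K, IsScalarTower.algebraMap_apply A B K a₂, ← e₂,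
      map_mul]
  have n₁ : algebraMap A K a₁' ≠ 0 := (map_ne_zero_iff _ hinjK).mpr h₁'
  have n₂ : algebraMap A K a₂' ≠ 0 := (map_ne_zero_iff _ hinjK).mpr h₂'
  have nb₂ : algebraMap B K b₂ ≠ 0 :=
    (map_ne_zero_iff _ (IsFractionRing.injective B K)).mpr (nonZeroDivisors.ne_zero hb₂)
  rw [map_mul, map_mul, ← E₁, ← E₂]
  field_simp

variable {R S : Type u} [CommRing R] [CommRing S] [Algebra R S]

/-- ring-level form of "integral and birational". -/
structure BirData (R S : Type u) [CommRing R] [CommRing S] [Algebra R S] : Prop where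
  h1 : ∀ Q ∈ minimalPrimes S, Q.comap (algebraMap R S) ∈ minimalPrimes R
  h0 : ∀ P ∈ minimalPrimes R, ∃ Q : Ideal S, Q.IsPrime ∧ Q.comap (algebraMap R S) = P
  h2 : ∀ P ∈ minimalPrimes R, ∀ Q Q' : Ideal S, Q.IsPrime → Q'.IsPrime →
      Q.comap (algebraMap R S) = P → Q'.comap (algebraMap R S) = P → Q = Q'
  h3 : ∀ P ∈ minimalPrimes R, ∀ Q : Ideal S, Q.IsPrime → Q.comap (algebraMap R S) = P →
      ∀ s : S, ∃ r r' : R, r' ∉ P ∧ algebraMap R S r' * s - algebraMap R S r ∈ Q

theorem BirData.mem_minimalPrimes (hB : BirData R S) {P : Ideal R} (hP : P ∈ minimalPrimes R)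
    (Q : Ideal S) [Q.IsPrime] (hQ : Q.comap (algebraMap R S) = P) : Q ∈ minimalPrimes S := by
  refine ⟨⟨inferInstance, bot_le⟩, ?_⟩
  rintro Q' ⟨hQ', -⟩ hle
  haveI := hQ'
  have h1 : Q'.comap (algebraMap R S) ≤ P := hQ ▸ Ideal.comap_mono hle
  have h2 : Q'.comap (algebraMap R S) = P :=
    le_antisymm h1 (hP.2 ⟨Ideal.comap_isPrime _ _, bot_le⟩ h1)
  exact (hB.h2 P hP Q Q' inferInstance inferInstance hQ h2).le

variable [Algebra.IsIntegral R S]

theorem gu_iff_of_unique_minimal (hB : BirData R S) (p₀ p : Ideal R) [p₀.IsPrime] [p.IsPrime]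
    (hp₀ : p₀ ∈ minimalPrimes R) (hle : p₀ ≤ p)
    (huniq : ∀ P ∈ minimalPrimes R, P ≤ p → P = p₀)
    (Q₀ : Ideal S) [Q₀.IsPrime] (hQ₀ : Q₀.comap (algebraMap R S) = p₀) :
    CAlg2.IsGeomUnibranch (Localization.AtPrime p) ↔
      RadAt R S p ∧ ∀ (Q : Ideal S) [Q.IsPrime], Q.comap (algebraMap R S) = p →
        CAlg2.IsGeomUnibranch (Localization.AtPrime Q) := by
  have C1 : ∀ Q : Ideal S, Q.IsPrime → Q.comap (algebraMap R S) = p →
      ∀ Q₁ ∈ minimalPrimes S, Q₁ ≤ Q → Q₁ = Q₀ := by
    intro Q hQ hQp Q₁ hQ₁ hle₁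
    haveI := hQ₁.1.1
    have h1 := hB.h1 Q₁ hQ₁
    have h2 : Q₁.comap (algebraMap R S) = p₀ :=
      huniq _ h1 ((Ideal.comap_mono hle₁).trans hQp.le)
    exact hB.h2 p₀ hp₀ Q₁ Q₀ inferInstance inferInstance h2 hQ₀
  have C1' : ∀ Q : Ideal S, Q.IsPrime → Q.comap (algebraMap R S) = p → Q₀ ≤ Q := by
    intro Q hQ hQp
    obtain ⟨Q₁, hQ₁, hle₁⟩ := Ideal.exists_minimalPrimes_le (bot_le : (⊥ : Ideal S) ≤ Q)
    rw [← C1 Q hQ hQp Q₁ hQ₁ hle₁]
    exact hle₁
  haveI : Q₀.LiesOver p₀ := ⟨hQ₀.symm⟩
  haveI : Algebra.IsIntegral (R ⧸ p₀) (S ⧸ Q₀) :=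
    Ideal.Quotient.algebra_isIntegral_of_liesOver Q₀ p₀
  have hmk : ∀ r : R, algebraMap (R ⧸ p₀) (S ⧸ Q₀) (Ideal.Quotient.mk p₀ r) =
      Ideal.Quotient.mk Q₀ (algebraMap R S r) :=
    Ideal.Quotient.algebraMap_mk_of_liesOver Q₀ p₀
  have hcompmk : (algebraMap (R ⧸ p₀) (S ⧸ Q₀)).comp (Ideal.Quotient.mk p₀) =
      (Ideal.Quotient.mk Q₀).comp (algebraMap R S) := by
    ext r
    exact hmk r
  have hinj' : Function.Injective (algebraMap (R ⧸ p₀) (S ⧸ Q₀)) := by
    rw [RingHom.injective_iff_ker_eq_bot]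
    ext x
    obtain ⟨a, rfl⟩ := Ideal.Quotient.mk_surjective x
    rw [RingHom.mem_ker, hmk, Ideal.Quotient.eq_zero_iff_mem, Ideal.mem_bot,
      Ideal.Quotient.eq_zero_iff_mem, ← hQ₀]
    rfl
  haveI : IsScalarTower (R ⧸ p₀) (S ⧸ Q₀) (FractionRing (S ⧸ Q₀)) := inferInstance
  haveI : IsFractionRing (R ⧸ p₀) (FractionRing (S ⧸ Q₀)) :=
    isFractionRing_of_birational (B := S ⧸ Q₀) hinj' (by
      intro b
      obtain ⟨s, rfl⟩ := Ideal.Quotient.mk_surjective b
      obtain ⟨r, r', hr', hrs⟩ := hB.h3 p₀ hp₀ Q₀ inferInstance hQ₀ s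
      refine ⟨Ideal.Quotient.mk p₀ r, Ideal.Quotient.mk p₀ r', ?_, ?_⟩
      · rwa [Ne, Ideal.Quotient.eq_zero_iff_mem]
      · rw [hmk, hmk, ← map_mul, ← sub_eq_zero, ← map_sub, Ideal.Quotient.eq_zero_iff_mem]
        exact hrs)
  set p' : Ideal (R ⧸ p₀) := p.map (Ideal.Quotient.mk p₀) with hp'
  have hp'c : p'.comap (Ideal.Quotient.mk p₀) = p := by
    rw [hp', Ideal.comap_map_of_surjective _ Ideal.Quotient.mk_surjective,
      ← RingHom.ker_eq_comap_bot, Ideal.mk_ker]
    exact sup_eq_left.mpr hle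
  haveI : p'.IsPrime := Ideal.map_isPrime_of_surjective Ideal.Quotient.mk_surjective
    (by rw [Ideal.mk_ker]; exact hle)
  -- comparison of fibres
  have hcc : ∀ q' : Ideal (S ⧸ Q₀),
      (q'.comap (algebraMap (R ⧸ p₀) (S ⧸ Q₀))).comap (Ideal.Quotient.mk p₀) =
        (q'.comap (Ideal.Quotient.mk Q₀)).comap (algebraMap R S) := by
    intro q'
    rw [Ideal.comap_comap, Ideal.comap_comap, hcompmk]
  have hover : ∀ q' : Ideal (S ⧸ Q₀), q'.comap (algebraMap (R ⧸ p₀) (S ⧸ Q₀)) = p' ↔
      (q'.comap (Ideal.Quotient.mk Q₀)).comap (algebraMap R S) = p := by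
    intro q'
    rw [← hcc]
    constructor
    · intro h
      rw [h, hp'c]
    · intro h
      apply Ideal.comap_injective_of_surjective _ Ideal.Quotient.mk_surjective
      rw [h, hp'c]
  have E1 : CAlg2.IsGeomUnibranch (Localization.AtPrime p) ↔
      PtInjAt (R ⧸ p₀) (FractionRing (S ⧸ Q₀)) p' := by
    rw [isGeomUnibranch_localization_iff_quotient p₀ p huniq p' hp'c,
      isGeomUnibranch_localization_iff_ptInjAt]
    let ε : integralClosure (R ⧸ p₀) (FractionRing (R ⧸ p₀)) ≃ₐ[R ⧸ p₀]
        integralClosure (R ⧸ p₀) (FractionRing (S ⧸ Q₀)) :=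
      (FractionRing.algEquiv (R ⧸ p₀) (FractionRing (S ⧸ Q₀))).mapIntegralClosure
    exact ⟨ptInjAt_of_algEquiv ε p', ptInjAt_of_algEquiv ε.symm p'⟩
  have E2 : ∀ (Q : Ideal S) (hQ : Q.IsPrime) (hQp : Q.comap (algebraMap R S) = p)
      (q' : Ideal (S ⧸ Q₀)) (hq' : q'.IsPrime) (hq'Q : q'.comap (Ideal.Quotient.mk Q₀) = Q),
      CAlg2.IsGeomUnibranch (Localization.AtPrime Q) ↔
        PtInjAt (S ⧸ Q₀) (FractionRing (S ⧸ Q₀)) q' := by
    intro Q hQ hQp q' hq' hq'Q
    rw [isGeomUnibranch_localization_iff_quotient Q₀ Q (C1 Q hQ hQp) q' hq'Q,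
      isGeomUnibranch_localization_iff_ptInjAt]
  rw [E1, ptInjAt_iff_of_birational (IsFractionRing.injective (S ⧸ Q₀) (FractionRing (S ⧸ Q₀))) p']
  constructor
  · rintro ⟨hrad, hS⟩
    refine ⟨?_, ?_⟩
    · intro Ω _ σ₁ σ₂ hσ hk
      have hker₁ : Q₀ ≤ RingHom.ker σ₁ :=
        C1' (RingHom.ker σ₁) (RingHom.ker_isPrime σ₁) (by rw [RingHom.comap_ker]; exact hk)
      have hker₂ : Q₀ ≤ RingHom.ker σ₂ :=
        C1' (RingHom.ker σ₂) (RingHom.ker_isPrime σ₂) (by rw [RingHom.comap_ker, ← hσ]; exact hk)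
      let τ₁ : S ⧸ Q₀ →+* Ω :=
        Ideal.Quotient.lift Q₀ σ₁ (fun a ha => RingHom.mem_ker.mp (hker₁ ha))
      let τ₂ : S ⧸ Q₀ →+* Ω :=
        Ideal.Quotient.lift Q₀ σ₂ (fun a ha => RingHom.mem_ker.mp (hker₂ ha))
      have hτ₁ : ∀ s, τ₁ (Ideal.Quotient.mk Q₀ s) = σ₁ s := fun s => Ideal.Quotient.lift_mk _ _ _
      have hτ₂ : ∀ s, τ₂ (Ideal.Quotient.mk Q₀ s) = σ₂ s := fun s => Ideal.Quotient.lift_mk _ _ _
      have key := hrad Ω τ₁ τ₂ (by
          refine RingHom.ext fun x => ?_
          obtain ⟨r, rfl⟩ := Ideal.Quotient.mk_surjective x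
          rw [RingHom.comp_apply, RingHom.comp_apply, hmk, hτ₁, hτ₂]
          exact congrArg (fun f : R →+* Ω => f r) hσ) (by
          refine Ideal.ext fun x => ?_
          obtain ⟨r, rfl⟩ := Ideal.Quotient.mk_surjective x
          rw [RingHom.mem_ker, RingHom.comp_apply, hmk, hτ₁,
            ← Ideal.mem_comap, hp'c, ← hk]
          rfl)
      refine RingHom.ext fun s => ?_
      rw [← hτ₁, ← hτ₂, key]
    · intro Q hQ hQp
      have hQ₀Q : Q₀ ≤ Q := C1' Q hQ hQp
      have hq'c : (Q.map (Ideal.Quotient.mk Q₀)).comap (Ideal.Quotient.mk Q₀) = Q := by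
        rw [Ideal.comap_map_of_surjective _ Ideal.Quotient.mk_surjective,
          ← RingHom.ker_eq_comap_bot, Ideal.mk_ker]
        exact sup_eq_left.mpr hQ₀Q
      have hq'prime : (Q.map (Ideal.Quotient.mk Q₀)).IsPrime :=
        Ideal.map_isPrime_of_surjective Ideal.Quotient.mk_surjective
          (by rw [Ideal.mk_ker]; exact hQ₀Q)
      rw [E2 Q hQ hQp _ hq'prime hq'c]
      exact hS _ hq'prime ((hover _).mpr (by rw [hq'c, hQp]))
  · rintro ⟨hrad, hS⟩
    refine ⟨?_, ?_⟩
    · intro Ω _ σ₁ σ₂ hσ hk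
      have key := hrad Ω (σ₁.comp (Ideal.Quotient.mk Q₀)) (σ₂.comp (Ideal.Quotient.mk Q₀)) (by
          rw [RingHom.comp_assoc, RingHom.comp_assoc, ← hcompmk, ← RingHom.comp_assoc,
            ← RingHom.comp_assoc, hσ]) (by
          rw [RingHom.comp_assoc, ← hcompmk, ← RingHom.comp_assoc, ← RingHom.comap_ker, hk, hp'c])
      refine RingHom.ext fun x => ?_
      obtain ⟨s, rfl⟩ := Ideal.Quotient.mk_surjective x
      exact congrArg (fun f : S →+* Ω => f s) key
    · intro q' hq' hq'p
      haveI := hq'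
      have hQp : (q'.comap (Ideal.Quotient.mk Q₀)).comap (algebraMap R S) = p :=
        (hover q').mp hq'p
      have := hS (q'.comap (Ideal.Quotient.mk Q₀)) hQp
      rwa [E2 _ (Ideal.comap_isPrime _ _) hQp q' hq' rfl] at this

theorem rad_of_gu (hB : BirData R S) (p : Ideal R) [p.IsPrime]
    (h : CAlg2.IsGeomUnibranch (Localization.AtPrime p)) :
    RadAt R S p ∧ ∀ (Q : Ideal S) [Q.IsPrime], Q.comap (algebraMap R S) = p →
        CAlg2.IsGeomUnibranch (Localization.AtPrime Q) := by
  obtain ⟨p₀, hp₀, hle⟩ := Ideal.exists_minimalPrimes_le (bot_le : (⊥ : Ideal R) ≤ p)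
  haveI := hp₀.1.1
  obtain ⟨Q₀, hQ₀prime, hQ₀⟩ := hB.h0 p₀ hp₀
  haveI := hQ₀prime
  exact (gu_iff_of_unique_minimal hB p₀ p hp₀ hle
    (fun P hP hPle => minimalPrimes_eq_of_gu p h hP hp₀ hPle hle) Q₀ hQ₀).mp h

theorem gu_of_rad (hB : BirData R S) (p : Ideal R) [p.IsPrime]
    (hrad : RadAt R S p)
    (hfib : ∀ Q Q' : Ideal S, Q.IsPrime → Q'.IsPrime → Q.comap (algebraMap R S) = p →
      Q'.comap (algebraMap R S) = p → Q = Q')
    (hS : ∀ (Q : Ideal S) [Q.IsPrime], Q.comap (algebraMap R S) = p →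
        CAlg2.IsGeomUnibranch (Localization.AtPrime Q)) :
    CAlg2.IsGeomUnibranch (Localization.AtPrime p) := by
  obtain ⟨p₀, hp₀, hle⟩ := Ideal.exists_minimalPrimes_le (bot_le : (⊥ : Ideal R) ≤ p)
  haveI := hp₀.1.1
  obtain ⟨Q₀, hQ₀prime, hQ₀⟩ := hB.h0 p₀ hp₀
  haveI := hQ₀prime
  obtain ⟨Q₁, hQ₀Q₁, hQ₁prime, hQ₁p⟩ := Ideal.exists_ideal_over_prime_of_isIntegral p Q₀
    (by rw [hQ₀]; exact hle)
  haveI := hQ₁prime
  have huniq : ∀ P ∈ minimalPrimes R, P ≤ p → P = p₀ := by
    intro P hP hPle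
    haveI := hP.1.1
    obtain ⟨QP, hQPprime, hQP⟩ := hB.h0 P hP
    haveI := hQPprime
    obtain ⟨Q₂, hQPQ₂, hQ₂prime, hQ₂p⟩ := Ideal.exists_ideal_over_prime_of_isIntegral p QP
      (by rw [hQP]; exact hPle)
    have e12 : Q₂ = Q₁ := hfib Q₂ Q₁ hQ₂prime hQ₁prime hQ₂p hQ₁p
    have := minimalPrimes_eq_of_gu Q₁ (hS Q₁ hQ₁p) (hB.mem_minimalPrimes hP QP hQP)
      (hB.mem_minimalPrimes hp₀ Q₀ hQ₀) (e12 ▸ hQPQ₂) hQ₀Q₁
    rw [← hQP, this, hQ₀]
  exact (gu_iff_of_unique_minimal hB p₀ p hp₀ hle huniq Q₀ hQ₀).mpr ⟨hrad, fun Q _ hQ => hS Q hQ⟩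

end StepB

end Groth.Agent.R2.H19.RadUnibranch
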