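import Groth.Agent.R2.H19RadUnibranch
import Groth.Agent.S5863
import Groth.Agent.Lib.Helper20ResFld
import Groth.Agent.Lib.Helper20EtSplitSch
import Groth.Agent.Lib.Helper3EtGUSch

set_option autoImplicit false
set_option linter.style.haveILetI false
universe u

namespace Groth.Agent.R2.H19.RadUnibranchSch

open CategoryTheory CategoryTheory.Limits AlgebraicGeometry
open Groth.Agent.R2.H19.RadUnibranch

section Top

variable {α : Type*} [TopologicalSpace α]

theorem mem_genericPoints_of_forall_specializes [QuasiSober α]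
    (ξ : α) (h : ∀ x' : α, x' ⤳ ξ → x' = ξ) : ξ ∈ genericPoints α := by
  obtain ⟨Z, hZ, hle, hmax⟩ := exists_preirreducible (closure ({ξ} : Set α))
    (isIrreducible_singleton.closure).isPreirreducible
  have hZmem : Z ∈ irreducibleComponents α := by
    refine ⟨⟨⟨ξ, hle (subset_closure rfl)⟩, hZ⟩, fun W hW hZW => ?_⟩
    exact (hmax W hW.2 hZW).le
  have hZirr : IsIrreducible Z := hZmem.1
  have hZcl : IsClosed Z := isClosed_of_mem_irreducibleComponents Z hZmem
  obtain ⟨η, hη⟩ := QuasiSober.sober hZirr hZcl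
  have hξZ : ξ ∈ Z := hle (subset_closure rfl)
  have hspec : η ⤳ ξ := by
    rw [specializes_iff_mem_closure, hη.def]
    exact hξZ
  have : η = ξ := h η hspec
  subst this
  show closure {η} ∈ irreducibleComponents α
  rw [hη.def]
  exact hZmem

theorem eq_of_specializes_of_mem_genericPoints [T0Space α] {ξ x' : α}
    (hξ : ξ ∈ genericPoints α) (h : x' ⤳ ξ) : x' = ξ := by
  have h1 : closure ({ξ} : Set α) ∈ irreducibleComponents α := hξ
  have h2 : closure ({ξ} : Set α) ⊆ closure {x'} := specializes_iff_closure_subset.mp h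
  have h3 : closure ({x'} : Set α) ⊆ closure {ξ} :=
    h1.2 (isIrreducible_singleton.closure) h2
  have h4 : ξ ⤳ x' := specializes_iff_closure_subset.mpr h3
  exact (h.antisymm h4).eq

theorem mem_genericPoints_iff [QuasiSober α] [T0Space α] (ξ : α) :
    ξ ∈ genericPoints α ↔ ∀ x' : α, x' ⤳ ξ → x' = ξ :=
  ⟨fun h _ hx => eq_of_specializes_of_mem_genericPoints h hx,
    mem_genericPoints_of_forall_specializes ξ⟩

end Top

theorem mem_genericPoints_iff_of_isOpenImmersion {U Y : Scheme.{u}} (j : U ⟶ Y)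
    [IsOpenImmersion j] (x : U) : x ∈ genericPoints U ↔ j x ∈ genericPoints Y := by
  rw [mem_genericPoints_iff, mem_genericPoints_iff]
  constructor
  · intro h y' hy'
    have hmem : y' ∈ Set.range j :=
      hy'.mem_open j.isOpenEmbedding.isOpen_range ⟨x, rfl⟩
    obtain ⟨x', rfl⟩ := hmem
    have : x' ⤳ x := j.isOpenEmbedding.isInducing.specializes_iff.mp hy'
    rw [h x' this]
  · intro h x' hx'
    have := h (j x') (hx'.map j.continuous)
    exact j.isOpenEmbedding.injective this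

theorem mem_genericPoints_Spec_iff (R : CommRingCat.{u}) (x : Spec R) :
    x ∈ genericPoints (Spec R) ↔ x.asIdeal ∈ minimalPrimes R := by
  rw [mem_genericPoints_iff]
  constructor
  · intro h
    refine ⟨⟨x.isPrime, bot_le⟩, ?_⟩
    rintro Q ⟨hQ, -⟩ hle
    have := h ⟨Q, hQ⟩ ((PrimeSpectrum.le_iff_specializes _ _).mp hle)
    rw [← this]
  · intro h x' hx'
    have hle : x'.asIdeal ≤ x.asIdeal := (PrimeSpectrum.le_iff_specializes _ _).mpr hx'
    have := h.2 ⟨x'.isPrime, bot_le⟩ hle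
    exact PrimeSpectrum.ext (le_antisymm hle this)

theorem bijective_congr {X Y : Scheme.{u}} {a b : X ⟶ Y} (e : a = b) (z : X)
    (h : Function.Bijective (a.residueFieldMap z).hom) :
    Function.Bijective (b.residueFieldMap z).hom := by
  subst e; exact h

/-- `RadPt.IsBirational` passes to the base change along an open immersion. -/
theorem isBirational_of_isPullback {X Y X' Y' : Scheme.{u}} {f : X ⟶ Y} {h : Y' ⟶ Y}
    {f' : X' ⟶ Y'} {h' : X' ⟶ X} (sq : IsPullback h' f' f h) [IsOpenImmersion h]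
    (hf : RadPt.IsBirational f) : RadPt.IsBirational f' := by
  haveI : IsOpenImmersion h' :=
    MorphismProperty.of_isPullback (P := @IsOpenImmersion) sq.flip ‹_›
  have hw : ∀ x', f (h' x') = h (f' x') := fun x' => by
    rw [← Scheme.Hom.comp_apply, ← Scheme.Hom.comp_apply, sq.w]
  have hgenX := mem_genericPoints_iff_of_isOpenImmersion h'
  have hgenY := mem_genericPoints_iff_of_isOpenImmersion h
  have hex : ∀ (x : X) (y' : Y'), f x = h y' → ∃ x' : X', h' x' = x ∧ f' x' = y' := by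
    intro x y' hxy
    obtain ⟨z, hz1, hz2⟩ := Scheme.Pullback.exists_preimage_pullback x y' hxy
    refine ⟨sq.isoPullback.inv z, ?_, ?_⟩
    · rw [← Scheme.Hom.comp_apply, sq.isoPullback_inv_fst]; exact hz1
    · rw [← Scheme.Hom.comp_apply, sq.isoPullback_inv_snd]; exact hz2
  have hinjh' : Function.Injective h' := h'.isOpenEmbedding.injective
  refine ⟨⟨?_, ?_, ?_⟩, ?_⟩
  · intro x' hx'
    show f' x' ∈ genericPoints Y'
    rw [hgenY, ← hw]
    exact hf.1.mapsTo ((hgenX x').mp hx')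
  · intro a ha b hb hab
    apply hinjh'
    apply hf.1.injOn ((hgenX a).mp ha) ((hgenX b).mp hb)
    rw [hw, hw, hab]
  · intro y' hy'
    obtain ⟨x, hx, hxy⟩ := hf.1.surjOn ((hgenY y').mp hy')
    obtain ⟨x', rfl, hx'y⟩ := hex x y' hxy
    exact ⟨x', (hgenX x').mpr hx, hx'y⟩
  · intro y' hy'
    have hy := (hgenY y').mp hy'
    obtain ⟨huniq, hbij⟩ := hf.2 (h y') hy
    refine ⟨?_, ?_⟩
    · intro a b ha hb
      apply hinjh'
      apply huniq
      · rw [hw, ha]
      · rw [hw, hb]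
    · intro x' hx'
      have hb1 : Function.Bijective (f.residueFieldMap (h' x')).hom :=
        hbij (h' x') (by rw [hw, hx'])
      have e1 := Groth.Agent.S5863.rfm_comp_hom h' f x'
      have e2 := Groth.Agent.S5863.rfm_comp_hom f' h x'
      have hb2 : Function.Bijective ((h' ≫ f).residueFieldMap x').hom := by
        rw [e1]
        exact (Groth.Agent.Lib.Helper20.ResFld.bijective_residueFieldMap_of_isOpenImmersion
          h' x').comp hb1
      have hb3 : Function.Bijective ((f' ≫ h).residueFieldMap x').hom :=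
        bijective_congr sq.w x' hb2
      rw [e2] at hb3
      have hb3' : Function.Bijective ((f'.residueFieldMap x').hom ∘
          (h.residueFieldMap (f' x')).hom) := hb3
      exact (Function.Bijective.of_comp_iff _
        (Groth.Agent.Lib.Helper20.ResFld.bijective_residueFieldMap_of_isOpenImmersion
          h (f' x'))).mp hb3'

section Affine

variable {R S : Type u} [CommRing R] [CommRing S] [Algebra R S]

theorem bijective_residueField_map_of_bijective (Q : Ideal S) [hQ : Q.IsPrime]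
    (h : Function.Bijective ((Spec.map (CommRingCat.ofHom (algebraMap R S))).residueFieldMap
      (⟨Q, hQ⟩ : PrimeSpectrum S)).hom) :
    Function.Bijective
      (Ideal.ResidueField.map (Q.comap (algebraMap R S)) Q (algebraMap R S) rfl) := by
  set φ : CommRingCat.of R ⟶ CommRingCat.of S := CommRingCat.ofHom (algebraMap R S) with hφ
  set x : PrimeSpectrum S := ⟨Q, hQ⟩ with hx
  have h1 := Groth.Agent.Lib.Helper20.ResFld.residueFieldMap_SpecMap φ x
  have h2 : CommRingCat.ofHom
      (Ideal.ResidueField.map (x.comap φ.hom).asIdeal x.asIdeal φ.hom rfl) =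
      (Scheme.Spec.residueFieldIso (CommRingCat.of R) (x.comap φ.hom)).inv ≫
        (Spec.map φ).residueFieldMap x ≫
          (Scheme.Spec.residueFieldIso (CommRingCat.of S) x).hom :=
    (Iso.eq_inv_comp _).mpr h1.symm
  have h3 : Function.Bijective (CommRingCat.ofHom
      (Ideal.ResidueField.map (x.comap φ.hom).asIdeal x.asIdeal φ.hom rfl)).hom := by
    rw [h2]
    exact (ConcreteCategory.bijective_of_isIso
      (Scheme.Spec.residueFieldIso (CommRingCat.of S) x).hom).comp
      (h.comp (ConcreteCategory.bijective_of_isIso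
        (Scheme.Spec.residueFieldIso (CommRingCat.of R) (x.comap φ.hom)).inv))
  exact h3

theorem birData_of_isBirational
    (hf : RadPt.IsBirational (Spec.map (CommRingCat.ofHom (algebraMap R S)))) : BirData R S := by
  set φ : CommRingCat.of R ⟶ CommRingCat.of S := CommRingCat.ofHom (algebraMap R S) with hφ
  have hfx : ∀ x : Spec (CommRingCat.of S),
      ((Spec.map φ) x).asIdeal = x.asIdeal.comap (algebraMap R S) := fun _ => rfl
  refine ⟨?_, ?_, ?_, ?_⟩
  · intro Q hQ
    have hx : (⟨Q, hQ.1.1⟩ : Spec (CommRingCat.of S)) ∈ genericPoints (Spec (CommRingCat.of S)) :=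
      (mem_genericPoints_Spec_iff _ _).mpr hQ
    exact (mem_genericPoints_Spec_iff _ _).mp (hf.1.mapsTo hx)
  · intro P hP
    have hy : (⟨P, hP.1.1⟩ : Spec (CommRingCat.of R)) ∈ genericPoints (Spec (CommRingCat.of R)) :=
      (mem_genericPoints_Spec_iff _ _).mpr hP
    obtain ⟨x, -, hxy⟩ := hf.1.surjOn hy
    exact ⟨x.asIdeal, x.isPrime, congrArg PrimeSpectrum.asIdeal hxy⟩
  · intro P hP Q Q' hQ hQ' hQP hQ'P
    have hy : (⟨P, hP.1.1⟩ : Spec (CommRingCat.of R)) ∈ genericPoints (Spec (CommRingCat.of R)) :=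
      (mem_genericPoints_Spec_iff _ _).mpr hP
    have := (hf.2 _ hy).1 (⟨Q, hQ⟩ : Spec (CommRingCat.of S)) ⟨Q', hQ'⟩
      (PrimeSpectrum.ext hQP) (PrimeSpectrum.ext hQ'P)
    exact congrArg PrimeSpectrum.asIdeal this
  · intro P hP Q hQ hQP s
    haveI := hQ
    have hy : (⟨P, hP.1.1⟩ : Spec (CommRingCat.of R)) ∈ genericPoints (Spec (CommRingCat.of R)) :=
      (mem_genericPoints_Spec_iff _ _).mpr hP
    have hxy : (Spec.map φ) (⟨Q, hQ⟩ : Spec (CommRingCat.of S)) = ⟨P, hP.1.1⟩ :=
      PrimeSpectrum.ext hQP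
    have hb := (hf.2 _ hy).2 (⟨Q, hQ⟩ : Spec (CommRingCat.of S)) hxy
    subst hQP
    haveI : (Q.comap (algebraMap R S)).IsPrime := Ideal.comap_isPrime _ _
    have hb' := bijective_residueField_map_of_bijective (R := R) Q hb
    obtain ⟨z, hz⟩ := hb'.2 (algebraMap S Q.ResidueField s)
    obtain ⟨a, b, hb0, rfl⟩ := IsFractionRing.div_surjective
      (A := R ⧸ Q.comap (algebraMap R S)) z
    obtain ⟨r, rfl⟩ := Ideal.Quotient.mk_surjective a
    obtain ⟨r', rfl⟩ := Ideal.Quotient.mk_surjective b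
    have hr' : r' ∉ Q.comap (algebraMap R S) := by
      intro h
      exact nonZeroDivisors.ne_zero hb0 (Ideal.Quotient.eq_zero_iff_mem.mpr h)
    refine ⟨r, r', hr', ?_⟩
    rw [map_div₀, Ideal.algebraMap_quotient_residueField_mk,
      Ideal.algebraMap_quotient_residueField_mk] at hz
    erw [Ideal.ResidueField.map_algebraMap, Ideal.ResidueField.map_algebraMap] at hz
    have hne : algebraMap S Q.ResidueField (algebraMap R S r') ≠ 0 := by
      intro h0
      rw [Ideal.algebraMap_residueField_eq_zero] at h0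
      exact hr' h0
    rw [div_eq_iff hne] at hz
    rw [← Ideal.algebraMap_residueField_eq_zero, map_sub, map_mul, sub_eq_zero, hz, mul_comm]

open Groth.Agent.Lib.Helper20.ResFld in
theorem radAt_of_isRadicialAt (y : Spec (CommRingCat.of R))
    (h : RadPt.IsRadicialAt (Spec.map (CommRingCat.ofHom (algebraMap R S))) y) :
    RadAt R S y.asIdeal := by
  set φ : CommRingCat.of R ⟶ CommRingCat.of S := CommRingCat.ofHom (algebraMap R S) with hφ
  haveI : y.asIdeal.IsPrime := y.isPrime
  replace h := ((tfae_universallyInjective ((Spec.map φ).fiberToSpecResidueField y)).out 0 1).mp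
    ((Groth.Agent.S5863.isRadicialAt_iff_fiber (Spec.map φ) y).mp h)
  intro Ω _ σ₁ σ₂ hσ hk
  set τ : R →+* Ω := σ₁.comp (algebraMap R S) with hτ
  have hunits : y.asIdeal.primeCompl ≤ (IsUnit.submonoid Ω).comap τ := by
    intro x hx
    show IsUnit (τ x)
    rw [isUnit_iff_ne_zero]
    intro h0
    exact hx (hk ▸ (RingHom.mem_ker.mpr h0))
  let τbar : y.asIdeal.ResidueField →+* Ω := Ideal.ResidueField.lift y.asIdeal τ hk.ge hunits
  have hτbar : τbar.comp (algebraMap R y.asIdeal.ResidueField) = τ :=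
    RingHom.ext fun r => Ideal.ResidueField.lift_algebraMap y.asIdeal τ hk.ge hunits r
  let b : Spec (CommRingCat.of Ω) ⟶ Spec ((Spec (CommRingCat.of R)).residueField y) :=
    Spec.map ((Scheme.Spec.residueFieldIso (CommRingCat.of R) y).hom ≫ CommRingCat.ofHom τbar)
  have hb : b ≫ (Spec (CommRingCat.of R)).fromSpecResidueField y =
      Spec.map (CommRingCat.ofHom τ) := by
    rw [← SpecMap_toResidueField, ← Spec.map_comp]
    congr 1
    rw [toResidueField, Category.assoc, Iso.inv_hom_id_assoc, ← CommRingCat.ofHom_comp, hτbar]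
  have ha₁ : Spec.map (CommRingCat.ofHom σ₁) ≫ Spec.map φ = b ≫
      (Spec (CommRingCat.of R)).fromSpecResidueField y := by
    rw [hb, ← Spec.map_comp, hφ, ← CommRingCat.ofHom_comp]
  have ha₂ : Spec.map (CommRingCat.ofHom σ₂) ≫ Spec.map φ = b ≫
      (Spec (CommRingCat.of R)).fromSpecResidueField y := by
    rw [hb, ← Spec.map_comp, hφ, ← CommRingCat.ofHom_comp, ← hσ]
  obtain ⟨g₁, e1, s1⟩ : ∃ g : Spec (CommRingCat.of Ω) ⟶ (Spec.map φ).fiber y,
      g ≫ pullback.fst _ _ = Spec.map (CommRingCat.ofHom σ₁) ∧ g ≫ pullback.snd _ _ = b :=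
    ⟨pullback.lift _ _ ha₁, pullback.lift_fst _ _ _, pullback.lift_snd _ _ _⟩
  obtain ⟨g₂, e2, s2⟩ : ∃ g : Spec (CommRingCat.of Ω) ⟶ (Spec.map φ).fiber y,
      g ≫ pullback.fst _ _ = Spec.map (CommRingCat.ofHom σ₂) ∧ g ≫ pullback.snd _ _ = b :=
    ⟨pullback.lift _ _ ha₂, pullback.lift_fst _ _ _, pullback.lift_snd _ _ _⟩
  have key : g₁ = g₂ := h Ω (s1.trans s2.symm)
  have key2 : Spec.map (CommRingCat.ofHom σ₁) = Spec.map (CommRingCat.ofHom σ₂) := by
    rw [← e1, ← e2, key]
  exact congrArg CommRingCat.Hom.hom (Spec.map_injective key2)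

theorem isRadicialAt_of_radAt (y : Spec (CommRingCat.of R)) (H : RadAt R S y.asIdeal) :
    RadPt.IsRadicialAt (Spec.map (CommRingCat.ofHom (algebraMap R S))) y := by
  set φ : CommRingCat.of R ⟶ CommRingCat.of S := CommRingCat.ofHom (algebraMap R S) with hφ
  refine (Groth.Agent.S5863.isRadicialAt_iff_fiber (Spec.map φ) y).mpr
    (((tfae_universallyInjective ((Spec.map φ).fiberToSpecResidueField y)).out 0 1).mpr ?_)
  intro K _ g₁ g₂ hg
  change Spec (CommRingCat.of K) ⟶
    pullback (Spec.map φ) ((Spec (CommRingCat.of R)).fromSpecResidueField y) at g₁ g₂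
  change g₁ ≫ pullback.snd _ _ = g₂ ≫ pullback.snd _ _ at hg
  obtain ⟨ψ₁, hψ₁⟩ := Spec.map_surjective (g₁ ≫ pullback.fst (Spec.map φ) _)
  obtain ⟨ψ₂, hψ₂⟩ := Spec.map_surjective (g₂ ≫ pullback.fst (Spec.map φ) _)
  have hc : Spec.map ψ₁ ≫ Spec.map φ = Spec.map ψ₂ ≫ Spec.map φ := by
    rw [hψ₁, hψ₂, Category.assoc, Category.assoc, pullback.condition, ← Category.assoc,
      ← Category.assoc, hg]
  have hc' : φ ≫ ψ₁ = φ ≫ ψ₂ := by
    apply Spec.map_injective
    rw [Spec.map_comp, Spec.map_comp, hc]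
  have hσ : ψ₁.hom.comp (algebraMap R S) = ψ₂.hom.comp (algebraMap R S) :=
    congrArg CommRingCat.Hom.hom hc'
  have hk : RingHom.ker (ψ₁.hom.comp (algebraMap R S)) = y.asIdeal := by
    let pt : Spec (CommRingCat.of K) := IsLocalRing.closedPoint K
    have h1 : (Spec.map ψ₁ ≫ Spec.map φ) pt = y := by
      rw [hψ₁, Category.assoc, pullback.condition, ← Category.assoc, Scheme.Hom.comp_apply,
        Scheme.fromSpecResidueField_apply]
    have h2 : ((Spec.map ψ₁ ≫ Spec.map φ) pt).asIdeal =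
        RingHom.ker (ψ₁.hom.comp (algebraMap R S)) := by
      show Ideal.comap (algebraMap R S) (Ideal.comap ψ₁.hom (IsLocalRing.maximalIdeal K)) = _
      rw [IsLocalRing.maximalIdeal_eq_bot, Ideal.comap_comap, ← RingHom.ker_eq_comap_bot]
    rw [← h2, h1]
  have hψ : ψ₁.hom = ψ₂.hom := H K ψ₁.hom ψ₂.hom hσ hk
  have hψ' : ψ₁ = ψ₂ := CommRingCat.hom_ext hψ
  apply pullback.hom_ext
  · rw [← hψ₁, ← hψ₂, hψ']
  · exact hg

end Affine

theorem isGeomUnibranch_iff_isRadicialAt {X Y : Scheme.{u}} (f : X ⟶ Y) [IsIntegralHom f]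
    (hf : RadPt.IsBirational f) (y : Y) :
    CAlg2.IsGeomUnibranch (Y.presheaf.stalk y) ↔
      (RadPt.IsRadicialAt f y ∧
        ∀ x : X, f x = y → CAlg2.IsGeomUnibranch (X.presheaf.stalk x)) := by
  obtain ⟨_, ⟨V, hV₀, rfl⟩, hyV, -⟩ :=
    Y.isBasis_affineOpens.exists_subset_of_mem_open (Set.mem_univ y) isOpen_univ
  have hV : IsAffineOpen V := hV₀
  have hW : IsAffineOpen (f ⁻¹ᵁ V) := hV.preimage f
  have sq := Groth.Agent.Lib.Helper20.EtSplit.isPullback_of_affine f hV hW
  have hfφ : RadPt.IsBirational (Spec.map (f.app V)) := isBirational_of_isPullback sq hf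
  letI alg : Algebra Γ(Y, V) Γ(X, f ⁻¹ᵁ V) := (f.app V).hom.toAlgebra
  haveI : Algebra.IsIntegral Γ(Y, V) Γ(X, f ⁻¹ᵁ V) := ⟨IsIntegralHom.isIntegral_app f V hV⟩
  have hB : BirData Γ(Y, V) Γ(X, f ⁻¹ᵁ V) := birData_of_isBirational hfφ
  set P := hV.primeIdealOf ⟨y, hyV⟩ with hP
  have hPy : hV.fromSpec P = y := hV.fromSpec_primeIdealOf ⟨y, hyV⟩
  haveI : P.asIdeal.IsPrime := P.isPrime
  have hw : ∀ q : Spec Γ(X, f ⁻¹ᵁ V), f (hW.fromSpec q) = hV.fromSpec ((Spec.map (f.app V)) q) := by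
    intro q
    rw [← Scheme.Hom.comp_apply, ← Scheme.Hom.comp_apply, sq.w]
  have hinjV : Function.Injective hV.fromSpec := hV.fromSpec.isOpenEmbedding.injective
  -- radicial
  have e1 : RadPt.IsRadicialAt f y ↔ RadPt.IsRadicialAt (Spec.map (f.app V)) P := by
    have := Groth.Agent.S5863.result sq P
    rwa [hPy] at this
  -- geometric unibranchness of the base
  have e2 : CAlg2.IsGeomUnibranch (Y.presheaf.stalk y) ↔
      CAlg2.IsGeomUnibranch (Localization.AtPrime P.asIdeal) :=
    ⟨Groth.Agent.Lib.Helper3.EtGUSch.isGeomUnibranch_localization_primeIdealOf hV y hyV,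
      Groth.Agent.Lib.Helper3.EtGUSch.isGeomUnibranch_stalk_of_localization hV y hyV⟩
  -- points of the fibre
  have e3 : (∀ x : X, f x = y → CAlg2.IsGeomUnibranch (X.presheaf.stalk x)) ↔
      ∀ (Q : Ideal Γ(X, f ⁻¹ᵁ V)) [Q.IsPrime], Q.comap (algebraMap Γ(Y, V) Γ(X, f ⁻¹ᵁ V)) =
        P.asIdeal → CAlg2.IsGeomUnibranch (Localization.AtPrime Q) := by
    constructor
    · intro H Q hQ hQP
      set q : Spec Γ(X, f ⁻¹ᵁ V) := ⟨Q, hQ⟩ with hq
      have hqP : (Spec.map (f.app V)) q = P := PrimeSpectrum.ext hQP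
      have hxW : hW.fromSpec q ∈ f ⁻¹ᵁ V := by
        have : hW.fromSpec q ∈ hW.fromSpec.opensRange := ⟨q, rfl⟩
        rwa [hW.opensRange_fromSpec] at this
      have hfx : f (hW.fromSpec q) = y := by rw [hw, hqP, hPy]
      have h1 := Groth.Agent.Lib.Helper3.EtGUSch.isGeomUnibranch_localization_primeIdealOf hW
        (hW.fromSpec q) hxW (H _ hfx)
      have h2 : hW.primeIdealOf ⟨hW.fromSpec q, hxW⟩ = q := by
        apply hW.fromSpec.isOpenEmbedding.injective
        rw [hW.fromSpec_primeIdealOf]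
      rw [h2] at h1
      exact h1
    · intro H x hx
      have hxW : x ∈ f ⁻¹ᵁ V := by
        show f x ∈ V
        rw [hx]; exact hyV
      set q := hW.primeIdealOf ⟨x, hxW⟩ with hq
      have hqx : hW.fromSpec q = x := hW.fromSpec_primeIdealOf ⟨x, hxW⟩
      have hqP : (Spec.map (f.app V)) q = P := by
        apply hinjV
        exact (hw q).symm.trans (by rw [hqx, hx, hPy])
      haveI : q.asIdeal.IsPrime := q.isPrime
      have h1 := H q.asIdeal (congrArg PrimeSpectrum.asIdeal hqP)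
      exact Groth.Agent.Lib.Helper3.EtGUSch.isGeomUnibranch_stalk_of_localization hW x hxW h1
  rw [e1, e2, e3]
  constructor
  · intro h
    obtain ⟨hrad, hS⟩ := rad_of_gu hB P.asIdeal h
    exact ⟨isRadicialAt_of_radAt P hrad, fun Q _ hQ => hS Q hQ⟩
  · rintro ⟨hrad, hS⟩
    refine gu_of_rad hB P.asIdeal (radAt_of_isRadicialAt P hrad) ?_ (fun Q _ hQ => hS Q hQ)
    intro Q Q' hQ hQ' hQP hQ'P
    have := hrad.1 (⟨Q, hQ⟩ : Spec Γ(X, f ⁻¹ᵁ V)) ⟨Q', hQ'⟩ (PrimeSpectrum.ext hQP)
      (PrimeSpectrum.ext hQ'P)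
    exact congrArg PrimeSpectrum.asIdeal this

end Groth.Agent.R2.H19.RadUnibranchSch
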