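import Mathlib

/-!
# Schubert conditions and Plücker minors (helper19)

`det_eq_zero_of_finrank`, `finrank_of_det_eq_zero`: for a `d × n` matrix `A` with independent rows spanning `W`,
`dim (W ∩ V_m) ≥ i + 1` iff all maximal minors on increasing columns `J` with `J i ≥ m` vanish.
-/

set_option autoImplicit false
universe u

namespace Groth.Agent.R2.H19.Schubert

open Matrix Module

variable {K : Type u} [Field K] {n d : ℕ}

/-- Forward direction: if `dim (W ∩ V_m) ≥ i + 1` and `J` is strictly increasing with `J i ≥ m`,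
then the minor of `A` on the columns `J` vanishes. -/
theorem det_eq_zero_of_finrank (A : Matrix (Fin d) (Fin n) K)
    (Vm : Submodule K (Fin n → K)) (m : ℕ)
    (hV : ∀ v : Fin n → K, v ∈ Vm → ∀ l : Fin n, m ≤ (l : ℕ) → v l = 0)
    (i : Fin d)
    (h : (i : ℕ) + 1 ≤ finrank K ↥(Submodule.span K (Set.range fun i : Fin d => A i) ⊓ Vm))
    (J : Fin d → Fin n) (hJ : StrictMono J) (hJi : m ≤ (J i : ℕ)) :
    (A.submatrix id J).det = 0 := by
  by_contra hdet
  set W := Submodule.span K (Set.range fun i : Fin d => A i) with hW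
  let F : ↥(W ⊓ Vm) →ₗ[K] (Fin (i : ℕ) → K) :=
    { toFun := fun w t => (w : Fin n → K) (J ⟨t, t.2.trans i.2⟩)
      map_add' := fun _ _ => rfl
      map_smul' := fun _ _ => rfl }
  have hinj : Function.Injective F := by
    rw [← LinearMap.ker_eq_bot, LinearMap.ker_eq_bot']
    intro w hw
    obtain ⟨x, hx⟩ := (Submodule.mem_span_range_iff_exists_fun K).mp w.2.1
    have hall : ∀ t : Fin d, (w : Fin n → K) (J t) = 0 := by
      intro t
      by_cases ht : (t : ℕ) < i
      · exact congr_fun hw ⟨t, ht⟩
      · apply hV _ w.2.2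
        have : J i ≤ J t := hJ.monotone (by rw [Fin.le_def]; omega)
        exact hJi.trans (by exact_mod_cast this)
    have hx0 : x ᵥ* (A.submatrix id J) = 0 := by
      ext t
      rw [Pi.zero_apply, ← hall t, ← hx]
      simp [Matrix.vecMul, dotProduct, Finset.sum_apply]
    have := Matrix.eq_zero_of_vecMul_eq_zero hdet hx0
    apply Subtype.ext
    rw [← hx, this]
    simp
  have := LinearMap.finrank_le_finrank_of_injective hinj
  rw [Module.finrank_fin_fun] at this
  omega

theorem span_range_col_eq_top (A : Matrix (Fin d) (Fin n) K)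
    (hA : LinearIndependent K (fun i : Fin d => A i)) :
    Submodule.span K (Set.range A.col) = ⊤ := by
  apply Submodule.eq_top_of_finrank_eq
  rw [← Matrix.rank_eq_finrank_span_cols, LinearIndependent.rank_matrix (M := A) hA]
  simp

/-- Backward direction. -/
theorem finrank_of_det_eq_zero (A : Matrix (Fin d) (Fin n) K)
    (hA : LinearIndependent K (fun i : Fin d => A i))
    (Vm : Submodule K (Fin n → K)) (m : ℕ)
    (hV : ∀ v : Fin n → K, (∀ l : Fin n, m ≤ (l : ℕ) → v l = 0) → v ∈ Vm)
    (i : Fin d)
    (h : ∀ J : Fin d → Fin n, StrictMono J → m ≤ (J i : ℕ) → (A.submatrix id J).det = 0) :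
    (i : ℕ) + 1 ≤ finrank K ↥(Submodule.span K (Set.range fun i : Fin d => A i) ⊓ Vm) := by
  classical
  set W := Submodule.span K (Set.range fun i : Fin d => A i) with hW
  let S : Set (Fin n) := {l | m ≤ (l : ℕ)}
  obtain ⟨T, hTS, -, hTspan, hTli⟩ :=
    exists_linearIndepOn_extension (linearIndepOn_empty K A.col) (Set.empty_subset S)
  obtain ⟨T', -, hTT', hT'span, hT'li⟩ :=
    exists_linearIndepOn_extension hTli (Set.subset_univ T)
  have hT'top : ⊤ ≤ Submodule.span K (Set.range fun x : T' => A.col x) := by
    rw [← span_range_col_eq_top A hA, Submodule.span_le, ← Set.image_univ]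
    refine hT'span.trans (Submodule.span_mono ?_)
    rintro _ ⟨x, hx, rfl⟩
    exact ⟨⟨x, hx⟩, rfl⟩
  let bT' : Basis T' K (Fin d → K) := Basis.mk hT'li hT'top
  have hcardT' : T'.toFinset.card = d := by
    rw [Set.toFinset_card, ← Module.finrank_eq_card_basis bT', Module.finrank_fin_fun]
  let J : Fin d ↪o Fin n := T'.toFinset.orderEmbOfFin hcardT'
  have hJmem : ∀ t, J t ∈ T' := fun t => by
    exact Set.mem_toFinset.mp (Finset.orderEmbOfFin_mem T'.toFinset hcardT' t)
  have hdet : (A.submatrix id J).det ≠ 0 := by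
    have hli : LinearIndependent K (A.submatrix id J).col := by
      have := hT'li.comp (fun t : Fin d => (⟨J t, hJmem t⟩ : T')) (fun a b hab => by
        simpa using congrArg Subtype.val hab)
      exact this
    have := Matrix.linearIndependent_cols_iff_isUnit.mp hli
    exact ((Matrix.isUnit_iff_isUnit_det _).mp this).ne_zero
  have hJi : (J i : ℕ) < m := by
    by_contra hcon
    exact hdet (h J J.strictMono (not_lt.mp hcon))
  -- counting
  have hcount : T.toFinset.card + ((i : ℕ) + 1) ≤ d := by
    have hdisj : Disjoint T.toFinset ((Finset.Iic i).image J) := by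
      rw [Finset.disjoint_left]
      intro l hl hl'
      obtain ⟨t, ht, rfl⟩ := Finset.mem_image.mp hl'
      have h1 : m ≤ (J t : ℕ) := hTS (by simpa using hl)
      have h2 : J t ≤ J i := J.monotone (Finset.mem_Iic.mp ht)
      have h3 : (J t : ℕ) ≤ (J i : ℕ) := by exact_mod_cast h2
      omega
    have hsub : T.toFinset ∪ (Finset.Iic i).image J ⊆ T'.toFinset := by
      intro l hl
      rcases Finset.mem_union.mp hl with hl | hl
      · simpa using hTT' (by simpa using hl)
      · obtain ⟨t, -, rfl⟩ := Finset.mem_image.mp hl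
        simpa using hJmem t
    have := Finset.card_le_card hsub
    rw [Finset.card_union_of_disjoint hdisj, Finset.card_image_of_injective _ J.injective,
      Fin.card_Iic, hcardT'] at this
    exact this
  -- the linear map `x ↦ (x ⬝ col l)_{l ∈ T}`
  let G : (Fin d → K) →ₗ[K] (T → K) :=
    { toFun := fun x l => x ⬝ᵥ A.col l
      map_add' := fun x y => by ext l; simp [add_dotProduct]
      map_smul' := fun c x => by ext l; simp [smul_dotProduct] }
  have hker : (i : ℕ) + 1 ≤ finrank K (LinearMap.ker G) := by
    have h1 := LinearMap.finrank_range_add_finrank_ker G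
    have h2 : finrank K (LinearMap.range G) ≤ T.toFinset.card := by
      have := Submodule.finrank_le (LinearMap.range G)
      rwa [Module.finrank_fintype_fun_eq_card, ← Set.toFinset_card] at this
    rw [Module.finrank_fin_fun] at h1
    omega
  -- vanishing on all columns in `S`
  have hvanish : ∀ x ∈ LinearMap.ker G, ∀ l : Fin n, m ≤ (l : ℕ) → x ⬝ᵥ A.col l = 0 := by
    intro x hx l hl
    have hmem : A.col l ∈ Submodule.span K (A.col '' T) := hTspan ⟨l, hl, rfl⟩
    refine Submodule.span_induction (p := fun y _ => x ⬝ᵥ y = 0) ?_ ?_ ?_ ?_ hmem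
    · rintro _ ⟨l', hl', rfl⟩
      exact congr_fun (LinearMap.mem_ker.mp hx) ⟨l', hl'⟩
    · simp
    · intro y z _ _ hy hz
      rw [dotProduct_add, hy, hz, add_zero]
    · intro c y _ hy
      rw [dotProduct_smul, hy, smul_zero]
  let Φ : LinearMap.ker G →ₗ[K] ↥(W ⊓ Vm) :=
    LinearMap.codRestrict (W ⊓ Vm) (A.vecMulLinear ∘ₗ (LinearMap.ker G).subtype) (by
      intro x
      refine ⟨?_, ?_⟩
      · rw [hW]
        refine (Submodule.mem_span_range_iff_exists_fun K).mpr ⟨x, ?_⟩
        ext l
        simp [Matrix.vecMul, dotProduct, Finset.sum_apply]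
      · apply hV
        intro l hl
        exact hvanish x x.2 l hl)
  have hΦ : Function.Injective Φ := by
    rw [← LinearMap.ker_eq_bot, LinearMap.ker_eq_bot']
    intro x hx
    have h0 : (x : Fin d → K) ᵥ* A = 0 := congrArg Subtype.val hx
    have hsum : ∑ r, (x : Fin d → K) r • A r = 0 := by
      rw [← h0]
      ext l
      simp [Matrix.vecMul, dotProduct, Finset.sum_apply]
    have := Fintype.linearIndependent_iff.mp hA (x : Fin d → K) hsum
    exact Subtype.ext (funext this)
  exact hker.trans (LinearMap.finrank_le_finrank_of_injective hΦ)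

end Groth.Agent.R2.H19.Schubert
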