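import Mathlib
import Groth.Agent.Lib.Helper3SmDim
import Groth.Agent.Lib.Helper6LfpComp

/-!
# Ranks of differentials of smooth morphisms and the open-immersion criterion (EGA IV 17.9.5 / 17.11)

* `injective_of_surjective_of_rankAtStalk_eq`: a surjection of finite projective modules with equal
  local ranks is injective.
* `formallySmooth_of_rank_eq`: `R → A → B` with `A`, `B` smooth over `R`, `B` formally unramified
  over `A` and `rank Ω_{B/R} = rank Ω_{A/R}` pointwise: `B` is formally smooth over `A`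
  (Jacobi–Zariski).
* `exists_away_rank`, `rankAtStalk_kaehler_eq_fibreDimAt`: the rank of `Ω` of a smooth morphism at a
  point is the fibre dimension there.
* `flat_of_mono_of_fibreDimAt_eq`, `isOpenImmersion_of_mono_of_fibreDimAt_eq`.
-/

set_option autoImplicit false
set_option linter.style.haveILetI false
universe u

open AlgebraicGeometry CategoryTheory TensorProduct KaehlerDifferential

namespace Groth.Agent.R2.H19.SmoothRank

/-- a surjection of finite projective modules with the same local ranks is injective. -/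
theorem injective_of_surjective_of_rankAtStalk_eq {B M N : Type*} [CommRing B]
    [AddCommGroup M] [Module B M] [AddCommGroup N] [Module B N]
    [Module.Finite B M] [Module.Projective B M] [Module.Finite B N] [Module.Projective B N]
    (φ : M →ₗ[B] N) (hφ : Function.Surjective φ)
    (hr : ∀ q : PrimeSpectrum B, Module.rankAtStalk M q = Module.rankAtStalk N q) :
    Function.Injective φ := by
  obtain ⟨s, hs⟩ := Module.projective_lifting_property φ LinearMap.id hφ
  have hs' : ∀ n, φ (s n) = n := fun n => congrArg (fun f : N →ₗ[B] N => f n) hs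
  let K := LinearMap.ker φ
  let π : M →ₗ[B] K := LinearMap.codRestrict K (LinearMap.id - s ∘ₗ φ) (fun m => by
    simp only [K, LinearMap.mem_ker, LinearMap.sub_apply, LinearMap.id_apply, LinearMap.comp_apply,
      map_sub, hs', sub_self])
  have hπK : ∀ k : K, π k = k := by
    intro k
    apply Subtype.ext
    have hk : φ (k : M) = 0 := k.2
    simp [π, hk]
  have hπsurj : Function.Surjective π := fun k => ⟨k, hπK k⟩
  haveI : Module.Finite B K := Module.Finite.of_surjective π hπsurj
  haveI : Module.Projective B K :=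
    Module.Projective.of_split K.subtype π (LinearMap.ext hπK)
  let e : M ≃ₗ[B] N × K := LinearEquiv.ofLinearMap (φ.prod π)
    ((s.coprod K.subtype)) (by
      apply LinearMap.ext
      rintro ⟨n, k⟩
      have hk : φ (k : M) = 0 := k.2
      apply Prod.ext
      · simp [hs', hk]
      · apply Subtype.ext
        simp [π, hs', hk]) (by
      apply LinearMap.ext
      intro m
      simp [π])
  have h1 : Module.rankAtStalk (R := B) K = 0 := by
    funext q
    have h2 := Module.rankAtStalk_eq_of_equiv (R := B) e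
    have h3 := Module.rankAtStalk_prod (R := B) (M := N) K
    have h4 : Module.rankAtStalk M q = Module.rankAtStalk N q + Module.rankAtStalk (R := B) K q := by
      rw [h2, h3]; rfl
    rw [hr q] at h4
    simpa using h4.symm
  rw [Module.rankAtStalk_eq_zero_iff_subsingleton] at h1
  rw [← LinearMap.ker_eq_bot]
  exact Submodule.eq_bot_of_subsingleton

theorem formallySmooth_of_rank_eq {R A B : Type u} [CommRing R] [CommRing A] [CommRing B]
    [Algebra R A] [Algebra R B] [Algebra A B] [IsScalarTower R A B]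
    [Algebra.Smooth R A] [Algebra.Smooth R B] [Algebra.FormallyUnramified A B]
    (hrank : ∀ q : PrimeSpectrum B, Module.rankAtStalk Ω[B⁄R] q =
      Module.rankAtStalk Ω[A⁄R] (q.comap (algebraMap A B))) :
    Algebra.FormallySmooth A B := by
  haveI : Subsingleton Ω[B⁄A] := inferInstance
  refine ⟨inferInstance, ?_⟩
  have h1 := Algebra.H1Cotangent.exact_map_δ R A B
  have h2 := Algebra.H1Cotangent.exact_δ_mapBaseChange R A B
  haveI : Module.Finite A Ω[A⁄R] := inferInstance
  haveI : Module.Finite B Ω[B⁄R] := inferInstance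
  have hsurj : Function.Surjective (mapBaseChange R A B) := by
    have h3 := KaehlerDifferential.exact_mapBaseChange_map R A B
    intro y
    have : KaehlerDifferential.map R A B B y = 0 := Subsingleton.elim _ _
    exact (h3 y).mp this
  have hinj : Function.Injective (mapBaseChange R A B) := by
    apply injective_of_surjective_of_rankAtStalk_eq _ hsurj
    intro q
    rw [Module.rankAtStalk_baseChange, hrank q]
  have hδ0 : ∀ x, Algebra.H1Cotangent.δ R A B x = 0 := by
    intro x
    apply hinj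
    rw [map_zero]
    exact (h2 _).mpr ⟨x, rfl⟩
  refine ⟨fun x y => ?_⟩
  have hx : ∀ z : Algebra.H1Cotangent A B, z = 0 := by
    intro z
    obtain ⟨w, hw⟩ := (h1 z).mp (hδ0 z)
    rw [← hw, Subsingleton.elim w 0, map_zero]
  rw [hx x, hx y]

/-- ring level: the rank of the differentials of a smooth algebra at a prime is the relative
dimension of any standard smooth principal localization at that prime. -/
theorem exists_away_rank {R A : Type u} [CommRing R] [CommRing A] [Algebra R A] [Algebra.Smooth R A]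
    (p : Ideal A) [p.IsPrime] :
    ∃ (a : A) (n : ℕ), a ∉ p ∧ Algebra.IsStandardSmoothOfRelativeDimension n R (Localization.Away a) ∧
      Module.rankAtStalk Ω[A⁄R] ⟨p, inferInstance⟩ = n := by
  haveI : Algebra.FormallySmooth R (Localization.AtPrime p) :=
    Algebra.FormallySmooth.comp R A (Localization.AtPrime p)
  obtain ⟨a, ha, hstd⟩ := Algebra.IsSmoothAt.exists_notMem_isStandardSmooth R p
  obtain ⟨n, hn⟩ : ∃ n : ℕ, Algebra.IsStandardSmoothOfRelativeDimension n R (Localization.Away a) := by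
    obtain ⟨_, _, _, _, ⟨P⟩⟩ := hstd
    exact ⟨_, ⟨_, _, _, ‹_›, P, rfl⟩⟩
  refine ⟨a, n, ha, hn, ?_⟩
  haveI : Algebra.FormallyEtale A (Localization.Away a) :=
    Algebra.FormallyEtale.of_isLocalization (Rₘ := Localization.Away a) (Submonoid.powers a)
  have hbc : IsBaseChange (Localization.Away a) (map R R A (Localization.Away a)) :=
    KaehlerDifferential.isBaseChange_of_formallyEtale R A (Localization.Away a)
  have hdisj : Disjoint (Submonoid.powers a : Set A) (p : Set A) := by
    rw [Set.disjoint_left]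
    rintro _ ⟨k, rfl⟩ hk
    exact ha (Ideal.IsPrime.mem_of_pow_mem inferInstance k hk)
  let p' : PrimeSpectrum (Localization.Away a) :=
    ⟨Ideal.map (algebraMap A (Localization.Away a)) p,
      IsLocalization.isPrime_of_isPrime_disjoint (Submonoid.powers a) _ p inferInstance hdisj⟩
  have hp' : p'.comap (algebraMap A (Localization.Away a)) = ⟨p, inferInstance⟩ :=
    PrimeSpectrum.ext (IsLocalization.under_map_of_isPrime_disjoint (Submonoid.powers a) _
      inferInstance hdisj)
  have h1 := Module.rankAtStalk_isBaseChange hbc p'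
  rw [hp'] at h1
  rw [← h1]
  haveI : Nontrivial (Localization.Away a) := p'.nontrivial
  haveI := hn
  haveI : Algebra.IsStandardSmooth R (Localization.Away a) := hstd
  rw [Module.rankAtStalk_eq_finrank_of_free]
  have h2 := Algebra.IsStandardSmoothOfRelativeDimension.rank_kaehlerDifferential
    (R := R) (S := Localization.Away a) n
  simp only [Pi.natCast_def] 
  have := Module.finrank_eq_of_rank_eq h2
  exact this

open Groth.Agent.Lib.Helper3.SmDim

/-- **the rank of the differentials of a smooth morphism is the fibre dimension.** -/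
theorem rankAtStalk_kaehler_eq_fibreDimAt {Y S : Scheme.{u}} (f : Y ⟶ S) [Smooth f]
    {U : S.Opens} (hU : IsAffineOpen U) {V : Y.Opens} (hV : IsAffineOpen V) (e : V ≤ f ⁻¹ᵁ U)
    (y : Y) (hy : y ∈ V) :
    letI := (f.appLE U V e).hom.toAlgebra
    ((Module.rankAtStalk (R := Γ(Y, V)) Ω[Γ(Y, V)⁄Γ(S, U)] (hV.primeIdealOf ⟨y, hy⟩) : ℕ) :
      WithBot ℕ∞) = FlatMor.fibreDimAt f y := by
  letI alg := (f.appLE U V e).hom.toAlgebra
  have hsm : (f.appLE U V e).hom.Smooth :=
    HasRingHomProperty.appLE (P := @Smooth) f inferInstance ⟨U, hU⟩ ⟨V, hV⟩ e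
  haveI : Algebra.Smooth Γ(S, U) Γ(Y, V) := hsm
  set P := hV.primeIdealOf ⟨y, hy⟩ with hP
  obtain ⟨a, n, ha, hn, hr⟩ := exists_away_rank (R := Γ(S, U)) (A := Γ(Y, V)) P.asIdeal
  show ((Module.rankAtStalk (R := Γ(Y, V)) Ω[Γ(Y, V)⁄Γ(S, U)] P : ℕ) : WithBot ℕ∞) = _
  have hPeq : (⟨P.asIdeal, inferInstance⟩ : PrimeSpectrum Γ(Y, V)) = P := rfl
  rw [hPeq] at hr
  rw [hr]
  symm
  have hya : y ∈ Y.basicOpen a := by
    have h1 : hV.fromSpec P = y := hV.fromSpec_primeIdealOf ⟨y, hy⟩
    have h2 : P ∈ hV.fromSpec ⁻¹ᵁ Y.basicOpen a := by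
      rw [hV.fromSpec_preimage_basicOpen]
      exact ha
    rw [← h1]
    exact h2
  have e' : Y.basicOpen a ≤ f ⁻¹ᵁ U := (Y.basicOpen_le a).trans e
  refine fibreDimAt_eq_of_chart f n y hU (hV.basicOpen a) hya e' ?_
  haveI : IsLocalization.Away a Γ(Y, Y.basicOpen a) := hV.isLocalization_basicOpen a
  let ε : Localization.Away a ≃ₐ[Γ(Y, V)] Γ(Y, Y.basicOpen a) :=
    IsLocalization.algEquiv (Submonoid.powers a) _ _
  have hcomp : (f.appLE U (Y.basicOpen a) e').hom =
      ((ε : Localization.Away a ≃+* Γ(Y, Y.basicOpen a)) : Localization.Away a →+* _).comp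
        (algebraMap Γ(S, U) (Localization.Away a)) := by
    rw [← f.appLE_map e (homOfLE (Y.basicOpen_le a)).op]
    ext r
    rw [IsScalarTower.algebraMap_eq Γ(S, U) Γ(Y, V) (Localization.Away a)]
    simp only [CommRingCat.hom_comp, RingHom.comp_apply, RingHom.coe_coe]
    erw [ε.commutes]
    rfl
  rw [hcomp]
  have h1 := RingHom.IsStandardSmoothOfRelativeDimension.comp
    (RingHom.IsStandardSmoothOfRelativeDimension.equiv
      (ε : Localization.Away a ≃+* Γ(Y, Y.basicOpen a)))
    ((RingHom.isStandardSmoothOfRelativeDimension_algebraMap n).mpr hn)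
  simpa using h1

theorem flat_stableUnderCompositionWithLocalizationAwaySource :
    RingHom.StableUnderCompositionWithLocalizationAwaySource @RingHom.Flat := by
  intro R S T _ _ _ _ r _ f hf
  exact RingHom.Flat.comp (RingHom.flat_algebraMap_iff.mpr (IsLocalization.flat _ (Submonoid.powers r))) hf

set_option maxHeartbeats 1000000 in
/-- a monomorphism between smooth `S`-schemes with equal fibre dimensions is flat. -/
theorem flat_of_mono_of_fibreDimAt_eq {X Y S : Scheme.{u}} (f : Y ⟶ S) [Smooth f] (g : X ⟶ Y)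
    [Smooth (g ≫ f)] [Mono g]
    (hdim : ∀ x : X, FlatMor.fibreDimAt f (g x) = FlatMor.fibreDimAt (g ≫ f) x) : Flat g := by
  rw [HasRingHomProperty.iff_exists_appLE (P := @Flat)
    flat_stableUnderCompositionWithLocalizationAwaySource]
  intro x
  obtain ⟨_, ⟨U, hU : IsAffineOpen U, rfl⟩, hxU, -⟩ :=
    S.isBasis_affineOpens.exists_subset_of_mem_open (Set.mem_univ ((g ≫ f) x)) isOpen_univ
  obtain ⟨_, ⟨V, hV : IsAffineOpen V, rfl⟩, hxV, hVU⟩ :=
    Y.isBasis_affineOpens.exists_subset_of_mem_open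
      (show g x ∈ ((f ⁻¹ᵁ U : Y.Opens) : Set Y) from by
        simpa [Scheme.Hom.comp_apply] using hxU) (f ⁻¹ᵁ U).isOpen
  obtain ⟨_, ⟨W, hW : IsAffineOpen W, rfl⟩, hxW, hWV⟩ :=
    X.isBasis_affineOpens.exists_subset_of_mem_open
      (show x ∈ ((g ⁻¹ᵁ V : X.Opens) : Set X) from hxV) (g ⁻¹ᵁ V).isOpen
  have e₁ : V ≤ f ⁻¹ᵁ U := hVU
  have e₂ : W ≤ g ⁻¹ᵁ V := hWV
  have e₃ : W ≤ (g ≫ f) ⁻¹ᵁ U := e₂.trans ((TopologicalSpace.Opens.map g.base).map (homOfLE e₁)).le
  refine ⟨⟨V, hV⟩, ⟨W, hW⟩, hxW, e₂, ?_⟩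
  letI algRA : Algebra Γ(S, U) Γ(Y, V) := (f.appLE U V e₁).hom.toAlgebra
  letI algAB : Algebra Γ(Y, V) Γ(X, W) := (g.appLE V W e₂).hom.toAlgebra
  letI algRB : Algebra Γ(S, U) Γ(X, W) := ((g ≫ f).appLE U W e₃).hom.toAlgebra
  haveI : IsScalarTower Γ(S, U) Γ(Y, V) Γ(X, W) := IsScalarTower.of_algebraMap_eq' (by
    show ((g ≫ f).appLE U W e₃).hom = (g.appLE V W e₂).hom.comp (f.appLE U V e₁).hom
    rw [← Scheme.Hom.appLE_comp_appLE g f U V W e₁ e₂]
    rfl)
  haveI : Algebra.Smooth Γ(S, U) Γ(Y, V) :=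
    HasRingHomProperty.appLE (P := @Smooth) f inferInstance ⟨U, hU⟩ ⟨V, hV⟩ e₁
  haveI : Algebra.Smooth Γ(S, U) Γ(X, W) :=
    HasRingHomProperty.appLE (P := @Smooth) (g ≫ f) inferInstance ⟨U, hU⟩ ⟨W, hW⟩ e₃
  haveI : FormallyUnramified g := inferInstance
  haveI : Algebra.FormallyUnramified Γ(Y, V) Γ(X, W) :=
    HasRingHomProperty.appLE (P := @FormallyUnramified) g inferInstance ⟨V, hV⟩ ⟨W, hW⟩ e₂
  haveI : Algebra.FormallySmooth Γ(Y, V) Γ(X, W) := by
    apply formallySmooth_of_rank_eq (R := Γ(S, U))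
    intro q
    have hq : (hW.fromSpec q) ∈ W := by
      have : hW.fromSpec q ∈ Set.range hW.fromSpec := ⟨q, rfl⟩
      rw [hW.range_fromSpec] at this
      exact this
    have hqe : hW.primeIdealOf ⟨hW.fromSpec q, hq⟩ = q :=
      hW.fromSpec.isOpenEmbedding.injective (hW.fromSpec_primeIdealOf ⟨hW.fromSpec q, hq⟩)
    have h1 := rankAtStalk_kaehler_eq_fibreDimAt (g ≫ f) hU hW e₃ (hW.fromSpec q) hq
    have h2 := rankAtStalk_kaehler_eq_fibreDimAt f hU hV e₁ (g (hW.fromSpec q)) (e₂ hq)
    have h3 := IsAffineOpen.comap_primeIdealOf_appLE V hV W hW e₂ hq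
    rw [hqe] at h1 h3
    have h4 : q.comap (algebraMap Γ(Y, V) Γ(X, W)) = hV.primeIdealOf ⟨g (hW.fromSpec q), e₂ hq⟩ := h3
    rw [h4]
    have h5 := hdim (hW.fromSpec q)
    rw [← h1, ← h2] at h5
    exact_mod_cast h5.symm
  haveI : Algebra.FinitePresentation Γ(Y, V) Γ(X, W) :=
    Algebra.FinitePresentation.of_restrict_scalars_finitePresentation Γ(S, U) _ _
  haveI : Algebra.Smooth Γ(Y, V) Γ(X, W) := ⟨inferInstance, inferInstance⟩
  show (algebraMap Γ(Y, V) Γ(X, W)).Flat
  exact (RingHom.flat_algebraMap_iff).mpr inferInstance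


/-- a monomorphism between smooth `S`-schemes with equal fibre dimensions is an open immersion. -/
theorem isOpenImmersion_of_mono_of_fibreDimAt_eq {X Y S : Scheme.{u}} (f : Y ⟶ S) [Smooth f]
    (g : X ⟶ Y) [Smooth (g ≫ f)] [Mono g]
    (hdim : ∀ x : X, FlatMor.fibreDimAt f (g x) = FlatMor.fibreDimAt (g ≫ f) x) :
    IsOpenImmersion g := by
  haveI := flat_of_mono_of_fibreDimAt_eq f g hdim
  haveI : LocallyOfFinitePresentation g :=
    Groth.Agent.Lib.Helper6.locallyOfFinitePresentation_of_comp (g := f) inferInstance inferInstance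
  exact IsOpenImmersion.of_flat_of_mono g

end Groth.Agent.R2.H19.SmoothRank
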