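import Mathlib
import Groth.Agent.R2.H19GoingDownVal
import Groth.Agent.R2.H19UnivOpenQF
import Groth.Agent.R2.H19TrdegBC
import Groth.Agent.Lib.Helper6QFAff
import Groth.Agent.Lib.Helper6QFAffB
import Groth.Agent.Lib.Helper6ValCore
import Groth.Agent.Lib.Helper6ValImg
import Groth.Agent.Lib.Helper6ValRing
import Groth.Agent.Lib.Helper6OpenDimE
import Groth.Agent.Lib.Helper6EquiSubC
import Groth.Agent.Lib.Helper4DimFormulaAN
import Groth.Agent.Lib.Helper10RedInd
import Groth.Agent.Lib.Helper7TopDim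

/-!
# Intermediate points in a fibre between a point and a specialization (helper19; EGA IV 14.5)

* `exists_point_generic_fibre`, `exists_intermediate_over_valuationRing`: over a valuation ring `R`
  (not a field), for `ξ ⤳ ξ'` with `ξ` in the generic fibre of positive residual transcendence
  degree and `ξ'` a closed point over the closed point, there is `ξ₂ ≠ ξ` in the generic fibre with
  `ξ ⤳ ξ₂ ⤳ ξ'`, inside any given open neighbourhood of `ξ`.
* `exists_valuationRing_compatible`: compatible valuation rings of `κ(x)` and `κ(f x)` along a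
  specialization `x ⤳ x'`.
* `exists_intermediate`: the same statement for a general morphism locally of finite type.
-/

set_option autoImplicit false
set_option linter.style.haveILetI false
universe u

open CategoryTheory CategoryTheory.Limits AlgebraicGeometry Topology MvPolynomial IsLocalRing

namespace Groth.Agent.R2.H19.SpecDense

open Groth.Agent.Lib.Helper4.DimFormula

set_option maxHeartbeats 1600000 in
/-- **Lemma V** (affine integral form). -/
theorem exists_point_generic_fibre (R : Type u) [CommRing R] [IsDomain R] [ValuationRing R]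
    (hR : ¬ IsField R) (σ : Type u) [Finite σ] (i₀ : σ)
    (Y : Scheme.{u}) [IsAffine Y] [IsIntegral Y]
    (π : Y ⟶ 𝔸(σ; Spec (CommRingCat.of R))) [LocallyQuasiFinite π] [LocallyOfFiniteType π]
    [IsDominant π]
    (yg y' : Y) (hyg : ∀ y : Y, yg ⤳ y) (hy'cl : IsClosed ({y'} : Set Y))
    (hy' : (π ≫ (𝔸(σ; Spec (CommRingCat.of R)) ↘ Spec (CommRingCat.of R))).base y' =
      (IsLocalRing.closedPoint R : PrimeSpectrum R))
    (G : Set Y) (hGo : IsOpen G) (hG : yg ∈ G) :
    ∃ y₂ : Y, y₂ ∈ G ∧ y₂ ⤳ y' ∧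
      (π ≫ (𝔸(σ; Spec (CommRingCat.of R)) ↘ Spec (CommRingCat.of R))).base y₂ =
        genericPoint (Spec (CommRingCat.of R)) ∧ y₂ ≠ yg := by
  classical
  set e := Y.isoSpec with he
  set πB : Spec Γ(Y, ⊤) ⟶ Spec (CommRingCat.of (MvPolynomial σ R)) :=
    e.inv ≫ π ≫ (AffineSpace.SpecIso σ (CommRingCat.of R)).hom with hπB
  set ψc : CommRingCat.of (MvPolynomial σ R) ⟶ Γ(Y, ⊤) := Spec.preimage πB with hψc
  have hSpec : Spec.map ψc = πB := Spec.map_preimage πB
  haveI : LocallyQuasiFinite (Spec.map ψc) := by rw [hSpec, hπB]; infer_instance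
  haveI : LocallyOfFiniteType (Spec.map ψc) := by rw [hSpec, hπB]; infer_instance
  haveI : IsDominant (Spec.map ψc) := by rw [hSpec, hπB]; infer_instance
  have hqf : ψc.hom.QuasiFinite :=
    (HasRingHomProperty.Spec_iff (P := @LocallyQuasiFinite)).mp inferInstance
  have hft : ψc.hom.FiniteType :=
    (HasRingHomProperty.Spec_iff (P := @LocallyOfFiniteType)).mp inferInstance
  have hinj : Function.Injective ψc.hom := by
    have h1 : DenseRange (PrimeSpectrum.comap ψc.hom) := (Spec.map ψc).denseRange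
    rw [PrimeSpectrum.denseRange_comap_iff_ker_le_nilRadical, nilradical_eq_zero] at h1
    exact (RingHom.injective_iff_ker_eq_bot _).mpr (le_bot_iff.mp h1)
  -- the structure morphism
  have hover : Spec.map (CommRingCat.ofHom (C : R →+* MvPolynomial σ R) ≫ ψc) =
      e.inv ≫ π ≫ (𝔸(σ; Spec (CommRingCat.of R)) ↘ Spec (CommRingCat.of R)) := by
    have h3 := AffineSpace.SpecIso_inv_over (n := σ) (CommRingCat.of R)
    rw [Iso.inv_comp_eq] at h3
    rw [Spec.map_comp, hSpec, hπB, Category.assoc, Category.assoc]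
    congr 2
    exact h3.symm
  have hover' : ∀ q : Spec Γ(Y, ⊤),
      (π ≫ (𝔸(σ; Spec (CommRingCat.of R)) ↘ Spec (CommRingCat.of R))).base (e.inv.base q) =
      (⟨q.asIdeal.comap (ψc.hom.comp (C : R →+* MvPolynomial σ R)), inferInstance⟩ :
        PrimeSpectrum R) := by
    intro q
    rw [← Scheme.Hom.comp_apply, ← hover]
    rfl
  have heinv : ∀ y : Y, e.inv.base (e.hom.base y) = y := fun y => by
    rw [← Scheme.Hom.comp_apply, e.hom_inv_id]; rfl
  have hehom : ∀ q : Spec Γ(Y, ⊤), e.hom.base (e.inv.base q) = q := fun q => by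
    rw [← Scheme.Hom.comp_apply, e.inv_hom_id]; rfl
  -- the maximal ideal
  set Q' : PrimeSpectrum Γ(Y, ⊤) := e.hom.base y' with hQ'
  have hQ'cl : IsClosed ({Q'} : Set (PrimeSpectrum Γ(Y, ⊤))) := by
    have := (e.hom.homeomorph.isClosedMap) _ hy'cl
    rwa [Set.image_singleton] at this
  haveI hQ'max : Q'.asIdeal.IsMaximal := (PrimeSpectrum.isClosed_singleton_iff_isMaximal Q').mp hQ'cl
  have hq' : IsLocalRing.maximalIdeal R ≤
      Q'.asIdeal.comap (ψc.hom.comp (C : R →+* MvPolynomial σ R)) := by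
    have h1 := hover' Q'
    rw [hQ', heinv, hy'] at h1
    have h2 := congrArg PrimeSpectrum.asIdeal h1
    exact h2.le
  -- the function `h`
  have hgB : ∀ q : PrimeSpectrum Γ(Y, ⊤), e.hom.base yg ⤳ q := by
    intro q
    have := (hyg (e.inv.base q)).map e.hom.continuous
    rwa [hehom] at this
  have hgbot : (e.hom.base yg).asIdeal = ⊥ := by
    have h1 := hgB ⟨⊥, Ideal.isPrime_bot⟩
    exact le_bot_iff.mp ((PrimeSpectrum.le_iff_specializes _ _).mpr h1)
  have hG'o : IsOpen (e.inv.base ⁻¹' G) := hGo.preimage e.inv.continuous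
  have hG'mem : e.hom.base yg ∈ e.inv.base ⁻¹' G := by
    rw [Set.mem_preimage, heinv]; exact hG
  obtain ⟨_, ⟨h, rfl⟩, hhmem, hhsub⟩ :=
    PrimeSpectrum.isTopologicalBasis_basic_opens.exists_subset_of_mem_open hG'mem hG'o
  have hh0 : h ≠ 0 := by
    intro h0
    have : h ∉ (e.hom.base yg).asIdeal := hhmem
    rw [h0] at this
    exact this (Ideal.zero_mem _)
  obtain ⟨q₂, hq₂p, hq₂le, hq₂c, hq₂h, hq₂0⟩ :=
    Groth.Agent.R2.H19.GoingDownVal.exists_prime_generic_fibre hR i₀ ψc.hom hqf hft hinj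
      Q'.asIdeal hq' h hh0
  set Q₂ : PrimeSpectrum Γ(Y, ⊤) := ⟨q₂, hq₂p⟩ with hQ₂
  refine ⟨e.inv.base Q₂, ?_, ?_, ?_, ?_⟩
  · exact hhsub (show Q₂ ∈ (PrimeSpectrum.basicOpen h : Set _) from hq₂h)
  · have h1 : Q₂ ⤳ Q' := (PrimeSpectrum.le_iff_specializes Q₂ Q').mp hq₂le
    have h2 := h1.map e.inv.continuous
    rwa [hQ', heinv] at h2
  · rw [hover' Q₂, genericPoint_eq_bot_of_affine]
    apply PrimeSpectrum.ext
    exact hq₂c
  · intro heq
    apply hq₂0
    have : e.hom.base (e.inv.base Q₂) = e.hom.base yg := by rw [heq]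
    rw [hehom] at this
    rw [← hgbot, ← this]

set_option maxHeartbeats 1600000 in
/-- **Lemma V** (general form over a valuation ring). -/
theorem exists_intermediate_over_valuationRing (R : Type u) [CommRing R] [IsDomain R]
    [ValuationRing R] (hR : ¬ IsField R) {X₀ : Scheme.{u}} (φ : X₀ ⟶ Spec (CommRingCat.of R))
    [LocallyOfFiniteType φ] (ξ ξ' : X₀) (hsp : ξ ⤳ ξ')
    (hξ : φ.base ξ = genericPoint (Spec (CommRingCat.of R)))
    (hξ' : φ.base ξ' = (IsLocalRing.closedPoint R : PrimeSpectrum R))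
    (hcl : IsClosed ({ξ'} : Set X₀)) (hn : 0 < ptTrdeg φ ξ)
    (G : Set X₀) (hGo : IsOpen G) (hG : ξ ∈ G) :
    ∃ ξ₂ : X₀, ξ₂ ∈ G ∧ φ.base ξ₂ = genericPoint (Spec (CommRingCat.of R)) ∧ ξ ⤳ ξ₂ ∧ ξ₂ ⤳ ξ' ∧
      ξ₂ ≠ ξ := by
  classical
  set n := ptTrdeg φ ξ with hndef
  -- the reduced closed subscheme
  set I := Scheme.IdealSheafData.vanishingIdeal (X := X₀) ⟨closure {ξ}, isClosed_closure⟩ with hI
  set W := I.subscheme with hW
  set ι : W ⟶ X₀ := I.subschemeι with hι
  have hrange : Set.range ι.base = closure {ξ} := by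
    rw [hι, Scheme.IdealSheafData.range_subschemeι, hI,
      Scheme.IdealSheafData.coe_support_vanishingIdeal]
    rfl
  haveI : IsReduced W :=
    Groth.Agent.Lib.Helper10.RedInd.isReduced_subscheme_vanishingIdeal _
  obtain ⟨ξW, hξW⟩ : ξ ∈ Set.range ι.base := by rw [hrange]; exact subset_closure rfl
  have hgenW : ∀ w : W, ξW ⤳ w := by
    intro w
    rw [← ι.isEmbedding.isInducing.specializes_iff, hξW, specializes_iff_mem_closure, ← hrange]
    exact ⟨w, rfl⟩
  haveI : IrreducibleSpace W := by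
    have h : closure ({ξW} : Set W) = Set.univ := by
      rw [Set.eq_univ_iff_forall]; intro w; exact (hgenW w).mem_closure
    have h2 := (isIrreducible_singleton (x := ξW)).closure
    rw [h] at h2
    exact (irreducibleSpace_def W).mpr h2
  haveI : IsIntegral W := isIntegral_of_irreducibleSpace_of_isReduced W
  obtain ⟨w', hw'⟩ : ξ' ∈ Set.range ι.base := by rw [hrange]; exact hsp.mem_closure
  set φW : W ⟶ Spec (CommRingCat.of R) := ι ≫ φ with hφW
  -- the fibre dimension bound
  have hdim : FlatMor.fibreDimAt φW w' ≤ (n : WithBot ℕ∞) := by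
    unfold FlatMor.fibreDimAt
    refine (Groth.Agent.Lib.Helper7.TopDim.localDim_le_dim _).trans ?_
    rw [hφW, Groth.Agent.Lib.Helper6.ValCore.dim_fiber_comp_eq ι ι.isEmbedding φ, hrange]
    refine (Groth.Agent.Lib.Helper6.ValCore.dim_closure_singleton_inter_fibre_le φ ξ hξ _).trans ?_
    rw [← hξ, Groth.Agent.Lib.Helper6.OpenDim.topologicalKrullDim_closure_inter_fibre φ ξ]
  -- the quasi-finite map to affine space
  obtain ⟨U, hU, hw'U, g, π₀, hg, hπ₀, hqf₀, hft₀⟩ :=
    Groth.Agent.Lib.Helper6.QFAff.exists_affine_nhd_quasiFinite φW w' ⊤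
      (isAffineOpen_top _) trivial n hdim
  haveI := hqf₀
  haveI := hft₀
  haveI := Groth.Agent.Lib.Helper6.QFAff.isOpenImmersion_affineSpace_map (ULift.{u} (Fin n))
    (⊤ : (Spec (CommRingCat.of R)).Opens).ι
  set π : (U : Scheme.{u}) ⟶ 𝔸(ULift.{u} (Fin n); Spec (CommRingCat.of R)) :=
    π₀ ≫ AffineSpace.map (ULift.{u} (Fin n)) (⊤ : (Spec (CommRingCat.of R)).Opens).ι with hπ
  have hover : π ≫ (𝔸(ULift.{u} (Fin n); Spec (CommRingCat.of R)) ↘ Spec (CommRingCat.of R)) =
      U.ι ≫ ι ≫ φ := by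
    rw [hπ, Category.assoc, AffineSpace.map_over, ← Category.assoc, hπ₀, hg]
  haveI : LocallyQuasiFinite π := by rw [hπ]; infer_instance
  haveI : LocallyOfFiniteType π := by rw [hπ]; infer_instance
  haveI : IsAffine (U : Scheme.{u}) := hU
  haveI : Nonempty (U : Scheme.{u}) := ⟨⟨w', hw'U⟩⟩
  haveI : IsIntegral (U : Scheme.{u}) := isIntegral_of_isOpenImmersion U.ι
  -- the points
  have hξWU : ξW ∈ U := (hgenW w').mem_open U.isOpen hw'U
  set yg : (U : Scheme.{u}) := ⟨ξW, hξWU⟩ with hyg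
  set y' : (U : Scheme.{u}) := ⟨w', hw'U⟩ with hy'
  have hιyg : U.ι.base yg = ξW := rfl
  have hιy' : U.ι.base y' = w' := rfl
  have hygen : ∀ y : (U : Scheme.{u}), yg ⤳ y := by
    intro y
    rw [← U.ι.isEmbedding.isInducing.specializes_iff]
    exact hgenW _
  have hy'cl : IsClosed ({y'} : Set (U : Scheme.{u})) := by
    have h1 : ({y'} : Set (U : Scheme.{u})) = (U.ι ≫ ι).base ⁻¹' {ξ'} := by
      ext y
      simp only [Set.mem_singleton_iff, Set.mem_preimage]
      constructor
      · rintro rfl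
        rw [Scheme.Hom.comp_apply, hιy', hw']
      · intro h
        apply U.ι.isEmbedding.injective
        apply ι.isEmbedding.injective
        rw [hιy', hw', ← h, Scheme.Hom.comp_apply]
    rw [h1]
    exact hcl.preimage (U.ι ≫ ι).continuous
  have hy'over : (π ≫ (𝔸(ULift.{u} (Fin n); Spec (CommRingCat.of R)) ↘
      Spec (CommRingCat.of R))).base y' = (IsLocalRing.closedPoint R : PrimeSpectrum R) := by
    rw [hover, Scheme.Hom.comp_apply, Scheme.Hom.comp_apply, hιy', hw', hξ']
  -- dominance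
  have htr : ptTrdeg (π ≫ (𝔸(ULift.{u} (Fin n); Spec (CommRingCat.of R)) ↘
      Spec (CommRingCat.of R))) yg = n := by
    rw [hover, ptTrdeg_comp_of_isPreimmersion U.ι (ι ≫ φ) yg, hιyg,
      ptTrdeg_comp_of_isPreimmersion ι φ ξW, hξW]
  have hygover : (π ≫ (𝔸(ULift.{u} (Fin n); Spec (CommRingCat.of R)) ↘
      Spec (CommRingCat.of R))).base yg = genericPoint (Spec (CommRingCat.of R)) := by
    rw [hover, Scheme.Hom.comp_apply, Scheme.Hom.comp_apply, hιyg, hξW, hξ]
  have hmaxP := Groth.Agent.Lib.Helper6.QFAff.maximal_of_ptTrdeg_eq n π yg htr (by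
    intro b hb
    rw [hygover] at hb ⊢
    exact (hb.antisymm (genericPoint_specializes b)).eq)
  have hgenP : π.base yg = genericPoint ↥(𝔸(ULift.{u} (Fin n); Spec (CommRingCat.of R))) :=
    (hmaxP _ (genericPoint_specializes _)).symm
  haveI : IsDominant π := by
    constructor
    have hmem : genericPoint ↥(𝔸(ULift.{u} (Fin n); Spec (CommRingCat.of R))) ∈
        Set.range π.base := ⟨yg, hgenP⟩
    intro t
    exact closure_mono (Set.singleton_subset_iff.mpr hmem) (genericPoint_specializes t).mem_closure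
  -- apply Lemma V
  obtain ⟨y₂, hy₂G, hy₂sp, hy₂over, hy₂ne⟩ := exists_point_generic_fibre R hR (ULift.{u} (Fin n))
    ⟨⟨0, hn⟩⟩ (U : Scheme.{u}) π yg y' hygen hy'cl hy'over ((U.ι ≫ ι).base ⁻¹' G)
    (hGo.preimage (U.ι ≫ ι).continuous) (by
      show (U.ι ≫ ι).base yg ∈ G
      rw [Scheme.Hom.comp_apply, hιyg, hξW]; exact hG)
  refine ⟨(U.ι ≫ ι).base y₂, hy₂G, ?_, ?_, ?_, ?_⟩
  · rw [hover] at hy₂over
    exact hy₂over
  · rw [specializes_iff_mem_closure, ← hrange, Scheme.Hom.comp_apply]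
    exact ⟨_, rfl⟩
  · have := hy₂sp.map (U.ι ≫ ι).continuous
    rwa [Scheme.Hom.comp_apply (U.ι) ι y', hιy', hw'] at this
  · intro heq
    apply hy₂ne
    apply U.ι.isEmbedding.injective
    apply ι.isEmbedding.injective
    rw [hιyg, hξW, ← heq, Scheme.Hom.comp_apply]

set_option maxHeartbeats 1600000 in
/-- **Compatible valuation rings along a specialization `x ⤳ x'` over `f x ⤳ f x'`.** -/
theorem exists_valuationRing_compatible {X S : Scheme.{u}} (f : X ⟶ S) (x x' : X) (hsp : x ⤳ x') :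
    ∃ (A : ValuationSubring (X.residueField x))
      (A₀ : ValuationSubring (S.residueField (f.base x)))
      (j : A₀ →+* A) (hA : Spec (CommRingCat.of A) ⟶ X) (g₀ : Spec (CommRingCat.of A₀) ⟶ S),
      Function.Injective j ∧ IsLocalHom j ∧
      hA.base (closedPoint A) = x' ∧
      Spec.map (CommRingCat.ofHom (algebraMap A (X.residueField x))) ≫ hA =
        X.fromSpecResidueField x ∧
      Spec.map (CommRingCat.ofHom (algebraMap A₀ (S.residueField (f.base x)))) ≫ g₀ =
        S.fromSpecResidueField (f.base x) ∧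
      Spec.map (CommRingCat.ofHom j) ≫ g₀ = hA ≫ f := by
  obtain ⟨A, hA, hAcl, hAK⟩ :=
    Groth.Agent.Lib.Helper6.ValRing.exists_valuationRing_of_specializes hsp
  set κ : S.residueField (f.base x) →+* X.residueField x := (f.residueFieldMap x).hom with hκ
  set A₀ : ValuationSubring (S.residueField (f.base x)) := A.comap κ with hA₀
  set j : A₀ →+* A := κ.restrict A₀ A (fun a ha => ha) with hj
  have hjinj : Function.Injective j := by
    intro a b hab
    apply Subtype.ext
    apply κ.injective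
    exact congrArg Subtype.val hab
  have hjloc : IsLocalHom j := by
    constructor
    intro a ha
    have ha0 : (a : S.residueField (f.base x)) ≠ 0 := by
      intro h0
      have : j a = 0 := by
        apply Subtype.ext
        show κ a = 0
        rw [h0, map_zero]
      rw [this] at ha
      exact not_isUnit_zero ha
    obtain ⟨u, hu⟩ := ha
    have hinv : (a : S.residueField (f.base x))⁻¹ ∈ A₀ := by
      show κ ((a : S.residueField (f.base x))⁻¹) ∈ A
      rw [map_inv₀]
      have h1 : κ a = ((u : A) : X.residueField x) := by rw [hu]; rfl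
      rw [h1]
      have h2 : ((u : A) : X.residueField x)⁻¹ = ((u⁻¹ : Aˣ) : A) := by
        apply inv_eq_of_mul_eq_one_right
        have := congrArg (Subtype.val) (u.mul_inv)
        exact this
      rw [h2]
      exact Subtype.property _
    refine ⟨⟨a, ⟨_, hinv⟩, ?_, ?_⟩, rfl⟩
    · apply Subtype.ext; exact mul_inv_cancel₀ ha0
    · apply Subtype.ext; exact inv_mul_cancel₀ ha0
  -- the local homomorphism from the stalk
  set t : S := (hA ≫ f).base (closedPoint A) with ht
  set ρ : S.presheaf.stalk t ⟶ CommRingCat.of A := Scheme.stalkClosedPointTo (hA ≫ f) with hρ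
  have hρS : Spec.map ρ ≫ S.fromSpecStalk t = hA ≫ f :=
    Scheme.Spec_stalkClosedPointTo_fromSpecStalk (hA ≫ f)
  have hst : f.base x ⤳ t := by
    have : t = f.base x' := by rw [ht, Scheme.Hom.comp_apply, hAcl]
    rw [this]
    exact hsp.map f.continuous
  set τ : S.presheaf.stalk t ⟶ S.residueField (f.base x) :=
    S.presheaf.stalkSpecializes hst ≫ S.residue (f.base x) with hτ
  -- key commutativity
  have hkey : ρ ≫ CommRingCat.ofHom (algebraMap A (X.residueField x)) =
      τ ≫ f.residueFieldMap x := by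
    apply Spec.map_injective
    rw [← cancel_mono (S.fromSpecStalk t)]
    rw [Spec.map_comp, Category.assoc, hρS, reassoc_of% hAK]
    rw [hτ, Spec.map_comp, Spec.map_comp, Category.assoc, Category.assoc,
      Scheme.SpecMap_stalkSpecializes_fromSpecStalk]
    rw [← Scheme.Hom.SpecMap_residueFieldMap_fromSpecResidueField]
    rfl
  have hmem : ∀ a, τ.hom a ∈ A₀ := by
    intro a
    show κ (τ.hom a) ∈ A
    have := congrArg (fun g => g.hom a) hkey
    simp only [CommRingCat.hom_comp, RingHom.comp_apply] at this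
    rw [hκ, ← this]
    exact Subtype.property _
  set ρ₀ : S.presheaf.stalk t ⟶ CommRingCat.of A₀ :=
    CommRingCat.ofHom (τ.hom.codRestrict A₀ hmem) with hρ₀
  have hρ₀j : ρ₀ ≫ CommRingCat.ofHom j = ρ := by
    ext a
    have := congrArg (fun g => g.hom a) hkey
    simp only [CommRingCat.hom_comp, RingHom.comp_apply] at this
    exact this.symm
  have hρ₀τ : ρ₀ ≫ CommRingCat.ofHom (algebraMap A₀ (S.residueField (f.base x))) = τ := by
    ext a; rfl
  refine ⟨A, A₀, j, hA, Spec.map ρ₀ ≫ S.fromSpecStalk t, hjinj, hjloc, hAcl, hAK, ?_, ?_⟩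
  · rw [← Category.assoc, ← Spec.map_comp, hρ₀τ, hτ, Spec.map_comp, Category.assoc,
      Scheme.SpecMap_stalkSpecializes_fromSpecStalk]
    rfl
  · rw [← Category.assoc, ← Spec.map_comp, hρ₀j, hρS]

set_option maxHeartbeats 1600000 in
/-- **Key lemma**: an intermediate point in the fibre of `x`. -/
theorem exists_intermediate {X S : Scheme.{u}} (f : X ⟶ S) [LocallyOfFiniteType f] (x x' : X)
    (hsp : x ⤳ x') (hne : f.base x ≠ f.base x') (hcl : ptTrdeg f x' = 0)
    (hn : 0 < ptTrdeg f x) (G : Set X) (hGo : IsOpen G) (hG : x ∈ G) :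
    ∃ x₂ : X, x₂ ∈ G ∧ f.base x₂ = f.base x ∧ x ⤳ x₂ ∧ x₂ ⤳ x' ∧ x₂ ≠ x := by
  classical
  obtain ⟨A, A₀, j, hA, g₀, hjinj, hjloc, hAcl, hAK, hg₀K, hjg⟩ :=
    exists_valuationRing_compatible f x x' hsp
  haveI := hjloc
  set q := pullback.fst f g₀ with hq
  set φ := pullback.snd f g₀ with hφ
  have sq : IsPullback q φ f g₀ := IsPullback.of_hasPullback f g₀
  haveI : LocallyOfFiniteType φ :=
    MorphismProperty.of_isPullback (P := @LocallyOfFiniteType) sq inferInstance
  set σ : Spec (CommRingCat.of A) ⟶ pullback f g₀ :=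
    pullback.lift hA (Spec.map (CommRingCat.ofHom j)) hjg.symm with hσ
  have hσq : σ ≫ q = hA := pullback.lift_fst _ _ _
  have hσφ : σ ≫ φ = Spec.map (CommRingCat.ofHom j) := pullback.lift_snd _ _ _
  set ξ : ↥(pullback f g₀) := σ.base (genericPoint (Spec (CommRingCat.of A))) with hξdef
  set ξ' : ↥(pullback f g₀) := σ.base (closedPoint A : PrimeSpectrum A) with hξ'def
  have hξξ' : ξ ⤳ ξ' := (genericPoint_specializes _).map σ.continuous
  have hqξ : q.base ξ = x := by
    rw [hξdef, ← Scheme.Hom.comp_apply, hσq]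
    exact Groth.Agent.R2.H19.UnivOpenQF.map_genericPoint_eq A hA hAK
  have hqξ' : q.base ξ' = x' := by
    rw [hξ'def, ← Scheme.Hom.comp_apply, hσq]; exact hAcl
  have hφξ : φ.base ξ = genericPoint (Spec (CommRingCat.of A₀)) := by
    rw [hξdef, ← Scheme.Hom.comp_apply, hσφ, genericPoint_eq_bot_of_affine,
      genericPoint_eq_bot_of_affine]
    apply PrimeSpectrum.ext
    show Ideal.comap j ⊥ = ⊥
    rw [← RingHom.ker_eq_comap_bot]
    exact (RingHom.injective_iff_ker_eq_bot j).mp hjinj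
  have hφξ' : φ.base ξ' = (closedPoint A₀ : PrimeSpectrum A₀) := by
    rw [hξ'def, ← Scheme.Hom.comp_apply, hσφ]
    exact comap_closedPoint j
  have hcond : ∀ z : ↥(pullback f g₀), f.base (q.base z) = g₀.base (φ.base z) := by
    intro z
    rw [← Scheme.Hom.comp_apply, ← Scheme.Hom.comp_apply, sq.w]
  have hg₀gen : g₀.base (genericPoint (Spec (CommRingCat.of A₀))) = f.base x :=
    Groth.Agent.R2.H19.UnivOpenQF.map_genericPoint_eq A₀ g₀ hg₀K
  have hg₀cl : g₀.base (closedPoint A₀ : PrimeSpectrum A₀) = f.base x' := by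
    rw [← hφξ', ← hcond, hqξ']
  have hR : ¬ IsField A₀ := by
    intro hF
    apply hne
    have h1 : IsLocalRing.maximalIdeal A₀ = ⊥ := IsLocalRing.isField_iff_maximalIdeal_eq.mp hF
    have h2 : (closedPoint A₀ : PrimeSpectrum A₀) = genericPoint (Spec (CommRingCat.of A₀)) := by
      rw [genericPoint_eq_bot_of_affine]
      apply PrimeSpectrum.ext
      exact h1
    rw [← hg₀gen, ← hg₀cl, h2]
  -- injectivity of `q` on the generic fibre
  set jK : Spec (CommRingCat.of (S.residueField (f.base x))) ⟶ Spec (CommRingCat.of A₀) :=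
    Spec.map (CommRingCat.ofHom (algebraMap A₀ (S.residueField (f.base x)))) with hjK
  haveI : IsPreimmersion jK := IsPreimmersion.of_isLocalization (nonZeroDivisors A₀)
  haveI : IsPreimmersion (jK ≫ g₀) := by rw [hjK, hg₀K]; infer_instance
  have hind := Groth.Agent.Lib.Helper6.ValImg.isInducing_restrict_of_isPreimmersion sq jK
  have hjKrange : Set.range jK.base = {genericPoint (Spec (CommRingCat.of A₀))} := by
    have hpt : ∀ z : Spec (CommRingCat.of (S.residueField (f.base x))),
        jK.base z = genericPoint (Spec (CommRingCat.of A₀)) := by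
      intro z
      rw [genericPoint_eq_bot_of_affine]
      apply PrimeSpectrum.ext
      show Ideal.comap (algebraMap A₀ (S.residueField (f.base x))) z.asIdeal = ⊥
      have : z.asIdeal = ⊥ := Ideal.eq_bot_of_prime _
      rw [this, ← RingHom.ker_eq_comap_bot]
      exact (RingHom.injective_iff_ker_eq_bot _).mp
        (IsFractionRing.injective A₀ (S.residueField (f.base x)))
    ext p
    simp only [Set.mem_range, Set.mem_singleton_iff]
    constructor
    · rintro ⟨z, rfl⟩; exact hpt z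
    · rintro rfl
      exact ⟨(closedPoint (S.residueField (f.base x)) :
        PrimeSpectrum (S.residueField (f.base x))), hpt _⟩
  have hinjgen : ∀ a b : ↥(pullback f g₀), φ.base a = genericPoint (Spec (CommRingCat.of A₀)) →
      φ.base b = genericPoint (Spec (CommRingCat.of A₀)) → q.base a = q.base b → a = b := by
    intro a b ha hb hab
    have ha' : a ∈ φ.base ⁻¹' Set.range jK.base := by rw [hjKrange]; exact ha
    have hb' : b ∈ φ.base ⁻¹' Set.range jK.base := by rw [hjKrange]; exact hb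
    have h1 : (⟨a, ha'⟩ : ↥(φ.base ⁻¹' Set.range jK.base)) ⤳ ⟨b, hb'⟩ := by
      rw [← hind.specializes_iff]
      show q.base a ⤳ q.base b
      rw [hab]
    have h2 : (⟨b, hb'⟩ : ↥(φ.base ⁻¹' Set.range jK.base)) ⤳ ⟨a, ha'⟩ := by
      rw [← hind.specializes_iff]
      show q.base b ⤳ q.base a
      rw [hab]
    exact congrArg Subtype.val (h1.antisymm h2).eq
  -- the transcendence degree of `ξ`
  obtain ⟨w, hwsp, hwφ, hwq, hwtr⟩ :=
    (Groth.Agent.R2.H19.TrdegBC.ptTrdeg_baseChange_over_point f g₀ q φ sq x).2 ξ hqξ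
  have hwξ : w = ξ := hinjgen w ξ (hwφ.trans hφξ) hφξ (hwq.trans hqξ.symm)
  have hξtr : ptTrdeg φ ξ = ptTrdeg f x := by rw [← hwξ]; exact hwtr
  -- closedness of `ξ'`
  have hξ'tr : ptTrdeg φ ξ' = 0 := by
    have := (Groth.Agent.R2.H19.TrdegBC.ptTrdeg_baseChange_over_point f g₀ q φ sq x').1 ξ' hqξ'
    omega
  have hclpt : IsClosed ({(closedPoint A₀ : PrimeSpectrum A₀)} : Set (PrimeSpectrum A₀)) :=
    (PrimeSpectrum.isClosed_singleton_iff_isMaximal _).mpr
      (inferInstanceAs (IsLocalRing.maximalIdeal A₀).IsMaximal)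
  have hξ'cl : IsClosed ({ξ'} : Set ↥(pullback f g₀)) := by
    apply isClosed_of_closure_subset
    intro y hy
    have hsy : ξ' ⤳ y := specializes_iff_mem_closure.mpr hy
    have h1 : φ.base ξ' ⤳ φ.base y := hsy.map φ.continuous
    have h2 : φ.base y = φ.base ξ' := by
      rw [hφξ'] at h1 ⊢
      have := h1.mem_closed hclpt (Set.mem_singleton _)
      exact this
    by_contra hne'
    have h3 := Groth.Agent.Lib.Helper6.EquiSub.ptTrdeg_lt_of_specializes φ ξ' y h2.symm hsy
      (fun h => hne' (by rw [Set.mem_singleton_iff]; exact h.symm))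
    omega
  -- apply Lemma V
  obtain ⟨ξ₂, hξ₂G, hξ₂φ, hξξ₂, hξ₂ξ', hξ₂ne⟩ := exists_intermediate_over_valuationRing A₀ hR φ ξ ξ'
    hξξ' hφξ hφξ' hξ'cl (by rw [hξtr]; exact hn) (q.base ⁻¹' G) (hGo.preimage q.continuous)
    (by show q.base ξ ∈ G; rw [hqξ]; exact hG)
  refine ⟨q.base ξ₂, hξ₂G, ?_, ?_, ?_, ?_⟩
  · rw [hcond, hξ₂φ, hg₀gen]
  · have := hξξ₂.map q.continuous
    rwa [hqξ] at this
  · have := hξ₂ξ'.map q.continuous
    rwa [hqξ'] at this
  · intro heq
    exact hξ₂ne (hinjgen ξ₂ ξ hξ₂φ hφξ (heq.trans hqξ.symm))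

end Groth.Agent.R2.H19.SpecDense
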