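import Mathlib

/-!
# H19TangentPoly: evaluation and differentials of products of linear forms (helper19)

`linP φ` is the polynomial of a linear functional `φ` on `Fin n → k`; `Dv v G` is the differential of the
polynomial `G` at the point `v`, as a linear functional `w ↦ ∑ i, w i * (∂_i G)(v)`.
`Dv_pow_mul` computes the differential of `linP φ ^ m * linP ψ`, `Dv_euler` is Euler's identity and
`Dv_symm_of_deg_two` the symmetry of the polar form of a quadratic form.
-/

set_option autoImplicit false

namespace Groth.Agent.R2.H19.Tangent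

open MvPolynomial

variable {k : Type*} [Field k] {n : ℕ}

/-- The polynomial of a linear functional. -/
noncomputable def linP (φ : Module.Dual k (Fin n → k)) : MvPolynomial (Fin n) k :=
  ∑ i, C (φ (Pi.single i 1)) * X i

theorem dual_apply_eq_sum (φ : Module.Dual k (Fin n → k)) (v : Fin n → k) :
    φ v = ∑ i, v i * φ (Pi.single i 1) := by
  have := LinearMap.pi_apply_eq_sum_univ φ v
  rw [this]
  refine Finset.sum_congr rfl fun i _ => ?_
  rw [smul_eq_mul]
  congr 2
  funext j
  simp [Pi.single_apply, eq_comm]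

theorem eval_linP (φ : Module.Dual k (Fin n → k)) (v : Fin n → k) : eval v (linP φ) = φ v := by
  rw [linP, map_sum, dual_apply_eq_sum φ v]
  refine Finset.sum_congr rfl fun i _ => ?_
  rw [map_mul, eval_C, eval_X, mul_comm]

theorem linP_isHomogeneous (φ : Module.Dual k (Fin n → k)) : (linP φ).IsHomogeneous 1 :=
  IsHomogeneous.sum _ _ _ fun i _ => isHomogeneous_C_mul_X _ i

theorem pderiv_linP (φ : Module.Dual k (Fin n → k)) (i : Fin n) :
    pderiv i (linP φ) = C (φ (Pi.single i 1)) := by
  classical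
  rw [linP, map_sum]
  have : ∀ j ∈ Finset.univ, pderiv i (C (φ (Pi.single j 1)) * X j) =
      if j = i then C (φ (Pi.single i 1)) else 0 := by
    intro j _
    rw [Derivation.leibniz, pderiv_C, pderiv_X]
    by_cases h : j = i
    · subst h; simp
    · simp [h]
  rw [Finset.sum_congr rfl this, Finset.sum_ite_eq' Finset.univ i]
  simp

/-- The differential of `G` at `v`, as a linear functional. -/
noncomputable def Dv (v : Fin n → k) : MvPolynomial (Fin n) k →ₗ[k] Module.Dual k (Fin n → k) :=
  ∑ i, (LinearMap.toSpanSingleton k (Module.Dual k (Fin n → k))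
      (LinearMap.proj i : (Fin n → k) →ₗ[k] k)) ∘ₗ
    (aeval v : MvPolynomial (Fin n) k →ₐ[k] k).toLinearMap ∘ₗ (pderiv i).toLinearMap

theorem Dv_apply (v : Fin n → k) (G : MvPolynomial (Fin n) k) (w : Fin n → k) :
    Dv v G w = ∑ i, w i * eval v (pderiv i G) := by
  simp only [Dv, LinearMap.sum_apply, LinearMap.comp_apply, LinearMap.toSpanSingleton_apply,
    LinearMap.smul_apply, LinearMap.proj_apply, AlgHom.toLinearMap_apply, Derivation.coeFn_coe,
    smul_eq_mul]
  refine Finset.sum_congr rfl fun i _ => ?_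
  rw [mul_comm]
  rfl

theorem Dv_pow_mul (v : Fin n → k) (φ ψ : Module.Dual k (Fin n → k)) (m : ℕ) :
    Dv v (linP φ ^ m * linP ψ) = ((m : k) * (φ v) ^ (m - 1) * ψ v) • φ + ((φ v) ^ m) • ψ := by
  apply LinearMap.ext
  intro w
  rw [Dv_apply, LinearMap.add_apply, LinearMap.smul_apply, LinearMap.smul_apply, smul_eq_mul,
    smul_eq_mul, dual_apply_eq_sum φ w, dual_apply_eq_sum ψ w, Finset.mul_sum, Finset.mul_sum,
    ← Finset.sum_add_distrib]
  refine Finset.sum_congr rfl fun i _ => ?_
  rw [Derivation.leibniz, Derivation.leibniz_pow, pderiv_linP, pderiv_linP]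
  simp only [smul_eq_mul, nsmul_eq_mul, map_add, map_mul, map_pow, eval_linP, eval_C, map_natCast]
  ring

theorem Dv_euler (v : Fin n → k) (G : MvPolynomial (Fin n) k) (d : ℕ) (hG : G.IsHomogeneous d) :
    Dv v G v = (d : k) * eval v G := by
  rw [Dv_apply]
  have := congrArg (eval v) hG.sum_X_mul_pderiv
  rw [map_sum, nsmul_eq_mul, map_mul, map_natCast] at this
  rw [← this]
  refine Finset.sum_congr rfl fun i _ => ?_
  rw [map_mul, eval_X]

theorem linP_proj (i : Fin n) : linP (LinearMap.proj i : (Fin n → k) →ₗ[k] k) = X i := by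
  classical
  rw [linP]
  have : ∀ l ∈ Finset.univ, C ((LinearMap.proj i : (Fin n → k) →ₗ[k] k) (Pi.single l 1)) * X l =
      if l = i then (X i : MvPolynomial (Fin n) k) else 0 := by
    intro l _
    by_cases h : l = i
    · subst h; simp
    · simp [h, Ne.symm h]
  rw [Finset.sum_congr rfl this, Finset.sum_ite_eq' Finset.univ i]
  simp

theorem Dv_mul_symm (φ ψ : Module.Dual k (Fin n → k)) (v w : Fin n → k) :
    Dv v (linP φ * linP ψ) w = Dv w (linP φ * linP ψ) v := by
  have h := Dv_pow_mul v φ ψ 1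
  have h' := Dv_pow_mul w φ ψ 1
  rw [pow_one] at h h'
  rw [h, h']
  simp only [LinearMap.add_apply, LinearMap.smul_apply, smul_eq_mul, pow_one, Nat.cast_one,
    Nat.sub_self, pow_zero]
  ring

theorem exists_single_add_single (e : Fin n →₀ ℕ) (he : e.degree = 2) :
    ∃ i j, e = Finsupp.single i 1 + Finsupp.single j 1 := by
  have hne : e ≠ 0 := by
    intro h; rw [h, map_zero] at he; omega
  obtain ⟨i, hi⟩ : ∃ i, e i ≠ 0 := by
    by_contra hcon
    push Not at hcon
    exact hne (Finsupp.ext hcon)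
  have h1 : e - Finsupp.single i 1 + Finsupp.single i 1 = e := Finsupp.sub_add_single_one_cancel hi
  set e' := e - Finsupp.single i 1 with he'
  have hd1 : e'.degree = 1 := by
    have := congrArg Finsupp.degree h1
    rw [map_add, Finsupp.degree_single, he] at this
    omega
  have hne' : e' ≠ 0 := by
    intro h; rw [h, map_zero] at hd1; omega
  obtain ⟨j, hj⟩ : ∃ j, e' j ≠ 0 := by
    by_contra hcon
    push Not at hcon
    exact hne' (Finsupp.ext hcon)
  have h2 : e' - Finsupp.single j 1 + Finsupp.single j 1 = e' := Finsupp.sub_add_single_one_cancel hj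
  have hd0 : (e' - Finsupp.single j 1).degree = 0 := by
    have := congrArg Finsupp.degree h2
    rw [map_add, Finsupp.degree_single, hd1] at this
    omega
  have h3 : e' - Finsupp.single j 1 = 0 := (Finsupp.degree_eq_zero_iff _).mp hd0
  rw [h3, zero_add] at h2
  exact ⟨j, i, by rw [← h1, ← h2]⟩

theorem Dv_symm_of_deg_two (G : MvPolynomial (Fin n) k) (hG : G.IsHomogeneous 2) (v w : Fin n → k) :
    Dv v G w = Dv w G v := by
  rw [G.as_sum, map_sum, map_sum, LinearMap.sum_apply, LinearMap.sum_apply]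
  refine Finset.sum_congr rfl fun e he => ?_
  have hdeg : e.degree = 2 := by
    by_contra h
    exact (mem_support_iff.mp he) (hG.coeff_eq_zero h)
  obtain ⟨i, j, rfl⟩ := exists_single_add_single e hdeg
  have : monomial (Finsupp.single i 1 + Finsupp.single j 1) (coeff (Finsupp.single i 1 + Finsupp.single j 1) G) =
      (coeff (Finsupp.single i 1 + Finsupp.single j 1) G) •
        (linP (LinearMap.proj i : (Fin n → k) →ₗ[k] k) * linP (LinearMap.proj j : (Fin n → k) →ₗ[k] k)) := by
    rw [linP_proj, linP_proj, X, X, monomial_mul, smul_monomial, one_mul, smul_eq_mul, mul_one]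
  rw [this, map_smul, map_smul, LinearMap.smul_apply, LinearMap.smul_apply, Dv_mul_symm]

/-- Extension of a functional from a subspace with a prescribed value at one more vector. -/
theorem exists_extend_with_value {V : Type*} [AddCommGroup V] [Module k V] (W : Submodule k V)
    (g : Module.Dual k W) (x : V) (s : k) (h : ∀ hx : x ∈ W, g ⟨x, hx⟩ = s) :
    ∃ m : Module.Dual k V, (∀ w : W, m w = g w) ∧ m x = s := by
  obtain ⟨m₀, hm₀⟩ := LinearMap.exists_extend g
  have hm₀' : ∀ w : W, m₀ w = g w := fun w => by rw [← hm₀]; rfl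
  by_cases hx : x ∈ W
  · exact ⟨m₀, hm₀', by rw [← h hx]; exact hm₀' ⟨x, hx⟩⟩
  · obtain ⟨lam, hlam, hW⟩ := Submodule.exists_dual_map_eq_bot_of_notMem hx inferInstance
    have hlamW : ∀ w : W, lam w = 0 := by
      intro w
      have : lam w ∈ Submodule.map lam W := Submodule.mem_map_of_mem w.2
      rw [hW] at this
      exact (Submodule.mem_bot k).mp this
    refine ⟨m₀ + ((s - m₀ x) / lam x) • lam, fun w => ?_, ?_⟩
    · rw [LinearMap.add_apply, LinearMap.smul_apply, hlamW w, smul_zero, add_zero, hm₀' w]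
    · rw [LinearMap.add_apply, LinearMap.smul_apply, smul_eq_mul, div_mul_cancel₀ _ hlam]
      ring

theorem exists_dual_pair {V : Type*} [AddCommGroup V] [Module k V] {v₁ v₂ : V}
    (hv : LinearIndependent k ![v₁, v₂]) :
    ∃ l₁ l₂ : Module.Dual k V, l₁ v₁ = 1 ∧ l₁ v₂ = 0 ∧ l₂ v₁ = 0 ∧ l₂ v₂ = 1 := by
  rw [LinearIndependent.pair_iff] at hv
  have hn1 : v₁ ∉ Submodule.span k {v₂} := by
    intro h
    obtain ⟨c, hc⟩ := Submodule.mem_span_singleton.mp h
    have := hv 1 (-c) (by rw [one_smul, neg_smul, hc, add_neg_cancel])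
    exact one_ne_zero this.1
  have hn2 : v₂ ∉ Submodule.span k {v₁} := by
    intro h
    obtain ⟨c, hc⟩ := Submodule.mem_span_singleton.mp h
    have := hv (-c) 1 (by rw [one_smul, neg_smul, hc, neg_add_cancel])
    exact one_ne_zero this.2
  obtain ⟨l₁, hl₁, hl₁'⟩ := exists_extend_with_value (Submodule.span k {v₂}) 0 v₁ 1
    (fun hx => absurd hx hn1)
  obtain ⟨l₂, hl₂, hl₂'⟩ := exists_extend_with_value (Submodule.span k {v₁}) 0 v₂ 1
    (fun hx => absurd hx hn2)
  refine ⟨l₁, l₂, hl₁', ?_, ?_, hl₂'⟩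
  · exact hl₁ ⟨v₂, Submodule.mem_span_singleton_self v₂⟩
  · exact hl₂ ⟨v₁, Submodule.mem_span_singleton_self v₁⟩

end Groth.Agent.R2.H19.Tangent
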