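import Groth.Statements.S4024
import Groth.Agent.R2.H19TangentPoly

/-!
# H19TangentMain: the space of forms tangent to two linear subspaces at two points (helper19)
-/

set_option autoImplicit false
open MvPolynomial
namespace Groth.Agent.R2.H19.Tangent
universe u
variable {k : Type u} [Field k] {r : ℕ}

/-- The 1-jet of a form at `v`, restricted to `W`. -/
noncomputable def jet (d : ℕ) (W : Submodule k (Fin (r + 1) → k)) (v : Fin (r + 1) → k) :
    LefPen.Form r k d →ₗ[k] k × Module.Dual k W :=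
  LinearMap.prod ((aeval v : MvPolynomial (Fin (r + 1)) k →ₐ[k] k).toLinearMap ∘ₗ
      (CohB1.polyGrading r k d).subtype)
    (W.subtype.dualMap ∘ₗ Dv v ∘ₗ (CohB1.polyGrading r k d).subtype)

theorem jet_apply (d : ℕ) (W : Submodule k (Fin (r + 1) → k)) (v : Fin (r + 1) → k)
    (G : LefPen.Form r k d) :
    jet d W v G = (eval v G.1, (Dv v G.1) ∘ₗ W.subtype) := rfl

theorem ker_jet (d : ℕ) (W : Submodule k (Fin (r + 1) → k)) (v : Fin (r + 1) → k) :
    LinearMap.ker (jet d W v) = LinearMap.ker (LefPen.tangLin k W v (d := d)) := by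
  unfold jet LefPen.tangLin
  rw [LinearMap.ker_prod, LinearMap.ker_prod]
  congr 1
  ext G
  rw [LinearMap.mem_ker, LinearMap.mem_ker]
  constructor
  · intro h
    funext w
    have := LinearMap.congr_fun h w
    simp only [LinearMap.comp_apply, Submodule.subtype_apply, LinearMap.zero_apply,
      LinearMap.dualMap_apply, Dv_apply] at this
    simp only [LinearMap.pi_apply, LinearMap.sum_apply, LinearMap.smul_apply, LinearMap.comp_apply,
      Submodule.subtype_apply, AlgHom.toLinearMap_apply, smul_eq_mul,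
      Pi.zero_apply]
    exact this
  · intro h
    apply LinearMap.ext
    intro w
    have := congrFun h w
    simp only [LinearMap.pi_apply, LinearMap.sum_apply, LinearMap.smul_apply, LinearMap.comp_apply,
      Submodule.subtype_apply, AlgHom.toLinearMap_apply, smul_eq_mul,
      Pi.zero_apply] at this
    simp only [LinearMap.comp_apply, Submodule.subtype_apply, LinearMap.zero_apply,
      LinearMap.dualMap_apply, Dv_apply]
    exact this

theorem ker_prod_jet (d : ℕ) (W₁ W₂ : Submodule k (Fin (r + 1) → k)) (v₁ v₂ : Fin (r + 1) → k) :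
    LinearMap.ker ((jet d W₁ v₁).prod (jet d W₂ v₂)) = LefPen.tangentForms k d W₁ v₁ W₂ v₂ := by
  rw [LinearMap.ker_prod, ker_jet, ker_jet]
  rfl

theorem exists_form (d : ℕ) (hd : 2 ≤ d) (W₁ W₂ : Submodule k (Fin (r + 1) → k))
    (v₁ v₂ : Fin (r + 1) → k) (h₁ : v₁ ∈ W₁) (h₂ : v₂ ∈ W₂) (hv : LinearIndependent k ![v₁, v₂])
    (a₁ a₂ : k) (f₁ : Module.Dual k W₁) (f₂ : Module.Dual k W₂)
    (e₁ : f₁ ⟨v₁, h₁⟩ = (d : k) * a₁) (e₂ : f₂ ⟨v₂, h₂⟩ = (d : k) * a₂)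
    (e₃ : d = 2 → ∀ (h21 : v₂ ∈ W₁) (h12 : v₁ ∈ W₂), f₁ ⟨v₂, h21⟩ = f₂ ⟨v₁, h12⟩) :
    ∃ G : LefPen.Form r k d, (jet d W₁ v₁).prod (jet d W₂ v₂) G = ((a₁, f₁), (a₂, f₂)) := by
  classical
  obtain ⟨l₁, l₂, h11, h12, h21, h22⟩ := exists_dual_pair hv
  set θ : k := ((d - 1 : ℕ) : k) * (0 : k) ^ (d - 2) with hθ
  set s : k := if h : v₂ ∈ W₁ then f₁ ⟨v₂, h⟩ else 0 with hs
  set t : k := if h : v₁ ∈ W₂ then f₂ ⟨v₁, h⟩ - θ * s else 0 with ht
  have hcast : (d : k) = ((d - 1 : ℕ) : k) + 1 := by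
    have : d = (d - 1) + 1 := by omega
    conv_lhs => rw [this]
    push_cast
    rfl
  -- key vanishing
  have hθt : v₂ ∈ W₁ → θ * t = 0 := by
    intro hmem
    rcases Nat.lt_or_ge 2 d with h3 | h3
    · have : (0 : k) ^ (d - 2) = 0 := zero_pow (by omega)
      rw [hθ, this, mul_zero, zero_mul]
    · have hd2 : d = 2 := by omega
      by_cases hmem' : v₁ ∈ W₂
      · have : t = 0 := by
          rw [ht, dif_pos hmem', hs, dif_pos hmem, e₃ hd2 hmem hmem', hθ, hd2]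
          simp
        rw [this, mul_zero]
      · rw [ht, dif_neg hmem', mul_zero]
  set g₁ : Module.Dual k W₁ := f₁ - (((d - 1 : ℕ) : k) * a₁) • (l₁ ∘ₗ W₁.subtype) -
    (θ * t) • (l₂ ∘ₗ W₁.subtype) with hg₁
  set g₂ : Module.Dual k W₂ := f₂ - (((d - 1 : ℕ) : k) * a₂) • (l₂ ∘ₗ W₂.subtype) -
    (θ * s) • (l₁ ∘ₗ W₂.subtype) with hg₂
  obtain ⟨m₁, hm₁, hm₁'⟩ := exists_extend_with_value W₁ g₁ v₂ s (by
    intro hx
    simp only [hg₁, LinearMap.sub_apply, LinearMap.smul_apply, LinearMap.comp_apply,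
      Submodule.subtype_apply, h12, h22, smul_eq_mul, mul_zero, mul_one, sub_zero]
    rw [hθt hx, sub_zero, hs, dif_pos hx])
  obtain ⟨m₂, hm₂, hm₂'⟩ := exists_extend_with_value W₂ g₂ v₁ t (by
    intro hx
    simp only [hg₂, LinearMap.sub_apply, LinearMap.smul_apply, LinearMap.comp_apply,
      Submodule.subtype_apply, h11, h21, smul_eq_mul, mul_zero, mul_one, sub_zero]
    rw [ht, dif_pos hx])
  have hm₁v₁ : m₁ v₁ = a₁ := by
    have := hm₁ ⟨v₁, h₁⟩
    simp only [hg₁, LinearMap.sub_apply, LinearMap.smul_apply, LinearMap.comp_apply,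
      Submodule.subtype_apply, h11, h21, smul_eq_mul, mul_zero, mul_one, sub_zero] at this
    rw [this, e₁, hcast]; ring
  have hm₂v₂ : m₂ v₂ = a₂ := by
    have := hm₂ ⟨v₂, h₂⟩
    simp only [hg₂, LinearMap.sub_apply, LinearMap.smul_apply, LinearMap.comp_apply,
      Submodule.subtype_apply, h12, h22, smul_eq_mul, mul_zero, mul_one, sub_zero] at this
    rw [this, e₂, hcast]; ring
  have hdeg : d - 1 + 1 = d := by omega
  have hG₁ : (linP l₁ ^ (d - 1) * linP m₁).IsHomogeneous d := by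
    have := ((linP_isHomogeneous l₁).pow (d - 1)).mul (linP_isHomogeneous m₁)
    rwa [one_mul, hdeg] at this
  have hG₂ : (linP l₂ ^ (d - 1) * linP m₂).IsHomogeneous d := by
    have := ((linP_isHomogeneous l₂).pow (d - 1)).mul (linP_isHomogeneous m₂)
    rwa [one_mul, hdeg] at this
  refine ⟨⟨linP l₁ ^ (d - 1) * linP m₁ + linP l₂ ^ (d - 1) * linP m₂,
    (mem_homogeneousSubmodule _ _).mpr (hG₁.add hG₂)⟩, ?_⟩
  have hz1 : (0 : k) ^ (d - 1) = 0 := zero_pow (by omega)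
  have hd2 : d - 1 - 1 = d - 2 := by omega
  change (jet d W₁ v₁ _, jet d W₂ v₂ _) = _
  rw [jet_apply, jet_apply]
  simp only [map_add, map_mul, map_pow, eval_linP, Dv_pow_mul, h11, h12, h21, h22, one_pow, hz1,
    zero_mul, add_zero, zero_add, one_mul, hm₁v₁, hm₂v₂, hm₁', hm₂', zero_smul, one_smul, hd2]
  refine Prod.ext (Prod.ext rfl ?_) (Prod.ext rfl ?_)
  · apply LinearMap.ext
    intro w
    have := hm₁ w
    simp only [hg₁, LinearMap.sub_apply, LinearMap.smul_apply, LinearMap.comp_apply,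
      Submodule.subtype_apply, smul_eq_mul] at this
    simp only [LinearMap.comp_apply, LinearMap.add_apply, LinearMap.smul_apply,
      Submodule.subtype_apply, smul_eq_mul, this, mul_one, hθ]
    ring
  · apply LinearMap.ext
    intro w
    have := hm₂ w
    simp only [hg₂, LinearMap.sub_apply, LinearMap.smul_apply, LinearMap.comp_apply,
      Submodule.subtype_apply, smul_eq_mul] at this
    simp only [LinearMap.comp_apply, LinearMap.add_apply, LinearMap.smul_apply,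
      Submodule.subtype_apply, smul_eq_mul, this, mul_one, hθ]
    ring

instance form_finite (d : ℕ) : Module.Finite k (LefPen.Form r k d) :=
  Module.Finite.iff_fg.mpr (homogeneousSubmodule_fg (σ := Fin (r + 1)) (R := k) d)

theorem jet_euler (d : ℕ) (W : Submodule k (Fin (r + 1) → k)) (v : Fin (r + 1) → k) (hv : v ∈ W)
    (G : LefPen.Form r k d) : (jet d W v G).2 ⟨v, hv⟩ = (d : k) * (jet d W v G).1 := by
  rw [jet_apply]
  exact Dv_euler v G.1 d ((mem_homogeneousSubmodule _ _).mp G.2)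

theorem jet_symm (W₁ W₂ : Submodule k (Fin (r + 1) → k)) (v₁ v₂ : Fin (r + 1) → k)
    (h21 : v₂ ∈ W₁) (h12 : v₁ ∈ W₂) (G : LefPen.Form r k 2) :
    (jet 2 W₁ v₁ G).2 ⟨v₂, h21⟩ = (jet 2 W₂ v₂ G).2 ⟨v₁, h12⟩ := by
  rw [jet_apply, jet_apply]
  exact Dv_symm_of_deg_two G.1 ((mem_homogeneousSubmodule _ _).mp G.2) v₁ v₂

/-- The Euler constraint on a jet. -/
noncomputable def cEuler (d : ℕ) (W : Submodule k (Fin (r + 1) → k)) (v : Fin (r + 1) → k) (hv : v ∈ W) :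
    k × Module.Dual k W →ₗ[k] k :=
  (Module.Dual.eval k W ⟨v, hv⟩) ∘ₗ LinearMap.snd k k (Module.Dual k W) -
    (d : k) • LinearMap.fst k k (Module.Dual k W)

theorem cEuler_apply (d : ℕ) (W : Submodule k (Fin (r + 1) → k)) (v : Fin (r + 1) → k) (hv : v ∈ W)
    (x : k × Module.Dual k W) : cEuler d W v hv x = x.2 ⟨v, hv⟩ - (d : k) * x.1 := rfl

theorem finrank_jetSpace (W₁ W₂ : Submodule k (Fin (r + 1) → k)) :
    Module.finrank k ((k × Module.Dual k W₁) × (k × Module.Dual k W₂)) =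
      (1 + Module.finrank k W₁) + (1 + Module.finrank k W₂) := by
  rw [Module.finrank_prod, Module.finrank_prod, Module.finrank_prod, Module.finrank_self,
    Subspace.dual_finrank_eq, Subspace.dual_finrank_eq]

/-- First case of the count. -/
theorem finrank_case1 (d : ℕ) (hd : 2 ≤ d) (W₁ W₂ : Submodule k (Fin (r + 1) → k))
    (v₁ v₂ : Fin (r + 1) → k) (h₁ : v₁ ∈ W₁) (h₂ : v₂ ∈ W₂) (hv : LinearIndependent k ![v₁, v₂])
    (hcase : 3 ≤ d ∨ ¬ (v₂ ∈ W₁ ∧ v₁ ∈ W₂)) :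
    Module.finrank k (LefPen.Form r k d) =
      Module.finrank k ↥(LefPen.tangentForms k d W₁ v₁ W₂ v₂) +
        (Module.finrank k ↥W₁ + Module.finrank k ↥W₂) := by
  set Ψ := (jet d W₁ v₁).prod (jet d W₂ v₂) with hΨ
  set C : (k × Module.Dual k W₁) × (k × Module.Dual k W₂) →ₗ[k] k × k :=
    LinearMap.prodMap (cEuler d W₁ v₁ h₁) (cEuler d W₂ v₂ h₂) with hC
  have hrange : LinearMap.range Ψ = LinearMap.ker C := by
    ext x
    rw [LinearMap.mem_range, LinearMap.mem_ker]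
    constructor
    · rintro ⟨G, rfl⟩
      change (cEuler d W₁ v₁ h₁ (jet d W₁ v₁ G), cEuler d W₂ v₂ h₂ (jet d W₂ v₂ G)) = 0
      rw [cEuler_apply, cEuler_apply, jet_euler, jet_euler, sub_self, sub_self]
      rfl
    · intro hx
      obtain ⟨⟨a₁, f₁⟩, ⟨a₂, f₂⟩⟩ := x
      have hx' : (cEuler d W₁ v₁ h₁ (a₁, f₁), cEuler d W₂ v₂ h₂ (a₂, f₂)) = 0 := hx
      rw [Prod.mk_eq_zero, cEuler_apply, cEuler_apply, sub_eq_zero, sub_eq_zero] at hx'
      exact exists_form d hd W₁ W₂ v₁ v₂ h₁ h₂ hv a₁ a₂ f₁ f₂ hx'.1 hx'.2 (by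
        intro hd2 h21 h12
        rcases hcase with h3 | hn
        · omega
        · exact absurd ⟨h21, h12⟩ hn)
  have hsurj : LinearMap.range C = ⊤ := by
    obtain ⟨l₁, l₂, h11, h12, h21, h22⟩ := exists_dual_pair hv
    rw [LinearMap.range_eq_top]
    rintro ⟨x, y⟩
    refine ⟨((0, x • (l₁ ∘ₗ W₁.subtype)), (0, y • (l₂ ∘ₗ W₂.subtype))), ?_⟩
    change (cEuler d W₁ v₁ h₁ _, cEuler d W₂ v₂ h₂ _) = _
    rw [cEuler_apply, cEuler_apply]
    simp [h11, h22]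
  have h1 := LinearMap.finrank_range_add_finrank_ker Ψ
  have h2 := LinearMap.finrank_range_add_finrank_ker C
  rw [hsurj, finrank_top, finrank_jetSpace, Module.finrank_prod, Module.finrank_self] at h2
  rw [hrange, hΨ, ker_prod_jet] at h1
  omega

/-- The symmetry constraint on a pair of jets (degree two). -/
noncomputable def cSymm (W₁ W₂ : Submodule k (Fin (r + 1) → k)) (v₁ v₂ : Fin (r + 1) → k)
    (h21 : v₂ ∈ W₁) (h12 : v₁ ∈ W₂) :
    (k × Module.Dual k W₁) × (k × Module.Dual k W₂) →ₗ[k] k :=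
  (Module.Dual.eval k W₁ ⟨v₂, h21⟩) ∘ₗ LinearMap.snd k k (Module.Dual k W₁) ∘ₗ
      LinearMap.fst k (k × Module.Dual k W₁) (k × Module.Dual k W₂) -
    (Module.Dual.eval k W₂ ⟨v₁, h12⟩) ∘ₗ LinearMap.snd k k (Module.Dual k W₂) ∘ₗ
      LinearMap.snd k (k × Module.Dual k W₁) (k × Module.Dual k W₂)

theorem cSymm_apply (W₁ W₂ : Submodule k (Fin (r + 1) → k)) (v₁ v₂ : Fin (r + 1) → k)
    (h21 : v₂ ∈ W₁) (h12 : v₁ ∈ W₂) (x : (k × Module.Dual k W₁) × (k × Module.Dual k W₂)) :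
    cSymm W₁ W₂ v₁ v₂ h21 h12 x = x.1.2 ⟨v₂, h21⟩ - x.2.2 ⟨v₁, h12⟩ := rfl

/-- Second case of the count. -/
theorem finrank_case2 (W₁ W₂ : Submodule k (Fin (r + 1) → k))
    (v₁ v₂ : Fin (r + 1) → k) (h₁ : v₁ ∈ W₁) (h₂ : v₂ ∈ W₂) (hv : LinearIndependent k ![v₁, v₂])
    (h21 : v₂ ∈ W₁) (h12 : v₁ ∈ W₂) :
    Module.finrank k (LefPen.Form r k 2) + 1 =
      Module.finrank k ↥(LefPen.tangentForms k 2 W₁ v₁ W₂ v₂) +
        (Module.finrank k ↥W₁ + Module.finrank k ↥W₂) := by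
  set Ψ := (jet 2 W₁ v₁).prod (jet 2 W₂ v₂) with hΨ
  set C : (k × Module.Dual k W₁) × (k × Module.Dual k W₂) →ₗ[k] (k × k) × k :=
    (LinearMap.prodMap (cEuler 2 W₁ v₁ h₁) (cEuler 2 W₂ v₂ h₂)).prod (cSymm W₁ W₂ v₁ v₂ h21 h12) with hC
  have hrange : LinearMap.range Ψ = LinearMap.ker C := by
    ext x
    rw [LinearMap.mem_range, LinearMap.mem_ker]
    constructor
    · rintro ⟨G, rfl⟩
      change ((cEuler 2 W₁ v₁ h₁ (jet 2 W₁ v₁ G), cEuler 2 W₂ v₂ h₂ (jet 2 W₂ v₂ G)),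
        cSymm W₁ W₂ v₁ v₂ h21 h12 (jet 2 W₁ v₁ G, jet 2 W₂ v₂ G)) = 0
      rw [cEuler_apply, cEuler_apply, jet_euler, jet_euler, sub_self, sub_self, cSymm_apply,
        jet_symm W₁ W₂ v₁ v₂ h21 h12 G, sub_self]
      rfl
    · intro hx
      obtain ⟨⟨a₁, f₁⟩, ⟨a₂, f₂⟩⟩ := x
      have hx' : ((cEuler 2 W₁ v₁ h₁ (a₁, f₁), cEuler 2 W₂ v₂ h₂ (a₂, f₂)),
          cSymm W₁ W₂ v₁ v₂ h21 h12 ((a₁, f₁), (a₂, f₂))) = 0 := hx
      rw [Prod.mk_eq_zero, Prod.mk_eq_zero, cEuler_apply, cEuler_apply, cSymm_apply, sub_eq_zero,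
        sub_eq_zero, sub_eq_zero] at hx'
      exact exists_form 2 le_rfl W₁ W₂ v₁ v₂ h₁ h₂ hv a₁ a₂ f₁ f₂ hx'.1.1 hx'.1.2
        (fun _ _ _ => hx'.2)
  have hsurj : LinearMap.range C = ⊤ := by
    obtain ⟨l₁, l₂, h11, h12', h21', h22⟩ := exists_dual_pair hv
    rw [LinearMap.range_eq_top]
    rintro ⟨⟨x, y⟩, z⟩
    refine ⟨((0, x • (l₁ ∘ₗ W₁.subtype) + z • (l₂ ∘ₗ W₁.subtype)), (0, y • (l₂ ∘ₗ W₂.subtype))), ?_⟩
    change ((cEuler 2 W₁ v₁ h₁ _, cEuler 2 W₂ v₂ h₂ _), cSymm W₁ W₂ v₁ v₂ h21 h12 _) = _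
    rw [cEuler_apply, cEuler_apply, cSymm_apply]
    simp [h11, h22, h12', h21']
  have h1 := LinearMap.finrank_range_add_finrank_ker Ψ
  have h2 := LinearMap.finrank_range_add_finrank_ker C
  rw [hsurj, finrank_top, finrank_jetSpace, Module.finrank_prod, Module.finrank_prod,
    Module.finrank_self] at h2
  rw [hrange, hΨ, ker_prod_jet] at h1
  omega

end Groth.Agent.R2.H19.Tangent
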