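import Mathlib
import Groth.Prelude.Def_EGA43
import Groth.Prelude.Def_CAlg2
import Groth.Agent.Lib.Helper4Unibranch
import Groth.Agent.Lib.Helper6UniA
import Groth.Agent.Lib.Helper26UnivOpenAt

/-!
# Openness at unibranch points (SGA3 VI_B / EGA IV 14.4)

Non-Noetherian openness criteria at unibranch points: an integral injective map of domains is open
at primes over unibranch points; quasi-finite dominant maps of irreducible schemes are open at
points over unibranch points.
-/

set_option autoImplicit false
set_option linter.style.haveILetI false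
universe u

namespace Groth.Agent.R2.H19.UnibranchOpen

open PrimeSpectrum Groth.Agent.Lib.Helper4.Unibranch Groth.Agent.Lib.Helper26.UnivOpenAt

/-- **Lemma N**: an integral torsion-free extension of domains over an integrally closed domain
induces an open map on spectra. -/
theorem isOpenMap_comap_of_isIntegrallyClosed {R D : Type*} [CommRing R] [IsDomain R]
    [IsIntegrallyClosed R] [CommRing D] [IsDomain D] [Algebra R D] [Algebra.IsIntegral R D]
    (hinj : Function.Injective (algebraMap R D)) :
    IsOpenMap (PrimeSpectrum.comap (algebraMap R D)) := by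
  haveI : FaithfulSMul R D := (faithfulSMul_iff_algebraMap_injective R D).mpr hinj
  rw [PrimeSpectrum.isBasis_basic_opens.isOpenMap_iff]
  rintro _ ⟨_, ⟨g, rfl⟩, rfl⟩
  have hg : IsIntegral R g := Algebra.IsIntegral.isIntegral g
  set S₁ := AdjoinRoot (minpoly R g) with hS₁
  haveI : Module.Free R S₁ :=
    Module.Free.of_basis (AdjoinRoot.powerBasis' (minpoly.monic hg)).basis
  have hopen : IsOpenMap (PrimeSpectrum.comap (algebraMap R S₁)) :=
    PrimeSpectrum.isOpenMap_comap_of_hasGoingDown_of_finitePresentation
  set φ : S₁ →ₐ[R] D := (Algebra.adjoin R ({g} : Set D)).val.comp (AdjoinRoot.Minpoly.toAdjoin R g)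
    with hφ
  have hφinj : Function.Injective φ :=
    Subtype.val_injective.comp (minpoly.ToAdjoin.injective hg)
  have hφroot : φ (AdjoinRoot.root (minpoly R g)) = g := by
    rw [hφ, AlgHom.comp_apply, ← AdjoinRoot.mk_X]
    exact AdjoinRoot.Minpoly.coe_toAdjoin_mk_X
  have himg : PrimeSpectrum.comap (algebraMap R D) '' (basicOpen g : Set (PrimeSpectrum D)) =
      PrimeSpectrum.comap (algebraMap R S₁) ''
        (basicOpen (AdjoinRoot.root (minpoly R g)) : Set (PrimeSpectrum S₁)) := by
    letI : Algebra S₁ D := φ.toRingHom.toAlgebra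
    haveI : IsScalarTower R S₁ D := IsScalarTower.of_algebraMap_eq (fun r => (φ.commutes r).symm)
    haveI : Algebra.IsIntegral S₁ D := Algebra.IsIntegral.tower_top (R := R)
    have hcomp : ∀ Q : PrimeSpectrum D, PrimeSpectrum.comap (algebraMap R D) Q =
        PrimeSpectrum.comap (algebraMap R S₁) (PrimeSpectrum.comap (algebraMap S₁ D) Q) := by
      intro Q
      apply PrimeSpectrum.ext
      show Ideal.comap (algebraMap R D) Q.asIdeal =
        Ideal.comap (algebraMap R S₁) (Ideal.comap (algebraMap S₁ D) Q.asIdeal)
      rw [Ideal.comap_comap, ← IsScalarTower.algebraMap_eq]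
    ext P
    constructor
    · rintro ⟨Q, hQ, rfl⟩
      refine ⟨PrimeSpectrum.comap (algebraMap S₁ D) Q, ?_, (hcomp Q).symm⟩
      show AdjoinRoot.root (minpoly R g) ∉ Ideal.comap (algebraMap S₁ D) Q.asIdeal
      rw [Ideal.mem_comap]
      show φ (AdjoinRoot.root (minpoly R g)) ∉ Q.asIdeal
      rw [hφroot]
      exact hQ
    · rintro ⟨Q', hQ', rfl⟩
      obtain ⟨Q, -, hQp, hQc⟩ := Ideal.exists_ideal_over_prime_of_isIntegral (S := D) Q'.asIdeal ⊥ (by
        rw [Ideal.comap_bot_of_injective _ (show Function.Injective (algebraMap S₁ D) from hφinj)]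
        exact bot_le)
      refine ⟨⟨Q, hQp⟩, ?_, ?_⟩
      · show g ∉ Q
        intro hgQ
        apply hQ'
        show AdjoinRoot.root (minpoly R g) ∈ Q'.asIdeal
        rw [← hQc, Ideal.mem_comap]
        show φ (AdjoinRoot.root (minpoly R g)) ∈ Q
        rw [hφroot]
        exact hgQ
      · rw [hcomp]
        congr 1
        exact PrimeSpectrum.ext hQc
  rw [himg]
  exact hopen _ (basicOpen _).isOpen

/-- abstract form of openness at a unibranch point. -/
theorem isOpenAt_comap_of_unique_prime {A B C D : Type*} [CommRing A] [CommRing B] [CommRing C]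
    [CommRing D] [IsDomain C] [IsIntegrallyClosed C] [IsDomain D]
    [Algebra A B] [Algebra A C] [Algebra A D] [Algebra B D] [Algebra C D]
    [IsScalarTower A B D] [IsScalarTower A C D]
    [Algebra.IsIntegral A D] [Algebra.IsIntegral A C]
    (hCD : Function.Injective (algebraMap C D))
    (hBD : Function.Surjective (PrimeSpectrum.comap (algebraMap B D)))
    (hAC : Function.Surjective (PrimeSpectrum.comap (algebraMap A C)))
    (q : PrimeSpectrum B)
    (huniq : ∀ P₁ P₂ : PrimeSpectrum C,
      PrimeSpectrum.comap (algebraMap A C) P₁ = PrimeSpectrum.comap (algebraMap A B) q →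
      PrimeSpectrum.comap (algebraMap A C) P₂ = PrimeSpectrum.comap (algebraMap A B) q → P₁ = P₂) :
    EGA43.IsOpenAt (PrimeSpectrum.comap (algebraMap A B)) q := by
  haveI : Algebra.IsIntegral C D := Algebra.IsIntegral.tower_top (R := A)
  have hopenCD := isOpenMap_comap_of_isIntegrallyClosed (R := C) (D := D) hCD
  have hclosed : IsClosedMap (PrimeSpectrum.comap (algebraMap A C)) :=
    PrimeSpectrum.isClosedMap_comap_of_isIntegral _ (algebraMap_isIntegral_iff.mpr inferInstance)
  have hcompB : ∀ Q : PrimeSpectrum D, PrimeSpectrum.comap (algebraMap A B)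
      (PrimeSpectrum.comap (algebraMap B D) Q) = PrimeSpectrum.comap (algebraMap A D) Q := by
    intro Q
    apply PrimeSpectrum.ext
    show Ideal.comap (algebraMap A B) (Ideal.comap (algebraMap B D) Q.asIdeal) = _
    rw [Ideal.comap_comap, ← IsScalarTower.algebraMap_eq]
    rfl
  have hcompC : ∀ Q : PrimeSpectrum D, PrimeSpectrum.comap (algebraMap A C)
      (PrimeSpectrum.comap (algebraMap C D) Q) = PrimeSpectrum.comap (algebraMap A D) Q := by
    intro Q
    apply PrimeSpectrum.ext
    show Ideal.comap (algebraMap A C) (Ideal.comap (algebraMap C D) Q.asIdeal) = _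
    rw [Ideal.comap_comap, ← IsScalarTower.algebraMap_eq]
    rfl
  intro N hN
  obtain ⟨U, hUN, hUo, hqU⟩ := mem_nhds_iff.mp hN
  set U' : Set (PrimeSpectrum D) := PrimeSpectrum.comap (algebraMap B D) ⁻¹' U with hU'
  have hU'o : IsOpen U' := hUo.preimage (PrimeSpectrum.continuous_comap (algebraMap B D))
  set V' : Set (PrimeSpectrum C) := PrimeSpectrum.comap (algebraMap C D) '' U' with hV'
  have hV'o : IsOpen V' := hopenCD U' hU'o
  set W : Set (PrimeSpectrum A) := (PrimeSpectrum.comap (algebraMap A C) '' V'ᶜ)ᶜ with hW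
  have hWo : IsOpen W := (hclosed _ hV'o.isClosed_compl).isOpen_compl
  refine mem_nhds_iff.mpr ⟨W, ?_, hWo, ?_⟩
  · intro a ha
    obtain ⟨P, rfl⟩ := hAC a
    have hPV : P ∈ V' := by
      by_contra hP
      exact ha ⟨P, hP, rfl⟩
    obtain ⟨Q, hQU, rfl⟩ := hPV
    refine ⟨PrimeSpectrum.comap (algebraMap B D) Q, hUN hQU, ?_⟩
    rw [hcompB, hcompC]
  · rintro ⟨P, hP, hPp⟩
    obtain ⟨Q, hQ⟩ := hBD q
    have hQU : Q ∈ U' := by
      show PrimeSpectrum.comap (algebraMap B D) Q ∈ U
      rw [hQ]; exact hqU
    have h1 : PrimeSpectrum.comap (algebraMap A C) (PrimeSpectrum.comap (algebraMap C D) Q) =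
        PrimeSpectrum.comap (algebraMap A B) q := by
      rw [hcompC, ← hcompB, hQ]
    have := huniq P _ hPp h1
    apply hP
    rw [this]
    exact ⟨Q, hQU, rfl⟩

section UQ

attribute [local instance] Groth.Agent.Lib.Helper4.Unibranch.inclAlgebra

/-- over a unibranch point of a domain there is exactly one prime of the normalization. -/
theorem unique_prime_over_of_isUnibranch {A : Type u} [CommRing A] [IsDomain A] (p : Ideal A)
    [p.IsPrime] (hU : CAlg2.IsUnibranch (Localization.AtPrime p))
    (P₁ P₂ : Ideal (integralClosure A (FractionRing A))) [P₁.IsPrime] [P₂.IsPrime]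
    (h₁ : P₁.comap (algebraMap A (integralClosure A (FractionRing A))) = p)
    (h₂ : P₂.comap (algebraMap A (integralClosure A (FractionRing A))) = p) : P₁ = P₂ := by
  haveI hloc : IsLocalRing (integralClosure (Localization.AtPrime p) (FractionRing A)) :=
    (isUnibranch_iff_of_isDomain (Localization.AtPrime p) (FractionRing A)).mp hU
  set M : Submonoid (integralClosure A (FractionRing A)) := Algebra.algebraMapSubmonoid (integralClosure A (FractionRing A)) p.primeCompl with hM
  haveI hL : IsLocalization M (integralClosure (Localization.AtPrime p) (FractionRing A)) := isLocalization_incl A p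
  -- the prime below the maximal ideal
  set Mc : Ideal (integralClosure A (FractionRing A)) := (IsLocalRing.maximalIdeal (integralClosure (Localization.AtPrime p) (FractionRing A))).comap (algebraMap (integralClosure A (FractionRing A)) (integralClosure (Localization.AtPrime p) (FractionRing A))) with hMc
  haveI : Mc.IsPrime := Ideal.comap_isPrime _ _
  have hMcdisj : ∀ s : A, s ∉ p → algebraMap A (integralClosure A (FractionRing A)) s ∉ Mc := by
    intro s hs hmem
    have hu : IsUnit (algebraMap (integralClosure A (FractionRing A)) (integralClosure (Localization.AtPrime p) (FractionRing A)) (algebraMap A (integralClosure A (FractionRing A)) s)) :=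
      IsLocalization.map_units (integralClosure (Localization.AtPrime p) (FractionRing A)) (⟨algebraMap A (integralClosure A (FractionRing A)) s, s, hs, rfl⟩ : M)
    exact (IsLocalRing.mem_maximalIdeal _).mp hmem hu
  have key : ∀ (P : Ideal (integralClosure A (FractionRing A))) [P.IsPrime], P.comap (algebraMap A (integralClosure A (FractionRing A))) = p → P = Mc := by
    intro P hP hPp
    have hdisj : Disjoint (M : Set (integralClosure A (FractionRing A))) (P : Set (integralClosure A (FractionRing A))) := by
      rw [Set.disjoint_left]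
      rintro _ ⟨s, hs, rfl⟩ hmem
      have : s ∈ P.comap (algebraMap A (integralClosure A (FractionRing A))) := hmem
      rw [hPp] at this
      exact hs this
    have hP'p : (P.map (algebraMap (integralClosure A (FractionRing A)) (integralClosure (Localization.AtPrime p) (FractionRing A)))).IsPrime :=
      IsLocalization.isPrime_of_isPrime_disjoint M (integralClosure (Localization.AtPrime p) (FractionRing A)) P hP hdisj
    have hP'c : (P.map (algebraMap (integralClosure A (FractionRing A)) (integralClosure (Localization.AtPrime p) (FractionRing A)))).comap (algebraMap (integralClosure A (FractionRing A)) (integralClosure (Localization.AtPrime p) (FractionRing A))) = P :=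
      IsLocalization.under_map_of_isPrime_disjoint M (integralClosure (Localization.AtPrime p) (FractionRing A)) hP hdisj
    have hle : P ≤ Mc := by
      rw [← hP'c]
      exact Ideal.comap_mono (IsLocalRing.le_maximalIdeal hP'p.ne_top)
    by_contra hne
    have hlt : P < Mc := lt_of_le_of_ne hle hne
    obtain ⟨x, hxM, hxP⟩ := SetLike.exists_of_lt hlt
    have hint : IsIntegral A x := Algebra.IsIntegral.isIntegral x
    have h3 := Ideal.comap_lt_comap_of_integral_mem_sdiff hle ⟨hxM, hxP⟩ hint
    rw [hPp] at h3
    obtain ⟨s, hsM, hsp⟩ := SetLike.exists_of_lt h3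
    exact hMcdisj s hsp hsM
  rw [key P₁ h₁, key P₂ h₂]

end UQ

/-- spectra surject along integral maps with nilpotent kernel. -/
theorem comap_surjective_of_isIntegral {R S : Type*} [CommRing R] [CommRing S] [Algebra R S]
    [Algebra.IsIntegral R S] (hker : ∀ a : R, algebraMap R S a = 0 → IsNilpotent a) :
    Function.Surjective (PrimeSpectrum.comap (algebraMap R S)) := by
  intro P
  obtain ⟨Q, -, hQp, hQc⟩ := Ideal.exists_ideal_over_prime_of_isIntegral (S := S) P.asIdeal ⊥ (by
    intro a ha
    rw [Ideal.mem_comap, Ideal.mem_bot] at ha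
    obtain ⟨k, hk⟩ := hker a ha
    exact P.isPrime.mem_of_pow_mem k (hk ▸ P.asIdeal.zero_mem))
  exact ⟨⟨Q, hQp⟩, PrimeSpectrum.ext hQc⟩

set_option maxHeartbeats 1600000 in
/-- **SGA3 VI_B, (i)**: openness of an integral extension of domains at a unibranch point. -/
theorem isOpenAt_comap_of_isUnibranch (A B : Type u) [CommRing A] [IsDomain A] [CommRing B]
    [IsDomain B] [Algebra A B] (hinj : Function.Injective (algebraMap A B))
    [Algebra.IsIntegral A B] (q : PrimeSpectrum B)
    (hU : CAlg2.IsUnibranch (Localization.AtPrime (q.asIdeal.comap (algebraMap A B)))) :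
    EGA43.IsOpenAt (PrimeSpectrum.comap (algebraMap A B)) q := by
  have hAL : Function.Injective (algebraMap A (FractionRing B)) := by
    rw [IsScalarTower.algebraMap_eq A B (FractionRing B)]
    exact (IsFractionRing.injective B (FractionRing B)).comp hinj
  let f1 : FractionRing A →+* FractionRing B := IsFractionRing.lift hAL
  have hf1 : Function.Injective f1 := f1.injective
  haveI : IsIntegrallyClosed (integralClosure A (FractionRing A)) :=
    integralClosure.isIntegrallyClosedOfFiniteExtension (FractionRing A)
  letI algCL : Algebra (integralClosure A (FractionRing A)) (FractionRing B) :=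
    (f1.comp (algebraMap (integralClosure A (FractionRing A)) (FractionRing A))).toAlgebra
  have hCL : Function.Injective (algebraMap (integralClosure A (FractionRing A)) (FractionRing B)) :=
    hf1.comp Subtype.val_injective
  haveI : IsScalarTower A (integralClosure A (FractionRing A)) (FractionRing B) := by
    refine IsScalarTower.of_algebraMap_eq (fun a => ?_)
    change _ = f1 (algebraMap (integralClosure A (FractionRing A)) (FractionRing A)
      (algebraMap A (integralClosure A (FractionRing A)) a))
    rw [← IsScalarTower.algebraMap_apply A (integralClosure A (FractionRing A)) (FractionRing A)]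
    simp [f1]
  have hAC : Function.Injective (algebraMap A (integralClosure A (FractionRing A))) := by
    have h1 : Function.Injective (algebraMap A (FractionRing B)) := hAL
    rw [IsScalarTower.algebraMap_eq A (integralClosure A (FractionRing A)) (FractionRing B),
      RingHom.coe_comp] at h1
    exact Function.Injective.of_comp h1
  let D := integralClosure A (FractionRing B)
  letI algBD : Algebra B D := (IsIntegralClosure.lift A D (FractionRing B) : B →ₐ[A] D).toAlgebra
  letI algCD : Algebra (integralClosure A (FractionRing A)) D :=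
    (IsIntegralClosure.lift A D (FractionRing B) :
      integralClosure A (FractionRing A) →ₐ[A] D).toAlgebra
  haveI : IsScalarTower A B D := IsScalarTower.of_algebraMap_eq (fun a =>
    ((IsIntegralClosure.lift A D (FractionRing B) : B →ₐ[A] D).commutes a).symm)
  haveI : IsScalarTower A (integralClosure A (FractionRing A)) D :=
    IsScalarTower.of_algebraMap_eq (fun a =>
      ((IsIntegralClosure.lift A D (FractionRing B) :
        integralClosure A (FractionRing A) →ₐ[A] D).commutes a).symm)
  have hBD : Function.Injective (algebraMap B D) := by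
    intro x y hxy
    have := congrArg (algebraMap D (FractionRing B)) hxy
    change algebraMap D (FractionRing B) (IsIntegralClosure.lift A D (FractionRing B) x) =
      algebraMap D (FractionRing B) (IsIntegralClosure.lift A D (FractionRing B) y) at this
    rw [IsIntegralClosure.algebraMap_lift, IsIntegralClosure.algebraMap_lift] at this
    exact IsFractionRing.injective B (FractionRing B) this
  have hCD : Function.Injective (algebraMap (integralClosure A (FractionRing A)) D) := by
    intro x y hxy
    have := congrArg (algebraMap D (FractionRing B)) hxy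
    change algebraMap D (FractionRing B) (IsIntegralClosure.lift A D (FractionRing B) x) =
      algebraMap D (FractionRing B) (IsIntegralClosure.lift A D (FractionRing B) y) at this
    rw [IsIntegralClosure.algebraMap_lift, IsIntegralClosure.algebraMap_lift] at this
    exact hCL this
  haveI : Algebra.IsIntegral B D := Algebra.IsIntegral.tower_top (R := A)
  refine isOpenAt_comap_of_unique_prime (C := integralClosure A (FractionRing A)) (D := D) hCD
    (comap_surjective_of_isIntegral (fun a ha => by
      rw [hBD (ha.trans (map_zero _).symm)]; exact IsNilpotent.zero))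
    (comap_surjective_of_isIntegral (fun a ha => by
      rw [hAC (ha.trans (map_zero _).symm)]; exact IsNilpotent.zero)) q ?_
  intro P₁ P₂ h₁ h₂
  haveI := P₁.isPrime
  haveI := P₂.isPrime
  apply PrimeSpectrum.ext
  exact unique_prime_over_of_isUnibranch (q.asIdeal.comap (algebraMap A B)) hU P₁.asIdeal
    P₂.asIdeal (congrArg PrimeSpectrum.asIdeal h₁) (congrArg PrimeSpectrum.asIdeal h₂)

/-- unibranchness of a localization passes to the localization of the reduction. -/
theorem isUnibranch_localization_red {A : Type u} [CommRing A] (p : Ideal A) [p.IsPrime]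
    (hA : (nilradical A).IsPrime) (hU : CAlg2.IsUnibranch (Localization.AtPrime p))
    (pb : Ideal (CAlg2.red A)) [pb.IsPrime]
    (hpb : pb.comap (Ideal.Quotient.mk (nilradical A)) = p) :
    CAlg2.IsUnibranch (Localization.AtPrime pb) := by
  haveI : IsDomain (CAlg2.red A) := (Ideal.Quotient.isDomain_iff_prime _).mpr hA
  set ψ : Localization.AtPrime p →+* Localization.AtPrime pb :=
    Localization.localRingHom p pb (Ideal.Quotient.mk (nilradical A)) hpb.symm with hψ
  have hψmk : ∀ (a : A) (s : p.primeCompl),
      ψ (IsLocalization.mk' (Localization.AtPrime p) a s) =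
        IsLocalization.mk' (Localization.AtPrime pb) (Ideal.Quotient.mk (nilradical A) a)
          (⟨Ideal.Quotient.mk (nilradical A) s, by
            intro h
            have : (s : A) ∈ pb.comap (Ideal.Quotient.mk (nilradical A)) := h
            rw [hpb] at this
            exact s.2 this⟩ : pb.primeCompl) := by
    intro a s
    rw [hψ, Localization.localRingHom_mk']
  have hsurj : Function.Surjective ψ := by
    intro y
    obtain ⟨ab, sb, rfl⟩ := IsLocalization.exists_mk'_eq pb.primeCompl y
    obtain ⟨a, rfl⟩ := Ideal.Quotient.mk_surjective ab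
    obtain ⟨s, hs⟩ := Ideal.Quotient.mk_surjective (sb : CAlg2.red A)
    have hsp : s ∉ p := by
      intro h
      rw [← hpb, Ideal.mem_comap, hs] at h
      exact sb.2 h
    refine ⟨IsLocalization.mk' (Localization.AtPrime p) a (⟨s, hsp⟩ : p.primeCompl), ?_⟩
    rw [hψmk]
    congr 1
    exact Subtype.ext hs
  have hker : RingHom.ker ψ = nilradical (Localization.AtPrime p) := by
    ext x
    rw [RingHom.mem_ker, mem_nilradical]
    constructor
    · intro hx
      obtain ⟨a, s, rfl⟩ := IsLocalization.exists_mk'_eq p.primeCompl x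
      rw [hψmk, IsLocalization.mk'_eq_zero_iff] at hx
      obtain ⟨tb, htb⟩ := hx
      obtain ⟨t, ht⟩ := Ideal.Quotient.mk_surjective (tb : CAlg2.red A)
      have htp : t ∉ p := by
        intro h
        rw [← hpb, Ideal.mem_comap, ht] at h
        exact tb.2 h
      rw [← ht, ← map_mul, Ideal.Quotient.eq_zero_iff_mem, mem_nilradical] at htb
      obtain ⟨k, hk⟩ := htb
      refine ⟨k, ?_⟩
      rw [← IsLocalization.mk'_pow, IsLocalization.mk'_eq_zero_iff]
      refine ⟨⟨t ^ k, p.primeCompl.pow_mem htp k⟩, ?_⟩
      show t ^ k * a ^ k = 0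
      rw [← mul_pow]
      exact hk
    · intro hx
      exact (hx.map ψ).eq_zero
  let e : CAlg2.red (Localization.AtPrime p) ≃+* Localization.AtPrime pb :=
    (Ideal.quotEquivOfEq hker.symm).trans (RingHom.quotientKerEquivOfSurjective hsurj)
  exact Groth.Agent.Lib.Helper6.Uni.isUnibranch_of_ringEquiv e
    (Groth.Agent.Lib.Helper6.Uni.isUnibranch_red _ hU)

theorem isUnibranch_of_ideal_eq {A : Type u} [CommRing A] (I J : Ideal A) [I.IsPrime] [J.IsPrime]
    (h : I = J) (hU : CAlg2.IsUnibranch (Localization.AtPrime I)) :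
    CAlg2.IsUnibranch (Localization.AtPrime J) := by
  subst h
  exact hU

theorem isHomeomorph_comap_mk_nilradical (A : Type*) [CommRing A] :
    IsHomeomorph (PrimeSpectrum.comap (Ideal.Quotient.mk (nilradical A))) := by
  refine PrimeSpectrum.isHomeomorph_comap _ (fun x => ⟨1, one_pos, ?_⟩) (by rw [Ideal.mk_ker])
  obtain ⟨a, rfl⟩ := Ideal.Quotient.mk_surjective x
  exact ⟨a, (pow_one _).symm⟩

set_option maxHeartbeats 1600000 in
/-- openness of an integral map with irreducible source and nilpotent kernel at a unibranch point. -/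
theorem isOpenAt_comap_of_isUnibranch' {A S : Type u} [CommRing A] [CommRing S] [Algebra A S]
    [Algebra.IsIntegral A S]
    (hS : (nilradical S).IsPrime) (hker : ∀ a : A, IsNilpotent (algebraMap A S a) → IsNilpotent a)
    (q : PrimeSpectrum S)
    (hU : CAlg2.IsUnibranch (Localization.AtPrime (q.asIdeal.comap (algebraMap A S)))) :
    EGA43.IsOpenAt (PrimeSpectrum.comap (algebraMap A S)) q := by
  have hnil : nilradical A = (nilradical S).comap (algebraMap A S) := by
    ext a
    rw [Ideal.mem_comap, mem_nilradical, mem_nilradical]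
    exact ⟨fun h => h.map _, hker a⟩
  have hA : (nilradical A).IsPrime := by
    rw [hnil]; haveI := hS; exact Ideal.comap_isPrime _ _
  haveI : IsDomain (CAlg2.red A) := (Ideal.Quotient.isDomain_iff_prime _).mpr hA
  haveI : IsDomain (CAlg2.red S) := (Ideal.Quotient.isDomain_iff_prime _).mpr hS
  let g : CAlg2.red A →+* CAlg2.red S :=
    Ideal.quotientMap (nilradical S) (algebraMap A S) hnil.le
  letI : Algebra (CAlg2.red A) (CAlg2.red S) := g.toAlgebra
  have hginj : Function.Injective g := Ideal.quotientMap_injective' hnil.ge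
  have hsq : g.comp (Ideal.Quotient.mk (nilradical A)) =
      (Ideal.Quotient.mk (nilradical S)).comp (algebraMap A S) := by
    ext a; rfl
  haveI : Algebra.IsIntegral (CAlg2.red A) (CAlg2.red S) := ⟨by
    intro x
    obtain ⟨s, rfl⟩ := Ideal.Quotient.mk_surjective x
    obtain ⟨p, hp, hps⟩ := Algebra.IsIntegral.isIntegral (R := A) s
    refine ⟨p.map (Ideal.Quotient.mk _), hp.map _, ?_⟩
    rw [Polynomial.eval₂_map]
    change Polynomial.eval₂ (g.comp _) _ p = 0
    rw [hsq, ← Polynomial.hom_eval₂, hps, map_zero]⟩
  obtain ⟨qb, rfl⟩ := (isHomeomorph_comap_mk_nilradical S).surjective q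
  refine isOpenAt_of_square (PrimeSpectrum.comap (Ideal.Quotient.mk (nilradical S)))
    (PrimeSpectrum.comap (Ideal.Quotient.mk (nilradical A))) (PrimeSpectrum.comap (algebraMap A S))
    (PrimeSpectrum.comap (algebraMap (CAlg2.red A) (CAlg2.red S)))
    (PrimeSpectrum.continuous_comap _) (isHomeomorph_comap_mk_nilradical A).isOpenMap
    (fun p => ?_) qb ?_
  · apply PrimeSpectrum.ext
    exact Ideal.ext fun x => Iff.rfl
  · haveI : (qb.asIdeal.comap (algebraMap (CAlg2.red A) (CAlg2.red S))).IsPrime :=
      Ideal.comap_isPrime _ _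
    exact isOpenAt_comap_of_isUnibranch (CAlg2.red A) (CAlg2.red S) hginj qb
      (isUnibranch_localization_red _ hA hU _ (Ideal.ext fun x => Iff.rfl))

/-- Zariski's main theorem: `B_r` is the localization of the integral closure at `r`. -/
theorem isLocalization_away_integralClosure {A B : Type u} [CommRing A] [CommRing B] [Algebra A B]
    (r : B) (hr : IsIntegral A r) (hZ : ∀ x : B, ∃ k : ℕ, IsIntegral A (r ^ k * x)) :
    IsLocalization (Submonoid.powers (⟨r, hr⟩ : integralClosure A B)) (Localization.Away r) := by
  let S' := integralClosure A B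
  let r' : S' := ⟨r, hr⟩
  let Br := Localization.Away r
  haveI : IsScalarTower S' B Br := inferInstance
  show IsLocalization (Submonoid.powers r') Br
  rw [isLocalization_iff]
  refine ⟨?_, ?_, ?_⟩
  · rintro ⟨_, k, rfl⟩
    have : algebraMap S' Br (r' ^ k) = algebraMap B Br (r ^ k) := by
      rw [IsScalarTower.algebraMap_apply S' B Br]
      rfl
    rw [this]
    exact IsLocalization.map_units Br (⟨r ^ k, k, rfl⟩ : Submonoid.powers r)
  · intro z
    obtain ⟨b, ⟨_, j, rfl⟩, rfl⟩ := IsLocalization.exists_mk'_eq (Submonoid.powers r) z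
    obtain ⟨k, hk⟩ := hZ b
    refine ⟨⟨⟨r ^ k * b, hk⟩, ⟨r' ^ (j + k), j + k, rfl⟩⟩, ?_⟩
    have e1 : algebraMap S' Br (r' ^ (j + k)) = algebraMap B Br (r ^ (j + k)) := by
      rw [IsScalarTower.algebraMap_apply S' B Br]
      rfl
    have e2 : algebraMap S' Br (⟨r ^ k * b, hk⟩ : S') = algebraMap B Br (r ^ k * b) := by
      rw [IsScalarTower.algebraMap_apply S' B Br]
      rfl
    show _ * algebraMap S' Br (r' ^ (j + k)) = algebraMap S' Br ⟨r ^ k * b, hk⟩
    rw [e1, e2, pow_add, map_mul, ← mul_assoc]
    have e3 : IsLocalization.mk' Br b (⟨r ^ j, j, rfl⟩ : Submonoid.powers r) *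
        algebraMap B Br (r ^ j) = algebraMap B Br b :=
      IsLocalization.mk'_spec Br b (⟨r ^ j, j, rfl⟩ : Submonoid.powers r)
    rw [e3, ← map_mul, mul_comm]
  · intro x y hxy
    have hxy' : algebraMap B Br x.1 = algebraMap B Br y.1 := by
      have h1 := hxy
      rw [IsScalarTower.algebraMap_apply S' B Br, IsScalarTower.algebraMap_apply S' B Br] at h1
      exact h1
    obtain ⟨⟨_, j, rfl⟩, hc⟩ := (IsLocalization.eq_iff_exists (Submonoid.powers r) Br).mp hxy'
    refine ⟨⟨r' ^ j, j, rfl⟩, ?_⟩
    apply Subtype.ext
    exact hc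

set_option maxHeartbeats 1600000 in
/-- **Openness of a quasi-finite map at a unibranch point** (ring form, no Noetherian
hypothesis). -/
theorem isOpenAt_comap_of_quasiFiniteAt {A B : Type u} [CommRing A] [CommRing B] [Algebra A B]
    [Algebra.FiniteType A B] (P : Ideal B) [P.IsPrime] [Algebra.QuasiFiniteAt A P]
    (hB : (nilradical B).IsPrime)
    (hker : ∀ a : A, IsNilpotent (algebraMap A B a) → IsNilpotent a)
    (hU : CAlg2.IsUnibranch (Localization.AtPrime (P.comap (algebraMap A B)))) :
    EGA43.IsOpenAt (PrimeSpectrum.comap (algebraMap A B)) ⟨P, inferInstance⟩ := by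
  obtain ⟨r, hrP, hZ⟩ := Algebra.zariskisMainProperty_iff'.mp
    (Algebra.ZariskisMainProperty.of_finiteType (R := A) P)
  have hr : IsIntegral A r := by
    obtain ⟨k, hk⟩ := hZ r
    rw [← pow_succ] at hk
    exact (IsIntegral.pow_iff (by simp)).mp hk
  let S' := integralClosure A B
  have hnil : nilradical S' = (nilradical B).comap (algebraMap S' B) := by
    ext x
    rw [Ideal.mem_comap, mem_nilradical, mem_nilradical]
    constructor
    · intro h
      exact h.map (algebraMap S' B)
    · rintro ⟨k, hk⟩
      refine ⟨k, Subtype.ext ?_⟩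
      have : algebraMap S' B (x ^ k) = 0 := by rw [map_pow]; exact hk
      exact this
  have hS' : (nilradical S').IsPrime := by
    rw [hnil]
    haveI := hB
    exact Ideal.comap_isPrime _ _
  have hker' : ∀ a : A, IsNilpotent (algebraMap A S' a) → IsNilpotent a := by
    intro a ha
    apply hker a
    have := ha.map (algebraMap S' B)
    rwa [← IsScalarTower.algebraMap_apply A S' B] at this
  let r' : S' := ⟨r, hr⟩
  let Br := Localization.Away r
  haveI hloc : IsLocalization.Away r' Br := isLocalization_away_integralClosure r hr hZ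
  haveI : IsScalarTower S' B Br := inferInstance
  haveI : IsScalarTower A B Br := inferInstance
  haveI : IsScalarTower A S' Br := inferInstance
  -- the point of `Br`
  have hPr : (⟨P, inferInstance⟩ : PrimeSpectrum B) ∈
      Set.range (PrimeSpectrum.comap (algebraMap B Br)) := by
    rw [PrimeSpectrum.localization_away_comap_range Br r]
    exact hrP
  obtain ⟨PB, hPB⟩ := hPr
  have hPB' : PB.asIdeal.comap (algebraMap B Br) = P := congrArg PrimeSpectrum.asIdeal hPB
  -- step 1
  have h1 : EGA43.IsOpenAt (PrimeSpectrum.comap (algebraMap A S'))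
      (PrimeSpectrum.comap (algebraMap S' Br) PB) := by
    apply isOpenAt_comap_of_isUnibranch' hS' hker'
    refine isUnibranch_of_ideal_eq _ _ ?_ hU
    show P.comap (algebraMap A B) =
      (PB.asIdeal.comap (algebraMap S' Br)).comap (algebraMap A S')
    rw [← hPB', Ideal.comap_comap, Ideal.comap_comap, ← IsScalarTower.algebraMap_eq,
      ← IsScalarTower.algebraMap_eq]
  -- step 2
  have h2 : EGA43.IsOpenAt (PrimeSpectrum.comap (algebraMap A Br)) PB := by
    intro U hU
    have hU1 := (PrimeSpectrum.localization_away_isOpenEmbedding Br r').isOpenMap.image_mem_nhds hU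
    have hU2 := h1 _ hU1
    have hc : ∀ Q : PrimeSpectrum Br, PrimeSpectrum.comap (algebraMap A S')
        (PrimeSpectrum.comap (algebraMap S' Br) Q) = PrimeSpectrum.comap (algebraMap A Br) Q := by
      intro Q
      apply PrimeSpectrum.ext
      show (Q.asIdeal.comap (algebraMap S' Br)).comap (algebraMap A S') = _
      rw [Ideal.comap_comap, ← IsScalarTower.algebraMap_eq]
      rfl
    rw [hc] at hU2
    refine Filter.mem_of_superset hU2 ?_
    rintro _ ⟨_, ⟨Q, hQ, rfl⟩, rfl⟩
    exact ⟨Q, hQ, (hc Q).symm⟩
  -- step 3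
  rw [← hPB]
  refine isOpenAt_of_square (PrimeSpectrum.comap (algebraMap B Br)) id
    (PrimeSpectrum.comap (algebraMap A B)) (PrimeSpectrum.comap (algebraMap A Br))
    (PrimeSpectrum.continuous_comap _) IsOpenMap.id (fun Q => ?_) PB h2
  apply PrimeSpectrum.ext
  show (Q.asIdeal.comap (algebraMap B Br)).comap (algebraMap A B) = _
  rw [Ideal.comap_comap, ← IsScalarTower.algebraMap_eq]
  rfl

open CategoryTheory AlgebraicGeometry

theorem quasiFiniteAt_of_nhdsWithin_eq_pure {X Y : Scheme.{u}} (f : X ⟶ Y) [LocallyOfFiniteType f]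
    (x : X) (hx : nhdsWithin x (f.base ⁻¹' {f.base x}) = pure x) : f.QuasiFiniteAt x := by
  rw [Scheme.Hom.quasiFiniteAt_iff_isOpen_singleton_asFiber, ← (f.fiberHomeo (f x)).isOpen_image]
  simp only [Set.image_singleton, Scheme.Hom.asFiber, Homeomorph.apply_symm_apply]
  have h1 : ({x} : Set X) ∈ nhdsWithin x (f.base ⁻¹' {f.base x}) := by
    rw [hx]; exact Filter.mem_pure.mpr rfl
  obtain ⟨U, hUo, hxU, hU⟩ := mem_nhdsWithin.mp h1
  have : ({⟨x, rfl⟩} : Set ↥(f.base ⁻¹' {f.base x})) = Subtype.val ⁻¹' U := by
    ext ⟨z, hz⟩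
    simp only [Set.mem_singleton_iff, Set.mem_preimage, Subtype.mk.injEq]
    constructor
    · rintro rfl; exact hxU
    · intro hzU; exact hU ⟨hzU, hz⟩
  rw [this]
  exact hUo.preimage continuous_subtype_val

set_option maxHeartbeats 1600000 in
/-- **SGA3 VI_B, (ii)**: a dominant morphism of irreducible schemes, locally of finite type, is
open at every point where it is quasi-finite and whose image is a unibranch point. -/
theorem isOpenAt_of_quasiFiniteAt_of_isUnibranch {X Y : Scheme.{u}} (f : X ⟶ Y)
    [IrreducibleSpace X] [IrreducibleSpace Y] [LocallyOfFiniteType f]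
    (hd : DenseRange f.base) (x : X) (hqf : f.QuasiFiniteAt x)
    (hy : CAlg2.IsUnibranch (Y.presheaf.stalk (f.base x))) : EGA43.IsOpenAt f.base x := by
  obtain ⟨_, ⟨V, hV : IsAffineOpen V, rfl⟩, hyV, -⟩ :=
    Y.isBasis_affineOpens.exists_subset_of_mem_open (Set.mem_univ (f.base x)) isOpen_univ
  obtain ⟨_, ⟨W, hW : IsAffineOpen W, rfl⟩, hxW, hWV⟩ :=
    X.isBasis_affineOpens.exists_subset_of_mem_open (show x ∈ ((f ⁻¹ᵁ V : X.Opens) : Set X) from hyV)
      (f ⁻¹ᵁ V).isOpen
  have e : W ≤ f ⁻¹ᵁ V := hWV
  let φ : Γ(Y, V) ⟶ Γ(X, W) := f.appLE V W e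
  letI : Algebra Γ(Y, V) Γ(X, W) := φ.hom.toAlgebra
  have hft : Algebra.FiniteType Γ(Y, V) Γ(X, W) := by
    have := HasRingHomProperty.appLE (P := @LocallyOfFiniteType) f inferInstance ⟨V, hV⟩ ⟨W, hW⟩ e
    exact (RingHom.finiteType_algebraMap (A := Γ(Y, V)) (B := Γ(X, W))).mp this
  have hcomm : Spec.map φ ≫ hV.fromSpec = hW.fromSpec ≫ f :=
    IsAffineOpen.SpecMap_appLE_fromSpec f hV hW e
  let P : PrimeSpectrum Γ(X, W) := hW.primeIdealOf ⟨x, hxW⟩
  have hP : hW.fromSpec.base P = x := hW.fromSpec_primeIdealOf ⟨x, hxW⟩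
  have hqfP : Algebra.QuasiFiniteAt Γ(Y, V) P.asIdeal := hqf.quasiFiniteAt hW hV e hxW
  -- the image point
  have hsq : ∀ Q, f.base (hW.fromSpec.base Q) = hV.fromSpec.base ((Spec.map φ).base Q) := by
    intro Q
    rw [← Scheme.Hom.comp_apply, ← Scheme.Hom.comp_apply, hcomm]
  -- irreducibility of `Spec Γ(X, W)`
  have hB : (nilradical Γ(X, W)).IsPrime := by
    rw [← PrimeSpectrum.irreducibleSpace_iff_isPrime_nilradical]
    have hirr : IrreducibleSpace ↥W := Subtype.irreducibleSpace
      ⟨⟨_, hxW⟩, (IrreducibleSpace.isIrreducible_univ X).2.open_subset W.isOpen (Set.subset_univ _)⟩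
    exact (hW.isoSpec.hom.homeomorph.irreducibleSpace_iff).mp hirr
  -- dominance
  have hker : ∀ a : Γ(Y, V), IsNilpotent (algebraMap Γ(Y, V) Γ(X, W) a) → IsNilpotent a := by
    intro a ha
    rw [Scheme.isNilpotent_iff_basicOpen_eq_bot_of_isCompact hV.isCompact]
    rw [Scheme.isNilpotent_iff_basicOpen_eq_bot_of_isCompact hW.isCompact] at ha
    have ha' : X.basicOpen (f.appLE V W e a) = ⊥ := ha
    rw [Scheme.basicOpen_appLE] at ha'
    by_contra hne
    have hne' : ((Y.basicOpen a : Y.Opens) : Set Y).Nonempty := by
      rw [Set.nonempty_iff_ne_empty]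
      intro h0
      apply hne
      ext z
      simp only [TopologicalSpace.Opens.coe_bot]
      rw [h0]
    have hWd : Dense (W : Set X) := W.isOpen.dense ⟨_, hxW⟩
    have hfW : Dense (f.base '' (W : Set X)) := hd.dense_image f.continuous hWd
    obtain ⟨_, hz, ⟨w, hwW, rfl⟩⟩ := hfW.inter_open_nonempty _ (Y.basicOpen a).isOpen hne'
    have : w ∈ ((W ⊓ f ⁻¹ᵁ (Y.basicOpen a) : X.Opens) : Set X) := ⟨hwW, hz⟩
    rw [ha'] at this
    exact this
  have hU : CAlg2.IsUnibranch
      (Localization.AtPrime (P.asIdeal.comap (algebraMap Γ(Y, V) Γ(X, W)))) := by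
    have hfx : f.base x = hV.fromSpec.base ((Spec.map φ).base P) := by rw [← hsq, hP]
    exact Groth.Agent.Lib.Helper6.Uni.isUnibranch_localization_of_stalk V hV
      ((Spec.map φ).base P) (hfx ▸ hy)
  have hring := isOpenAt_comap_of_quasiFiniteAt P.asIdeal hB hker hU
  rw [← hP]
  exact isOpenAt_of_square hW.fromSpec.base hV.fromSpec.base f.base (Spec.map φ).base
    hW.fromSpec.continuous hV.fromSpec.isOpenEmbedding.isOpenMap hsq P hring

end Groth.Agent.R2.H19.UnibranchOpen
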