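import Groth.Agent.Lib.Helper3LocDimBC
import Groth.Agent.Lib.Helper4DimFormulaAP
import Groth.Agent.Lib.Helper4DimFormulaAN
import Groth.Agent.Lib.Helper4DimFormulaAR
import Groth.Agent.Lib.Helper2Constr
import Groth.Agent.Lib.Helper4VarDim9

set_option autoImplicit false
set_option linter.style.haveILetI false
universe u

open AlgebraicGeometry CategoryTheory CategoryTheory.Limits TopologicalSpace Topology

namespace Groth.Agent.R2.H19.WellInt

open Groth.Agent.Lib.Helper4.VarDim Groth.Agent.Lib.Helper4.FibDim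
  Groth.Agent.Lib.Helper4.DimFormula

variable {X S : Scheme.{u}} (f : X ⟶ S) [LocallyOfFiniteType f]

/-- A point of `X ×_S X` over `(x, z)` with `z` in the closed set `Zc = closure {ζ}`, whose residue
field is big over that of `x`. -/
theorem exists_big_point (Zc : Set X) (hZc : IsClosed Zc) (ζ : X) (hζ : closure {ζ} = Zc)
    (x z₀ : X) (hz₀ : z₀ ∈ Zc) (h : f x = f z₀) :
    ∃ p : ↥(pullback f f), pullback.fst f f p = x ∧ pullback.snd f f p ∈ Zc ∧
      pullback.snd f f p ⤳ z₀ ∧ f (pullback.snd f f p) = f x ∧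
      ptTrdeg f ζ ≤ ptTrdeg (pullback.fst f f) p := by
  obtain ⟨Zs, ι, hι, hrange⟩ := exists_isClosedImmersion_range_eq X Zc hZc
  have hζZ : ζ ∈ Zc := hζ ▸ subset_closure rfl
  obtain ⟨ζ', hζ'⟩ : ζ ∈ Set.range ι.base := hrange ▸ hζZ
  obtain ⟨ζ₀, hζ₀⟩ : z₀ ∈ Set.range ι.base := hrange ▸ hz₀
  set g : Zs ⟶ S := ι ≫ f with hg
  have hsp : ζ' ⤳ ζ₀ := by
    rw [← ι.isEmbedding.isInducing.specializes_iff]
    change ι.base ζ' ⤳ ι.base ζ₀
    rw [hζ', hζ₀, specializes_iff_mem_closure, hζ]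
    exact hz₀
  have hxg : f x = g ζ₀ := by
    rw [h, ← hζ₀]; rfl
  obtain ⟨p₀, hp₀1, hp₀2⟩ := Scheme.Pullback.exists_preimage_pullback (f := f) (g := g) x ζ₀ hxg
  -- fibre dimension at p₀
  have h1 : FlatMor.fibreDimAt (pullback.fst f g) p₀ = FlatMor.fibreDimAt g ζ₀ := by
    have := Groth.Agent.Lib.Helper3.LocDimBC.fibreDimAt_eq_of_isPullback g f (pullback.snd f g)
      (pullback.fst f g) (IsPullback.of_hasPullback f g).flip p₀
    rw [this, hp₀2]
  have h2 : (ptTrdeg f ζ : WithBot ℕ∞) ≤ FlatMor.fibreDimAt g ζ₀ := by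
    have h3 := ptTrdeg_comp_of_isPreimmersion ι f ζ'
    have h3' : ptTrdeg g ζ' = ptTrdeg f ζ := by
      rw [hg, h3]
      congr 1
    rw [← h3']
    exact (ptTrdeg_le_fibreDimAt g ζ').trans (fibreDimAt_le_of_specializes g ζ' ζ₀ hsp)
  obtain ⟨p', hp'1, hp'sp, hp'2⟩ := exists_ptTrdeg_eq_fibreDimAt (pullback.fst f g) p₀
  -- the closed immersion into `X ×_S X`
  let m : pullback f g ⟶ pullback f f :=
    (pullbackLeftPullbackSndIso f f ι).inv ≫ pullback.fst (pullback.snd f f) ι
  have hm1 : m ≫ pullback.fst f f = pullback.fst f g := by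
    simp only [m, Category.assoc]
    exact pullbackLeftPullbackSndIso_inv_fst f f ι
  have hm2 : m ≫ pullback.snd f f = pullback.snd f g ≫ ι := by
    simp only [m, Category.assoc]
    exact pullbackLeftPullbackSndIso_inv_fst_snd f f ι
  haveI : IsClosedImmersion m := by
    simp only [m]
    infer_instance
  refine ⟨m p', ?_, ?_, ?_, ?_, ?_⟩
  · rw [← Scheme.Hom.comp_apply, hm1]
    exact hp'1.trans hp₀1
  · rw [← Scheme.Hom.comp_apply, hm2, Scheme.Hom.comp_apply, ← hrange]
    exact ⟨_, rfl⟩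
  · rw [← Scheme.Hom.comp_apply, hm2, Scheme.Hom.comp_apply, ← hζ₀, ← hp₀2]
    exact ((hp'sp.map (pullback.snd f g).continuous).map ι.continuous)
  · have e1 : f (pullback.snd f f (m p')) = f (pullback.fst f f (m p')) := by
      have := congrArg (fun φ : pullback f f ⟶ S => φ (m p')) (pullback.condition (f := f) (g := f))
      simpa only [Scheme.Hom.comp_apply] using this.symm
    have e2 : pullback.fst f f (m p') = x := by
      rw [← Scheme.Hom.comp_apply, hm1]
      exact hp'1.trans hp₀1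
    rw [e1, e2]
  · have h4 : ptTrdeg (pullback.fst f g) p' = ptTrdeg (pullback.fst f f) (m p') := by
      have := ptTrdeg_comp_of_isPreimmersion m (pullback.fst f f) p'
      rw [← this]
      congr 1
      exact hm1.symm
    rw [← h4]
    have : (ptTrdeg f ζ : WithBot ℕ∞) ≤ (ptTrdeg (pullback.fst f g) p' : WithBot ℕ∞) := by
      rw [← hp'2, h1]
      exact h2
    exact_mod_cast this

end Groth.Agent.R2.H19.WellInt
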