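import Mathlib
import Groth.Prelude.Def_Formal
import Groth.Prelude.Def_ClSub2

/-!
# The ideal of the base change of `Spec A/I → Spec A` (helper1)

`W` a scheme over `Spec A`, `I` an ideal of `A`, `i : Z ⟶ W` the base change of `Spec A/I → Spec A`.
* `mem_map_of_app_eq_zero` : for `U` affine open in `W`, the kernel of `Γ(W,U) → Γ(Z, i⁻¹U)` is contained in
  the extension `I Γ(W,U)`.
* `killedByIdeal_ker_of_killedBy` : a module killed by `I` (in the sense of `Formal.KilledBy`) is killed by the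
  ideal sheaf `i.ker` (in the sense of `ClSub.KilledByIdeal`).
-/

set_option autoImplicit false
universe u
open CategoryTheory CategoryTheory.Limits AlgebraicGeometry TopologicalSpace Opposite

namespace Groth.Agent.R2.H1.FibreKer

variable {A : Type u} [CommRing A] {W : Scheme.{u}}

/-- the structure map `A → Γ(W, U)` -/
noncomputable def ρ (g₀ : W ⟶ Spec (CommRingCat.of A)) (U : W.Opens) : CommRingCat.of A ⟶ Γ(W, U) :=
  (Scheme.ΓSpecIso (CommRingCat.of A)).inv ≫ g₀.appLE ⊤ U le_top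

theorem fromSpec_comp (g₀ : W ⟶ Spec (CommRingCat.of A)) {U : W.Opens} (hU : IsAffineOpen U) :
    hU.fromSpec ≫ g₀ = Spec.map (ρ g₀ U) := by
  have h := IsAffineOpen.SpecMap_appLE_fromSpec g₀ (isAffineOpen_top (Spec (CommRingCat.of A))) hU
    (le_top : U ≤ g₀ ⁻¹ᵁ ⊤)
  rw [← h, IsAffineOpen.fromSpec_top, Scheme.isoSpec_Spec_inv, ← Spec.map_comp]
  rfl

variable (I : Ideal A) {Z : Scheme.{u}} (g₀ : W ⟶ Spec (CommRingCat.of A)) (i : Z ⟶ W)
  (t : Z ⟶ Spec (CommRingCat.of (A ⧸ I)))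
  (hpb : IsPullback i t g₀ (Spec.map (CommRingCat.ofHom (Ideal.Quotient.mk I))))

include hpb in
/-- the kernel of `Γ(W,U) → Γ(Z, i⁻¹U)` is contained in `I Γ(W,U)` -/
theorem mem_map_of_app_eq_zero {U : W.Opens} (hU : IsAffineOpen U) (s : Γ(W, U))
    (hs : i.app U s = 0) : s ∈ Ideal.map (ρ g₀ U).hom I := by
  set J : Ideal Γ(W, U) := Ideal.map (ρ g₀ U).hom I with hJ
  let R' : CommRingCat.{u} := CommRingCat.of (Γ(W, U) ⧸ J)
  let π : Γ(W, U) ⟶ R' := CommRingCat.ofHom (Ideal.Quotient.mk J)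
  let t₁ : Spec R' ⟶ W := Spec.map π ≫ hU.fromSpec
  let u : Spec R' ⟶ Spec (CommRingCat.of (A ⧸ I)) :=
    Spec.map (CommRingCat.ofHom (Ideal.quotientMap J (ρ g₀ U).hom Ideal.le_comap_map))
  have hcond : t₁ ≫ g₀ = u ≫ Spec.map (CommRingCat.ofHom (Ideal.Quotient.mk I)) := by
    simp only [t₁, u, Category.assoc, fromSpec_comp g₀ hU, ← Spec.map_comp]
    congr 1
  let ℓ : Spec R' ⟶ Z := hpb.lift t₁ u hcond
  have hℓ : ℓ ≫ i = t₁ := hpb.lift_fst _ _ _
  -- compute `t₁.appLE U ⊤`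
  have hpre : (⊤ : (Spec R').Opens) ≤ t₁ ⁻¹ᵁ U := by
    have : t₁ ⁻¹ᵁ U = ⊤ := by
      simp only [t₁, Scheme.Hom.comp_preimage, hU.fromSpec_preimage_self]
      rfl
    rw [this]
  have h1 : t₁.appLE U ⊤ hpre = π ≫ (Scheme.ΓSpecIso R').inv := by
    apply Spec.map_injective
    rw [← cancel_mono hU.fromSpec]
    have h := IsAffineOpen.SpecMap_appLE_fromSpec t₁ hU (isAffineOpen_top (Spec R')) hpre
    rw [h, IsAffineOpen.fromSpec_top, Scheme.isoSpec_Spec_inv, Spec.map_comp, Category.assoc]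
  have h2 : t₁.appLE U ⊤ hpre s = 0 := by
    have h3 : t₁.appLE U ⊤ hpre = i.app U ≫ ℓ.appLE (i ⁻¹ᵁ U) ⊤ (by
        intro x _
        change i (ℓ x) ∈ U
        have hx : (ℓ ≫ i) x ∈ U := by rw [hℓ]; exact hpre (Set.mem_univ x)
        exact hx) := by
      rw [← Scheme.Hom.comp_appLE]
      congr 1
      exact hℓ.symm
    rw [h3, CommRingCat.comp_apply, hs, map_zero]
  rw [h1, CommRingCat.comp_apply] at h2
  have h4 : π s = 0 := by
    have := congrArg (Scheme.ΓSpecIso R').hom h2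
    rwa [map_zero, ← CommRingCat.comp_apply, Iso.inv_hom_id] at this
  exact Ideal.Quotient.eq_zero_iff_mem.1 h4

section killed

variable [W.Over (Spec (CommRingCat.of A))]

theorem smulMod_app (Q : W.Modules) (a : A) (U : W.Opens) (m : Γ(Q, U)) :
    Scheme.Modules.Hom.app (Formal.smulMod A Q a) U m =
      (ρ (W ↘ Spec (CommRingCat.of A)) U).hom a • m := rfl

/-- a module killed by `I` is killed by the ideal sheaf of the base change of `Spec A/I`. -/
theorem killedByIdeal_ker_of_killedBy (i : Z ⟶ W) (t : Z ⟶ Spec (CommRingCat.of (A ⧸ I)))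
    (hpb : IsPullback i t (W ↘ Spec (CommRingCat.of A))
      (Spec.map (CommRingCat.ofHom (Ideal.Quotient.mk I))))
    (Q : W.Modules) (hQ : Formal.KilledBy I Q) : ClSub.KilledByIdeal i.ker Q := by
  intro U a ha m
  have ha' : i.app U a = 0 := RingHom.mem_ker.1 (Scheme.Hom.ideal_ker_le i U ha)
  have hmem := mem_map_of_app_eq_zero I _ i t hpb U.2 a ha'
  have key : ∀ b ∈ Ideal.map (ρ (W ↘ Spec (CommRingCat.of A)) U.1).hom I,
      ∀ m : Q.val.obj (op U.1), b • m = 0 := by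
    intro b hb
    refine Submodule.span_induction (p := fun b _ => ∀ m : Q.val.obj (op U.1), b • m = 0)
      ?_ ?_ ?_ ?_ hb
    · rintro _ ⟨c, hc, rfl⟩ m
      have := congrArg (fun φ : Q ⟶ Q => Scheme.Modules.Hom.app φ U.1 m) (hQ c hc)
      exact this
    · intro m
      exact zero_smul _ m
    · intro x y _ _ hx hy m
      rw [add_smul, hx m, hy m, add_zero]
    · intro c x _ hx m
      rw [smul_eq_mul, mul_smul, hx m, smul_zero]
  exact key a hmem m

end killed

end Groth.Agent.R2.H1.FibreKer
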