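import Mathlib
import Groth.Prelude.Def_CohB1
import Groth.Agent.R2.H1FibreKer
import Groth.Agent.R2.H17ThickAlg

/-!
# Adic towers of schemes: geometry (helper1)

`A` a ring, `J` an ideal, `Xs k` schemes over `Spec (A/J^(k+1))` with cartesian transition maps `i k : Xs k ⟶ Xs (k+1)`.

* `q k : Xs k ⟶ Spec A`, `j k : Xs 0 ⟶ Xs k`; `isPullback_i`, `isPullback_j` (squares over `Spec A`);
* `i k`, `j k` are surjective closed immersions;
* `ker_app_i` : kernel of `Γ(X_(k+1), U) → Γ(X_k, i⁻¹U)` is `J^(k+1) Γ(X_(k+1), U)`;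
* `isLocallyNoetherian_level`, `compactSpace_level`.
-/

set_option autoImplicit false
set_option linter.style.haveILetI false
universe u
open CategoryTheory CategoryTheory.Limits AlgebraicGeometry TopologicalSpace Opposite

namespace Groth.Agent.R2.H1.Tower

variable {A : Type u} [CommRing A] (J : Ideal A)

instance mono_specQuot (n : ℕ) : Mono (CohB1.specQuot J n) := by
  haveI : IsClosedImmersion (CohB1.specQuot J n) :=
    IsClosedImmersion.spec_of_surjective _ Ideal.Quotient.mk_surjective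
  infer_instance

instance isClosedImmersion_specQuotTrans (n : ℕ) : IsClosedImmersion (CohB1.specQuotTrans J n) :=
  IsClosedImmersion.spec_of_surjective _
    (Ideal.Quotient.factor_surjective (Ideal.pow_le_pow_right (Nat.le_succ (n + 1))))

theorem ker_factor_le_nilradical (n : ℕ) :
    (RingHom.ker (Ideal.Quotient.factor (Ideal.pow_le_pow_right (Nat.le_succ (n + 1))) :
      A ⧸ J ^ (n + 2) →+* A ⧸ J ^ (n + 1)) : Set (A ⧸ J ^ (n + 2))) ⊆ nilradical (A ⧸ J ^ (n + 2)) := by
  intro x hx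
  obtain ⟨a, rfl⟩ := Ideal.Quotient.mk_surjective x
  have ha : a ∈ J ^ (n + 1) := by
    have h1 : (Ideal.Quotient.factor (Ideal.pow_le_pow_right (Nat.le_succ (n + 1))) :
      A ⧸ J ^ (n + 2) →+* A ⧸ J ^ (n + 1)) (Ideal.Quotient.mk _ a) = 0 := hx
    rw [Ideal.Quotient.factor_mk, Ideal.Quotient.eq_zero_iff_mem] at h1
    exact h1
  refine ⟨2, ?_⟩
  rw [← map_pow, Ideal.zero_eq_bot, Ideal.mem_bot, Ideal.Quotient.eq_zero_iff_mem]
  have h2 : a ^ 2 ∈ (J ^ (n + 1)) ^ 2 := Ideal.pow_mem_pow ha 2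
  rw [← pow_mul] at h2
  exact Ideal.pow_le_pow_right (by omega) h2

instance surjective_specQuotTrans (n : ℕ) : Surjective (CohB1.specQuotTrans J n) := by
  constructor
  intro x
  have hsurj : Function.Surjective (Ideal.Quotient.factor (Ideal.pow_le_pow_right (Nat.le_succ (n + 1))) :
      A ⧸ J ^ (n + 2) →+* A ⧸ J ^ (n + 1)) := Ideal.Quotient.factor_surjective _
  have hrange := range_comap_of_surjective _ _ hsurj
  have hx : x ∈ PrimeSpectrum.zeroLocus (RingHom.ker (Ideal.Quotient.factor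
      (Ideal.pow_le_pow_right (Nat.le_succ (n + 1))) : A ⧸ J ^ (n + 2) →+* A ⧸ J ^ (n + 1)) :
      Set (A ⧸ J ^ (n + 2))) := by
    rw [(PrimeSpectrum.zeroLocus_eq_univ_iff _).2 (ker_factor_le_nilradical J n)]
    trivial
  rw [← hrange] at hx
  obtain ⟨y, hy⟩ := hx
  exact ⟨y, hy⟩

theorem isPullback_specQuot (n : ℕ) :
    IsPullback (CohB1.specQuotTrans J n) (𝟙 _) (CohB1.specQuot J (n + 1)) (CohB1.specQuot J n) :=
  IsPullback.of_vert_isIso_mono ⟨by rw [CohB1.specQuotTrans_specQuot, Category.id_comp]⟩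

variable (Xs : ℕ → Scheme.{u}) (p : (k : ℕ) → (Xs k ⟶ Spec (CommRingCat.of (A ⧸ J ^ (k + 1)))))
  (i : (k : ℕ) → (Xs k ⟶ Xs (k + 1)))

/-- the structure morphism to `Spec A` -/
noncomputable def q (k : ℕ) : Xs k ⟶ Spec (CommRingCat.of A) := p k ≫ CohB1.specQuot J k

variable (hcart : ∀ k, IsPullback (i k) (p k) (p (k + 1)) (CohB1.specQuotTrans J k))

include hcart

theorem i_q (k : ℕ) : i k ≫ q J Xs p (k + 1) = q J Xs p k := by
  unfold q
  rw [← Category.assoc, (hcart k).w, Category.assoc, CohB1.specQuotTrans_specQuot]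

/-- `X_k = X_(k+1) ×_A Spec (A/J^(k+1))` -/
theorem isPullback_i (k : ℕ) :
    IsPullback (i k) (p k) (q J Xs p (k + 1)) (CohB1.specQuot J k) := by
  have := (hcart k).paste_vert (isPullback_specQuot J k)
  rwa [Category.comp_id] at this

theorem isClosedImmersion_i (k : ℕ) : IsClosedImmersion (i k) :=
  MorphismProperty.of_isPullback (P := @IsClosedImmersion) (hcart k).flip inferInstance

theorem surjective_i (k : ℕ) : Surjective (i k) :=
  MorphismProperty.of_isPullback (P := @Surjective) (hcart k).flip inferInstance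

/-- the composite closed immersion `X_0 ⟶ X_k` -/
noncomputable def j : (k : ℕ) → (Xs 0 ⟶ Xs k)
  | 0 => 𝟙 _
  | k + 1 => j k ≫ i k

omit hcart in
@[simp] theorem j_zero : j Xs i 0 = 𝟙 _ := rfl

omit hcart in
@[simp] theorem j_succ (k : ℕ) : j Xs i (k + 1) = j Xs i k ≫ i k := rfl

/-- the transition `Spec (A/J) ⟶ Spec (A/J^(k+1))` -/
noncomputable def t : (k : ℕ) → (Spec (CommRingCat.of (A ⧸ J ^ (0 + 1))) ⟶ Spec (CommRingCat.of (A ⧸ J ^ (k + 1))))
  | 0 => 𝟙 _
  | k + 1 => t k ≫ CohB1.specQuotTrans J k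

omit hcart in
theorem t_specQuot (k : ℕ) : t J k ≫ CohB1.specQuot J k = CohB1.specQuot J 0 := by
  induction k with
  | zero => exact Category.id_comp _
  | succ k ih =>
    change (t J k ≫ CohB1.specQuotTrans J k) ≫ _ = _
    rw [Category.assoc, CohB1.specQuotTrans_specQuot, ih]

theorem isPullback_j_p (k : ℕ) : IsPullback (j Xs i k) (p 0) (p k) (t J k) := by
  induction k with
  | zero =>
    haveI : IsIso (j Xs i 0) := inferInstanceAs (IsIso (𝟙 _))
    haveI : IsIso (t J 0) := inferInstanceAs (IsIso (𝟙 _))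
    exact IsPullback.of_horiz_isIso ⟨by simp [t]⟩
  | succ k ih => exact ih.paste_horiz (hcart k)

/-- `X_0 = X_k ×_A Spec (A/J)` -/
theorem isPullback_j (k : ℕ) :
    IsPullback (j Xs i k) (p 0) (q J Xs p k) (CohB1.specQuot J 0) := by
  have h2 : IsPullback (t J k) (𝟙 _) (CohB1.specQuot J k) (CohB1.specQuot J 0) :=
    IsPullback.of_vert_isIso_mono ⟨by rw [t_specQuot, Category.id_comp]⟩
  have := (isPullback_j_p J Xs p i hcart k).paste_vert h2
  rwa [Category.comp_id] at this

theorem isClosedImmersion_j (k : ℕ) : IsClosedImmersion (j Xs i k) := by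
  induction k with
  | zero => exact inferInstanceAs (IsClosedImmersion (𝟙 _))
  | succ k ih =>
    haveI := ih
    haveI := isClosedImmersion_i J Xs p i hcart k
    exact inferInstanceAs (IsClosedImmersion (j Xs i k ≫ i k))

theorem surjective_j (k : ℕ) : Surjective (j Xs i k) := by
  induction k with
  | zero => exact inferInstanceAs (Surjective (𝟙 _))
  | succ k ih =>
    haveI := ih
    haveI := surjective_i J Xs p i hcart k
    exact inferInstanceAs (Surjective (j Xs i k ≫ i k))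

section rho

open Groth.Agent.R2.H1.FibreKer

omit hcart in
theorem ρ_comp {Z W : Scheme.{u}} (f : Z ⟶ W) (g₀ : W ⟶ Spec (CommRingCat.of A)) (U : W.Opens) (a : A) :
    (f.app U).hom ((ρ g₀ U).hom a) = (ρ (f ≫ g₀) (f ⁻¹ᵁ U)).hom a := by
  unfold ρ
  have h : (f ≫ g₀).appLE ⊤ (f ⁻¹ᵁ U) le_top = g₀.appLE ⊤ U le_top ≫ f.app U := by
    rw [← Scheme.Hom.appLE_eq_app f, Scheme.Hom.appLE_comp_appLE]
  rw [h]
  rfl

omit hcart in
theorem ρ_eq_zero {W : Scheme.{u}} (I : Ideal A) (p₀ : W ⟶ Spec (CommRingCat.of (A ⧸ I))) (V : W.Opens)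
    (a : A) (ha : a ∈ I) :
    (ρ (p₀ ≫ Spec.map (CommRingCat.ofHom (Ideal.Quotient.mk I))) V).hom a = 0 := by
  have key : ρ (p₀ ≫ Spec.map (CommRingCat.ofHom (Ideal.Quotient.mk I))) V =
      CommRingCat.ofHom (Ideal.Quotient.mk I) ≫ (Scheme.ΓSpecIso _).inv ≫ p₀.appLE ⊤ V le_top := by
    unfold ρ
    rw [Scheme.Hom.comp_appLE, ← Category.assoc, ← Category.assoc]
    have h2 := Scheme.ΓSpecIso_inv_naturality (CommRingCat.ofHom (Ideal.Quotient.mk I))
    rw [h2]
    rfl
  rw [key]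
  simp only [CommRingCat.hom_comp, CommRingCat.hom_ofHom, RingHom.coe_comp, Function.comp_apply]
  rw [Ideal.Quotient.eq_zero_iff_mem.2 ha, map_zero, map_zero]

omit hcart in
theorem ρ_q_eq_zero (k : ℕ) (V : (Xs k).Opens) (a : A) (ha : a ∈ J ^ (k + 1)) :
    (ρ (q J Xs p k) V).hom a = 0 :=
  ρ_eq_zero (J ^ (k + 1)) (p k) V a ha

theorem ker_app_i (k : ℕ) {U : (Xs (k + 1)).Opens} (hU : IsAffineOpen U) :
    RingHom.ker ((i k).app U).hom = Ideal.map (ρ (q J Xs p (k + 1)) U).hom (J ^ (k + 1)) := by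
  apply le_antisymm
  · intro s hs
    exact mem_map_of_app_eq_zero (J ^ (k + 1)) (q J Xs p (k + 1)) (i k) (p k)
      (isPullback_i J Xs p i hcart k) hU s hs
  · rw [Ideal.map_le_iff_le_comap]
    intro a ha
    rw [Ideal.mem_comap, RingHom.mem_ker, ρ_comp, i_q J Xs p i hcart]
    exact ρ_q_eq_zero J Xs p k _ a ha

theorem isLocallyNoetherian_level [IsNoetherianRing A] [IsLocallyNoetherian (Xs 0)] (k : ℕ) :
    IsLocallyNoetherian (Xs k) := by
  induction k with
  | zero => infer_instance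
  | succ k ih =>
    haveI := ih
    haveI := isClosedImmersion_i J Xs p i hcart k
    refine ⟨fun U => ?_⟩
    have hs : Function.Surjective ((i k).app U.1).hom := (i k).app_surjective U.1 U.2
    haveI : IsNoetherianRing Γ(Xs k, i k ⁻¹ᵁ U.1) :=
      IsLocallyNoetherian.component_noetherian ⟨_, U.2.preimage (i k)⟩
    have hker := ker_app_i J Xs p i hcart k U.2
    have hnil : IsNilpotent (RingHom.ker ((i k).app U.1).hom) := by
      refine ⟨2, ?_⟩
      rw [hker, ← Ideal.map_pow, ← pow_mul, Ideal.zero_eq_bot, eq_bot_iff, Ideal.map_le_iff_le_comap]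
      intro a ha
      rw [Ideal.mem_comap, Ideal.mem_bot]
      exact ρ_q_eq_zero J Xs p (k + 1) _ a (Ideal.pow_le_pow_right (by omega) ha)
    have hfg : (RingHom.ker ((i k).app U.1).hom).FG := by
      rw [hker]
      exact Ideal.FG.map (IsNoetherian.noetherian _) _
    exact Groth.Agent.R2.H17.ThickAlg.isNoetherianRing_of_surjective_of_nilpotent
      ((i k).app U.1).hom hs _ hnil le_rfl _ hfg le_rfl le_sup_left

theorem compactSpace_level [CompactSpace (Xs 0)] (k : ℕ) : CompactSpace (Xs k) := by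
  haveI := surjective_j J Xs p i hcart k
  constructor
  rw [← Set.range_eq_univ.mpr (j Xs i k).surjective]
  exact isCompact_range (j Xs i k).continuous

end rho

end Groth.Agent.R2.H1.Tower
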