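import Mathlib
import Groth.Prelude.Def_Coh
import Groth.Prelude.Def_CohB1
import Groth.Prelude.Def_Pic
import Groth.Prelude.Def_Twist2
import Groth.Prelude.Def_LCI2

/-!
# Interface for PROJ:ample (helper54): Serre's cohomological criterion for ampleness and friends

Named `Prop`s for the packages from which the rows
`S0050 S0051 S0055 S11562 S11559 S0824 S0052 S4474 …` are to be assembled.

* `SerreCrit`        (A0 = frozen S0050, helper54): `H¹(I ⊗ L^n) = 0` for all qcoh ideals ⟹ `L` ample.
* `PnSubVanishing`   (A1, helper54): Serre vanishing for coherent modules on a closed subscheme of `P^N_B`,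
                     twisted by `j^* O(m)` (from helper58's PnSerre + projection formula `H54ClosedImm.pfApp`).
* `AmpleEmbedding`   (A2, OPEN): an ample module on a scheme of finite type over `Spec B` has a power which is
                     `j^* O(1)` for an immersion `j` into some `P^N_B` over `B` (EGA II 4.5.x, Stacks 01VS), to be
                     built from the universal property of `P^N` (`Agent/S3572`, Lib `Helper13ProjUPb`) and
                     helper23's section-extension libs (`Helper23SecTw*`, `Agent/S2324`, `S2325`).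
* `AmpleVanishing B` (A3 = S0051 ⟹, OPEN, from A1 + A2 + tensor-power bookkeeping `Helper23SecTw6/10`,
                     `Helper23PB.nonempty_pullback_tensorPow_iso`, `H79TwistCalc.nonempty_twistProjSpace_tensor_iso`).
* `VanishingAmple B` (A4 = S0051 ⟸, from A0 + `Agent/S0046`).
* `RelAmpleVanishing` (A5 = S0055, from A3 + helper64's StepC of relSerre).
* `NilpotentGlue B`  (A6 = S11562, Hartshorne Ex. III.5.7) and `ComponentsAmple B` (A7 = S11559).
-/

set_option autoImplicit false
universe u

open CategoryTheory CategoryTheory.Limits AlgebraicGeometry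

namespace Groth.Agent.R2.H54.AmpleSpec

/-- **(A0)** Serre's cohomological criterion, `H¹` form (= frozen `S0050`; Stacks 0B5U / Hartshorne III.5.3). -/
def SerreCrit : Prop :=
  ∀ (X : Scheme.{u}) [CompactSpace X] (L : X.Modules), PicF.IsInvertible L →
    (∀ (I : X.Modules) (i : I ⟶ Coh.structureModule X), Mono i → Coh.IsQCoh I →
      ∃ n : ℕ, Subsingleton (Coh.HH X (CohB1.tensorMod I (CohB1.tensorPow L (n + 1))) 1)) →
    CohB1.IsAmple L

/-- **(A1)** Serre vanishing on closed subschemes of `P^N_B`, `B` Noetherian: for `F` coherent on `X` and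
`j : X ⟶ P^N_B` a closed immersion, `H^q(X, F ⊗ j^* O(m)) = 0` for `q > 0`, `m ≫ 0`. -/
def PnSubVanishing : Prop :=
  ∀ (N : ℕ) (B : Type u) [CommRing B] [IsNoetherianRing B] (X : Scheme.{u})
    (j : X ⟶ CohB1.ProjSpace N B) [IsClosedImmersion j] (F : X.Modules), Coh.IsCoh F →
    ∃ m₀ : ℤ, ∀ m : ℤ, m₀ ≤ m → ∀ q : ℕ, 0 < q →
      Subsingleton (Coh.HH X (CohB1.tensorMod F
        ((Scheme.Modules.pullback j).obj (Twist.twistProjSpace N B m))) q)

/-- **(A2)** projective embedding by a power of an ample module (EGA II 4.5.10 / Stacks 01VS): `X` of finite type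
over `Spec B`, `L` ample on `X`; then some positive power `L^d` is `j^* O(1)` for an immersion `j : X ⟶ P^N_B`
over `B`. -/
def AmpleEmbedding (B : Type u) [CommRing B] : Prop :=
  ∀ (X : Scheme.{u}) (f : X ⟶ Spec (CommRingCat.of B)) [LocallyOfFiniteType f] (L : X.Modules),
    CohB1.IsAmple L →
    ∃ (d N : ℕ) (j : X ⟶ CohB1.ProjSpace N B), 0 < d ∧ IsImmersion j ∧
      j ≫ CohB1.ProjSpace.toSpec N B = f ∧
      Nonempty ((Scheme.Modules.pullback j).obj (Twist.twistProjSpace N B 1) ≅ CohB1.tensorPow L d)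

/-- **(A3)** Serre vanishing for an ample module on a scheme proper over a Noetherian ring (`S0051`, `⟹`). -/
def AmpleVanishing (B : Type u) [CommRing B] : Prop :=
  ∀ (X : Scheme.{u}) (f : X ⟶ Spec (CommRingCat.of B)) [IsProper f] (L : X.Modules),
    CohB1.IsAmple L → ∀ M : X.Modules, Coh.IsCoh M →
    ∃ n₀ : ℕ, ∀ n : ℕ, n₀ ≤ n → ∀ p : ℕ, 0 < p →
      Subsingleton (Coh.HH X (CohB1.tensorMod M (CohB1.tensorPow L n)) p)

/-- **(A4)** the converse (`S0051`, `⟸`): on a Noetherian quasi-compact scheme, Serre vanishing for all coherent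
modules implies ampleness. -/
def VanishingAmple : Prop :=
  ∀ (X : Scheme.{u}) [IsNoetherian X] (L : X.Modules), PicF.IsInvertible L →
    (∀ M : X.Modules, Coh.IsCoh M → ∃ n₀ : ℕ, ∀ n : ℕ, n₀ ≤ n → ∀ p : ℕ, 0 < p →
      Subsingleton (Coh.HH X (CohB1.tensorMod M (CohB1.tensorPow L n)) p)) →
    CohB1.IsAmple L

/-- **(A5)** relatively ample modules kill higher direct images of large twists (= frozen `S0055`). -/
def RelAmpleVanishing : Prop :=
  ∀ {X S : Scheme.{u}} (f : X ⟶ S) [IsProper f] [IsNoetherian S] (L : X.Modules),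
    PicF.IsInvertible L →
    (∀ W : S.Opens, IsAffineOpen W → CohB1.IsAmple (L.restrict (f ⁻¹ᵁ W).ι)) →
    ∀ M : X.Modules, Coh.IsCoh M →
    ∃ n₀ : ℕ, ∀ n : ℕ, n₀ ≤ n → ∀ p : ℕ, 0 < p →
      Limits.IsZero ((Coh.RpushAb f p).obj
        (Coh.toAb (CohB1.tensorMod M (CohB1.tensorPow L n))))

/-- **(A6)** Hartshorne Ex. III.5.7(b)-type glueing (= frozen `S11562`): `I J = 0`, `L` ample on `V(I)` and
on `V(J)` ⟹ `L` ample. -/
def NilpotentGlue (A : Type u) [CommRing A] : Prop :=
  ∀ (X : Scheme.{u}) [X.Over (Spec (CommRingCat.of A))]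
    [IsProper (X ↘ (Spec (CommRingCat.of A)))] (L : X.Modules), PicF.IsInvertible L →
    ∀ (I J : X.IdealSheafData), I * J = ⊥ →
    CohB1.IsAmple ((Scheme.Modules.pullback I.subschemeι).obj L) →
    CohB1.IsAmple ((Scheme.Modules.pullback J.subschemeι).obj L) →
    CohB1.IsAmple L

end Groth.Agent.R2.H54.AmpleSpec
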