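import Groth.Agent.R2.LeadChowH
import Groth.Agent.R2.H65PnSegre4

/-!
# Chow's lemma for proper morphisms (lead): closed immersions

For `f : X ⟶ S` proper over a Noetherian base, the Chow cover `π : X' ⟶ X` comes with a CLOSED immersion
`j : X' ⟶ P^N_S` over `S`, and `π` itself is H-projective: a closed immersion `j' : X' ⟶ P^N_X` over `X`.
-/

set_option autoImplicit false
universe u
open CategoryTheory CategoryTheory.Limits AlgebraicGeometry

namespace Groth.Agent.R2.Lead.ChowI

open CohB1 Groth.Agent.R2.H87.ProjSpaceOver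

/-- A proper immersion is a closed immersion. -/
theorem isClosedImmersion_of_isImmersion_of_isProper {X Y : Scheme.{u}} (j : X ⟶ Y) [IsImmersion j]
    [IsProper j] : IsClosedImmersion j :=
  IsClosedImmersion.of_isPreimmersion j j.isClosedMap.isClosed_range

/-- Chow's lemma over a Noetherian base, unconditional. -/
theorem chow_noetherian {X S : Scheme.{u}} (f : X ⟶ S) [IsNoetherian S] [IsSeparated f]
    [LocallyOfFiniteType f] [QuasiCompact f] :
    ∃ (n : ℕ) (X' : Scheme.{u}) (π : X' ⟶ X) (j : X' ⟶ ProjSpaceOver n S),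
      IsImmersion j ∧ j ≫ ProjSpaceOver.toBase n S = π ≫ f ∧ IsProper π ∧ Surjective π ∧
      ∃ U : X.Opens, Dense (U : Set X) ∧ IsIso (π ∣_ U) :=
  Groth.Agent.R2.Lead.ChowH.chow_noetherian
    (fun n m => Groth.Agent.R2.H65.PnSegre.univSegre n m (ULift.{u} ℤ)) f

/-- Chow's lemma for a proper morphism over a Noetherian base: the cover is projective over `S` and over `X`. -/
theorem chow_proper {X S : Scheme.{u}} (f : X ⟶ S) [IsNoetherian S] [IsProper f] :
    ∃ (n : ℕ) (X' : Scheme.{u}) (π : X' ⟶ X) (j : X' ⟶ ProjSpaceOver n S)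
      (j' : X' ⟶ ProjSpaceOver n X),
      IsClosedImmersion j ∧ j ≫ ProjSpaceOver.toBase n S = π ≫ f ∧
      IsClosedImmersion j' ∧ j' ≫ ProjSpaceOver.toBase n X = π ∧ j' ≫ map n f = j ∧
      IsProper π ∧ Surjective π ∧ ∃ U : X.Opens, Dense (U : Set X) ∧ IsIso (π ∣_ U) := by
  obtain ⟨n, X', π, j, hj, hjf, hπ, hsurj, U, hU, hiso⟩ := chow_noetherian f
  have hpt : IsProper (ProjSpaceOver.toBase n S) := Groth.Agent.S9705.isProper_toBase n S
  have hptX : IsProper (ProjSpaceOver.toBase n X) := Groth.Agent.S9705.isProper_toBase n X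
  -- `j` is proper
  have hjp : IsProper j := by
    have : IsProper (j ≫ ProjSpaceOver.toBase n S) := by rw [hjf]; infer_instance
    exact IsProper.of_comp j (ProjSpaceOver.toBase n S)
  have hjc : IsClosedImmersion j := isClosedImmersion_of_isImmersion_of_isProper j
  -- the lift to `P^n_X`
  let j' : X' ⟶ ProjSpaceOver n X := lift n (j ≫ toZ n S) π
  have hj'1 : j' ≫ ProjSpaceOver.toBase n X = π := lift_toBase _ _ _
  have hj'2 : j' ≫ map n f = j := by
    apply hom_ext
    · rw [Category.assoc, map_toZ, lift_toZ]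
    · rw [Category.assoc, map_toBase, reassoc_of% hj'1, hjf]
  have hj'i : IsImmersion j' := by
    have : IsImmersion (j' ≫ map n f) := by rw [hj'2]; infer_instance
    exact IsImmersion.of_comp j' (map n f)
  have hj'p : IsProper j' := by
    have : IsProper (j' ≫ ProjSpaceOver.toBase n X) := by rw [hj'1]; infer_instance
    exact IsProper.of_comp j' (ProjSpaceOver.toBase n X)
  exact ⟨n, X', π, j, j', hjc, hjf, isClosedImmersion_of_isImmersion_of_isProper j', hj'1, hj'2,
    hπ, hsurj, U, hU, hiso⟩

end Groth.Agent.R2.Lead.ChowI
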