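import Mathlib
import Groth.Prelude.Def_Coh
import Groth.Prelude.Def_CohB1
import Groth.Prelude.Def_Pic
import Groth.Prelude.Def_Twist2
import Groth.Agent.R2.H54AmpleSpec
import Groth.Agent.R2.H79TwistCalc
import Groth.Agent.R2.H62CohLES
import Groth.Agent.R2.LeadChowI
import Groth.Agent.R2.H5CohThick
import Groth.Agent.Lib.Helper23SecTw6
import Groth.Agent.Lib.Helper23PB
import Groth.Agent.S0046
import Groth.Agent.S9705

/-!
# PROJ:ample, packages A3 (`AmpleVanishing`) and A4 (`VanishingAmple`) (helper55)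

Serre vanishing for an ample invertible module on a scheme proper over a Noetherian ring, from Serre vanishing on closed
subschemes of `P^N_B` (A1) and the projective embedding by a power of an ample module (A2); and the converse from
Serre's `H¹`-criterion (A0).
-/

set_option autoImplicit false
set_option linter.style.haveILetI false
universe u

open CategoryTheory CategoryTheory.Limits AlgebraicGeometry

namespace Groth.Agent.R2.H55.AmpleVan

open Groth.Agent.R2.H79.TwistCalc Groth.Agent.R2.H54.AmpleSpec Groth.Agent.R2.H62.CohLES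

section Tensor

variable {X : Scheme.{u}}

/-- `M ⊗ L ≅ M ⊗ L'` for `L ≅ L'`. -/
noncomputable def tensorLeftCongr (M : X.Modules) {L L' : X.Modules} (e : L ≅ L') :
    CohB1.tensorMod M L ≅ CohB1.tensorMod M L' :=
  (tensorRightFCongr e).app M

/-- `M ⊗ L ≅ M' ⊗ L` for `M ≅ M'`. -/
noncomputable def tensorRightCongr {M M' : X.Modules} (e : M ≅ M') (L : X.Modules) :
    CohB1.tensorMod M L ≅ CohB1.tensorMod M' L :=
  (tensorRightF L).mapIso e

/-- `L^a ⊗ L^b ≅ L^(a+b)` (no invertibility needed). -/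
noncomputable def tensorPowAdd (L : X.Modules) (a : ℕ) :
    ∀ b : ℕ, CohB1.tensorMod (CohB1.tensorPow L a) (CohB1.tensorPow L b) ≅ CohB1.tensorPow L (a + b)
  | 0 => (tensorRightFUnit (X := X)).app (CohB1.tensorPow L a)
  | b + 1 => (tensorAssocIso (CohB1.tensorPow L a) (CohB1.tensorPow L b) L).symm ≪≫
      tensorRightCongr (tensorPowAdd L a b) L

/-- `L^k ≅ L'^k` for `L ≅ L'`. -/
noncomputable def tensorPowCongr {L L' : X.Modules} (e : L ≅ L') :
    ∀ k : ℕ, CohB1.tensorPow L k ≅ CohB1.tensorPow L' k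
  | 0 => Iso.refl _
  | k + 1 => tensorRightCongr (tensorPowCongr e k) L ≪≫ tensorLeftCongr (CohB1.tensorPow L' k) e

/-- cohomology only depends on the isomorphism class of the module. -/
theorem subsingleton_HH_of_iso {M N : X.Modules} (e : M ≅ N) (q : ℕ)
    (h : Subsingleton (Coh.HH X M q)) : Subsingleton (Coh.HH X N q) := by
  refine ⟨fun a b => ?_⟩
  have ha : HHmap e.hom q (HHmap e.inv q a) = a := by
    rw [← HHmap_comp, e.inv_hom_id, HHmap_id]
  have hb : HHmap e.hom q (HHmap e.inv q b) = b := by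
    rw [← HHmap_comp, e.inv_hom_id, HHmap_id]
  rw [← ha, ← hb, Subsingleton.elim (HHmap e.inv q a) (HHmap e.inv q b)]

end Tensor

section Pn

variable (N : ℕ) (B : Type u) [CommRing B]

/-- `O(1)^{⊗ k} ≅ O(k)` on projective space. -/
theorem nonempty_tensorPow_twist_one_iso (k : ℕ) :
    Nonempty (CohB1.tensorPow (Twist.twistProjSpace N B 1) k ≅ Twist.twistProjSpace N B (k : ℤ)) := by
  induction k with
  | zero =>
    obtain ⟨e⟩ := nonempty_twistProjSpace_zero_iso N B
    exact ⟨e⟩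
  | succ k ih =>
    obtain ⟨e⟩ := ih
    obtain ⟨t⟩ := nonempty_twistProjSpace_tensor_iso N B (k : ℤ) 1
    rw [Nat.cast_succ]
    exact ⟨tensorRightCongr e _ ≪≫ t⟩

end Pn

section A3

/-- the bookkeeping isomorphism `(M ⊗ L^r) ⊗ j^* O(k) ≅ M ⊗ L^(r + d k)` when `j^* O(1) ≅ L^d`. -/
theorem nonempty_twist_iso {X : Scheme.{u}} (N : ℕ) (B : Type u) [CommRing B]
    (j : X ⟶ CohB1.ProjSpace N B) (L : X.Modules) (hL : PicF.IsInvertible L) (d : ℕ)
    (e1 : (Scheme.Modules.pullback j).obj (Twist.twistProjSpace N B 1) ≅ CohB1.tensorPow L d)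
    (M : X.Modules) (r k : ℕ) :
    Nonempty (CohB1.tensorMod (CohB1.tensorMod M (CohB1.tensorPow L r))
        ((Scheme.Modules.pullback j).obj (Twist.twistProjSpace N B (k : ℤ))) ≅
      CohB1.tensorMod M (CohB1.tensorPow L (r + d * k))) := by
  obtain ⟨a⟩ := nonempty_tensorPow_twist_one_iso N B k
  obtain ⟨b⟩ := Groth.Agent.Lib.Helper23.PB.nonempty_pullback_tensorPow_iso j
    (Twist.twistProjSpace N B 1) (isInvertible_twistProjSpace N B 1) k
  obtain ⟨c⟩ := Groth.Agent.Lib.Helper23.SecTw.nonempty_tensorPow_tensorPow_iso L hL d k (d * k) rfl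
  -- `j^* O(k) ≅ L^(d k)`
  let φ : (Scheme.Modules.pullback j).obj (Twist.twistProjSpace N B (k : ℤ)) ≅
      CohB1.tensorPow L (d * k) :=
    ((Scheme.Modules.pullback j).mapIso a).symm ≪≫ b ≪≫ tensorPowCongr e1 k ≪≫ c
  exact ⟨tensorLeftCongr _ φ ≪≫ tensorAssocIso M _ _ ≪≫
    tensorLeftCongr M (tensorPowAdd L r (d * k))⟩

/-- **(A3)** Serre vanishing for an ample module on a scheme proper over a Noetherian ring. -/
theorem ampleVanishing (B : Type u) [CommRing B] [IsNoetherianRing B]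
    (hA1 : PnSubVanishing.{u}) (hA2 : AmpleEmbedding B) : AmpleVanishing B := by
  intro X f _ L hL M hM
  obtain ⟨d, N, j, hd, hj, hjf, ⟨e1⟩⟩ := hA2 X f L hL
  haveI : IsImmersion j := hj
  haveI : IsProper (j ≫ CohB1.ProjSpace.toSpec N B) := by rw [hjf]; infer_instance
  haveI : IsProper (CohB1.ProjSpace.toSpec N B) :=
    Groth.Agent.S9705.isProper_projSpace_toSpec N B
  haveI : IsProper j := IsProper.of_comp j (CohB1.ProjSpace.toSpec N B)
  haveI : IsClosedImmersion j :=
    Groth.Agent.R2.Lead.ChowI.isClosedImmersion_of_isImmersion_of_isProper j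
  have hLinv : PicF.IsInvertible L := hL.1
  have h1 : ∀ r : ℕ, ∃ m₀ : ℤ, ∀ m : ℤ, m₀ ≤ m → ∀ q : ℕ, 0 < q →
      Subsingleton (Coh.HH X (CohB1.tensorMod (CohB1.tensorMod M (CohB1.tensorPow L r))
        ((Scheme.Modules.pullback j).obj (Twist.twistProjSpace N B m))) q) := fun r =>
    hA1 N B X j _ (isCoh_tensorMod M _ hM
      (Groth.Agent.Lib.Helper23.SecTw.isInvertible_tensorPow hLinv r))
  choose m₀ hm₀ using h1
  let K : ℕ := (Finset.range d).sup (fun r => (m₀ r).toNat)
  refine ⟨d * K, fun n hn p hp => ?_⟩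
  have hk : K ≤ n / d := (Nat.le_div_iff_mul_le hd).mpr (by rw [mul_comm]; exact hn)
  have hr : n % d < d := Nat.mod_lt _ hd
  have hm : m₀ (n % d) ≤ ((n / d : ℕ) : ℤ) := by
    have h2 : (m₀ (n % d)).toNat ≤ K :=
      Finset.le_sup (f := fun r => (m₀ r).toNat) (Finset.mem_range.mpr hr)
    have h3 := Int.self_le_toNat (m₀ (n % d))
    omega
  have hsub := hm₀ (n % d) _ hm p hp
  obtain ⟨iso⟩ := nonempty_twist_iso N B j L hLinv d e1 M (n % d) (n / d)
  rw [Nat.mod_add_div] at iso
  exact subsingleton_HH_of_iso iso p hsub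

end A3

section A4

/-- **(A4)** on a Noetherian scheme, Serre vanishing for all coherent modules implies ampleness (from Serre's
`H¹`-criterion A0). -/
theorem vanishingAmple (hA0 : SerreCrit.{u}) : VanishingAmple.{u} := by
  intro X _ L hL hvan
  refine hA0 X L hL (fun I i hi hI => ?_)
  haveI : Mono i := hi
  have hIc : Coh.IsCoh I :=
    Groth.Agent.S0046.result X (Coh.structureModule X) I i
      (Groth.Agent.R2.H5.CohThick.isCoh_structureModule X) hI
  obtain ⟨n₀, hn₀⟩ := hvan I hIc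
  exact ⟨n₀, hn₀ (n₀ + 1) (Nat.le_succ _) 1 Nat.one_pos⟩

end A4

end Groth.Agent.R2.H55.AmpleVan
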