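import Mathlib
import Groth.Prelude.Def_Coh
import Groth.Prelude.Def_CohB1
import Groth.Prelude.Def_Pic
import Groth.Prelude.Def_ClSub2
import Groth.Agent.R2.H54AmpleSpec
import Groth.Agent.R2.H54ClosedImm
import Groth.Agent.R2.H55AmpleVan
import Groth.Agent.R2.H62CohDelta
import Groth.Agent.R2.H79TwistCalc
import Groth.Agent.Lib.Helper13PullbackUnit
import Groth.Agent.Lib.Helper20StalkExact
import Groth.Agent.Lib.Helper21ModTensor5
import Groth.Agent.Lib.Helper23TensorQCoh
import Groth.Agent.Lib.Helper23PB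
import Groth.Agent.Lib.Helper23QCohAbelian
import Groth.Agent.Lib.Helper23FinTypeLocal
import Groth.Agent.S0012
import Groth.Agent.S0019
import Groth.Agent.S0046
import Groth.Agent.S0786

/-!
# PROJ:ample, package A6 (`NilpotentGlue` = frozen S11562) (helper55)

`I J = 0`, `L` ample on `V(I)` and on `V(J)` ⟹ `L` ample on `X` (proper over a Noetherian ring): via the
cohomological criterion (A4) on `X`, the dévissage `0 → K → M → Q → 0` with `K = ker (M → i_* i^* M)` killed by `J`
and `Q = coim` killed by `I`, and Serre vanishing (A3) on `V(I)` and `V(J)`.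
-/

set_option autoImplicit false
set_option linter.style.haveILetI false
universe u

open CategoryTheory CategoryTheory.Limits AlgebraicGeometry Opposite

namespace Groth.Agent.R2.H55.AmpleNil

open Groth.Agent.R2.H79.TwistCalc Groth.Agent.R2.H54.AmpleSpec Groth.Agent.R2.H55.AmpleVan
  Groth.Agent.R2.H62.CohLES

section Algebra

/-- base change along a surjection `ψ`: the kernel of the universal `ψ`-semilinear map is `ker ψ • ⊤`. -/
theorem mem_smul_top_of_lift_of_surjective {R R' : Type u} [CommRing R] [CommRing R'] (ψ : R →+* R')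
    (hψ : Function.Surjective ψ) {M Q : Type u} [AddCommGroup M] [Module R M] [AddCommGroup Q]
    [Module R' Q] (φ : M →+ Q)
    (huniv : ∀ (N : Type u) [AddCommGroup N] [Module R' N] (l : M →+ N),
      (∀ (r : R) (m : M), l (r • m) = ψ r • l m) → ∃! l' : Q →ₗ[R'] N, ∀ m, l' (φ m) = l m)
    (m : M) (hm : φ m = 0) : m ∈ (RingHom.ker ψ • ⊤ : Submodule R M) := by
  set P : Submodule R M := RingHom.ker ψ • ⊤ with hP
  have htors : Module.IsTorsionBySet R (M ⧸ P) (RingHom.ker ψ : Set R) := by
    intro n r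
    induction n using Submodule.Quotient.induction_on with
    | H x =>
      rw [← Submodule.Quotient.mk_smul, Submodule.Quotient.mk_eq_zero]
      exact Submodule.smul_mem_smul r.2 Submodule.mem_top
  letI : Module (R ⧸ RingHom.ker ψ) (M ⧸ P) := htors.module
  letI : Module R' (M ⧸ P) :=
    Module.compHom (M ⧸ P) (RingHom.quotientKerEquivOfSurjective hψ).symm.toRingHom
  have hsm : ∀ (r : R) (n : M ⧸ P), ψ r • n = r • n := by
    intro r n
    change ((RingHom.quotientKerEquivOfSurjective hψ).symm (ψ r)) • n = r • n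
    have : (RingHom.quotientKerEquivOfSurjective hψ).symm (ψ r) =
        Ideal.Quotient.mk (RingHom.ker ψ) r := by
      rw [RingEquiv.symm_apply_eq]
      rfl
    rw [this]
    rfl
  obtain ⟨l', h1, -⟩ := huniv (M ⧸ P) P.mkQ.toAddMonoidHom (fun r x => by
    rw [hsm]
    exact map_smul P.mkQ r x)
  have h2 := h1 m
  rw [hm, map_zero] at h2
  exact (Submodule.Quotient.mk_eq_zero P).mp h2.symm

/-- consequence: an element `a` such that `a * ker ψ` kills `M` kills the kernel of the universal map. -/
theorem smul_eq_zero_of_lift_of_surjective' {R R' : Type u} [CommRing R] [CommRing R'] (ψ : R →+* R')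
    (hψ : Function.Surjective ψ) {M Q : Type u} [AddCommGroup M] [Module R M] [AddCommGroup Q]
    [Module R' Q] (φ : M →+ Q)
    (huniv : ∀ (N : Type u) [AddCommGroup N] [Module R' N] (l : M →+ N),
      (∀ (r : R) (m : M), l (r • m) = ψ r • l m) → ∃! l' : Q →ₗ[R'] N, ∀ m, l' (φ m) = l m)
    (a : R) (ha : ∀ b ∈ RingHom.ker ψ, ∀ x : M, (a * b) • x = 0) (m : M) (hm : φ m = 0) :
    a • m = 0 := by
  have h := mem_smul_top_of_lift_of_surjective ψ hψ φ huniv m hm
  refine Submodule.smul_induction_on h (fun b hb x _ => ?_) (fun x y hx hy => ?_)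
  · rw [smul_smul, ha b hb]
  · rw [smul_add, hx, hy, add_zero]

/-- consequence: an element `a` with `a * ker ψ = 0` kills the kernel of the universal map. -/
theorem smul_eq_zero_of_lift_of_surjective {R R' : Type u} [CommRing R] [CommRing R'] (ψ : R →+* R')
    (hψ : Function.Surjective ψ) {M Q : Type u} [AddCommGroup M] [Module R M] [AddCommGroup Q]
    [Module R' Q] (φ : M →+ Q)
    (huniv : ∀ (N : Type u) [AddCommGroup N] [Module R' N] (l : M →+ N),
      (∀ (r : R) (m : M), l (r • m) = ψ r • l m) → ∃! l' : Q →ₗ[R'] N, ∀ m, l' (φ m) = l m)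
    (a : R) (ha : ∀ b ∈ RingHom.ker ψ, a * b = 0) (m : M) (hm : φ m = 0) : a • m = 0 :=
  smul_eq_zero_of_lift_of_surjective' ψ hψ φ huniv a
    (fun b hb x => by rw [ha b hb, zero_smul]) m hm

end Algebra

section Pieces

open Scheme.Modules Groth.Agent.Helper13PullbackUnit

variable {X : Scheme.{u}} (I : X.IdealSheafData) (M : X.Modules)

/-- the unit `M ⟶ i_* i^* M` for the closed subscheme `i : V(I) ⟶ X`. -/
noncomputable abbrev η :
    M ⟶ (Scheme.Modules.pushforward I.subschemeι).obj ((Scheme.Modules.pullback I.subschemeι).obj M) :=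
  (Scheme.Modules.pullbackPushforwardAdjunction I.subschemeι).unit.app M

/-- sections of `M` over an affine open which die in `i_* i^* M` are killed by every `a` such that `a I(U)`
kills `M(U)`. -/
theorem smul_eq_zero_of_η_app_eq_zero' [M.IsQuasicoherent] (U : X.affineOpens) (a : Γ(X, U.1))
    (ha : ∀ b ∈ I.ideal U, ∀ x : Γ(M, U.1), (a * b) • x = 0) (m : Γ(M, U.1))
    (hm : (η I M).app U.1 m = 0) : a • m = 0 := by
  have hU' : IsAffineOpen (I.subschemeι ⁻¹ᵁ U.1) := U.2.preimage I.subschemeι
  have hle : I.subschemeι ⁻¹ᵁ U.1 ≤ I.subschemeι ⁻¹ᵁ U.1 := le_rfl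
  refine smul_eq_zero_of_lift_of_surjective'
    (I.subschemeι.appLE U.1 (I.subschemeι ⁻¹ᵁ U.1) hle).hom ?_ (unitSec I.subschemeι M hle)
    (fun N _ _ l hl => existsUnique_lift I.subschemeι M U.2 hU' hle N l hl) a ?_ m ?_
  · rw [Scheme.Hom.appLE_eq_app]
    exact I.subschemeι_app_surjective U
  · intro b hb
    rw [Scheme.Hom.appLE_eq_app, I.ker_subschemeι_app U] at hb
    exact ha b hb
  · rw [unitSec_apply, hm]
    exact map_zero (((Scheme.Modules.pullback I.subschemeι).obj M).presheaf.map (homOfLE hle).op).hom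

/-- sections of `M` over an affine open which die in `i_* i^* M` are killed by every `a` with `a I(U) = 0`. -/
theorem smul_eq_zero_of_η_app_eq_zero [M.IsQuasicoherent] (U : X.affineOpens) (a : Γ(X, U.1))
    (ha : ∀ b ∈ I.ideal U, a * b = 0) (m : Γ(M, U.1)) (hm : (η I M).app U.1 m = 0) : a • m = 0 :=
  smul_eq_zero_of_η_app_eq_zero' I M U a (fun b hb x => by rw [ha b hb, zero_smul]) m hm

/-- the dévissage sequence `0 → ker η → M → coim η → 0`. -/
noncomputable abbrev SC : ShortComplex X.Modules := ShortComplex.cokernelSequence (kernel.ι (η I M))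

theorem SC_shortExact : (SC I M).ShortExact := by
  haveI : Mono (SC I M).f := inferInstanceAs (Mono (kernel.ι (η I M)))
  exact { exact := ShortComplex.cokernelSequence_exact _ }

/-- `ker (M → i_* i^* M)` is killed by `J` as soon as `M` is killed by `I J`. -/
theorem killedByIdeal_kernel_of_mul [M.IsQuasicoherent] (J : X.IdealSheafData)
    (hk : ClSub.KilledByIdeal (I * J) M) : ClSub.KilledByIdeal J (kernel (η I M)) := by
  intro U a ha m'
  suffices key : ∀ m : Γ(kernel (η I M), U.1), a • m = 0 from key m'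
  intro m
  apply Groth.Agent.Lib.Helper20.StalkExact.injective_app_of_mono (kernel.ι (η I M)) U.1
  rw [Scheme.Modules.Hom.app_smul]
  have h0 : (η I M).app U.1 ((kernel.ι (η I M)).app U.1 m) = 0 := by
    have h1 : (kernel.ι (η I M) ≫ η I M).app U.1 m = 0 := by
      rw [kernel.condition]
      rfl
    exact h1
  rw [smul_eq_zero_of_η_app_eq_zero' I M U a (fun b hb x => ?_) _ h0]
  · exact (map_zero _).symm
  · have h2 : b * a ∈ (I * J).ideal U := by
      rw [Scheme.IdealSheafData.ideal_mul]
      exact Ideal.mul_mem_mul hb ha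
    rw [mul_comm]
    exact hk U (b * a) h2 x

/-- `ker (M → i_* i^* M)` is killed by any ideal `J` with `I J = 0`. -/
theorem killedByIdeal_kernel [M.IsQuasicoherent] (J : X.IdealSheafData) (hIJ : I * J = ⊥) :
    ClSub.KilledByIdeal J (kernel (η I M)) := by
  refine killedByIdeal_kernel_of_mul I M J (fun U a ha m => ?_)
  rw [hIJ, Scheme.IdealSheafData.ideal_bot] at ha
  rw [show a = 0 from ha]
  exact zero_smul _ m

/-- `coim (M → i_* i^* M)` is killed by `I`. -/
theorem killedByIdeal_coimage : ClSub.KilledByIdeal I (Abelian.coimage (η I M)) := by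
  intro U a ha q'
  suffices key : ∀ q : Γ(Abelian.coimage (η I M), U.1), a • q = 0 from key q'
  intro q
  apply Groth.Agent.Lib.Helper20.StalkExact.injective_app_of_mono
    (Abelian.factorThruCoimage (η I M)) U.1
  rw [Scheme.Modules.Hom.app_smul, pushforward_smul]
  have h1 : (I.subschemeι.app U.1) a = 0 := by
    rw [← I.ker_subschemeι_app U] at ha
    exact ha
  rw [h1, zero_smul]
  exact (map_zero _).symm

end Pieces

section Transfer

open Groth.Agent.R2.H54.ClosedImm Groth.Agent.Lib.Helper21.ModTensor5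

variable {Z X : Scheme.{u}} (i : Z ⟶ X)

/-- pullbacks of coherent modules are coherent. -/
theorem isCoh_pullback (M : X.Modules) (hM : Coh.IsCoh M) :
    Coh.IsCoh ((Scheme.Modules.pullback i).obj M) := by
  haveI : M.IsQuasicoherent := hM.1
  haveI : SheafOfModules.IsFiniteType (R := X.ringCatSheaf) M := hM.2
  exact ⟨Groth.Agent.Lib.Helper2.PullbackSec.isQuasicoherent_pullback i M,
    Groth.Agent.Lib.Helper20.FormalPull.isFiniteType_pullback i M⟩

variable [IsClosedImmersion i]

/-- the projection formula `i_* (F ⊗ i^* H) ≅ (i_* F) ⊗ H` for a closed immersion (helper54's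
`H54AmpleA1.pushTensorPullIso`, from `H54ClosedImm.pfApp`). -/
noncomputable def pushTensorPullIso (F : Z.Modules) (H : X.Modules) :
    (Coh.push i).obj (CohB1.tensorMod F ((Scheme.Modules.pullback i).obj H)) ≅
      CohB1.tensorMod ((Coh.push i).obj F) H :=
  (Coh.push i).mapIso (((brd Z.sheaf).app F).app ((Scheme.Modules.pullback i).obj H)) ≪≫
    (pfApp i F H).symm ≪≫ (((brd X.sheaf).app ((Coh.push i).obj F)).app H).symm

/-- cohomology of `(i_* G) ⊗ L^n` on `X` vanishes as soon as that of `G ⊗ (i^* L)^n` on `Z` does. -/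
theorem subsingleton_HH_push_tensorPow (G : Z.Modules) [G.IsQuasicoherent] (L : X.Modules)
    (hL : PicF.IsInvertible L) (n p : ℕ)
    (h : Subsingleton (Coh.HH Z
      (CohB1.tensorMod G (CohB1.tensorPow ((Scheme.Modules.pullback i).obj L) n)) p)) :
    Subsingleton (Coh.HH X
      (CohB1.tensorMod ((Scheme.Modules.pushforward i).obj G) (CohB1.tensorPow L n)) p) := by
  obtain ⟨b⟩ := Groth.Agent.Lib.Helper23.PB.nonempty_pullback_tensorPow_iso i L hL n
  have hLn : PicF.IsInvertible (CohB1.tensorPow L n) :=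
    Groth.Agent.Lib.Helper23.SecTw.isInvertible_tensorPow hL n
  have h' : Subsingleton (Coh.HH Z
      (CohB1.tensorMod G ((Scheme.Modules.pullback i).obj (CohB1.tensorPow L n))) p) :=
    subsingleton_HH_of_iso (tensorLeftCongr G b.symm) p h
  haveI : (CohB1.tensorPow L n).IsQuasicoherent :=
    Groth.Agent.Lib.Helper23.SecTw.isQuasicoherent_of_isInvertible _ hLn
  haveI : ((Scheme.Modules.pullback i).obj (CohB1.tensorPow L n)).IsQuasicoherent :=
    Groth.Agent.Lib.Helper2.PullbackSec.isQuasicoherent_pullback i _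
  haveI : Coh.IsQCoh (CohB1.tensorMod G ((Scheme.Modules.pullback i).obj (CohB1.tensorPow L n))) :=
    Groth.Agent.Lib.Helper23.TensorQCoh.isQuasicoherent_tensorMod _ _
  obtain ⟨e⟩ := Groth.Agent.S0012.result i
    (CohB1.tensorMod G ((Scheme.Modules.pullback i).obj (CohB1.tensorPow L n))) p
  have h'' : Subsingleton (Coh.HH X ((Coh.push i).obj
      (CohB1.tensorMod G ((Scheme.Modules.pullback i).obj (CohB1.tensorPow L n)))) p) :=
    e.symm.toEquiv.subsingleton
  exact subsingleton_HH_of_iso (pushTensorPullIso i G (CohB1.tensorPow L n)) p h''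

end Transfer

section Main

open Groth.Agent.Lib.Helper23.QCohLocal Groth.Agent.Lib.Helper23.FinType

/-- Serre vanishing on `X` for a coherent module killed by an ideal `I` such that `L` is ample on `V(I)`. -/
theorem vanishing_of_killedByIdeal (A : Type u) [CommRing A] (hA3 : AmpleVanishing A) {X : Scheme.{u}}
    (f : X ⟶ Spec (CommRingCat.of A)) [IsProper f] [IsLocallyNoetherian X] (L : X.Modules)
    (hL : PicF.IsInvertible L) (I : X.IdealSheafData)
    (hI : CohB1.IsAmple ((Scheme.Modules.pullback I.subschemeι).obj L))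
    (F : X.Modules) (hF : Coh.IsCoh F) (hk : ClSub.KilledByIdeal I F) :
    ∃ n₀ : ℕ, ∀ n : ℕ, n₀ ≤ n → ∀ p : ℕ, 0 < p →
      Subsingleton (Coh.HH X (CohB1.tensorMod F (CohB1.tensorPow L n)) p) := by
  obtain ⟨G, hG, ⟨e⟩⟩ := Groth.Agent.S0786.result I.subschemeι F hF (by
    rw [I.ker_subschemeι]
    exact hk)
  obtain ⟨n₀, hn₀⟩ := hA3 I.subscheme (I.subschemeι ≫ f) _ hI G hG
  refine ⟨n₀, fun n hn p hp => ?_⟩
  haveI : G.IsQuasicoherent := hG.1
  exact subsingleton_HH_of_iso (tensorRightCongr e _) p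
    (subsingleton_HH_push_tensorPow I.subschemeι G L hL n p (hn₀ n hn p hp))

/-- **(A6)** `I J = 0`, `L` ample on `V(I)` and on `V(J)` ⟹ `L` ample (= frozen `S11562`), from A3 and A4. -/
theorem nilpotentGlue (A : Type u) [CommRing A] [IsNoetherianRing A]
    (hA3 : ∀ (B : Type u) [CommRing B] [IsNoetherianRing B], AmpleVanishing B)
    (hA4 : VanishingAmple.{u}) : NilpotentGlue A := by
  intro X _ _ L hL I J hIJ hI hJ
  haveI : IsLocallyNoetherian X :=
    LocallyOfFiniteType.isLocallyNoetherian (X ↘ Spec (CommRingCat.of A))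
  haveI : CompactSpace X :=
    QuasiCompact.compactSpace_of_compactSpace (X ↘ Spec (CommRingCat.of A))
  haveI : IsNoetherian X := {}
  refine hA4 X L hL (fun M hM => ?_)
  haveI : M.IsQuasicoherent := hM.1
  haveI : SheafOfModules.IsFiniteType (R := X.ringCatSheaf) M := hM.2
  have hN : Coh.IsCoh ((Scheme.Modules.pushforward I.subschemeι).obj
      ((Scheme.Modules.pullback I.subschemeι).obj M)) :=
    Groth.Agent.S0019.result I.subschemeι _ (isCoh_pullback _ M hM)
  haveI := hN.1
  have hKq : (kernel (η I M)).IsQuasicoherent := isQuasicoherent_kernel (η I M)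
  have hK : Coh.IsCoh (kernel (η I M)) :=
    Groth.Agent.S0046.result X M _ (kernel.ι (η I M)) hM hKq
  have hQq : (Abelian.coimage (η I M)).IsQuasicoherent :=
    isQuasicoherent_cokernel (kernel.ι (η I M))
  have hQ : Coh.IsCoh (Abelian.coimage (η I M)) :=
    ⟨hQq, isFiniteType_of_epi (cokernel.π (kernel.ι (η I M)))⟩
  obtain ⟨n₁, h₁⟩ := vanishing_of_killedByIdeal A (hA3 A) (X ↘ Spec (CommRingCat.of A)) L hL J hJ _ hK
    (killedByIdeal_kernel I M J hIJ)
  obtain ⟨n₂, h₂⟩ := vanishing_of_killedByIdeal A (hA3 A) (X ↘ Spec (CommRingCat.of A)) L hL I hI _ hQ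
    (killedByIdeal_coimage I M)
  refine ⟨max n₁ n₂, fun n hn p hp => ?_⟩
  have hLn : PicF.IsInvertible (CohB1.tensorPow L n) :=
    Groth.Agent.Lib.Helper23.SecTw.isInvertible_tensorPow hL n
  have hS := shortExact_map_tensorRightF (CohB1.tensorPow L n) hLn (SC I M) (SC_shortExact I M)
  have hex := exact_f_g hS p
  have s₁ : Subsingleton (Coh.HH X ((SC I M).map (tensorRightF (CohB1.tensorPow L n))).X₁ p) :=
    h₁ n (le_trans (le_max_left _ _) hn) p hp
  have s₃ : Subsingleton (Coh.HH X ((SC I M).map (tensorRightF (CohB1.tensorPow L n))).X₃ p) :=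
    h₂ n (le_trans (le_max_right _ _) hn) p hp
  have h0 : ∀ x : Coh.HH X ((SC I M).map (tensorRightF (CohB1.tensorPow L n))).X₂ p, x = 0 := by
    intro x
    obtain ⟨y, rfl⟩ := (hex x).mp (Subsingleton.elim _ _)
    rw [Subsingleton.elim y 0, map_zero]
  exact ⟨fun a b => (h0 a).trans (h0 b).symm⟩

end Main

end Groth.Agent.R2.H55.AmpleNil
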