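import Mathlib
import Groth.Agent.R2.H1Tower
import Groth.Agent.R2.H55AmpleNil
import Groth.Agent.R2.H16ClosedImmAdj
import Groth.Agent.Lib.Helper13ModAffine
import Groth.Agent.S9530
import Groth.Agent.S0019

/-!
# Adic towers of schemes: modules (helper1)

For a compatible system `F k` of quasi-coherent modules on the levels `Xs k` of an adic tower:
* `μ k M a` : multiplication by `a : A` on a module on `Xs k`;
* `tr k : F (k+1) ⟶ i_* F k` the transition epimorphism, `P k = ker (tr k)` (`= J^(k+1) F (k+1)`), killed by `J`;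
* `ν k a : i_* F k ⟶ F (k+1)`, "multiplication by `a ∈ J` lifted one level";
* `τ k a : i_* P k ⟶ P (k+1)` and their commutation.
-/

set_option autoImplicit false
set_option linter.style.haveILetI false
universe u
open CategoryTheory CategoryTheory.Limits AlgebraicGeometry TopologicalSpace Opposite

namespace Groth.Agent.R2.H1.TowerMod

open Groth.Agent.R2.H1.Tower Groth.Agent.R2.H1.FibreKer Scheme.Modules

section Algebra

/-- the universal semilinear map along a surjection is surjective -/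
theorem surjective_of_lift_of_surjective {R R' : Type u} [CommRing R] [CommRing R'] (ψ : R →+* R')
    (hψ : Function.Surjective ψ) {M Q : Type u} [AddCommGroup M] [Module R M] [AddCommGroup Q]
    [Module R' Q] (φ : M →+ Q) (hφ : ∀ (r : R) (m : M), φ (r • m) = ψ r • φ m)
    (huniv : ∀ (N : Type u) [AddCommGroup N] [Module R' N] (l : M →+ N),
      (∀ (r : R) (m : M), l (r • m) = ψ r • l m) → ∃! l' : Q →ₗ[R'] N, ∀ m, l' (φ m) = l m) :
    Function.Surjective φ := by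
  let P : Submodule R' Q :=
    { carrier := Set.range φ
      add_mem' := by
        rintro _ _ ⟨a, rfl⟩ ⟨b, rfl⟩
        exact ⟨a + b, map_add φ a b⟩
      zero_mem' := ⟨0, map_zero φ⟩
      smul_mem' := by
        rintro c _ ⟨a, rfl⟩
        obtain ⟨r, rfl⟩ := hψ c
        exact ⟨r • a, hφ r a⟩ }
  obtain ⟨l', -, huniq⟩ := huniv (Q ⧸ P) 0 (fun r m => by simp)
  have h1 : P.mkQ = l' := huniq P.mkQ (fun m => by
    change P.mkQ (φ m) = 0
    rw [Submodule.mkQ_apply, Submodule.Quotient.mk_eq_zero]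
    exact ⟨m, rfl⟩)
  have h2 : (0 : Q →ₗ[R'] Q ⧸ P) = l' := huniq 0 (fun m => rfl)
  intro y
  have h3 : P.mkQ y = 0 := by rw [h1, ← h2]; rfl
  rw [Submodule.mkQ_apply, Submodule.Quotient.mk_eq_zero] at h3
  exact h3

end Algebra

section OneStep

open Groth.Agent.Helper13PullbackUnit

variable {Z X : Scheme.{u}} (i : Z ⟶ X) (F : X.Modules) (G : Z.Modules)
  (ψ : (Scheme.Modules.pullback i).obj F ≅ G)

/-- the transition `F ⟶ i_* G` attached to `ψ : i^* F ≅ G` -/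
noncomputable def trans : F ⟶ (pushforward i).obj G :=
  (pullbackPushforwardAdjunction i).unit.app F ≫ (pushforward i).map ψ.hom

/-- sections of an isomorphism of modules, as a linear equivalence -/
noncomputable def appEquiv {Y : Scheme.{u}} {M N : Y.Modules} (e : M ≅ N) (U : Y.Opens) :
    Γ(M, U) ≃ₗ[Γ(Y, U)] Γ(N, U) where
  toFun x := e.hom.app U x
  invFun y := e.inv.app U y
  map_add' x y := map_add _ x y
  map_smul' r x := Scheme.Modules.Hom.app_smul e.hom r x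
  left_inv x := by
    have := congrArg (fun φ : M ⟶ M => φ.app U x) e.hom_inv_id
    exact this
  right_inv y := by
    have := congrArg (fun φ : N ⟶ N => φ.app U y) e.inv_hom_id
    exact this

theorem trans_app (U : X.Opens) (m : Γ(F, U)) :
    (trans i F G ψ).app U m = appEquiv ψ (i ⁻¹ᵁ U) (unitSec i F (le_refl (i ⁻¹ᵁ U)) m) := by
  have h1 : ∀ z : Γ((Scheme.Modules.pullback i).obj F, i ⁻¹ᵁ U),
      ((Scheme.Modules.pullback i).obj F).presheaf.map (homOfLE (le_refl (i ⁻¹ᵁ U))).op z = z := by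
    intro z
    have h0 : (homOfLE (le_refl (i ⁻¹ᵁ U))).op = 𝟙 (op (i ⁻¹ᵁ U)) := rfl
    rw [h0, CategoryTheory.Functor.map_id]
    rfl
  rw [unitSec_apply, h1]
  rfl

theorem trans_smul (U : X.Opens) (r : Γ(X, U)) (m : Γ(F, U)) :
    (trans i F G ψ).app U (r • m) =
      ((i.app U r) • (show Γ(G, i ⁻¹ᵁ U) from (trans i F G ψ).app U m) : Γ(G, i ⁻¹ᵁ U)) := by
  rw [Scheme.Modules.Hom.app_smul]
  rfl

variable [F.IsQuasicoherent] {U : X.Opens} (hU : IsAffineOpen U) (hU' : IsAffineOpen (i ⁻¹ᵁ U))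

include hU hU' in
/-- universal property of the sections of the transition map over an affine open -/
theorem huniv_trans (N : Type u) [AddCommGroup N] [Module Γ(Z, i ⁻¹ᵁ U) N] (l : Γ(F, U) →+ N)
    (hl : ∀ (r : Γ(X, U)) (x : Γ(F, U)), l (r • x) = ((i.app U).hom r : Γ(Z, i ⁻¹ᵁ U)) • l x) :
    ∃! l' : Γ(G, i ⁻¹ᵁ U) →ₗ[Γ(Z, i ⁻¹ᵁ U)] N,
      ∀ x : Γ(F, U), l' ((trans i F G ψ).app U x) = l x := by
  have hle : i ⁻¹ᵁ U ≤ i ⁻¹ᵁ U := le_rfl
  obtain ⟨l'', h1, h2⟩ := existsUnique_lift i F hU hU' hle N l (fun r x => by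
    rw [hl, Scheme.Hom.appLE_eq_app])
  refine ⟨l''.comp (appEquiv ψ (i ⁻¹ᵁ U)).symm.toLinearMap, fun x => ?_, fun l₂ hl₂ => ?_⟩
  · rw [trans_app]
    simp only [LinearMap.coe_comp, LinearEquiv.coe_coe, Function.comp_apply, LinearEquiv.symm_apply_apply]
    exact h1 x
  · have := h2 (l₂.comp (appEquiv ψ (i ⁻¹ᵁ U)).toLinearMap) (fun x => by
      simp only [LinearMap.coe_comp, LinearEquiv.coe_coe, Function.comp_apply]
      rw [← trans_app]
      exact hl₂ x)
    rw [← this]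
    ext y
    simp

section closed

variable [IsClosedImmersion i]

include hU in
theorem trans_app_surjective : Function.Surjective ((trans i F G ψ).app U) := by
  have hU' : IsAffineOpen (i ⁻¹ᵁ U) := hU.preimage i
  have h := surjective_of_lift_of_surjective (i.app U).hom (i.app_surjective U hU)
    (M := Γ(F, U)) (Q := Γ(G, i ⁻¹ᵁ U)) ((trans i F G ψ).app U).hom
    (fun r m => trans_smul i F G ψ U r m)
    (fun N _ _ l hl => huniv_trans i F G ψ hU hU' N l hl)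
  exact h

include hU in
theorem mem_smul_top_of_trans_app_eq_zero (m : Γ(F, U)) (hm : (trans i F G ψ).app U m = 0) :
    m ∈ (RingHom.ker (i.app U).hom • ⊤ : Submodule Γ(X, U) Γ(F, U)) := by
  have hU' : IsAffineOpen (i ⁻¹ᵁ U) := hU.preimage i
  exact Groth.Agent.R2.H55.AmpleNil.mem_smul_top_of_lift_of_surjective (i.app U).hom
    (i.app_surjective U hU) (M := Γ(F, U)) (Q := Γ(G, i ⁻¹ᵁ U)) ((trans i F G ψ).app U).hom
    (fun N _ _ l hl => huniv_trans i F G ψ hU hU' N l hl) m hm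

omit [F.IsQuasicoherent] in
theorem epi_trans' [F.IsQuasicoherent] : Epi (trans i F G ψ) := by
  refine Groth.Agent.Lib.Helper23.Serre.epi_of_locally_surjective _ (fun V t x hx => ?_)
  obtain ⟨_, ⟨W, hW, rfl⟩, hxW, hWV⟩ :=
    X.isBasis_affineOpens.exists_subset_of_mem_open hx V.2
  obtain ⟨s, hs⟩ := trans_app_surjective i F G ψ (U := W) hW
    (((pushforward i).obj G).presheaf.map (homOfLE hWV).op t)
  exact ⟨W, hWV, hxW, s, hs⟩

end closed

end OneStep

/-- an adic tower of schemes over `Spec (A/J^(k+1))` -/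
structure Sys {A : Type u} [CommRing A] (J : Ideal A) where
  /-- the levels -/
  Xs : ℕ → Scheme.{u}
  /-- the structure morphisms -/
  p : (k : ℕ) → (Xs k ⟶ Spec (CommRingCat.of (A ⧸ J ^ (k + 1))))
  /-- the transition closed immersions -/
  i : (k : ℕ) → (Xs k ⟶ Xs (k + 1))
  hcart : ∀ k, IsPullback (i k) (p k) (p (k + 1)) (CohB1.specQuotTrans J k)

namespace Sys

variable {A : Type u} [CommRing A] {J : Ideal A} (T : Sys J)

/-- the structure morphism to `Spec A` -/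
noncomputable abbrev q (k : ℕ) : T.Xs k ⟶ Spec (CommRingCat.of A) := Tower.q J T.Xs T.p k

/-- the closed immersion of the bottom level -/
noncomputable abbrev j (k : ℕ) : T.Xs 0 ⟶ T.Xs k := Tower.j T.Xs T.i k

instance (k : ℕ) : IsClosedImmersion (T.i k) := isClosedImmersion_i J T.Xs T.p T.i T.hcart k
instance (k : ℕ) : Surjective (T.i k) := surjective_i J T.Xs T.p T.i T.hcart k
instance (k : ℕ) : IsClosedImmersion (T.j k) := isClosedImmersion_j J T.Xs T.p T.i T.hcart k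
instance (k : ℕ) : Surjective (T.j k) := surjective_j J T.Xs T.p T.i T.hcart k

theorem i_q (k : ℕ) : T.i k ≫ T.q (k + 1) = T.q k := Tower.i_q J T.Xs T.p T.i T.hcart k

/-- multiplication by `a : A` on a module on level `k` -/
noncomputable def μ (k : ℕ) (M : (T.Xs k).Modules) (a : A) : M ⟶ M :=
  @Formal.smulMod A _ (T.Xs k) ⟨T.q k⟩ M a

theorem μ_app (k : ℕ) (M : (T.Xs k).Modules) (a : A) (U : (T.Xs k).Opens) (m : Γ(M, U)) :
    (T.μ k M a).app U m = (ρ (T.q k) U).hom a • m := rfl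

@[reassoc]
theorem μ_comp (k : ℕ) {M N : (T.Xs k).Modules} (φ : M ⟶ N) (a : A) :
    T.μ k M a ≫ φ = φ ≫ T.μ k N a :=
  @Groth.Agent.S9530.smulMod_comp A _ (T.Xs k) ⟨T.q k⟩ M N φ a

theorem μ_comm (k : ℕ) (M : (T.Xs k).Modules) (a b : A) :
    T.μ k M a ≫ T.μ k M b = T.μ k M b ≫ T.μ k M a :=
  T.μ_comp k (T.μ k M b) a

theorem ρ_eq_zero (k : ℕ) (U : (T.Xs k).Opens) (a : A) (ha : a ∈ J ^ (k + 1)) :
    (ρ (T.q k) U).hom a = 0 := ρ_q_eq_zero J T.Xs T.p k U a ha

theorem map_ρ_eq_bot (k : ℕ) (U : (T.Xs k).Opens) :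
    Ideal.map (ρ (T.q k) U).hom (J ^ (k + 1)) = ⊥ := by
  rw [eq_bot_iff, Ideal.map_le_iff_le_comap]
  intro a ha
  rw [Ideal.mem_comap, Ideal.mem_bot]
  exact T.ρ_eq_zero k U a ha

theorem μ_eq_zero (k : ℕ) (M : (T.Xs k).Modules) (a : A) (ha : a ∈ J ^ (k + 1)) :
    T.μ k M a = 0 := by
  apply Scheme.Modules.hom_ext
  intro U
  ext m
  rw [μ_app, T.ρ_eq_zero k U a ha, zero_smul]
  rfl

theorem push_μ (k : ℕ) (M : (T.Xs k).Modules) (a : A) :
    (pushforward (T.i k)).map (T.μ k M a) = T.μ (k + 1) ((pushforward (T.i k)).obj M) a := by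
  apply Scheme.Modules.hom_ext
  intro U
  ext m
  have h1 : ((pushforward (T.i k)).map (T.μ k M a)).app U m =
      (ρ (T.q k) (T.i k ⁻¹ᵁ U)).hom a • (show Γ(M, T.i k ⁻¹ᵁ U) from m) := rfl
  have h2 : (T.μ (k + 1) ((pushforward (T.i k)).obj M) a).app U m =
      (ρ (T.q (k + 1)) U).hom a • m := rfl
  rw [h1, h2, Groth.Agent.Helper13PullbackUnit.pushforward_smul, ρ_comp, T.i_q]

theorem ker_app_i (k : ℕ) {U : (T.Xs (k + 1)).Opens} (hU : IsAffineOpen U) :
    RingHom.ker ((T.i k).app U).hom = Ideal.map (ρ (T.q (k + 1)) U).hom (J ^ (k + 1)) :=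
  Tower.ker_app_i J T.Xs T.p T.i T.hcart k hU

/-- elements of `J Γ(X_(k+1), U)` kill `J^(k+1) N` -/
theorem smul_eq_zero_of_mem' (k : ℕ) (U : (T.Xs (k + 1)).Opens) {N : Type*} [AddCommGroup N]
    [Module Γ(T.Xs (k + 1), U) N] (r : Γ(T.Xs (k + 1), U))
    (hr : r ∈ Ideal.map (ρ (T.q (k + 1)) U).hom J) (z : N)
    (hz : z ∈ (Ideal.map (ρ (T.q (k + 1)) U).hom (J ^ (k + 1)) • ⊤ : Submodule Γ(T.Xs (k + 1), U) N)) :
    r • z = 0 := by
  refine Submodule.smul_induction_on hz (fun b hb x _ => ?_) (fun x y hx hy => ?_)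
  · have h1 : r * b ∈ Ideal.map (ρ (T.q (k + 1)) U).hom (J ^ (k + 1 + 1)) := by
      rw [pow_succ' J (k + 1), Ideal.map_mul]
      exact Ideal.mul_mem_mul hr hb
    rw [T.map_ρ_eq_bot (k + 1) U, Ideal.mem_bot] at h1
    rw [smul_smul, h1, zero_smul]
  · rw [smul_add, hx, hy, add_zero]

/-- elements of `J` kill `J^(k+1) N` -/
theorem smul_eq_zero_of_mem (k : ℕ) (U : (T.Xs (k + 1)).Opens) {N : Type*} [AddCommGroup N]
    [Module Γ(T.Xs (k + 1), U) N] (a : A) (ha : a ∈ J) (z : N)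
    (hz : z ∈ (Ideal.map (ρ (T.q (k + 1)) U).hom (J ^ (k + 1)) • ⊤ : Submodule Γ(T.Xs (k + 1), U) N)) :
    (ρ (T.q (k + 1)) U).hom a • z = 0 :=
  T.smul_eq_zero_of_mem' k U _ (Ideal.mem_map_of_mem _ ha) z hz

theorem app_comp_ρ (k : ℕ) (U : (T.Xs (k + 1)).Opens) :
    ((T.i k).app U).hom.comp (ρ (T.q (k + 1)) U).hom = (ρ (T.q k) (T.i k ⁻¹ᵁ U)).hom := by
  ext a
  rw [RingHom.comp_apply, ρ_comp, T.i_q]

/-- a compatible system of quasi-coherent modules on the tower -/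
structure Mod where
  /-- the modules -/
  F : (k : ℕ) → (T.Xs k).Modules
  /-- the compatibility isomorphisms -/
  ψ : ∀ k, (Scheme.Modules.pullback (T.i k)).obj (F (k + 1)) ≅ F k
  hq : ∀ k, (F k).IsQuasicoherent

namespace Mod

variable {T} (S : T.Mod)

instance (k : ℕ) : (S.F k).IsQuasicoherent := S.hq k

/-- the transition `F (k+1) ⟶ i_* F k` -/
noncomputable def tr (k : ℕ) : S.F (k + 1) ⟶ (pushforward (T.i k)).obj (S.F k) :=
  trans (T.i k) (S.F (k + 1)) (S.F k) (S.ψ k)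

instance (k : ℕ) : Epi (S.tr k) := epi_trans' (T.i k) (S.F (k + 1)) (S.F k) (S.ψ k)

/-- `P k = ker (F (k+1) ⟶ i_* F k) = J^(k+1) F (k+1)` -/
noncomputable abbrev P (k : ℕ) : (T.Xs (k + 1)).Modules := kernel (S.tr k)

/-- the inclusion `P k ⟶ F (k+1)` -/
noncomputable abbrev ιP (k : ℕ) : S.P k ⟶ S.F (k + 1) := kernel.ι (S.tr k)

theorem tr_app_ιP (k : ℕ) (U : (T.Xs (k + 1)).Opens) (m : Γ(S.P k, U)) :
    (S.tr k).app U ((S.ιP k).app U m) = 0 := by
  have h1 : (S.ιP k ≫ S.tr k).app U m = 0 := by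
    rw [kernel.condition]
    rfl
  exact h1

/-- sections of `P k` over an affine open lie in `J^(k+1) Γ(F (k+1), U)` -/
theorem ιP_app_mem (k : ℕ) {U : (T.Xs (k + 1)).Opens} (hU : IsAffineOpen U) (m : Γ(S.P k, U)) :
    (S.ιP k).app U m ∈ (Ideal.map (ρ (T.q (k + 1)) U).hom (J ^ (k + 1)) • ⊤ :
      Submodule Γ(T.Xs (k + 1), U) Γ(S.F (k + 1), U)) := by
  rw [← T.ker_app_i k hU]
  exact mem_smul_top_of_trans_app_eq_zero (T.i k) (S.F (k + 1)) (S.F k) (S.ψ k) hU _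
    (S.tr_app_ιP k U m)

/-- `P k` is killed by `J` -/
theorem μ_P_eq_zero (k : ℕ) (a : A) (ha : a ∈ J) : T.μ (k + 1) (S.P k) a = 0 := by
  apply Groth.Agent.Helper13ModAffine.hom_ext_affine
  intro U hU
  ext m
  apply Groth.Agent.Lib.Helper20.StalkExact.injective_app_of_mono (S.ιP k) U
  have h1 : (S.ιP k).app U ((T.μ (k + 1) (S.P k) a).app U m) =
      (T.μ (k + 1) (S.F (k + 1)) a).app U ((S.ιP k).app U m) := by
    have := congrArg (fun φ : S.P k ⟶ S.F (k + 1) => φ.app U m) (T.μ_comp (k + 1) (S.ιP k) a)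
    exact this
  rw [h1, μ_app, T.smul_eq_zero_of_mem k U a ha _ (S.ιP_app_mem k hU m)]
  exact (map_zero _).symm

instance (k : ℕ) : (pushforward (T.i k)).PreservesEpimorphisms := by
  haveI := Groth.Agent.R2.H16.ClosedImmAdj.isLeftAdjoint_pushforward_of_isClosedImmersion (T.i k)
  infer_instance

/-- multiplication by `a ∈ J` lifted one level: `i_* F k ⟶ F (k+1)` -/
noncomputable def ν (k : ℕ) (a : A) (ha : a ∈ J) :
    (pushforward (T.i k)).obj (S.F k) ⟶ S.F (k + 1) :=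
  Abelian.epiDesc (S.tr k) (T.μ (k + 1) (S.F (k + 1)) a) (by
    rw [← T.μ_comp, S.μ_P_eq_zero k a ha, zero_comp])

@[reassoc]
theorem tr_ν (k : ℕ) (a : A) (ha : a ∈ J) : S.tr k ≫ S.ν k a ha = T.μ (k + 1) (S.F (k + 1)) a :=
  Abelian.comp_epiDesc _ _ _

@[reassoc]
theorem ν_tr (k : ℕ) (a : A) (ha : a ∈ J) :
    S.ν k a ha ≫ S.tr k = T.μ (k + 1) ((pushforward (T.i k)).obj (S.F k)) a := by
  rw [← cancel_epi (S.tr k), ← Category.assoc, S.tr_ν, T.μ_comp]

/-- the operator `i_* P k ⟶ P (k+1)` induced by multiplication by `a ∈ J` -/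
noncomputable def τ (k : ℕ) (a : A) (ha : a ∈ J) :
    (pushforward (T.i (k + 1))).obj (S.P k) ⟶ S.P (k + 1) :=
  kernel.lift (S.tr (k + 1)) ((pushforward (T.i (k + 1))).map (S.ιP k) ≫ S.ν (k + 1) a ha) (by
    rw [Category.assoc, S.ν_tr, ← T.μ_comp, ← T.push_μ, S.μ_P_eq_zero k a ha, Functor.map_zero,
      zero_comp])

@[reassoc]
theorem τ_ι (k : ℕ) (a : A) (ha : a ∈ J) :
    S.τ k a ha ≫ S.ιP (k + 1) = (pushforward (T.i (k + 1))).map (S.ιP k) ≫ S.ν (k + 1) a ha :=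
  kernel.lift_ι _ _ _

theorem ν_comm (k : ℕ) (a b : A) (ha : a ∈ J) (hb : b ∈ J) :
    (pushforward (T.i (k + 1))).map (S.ν k a ha) ≫ S.ν (k + 1) b hb =
      (pushforward (T.i (k + 1))).map (S.ν k b hb) ≫ S.ν (k + 1) a ha := by
  haveI : Epi ((pushforward (T.i (k + 1))).map (S.tr k)) := inferInstance
  rw [← cancel_epi ((pushforward (T.i (k + 1))).map (S.tr k)), ← cancel_epi (S.tr (k + 1))]
  have key : ∀ (a b : A) (ha : a ∈ J) (hb : b ∈ J),
      S.tr (k + 1) ≫ (pushforward (T.i (k + 1))).map (S.tr k) ≫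
        (pushforward (T.i (k + 1))).map (S.ν k a ha) ≫ S.ν (k + 1) b hb =
      T.μ (k + 2) (S.F (k + 2)) a ≫ T.μ (k + 2) (S.F (k + 2)) b := by
    intro a b ha hb
    rw [← Functor.map_comp_assoc, S.tr_ν, T.push_μ, ← T.μ_comp_assoc, S.tr_ν]
  rw [key a b ha hb, key b a hb ha, T.μ_comm]

theorem τ_comm (k : ℕ) (a b : A) (ha : a ∈ J) (hb : b ∈ J) :
    (pushforward (T.i (k + 2))).map (S.τ k a ha) ≫ S.τ (k + 1) b hb =
      (pushforward (T.i (k + 2))).map (S.τ k b hb) ≫ S.τ (k + 1) a ha := by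
  rw [← cancel_mono (S.ιP (k + 2))]
  have key : ∀ (a b : A) (ha : a ∈ J) (hb : b ∈ J),
      ((pushforward (T.i (k + 2))).map (S.τ k a ha) ≫ S.τ (k + 1) b hb) ≫ S.ιP (k + 2) =
      (pushforward (T.i (k + 2))).map ((pushforward (T.i (k + 1))).map (S.ιP k)) ≫
        (pushforward (T.i (k + 2))).map (S.ν (k + 1) a ha) ≫ S.ν (k + 2) b hb := by
    intro a b ha hb
    rw [Category.assoc, S.τ_ι, ← Functor.map_comp_assoc, S.τ_ι, Functor.map_comp, Category.assoc]
  rw [key a b ha hb, key b a hb ha, S.ν_comm (k + 1) a b ha hb]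

end Mod

end Sys

end Groth.Agent.R2.H1.TowerMod
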