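import Mathlib
import Groth.Prelude.Def_Coh
import Groth.Prelude.Def_CohB1
import Groth.Prelude.Def_Pic
import Groth.Prelude.Def_Formal
import Groth.Agent.R2.H1TowerMod

/-!
# PROJ:algz — spec file for S0056 (Grothendieck's algebraization theorem, EGA III 5.4.5) (helper1)

Setting: `A` Noetherian, `I`-adically complete; an adic tower `T : Sys I` (levels `T.Xs n` over
`Spec (A/I^(n+1))`, transitions `T.i n`, cartesian squares `T.hcart`; `T.q n : T.Xs n ⟶ Spec A`), invertible `L n`
on `T.Xs n` with `φ n : (T.i n)^* L (n+1) ≅ L n` and `L 0` ample, `T.p 0` proper.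

Packages (each a closed `Prop`; deliver `theorem pkgXxx : PkgXxx` in your own file):
* `PkgEmb`   : compatible closed immersions `c n : T.Xs n ⟶ P^N_A` over `A`.
* `PkgPF`    : for compatible closed immersions `c n : T.Xs n ⟶ X` and a compatible coherent system `S : T.Mod`,
               the pushed-forward tower `n ↦ (c n)_* (S.F n)` is a coherent formal module on `X`.
* `PkgClSub` : a formal closed subscheme of `P^N_A` is algebraizable (S0040 for `X = P^N_A`).
* `PkgLB`    : algebraization of a compatible system of invertible modules on `W ⊆ P^N_A`.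
* `PkgAmp`   : an invertible module on `W` proper over `A` (`I ≤ rad A`) which is ample on `W ×_A A/I` is ample.
* `asm`      : S0056 from `PkgEmb`, `PkgClSub`, `PkgLB`, `PkgAmp` (in `H1AlgzAsm.lean`).
-/

set_option autoImplicit false
universe u
open CategoryTheory CategoryTheory.Limits AlgebraicGeometry Opposite

namespace Groth.Agent.R2.H1.AlgzSpec

open Groth.Agent.R2.H1.TowerMod

/-- compatible maps from an adic tower to a fixed scheme over `Spec A` -/
structure TowerMap {A : Type u} [CommRing A] {I : Ideal A} (T : Sys I) {X : Scheme.{u}}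
    (f : X ⟶ Spec (CommRingCat.of A)) where
  /-- the maps -/
  c : ∀ n, T.Xs n ⟶ X
  hc : ∀ n, T.i n ≫ c (n + 1) = c n
  hq : ∀ n, c n ≫ f = T.q n

/-- **[EMB]** compatible projective embeddings of an adic tower with an ample compatible system of
invertible modules (no completeness needed). -/
def PkgEmb : Prop :=
  ∀ (A : Type u) [CommRing A] [IsNoetherianRing A] (I : Ideal A) (T : Sys I) (_ : IsProper (T.p 0))
    (L : ∀ n, (T.Xs n).Modules) (_ : ∀ n, PicF.IsInvertible (L n))
    (_ : ∀ n, (Scheme.Modules.pullback (T.i n)).obj (L (n + 1)) ≅ L n) (_ : CohB1.IsAmple (L 0)),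
    ∃ (N : ℕ) (c : TowerMap T (CohB1.ProjSpace.toSpec N A)), ∀ n, IsClosedImmersion (c.c n)

/-- the transition map of the pushed-forward tower -/
noncomputable def pushTrans {A : Type u} [CommRing A] {I : Ideal A} {T : Sys I} {X : Scheme.{u}}
    {f : X ⟶ Spec (CommRingCat.of A)} (c : TowerMap T f) (S : T.Mod) (n : ℕ) :
    (Scheme.Modules.pushforward (c.c (n + 1))).obj (S.F (n + 1)) ⟶
      (Scheme.Modules.pushforward (c.c n)).obj (S.F n) :=
  (Scheme.Modules.pushforward (c.c (n + 1))).map (S.tr n) ≫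
    (show (Scheme.Modules.pushforward (c.c (n + 1))).obj ((Scheme.Modules.pushforward (T.i n)).obj (S.F n)) ⟶
        (Scheme.Modules.pushforward (T.i n ≫ c.c (n + 1))).obj (S.F n) from 𝟙 _) ≫
    (Scheme.Modules.pushforwardCongr (c.hc n)).hom.app (S.F n)

/-- the pushed-forward tower `n ↦ (c n)_* (S.F n)` -/
noncomputable def pushTower {A : Type u} [CommRing A] {I : Ideal A} {T : Sys I} {X : Scheme.{u}}
    {f : X ⟶ Spec (CommRingCat.of A)} (c : TowerMap T f) (S : T.Mod) : ℕᵒᵖ ⥤ X.Modules :=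
  Functor.ofOpSequence (X := fun n => (Scheme.Modules.pushforward (c.c n)).obj (S.F n))
    (fun n => pushTrans c S n)

/-- **[PF]** the pushed-forward tower of a compatible coherent system along compatible closed immersions is a
coherent formal module. -/
def PkgPF : Prop :=
  ∀ (A : Type u) [CommRing A] [IsNoetherianRing A] (I : Ideal A) (T : Sys I) (X : Scheme.{u})
    [X.Over (Spec (CommRingCat.of A))] [IsLocallyNoetherian X]
    (c : TowerMap T (X ↘ Spec (CommRingCat.of A))) (_ : ∀ n, IsClosedImmersion (c.c n))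
    (S : T.Mod) (_ : ∀ n, Coh.IsCoh (S.F n)), Formal.IsCohFormal I (pushTower c S)

/-- **[CLSUB]** a formal closed subscheme of `P^N_A` is algebraizable. -/
def PkgClSub : Prop :=
  ∀ (A : Type u) [CommRing A] [IsNoetherianRing A] (I : Ideal A) [IsAdicComplete I A] (T : Sys I) (N : ℕ)
    (c : TowerMap T (CohB1.ProjSpace.toSpec N A)) (_ : ∀ n, IsClosedImmersion (c.c n)),
    ∃ (W : Scheme.{u}) (ι : W ⟶ CohB1.ProjSpace N A) (w : ∀ n, T.Xs n ⟶ W), IsClosedImmersion ι ∧
      (∀ n, w n ≫ ι = c.c n) ∧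
      ∀ n, IsPullback (w n) (T.p n) (ι ≫ CohB1.ProjSpace.toSpec N A) (CohB1.specQuot I n)

/-- **[LB]** a compatible system of invertible modules on the thickenings of a closed subscheme `W` of `P^N_A` is
algebraizable. -/
def PkgLB : Prop :=
  ∀ (A : Type u) [CommRing A] [IsNoetherianRing A] (I : Ideal A) [IsAdicComplete I A] (T : Sys I) (N : ℕ)
    (W : Scheme.{u}) (ι : W ⟶ CohB1.ProjSpace N A) [IsClosedImmersion ι] (w : ∀ n, T.Xs n ⟶ W)
    (_ : ∀ n, T.i n ≫ w (n + 1) = w n)
    (_ : ∀ n, IsPullback (w n) (T.p n) (ι ≫ CohB1.ProjSpace.toSpec N A) (CohB1.specQuot I n))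
    (L : ∀ n, (T.Xs n).Modules) (_ : ∀ n, PicF.IsInvertible (L n))
    (_ : ∀ n, (Scheme.Modules.pullback (T.i n)).obj (L (n + 1)) ≅ L n),
    ∃ M : W.Modules, PicF.IsInvertible M ∧ ∀ n, Nonempty ((Scheme.Modules.pullback (w n)).obj M ≅ L n)

/-- **[AMP]** ampleness is detected on the closed fibre `W ×_A A/I` when `I` lies in the Jacobson radical. -/
def PkgAmp : Prop :=
  ∀ (A : Type u) [CommRing A] [IsNoetherianRing A] (I : Ideal A) (_ : I ≤ Ideal.jacobson ⊥)
    (W : Scheme.{u}) (g : W ⟶ Spec (CommRingCat.of A)) [IsProper g] (M : W.Modules) (_ : PicF.IsInvertible M)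
    (X₀ : Scheme.{u}) (w₀ : X₀ ⟶ W) (p₀ : X₀ ⟶ Spec (CommRingCat.of (A ⧸ I ^ (0 + 1))))
    (_ : IsPullback w₀ p₀ g (CohB1.specQuot I 0))
    (_ : CohB1.IsAmple ((Scheme.Modules.pullback w₀).obj M)), CohB1.IsAmple M

end Groth.Agent.R2.H1.AlgzSpec
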