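import Mathlib
import Groth.Agent.R2.H1AlgzSpec
import Groth.Agent.S9705
import Groth.Agent.Lib.Helper23AmpleIso

/-!
# PROJ:algz — assembly of S0056 from the packages of `H1AlgzSpec` (helper1)
-/

set_option autoImplicit false
set_option linter.style.haveILetI false
universe u
open CategoryTheory CategoryTheory.Limits AlgebraicGeometry Opposite

namespace Groth.Agent.R2.H1.AlgzAsm

open Groth.Agent.R2.H1.TowerMod Groth.Agent.R2.H1.AlgzSpec

/-- **Grothendieck's algebraization theorem** (EGA III 5.4.5) from the packages. -/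
theorem asm (hEmb : PkgEmb.{u}) (hCl : PkgClSub.{u}) (hLB : PkgLB.{u}) (hAmp : PkgAmp.{u})
    (A : Type u) [CommRing A] [IsNoetherianRing A] (I : Ideal A) [IsAdicComplete I A]
    (Xs : ℕ → Scheme.{u}) (p : (n : ℕ) → (Xs n ⟶ Spec (CommRingCat.of (A ⧸ I ^ (n + 1)))))
    (i : (n : ℕ) → (Xs n ⟶ Xs (n + 1)))
    (hcart : ∀ n, IsPullback (i n) (p n) (p (n + 1)) (CohB1.specQuotTrans I n)) (hp : IsProper (p 0))
    (L : (n : ℕ) → (Xs n).Modules) (hL : ∀ n, PicF.IsInvertible (L n))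
    (φ : ∀ n, Nonempty ((Scheme.Modules.pullback (i n)).obj (L (n + 1)) ≅ L n)) (ha : CohB1.IsAmple (L 0)) :
    ∃ (Y : Scheme.{u}) (g : Y ⟶ Spec (CommRingCat.of A)) (M : Y.Modules) (e : (n : ℕ) → (Xs n ⟶ Y)),
      IsProper g ∧ PicF.IsInvertible M ∧ CohB1.IsAmple M ∧
      (∀ n, IsPullback (e n) (p n) g (CohB1.specQuot I n)) ∧ (∀ n, e n = i n ≫ e (n + 1)) ∧
      ∀ n, Nonempty ((Scheme.Modules.pullback (e n)).obj M ≅ L n) := by
  let T : Sys I := ⟨Xs, p, i, hcart⟩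
  obtain ⟨N, c, hc⟩ := hEmb A I T hp L hL (fun n => (φ n).some) ha
  obtain ⟨W, ι, w, hι, hwc, hpb⟩ := hCl A I T N c hc
  have hw : ∀ n, T.i n ≫ w (n + 1) = w n := by
    intro n
    rw [← cancel_mono ι, Category.assoc, hwc, hwc, c.hc]
  obtain ⟨M, hM, hML⟩ := hLB A I T N W ι w hw hpb L hL (fun n => (φ n).some)
  haveI : IsProper (CohB1.ProjSpace.toSpec N A) := Groth.Agent.S9705.isProper_projSpace_toSpec N A
  haveI : IsProper (ι ≫ CohB1.ProjSpace.toSpec N A) := inferInstance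
  refine ⟨W, ι ≫ CohB1.ProjSpace.toSpec N A, M, w, inferInstance, hM, ?_, hpb, fun n => (hw n).symm, hML⟩
  obtain ⟨e0⟩ := hML 0
  exact hAmp A I (IsAdicComplete.le_jacobson_bot I) W (ι ≫ CohB1.ProjSpace.toSpec N A) M hM (Xs 0) (w 0)
    (p 0) (hpb 0) (Groth.Agent.Lib.Helper23.AmpleIso.isAmple_of_iso e0.symm ha)

end Groth.Agent.R2.H1.AlgzAsm
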