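import Mathlib
import Groth.Agent.Lib.Helper9TopColim
import Groth.Agent.Lib.Helper9TopColimSch
import Groth.Agent.Lib.Helper23AffVanish7
import Groth.Agent.R2.H79CechNat
import Groth.Agent.R2.H62CohSigma
import Groth.Agent.S0484

/-!
# Cohomology of quasi-compact quasi-separated schemes commutes with filtered colimits and direct sums

helper1 (round 2).
* `preservesColimit_functorH` : on a qcqs scheme, `H^p(X, -)` (Mathlib's `Sheaf.functorH`) preserves filtered colimits
  of abelian sheaves.
* `subsingleton_HH_sigma` : if `H^p(X, M i) = 0` for all `i` then `H^p(X, ∐ M) = 0` (arbitrary index type in `Type u`).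
* `subsingleton_HH_free` : `H^p(X, O_X) = 0 ⇒ H^p(X, O_X^{(I)}) = 0`.
-/

set_option autoImplicit false
universe u
open CategoryTheory CategoryTheory.Limits Opposite TopologicalSpace AlgebraicGeometry

namespace Groth.Agent.R2.H1.CohSum

open Groth.Agent.Lib.Helper23.AffVanish

section Top

variable (Y : TopCat.{u})

/-- `H^p(⊤, -) ≅ H^p(Y, -)` as functors. -/
noncomputable def topIso (p : ℕ) :
    (Sheaf.cohomologyPresheafFunctor (Opens.grothendieckTopology Y) p).flip.obj (op ⊤) ≅
      Sheaf.functorH (Opens.grothendieckTopology Y) p :=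
  NatIso.ofComponents (fun F => (HETopEquivH Y F p).toAddCommGrpIso) (by
    intro F G ψ
    ext x
    exact Groth.Agent.R2.H79.CechNat.HETopEquivH_natural Y ψ p x)

end Top

/-- On a quasi-compact quasi-separated scheme, cohomology commutes with filtered colimits. -/
theorem preservesColimit_functorH (X : Scheme.{u}) [CompactSpace X] [QuasiSeparatedSpace X] (p : ℕ)
    (I : Type u) [SmallCategory I] [IsFiltered I]
    (F : I ⥤ Sheaf (Opens.grothendieckTopology X) AddCommGrpCat.{u}) :
    PreservesColimit F (Sheaf.functorH (Opens.grothendieckTopology X) p) := by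
  have h : PreservesColimit F ((Sheaf.cohomologyPresheafFunctor
      (Opens.grothendieckTopology X.toTopCat) p).flip.obj (op ⊤)) :=
    Groth.Agent.Lib.Helper9.TopColim.preservesColimit_of_compact
    (Groth.Agent.Lib.Helper9.TopColim.isBasis_compact X) (⊤ : Opens X)
    (by
      have := (quasiSeparatedSpace_iff X).1 ‹QuasiSeparatedSpace X›
      simpa using isQuasiSeparated_univ_iff.2 ‹QuasiSeparatedSpace X›)
    (⊤ : Opens X) ⟨le_rfl, by simpa using CompactSpace.isCompact_univ⟩ p I F
  exact preservesColimit_of_natIso F (topIso X.toTopCat p)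

open Groth.Agent.R2.H62.CohLES in
/-- Cohomology of a qcqs scheme kills arbitrary direct sums of modules whose cohomology vanishes. -/
theorem subsingleton_HH_sigma (X : Scheme.{u}) [CompactSpace X] [QuasiSeparatedSpace X] (p : ℕ)
    {ι : Type u} (M : ι → X.Modules) (h : ∀ i, Subsingleton (Coh.HH X (M i) p)) :
    Subsingleton (Coh.HH X (∐ M) p) := by
  classical
  let T : X.Modules ⥤ Sheaf (Opens.grothendieckTopology X) AddCommGrpCat.{u} :=
    SheafOfModules.toSheaf X.ringCatSheaf
  let G : X.Modules ⥤ AddCommGrpCat.{u} := T ⋙ Sheaf.functorH (Opens.grothendieckTopology X) p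
  let D := CoproductsFromFiniteFiltered.liftToFinsetObj (Discrete.functor M)
  have hc := CoproductsFromFiniteFiltered.isColimitFiniteSubproductsCocone M
  have : PreservesColimit D T :=
    (Groth.Agent.S0484.preservesColimitsOfShape_toSheaf (Opens.grothendieckTopology X)
      X.ringCatSheaf (Finset (Discrete ι))).preservesColimit
  have : PreservesColimit (D ⋙ T) (Sheaf.functorH (Opens.grothendieckTopology X) p) :=
    preservesColimit_functorH X p _ _
  have : PreservesColimit D G := comp_preservesColimit T _
  have hc' := isColimitOfPreserves G hc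
  have key : ∀ x : Coh.HH X (∐ M) p, x = 0 := by
    intro x
    obtain ⟨S, z, hz⟩ := Concrete.isColimit_exists_rep _ hc' x
    have hS : Subsingleton (Coh.HH X (∐ fun i : S => M i.1.as) p) := by
      have : ∀ i : S, Subsingleton (Coh.HH X (M i.1.as) p) := fun i => h _
      exact (HHsigmaEquiv (fun i : S => M i.1.as) p).symm.toEquiv.subsingleton
    have hz0 : z = 0 := @Subsingleton.elim _ hS z 0
    rw [← hz, hz0]
    exact map_zero _
  exact ⟨fun x y => (key x).trans (key y).symm⟩

/-- `H^p(X, O_X) = 0 ⇒ H^p(X, O_X^{(I)}) = 0` on a qcqs scheme. -/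
theorem subsingleton_HH_free (X : Scheme.{u}) [CompactSpace X] [QuasiSeparatedSpace X] (p : ℕ)
    (h : Subsingleton (Coh.HH X (Coh.structureModule X) p)) (ι : Type u) :
    Subsingleton (Coh.HH X (SheafOfModules.free ι : X.Modules) p) :=
  subsingleton_HH_sigma X p (fun _ : ι => Coh.structureModule X) (fun _ => h)

end Groth.Agent.R2.H1.CohSum
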