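import Mathlib
import Groth.Agent.Lib.Helper16ClosedEmb
import Groth.Agent.Lib.Helper23Support
import Groth.Agent.S0458

/-!
# Cohomology of sheaves supported on a closed subset of small dimension (helper1)

* `subsingleton_H_of_SZ` : `X` a topological space, `U` open with Noetherian closed complement of
  dimension `≤ d`; an abelian sheaf whose sections over opens inside `U` vanish has no cohomology
  in degrees `> d` (Grothendieck vanishing on the complement + `H^p(X, i_* G) = H^p(Z, G)`).
* `subsingleton_HH_of_support_subset` : the same for an `O_X`-module on a scheme whose support is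
  contained in a closed set `T` (Noetherian of dimension `≤ d`).
-/

set_option autoImplicit false
universe u
open CategoryTheory CategoryTheory.Limits Opposite TopologicalSpace AlgebraicGeometry

namespace Groth.Agent.R2.H1.SuppVanish

open Groth.Agent.Lib.Helper16.ClosedEmb

/-- cohomology only depends on the isomorphism class of the sheaf -/
theorem subsingleton_H_of_iso {C : Type*} [Category C] {J : GrothendieckTopology C}
    {F G : Sheaf J AddCommGrpCat.{u}} [HasSheafify J AddCommGrpCat.{u}] [HasExt.{u} (Sheaf J AddCommGrpCat.{u})]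
    (e : F ≅ G) (p : ℕ) (h : Subsingleton (Sheaf.H G p)) : Subsingleton (Sheaf.H F p) := by
  refine ⟨fun a b => ?_⟩
  have key : ∀ x : Sheaf.H F p, Sheaf.H.map e.inv p (Sheaf.H.map e.hom p x) = x := by
    intro x
    rw [← Sheaf.H.map_comp_apply, e.hom_inv_id, Sheaf.H.map_id_apply]
  rw [← key a, ← key b, Subsingleton.elim (Sheaf.H.map e.hom p a) (Sheaf.H.map e.hom p b)]

/-- **Vanishing for sheaves supported on a closed subset of dimension `≤ d`** (topological form). -/
theorem subsingleton_H_of_SZ {X : TopCat.{u}} (U : Opens X)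
    [NoetherianSpace ((U : Set X)ᶜ : Set X)] (d : ℕ)
    (hd : topologicalKrullDim ((U : Set X)ᶜ : Set X) ≤ d) (H : CohTop.Ab X) (hH : SZ U H)
    (p : ℕ) (hp : d < p) : Subsingleton (CohTop.H H p) := by
  have hiso : IsIso ((adjI U).unit.app H) := isIso_unit_of_SZ U H hH
  let e : H ≅ (CohTop.push (iZ U)).obj ((CohTop.pull (iZ U)).obj H) :=
    @asIso _ _ _ _ ((adjI U).unit.app H) hiso
  obtain ⟨φ⟩ := nonempty_H_push (iZ U) (hiZ U) ((CohTop.pull (iZ U)).obj H) p
  have h0 : Subsingleton (CohTop.H ((CohTop.pull (iZ U)).obj H) p) :=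
    Groth.Agent.S0458.result (X := TopCat.of ((U : Set X)ᶜ : Set X)) d hd _ p hp
  have h1 : Subsingleton (CohTop.H ((CohTop.push (iZ U)).obj ((CohTop.pull (iZ U)).obj H)) p) :=
    φ.symm.injective.subsingleton
  exact subsingleton_H_of_iso e p h1

/-- **Vanishing for modules supported on a closed subset of dimension `≤ d`** (scheme form). -/
theorem subsingleton_HH_of_support_subset {X : Scheme.{u}} (T : Set X) (hT : IsClosed T)
    [NoetherianSpace T] (d : ℕ) (hd : topologicalKrullDim T ≤ d) (M : X.Modules)
    (hM : CohB1.support M ⊆ T) (p : ℕ) (hp : d < p) : Subsingleton (Coh.HH X M p) := by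
  let U : Opens X.toTopCat := ⟨Tᶜ, hT.isOpen_compl⟩
  have hU : ((U : Set X.toTopCat)ᶜ : Set X.toTopCat) = T := compl_compl T
  have hSZ : SZ U (Coh.toAb M) := by
    intro V hV
    refine subsingleton_of_forall_eq 0 (fun s => ?_)
    exact Groth.Agent.Lib.Helper23.Support.eq_zero_of_disjoint_support M V
      (fun x hx hxs => hV hx (hM hxs)) s
  have hN : NoetherianSpace ((U : Set X.toTopCat)ᶜ : Set X.toTopCat) := by rw [hU]; infer_instance
  have hd' : topologicalKrullDim ((U : Set X.toTopCat)ᶜ : Set X.toTopCat) ≤ d := by rw [hU]; exact hd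
  exact subsingleton_H_of_SZ U d hd' (Coh.toAb M) hSZ p hp

end Groth.Agent.R2.H1.SuppVanish
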