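import Mathlib
import Groth.Agent.R2.H35FFRees
import Groth.Agent.R2.H62CohDelta

/-!
# Cohomology of the Rees system `I^n M` (helper35, coh-core package F3, cohomology layer)
-/

set_option autoImplicit false
universe u

open CategoryTheory CategoryTheory.Limits AlgebraicGeometry Opposite

namespace Groth.Agent.R2.H35.FFRees

open Groth.Agent.R2.H62.CohLES

variable {A : Type u} [CommRing A] {X : Scheme.{u}} [X.Over (Spec (CommRingCat.of A))]

theorem toAbMap_smulModΓ (M : X.Modules) (r : Coh.Γtop X) :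
    toAbMap (Formal.smulModΓ M r) = Coh.smulAb M r := rfl

/-- Multiplication by `a` on `M` induces multiplication by `a` on cohomology. -/
theorem HHmap_smulMod (M : X.Modules) (a : A) (n : ℕ) (x : Coh.HH X M n) :
    HHmap (Formal.smulMod A M a) n x = a • x := rfl

section

variable (I : Ideal A) (M : X.Modules) (p : ℕ)

/-- `H^p(I^n M) → H^p(M)`. -/
noncomputable def ιK (n : ℕ) : Coh.HH X (powMod I n M) p →ₗ[A] Coh.HH X M p :=
  HHmapA A (powModι I n M) p

/-- multiplication by `a ∈ I`: `H^p(I^n M) → H^p(I^(n+1) M)`. -/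
noncomputable def τK (a : A) (ha : a ∈ I) (n : ℕ) :
    Coh.HH X (powMod I n M) p →ₗ[A] Coh.HH X (powMod I (n + 1) M) p :=
  HHmapA A (mulPow I n M a ha) p

/-- `H^p(I^(n+1) M) → H^p(I^n M)`. -/
noncomputable def sK (n : ℕ) :
    Coh.HH X (powMod I (n + 1) M) p →ₗ[A] Coh.HH X (powMod I n M) p :=
  HHmapA A (powModIncl I n M) p

/-- `H^p(M) → H^p(M / I^n M)`. -/
noncomputable def πH (n : ℕ) : Coh.HH X M p →ₗ[A] Coh.HH X (Formal.modPow I n M) p :=
  HHmapA A (Formal.modPowπ I n M) p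

/-- `H^p(M / I^(n+1) M) → H^p(M / I^n M)`. -/
noncomputable def tH (n : ℕ) :
    Coh.HH X (Formal.modPow I (n + 1) M) p →ₗ[A] Coh.HH X (Formal.modPow I n M) p :=
  HHmapA A (Formal.modPowTrans I n M) p

/-- The connecting map `H^p(M / I^n M) → H^(p+1)(I^n M)`. -/
noncomputable def δH (n : ℕ) :
    Coh.HH X (Formal.modPow I n M) p →ₗ[A] Coh.HH X (powMod I n M) (p + 1) :=
  δA (shortExact_powMod I n M) A p

theorem πH_eq_toHHmodPow (n : ℕ) (x : Coh.HH X M p) :
    πH I M p (n + 1) x = Formal.toHHmodPow I M p n x := rfl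

theorem tH_eq_HHmodPowTrans (n : ℕ) (x : Formal.HHmodPow I M p (n + 1)) :
    tH I M p (n + 1) x = Formal.HHmodPowTrans I M p n x := rfl

theorem ιK_τK (a : A) (ha : a ∈ I) (n : ℕ) (x : Coh.HH X (powMod I n M) p) :
    ιK I M p (n + 1) (τK I M p a ha n x) = a • ιK I M p n x := by
  change HHmap (powModι I (n + 1) M) p (HHmap (mulPow I n M a ha) p x) =
    a • HHmap (powModι I n M) p x
  rw [← HHmap_comp, mulPow_ι, HHmap_comp, HHmap_smulMod]

theorem ιK_sK (n : ℕ) (x : Coh.HH X (powMod I (n + 1) M) p) :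
    ιK I M p n (sK I M p n x) = ιK I M p (n + 1) x := by
  change HHmap (powModι I n M) p (HHmap (powModIncl I n M) p x) = HHmap (powModι I (n + 1) M) p x
  rw [← HHmap_comp, powModIncl_ι]

theorem sK_τK (a : A) (ha : a ∈ I) (n : ℕ) (x : Coh.HH X (powMod I n M) p) :
    sK I M p n (τK I M p a ha n x) = a • x := by
  change HHmap (powModIncl I n M) p (HHmap (mulPow I n M a ha) p x) = a • x
  rw [← HHmap_comp, mulPow_incl, HHmap_smulMod]

theorem τK_sK (a : A) (ha : a ∈ I) (n : ℕ) (x : Coh.HH X (powMod I (n + 1) M) p) :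
    τK I M p a ha n (sK I M p n x) = a • x := by
  change HHmap (mulPow I n M a ha) p (HHmap (powModIncl I n M) p x) = a • x
  rw [← HHmap_comp, incl_mulPow, HHmap_smulMod]

theorem τK_comm (a b : A) (ha : a ∈ I) (hb : b ∈ I) (n : ℕ) (x : Coh.HH X (powMod I n M) p) :
    τK I M p b hb (n + 1) (τK I M p a ha n x) = τK I M p a ha (n + 1) (τK I M p b hb n x) := by
  change HHmap (mulPow I (n + 1) M b hb) p (HHmap (mulPow I n M a ha) p x) =
    HHmap (mulPow I (n + 1) M a ha) p (HHmap (mulPow I n M b hb) p x)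
  rw [← HHmap_comp, ← HHmap_comp, mulPow_comm]

theorem τK_sK_comm (a : A) (ha : a ∈ I) (n : ℕ) (x : Coh.HH X (powMod I (n + 1) M) p) :
    τK I M p a ha n (sK I M p n x) = sK I M p (n + 1) (τK I M p a ha (n + 1) x) := by
  rw [τK_sK, sK_τK]

theorem tH_πH (n : ℕ) (x : Coh.HH X M p) : tH I M p n (πH I M p (n + 1) x) = πH I M p n x := by
  change HHmap (Formal.modPowTrans I n M) p (HHmap (Formal.modPowπ I (n + 1) M) p x) =
    HHmap (Formal.modPowπ I n M) p x
  rw [← HHmap_comp, Formal.modPowπ_trans]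

theorem exact_ιK_πH (n : ℕ) : Function.Exact (ιK I M p n) (πH I M p n) :=
  exact_f_g (shortExact_powMod I n M) p

theorem exact_πH_δH (n : ℕ) : Function.Exact (πH I M p n) (δH I M p n) :=
  exact_g_δ (shortExact_powMod I n M) p

theorem exact_δH_ιK (n : ℕ) : Function.Exact (δH I M p n) (ιK I M (p + 1) n) :=
  exact_δ_f (shortExact_powMod I n M) p

/-- The morphism of short exact sequences `(I^(n+1)M → M → M/I^(n+1)M) ⟶ (I^n M → M → M/I^n M)`. -/
noncomputable def stepHom (n : ℕ) :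
    ShortComplex.mk (powModι I (n + 1) M) (Formal.modPowπ I (n + 1) M) (powModι_π I (n + 1) M) ⟶
      ShortComplex.mk (powModι I n M) (Formal.modPowπ I n M) (powModι_π I n M) where
  τ₁ := powModIncl I n M
  τ₂ := 𝟙 M
  τ₃ := Formal.modPowTrans I n M
  comm₁₂ := by
    change powModIncl I n M ≫ powModι I n M = powModι I (n + 1) M ≫ 𝟙 M
    rw [powModIncl_ι, Category.comp_id]
  comm₂₃ := by
    change 𝟙 M ≫ Formal.modPowπ I n M = Formal.modPowπ I (n + 1) M ≫ Formal.modPowTrans I n M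
    rw [Formal.modPowπ_trans, Category.id_comp]

theorem δH_tH (n : ℕ) (x : Coh.HH X (Formal.modPow I (n + 1) M) p) :
    δH I M p n (tH I M p n x) = sK I M (p + 1) n (δH I M p (n + 1) x) :=
  δ_naturality (shortExact_powMod I (n + 1) M) (shortExact_powMod I n M) (stepHom I M n) p x

/-- `M / I^n M` is killed by `I^n`. -/
theorem smulMod_modPow_eq_zero (n : ℕ) (r : A) (hr : r ∈ I ^ n) :
    Formal.smulMod A (Formal.modPow I n M) r = 0 := by
  have : Epi (Formal.modPowπ I n M) := Groth.Agent.R2.H40.FormalMod.epi_modPowπ I n M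
  rw [← cancel_epi (Formal.modPowπ I n M), comp_zero, ← Groth.Agent.S9530.smulMod_comp,
    smulMod_π_eq_zero I n M r hr]

theorem smul_HH_modPow_eq_zero (n : ℕ) (r : A) (hr : r ∈ I ^ n)
    (x : Coh.HH X (Formal.modPow I n M) p) : r • x = 0 := by
  rw [← HHmap_smulMod, smulMod_modPow_eq_zero I M n r hr, HHmap_zero]

end

end Groth.Agent.R2.H35.FFRees
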