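import Mathlib

/-!
# Graded systems of modules with commuting degree-one operators (helper64, coh-core package F)

A *graded system* is a family `N : ℕ → Type` of `A`-modules with operators
`τ i n : N n →ₗ[A] N (n+1)` (`i : ι`).  It is the elementary substitute for a graded module over
the polynomial ring `A[T_i]`.  Main result: **graded Hilbert basis theorem**
`exists_genFrom_of_sub`: if `A` is Noetherian, `ι` finite, the operators commute, all `N n` are
finite and `N` is generated in degrees `≤ d`, then every sub-system `W` is generated in bounded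
degree.
-/

set_option autoImplicit false

namespace Groth.Agent.R2.H64.FFGr

open DirectSum

universe u v w

section Basic

variable {A : Type u} [CommRing A] {ι : Type w}
variable {N : ℕ → Type v} [∀ n, AddCommGroup (N n)] [∀ n, Module A (N n)]

/-- `W` is generated from degree `d` on: for `n ≥ d`, `W (n+1) ≤ ∑ i, τ i (W n)`. -/
def GenFrom (τ : ι → ∀ n, N n →ₗ[A] N (n + 1)) (W : ∀ n, Submodule A (N n)) (d : ℕ) : Prop :=
  ∀ n, d ≤ n → W (n + 1) ≤ ⨆ i, (W n).map (τ i n)

theorem GenFrom.mono {τ : ι → ∀ n, N n →ₗ[A] N (n + 1)} {W : ∀ n, Submodule A (N n)} {d d' : ℕ}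
    (h : GenFrom τ W d) (hd : d ≤ d') : GenFrom τ W d' :=
  fun n hn => h n (hd.trans hn)

/-- The operator induced by `τ i` on the total space `⨁ n, N n`. -/
noncomputable def tot (τ : ι → ∀ n, N n →ₗ[A] N (n + 1)) (i : ι) :
    (⨁ n, N n) →ₗ[A] (⨁ n, N n) :=
  DirectSum.toModule A ℕ _ (fun n => (DirectSum.lof A ℕ N (n + 1)).comp (τ i n))

@[simp]
theorem tot_lof (τ : ι → ∀ n, N n →ₗ[A] N (n + 1)) (i : ι) (n : ℕ) (x : N n) :
    tot τ i (DirectSum.lof A ℕ N n x) = DirectSum.lof A ℕ N (n + 1) (τ i n x) := by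
  simp [tot]

theorem tot_comm (τ : ι → ∀ n, N n →ₗ[A] N (n + 1))
    (hcomm : ∀ i j n x, τ i (n + 1) (τ j n x) = τ j (n + 1) (τ i n x)) (i j : ι) :
    tot τ i * tot τ j = tot τ j * tot τ i := by
  apply DirectSum.linearMap_ext
  intro n
  ext x
  simp [hcomm i j n x]

theorem tot_apply_succ (τ : ι → ∀ n, N n →ₗ[A] N (n + 1)) (i : ι) (t : ⨁ n, N n) (n : ℕ) :
    (tot τ i t) (n + 1) = τ i n (t n) := by
  induction t using DirectSum.induction_on with
  | zero => simp
  | add x y hx hy => simp [hx, hy]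
  | of m x =>
    rw [← DirectSum.lof_eq_of A, tot_lof, DirectSum.lof_eq_of, DirectSum.lof_eq_of]
    by_cases h : m = n
    · subst h
      simp
    · rw [DirectSum.of_eq_of_ne _ _ _ (by omega), DirectSum.of_eq_of_ne _ _ _ (Ne.symm h), map_zero]

theorem tot_apply_zero (τ : ι → ∀ n, N n →ₗ[A] N (n + 1)) (i : ι) (t : ⨁ n, N n) :
    (tot τ i t) 0 = 0 := by
  induction t using DirectSum.induction_on with
  | zero => simp
  | add x y hx hy => simp [hx, hy]
  | of m x =>
    rw [← DirectSum.lof_eq_of A, tot_lof, DirectSum.lof_eq_of]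
    exact DirectSum.of_eq_of_ne _ _ _ (by omega)

end Basic

section Hilbert

variable {A : Type u} [CommRing A] {ι : Type w}
variable {N : ℕ → Type v} [∀ n, AddCommGroup (N n)] [∀ n, Module A (N n)]
variable (τ : ι → ∀ n, N n →ₗ[A] N (n + 1))

/-- The algebra of endomorphisms of the total space generated by the operators. -/
noncomputable abbrev opAlg : Subalgebra A (Module.End A (⨁ n, N n)) :=
  Algebra.adjoin A (Set.range (tot τ))

/-- A submodule of the total space stable under the operators is stable under `opAlg`. -/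
theorem opAlg_apply_mem {P : Submodule A (⨁ n, N n)} (hP : ∀ i, ∀ t ∈ P, tot τ i t ∈ P)
    (s : Module.End A (⨁ n, N n)) (hs : s ∈ opAlg τ) (t : ⨁ n, N n) (ht : t ∈ P) : s t ∈ P := by
  induction hs using Algebra.adjoin_induction generalizing t with
  | mem x hx => obtain ⟨i, rfl⟩ := hx; exact hP i t ht
  | algebraMap r => simpa using P.smul_mem r ht
  | add x y _ _ hx hy => exact P.add_mem (hx t ht) (hy t ht)
  | mul x y _ _ hx hy => exact hx _ (hy t ht)

theorem opAlg_smul_def (s : opAlg τ) (t : ⨁ n, N n) : s • t = (s : Module.End A (⨁ n, N n)) t := rfl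

/-- The `opAlg`-submodule attached to a stable `A`-submodule. -/
noncomputable def toOpSub (P : Submodule A (⨁ n, N n)) (hP : ∀ i, ∀ t ∈ P, tot τ i t ∈ P) :
    Submodule (opAlg τ) (⨁ n, N n) where
  carrier := P
  add_mem' := P.add_mem
  zero_mem' := P.zero_mem
  smul_mem' := fun s t ht => opAlg_apply_mem τ hP s.1 s.2 t ht

/-- The total space of a family of submodules. -/
def totSub (W : ∀ n, Submodule A (N n)) : Submodule A (⨁ n, N n) where
  carrier := {t | ∀ n, t n ∈ W n}
  add_mem' := by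
    intro a b ha hb n
    rw [DirectSum.add_apply]
    exact (W n).add_mem (ha n) (hb n)
  zero_mem' := by
    intro n
    rw [DirectSum.zero_apply]
    exact (W n).zero_mem
  smul_mem' := by
    intro c x hx n
    rw [DirectSum.smul_apply]
    exact (W n).smul_mem c (hx n)

theorem mem_totSub {W : ∀ n, Submodule A (N n)} {t : ⨁ n, N n} :
    t ∈ totSub W ↔ ∀ n, t n ∈ W n := Iff.rfl

theorem totSub_stable {W : ∀ n, Submodule A (N n)}
    (hW : ∀ i n x, x ∈ W n → τ i n x ∈ W (n + 1)) (i : ι) (t : ⨁ n, N n) (ht : t ∈ totSub W) :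
    tot τ i t ∈ totSub W := by
  intro n
  cases n with
  | zero => rw [tot_apply_zero]; exact (W 0).zero_mem
  | succ n => rw [tot_apply_succ]; exact hW i n _ (ht n)

theorem lof_mem_totSub {W : ∀ n, Submodule A (N n)} (n : ℕ) (y : N n) (hy : y ∈ W n) :
    DirectSum.lof A ℕ N n y ∈ totSub W := by
  intro m
  rw [DirectSum.lof_eq_of]
  by_cases h : m = n
  · subst h
    rw [DirectSum.of_eq_same]
    exact hy
  · rw [DirectSum.of_eq_of_ne _ _ _ h]
    exact (W m).zero_mem

theorem algebraMap_opAlg_smul (a : A) (t : ⨁ n, N n) :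
    (algebraMap A (opAlg τ) a) • t = a • t := by
  rw [opAlg_smul_def]
  rfl

/-- The element of `opAlg` given by an operator. -/
noncomputable def opGen (i : ι) : opAlg τ := ⟨tot τ i, Algebra.subset_adjoin ⟨i, rfl⟩⟩

theorem opGen_smul (i : ι) (t : ⨁ n, N n) : opGen τ i • t = tot τ i t := rfl

/-- If the system is generated in degrees `≤ d` and all pieces are finite, the total space is a
finite module over the operator algebra. -/
theorem fg_top_of_genFrom (hfin : ∀ n, Module.Finite A (N n)) (d : ℕ)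
    (hgen : GenFrom τ (fun _ => ⊤) d) : (⊤ : Submodule (opAlg τ) (⨁ n, N n)).FG := by
  classical
  choose F hF using fun n => (hfin n).fg_top
  let 𝔉 : Finset (⨁ n, N n) :=
    (Finset.range (d + 1)).biUnion (fun m => (F m).image (DirectSum.lof A ℕ N m))
  refine ⟨𝔉, ?_⟩
  rw [eq_top_iff]
  have low : ∀ n, n ≤ d → ∀ x : N n,
      DirectSum.lof A ℕ N n x ∈ Submodule.span (opAlg τ) (𝔉 : Set (⨁ n, N n)) := by
    intro n hn x
    have hx : x ∈ Submodule.span A (F n : Set (N n)) := by rw [hF n]; trivial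
    induction hx using Submodule.span_induction with
    | mem y hy =>
      apply Submodule.subset_span
      simp only [𝔉, Finset.coe_biUnion, Finset.coe_range, Set.mem_Iio, Finset.coe_image,
        Set.mem_iUnion, Set.mem_image, Finset.mem_coe, exists_prop]
      exact ⟨n, by omega, y, hy, rfl⟩
    | zero => rw [map_zero]; exact Submodule.zero_mem _
    | add y z _ _ hy hz => rw [map_add]; exact Submodule.add_mem _ hy hz
    | smul a y _ hy =>
      rw [map_smul, ← algebraMap_opAlg_smul τ]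
      exact Submodule.smul_mem _ _ hy
  have key : ∀ n, ∀ x : N n,
      DirectSum.lof A ℕ N n x ∈ Submodule.span (opAlg τ) (𝔉 : Set (⨁ n, N n)) := by
    intro n
    induction n with
    | zero => exact low 0 (Nat.zero_le d)
    | succ n ih =>
      intro x
      by_cases hn : n + 1 ≤ d
      · exact low (n + 1) hn x
      · have hx : x ∈ ⨆ i, (⊤ : Submodule A (N n)).map (τ i n) :=
          hgen n (by omega) (Submodule.mem_top)
        induction hx using Submodule.iSup_induction' with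
        | mem i y hy =>
          obtain ⟨z, -, rfl⟩ := hy
          rw [← tot_lof, ← opGen_smul]
          exact Submodule.smul_mem _ _ (ih z)
        | zero => rw [map_zero]; exact Submodule.zero_mem _
        | add y z _ _ hy hz => rw [map_add]; exact Submodule.add_mem _ hy hz
  have all : ∀ t : ⨁ n, N n, t ∈ Submodule.span (opAlg τ) (𝔉 : Set (⨁ n, N n)) := by
    intro t
    induction t using DirectSum.induction_on with
    | zero => exact Submodule.zero_mem _
    | add x y hx hy => exact Submodule.add_mem _ hx hy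
    | of m x => rw [← DirectSum.lof_eq_of A]; exact key m x
  exact fun t _ => all t

open scoped IsMulCommutative in
/-- **Graded Hilbert basis theorem.** Over a Noetherian ring, a sub-system of a finitely
generated graded system (finitely many commuting operators) is generated in bounded degree. -/
theorem exists_genFrom_of_sub [IsNoetherianRing A] [Finite ι]
    (hcomm : ∀ i j n x, τ i (n + 1) (τ j n x) = τ j (n + 1) (τ i n x))
    (hfin : ∀ n, Module.Finite A (N n)) (d : ℕ) (hgen : GenFrom τ (fun _ => ⊤) d)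
    (W : ∀ n, Submodule A (N n)) (hW : ∀ i n x, x ∈ W n → τ i n x ∈ W (n + 1)) :
    ∃ d', GenFrom τ W d' := by
  classical
  have hc : ∀ a ∈ Set.range (tot τ), ∀ b ∈ Set.range (tot τ), a * b = b * a := by
    rintro _ ⟨i, rfl⟩ _ ⟨j, rfl⟩
    exact tot_comm τ hcomm i j
  have := Algebra.isMulCommutative_adjoin A hc
  have : Algebra.FiniteType A (opAlg τ) :=
    (Subalgebra.fg_iff_finiteType _).1 ⟨(Set.finite_range (tot τ)).toFinset, by simp⟩
  have hNR : IsNoetherianRing (opAlg τ) := Algebra.FiniteType.isNoetherianRing A (opAlg τ)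
  have hMF : Module.Finite (opAlg τ) (⨁ n, N n) := ⟨fg_top_of_genFrom τ hfin d hgen⟩
  have hN : IsNoetherian (opAlg τ) (⨁ n, N n) :=
    isNoetherian_of_isNoetherianRing_of_finite (opAlg τ) (⨁ n, N n)
  obtain ⟨G, hG⟩ := hN.noetherian (toOpSub τ (totSub W) (totSub_stable τ hW))
  have hGmem : ∀ g ∈ G, g ∈ totSub W := by
    intro g hg
    have : g ∈ toOpSub τ (totSub W) (totSub_stable τ hW) := by
      rw [← hG]; exact Submodule.subset_span hg
    exact this
  obtain ⟨d', hd'⟩ : ∃ d', ∀ g ∈ G, ∀ n, d' ≤ n → g (n + 1) = 0 := by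
    refine ⟨G.sup (fun g => (DFinsupp.support g).sup id), fun g hg n hn => ?_⟩
    by_contra hne
    have h1 : n + 1 ∈ DFinsupp.support g := by
      rw [DFinsupp.mem_support_iff]; exact hne
    have h2 : n + 1 ≤ (DFinsupp.support g).sup id := Finset.le_sup (f := id) h1
    have h3 : (DFinsupp.support g).sup id ≤ G.sup (fun g => (DFinsupp.support g).sup id) :=
      Finset.le_sup (f := fun g => (DFinsupp.support g).sup id) hg
    omega
  refine ⟨d', fun n hn y hy => ?_⟩
  let Z : Submodule A (⨁ n, N n) :=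
    { carrier := {t | t ∈ totSub W ∧ ∀ n, d' ≤ n → t (n + 1) ∈ ⨆ i, (W n).map (τ i n)}
      add_mem' := by
        rintro a b ⟨ha, ha'⟩ ⟨hb, hb'⟩
        refine ⟨(totSub W).add_mem ha hb, fun n hn => ?_⟩
        rw [DirectSum.add_apply]
        exact Submodule.add_mem _ (ha' n hn) (hb' n hn)
      zero_mem' := by
        refine ⟨(totSub W).zero_mem, fun n _ => ?_⟩
        rw [DirectSum.zero_apply]
        exact Submodule.zero_mem _
      smul_mem' := by
        rintro c x ⟨hx, hx'⟩
        refine ⟨(totSub W).smul_mem c hx, fun n hn => ?_⟩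
        rw [DirectSum.smul_apply]
        exact Submodule.smul_mem _ c (hx' n hn) }
  have hZ : ∀ i, ∀ t ∈ Z, tot τ i t ∈ Z := by
    rintro i t ⟨ht, -⟩
    refine ⟨totSub_stable τ hW i t ht, fun n _ => ?_⟩
    rw [tot_apply_succ]
    exact Submodule.mem_iSup_of_mem i (Submodule.mem_map_of_mem (ht n))
  have hle : toOpSub τ (totSub W) (totSub_stable τ hW) ≤ toOpSub τ Z hZ := by
    rw [← hG]
    apply Submodule.span_le.2
    intro g hg
    refine ⟨hGmem g hg, fun n hn => ?_⟩
    rw [hd' g hg n hn]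
    exact Submodule.zero_mem _
  have h1 : DirectSum.lof A ℕ N (n + 1) y ∈ toOpSub τ Z hZ :=
    hle (lof_mem_totSub (n + 1) y hy)
  have h2 := h1.2 n hn
  rwa [DirectSum.lof_eq_of, DirectSum.of_eq_same] at h2

end Hilbert

section Step

variable {A : Type u} [CommRing A] {ι : Type w}

/-- Pushing a generation statement through a compatible family of linear maps:
`⨆ i, τ'' i (range f_m) = f_{m+1} (⨆ i, range (τ' i))`. -/
theorem iSup_map_range_eq {P P₁ Q Q₁ : Type v} [AddCommGroup P] [Module A P] [AddCommGroup P₁]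
    [Module A P₁] [AddCommGroup Q] [Module A Q] [AddCommGroup Q₁] [Module A Q₁]
    (f : P →ₗ[A] Q) (f₁ : P₁ →ₗ[A] Q₁) (τP : ι → P →ₗ[A] P₁) (τQ : ι → Q →ₗ[A] Q₁)
    (h : ∀ i x, f₁ (τP i x) = τQ i (f x)) :
    (⨆ i, (LinearMap.range f).map (τQ i)) = (⨆ i, LinearMap.range (τP i)).map f₁ := by
  rw [Submodule.map_iSup]
  congr 1
  funext i
  rw [← LinearMap.range_comp, ← LinearMap.range_comp]
  congr 1
  ext x
  exact (h i x).symm

variable {N NJ NQ NK : ℕ → Type v}
  [∀ n, AddCommGroup (N n)] [∀ n, Module A (N n)]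
  [∀ n, AddCommGroup (NJ n)] [∀ n, Module A (NJ n)]
  [∀ n, AddCommGroup (NQ n)] [∀ n, Module A (NQ n)]
  [∀ n, AddCommGroup (NK n)] [∀ n, Module A (NK n)]

/-- **Induction step of the graded finiteness theorem** (pure algebra).  `N` is a graded system
with operators `τN i` and a distinguished operator `t = ι ∘ π`; `NQ` ("cohomology of the cokernel
of `t`") and `NK` ("cohomology, one degree up, of the kernel of `t`") are finitely generated
graded systems for the operators `τQ`, `τK`.  Then `N` is generated in bounded degree by the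
`τN i` together with `t`. -/
theorem exists_bound_of_step [IsNoetherianRing A] [Finite ι]
    (τN : ι → ∀ n, N n →ₗ[A] N (n + 1)) (τJ : ι → ∀ n, NJ n →ₗ[A] NJ (n + 1))
    (τQ : ι → ∀ n, NQ n →ₗ[A] NQ (n + 1)) (τK : ι → ∀ n, NK n →ₗ[A] NK (n + 1))
    (π : ∀ n, N n →ₗ[A] NJ n) (j : ∀ n, NJ n →ₗ[A] N (n + 1))
    (ρ : ∀ n, N (n + 1) →ₗ[A] NQ n) (δ : ∀ n, NJ n →ₗ[A] NK n)
    (hρ : ∀ n y, ρ n y = 0 → ∃ z, j n z = y)
    (hδ : ∀ n z, δ n z = 0 → ∃ w, π n w = z)
    (hjτ : ∀ i n z, j (n + 1) (τJ i n z) = τN i (n + 1) (j n z))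
    (hρτ : ∀ i n y, ρ (n + 1) (τN i (n + 1) y) = τQ i n (ρ n y))
    (hδτ : ∀ i n z, δ (n + 1) (τJ i n z) = τK i n (δ n z))
    (hQcomm : ∀ i k n x, τQ i (n + 1) (τQ k n x) = τQ k (n + 1) (τQ i n x))
    (hKcomm : ∀ i k n x, τK i (n + 1) (τK k n x) = τK k (n + 1) (τK i n x))
    (hQfin : ∀ n, Module.Finite A (NQ n)) (hKfin : ∀ n, Module.Finite A (NK n))
    (dQ : ℕ) (hQgen : GenFrom τQ (fun _ => ⊤) dQ) (dK : ℕ) (hKgen : GenFrom τK (fun _ => ⊤) dK) :
    ∃ d, ∀ n, d ≤ n → ∀ y : N (n + 1),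
      y ∈ (⨆ i, LinearMap.range (τN i n)) ⊔ LinearMap.range ((j n).comp (π n)) := by
  obtain ⟨d₁, h₁⟩ := exists_genFrom_of_sub τQ hQcomm hQfin dQ hQgen
    (fun n => LinearMap.range (ρ n)) (by
      rintro i n _ ⟨y, rfl⟩
      exact ⟨τN i (n + 1) y, hρτ i n y⟩)
  obtain ⟨d₂, h₂⟩ := exists_genFrom_of_sub τK hKcomm hKfin dK hKgen
    (fun n => LinearMap.range (δ n)) (by
      rintro i n _ ⟨z, rfl⟩
      exact ⟨τJ i n z, hδτ i n z⟩)
  refine ⟨max d₁ d₂ + 1, fun n hn y => ?_⟩
  obtain ⟨m, rfl⟩ : ∃ m, n = m + 1 := ⟨n - 1, by omega⟩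
  have hm₁ : d₁ ≤ m := by omega
  have hm₂ : d₂ ≤ m := by omega
  -- first reduction, through `ρ`
  have e₁ : ρ (m + 1) y ∈ (⨆ i, LinearMap.range (τN i (m + 1))).map (ρ (m + 1)) := by
    rw [← iSup_map_range_eq (ρ m) (ρ (m + 1)) (fun i => τN i (m + 1)) (fun i => τQ i m)
      (fun i x => hρτ i m x)]
    exact h₁ m hm₁ ⟨y, rfl⟩
  obtain ⟨s, hs, hsy⟩ := e₁
  obtain ⟨z, hz⟩ := hρ (m + 1) (y - s) (by rw [map_sub, hsy, sub_self])
  -- second reduction, through `δ`
  have e₂ : δ (m + 1) z ∈ (⨆ i, LinearMap.range (τJ i m)).map (δ (m + 1)) := by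
    rw [← iSup_map_range_eq (δ m) (δ (m + 1)) (fun i => τJ i m) (fun i => τK i m)
      (fun i x => hδτ i m x)]
    exact h₂ m hm₂ ⟨z, rfl⟩
  obtain ⟨s', hs', hs'z⟩ := e₂
  obtain ⟨w, hw⟩ := hδ (m + 1) (z - s') (by rw [map_sub, hs'z, sub_self])
  have hjs' : j (m + 1) s' ∈ ⨆ i, LinearMap.range (τN i (m + 1)) := by
    have : (⨆ i, LinearMap.range (τJ i m)).map (j (m + 1)) ≤
        ⨆ i, LinearMap.range (τN i (m + 1)) := by
      rw [Submodule.map_iSup]
      refine iSup_mono fun i => ?_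
      rintro _ ⟨_, ⟨x, rfl⟩, rfl⟩
      exact ⟨j m x, (hjτ i m x).symm⟩
    exact this ⟨s', hs', rfl⟩
  have hy : y = (s + j (m + 1) s') + (j (m + 1)).comp (π (m + 1)) w := by
    rw [LinearMap.comp_apply, hw, map_sub, hz]
    abel
  rw [hy]
  exact Submodule.add_mem_sup (Submodule.add_mem _ hs hjs') ⟨w, rfl⟩

end Step

end Groth.Agent.R2.H64.FFGr
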