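import Mathlib
import Groth.Agent.R2.H64FFGr
import Groth.Agent.Lib.Helper19ComplTwo

/-!
# Abstract algebra core of the theorem on formal functions (helper64, coh-core package F)

Pure algebra.  The geometric input is packaged as hypotheses:
* `H = H^p(M)`, `HP m = H^p(M/I^m M)`, `K m = H^p(I^m M)`, `HK m = H^{p+1}(I^m M)`, `H' = H^{p+1}(M)`,
* the long exact sequences, their naturality in `m`, the multiplication operators
  `a_i : I^m M → I^{m+1} M`, and *bounded generation* of the graded systems `K`, `HK`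
  (graded finiteness theorem, EGA III 3.3.2).

* `range_le_pow_smul_top` : kernels are adically small (core of S0057).
* `exists_uniform_ML`     : uniform Mittag-Leffler (core of S0058).
-/

set_option autoImplicit false

namespace Groth.Agent.R2.H64.FFCore

open Groth.Agent.R2.H64.FFGr

universe u v w

section PartA

variable {A : Type u} [CommRing A] (I : Ideal A) {ι : Type w} (a : ι → A)
variable {H : Type v} [AddCommGroup H] [Module A H]
variable {K : ℕ → Type v} [∀ n, AddCommGroup (K n)] [∀ n, Module A (K n)]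

/-- **Kernels are adically small.** If the graded system `K` (with operators `τ i` lying over
multiplication by `a i ∈ I` on `H`) is generated from degree `d` on, then the image of `K n` in `H`
is contained in `I^(n-d) H`. -/
theorem range_le_pow_smul_top (ha : ∀ i, a i ∈ I) (ιK : ∀ n, K n →ₗ[A] H)
    (τ : ι → ∀ n, K n →ₗ[A] K (n + 1))
    (h : ∀ i n x, ιK (n + 1) (τ i n x) = a i • ιK n x) (d : ℕ)
    (hgen : GenFrom τ (fun _ => ⊤) d) (n : ℕ) (hn : d ≤ n) :
    LinearMap.range (ιK n) ≤ I ^ (n - d) • (⊤ : Submodule A H) := by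
  induction n, hn using Nat.le_induction with
  | base => simp
  | succ n hn ih =>
    rintro _ ⟨y, rfl⟩
    have hy : y ∈ ⨆ i, (⊤ : Submodule A (K n)).map (τ i n) := hgen n hn Submodule.mem_top
    induction hy using Submodule.iSup_induction' with
    | mem i y hy =>
      obtain ⟨x, -, rfl⟩ := hy
      rw [h]
      have : n + 1 - d = (n - d) + 1 := by omega
      rw [this, pow_succ', mul_smul]
      exact Submodule.smul_mem_smul (ha i) (ih ⟨x, rfl⟩)
    | zero => rw [map_zero]; exact Submodule.zero_mem _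
    | add y z _ _ hy hz => rw [map_add]; exact Submodule.add_mem _ hy hz

end PartA

section PartB

variable {A : Type u} [CommRing A] (I : Ideal A) {ι : Type w} (a : ι → A)
variable {H H' : Type v} [AddCommGroup H] [Module A H] [AddCommGroup H'] [Module A H']
variable {HP HK : ℕ → Type v} [∀ n, AddCommGroup (HP n)] [∀ n, Module A (HP n)]
  [∀ n, AddCommGroup (HK n)] [∀ n, Module A (HK n)]

/-- iterated transition map `HK (m + j) → HK m`. -/
def sC (s : ∀ m, HK (m + 1) →ₗ[A] HK m) (m : ℕ) : ∀ j, HK (m + j) →ₗ[A] HK m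
  | 0 => LinearMap.id
  | j + 1 => (sC s m j).comp (s (m + j))

theorem sC_zero (s : ∀ m, HK (m + 1) →ₗ[A] HK m) (m : ℕ) (x : HK m) : sC s m 0 x = x := rfl

theorem sC_succ (s : ∀ m, HK (m + 1) →ₗ[A] HK m) (m j : ℕ) (x : HK (m + j + 1)) :
    sC s m (j + 1) x = sC s m j (s (m + j) x) := rfl

/-- **Uniform Mittag-Leffler.**  See the module docstring for the meaning of the data. -/
theorem exists_uniform_ML [IsNoetherianRing A] [Finite ι] (ha : ∀ i, a i ∈ I)
    (π : ∀ m, H →ₗ[A] HP m) (t : ∀ m, HP (m + 1) →ₗ[A] HP m)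
    (Tr : ∀ m k, m ≤ k → (HP k →ₗ[A] HP m))
    (hTr0 : ∀ m x, Tr m m le_rfl x = x)
    (hTrS : ∀ m k (h : m ≤ k) (h' : m ≤ k + 1) x, Tr m (k + 1) h' x = Tr m k h (t k x))
    (δ : ∀ m, HP m →ₗ[A] HK m) (ι' : ∀ m, HK m →ₗ[A] H')
    (s : ∀ m, HK (m + 1) →ₗ[A] HK m) (τ : ι → ∀ m, HK m →ₗ[A] HK (m + 1))
    (hexP : ∀ m x, δ m x = 0 → ∃ y, π m y = x)
    (hexK : ∀ m x, ι' m x = 0 → ∃ y, δ m y = x)
    (hδt : ∀ m x, δ m (t m x) = s m (δ (m + 1) x))
    (hδι : ∀ m y, ι' m (δ m y) = 0)
    (hι's : ∀ m x, ι' m (s m x) = ι' (m + 1) x)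
    (hι'τ : ∀ i m x, ι' (m + 1) (τ i m x) = a i • ι' m x)
    (hsτ : ∀ i m x, s m (τ i m x) = a i • x)
    (e : ℕ) (hkill : ∀ m (r : A), r ∈ I ^ (m + e) → ∀ x : HP m, r • x = 0)
    (hcomm : ∀ i k n x, τ i (n + 1) (τ k n x) = τ k (n + 1) (τ i n x))
    (hfin : ∀ m, Module.Finite A (HK m)) (d₀ : ℕ) (hgen : GenFrom τ (fun _ => ⊤) d₀) :
    ∃ c, ∀ m k (h : m ≤ k), m + c ≤ k → ∀ x : HP k, ∃ y : H, π m y = Tr m k h x := by
  -- the sub-system `W = ker ι'`
  let W : ∀ m, Submodule A (HK m) := fun m => LinearMap.ker (ι' m)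
  have hWτ : ∀ i m x, x ∈ W m → τ i m x ∈ W (m + 1) := by
    intro i m x hx
    change ι' (m + 1) (τ i m x) = 0
    rw [hι'τ, (show ι' m x = 0 from hx), smul_zero]
  have hWs : ∀ m x, x ∈ W (m + 1) → s m x ∈ W m := by
    intro m x hx
    change ι' m (s m x) = 0
    rw [hι's]; exact hx
  obtain ⟨d, hd⟩ := exists_genFrom_of_sub τ hcomm hfin d₀ hgen W hWτ
  -- `W m` is killed by `I^m`
  have hW0 : ∀ m (r : A), r ∈ I ^ (m + e) → ∀ x ∈ W m, r • x = 0 := by
    intro m r hr x hx
    obtain ⟨y, rfl⟩ := hexK m x hx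
    rw [← map_smul, hkill m r hr y, map_zero]
  -- `W m` is killed by `I^d` for all `m`
  have hWd' : ∀ m, d ≤ m → ∀ (r : A), r ∈ I ^ (d + e) → ∀ x ∈ W m, r • x = 0 := by
    intro m hm'
    induction m, hm' using Nat.le_induction with
    | base => exact hW0 d
    | succ m hm' ih =>
      intro r hr x hx
      have key : ∀ y, y ∈ ⨆ i, (W m).map (τ i m) → r • y = 0 := by
        intro y hy'
        induction hy' using Submodule.iSup_induction' with
        | mem i y hy =>
          obtain ⟨z, hz, rfl⟩ := hy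
          rw [← map_smul, ih r hr z hz, map_zero]
        | zero => rw [smul_zero]
        | add y z _ _ hy hz => rw [smul_add, hy, hz, add_zero]
      exact key x (hd m hm' hx)
  have hWd : ∀ m (r : A), r ∈ I ^ (d + e) → ∀ x ∈ W m, r • x = 0 := by
    intro m
    by_cases hm : m ≤ d
    · intro r hr x hx
      exact hW0 m r (Ideal.pow_le_pow_right (by omega) hr) x hx
    · exact hWd' m (by omega)
  -- one transition step lands in `I • W m` for `m ≥ d`
  have hstep : ∀ m, d ≤ m → (W (m + 1)).map (s m) ≤ I • W m := by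
    intro m hm
    have key : ∀ y, y ∈ ⨆ i, (W m).map (τ i m) → s m y ∈ I • W m := by
      intro y hy'
      induction hy' using Submodule.iSup_induction' with
      | mem i y hy =>
        obtain ⟨z, hz, rfl⟩ := hy
        rw [hsτ]
        exact Submodule.smul_mem_smul (ha i) hz
      | zero => rw [map_zero]; exact Submodule.zero_mem _
      | add y z _ _ hy hz => rw [map_add]; exact Submodule.add_mem _ hy hz
    rintro _ ⟨x, hx, rfl⟩
    exact key x (hd m hm hx)
  -- iterated transitions
  have hiter : ∀ m j, (W (m + j)).map (sC s m j) ≤ I ^ (j - (d - m)) • W m := by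
    intro m j
    induction j with
    | zero =>
      rintro _ ⟨x, hx, rfl⟩
      rw [sC_zero]
      simpa using hx
    | succ j ih =>
      rintro _ ⟨x, hx, rfl⟩
      rw [sC_succ]
      by_cases hmj : d ≤ m + j
      · have h1 : s (m + j) x ∈ I • W (m + j) := hstep (m + j) hmj ⟨x, hx, rfl⟩
        have h2 : sC s m j (s (m + j) x) ∈ (I • W (m + j)).map (sC s m j) := ⟨_, h1, rfl⟩
        rw [Submodule.map_smul''] at h2
        have h3 : I • (W (m + j)).map (sC s m j) ≤ I • (I ^ (j - (d - m)) • W m) :=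
          Submodule.smul_mono le_rfl ih
        have h4 : j + 1 - (d - m) = (j - (d - m)) + 1 := by omega
        rw [h4, pow_succ', mul_smul]
        exact h3 h2
      · have h4 : j + 1 - (d - m) = 0 := by omega
        have h5 : j - (d - m) = 0 := by omega
        have h1 : s (m + j) x ∈ W (m + j) := hWs (m + j) x hx
        have h2 := ih ⟨_, h1, rfl⟩
        rw [h5] at h2
        rw [h4]
        exact h2
  have hzero : ∀ m j, 2 * d + e ≤ j → ∀ x ∈ W (m + j), sC s m j x = 0 := by
    intro m j hj x hx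
    have h1 := hiter m j ⟨x, hx, rfl⟩
    have h2 : I ^ (j - (d - m)) ≤ I ^ (d + e) := Ideal.pow_le_pow_right (by omega)
    have h3 : I ^ (j - (d - m)) • W m ≤ ⊥ := by
      rw [Submodule.smul_le]
      intro r hr n hn
      rw [hWd m r (h2 hr) n hn]
      exact Submodule.zero_mem _
    exact (Submodule.mem_bot A).1 (h3 h1)
  -- compatibility of `δ` with iterated transitions
  have hδTr : ∀ m j (h : m ≤ m + j) (x : HP (m + j)),
      δ m (Tr m (m + j) h x) = sC s m j (δ (m + j) x) := by
    intro m j
    induction j with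
    | zero => intro h x; rw [sC_zero]; exact congrArg _ (hTr0 m x)
    | succ j ih =>
      intro h x
      change δ m (Tr m (m + j + 1) h x) = sC s m j (s (m + j) (δ (m + j + 1) x))
      rw [← hδt, ← ih (Nat.le_add_right m j)]
      exact congrArg _ (hTrS m (m + j) (Nat.le_add_right m j) h x)
  refine ⟨2 * d + e, fun m k h hk x => ?_⟩
  obtain ⟨j, rfl⟩ : ∃ j, k = m + j := ⟨k - m, by omega⟩
  apply hexP
  rw [hδTr]
  exact hzero m j (by omega) _ (hδι _ x)

end PartB

section PartC

variable {A : Type u} [CommRing A] (I : Ideal A)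
variable {H : Type v} [AddCommGroup H] [Module A H]
variable {HP : ℕ → Type v} [∀ n, AddCommGroup (HP n)] [∀ n, Module A (HP n)]

/-- From `π (n+1) ≫ t n = π n` one gets `π n (h) = y n` for any `h` lifting a later `y`. -/
theorem proj_eq_of_compat (π : ∀ n, H →ₗ[A] HP n) (t : ∀ n, HP (n + 1) →+ HP n)
    (hπt : ∀ n y, t n (π (n + 1) y) = π n y) (y : ∀ n, HP n) (hy : ∀ n, t n (y (n + 1)) = y n)
    (hseq : ℕ → H) (hh : ∀ n, π n (hseq n) = y n) (j n : ℕ) : π n (hseq (n + j)) = y n := by
  induction j generalizing n with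
  | zero => exact hh n
  | succ j ih =>
    have e : n + (j + 1) = n + 1 + j := by omega
    rw [e, ← hπt, ih (n + 1), hy]

/-- **Formal functions, completion form.**  If the kernels of `π n : H → HP n` are squeezed
between `I^(n+1) H` and `I^(n-c) H`, and every compatible family is termwise in the image of `H`,
then the `I`-adic completion of `H` is the inverse limit `L` of the `HP n`. -/
theorem nonempty_addEquiv_adicCompletion
    (π : ∀ n, H →ₗ[A] HP n) (t : ∀ n, HP (n + 1) →+ HP n)
    (hπt : ∀ n y, t n (π (n + 1) y) = π n y)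
    (hkill : ∀ n, I ^ (n + 1) • (⊤ : Submodule A H) ≤ LinearMap.ker (π n))
    (c : ℕ) (h₁ : ∀ n, c ≤ n → LinearMap.ker (π n) ≤ I ^ (n - c) • (⊤ : Submodule A H))
    (h₂ : ∀ x : ∀ n, HP n, (∀ n, t n (x (n + 1)) = x n) → ∀ n, ∃ y, π n y = x n)
    (L : AddSubgroup (∀ n, HP n)) (hL : ∀ x, x ∈ L ↔ ∀ n, t n (x (n + 1)) = x n) :
    Nonempty (AdicCompletion I H ≃+ L) := by
  let q : ∀ n, (H ⧸ (I ^ (n + 1) • ⊤ : Submodule A H)) →ₗ[A] HP n :=
    fun n => Submodule.liftQ _ (π n) (hkill n)
  have hq : ∀ n h, q n (Submodule.Quotient.mk h) = π n h := fun n h => rfl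
  have hcompat : ∀ (x : AdicCompletion I H) n,
      t n (q (n + 1) (x.val (n + 1 + 1))) = q n (x.val (n + 1)) := by
    intro x n
    obtain ⟨h, hh⟩ := Submodule.Quotient.mk_surjective _ (x.val (n + 1 + 1))
    have e : x.val (n + 1) = Submodule.Quotient.mk h := by
      rw [← AdicCompletion.transitionMap_comp_eval_apply I H (Nat.le_succ (n + 1)) x, ← hh]
      exact Submodule.factor_mk _ h
    rw [e, ← hh, hq, hq, hπt]
  let Φ : AdicCompletion I H →+ L :=
    { toFun := fun x => ⟨fun n => q n (x.val (n + 1)), (hL _).2 (hcompat x)⟩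
      map_zero' := by
        apply Subtype.ext
        funext n
        change q n ((0 : AdicCompletion I H).val (n + 1)) = 0
        rw [AdicCompletion.val_zero_apply, map_zero]
      map_add' := by
        intro x y
        apply Subtype.ext
        funext n
        change q n ((x + y).val (n + 1)) = q n (x.val (n + 1)) + q n (y.val (n + 1))
        rw [AdicCompletion.val_add_apply, map_add] }
  have hΦ : ∀ x n, (Φ x : ∀ n, HP n) n = q n (x.val (n + 1)) := fun x n => rfl
  refine ⟨AddEquiv.ofBijective Φ ⟨?_, ?_⟩⟩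
  · -- injective
    rw [injective_iff_map_eq_zero]
    intro x hx
    ext m
    have hx' : q (m + c) (x.val (m + c + 1)) = 0 := by
      rw [← hΦ, hx]; rfl
    obtain ⟨h, hh⟩ := Submodule.Quotient.mk_surjective _ (x.val (m + c + 1))
    rw [← hh, hq] at hx'
    have hmem : h ∈ I ^ m • (⊤ : Submodule A H) := by
      have := h₁ (m + c) (by omega) (show h ∈ LinearMap.ker (π (m + c)) from hx')
      rwa [show m + c - c = m by omega] at this
    rw [← AdicCompletion.transitionMap_comp_eval_apply I H (show m ≤ m + c + 1 by omega) x, ← hh,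
      AdicCompletion.val_zero_apply]
    refine (Submodule.factor_mk _ h).trans ?_
    exact (Submodule.Quotient.mk_eq_zero _).2 hmem
  · -- surjective
    rintro ⟨y, hy⟩
    have hy' := (hL y).1 hy
    choose hseq hh using h₂ y hy'
    have key := proj_eq_of_compat π t hπt y hy' hseq hh
    let g : ℕ → H := fun n => hseq (n + c)
    have hg : ∀ n, g n ≡ g (n + 1) [SMOD (I ^ n • ⊤ : Submodule A H)] := by
      intro n
      rw [SModEq.sub_mem]
      have hk : g n - g (n + 1) ∈ LinearMap.ker (π (n + c)) := by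
        change π (n + c) (hseq (n + c) - hseq (n + 1 + c)) = 0
        rw [map_sub, hh, show n + 1 + c = (n + c) + 1 by omega, key 1 (n + c), sub_self]
      have := h₁ (n + c) (by omega) hk
      rwa [show n + c - c = n by omega] at this
    refine ⟨AdicCompletion.mk I H (AdicCompletion.AdicCauchySequence.mk I H g hg), ?_⟩
    apply Subtype.ext
    funext n
    change q n (Submodule.Quotient.mk (g (n + 1))) = y n
    rw [hq]
    change π n (hseq (n + 1 + c)) = y n
    rw [show n + 1 + c = n + (1 + c) by omega]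
    exact key (1 + c) n

/-- A finite module over a Noetherian `I`-adically complete ring is `I`-adically complete. -/
theorem isAdicComplete_of_finite [IsNoetherianRing A] [IsAdicComplete I A] [Module.Finite A H] :
    IsAdicComplete I H := by
  have : IsHausdorff I H := IsHausdorff.of_le_jacobson I H (IsAdicComplete.le_jacobson_bot I)
  have : IsPrecomplete I H := by
    obtain ⟨n, f, hf⟩ := Module.Finite.exists_fin' A H
    have : IsPrecomplete I (Fin n → A) := Groth.Agent.Lib.Helper19.isPrecomplete_pi_module I A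
    exact Groth.Agent.Lib.Helper19.isPrecomplete_of_surjective_module I f hf
  exact {}

/-- **Formal functions over a complete base.**  Same hypotheses as
`nonempty_addEquiv_adicCompletion`, plus: `A` Noetherian and `I`-adically complete, `H` finite.
Then the canonical map `H → lim HP n` is bijective. -/
theorem bijective_toLim [IsNoetherianRing A] [IsAdicComplete I A] [Module.Finite A H]
    (π : ∀ n, H →ₗ[A] HP n) (t : ∀ n, HP (n + 1) →+ HP n)
    (hπt : ∀ n y, t n (π (n + 1) y) = π n y)
    (hkill : ∀ n, I ^ (n + 1) • (⊤ : Submodule A H) ≤ LinearMap.ker (π n))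
    (c : ℕ) (h₁ : ∀ n, c ≤ n → LinearMap.ker (π n) ≤ I ^ (n - c) • (⊤ : Submodule A H))
    (h₂ : ∀ x : ∀ n, HP n, (∀ n, t n (x (n + 1)) = x n) → ∀ n, ∃ y, π n y = x n)
    (L : AddSubgroup (∀ n, HP n)) (hL : ∀ x, x ∈ L ↔ ∀ n, t n (x (n + 1)) = x n)
    (Ψ : H →+ L) (hΨ : ∀ h n, (Ψ h : ∀ n, HP n) n = π n h) : Function.Bijective Ψ := by
  have := isAdicComplete_of_finite I (A := A) (H := H)
  constructor
  · rw [injective_iff_map_eq_zero]
    intro h hh
    apply IsHausdorff.haus (I := I) inferInstance
    intro m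
    rw [SModEq.zero]
    have h0 : π (m + c) h = 0 := by
      rw [← hΨ, hh]; rfl
    have := h₁ (m + c) (by omega) (show h ∈ LinearMap.ker (π (m + c)) from h0)
    rwa [show m + c - c = m by omega] at this
  · rintro ⟨y, hy⟩
    have hy' := (hL y).1 hy
    choose hseq hh using h₂ y hy'
    have key := proj_eq_of_compat π t hπt y hy' hseq hh
    let g : ℕ → H := fun n => hseq (n + c)
    have hg : ∀ {m n}, m ≤ n → g m ≡ g n [SMOD (I ^ m • ⊤ : Submodule A H)] := by
      intro m n hmn
      rw [SModEq.sub_mem]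
      have hk : g m - g n ∈ LinearMap.ker (π (m + c)) := by
        change π (m + c) (hseq (m + c) - hseq (n + c)) = 0
        rw [map_sub, hh, show n + c = (m + c) + (n - m) by omega, key (n - m) (m + c), sub_self]
      have := h₁ (m + c) (by omega) hk
      rwa [show m + c - c = m by omega] at this
    obtain ⟨h, hlim⟩ := IsPrecomplete.prec (I := I) inferInstance hg
    refine ⟨h, ?_⟩
    apply Subtype.ext
    funext n
    rw [hΨ]
    have h1 := hlim (n + 1)
    rw [SModEq.sub_mem] at h1
    have h2 : g (n + 1) - h ∈ LinearMap.ker (π n) := hkill n h1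
    have h3 : π n (g (n + 1)) = π n h := by
      have := (LinearMap.mem_ker).1 h2
      rwa [map_sub, sub_eq_zero] at this
    rw [← h3]
    change π n (hseq (n + 1 + c)) = y n
    rw [show n + 1 + c = n + (1 + c) by omega]
    exact key (1 + c) n

end PartC

end Groth.Agent.R2.H64.FFCore
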