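import Mathlib
import Groth.Agent.R2.H35FFReesH
import Groth.Agent.R2.H64FFCore

/-!
# Formal functions: completion form and complete-base form from S0057 + S0058 (helper35, package F4b)

* `s0059_of` : conclusions of S0057 and S0058 ⇒ `AdicCompletion I (H^p(X, M)) ≃+ lim_n H^p(X, M/I^(n+1)M)`.
* `s0003_of` : the same plus `A` Noetherian `I`-adically complete, `H^p(X, M)` finite ⇒
  `Formal.toHHlim I M p` is bijective.
-/

set_option autoImplicit false
universe u

open CategoryTheory CategoryTheory.Limits AlgebraicGeometry Opposite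

namespace Groth.Agent.R2.H35.FFLim

open Groth.Agent.R2.H35.FFRees Groth.Agent.R2.H62.CohLES Groth.Agent.R2.H64.FFCore

variable {A : Type u} [CommRing A] {X : Scheme.{u}} [X.Over (Spec (CommRingCat.of A))]

section
variable (I : Ideal A) (M : X.Modules) (p : ℕ)

/-- The general transition map `H^p(M/I^(k+1)M) → H^p(M/I^(n+1)M)`, `n ≤ k` (the one of S0058). -/
noncomputable def Tr {n k : ℕ} (h : n ≤ k) : Formal.HHmodPow I M p k →+ Formal.HHmodPow I M p n :=
  HHmap ((Formal.completion I M).map (homOfLE h).op) p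

theorem Tr_eq {n k : ℕ} (h : n ≤ k) :
    Tr I M p h = Sheaf.H.map ((SheafOfModules.toSheaf X.ringCatSheaf).map
      ((Formal.completion I M).map (homOfLE h).op)) p := rfl

theorem completion_map_succ (k : ℕ) :
    (Formal.completion I M).map (homOfLE (Nat.le_add_right k 1)).op =
      Formal.modPowTrans I (k + 1) M :=
  Functor.ofOpSequence_map_homOfLE_succ _ k

theorem Tr_self (n : ℕ) (x : Formal.HHmodPow I M p n) : Tr I M p (le_refl n) x = x := by
  have e : (Formal.completion I M).map (homOfLE (le_refl n)).op = 𝟙 _ :=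
    (Formal.completion I M).map_id (op n)
  exact (congrArg (fun f => HHmap f p x) e).trans (HHmap_id p x)

theorem Tr_succ {n k : ℕ} (h : n ≤ k) (x : Formal.HHmodPow I M p (k + 1)) :
    Tr I M p (h.trans (Nat.le_add_right k 1)) x = Tr I M p h (Formal.HHmodPowTrans I M p k x) := by
  have e1 : (Formal.completion I M).map ((homOfLE (Nat.le_add_right k 1)).op ≫ (homOfLE h).op) =
      (Formal.completion I M).map (homOfLE (Nat.le_add_right k 1)).op ≫
        (Formal.completion I M).map (homOfLE h).op := Functor.map_comp _ _ _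
  have e2 := completion_map_succ I M k
  have e : (Formal.completion I M).map (homOfLE (h.trans (Nat.le_add_right k 1))).op =
      Formal.modPowTrans I (k + 1) M ≫ (Formal.completion I M).map (homOfLE h).op :=
    e1.trans (congrArg (fun g => g ≫ (Formal.completion I M).map (homOfLE h).op) e2)
  exact (congrArg (fun f => HHmap f p x) e).trans
    (HHmap_comp (Formal.modPowTrans I (k + 1) M) ((Formal.completion I M).map (homOfLE h).op) p x)

theorem Tr_of_compat (x : ∀ n, Formal.HHmodPow I M p n)
    (hx : ∀ n, Formal.HHmodPowTrans I M p n (x (n + 1)) = x n) (n j : ℕ) :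
    Tr I M p (Nat.le_add_right n j) (x (n + j)) = x n := by
  induction j with
  | zero => exact Tr_self I M p n (x n)
  | succ j ih =>
    exact (Tr_succ I M p (Nat.le_add_right n j) (x (n + j + 1))).trans
      ((congrArg (Tr I M p (Nat.le_add_right n j)) (hx (n + j))).trans ih)

end

/-- **Formal functions, completion form**, from the conclusions of S0057 and S0058. -/
theorem s0059_of (A : Type u) [CommRing A] (I : Ideal A) (X : Scheme.{u})
    [X.Over (Spec (CommRingCat.of A))] (M : X.Modules) (p : ℕ)
    (h57 : ∃ c : ℕ, ∀ n : ℕ, c ≤ n →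
      ((Formal.toHHmodPow I M p n).ker : Set (Coh.HH X M p)) ⊆
        ((I ^ (n - c) • (⊤ : Submodule A (Coh.HH X M p)) : Submodule A (Coh.HH X M p)) :
          Set (Coh.HH X M p)))
    (h58 : ∃ c : ℕ, ∀ (n k : ℕ) (h : n ≤ k), n + c ≤ k →
      Set.range (Sheaf.H.map ((SheafOfModules.toSheaf X.ringCatSheaf).map
        ((Formal.completion I M).map (homOfLE h).op)) p) = Set.range (Formal.toHHmodPow I M p n)) :
    Nonempty (AdicCompletion I (Coh.HH X M p) ≃+ Formal.HHlim I M p) := by
  obtain ⟨c, hc⟩ := h57
  obtain ⟨c', hc'⟩ := h58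
  refine nonempty_addEquiv_adicCompletion I (H := Coh.HH X M p)
    (HP := fun n => Formal.HHmodPow I M p n)
    (fun n => πH I M p (n + 1)) (fun n => Formal.HHmodPowTrans I M p n) ?_ ?_ c ?_ ?_
    (Formal.HHlim I M p) (fun x => Iff.rfl)
  · intro n y
    exact tH_πH I M p (n + 1) y
  · intro n
    rw [Submodule.smul_le]
    intro r hr x _
    rw [LinearMap.mem_ker, map_smul]
    exact smul_HH_modPow_eq_zero I M p (n + 1) r hr _
  · intro n hn y hy
    exact hc n hn hy
  · intro x hx n
    have h1 : x n ∈ Set.range (Tr I M p (Nat.le_add_right n c')) :=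
      ⟨x (n + c'), Tr_of_compat I M p x hx n c'⟩
    have h2 := hc' n (n + c') (Nat.le_add_right n c') le_rfl
    have h3 : x n ∈ Set.range (Formal.toHHmodPow I M p n) := (Set.ext_iff.mp h2 (x n)).mp h1
    exact h3

/-- **Formal functions over a complete base**, from the conclusions of S0057 and S0058 and
finiteness of `H^p(X, M)`. -/
theorem s0003_of (A : Type u) [CommRing A] [IsNoetherianRing A] (I : Ideal A) [IsAdicComplete I A]
    (X : Scheme.{u}) [X.Over (Spec (CommRingCat.of A))] (M : X.Modules) (p : ℕ)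
    [Module.Finite A (Coh.HH X M p)]
    (h57 : ∃ c : ℕ, ∀ n : ℕ, c ≤ n →
      ((Formal.toHHmodPow I M p n).ker : Set (Coh.HH X M p)) ⊆
        ((I ^ (n - c) • (⊤ : Submodule A (Coh.HH X M p)) : Submodule A (Coh.HH X M p)) :
          Set (Coh.HH X M p)))
    (h58 : ∃ c : ℕ, ∀ (n k : ℕ) (h : n ≤ k), n + c ≤ k →
      Set.range (Sheaf.H.map ((SheafOfModules.toSheaf X.ringCatSheaf).map
        ((Formal.completion I M).map (homOfLE h).op)) p) = Set.range (Formal.toHHmodPow I M p n)) :
    Function.Bijective (Formal.toHHlim I M p) := by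
  obtain ⟨c, hc⟩ := h57
  obtain ⟨c', hc'⟩ := h58
  refine bijective_toLim I (H := Coh.HH X M p)
    (HP := fun n => Formal.HHmodPow I M p n)
    (fun n => πH I M p (n + 1)) (fun n => Formal.HHmodPowTrans I M p n) ?_ ?_ c ?_ ?_
    (Formal.HHlim I M p) (fun x => Iff.rfl) (Formal.toHHlim I M p) (fun h n => rfl)
  · intro n y
    exact tH_πH I M p (n + 1) y
  · intro n
    rw [Submodule.smul_le]
    intro r hr x _
    rw [LinearMap.mem_ker, map_smul]
    exact smul_HH_modPow_eq_zero I M p (n + 1) r hr _
  · intro n hn y hy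
    exact hc n hn hy
  · intro x hx n
    have h1 : x n ∈ Set.range (Tr I M p (Nat.le_add_right n c')) :=
      ⟨x (n + c'), Tr_of_compat I M p x hx n c'⟩
    have h2 := hc' n (n + c') (Nat.le_add_right n c') le_rfl
    have h3 : x n ∈ Set.range (Formal.toHHmodPow I M p n) := (Set.ext_iff.mp h2 (x n)).mp h1
    exact h3

end Groth.Agent.R2.H35.FFLim
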