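import Mathlib
import Groth.Prelude.Def_Formal
import Groth.Agent.R2.H62CohLES
import Groth.Agent.R2.H62CohDelta
import Groth.Agent.R2.H64FFGr

/-!
# Interface file for coh-core package F (formal functions), sheaf side (helper64)

Definitions and *named statements* (Props) so that the pieces can be proved in parallel.

* `GrSys X r`  : a graded system of `O_X`-modules `G n` with `r` commuting operators
  `T i n : G n ⟶ G (n+1)`.
* `appₗ φ U`   : the `Γ(X,U)`-linear map on sections over `U` of a morphism of modules.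
* `LocFin 𝒢`   : all `G n` coherent and, over every affine open, the system of sections is
  generated in bounded degree.
* `CohGen A 𝒢 q` : the graded system `n ↦ H^q(X, G n)` of `A`-modules is generated in bounded degree.
* `GrFinStmt A X` : the **graded finiteness theorem** (EGA III 3.3.1): `LocFin 𝒢 → CohGen A 𝒢 q`.
* `powMod I n M = kernel (M → M/I^nM)` (`= I^n M`), `powSC I n M` the short exact sequence
  `0 → I^nM → M → M/I^nM → 0`.
* `ReesData I a M` : the Rees system `G n = I^n M`, `T i = ` multiplication by `a i`, with all the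
  compatibilities needed by the assembly of S0057/S0058.
-/

set_option autoImplicit false
universe u

open CategoryTheory CategoryTheory.Limits AlgebraicGeometry

namespace Groth.Agent.R2.H64.FFSpec

open Groth.Agent.R2.H64.FFGr Groth.Agent.R2.H62.CohLES

/-- A graded system of `O_X`-modules with `r` commuting operators of degree one. -/
structure GrSys (X : Scheme.{u}) (r : ℕ) where
  /-- the pieces -/
  G : ℕ → X.Modules
  /-- the operators -/
  T : Fin r → ∀ n, G n ⟶ G (n + 1)
  comm : ∀ i j n, T i n ≫ T j (n + 1) = T j n ≫ T i (n + 1)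

variable {X : Scheme.{u}}

/-- The `Γ(X,U)`-linear map on sections over `U` induced by a morphism of `O_X`-modules. -/
noncomputable def appₗ {M N : X.Modules} (φ : M ⟶ N) (U : X.Opens) : Γ(M, U) →ₗ[Γ(X, U)] Γ(N, U) where
  toFun x := φ.app U x
  map_add' x y := map_add _ x y
  map_smul' r x := Scheme.Modules.Hom.app_smul φ r x

@[simp]
theorem appₗ_apply {M N : X.Modules} (φ : M ⟶ N) (U : X.Opens) (x : Γ(M, U)) :
    appₗ φ U x = φ.app U x := rfl

/-- Over `U`, the system of sections is generated from degree `d` on. -/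
def GenOn {r : ℕ} (𝒢 : GrSys X r) (U : X.Opens) (d : ℕ) : Prop :=
  GenFrom (A := Γ(X, U)) (N := fun n => Γ(𝒢.G n, U)) (fun i n => appₗ (𝒢.T i n) U) (fun _ => ⊤) d

/-- Coherent pieces, and bounded generation of the sections over every affine open. -/
structure LocFin {r : ℕ} (𝒢 : GrSys X r) : Prop where
  coh : ∀ n, Coh.IsCoh (𝒢.G n)
  gen : ∀ U : X.Opens, IsAffineOpen U → ∃ d, GenOn 𝒢 U d

/-- The cohomology system `n ↦ H^q(X, G n)` is generated in bounded degree over `A`. -/
def CohGen (A : Type u) [CommRing A] [X.Over (Spec (CommRingCat.of A))] {r : ℕ} (𝒢 : GrSys X r)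
    (q : ℕ) : Prop :=
  ∃ d, GenFrom (A := A) (N := fun n => Coh.HH X (𝒢.G n) q)
    (fun i n => HHmapA A (𝒢.T i n) q) (fun _ => ⊤) d

/-- **Graded finiteness theorem** (EGA III 3.3.1, in elementary form). -/
def GrFinStmt (A : Type u) [CommRing A] (X : Scheme.{u}) [X.Over (Spec (CommRingCat.of A))] : Prop :=
  ∀ (r : ℕ) (𝒢 : GrSys X r), LocFin 𝒢 → ∀ q, CohGen A 𝒢 q

section Rees

variable {A : Type u} [CommRing A] [X.Over (Spec (CommRingCat.of A))]

/-- `I^n M`, as the kernel of `M → M / I^n M`. -/
noncomputable abbrev powMod (I : Ideal A) (n : ℕ) (M : X.Modules) : X.Modules :=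
  kernel (Formal.modPowπ I n M)

/-- The short complex `0 → I^nM → M → M/I^nM → 0`. -/
noncomputable def powSC (I : Ideal A) (n : ℕ) (M : X.Modules) : ShortComplex X.Modules :=
  ShortComplex.mk (kernel.ι (Formal.modPowπ I n M)) (Formal.modPowπ I n M) (kernel.condition _)

theorem powSC_shortExact (I : Ideal A) (n : ℕ) (M : X.Modules) : (powSC I n M).ShortExact where
  exact := ShortComplex.exact_kernel _
  mono_f := inferInstanceAs (Mono (kernel.ι _))
  epi_g := inferInstanceAs (Epi (cokernel.π _))

/-- The Rees system of `M` w.r.t. generators `a i` of `I`, with its compatibilities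
(package F3).  `mul i n : I^nM ⟶ I^(n+1)M` is multiplication by `a i`, `incl n` the inclusion
`I^(n+1)M ⟶ I^nM`, `quotMul i n : M/I^nM ⟶ M/I^(n+1)M` multiplication by `a i`. -/
structure ReesData (I : Ideal A) {r : ℕ} (a : Fin r → A) (M : X.Modules) where
  mul : Fin r → ∀ n, powMod I n M ⟶ powMod I (n + 1) M
  mul_ι : ∀ i n, mul i n ≫ kernel.ι (Formal.modPowπ I (n + 1) M) =
    kernel.ι (Formal.modPowπ I n M) ≫ Formal.smulMod A M (a i)
  incl : ∀ n, powMod I (n + 1) M ⟶ powMod I n M
  incl_ι : ∀ n, incl n ≫ kernel.ι (Formal.modPowπ I n M) = kernel.ι (Formal.modPowπ I (n + 1) M)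
  mul_incl : ∀ i n, mul i n ≫ incl n = Formal.smulMod A (powMod I n M) (a i)
  quotMul : Fin r → ∀ n, Formal.modPow I n M ⟶ Formal.modPow I (n + 1) M
  π_quotMul : ∀ i n, Formal.modPowπ I n M ≫ quotMul i n =
    Formal.smulMod A M (a i) ≫ Formal.modPowπ I (n + 1) M

/-- The graded system underlying Rees data. -/
noncomputable def ReesData.sys {I : Ideal A} {r : ℕ} {a : Fin r → A} {M : X.Modules}
    (D : ReesData I a M)
    (hcomm : ∀ i j n, D.mul i n ≫ D.mul j (n + 1) = D.mul j n ≫ D.mul i (n + 1)) : GrSys X r where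
  G n := powMod I n M
  T := D.mul
  comm := hcomm

/-- **Package F3 statement.**  For `M` coherent on a locally Noetherian `X` over `Spec A` and
generators `a` of `I`, Rees data exist, the operators commute and the Rees system is `LocFin`. -/
def ReesStmt (A : Type u) [CommRing A] (X : Scheme.{u}) [X.Over (Spec (CommRingCat.of A))] : Prop :=
  ∀ (I : Ideal A) (r : ℕ) (a : Fin r → A), Ideal.span (Set.range a) = I →
    ∀ (M : X.Modules), Coh.IsCoh M →
      ∃ (D : ReesData I a M)
        (hcomm : ∀ i j n, D.mul i n ≫ D.mul j (n + 1) = D.mul j n ≫ D.mul i (n + 1)),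
        LocFin (D.sys hcomm)

/-- **Scalar facts** (part of package F3): the `A`-module structure on cohomology is induced by
`Formal.smulMod`, and `M/I^nM` is killed by `I^n`. -/
def SmulStmt (A : Type u) [CommRing A] (X : Scheme.{u}) [X.Over (Spec (CommRingCat.of A))] : Prop :=
  (∀ (M : X.Modules) (a : A) (q : ℕ) (x : Coh.HH X M q),
      HHmap (Formal.smulMod A M a) q x = a • x) ∧
  (∀ (I : Ideal A) (n : ℕ) (M : X.Modules) (a : A), a ∈ I ^ n →
      Formal.smulMod A (Formal.modPow I n M) a = 0)

end Rees

end Groth.Agent.R2.H64.FFSpec
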