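import Mathlib
import Groth.Agent.R2.H64FFSpec
import Groth.Agent.R2.H35FFRees
import Groth.Agent.R2.H35FFReesCoh
import Groth.Agent.R2.H35FFReesH
import Groth.Agent.Lib.Helper23QCohSum

/-!
# Package F3 of coh-core (helper35): `SmulStmt` and `ReesStmt` of `R2/H64FFSpec.lean`
-/

set_option autoImplicit false
set_option linter.style.haveILetI false
universe u

open CategoryTheory CategoryTheory.Limits AlgebraicGeometry Opposite

namespace Groth.Agent.R2.H35.FFRees

open Groth.Agent.R2.H62.CohLES Groth.Agent.R2.H64.FFGr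

variable {A : Type u} [CommRing A] {X : Scheme.{u}} [X.Over (Spec (CommRingCat.of A))]

/-- **Package F3a.** -/
theorem smulStmt (A : Type u) [CommRing A] (X : Scheme.{u}) [X.Over (Spec (CommRingCat.of A))] :
    Groth.Agent.R2.H64.FFSpec.SmulStmt A X :=
  ⟨fun M a q x => HHmap_smulMod M a q x, fun I n M a ha => smulMod_modPow_eq_zero I M n a ha⟩

/-- Multiplication by `a ∈ I` as a map `M / I^n M ⟶ M / I^(n+1) M`. -/
noncomputable def quotMul (I : Ideal A) (n : ℕ) (M : X.Modules) (a : A) (ha : a ∈ I) :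
    Formal.modPow I n M ⟶ Formal.modPow I (n + 1) M :=
  cokernel.desc (Formal.smulFamily (I ^ n) M) (Formal.smulMod A M a ≫ Formal.modPowπ I (n + 1) M) (by
    rw [Groth.Agent.S9530.smulFamily_comp_eq_zero_iff]
    intro b hb
    rw [← Category.assoc, ← Groth.Agent.R2.H40.FormalMod.smulMod_mul]
    exact smulMod_π_eq_zero I (n + 1) M (a * b) (by rw [pow_succ']; exact Ideal.mul_mem_mul ha hb))

theorem π_quotMul (I : Ideal A) (n : ℕ) (M : X.Modules) (a : A) (ha : a ∈ I) :
    Formal.modPowπ I n M ≫ quotMul I n M a ha =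
      Formal.smulMod A M a ≫ Formal.modPowπ I (n + 1) M :=
  cokernel.π_desc _ _ _

/-- The Rees data of `M` with respect to generators `a` of `I`. -/
noncomputable def reesData (I : Ideal A) {r : ℕ} (a : Fin r → A) (hai : ∀ i, a i ∈ I)
    (M : X.Modules) : Groth.Agent.R2.H64.FFSpec.ReesData I a M where
  mul i n := mulPow I n M (a i) (hai i)
  mul_ι i n := mulPow_ι I n M (a i) (hai i)
  incl n := powModIncl I n M
  incl_ι n := powModIncl_ι I n M
  mul_incl i n := mulPow_incl I n M (a i) (hai i)
  quotMul i n := quotMul I n M (a i) (hai i)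
  π_quotMul i n := π_quotMul I n M (a i) (hai i)

attribute [local instance] Abelian.hasFiniteBiproducts

/-- **Generation, biproduct form.** -/
theorem epi_biproductDesc_mulPow {r : ℕ} (I : Ideal A) (a : Fin r → A)
    (hI : Ideal.span (Set.range a) = I) (n : ℕ) (M : X.Modules) :
    Epi (biproduct.desc (fun i : Fin r => mulPow I n M (a i) (hI ▸ Ideal.subset_span ⟨i, rfl⟩))) := by
  constructor
  intro T g h hgh
  apply mulPow_jointly_epi I a hI n M
  intro i
  have := congrArg (fun k => biproduct.ι (fun _ : Fin r => powMod I n M) i ≫ k) hgh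
  simpa using this

/-- evaluation of a morphism of modules at a section, additive in the morphism -/
noncomputable def evalHom {M N : X.Modules} (U : X.Opens) (x : Γ(M, U)) : (M ⟶ N) →+ Γ(N, U) where
  toFun φ := φ.app U x
  map_zero' := rfl
  map_add' _ _ := rfl

theorem sum_app {M N : X.Modules} {ι : Type*} (s : Finset ι) (f : ι → (M ⟶ N)) (U : X.Opens)
    (x : Γ(M, U)) : (∑ i ∈ s, f i).app U x = ∑ i ∈ s, (f i).app U x :=
  map_sum (evalHom U x) f s

/-- **Package F3b.** -/
theorem reesStmt (A : Type u) [CommRing A] (X : Scheme.{u}) [X.Over (Spec (CommRingCat.of A))]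
    [IsLocallyNoetherian X] : Groth.Agent.R2.H64.FFSpec.ReesStmt A X := by
  intro I r a hI M hM
  have hai : ∀ i, a i ∈ I := fun i => hI ▸ Ideal.subset_span ⟨i, rfl⟩
  refine ⟨reesData I a hai M, fun i j n => mulPow_comm I n M (a i) (a j) (hai i) (hai j), ?_, ?_⟩
  · intro n
    exact isCoh_powMod I n M hM
  · intro U hU
    refine ⟨0, ?_⟩
    change GenFrom (A := Γ(X, U)) (N := fun n => Γ(powMod I n M, U))
      (fun i n => Groth.Agent.R2.H64.FFSpec.appₗ (mulPow I n M (a i) (hai i)) U) (fun _ => ⊤) 0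
    intro n _ y _
    change y ∈ ⨆ i, (⊤ : Submodule Γ(X, U) Γ(powMod I n M, U)).map
      (Groth.Agent.R2.H64.FFSpec.appₗ (mulPow I n M (a i) (hai i)) U)
    haveI hq : ∀ k, (powMod I k M).IsQuasicoherent := fun k => isQCoh_powMod I k M hM.1
    haveI : (⨁ fun _ : Fin r => powMod I n M).IsQuasicoherent :=
      Groth.Agent.Lib.Helper23.QCohLocal.isQuasicoherent_biproduct _ (fun _ => hq n)
    set ψ : (⨁ fun _ : Fin r => powMod I n M) ⟶ powMod I (n + 1) M :=
      biproduct.desc (fun i : Fin r => mulPow I n M (a i) (hai i)) with hψ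
    haveI : Epi ψ := epi_biproductDesc_mulPow I a hI n M
    obtain ⟨x, rfl⟩ := Groth.Agent.Lib.Helper23.FinType.surjective_app_of_epi ψ hU y
    have hψ' : ψ = ∑ i : Fin r, biproduct.π (fun _ : Fin r => powMod I n M) i ≫
        mulPow I n M (a i) (hai i) := by
      rw [← Category.id_comp ψ, ← biproduct.total, Preadditive.sum_comp]
      refine Finset.sum_congr rfl fun i _ => ?_
      rw [Category.assoc, hψ, biproduct.ι_desc]
    rw [hψ', sum_app]
    refine Submodule.sum_mem _ fun i _ => ?_
    refine Submodule.mem_iSup_of_mem i ?_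
    exact ⟨(biproduct.π (fun _ : Fin r => powMod I n M) i).app U x, Submodule.mem_top, rfl⟩

end Groth.Agent.R2.H35.FFRees
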