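import Mathlib
import Groth.Agent.R2.H64FFSpec
import Groth.Agent.R2.H62CohDelta
import Groth.Agent.Lib.Helper20StalkExact
import Groth.Agent.Lib.Helper23FinTypeLocal
import Groth.Agent.Lib.Helper23QCohAbelian
import Groth.Agent.Lib.Helper23FinType

/-!
# The graded finiteness theorem (EGA III 3.3.1), by induction on the number of operators
(helper64, coh-core package F2)

`grFin` : for `X` Noetherian (locally Noetherian + compact) over `Spec A`, `A` Noetherian, assuming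
finiteness of coherent cohomology (`hfin`, i.e. S0002), every `LocFin` graded system of coherent
sheaves has cohomology systems generated in bounded degree (`GrFinStmt A X`).
-/

set_option autoImplicit false
set_option linter.style.haveILetI false
universe u

open CategoryTheory CategoryTheory.Limits AlgebraicGeometry

namespace Groth.Agent.R2.H64.FFGrFin

open Groth.Agent.R2.H64.FFGr Groth.Agent.R2.H64.FFSpec Groth.Agent.R2.H62.CohLES
open Groth.Agent.Lib.Helper20.StalkExact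

variable {X : Scheme.{u}}

section sections

/-- Left exactness of sections: sections of a kernel. -/
theorem exists_app_kernel_eq {M N : X.Modules} (φ : M ⟶ N) (U : X.Opens) (t : Γ(M, U))
    (ht : φ.app U t = 0) : ∃ k : Γ(kernel φ, U), (kernel.ι φ).app U k = t := by
  let E : ShortComplex X.Modules := ShortComplex.mk (kernel.ι φ) φ (kernel.condition φ)
  have hE : E.Exact := ShortComplex.exact_kernel φ
  haveI : Mono E.f := inferInstanceAs (Mono (kernel.ι φ))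
  haveI : (secF (X := X) U).PreservesZeroMorphisms := ⟨fun _ _ => rfl⟩
  have h1 : (E.map (secF U)).Exact :=
    hE.map_of_mono_of_preservesKernel (secF U) inferInstance inferInstance
  rw [ShortComplex.ab_exact_iff] at h1
  exact h1 t ht

theorem app_comp_apply {M N P : X.Modules} (φ : M ⟶ N) (ψ : N ⟶ P) (U : X.Opens) (x : Γ(M, U)) :
    (φ ≫ ψ).app U x = ψ.app U (φ.app U x) := rfl

theorem app_zero_apply {M N : X.Modules} (U : X.Opens) (x : Γ(M, U)) :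
    (0 : M ⟶ N).app U x = 0 := rfl

end sections

section systems

variable {r : ℕ} (𝒢 : GrSys X (r + 1))

/-- The distinguished (last) operator. -/
abbrev tt (n : ℕ) : 𝒢.G n ⟶ 𝒢.G (n + 1) := 𝒢.T (Fin.last r) n

/-- The other operators. -/
abbrev TT (i : Fin r) (n : ℕ) : 𝒢.G n ⟶ 𝒢.G (n + 1) := 𝒢.T i.castSucc n

theorem tt_TT (i : Fin r) (n : ℕ) : tt 𝒢 n ≫ TT 𝒢 i (n + 1) = TT 𝒢 i n ≫ tt 𝒢 (n + 1) :=
  𝒢.comm (Fin.last r) i.castSucc n

/-- Kernels of the last operator. -/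
noncomputable abbrev KG (n : ℕ) : X.Modules := kernel (tt 𝒢 n)

/-- Cokernels of the last operator (`QG n` is a quotient of `G (n+1)`). -/
noncomputable abbrev QG (n : ℕ) : X.Modules := cokernel (tt 𝒢 n)

/-- Images of the last operator (`JG n ⊆ G (n+1)`). -/
noncomputable abbrev JG (n : ℕ) : X.Modules := Abelian.image (tt 𝒢 n)

/-- induced operators on the kernels -/
noncomputable def KT (i : Fin r) (n : ℕ) : KG 𝒢 n ⟶ KG 𝒢 (n + 1) :=
  kernel.map (tt 𝒢 n) (tt 𝒢 (n + 1)) (TT 𝒢 i n) (TT 𝒢 i (n + 1)) (tt_TT 𝒢 i n)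

@[reassoc (attr := simp)]
theorem KT_ι (i : Fin r) (n : ℕ) :
    KT 𝒢 i n ≫ kernel.ι (tt 𝒢 (n + 1)) = kernel.ι (tt 𝒢 n) ≫ TT 𝒢 i n := by
  simp [KT]

/-- induced operators on the cokernels -/
noncomputable def QT (i : Fin r) (n : ℕ) : QG 𝒢 n ⟶ QG 𝒢 (n + 1) :=
  cokernel.map (tt 𝒢 n) (tt 𝒢 (n + 1)) (TT 𝒢 i n) (TT 𝒢 i (n + 1)) (tt_TT 𝒢 i n)

@[reassoc (attr := simp)]
theorem π_QT (i : Fin r) (n : ℕ) :
    cokernel.π (tt 𝒢 n) ≫ QT 𝒢 i n = TT 𝒢 i (n + 1) ≫ cokernel.π (tt 𝒢 (n + 1)) := by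
  simp [QT]

/-- induced operators on the images -/
noncomputable def JT (i : Fin r) (n : ℕ) : JG 𝒢 n ⟶ JG 𝒢 (n + 1) :=
  kernel.map (cokernel.π (tt 𝒢 n)) (cokernel.π (tt 𝒢 (n + 1))) (TT 𝒢 i (n + 1))
    (QT 𝒢 i n) (π_QT 𝒢 i n)

@[reassoc (attr := simp)]
theorem JT_ι (i : Fin r) (n : ℕ) :
    JT 𝒢 i n ≫ Abelian.image.ι (tt 𝒢 (n + 1)) = Abelian.image.ι (tt 𝒢 n) ≫ TT 𝒢 i (n + 1) := by
  simp [JT]

@[reassoc]
theorem factor_JT (i : Fin r) (n : ℕ) :
    Abelian.factorThruImage (tt 𝒢 n) ≫ JT 𝒢 i n =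
      TT 𝒢 i n ≫ Abelian.factorThruImage (tt 𝒢 (n + 1)) := by
  rw [← cancel_mono (Abelian.image.ι (tt 𝒢 (n + 1)))]
  simp only [Category.assoc, JT_ι, Abelian.image.fac]
  rw [← Category.assoc, Abelian.image.fac]
  exact tt_TT 𝒢 i n

/-- The system of kernels of the last operator. -/
noncomputable abbrev Ksys : GrSys X r where
  G := KG 𝒢
  T := KT 𝒢
  comm i j n := by
    rw [← cancel_mono (kernel.ι (tt 𝒢 (n + 1 + 1)))]
    simp only [Category.assoc, KT_ι, KT_ι_assoc]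
    exact congrArg (kernel.ι (tt 𝒢 n) ≫ ·) (𝒢.comm i.castSucc j.castSucc n)

/-- The system of cokernels of the last operator. -/
noncomputable abbrev Qsys : GrSys X r where
  G := QG 𝒢
  T := QT 𝒢
  comm i j n := by
    rw [← cancel_epi (cokernel.π (tt 𝒢 n))]
    simp only [π_QT_assoc, π_QT]
    exact congrArg (· ≫ cokernel.π (tt 𝒢 (n + 1 + 1))) (𝒢.comm i.castSucc j.castSucc (n + 1))

/-- `0 → K n → G n → J n → 0`. -/
noncomputable def S₁ (n : ℕ) : ShortComplex X.Modules :=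
  ShortComplex.mk (kernel.ι (tt 𝒢 n)) (Abelian.factorThruImage (tt 𝒢 n)) (by
    rw [← cancel_mono (Abelian.image.ι (tt 𝒢 n))]
    simp)

theorem S₁_shortExact (n : ℕ) : (S₁ 𝒢 n).ShortExact where
  exact := by
    apply ShortComplex.exact_of_f_is_kernel
    exact isKernelOfComp (Abelian.image.ι (tt 𝒢 n)) (tt 𝒢 n) (kernelIsKernel (tt 𝒢 n))
      (S₁ 𝒢 n).zero (Abelian.image.fac (tt 𝒢 n))
  mono_f := inferInstanceAs (Mono (kernel.ι _))
  epi_g := inferInstanceAs (Epi (Abelian.factorThruImage _))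

/-- `0 → J n → G (n+1) → Q n → 0`. -/
noncomputable def S₂ (n : ℕ) : ShortComplex X.Modules :=
  ShortComplex.mk (Abelian.image.ι (tt 𝒢 n)) (cokernel.π (tt 𝒢 n)) (kernel.condition _)

theorem S₂_shortExact (n : ℕ) : (S₂ 𝒢 n).ShortExact where
  exact := ShortComplex.exact_kernel _
  mono_f := inferInstanceAs (Mono (kernel.ι _))
  epi_g := inferInstanceAs (Epi (cokernel.π _))

/-- The operators as morphisms of the short exact sequences `S₁`. -/
noncomputable def S₁hom (i : Fin r) (n : ℕ) : S₁ 𝒢 n ⟶ S₁ 𝒢 (n + 1) where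
  τ₁ := KT 𝒢 i n
  τ₂ := TT 𝒢 i n
  τ₃ := JT 𝒢 i n
  comm₁₂ := KT_ι 𝒢 i n
  comm₂₃ := (factor_JT 𝒢 i n).symm

/-- The operators as morphisms of the short exact sequences `S₂`. -/
noncomputable def S₂hom (i : Fin r) (n : ℕ) : S₂ 𝒢 n ⟶ S₂ 𝒢 (n + 1) where
  τ₁ := JT 𝒢 i n
  τ₂ := TT 𝒢 i (n + 1)
  τ₃ := QT 𝒢 i n
  comm₁₂ := JT_ι 𝒢 i n
  comm₂₃ := (π_QT 𝒢 i n).symm

end systems

section locfin

open Groth.Agent.Lib.Helper23.QCohLocal Groth.Agent.Lib.Helper23.FinType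

theorem isCoh_kernel [IsLocallyNoetherian X] {M N : X.Modules} (hM : Coh.IsCoh M)
    (hN : Coh.IsCoh N) (φ : M ⟶ N) : Coh.IsCoh (kernel φ) := by
  haveI := hM.1
  haveI := hM.2
  haveI := hN.1
  haveI : (kernel φ).IsQuasicoherent := isQuasicoherent_kernel φ
  exact ⟨inferInstance, isFiniteType_of_mono (kernel.ι φ)⟩

theorem isCoh_cokernel {M N : X.Modules} (hM : Coh.IsCoh M)
    (hN : Coh.IsCoh N) (φ : M ⟶ N) : Coh.IsCoh (cokernel φ) := by
  haveI := hM.1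
  haveI := hN.1
  haveI := hN.2
  haveI : (cokernel φ).IsQuasicoherent := isQuasicoherent_cokernel φ
  exact ⟨inferInstance, isFiniteType_of_epi (cokernel.π φ)⟩

variable {r : ℕ} (𝒢 : GrSys X (r + 1))

theorem appₗ_comm {s : ℕ} (ℋ : GrSys X s) (i j : Fin s) (n : ℕ) (U : X.Opens) (x : Γ(ℋ.G n, U)) :
    appₗ (ℋ.T i (n + 1)) U (appₗ (ℋ.T j n) U x) = appₗ (ℋ.T j (n + 1)) U (appₗ (ℋ.T i n) U x) :=
  congrArg (fun φ : ℋ.G n ⟶ ℋ.G (n + 1 + 1) => φ.app U x) (ℋ.comm j i n)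

theorem genOn_Qsys (h𝒢 : LocFin 𝒢) (U : X.Opens) (hU : IsAffineOpen U) (d : ℕ)
    (hd : GenOn 𝒢 U d) : GenOn (Qsys 𝒢) U d := by
  intro n hn y _
  haveI := (h𝒢.coh (n + 1 + 1)).1
  haveI : (cokernel (tt 𝒢 (n + 1))).IsQuasicoherent :=
    (isCoh_cokernel (h𝒢.coh (n + 1)) (h𝒢.coh (n + 1 + 1)) (tt 𝒢 (n + 1))).1
  obtain ⟨x, rfl⟩ := surjective_app_of_epi (cokernel.π (tt 𝒢 (n + 1))) hU y
  have hx : x ∈ ⨆ i, (⊤ : Submodule Γ(X, U) Γ(𝒢.G (n + 1), U)).map (appₗ (𝒢.T i (n + 1)) U) :=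
    hd (n + 1) (by omega) Submodule.mem_top
  have key : ∀ z, z ∈ ⨆ i, (⊤ : Submodule Γ(X, U) Γ(𝒢.G (n + 1), U)).map (appₗ (𝒢.T i (n + 1)) U) →
      appₗ (cokernel.π (tt 𝒢 (n + 1))) U z ∈
        ⨆ i, (⊤ : Submodule Γ(X, U) Γ((Qsys 𝒢).G n, U)).map (appₗ ((Qsys 𝒢).T i n) U) := by
    intro z hz
    induction hz using Submodule.iSup_induction' with
    | mem i z hz =>
      obtain ⟨w, -, rfl⟩ := hz
      induction i using Fin.lastCases with
      | last =>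
        have : appₗ (cokernel.π (tt 𝒢 (n + 1))) U (appₗ (𝒢.T (Fin.last r) (n + 1)) U w) = 0 :=
          congrArg (fun φ : 𝒢.G (n + 1) ⟶ cokernel (tt 𝒢 (n + 1)) => φ.app U w)
            (cokernel.condition (tt 𝒢 (n + 1)))
        rw [this]
        exact Submodule.zero_mem _
      | cast i =>
        have : appₗ (cokernel.π (tt 𝒢 (n + 1))) U (appₗ (𝒢.T i.castSucc (n + 1)) U w) =
            appₗ ((Qsys 𝒢).T i n) U (appₗ (cokernel.π (tt 𝒢 n)) U w) :=
          congrArg (fun φ : 𝒢.G (n + 1) ⟶ cokernel (tt 𝒢 (n + 1)) => φ.app U w)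
            (π_QT 𝒢 i n).symm
        rw [this]
        exact Submodule.mem_iSup_of_mem i ⟨_, Submodule.mem_top, rfl⟩
    | zero => rw [map_zero]; exact Submodule.zero_mem _
    | add y z _ _ hy hz => rw [map_add]; exact Submodule.add_mem _ hy hz
  exact key x hx

theorem genOn_Ksys [IsLocallyNoetherian X] (h𝒢 : LocFin 𝒢) (U : X.Opens) (hU : IsAffineOpen U) :
    ∃ d, GenOn (Ksys 𝒢) U d := by
  obtain ⟨d₀, hd₀⟩ := h𝒢.gen U hU
  haveI : IsNoetherianRing Γ(X, U) := IsLocallyNoetherian.component_noetherian ⟨U, hU⟩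
  have hfin : ∀ n, Module.Finite Γ(X, U) Γ(𝒢.G n, U) := by
    intro n
    haveI := (h𝒢.coh n).1
    haveI := (h𝒢.coh n).2
    exact finite_of_isFiniteType (𝒢.G n) hU
  -- the sub-system `W = ker t`
  let τ : Fin (r + 1) → ∀ n, Γ(𝒢.G n, U) →ₗ[Γ(X, U)] Γ(𝒢.G (n + 1), U) :=
    fun i n => appₗ (𝒢.T i n) U
  let W : ∀ n, Submodule Γ(X, U) Γ(𝒢.G n, U) := fun n => LinearMap.ker (τ (Fin.last r) n)
  have hW : ∀ i n x, x ∈ W n → τ i n x ∈ W (n + 1) := by
    intro i n x hx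
    change τ (Fin.last r) (n + 1) (τ i n x) = 0
    rw [appₗ_comm 𝒢 (Fin.last r) i n U x, (show τ (Fin.last r) n x = 0 from hx), map_zero]
  obtain ⟨d, hd⟩ := exists_genFrom_of_sub τ (fun i j n x => appₗ_comm 𝒢 i j n U x) hfin d₀ hd₀ W hW
  refine ⟨d, fun n hn y _ => ?_⟩
  -- the inclusions
  let ι : ∀ n, Γ((Ksys 𝒢).G n, U) →ₗ[Γ(X, U)] Γ(𝒢.G n, U) := fun n => appₗ (kernel.ι (tt 𝒢 n)) U
  have hι : ∀ n, LinearMap.range (ι n) = W n := by
    intro n
    apply le_antisymm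
    · rintro _ ⟨k, rfl⟩
      exact congrArg (fun φ : kernel (tt 𝒢 n) ⟶ 𝒢.G (n + 1) => φ.app U k)
        (kernel.condition (tt 𝒢 n))
    · intro x hx
      obtain ⟨k, hk⟩ := exists_app_kernel_eq (tt 𝒢 n) U x hx
      exact ⟨k, hk⟩
  have hιy : ι (n + 1) y ∈ W (n + 1) := by rw [← hι]; exact ⟨y, rfl⟩
  have h1 : ι (n + 1) y ∈ ⨆ i : Fin r, (W n).map (τ i.castSucc n) := by
    have h2 : (⨆ i, (W n).map (τ i n)) ≤ ⨆ i : Fin r, (W n).map (τ i.castSucc n) := by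
      refine iSup_le fun i => ?_
      induction i using Fin.lastCases with
      | last =>
        rintro _ ⟨x, hx, rfl⟩
        rw [show τ (Fin.last r) n x = 0 from hx]
        exact Submodule.zero_mem _
      | cast i => exact le_iSup (fun i : Fin r => (W n).map (τ i.castSucc n)) i
    exact h2 (hd n hn hιy)
  have h3 : (⨆ i : Fin r, (W n).map (τ i.castSucc n)) =
      (⨆ i, LinearMap.range (appₗ ((Ksys 𝒢).T i n) U)).map (ι (n + 1)) := by
    rw [← hι n]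
    exact iSup_map_range_eq (ι n) (ι (n + 1)) (fun i => appₗ ((Ksys 𝒢).T i n) U)
      (fun i => τ i.castSucc n) (fun i x =>
        congrArg (fun φ : kernel (tt 𝒢 n) ⟶ 𝒢.G (n + 1) => φ.app U x) (KT_ι 𝒢 i n))
  rw [h3] at h1
  obtain ⟨s, hs, hsy⟩ := h1
  have hinj : Function.Injective (ι (n + 1)) :=
    injective_app_of_mono (kernel.ι (tt 𝒢 (n + 1))) U
  have : s = y := hinj hsy
  subst this
  simp only [Submodule.map_top]
  exact hs

theorem locFin_Ksys [IsLocallyNoetherian X] (h𝒢 : LocFin 𝒢) : LocFin (Ksys 𝒢) where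
  coh n := isCoh_kernel (h𝒢.coh n) (h𝒢.coh (n + 1)) (tt 𝒢 n)
  gen U hU := genOn_Ksys 𝒢 h𝒢 U hU

theorem locFin_Qsys (h𝒢 : LocFin 𝒢) : LocFin (Qsys 𝒢) where
  coh n := isCoh_cokernel (h𝒢.coh n) (h𝒢.coh (n + 1)) (tt 𝒢 n)
  gen U hU := by
    obtain ⟨d, hd⟩ := h𝒢.gen U hU
    exact ⟨d, genOn_Qsys 𝒢 h𝒢 U hU d hd⟩

end locfin

section base

open Groth.Agent.Lib.Helper23.ModLocal TopologicalSpace

theorem surjective_app_of_eq' {M N : X.Modules} (φ : M ⟶ N) {A B : X.Opens} (h : A = B)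
    (hb : Function.Surjective (φ.app B)) : Function.Surjective (φ.app A) := by
  subst h; exact hb

/-- a morphism of quasi-coherent modules which is surjective on sections over the members of an
affine open cover is an epimorphism (app-form of `epi_of_surjective_ΓU`). -/
theorem epi_of_surjective_app_cover' {M N : X.Modules} [M.IsQuasicoherent] [N.IsQuasicoherent]
    (φ : M ⟶ N) {ι : Type*} (V : ι → X.Opens) (hV : IsOpenCover V) (hVa : ∀ i, IsAffineOpen (V i))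
    (h : ∀ i, Function.Surjective (φ.app (V i))) : Epi φ := by
  refine epi_of_surjective_ΓU φ V hV hVa fun i => ?_
  have h1 : (hVa i).fromSpec ''ᵁ ⊤ = V i :=
    (Scheme.Hom.image_top_eq_opensRange _).trans (hVa i).opensRange_fromSpec
  exact surjective_app_of_eq' φ h1 (h i)

/-- Base case: a `LocFin` system without operators vanishes in large degrees. -/
theorem exists_isZero_of_locFin_zero [CompactSpace X] (𝒢 : GrSys X 0) (h𝒢 : LocFin 𝒢) :
    ∃ d, ∀ n, d ≤ n → IsZero (𝒢.G (n + 1)) := by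
  have hloc : ∀ x : X, ∃ V : X.Opens, IsAffineOpen V ∧ x ∈ V := by
    intro x
    obtain ⟨V, hV, hxV, -⟩ := (Opens.isBasis_iff_nbhd.1 X.isBasis_affineOpens) (Opens.mem_top x)
    exact ⟨V, hV, hxV⟩
  choose Vx hVa hxV using hloc
  obtain ⟨s, hs⟩ := isCompact_univ.elim_finite_subcover (fun x : X => (Vx x : Set X))
    (fun x => (Vx x).2) (fun y _ => Set.mem_iUnion.2 ⟨y, hxV y⟩)
  choose dx hdx using fun x => h𝒢.gen (Vx x) (hVa x)
  refine ⟨s.sup dx, fun n hn => ?_⟩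
  haveI := (h𝒢.coh (n + 1)).1
  have hsub : ∀ x ∈ s, ∀ y : Γ(𝒢.G (n + 1), Vx x), y = 0 := by
    intro x hx y
    have h1 := hdx x n ((Finset.le_sup (f := dx) hx).trans hn) (Submodule.mem_top (x := y))
    rw [iSup_of_empty] at h1
    exact (Submodule.mem_bot _).1 h1
  haveI : Epi (0 : 𝒢.G (n + 1) ⟶ 𝒢.G (n + 1)) := by
    refine epi_of_surjective_app_cover' (0 : 𝒢.G (n + 1) ⟶ 𝒢.G (n + 1))
      (fun x : s => Vx x.1) ?_ (fun x => hVa x.1) (fun x y => ⟨0, ?_⟩)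
    · rw [IsOpenCover, eq_top_iff]
      intro y _
      obtain ⟨x, hx⟩ := Set.mem_iUnion.1 (hs (Set.mem_univ y))
      obtain ⟨hxs, hyx⟩ := Set.mem_iUnion.1 hx
      exact Opens.mem_iSup.2 ⟨⟨x, hxs⟩, hyx⟩
    · rw [hsub x.1 x.2 y, map_zero]
  exact IsZero.of_epi_eq_zero (0 : 𝒢.G (n + 1) ⟶ 𝒢.G (n + 1)) rfl

theorem cohGen_zero (A : Type u) [CommRing A] [X.Over (Spec (CommRingCat.of A))] [CompactSpace X]
    (𝒢 : GrSys X 0) (h𝒢 : LocFin 𝒢) (q : ℕ) : CohGen A 𝒢 q := by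
  obtain ⟨d, hd⟩ := exists_isZero_of_locFin_zero 𝒢 h𝒢
  refine ⟨d, fun n hn y _ => ?_⟩
  have hz : IsZero (Coh.toAb (𝒢.G (n + 1))) :=
    Functor.map_isZero (SheafOfModules.toSheaf X.ringCatSheaf) (hd n hn)
  haveI : Subsingleton (Coh.HH X (𝒢.G (n + 1)) q) := Sheaf.subsingleton_H_of_isZero hz q
  rw [Subsingleton.elim y 0]
  exact Submodule.zero_mem _

end base

section step

variable (A : Type u) [CommRing A] [IsNoetherianRing A] [X.Over (Spec (CommRingCat.of A))]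
  [IsLocallyNoetherian X]

omit [IsLocallyNoetherian X] in
/-- naturality square on cohomology from a commutative square of modules -/
theorem HHmap_square {M N P Q : X.Modules} (f : M ⟶ N) (g : N ⟶ Q) (f' : M ⟶ P) (g' : P ⟶ Q)
    (w : f ≫ g = f' ≫ g') (q : ℕ) (x : Coh.HH X M q) :
    HHmap g q (HHmap f q x) = HHmap g' q (HHmap f' q x) := by
  rw [← HHmap_comp, ← HHmap_comp, w]

/-- **Induction step** of the graded finiteness theorem. -/
theorem cohGen_step (hfin : ∀ M : X.Modules, Coh.IsCoh M → ∀ q, Module.Finite A (Coh.HH X M q))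
    {r : ℕ} (IH : ∀ (ℋ : GrSys X r), LocFin ℋ → ∀ q, CohGen A ℋ q)
    (𝒢 : GrSys X (r + 1)) (h𝒢 : LocFin 𝒢) (q : ℕ) : CohGen A 𝒢 q := by
  have hLQ := locFin_Qsys 𝒢 h𝒢
  have hLK := locFin_Ksys 𝒢 h𝒢
  obtain ⟨dQ, hQ⟩ := IH (Qsys 𝒢) hLQ q
  obtain ⟨dK, hK⟩ := IH (Ksys 𝒢) hLK (q + 1)
  obtain ⟨d, hd⟩ := exists_bound_of_step (A := A)
    (N := fun n => Coh.HH X (𝒢.G n) q) (NJ := fun n => Coh.HH X (JG 𝒢 n) q)
    (NQ := fun n => Coh.HH X (QG 𝒢 n) q) (NK := fun n => Coh.HH X (KG 𝒢 n) (q + 1))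
    (fun i n => HHmapA A (TT 𝒢 i n) q) (fun i n => HHmapA A (JT 𝒢 i n) q)
    (fun i n => HHmapA A (QT 𝒢 i n) q) (fun i n => HHmapA A (KT 𝒢 i n) (q + 1))
    (fun n => HHmapA A (Abelian.factorThruImage (tt 𝒢 n)) q)
    (fun n => HHmapA A (Abelian.image.ι (tt 𝒢 n)) q)
    (fun n => HHmapA A (cokernel.π (tt 𝒢 n)) q)
    (fun n => δA (S₁_shortExact 𝒢 n) A q)
    (fun n y hy => ((exact_f_g (S₂_shortExact 𝒢 n) q) y).1 hy)
    (fun n z hz => ((exact_g_δ (S₁_shortExact 𝒢 n) q) z).1 hz)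
    (fun i n z => HHmap_square _ _ _ _ (JT_ι 𝒢 i n) q z)
    (fun i n y => HHmap_square _ _ _ _ (π_QT 𝒢 i n).symm q y)
    (fun i n z => δ_naturality (S₁_shortExact 𝒢 n) (S₁_shortExact 𝒢 (n + 1)) (S₁hom 𝒢 i n) q z)
    (fun i k n x => HHmap_square _ _ _ _ ((Qsys 𝒢).comm k i n) q x)
    (fun i k n x => HHmap_square _ _ _ _ ((Ksys 𝒢).comm k i n) (q + 1) x)
    (fun n => hfin _ (hLQ.coh n) q) (fun n => hfin _ (hLK.coh n) (q + 1))
    dQ hQ dK hK
  refine ⟨d, fun n hn y _ => ?_⟩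
  have hy := hd n hn y
  have hle : (⨆ i : Fin r, LinearMap.range (HHmapA A (TT 𝒢 i n) q)) ⊔
      LinearMap.range ((HHmapA A (Abelian.image.ι (tt 𝒢 n)) q).comp
        (HHmapA A (Abelian.factorThruImage (tt 𝒢 n)) q)) ≤
      ⨆ i : Fin (r + 1), (⊤ : Submodule A (Coh.HH X (𝒢.G n) q)).map (HHmapA A (𝒢.T i n) q) := by
    refine sup_le (iSup_le fun i => ?_) ?_
    · rw [← Submodule.map_top]
      exact le_iSup (fun i : Fin (r + 1) =>
        (⊤ : Submodule A (Coh.HH X (𝒢.G n) q)).map (HHmapA A (𝒢.T i n) q)) i.castSucc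
    · rintro _ ⟨w, rfl⟩
      refine Submodule.mem_iSup_of_mem (Fin.last r) ⟨w, Submodule.mem_top, ?_⟩
      change HHmap (tt 𝒢 n) q w = HHmap _ q (HHmap _ q w)
      rw [← HHmap_comp, Abelian.image.fac]
  exact hle hy

end step

section main

/-- **Graded finiteness theorem** (EGA III 3.3.1), conditional on finiteness of coherent
cohomology (`hfin`, i.e. S0002). -/
theorem grFin (A : Type u) [CommRing A] [IsNoetherianRing A] [X.Over (Spec (CommRingCat.of A))]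
    [IsLocallyNoetherian X] [CompactSpace X]
    (hfin : ∀ M : X.Modules, Coh.IsCoh M → ∀ q, Module.Finite A (Coh.HH X M q)) :
    GrFinStmt A X := by
  intro r
  induction r with
  | zero => exact fun 𝒢 h𝒢 q => cohGen_zero A 𝒢 h𝒢 q
  | succ r ih => exact fun 𝒢 h𝒢 q => cohGen_step A hfin ih 𝒢 h𝒢 q

end main

end Groth.Agent.R2.H64.FFGrFin
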