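import Mathlib
import Groth.Agent.R2.H64FFCore
import Groth.Agent.R2.H64FFSpec
import Groth.Agent.R2.H64FFGrFin
import Groth.Agent.R2.H35FFReesH
import Groth.Agent.R2.H35FFReesSpec

/-!
# Formal functions: S0057 and S0058 against finiteness of coherent cohomology
(helper64, coh-core package F4)

`s0057_of`, `s0058_of` are the frozen statements of S0057 / S0058 with the extra hypothesis
`hfin : ∀ M coherent, ∀ q, Module.Finite A (Coh.HH X M q)` (= S0002).
-/

set_option autoImplicit false
set_option linter.style.haveILetI false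
universe u

open CategoryTheory CategoryTheory.Limits AlgebraicGeometry Opposite

namespace Groth.Agent.R2.H64.FFMain

open Groth.Agent.R2.H64.FFGr Groth.Agent.R2.H64.FFSpec Groth.Agent.R2.H64.FFCore
  Groth.Agent.R2.H64.FFGrFin Groth.Agent.R2.H62.CohLES
open Groth.Agent.R2.H35.FFRees (HHmap_smulMod smul_HH_modPow_eq_zero reesStmt)

variable (A : Type u) [CommRing A] [IsNoetherianRing A] (I : Ideal A) (X : Scheme.{u})
  [X.Over (Spec (CommRingCat.of A))] [IsLocallyNoetherian X] [CompactSpace X]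

/-- Generators of `I`, Rees data and bounded generation of the cohomology of the Rees system. -/
theorem exists_reesData_cohGen
    (hfin : ∀ M : X.Modules, Coh.IsCoh M → ∀ q, Module.Finite A (Coh.HH X M q))
    (M : X.Modules) (hM : Coh.IsCoh M) :
    ∃ (r : ℕ) (a : Fin r → A) (_ : ∀ i, a i ∈ I) (D : ReesData I a M)
      (_ : ∀ i j n, D.mul i n ≫ D.mul j (n + 1) = D.mul j n ≫ D.mul i (n + 1))
      (_ : ∀ n, Coh.IsCoh (powMod I n M)),
      ∀ q, ∃ d, GenFrom (A := A) (N := fun n => Coh.HH X (powMod I n M) q)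
        (fun i n => HHmapA A (D.mul i n) q) (fun _ => ⊤) d := by
  obtain ⟨r, a, ha⟩ := Submodule.fg_iff_exists_fin_generating_family.1
    (IsNoetherian.noetherian I)
  have hai : ∀ i, a i ∈ I := fun i => ha ▸ Submodule.subset_span ⟨i, rfl⟩
  obtain ⟨D, hcomm, hLF⟩ := reesStmt A X I r a ha M hM
  exact ⟨r, a, hai, D, hcomm, hLF.coh, fun q => grFin A hfin r (D.sys hcomm) hLF q⟩

/-- **S0057 against S0002.** -/
theorem s0057_of (hfin : ∀ M : X.Modules, Coh.IsCoh M → ∀ q, Module.Finite A (Coh.HH X M q))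
    (M : X.Modules) (hM : Coh.IsCoh M) (p : ℕ) :
    ∃ c : ℕ, ∀ n : ℕ, c ≤ n →
      ((Formal.toHHmodPow I M p n).ker : Set (Coh.HH X M p)) ⊆
        ((I ^ (n - c) • (⊤ : Submodule A (Coh.HH X M p)) : Submodule A (Coh.HH X M p)) :
          Set (Coh.HH X M p)) := by
  obtain ⟨r, a, hai, D, -, -, hgen⟩ := exists_reesData_cohGen A I X hfin M hM
  obtain ⟨d, hd⟩ := hgen p
  have key := range_le_pow_smul_top I a hai
    (fun n => HHmapA A (kernel.ι (Formal.modPowπ I n M)) p)
    (fun i n => HHmapA A (D.mul i n) p)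
    (fun i n x => by
      change HHmap (kernel.ι (Formal.modPowπ I (n + 1) M)) p (HHmap (D.mul i n) p x) =
        a i • HHmap (kernel.ι (Formal.modPowπ I n M)) p x
      rw [← HHmap_comp, D.mul_ι, HHmap_comp, HHmap_smulMod]) d hd
  refine ⟨d, fun n hn x hx => ?_⟩
  have hx' : HHmap (Formal.modPowπ I (n + 1) M) p x = 0 := hx
  obtain ⟨y, hy⟩ := ((exact_f_g (powSC_shortExact I (n + 1) M) p) x).1 hx'
  have h1 : x ∈ I ^ (n + 1 - d) • (⊤ : Submodule A (Coh.HH X M p)) :=
    key (n + 1) (by omega) ⟨y, hy⟩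
  exact Submodule.smul_mono_left (Ideal.pow_le_pow_right (by omega)) h1

/-- transition maps of the system `M/I^(n+1)M`, on cohomology -/
noncomputable abbrev Tr (M : X.Modules) (p : ℕ) (n k : ℕ) (h : n ≤ k) :
    Coh.HH X (Formal.modPow I (k + 1) M) p →ₗ[A] Coh.HH X (Formal.modPow I (n + 1) M) p :=
  HHmapA A ((Formal.completion I M).map (homOfLE h).op) p

omit [IsNoetherianRing A] [IsLocallyNoetherian X] [CompactSpace X] in
theorem Tr_refl (M : X.Modules) (p n : ℕ) (x : Coh.HH X (Formal.modPow I (n + 1) M) p) :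
    Tr A I X M p n n le_rfl x = x := by
  have : (Formal.completion I M).map (homOfLE (le_refl n)).op = 𝟙 _ :=
    (Formal.completion I M).map_id (op n)
  change HHmap ((Formal.completion I M).map (homOfLE (le_refl n)).op) p x = x
  rw [this]
  exact HHmap_id p x

omit [IsNoetherianRing A] [IsLocallyNoetherian X] [CompactSpace X] in
theorem Tr_succ (M : X.Modules) (p n k : ℕ) (h : n ≤ k) (h' : n ≤ k + 1)
    (x : Coh.HH X (Formal.modPow I (k + 1 + 1) M) p) :
    Tr A I X M p n (k + 1) h' x =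
      Tr A I X M p n k h (HHmapA A (Formal.modPowTrans I (k + 1) M) p x) := by
  have e1 : (homOfLE h').op = (homOfLE (Nat.le_add_right k 1)).op ≫ (homOfLE h).op := rfl
  have e3 : (Formal.completion I M).map (homOfLE (Nat.le_add_right k 1)).op =
      Formal.modPowTrans I (k + 1) M :=
    Functor.ofOpSequence_map_homOfLE_succ _ k
  have e4 : ∀ (φ : (Formal.completion I M).obj (op (k + 1)) ⟶ (Formal.completion I M).obj (op k))
      (_ : φ = (Formal.completion I M).map (homOfLE (Nat.le_add_right k 1)).op),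
      HHmap ((Formal.completion I M).map (homOfLE h').op) p x =
        HHmap ((Formal.completion I M).map (homOfLE h).op) p (HHmap φ p x) := by
    rintro φ rfl
    rw [e1, Functor.map_comp, HHmap_comp]
  exact e4 _ e3.symm

omit [IsNoetherianRing A] [IsLocallyNoetherian X] [CompactSpace X] in
theorem Tr_π (M : X.Modules) (p n k : ℕ) (h : n ≤ k) (y : Coh.HH X M p) :
    Tr A I X M p n k h (HHmapA A (Formal.modPowπ I (k + 1) M) p y) =
      HHmapA A (Formal.modPowπ I (n + 1) M) p y := by
  induction k, h using Nat.le_induction with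
  | base => exact Tr_refl A I X M p n _
  | succ k h ih =>
    rw [Tr_succ A I X M p n k h]
    have : HHmapA A (Formal.modPowTrans I (k + 1) M) p
        (HHmapA A (Formal.modPowπ I (k + 1 + 1) M) p y) =
        HHmapA A (Formal.modPowπ I (k + 1) M) p y := by
      change HHmap _ p (HHmap _ p y) = HHmap _ p y
      rw [← HHmap_comp, Formal.modPowπ_trans]
    rw [this]
    exact ih

/-- **S0058 against S0002.** -/
theorem s0058_of (hfin : ∀ M : X.Modules, Coh.IsCoh M → ∀ q, Module.Finite A (Coh.HH X M q))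
    (M : X.Modules) (hM : Coh.IsCoh M) (p : ℕ) :
    ∃ c : ℕ, ∀ (n k : ℕ) (h : n ≤ k), n + c ≤ k →
      Set.range (Sheaf.H.map ((SheafOfModules.toSheaf X.ringCatSheaf).map
        ((Formal.completion I M).map (homOfLE h).op)) p) =
        Set.range (Formal.toHHmodPow I M p n) := by
  obtain ⟨r, a, hai, D, hcomm, hcoh, hgen⟩ := exists_reesData_cohGen A I X hfin M hM
  obtain ⟨d, hd⟩ := hgen (p + 1)
  -- the morphism of short exact sequences giving naturality of `δ` in `n`
  let stp : ∀ n, powSC I (n + 1 + 1) M ⟶ powSC I (n + 1) M := fun n =>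
    { τ₁ := D.incl (n + 1)
      τ₂ := 𝟙 M
      τ₃ := Formal.modPowTrans I (n + 1) M
      comm₁₂ := by
        change D.incl (n + 1) ≫ kernel.ι (Formal.modPowπ I (n + 1) M) =
          kernel.ι (Formal.modPowπ I (n + 1 + 1) M) ≫ 𝟙 M
        rw [D.incl_ι, Category.comp_id]
      comm₂₃ := by
        change 𝟙 M ≫ Formal.modPowπ I (n + 1) M =
          Formal.modPowπ I (n + 1 + 1) M ≫ Formal.modPowTrans I (n + 1) M
        rw [Formal.modPowπ_trans, Category.id_comp] }
  obtain ⟨c, hc⟩ := exists_uniform_ML (A := A) I a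
    (H := Coh.HH X M p) (H' := Coh.HH X M (p + 1))
    (HP := fun n => Coh.HH X (Formal.modPow I (n + 1) M) p)
    (HK := fun n => Coh.HH X (powMod I (n + 1) M) (p + 1)) hai
    (fun n => HHmapA A (Formal.modPowπ I (n + 1) M) p)
    (fun n => HHmapA A (Formal.modPowTrans I (n + 1) M) p)
    (Tr A I X M p)
    (fun n x => Tr_refl A I X M p n x)
    (fun n k h h' x => Tr_succ A I X M p n k h h' x)
    (fun n => δA (powSC_shortExact I (n + 1) M) A p)
    (fun n => HHmapA A (kernel.ι (Formal.modPowπ I (n + 1) M)) (p + 1))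
    (fun n => HHmapA A (D.incl (n + 1)) (p + 1))
    (fun i n => HHmapA A (D.mul i (n + 1)) (p + 1))
    (fun n x hx => ((exact_g_δ (powSC_shortExact I (n + 1) M) p) x).1 hx)
    (fun n x hx => ((exact_δ_f (powSC_shortExact I (n + 1) M) p) x).1 hx)
    (fun n x => δ_naturality (powSC_shortExact I (n + 1 + 1) M) (powSC_shortExact I (n + 1) M)
      (stp n) p x)
    (fun n y => (exact_δ_f (powSC_shortExact I (n + 1) M) p).apply_apply_eq_zero y)
    (fun n x => by
      change HHmap (kernel.ι (Formal.modPowπ I (n + 1) M)) (p + 1)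
        (HHmap (D.incl (n + 1)) (p + 1) x) =
        HHmap (kernel.ι (Formal.modPowπ I (n + 1 + 1) M)) (p + 1) x
      rw [← HHmap_comp, D.incl_ι])
    (fun i n x => by
      change HHmap (kernel.ι (Formal.modPowπ I (n + 1 + 1) M)) (p + 1)
        (HHmap (D.mul i (n + 1)) (p + 1) x) =
        a i • HHmap (kernel.ι (Formal.modPowπ I (n + 1) M)) (p + 1) x
      rw [← HHmap_comp, D.mul_ι, HHmap_comp, HHmap_smulMod])
    (fun i n x => by
      change HHmap (D.incl (n + 1)) (p + 1) (HHmap (D.mul i (n + 1)) (p + 1) x) = a i • x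
      rw [← HHmap_comp, D.mul_incl, HHmap_smulMod])
    1 (fun n r hr x => smul_HH_modPow_eq_zero I M p (n + 1) r hr x)
    (fun i k n x => by
      change HHmap (D.mul i (n + 1 + 1)) (p + 1) (HHmap (D.mul k (n + 1)) (p + 1) x) =
        HHmap (D.mul k (n + 1 + 1)) (p + 1) (HHmap (D.mul i (n + 1)) (p + 1) x)
      rw [← HHmap_comp, ← HHmap_comp, hcomm])
    (fun n => hfin _ (hcoh (n + 1)) (p + 1)) d (fun n hn => hd (n + 1) (by omega))
  refine ⟨c, fun n k h hk => ?_⟩
  apply Set.eq_of_subset_of_subset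
  · rintro _ ⟨x, rfl⟩
    obtain ⟨y, hy⟩ := hc n k h hk x
    exact ⟨y, hy⟩
  · rintro _ ⟨y, rfl⟩
    exact ⟨HHmapA A (Formal.modPowπ I (k + 1) M) p y, Tr_π A I X M p n k h y⟩

end Groth.Agent.R2.H64.FFMain
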