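import Mathlib
import Groth.Agent.R2.H64FFMain
import Groth.Agent.R2.H35FFLim
import Groth.Agent.Lib.Helper20StalkExact

/-!
# Formal functions relative to a class of modules closed under subobjects and quotients
(helper35, coh-core package F, relativisation for the proper-support versions S4460 / S4478)

This is helper64's `grFin` / `s0057_of` / `s0058_of` (R2/H64FFGrFin, R2/H64FFMain) with the finiteness
hypothesis `hfin` required only for the coherent modules in a class `C : X.Modules → Prop` closed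
under subobjects and quotients, e.g. `C N := CohB1.support N ⊆ Z`.
-/

set_option autoImplicit false
set_option linter.style.haveILetI false
universe u

open CategoryTheory CategoryTheory.Limits AlgebraicGeometry Opposite

namespace Groth.Agent.R2.H35.FFRel

open Groth.Agent.R2.H64.FFGr Groth.Agent.R2.H64.FFSpec Groth.Agent.R2.H64.FFCore
  Groth.Agent.R2.H64.FFGrFin Groth.Agent.R2.H62.CohLES
open Groth.Agent.R2.H35.FFRees (HHmap_smulMod smul_HH_modPow_eq_zero reesStmt)

/-- A class of modules closed under subobjects and quotients. -/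
structure SubQuotClosed {X : Scheme.{u}} (C : X.Modules → Prop) : Prop where
  sub : ∀ {M N : X.Modules} (f : M ⟶ N), Mono f → C N → C M
  quot : ∀ {M N : X.Modules} (f : M ⟶ N), Epi f → C M → C N

/-- The class of modules with support in a given set is closed under subobjects and quotients. -/
theorem subQuotClosed_support {X : Scheme.{u}} (Z : Set X) :
    SubQuotClosed (fun N : X.Modules => CohB1.support N ⊆ Z) where
  sub {M N} f hf hN := by
    haveI := hf
    let E : ShortComplex X.Modules := ShortComplex.mk f (cokernel.π f) (cokernel.condition f)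
    have hE : E.ShortExact :=
      { exact := ShortComplex.exact_cokernel f
        mono_f := hf
        epi_g := inferInstanceAs (Epi (cokernel.π f)) }
    intro x hx
    refine hN fun hs => hx ?_
    exact ((Groth.Agent.Lib.Helper20.StalkExact.subsingleton_stalk_iff E hE x).1 hs).1
  quot {M N} f hf hM := by
    haveI := hf
    let E : ShortComplex X.Modules := ShortComplex.mk (kernel.ι f) f (kernel.condition f)
    have hE : E.ShortExact :=
      { exact := ShortComplex.exact_kernel f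
        mono_f := inferInstanceAs (Mono (kernel.ι f))
        epi_g := hf }
    intro x hx
    refine hM fun hs => hx ?_
    exact ((Groth.Agent.Lib.Helper20.StalkExact.subsingleton_stalk_iff E hE x).1 hs).2

section step

variable {X : Scheme.{u}} (A : Type u) [CommRing A] [IsNoetherianRing A]
  [X.Over (Spec (CommRingCat.of A))] [IsLocallyNoetherian X]

/-- **Induction step** of the graded finiteness theorem, relative to `C`. -/
theorem cohGen_step_rel (C : X.Modules → Prop) (hC : SubQuotClosed C)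
    (hfin : ∀ M : X.Modules, Coh.IsCoh M → C M → ∀ q, Module.Finite A (Coh.HH X M q))
    {r : ℕ} (IH : ∀ (ℋ : GrSys X r), LocFin ℋ → (∀ n, C (ℋ.G n)) → ∀ q, CohGen A ℋ q)
    (𝒢 : GrSys X (r + 1)) (h𝒢 : LocFin 𝒢) (hC𝒢 : ∀ n, C (𝒢.G n)) (q : ℕ) : CohGen A 𝒢 q := by
  have hLQ := locFin_Qsys 𝒢 h𝒢
  have hLK := locFin_Ksys 𝒢 h𝒢
  have hCQ : ∀ n, C ((Qsys 𝒢).G n) := fun n =>
    hC.quot (cokernel.π (tt 𝒢 n)) inferInstance (hC𝒢 (n + 1))
  have hCK : ∀ n, C ((Ksys 𝒢).G n) := fun n =>
    hC.sub (kernel.ι (tt 𝒢 n)) inferInstance (hC𝒢 n)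
  obtain ⟨dQ, hQ⟩ := IH (Qsys 𝒢) hLQ hCQ q
  obtain ⟨dK, hK⟩ := IH (Ksys 𝒢) hLK hCK (q + 1)
  obtain ⟨d, hd⟩ := exists_bound_of_step (A := A)
    (N := fun n => Coh.HH X (𝒢.G n) q) (NJ := fun n => Coh.HH X (JG 𝒢 n) q)
    (NQ := fun n => Coh.HH X (QG 𝒢 n) q) (NK := fun n => Coh.HH X (KG 𝒢 n) (q + 1))
    (fun i n => HHmapA A (TT 𝒢 i n) q) (fun i n => HHmapA A (JT 𝒢 i n) q)
    (fun i n => HHmapA A (QT 𝒢 i n) q) (fun i n => HHmapA A (KT 𝒢 i n) (q + 1))
    (fun n => HHmapA A (Abelian.factorThruImage (tt 𝒢 n)) q)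
    (fun n => HHmapA A (Abelian.image.ι (tt 𝒢 n)) q)
    (fun n => HHmapA A (cokernel.π (tt 𝒢 n)) q)
    (fun n => δA (S₁_shortExact 𝒢 n) A q)
    (fun n y hy => ((exact_f_g (S₂_shortExact 𝒢 n) q) y).1 hy)
    (fun n z hz => ((exact_g_δ (S₁_shortExact 𝒢 n) q) z).1 hz)
    (fun i n z => HHmap_square _ _ _ _ (JT_ι 𝒢 i n) q z)
    (fun i n y => HHmap_square _ _ _ _ (π_QT 𝒢 i n).symm q y)
    (fun i n z => δ_naturality (S₁_shortExact 𝒢 n) (S₁_shortExact 𝒢 (n + 1)) (S₁hom 𝒢 i n) q z)
    (fun i k n x => HHmap_square _ _ _ _ ((Qsys 𝒢).comm k i n) q x)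
    (fun i k n x => HHmap_square _ _ _ _ ((Ksys 𝒢).comm k i n) (q + 1) x)
    (fun n => hfin _ (hLQ.coh n) (hCQ n) q) (fun n => hfin _ (hLK.coh n) (hCK n) (q + 1))
    dQ hQ dK hK
  refine ⟨d, fun n hn y _ => ?_⟩
  have hy := hd n hn y
  have hle : (⨆ i : Fin r, LinearMap.range (HHmapA A (TT 𝒢 i n) q)) ⊔
      LinearMap.range ((HHmapA A (Abelian.image.ι (tt 𝒢 n)) q).comp
        (HHmapA A (Abelian.factorThruImage (tt 𝒢 n)) q)) ≤
      ⨆ i : Fin (r + 1), (⊤ : Submodule A (Coh.HH X (𝒢.G n) q)).map (HHmapA A (𝒢.T i n) q) := by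
    refine sup_le (iSup_le fun i => ?_) ?_
    · rw [← Submodule.map_top]
      exact le_iSup (fun i : Fin (r + 1) =>
        (⊤ : Submodule A (Coh.HH X (𝒢.G n) q)).map (HHmapA A (𝒢.T i n) q)) i.castSucc
    · rintro _ ⟨w, rfl⟩
      refine Submodule.mem_iSup_of_mem (Fin.last r) ⟨w, Submodule.mem_top, ?_⟩
      change HHmap (tt 𝒢 n) q w = HHmap _ q (HHmap _ q w)
      rw [← HHmap_comp, Abelian.image.fac]
  exact hle hy

/-- **Graded finiteness theorem** (EGA III 3.3.1) relative to a class `C` closed under subobjects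
and quotients: finiteness of cohomology is required only for the coherent modules in `C`. -/
theorem grFin_rel [CompactSpace X] (C : X.Modules → Prop) (hC : SubQuotClosed C)
    (hfin : ∀ M : X.Modules, Coh.IsCoh M → C M → ∀ q, Module.Finite A (Coh.HH X M q)) :
    ∀ (r : ℕ) (𝒢 : GrSys X r), LocFin 𝒢 → (∀ n, C (𝒢.G n)) → ∀ q, CohGen A 𝒢 q := by
  intro r
  induction r with
  | zero => exact fun 𝒢 h𝒢 _ q => cohGen_zero A 𝒢 h𝒢 q
  | succ r ih => exact fun 𝒢 h𝒢 hC𝒢 q => cohGen_step_rel A C hC hfin ih 𝒢 h𝒢 hC𝒢 q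

end step

section main

variable (A : Type u) [CommRing A] [IsNoetherianRing A] (I : Ideal A) (X : Scheme.{u})
  [X.Over (Spec (CommRingCat.of A))] [IsLocallyNoetherian X] [CompactSpace X]
  (C : X.Modules → Prop) (hC : SubQuotClosed C)

include hC in
/-- Generators of `I`, Rees data and bounded generation of the cohomology of the Rees system,
relative to `C`. -/
theorem exists_reesData_cohGen_rel
    (hfin : ∀ M : X.Modules, Coh.IsCoh M → C M → ∀ q, Module.Finite A (Coh.HH X M q))
    (M : X.Modules) (hM : Coh.IsCoh M) (hCM : C M) :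
    ∃ (r : ℕ) (a : Fin r → A) (_ : ∀ i, a i ∈ I) (D : ReesData I a M)
      (_ : ∀ i j n, D.mul i n ≫ D.mul j (n + 1) = D.mul j n ≫ D.mul i (n + 1))
      (_ : ∀ n, Coh.IsCoh (powMod I n M)),
      ∀ q, ∃ d, GenFrom (A := A) (N := fun n => Coh.HH X (powMod I n M) q)
        (fun i n => HHmapA A (D.mul i n) q) (fun _ => ⊤) d := by
  obtain ⟨r, a, ha⟩ := Submodule.fg_iff_exists_fin_generating_family.1
    (IsNoetherian.noetherian I)
  have hai : ∀ i, a i ∈ I := fun i => ha ▸ Submodule.subset_span ⟨i, rfl⟩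
  obtain ⟨D, hcomm, hLF⟩ := reesStmt A X I r a ha M hM
  have hCp : ∀ n, C (powMod I n M) := fun n =>
    hC.sub (kernel.ι (Formal.modPowπ I n M)) (inferInstanceAs (Mono (kernel.ι _))) hCM
  exact ⟨r, a, hai, D, hcomm, hLF.coh, fun q => grFin_rel A C hC hfin r (D.sys hcomm) hLF hCp q⟩

include hC in
/-- **S0057 relative to `C`.** -/
theorem s0057_rel
    (hfin : ∀ M : X.Modules, Coh.IsCoh M → C M → ∀ q, Module.Finite A (Coh.HH X M q))
    (M : X.Modules) (hM : Coh.IsCoh M) (hCM : C M) (p : ℕ) :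
    ∃ c : ℕ, ∀ n : ℕ, c ≤ n →
      ((Formal.toHHmodPow I M p n).ker : Set (Coh.HH X M p)) ⊆
        ((I ^ (n - c) • (⊤ : Submodule A (Coh.HH X M p)) : Submodule A (Coh.HH X M p)) :
          Set (Coh.HH X M p)) := by
  obtain ⟨r, a, hai, D, -, -, hgen⟩ := exists_reesData_cohGen_rel A I X C hC hfin M hM hCM
  obtain ⟨d, hd⟩ := hgen p
  have key := range_le_pow_smul_top I a hai
    (fun n => HHmapA A (kernel.ι (Formal.modPowπ I n M)) p)
    (fun i n => HHmapA A (D.mul i n) p)
    (fun i n x => by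
      change HHmap (kernel.ι (Formal.modPowπ I (n + 1) M)) p (HHmap (D.mul i n) p x) =
        a i • HHmap (kernel.ι (Formal.modPowπ I n M)) p x
      rw [← HHmap_comp, D.mul_ι, HHmap_comp, HHmap_smulMod]) d hd
  refine ⟨d, fun n hn x hx => ?_⟩
  have hx' : HHmap (Formal.modPowπ I (n + 1) M) p x = 0 := hx
  obtain ⟨y, hy⟩ := ((exact_f_g (powSC_shortExact I (n + 1) M) p) x).1 hx'
  have h1 : x ∈ I ^ (n + 1 - d) • (⊤ : Submodule A (Coh.HH X M p)) :=
    key (n + 1) (by omega) ⟨y, hy⟩
  exact Submodule.smul_mono_left (Ideal.pow_le_pow_right (by omega)) h1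

open Groth.Agent.R2.H64.FFMain (Tr Tr_refl Tr_succ Tr_π) in
include hC in
/-- **S0058 relative to `C`.** -/
theorem s0058_rel
    (hfin : ∀ M : X.Modules, Coh.IsCoh M → C M → ∀ q, Module.Finite A (Coh.HH X M q))
    (M : X.Modules) (hM : Coh.IsCoh M) (hCM : C M) (p : ℕ) :
    ∃ c : ℕ, ∀ (n k : ℕ) (h : n ≤ k), n + c ≤ k →
      Set.range (Sheaf.H.map ((SheafOfModules.toSheaf X.ringCatSheaf).map
        ((Formal.completion I M).map (homOfLE h).op)) p) =
        Set.range (Formal.toHHmodPow I M p n) := by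
  obtain ⟨r, a, hai, D, hcomm, hcoh, hgen⟩ := exists_reesData_cohGen_rel A I X C hC hfin M hM hCM
  obtain ⟨d, hd⟩ := hgen (p + 1)
  -- the morphism of short exact sequences giving naturality of `δ` in `n`
  let stp : ∀ n, powSC I (n + 1 + 1) M ⟶ powSC I (n + 1) M := fun n =>
    { τ₁ := D.incl (n + 1)
      τ₂ := 𝟙 M
      τ₃ := Formal.modPowTrans I (n + 1) M
      comm₁₂ := by
        change D.incl (n + 1) ≫ kernel.ι (Formal.modPowπ I (n + 1) M) =
          kernel.ι (Formal.modPowπ I (n + 1 + 1) M) ≫ 𝟙 M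
        rw [D.incl_ι, Category.comp_id]
      comm₂₃ := by
        change 𝟙 M ≫ Formal.modPowπ I (n + 1) M =
          Formal.modPowπ I (n + 1 + 1) M ≫ Formal.modPowTrans I (n + 1) M
        rw [Formal.modPowπ_trans, Category.id_comp] }
  obtain ⟨c, hc⟩ := exists_uniform_ML (A := A) I a
    (H := Coh.HH X M p) (H' := Coh.HH X M (p + 1))
    (HP := fun n => Coh.HH X (Formal.modPow I (n + 1) M) p)
    (HK := fun n => Coh.HH X (powMod I (n + 1) M) (p + 1)) hai
    (fun n => HHmapA A (Formal.modPowπ I (n + 1) M) p)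
    (fun n => HHmapA A (Formal.modPowTrans I (n + 1) M) p)
    (Tr A I X M p)
    (fun n x => Tr_refl A I X M p n x)
    (fun n k h h' x => Tr_succ A I X M p n k h h' x)
    (fun n => δA (powSC_shortExact I (n + 1) M) A p)
    (fun n => HHmapA A (kernel.ι (Formal.modPowπ I (n + 1) M)) (p + 1))
    (fun n => HHmapA A (D.incl (n + 1)) (p + 1))
    (fun i n => HHmapA A (D.mul i (n + 1)) (p + 1))
    (fun n x hx => ((exact_g_δ (powSC_shortExact I (n + 1) M) p) x).1 hx)
    (fun n x hx => ((exact_δ_f (powSC_shortExact I (n + 1) M) p) x).1 hx)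
    (fun n x => δ_naturality (powSC_shortExact I (n + 1 + 1) M) (powSC_shortExact I (n + 1) M)
      (stp n) p x)
    (fun n y => (exact_δ_f (powSC_shortExact I (n + 1) M) p).apply_apply_eq_zero y)
    (fun n x => by
      change HHmap (kernel.ι (Formal.modPowπ I (n + 1) M)) (p + 1)
        (HHmap (D.incl (n + 1)) (p + 1) x) =
        HHmap (kernel.ι (Formal.modPowπ I (n + 1 + 1) M)) (p + 1) x
      rw [← HHmap_comp, D.incl_ι])
    (fun i n x => by
      change HHmap (kernel.ι (Formal.modPowπ I (n + 1 + 1) M)) (p + 1)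
        (HHmap (D.mul i (n + 1)) (p + 1) x) =
        a i • HHmap (kernel.ι (Formal.modPowπ I (n + 1) M)) (p + 1) x
      rw [← HHmap_comp, D.mul_ι, HHmap_comp, HHmap_smulMod])
    (fun i n x => by
      change HHmap (D.incl (n + 1)) (p + 1) (HHmap (D.mul i (n + 1)) (p + 1) x) = a i • x
      rw [← HHmap_comp, D.mul_incl, HHmap_smulMod])
    1 (fun n r hr x => smul_HH_modPow_eq_zero I M p (n + 1) r hr x)
    (fun i k n x => by
      change HHmap (D.mul i (n + 1 + 1)) (p + 1) (HHmap (D.mul k (n + 1)) (p + 1) x) =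
        HHmap (D.mul k (n + 1 + 1)) (p + 1) (HHmap (D.mul i (n + 1)) (p + 1) x)
      rw [← HHmap_comp, ← HHmap_comp, hcomm])
    (fun n => hfin _ (hcoh (n + 1))
      (hC.sub (kernel.ι (Formal.modPowπ I (n + 1) M)) inferInstance hCM) (p + 1))
    d (fun n hn => hd (n + 1) (by omega))
  refine ⟨c, fun n k h hk => ?_⟩
  apply Set.eq_of_subset_of_subset
  · rintro _ ⟨x, rfl⟩
    obtain ⟨y, hy⟩ := hc n k h hk x
    exact ⟨y, hy⟩
  · rintro _ ⟨y, rfl⟩
    exact ⟨HHmapA A (Formal.modPowπ I (k + 1) M) p y, Tr_π A I X M p n k h y⟩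

end main

section propersupport

variable (A : Type u) [CommRing A] [IsNoetherianRing A] (I : Ideal A) (X : Scheme.{u})
  [X.Over (Spec (CommRingCat.of A))]
  [LocallyOfFiniteType (X ↘ Spec (CommRingCat.of A))] [QuasiCompact (X ↘ Spec (CommRingCat.of A))]

omit [QuasiCompact (X ↘ Spec (CommRingCat.of A))] in
include A in
theorem isLocallyNoetherian_of_lft : IsLocallyNoetherian X :=
  LocallyOfFiniteType.isLocallyNoetherian (X ↘ Spec (CommRingCat.of A))

omit [IsNoetherianRing A] [LocallyOfFiniteType (X ↘ Spec (CommRingCat.of A))] in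
include A in
theorem compactSpace_of_qc : CompactSpace X :=
  QuasiCompact.compactSpace_of_compactSpace (X ↘ Spec (CommRingCat.of A))

/-- **S4478 against finiteness for coherent modules supported in `Supp M`.** -/
theorem s4478_of (M : X.Modules) (hM : Coh.IsCoh M)
    (hfin : ∀ N : X.Modules, Coh.IsCoh N → CohB1.support N ⊆ CohB1.support M →
      ∀ q, Module.Finite A (Coh.HH X N q)) (p : ℕ) :
    Nonempty (AdicCompletion I (Coh.HH X M p) ≃+ Formal.HHlim I M p) := by
  haveI := isLocallyNoetherian_of_lft A X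
  haveI := compactSpace_of_qc A X
  exact Groth.Agent.R2.H35.FFLim.s0059_of A I X M p
    (s0057_rel A I X _ (subQuotClosed_support (CohB1.support M)) hfin M hM subset_rfl p)
    (s0058_rel A I X _ (subQuotClosed_support (CohB1.support M)) hfin M hM subset_rfl p)

/-- **S4460 against finiteness for coherent modules supported in `Supp M`.** -/
theorem s4460_of [IsAdicComplete I A] (M : X.Modules) (hM : Coh.IsCoh M)
    (hfin : ∀ N : X.Modules, Coh.IsCoh N → CohB1.support N ⊆ CohB1.support M →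
      ∀ q, Module.Finite A (Coh.HH X N q)) (p : ℕ) :
    Function.Bijective (Formal.toHHlim I M p) := by
  haveI := isLocallyNoetherian_of_lft A X
  haveI := compactSpace_of_qc A X
  haveI := hfin M hM subset_rfl p
  exact Groth.Agent.R2.H35.FFLim.s0003_of A I X M p
    (s0057_rel A I X _ (subQuotClosed_support (CohB1.support M)) hfin M hM subset_rfl p)
    (s0058_rel A I X _ (subQuotClosed_support (CohB1.support M)) hfin M hM subset_rfl p)

end propersupport

end Groth.Agent.R2.H35.FFRel
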