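import Mathlib
import Groth.Prelude.Def_Formal
import Groth.Prelude.Def_CohB1
import Groth.Prelude.Def_ClSub2
import Groth.Agent.R2.H35FFRel
import Groth.Agent.Lib.Helper23Support

/-!
# Support of `M / I^n M` (helper35, PROJ:stein package ST-1)

For `X` over `Spec A`, `I` an ideal of `A`:
* `support_modPow_subset`: `Supp (M / I^n M) ⊆ Supp M ∩ f⁻¹ V(I)` for `n ≥ 1`;
* `support_modPow_one_structureModule`: `Supp (O_X / I O_X) = f⁻¹ V(I)`.
-/

set_option autoImplicit false
set_option linter.style.haveILetI false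
universe u

open CategoryTheory CategoryTheory.Limits AlgebraicGeometry Opposite TopologicalSpace

namespace Groth.Agent.R2.H35.SteinSupp

variable {A : Type u} [CommRing A] {X : Scheme.{u}} [X.Over (Spec (CommRingCat.of A))]

/-- `x ∈ D(a)` (for the global function attached to `a : A`) iff `a` is not in the prime of the
image of `x` in `Spec A`. -/
theorem mem_basicOpen_toGlobal_iff (a : A) (x : X) :
    x ∈ X.basicOpen (Coh.toGlobal (X ↘ Spec (CommRingCat.of A)) a) ↔
      a ∉ ((X ↘ Spec (CommRingCat.of A)).base x).asIdeal := by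
  have h1 : X.basicOpen (Coh.toGlobal (X ↘ Spec (CommRingCat.of A)) a) =
      (X ↘ Spec (CommRingCat.of A)) ⁻¹ᵁ (PrimeSpectrum.basicOpen a) :=
    (Scheme.preimage_basicOpen_top (X ↘ Spec (CommRingCat.of A))
      ((Scheme.ΓSpecIso (CommRingCat.of A)).inv a)).symm.trans
      (congrArg (fun U => (X ↘ Spec (CommRingCat.of A)) ⁻¹ᵁ U)
        (basicOpen_eq_of_affine (R := CommRingCat.of A) a))
  rw [h1]
  exact Iff.rfl

/-- the action of `smulModΓ N g` on sections -/
theorem smulModΓ_app (N : X.Modules) (g : Γ(X, ⊤)) (W : X.Opens) (s : Γ(N, W)) :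
    (Formal.smulModΓ N g).app W s = (X.presheaf.map (homOfLE (le_top : W ≤ ⊤)).op).hom g • s :=
  rfl

/-- If a global function `g` is invertible at `x` and kills `N`, then the stalk of `N` at `x`
vanishes. -/
theorem subsingleton_stalk_of_smulModΓ_eq_zero (N : X.Modules) (g : Γ(X, ⊤)) (x : X)
    (hx : x ∈ X.basicOpen g) (hg : Formal.smulModΓ N g = 0) :
    Subsingleton (N.presheaf.stalk x) := by
  refine Groth.Agent.Lib.Helper23.Support.subsingleton_stalk_of_forall_res_eq_zero N x ?_
  intro W hxW s
  refine ⟨W ⊓ X.basicOpen g, inf_le_left, ⟨hxW, hx⟩, ?_⟩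
  set W' : X.Opens := W ⊓ X.basicOpen g with hW'
  set s' : Γ(N, W') := N.presheaf.map (homOfLE (inf_le_left : W' ≤ W)).op s with hs'
  -- `g|_{W'}` is a unit
  have hu : IsUnit ((X.presheaf.map (homOfLE (le_top : W' ≤ ⊤)).op).hom g) := by
    have h1 : IsUnit ((X.presheaf.map (homOfLE (le_top : X.basicOpen g ≤ ⊤)).op).hom g) :=
      X.toRingedSpace.isUnit_res_basicOpen g
    have h2 : (X.presheaf.map (homOfLE (le_top : W' ≤ ⊤)).op).hom g =
        (X.presheaf.map (homOfLE (inf_le_right : W' ≤ X.basicOpen g)).op).hom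
          ((X.presheaf.map (homOfLE (le_top : X.basicOpen g ≤ ⊤)).op).hom g) := by
      change _ = (X.presheaf.map (homOfLE le_top).op ≫ X.presheaf.map (homOfLE inf_le_right).op).hom g
      rw [← Functor.map_comp]
      rfl
    rw [h2]
    exact h1.map _
  -- `g|_{W'} • s' = 0`
  have h0 : (X.presheaf.map (homOfLE (le_top : W' ≤ ⊤)).op).hom g • s' = 0 := by
    rw [← smulModΓ_app, hg]
    rfl
  obtain ⟨u, hu'⟩ := hu
  have : s' = (↑u⁻¹ : Γ(X, W')) • ((X.presheaf.map (homOfLE (le_top : W' ≤ ⊤)).op).hom g • s') := by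
    rw [← hu', smul_smul, Units.inv_mul, one_smul]
  rw [this, h0, smul_zero]

/-- **ST-1 (a).** `Supp (M / I^n M) ⊆ Supp M ∩ f⁻¹ V(I)` (any `O_X`-module `M`, any `n`). -/
theorem support_modPow_subset (I : Ideal A) (n : ℕ) (M : X.Modules) :
    CohB1.support (Formal.modPow I n M) ⊆
      CohB1.support M ∩
        (X ↘ Spec (CommRingCat.of A)).base ⁻¹' (PrimeSpectrum.zeroLocus (I : Set A)) := by
  intro x hx
  refine ⟨?_, ?_⟩
  · haveI : Epi (Formal.modPowπ I n M) := Groth.Agent.R2.H40.FormalMod.epi_modPowπ I n M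
    exact (Groth.Agent.R2.H35.FFRel.subQuotClosed_support (CohB1.support M)).quot
      (Formal.modPowπ I n M) inferInstance subset_rfl hx
  · change (I : Set A) ⊆ ((X ↘ Spec (CommRingCat.of A)).base x).asIdeal
    intro a ha
    by_contra hna
    apply hx
    have hr : a ^ n ∈ I ^ n := Ideal.pow_mem_pow ha n
    have hz : Formal.smulMod A (Formal.modPow I n M) (a ^ n) = 0 :=
      Groth.Agent.R2.H35.FFRees.smulMod_modPow_eq_zero I M n (a ^ n) hr
    refine subsingleton_stalk_of_smulModΓ_eq_zero (Formal.modPow I n M)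
      (Coh.toGlobal (X ↘ Spec (CommRingCat.of A)) (a ^ n)) x ?_ hz
    rw [mem_basicOpen_toGlobal_iff]
    intro h
    exact hna (Ideal.IsPrime.mem_of_pow_mem
      (show PrimeSpectrum A from (X ↘ Spec (CommRingCat.of A)).base x).isPrime n h)

section residue

variable (x : X)

/-- `O_X ⟶ (i_x)_* O_{Spec κ(x)}`. -/
noncomputable abbrev toResidue :
    Coh.structureModule X ⟶ (Scheme.Modules.pushforward (X.fromSpecResidueField x)).obj
      (Coh.structureModule (Spec (X.residueField x))) :=
  ClSub.unitToPush (X.fromSpecResidueField x)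

theorem toResidue_app (W : X.Opens) (t : Γ(X, W)) :
    (toResidue x).app W t = ((X.fromSpecResidueField x).app W).hom t := rfl

/-- the global function of `a : A` vanishes at `x` when `a` lies in the prime of the image of `x` -/
theorem fromSpecResidueField_app_toGlobal_eq_zero (a : A)
    (ha : a ∈ ((X ↘ Spec (CommRingCat.of A)).base x).asIdeal) (W : X.Opens) :
    ((X.fromSpecResidueField x).app W).hom
      ((X.presheaf.map (homOfLE (le_top : W ≤ ⊤)).op).hom
        (Coh.toGlobal (X ↘ Spec (CommRingCat.of A)) a)) = 0 := by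
  set g : Γ(X, ⊤) := Coh.toGlobal (X ↘ Spec (CommRingCat.of A)) a with hg
  -- naturality: restrict after pulling back
  have hnat : ((X.fromSpecResidueField x).app W).hom
      ((X.presheaf.map (homOfLE (le_top : W ≤ ⊤)).op).hom g) =
      ((Spec (X.residueField x)).presheaf.map
        (homOfLE (le_top : (X.fromSpecResidueField x) ⁻¹ᵁ W ≤ ⊤)).op).hom
        ((X.fromSpecResidueField x).appTop.hom g) :=
    congr($((X.fromSpecResidueField x).naturality (homOfLE (le_top : W ≤ ⊤)).op) g)
  rw [hnat]
  have h0 : (X.fromSpecResidueField x).appTop.hom g = 0 := by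
    rw [← basicOpen_eq_bot_iff, ← Scheme.preimage_basicOpen_top]
    ext z
    simp only [Scheme.Hom.mem_preimage, Opens.coe_bot, Set.mem_empty_iff_false, iff_false,
      SetLike.mem_coe]
    rw [Scheme.fromSpecResidueField_apply, mem_basicOpen_toGlobal_iff]
    exact fun h => h ha
  rw [h0, map_zero]

end residue

/-- **ST-1 (b).** `Supp (O_X / I^n O_X) = f⁻¹ V(I)` for `n ≥ 1`. -/
theorem support_modPow_structureModule (I : Ideal A) (n : ℕ) (hn : 1 ≤ n) :
    CohB1.support (Formal.modPow I n (Coh.structureModule X)) =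
      (X ↘ Spec (CommRingCat.of A)).base ⁻¹' (PrimeSpectrum.zeroLocus (I : Set A)) := by
  apply Set.Subset.antisymm
  · exact fun x hx => (support_modPow_subset I n (Coh.structureModule X) hx).2
  · intro x hx hsub
    change (I : Set A) ⊆ ((X ↘ Spec (CommRingCat.of A)).base x).asIdeal at hx
    -- the map `O_X / I^n O_X ⟶ (i_x)_* O`
    have hkill : Formal.smulFamily (I ^ n) (Coh.structureModule X) ≫ toResidue x = 0 := by
      apply Sigma.hom_ext
      intro a
      rw [comp_zero, ← Category.assoc]
      have e : Sigma.ι (fun _ : ↥(I ^ n) => Coh.structureModule X) a ≫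
          Formal.smulFamily (I ^ n) (Coh.structureModule X) =
          Formal.smulMod A (Coh.structureModule X) (a : A) := by
        simp [Formal.smulFamily]
      rw [e]
      ext W t
      have haI : (a : A) ∈ I := Ideal.pow_le_self (by omega) a.2
      have h1 := fromSpecResidueField_app_toGlobal_eq_zero x (a : A) (hx haI) W
      let t' : Γ(X, W) := t
      change ((X.fromSpecResidueField x).app W).hom
        ((X.presheaf.map (homOfLE (le_top : W ≤ ⊤)).op).hom
          (Coh.toGlobal (X ↘ Spec (CommRingCat.of A)) (a : A)) * t') = 0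
      rw [map_mul, h1, zero_mul]
    let v : Formal.modPow I n (Coh.structureModule X) ⟶ _ := cokernel.desc _ (toResidue x) hkill
    have hv : Formal.modPowπ I n (Coh.structureModule X) ≫ v = toResidue x :=
      cokernel.π_desc _ _ _
    -- the section `π(1)` has zero germ at `x`
    set t : Γ(Formal.modPow I n (Coh.structureModule X), ⊤) :=
      (Formal.modPowπ I n (Coh.structureModule X)).app ⊤ (1 : Γ(X, ⊤)) with ht
    have hgerm : (Formal.modPow I n (Coh.structureModule X)).presheaf.germ ⊤ x trivial t =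
        (Formal.modPow I n (Coh.structureModule X)).presheaf.germ ⊤ x trivial 0 :=
      Subsingleton.elim _ _
    obtain ⟨W, hxW, iW, iW', hW⟩ := TopCat.Presheaf.germ_eq
      (Formal.modPow I n (Coh.structureModule X)).presheaf (U := ⊤) (V := ⊤) x trivial trivial t 0
      hgerm
    rw [map_zero] at hW
    -- apply `v`
    have h2 : v.app W ((Formal.modPow I n (Coh.structureModule X)).presheaf.map iW.op t) = 0 := by
      rw [hW, map_zero]
    have h3 : v.app W ((Formal.modPow I n (Coh.structureModule X)).presheaf.map iW.op t) =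
        ((X.fromSpecResidueField x).app W).hom (1 : Γ(X, W)) := by
      have n1 : (Formal.modPow I n (Coh.structureModule X)).presheaf.map iW.op t =
          (Formal.modPowπ I n (Coh.structureModule X)).app W
            ((Coh.structureModule X).presheaf.map iW.op (1 : Γ(X, ⊤))) :=
        (congr($((Formal.modPowπ I n (Coh.structureModule X)).mapPresheaf.naturality iW.op)
          (1 : Γ(X, ⊤)))).symm
      rw [n1]
      have n2 : v.app W ((Formal.modPowπ I n (Coh.structureModule X)).app W
          ((Coh.structureModule X).presheaf.map iW.op (1 : Γ(X, ⊤)))) =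
          (toResidue x).app W ((Coh.structureModule X).presheaf.map iW.op (1 : Γ(X, ⊤))) :=
        congr($(congrArg (fun φ : Coh.structureModule X ⟶ _ => Scheme.Modules.Hom.app φ W) hv)
          ((Coh.structureModule X).presheaf.map iW.op (1 : Γ(X, ⊤))))
      rw [n2]
      have n3 : ((Coh.structureModule X).presheaf.map iW.op) (1 : Γ(X, ⊤)) = (1 : Γ(X, W)) :=
        map_one (X.presheaf.map iW.op).hom
      exact (congrArg (fun z => (toResidue x).app W z) n3).trans (toResidue_app x W 1)
    rw [h3, map_one] at h2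
    -- `Γ(Spec κ(x), i⁻¹ W)` is nontrivial
    have htop : (X.fromSpecResidueField x) ⁻¹ᵁ W = ⊤ := by
      ext z
      simp only [Scheme.Hom.mem_preimage, Opens.coe_top, Set.mem_univ, iff_true, SetLike.mem_coe]
      rw [Scheme.fromSpecResidueField_apply]
      exact hxW
    haveI hnt : Nontrivial Γ(Spec (X.residueField x), (X.fromSpecResidueField x) ⁻¹ᵁ W) := by
      rw [htop]
      exact (Scheme.ΓSpecIso (X.residueField x)).commRingCatIsoToRingEquiv.toEquiv.nontrivial
    exact one_ne_zero
      (α := Γ(Spec (X.residueField x), (X.fromSpecResidueField x) ⁻¹ᵁ W)) h2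

end Groth.Agent.R2.H35.SteinSupp
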