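import Mathlib
import Groth.Agent.R2.H64FFMain
import Groth.Agent.R2.H35FFLim

/-!
# Formal functions S0057 / S0058 / S0059 / S0003 for proper `X` over Noetherian `A`, against
finiteness of coherent cohomology (helper64, coh-core package F, final assembly)

Each theorem is the frozen statement of the corresponding milestone with the single extra hypothesis
`hfin : ∀ M coherent, ∀ q, Module.Finite A (Coh.HH X M q)` (= the conclusion of S0002 for `X`).
-/

set_option autoImplicit false
set_option linter.style.haveILetI false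
universe u

open CategoryTheory CategoryTheory.Limits AlgebraicGeometry Opposite

namespace Groth.Agent.R2.H64.FFFinal

variable (A : Type u) [CommRing A] [IsNoetherianRing A] (I : Ideal A) (X : Scheme.{u})
  [X.Over (Spec (CommRingCat.of A))] [IsProper (X ↘ Spec (CommRingCat.of A))]

include A in
theorem isLocallyNoetherian_of_proper : IsLocallyNoetherian X :=
  LocallyOfFiniteType.isLocallyNoetherian (X ↘ Spec (CommRingCat.of A))

omit [IsNoetherianRing A] in
include A in
theorem compactSpace_of_proper : CompactSpace X :=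
  QuasiCompact.compactSpace_of_compactSpace (X ↘ Spec (CommRingCat.of A))

/-- **S0057 against S0002**, proper form. -/
theorem s0057 (hfin : ∀ M : X.Modules, Coh.IsCoh M → ∀ q, Module.Finite A (Coh.HH X M q))
    (M : X.Modules) (hM : Coh.IsCoh M) (p : ℕ) :
    ∃ c : ℕ, ∀ n : ℕ, c ≤ n →
      ((Formal.toHHmodPow I M p n).ker : Set (Coh.HH X M p)) ⊆
        ((I ^ (n - c) • (⊤ : Submodule A (Coh.HH X M p)) : Submodule A (Coh.HH X M p)) :
          Set (Coh.HH X M p)) := by
  haveI := isLocallyNoetherian_of_proper A X
  haveI := compactSpace_of_proper A X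
  exact Groth.Agent.R2.H64.FFMain.s0057_of A I X hfin M hM p

/-- **S0058 against S0002**, proper form. -/
theorem s0058 (hfin : ∀ M : X.Modules, Coh.IsCoh M → ∀ q, Module.Finite A (Coh.HH X M q))
    (M : X.Modules) (hM : Coh.IsCoh M) (p : ℕ) :
    ∃ c : ℕ, ∀ (n k : ℕ) (h : n ≤ k), n + c ≤ k →
      Set.range (Sheaf.H.map ((SheafOfModules.toSheaf X.ringCatSheaf).map
        ((Formal.completion I M).map (homOfLE h).op)) p) =
        Set.range (Formal.toHHmodPow I M p n) := by
  haveI := isLocallyNoetherian_of_proper A X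
  haveI := compactSpace_of_proper A X
  exact Groth.Agent.R2.H64.FFMain.s0058_of A I X hfin M hM p

/-- **S0059 against S0002**, proper form. -/
theorem s0059 (hfin : ∀ M : X.Modules, Coh.IsCoh M → ∀ q, Module.Finite A (Coh.HH X M q))
    (M : X.Modules) (hM : Coh.IsCoh M) (p : ℕ) :
    Nonempty (AdicCompletion I (Coh.HH X M p) ≃+ Formal.HHlim I M p) :=
  Groth.Agent.R2.H35.FFLim.s0059_of A I X M p (s0057 A I X hfin M hM p) (s0058 A I X hfin M hM p)

/-- **S0003 against S0002**, proper form. -/
theorem s0003 [IsAdicComplete I A]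
    (hfin : ∀ M : X.Modules, Coh.IsCoh M → ∀ q, Module.Finite A (Coh.HH X M q))
    (M : X.Modules) (hM : Coh.IsCoh M) (p : ℕ) :
    Function.Bijective (Formal.toHHlim I M p) := by
  haveI := hfin M hM p
  exact Groth.Agent.R2.H35.FFLim.s0003_of A I X M p (s0057 A I X hfin M hM p)
    (s0058 A I X hfin M hM p)

end Groth.Agent.R2.H64.FFFinal
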