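import Mathlib
import Groth.Agent.R2.H1SuppVanish
import Groth.Agent.R2.H35SteinSupp
import Groth.Agent.S0002
import Groth.Agent.S0057

/-!
# Vanishing of coherent cohomology above the dimension of the closed fibres (helper1)

`subsingleton_HH_of_closedFibres_dim_le` : `A` Noetherian, `X` proper over `Spec A`, `M` coherent.  If
the preimage of `V(𝔪)` has dimension `≤ d` for every maximal ideal `𝔪` of `A`, then `H^p(X, M) = 0`
for `p > d`.

Proof: `M/𝔪^(n+1)M` is supported on the fibre over `𝔪`, so its cohomology vanishes above `d`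
(Grothendieck vanishing); by `S0057` (Artin–Rees form of the theorem on formal functions)
`H^p(X,M) ⊆ 𝔪 H^p(X,M)`; `H^p(X,M)` is finite (`S0002`), and Nakayama at every maximal ideal gives `0`.
-/

set_option autoImplicit false
set_option linter.style.haveILetI false
universe u
open CategoryTheory CategoryTheory.Limits Opposite TopologicalSpace AlgebraicGeometry

namespace Groth.Agent.R2.H1.FibreDimVanish

/-- Nakayama at all maximal ideals: a finite module `N` with `N = 𝔪 N` for every maximal ideal is zero. -/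
theorem subsingleton_of_forall_maximal_le_smul {A : Type*} [CommRing A] {N : Type*} [AddCommGroup N]
    [Module A N] [Module.Finite A N]
    (h : ∀ 𝔪 : Ideal A, 𝔪.IsMaximal → (⊤ : Submodule A N) ≤ 𝔪 • (⊤ : Submodule A N)) :
    Subsingleton N := by
  by_contra hN
  rw [not_subsingleton_iff_nontrivial] at hN
  have hann : Module.annihilator A N ≠ ⊤ := by
    intro htop
    have h1 : (1 : A) ∈ Module.annihilator A N := htop ▸ Submodule.mem_top
    obtain ⟨x, hx⟩ := exists_ne (0 : N)
    exact hx (by simpa using Module.mem_annihilator.1 h1 x)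
  obtain ⟨𝔪, h𝔪, hle⟩ := Ideal.exists_le_maximal _ hann
  obtain ⟨r, hr1, hr0⟩ := Submodule.exists_sub_one_mem_and_smul_eq_zero_of_fg_of_le_smul 𝔪
    (⊤ : Submodule A N) Module.Finite.fg_top (h 𝔪 h𝔪)
  have hr : r ∈ 𝔪 := hle (Module.mem_annihilator.2 fun n => hr0 n Submodule.mem_top)
  have h1 : (1 : A) ∈ 𝔪 := by
    have := 𝔪.sub_mem hr hr1
    simpa using this
  exact h𝔪.ne_top ((Ideal.eq_top_iff_one 𝔪).2 h1)

/-- a scheme proper over a Noetherian ring is a Noetherian topological space -/
theorem noetherianSpace_of_isProper (A : Type u) [CommRing A] [IsNoetherianRing A] (X : Scheme.{u})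
    [X.Over (Spec (CommRingCat.of A))] [IsProper (X ↘ Spec (CommRingCat.of A))] :
    NoetherianSpace X := by
  have h1 : IsLocallyNoetherian X :=
    LocallyOfFiniteType.isLocallyNoetherian (X ↘ Spec (CommRingCat.of A))
  have h2 : CompactSpace X := QuasiCompact.compactSpace_of_compactSpace (X ↘ Spec (CommRingCat.of A))
  have : IsNoetherian X := { }
  infer_instance

variable (A : Type u) [CommRing A] [IsNoetherianRing A] (X : Scheme.{u})
  [X.Over (Spec (CommRingCat.of A))] [IsProper (X ↘ Spec (CommRingCat.of A))]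

/-- **Theorem A.** Vanishing of coherent cohomology above the dimension of the closed fibres. -/
theorem subsingleton_HH_of_closedFibres_dim_le (d : ℕ)
    (hd : ∀ 𝔪 : Ideal A, 𝔪.IsMaximal → topologicalKrullDim
      ↥((X ↘ Spec (CommRingCat.of A)).base ⁻¹' (PrimeSpectrum.zeroLocus (𝔪 : Set A))) ≤ d)
    (M : X.Modules) (hM : Coh.IsCoh M) (p : ℕ) (hp : d < p) : Subsingleton (Coh.HH X M p) := by
  haveI : Module.Finite A (Coh.HH X M p) := Groth.Agent.S0002.result A X M hM p
  haveI : NoetherianSpace X := noetherianSpace_of_isProper A X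
  apply subsingleton_of_forall_maximal_le_smul (A := A)
  intro 𝔪 h𝔪
  obtain ⟨c, hc⟩ := Groth.Agent.S0057.result A 𝔪 X M hM p
  have hT : IsClosed ((X ↘ Spec (CommRingCat.of A)).base ⁻¹' (PrimeSpectrum.zeroLocus (𝔪 : Set A))) :=
    (PrimeSpectrum.isClosed_zeroLocus _).preimage (X ↘ Spec (CommRingCat.of A)).continuous
  have hvan : Subsingleton (Formal.HHmodPow 𝔪 M p (c + 1)) :=
    Groth.Agent.R2.H1.SuppVanish.subsingleton_HH_of_support_subset _ hT d (hd 𝔪 h𝔪) _
      ((Groth.Agent.R2.H35.SteinSupp.support_modPow_subset 𝔪 (c + 1 + 1) M).trans Set.inter_subset_right)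
      p hp
  intro x _
  have hx : x ∈ ((Formal.toHHmodPow 𝔪 M p (c + 1)).ker : Set (Coh.HH X M p)) :=
    Subsingleton.elim _ _
  have h1 := hc (c + 1) (Nat.le_succ c) hx
  have h2 : c + 1 - c = 1 := by omega
  rw [h2, pow_one] at h1
  exact h1

end Groth.Agent.R2.H1.FibreDimVanish
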