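import Mathlib
import Groth.Agent.R2.H1FibreDimVanish
import Groth.Agent.R2.H62RpushCoh
import Groth.Agent.R2.H1RpushRestrict
import Groth.Agent.R2.H1RpushBridge
import Groth.Agent.Lib.Helper23FinTypeLocal
import Groth.Agent.S0403

/-!
# Stalks of higher direct images vanish above the fibre dimension (helper1)

* `subsingleton_Γ_Rpush_of_isAffine` : `f : X ⟶ S` proper, `S` affine Noetherian, all fibres of dimension `≤ d`,
  `M` coherent, `p > d` ⇒ `Γ(S, R^p f_* M) = 0`.
* `topologicalKrullDim_fiber_morphismRestrict_le` : fibres of `f ∣_ V` embed into fibres of `f`.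
* `isZero_stalk_RpushAb_of_fiber_dim_le` : the stalk statement (= frozen `S0042`).
-/

set_option autoImplicit false
set_option linter.style.haveILetI false
universe u
open CategoryTheory CategoryTheory.Limits Opposite TopologicalSpace AlgebraicGeometry

namespace Groth.Agent.R2.H1.FibreDimRpush

open Scheme.Modules Groth.Agent.R2.H1.RpushRestrict Groth.Agent.R2.H1.RpushBridge
  Groth.Agent.R2.H1.FibreDimVanish Groth.Agent.R2.H62.RpushCoh

/-- dimension of a set-theoretic fibre -/
theorem topologicalKrullDim_preimage_singleton {X Y : Scheme.{u}} (f : X ⟶ Y) (y : Y) :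
    topologicalKrullDim ↥(f.base ⁻¹' {y}) = topologicalKrullDim ↥(f.fiber y) :=
  (IsHomeomorph.topologicalKrullDim_eq _ (f.fiberHomeo y).isHomeomorph).symm

/-- affine Noetherian base: global sections of `R^p f_* M` vanish above the fibre dimension -/
theorem subsingleton_Γ_Rpush_of_isAffine {X S : Scheme.{u}} (f : X ⟶ S) [IsProper f] [IsAffine S]
    [IsLocallyNoetherian S] [HasInjectiveResolutions X.Modules] (d : ℕ)
    (hd : ∀ s : S, topologicalKrullDim ↥(f.fiber s) ≤ d) (M : X.Modules) (hM : Coh.IsCoh M)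
    (p : ℕ) (hp : d < p) :
    Subsingleton ((Coh.toAb ((Coh.Rpush f p).obj M)).obj.obj (op ⊤)) := by
  haveI : M.IsQuasicoherent := hM.1
  haveI : IsNoetherianRing Γ(S, ⊤) :=
    IsLocallyNoetherian.component_noetherian ⟨⊤, isAffineOpen_top S⟩
  letI : X.Over (Spec Γ(S, ⊤)) := ⟨f ≫ S.isoSpec.hom⟩
  haveI : IsProper (X ↘ Spec Γ(S, ⊤)) := inferInstanceAs (IsProper (f ≫ S.isoSpec.hom))
  have hHH : Subsingleton (Coh.HH X M p) := by
    refine subsingleton_HH_of_closedFibres_dim_le Γ(S, ⊤) X d ?_ M hM p hp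
    intro 𝔪 h𝔪
    have hset : (f ≫ S.isoSpec.hom).base ⁻¹' (PrimeSpectrum.zeroLocus (𝔪 : Set Γ(S, ⊤))) =
        f.base ⁻¹' {S.isoSpec.inv (⟨𝔪, h𝔪.isPrime⟩ : PrimeSpectrum Γ(S, ⊤))} := by
      ext x
      change (𝔪 : Set Γ(S, ⊤)) ⊆ ((f ≫ S.isoSpec.hom) x).asIdeal ↔
        f x = S.isoSpec.inv (⟨𝔪, h𝔪.isPrime⟩ : PrimeSpectrum Γ(S, ⊤))
      rw [Scheme.Hom.comp_apply, SetLike.coe_subset_coe]
      constructor
      · intro hle
        have h1 : 𝔪 = (S.isoSpec.hom (f x)).asIdeal :=
          h𝔪.eq_of_le (S.isoSpec.hom (f x)).2.ne_top hle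
        have h2 : S.isoSpec.hom (f x) = (⟨𝔪, h𝔪.isPrime⟩ : PrimeSpectrum Γ(S, ⊤)) :=
          PrimeSpectrum.ext h1.symm
        rw [← h2, Scheme.hom_inv_apply]
      · intro h
        rw [h, Scheme.inv_hom_apply]
    have key : ∀ T T' : Set X, T = T' → topologicalKrullDim ↥T' ≤ d → topologicalKrullDim ↥T ≤ d := by
      rintro T _ rfl h
      exact h
    refine key _ _ hset ?_
    rw [topologicalKrullDim_preimage_singleton]
    exact hd _
  exact (secEquiv f M p).injective.subsingleton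

/-- the fibres of `f ∣_ V` have at most the dimension of the fibres of `f` -/
theorem topologicalKrullDim_fiber_morphismRestrict_le {X Y : Scheme.{u}} (f : X ⟶ Y) (V : Y.Opens)
    (s : (V : Scheme.{u})) :
    topologicalKrullDim ↥((f ∣_ V).fiber s) ≤ topologicalKrullDim ↥(f.fiber (V.ι s)) := by
  rw [← topologicalKrullDim_preimage_singleton, ← topologicalKrullDim_preimage_singleton]
  have hmem : ∀ x : ↥((f ∣_ V).base ⁻¹' {s}), (f ⁻¹ᵁ V).ι x.1 ∈ f.base ⁻¹' {V.ι s} := by
    rintro ⟨x, hx⟩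
    have hx' : (f ∣_ V) x = s := hx
    change f ((f ⁻¹ᵁ V).ι x) = V.ι s
    rw [← hx', ← Scheme.Hom.comp_apply, ← Scheme.Hom.comp_apply, morphismRestrict_ι]
  let φ : ↥((f ∣_ V).base ⁻¹' {s}) → ↥(f.base ⁻¹' {V.ι s}) := fun x => ⟨(f ⁻¹ᵁ V).ι x.1, hmem x⟩
  have hφ : Topology.IsInducing φ := by
    have h1 : Topology.IsInducing (Subtype.val ∘ φ) := by
      have : (Subtype.val ∘ φ) = (f ⁻¹ᵁ V).ι ∘ Subtype.val := rfl
      rw [this]
      exact (f ⁻¹ᵁ V).ι.isOpenEmbedding.isInducing.comp Topology.IsInducing.subtypeVal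
    exact Topology.IsInducing.of_comp
      (((f ⁻¹ᵁ V).ι.continuous.comp continuous_subtype_val).subtype_mk _) continuous_subtype_val h1
  exact hφ.topologicalKrullDim_le

/-- sections of isomorphic sheaves -/
theorem subsingleton_sections_of_iso {C : Type*} [Category C] {J : GrothendieckTopology C}
    {F F' : Sheaf J AddCommGrpCat.{u}} (ε : F ≅ F') (W : C)
    (h : Subsingleton (F'.obj.obj (op W))) : Subsingleton (F.obj.obj (op W)) := by
  refine ⟨fun a b => ?_⟩
  have key : ∀ t : F.obj.obj (op W),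
      (ε.inv.hom.app (op W)).hom ((ε.hom.hom.app (op W)).hom t) = t := fun t =>
    congrArg (fun φ : F ⟶ F => (φ.hom.app (op W)).hom t) ε.hom_inv_id
  rw [← key a, ← key b, Subsingleton.elim ((ε.hom.hom.app (op W)).hom a) ((ε.hom.hom.app (op W)).hom b)]

/-- **Stalks of higher direct images vanish above the fibre dimension.** -/
theorem isZero_stalk_RpushAb_of_fiber_dim_le {X Y : Scheme.{u}} (f : X ⟶ Y) [IsProper f]
    [IsLocallyNoetherian Y] (y : Y) (d : ℕ) (hd : topologicalKrullDim ↥(f.fiber y) ≤ d)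
    (M : X.Modules) (hM : Coh.IsCoh M) (p : ℕ) (hp : d < p) :
    IsZero (TopCat.Presheaf.stalk ((Coh.RpushAb f p).obj (Coh.toAb M)).obj y) := by
  have : EnoughInjectives X.Modules := enoughInjectives_modules _
  have : HasInjectiveResolutions X.Modules := inferInstance
  haveI : M.IsQuasicoherent := hM.1
  set G := (Coh.RpushAb f p).obj (Coh.toAb M) with hG
  let N := (Coh.Rpush f p).obj M
  let e : Coh.toAb N ≅ G := (bridgeIso f p).app M
  have hW₀ : IsOpen {s : Y | topologicalKrullDim ↥(f.fiber s) ≤ ((d : ℕ) : WithBot ℕ∞)} :=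
    Groth.Agent.S0403.result f _
  -- sections of `G` over affine opens on which the fibres have dimension `≤ d` vanish
  have hsub : ∀ V : Y.Opens, IsAffineOpen V → (∀ s ∈ V, topologicalKrullDim ↥(f.fiber s) ≤ d) →
      Subsingleton (G.obj.obj (op V)) := by
    intro V hV hVd
    have : EnoughInjectives (↑(f ⁻¹ᵁ V) : Scheme.{u}).Modules := enoughInjectives_modules _
    have : HasInjectiveResolutions (↑(f ⁻¹ᵁ V) : Scheme.{u}).Modules := inferInstance
    have : IsAffine (↑V : Scheme.{u}) := hV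
    have hM' : Coh.IsCoh (M.restrict (f ⁻¹ᵁ V).ι) := by
      haveI : SheafOfModules.IsFiniteType (R := X.ringCatSheaf) M := hM.2
      exact ⟨inferInstance, Groth.Agent.Lib.Helper23.FinType.isFiniteType_restrict _ M⟩
    have h1 := subsingleton_Γ_Rpush_of_isAffine (f ∣_ V) d
      (fun s => (topologicalKrullDim_fiber_morphismRestrict_le f V s).trans (hVd _ s.2))
      (M.restrict (f ⁻¹ᵁ V).ι) hM' p hp
    have h2 : Subsingleton ((Coh.toAb (N.restrict V.ι)).obj.obj (op ⊤)) :=
      subsingleton_sections_of_iso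
        ((SheafOfModules.toSheaf _).mapIso (rpushRestrictIso f V M p)) ⊤ h1
    have h3 : Subsingleton ((Coh.toAb N).obj.obj (op (V.ι ''ᵁ ⊤))) := h2
    have h4 : Subsingleton ((Coh.toAb N).obj.obj (op V)) := by
      have hV' : V.ι ''ᵁ ⊤ = V := V.ι_image_top
      exact hV' ▸ h3
    exact subsingleton_sections_of_iso e.symm V h4
  -- hence all germs at `y` vanish
  have key : ∀ t : ToType (TopCat.Presheaf.stalk G.obj y), t = 0 := by
    intro t
    obtain ⟨W, hyW, s, rfl⟩ := TopCat.Presheaf.exists_germ_eq G.obj t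
    obtain ⟨V, hV, hyV, hVW⟩ := exists_isAffineOpen_mem_and_subset (x := y)
      (U := W ⊓ ⟨_, hW₀⟩) ⟨hyW, hd⟩
    have hle : V ≤ W := fun x hx => (hVW hx).1
    rw [← TopCat.Presheaf.germ_res_apply G.obj (homOfLE hle) y hyV s]
    have := hsub V hV (fun s hs => (hVW hs).2)
    rw [Subsingleton.elim (G.obj.map (homOfLE hle).op s) 0, map_zero]
  refine (IsZero.iff_id_eq_zero _).2 ?_
  ext t
  exact (key _).trans (key _).symm

end Groth.Agent.R2.H1.FibreDimRpush
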