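import Mathlib
import Groth.Prelude.Def_Coh
import Groth.Agent.R2.H2GrothVan

/-!
# Grothendieck vanishing for `O_X`-modules on Noetherian schemes (helper2)

`HH_subsingleton_of_dim_le`: `X` Noetherian scheme with `topologicalKrullDim X ≤ d`; then `Coh.HH X F p` is zero
for EVERY `O_X`-module `F` and `p > d` (direct from `Groth.Agent.R2.H2.GrothVan.vanishing`, since
`Coh.HH X F p = Sheaf.H (Coh.toAb F) p` definitionally).
-/

set_option autoImplicit false
universe u
open AlgebraicGeometry CategoryTheory

namespace Groth.Agent.R2.H2.GrothVan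

/-- Grothendieck vanishing for `O_X`-modules on a Noetherian scheme -/
theorem HH_subsingleton_of_dim_le (X : Scheme.{u}) [IsNoetherian X] (d : ℕ)
    (hd : topologicalKrullDim X ≤ d) (F : X.Modules) (p : ℕ) (hp : d < p) :
    Subsingleton (Coh.HH X F p) := by
  have hN : TopologicalSpace.NoetherianSpace X.toTopCat := IsNoetherian.noetherianSpace (X := X)
  refine @vanishing (d + 1) X.toTopCat hN ?_ (Coh.toAb F) p (by omega)
  refine lt_of_le_of_lt hd ?_
  exact_mod_cast Nat.lt_succ_self d

end Groth.Agent.R2.H2.GrothVan
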