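import Mathlib
import Groth.Prelude.Def_Coh
import Groth.Agent.S0484
import Groth.Agent.R2.H2GrothVanSch
import Groth.Agent.R2.H62CohSigma
import Groth.Agent.R2.H62CohFin

/-!
# Vanishing of the cohomology of arbitrary coproducts on Noetherian schemes (helper85)

* `subsingleton_HH_sigma`: on a Noetherian scheme, `H^p(X, ∐ M_i) = 0` as soon as every
  `H^p(X, M_i) = 0` (arbitrary index type): the coproduct is the directed colimit of its finite
  subcoproducts, `toSheaf` preserves colimits (S0484), cohomology commutes with directed colimits on a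
  Noetherian space (helper2), and finite coproducts are handled by helper62's `HHsigmaEquiv`.
* `subsingleton_HH_free`: in particular for `SheafOfModules.free ι`.
* `subsingleton_HH_of_epi`: on a Noetherian scheme of dimension `≤ d`, if `q : M ⟶ E` is an
  epimorphism and `H^d(X, M) = 0` then `H^d(X, E) = 0` (Grothendieck vanishing kills `H^{d+1}` of the
  kernel).
-/

set_option autoImplicit false
set_option linter.style.haveILetI false
universe u

open CategoryTheory CategoryTheory.Limits AlgebraicGeometry Opposite TopologicalSpace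

namespace Groth.Agent.R2.H85.FreeVanish

variable {X : Scheme.{u}}

open CoproductsFromFiniteFiltered in
theorem subsingleton_HH_sigma [IsNoetherian X] (ι : Type u) (M : ι → X.Modules) (p : ℕ)
    (h : ∀ i, Subsingleton (Coh.HH X (M i) p)) : Subsingleton (Coh.HH X (∐ M) p) := by
  classical
  haveI hN : NoetherianSpace X.toTopCat := IsNoetherian.noetherianSpace (X := X)
  let c := finiteSubcoproductsCocone M
  have hc : IsColimit c := isColimitFiniteSubproductsCocone M
  let T := SheafOfModules.toSheaf X.ringCatSheaf
  have hcol : IsColimit (T.mapCocone c) := isColimitOfPreserves T hc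
  refine Groth.Agent.R2.H2.GrothVan.H_subsingleton_of_isColimit (X := X.toTopCat)
    (liftToFinsetObj (Discrete.functor M) ⋙ T) (T.mapCocone c) hcol p ?_
  intro s
  have e := Groth.Agent.R2.H62.CohLES.HHsigmaEquiv (fun x : s => M x.1.as) p
  haveI : ∀ x : s, Subsingleton (Coh.HH X (M x.1.as) p) := fun x => h _
  exact e.symm.toEquiv.subsingleton

theorem subsingleton_HH_free [IsNoetherian X] (ι : Type u) (p : ℕ)
    (h : Subsingleton (Coh.HH X (Coh.structureModule X) p)) :
    Subsingleton (Coh.HH X (SheafOfModules.free ι : X.Modules) p) :=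
  subsingleton_HH_sigma ι (fun _ => SheafOfModules.unit X.ringCatSheaf) p (fun _ => h)

theorem subsingleton_HH_of_epi [IsNoetherian X] (d : ℕ) (hd : topologicalKrullDim X ≤ d)
    {M E : X.Modules} (q : M ⟶ E) [Epi q] (h : Subsingleton (Coh.HH X M d)) :
    Subsingleton (Coh.HH X E d) := by
  have hS : (ShortComplex.mk (kernel.ι q) q (kernel.condition q)).ShortExact :=
    { exact := ShortComplex.exact_of_f_is_kernel _ (kernelIsKernel q)
      mono_f := inferInstanceAs (Mono (kernel.ι q))
      epi_g := inferInstanceAs (Epi q) }
  haveI h1 : Subsingleton (Coh.HH X (ShortComplex.mk (kernel.ι q) q (kernel.condition q)).X₂ d) := h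
  haveI h2 : Subsingleton (Coh.HH X (ShortComplex.mk (kernel.ι q) q (kernel.condition q)).X₁ (d + 1)) :=
    Groth.Agent.R2.H2.GrothVan.HH_subsingleton_of_dim_le X d hd _ (d + 1) (Nat.lt_succ_self d)
  exact Groth.Agent.R2.H62.CohLES.subsingleton_X₃ hS d

end Groth.Agent.R2.H85.FreeVanish
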