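import Mathlib
import Groth.Prelude.Def_Coh
import Groth.Prelude.Def_CohB1
import Groth.Agent.R2.H62CurveH0
import Groth.Agent.Lib.Helper16Flasque
import Groth.Agent.Lib.Helper16SectSupp

/-!
# Modules supported on a set of closed points are flasque (helper85)

For an `O_X`-module `F` (no coherence hypothesis) whose support is contained in a set `T` all of
whose subsets are closed (e.g. the support of a coherent module consisting of closed points):
* `exists_extension_of_support_subset` : sections extend to bigger opens;
* `isFlasque_of_support_subset` : `Coh.toAb F` is flasque;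
* `subsingleton_HH_succ_of_support_subset` : `H^{n+1}(X, F) = 0`.
-/

set_option autoImplicit false
set_option linter.style.haveILetI false
universe u

open CategoryTheory CategoryTheory.Limits AlgebraicGeometry TopologicalSpace Opposite

namespace Groth.Agent.R2.H85.TorsionVanish

open Groth.Agent.Lib.Helper23.Support Groth.Agent.Lib.Helper23.AffVanish

variable {X : Scheme.{u}}

/-- sections of a module whose support lies in a set all of whose subsets are closed extend to
bigger opens -/
theorem exists_extension_of_support_subset (F : X.Modules) (T : Set X)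
    (hT : ∀ T' : Set X, T' ⊆ T → IsClosed T') (hF : CohB1.support F ⊆ T) {W' W : X.Opens}
    (hle : W' ≤ W) (s : Γ(F, W')) : ∃ c : Γ(F, W), F.presheaf.map (homOfLE hle).op c = s := by
  let T₀ : Set X := T ∩ (W' : Set X)
  have hTc : IsClosed T₀ := hT _ Set.inter_subset_left
  let W₂ : X.Opens := W ⊓ ⟨T₀ᶜ, hTc.isOpen_compl⟩
  have hcov : W ≤ W' ⊔ W₂ := by
    intro x hx
    by_cases hxT : x ∈ T₀
    · left; exact hxT.2
    · right; exact ⟨hx, hxT⟩
  have hdis : ∀ x ∈ W' ⊓ W₂, x ∉ CohB1.support F := by
    intro x hx hxZ
    exact hx.2.2 ⟨hF hxZ, hx.1⟩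
  have hz : (ab' F).obj.map (homOfLE (inf_le_left : W' ⊓ W₂ ≤ W')).op s =
      (ab' F).obj.map (homOfLE (inf_le_right : W' ⊓ W₂ ≤ W₂)).op 0 := by
    rw [map_zero]
    exact eq_zero_of_disjoint_support F (W' ⊓ W₂) hdis _
  obtain ⟨c, hc1, -⟩ := Groth.Agent.Lib.Helper16.SectSupp.glue2 (ab' F) W' W₂ W hle
    inf_le_left hcov s 0 hz
  exact ⟨c, hc1⟩

/-- such a module is flasque -/
theorem isFlasque_of_support_subset (F : X.Modules) (T : Set X)
    (hT : ∀ T' : Set X, T' ⊆ T → IsClosed T') (hF : CohB1.support F ⊆ T) :
    TopCat.Sheaf.IsFlasque (Coh.toAb F) := by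
  constructor
  intro U V i
  rw [AddCommGrpCat.epi_iff_surjective]
  intro s
  obtain ⟨c, hc⟩ := exists_extension_of_support_subset F T hT hF (leOfHom i.unop) s
  exact ⟨c, hc⟩

/-- ... and has no higher cohomology -/
theorem subsingleton_HH_succ_of_support_subset (F : X.Modules) (T : Set X)
    (hT : ∀ T' : Set X, T' ⊆ T → IsClosed T') (hF : CohB1.support F ⊆ T) (n : ℕ) :
    Subsingleton (Coh.HH X F (n + 1)) := by
  haveI := isFlasque_of_support_subset F T hT hF
  exact Groth.Agent.Lib.Helper16.Flasque.H_subsingleton (Coh.toAb F) n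

/-- version for a module whose support lies in the support of a coherent module with support
consisting of closed points -/
theorem subsingleton_HH_succ_of_support_subset_coh [IsLocallyNoetherian X] (F Q : X.Modules)
    (hQ : Coh.IsCoh Q) (h0 : ∀ x ∈ CohB1.support Q, IsClosed ({x} : Set X))
    (hF : CohB1.support F ⊆ CohB1.support Q) (n : ℕ) : Subsingleton (Coh.HH X F (n + 1)) :=
  subsingleton_HH_succ_of_support_subset F (CohB1.support Q)
    (fun T' hT' => Groth.Agent.S0047.isClosed_of_subset_support Q hQ h0 T' hT') hF n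

end Groth.Agent.R2.H85.TorsionVanish
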