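import Mathlib
import Groth.Prelude.Def_Coh
import Groth.Prelude.Def_CohB1
import Groth.Prelude.Def_Curv2
import Groth.Prelude.Def_DDual2
import Groth.Agent.R2.H85FreeVanish
import Groth.Agent.R2.H85TorsionVanish
import Groth.Agent.R2.H62CurveCoker
import Groth.Agent.Lib.Helper1KBC3
import Groth.Agent.Lib.Helper21ModTensor3
import Groth.Agent.Lib.Helper23Serre
import Groth.Agent.Lib.Helper23SecTw3
import Groth.Agent.Lib.Helper23Restr
import Groth.Agent.Lib.Helper27PnSections
import Groth.Agent.Lib.Helper2LocFree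

/-!
# Global generation and `H^1(- ⊗ ω)` along maps with torsion cokernel on curves (helper85)

On a Noetherian scheme `X` of dimension `≤ 1` with `H^1(X, O_X) = 0`:
* `exists_lift_unit` : sections lift along the epimorphism of a short exact sequence whose kernel has
  no `H^1`;
* `isGloballyGenerated_of_support_closedPoints` : coherent modules supported at closed points are
  globally generated;
* `isGloballyGenerated_X₂` : extensions of globally generated modules are globally generated;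
* `support_tensorMod_subset_left` : `Supp (Q ⊗ ω) ⊆ Supp Q`;
* `subsingleton_HH_one_tensor_of_torsion_cokernel` : if `φ : E₁ ⟶ E₂` has torsion cokernel and
  `H^1(E₁ ⊗ ω) = 0`, then `H^1(E₂ ⊗ ω) = 0` (any module `ω`).
-/

set_option autoImplicit false
set_option linter.style.haveILetI false
universe u

open CategoryTheory CategoryTheory.Limits AlgebraicGeometry TopologicalSpace Opposite

namespace Groth.Agent.R2.H85.DefAmple

open Groth.Agent.Lib.Helper23.SecTw Groth.Agent.Lib.Helper6 Groth.Agent.Lib.Helper23.GenLocus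
open Groth.Agent.R2.H62.CohLES Groth.Agent.R2.H85.FreeVanish Groth.Agent.R2.H85.TorsionVanish

variable {X : Scheme.{u}}

/-- a morphism `O ⟶ N` is the morphism attached to its global section -/
theorem secHom_sv (N : X.Modules) (s : Coh.structureModule X ⟶ N) : secHom N (sv s ⊤) = s := by
  apply N.unitHomEquiv.injective
  unfold secHom
  rw [Equiv.apply_symm_apply]
  ext U
  exact SecTwist.map_val s (homOfLE (le_top : U.unop ≤ ⊤))

theorem hom_unit_ext {N : X.Modules} (s t : Coh.structureModule X ⟶ N) (h : sv s ⊤ = sv t ⊤) :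
    s = t := by
  rw [← secHom_sv N s, h, secHom_sv]

theorem res_self (M : X.Modules) (U : X.Opens) (σ : Γ(M, U)) : res M (le_refl U) σ = σ := by
  change M.presheaf.map (𝟙 (op U)) σ = σ
  rw [M.presheaf.map_id]
  rfl

/-- sections lift along the epimorphism of a short exact sequence whose kernel has no `H^1` -/
theorem exists_lift_unit {S : ShortComplex X.Modules} (hS : S.ShortExact)
    [Subsingleton (Coh.HH X S.X₁ 1)] (s : Coh.structureModule X ⟶ S.X₃) :
    ∃ t : Coh.structureModule X ⟶ S.X₂, t ≫ S.g = s := by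
  have hsurj := HHmap_g_surjective hS 0
  obtain ⟨τ, hτ⟩ := hsurj ((Groth.Agent.Lib.Helper27PnSections.hh0Equiv X S.X₃).symm (sv s ⊤))
  obtain ⟨σ₂, hσ₂⟩ : ∃ σ₂ : Γ(S.X₂, ⊤),
      σ₂ = Groth.Agent.Lib.Helper27PnSections.hh0Equiv X S.X₂ τ := ⟨_, rfl⟩
  refine ⟨secHom S.X₂ σ₂, hom_unit_ext _ _ ?_⟩
  have h1 : sv (secHom S.X₂ σ₂ ≫ S.g) ⊤ = S.g.app ⊤ (sv (secHom S.X₂ σ₂) ⊤) := rfl
  have h2 : sv (secHom S.X₂ σ₂) ⊤ = σ₂ := (sv_secHom S.X₂ σ₂ ⊤).trans (res_self _ _ _)
  have hnat := Sheaf.H.equiv₀_naturality (toAbMap S.g) (hT := Limits.isTerminalTop) τ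
  have h3 : Groth.Agent.Lib.Helper27PnSections.hh0Equiv X S.X₃ (HHmap S.g 0 τ) = sv s ⊤ := by
    rw [hτ]
    exact (Groth.Agent.Lib.Helper27PnSections.hh0Equiv X S.X₃).apply_symm_apply _
  have h4 : S.g.app ⊤ σ₂ = sv s ⊤ := by
    rw [hσ₂]
    exact hnat.trans h3
  exact h1.trans ((congrArg (fun z => S.g.app ⊤ z) h2).trans h4)

/-- coherent modules supported at closed points are globally generated -/
theorem isGloballyGenerated_of_support_closedPoints [IsLocallyNoetherian X] (Q : X.Modules)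
    (hQ : Coh.IsCoh Q) (h0 : ∀ x ∈ CohB1.support Q, IsClosed ({x} : Set X)) :
    Curv2.IsGloballyGenerated Q := by
  refine ⟨Γ(Q, ⊤), Sigma.desc (fun σ : Γ(Q, ⊤) => secHom Q σ), ?_⟩
  apply Groth.Agent.Lib.Helper23.Serre.epi_of_locally_surjective
  intro V t x hx
  obtain ⟨c, hc⟩ := Groth.Agent.R2.H62.CurveH0.exists_extension Q hQ h0 (le_top : V ≤ ⊤) t
  refine ⟨V, le_rfl, hx,
    (Sigma.ι (fun _ : Γ(Q, ⊤) => Coh.structureModule X) c).app V (toS V 1), ?_⟩
  have h1 : (Sigma.desc (fun σ : Γ(Q, ⊤) => secHom Q σ)).app V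
      ((Sigma.ι (fun _ : Γ(Q, ⊤) => Coh.structureModule X) c).app V (toS V 1)) =
      (Sigma.ι (fun _ : Γ(Q, ⊤) => Coh.structureModule X) c ≫
        Sigma.desc (fun σ : Γ(Q, ⊤) => secHom Q σ)).app V (toS V 1) := rfl
  have h3 : Sigma.ι (fun _ : Γ(Q, ⊤) => Coh.structureModule X) c ≫
      Sigma.desc (fun σ : Γ(Q, ⊤) => secHom Q σ) = secHom Q c := Sigma.ι_desc _ _
  have h4 : (Sigma.ι (fun _ : Γ(Q, ⊤) => Coh.structureModule X) c ≫
        Sigma.desc (fun σ : Γ(Q, ⊤) => secHom Q σ)).app V (toS V 1) =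
      (secHom Q c).app V (toS V 1) :=
    congrArg (fun m : Coh.structureModule X ⟶ Q => m.app V (toS V 1)) h3
  have h5 : (secHom Q c).app V (toS V 1) = sv (secHom Q c) V := rfl
  have h6 := sv_secHom Q c V
  exact h1.trans (h4.trans (h5.trans (h6.trans (hc.trans (res_self Q V t).symm))))

/-- abstract form: generators of the kernel and lifted generators of the cokernel generate -/
theorem epi_desc_sum {C : Type*} [Category C] [Abelian C] {S : ShortComplex C} (hS : S.ShortExact)
    (O : C) {ι₁ ι₃ : Type*} [HasCoproduct (fun _ : ι₁ => O)] [HasCoproduct (fun _ : ι₃ => O)]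
    [HasCoproduct (fun _ : ι₁ ⊕ ι₃ => O)]
    (a : (∐ fun _ : ι₁ => O) ⟶ S.X₁) [Epi a] (b : (∐ fun _ : ι₃ => O) ⟶ S.X₃) [Epi b]
    (bt : ι₃ → (O ⟶ S.X₂)) (hbt : ∀ j, bt j ≫ S.g = Sigma.ι (fun _ : ι₃ => O) j ≫ b) :
    Epi (Sigma.desc (Sum.elim (fun i => Sigma.ι (fun _ : ι₁ => O) i ≫ a ≫ S.f) bt) :
      (∐ fun _ : ι₁ ⊕ ι₃ => O) ⟶ S.X₂) := by
  refine Preadditive.epi_of_cancel_zero _ (fun {P} c hc => ?_)
  have e1 : (a ≫ S.f) ≫ c = 0 := by
    refine Sigma.hom_ext _ _ (fun i => ?_)
    have := congrArg (fun m => Sigma.ι (fun _ : ι₁ ⊕ ι₃ => O) (Sum.inl i) ≫ m) hc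
    simp only [Sigma.ι_desc_assoc, Sum.elim_inl, comp_zero] at this
    rw [comp_zero, ← this]
    simp only [Category.assoc]
  have e2 : S.f ≫ c = 0 := by
    rw [← cancel_epi a, ← Category.assoc, e1, comp_zero]
  obtain ⟨c', hc'⟩ : ∃ c' : S.X₃ ⟶ P, S.g ≫ c' = c :=
    ⟨hS.gIsCokernel.desc (CokernelCofork.ofπ c e2),
      hS.gIsCokernel.fac (CokernelCofork.ofπ c e2) WalkingParallelPair.one⟩
  have e3 : b ≫ c' = 0 := by
    refine Sigma.hom_ext _ _ (fun j => ?_)
    have := congrArg (fun m => Sigma.ι (fun _ : ι₁ ⊕ ι₃ => O) (Sum.inr j) ≫ m) hc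
    simp only [Sigma.ι_desc_assoc, Sum.elim_inr, comp_zero] at this
    rw [comp_zero, ← Category.assoc, ← hbt j, Category.assoc, hc']
    exact this
  have e4 : c' = 0 := by
    rw [← cancel_epi b, e3, comp_zero]
  rw [← hc', e4, comp_zero]

/-- extensions of globally generated modules are globally generated (curves with `H^1(O) = 0`) -/
theorem isGloballyGenerated_X₂ [IsNoetherian X] (hdim : topologicalKrullDim X ≤ 1)
    (hO : Subsingleton (Coh.HH X (Coh.structureModule X) 1))
    {S : ShortComplex X.Modules} (hS : S.ShortExact) (h1 : Curv2.IsGloballyGenerated S.X₁)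
    (h3 : Curv2.IsGloballyGenerated S.X₃) : Curv2.IsGloballyGenerated S.X₂ := by
  obtain ⟨ι₁, a, ha⟩ := h1
  obtain ⟨ι₃, b, hb⟩ := h3
  haveI : Subsingleton (Coh.HH X S.X₁ 1) :=
    @subsingleton_HH_of_epi X _ 1 hdim _ _ a ha (subsingleton_HH_free ι₁ 1 hO)
  choose bt hbt using fun j : ι₃ =>
    exists_lift_unit hS (Sigma.ι (fun _ : ι₃ => Coh.structureModule X) j ≫ b)
  exact ⟨ι₁ ⊕ ι₃, _, @epi_desc_sum X.Modules _ _ S hS (Coh.structureModule X) ι₁ ι₃ _ _ _ a ha b hb
    bt hbt⟩

/-- quotients of globally generated modules are globally generated -/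
theorem isGloballyGenerated_of_epi {M N : X.Modules} (p : M ⟶ N) (hp : Epi p)
    (h : Curv2.IsGloballyGenerated M) : Curv2.IsGloballyGenerated N := by
  obtain ⟨ι, a, ha⟩ := h
  exact ⟨ι, a ≫ p, @epi_comp X.Modules _ _ _ _ a ha p hp⟩

open Groth.Agent.Lib.Helper1.StalkTensor Groth.Agent.Lib.Helper1.KBC in
/-- the support of `Q ⊗ ω` is contained in the support of `Q` -/
theorem support_tensorMod_subset_left (Q ω : X.Modules) :
    CohB1.support (CohB1.tensorMod Q ω) ⊆ CohB1.support Q := by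
  intro x hx hQ
  apply hx
  haveI : Subsingleton (St (toPM Q) x) := hQ
  exact (stalkTensorEquiv x Q ω).toEquiv.subsingleton

set_option backward.isDefEq.respectTransparency false in
/-- finite locally free modules are coherent -/
theorem isCoh_of_isFinLocFree (M : X.Modules) (h : FlatMod.IsFinLocFree M) : Coh.IsCoh M := by
  haveI hfp := Groth.Agent.Lib.Helper2.LocFree.isFP_of_isFinLocFree M h
  refine ⟨{ nonempty_quasicoherentData :=
      ⟨(SheafOfModules.IsFinitePresentation.exists_quasicoherentData (R := X.ringCatSheaf) M).choose⟩ },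
    { exists_localGeneratorsData := ?_ }⟩
  obtain ⟨σ, hσ⟩ := SheafOfModules.IsFinitePresentation.exists_quasicoherentData
    (R := X.ringCatSheaf) M
  haveI := hσ
  exact ⟨σ.localGeneratorsData, inferInstance⟩

theorem subsingleton_HH_of_iso {M N : X.Modules} (e : M ≅ N) (n : ℕ)
    (h : Subsingleton (Coh.HH X N n)) : Subsingleton (Coh.HH X M n) := by
  refine subsingleton_of_forall_eq 0 (fun x => ?_)
  have h1 : x = HHmap e.inv n (HHmap e.hom n x) := by
    rw [← HHmap_comp, e.hom_inv_id, HHmap_id]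
  rw [h1, Subsingleton.elim (HHmap e.hom n x) 0, map_zero]

/-- `H^1(- ⊗ ω)` passes along maps with torsion cokernel (`ω` an arbitrary module) -/
theorem subsingleton_HH_one_tensor_of_torsion_cokernel [IsNoetherian X]
    (hdim : topologicalKrullDim X ≤ 1) (ω : X.Modules) {E₁ E₂ : X.Modules}
    (hE₁ : Coh.IsCoh E₁) (hE₂ : Coh.IsCoh E₂) (φ : E₁ ⟶ E₂)
    (htors : ∀ x ∈ CohB1.support (cokernel φ), IsClosed ({x} : Set X))
    (h₁ : Subsingleton (Coh.HH X (CohB1.tensorMod E₁ ω) 1)) :
    Subsingleton (Coh.HH X (CohB1.tensorMod E₂ ω) 1) := by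
  haveI : PreservesColimitsOfSize.{u, u} (DCoh.tensorRightMod ω) :=
    Groth.Agent.Lib.Helper21.ModTensor3.tR_preservesColimits X.sheaf ω
  let φ' : CohB1.tensorMod E₁ ω ⟶ CohB1.tensorMod E₂ ω := (DCoh.tensorRightMod ω).map φ
  let S : ShortComplex X.Modules :=
    ShortComplex.mk (kernel.ι (cokernel.π φ')) (cokernel.π φ') (kernel.condition _)
  have hS : S.ShortExact :=
    { exact := ShortComplex.exact_kernel _
      mono_f := inferInstanceAs (Mono (kernel.ι (cokernel.π φ')))
      epi_g := inferInstanceAs (Epi (cokernel.π φ')) }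
  haveI hI : Subsingleton (Coh.HH X S.X₁ 1) :=
    @subsingleton_HH_of_epi X _ 1 hdim _ _ (Abelian.factorThruImage φ') inferInstance h₁
  haveI hC : Subsingleton (Coh.HH X S.X₃ 1) := by
    have e : (DCoh.tensorRightMod ω).obj (cokernel φ) ≅ cokernel φ' :=
      PreservesCokernel.iso (DCoh.tensorRightMod ω) φ
    have hQ : Coh.IsCoh (cokernel φ) := Groth.Agent.R2.H62.CurveInv.isCoh_cokernel hE₁ hE₂ φ
    haveI : IsLocallyNoetherian X := inferInstance
    have h0 : Subsingleton (Coh.HH X (CohB1.tensorMod (cokernel φ) ω) 1) :=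
      subsingleton_HH_succ_of_support_subset_coh _ (cokernel φ) hQ htors
        (support_tensorMod_subset_left _ ω) 0
    exact subsingleton_HH_of_iso e.symm 1 h0
  exact subsingleton_X₂ hS 1

/-- the global generation half: a map with torsion cokernel out of a globally generated module
has globally generated target -/
theorem isGloballyGenerated_of_torsion_cokernel [IsNoetherian X]
    (hdim : topologicalKrullDim X ≤ 1) (hO : Subsingleton (Coh.HH X (Coh.structureModule X) 1))
    {E₁ E₂ : X.Modules} (hE₁ : Coh.IsCoh E₁) (hE₂ : Coh.IsCoh E₂) (φ : E₁ ⟶ E₂)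
    (htors : ∀ x ∈ CohB1.support (cokernel φ), IsClosed ({x} : Set X))
    (h₁ : Curv2.IsGloballyGenerated E₁) : Curv2.IsGloballyGenerated E₂ := by
  let S : ShortComplex X.Modules :=
    ShortComplex.mk (kernel.ι (cokernel.π φ)) (cokernel.π φ) (kernel.condition _)
  have hS : S.ShortExact :=
    { exact := ShortComplex.exact_kernel _
      mono_f := inferInstanceAs (Mono (kernel.ι (cokernel.π φ)))
      epi_g := inferInstanceAs (Epi (cokernel.π φ)) }
  have hQ : Coh.IsCoh (cokernel φ) := Groth.Agent.R2.H62.CurveInv.isCoh_cokernel hE₁ hE₂ φ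
  have g1 : Curv2.IsGloballyGenerated S.X₁ :=
    isGloballyGenerated_of_epi (Abelian.factorThruImage φ) inferInstance h₁
  have g3 : Curv2.IsGloballyGenerated S.X₃ :=
    isGloballyGenerated_of_support_closedPoints (cokernel φ) hQ htors
  exact isGloballyGenerated_X₂ hdim hO hS g1 g3

end Groth.Agent.R2.H85.DefAmple
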