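import Mathlib
import Groth.Prelude.Def_Coh
import Groth.Prelude.Def_CohB1
import Groth.Prelude.Def_Curv2
import Groth.Agent.R2.H85DefAmple
import Groth.Agent.R2.H1TowerMod
import Groth.Agent.R2.H79TwistCalc
import Groth.Agent.R2.H16ClosedImmAdj
import Groth.Agent.R2.H55AmpleNil
import Groth.Agent.R2.H55AmpleVan
import Groth.Agent.Lib.Helper23GG
import Groth.Agent.Lib.Helper23PB
import Groth.Agent.Lib.Helper23RestrTensor

/-!
# Global generation: extensions, closed immersions, jointly epimorphic families (helper1)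
-/

set_option autoImplicit false
set_option linter.style.haveILetI false
universe u
open CategoryTheory CategoryTheory.Limits AlgebraicGeometry

namespace Groth.Agent.R2.H1.GGExt

open Groth.Agent.R2.H85.DefAmple Groth.Agent.R2.H79.TwistCalc Groth.Agent.R2.H55.AmpleVan
  Groth.Agent.R2.H1.TowerMod

variable {X : Scheme.{u}}

/-- an extension of a globally generated module by a globally generated module without `H^1` is
globally generated -/
theorem isGloballyGenerated_X₂ {S : ShortComplex X.Modules} (hS : S.ShortExact)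
    (h1 : Curv2.IsGloballyGenerated S.X₁) (h3 : Curv2.IsGloballyGenerated S.X₃)
    (hH : Subsingleton (Coh.HH X S.X₁ 1)) : Curv2.IsGloballyGenerated S.X₂ := by
  obtain ⟨ι₁, a, ha⟩ := h1
  obtain ⟨ι₃, b, hb⟩ := h3
  choose bt hbt using fun j : ι₃ =>
    exists_lift_unit hS (Sigma.ι (fun _ : ι₃ => Coh.structureModule X) j ≫ b)
  exact ⟨ι₁ ⊕ ι₃, _, @epi_desc_sum X.Modules _ _ S hS (Coh.structureModule X) ι₁ ι₃ _ _ _ a ha b hb
    bt hbt⟩

/-- the pushforward of a globally generated module along a closed immersion is globally generated -/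
theorem isGloballyGenerated_pushforward {Z : Scheme.{u}} (i : Z ⟶ X) [IsClosedImmersion i]
    (N : Z.Modules) (h : Curv2.IsGloballyGenerated N) :
    Curv2.IsGloballyGenerated ((Scheme.Modules.pushforward i).obj N) := by
  obtain ⟨ι, p, hp⟩ := h
  have hp' : @Epi Z.Modules _ _ _ p := hp
  let e : (Scheme.Modules.pullback i).obj (SheafOfModules.free ι : X.Modules) ≅
      (SheafOfModules.free ι : Z.Modules) :=
    SheafOfModules.pullbackObjFreeIso.{u} i.toRingCatSheafHom ι
  haveI : (SheafOfModules.free ι : X.Modules).IsQuasicoherent := inferInstance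
  have h1 : @Epi X.Modules _ _ _ (trans i (SheafOfModules.free ι : X.Modules)
      (SheafOfModules.free ι : Z.Modules) e) := epi_trans' i _ _ e
  haveI := Groth.Agent.R2.H16.ClosedImmAdj.isLeftAdjoint_pushforward_of_isClosedImmersion i
  have h2 : @Epi X.Modules _ _ _ ((Scheme.Modules.pushforward i).map p) :=
    @Functor.map_epi Z.Modules _ X.Modules _ (Scheme.Modules.pushforward i) _ _ _ p hp'
  exact ⟨ι, trans i _ _ e ≫ (Scheme.Modules.pushforward i).map p,
    @epi_comp X.Modules _ _ _ _ _ h1 _ h2⟩

/-- `M` is globally generated iff a morphism out of `M` killing all global sections vanishes -/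
def GGE (M : X.Modules) : Prop :=
  ∀ (Q : X.Modules) (φ : M ⟶ Q), (∀ s : Coh.structureModule X ⟶ M, s ≫ φ = 0) → φ = 0

theorem gge_of_gg {M : X.Modules} (h : Curv2.IsGloballyGenerated M) : GGE M := by
  obtain ⟨ι, p, hp⟩ := h
  intro Q φ hφ
  refine hp.left_cancellation φ 0 ?_
  apply Groth.Agent.Lib.Helper23.GG.free_hom_ext
  intro a
  exact ((Category.assoc _ _ _).symm.trans (hφ _)).trans
    ((congrArg (fun m => SheafOfModules.ιFree a ≫ m) (comp_zero (f := p) (Z := Q))).trans
      comp_zero).symm

theorem gg_of_gge {M : X.Modules} (h : GGE M) : Curv2.IsGloballyGenerated M := by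
  let p : (SheafOfModules.free (Coh.structureModule X ⟶ M) : X.Modules) ⟶ M :=
    Sigma.desc (C := SheafOfModules X.ringCatSheaf) (fun s : (Coh.structureModule X ⟶ M) => s)
  have hp : ∀ s : Coh.structureModule X ⟶ M,
      (show Coh.structureModule X ⟶ (SheafOfModules.free (Coh.structureModule X ⟶ M) : X.Modules) from
        SheafOfModules.ιFree (R := X.ringCatSheaf) s) ≫ p = s := fun s =>
    Sigma.ι_desc (C := SheafOfModules X.ringCatSheaf) (fun s : (Coh.structureModule X ⟶ M) => s) s
  refine ⟨(Coh.structureModule X ⟶ M), p, ?_⟩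
  apply Abelian.epi_of_cokernel_π_eq_zero
  apply h
  intro s
  exact (congrArg (fun m => m ≫ cokernel.π p) (hp s)).symm.trans ((Category.assoc _ _ _).trans
    ((congrArg (fun m => _ ≫ m) (cokernel.condition p)).trans comp_zero))

/-- a jointly epimorphic finite family of morphisms -/
def JE {M M' : X.Modules} {r : ℕ} (T : Fin r → (M ⟶ M')) : Prop :=
  ∀ (Q : X.Modules) (φ : M' ⟶ Q), (∀ i, T i ≫ φ = 0) → φ = 0

theorem gg_of_je {M M' : X.Modules} {r : ℕ} (T : Fin r → (M ⟶ M')) (hT : JE T)
    (h : Curv2.IsGloballyGenerated M) : Curv2.IsGloballyGenerated M' := by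
  apply gg_of_gge
  intro Q φ hφ
  apply hT
  intro i
  apply gge_of_gg h
  intro s
  rw [← Category.assoc]
  exact hφ _

theorem je_twist {M M' : X.Modules} {r : ℕ} (T : Fin r → (M ⟶ M')) (hT : JE T) (Λ : X.Modules) :
    JE (fun i => (tensorRightF Λ).map (T i)) := by
  have h1 : Epi (biproduct.desc T) := by
    refine Preadditive.epi_of_cancel_zero _ (fun {P} c hc => ?_)
    apply hT
    intro i
    rw [← biproduct.ι_desc T i, Category.assoc, hc, comp_zero]
  have h2 : Epi ((tensorRightF Λ).map (biproduct.desc T)) := epi_map_tensorRightF Λ _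
  intro Q φ hφ
  rw [← cancel_epi ((tensorRightF Λ).map (biproduct.desc T)), comp_zero]
  have h3 : (tensorRightF Λ).map (biproduct.desc T) =
      ∑ i, (tensorRightF Λ).map (biproduct.π _ i) ≫ (tensorRightF Λ).map (T i) := by
    rw [biproduct.desc_eq, Functor.map_sum]
    simp only [Functor.map_comp]
  rw [h3, Preadditive.sum_comp]
  apply Finset.sum_eq_zero
  intro i _
  rw [Category.assoc, hφ i, comp_zero]

/-- global generation of twists passes to pushforwards along closed immersions -/
theorem isGloballyGenerated_push_twist {Z : Scheme.{u}} (i : Z ⟶ X) [IsClosedImmersion i]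
    (N : Z.Modules) (L : X.Modules) (hL : PicF.IsInvertible L) (L' : Z.Modules)
    (e : (Scheme.Modules.pullback i).obj L ≅ L') (n : ℕ)
    (h : Curv2.IsGloballyGenerated (CohB1.tensorMod N (CohB1.tensorPow L' n))) :
    Curv2.IsGloballyGenerated
      (CohB1.tensorMod ((Scheme.Modules.pushforward i).obj N) (CohB1.tensorPow L n)) := by
  obtain ⟨b⟩ := Groth.Agent.Lib.Helper23.PB.nonempty_pullback_tensorPow_iso i L hL n
  have h1 : Curv2.IsGloballyGenerated
      (CohB1.tensorMod N ((Scheme.Modules.pullback i).obj (CohB1.tensorPow L n))) :=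
    Groth.Agent.Lib.Helper23.RestrTensor.isGloballyGenerated_of_iso
      (tensorLeftCongr N ((tensorPowCongr e n).symm ≪≫ b.symm)) h
  exact Groth.Agent.Lib.Helper23.RestrTensor.isGloballyGenerated_of_iso
    (Groth.Agent.R2.H55.AmpleNil.pushTensorPullIso i N (CohB1.tensorPow L n))
    (isGloballyGenerated_pushforward i _ h1)

end Groth.Agent.R2.H1.GGExt
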