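import Mathlib
import Groth.Prelude.Def_EtGm
import Groth.Agent.Lib.Helper16SmallEtale

/-!
# Kummer coverings (helper1, round 2)

For a unit `a` of a ring `A` in which `n` is invertible, `A[X]/(X^n - a)` is a standard etale
`A`-algebra whose spectrum surjects onto `Spec A`, and in which `a` has an `n`-th root.
-/

set_option autoImplicit false
open CategoryTheory CategoryTheory.Limits AlgebraicGeometry Opposite
universe u

namespace Groth.Agent.R2.H1.Kummer

open Polynomial

/-- the Kummer standard etale pair `(X^n - a, 1)` for a unit `a` when `n` is a unit. -/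
noncomputable def kummerPair {A : Type u} [CommRing A] (n : ℕ) (hn0 : n ≠ 0) (hn : IsUnit (n : A))
    (a : Aˣ) : StandardEtalePair A where
  f := X ^ n - C (a : A)
  monic_f := monic_X_pow_sub_C _ hn0
  g := 1
  cond := by
    obtain ⟨u, hu⟩ := hn
    refine ⟨C ((a⁻¹ : Aˣ) : A) * C ((u⁻¹ : Aˣ) : A) * X, - C ((a⁻¹ : Aˣ) : A), 0, ?_⟩
    have h1 : (n : A[X]) = C (u : A) := by rw [hu]; simp
    have hd : derivative (X ^ n - C (a : A)) = C (u : A) * X ^ (n - 1) := by
      simp [derivative_X_pow, h1]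
    rw [hd]
    have hX : X ^ (n - 1) * X = (X ^ n : A[X]) := by
      rw [← pow_succ, Nat.sub_add_cancel (Nat.one_le_iff_ne_zero.mpr hn0)]
    have e1 : C (u : A) * C ((u⁻¹ : Aˣ) : A) = (1 : A[X]) := by
      rw [← C_mul, Units.mul_inv, C_1]
    have e2 : C ((a⁻¹ : Aˣ) : A) * C (a : A) = (1 : A[X]) := by
      rw [← C_mul, Units.inv_mul, C_1]
    calc C (u : A) * X ^ (n - 1) * (C ((a⁻¹ : Aˣ) : A) * C ((u⁻¹ : Aˣ) : A) * X)
          + (X ^ n - C (a : A)) * -C ((a⁻¹ : Aˣ) : A)
        = (C (u : A) * C ((u⁻¹ : Aˣ) : A)) * C ((a⁻¹ : Aˣ) : A) * (X ^ (n - 1) * X)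
          - C ((a⁻¹ : Aˣ) : A) * X ^ n + C ((a⁻¹ : Aˣ) : A) * C (a : A) := by ring
      _ = 1 ^ 0 := by rw [e1, e2, hX]; ring

variable {A : Type u} [CommRing A] (n : ℕ) (hn0 : n ≠ 0) (hn : IsUnit (n : A)) (a : Aˣ)

lemma kummerPair_X_pow :
    (kummerPair n hn0 hn a).X ^ n = algebraMap A (kummerPair n hn0 hn a).Ring (a : A) := by
  have h := (kummerPair n hn0 hn a).hasMap_X.1
  change aeval (kummerPair n hn0 hn a).X (X ^ n - C (a : A)) = 0 at h
  simpa [sub_eq_zero] using h

/-- every prime of `A` lifts to the Kummer algebra. -/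
lemma kummerPair_comap_surjective :
    Function.Surjective (PrimeSpectrum.comap (algebraMap A (kummerPair n hn0 hn a).Ring)) := by
  intro p
  let κ := p.asIdeal.ResidueField
  let L := AlgebraicClosure κ
  let φ : A →+* L := (algebraMap κ L).comp (algebraMap A κ)
  let _ : Algebra A L := φ.toAlgebra
  have hdeg : ((X ^ n - C (φ (a : A)) : L[X])).degree ≠ 0 := by
    rw [degree_X_pow_sub_C (Nat.pos_of_ne_zero hn0)]
    exact_mod_cast hn0
  obtain ⟨x, hx⟩ := IsAlgClosed.exists_root _ hdeg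
  have hmap : (kummerPair n hn0 hn a).HasMap x := by
    constructor
    · change aeval x (X ^ n - C (a : A)) = 0
      have : eval x (X ^ n - C (φ (a : A))) = 0 := hx
      simpa [Algebra.algebraMap_eq_smul_one, RingHom.algebraMap_toAlgebra] using this
    · change IsUnit (aeval x (1 : A[X]))
      simp
  let ψ := (kummerPair n hn0 hn a).lift x hmap
  refine ⟨⟨RingHom.ker ψ.toRingHom, RingHom.ker_isPrime _⟩, ?_⟩
  ext r
  change r ∈ Ideal.comap _ (RingHom.ker ψ.toRingHom) ↔ r ∈ p.asIdeal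
  rw [Ideal.mem_comap, RingHom.mem_ker]
  change ψ (algebraMap A _ r) = 0 ↔ _
  rw [AlgHom.commutes]
  change (algebraMap κ L) (algebraMap A κ r) = 0 ↔ _
  rw [map_eq_zero_iff _ (algebraMap κ L).injective, Ideal.algebraMap_residueField_eq_zero]

set_option backward.isDefEq.respectTransparency.types false in
lemma fromSpec_appTop' {X : Scheme.{u}} {V : X.Opens} (hV : IsAffineOpen V) :
    hV.fromSpec.appTop = X.presheaf.map (homOfLE le_top).op ≫ (Scheme.ΓSpecIso Γ(X, V)).inv := by
  rw [Scheme.Hom.appTop, hV.fromSpec_app_of_le ⊤ le_top]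
  have : (homOfLE le_top : hV.fromSpec ⁻¹ᵁ ⊤ ⟶ ⊤) = 𝟙 _ := Subsingleton.elim _ _
  rw [this]
  simp

set_option backward.isDefEq.respectTransparency.types false in
lemma comp_fromSpec_appTop {X : Scheme.{u}} {V : X.Opens} (hV : IsAffineOpen V) {B : CommRingCat.{u}}
    (φ : Γ(X, V) ⟶ B) :
    (Spec.map φ ≫ hV.fromSpec).appTop =
      X.presheaf.map (homOfLE le_top).op ≫ φ ≫ (Scheme.ΓSpecIso B).inv := by
  calc (Spec.map φ ≫ hV.fromSpec).appTop = hV.fromSpec.appTop ≫ (Spec.map φ).appTop :=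
        Scheme.Hom.comp_appTop _ _
    _ = (X.presheaf.map (homOfLE le_top).op ≫ (Scheme.ΓSpecIso Γ(X, V)).inv) ≫
          (Spec.map φ).appTop := by rw [fromSpec_appTop']
    _ = X.presheaf.map (homOfLE le_top).op ≫ ((Scheme.ΓSpecIso Γ(X, V)).inv ≫
          (Spec.map φ).appTop) := Category.assoc _ _ _
    _ = _ := by rw [← Scheme.ΓSpecIso_inv_naturality]

lemma nsmul_hom_app_apply {X : Scheme.{u}} {F G : EtCoh.Ab X} (f : F ⟶ G) (n : ℕ) (W : X.Etaleᵒᵖ)
    (s : F.obj.obj W) : (n • f).hom.app W s = n • (f.hom.app W s) := by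
  induction n with
  | zero => simp
  | succ k ih =>
    rw [succ_nsmul, succ_nsmul, Sheaf.Hom.add_app]
    change (k • f).hom.app W s + f.hom.app W s = _
    rw [ih]

lemma powMap_app_apply (S : Scheme.{u}) (n : ℕ) (W : S.Etale) (s : (EtCoh.Gm S).obj.obj (op W)) :
    (EtCoh.powMap S n).hom.app (op W) s = n • s := by
  unfold EtCoh.powMap
  rw [nsmul_hom_app_apply]
  rfl

open Groth.Agent.Lib.Helper16.SmallEtale

set_option backward.isDefEq.respectTransparency.types false in
theorem powMap_isLocallySurjective (S : Scheme.{u}) (n : ℕ) (hn : IsUnit (n : Γ(S, ⊤))) :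
    Sheaf.IsLocallySurjective (EtCoh.powMap S n) := by
  constructor
  intro U t
  rw [mem_smallEtale_iff]
  intro x
  obtain ⟨V, hV, hxV, -⟩ := exists_isAffineOpen_mem_and_subset (x := x) (U := ⊤) trivial
  -- the ring of functions on `V`
  let A := Γ(U.left, V)
  let ρ : Γ(S, ⊤) →+* A := (U.hom.appTop ≫ U.left.presheaf.map (homOfLE le_top).op).hom
  have hnA : IsUnit (n : A) := by
    have := hn.map ρ
    rwa [map_natCast] at this
  have hn0 : n ≠ 0 := by
    rintro rfl
    have h0 : IsUnit (0 : A) := by simpa using hnA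
    have : Subsingleton A := subsingleton_of_zero_eq_one (isUnit_zero_iff.mp h0)
    exact (PrimeSpectrum.instIsEmptyOfSubsingleton).false (hV.primeIdealOf ⟨x, hxV⟩)
  -- the unit `a = t|_V`
  let res : Γ(U.left, ⊤) ⟶ A := U.left.presheaf.map (homOfLE le_top).op
  let a : Aˣ := Units.map res.hom.toMonoidHom t.down.toMul
  let P := kummerPair n hn0 hnA a
  let φ : A ⟶ CommRingCat.of P.Ring := CommRingCat.ofHom (algebraMap A P.Ring)
  have hφ : Etale (Spec.map φ) := by
    rw [HasRingHomProperty.Spec_iff (P := @Etale)]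
    exact RingHom.etale_algebraMap.mpr inferInstance
  let j : Spec (CommRingCat.of P.Ring) ⟶ U.left := Spec.map φ ≫ hV.fromSpec
  let W : S.Etale := Scheme.Etale.mk (j ≫ U.hom)
  let g : W ⟶ U := MorphismProperty.Over.homMk j rfl trivial
  obtain ⟨y, hy⟩ := kummerPair_comap_surjective n hn0 hnA a (hV.primeIdealOf ⟨x, hxV⟩)
  refine ⟨W, g, y, ?_, ?_⟩
  · -- the `n`-th root
    have hXn : P.X ^ n = algebraMap A P.Ring (a : A) := kummerPair_X_pow n hn0 hnA a
    have hunit : P.X * (P.X ^ (n - 1) * algebraMap A P.Ring ((a⁻¹ : Aˣ) : A)) = 1 := by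
      rw [← mul_assoc, ← pow_succ', Nat.sub_add_cancel (Nat.one_le_iff_ne_zero.mpr hn0), hXn,
        ← map_mul, Units.mul_inv, map_one]
    let r : P.Ringˣ := Units.mkOfMulEqOne _ _ hunit
    let e : CommRingCat.of P.Ring ⟶ Γ(Spec (CommRingCat.of P.Ring), ⊤) :=
      (Scheme.ΓSpecIso (CommRingCat.of P.Ring)).inv
    let s : (EtCoh.Gm S).obj.obj (op W) := ⟨Additive.ofMul (Units.map e.hom.toMonoidHom r)⟩
    refine ⟨s, ?_⟩
    rw [powMap_app_apply]
    have hjt : j.appTop = res ≫ φ ≫ e := comp_fromSpec_appTop hV φ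
    change n • s = ⟨Additive.ofMul (Units.map (j.appTop).hom.toMonoidHom t.down.toMul)⟩
    apply ULift.ext
    change Additive.ofMul ((Units.map e.hom.toMonoidHom r) ^ n) = _
    congr 1
    apply Units.ext
    rw [hjt]
    change (e.hom P.X) ^ n = e.hom (φ.hom (res.hom _))
    rw [← map_pow, hXn]
    rfl
  · change j y = x
    dsimp only [j]
    rw [Scheme.Hom.comp_apply]
    change hV.fromSpec (PrimeSpectrum.comap (algebraMap A P.Ring) y) = x
    rw [hy, IsAffineOpen.fromSpec_primeIdealOf]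

end Groth.Agent.R2.H1.Kummer
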