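import Mathlib
import Groth.Prelude.Def_Formal
import Groth.Agent.R2.H79TwistCalc

/-!
# Twisting commutes with multiplication by functions (helper1)

`tensorRightF_map_smulModΓ` : `(- ⊗ L).map (r •_M) = r •_(M ⊗ L)` for a global function `r`;
`tensorRightF_map_smulMod` : the same for `a : A` when `X` is a scheme over `Spec A`.
-/

set_option autoImplicit false
universe u
open CategoryTheory CategoryTheory.Limits AlgebraicGeometry TopologicalSpace Opposite MonoidalCategory

namespace Groth.Agent.R2.H1.TwistSmul

open Groth.Agent.Lib.Helper21.ModTensor2 Groth.Agent.Lib.Helper21.ModTensor3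
  Groth.Agent.R2.H79.TwistCalc

variable {X : Scheme.{u}}

/-- the ring presheaf in the form used by `PM` -/
abbrev RR (X : Scheme.{u}) : (Opens X)ᵒᵖ ⥤ RingCat.{u} := X.sheaf.obj ⋙ forget₂ CommRingCat RingCat

/-- restriction of a global function -/
noncomputable def rr (X : Scheme.{u}) (U : (Opens X)ᵒᵖ) (r : Coh.Γtop X) : (RR X).obj U :=
  Coh.resTop X U r

theorem rr_comp (U V : (Opens X)ᵒᵖ) (f : U ⟶ V) (r : Coh.Γtop X) :
    ((RR X).map f).hom (rr X U r) = rr X V r := Coh.resTop_comp U V f r

/-- multiplication by a global function on a presheaf of modules -/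
noncomputable def psmul (P : PM X.sheaf) (r : Coh.Γtop X) : P ⟶ P :=
  PresheafOfModules.homMk
    { app := fun U => AddCommGrpCat.ofHom (DistribSMul.toAddMonoidHom (P.obj U) (rr X U r))
      naturality := by
        intro U V f
        ext m
        change rr X V r • (P.map f).hom m = (P.map f).hom (rr X U r • m)
        rw [← rr_comp U V f r]
        exact (P.map_smul f (rr X U r) m).symm }
    (by
      intro U s m
      change rr X U r • (s • m) = s • (rr X U r • m)
      rw [← mul_smul, ← mul_smul]
      congr 1
      exact @mul_comm Γ(X, Opposite.unop U) _ (Coh.resTop X U r) s)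

theorem psmul_app (P : PM X.sheaf) (r : Coh.Γtop X) (U : (Opens X)ᵒᵖ) (m : P.obj U) :
    (psmul P r).app U m = rr X U r • m := rfl

/-- multiplication by a function is natural in the presheaf of modules -/
theorem psmul_naturality {P Q : PM X.sheaf} (φ : P ⟶ Q) (r : Coh.Γtop X) :
    psmul P r ≫ φ = φ ≫ psmul Q r := by
  ext U m
  exact (φ.app U).hom.map_smul (rr X U r) m

theorem fgt_map_smulModΓ (M : X.Modules) (r : Coh.Γtop X) :
    (fgt X.sheaf).map (Formal.smulModΓ M r) = psmul ((fgt X.sheaf).obj M) r := by
  ext U m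
  rfl

theorem psmul_whiskerRight (P Q : PM X.sheaf) (r : Coh.Γtop X) :
    (psmul P r ▷ Q : (P ⊗ Q : PM X.sheaf) ⟶ (P ⊗ Q : PM X.sheaf)) = psmul (P ⊗ Q : PM X.sheaf) r := by
  ext U t
  induction t using TensorProduct.induction_on with
  | zero => exact (map_zero _).trans (map_zero _).symm
  | tmul p q => rfl
  | add x y hx hy => exact (map_add _ x y).trans ((congrArg₂ (· + ·) hx hy).trans (map_add _ x y).symm)

theorem shf_map_psmul (P : PM X.sheaf) (r : Coh.Γtop X) :
    (shf X.sheaf).map (psmul P r) = Formal.smulModΓ ((shf X.sheaf).obj P) r := by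
  apply ((adj X.sheaf).homEquiv _ _).injective
  rw [Adjunction.homEquiv_unit, Adjunction.homEquiv_unit]
  have h1 : (adj X.sheaf).unit.app P ≫ (fgt X.sheaf).map ((shf X.sheaf).map (psmul P r)) =
      psmul P r ≫ (adj X.sheaf).unit.app P := ((adj X.sheaf).unit.naturality (psmul P r)).symm
  rw [h1, fgt_map_smulModΓ, psmul_naturality]
  rfl

/-- **Twisting commutes with multiplication by a global function.** -/
theorem tensorRightF_map_smulModΓ (L M : X.Modules) (r : Coh.Γtop X) :
    (tensorRightF L).map (Formal.smulModΓ M r) = Formal.smulModΓ ((tensorRightF L).obj M) r := by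
  rw [tR_map, fgt_map_smulModΓ, psmul_whiskerRight, shf_map_psmul]
  rfl

/-- **Twisting commutes with multiplication by `a : A`.** -/
theorem tensorRightF_map_smulMod {A : Type u} [CommRing A] [X.Over (Spec (CommRingCat.of A))]
    (L M : X.Modules) (a : A) :
    (tensorRightF L).map (Formal.smulMod A M a) = Formal.smulMod A ((tensorRightF L).obj M) a :=
  tensorRightF_map_smulModΓ L M _

end Groth.Agent.R2.H1.TwistSmul
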