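import Mathlib
import Groth.Agent.R2.H1TwistSmul
import Groth.Agent.R2.H35FFRees
import Groth.Agent.R2.H35FFReesH
import Groth.Agent.R2.H40FormalMod
import Groth.Agent.R2.H62CohDelta
import Groth.Agent.R2.H64FFGrFin
import Groth.Agent.S9530
import Groth.Agent.S0002
import Groth.Agent.S0016

/-!
# Serre vanishing from Serre vanishing modulo an ideal in the Jacobson radical (helper1)

`A` Noetherian, `X` proper over `Spec A`, `L` invertible, `I ≤ Jac(A)`.  If every coherent module killed by `I`
satisfies Serre vanishing w.r.t. `L` (e.g. `L` is ample on `V(I O_X)`), then every coherent module does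
(`sv_of_killedBy`).  [EGA III 4.7.1 over a local base.]

Proof.  One generator `a` of `I` at a time (`step`): for `M` killed by `J`, with `φ = a•` on `M`,
`0 → ker φ → M → im φ → 0`, `0 → im φ → M → coker φ → 0`; `coker φ` is killed by `J + (a)`, `ker φ` by `J`.
Descending induction on the cohomological degree (start: `S0016`): for `d ≫ 0`, `H^p(M(d)) = a H^p(M(d))`, which is
zero by finiteness (`S0002`) and Nakayama.
-/

set_option autoImplicit false
set_option linter.style.haveILetI false
universe u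
open CategoryTheory CategoryTheory.Limits AlgebraicGeometry TopologicalSpace Opposite

namespace Groth.Agent.R2.H1.LocalAmple

open Groth.Agent.R2.H79.TwistCalc Groth.Agent.R2.H62.CohLES
  Groth.Agent.R2.H1.TwistSmul Groth.Agent.R2.H35.FFRees

variable {A : Type u} [CommRing A] {X : Scheme.{u}} [X.Over (Spec (CommRingCat.of A))]

/-- Serre vanishing for `M` with respect to `L` (same as `H55.AmpleComp.SV`). -/
def SV (L M : X.Modules) : Prop :=
  ∃ n₀ : ℕ, ∀ n : ℕ, n₀ ≤ n → ∀ p : ℕ, 0 < p →
    Subsingleton (Coh.HH X (CohB1.tensorMod M (CohB1.tensorPow L n)) p)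

/-- vanishing from degree `p` on, for all large twists -/
def SVfrom (L M : X.Modules) (p : ℕ) : Prop :=
  ∃ n₀ : ℕ, ∀ n : ℕ, n₀ ≤ n → ∀ q : ℕ, p ≤ q →
    Subsingleton (Coh.HH X (CohB1.tensorMod M (CohB1.tensorPow L n)) q)

theorem sv_iff_svfrom_one (L M : X.Modules) : SV L M ↔ SVfrom L M 1 := Iff.rfl

section killed

theorem killedBy_cokernel (J : Ideal A) {M N : X.Modules} (φ : M ⟶ N) (hN : Formal.KilledBy J N) :
    Formal.KilledBy J (cokernel φ) := by
  intro a ha
  rw [← cancel_epi (cokernel.π φ), comp_zero, ← Groth.Agent.S9530.smulMod_comp, hN a ha,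
    zero_comp]

theorem killedBy_kernel (J : Ideal A) {M N : X.Modules} (φ : M ⟶ N) (hM : Formal.KilledBy J M) :
    Formal.KilledBy J (kernel φ) := by
  intro a ha
  rw [← cancel_mono (kernel.ι φ), zero_comp, Groth.Agent.S9530.smulMod_comp, hM a ha,
    comp_zero]

theorem smulMod_cokernel_self (M : X.Modules) (a : A) :
    Formal.smulMod A (cokernel (Formal.smulMod A M a)) a = 0 := by
  rw [← cancel_epi (cokernel.π (Formal.smulMod A M a)), comp_zero,
    ← Groth.Agent.S9530.smulMod_comp, cokernel.condition]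

theorem killedBy_sup_span (J : Ideal A) (a : A) (Q : X.Modules) (hJ : Formal.KilledBy J Q)
    (ha : Formal.smulMod A Q a = 0) : Formal.KilledBy (J ⊔ Ideal.span {a}) Q := by
  intro x hx
  obtain ⟨j, hj, y, hy, rfl⟩ := Submodule.mem_sup.1 hx
  obtain ⟨c, rfl⟩ := Ideal.mem_span_singleton'.1 hy
  rw [smulMod_add, hJ j hj, zero_add, Groth.Agent.R2.H40.FormalMod.smulMod_mul, ha]
  simp

end killed

section seqs

variable {M : X.Modules} (φ : M ⟶ M)

/-- `0 → im φ → M → coker φ → 0` -/
noncomputable def SC₂ : ShortComplex X.Modules :=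
  ShortComplex.mk (kernel.ι (cokernel.π φ)) (cokernel.π φ) (kernel.condition _)

theorem SC₂_shortExact : (SC₂ φ).ShortExact where
  exact := ShortComplex.exact_kernel _
  mono_f := inferInstanceAs (Mono (kernel.ι _))
  epi_g := inferInstanceAs (Epi (cokernel.π _))

/-- `0 → ker φ → M → im φ → 0` -/
noncomputable def SC₁ : ShortComplex X.Modules :=
  ShortComplex.mk (kernel.ι φ) (Abelian.factorThruImage φ) (by
    rw [← cancel_mono (Abelian.image.ι φ), Category.assoc, Abelian.image.fac, kernel.condition, zero_comp])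

theorem SC₁_shortExact : (SC₁ φ).ShortExact := by
  let S' : ShortComplex X.Modules := ShortComplex.mk (kernel.ι φ) φ (kernel.condition _)
  let ψ : SC₁ φ ⟶ S' :=
    { τ₁ := 𝟙 _
      τ₂ := 𝟙 _
      τ₃ := Abelian.image.ι φ
      comm₁₂ := by simp [SC₁, S']
      comm₂₃ := by simp [SC₁, S'] }
  haveI : Epi ψ.τ₁ := inferInstanceAs (Epi (𝟙 _))
  haveI : IsIso ψ.τ₂ := inferInstanceAs (IsIso (𝟙 _))
  haveI : Mono ψ.τ₃ := inferInstanceAs (Mono (Abelian.image.ι φ))
  have hex : (SC₁ φ).Exact :=
    (ShortComplex.exact_iff_of_epi_of_isIso_of_mono ψ).2 (ShortComplex.exact_kernel φ)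
  exact { exact := hex
          mono_f := inferInstanceAs (Mono (kernel.ι _))
          epi_g := inferInstanceAs (Epi (Abelian.factorThruImage φ)) }

end seqs

/-- key computation: if the twisted cohomology of `coker (a•)` vanishes in degree `q` and that of `ker (a•)` in
degree `q + 1`, then `H^q(M ⊗ L) = a • H^q(M ⊗ L)`. -/
theorem exists_eq_smul (L : X.Modules) (hL : PicF.IsInvertible L) (M : X.Modules) (a : A) (q : ℕ)
    (hQ : Subsingleton (Coh.HH X ((tensorRightF L).obj (cokernel (Formal.smulMod A M a))) q))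
    (hK : Subsingleton (Coh.HH X ((tensorRightF L).obj (kernel (Formal.smulMod A M a))) (q + 1)))
    (x : Coh.HH X ((tensorRightF L).obj M) q) :
    ∃ z : Coh.HH X ((tensorRightF L).obj M) q, x = a • z := by
  set φ := Formal.smulMod A M a with hφ
  have h₁ := shortExact_map_tensorRightF L hL (SC₁ φ) (SC₁_shortExact φ)
  have h₂ := shortExact_map_tensorRightF L hL (SC₂ φ) (SC₂_shortExact φ)
  have e₂ := exact_f_g h₂ q
  have e₁ := exact_g_δ h₁ q
  obtain ⟨y, hy⟩ := (e₂ x).mp (@Subsingleton.elim _ hQ _ _)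
  obtain ⟨z, hz⟩ := (e₁ y).mp (@Subsingleton.elim _ hK _ _)
  let z' : Coh.HH X ((tensorRightF L).obj M) q := z
  refine ⟨z', ?_⟩
  have hcomp : (tensorRightF L).map (Abelian.factorThruImage φ) ≫
      (tensorRightF L).map (kernel.ι (cokernel.π φ)) = Formal.smulMod A ((tensorRightF L).obj M) a := by
    rw [← Functor.map_comp]
    have : Abelian.factorThruImage φ ≫ kernel.ι (cokernel.π φ) = φ := Abelian.image.fac φ
    rw [this, hφ, tensorRightF_map_smulMod]
  have h3 : a • z' = HHmap (Formal.smulMod A ((tensorRightF L).obj M) a) q z' :=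
    (HHmap_smulMod _ a q z').symm
  rw [h3, ← hcomp, HHmap_comp]
  change x = HHmap ((SC₂ φ).map (tensorRightF L)).f q (HHmap ((SC₁ φ).map (tensorRightF L)).g q z)
  rw [hz, hy]

/-- Nakayama: a finite module `H` with `H = a H`, `a` in the Jacobson radical, is zero. -/
theorem subsingleton_of_forall_exists_eq_smul {H : Type*} [AddCommGroup H] [Module A H]
    [Module.Finite A H] (a : A) (ha : a ∈ Ideal.jacobson (⊥ : Ideal A))
    (h : ∀ x : H, ∃ z : H, x = a • z) : Subsingleton H := by
  have h1 : (⊤ : Submodule A H) ≤ Ideal.span {a} • (⊤ : Submodule A H) := by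
    intro x _
    obtain ⟨z, rfl⟩ := h x
    exact Submodule.smul_mem_smul (Ideal.subset_span rfl) Submodule.mem_top
  have h2 : (⊤ : Submodule A H) = ⊥ :=
    Submodule.eq_bot_of_le_smul_of_le_jacobson_bot (Ideal.span {a}) ⊤ Module.Finite.fg_top h1
      ((Ideal.span_singleton_le_iff_mem _).2 ha)
  exact ⟨fun x y => by
    have hx : x ∈ (⊥ : Submodule A H) := h2 ▸ Submodule.mem_top
    have hy : y ∈ (⊥ : Submodule A H) := h2 ▸ Submodule.mem_top
    rw [(Submodule.mem_bot A).1 hx, (Submodule.mem_bot A).1 hy]⟩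

section main

variable [IsNoetherianRing A] [IsProper (X ↘ Spec (CommRingCat.of A))]

/-- one generator: descending induction on the degree -/
theorem step (L : X.Modules) (hL : PicF.IsInvertible L) (J : Ideal A) (a : A)
    (ha : a ∈ Ideal.jacobson (⊥ : Ideal A)) (N₀ : ℕ)
    (hN₀ : ∀ (M : X.Modules), Coh.IsQCoh M → ∀ p : ℕ, N₀ ≤ p → Subsingleton (Coh.HH X M p))
    (hJa : ∀ Q : X.Modules, Coh.IsCoh Q → Formal.KilledBy (J ⊔ Ideal.span {a}) Q → SV L Q) :
    ∀ (k p : ℕ), 1 ≤ p → N₀ ≤ p + k → ∀ M : X.Modules, Coh.IsCoh M → Formal.KilledBy J M →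
      SVfrom L M p := by
  haveI : IsLocallyNoetherian X :=
    LocallyOfFiniteType.isLocallyNoetherian (X ↘ Spec (CommRingCat.of A))
  intro k
  induction k with
  | zero =>
    intro p _ hp M hM _
    refine ⟨0, fun n _ q hq => hN₀ _ ?_ q (le_trans (by simpa using hp) hq)⟩
    exact isQCoh_tensorMod M _ hM.1 (Groth.Agent.Lib.Helper23.SecTw.isInvertible_tensorPow hL n)
  | succ k ih =>
    intro p hp1 hp M hM hJM
    set φ := Formal.smulMod A M a with hφ
    have hKc : Coh.IsCoh (kernel φ) := Groth.Agent.R2.H64.FFGrFin.isCoh_kernel hM hM φ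
    have hQc : Coh.IsCoh (cokernel φ) := Groth.Agent.R2.H64.FFGrFin.isCoh_cokernel hM hM φ
    obtain ⟨n₁, h₁⟩ := ih (p + 1) (by omega) (by omega) (kernel φ) hKc (killedBy_kernel J φ hJM)
    obtain ⟨n₂, h₂⟩ := hJa (cokernel φ) hQc
      (killedBy_sup_span J a _ (killedBy_cokernel J φ hJM) (smulMod_cokernel_self M a))
    refine ⟨max n₁ n₂, fun n hn q hq => ?_⟩
    have hLn := Groth.Agent.Lib.Helper23.SecTw.isInvertible_tensorPow hL n
    haveI : Module.Finite A (Coh.HH X ((tensorRightF (CohB1.tensorPow L n)).obj M) q) :=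
      Groth.Agent.S0002.result A X _ (isCoh_tensorMod M _ hM hLn) q
    have key : Subsingleton (Coh.HH X ((tensorRightF (CohB1.tensorPow L n)).obj M) q) :=
      subsingleton_of_forall_exists_eq_smul a ha
        (exists_eq_smul (CohB1.tensorPow L n) hLn M a q
          (h₂ n (le_trans (le_max_right _ _) hn) q (by omega))
          (h₁ n (le_trans (le_max_left _ _) hn) (q + 1) (by omega)))
    exact key

/-- finitely many generators -/
theorem sv_of_killedBy_finset (L : X.Modules) (hL : PicF.IsInvertible L) (N₀ : ℕ)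
    (hN₀ : ∀ (M : X.Modules), Coh.IsQCoh M → ∀ p : ℕ, N₀ ≤ p → Subsingleton (Coh.HH X M p))
    (s : Finset A) (hs : ∀ a ∈ s, a ∈ Ideal.jacobson (⊥ : Ideal A)) :
    ∀ J : Ideal A,
      (∀ Q : X.Modules, Coh.IsCoh Q → Formal.KilledBy (J ⊔ Ideal.span (s : Set A)) Q → SV L Q) →
      ∀ M : X.Modules, Coh.IsCoh M → Formal.KilledBy J M → SV L M := by
  classical
  induction s using Finset.induction_on with
  | empty =>
    intro J h M hM hJM
    refine h M hM ?_
    simpa using hJM
  | insert a t hat ih =>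
    intro J h M hM hJM
    have hspan : J ⊔ Ideal.span ((insert a t : Finset A) : Set A) =
        (J ⊔ Ideal.span {a}) ⊔ Ideal.span (t : Set A) := by
      rw [Finset.coe_insert, Ideal.span_insert, sup_assoc]
    have h' : ∀ Q : X.Modules, Coh.IsCoh Q → Formal.KilledBy (J ⊔ Ideal.span {a}) Q → SV L Q :=
      ih (fun b hb => hs b (Finset.mem_insert_of_mem hb)) (J ⊔ Ideal.span {a})
        (fun Q hQ hk => h Q hQ (hspan ▸ hk))
    exact step L hL J a (hs a (Finset.mem_insert_self a t)) N₀ hN₀ h' N₀ 1 le_rfl (by omega) M hM hJM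

/-- **Serre vanishing from Serre vanishing modulo an ideal contained in the Jacobson radical.** -/
theorem sv_of_killedBy (L : X.Modules) (hL : PicF.IsInvertible L) (I : Ideal A)
    (hI : I ≤ Ideal.jacobson (⊥ : Ideal A))
    (hK : ∀ Q : X.Modules, Coh.IsCoh Q → Formal.KilledBy I Q → SV L Q)
    (M : X.Modules) (hM : Coh.IsCoh M) : SV L M := by
  haveI : CompactSpace X :=
    QuasiCompact.compactSpace_of_compactSpace (X ↘ Spec (CommRingCat.of A))
  haveI : QuasiSeparatedSpace X :=
    quasiSeparatedSpace_of_quasiSeparated (X ↘ Spec (CommRingCat.of A))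
  obtain ⟨N₀, hN₀⟩ := Groth.Agent.S0016.result X
  obtain ⟨s, hs⟩ := (isNoetherianRing_iff_ideal_fg A).1 inferInstance I
  refine sv_of_killedBy_finset L hL N₀ hN₀ s (fun a ha => hI (hs ▸ Ideal.subset_span ha)) ⊥ ?_ M hM ?_
  · intro Q hQ hk
    refine hK Q hQ ?_
    rwa [bot_sup_eq, hs] at hk
  · intro a ha
    rw [(Submodule.mem_bot A).1 ha, smulMod_zero]

end main

end Groth.Agent.R2.H1.LocalAmple
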