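import Groth.Agent.R2.H54RelSerreA2
import Groth.Agent.R2.H54AmpleSpec
import Groth.Agent.Lib.Helper23TensorQCoh

/-!
# PROJ:ample, package A1 (helper54): Serre vanishing on closed subschemes of `P^N_B`

`pushTensorPullIso : i_* (F ⊗ i^* H) ≅ (i_* F) ⊗ H` for a closed immersion `i` (projection formula with the
direct image in the first slot), and `pnSubVanishing : AmpleSpec.PnSubVanishing`.
-/

set_option autoImplicit false
set_option linter.style.haveILetI false
universe u

open CategoryTheory CategoryTheory.Limits AlgebraicGeometry Opposite TopologicalSpace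

namespace Groth.Agent.R2.H54.AmpleA1

open Groth.Agent.R2.H54.ClosedImm Groth.Agent.R2.H54.RelSerreA Groth.Agent.Lib.Helper1.PT
  Groth.Agent.Lib.Helper1.KBC Groth.Agent.Lib.Helper21.ModTensor5

section general

variable {Y P : Scheme.{u}} (i : Y ⟶ P) [IsClosedImmersion i]

/-- the projection formula `i_* (F ⊗ i^* H) ≅ (i_* F) ⊗ H` for a closed immersion `i : Y ⟶ P`. -/
noncomputable def pushTensorPullIso (F : Y.Modules) (H : P.Modules) :
    (Coh.push i).obj (CohB1.tensorMod F ((Scheme.Modules.pullback i).obj H)) ≅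
      CohB1.tensorMod ((Coh.push i).obj F) H :=
  (Coh.push i).mapIso (((brd Y.sheaf).app F).app ((Scheme.Modules.pullback i).obj H)) ≪≫
    (pfApp i F H).symm ≪≫ (((brd P.sheaf).app ((Coh.push i).obj F)).app H).symm

end general

/-- **(A1)** Serre vanishing on closed subschemes of `P^N_B`. -/
theorem pnSubVanishing : Groth.Agent.R2.H54.AmpleSpec.PnSubVanishing := by
  intro N B _ _ X j _ F hF
  haveI := Groth.Agent.R2.H58.SerreFin.isLocallyNoetherian_projSpace N B
  have hjF : Coh.IsCoh ((Coh.push j).obj F) := Groth.Agent.S0019.result j F hF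
  have hSerre := fun p (hp : 0 < p) =>
    Groth.Agent.R2.H58.SerreVanPn.projSpace_serre_vanishing_of N B
      (fun d hd q hq => Groth.Agent.S0844.result B N d q (by omega) (by omega))
      ((Coh.push j).obj F) hjF p hp
  obtain ⟨m₀, hm₀⟩ := exists_uniform_bound
    (fun p m => Subsingleton (Coh.HH (CohB1.ProjSpace N B)
      (Twist.twistBy (CohB1.polyGrading N B) ((Coh.push j).obj F) m) (p + 1)))
    (fun p => hSerre (p + 1) (Nat.succ_pos p)) N
  refine ⟨m₀, fun m hm q hq => ?_⟩
  haveI : F.IsQuasicoherent := hF.1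
  haveI : ((Scheme.Modules.pullback j).obj (Twist.twistProjSpace N B m)).IsQuasicoherent :=
    isQCoh_pullback_twist N B j m
  haveI : Coh.IsQCoh (CohB1.tensorMod F
      ((Scheme.Modules.pullback j).obj (Twist.twistProjSpace N B m))) :=
    Groth.Agent.Lib.Helper23.TensorQCoh.isQuasicoherent_tensorMod _ _
  obtain ⟨e⟩ := Groth.Agent.S0012.result j (CohB1.tensorMod F
      ((Scheme.Modules.pullback j).obj (Twist.twistProjSpace N B m))) q
  have hcoh : Coh.IsCoh (Twist.twistBy (CohB1.polyGrading N B) ((Coh.push j).obj F) m) :=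
    Groth.Agent.R2.H79.TwistCalc.isCoh_tensorMod _ _ hjF
      (Groth.Agent.R2.H79.TwistCalc.isInvertible_twistProjSpace N B m)
  have hsub : Subsingleton (Coh.HH (CohB1.ProjSpace N B)
      (Twist.twistBy (CohB1.polyGrading N B) ((Coh.push j).obj F) m) q) := by
    by_cases hqn : q ≤ N
    · obtain ⟨p, rfl⟩ : ∃ p, q = p + 1 := ⟨q - 1, by omega⟩
      exact hm₀ p (by omega) m hm
    · have hq' : Coh.IsQCoh (X := CohB1.ProjSpace N B)
          (Twist.twistBy (CohB1.polyGrading N B) ((Coh.push j).obj F) m) := hcoh.1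
      exact @Groth.Agent.S0022.result N B _ _ hq' q (by omega)
  have h2 : Subsingleton (Coh.HH (CohB1.ProjSpace N B) ((Coh.push j).obj (CohB1.tensorMod F
      ((Scheme.Modules.pullback j).obj (Twist.twistProjSpace N B m)))) q) :=
    @Groth.Agent.R2.H58.SerreFin.subsingleton_of_iso (CohB1.ProjSpace N B) _ _
      (pushTensorPullIso j F (Twist.twistProjSpace N B m)).symm q hsub
  exact e.toEquiv.subsingleton

end Groth.Agent.R2.H54.AmpleA1
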