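import Mathlib
import Groth.Agent.R2.H55AmpleNil
import Groth.Agent.Lib.Helper22NA9

/-!
# PROJ:ample, package A7 (`ComponentsAmple` = frozen S11559) (helper55)

`L` is ample on `X` (proper over a Noetherian ring) iff it is ample on every irreducible component with its reduced
structure.  The class of ideal sheaves `P` such that every coherent module killed by `P` satisfies Serre vanishing for
`L` contains the ideals of closed subschemes on which `L` is ample (A3) and is stable under products (dévissage);
the product of the ideals of the irreducible components is nilpotent; conclude with A4.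
-/

set_option autoImplicit false
set_option linter.style.haveILetI false
universe u

open CategoryTheory CategoryTheory.Limits AlgebraicGeometry Opposite TopologicalSpace

namespace Groth.Agent.R2.H55.AmpleComp

open Groth.Agent.R2.H79.TwistCalc Groth.Agent.R2.H54.AmpleSpec Groth.Agent.R2.H55.AmpleVan
  Groth.Agent.R2.H62.CohLES Groth.Agent.R2.H55.AmpleNil
  Groth.Agent.Lib.Helper23.QCohLocal Groth.Agent.Lib.Helper23.FinType

variable {X : Scheme.{u}}

/-- Serre vanishing for `M` with respect to `L`. -/
def SV (L M : X.Modules) : Prop :=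
  ∃ n₀ : ℕ, ∀ n : ℕ, n₀ ≤ n → ∀ p : ℕ, 0 < p →
    Subsingleton (Coh.HH X (CohB1.tensorMod M (CohB1.tensorPow L n)) p)

/-- every coherent module killed by `P` satisfies Serre vanishing for `L`. -/
def SVK (L : X.Modules) (P : X.IdealSheafData) : Prop :=
  ∀ M : X.Modules, Coh.IsCoh M → ClSub.KilledByIdeal P M → SV L M

/-- Serre vanishing passes to the middle term of a short exact sequence. -/
theorem sv_of_shortExact (L : X.Modules) (hL : PicF.IsInvertible L) (S : ShortComplex X.Modules)
    (hS : S.ShortExact) (h₁ : SV L S.X₁) (h₃ : SV L S.X₃) : SV L S.X₂ := by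
  obtain ⟨n₁, h₁⟩ := h₁
  obtain ⟨n₂, h₂⟩ := h₃
  refine ⟨max n₁ n₂, fun n hn p hp => ?_⟩
  have hLn : PicF.IsInvertible (CohB1.tensorPow L n) :=
    Groth.Agent.Lib.Helper23.SecTw.isInvertible_tensorPow hL n
  have hS' := shortExact_map_tensorRightF (CohB1.tensorPow L n) hLn S hS
  have hex := exact_f_g hS' p
  have s₁ : Subsingleton (Coh.HH X (S.map (tensorRightF (CohB1.tensorPow L n))).X₁ p) :=
    h₁ n (le_trans (le_max_left _ _) hn) p hp
  have s₃ : Subsingleton (Coh.HH X (S.map (tensorRightF (CohB1.tensorPow L n))).X₃ p) :=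
    h₂ n (le_trans (le_max_right _ _) hn) p hp
  have h0 : ∀ x : Coh.HH X (S.map (tensorRightF (CohB1.tensorPow L n))).X₂ p, x = 0 := by
    intro x
    obtain ⟨y, rfl⟩ := (hex x).mp (Subsingleton.elim _ _)
    rw [Subsingleton.elim y 0, map_zero]
  exact ⟨fun a b => (h0 a).trans (h0 b).symm⟩

theorem svk_of_le (L : X.Modules) {P P' : X.IdealSheafData} (h : P ≤ P') (hP : SVK L P) : SVK L P' :=
  fun M hM hk => hP M hM (fun U a ha m => hk U a (h U ha) m)

/-- dévissage: the class `SVK L` is stable under products. -/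
theorem svk_mul [IsLocallyNoetherian X] (L : X.Modules) (hL : PicF.IsInvertible L)
    (I J : X.IdealSheafData) (hI : SVK L I) (hJ : SVK L J) : SVK L (I * J) := by
  intro M hM hk
  haveI : M.IsQuasicoherent := hM.1
  haveI : SheafOfModules.IsFiniteType (R := X.ringCatSheaf) M := hM.2
  have hN : Coh.IsCoh ((Scheme.Modules.pushforward I.subschemeι).obj
      ((Scheme.Modules.pullback I.subschemeι).obj M)) :=
    Groth.Agent.S0019.result I.subschemeι _ (isCoh_pullback _ M hM)
  haveI := hN.1
  have hKq : (kernel (η I M)).IsQuasicoherent := isQuasicoherent_kernel (η I M)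
  have hK : Coh.IsCoh (kernel (η I M)) :=
    Groth.Agent.S0046.result X M _ (kernel.ι (η I M)) hM hKq
  have hQq : (Abelian.coimage (η I M)).IsQuasicoherent :=
    isQuasicoherent_cokernel (kernel.ι (η I M))
  have hQ : Coh.IsCoh (Abelian.coimage (η I M)) :=
    ⟨hQq, isFiniteType_of_epi (cokernel.π (kernel.ι (η I M)))⟩
  exact sv_of_shortExact L hL (SC I M) (SC_shortExact I M)
    (hJ _ hK (killedByIdeal_kernel_of_mul I M J hk))
    (hI _ hQ (killedByIdeal_coimage I M))

theorem svk_list_prod [IsLocallyNoetherian X] (L : X.Modules) (hL : PicF.IsInvertible L) :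
    ∀ (cs : List X.IdealSheafData) (c : X.IdealSheafData),
      (∀ K ∈ c :: cs, SVK L K) → SVK L (c :: cs).prod
  | [], c, h => by
    rw [List.prod_cons, List.prod_nil, mul_one]
    exact h c (List.mem_cons_self)
  | c' :: cs, c, h => by
    rw [List.prod_cons]
    exact svk_mul L hL c _ (h c (List.mem_cons_self))
      (svk_list_prod L hL cs c' (fun K hK => h K (List.mem_cons_of_mem _ hK)))

theorem svk_pow [IsLocallyNoetherian X] (L : X.Modules) (hL : PicF.IsInvertible L)
    (P : X.IdealSheafData) (h : SVK L P) : ∀ m : ℕ, SVK L (P ^ (m + 1))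
  | 0 => by rw [zero_add, pow_one]; exact h
  | m + 1 => by
    rw [pow_succ]
    exact svk_mul L hL _ _ (svk_pow L hL P h m) h

/-- A3 on `V(K)` puts `K` in the class `SVK L`. -/
theorem svk_of_isAmple (A : Type u) [CommRing A] (hA3 : AmpleVanishing A)
    (f : X ⟶ Spec (CommRingCat.of A)) [IsProper f] [IsLocallyNoetherian X] (L : X.Modules)
    (hL : PicF.IsInvertible L) (K : X.IdealSheafData)
    (hK : CohB1.IsAmple ((Scheme.Modules.pullback K.subschemeι).obj L)) : SVK L K :=
  fun M hM hk => vanishing_of_killedByIdeal A hA3 f L hL K hK M hM hk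

/-- A4: if all coherent modules satisfy Serre vanishing, `L` is ample. -/
theorem isAmple_of_svk_bot (hA4 : VanishingAmple.{u}) [IsNoetherian X] (L : X.Modules)
    (hL : PicF.IsInvertible L) (h : SVK L ⊥) : CohB1.IsAmple L := by
  refine hA4 X L hL (fun M hM => h M hM (fun U a ha m => ?_))
  rw [Scheme.IdealSheafData.ideal_bot] at ha
  rw [show a = 0 from ha]
  exact zero_smul _ m

section Comps

variable (X)

/-- the nilradical of a Noetherian scheme is nilpotent. -/
theorem exists_nilradical_pow_eq_bot [IsNoetherian X] : ∃ m : ℕ, X.nilradical ^ (m + 1) = ⊥ := by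
  obtain ⟨n, W, hW, hcov⟩ :=
    Groth.Agent.Lib.Helper22.NA9.exists_fin_affine_cover (⊤ : X.Opens) isCompact_univ
  have h : ∀ k : Fin n, ∃ m : ℕ, (nilradical Γ(X, W k)) ^ m = ⊥ := fun k => by
    haveI : IsNoetherianRing Γ(X, W k) :=
      IsLocallyNoetherian.component_noetherian ⟨W k, hW k⟩
    exact IsNoetherianRing.isNilpotent_nilradical _
  choose m hm using h
  refine ⟨Finset.univ.sup m, le_bot_iff.mp ?_⟩
  refine Scheme.IdealSheafData.le_of_iSup_eq_top
    (fun k : Fin n => (⟨W k, hW k⟩ : X.affineOpens)) hcov (fun k => ?_)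
  rw [Scheme.IdealSheafData.ideal_pow, Scheme.IdealSheafData.ideal_bot]
  have h1 : X.nilradical.ideal ⟨W k, hW k⟩ = nilradical Γ(X, W k) := rfl
  change (X.nilradical.ideal ⟨W k, hW k⟩) ^ (Finset.univ.sup m + 1) ≤ ⊥
  rw [h1, ← hm k]
  exact Ideal.pow_le_pow_right
    (le_trans (Finset.le_sup (f := m) (Finset.mem_univ k)) (Nat.le_succ _))

/-- the irreducible components of `X`, as closed subsets. -/
def compSet : Set (Closeds X) := {Z | (Z : Set X) ∈ irreducibleComponents X}

theorem finite_compSet [IsNoetherian X] : (compSet X).Finite :=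
  (NoetherianSpace.finite_irreducibleComponents (α := X)).preimage SetLike.coe_injective.injOn

variable {X}

theorem le_support_prod : ∀ (l : List (Closeds X)) (Z : Closeds X), Z ∈ l →
    Z ≤ ((l.map Scheme.IdealSheafData.vanishingIdeal).prod).support
  | [], Z, h => absurd h (List.not_mem_nil)
  | Z' :: l, Z, h => by
    rw [List.map_cons, List.prod_cons, Scheme.IdealSheafData.support_mul]
    rcases List.mem_cons.mp h with rfl | h
    · exact le_sup_of_le_left (Scheme.IdealSheafData.le_support_iff_le_vanishingIdeal.mpr le_rfl)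
    · exact le_sup_of_le_right (le_support_prod l Z h)

theorem prod_le_nilradical (l : List (Closeds X)) (hl : ∀ x : X, ∃ Z ∈ l, x ∈ Z) :
    (l.map Scheme.IdealSheafData.vanishingIdeal).prod ≤ X.nilradical := by
  rw [← Scheme.IdealSheafData.vanishingIdeal_top,
    ← Scheme.IdealSheafData.le_support_iff_le_vanishingIdeal]
  intro x _
  obtain ⟨Z, hZ, hx⟩ := hl x
  exact le_support_prod l Z hZ hx

end Comps

section Main

/-- **(A7)** `L` is ample iff it is ample on every irreducible component with its reduced structure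
(= frozen `S11559`), from A3 and A4. -/
theorem componentsAmple (A : Type u) [CommRing A] [IsNoetherianRing A]
    (hA3 : ∀ (B : Type u) [CommRing B] [IsNoetherianRing B], AmpleVanishing B)
    (hA4 : VanishingAmple.{u}) (X : Scheme.{u}) [X.Over (Spec (CommRingCat.of A))]
    [IsProper (X ↘ (Spec (CommRingCat.of A)))] (L : X.Modules) (hL : PicF.IsInvertible L) :
    CohB1.IsAmple L ↔
      ∀ Z : Closeds ↥X, (Z : Set ↥X) ∈ irreducibleComponents ↥X →
        CohB1.IsAmple ((Scheme.Modules.pullback
          (Scheme.IdealSheafData.vanishingIdeal Z).subschemeι).obj L) := by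
  refine ⟨fun h Z _ => Groth.Agent.Lib.Helper23.PB.isAmple_pullback_of_isAffineHom _ L h, fun h => ?_⟩
  haveI : IsLocallyNoetherian X :=
    LocallyOfFiniteType.isLocallyNoetherian (X ↘ Spec (CommRingCat.of A))
  haveI : CompactSpace X :=
    QuasiCompact.compactSpace_of_compactSpace (X ↘ Spec (CommRingCat.of A))
  haveI : IsNoetherian X := {}
  by_cases hne : Nonempty X
  swap
  · exact ⟨hL, inferInstance, fun x => (hne ⟨x⟩).elim⟩
  obtain ⟨x₀⟩ := hne
  have hcomp : ∀ x : X, ∃ Z ∈ (finite_compSet X).toFinset.toList, x ∈ Z := fun x =>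
    ⟨⟨irreducibleComponent x, isClosed_irreducibleComponent⟩, by
      rw [Finset.mem_toList, Set.Finite.mem_toFinset]
      exact irreducibleComponent_mem_irreducibleComponents x, mem_irreducibleComponent⟩
  obtain ⟨c, cs, hl⟩ : ∃ c cs, (finite_compSet X).toFinset.toList = c :: cs := by
    obtain ⟨Z, hZ, -⟩ := hcomp x₀
    exact List.exists_cons_of_ne_nil (List.ne_nil_of_mem hZ)
  have hK : ∀ K ∈ ((finite_compSet X).toFinset.toList.map Scheme.IdealSheafData.vanishingIdeal),
      SVK L K := by
    intro K hK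
    obtain ⟨Z, hZ, rfl⟩ := List.mem_map.mp hK
    rw [Finset.mem_toList, Set.Finite.mem_toFinset] at hZ
    exact svk_of_isAmple A (hA3 A) (X ↘ Spec (CommRingCat.of A)) L hL _ (h Z hZ)
  have hP : SVK L ((finite_compSet X).toFinset.toList.map Scheme.IdealSheafData.vanishingIdeal).prod := by
    rw [hl, List.map_cons] at hK ⊢
    exact svk_list_prod L hL _ _ hK
  obtain ⟨m, hm⟩ := exists_nilradical_pow_eq_bot X
  refine isAmple_of_svk_bot hA4 L hL (svk_of_le L ?_ (svk_pow L hL _ hP m))
  rw [← hm]
  exact pow_le_pow_left₀ bot_le (prod_le_nilradical _ hcomp) _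

end Main

end Groth.Agent.R2.H55.AmpleComp
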