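import Mathlib
import Groth.Prelude.Def_Coh
import Groth.Prelude.Def_CohB1
import Groth.Prelude.Def_Pic
import Groth.Agent.R2.H54AmpleSpec
import Groth.Agent.R2.H62RelSerreSpec
import Groth.Agent.R2.H55AmpleVan
import Groth.Agent.Lib.Helper23RestrTensor
import Groth.Agent.Lib.Helper23FinTypeLocal
import Groth.Agent.Lib.Helper22NA9

/-!
# PROJ:ample, package A5 (`RelAmpleVanishing` = frozen S0055) (helper55)

Relatively ample modules kill the higher direct images of large twists, from Serre vanishing for ample modules over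
Noetherian rings (A3) and the local-to-global step C of the relSerre assembly (helper62/helper64).
-/

set_option autoImplicit false
set_option linter.style.haveILetI false
universe u

open CategoryTheory CategoryTheory.Limits AlgebraicGeometry

namespace Groth.Agent.R2.H55.AmpleRel

open Groth.Agent.R2.H79.TwistCalc Groth.Agent.R2.H54.AmpleSpec Groth.Agent.R2.H55.AmpleVan

/-- restriction to an open subscheme preserves coherence. -/
theorem isCoh_restrict {X Y : Scheme.{u}} (j : Y ⟶ X) [IsOpenImmersion j] (M : X.Modules)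
    (hM : Coh.IsCoh M) : Coh.IsCoh (M.restrict j) := by
  haveI : M.IsQuasicoherent := hM.1
  haveI : SheafOfModules.IsFiniteType (R := X.ringCatSheaf) M := hM.2
  exact ⟨inferInstance, Groth.Agent.Lib.Helper23.FinType.isFiniteType_restrict j M⟩

/-- **(A5)** relatively ample modules kill higher direct images of large twists (= frozen `S0055`), from A3 and
step C of relSerre. -/
theorem relAmpleVanishing
    (hA3 : ∀ (B : Type u) [CommRing B] [IsNoetherianRing B], AmpleVanishing B)
    (hC : Groth.Agent.R2.H62.RelSerreSpec.StepC.{u}) : RelAmpleVanishing.{u} := by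
  intro X S f _ _ L hL hamp M hM
  obtain ⟨n, W, hW, hcov⟩ :=
    Groth.Agent.Lib.Helper22.NA9.exists_fin_affine_cover (⊤ : S.Opens) isCompact_univ
  have h : ∀ k : Fin n, ∃ n₀ : ℕ, ∀ m : ℕ, n₀ ≤ m → ∀ p : ℕ, 0 < p →
      Subsingleton (Coh.HH ((f ⁻¹ᵁ W k : X.Opens) : Scheme.{u})
        (CohB1.tensorMod (M.restrict (f ⁻¹ᵁ W k).ι)
          (CohB1.tensorPow (L.restrict (f ⁻¹ᵁ W k).ι) m)) p) := fun k => by
    haveI : IsNoetherianRing Γ(S, W k) :=
      IsLocallyNoetherian.component_noetherian ⟨W k, hW k⟩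
    exact hA3 Γ(S, W k) _ ((f ∣_ W k) ≫ (hW k).isoSpec.hom) (L.restrict (f ⁻¹ᵁ W k).ι)
      (hamp (W k) (hW k)) (M.restrict (f ⁻¹ᵁ W k).ι) (isCoh_restrict _ M hM)
  choose n₀ hn₀ using h
  refine ⟨Finset.univ.sup n₀, fun m hm p hp => ?_⟩
  haveI : (CohB1.tensorMod M (CohB1.tensorPow L m)).IsQuasicoherent :=
    isQCoh_tensorMod M _ hM.1 (Groth.Agent.Lib.Helper23.SecTw.isInvertible_tensorPow hL m)
  refine hC f (CohB1.tensorMod M (CohB1.tensorPow L m)) (fun k : ULift.{u} (Fin n) => W k.down)
    (fun k => hW k.down) ?_ ?_ p hp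
  · refine le_antisymm le_top ?_
    rw [← hcov]
    exact iSup_le fun k => le_iSup (fun k : ULift.{u} (Fin n) => W k.down) ⟨k⟩
  · intro k q hq
    obtain ⟨iso⟩ := Groth.Agent.Lib.Helper23.RestrTensor.nonempty_restrict_twist_iso M L hL
      (f ⁻¹ᵁ W k.down) m
    exact subsingleton_HH_of_iso iso.symm q
      (hn₀ k.down m (le_trans (Finset.le_sup (Finset.mem_univ _)) hm) q hq)

end Groth.Agent.R2.H55.AmpleRel
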