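import Mathlib
import Groth.Agent.R2.H54AmpleSpec
import Groth.Agent.Lib.Helper13ProjUPb
import Groth.Agent.Lib.Helper23LocGen
import Groth.Agent.Lib.Helper23SecTw9
import Groth.Agent.Lib.Helper20OnePt

/-!
# helper91: projective embedding by a power of an ample module (PROJ:ample, package A2)

* `isImmersion_of_cover` : a morphism which restricts to closed immersions over opens `V i` of the target whose
  preimages cover the source is an immersion.
* `isClosedImmersion_restrict_of_surjective` : affine source and target, surjective on sections.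
* `exists_mor_iso'` : the morphism to `Proj` of a symmetric algebra attached to generating sections, with all
  the data of Lib `Helper13ProjUPb.exists_mor` and the isomorphism `r^* O(1) ≅ L` for the same `r`.
* `preimage_basicOpen_eq` : `r⁻¹ D₊(ι m) = X_{v m}`.
* `exists_immersion` : criterion for `r` to be an immersion (very ampleness criterion).
-/

set_option autoImplicit false
set_option linter.unusedSectionVars false
universe u

open CategoryTheory CategoryTheory.Limits AlgebraicGeometry TopologicalSpace Opposite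

namespace Groth.Agent.R2.H91.AmpleEmb

/-- A morphism restricting to closed immersions over opens of the target whose preimages cover the source
is an immersion. -/
theorem isImmersion_of_cover {X Y : Scheme.{u}} (f : X ⟶ Y) {ι : Type*} (V : ι → Y.Opens)
    (hcov : ∀ x : X, ∃ i, f x ∈ V i) (h : ∀ i, IsClosedImmersion (f ∣_ V i)) : IsImmersion f := by
  let U : Y.Opens := ⨆ i, V i
  have hU : f ⁻¹ᵁ U = ⊤ := by
    rw [eq_top_iff]
    intro x _
    obtain ⟨i, hi⟩ := hcov x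
    exact Opens.mem_iSup.2 ⟨i, hi⟩
  have h1 : IsClosedImmersion (f ∣_ U) := by
    have hsup : ⨆ i, (U.ι ⁻¹ᵁ V i) = ⊤ := by
      rw [eq_top_iff]
      rintro ⟨y, hy⟩ _
      obtain ⟨i, hi⟩ := Opens.mem_iSup.1 hy
      exact Opens.mem_iSup.2 ⟨i, hi⟩
    rw [IsZariskiLocalAtTarget.iff_of_iSup_eq_top (P := @IsClosedImmersion) (fun i => U.ι ⁻¹ᵁ V i) hsup]
    intro i
    have himg : U.ι ''ᵁ (U.ι ⁻¹ᵁ V i) = V i := by
      rw [Scheme.Hom.image_preimage_eq_opensRange_inf, Scheme.Opens.opensRange_ι]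
      exact inf_eq_right.2 (le_iSup V i)
    have e := morphismRestrictRestrict f U (U.ι ⁻¹ᵁ V i) ≪≫ morphismRestrictEq f himg
    exact (MorphismProperty.arrow_mk_iso_iff @IsClosedImmersion e).2 (h i)
  have : IsIso (f ⁻¹ᵁ U).ι := by rw [hU, ← Scheme.topIso_hom]; infer_instance
  have hf : f = inv (f ⁻¹ᵁ U).ι ≫ (f ∣_ U) ≫ U.ι := by rw [morphismRestrict_ι]; simp
  rw [hf]; infer_instance

/-- A morphism with affine preimage of an affine open `U` and surjective on sections over `U` restricts to a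
closed immersion over `U`. -/
theorem isClosedImmersion_restrict_of_surjective {X S : Scheme.{u}} (f : X ⟶ S) (U : S.Opens)
    (hU : IsAffineOpen U) (hV : IsAffineOpen (f ⁻¹ᵁ U))
    (h : Function.Surjective (f.app U).hom) : IsClosedImmersion (f ∣_ U) := by
  have : IsAffine (U : Scheme.{u}) := hU
  have : IsAffine ((f ⁻¹ᵁ U : X.Opens) : Scheme.{u}) := hV
  apply IsClosedImmersion.of_surjective_of_isAffine
  rw [morphismRestrict_appTop]
  have key : ∀ W : S.Opens, W = U → Function.Surjective (f.app W).hom := by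
    rintro W rfl
    exact h
  have h1 := key (U.ι ''ᵁ ⊤) U.ι_image_top
  have h2 : Function.Bijective
      (X.presheaf.map (eqToHom (image_morphismRestrict_preimage f U ⊤)).op).hom :=
    ConcreteCategory.bijective_of_isIso _
  exact h2.surjective.comp h1

section projUP

open Groth.Agent.Helper13ProjUP
open Groth.Agent.Lib.Helper27GrTildeSect Groth.Agent.Helper13GrTildeFrac
  Groth.Agent.Helper13Dehom Groth.Agent.Helper13AffMor Groth.Agent.Helper13SymGr
open Groth.Agent.Lib.Helper23.SecTw Groth.Agent.Lib.Helper6 Groth.Agent.Lib.Helper23.GenLocus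
open Groth.Agent.Lib.Helper23.PB Groth.Agent.Helper13PullbackUnit Groth.Agent.Lib.Helper23.Extend

variable {R A : Type u} [CommRing R] [CommRing A] [Algebra R A] (𝒜 : ℕ → Submodule R A)
  [GradedAlgebra 𝒜]
variable {M : Type u} [AddCommGroup M] [Module R M] (ι : M →ₗ[R] A)
variable {X : Scheme.{u}} (q : X ⟶ Spec (CommRingCat.of R)) (L : X.Modules)
  (v : M →+ ProjUP.Γm L)

/-- `Helper13ProjUPb.exists_mor` and `exists_mor_iso` for the same morphism `r`. -/
theorem exists_mor_iso' (hι : ∀ m, ι m ∈ 𝒜 1) (hsym : IsSymmetricAlgebra ι) (hL : PicF.IsInvertible L)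
    (hv : ∀ (c : R) (m : M), v (c • m) = ProjUP.toGlobal q c • v m) (hgen : ProjUP.GeneratedBy L v) :
    ∃ (r : X ⟶ Proj 𝒜) (hle : ∀ m, XL L v m ≤ r ⁻¹ᵁ Proj.basicOpen 𝒜 (ι m))
      (τ : (Scheme.Modules.pullback r).obj (O1 𝒜) ≅ L),
      r ≫ toBase 𝒜 = q ∧
      (∀ m m', (r.appLE (Proj.basicOpen 𝒜 (ι m)) (XL L v m) (hle m)).hom (dehom (hι m) (ι m')) =
        cf L v m m') ∧
      ∀ m, τ.hom.app ⊤ (unitSec r (O1 𝒜) (le_top : (⊤ : X.Opens) ≤ r ⁻¹ᵁ ⊤) (gsec 𝒜 1 ⊤ (hι m))) = v m := by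
  obtain ⟨r, hle, hrq, hcf⟩ := exists_mor 𝒜 ι q L v hι hsym hL hv hgen
  have hcov : ∀ x : X, ∃ m, x ∈ XL L v m := fun x => exists_mem_genLocus L hL v hgen x
  set P := (Scheme.Modules.pullback r).obj (O1 𝒜) with hP
  obtain ⟨Φ, hΦ⟩ := exists_iso_of_frames P L (fun m => XL L v m) hcov
    (fun m => pcoord r (hι m) (hle m)) (fun m => eL L v m)
    (fun m => isGen_pcoord r (hι m) (hle m)) (fun m => isGen_eL L v m)
    (fun m m' => by
      refine cocycle_of_transition (isGen_pcoord r (hι m') (hle m'))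
        (resf inf_le_right (cf L v m' m)) ?_ ?_
      · rw [res_pcoord, res_pcoord]
        have h1 := unitSec_gsec r (hι m') (hι m)
          ((inf_le_right : XL L v m ⊓ XL L v m' ≤ XL L v m').trans (hle m'))
          ((inf_le_left : XL L v m ⊓ XL L v m' ≤ XL L v m).trans (hle m))
        change pcoord r (hι m) _ = _
        unfold pcoord at h1 ⊢
        rw [h1]
        congr 1
        rw [← hcf m' m]
        have h3 := r.appLE_map (hle m') (homOfLE (inf_le_right : XL L v m ⊓ XL L v m' ≤ XL L v m')).op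
        have h4 := congrArg (fun φ => φ.hom (dehom (hι m') (ι m))) h3
        exact h4.symm
      · rw [← res_smul, cf_spec, res_res, res_eL])
  refine ⟨r, hle, Φ, hrq, hcf, fun m => ?_⟩
  refine sec_ext_cover L (fun m => XL L v m) hcov _ _ (fun m' => ?_)
  obtain ⟨σ, hσ⟩ : ∃ σ : Γ(P, ⊤), σ = unitSec r (O1 𝒜) (le_top : (⊤ : X.Opens) ≤ r ⁻¹ᵁ ⊤)
    (gsec 𝒜 1 ⊤ (hι m)) := ⟨_, rfl⟩
  rw [← hσ]
  have key : res L (le_top : XL L v m' ≤ ⊤) (Φ.hom.app ⊤ σ) =
      Φ.hom.app (XL L v m') (res P le_top σ) := (app_map Φ.hom (homOfLE le_top) σ).symm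
  change res L (le_top : XL L v m' ≤ ⊤) (Φ.hom.app ⊤ σ) = _
  rw [key]
  have h2 := res_unitSec r (O1 𝒜) (le_top : (⊤ : X.Opens) ≤ r ⁻¹ᵁ ⊤)
    (le_top : XL L v m' ≤ r ⁻¹ᵁ ⊤) le_rfl le_top (gsec 𝒜 1 ⊤ (hι m))
  rw [res_self] at h2
  have h2' : res P (le_top : XL L v m' ≤ ⊤) σ =
      cf L v m' m • pcoord r (hι m') (hle m') := by
    rw [hσ]
    change res ((Scheme.Modules.pullback r).obj (O1 𝒜)) _ _ = _
    rw [h2, unitSec_gsec r (hι m') (hι m) (hle m'), hcf]
  rw [h2']
  have h3 := hΦ m' (XL L v m') le_rfl (cf L v m' m)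
  rw [res_self, res_self] at h3
  rw [h3, cf_spec]

/-- the preimage of `D₊(ι m)` is contained in the locus where `v m` generates -/
theorem preimage_basicOpen_le (hι : ∀ m, ι m ∈ 𝒜 1) (r : X ⟶ Proj 𝒜)
    (τ : (Scheme.Modules.pullback r).obj (O1 𝒜) ≅ L)
    (hτ : ∀ m, τ.hom.app ⊤ (unitSec r (O1 𝒜) (le_top : (⊤ : X.Opens) ≤ r ⁻¹ᵁ ⊤)
      (gsec 𝒜 1 ⊤ (hι m))) = v m) (m : M) :
    r ⁻¹ᵁ Proj.basicOpen 𝒜 (ι m) ≤ XL L v m := by
  obtain ⟨W, hW⟩ : ∃ W : X.Opens, W = r ⁻¹ᵁ Proj.basicOpen 𝒜 (ι m) := ⟨_, rfl⟩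
  rw [← hW]
  have hWle : W ≤ r ⁻¹ᵁ Proj.basicOpen 𝒜 (ι m) := hW.le
  unfold XL
  apply le_genLocus_of_isGen L (secHom L (v m)) W
  rw [sv_secHom]
  have h1 : res L (le_top : W ≤ ⊤) (v m) = τ.hom.app W (pcoord r (hι m) hWle) := by
    rw [← hτ m]
    have h2 := app_map τ.hom (homOfLE (le_top : W ≤ ⊤))
      (unitSec r (O1 𝒜) (le_top : (⊤ : X.Opens) ≤ r ⁻¹ᵁ ⊤) (gsec 𝒜 1 ⊤ (hι m)))
    refine Eq.trans h2.symm ?_
    congr 1
    have h3 := res_unitSec r (O1 𝒜) (le_top : (⊤ : X.Opens) ≤ r ⁻¹ᵁ ⊤)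
      hWle (le_top : Proj.basicOpen 𝒜 (ι m) ≤ ⊤) (le_top : W ≤ ⊤) (gsec 𝒜 1 ⊤ (hι m))
    rw [res_gsec] at h3
    exact h3
  rw [h1]
  exact isGen_of_iso τ (isGen_pcoord r (hι m) hWle)

theorem surjective_res_of_eq {U V : X.Opens} (h : U = V) (hle : U ≤ V) :
    Function.Surjective (X.presheaf.map (homOfLE hle).op).hom := by
  subst h
  intro y
  refine ⟨y, ?_⟩
  have : (homOfLE hle).op = 𝟙 (op U) := rfl
  rw [this, X.presheaf.map_id]
  rfl

theorem injective_res_of_eq {U V : X.Opens} (h : U = V) (hle : U ≤ V) :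
    Function.Injective (X.presheaf.map (homOfLE hle).op).hom := by
  subst h
  intro y y' hy
  have : (homOfLE hle).op = 𝟙 (op U) := rfl
  rw [this, X.presheaf.map_id] at hy
  exact hy

/-- **Very ampleness criterion**: generating sections `v m` (`m ∈ M`, with `Sym M = A`) of an invertible module
such that, for `m` in a set `J`, the loci `X_{v m}` are affine, cover `X`, and their rings of functions are
generated by the ratios `v m' / v m` over `R`, define an immersion into `Proj A`. -/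
theorem exists_immersion (hι : ∀ m, ι m ∈ 𝒜 1) (hsym : IsSymmetricAlgebra ι) (hL : PicF.IsInvertible L)
    (hv : ∀ (c : R) (m : M), v (c • m) = ProjUP.toGlobal q c • v m) (hgen : ProjUP.GeneratedBy L v)
    (J : Set M) (hcov : ∀ x : X, ∃ m ∈ J, x ∈ XL L v m) (haff : ∀ m ∈ J, IsAffineOpen (XL L v m))
    (hsurj : ∀ m ∈ J, Subring.closure (Set.range (ρL q L v m) ∪ Set.range (cf L v m)) = ⊤) :
    ∃ (r : X ⟶ Proj 𝒜) (_ : r ≫ toBase 𝒜 = q) (_ : (Scheme.Modules.pullback r).obj (O1 𝒜) ≅ L),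
      IsImmersion r := by
  obtain ⟨r, hle, τ, hrq, hcf, hτ⟩ := exists_mor_iso' 𝒜 ι q L v hι hsym hL hv hgen
  have heq : ∀ m, r ⁻¹ᵁ Proj.basicOpen 𝒜 (ι m) = XL L v m :=
    fun m => le_antisymm (preimage_basicOpen_le 𝒜 ι L v hι r τ hτ m) (hle m)
  refine ⟨r, hrq, τ, ?_⟩
  refine isImmersion_of_cover r (fun m : J => Proj.basicOpen 𝒜 (ι m.1)) ?_ ?_
  · intro x
    obtain ⟨m, hm, hx⟩ := hcov x
    exact ⟨⟨m, hm⟩, hle m hx⟩
  · rintro ⟨m, hm⟩
    refine isClosedImmersion_restrict_of_surjective r _ (isAffineOpen_basicOpen (hι m))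
      (by rw [heq]; exact haff m hm) ?_
    -- surjectivity on sections
    set D := Proj.basicOpen 𝒜 (ι m) with hD
    have hψ : Function.Surjective (r.appLE D (XL L v m) (hle m)).hom := by
      rw [← RingHom.range_eq_top, eq_top_iff, ← hsurj m hm, Subring.closure_le]
      rintro y (⟨c, rfl⟩ | ⟨m', rfl⟩)
      · subst hrq
        refine ⟨(Proj 𝒜).presheaf.map (homOfLE (le_top : D ≤ ⊤)).op
          ((toBase 𝒜).appTop.hom ((Scheme.ΓSpecIso (CommRingCat.of R)).inv.hom c)), ?_⟩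
        have h1 := r.map_appLE (hle m) (homOfLE (le_top : D ≤ ⊤)).op
        have h2 := congrArg (fun φ => φ.hom
          ((toBase 𝒜).appTop.hom ((Scheme.ΓSpecIso (CommRingCat.of R)).inv.hom c))) h1
        refine Eq.trans h2 ?_
        rfl
      · exact ⟨dehom (hι m) (ι m'), hcf m m'⟩
    intro y
    obtain ⟨z, hz⟩ := hψ ((X.presheaf.map (homOfLE (hle m)).op).hom y)
    refine ⟨z, injective_res_of_eq (heq m).symm (hle m) ?_⟩
    rw [← hz]
    rfl

/-- sections which locally contain a generator generate -/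
theorem generatedBy_of_isGen (N : X.Modules) {κ : Type*} (s : κ → ProjUP.Γm N)
    (h : ∀ x : X, ∃ (i : κ) (W : X.Opens), x ∈ W ∧ IsGen N W (res N le_top (s i))) :
    ProjUP.GeneratedBy N s := by
  intro x
  rw [eq_top_iff]
  intro z _
  obtain ⟨i, W, hxW, hgenW⟩ := h x
  obtain ⟨V, hxV, t, rfl⟩ := N.presheaf.exists_germ_eq z
  have hxV' : x ∈ V ⊓ W := ⟨hxV, hxW⟩
  obtain ⟨c, hc⟩ := (hgenW (V ⊓ W) inf_le_right).2 (res N inf_le_left t)
  have hc' : c • res N (le_top : V ⊓ W ≤ ⊤) (s i) = res N inf_le_left t := by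
    rw [← hc, res_res]
  have h1 : N.presheaf.germ V x hxV t = N.presheaf.germ (V ⊓ W) x hxV' (res N inf_le_left t) :=
    (TopCat.Presheaf.germ_res_apply N.presheaf (homOfLE (inf_le_left : V ⊓ W ≤ V)) x hxV' t).symm
  have h2 : N.presheaf.germ (V ⊓ W) x hxV' (res N (le_top : V ⊓ W ≤ ⊤) (s i)) =
      N.presheaf.germ ⊤ x trivial (s i) :=
    TopCat.Presheaf.germ_res_apply N.presheaf (homOfLE (le_top : V ⊓ W ≤ ⊤)) x hxV' _
  rw [h1, ← hc', Groth.Agent.Lib.Helper2.QCoh.germ_smul, h2]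
  exact Submodule.smul_mem _ _ (Submodule.subset_span ⟨i, rfl⟩)

/-- transporting generators of the ring of functions of `X_{v m}` to the hypothesis of `exists_immersion` -/
theorem closure_eq_top_of_generators (m : M) (U : X.Opens) (hU : XL L v m = U) (G : Set Γ(X, U))
    (hG : Subring.closure (Set.range ((X.presheaf.map (homOfLE (le_top : U ≤ ⊤)).op).hom.comp
      (ProjUP.toGlobal q)) ∪ G) = ⊤)
    (hb : ∀ b ∈ G, ∃ m', res L (le_top : U ≤ ⊤) (v m') = b • res L le_top (v m)) :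
    Subring.closure (Set.range (ρL q L v m) ∪ Set.range (cf L v m)) = ⊤ := by
  subst hU
  rw [eq_top_iff, ← hG]
  apply Subring.closure_mono
  rintro y (⟨c, rfl⟩ | hy)
  · exact Or.inl ⟨c, rfl⟩
  · obtain ⟨m', hm'⟩ := hb y hy
    refine Or.inr ⟨m', ?_⟩
    symm
    apply coef_unique
    rw [res_self]
    exact hm'.symm

end projUP

section ample

open Groth.Agent.Helper13ProjUP
open Groth.Agent.Lib.Helper23.SecTw Groth.Agent.Lib.Helper6 Groth.Agent.Lib.Helper23.GenLocus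
open Groth.Agent.Lib.Helper23.PB Groth.Agent.Lib.Helper23.Extend Groth.Agent.Lib.Helper23.AmpleIso
open Groth.Agent.Lib.Helper23.LocGen Groth.Agent.Lib.Helper23.TensorUnit

variable {X : Scheme.{u}}

/-- a uniform bound for finitely many eventually true properties -/
theorem exists_uniform_bound {α : Type*} (S : Finset α) (P : α → ℕ → Prop)
    (h : ∀ b ∈ S, ∃ n₀, ∀ n, n₀ ≤ n → P b n) : ∃ N, ∀ n, N ≤ n → ∀ b ∈ S, P b n := by
  classical
  induction S using Finset.induction_on with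
  | empty => exact ⟨0, fun n _ b hb => absurd hb (Finset.notMem_empty b)⟩
  | insert b S hb ih =>
    obtain ⟨N, hN⟩ := ih (fun b' hb' => h b' (Finset.mem_insert_of_mem hb'))
    obtain ⟨n₀, hn₀⟩ := h b (Finset.mem_insert_self b S)
    refine ⟨max N n₀, fun n hn b' hb' => ?_⟩
    rcases Finset.mem_insert.1 hb' with rfl | hb''
    · exact hn₀ n ((le_max_right _ _).trans hn)
    · exact hN n ((le_max_left _ _).trans hn) b' hb''

/-- finitely many affine `X_σ`, with `σ` sections of one power `L^a`, cover a scheme with an ample `L` -/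
theorem exists_finite_affine_cover (L : X.Modules) (hL : CohB1.IsAmple L) :
    ∃ (a : ℕ) (T : Finset X) (σ : X → (Coh.structureModule X ⟶ CohB1.tensorPow L a)), 0 < a ∧
      (∀ x ∈ T, IsAffineOpen (CohB1.genLocus _ (σ x))) ∧
      ∀ y : X, ∃ x ∈ T, y ∈ CohB1.genLocus _ (σ x) := by
  classical
  obtain ⟨hinv, hc, hamp⟩ := hL
  haveI := hc
  choose n s hxs haff using hamp
  obtain ⟨T, hT⟩ : ∃ T : Finset X, ∀ y : X, ∃ x ∈ T, y ∈ CohB1.genLocus _ (s x) := by
    obtain ⟨T, hT⟩ := isCompact_univ.elim_finite_subcover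
      (fun x => ((CohB1.genLocus _ (s x) : X.Opens) : Set X))
      (fun x => (CohB1.genLocus _ (s x)).2) (fun y _ => Set.mem_iUnion.2 ⟨y, hxs y⟩)
    refine ⟨T, fun y => ?_⟩
    obtain ⟨x, hx⟩ := Set.mem_iUnion.1 (hT (Set.mem_univ y))
    obtain ⟨hxT, hyx⟩ := Set.mem_iUnion.1 hx
    exact ⟨x, hxT, hyx⟩
  obtain ⟨a, ha⟩ : ∃ a : ℕ, a = ∏ x ∈ T, (n x + 1) := ⟨_, rfl⟩
  have ha0 : 0 < a := ha ▸ Finset.prod_pos (fun x _ => Nat.succ_pos _)
  let c : X → ℕ := fun x => ∏ x' ∈ T.erase x, (n x' + 1)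
  have hc0 : ∀ x, 0 < c x := fun x => Finset.prod_pos (fun x' _ => Nat.succ_pos _)
  have hca : ∀ x ∈ T, (n x + 1) * c x = a := fun x hx =>
    ha ▸ Finset.mul_prod_erase T (fun x => n x + 1) hx
  have hΦ : ∀ x, x ∈ T →
      Nonempty (CohB1.tensorPow (CohB1.tensorPow L (n x + 1)) (c x) ≅ CohB1.tensorPow L a) :=
    fun x hx => nonempty_tensorPow_tensorPow_iso L hinv (n x + 1) (c x) a (hca x hx)
  have hloc : ∀ x (hx : x ∈ T),
      CohB1.genLocus _ (SecTwist.powHom (s x) (c x) ≫ (hΦ x hx).some.hom) = CohB1.genLocus _ (s x) := by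
    intro x hx
    rw [genLocus_comp_iso, genLocus_powHom (isInvertible_tensorPow hinv _) (s x) (c x) (hc0 x)]
  refine ⟨a, T, fun x => if hx : x ∈ T then SecTwist.powHom (s x) (c x) ≫ (hΦ x hx).some.hom else 0,
    ha0, ?_, ?_⟩
  · intro x hx
    dsimp only
    rw [dif_pos hx, hloc x hx]
    exact haff x
  · intro y
    obtain ⟨x, hx, hy⟩ := hT y
    refine ⟨x, hx, ?_⟩
    dsimp only
    rw [dif_pos hx, hloc x hx]
    exact hy

variable (L₁ : X.Modules)

/-- the global section `1 ⊗ σ^k` of `O ⊗ L₁^k` -/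
noncomputable def twOne (σ : Coh.structureModule X ⟶ L₁) (k : ℕ) :
    Γ(CohB1.tensorMod (Coh.structureModule X) (CohB1.tensorPow L₁ k), ⊤) :=
  tw (Coh.structureModule X) L₁ ⊤ (toS ⊤ 1) (sv σ ⊤) k

theorem res_twOne (σ : Coh.structureModule X ⟶ L₁) (k : ℕ) (W : X.Opens) :
    res (CohB1.tensorMod (Coh.structureModule X) (CohB1.tensorPow L₁ k)) (le_top : W ≤ ⊤) (twOne L₁ σ k) =
      tw (Coh.structureModule X) L₁ W (toS W 1) (sv σ W) k := by
  unfold twOne
  rw [res_tw, res_sv]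
  congr 1
  exact (map_toS (homOfLE (le_top : W ≤ ⊤)) 1).trans (by rw [map_one])

theorem tw_toS (W : X.Opens) (b : Γ(X, W)) (e : Γ(L₁, W)) (k : ℕ) :
    tw (Coh.structureModule X) L₁ W (toS W b) e k = b • tw (Coh.structureModule X) L₁ W (toS W 1) e k := by
  rw [← tw_smul_left, smul_toS, mul_one]

theorem isGen_res_twOne (σ : Coh.structureModule X ⟶ L₁) (k : ℕ) :
    IsGen (CohB1.tensorMod (Coh.structureModule X) (CohB1.tensorPow L₁ k)) (CohB1.genLocus L₁ σ)
      (res _ (le_top : CohB1.genLocus L₁ σ ≤ ⊤) (twOne L₁ σ k)) := by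
  rw [res_twOne]
  exact isGen_tm _ _ _ _ _ (isGen_one _) (isGen_pw L₁ _ _ (isGen_sv_genLocus L₁ σ) k)

/-- `X_{1 ⊗ σ^k} = X_σ` for `k > 0` -/
theorem genLocus_secHom_twOne (hL₁ : PicF.IsInvertible L₁) (σ : Coh.structureModule X ⟶ L₁) (k : ℕ)
    (hk : 0 < k) :
    CohB1.genLocus (CohB1.tensorMod (Coh.structureModule X) (CohB1.tensorPow L₁ k))
      (secHom _ (twOne L₁ σ k)) = CohB1.genLocus L₁ σ := by
  refine opens_eq_of_cover _ _ (fun x => ?_)
  obtain ⟨W, ε, hxW, hε⟩ := exists_gen L₁ hL₁ x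
  refine ⟨W, hxW, ?_⟩
  rw [genLocus_inf_eq_coef σ hε]
  have hgen : IsGen (CohB1.tensorMod (Coh.structureModule X) (CohB1.tensorPow L₁ k)) W
      (tw (Coh.structureModule X) L₁ W (toS W 1) ε k) :=
    isGen_tm _ _ _ _ _ (isGen_one _) (isGen_pw L₁ _ _ hε k)
  have h1 : sv (secHom _ (twOne L₁ σ k)) W =
      coef hε le_rfl (sv σ W) ^ k • tw (Coh.structureModule X) L₁ W (toS W 1) ε k := by
    rw [sv_secHom, res_twOne]
    conv_lhs => rw [sv_eq_coef_smul σ hε]
    rw [tw_smul, tw_smul_left]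
  rw [genLocus_inf_eq_of_isGen _ _ W _ _ hgen h1]
  exact Scheme.basicOpen_pow _ _ hk

end ample

section main

open Groth.Agent.Helper13ProjUP
open Groth.Agent.Lib.Helper23.SecTw Groth.Agent.Lib.Helper6 Groth.Agent.Lib.Helper23.GenLocus
open Groth.Agent.Lib.Helper23.PB Groth.Agent.Lib.Helper23.Extend Groth.Agent.Lib.Helper23.AmpleIso
open Groth.Agent.Lib.Helper23.LocGen Groth.Agent.Lib.Helper23.TensorUnit

variable {R : Type u} [CommRing R] (n : ℕ)

/-- the degree-one inclusion `R^{n+1} → R[T_0, …, T_n]` -/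
noncomputable def ιP : (Fin (n + 1) → R) →ₗ[R] MvPolynomial (Fin (n + 1)) R :=
  Module.Basis.constr (Pi.basisFun R (Fin (n + 1))) R
    (MvPolynomial.X : Fin (n + 1) → MvPolynomial (Fin (n + 1)) R)

theorem ιP_single (i : Fin (n + 1)) : ιP (R := R) n (Pi.single i 1) = MvPolynomial.X i := by
  have := Module.Basis.constr_basis (Pi.basisFun R (Fin (n + 1))) R
    (MvPolynomial.X : Fin (n + 1) → MvPolynomial (Fin (n + 1)) R) i
  rwa [Pi.basisFun_apply] at this

theorem ιP_mem (m : Fin (n + 1) → R) : ιP n m ∈ CohB1.polyGrading n R 1 := by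
  classical
  have hm : m = ∑ i, m i • (Pi.single i (1 : R) : Fin (n + 1) → R) := by
    ext j
    simp [Finset.sum_apply, Pi.single_apply]
  rw [hm, map_sum]
  refine Submodule.sum_mem _ (fun i _ => ?_)
  rw [map_smul, ιP_single]
  exact Submodule.smul_mem _ _ (MvPolynomial.isHomogeneous_X R i)

theorem isSymmetricAlgebra_ιP : IsSymmetricAlgebra (ιP (R := R) n) :=
  SymmetricAlgebra.IsSymmetricAlgebra.mvPolynomial (Fin (n + 1)) (Pi.basisFun R (Fin (n + 1)))

variable {X : Scheme.{u}} (q : X ⟶ Spec (CommRingCat.of R)) (N : X.Modules)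
  (s : Fin (n + 1) → ProjUP.Γm N)

/-- the semilinear map `R^{n+1} → Γ(X, N)` attached to `n + 1` global sections -/
noncomputable def vOf : (Fin (n + 1) → R) →+ ProjUP.Γm N :=
  { toFun := fun m => ∑ i, ProjUP.toGlobal q (m i) • s i
    map_zero' := by simp
    map_add' := fun m m' => by
      simp only [Pi.add_apply, map_add, add_smul, Finset.sum_add_distrib] }

theorem vOf_smul (c : R) (m : Fin (n + 1) → R) :
    vOf n q N s (c • m) = ProjUP.toGlobal q c • vOf n q N s m := by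
  change ∑ i, ProjUP.toGlobal q ((c • m) i) • s i = ProjUP.toGlobal q c • ∑ i, ProjUP.toGlobal q (m i) • s i
  rw [Finset.smul_sum]
  refine Finset.sum_congr rfl (fun i _ => ?_)
  rw [Pi.smul_apply, smul_eq_mul, map_mul, mul_smul]

theorem vOf_single (i : Fin (n + 1)) : vOf n q N s (Pi.single i 1) = s i := by
  classical
  change ∑ j, ProjUP.toGlobal q ((Pi.single i (1 : R) : Fin (n + 1) → R) j) • s j = s i
  rw [Finset.sum_eq_single i]
  · rw [Pi.single_eq_same, map_one, one_smul]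
  · intro j _ hj
    rw [Pi.single_eq_of_ne hj, map_zero, zero_smul]
  · intro h
    exact absurd (Finset.mem_univ i) h

theorem generatedBy_vOf (hs : ProjUP.GeneratedBy N s) : ProjUP.GeneratedBy N (vOf n q N s) := by
  intro x
  rw [eq_top_iff, ← hs x]
  apply Submodule.span_mono
  rintro _ ⟨i, rfl⟩
  exact ⟨Pi.single i 1, by simp only [vOf_single]⟩

/-- generators of the ring of functions of an affine open of a scheme locally of finite type over `Spec R` -/
theorem exists_generators [LocallyOfFiniteType q] (U : X.Opens) (hU : IsAffineOpen U) :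
    ∃ G : Finset Γ(X, U), Subring.closure
      (Set.range ((X.presheaf.map (homOfLE (le_top : U ≤ ⊤)).op).hom.comp (ProjUP.toGlobal q)) ∪
        (G : Set Γ(X, U))) = ⊤ := by
  have h1 : (q.appLE ⊤ U le_top).hom.FiniteType := q.finiteType_appLE (isAffineOpen_top _) hU le_top
  have h2 : ((Scheme.ΓSpecIso (CommRingCat.of R)).inv.hom).FiniteType :=
    RingHom.FiniteType.of_surjective _
      (ConcreteCategory.bijective_of_isIso (Scheme.ΓSpecIso (CommRingCat.of R)).inv).2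
  have h3 : ((X.presheaf.map (homOfLE (le_top : U ≤ ⊤)).op).hom.comp (ProjUP.toGlobal q)).FiniteType := by
    have := RingHom.FiniteType.comp h1 h2
    exact this
  letI := ((X.presheaf.map (homOfLE (le_top : U ≤ ⊤)).op).hom.comp (ProjUP.toGlobal q)).toAlgebra
  obtain ⟨G, hG⟩ := (h3 : Algebra.FiniteType R Γ(X, U)).out
  refine ⟨G, ?_⟩
  have h4 := Algebra.adjoin_eq_ring_closure (R := R) (G : Set Γ(X, U))
  rw [hG] at h4
  rw [← RingHom.algebraMap_toAlgebra
    ((X.presheaf.map (homOfLE (le_top : U ≤ ⊤)).op).hom.comp (ProjUP.toGlobal q)), ← h4]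
  rfl

end main

section final

open Groth.Agent.Helper13ProjUP
open Groth.Agent.Lib.Helper23.SecTw Groth.Agent.Lib.Helper6 Groth.Agent.Lib.Helper23.GenLocus
open Groth.Agent.Lib.Helper23.PB Groth.Agent.Lib.Helper23.Extend Groth.Agent.Lib.Helper23.AmpleIso
open Groth.Agent.Lib.Helper23.LocGen Groth.Agent.Lib.Helper23.TensorUnit

/-- a quasi-compact quasi-separated scheme locally of finite type over `Spec B`, covered by finitely many affine
`X_σ` for sections `σ` of one invertible module `L₁`, embeds into a projective space over `B` by the sections of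
some `O ⊗ L₁^k`. -/
theorem exists_embedding_of_cover (B : Type u) [CommRing B] {X : Scheme.{u}} [CompactSpace X]
    [QuasiSeparatedSpace X] (f : X ⟶ Spec (CommRingCat.of B)) [LocallyOfFiniteType f]
    (L₁ : X.Modules) (hL₁ : PicF.IsInvertible L₁) (T : Finset X)
    (σ : X → (Coh.structureModule X ⟶ L₁))
    (haff : ∀ x ∈ T, IsAffineOpen (CohB1.genLocus L₁ (σ x)))
    (hcov : ∀ y : X, ∃ x ∈ T, y ∈ CohB1.genLocus L₁ (σ x)) :
    ∃ (k N : ℕ) (j : X ⟶ CohB1.ProjSpace N B), 0 < k ∧ IsImmersion j ∧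
      j ≫ CohB1.ProjSpace.toSpec N B = f ∧
      Nonempty ((Scheme.Modules.pullback j).obj (Twist.twistProjSpace N B 1) ≅
        CohB1.tensorMod (Coh.structureModule X) (CohB1.tensorPow L₁ k)) := by
  classical
  haveI : Coh.IsQCoh (Coh.structureModule X) :=
    isQuasicoherent_of_isInvertible _ (isInvertible_structureModule X)
  -- generators of the rings of functions
  have hfg : ∀ x ∈ T, ∃ G : Finset Γ(X, CohB1.genLocus L₁ (σ x)), Subring.closure
      (Set.range ((X.presheaf.map (homOfLE (le_top : CohB1.genLocus L₁ (σ x) ≤ ⊤)).op).hom.comp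
        (ProjUP.toGlobal f)) ∪ (G : Set Γ(X, CohB1.genLocus L₁ (σ x)))) = ⊤ :=
    fun x hx => exists_generators f _ (haff x hx)
  choose! G hG using hfg
  -- extension of the generators
  have hext : ∀ x ∈ T, ∀ b ∈ G x, ∃ n₀, ∀ n, n₀ ≤ n →
      ∃ t' : Γ(CohB1.tensorMod (Coh.structureModule X) (CohB1.tensorPow L₁ n), ⊤),
        res _ (le_top : CohB1.genLocus L₁ (σ x) ≤ ⊤) t' =
          tw (Coh.structureModule X) L₁ (CohB1.genLocus L₁ (σ x)) (toS _ b) (sv (σ x) _) n :=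
    fun x _ b _ => main_eventually X L₁ hL₁ (σ x) (Coh.structureModule X) (toS _ b)
  obtain ⟨k, hk0, hk⟩ : ∃ k, 0 < k ∧ ∀ x ∈ T, ∀ b ∈ G x,
      ∃ t' : Γ(CohB1.tensorMod (Coh.structureModule X) (CohB1.tensorPow L₁ k), ⊤),
        res _ (le_top : CohB1.genLocus L₁ (σ x) ≤ ⊤) t' =
          tw (Coh.structureModule X) L₁ (CohB1.genLocus L₁ (σ x)) (toS _ b) (sv (σ x) _) k := by
    have h1 : ∀ x ∈ T, ∃ n₀, ∀ n, n₀ ≤ n → ∀ b ∈ G x,
        ∃ t' : Γ(CohB1.tensorMod (Coh.structureModule X) (CohB1.tensorPow L₁ n), ⊤),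
          res _ (le_top : CohB1.genLocus L₁ (σ x) ≤ ⊤) t' =
            tw (Coh.structureModule X) L₁ (CohB1.genLocus L₁ (σ x)) (toS _ b) (sv (σ x) _) n :=
      fun x hx => exists_uniform_bound (G x) _ (hext x hx)
    obtain ⟨N, hN⟩ := exists_uniform_bound T _ h1
    exact ⟨N + 1, Nat.succ_pos _, fun x hx b hb => hN (N + 1) (Nat.le_succ N) x hx b hb⟩
  -- the module and the sections
  obtain ⟨M, hM⟩ : ∃ M : X.Modules,
      M = CohB1.tensorMod (Coh.structureModule X) (CohB1.tensorPow L₁ k) := ⟨_, rfl⟩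
  have hMinv : PicF.IsInvertible (CohB1.tensorMod (Coh.structureModule X) (CohB1.tensorPow L₁ k)) :=
    isInvertible_tensorMod (isInvertible_structureModule X) (isInvertible_tensorPow hL₁ k)
  let I : Type u := Option (Σ x : T, Option (G x.1))
  let sec : I → ProjUP.Γm (CohB1.tensorMod (Coh.structureModule X) (CohB1.tensorPow L₁ k)) := fun i =>
    match i with
    | none => 0
    | some ⟨x, none⟩ => twOne L₁ (σ x.1) k
    | some ⟨x, some b⟩ => Classical.choose (hk x.1 x.2 b.1 b.2)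
  haveI : Nonempty I := ⟨none⟩
  obtain ⟨N, hN⟩ : ∃ N, Fintype.card I = N + 1 :=
    ⟨Fintype.card I - 1, (Nat.succ_pred_eq_of_pos Fintype.card_pos).symm⟩
  let e : Fin (N + 1) ≃ I := (Fintype.equivFinOfCardEq hN).symm
  let s : Fin (N + 1) → ProjUP.Γm (CohB1.tensorMod (Coh.structureModule X) (CohB1.tensorPow L₁ k)) :=
    fun i => sec (e i)
  have hs_none : ∀ x : T, s (e.symm (some ⟨x, none⟩)) = twOne L₁ (σ x.1) k := by
    intro x
    change sec (e (e.symm (some ⟨x, none⟩))) = _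
    rw [Equiv.apply_symm_apply]
  have hs_some : ∀ (x : T) (b : G x.1), s (e.symm (some ⟨x, some b⟩)) =
      Classical.choose (hk x.1 x.2 b.1 b.2) := by
    intro x b
    change sec (e (e.symm (some ⟨x, some b⟩))) = _
    rw [Equiv.apply_symm_apply]
  have hgenS : ProjUP.GeneratedBy _ s := by
    refine generatedBy_of_isGen _ s (fun y => ?_)
    obtain ⟨x, hx, hy⟩ := hcov y
    refine ⟨e.symm (some ⟨⟨x, hx⟩, none⟩), CohB1.genLocus L₁ (σ x), hy, ?_⟩
    rw [hs_none]
    exact isGen_res_twOne L₁ (σ x) k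
  set v := vOf N f (CohB1.tensorMod (Coh.structureModule X) (CohB1.tensorPow L₁ k)) s with hv
  have hXL : ∀ x : T, XL _ v (Pi.single (e.symm (some ⟨x, none⟩)) (1 : B)) =
      CohB1.genLocus L₁ (σ x.1) := by
    intro x
    unfold XL
    rw [hv, vOf_single, hs_none, genLocus_secHom_twOne L₁ hL₁ (σ x.1) k hk0]
  obtain ⟨r, hrq, τ, himm⟩ := exists_immersion (CohB1.polyGrading N B) (ιP N) f _ v (ιP_mem N)
    (isSymmetricAlgebra_ιP N) hMinv (vOf_smul N f _ s) (generatedBy_vOf N f _ s hgenS)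
    (Set.range (fun x : T => (Pi.single (e.symm (some ⟨x, none⟩)) (1 : B) : Fin (N + 1) → B)))
    (by
      intro y
      obtain ⟨x, hx, hy⟩ := hcov y
      refine ⟨_, ⟨⟨x, hx⟩, rfl⟩, ?_⟩
      rw [hXL]
      exact hy)
    (by
      rintro _ ⟨x, rfl⟩
      dsimp only
      rw [hXL]
      exact haff x.1 x.2)
    (by
      rintro _ ⟨x, rfl⟩
      refine closure_eq_top_of_generators f _ v _ (CohB1.genLocus L₁ (σ x.1)) (hXL x)
        (G x.1 : Set Γ(X, CohB1.genLocus L₁ (σ x.1))) (hG x.1 x.2) (fun b hb => ?_)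
      refine ⟨Pi.single (e.symm (some ⟨x, some ⟨b, hb⟩⟩)) 1, ?_⟩
      rw [hv, vOf_single, vOf_single, hs_none, hs_some,
        Classical.choose_spec (hk x.1 x.2 b hb), res_twOne, tw_toS])
  exact ⟨k, N, r, hk0, himm, hrq, ⟨τ⟩⟩

/-- **PROJ:ample, package (A2)**: projective embedding by a power of an ample module. -/
theorem ampleEmbedding (B : Type u) [CommRing B] : H54.AmpleSpec.AmpleEmbedding B := by
  intro X f _ L hL
  have hinv : PicF.IsInvertible L := hL.1
  haveI : CompactSpace X := hL.2.1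
  haveI : QuasiSeparatedSpace X := quasiSeparatedSpace_of_isAmple L hL
  obtain ⟨a, T, σ, ha, haff, hcov⟩ := exists_finite_affine_cover L hL
  obtain ⟨k, N, j, hk, himm, hjf, ⟨τ⟩⟩ := exists_embedding_of_cover B f (CohB1.tensorPow L a)
    (isInvertible_tensorPow hinv a) T σ haff hcov
  obtain ⟨Ψ⟩ := nonempty_tensorPow_tensorPow_iso L hinv a k (a * k) rfl
  exact ⟨a * k, N, j, Nat.mul_pos ha hk, himm, hjf, ⟨τ ≪≫ unitTensorIso _ ≪≫ Ψ⟩⟩

end final

end Groth.Agent.R2.H91.AmpleEmb
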