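import Groth.Agent.R2.H54AmpleA0
import Groth.Agent.R2.H54AmpleA1
import Groth.Agent.R2.H91AmpleEmb
import Groth.Agent.R2.H55AmpleVan
import Groth.Agent.R2.H55AmpleRel
import Groth.Agent.R2.H55AmpleNil
import Groth.Agent.R2.H55AmpleComp
import Groth.Agent.R2.H62StepD

/-!
# PROJ:ample: the unconditional package (helper54, assembling helper55 / helper91 / helper62 / helper64 / helper58)

All the named `Prop`s of `R2/H54AmpleSpec.lean`, now without hypotheses:

* `ampleVanishing B`     : `AmpleSpec.AmpleVanishing B` (Serre vanishing for ample `L`, `X` proper over Noetherian `B`);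
* `vanishingAmple`       : `AmpleSpec.VanishingAmple` (the converse on a Noetherian scheme);
* `relAmpleVanishing`    : `AmpleSpec.RelAmpleVanishing` (= frozen `S0055`);
* `nilpotentGlue A`      : `AmpleSpec.NilpotentGlue A` (= frozen `S11562`);
* `componentsAmple`      : ampleness can be tested on the irreducible components (= frozen `S11559`, `S11368`).
-/

set_option autoImplicit false
universe u

open CategoryTheory CategoryTheory.Limits AlgebraicGeometry TopologicalSpace

namespace Groth.Agent.R2.H54.AmpleFinal

open Groth.Agent.R2.H54.AmpleSpec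

/-- **(A3)** Serre vanishing for an ample module on a scheme proper over a Noetherian ring. -/
theorem ampleVanishing (B : Type u) [CommRing B] [IsNoetherianRing B] : AmpleVanishing B :=
  Groth.Agent.R2.H55.AmpleVan.ampleVanishing B Groth.Agent.R2.H54.AmpleA1.pnSubVanishing
    (Groth.Agent.R2.H91.AmpleEmb.ampleEmbedding B)

/-- **(A4)** Serre vanishing for all coherent modules implies ampleness (Noetherian scheme). -/
theorem vanishingAmple : VanishingAmple.{u} :=
  Groth.Agent.R2.H55.AmpleVan.vanishingAmple Groth.Agent.R2.H54.AmpleA0.serreCrit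

/-- **(A5)** relatively ample modules kill higher direct images of large twists. -/
theorem relAmpleVanishing : RelAmpleVanishing.{u} :=
  Groth.Agent.R2.H55.AmpleRel.relAmpleVanishing (fun B _ _ => ampleVanishing B)
    Groth.Agent.R2.H62.RelSerreSpec.stepC

/-- **(A6)** `I J = 0`, `L` ample on `V(I)` and on `V(J)` ⟹ `L` ample. -/
theorem nilpotentGlue (A : Type u) [CommRing A] [IsNoetherianRing A] : NilpotentGlue A :=
  Groth.Agent.R2.H55.AmpleNil.nilpotentGlue A (fun B _ _ => ampleVanishing B) vanishingAmple

/-- **(A7)** ampleness can be tested on the irreducible components with their reduced structure. -/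
theorem componentsAmple (A : Type u) [CommRing A] [IsNoetherianRing A] (X : Scheme.{u})
    [X.Over (Spec (CommRingCat.of A))] [IsProper (X ↘ (Spec (CommRingCat.of A)))]
    (L : X.Modules) (hL : PicF.IsInvertible L) :
    CohB1.IsAmple L ↔
      ∀ Z : Closeds ↥X, (Z : Set ↥X) ∈ irreducibleComponents ↥X →
        CohB1.IsAmple ((Scheme.Modules.pullback
          (Scheme.IdealSheafData.vanishingIdeal Z).subschemeι).obj L) :=
  Groth.Agent.R2.H55.AmpleComp.componentsAmple A (fun B _ _ => ampleVanishing B) vanishingAmple X L hL

end Groth.Agent.R2.H54.AmpleFinal
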