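import Mathlib
import Groth.Agent.R2.H1LocalAmple
import Groth.Agent.R2.H1FibreKer
import Groth.Agent.R2.H55AmpleNil
import Groth.Agent.R2.H54AmpleFinal
import Groth.Agent.Lib.Helper23PB
import Groth.Agent.Lib.Helper23AmpleIso
import Groth.Agent.S0786

/-!
# Ampleness on the closed fibre gives Serre vanishing over the local ring (helper1)

`f : X ⟶ Y` proper, `Y` locally Noetherian, `y : Y`, `L` invertible on `X`, ample on the fibre `X_y`.
On `X_A := X ×_Y Spec O_{Y,y}` every coherent module satisfies Serre vanishing with respect to the pullback of `L`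
(`sv_local`); hence the pullback of `L` is ample on `X_A` (`isAmple_local`)  [EGA III 4.7.1].
-/

set_option autoImplicit false
set_option linter.style.haveILetI false
universe u
open CategoryTheory CategoryTheory.Limits AlgebraicGeometry TopologicalSpace Opposite

namespace Groth.Agent.R2.H1.LocalFibre

open Groth.Agent.R2.H1.LocalAmple

variable {X Y : Scheme.{u}} (f : X ⟶ Y) (y : Y)

/-- `X ×_Y Spec O_{Y,y}` -/
noncomputable abbrev XA : Scheme.{u} := pullback f (Y.fromSpecStalk y)

/-- the projection to `X` -/
noncomputable abbrev gA : XA f y ⟶ X := pullback.fst f (Y.fromSpecStalk y)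

/-- the projection to `Spec O_{Y,y}` -/
noncomputable abbrev fA : XA f y ⟶ Spec (Y.presheaf.stalk y) := pullback.snd f (Y.fromSpecStalk y)

/-- the closed fibre in `X_A` -/
noncomputable def iA : f.fiber y ⟶ XA f y :=
  pullback.lift (f.fiberι y) (f.fiberToSpecResidueField y ≫ Spec.map (Y.residue y)) (by
    rw [f.fiber_fac y, Category.assoc]
    rfl)

@[reassoc (attr := simp)]
theorem iA_gA : iA f y ≫ gA f y = f.fiberι y := pullback.lift_fst _ _ _

@[reassoc (attr := simp)]
theorem iA_fA : iA f y ≫ fA f y = f.fiberToSpecResidueField y ≫ Spec.map (Y.residue y) :=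
  pullback.lift_snd _ _ _

theorem isPullback_iA :
    IsPullback (iA f y) (f.fiberToSpecResidueField y) (fA f y) (Spec.map (Y.residue y)) := by
  refine IsPullback.of_right (h₁₂ := gA f y) (h₂₂ := Y.fromSpecStalk y) (v₁₃ := f) ?_ (iA_fA f y)
    (IsPullback.of_hasPullback f (Y.fromSpecStalk y))
  rw [iA_gA]
  exact IsPullback.of_hasPullback f (Y.fromSpecResidueField y)

instance : IsClosedImmersion (iA f y) := by
  haveI : IsClosedImmersion (Spec.map (Y.residue y)) :=
    IsClosedImmersion.spec_of_surjective _ Ideal.Quotient.mk_surjective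
  exact MorphismProperty.of_isPullback (P := @IsClosedImmersion) (isPullback_iA f y).flip inferInstance

section main

variable [IsProper f] [IsLocallyNoetherian Y]

/-- the structure of `X_A` over `Spec O_{Y,y}` -/
@[reducible] noncomputable def overA :
    (XA f y).Over (Spec (CommRingCat.of (Y.presheaf.stalk y))) := ⟨fA f y⟩

theorem isLocallyNoetherian_XA : IsLocallyNoetherian (XA f y) :=
  LocallyOfFiniteType.isLocallyNoetherian (fA f y)

/-- **Serre vanishing over the local ring from ampleness on the closed fibre.** -/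
theorem sv_local (L : X.Modules) (hL : PicF.IsInvertible L)
    (hy : CohB1.IsAmple ((Scheme.Modules.pullback (f.fiberι y)).obj L))
    (N : (XA f y).Modules) (hN : Coh.IsCoh N) :
    SV ((Scheme.Modules.pullback (gA f y)).obj L) N := by
  letI := overA f y
  haveI : IsProper ((XA f y) ↘ Spec (CommRingCat.of (Y.presheaf.stalk y))) :=
    inferInstanceAs (IsProper (pullback.snd f (Y.fromSpecStalk y)))
  haveI := isLocallyNoetherian_XA f y
  set LA := (Scheme.Modules.pullback (gA f y)).obj L with hLAdef
  have hLA : PicF.IsInvertible LA := Groth.Agent.Lib.Helper23.PB.isInvertible_pullback (gA f y) L hL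
  refine sv_of_killedBy (A := (Y.presheaf.stalk y)) LA hLA (IsLocalRing.maximalIdeal _)
    (IsLocalRing.maximalIdeal_le_jacobson ⊥) ?_ N hN
  intro Q hQ hk
  have hker : ClSub.KilledByIdeal (iA f y).ker Q :=
    Groth.Agent.R2.H1.FibreKer.killedByIdeal_ker_of_killedBy
      (IsLocalRing.maximalIdeal (Y.presheaf.stalk y)) (iA f y) (f.fiberToSpecResidueField y)
      (isPullback_iA f y) Q hk
  obtain ⟨G, hG, ⟨e⟩⟩ := Groth.Agent.S0786.result (iA f y) Q hQ hker
  have hamp : CohB1.IsAmple ((Scheme.Modules.pullback (iA f y)).obj LA) := by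
    refine Groth.Agent.Lib.Helper23.AmpleIso.isAmple_of_iso ?_ hy
    exact ((Scheme.Modules.pullbackCongr (iA_gA f y)).app L).symm ≪≫
      ((Scheme.Modules.pullbackComp (iA f y) (gA f y)).app L).symm
  have hκ : IsNoetherianRing ↑(Y.residueField y) :=
    isNoetherianRing_of_surjective _ _ (Y.residue y).hom Ideal.Quotient.mk_surjective
  haveI : IsProper (f.fiberToSpecResidueField y) :=
    inferInstanceAs (IsProper (pullback.snd f (Y.fromSpecResidueField y)))
  obtain ⟨n₀, hn₀⟩ := @Groth.Agent.R2.H54.AmpleFinal.ampleVanishing (Y.residueField y) _ hκ (f.fiber y)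
    (f.fiberToSpecResidueField y) _ _ hamp G hG
  refine ⟨n₀, fun n hn p hp => ?_⟩
  haveI : G.IsQuasicoherent := hG.1
  exact Groth.Agent.R2.H55.AmpleVan.subsingleton_HH_of_iso
    (Groth.Agent.R2.H55.AmpleVan.tensorRightCongr e _) p
    (Groth.Agent.R2.H55.AmpleNil.subsingleton_HH_push_tensorPow (iA f y) G LA hLA n p (hn₀ n hn p hp))

/-- **EGA III 4.7.1 over the local ring**: if `L` is ample on the fibre `X_y`, its pullback to
`X ×_Y Spec O_{Y,y}` is ample. -/
theorem isAmple_local (L : X.Modules) (hL : PicF.IsInvertible L)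
    (hy : CohB1.IsAmple ((Scheme.Modules.pullback (f.fiberι y)).obj L)) :
    CohB1.IsAmple ((Scheme.Modules.pullback (gA f y)).obj L) := by
  haveI := isLocallyNoetherian_XA f y
  haveI : CompactSpace (XA f y) := QuasiCompact.compactSpace_of_compactSpace (fA f y)
  haveI : IsNoetherian (XA f y) := {}
  exact Groth.Agent.R2.H54.AmpleFinal.vanishingAmple (XA f y) _
    (Groth.Agent.Lib.Helper23.PB.isInvertible_pullback (gA f y) L hL)
    (fun M hM => sv_local f y L hL hy M hM)

end main

end Groth.Agent.R2.H1.LocalFibre
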