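import Mathlib

/-!
# Pro-isomorphisms of `ℕ`-indexed inverse systems induce bijections on limits (helper1)

Package (LIM) of helper2's pkg G-FF (full faithfulness part of Grothendieck's existence theorem).

* `ProInv α s` : a "shifted inverse" `γ n : Q_(s n) ⟶ P_n` of a morphism `α : P ⟶ Q` of inverse systems
  `ℕᵒᵖ ⥤ C` (any category `C`), with `γ_n ≫ α_n = transition` and `α_(s n) ≫ γ_n = transition`.
* `ProInv.bijective_fam` : for ANY functor `G : C ⥤ Type w`, the map induced by `α` on
  successor-compatible families `Fam (P ⋙ G) → Fam (Q ⋙ G)` is bijective.  (`Fam T` is the set of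
  `x : ∀ n, T.obj (op n)` with `T.map (n ≤ n+1) (x (n+1)) = x n`, the shape of `Formal.HHlim`.)
  `ProInv.bijective_sections` : the same for Mathlib's `Functor.sections`.
* `proInvOfKerCoker` : in an abelian category, if `ker(α_(n+c)) → P_(n+c) → P_n` and
  `Q_(n+c) → Q_n → coker(α_n)` vanish for all `n`, then `α` has a shifted inverse with `s n = n + c + c`.
* `bijective_fam_of_ker_coker` : the combination (no exactness of `G` is needed).
-/

set_option autoImplicit false
open CategoryTheory CategoryTheory.Limits Opposite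

namespace Groth.Agent.R2.H1.ProLim

universe v u w

section General

variable {C : Type u} [Category.{v} C]

/-- transition map `P_m ⟶ P_n` of an inverse system, `n ≤ m` -/
abbrev tr (P : ℕᵒᵖ ⥤ C) {n m : ℕ} (h : n ≤ m) : P.obj (op m) ⟶ P.obj (op n) :=
  P.map (homOfLE h).op

lemma tr_comp (P : ℕᵒᵖ ⥤ C) {n m l : ℕ} (h₁ : n ≤ m) (h₂ : m ≤ l) :
    tr P h₂ ≫ tr P h₁ = tr P (h₁.trans h₂) := by
  rw [← P.map_comp]
  rfl

lemma tr_self (P : ℕᵒᵖ ⥤ C) (n : ℕ) : tr P (le_refl n) = 𝟙 _ := by
  have : (homOfLE (le_refl n)).op = 𝟙 (op n) := rfl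
  rw [tr, this, P.map_id]

lemma tr_nat {P Q : ℕᵒᵖ ⥤ C} (α : P ⟶ Q) {n m : ℕ} (h : n ≤ m) :
    tr P h ≫ α.app (op n) = α.app (op m) ≫ tr Q h :=
  α.naturality _

lemma map_eq_tr (P : ℕᵒᵖ ⥤ C) {j j' : ℕᵒᵖ} (f : j ⟶ j') :
    P.map f = tr P (leOfHom f.unop) := by
  congr 1

/-- a shifted inverse of a morphism of inverse systems -/
structure ProInv {P Q : ℕᵒᵖ ⥤ C} (α : P ⟶ Q) (s : ℕ → ℕ) where
  /-- the shift dominates the identity -/
  le : ∀ n, n ≤ s n
  /-- the shifted inverse -/
  γ : ∀ n, Q.obj (op (s n)) ⟶ P.obj (op n)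
  γ_α : ∀ n, γ n ≫ α.app (op n) = tr Q (le n)
  α_γ : ∀ n, α.app (op (s n)) ≫ γ n = tr P (le n)

/-- successor-compatible families of an `ℕ`-indexed inverse system of types -/
def Fam (T : ℕᵒᵖ ⥤ Type w) : Set (∀ n : ℕ, T.obj (op n)) :=
  {x | ∀ n, T.map (homOfLE (Nat.le_succ n)).op (x (n + 1)) = x n}

lemma Fam.tr_apply {T : ℕᵒᵖ ⥤ Type w} {x : ∀ n : ℕ, T.obj (op n)} (hx : x ∈ Fam T) {n m : ℕ}
    (h : n ≤ m) : tr T h (x m) = x n := by
  induction m, h using Nat.le_induction with
  | base =>
    rw [tr_self]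
    rfl
  | succ m h ih =>
    rw [← tr_comp T h (Nat.le_succ m)]
    change tr T h (T.map (homOfLE (Nat.le_succ m)).op (x (m + 1))) = x n
    rw [hx m, ih]

/-- the map on families induced by a morphism of systems of types -/
def famMap {S T : ℕᵒᵖ ⥤ Type w} (φ : S ⟶ T) (x : Fam S) : Fam T :=
  ⟨fun n => φ.app (op n) (x.1 n), fun n => by
    have h1 := NatTrans.naturality_apply φ (homOfLE (Nat.le_succ n)).op (x.1 (n + 1))
    rw [← h1, x.2 n]⟩

@[simp] lemma famMap_apply {S T : ℕᵒᵖ ⥤ Type w} (φ : S ⟶ T) (x : Fam S) (n : ℕ) :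
    (famMap φ x).1 n = φ.app (op n) (x.1 n) := rfl

variable {P Q : ℕᵒᵖ ⥤ C} {α : P ⟶ Q} {s : ℕ → ℕ}

/-- **A pro-isomorphism induces a bijection on compatible families, after any functor.** -/
theorem ProInv.bijective_fam (D : ProInv α s) (G : C ⥤ Type w) :
    Function.Bijective (famMap (Functor.whiskerRight α G)) := by
  constructor
  · intro x x' h
    apply Subtype.ext
    funext n
    have hn : G.map (α.app (op (s n))) (x.1 (s n)) = G.map (α.app (op (s n))) (x'.1 (s n)) :=
      congrFun (congrArg Subtype.val h) (s n)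
    have e : ∀ z : Fam (P ⋙ G), z.1 n = G.map (D.γ n) (G.map (α.app (op (s n))) (z.1 (s n))) := by
      intro z
      rw [← Functor.map_comp_apply, D.α_γ]
      exact (Fam.tr_apply z.2 (D.le n)).symm
    rw [e x, e x', hn]
  · intro y
    -- key: any lift of `y (s n)` has the same image in `G (P n)`
    have key : ∀ (n : ℕ) (a : G.obj (P.obj (op (s n)))), G.map (α.app (op (s n))) a = y.1 (s n) →
        G.map (tr P (D.le n)) a = G.map (D.γ n) (y.1 (s n)) := by
      intro n a ha
      rw [← ha, ← Functor.map_comp_apply, D.α_γ]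
    have lift : ∀ n : ℕ, G.map (α.app (op n)) (G.map (D.γ n) (y.1 (s n))) = y.1 n := by
      intro n
      rw [← Functor.map_comp_apply, D.γ_α]
      exact Fam.tr_apply y.2 (D.le n)
    -- `x_n` is the image of `x_m` for every `m ≥ s n`
    have stab : ∀ (n m : ℕ) (h : s n ≤ m),
        G.map (tr P ((D.le n).trans h)) (G.map (D.γ m) (y.1 (s m))) = G.map (D.γ n) (y.1 (s n)) := by
      intro n m h
      have ha : G.map (α.app (op (s n))) (G.map (tr P h) (G.map (D.γ m) (y.1 (s m)))) = y.1 (s n) := by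
        rw [← Functor.map_comp_apply, tr_nat, Functor.map_comp_apply, lift m]
        exact Fam.tr_apply y.2 h
      have e : G.map (tr P ((D.le n).trans h)) (G.map (D.γ m) (y.1 (s m))) =
          G.map (tr P (D.le n)) (G.map (tr P h) (G.map (D.γ m) (y.1 (s m)))) := by
        rw [← tr_comp P (D.le n) h, Functor.map_comp_apply]
      rw [e]
      exact key n _ ha
    refine ⟨⟨fun n => G.map (D.γ n) (y.1 (s n)), fun n => ?_⟩, ?_⟩
    · -- compatibility
      obtain ⟨m, h1, h2⟩ : ∃ m, s n ≤ m ∧ s (n + 1) ≤ m := ⟨max (s n) (s (n + 1)), le_max_left _ _, le_max_right _ _⟩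
      change G.map (tr P (Nat.le_succ n)) (G.map (D.γ (n + 1)) (y.1 (s (n + 1)))) = _
      rw [← stab (n + 1) m h2]
      have e : G.map (tr P (Nat.le_succ n))
            (G.map (tr P ((D.le (n + 1)).trans h2)) (G.map (D.γ m) (y.1 (s m)))) =
          G.map (tr P ((D.le n).trans h1)) (G.map (D.γ m) (y.1 (s m))) := by
        rw [← Functor.map_comp_apply, tr_comp]
      rw [e]
      exact stab n m h1
    · apply Subtype.ext
      funext n
      exact lift n

/-- the same statement for Mathlib's `Functor.sections` -/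
theorem ProInv.bijective_sections (D : ProInv α s) (G : C ⥤ Type w) :
    Function.Bijective (fun x : (P ⋙ G).sections =>
      (⟨fun j => G.map (α.app j) (x.1 j), fun {j j'} f => by
        have h1 := NatTrans.naturality_apply (Functor.whiskerRight α G) f (x.1 j)
        exact h1.symm.trans (congrArg _ (x.2 f))⟩ : (Q ⋙ G).sections)) := by
  -- transport along the bijection `sections ≃ Fam`
  have toFam : ∀ (T : ℕᵒᵖ ⥤ Type w) (x : T.sections), (fun n : ℕ => x.1 (op n)) ∈ Fam T :=
    fun T x n => x.2 _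
  have ofFam : ∀ (T : ℕᵒᵖ ⥤ Type w) (x : Fam T), (fun j : ℕᵒᵖ => x.1 j.unop) ∈ T.sections := by
    intro T x j j' f
    rw [map_eq_tr]
    exact Fam.tr_apply x.2 _
  have hb := D.bijective_fam G
  constructor
  · intro x x' h
    have h' : famMap (Functor.whiskerRight α G) ⟨_, toFam _ x⟩ =
        famMap (Functor.whiskerRight α G) ⟨_, toFam _ x'⟩ := by
      apply Subtype.ext
      funext n
      exact congrFun (congrArg Subtype.val h) (op n)
    have h'' := congrArg Subtype.val (hb.1 h')
    apply Subtype.ext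
    funext j
    exact congrFun h'' j.unop
  · intro y
    obtain ⟨x, hx⟩ := hb.2 ⟨_, toFam _ y⟩
    refine ⟨⟨_, ofFam _ x⟩, ?_⟩
    apply Subtype.ext
    funext j
    exact congrFun (congrArg Subtype.val hx) j.unop

end General

section Abelian

variable {𝒜 : Type u} [Category.{v} 𝒜] [Abelian 𝒜] {P Q : ℕᵒᵖ ⥤ 𝒜} (α : P ⟶ Q) (c : ℕ)
  (ha : ∀ n, kernel.ι (α.app (op (n + c))) ≫ tr P (Nat.le_add_right n c) = 0)
  (hb : ∀ n, tr Q (Nat.le_add_right n c) ≫ cokernel.π (α.app (op n)) = 0)

include hb in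
/-- `Q_(n+c) ⟶ Q_n` factors through the image of `α_n` -/
noncomputable def fac (n : ℕ) : Q.obj (op (n + c)) ⟶ Abelian.image (α.app (op n)) :=
  kernel.lift (cokernel.π (α.app (op n))) (tr Q (Nat.le_add_right n c)) (hb n)

lemma fac_ι (n : ℕ) :
    fac α c hb n ≫ Abelian.image.ι (α.app (op n)) = tr Q (Nat.le_add_right n c) :=
  kernel.lift_ι _ _ _

include ha in
lemma kernel_factorThruImage_tr (n : ℕ) :
    kernel.ι (Abelian.factorThruImage (α.app (op (n + c)))) ≫ tr P (Nat.le_add_right n c) = 0 := by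
  have h0 : kernel.ι (Abelian.factorThruImage (α.app (op (n + c)))) ≫ α.app (op (n + c)) = 0 := by
    have h1 : kernel.ι (Abelian.factorThruImage (α.app (op (n + c)))) ≫
        Abelian.factorThruImage (α.app (op (n + c))) ≫ Abelian.image.ι (α.app (op (n + c))) = 0 := by
      rw [← Category.assoc, kernel.condition, zero_comp]
    rwa [Abelian.image.fac] at h1
  rw [← kernel.lift_ι (α.app (op (n + c))) _ h0, Category.assoc, ha n, comp_zero]

/-- `P_(n+c) ⟶ P_n` factors through the image of `α_(n+c)` -/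
noncomputable def β (n : ℕ) : Abelian.image (α.app (op (n + c))) ⟶ P.obj (op n) :=
  Abelian.epiDesc (Abelian.factorThruImage (α.app (op (n + c)))) (tr P (Nat.le_add_right n c))
    (kernel_factorThruImage_tr α c ha n)

lemma factorThruImage_β (n : ℕ) :
    Abelian.factorThruImage (α.app (op (n + c))) ≫ β α c ha n = tr P (Nat.le_add_right n c) :=
  Abelian.comp_epiDesc _ _ _

lemma β_α (n : ℕ) :
    β α c ha n ≫ α.app (op n) =
      Abelian.image.ι (α.app (op (n + c))) ≫ tr Q (Nat.le_add_right n c) := by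
  rw [← cancel_epi (Abelian.factorThruImage (α.app (op (n + c)))), ← Category.assoc,
    factorThruImage_β, ← Category.assoc, Abelian.image.fac, tr_nat]

lemma α_fac (n : ℕ) :
    α.app (op (n + c)) ≫ fac α c hb n =
      tr P (Nat.le_add_right n c) ≫ Abelian.factorThruImage (α.app (op n)) := by
  rw [← cancel_mono (Abelian.image.ι (α.app (op n))), Category.assoc, fac_ι, Category.assoc,
    Abelian.image.fac, tr_nat]

/-- **The shifted inverse attached to a morphism of inverse systems whose kernels and cokernels are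
killed by the `c`-fold transition maps.** -/
noncomputable def proInvOfKerCoker : ProInv α (fun n => n + c + c) where
  le n := by omega
  γ n := fac α c hb (n + c) ≫ β α c ha n
  γ_α n := by
    rw [Category.assoc, β_α, ← Category.assoc, fac_ι, tr_comp]
  α_γ n := by
    rw [← Category.assoc, α_fac, Category.assoc, factorThruImage_β, tr_comp]

/-- **(LIM)**: if `ker(α_(n+c)) → P_(n+c) → P_n` and `Q_(n+c) → Q_n → coker(α_n)` vanish for all `n`,
then for ANY functor `G` to types the map `lim G(P_n) → lim G(Q_n)` (successor-compatible families) is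
bijective. -/
theorem bijective_fam_of_ker_coker {P Q : ℕᵒᵖ ⥤ 𝒜} (α : P ⟶ Q) (c : ℕ)
    (ha : ∀ n, kernel.ι (α.app (op (n + c))) ≫ tr P (Nat.le_add_right n c) = 0)
    (hb : ∀ n, tr Q (Nat.le_add_right n c) ≫ cokernel.π (α.app (op n)) = 0) (G : 𝒜 ⥤ Type w) :
    Function.Bijective (famMap (Functor.whiskerRight α G)) :=
  (proInvOfKerCoker α c ha hb).bijective_fam G

/-- the same for `Functor.sections` -/
theorem bijective_sections_of_ker_coker {P Q : ℕᵒᵖ ⥤ 𝒜} (α : P ⟶ Q) (c : ℕ)
    (ha : ∀ n, kernel.ι (α.app (op (n + c))) ≫ tr P (Nat.le_add_right n c) = 0)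
    (hb : ∀ n, tr Q (Nat.le_add_right n c) ≫ cokernel.π (α.app (op n)) = 0) (G : 𝒜 ⥤ Type w) :
    Function.Bijective (fun x : (P ⋙ G).sections =>
      (⟨fun j => G.map (α.app j) (x.1 j), fun {j j'} f => by
        have h1 := NatTrans.naturality_apply (Functor.whiskerRight α G) f (x.1 j)
        exact h1.symm.trans (congrArg _ (x.2 f))⟩ : (Q ⋙ G).sections)) :=
  (proInvOfKerCoker α c ha hb).bijective_sections G

end Abelian

end Groth.Agent.R2.H1.ProLim
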