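import Mathlib
import Groth.Agent.S7572

/-!
# Stalks of pullbacks of sheaves of sets, and the unit of a closed embedding on stalks

helper1 (round 2).
* `stalkPullbackIso i z : (i^* -)_z ≅ (-)_{i z}` as functors on sheaves of sets (any continuous map `i`), by uniqueness of
  left adjoints (`i_*` of a skyscraper sheaf is a skyscraper sheaf).
* `bijective_stalk_unit` : for a closed embedding `i`, the unit `F ⟶ i_* i^* F` is bijective on stalks at points of the image.
-/

set_option autoImplicit false
universe u
open CategoryTheory CategoryTheory.Limits Opposite TopologicalSpace Topology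

namespace Groth.Agent.R2.H1.PullStalk

variable {Z X : TopCat.{u}} (i : Z ⟶ X)

open Classical in
/-- the direct image of a skyscraper sheaf is a skyscraper sheaf -/
noncomputable def pushSky (z : Z) :
    skyscraperSheafFunctor (C := Type u) z ⋙ TopCat.Sheaf.pushforward (Type u) i ≅
      skyscraperSheafFunctor (i z) :=
  NatIso.ofComponents (fun A => Iso.refl _) (by
    intro A B f
    rfl)

open Classical in
/-- the stalk of a pullback: `(i^* F)_z ≅ F_{i z}`, naturally in the sheaf of sets `F`. -/
noncomputable def stalkPullbackIso (z : Z) :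
    TopCat.Sheaf.pullback (Type u) i ⋙
        (TopCat.Sheaf.forget (Type u) Z ⋙ TopCat.Presheaf.stalkFunctor (Type u) z) ≅
      TopCat.Sheaf.forget (Type u) X ⋙ TopCat.Presheaf.stalkFunctor (Type u) (i z) :=
  Adjunction.leftAdjointUniq
    (((TopCat.Sheaf.pullbackPushforwardAdjunction (Type u) i).comp
      (stalkSkyscraperSheafAdjunction z)).ofNatIsoRight (pushSky i z))
    (stalkSkyscraperSheafAdjunction (i z))

/-- For a closed embedding `i`, the unit `F ⟶ i_* i^* F` induces bijections on the stalks at the points of the image. -/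
theorem bijective_stalk_unit (hi : IsClosedEmbedding i) (F : X.Sheaf (Type u)) (z : Z) :
    Function.Bijective ((TopCat.Presheaf.stalkFunctor (Type u) (i z)).map
      ((TopCat.Sheaf.pullbackPushforwardAdjunction (Type u) i).unit.app F).hom) := by
  let adj := TopCat.Sheaf.pullbackPushforwardAdjunction (Type u) i
  have hc : IsIso (adj.counit.app ((TopCat.Sheaf.pullback (Type u) i).obj F)) :=
    (Groth.Agent.S7572.result i hi _).2
  have h1 : (TopCat.Sheaf.pullback (Type u) i).map (adj.unit.app F) ≫
      adj.counit.app ((TopCat.Sheaf.pullback (Type u) i).obj F) = 𝟙 _ := adj.left_triangle_components F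
  have h2 : IsIso ((TopCat.Sheaf.pullback (Type u) i).map (adj.unit.app F)) := by
    have : (TopCat.Sheaf.pullback (Type u) i).map (adj.unit.app F) =
        inv (adj.counit.app ((TopCat.Sheaf.pullback (Type u) i).obj F)) :=
      IsIso.eq_inv_of_inv_hom_id h1
    rw [this]
    infer_instance
  have h3 : IsIso ((TopCat.Sheaf.pullback (Type u) i ⋙
      (TopCat.Sheaf.forget (Type u) Z ⋙ TopCat.Presheaf.stalkFunctor (Type u) z)).map (adj.unit.app F)) :=
    inferInstanceAs (IsIso ((TopCat.Sheaf.forget (Type u) Z ⋙ TopCat.Presheaf.stalkFunctor (Type u) z).map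
      ((TopCat.Sheaf.pullback (Type u) i).map (adj.unit.app F))))
  have h4 : IsIso ((TopCat.Sheaf.forget (Type u) X ⋙ TopCat.Presheaf.stalkFunctor (Type u) (i z)).map
      (adj.unit.app F)) := (NatIso.isIso_map_iff (stalkPullbackIso i z) (adj.unit.app F)).1 h3
  exact (isIso_iff_bijective _).1 h4

end Groth.Agent.R2.H1.PullStalk
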