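import Mathlib

/-!
# Patch-compactness arguments in spectral spaces

helper1 (round 2).
* `nonempty_sInter_of_fip` : a family of subsets of a spectral space, each closed or compact open, with the finite
  intersection property, has nonempty intersection (compactness of the constructible topology).
* `exists_specializes_of_mem_closure` : if `B` is an intersection of closed / compact open sets and `x ∈ closure B`
  then some `y ∈ B` specializes to `x`.
* `exists_specializes_of_mem_sInter_compactOpens` : for `S` quasi-compact, a point lying in every compact open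
  neighbourhood of `S` is a generization of a point of `S`.
-/

set_option autoImplicit false
open Topology TopologicalSpace

namespace Groth.Agent.R2.H1.Spectral

variable {X : Type*} [TopologicalSpace X]

lemma isClosed_constructible_of_isCompact_isOpen {s : Set X} (ho : IsOpen s) (hc : IsCompact s) :
    IsClosed[constructibleTopology X] s := by
  rw [← @isOpen_compl_iff _ _ (constructibleTopology X)]
  exact IsCompact.isOpen_constructibleTopology_of_isClosed (by rwa [compl_compl]) ho.isClosed_compl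

lemma isClosed_constructible_of_isClosed [PrespectralSpace X] {s : Set X} (hs : IsClosed s) :
    IsClosed[constructibleTopology X] s := by
  rw [← @isOpen_compl_iff _ _ (constructibleTopology X)]
  obtain ⟨𝒰, h𝒰, hU⟩ := PrespectralSpace.isTopologicalBasis.open_eq_sUnion hs.isOpen_compl
  rw [hU]
  exact @isOpen_sUnion _ (constructibleTopology X) _ fun u hu =>
    (h𝒰 hu).2.isOpen_constructibleTopology_of_isOpen (h𝒰 hu).1

/-- compactness of the constructible topology, in terms of the original topology -/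
theorem nonempty_sInter_of_fip [SpectralSpace X] (𝒮 : Set (Set X))
    (h𝒮 : ∀ s ∈ 𝒮, IsClosed s ∨ (IsOpen s ∧ IsCompact s))
    (hfip : ∀ 𝒯 ⊆ 𝒮, 𝒯.Finite → (⋂₀ 𝒯).Nonempty) :
    (⋂₀ 𝒮).Nonempty := by
  have hcl : ∀ s ∈ 𝒮, IsClosed[constructibleTopology X] s := by
    intro s hs
    rcases h𝒮 s hs with h | ⟨ho, hc⟩
    · exact isClosed_constructible_of_isClosed h
    · exact isClosed_constructible_of_isCompact_isOpen ho hc
  let Y := WithConstructibleTopology X
  let e : Y → X := WithTopology.ofTopology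
  have hcl' : ∀ a ∈ (fun s => e ⁻¹' s) '' 𝒮, IsClosed a := by
    rintro _ ⟨s, hs, rfl⟩
    rw [WithConstructibleTopology.isClosed_iff]
    exact hcl s hs
  have key := (isCompact_univ (X := Y)).nonempty_inter_sInter hcl' (by
    intro a ha hfin
    obtain ⟨𝒯, h𝒯, h𝒯fin, rfl⟩ := Set.exists_subset_image_finite_and.1 ⟨a, ha, hfin, rfl⟩
    obtain ⟨x, hx⟩ := hfip 𝒯 h𝒯 h𝒯fin
    refine ⟨WithTopology.toTopology _ x, Set.mem_univ _, ?_⟩
    rintro _ ⟨s, hs, rfl⟩
    exact hx s hs)
  obtain ⟨y, -, hy⟩ := key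
  refine ⟨e y, ?_⟩
  intro s hs
  exact hy _ ⟨s, hs, rfl⟩

/-- If `B` is an intersection of closed and compact open subsets of a spectral space and `x` lies in the closure of
`B`, then some point of `B` specializes to `x`. -/
theorem exists_specializes_of_mem_closure [SpectralSpace X] (𝒮 : Set (Set X))
    (h𝒮 : ∀ s ∈ 𝒮, IsClosed s ∨ (IsOpen s ∧ IsCompact s)) {x : X} (hx : x ∈ closure (⋂₀ 𝒮)) :
    ∃ y ∈ ⋂₀ 𝒮, y ⤳ x := by
  let 𝒩 : Set (Set X) := {N | IsOpen N ∧ IsCompact N ∧ x ∈ N}
  have h := nonempty_sInter_of_fip (𝒮 ∪ 𝒩) (by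
    rintro s (hs | hs)
    · exact h𝒮 s hs
    · exact Or.inr ⟨hs.1, hs.2.1⟩) (by
    intro 𝒯 h𝒯 hfin
    -- the members of `𝒯` in `𝒩` intersect to an open neighbourhood of `x`
    have hopen : IsOpen (⋂₀ (𝒯 ∩ 𝒩)) :=
      (hfin.subset Set.inter_subset_left).isOpen_sInter fun N hN => hN.2.1
    have hxN : x ∈ ⋂₀ (𝒯 ∩ 𝒩) := fun N hN => hN.2.2.2
    obtain ⟨y, hy1, hy2⟩ := mem_closure_iff.1 hx _ hopen hxN
    refine ⟨y, ?_⟩
    intro s hs
    rcases h𝒯 hs with h | h
    · exact hy2 s h
    · exact hy1 s ⟨hs, h⟩)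
  obtain ⟨y, hy⟩ := h
  refine ⟨y, fun s hs => hy s (Or.inl hs), ?_⟩
  rw [specializes_iff_forall_open]
  intro U hU hxU
  obtain ⟨N, ⟨hN1, hN2⟩, hxN, hNU⟩ :=
    PrespectralSpace.isTopologicalBasis.exists_subset_of_mem_open hxU hU
  exact hNU (hy N (Or.inr ⟨hN1, hN2, hxN⟩))

/-- For a quasi-compact subset `S` of a prespectral space, a point lying in every compact open neighbourhood of `S`
is a generization of a point of `S`. -/
theorem exists_specializes_of_mem_sInter_compactOpens [PrespectralSpace X] {S : Set X} (hS : IsCompact S)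
    {y : X} (hy : ∀ V : Set X, IsOpen V → IsCompact V → S ⊆ V → y ∈ V) : ∃ s ∈ S, y ⤳ s := by
  by_contra hcon
  push Not at hcon
  -- each `s ∈ S` has a compact open neighbourhood missing `y`
  have h1 : ∀ s ∈ S, ∃ V : Set X, (IsOpen V ∧ IsCompact V) ∧ s ∈ V ∧ y ∉ V := by
    intro s hs
    have := hcon s hs
    rw [specializes_iff_forall_open] at this
    push Not at this
    obtain ⟨U, hU, hsU, hyU⟩ := this
    obtain ⟨N, hN, hsN, hNU⟩ := PrespectralSpace.isTopologicalBasis.exists_subset_of_mem_open hsU hU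
    exact ⟨N, hN, hsN, fun h => hyU (hNU h)⟩
  choose! V hV1 hV2 hV3 using h1
  obtain ⟨t, ht, htfin, hcov⟩ := hS.elim_finite_subcover_image (b := S) (c := V)
    (fun s hs => (hV1 s hs).1) (fun s hs => Set.mem_biUnion hs (hV2 s hs))
  have hyU : y ∈ ⋃ i ∈ t, V i :=
    hy _ (isOpen_biUnion fun s hs => (hV1 s (ht hs)).1)
      (htfin.isCompact_biUnion fun s hs => (hV1 s (ht hs)).2) hcov
  obtain ⟨s, hs, hys⟩ := Set.mem_iUnion₂.1 hyU
  exact hV3 s (ht hs) hys

end Groth.Agent.R2.H1.Spectral
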