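import Mathlib
import Groth.Agent.R2.H1SpectralPatch

/-!
# Sections of sheaves of sets on a spectral space are determined near a closed subset meeting all closures connectedly

helper1 (round 2).  Let `X` be a spectral space, `Z ⊆ X` closed such that `Z ∩ closure {x}` is connected for every
`x`.  If `η : F ⟶ G` is a morphism of sheaves of sets on `X` inducing bijections on the stalks at all points of `Z`,
then `η` is bijective on global sections (`bijective_app_top`).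
-/

set_option autoImplicit false
set_option linter.unusedSectionVars false
universe u
open CategoryTheory CategoryTheory.Limits Opposite TopologicalSpace Topology

namespace Groth.Agent.R2.H1.SpectralSections

variable {X : TopCat.{u}}

section Basic

variable (F : X.Sheaf (Type u))

/-- restriction of sections -/
abbrev rs {U V : Opens X} (h : V ≤ U) (s : F.obj.obj (op U)) : F.obj.obj (op V) :=
  F.obj.map (homOfLE h).op s

lemma rs_rs {U V W : Opens X} (h : V ≤ U) (h' : W ≤ V) (s : F.obj.obj (op U)) :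
    rs F h' (rs F h s) = rs F (h'.trans h) s := by
  have : homOfLE (h'.trans h) = homOfLE h' ≫ homOfLE h := Subsingleton.elim _ _
  unfold rs
  rw [this, op_comp, F.obj.map_comp]
  rfl

lemma germ_rs {U V : Opens X} (h : V ≤ U) (s : F.obj.obj (op U)) (x : X) (hx : x ∈ V) :
    F.presheaf.germ V x hx (rs F h s) = F.presheaf.germ U x (h hx) s :=
  TopCat.Presheaf.germ_res_apply F.presheaf (homOfLE h) x hx s

/-- two sections with the same germ agree on a neighbourhood -/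
lemma exists_rs_eq_of_germ_eq {U V : Opens X} (x : X) (hU : x ∈ U) (hV : x ∈ V)
    (s : F.obj.obj (op U)) (t : F.obj.obj (op V))
    (h : F.presheaf.germ U x hU s = F.presheaf.germ V x hV t) :
    ∃ (W : Opens X) (_ : x ∈ W) (hWU : W ≤ U) (hWV : W ≤ V), rs F hWU s = rs F hWV t := by
  obtain ⟨W, hxW, iU, iV, e⟩ := TopCat.Presheaf.germ_eq F.presheaf x hU hV s t h
  exact ⟨W, hxW, iU.le, iV.le, e⟩

lemma germ_eq_of_rs_eq {U V W : Opens X} (x : X) (hW : x ∈ W) (hWU : W ≤ U) (hWV : W ≤ V)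
    (s : F.obj.obj (op U)) (t : F.obj.obj (op V)) (h : rs F hWU s = rs F hWV t) :
    F.presheaf.germ U x (hWU hW) s = F.presheaf.germ V x (hWV hW) t :=
  TopCat.Presheaf.germ_ext F.presheaf W hW (homOfLE hWU) (homOfLE hWV) h

end Basic

section Map

variable {F G : X.Sheaf (Type u)} (η : F ⟶ G)

lemma app_rs {U V : Opens X} (h : V ≤ U) (t : F.obj.obj (op U)) :
    η.hom.app (op V) (rs F h t) = rs G h (η.hom.app (op U) t) :=
  ConcreteCategory.congr_hom (η.hom.naturality (homOfLE h).op) t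

/-- local surjectivity at a point where the stalk map is surjective -/
lemma exists_local_lift (z : X)
    (hz : Function.Surjective ((TopCat.Presheaf.stalkFunctor (Type u) z).map η.hom))
    {U : Opens X} (hzU : z ∈ U) (s : G.obj.obj (op U)) :
    ∃ (V : Opens X) (_ : z ∈ V) (hVU : V ≤ U) (t : F.obj.obj (op V)),
      η.hom.app (op V) t = rs G hVU s := by
  obtain ⟨f, hf⟩ := hz (G.presheaf.germ U z hzU s)
  obtain ⟨V', hzV', t', rfl⟩ := TopCat.Presheaf.exists_germ_eq F.presheaf f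
  rw [TopCat.Presheaf.stalkFunctor_map_germ_apply] at hf
  obtain ⟨W, hzW, hWV', hWU, e⟩ := exists_rs_eq_of_germ_eq G z hzV' hzU _ _ hf
  exact ⟨W, hzW, hWU, rs F hWV' t', (app_rs η hWV' t').trans e⟩

/-- local injectivity at a point where the stalk map is injective -/
lemma exists_local_eq (z : X)
    (hz : Function.Injective ((TopCat.Presheaf.stalkFunctor (Type u) z).map η.hom))
    {U : Opens X} (hzU : z ∈ U) (t t' : F.obj.obj (op U))
    (h : η.hom.app (op U) t = η.hom.app (op U) t') :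
    ∃ (V : Opens X) (_ : z ∈ V) (hVU : V ≤ U), rs F hVU t = rs F hVU t' := by
  have h1 : F.presheaf.germ U z hzU t = F.presheaf.germ U z hzU t' := by
    apply hz
    rw [TopCat.Presheaf.stalkFunctor_map_germ_apply, TopCat.Presheaf.stalkFunctor_map_germ_apply]
    exact congrArg _ h
  obtain ⟨W, hzW, hWU, hWU', e⟩ := exists_rs_eq_of_germ_eq F z hzU hzU t t' h1
  exact ⟨W, hzW, hWU, e⟩

end Map

section Main

variable [SpectralSpace X] (Z : Set X) (hconn : ∀ x : X, IsConnected (Z ∩ closure {x}))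
variable {F G : X.Sheaf (Type u)} (η : F ⟶ G)
  (hη : ∀ z ∈ Z, Function.Bijective ((TopCat.Presheaf.stalkFunctor (Type u) z).map η.hom))

include hconn hη in
theorem injective_app_top : Function.Injective (η.hom.app (op ⊤)) := by
  intro t t' h
  have key : ∀ x : X, ∃ (V : Opens X) (_ : x ∈ V) (hV : V ≤ ⊤), rs F hV t = rs F hV t' := by
    intro x
    obtain ⟨z, hzZ, hzx⟩ := (hconn x).nonempty
    obtain ⟨V, hzV, hVU, e⟩ := exists_local_eq η z (hη z hzZ).1 (Opens.mem_top z) t t' h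
    have hxz : x ⤳ z := specializes_iff_mem_closure.2 hzx
    exact ⟨V, hxz.mem_open V.2 hzV, hVU, e⟩
  choose V hxV hV e using key
  exact TopCat.Sheaf.eq_of_locally_eq' F V ⊤ (fun x => homOfLE (hV x))
    (fun x _ => Opens.mem_iSup.2 ⟨x, hxV x⟩) t t' e

/-! ### Surjectivity: the local data -/

variable {ι : Type u} (U : ι → Opens X) (t : ∀ k, F.obj.obj (op (U k))) (s : G.obj.obj (op ⊤))

/-- `k` is admissible for `x`: some specialization of `x` in `Z` lies in `U k`. -/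
def Adm (x : X) (k : ι) : Prop := ∃ z ∈ Z, z ∈ U k ∧ x ⤳ z

variable {Z U}

lemma Adm.mem {x : X} {k : ι} (h : Adm Z U x k) : x ∈ U k := by
  obtain ⟨z, -, hzU, hxz⟩ := h
  exact hxz.mem_open (U k).2 hzU

lemma Adm.of_specializes {x y : X} {k : ι} (h : Adm Z U x k) (hyx : y ⤳ x) : Adm Z U y k := by
  obtain ⟨z, hzZ, hzU, hxz⟩ := h
  exact ⟨z, hzZ, hzU, hyx.trans hxz⟩

variable (hts : ∀ k, η.hom.app (op (U k)) (t k) = rs G le_top s) (hcov : ∀ z ∈ Z, ∃ k, z ∈ U k)

include hconn hη hts hcov in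
/-- Claim A: the germ at `x` of the local lift does not depend on the admissible index. -/
theorem germ_eq_of_adm {x : X} {k l : ι} (hk : Adm Z U x k) (hl : Adm Z U x l) :
    F.presheaf.germ (U k) x hk.mem (t k) = F.presheaf.germ (U l) x hl.mem (t l) := by
  by_contra hne
  let R : ι → Prop := fun m => ∃ h : x ∈ U m,
    F.presheaf.germ (U m) x h (t m) = F.presheaf.germ (U k) x hk.mem (t k)
  let u : Set X := ⋃ m ∈ {m | R m}, (U m : Set X)
  let v : Set X := ⋃ m ∈ {m | ¬ R m}, (U m : Set X)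
  have hu : IsOpen u := isOpen_biUnion fun m _ => (U m).2
  have hv : IsOpen v := isOpen_biUnion fun m _ => (U m).2
  have hRk : R k := ⟨hk.mem, rfl⟩
  have hRl : ¬ R l := fun ⟨h, e⟩ => hne e.symm
  have hT : Z ∩ closure {x} ⊆ u ∪ v := by
    rintro z ⟨hzZ, -⟩
    obtain ⟨m, hm⟩ := hcov z hzZ
    by_cases hR : R m
    · exact Or.inl (Set.mem_biUnion hR hm)
    · exact Or.inr (Set.mem_biUnion hR hm)
  have hTu : (Z ∩ closure {x} ∩ u).Nonempty := by
    obtain ⟨z, hzZ, hzU, hxz⟩ := hk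
    exact ⟨z, ⟨hzZ, specializes_iff_mem_closure.1 hxz⟩, Set.mem_biUnion hRk hzU⟩
  have hTv : (Z ∩ closure {x} ∩ v).Nonempty := by
    obtain ⟨z, hzZ, hzU, hxz⟩ := hl
    exact ⟨z, ⟨hzZ, specializes_iff_mem_closure.1 hxz⟩, Set.mem_biUnion hRl hzU⟩
  obtain ⟨z, ⟨hzZ, hzx⟩, hzu, hzv⟩ := (hconn x).isPreconnected u v hu hv hT hTu hTv
  obtain ⟨m, hRm, hzm⟩ := Set.mem_iUnion₂.1 hzu
  obtain ⟨m', hRm', hzm'⟩ := Set.mem_iUnion₂.1 hzv
  have hxz : x ⤳ z := specializes_iff_mem_closure.2 hzx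
  -- the two lifts agree near `z`
  have himg : η.hom.app (op (U m ⊓ U m')) (rs F inf_le_left (t m)) =
      η.hom.app (op (U m ⊓ U m')) (rs F inf_le_right (t m')) := by
    rw [app_rs, app_rs, hts, hts, rs_rs, rs_rs]
  obtain ⟨V, hzV, hVW, e⟩ := exists_local_eq η z (hη z hzZ).1 (show z ∈ U m ⊓ U m' from ⟨hzm, hzm'⟩)
    _ _ himg
  rw [rs_rs, rs_rs] at e
  have hxV : x ∈ V := hxz.mem_open V.2 hzV
  have hg := germ_eq_of_rs_eq F x hxV (hVW.trans inf_le_left) (hVW.trans inf_le_right) (t m) (t m') e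
  obtain ⟨hxm, em⟩ := hRm
  exact hRm' ⟨(hVW.trans inf_le_right) hxV, hg.symm.trans em⟩

include hconn hη hts hcov in
/-- Claim B: near a point `x` with admissible index `k`, all admissible local lifts (for indices in a finite set
`K`) agree with `t k`. -/
theorem exists_nhd_germ_eq (hZ : IsClosed Z) (hUc : ∀ k, IsCompact (U k : Set X)) (K : Finset ι)
    {x : X} {k : ι} (hk : Adm Z U x k) :
    ∃ N : Opens X, x ∈ N ∧ N ≤ U k ∧ ∀ x' ∈ N, ∀ l ∈ K, ∀ (hl : Adm Z U x' l) (hk' : x' ∈ U k),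
      F.presheaf.germ (U l) x' hl.mem (t l) = F.presheaf.germ (U k) x' hk' (t k) := by
  classical
  let W : ι → Set X := fun l => {x' | ∃ (h : x' ∈ U l) (h' : x' ∈ U k),
    F.presheaf.germ (U l) x' h (t l) = F.presheaf.germ (U k) x' h' (t k)}
  have hWopen : ∀ l, IsOpen (W l) := by
    intro l
    rw [isOpen_iff_forall_mem_open]
    rintro x' ⟨h, h', e⟩
    obtain ⟨V, hxV, hVl, hVk, e'⟩ := exists_rs_eq_of_germ_eq F x' h h' _ _ e
    refine ⟨V, ?_, V.2, hxV⟩
    intro y hy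
    exact ⟨hVl hy, hVk hy, germ_eq_of_rs_eq F y hy hVl hVk _ _ e'⟩
  let 𝒮 : ι → Set (Set X) := fun l =>
    {(U k : Set X), (U l : Set X), (W l)ᶜ} ∪ {V | IsOpen V ∧ IsCompact V ∧ Z ∩ (U l : Set X) ⊆ V}
  have h𝒮 : ∀ l, ∀ a ∈ 𝒮 l, IsClosed a ∨ (IsOpen a ∧ IsCompact a) := by
    rintro l a (ha | ha)
    · rcases ha with rfl | rfl | rfl
      · exact Or.inr ⟨(U k).2, hUc k⟩
      · exact Or.inr ⟨(U l).2, hUc l⟩
      · exact Or.inl (hWopen l).isClosed_compl
    · exact Or.inr ⟨ha.1, ha.2.1⟩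
  have hx : ∀ l, x ∉ closure (⋂₀ 𝒮 l) := by
    intro l hxl
    obtain ⟨y, hy, hyx⟩ := Groth.Agent.R2.H1.Spectral.exists_specializes_of_mem_closure (𝒮 l) (h𝒮 l) hxl
    have hyk : y ∈ (U k : Set X) := hy _ (Or.inl (Or.inl rfl))
    have hyl : y ∈ (U l : Set X) := hy _ (Or.inl (Or.inr (Or.inl rfl)))
    have hyW : y ∈ (W l)ᶜ := hy _ (Or.inl (Or.inr (Or.inr rfl)))
    obtain ⟨z', ⟨hz'Z, hz'U⟩, hyz'⟩ :=
      Groth.Agent.R2.H1.Spectral.exists_specializes_of_mem_sInter_compactOpens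
        ((hUc l).inter_left hZ) (y := y) (fun V hV1 hV2 hV3 => hy V (Or.inr ⟨hV1, hV2, hV3⟩))
    have hAl : Adm Z U y l := ⟨z', hz'Z, hz'U, hyz'⟩
    have hAk : Adm Z U y k := hk.of_specializes hyx
    exact hyW ⟨hAl.mem, hAk.mem, (germ_eq_of_adm hconn η hη t s hts hcov hAk hAl).symm⟩
  let N₀ : Set X := ⋂ l ∈ K, (closure (⋂₀ 𝒮 l))ᶜ
  have hN₀ : IsOpen N₀ := isOpen_biInter_finset fun l _ => isClosed_closure.isOpen_compl
  refine ⟨U k ⊓ ⟨N₀, hN₀⟩, ⟨hk.mem, Set.mem_iInter₂.2 fun l _ => hx l⟩, inf_le_left, ?_⟩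
  rintro x' ⟨hx'k, hx'N⟩ l hlK hl hk'
  by_contra hne
  have hx'l : x' ∉ closure (⋂₀ 𝒮 l) := Set.mem_iInter₂.1 hx'N l hlK
  apply hx'l
  apply subset_closure
  rintro a (ha | ha)
  · rcases ha with rfl | rfl | rfl
    · exact hx'k
    · exact hl.mem
    · rintro ⟨h, h', e⟩
      exact hne e
  · obtain ⟨z', hz'Z, hz'U, hxz'⟩ := hl
    exact hxz'.mem_open ha.1 (ha.2.2 ⟨hz'Z, hz'U⟩)

omit hts hcov in
include hconn hη in
theorem surjective_app_top (hZ : IsClosed Z) : Function.Surjective (η.hom.app (op ⊤)) := by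
  intro s
  -- local lifts at the points of `Z`, over compact opens
  have h1 : ∀ z : Z, ∃ (U : Opens X) (_ : (z : X) ∈ U) (_ : IsCompact (U : Set X))
      (t : F.obj.obj (op U)), η.hom.app (op U) t = rs G le_top s := by
    intro z
    obtain ⟨V, hzV, hVU, t, ht⟩ := exists_local_lift η z (hη z z.2).2 (Opens.mem_top _) s
    obtain ⟨N, ⟨hN1, hN2⟩, hzN, hNV⟩ :=
      PrespectralSpace.isTopologicalBasis.exists_subset_of_mem_open hzV V.2
    refine ⟨⟨N, hN1⟩, hzN, hN2, rs F (show (⟨N, hN1⟩ : Opens X) ≤ V from hNV) t, ?_⟩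
    rw [app_rs, ht, rs_rs]
  choose U hzU hUc t hts using h1
  -- finite subcover
  obtain ⟨K, hK⟩ := hZ.isCompact.elim_finite_subcover (fun z : Z => (U z : Set X)) (fun z => (U z).2)
    (fun z hz => Set.mem_iUnion.2 ⟨⟨z, hz⟩, hzU _⟩)
  have hcov : ∀ z ∈ Z, ∃ k, z ∈ U k := fun z hz => ⟨⟨z, hz⟩, hzU _⟩
  -- an admissible index in `K` for every `x`
  have hadm : ∀ x : X, ∃ k ∈ K, Adm Z U x k := by
    intro x
    obtain ⟨z, hzZ, hzx⟩ := (hconn x).nonempty
    obtain ⟨k, hkK, hzk⟩ := Set.mem_iUnion₂.1 (hK hzZ)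
    exact ⟨k, hkK, z, hzZ, hzk, specializes_iff_mem_closure.2 hzx⟩
  choose k hkK hk using hadm
  have hB := fun x => exists_nhd_germ_eq hconn η hη t s hts hcov hZ hUc K (hk x)
  choose N hxN hNU hN using hB
  -- glue
  let sf : ∀ x : X, F.obj.obj (op (N x)) := fun x => rs F (hNU x) (t (k x))
  have hcompat : TopCat.Presheaf.IsCompatible F.obj N sf := by
    intro x y
    apply TopCat.Presheaf.section_ext F
    intro x' hx'
    have e1 := hN x x' hx'.1 (k x') (hkK x') (hk x') (hNU x hx'.1)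
    have e2 := hN y x' hx'.2 (k x') (hkK x') (hk x') (hNU y hx'.2)
    change F.presheaf.germ (N x ⊓ N y) x' hx' (rs F inf_le_left (rs F (hNU x) (t (k x)))) =
      F.presheaf.germ (N x ⊓ N y) x' hx' (rs F inf_le_right (rs F (hNU y) (t (k y))))
    rw [germ_rs, germ_rs, germ_rs, germ_rs]
    exact e1.symm.trans e2
  obtain ⟨t₀, ht₀, -⟩ := TopCat.Sheaf.existsUnique_gluing' F N ⊤ (fun x => homOfLE le_top)
    (fun x _ => Opens.mem_iSup.2 ⟨x, hxN x⟩) sf hcompat
  refine ⟨t₀, ?_⟩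
  apply TopCat.Sheaf.eq_of_locally_eq' G N ⊤ (fun x => homOfLE le_top)
    (fun x _ => Opens.mem_iSup.2 ⟨x, hxN x⟩)
  intro x
  change rs G le_top (η.hom.app (op ⊤) t₀) = rs G le_top s
  have h2 : rs F le_top t₀ = rs F (hNU x) (t (k x)) := ht₀ x
  rw [← app_rs, h2, app_rs, hts, rs_rs]

include hconn hη in
/-- **Main theorem.** -/
theorem bijective_app_top (hZ : IsClosed Z) : Function.Bijective (η.hom.app (op ⊤)) :=
  ⟨injective_app_top Z hconn η hη, surjective_app_top hconn η hη hZ⟩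

end Main

end Groth.Agent.R2.H1.SpectralSections
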