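import Mathlib
import Groth.Agent.R2.H1ExtLoc

/-!
# Base change for `Ext`-groups along an exact functor: the abstract five-lemma core (helper70)

Setting: an exact functor `G : C ⥤ C'` of abelian categories, coefficient objects `K` (a ring `A` acts)
and `K'` (an `A`-algebra `A'` acts), an `(A, A')`-module `N` and a pairing `θ : N → Hom(G K.F, K'.F)`
compatible with the actions.  Then there are natural maps
`bc Y k : N ⊗[A] Ext^k(Y, K.F) → Ext^k(G Y, K'.F)`, `n ⊗ x ↦ G(x) ≫ θ n`, and for `N` flat over `A` the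
class of objects `Y` for which all `bc Y k` are bijective is closed under "two out of three" in short
exact sequences.  (For `N = A' = B` flat over `A` this is the formal part of flat base change.)
-/

set_option autoImplicit false
set_option linter.unusedSectionVars false
universe w w' v v' u u'
open CategoryTheory CategoryTheory.Limits Abelian TensorProduct

namespace Groth.Agent.R2.H70.BC

open Groth.Agent.R2.H1.ExtLoc

section Alg

variable {M₃ M₄ M₅ N₃ N₄ N₅ : Type*}
  [AddCommGroup M₃] [AddCommGroup M₄] [AddCommGroup M₅]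
  [AddCommGroup N₃] [AddCommGroup N₄] [AddCommGroup N₅]

/-- a left exact variant of the five lemma -/
lemma bijective_of_left_exact (f₃ : M₃ →+ M₄) (f₄ : M₄ →+ M₅) (g₃ : N₃ →+ N₄) (g₄ : N₄ →+ N₅)
    (i₃ : M₃ →+ N₃) (i₄ : M₄ →+ N₄) (i₅ : M₅ →+ N₅)
    (hc₃ : ∀ x, g₃ (i₃ x) = i₄ (f₃ x)) (hc₄ : ∀ x, g₄ (i₄ x) = i₅ (f₄ x))
    (hf : Function.Injective f₃) (hf₃ : Function.Exact f₃ f₄)
    (hg : Function.Injective g₃) (hg₃ : Function.Exact g₃ g₄)
    (h₄ : Function.Bijective i₄) (h₅ : Function.Injective i₅) : Function.Bijective i₃ := by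
  constructor
  · rw [injective_iff_map_eq_zero]
    intro x hx
    apply hf
    apply h₄.1
    rw [← hc₃, hx, map_zero, map_zero, map_zero]
  · intro y
    obtain ⟨z, hz⟩ := h₄.2 (g₃ y)
    have h1 : f₄ z = 0 := by
      apply h₅
      rw [← hc₄, hz, map_zero]
      exact hg₃.apply_apply_eq_zero y
    obtain ⟨x, rfl⟩ := (hf₃ z).1 h1
    refine ⟨x, hg ?_⟩
    rw [hc₃, hz]

/-- another left exact variant of the five lemma -/
lemma bijective_of_left_exact' {M₂ N₂ : Type*} [AddCommGroup M₂] [AddCommGroup N₂]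
    (f₂ : M₂ →+ M₃) (f₃ : M₃ →+ M₄) (f₄ : M₄ →+ M₅) (g₂ : N₂ →+ N₃) (g₃ : N₃ →+ N₄) (g₄ : N₄ →+ N₅)
    (i₂ : M₂ →+ N₂) (i₃ : M₃ →+ N₃) (i₄ : M₄ →+ N₄) (i₅ : M₅ →+ N₅)
    (hc₂ : ∀ x, g₂ (i₂ x) = i₃ (f₂ x)) (hc₃ : ∀ x, g₃ (i₃ x) = i₄ (f₃ x))
    (hc₄ : ∀ x, g₄ (i₄ x) = i₅ (f₄ x))
    (hf₂ : Function.Exact f₂ f₃) (hf₃ : Function.Exact f₃ f₄)
    (hg : Function.Injective g₂) (hg₂ : Function.Exact g₂ g₃) (hg₃ : Function.Exact g₃ g₄)
    (h₂ : Function.Bijective i₂) (h₄ : Function.Bijective i₄) (h₅ : Function.Injective i₅) :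
    Function.Bijective i₃ := by
  constructor
  · rw [injective_iff_map_eq_zero]
    intro x hx
    have h1 : f₃ x = 0 := by
      apply h₄.1
      rw [← hc₃, hx, map_zero, map_zero]
    obtain ⟨y, rfl⟩ := (hf₂ x).1 h1
    have h2 : i₂ y = 0 := by
      apply hg
      rw [hc₂, hx, map_zero]
    have h3 : y = 0 := h₂.1 (by rw [h2, map_zero])
    rw [h3, map_zero]
  · intro y
    obtain ⟨z, hz⟩ := h₄.2 (g₃ y)
    have h1 : f₄ z = 0 := by
      apply h₅
      rw [← hc₄, hz, map_zero]
      exact hg₃.apply_apply_eq_zero y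
    obtain ⟨x, rfl⟩ := (hf₃ z).1 h1
    have h2 : g₃ (y - i₃ x) = 0 := by rw [map_sub, hc₃, hz, sub_self]
    obtain ⟨w, hw⟩ := (hg₂ _).1 h2
    obtain ⟨v, rfl⟩ := h₂.2 w
    refine ⟨x + f₂ v, ?_⟩
    rw [map_add, ← hc₂, hw]
    abel

end Alg

variable {C : Type u} [Category.{v} C] [Abelian C] [HasExt.{w} C]
variable {C' : Type u'} [Category.{v'} C'] [Abelian C'] [HasExt.{w'} C']
variable (G : C ⥤ C') [G.Additive] [PreservesFiniteLimits G] [PreservesFiniteColimits G]
variable {A A' : Type*} [CommRing A] [CommRing A'] [Algebra A A']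
variable (N : Type*) [AddCommGroup N] [Module A N] [Module A' N] [IsScalarTower A A' N]
variable (K : Coeff C A) (K' : Coeff C' A')

/-- the pairing datum -/
structure Pairing where
  /-- the pairing -/
  θ : N →+ (G.obj K.F ⟶ K'.F)
  θ_smul : ∀ (a : A) (n : N), θ (a • n) = G.map (K.ρ a) ≫ θ n
  θ_smul' : ∀ (a' : A') (n : N), θ (a' • n) = θ n ≫ K'.ρ a'

variable {G N K K'} (D : Pairing G N K K')

/-- `x ↦ G(x) ≫ θ n` on `Ext`-classes -/
noncomputable def bcFun (Y : C) (k : ℕ) (n : N) (x : ExtR K Y k) : ExtR K' (G.obj Y) k :=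
  ExtR.mk ((x.out.mapExactFunctor G).comp (Ext.mk₀ (D.θ n)) (add_zero k))

lemma bcFun_add_right (Y : C) (k : ℕ) (n : N) (x y : ExtR K Y k) :
    bcFun D Y k n (x + y) = bcFun D Y k n x + bcFun D Y k n y := by
  unfold bcFun
  rw [ExtR.out_add, Ext.mapExactFunctor_add, Ext.add_comp]
  rfl

lemma bcFun_add_left (Y : C) (k : ℕ) (n n' : N) (x : ExtR K Y k) :
    bcFun D Y k (n + n') x = bcFun D Y k n x + bcFun D Y k n' x := by
  unfold bcFun
  rw [map_add, Ext.mk₀_add, Ext.comp_add]
  rfl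

lemma bcFun_zero_right (Y : C) (k : ℕ) (n : N) : bcFun D Y k n (0 : ExtR K Y k) = 0 := by
  unfold bcFun
  rw [ExtR.out_zero, Ext.mapExactFunctor_zero, Ext.zero_comp]
  rfl

lemma bcFun_zero_left (Y : C) (k : ℕ) (x : ExtR K Y k) : bcFun D Y k (0 : N) x = 0 := by
  unfold bcFun
  rw [map_zero, Ext.mk₀_zero, Ext.comp_zero]
  rfl

lemma bcFun_smul (Y : C) (k : ℕ) (a : A) (n : N) (x : ExtR K Y k) :
    bcFun D Y k (a • n) x = bcFun D Y k n (a • x) := by
  unfold bcFun
  rw [D.θ_smul, smul_def, ExtR.out_mk, Ext.mapExactFunctor_comp, Ext.mapExactFunctor_mk₀,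
    ← Ext.mk₀_comp_mk₀, Ext.comp_assoc _ _ _ (add_zero k) (add_zero 0) (by omega)]

lemma bcFun_smul' (Y : C) (k : ℕ) (a' : A') (n : N) (x : ExtR K Y k) :
    bcFun D Y k (a' • n) x = a' • bcFun D Y k n x := by
  unfold bcFun
  rw [D.θ_smul', smul_def, ExtR.out_mk, ← Ext.mk₀_comp_mk₀,
    Ext.comp_assoc _ _ _ (add_zero k) (add_zero 0) (by omega)]

/-- the base change map `N ⊗[A] Ext^k(Y, K.F) → Ext^k(G Y, K'.F)` -/
noncomputable def bc (Y : C) (k : ℕ) : N ⊗[A] ExtR K Y k →+ ExtR K' (G.obj Y) k :=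
  TensorProduct.liftAddHom
    (AddMonoidHom.mk' (fun n => AddMonoidHom.mk' (bcFun D Y k n) (bcFun_add_right D Y k n))
      (fun n n' => by
        ext x
        exact bcFun_add_left D Y k n n' x))
    (fun a n x => bcFun_smul D Y k a n x)

@[simp]
lemma bc_tmul (Y : C) (k : ℕ) (n : N) (x : ExtR K Y k) : bc D Y k (n ⊗ₜ x) = bcFun D Y k n x := rfl

/-- `bc` is `A'`-linear -/
lemma bc_smul (Y : C) (k : ℕ) (a' : A') (t : N ⊗[A] ExtR K Y k) :
    bc D Y k (a' • t) = a' • bc D Y k t := by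
  induction t using TensorProduct.induction_on with
  | zero => rw [smul_zero, map_zero, smul_zero]
  | tmul n x => rw [TensorProduct.smul_tmul', bc_tmul, bc_tmul, bcFun_smul']
  | add t t' h h' => rw [smul_add, map_add, map_add, smul_add, h, h']

/-- `bc` as an `A'`-linear map -/
noncomputable def bcLin (Y : C) (k : ℕ) : N ⊗[A] ExtR K Y k →ₗ[A'] ExtR K' (G.obj Y) k where
  toFun := bc D Y k
  map_add' := map_add _
  map_smul' := bc_smul D Y k

/-- naturality of `bc` with respect to precomposition with an `Ext`-class -/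
lemma bc_pre {Y' Y : C} {m : ℕ} (e : Ext.{w} Y' Y m) {k k' : ℕ} (h : m + k = k')
    (t : N ⊗[A] ExtR K Y k) :
    bc D Y' k' ((pre K e h).lTensor N t) = pre K' (e.mapExactFunctor G) h (bc D Y k t) := by
  induction t using TensorProduct.induction_on with
  | zero => simp
  | tmul n x =>
    rw [LinearMap.lTensor_tmul, bc_tmul, bc_tmul, pre_apply, pre_apply]
    unfold bcFun
    rw [ExtR.out_mk, ExtR.out_mk, Ext.mapExactFunctor_comp,
      Ext.comp_assoc _ _ _ h (add_zero k) (by omega)]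
  | add t t' h1 h2 => rw [map_add, map_add, map_add, map_add, h1, h2]

/-- the objects for which all base change maps are bijective -/
def IsBC (Y : C) : Prop := ∀ k : ℕ, Function.Bijective (bc D Y k)

section LES

variable {T : ShortComplex C} (hT : T.ShortExact)

lemma bc_res_f (k : ℕ) (t : N ⊗[A] ExtR K T.X₂ k) :
    bc D T.X₁ k ((res K T.f k).lTensor N t) = res K' (G.map T.f) k (bc D T.X₂ k t) := by
  have := bc_pre D (Ext.mk₀ T.f) (zero_add k) t
  rwa [Ext.mapExactFunctor_mk₀] at this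

lemma bc_res_g (k : ℕ) (t : N ⊗[A] ExtR K T.X₃ k) :
    bc D T.X₂ k ((res K T.g k).lTensor N t) = res K' (G.map T.g) k (bc D T.X₃ k t) := by
  have := bc_pre D (Ext.mk₀ T.g) (zero_add k) t
  rwa [Ext.mapExactFunctor_mk₀] at this

lemma bc_δ (k : ℕ) (t : N ⊗[A] ExtR K T.X₁ k) :
    bc D T.X₃ (k + 1) ((δ (K := K) hT k).lTensor N t) =
      δ (K := K') (hT.map_of_exact G) k (bc D T.X₁ k t) := by
  have := bc_pre D hT.extClass (add_comm 1 k) t
  rwa [Ext.mapExactFunctor_extClass] at this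

variable [Module.Flat A N]

include hT in
/-- two out of three: third term -/
theorem IsBC.τ₃ (h₁ : IsBC D T.X₁) (h₂ : IsBC D T.X₂) : IsBC D T.X₃ := by
  have hT' := hT.map_of_exact G
  intro k
  cases k with
  | zero =>
    refine bijective_of_left_exact
      ((res K T.g 0).lTensor N).toAddMonoidHom ((res K T.f 0).lTensor N).toAddMonoidHom
      (res K' (G.map T.g) 0).toAddMonoidHom (res K' (G.map T.f) 0).toAddMonoidHom
      (bc D T.X₃ 0) (bc D T.X₂ 0) (bc D T.X₁ 0)
      (fun x => (bc_res_g D 0 x).symm) (fun x => (bc_res_f D 0 x).symm)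
      (Module.Flat.lTensor_preserves_injective_linearMap _ (injective_res_g_zero hT))
      (Module.Flat.lTensor_exact N (exact_res_g_res_f hT 0))
      (injective_res_g_zero (K := K') hT') (exact_res_g_res_f (K := K') hT' 0)
      (h₂ 0) (h₁ 0).1
  | succ m =>
    refine AddMonoidHom.bijective_of_surjective_of_bijective_of_bijective_of_injective
      ((res K T.f m).lTensor N).toAddMonoidHom ((δ (K := K) hT m).lTensor N).toAddMonoidHom
      ((res K T.g (m + 1)).lTensor N).toAddMonoidHom ((res K T.f (m + 1)).lTensor N).toAddMonoidHom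
      (res K' (G.map T.f) m).toAddMonoidHom (δ (K := K') hT' m).toAddMonoidHom
      (res K' (G.map T.g) (m + 1)).toAddMonoidHom (res K' (G.map T.f) (m + 1)).toAddMonoidHom
      (bc D T.X₂ m) (bc D T.X₁ m) (bc D T.X₃ (m + 1)) (bc D T.X₂ (m + 1)) (bc D T.X₁ (m + 1))
      ?_ ?_ ?_ ?_
      (Module.Flat.lTensor_exact N (exact_res_f_δ hT m))
      (Module.Flat.lTensor_exact N (exact_δ_res_g hT m))
      (Module.Flat.lTensor_exact N (exact_res_g_res_f hT (m + 1)))
      (exact_res_f_δ (K := K') hT' m) (exact_δ_res_g (K := K') hT' m)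
      (exact_res_g_res_f (K := K') hT' (m + 1))
      (h₂ m).2 (h₁ m) (h₂ (m + 1)) (h₁ (m + 1)).1
    · ext x; exact (bc_res_f D m x).symm
    · ext x; exact (bc_δ D hT m x).symm
    · ext x; exact (bc_res_g D (m + 1) x).symm
    · ext x; exact (bc_res_f D (m + 1) x).symm

include hT in
/-- two out of three: middle term -/
theorem IsBC.τ₂ (h₁ : IsBC D T.X₁) (h₃ : IsBC D T.X₃) : IsBC D T.X₂ := by
  have hT' := hT.map_of_exact G
  intro k
  cases k with
  | zero =>
    refine bijective_of_left_exact'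
      ((res K T.g 0).lTensor N).toAddMonoidHom ((res K T.f 0).lTensor N).toAddMonoidHom
      ((δ (K := K) hT 0).lTensor N).toAddMonoidHom
      (res K' (G.map T.g) 0).toAddMonoidHom (res K' (G.map T.f) 0).toAddMonoidHom
      (δ (K := K') hT' 0).toAddMonoidHom
      (bc D T.X₃ 0) (bc D T.X₂ 0) (bc D T.X₁ 0) (bc D T.X₃ 1)
      (fun x => (bc_res_g D 0 x).symm) (fun x => (bc_res_f D 0 x).symm)
      (fun x => (bc_δ D hT 0 x).symm)
      (Module.Flat.lTensor_exact N (exact_res_g_res_f hT 0))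
      (Module.Flat.lTensor_exact N (exact_res_f_δ hT 0))
      (injective_res_g_zero (K := K') hT') (exact_res_g_res_f (K := K') hT' 0)
      (exact_res_f_δ (K := K') hT' 0)
      (h₃ 0) (h₁ 0) (h₃ 1).1
  | succ m =>
    refine AddMonoidHom.bijective_of_surjective_of_bijective_of_bijective_of_injective
      ((δ (K := K) hT m).lTensor N).toAddMonoidHom ((res K T.g (m + 1)).lTensor N).toAddMonoidHom
      ((res K T.f (m + 1)).lTensor N).toAddMonoidHom
      ((δ (K := K) hT (m + 1)).lTensor N).toAddMonoidHom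
      (δ (K := K') hT' m).toAddMonoidHom (res K' (G.map T.g) (m + 1)).toAddMonoidHom
      (res K' (G.map T.f) (m + 1)).toAddMonoidHom (δ (K := K') hT' (m + 1)).toAddMonoidHom
      (bc D T.X₁ m) (bc D T.X₃ (m + 1)) (bc D T.X₂ (m + 1)) (bc D T.X₁ (m + 1))
      (bc D T.X₃ (m + 1 + 1))
      ?_ ?_ ?_ ?_
      (Module.Flat.lTensor_exact N (exact_δ_res_g hT m))
      (Module.Flat.lTensor_exact N (exact_res_g_res_f hT (m + 1)))
      (Module.Flat.lTensor_exact N (exact_res_f_δ hT (m + 1)))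
      (exact_δ_res_g (K := K') hT' m) (exact_res_g_res_f (K := K') hT' (m + 1))
      (exact_res_f_δ (K := K') hT' (m + 1))
      (h₁ m).2 (h₃ (m + 1)) (h₁ (m + 1)) (h₃ (m + 1 + 1)).1
    · ext x; exact (bc_δ D hT m x).symm
    · ext x; exact (bc_res_g D (m + 1) x).symm
    · ext x; exact (bc_res_f D (m + 1) x).symm
    · ext x; exact (bc_δ D hT (m + 1) x).symm

end LES

section MV

variable [Module.Flat A N]

/-- stability under binary biproducts -/
theorem IsBC.biprod {Y₁ Y₂ : C} (h₁ : IsBC D Y₁) (h₂ : IsBC D Y₂) : IsBC D (Y₁ ⊞ Y₂) := by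
  let T : ShortComplex C := ShortComplex.mk (biprod.inl : Y₁ ⟶ Y₁ ⊞ Y₂) biprod.snd (by simp)
  have hT : T.ShortExact := (ShortComplex.Splitting.ofHasBinaryBiproduct Y₁ Y₂).shortExact
  exact IsBC.τ₂ D hT h₁ h₂

/-- Mayer–Vietoris form of two out of three -/
theorem IsBC.of_mv {Y₁ Y₂ Y₃ Y₄ : C} (a : Y₁ ⟶ Y₂) (b : Y₁ ⟶ Y₃) (c : Y₂ ⟶ Y₄) (d : Y₃ ⟶ Y₄)
    (w : biprod.lift a (-b) ≫ biprod.desc c d = 0)
    (hT : (ShortComplex.mk (biprod.lift a (-b)) (biprod.desc c d) w).ShortExact)
    (h₁ : IsBC D Y₁) (h₂ : IsBC D Y₂) (h₃ : IsBC D Y₃) : IsBC D Y₄ :=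
  IsBC.τ₃ D hT h₁ (IsBC.biprod D h₂ h₃)

/-- transport along an isomorphism -/
theorem IsBC.of_iso {Y Y' : C} (e : Y ≅ Y') (h : IsBC D Y) : IsBC D Y' := by
  intro k
  have h1 : ∀ t, bc D Y k ((res K e.hom k).lTensor N t) = res K' (G.map e.hom) k (bc D Y' k t) := by
    intro t
    have := bc_pre D (Ext.mk₀ e.hom) (zero_add k) t
    rwa [Ext.mapExactFunctor_mk₀] at this
  have hres : Function.Bijective (res K e.hom k) := by
    refine Function.bijective_iff_has_inverse.2 ⟨res K e.inv k, fun x => ?_, fun x => ?_⟩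
    · have := LinearMap.congr_fun (res_comp K e.inv e.hom k) x
      rw [e.inv_hom_id, res_id] at this
      exact this.symm
    · have := LinearMap.congr_fun (res_comp K e.hom e.inv k) x
      rw [e.hom_inv_id, res_id] at this
      exact this.symm
  have hres' : Function.Bijective (res K' (G.map e.hom) k) := by
    refine Function.bijective_iff_has_inverse.2 ⟨res K' (G.map e.inv) k, fun x => ?_, fun x => ?_⟩
    · have := LinearMap.congr_fun (res_comp K' (G.map e.inv) (G.map e.hom) k) x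
      rw [← G.map_comp, e.inv_hom_id, G.map_id, res_id] at this
      exact this.symm
    · have := LinearMap.congr_fun (res_comp K' (G.map e.hom) (G.map e.inv) k) x
      rw [← G.map_comp, e.hom_inv_id, G.map_id, res_id] at this
      exact this.symm
  have hl : Function.Bijective ((res K e.hom k).lTensor N) := by
    refine Function.bijective_iff_has_inverse.2 ⟨(res K e.inv k).lTensor N, fun x => ?_, fun x => ?_⟩
    · have h2 : (res K e.inv k).comp (res K e.hom k) = LinearMap.id := by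
        rw [← res_comp, e.inv_hom_id, res_id]
      have := LinearMap.congr_fun (LinearMap.lTensor_comp N (res K e.inv k) (res K e.hom k)) x
      rw [h2, LinearMap.lTensor_id] at this
      exact this.symm
    · have h2 : (res K e.hom k).comp (res K e.inv k) = LinearMap.id := by
        rw [← res_comp, e.hom_inv_id, res_id]
      have := LinearMap.congr_fun (LinearMap.lTensor_comp N (res K e.hom k) (res K e.inv k)) x
      rw [h2, LinearMap.lTensor_id] at this
      exact this.symm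
  have key : ⇑(bc D Y' k) = (Function.invFun (res K' (G.map e.hom) k)) ∘ (bc D Y k) ∘
      ((res K e.hom k).lTensor N) := by
    funext t
    simp only [Function.comp_apply]
    rw [h1]
    exact (Function.leftInverse_invFun hres'.1 _).symm
  rw [key]
  have hinv : Function.Bijective (Function.invFun (res K' (G.map e.hom) k)) :=
    ⟨(Function.rightInverse_invFun hres'.2).injective,
      (Function.invFun_surjective hres'.1)⟩
  exact hinv.comp ((h k).comp hl)

end MV

end Groth.Agent.R2.H70.BC
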