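import Mathlib
import Groth.Agent.R2.H70BCExt
import Groth.Agent.R2.H1CohLoc
import Groth.Agent.R2.H70EdgeLin
import Groth.Agent.Lib.Helper13QcqsBC
import Groth.Agent.Lib.Helper23QCohLocal
import Groth.Agent.Lib.Helper2PullbackSec
import Groth.Agent.Lib.Helper23AffVanish7

/-!
# Flat base change for the cohomology of quasi-coherent modules over an affine base (helper70)

Geometric part: for a pullback square `X' = X ×_A B` with `A → B` flat, `X` qcqs and `M` quasi-coherent,
`B ⊗_A Ext^k(ℤ_U, M) → Ext^k(ℤ_U, g'_* g'^* M)` is bijective for all quasi-compact opens `U` (Mayer–Vietoris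
induction from the affine case), hence `B ⊗_A H^k(X, M) ≃ H^k(X, g'_* g'^* M) ≃ H^k(X', g'^* M)`.
-/

set_option autoImplicit false
set_option linter.style.haveILetI false
universe u
open CategoryTheory CategoryTheory.Limits Opposite TopologicalSpace AlgebraicGeometry Abelian TensorProduct

namespace Groth.Agent.R2.H70.BC

open Groth.Agent.Lib.Helper23.AffVanish Groth.Agent.Lib.Helper6 Groth.Agent.R2.H1.ExtLoc
  Groth.Agent.R2.H1.CohLoc

section Abstract

universe w v u₁ w' v' u'
variable {C : Type u₁} [Category.{v} C] [Abelian C] [HasExt.{w} C]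
variable {C' : Type u'} [Category.{v'} C'] [Abelian C'] [HasExt.{w'} C']
variable (G : C ⥤ C') [G.Additive] [PreservesFiniteLimits G] [PreservesFiniteColimits G]
variable {A A' : Type*} [CommRing A] [CommRing A'] [Algebra A A']
variable {K : Coeff C A} {K' : Coeff C' A'}

/-- a pairing from a semilinear morphism -/
noncomputable def Pairing.ofHom (θ : G.obj K.F ⟶ K'.F)
    (hθ : ∀ a : A, G.map (K.ρ a) ≫ θ = θ ≫ K'.ρ (algebraMap A A' a)) : Pairing G A' K K' where
  θ :=
    { toFun := fun b => θ ≫ K'.ρ b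
      map_zero' := by rw [map_zero]; exact comp_zero
      map_add' := fun b b' => by rw [map_add]; exact Preadditive.comp_add _ _ _ _ _ _ }
  θ_smul a b := by
    change θ ≫ K'.ρ (a • b) = G.map (K.ρ a) ≫ θ ≫ K'.ρ b
    rw [← Category.assoc, hθ, Category.assoc, Algebra.smul_def, mul_comm, map_mul, End.mul_def]
  θ_smul' b' b := by
    change θ ≫ K'.ρ (b' • b) = (θ ≫ K'.ρ b) ≫ K'.ρ b'
    rw [smul_eq_mul, map_mul, End.mul_def, Category.assoc]

/-- the image of a coefficient object under an additive functor -/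
noncomputable abbrev coeffMap {C₁ : Type u₁} [Category.{v} C₁] [Abelian C₁] {C₂ : Type u'} [Category.{v'} C₂]
    [Abelian C₂] (Φ : C₁ ⥤ C₂) [Φ.Additive] {R : Type*} [CommRing R] (K : Coeff C₁ R) : Coeff C₂ R where
  F := Φ.obj K.F
  ρ :=
    { toFun := fun r => Φ.map (K.ρ r)
      map_one' := by rw [map_one]; exact Φ.map_id _
      map_mul' := fun r s => by rw [map_mul, End.mul_def, Φ.map_comp]; rfl
      map_zero' := by rw [map_zero]; exact Φ.map_zero _ _
      map_add' := fun r s => by rw [map_add]; exact Φ.map_add }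

end Abstract

section Geom

variable {A B : Type u} [CommRing A] [CommRing B] [Algebra A B]
variable {X X' : Scheme.{u}} (p : X ⟶ Spec (CommRingCat.of A)) (p' : X' ⟶ Spec (CommRingCat.of B))
  (g' : X' ⟶ X)

/-- `M` with the action of `A` through `p` -/
noncomputable abbrev coeffOver (M : X.Modules) : Coeff (CohTop.Ab X.carrier) A where
  F := ab' M
  ρ := (coeff M).ρ.comp (show A →+* Γ(X, ⊤) from Coh.toGlobal p)

lemma coeffOver_ρ (M : X.Modules) (a : A) :
    (coeffOver p M).ρ a = Coh.smulAb M (Coh.toGlobal p a) := rfl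

/-- `g'_* M'` with the action of `B` through `p'` -/
noncomputable abbrev coeffPush (M' : X'.Modules) : Coeff (CohTop.Ab X.carrier) B :=
  coeffMap (CohTop.push g'.base) (coeffOver p' M')

lemma coeffPush_ρ (M' : X'.Modules) (b : B) :
    (coeffPush p' g' M').ρ b = (CohTop.push g'.base).map (Coh.smulAb M' (Coh.toGlobal p' b)) := rfl

/-- morphisms of modules commute with multiplication by global functions -/
lemma smulAb_naturality {M N : X.Modules} (φ : M ⟶ N) (r : Coh.Γtop X) :
    Coh.smulAb M r ≫ (SheafOfModules.toSheaf X.ringCatSheaf).map φ =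
      (SheafOfModules.toSheaf X.ringCatSheaf).map φ ≫ Coh.smulAb N r := by
  ext U m
  change (φ.val.app U).hom (@HSMul.hSMul (X.ringCatSheaf.obj.obj U) (M.val.obj U) (M.val.obj U) _
      (Coh.resTop X U r) m) =
    @HSMul.hSMul (X.ringCatSheaf.obj.obj U) (N.val.obj U) (N.val.obj U) _ (Coh.resTop X U r)
      ((φ.val.app U).hom m)
  exact (φ.val.app U).hom.map_smul _ _

lemma toGlobal_comp_specMap (a : A) :
    Coh.toGlobal (p' ≫ Spec.map (CommRingCat.ofHom (algebraMap A B))) a =
      Coh.toGlobal p' (algebraMap A B a) := by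
  have := Scheme.ΓSpecIso_inv_naturality (CommRingCat.ofHom (algebraMap A B))
  have h2 := (congrArg (fun t => t.hom a) this).symm
  simp only [Coh.toGlobal, Scheme.Hom.comp_appTop, CommRingCat.hom_comp]
  exact congrArg (fun t => p'.appTop.hom t) h2

/-- the unit `M ⟶ g'_* g'^* M` on abelian sheaves -/
noncomputable def unitAb (M : X.Modules) :
    ab' M ⟶ (CohTop.push g'.base).obj (ab' ((Scheme.Modules.pullback g').obj M)) :=
  (SheafOfModules.toSheaf X.ringCatSheaf).map
    ((Scheme.Modules.pullbackPushforwardAdjunction g').unit.app M)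

variable {p p' g'}

lemma unitAb_semilinear (hw : g' ≫ p = p' ≫ Spec.map (CommRingCat.ofHom (algebraMap A B)))
    (M : X.Modules) (a : A) :
    (coeffOver p M).ρ a ≫ unitAb g' M =
      unitAb g' M ≫ (coeffPush p' g' ((Scheme.Modules.pullback g').obj M)).ρ (algebraMap A B a) := by
  rw [coeffOver_ρ, coeffPush_ρ, ← toGlobal_comp_specMap, ← hw, Edge.toGlobal_comp, Edge.push_map_smulAb]
  exact smulAb_naturality _ _

/-- the base change pairing `b ↦ (M → g'_* g'^* M → g'_* g'^* M)`, unit then multiplication by `b` -/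
noncomputable def pairing (hw : g' ≫ p = p' ≫ Spec.map (CommRingCat.ofHom (algebraMap A B)))
    (M : X.Modules) :
    Pairing (𝟭 (CohTop.Ab X.carrier)) B (coeffOver p M)
      (coeffPush p' g' ((Scheme.Modules.pullback g').obj M)) :=
  Pairing.ofHom (𝟭 (CohTop.Ab X.carrier)) (unitAb g' M) (unitAb_semilinear hw M)

variable (hw : g' ≫ p = p' ≫ Spec.map (CommRingCat.ofHom (algebraMap A B))) (M : X.Modules)

/-- the base change property for an open `U`: all maps
`B ⊗_A Ext^k(ℤ_U, M) → Ext^k(ℤ_U, g'_* g'^* M)` are bijective -/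
def BCAt (U : X.Opens) : Prop := IsBC (pairing hw M) (ZU U)

/-- Mayer–Vietoris step -/
theorem bcAt_sup [Module.Flat A B] {U V : X.Opens} (hU : BCAt hw M U) (hV : BCAt hw M V)
    (hUV : BCAt hw M (U ⊓ V)) : BCAt hw M (U ⊔ V) :=
  IsBC.of_mv (pairing hw M)
    (CohCx.freeSheafMap (J X.carrier) (homOfLE (inf_le_left : U ⊓ V ≤ U)))
    (CohCx.freeSheafMap (J X.carrier) (homOfLE (inf_le_right : U ⊓ V ≤ V)))
    (CohCx.freeSheafMap (J X.carrier) (homOfLE (le_sup_left : U ≤ U ⊔ V)))
    (CohCx.freeSheafMap (J X.carrier) (homOfLE (le_sup_right : V ≤ U ⊔ V)))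
    (mvSquare U V (U ⊔ V) le_sup_left le_sup_right le_rfl).shortComplex.zero
    (mvSquare U V (U ⊔ V) le_sup_left le_sup_right le_rfl).shortComplex_shortExact
    hUV hU hV

section Affine

variable (p) in
/-- the structure map `A → Γ(X, U)` -/
noncomputable def toSec (U : X.Opens) : A →+* Γ(X, U) :=
  (X.presheaf.map (homOfLE (le_top : U ≤ ⊤)).op).hom.comp
    (show A →+* Γ(X, ⊤) from Coh.toGlobal p)

lemma toSec_apply (U : X.Opens) (a : A) :
    toSec p U a = resf (le_top : U ≤ ⊤) (show Γ(X, ⊤) from Coh.toGlobal p a) := rfl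

lemma isPushout_sections
    (h : IsPullback g' p' p (Spec.map (CommRingCat.ofHom (algebraMap A B))))
    {U : X.Opens} (hU : IsAffineOpen U) :
    IsPushout (CommRingCat.ofHom (algebraMap A B)) (CommRingCat.ofHom (toSec p U))
      (CommRingCat.ofHom (toSec p' (g' ⁻¹ᵁ U)))
      (g'.appLE U (g' ⁻¹ᵁ U) le_rfl) := by
  have hUY : g' ⁻¹ᵁ U = g' ⁻¹ᵁ U ⊓ p' ⁻¹ᵁ ⊤ := by simp
  have h1 := (isIso_pushoutSection_iff h (US := ⊤) (UT := ⊤) (UX := U) (by simp) (by simp) hUY).1
    (isIso_pushoutSection_of_isAffineOpen h (by simp) (by simp) hUY (isAffineOpen_top _)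
      (isAffineOpen_top _) hU)
  refine IsPushout.of_iso h1.flip (Scheme.ΓSpecIso (.of A)) (Scheme.ΓSpecIso (.of B)) (Iso.refl _)
    (Iso.refl _) ?_ ?_ ?_ ?_
  · have := Scheme.ΓSpecIso_naturality (CommRingCat.ofHom (algebraMap A B))
    refine Eq.trans ?_ this
    congr 1
  · rw [Iso.refl_hom, Category.comp_id]
    have e : CommRingCat.ofHom (toSec p U) = (Scheme.ΓSpecIso (.of A)).inv ≫ p.appTop ≫
        X.presheaf.map (homOfLE (le_top : U ≤ ⊤)).op := rfl
    rw [e, Iso.hom_inv_id_assoc]
    rfl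
  · rw [Iso.refl_hom, Category.comp_id]
    have e : CommRingCat.ofHom (toSec p' (g' ⁻¹ᵁ U)) = (Scheme.ΓSpecIso (.of B)).inv ≫ p'.appTop ≫
        X'.presheaf.map (homOfLE (le_top : g' ⁻¹ᵁ U ≤ ⊤)).op := rfl
    rw [e, Iso.hom_inv_id_assoc]
    rfl
  · rw [Iso.refl_hom, Iso.refl_hom, Category.comp_id, Category.id_comp]

variable (p) in
/-- degree zero classes with coefficients in `M` are sections -/
noncomputable def h0M (M : X.Modules) (U : X.Opens) :
    ExtR (coeffOver p M) (ZU U) 0 ≃+ Γ(M, U) := h0F' M U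

lemma h0M_smul (M : X.Modules) (U : X.Opens) (a : A) (x : ExtR (coeffOver p M) (ZU U) 0) :
    h0M p M U (a • x) = toSec p U a • h0M p M U x :=
  h0R_smul M U (show Γ(X, ⊤) from Coh.toGlobal p a) x

lemma h0M_mk₀ (M : X.Modules) (U : X.Opens) (ψ : ZU U ⟶ ab' M) :
    h0M p M U (ExtR.mk (Ext.mk₀ ψ)) = CohFree.evalGen (J X.carrier) U (ab' M) ψ := by
  change CohFree.evalGen (J X.carrier) U (ab' M) (Ext.addEquiv₀ (Ext.mk₀ ψ)) = _
  rw [addEquiv₀_mk₀]

variable (p' g') in
/-- degree zero classes with coefficients in `g'_* M'` are sections of `M'` over the preimage -/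
noncomputable def h0P (M' : X'.Modules) (U : X.Opens) :
    ExtR (coeffPush p' g' M') (ZU U) 0 ≃+ Γ(M', g' ⁻¹ᵁ U) :=
  h0Equiv ((CohTop.push g'.base).obj (ab' M')) U

lemma h0P_mk₀ (M' : X'.Modules) (U : X.Opens) (ψ : ZU U ⟶ (CohTop.push g'.base).obj (ab' M')) :
    h0P p' g' M' U (ExtR.mk (Ext.mk₀ ψ)) =
      CohFree.evalGen (J X.carrier) U ((CohTop.push g'.base).obj (ab' M')) ψ := by
  change CohFree.evalGen (J X.carrier) U _ (Ext.addEquiv₀ (Ext.mk₀ ψ)) = _
  rw [addEquiv₀_mk₀]

lemma h0P_smul (M' : X'.Modules) (U : X.Opens) (b : B)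
    (y : ExtR (coeffPush p' g' M') (ZU U) 0) :
    h0P p' g' M' U (b • y) = toSec p' (g' ⁻¹ᵁ U) b • h0P p' g' M' U y := by
  obtain ⟨ψ, hψ⟩ := (Ext.mk₀_bijective (ZU U) ((CohTop.push g'.base).obj (ab' M'))).2 (ExtR.out y)
  have hy : y = ExtR.mk (K := coeffPush p' g' M') (Ext.mk₀ ψ) := ExtR.ext_out hψ.symm
  subst hy
  have e1 := h0P_mk₀ (p' := p') M' U (ψ ≫ (coeffPush p' g' M').ρ b)
  have e2 := h0P_mk₀ (p' := p') M' U ψ
  rw [smul_def, ExtR.out_mk, Ext.mk₀_comp_mk₀]
  refine e1.trans (Eq.trans ?_ (congrArg (fun t => toSec p' (g' ⁻¹ᵁ U) b • t) e2.symm))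
  exact Coh.smulAb_app M' (Coh.toGlobal p' b) (op (g' ⁻¹ᵁ U)) _

lemma isAffineHom_of_isPullback
    (h : IsPullback g' p' p (Spec.map (CommRingCat.ofHom (algebraMap A B)))) : IsAffineHom g' :=
  MorphismProperty.of_isPullback h.flip (inferInstance : IsAffineHom (Spec.map _))

open Groth.Agent.Helper13FlatMV Groth.Agent.Helper13PullbackUnit in
/-- the affine base case in degree zero -/
theorem bc_zero_bijective_of_isAffineOpen
    (h : IsPullback g' p' p (Spec.map (CommRingCat.ofHom (algebraMap A B))))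
    (M : X.Modules) [M.IsQuasicoherent] {U : X.Opens} (hU : IsAffineOpen U) :
    Function.Bijective (bc (pairing h.w M) (ZU U) 0) := by
  haveI := isAffineHom_of_isPullback h
  have hV' : IsAffineOpen (g' ⁻¹ᵁ U) := hU.preimage g'
  let M' := (Scheme.Modules.pullback g').obj M
  let E := ExtR (coeffOver p M) (ZU U) 0
  let β : B ⊗[A] E →+ Γ(M', g' ⁻¹ᵁ U) :=
    (h0P p' g' M' U).toAddMonoidHom.comp (bc (pairing h.w M) (ZU U) 0)
  have hβ : Function.Bijective β := by
    refine Groth.Agent.Helper13BCAlg.bijective_of_lifts (algebraMap A B) (toSec p U)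
      (g'.appLE U (g' ⁻¹ᵁ U) le_rfl).hom (toSec p' (g' ⁻¹ᵁ U)) (isPushout_sections h hU)
      (M := Γ(M, U)) (Q := B ⊗[A] E) (Q' := Γ(M', g' ⁻¹ᵁ U))
      ((oneTmul (R := A) (R' := B) (M := E)).comp (h0M p M U).symm.toAddMonoidHom) ?_ ?_
      (unitSec g' M le_rfl) (unitSec_smul g' M le_rfl) ?_ β ?_ ?_
    · intro r m
      change (1 : B) ⊗ₜ[A] (h0M p M U).symm (toSec p U r • m) =
        algebraMap A B r • ((1 : B) ⊗ₜ[A] (h0M p M U).symm m)
      have e : (h0M p M U).symm (toSec p U r • m) = r • (h0M p M U).symm m := by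
        apply (h0M p M U).injective
        rw [h0M_smul, AddEquiv.apply_symm_apply, AddEquiv.apply_symm_apply]
      rw [e]
      exact one_tmul_smul r _
    · intro N _ _ l hl
      obtain ⟨l', hl', huniq⟩ := existsUnique_of_oneTmul (R := A) (R' := B) (M := E) N
        (l.comp (h0M p M U).toAddMonoidHom) (fun r e => by
          change l (h0M p M U (r • e)) = algebraMap A B r • l (h0M p M U e)
          rw [h0M_smul, hl])
      refine ⟨l', fun m => ?_, fun l'' hl'' => huniq l'' (fun e => ?_)⟩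
      · have := hl' ((h0M p M U).symm m)
        change l' (oneTmul ((h0M p M U).symm m)) = l m
        rw [this]
        change l (h0M p M U ((h0M p M U).symm m)) = l m
        rw [AddEquiv.apply_symm_apply]
      · have := hl'' (h0M p M U e)
        change l'' (oneTmul ((h0M p M U).symm (h0M p M U e))) = l (h0M p M U e) at this
        rw [AddEquiv.symm_apply_apply] at this
        exact this
    · intro N _ _ l hl
      exact existsUnique_lift g' M hU hV' le_rfl N l hl
    · intro r' q
      change h0P p' g' M' U (bc (pairing h.w M) (ZU U) 0 (r' • q)) = _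
      rw [bc_smul, h0P_smul]
      rfl
    · intro m
      change h0P p' g' M' U (bc (pairing h.w M) (ZU U) 0 ((1 : B) ⊗ₜ[A] (h0M p M U).symm m)) = _
      rw [bc_tmul]
      obtain ⟨ψ, hψ⟩ := (Ext.mk₀_bijective (ZU U) (ab' M)).2 (ExtR.out ((h0M p M U).symm m))
      have hx : (h0M p M U).symm m = ExtR.mk (K := coeffOver p M) (Ext.mk₀ ψ) :=
        ExtR.ext_out hψ.symm
      have hm : CohFree.evalGen (J X.carrier) U (ab' M) ψ = m := by
        rw [← h0M_mk₀ (p := p), ← hx, AddEquiv.apply_symm_apply]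
      rw [hx]
      unfold bcFun
      rw [ExtR.out_mk, Ext.mapExactFunctor_mk₀, Ext.mk₀_comp_mk₀]
      refine (h0P_mk₀ (p' := p') M' U _).trans ?_
      have hθ : (pairing h.w M).θ 1 = unitAb g' M := by
        change unitAb g' M ≫ (coeffPush p' g' M').ρ 1 = _
        rw [map_one]
        exact Category.comp_id _
      rw [hθ]
      change ((unitAb g' M).hom.app (op U)).hom (CohFree.evalGen (J X.carrier) U (ab' M) ψ) = _
      rw [hm, unitSec_apply]
      exact (Groth.Agent.Helper13QcqsBC.res_self _ _).symm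
  exact (Function.Bijective.of_comp_iff' (h0P p' g' M' U).bijective _).1 hβ

lemma subsingleton_tensor {R : Type*} [CommRing R] (P Q : Type*) [AddCommGroup P] [AddCommGroup Q]
    [Module R P] [Module R Q] [Subsingleton Q] : Subsingleton (P ⊗[R] Q) := by
  refine ⟨fun x y => ?_⟩
  have h0 : ∀ z : P ⊗[R] Q, z = 0 := by
    intro z
    induction z using TensorProduct.induction_on with
    | zero => rfl
    | tmul a b => rw [Subsingleton.elim b 0, TensorProduct.tmul_zero]
    | add a b ha hb => rw [ha, hb, add_zero]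
  rw [h0 x, h0 y]

/-- the affine base case -/
theorem bcAt_of_isAffineOpen
    (h : IsPullback g' p' p (Spec.map (CommRingCat.ofHom (algebraMap A B))))
    (M : X.Modules) [M.IsQuasicoherent] {U : X.Opens} (hU : IsAffineOpen U) : BCAt h.w M U := by
  intro k
  cases k with
  | zero => exact bc_zero_bijective_of_isAffineOpen h M hU
  | succ i =>
    haveI := isAffineHom_of_isPullback h
    haveI : ((Scheme.Modules.pullback g').obj M).IsQuasicoherent :=
      Groth.Agent.Lib.Helper2.PullbackSec.isQuasicoherent_pullback g' M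
    haveI : ((Scheme.Modules.pushforward g').obj
        ((Scheme.Modules.pullback g').obj M)).IsQuasicoherent :=
      Groth.Agent.Lib.Helper23.QCohLocal.isQuasicoherent_pushforward g' _
    haveI s1 : Subsingleton (ExtR (coeffOver p M) (ZU U) (i + 1)) :=
      subsingleton_HE_of_isAffineOpen hU M i
    haveI s2 : Subsingleton (ExtR (coeffPush p' g' ((Scheme.Modules.pullback g').obj M))
        ((𝟭 (CohTop.Ab X.carrier)).obj (ZU U)) (i + 1)) :=
      subsingleton_HE_of_isAffineOpen hU
        ((Scheme.Modules.pushforward g').obj ((Scheme.Modules.pullback g').obj M)) i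
    haveI s3 : Subsingleton (B ⊗[A] ExtR (coeffOver p M) (ZU U) (i + 1)) :=
      subsingleton_tensor _ _
    exact ⟨fun x y _ => Subsingleton.elim x y, fun y => ⟨0, Subsingleton.elim _ _⟩⟩

/-- the base change property holds on all quasi-compact opens -/
theorem bcAt_of_isCompact [Module.Flat A B] [CompactSpace X] [QuasiSeparatedSpace X]
    (h : IsPullback g' p' p (Spec.map (CommRingCat.ofHom (algebraMap A B))))
    (M : X.Modules) [M.IsQuasicoherent] (U : X.Opens) (hU : IsCompact (U : Set X)) :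
    BCAt h.w M U :=
  Groth.Agent.S0015.result X (BCAt h.w M) (fun _ hU => bcAt_of_isAffineOpen h M hU)
    (fun _ _ _ _ hU hV hUV => bcAt_sup h.w M hU hV hUV) U hU

end Affine

end Geom

end Groth.Agent.R2.H70.BC
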