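import Mathlib
import Groth.Agent.R2.H70BCGeom

/-!
# Flat base change over an affine base: the final isomorphism (helper70)

`nonempty_linearEquiv`: for `A → B` flat, `X` qcqs over `A`, `X' = X ×_A B` and `M` quasi-coherent,
`B ⊗_A H^i(X, M) ≃ₗ[B] H^i(X', g'^* M)`.  The map is `b ⊗ x ↦ b • edge(unit_* x)`, i.e.
`B ⊗_A H^i(X, M) → H^i(X, g'_* g'^* M) → H^i(X', g'^* M)`.
-/

set_option autoImplicit false
set_option linter.style.haveILetI false
universe u
open CategoryTheory CategoryTheory.Limits Opposite TopologicalSpace AlgebraicGeometry Abelian TensorProduct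

namespace Groth.Agent.R2.H70.BC

open Groth.Agent.Lib.Helper23.AffVanish Groth.Agent.Lib.Helper6 Groth.Agent.R2.H1.ExtLoc
  Groth.Agent.R2.H1.CohLoc Groth.Agent.Lib.Helper16.ClosedEmb

instance isIso_wTop (Y : TopCat.{u}) : IsIso (wTop Y) :=
  isIso_of_coyoneda_map_bijective _ (fun T => wTop_bijective Y T)

section

variable {B : Type u} [CommRing B] {X X' : Scheme.{u}} (p' : X' ⟶ Spec (CommRingCat.of B))
  (g' : X' ⟶ X) (M' : X'.Modules)

lemma pushEdge_out_smul (i : ℕ) (b : B) (y : ExtR (coeffPush p' g' M') (constZ X.carrier) i) :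
    CohPull.pushEdge g' M' i (ExtR.out (b • y)) =
      Sheaf.H.map (Coh.smulAb M' (Coh.toGlobal p' b)) i (CohPull.pushEdge g' M' i (ExtR.out y)) :=
  have e0 : ExtR.out (b • y) =
      Sheaf.H.map ((CohTop.push g'.base).map (Coh.smulAb M' (Coh.toGlobal p' b))) i (ExtR.out y) :=
    rfl
  (congrArg (CohPull.pushEdge g' M' i) e0).trans
    (((Edge.pushEdge_apply g' M' i _).trans
      (Edge.edge_naturality g'.base (Coh.smulAb M' (Coh.toGlobal p' b)) i (ExtR.out y))).trans
    (congrArg (Sheaf.H.map (Coh.smulAb M' (Coh.toGlobal p' b)) i)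
      (Edge.pushEdge_apply g' M' i _).symm))

end

/-- **Flat base change over an affine base.** -/
theorem nonempty_linearEquiv (A B : Type u) [CommRing A] [CommRing B] [Algebra A B]
    [Module.Flat A B] (X X' : Scheme.{u}) [X.Over (Spec (CommRingCat.of A))]
    [X'.Over (Spec (CommRingCat.of B))] [CompactSpace X] [QuasiSeparatedSpace X] (g' : X' ⟶ X)
    (h : IsPullback g' (X' ↘ Spec (CommRingCat.of B)) (X ↘ Spec (CommRingCat.of A))
      (Spec.map (CommRingCat.ofHom (algebraMap A B))))
    (M : X.Modules) [Coh.IsQCoh M] (i : ℕ) :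
    Nonempty (TensorProduct A B (Coh.HH X M i) ≃ₗ[B]
      Coh.HH X' ((Scheme.Modules.pullback g').obj M) i) := by
  haveI := isAffineHom_of_isPullback h
  haveI : Coh.IsQCoh ((Scheme.Modules.pullback g').obj M) :=
    Groth.Agent.Lib.Helper2.PullbackSec.isQuasicoherent_pullback g' M
  have hZ : IsBC (pairing h.w M) (constZ X.carrier) :=
    IsBC.of_iso _ (asIso (wTop X.carrier)).symm (bcAt_of_isCompact h M ⊤ isCompact_univ)
  have hb : Function.Bijective (bcLin (pairing h.w M) (constZ X.carrier) i) := hZ i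
  have he := Edge.pushEdge_bijective_of_isAffineHom g' ((Scheme.Modules.pullback g').obj M) i
  let e₁ : Coh.HH X M i ≃ₗ[A] ExtR (coeffOver (X ↘ Spec (CommRingCat.of A)) M) (constZ X.carrier) i :=
    { toFun := fun x => ExtR.mk (K := coeffOver (X ↘ Spec (CommRingCat.of A)) M) x
      invFun := fun y => ExtR.out y
      left_inv := fun _ => rfl
      right_inv := fun _ => rfl
      map_add' := fun _ _ => rfl
      map_smul' := fun _ _ => rfl }
  let e₃ : ExtR (coeffPush (X' ↘ Spec (CommRingCat.of B)) g' ((Scheme.Modules.pullback g').obj M))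
      (constZ X.carrier) i →ₗ[B] Coh.HH X' ((Scheme.Modules.pullback g').obj M) i :=
    { toFun := fun y => CohPull.pushEdge g' ((Scheme.Modules.pullback g').obj M) i (ExtR.out y)
      map_add' := fun x y => map_add (CohPull.pushEdge g' ((Scheme.Modules.pullback g').obj M) i)
        (ExtR.out x) (ExtR.out y)
      map_smul' := fun b y => pushEdge_out_smul (X' ↘ Spec (CommRingCat.of B)) g'
        ((Scheme.Modules.pullback g').obj M) i b y }
  have he₃ : Function.Bijective e₃ := he
  exact ⟨(TensorProduct.AlgebraTensorModule.congr (LinearEquiv.refl B B) e₁).trans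
    ((LinearEquiv.ofBijective _ hb).trans (LinearEquiv.ofBijective e₃ he₃))⟩

end Groth.Agent.R2.H70.BC
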