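import Mathlib
import Groth.Agent.R2.H62RpushCoh
import Groth.Agent.R2.H62CohLES
import Groth.Agent.R2.H1RpushRestrict
import Groth.Agent.R2.H1RpushBridge
import Groth.Agent.S0034

/-!
# Stalks of higher direct images and base change to the local ring (helper1)

* `exists_res_eq_zero_of_local_vanishing` : affine base `S ≅ Spec B`, `A = B_P`, `X' = X ×_B A`;
  if `H^p(X', g'^* F) = 0` then every global section of `R^p f_* F` dies on a basic open `D(b)`, `b ∉ P`
  (flat base change `S0034` + `secEquiv`).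
* `isZero_stalk_RpushAb_of_local_vanishing` : `f : X ⟶ Y` qcqs, `F` quasi-coherent, `y : Y`;
  if `H^p(X ×_Y Spec O_{Y,y}, F) = 0` then `(R^p f_* F)_y = 0`.
-/

set_option autoImplicit false
set_option linter.style.haveILetI false
universe u
open CategoryTheory CategoryTheory.Limits AlgebraicGeometry TopologicalSpace Opposite TensorProduct

namespace Groth.Agent.R2.H1.StalkLoc

open Groth.Agent.R2.H62.RpushCoh Groth.Agent.R2.H62.CohLES

theorem toGlobal_comp {X S : Scheme.{u}} {B : Type u} [CommRing B] (f : X ⟶ S)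
    (h : S ⟶ Spec (CommRingCat.of B)) (b : B) :
    Coh.toGlobal (f ≫ h) b = f.appTop.hom (Coh.toGlobal h b) := by
  unfold Coh.toGlobal
  rw [Scheme.Hom.comp_appTop]
  rfl

section affine

variable {X S : Scheme.{u}} (f : X ⟶ S) [QuasiCompact f] [QuasiSeparated f] [IsAffine S]
  [HasInjectiveResolutions X.Modules] (F : X.Modules) [F.IsQuasicoherent] (p : ℕ)

/-- every global section of `R^p f_* F` dies on a basic open neighbourhood `D(b)`, `b ∉ P`, as soon as the cohomology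
of the base change to `Spec B_P` vanishes. -/
theorem exists_res_eq_zero_of_local_vanishing
    (B : Type u) [CommRing B] (e : S ≅ Spec (CommRingCat.of B))
    (A : Type u) [CommRing A] [Algebra B A] (P : Ideal B) [P.IsPrime] [IsLocalization.AtPrime A P]
    (X' : Scheme.{u}) (g' : X' ⟶ X) (fA : X' ⟶ Spec (CommRingCat.of A))
    (hpb : IsPullback g' fA (f ≫ e.hom) (Spec.map (CommRingCat.ofHom (algebraMap B A))))
    (hvan : Subsingleton (Coh.HH X' ((Scheme.Modules.pullback g').obj F) p))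
    (n : (Coh.toAb ((Coh.Rpush f p).obj F)).obj.obj (op ⊤)) :
    ∃ b : B, b ∉ P ∧
      (Coh.toAb ((Coh.Rpush f p).obj F)).obj.map
        (homOfLE (le_top : S.basicOpen (Coh.toGlobal e.hom b) ≤ ⊤)).op n = 0 := by
  letI : X.Over (Spec (CommRingCat.of B)) := ⟨f ≫ e.hom⟩
  letI : X'.Over (Spec (CommRingCat.of A)) := ⟨fA⟩
  haveI : CompactSpace X := QuasiCompact.compactSpace_of_compactSpace f
  haveI : QuasiSeparatedSpace X := quasiSeparatedSpace_of_quasiSeparated f
  haveI : Module.Flat B A := IsLocalization.flat A P.primeCompl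
  obtain ⟨ε⟩ := Groth.Agent.S0034.result B A X X' g' hpb F p
  set x := secEquiv f F p n with hx
  have h0 : (1 : A) ⊗ₜ[B] x = 0 := ε.injective (@Subsingleton.elim _ hvan _ _)
  haveI : IsLocalizedModule P.primeCompl (TensorProduct.mk B A (Coh.HH X F p) 1) :=
    (isLocalizedModule_iff_isBaseChange P.primeCompl A _).2 (TensorProduct.isBaseChange B (Coh.HH X F p) A)
  obtain ⟨c, hc⟩ := (IsLocalizedModule.eq_zero_iff P.primeCompl
    (TensorProduct.mk B A (Coh.HH X F p) 1)).1 h0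
  refine ⟨c.1, c.2, ?_⟩
  set r : Coh.Γtop S := Coh.toGlobal e.hom c.1 with hr
  let N : S.Modules := (Coh.Rpush f p).obj F
  have h1 : (c.1 : B) • x = 0 := hc
  rw [smulA_def, show Coh.toGlobal (X ↘ Spec (CommRingCat.of B)) c.1 = f.appTop.hom r from
    toGlobal_comp f e.hom c.1] at h1
  have h2 : secEquiv f F p (((Coh.smulAb N r).hom.app (op ⊤)).hom n) = 0 := by
    rw [secEquiv_smul]
    have h1' : Sheaf.H.map (Coh.smulAb F (f.appTop.hom r)) p x = 0 := h1
    exact h1'
  have h3 : ((Coh.smulAb N r).hom.app (op ⊤)).hom n = 0 := by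
    apply (secEquiv f F p).injective
    rw [h2, map_zero]
  rw [Coh.smulAb_app] at h3
  -- restrict to the basic open
  set D : S.Opens := S.basicOpen r with hD
  let i : (op (⊤ : S.Opens)) ⟶ op D := (homOfLE (le_top : D ≤ ⊤)).op
  let n' : N.val.obj (op ⊤) := n
  have h3' : @HSMul.hSMul (S.ringCatSheaf.obj.obj (op ⊤)) (N.val.obj (op ⊤)) (N.val.obj (op ⊤)) _
        (Coh.resTop S (op ⊤) r) n' = 0 := h3
  have h4 : (N.val.map i).hom
      (@HSMul.hSMul (S.ringCatSheaf.obj.obj (op ⊤)) (N.val.obj (op ⊤)) (N.val.obj (op ⊤)) _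
        (Coh.resTop S (op ⊤) r) n') = 0 :=
    (congrArg (fun t => (N.val.map i).hom t) h3').trans (map_zero (N.val.map i).hom)
  have h5 : (N.val.map i).hom
      (@HSMul.hSMul (S.ringCatSheaf.obj.obj (op ⊤)) (N.val.obj (op ⊤)) (N.val.obj (op ⊤)) _
        (Coh.resTop S (op ⊤) r) n') =
      @HSMul.hSMul (S.ringCatSheaf.obj.obj (op D)) (N.val.obj (op D)) (N.val.obj (op D)) _
        (Coh.resTop S (op D) r) ((N.val.map i).hom n') := by
    rw [← Coh.resTop_comp (op ⊤) (op D) i r]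
    exact N.val.map_smul i (Coh.resTop S (op ⊤) r) n'
  rw [h5] at h4
  have hunit : IsUnit (Coh.resTop S (op D) r) :=
    RingedSpace.isUnit_res_basicOpen S.toRingedSpace r
  have h6 : (N.val.map i).hom n' = 0 := (IsUnit.smul_eq_zero hunit).1 h4
  exact h6

end affine

section general

open Groth.Agent.R2.H1.RpushRestrict Groth.Agent.R2.H1.RpushBridge Scheme.Modules

/-- a section killed by an isomorphism of sheaves is zero -/
theorem eq_zero_of_iso_hom_eq_zero {C : Type*} [Category C] {J : GrothendieckTopology C}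
    {F F' : Sheaf J AddCommGrpCat.{u}} (ε : F ≅ F') (W : Cᵒᵖ) (t : F.obj.obj W)
    (h : (ε.hom.hom.app W).hom t = 0) : t = 0 := by
  have key : (ε.inv.hom.app W).hom ((ε.hom.hom.app W).hom t) = t :=
    congrArg (fun φ : F ⟶ F => (φ.hom.app W).hom t) ε.hom_inv_id
  rw [← key, h, map_zero]

theorem subsingleton_HH_of_iso' {X : Scheme.{u}} {M N : X.Modules} (e : M ≅ N) (q : ℕ)
    (h : Subsingleton (Coh.HH X M q)) : Subsingleton (Coh.HH X N q) := by
  refine ⟨fun a b => ?_⟩
  have ha : HHmap e.hom q (HHmap e.inv q a) = a := by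
    rw [← HHmap_comp, e.inv_hom_id, HHmap_id]
  have hb : HHmap e.hom q (HHmap e.inv q b) = b := by
    rw [← HHmap_comp, e.inv_hom_id, HHmap_id]
  rw [← ha, ← hb, Subsingleton.elim (HHmap e.inv q a) (HHmap e.inv q b)]

variable {X Y : Scheme.{u}} (f : X ⟶ Y) (y : Y)

/-- the pullback square exhibiting `X ×_Y Spec O_{Y,y}` as a base change of `f⁻¹V → V ≅ Spec Γ(Y,V)` -/
theorem exists_isPullback_local {V : Y.Opens} (hV : IsAffineOpen V) (hyV : y ∈ V) :
    ∃ g' : pullback f (Y.fromSpecStalk y) ⟶ (f ⁻¹ᵁ V : Scheme.{u}),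
      g' ≫ (f ⁻¹ᵁ V).ι = pullback.fst f (Y.fromSpecStalk y) ∧
      IsPullback g' (pullback.snd f (Y.fromSpecStalk y)) ((f ∣_ V) ≫ hV.isoSpec.hom)
        (Spec.map (Y.presheaf.germ V y hyV)) := by
  set σV : Spec (Y.presheaf.stalk y) ⟶ (V : Scheme.{u}) :=
    Spec.map (Y.presheaf.germ V y hyV) ≫ hV.isoSpec.inv with hσV
  have hσ : σV ≫ V.ι = Y.fromSpecStalk y := by
    rw [← hV.fromSpecStalk_eq_fromSpecStalk hyV, IsAffineOpen.fromSpecStalk, IsAffineOpen.fromSpec,
      hσV, Category.assoc]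
  have hrange : Set.range (pullback.fst f (Y.fromSpecStalk y)) ⊆ Set.range (f ⁻¹ᵁ V).ι := by
    rintro _ ⟨x', rfl⟩
    rw [Scheme.Opens.range_ι]
    change f (pullback.fst f (Y.fromSpecStalk y) x') ∈ V
    rw [← Scheme.Hom.comp_apply, pullback.condition, Scheme.Hom.comp_apply]
    have h2 : ∀ z, (Y.fromSpecStalk y) z = V.ι (σV z) := fun z => by
      rw [← Scheme.Hom.comp_apply, hσ]
    rw [h2]
    exact (σV _).2
  let g' := IsOpenImmersion.lift (f ⁻¹ᵁ V).ι (pullback.fst f (Y.fromSpecStalk y)) hrange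
  have hg' : g' ≫ (f ⁻¹ᵁ V).ι = pullback.fst f (Y.fromSpecStalk y) := IsOpenImmersion.lift_fac _ _ _
  refine ⟨g', hg', ?_⟩
  have hcomm : g' ≫ (f ∣_ V) = pullback.snd f (Y.fromSpecStalk y) ≫ σV := by
    rw [← cancel_mono V.ι, Category.assoc, Category.assoc, morphismRestrict_ι, ← Category.assoc, hg',
      hσ, pullback.condition]
  have hleft : IsPullback g' (pullback.snd f (Y.fromSpecStalk y)) (f ∣_ V) σV := by
    refine IsPullback.of_right (h₁₂ := (f ⁻¹ᵁ V).ι) (h₂₂ := V.ι) (v₁₃ := f) ?_ hcomm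
      (isPullback_morphismRestrict f V).flip
    rw [hg', hσ]
    exact IsPullback.of_hasPullback f (Y.fromSpecStalk y)
  have hbot : IsPullback σV (𝟙 _) hV.isoSpec.hom (Spec.map (Y.presheaf.germ V y hyV)) :=
    IsPullback.of_vert_isIso ⟨by rw [hσV, Category.assoc, Iso.inv_hom_id, Category.comp_id,
      Category.id_comp]⟩
  have := hleft.paste_vert hbot
  rwa [Category.comp_id] at this

/-- the point `y` lies in the basic open of a function not in its prime ideal -/
theorem mem_basicOpen_toGlobal {V : Y.Opens} (hV : IsAffineOpen V) (hyV : y ∈ V) (b : Γ(Y, V))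
    (hb : b ∉ (hV.primeIdealOf ⟨y, hyV⟩).asIdeal) :
    (⟨y, hyV⟩ : (V : Scheme.{u})) ∈ (V : Scheme.{u}).basicOpen (Coh.toGlobal hV.isoSpec.hom b) := by
  have h := Scheme.preimage_basicOpen hV.isoSpec.hom ((Scheme.ΓSpecIso Γ(Y, V)).inv.hom b)
  have h2 : (⟨y, hyV⟩ : (V : Scheme.{u})) ∈
      hV.isoSpec.hom ⁻¹ᵁ (Spec Γ(Y, V)).basicOpen ((Scheme.ΓSpecIso Γ(Y, V)).inv.hom b) := by
    change hV.isoSpec.hom ⟨y, hyV⟩ ∈ (Spec Γ(Y, V)).basicOpen ((Scheme.ΓSpecIso Γ(Y, V)).inv.hom b)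
    rw [basicOpen_eq_of_affine]
    exact hb
  rw [h] at h2
  exact h2

variable [QuasiCompact f] [QuasiSeparated f] (F : X.Modules) [F.IsQuasicoherent] (p : ℕ)

/-- **Stalk of `R^p f_* F` at `y` vanishes if the cohomology of the base change to `Spec O_{Y,y}` does.** -/
theorem isZero_stalk_RpushAb_of_local_vanishing
    (hvan : Subsingleton (Coh.HH (pullback f (Y.fromSpecStalk y))
      ((Scheme.Modules.pullback (pullback.fst f (Y.fromSpecStalk y))).obj F) p)) :
    IsZero (TopCat.Presheaf.stalk ((Coh.RpushAb f p).obj (Coh.toAb F)).obj y) := by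
  have : EnoughInjectives X.Modules := enoughInjectives_modules _
  have : HasInjectiveResolutions X.Modules := inferInstance
  set G := (Coh.RpushAb f p).obj (Coh.toAb F) with hG
  let N := (Coh.Rpush f p).obj F
  let e : Coh.toAb N ≅ G := (bridgeIso f p).app F
  have key : ∀ t : ToType (TopCat.Presheaf.stalk G.obj y), t = 0 := by
    intro t
    obtain ⟨W, hyW, s, rfl⟩ := TopCat.Presheaf.exists_germ_eq G.obj t
    obtain ⟨V, hV, hyV, hVW⟩ := exists_isAffineOpen_mem_and_subset (x := y) (U := W) hyW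
    have : EnoughInjectives (↑(f ⁻¹ᵁ V) : Scheme.{u}).Modules := enoughInjectives_modules _
    have : HasInjectiveResolutions (↑(f ⁻¹ᵁ V) : Scheme.{u}).Modules := inferInstance
    haveI : IsAffine (↑V : Scheme.{u}) := hV
    letI alg : Algebra Γ(Y, V) (Y.presheaf.stalk y) := (Y.presheaf.germ V y hyV).hom.toAlgebra
    haveI hloc : IsLocalization.AtPrime (Y.presheaf.stalk y) (hV.primeIdealOf ⟨y, hyV⟩).asIdeal :=
      hV.isLocalization_stalk ⟨y, hyV⟩
    obtain ⟨g', hg', hpb⟩ := exists_isPullback_local f y hV hyV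
    -- vanishing for the restricted module
    have hvan' : Subsingleton (Coh.HH (pullback f (Y.fromSpecStalk y))
        ((Scheme.Modules.pullback g').obj (F.restrict (f ⁻¹ᵁ V).ι)) p) := by
      refine subsingleton_HH_of_iso' ?_ p hvan
      exact ((pullbackCongr hg').app F).symm ≪≫ ((pullbackComp g' (f ⁻¹ᵁ V).ι).app F).symm ≪≫
        (Scheme.Modules.pullback g').mapIso ((restrictFunctorIsoPullback (f ⁻¹ᵁ V).ι).app F).symm
    -- shrink to `V₁ = V.ι ''ᵁ ⊤`
    have hV1 : V.ι ''ᵁ ⊤ = V := V.ι_image_top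
    have hle1 : V.ι ''ᵁ ⊤ ≤ W := hV1.le.trans hVW
    let ρ : (Coh.toAb N).obj.obj (op (V.ι ''ᵁ ⊤)) :=
      (e.inv.hom.app (op (V.ι ''ᵁ ⊤))).hom (G.obj.map (homOfLE hle1).op s)
    let ρ' : (Coh.toAb (N.restrict V.ι)).obj.obj (op ⊤) := ρ
    let ε := (SheafOfModules.toSheaf _).mapIso (rpushRestrictIso f V F p)
    let n := (ε.hom.hom.app (op ⊤)).hom ρ'
    have hex := @exists_res_eq_zero_of_local_vanishing _ _ (f ∣_ V) _ _ _ _ (F.restrict (f ⁻¹ᵁ V).ι) _ p
      Γ(Y, V) _ hV.isoSpec (Y.presheaf.stalk y) _ alg (hV.primeIdealOf ⟨y, hyV⟩).asIdeal _ hloc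
      (pullback f (Y.fromSpecStalk y)) g' (pullback.snd f (Y.fromSpecStalk y)) hpb hvan' n
    obtain ⟨b, hb, hbn⟩ := hex
    set D' : (V : Scheme.{u}).Opens := (V : Scheme.{u}).basicOpen (Coh.toGlobal hV.isoSpec.hom b) with hD'
    let i : (op (⊤ : (V : Scheme.{u}).Opens)) ⟶ op D' := (homOfLE (le_top : D' ≤ ⊤)).op
    -- transport along `ε`
    have h1 : (ε.hom.hom.app (op D')).hom ((Coh.toAb (N.restrict V.ι)).obj.map i ρ') = 0 := by
      have hnat := ε.hom.hom.naturality i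
      have := congrArg (fun φ => φ.hom ρ') hnat
      exact this.trans hbn
    have h2 : (Coh.toAb (N.restrict V.ι)).obj.map i ρ' = 0 := eq_zero_of_iso_hom_eq_zero ε (op D') _ h1
    let j : V.ι ''ᵁ D' ⟶ V.ι ''ᵁ ⊤ := V.ι.opensFunctor.map (homOfLE (le_top : D' ≤ ⊤))
    have h3 : (Coh.toAb N).obj.map j.op ρ = 0 := h2
    have h4 : (e.inv.hom.app (op (V.ι ''ᵁ D'))).hom
        (G.obj.map j.op (G.obj.map (homOfLE hle1).op s)) = 0 := by
      have hnat := e.inv.hom.naturality j.op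
      have := congrArg (fun φ => φ.hom (G.obj.map (homOfLE hle1).op s)) hnat
      exact this.trans h3
    have h5 : G.obj.map j.op (G.obj.map (homOfLE hle1).op s) = 0 :=
      eq_zero_of_iso_hom_eq_zero e.symm (op (V.ι ''ᵁ D')) _ h4
    have hyD : y ∈ V.ι ''ᵁ D' := ⟨⟨y, hyV⟩, mem_basicOpen_toGlobal y hV hyV b hb, rfl⟩
    have hle2 : V.ι ''ᵁ D' ≤ W := (leOfHom j).trans hle1
    rw [← TopCat.Presheaf.germ_res_apply G.obj (homOfLE hle2) y hyD s]
    have h6 : G.obj.map (homOfLE hle2).op s = 0 := by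
      have : (homOfLE hle2).op = (homOfLE hle1).op ≫ j.op := rfl
      rw [this, G.obj.map_comp]
      exact h5
    rw [h6, map_zero]
  refine (IsZero.iff_id_eq_zero _).2 ?_
  ext t
  exact (key _).trans (key _).symm

end general

end Groth.Agent.R2.H1.StalkLoc
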