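import Mathlib
import Groth.Agent.R2.H1RpushRestrict
import Groth.Agent.R2.H1RpushBridge
import Groth.Agent.S0028

/-!
# Vanishing of stalks of higher direct images

helper1 (round 2).
* `isZero_stalk_RpushAb_of_isAffineHom_restrict` : if `f|_V` is affine for an open `V ∋ y` and `M` is quasi-coherent, then
  the stalk of `R^p f_* M` (abelian level) at `y` vanishes for `p > 0`.
-/

set_option autoImplicit false
universe u
open CategoryTheory CategoryTheory.Limits Opposite TopologicalSpace AlgebraicGeometry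

namespace Groth.Agent.R2.H1.StalkVanish

open Scheme.Modules Groth.Agent.R2.H1.RpushRestrict Groth.Agent.R2.H1.RpushBridge

/-- sections of a zero module vanish -/
theorem subsingleton_sections_of_isZero {X : Scheme.{u}} (N : X.Modules) (hN : IsZero N) (W : X.Opens) :
    Subsingleton Γ(N, W) := by
  have h : 𝟙 N = 0 := (IsZero.iff_id_eq_zero N).1 hN
  refine ⟨fun a b => ?_⟩
  have key : ∀ s : Γ(N, W), s = 0 := by
    intro s
    have h1 : (𝟙 N : N ⟶ N).app W s = s := rfl
    rw [← h1, h]
    rfl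
  rw [key a, key b]

/-- a module whose underlying abelian sheaf is zero is zero -/
theorem isZero_of_isZero_toAb {X : Scheme.{u}} (N : X.Modules) (h : IsZero (Coh.toAb N)) : IsZero N := by
  rw [IsZero.iff_id_eq_zero] at h ⊢
  apply (SheafOfModules.toSheaf _).map_injective
  exact ((SheafOfModules.toSheaf _).map_id _).trans (h.trans ((SheafOfModules.toSheaf _).map_zero _ _).symm)

variable {X Y : Scheme.{u}} (f : X ⟶ Y)

/-- If `f` is affine over the open `V`, the restriction to `V` of `R^p f_* M` vanishes for quasi-coherent `M` and `p > 0`. -/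
theorem isZero_Rpush_restrict_of_isAffineHom [HasInjectiveResolutions X.Modules] (V : Y.Opens)
    [IsAffineHom (f ∣_ V)] (M : X.Modules) [M.IsQuasicoherent] (p : ℕ) (hp : 0 < p) :
    IsZero (((Coh.Rpush f p).obj M).restrict V.ι) := by
  have : EnoughInjectives (↑(f ⁻¹ᵁ V) : Scheme.{u}).Modules := enoughInjectives_modules _
  have : HasInjectiveResolutions (↑(f ⁻¹ᵁ V) : Scheme.{u}).Modules := inferInstance
  refine IsZero.of_iso ?_ (rpushRestrictIso f V M p)
  apply isZero_of_isZero_toAb
  refine IsZero.of_iso ?_ ((bridgeIso (f ∣_ V) p).app _)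
  exact Groth.Agent.S0028.result (f ∣_ V) (M.restrict (f ⁻¹ᵁ V).ι) p hp

/-- **Stalks of higher direct images vanish at points over which the morphism is affine.** -/
theorem isZero_stalk_RpushAb_of_isAffineHom_restrict (V : Y.Opens) [IsAffineHom (f ∣_ V)] (y : Y) (hy : y ∈ V)
    (M : X.Modules) [M.IsQuasicoherent] (p : ℕ) (hp : 0 < p) :
    IsZero (TopCat.Presheaf.stalk ((Coh.RpushAb f p).obj (Coh.toAb M)).obj y) := by
  have : EnoughInjectives X.Modules := enoughInjectives_modules _
  have : HasInjectiveResolutions X.Modules := inferInstance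
  set G := (Coh.RpushAb f p).obj (Coh.toAb M) with hG
  let N := (Coh.Rpush f p).obj M
  let e : Coh.toAb N ≅ G := (bridgeIso f p).app M
  have hZ := isZero_Rpush_restrict_of_isAffineHom f V M p hp
  -- sections of `G` over opens inside `V` vanish
  have hsub : ∀ W' : (V : Scheme.{u}).Opens, Subsingleton (G.obj.obj (op (V.ι ''ᵁ W'))) := by
    intro W'
    have h1 : Subsingleton Γ(N.restrict V.ι, W') := subsingleton_sections_of_isZero _ hZ W'
    have h2 : Subsingleton ((Coh.toAb N).obj.obj (op (V.ι ''ᵁ W'))) := h1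
    refine ⟨fun a b => ?_⟩
    have h3 : ∀ t : G.obj.obj (op (V.ι ''ᵁ W')),
        (e.hom.hom.app (op (V.ι ''ᵁ W'))).hom ((e.inv.hom.app (op (V.ι ''ᵁ W'))).hom t) = t := fun t =>
      congrArg (fun φ : G ⟶ G => (φ.hom.app (op (V.ι ''ᵁ W'))).hom t) e.inv_hom_id
    rw [← h3 a, ← h3 b, Subsingleton.elim ((e.inv.hom.app (op (V.ι ''ᵁ W'))).hom a)
      ((e.inv.hom.app (op (V.ι ''ᵁ W'))).hom b)]
  -- hence all germs at `y` vanish
  have key : ∀ t : ToType (TopCat.Presheaf.stalk G.obj y), t = 0 := by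
    intro t
    obtain ⟨W, hyW, s, rfl⟩ := TopCat.Presheaf.exists_germ_eq G.obj t
    let W' : (V : Scheme.{u}).Opens := V.ι ⁻¹ᵁ W
    have hle : V.ι ''ᵁ W' ≤ W := by
      rintro _ ⟨x, hx, rfl⟩
      exact hx
    have hy' : y ∈ V.ι ''ᵁ W' := ⟨⟨y, hy⟩, hyW, rfl⟩
    rw [← TopCat.Presheaf.germ_res_apply G.obj (homOfLE hle) y hy' s]
    have := hsub W'
    rw [Subsingleton.elim (G.obj.map (homOfLE hle).op s) 0, map_zero]
  refine (IsZero.iff_id_eq_zero _).2 ?_
  ext t
  exact (key _).trans (key _).symm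

end Groth.Agent.R2.H1.StalkVanish
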