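import Mathlib

/-!
# Sections with support in a closed part are injective (abstract recollement form) (helper1)

Abstract setting: adjunctions `Li ⊣ Ri` (closed part, `Ri` fully faithful) and `Lj ⊣ Rj` (open part)
with `Lj ⋙ Ri`-vanishing `Lj (Ri G) = 0`.  If `I` is injective and `K = ker (I ⟶ Rj Lj I)` lies in
the essential image of `Ri`, then `Li K` is injective.
-/

set_option autoImplicit false
open CategoryTheory CategoryTheory.Limits

namespace Groth.Agent.R2.H1.SuppInj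

universe v₁ v₂ v₃ u₁ u₂ u₃

variable {𝒳 : Type u₁} {𝒵 : Type u₂} {𝒰 : Type u₃} [Category.{v₁} 𝒳] [Category.{v₂} 𝒵]
  [Category.{v₃} 𝒰] [Abelian 𝒳]
  {Li : 𝒳 ⥤ 𝒵} {Ri : 𝒵 ⥤ 𝒳} (adjI : Li ⊣ Ri) {Lj : 𝒳 ⥤ 𝒰} {Rj : 𝒰 ⥤ 𝒳} (adjJ : Lj ⊣ Rj)

include adjI in
/-- `G` is injective as soon as `Ri G ≅ ker (I ⟶ Rj Lj I)` with `I` injective. -/
theorem injective_of_iso_kernel [Ri.Full] [Ri.Faithful]
    (hz : ∀ G : 𝒵, IsZero (Lj.obj (Ri.obj G))) (I : 𝒳) [Injective I] (G : 𝒵)
    (e : Ri.obj G ≅ kernel (adjJ.unit.app I)) : Injective G := by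
  constructor
  intro A B f m hm
  have : Ri.PreservesMonomorphisms :=
    have := adjI.rightAdjoint_preservesLimits
    inferInstance
  have hmono : Mono (Ri.map m) := inferInstance
  let φ : Ri.obj A ⟶ I := Ri.map f ≫ e.hom ≫ kernel.ι _
  let h : Ri.obj B ⟶ I := Injective.factorThru φ (Ri.map m)
  have hh : Ri.map m ≫ h = φ := Injective.comp_factorThru _ _
  have hz' : h ≫ adjJ.unit.app I = 0 := by
    apply (adjJ.homEquiv _ _).symm.injective
    exact (hz B).eq_of_src _ _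
  let h' : Ri.obj B ⟶ kernel (adjJ.unit.app I) := kernel.lift _ h hz'
  obtain ⟨g, hg⟩ := Ri.map_surjective (h' ≫ e.inv)
  refine ⟨g, ?_⟩
  apply Ri.map_injective
  rw [Ri.map_comp, hg]
  have h1 : Ri.map m ≫ h' = Ri.map f ≫ e.hom := by
    rw [← cancel_mono (kernel.ι (adjJ.unit.app I))]
    simp only [Category.assoc, h', kernel.lift_ι]
    exact hh
  rw [← Category.assoc, h1, Category.assoc, e.hom_inv_id, Category.comp_id]

include adjI in
/-- If `I` is injective and `K = ker (I ⟶ Rj Lj I)` is in the essential image of the fully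
faithful `Ri`, then `Li K` is injective. -/
theorem injective_obj_kernel [Ri.Full] [Ri.Faithful]
    (hz : ∀ G : 𝒵, IsZero (Lj.obj (Ri.obj G))) (I : 𝒳) [Injective I]
    (hK : Ri.essImage (kernel (adjJ.unit.app I))) :
    Injective (Li.obj (kernel (adjJ.unit.app I))) := by
  obtain ⟨G, ⟨e⟩⟩ := hK
  have hG : Injective G := injective_of_iso_kernel adjI adjJ hz I G e
  have hc : IsIso (adjI.counit.app G) := inferInstance
  exact Injective.of_iso ((asIso (adjI.counit.app G)).symm ≪≫ Li.mapIso e) hG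

end Groth.Agent.R2.H1.SuppInj
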