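import Mathlib
import Groth.Prelude.Def_PBC
import Groth.Agent.Lib.Helper16SmallEtale
import Groth.Agent.Lib.Helper9EtFpH
import Groth.Agent.R2.H1Kummer

/-!
# Torsion sheaves have torsion cohomology on qcqs schemes (helper1, round 2)

For a torsion abelian sheaf `F` the colimit of `F --1!--> F --2!--> F --3!--> ...` vanishes; since
cohomology of a qcqs scheme commutes with filtered colimits, every class is killed by a factorial.
-/

set_option autoImplicit false
open CategoryTheory CategoryTheory.Limits AlgebraicGeometry Opposite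
universe u

namespace Groth.Agent.R2.H1.TorsionCoh

open Groth.Agent.Lib.Helper16.SmallEtale

variable {X : Scheme.{u}}

/-- a section of an abelian etale sheaf which vanishes etale-locally is zero -/
lemma eq_zero_of_locally {T : EtCoh.Ab X} {U : X.Etale} (t : T.obj.obj (op U))
    (h : ∀ x : U.left, ∃ (W : X.Etale) (g : W ⟶ U) (y : W.left),
      g.left y = x ∧ T.obj.map g.op t = 0) : t = 0 := by
  have hsep : Presieve.IsSeparated X.smallEtaleTopology (T.obj ⋙ forget AddCommGrpCat.{u + 1}) := by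
    apply Presieve.IsSheaf.isSeparated
    rw [← isSheaf_iff_isSheaf_of_type]
    exact ((sheafCompose X.smallEtaleTopology (forget AddCommGrpCat.{u + 1})).obj T).2
  have hmem : Presheaf.equalizerSieve (F := T.obj) t 0 ∈ X.smallEtaleTopology U := by
    rw [mem_smallEtale_iff]
    intro x
    obtain ⟨W, g, y, hy, hg⟩ := h x
    refine ⟨W, g, y, ?_, hy⟩
    change T.obj.map g.op t = T.obj.map g.op 0
    rw [hg, map_zero]
  exact (hsep _ hmem).ext (fun _ _ hf => hf)

/-- the multiplication-by-factorials tower `F --1!--> F --2!--> F --3!--> ...` -/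
noncomputable def tower (F : EtCoh.Ab X) : ℕ ⥤ EtCoh.Ab X :=
  Functor.ofSequence (X := fun _ => F) (fun k => (k + 1).factorial • 𝟙 F)

lemma tower_map_succ (F : EtCoh.Ab X) (k : ℕ) :
    (tower F).map (homOfLE (Nat.le_add_right k 1)) = (k + 1).factorial • 𝟙 F :=
  Functor.ofSequence_map_homOfLE_succ _ k

lemma tower_map_zero (F : EtCoh.Ab X) (k : ℕ) (f : (0 : ℕ) ⟶ k) :
    ∃ m : ℕ, 0 < m ∧ (tower F).map f = m • 𝟙 F := by
  induction k with
  | zero =>
    refine ⟨1, Nat.one_pos, ?_⟩
    have : f = 𝟙 _ := Subsingleton.elim _ _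
    subst this
    have e1 : (tower F).map (𝟙 0) = 𝟙 F := CategoryTheory.Functor.map_id _ _
    exact e1.trans (one_nsmul (𝟙 F)).symm
  | succ k ih =>
    obtain ⟨m, hm, e⟩ := ih (homOfLE (Nat.zero_le k))
    refine ⟨m * (k + 1).factorial, Nat.mul_pos hm (Nat.factorial_pos _), ?_⟩
    have : f = homOfLE (Nat.zero_le k) ≫ homOfLE (Nat.le_add_right k 1) := Subsingleton.elim _ _
    subst this
    have e1 : (tower F).map (homOfLE (Nat.zero_le k) ≫ homOfLE (Nat.le_add_right k 1)) =
        (m • 𝟙 F) ≫ ((k + 1).factorial • 𝟙 F) :=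
      ((tower F).map_comp _ _).trans (congrArg₂ (· ≫ ·) e (tower_map_succ F k))
    refine e1.trans ?_
    rw [Preadditive.nsmul_comp, Category.id_comp, ← mul_nsmul']


open Groth.Agent.R2.H1.Kummer in
/-- a compatible family of maps out of the factorial tower of a torsion sheaf vanishes -/
lemma leg_eq_zero {F T : EtCoh.Ab X} (hF : EtCoh.IsTorsion F) (ι : ℕ → (F ⟶ T))
    (hι : ∀ k, ι k = ((k + 1).factorial • 𝟙 F) ≫ ι (k + 1)) (k : ℕ) : ι k = 0 := by
  have hstep : ∀ d k, ∃ M : ℕ, ι k = (M • 𝟙 F) ≫ ι (k + d) := by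
    intro d
    induction d with
    | zero => intro k; exact ⟨1, by rw [one_nsmul, Category.id_comp]; rfl⟩
    | succ d ih =>
      intro k
      obtain ⟨M, hM⟩ := ih k
      refine ⟨M * (k + d + 1).factorial, ?_⟩
      rw [hM, hι (k + d), ← Category.assoc, Preadditive.nsmul_comp, Category.id_comp, ← mul_nsmul']
      rfl
  apply Sheaf.hom_ext
  apply NatTrans.ext
  funext U
  induction U using Opposite.rec with | _ U => ?_
  apply AddCommGrpCat.hom_ext
  apply AddMonoidHom.ext
  intro (s : F.obj.obj (op U))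
  change (ι k).hom.app (op U) s = 0
  apply eq_zero_of_locally
  intro x
  obtain ⟨V, g, ⟨v, hv⟩, hfin⟩ := hF U s x
  obtain ⟨m, hm, hms⟩ := isOfFinAddOrder_iff_nsmul_eq_zero.mp hfin
  refine ⟨V, g, v, hv, ?_⟩
  have nat := NatTrans.naturality_apply (ι k).hom g.op s
  refine nat.symm.trans ?_
  obtain ⟨M, hM⟩ := hstep m k
  obtain ⟨q, hq⟩ := Nat.dvd_factorial hm (Nat.le_add_left m (k + 1))
  have e : ι k = ((M * (k + m + 1).factorial) • 𝟙 F) ≫ ι (k + m + 1) := by
    rw [hM, hι (k + m), ← Category.assoc, Preadditive.nsmul_comp, Category.id_comp, ← mul_nsmul']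
  have hk : k + 1 + m = k + m + 1 := by omega
  rw [hk] at hq
  rw [e]
  change (ι (k + m + 1)).hom.app (op V)
    ((((M * (k + m + 1).factorial) • 𝟙 F : F ⟶ F)).hom.app (op V) (F.obj.map g.op s)) = 0
  rw [nsmul_hom_app_apply]
  change (ι (k + m + 1)).hom.app (op V) ((M * (k + m + 1).factorial) • (F.obj.map g.op s)) = 0
  have hmul : M * (k + m + 1).factorial = (M * q) * m := by rw [hq]; ring
  rw [hmul, mul_nsmul', hms, nsmul_zero, map_zero]

lemma colimit_ι_tower_eq_zero (F : EtCoh.Ab X) (hF : EtCoh.IsTorsion F) (k : ℕ) :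
    colimit.ι (tower F) k = 0 := by
  let ι : ℕ → (F ⟶ colimit (tower F)) := fun k => colimit.ι (tower F) k
  refine leg_eq_zero hF ι (fun k => ?_) k
  have w := colimit.w (tower F) (homOfLE (Nat.le_add_right k 1))
  rw [tower_map_succ] at w
  exact w.symm

lemma isZero_colimit_tower (F : EtCoh.Ab X) (hF : EtCoh.IsTorsion F) : IsZero (colimit (tower F)) := by
  rw [IsZero.iff_id_eq_zero]
  apply colimit.hom_ext
  intro k
  rw [Category.comp_id, comp_zero, colimit_ι_tower_eq_zero F hF]


lemma H_map_nsmul_id (F : EtCoh.Ab X) (n m : ℕ) (ξ : EtCoh.H X F n) :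
    Sheaf.H.map (m • 𝟙 F) n ξ = m • ξ := by
  induction m with
  | zero =>
    rw [zero_nsmul, zero_nsmul]
    simp [Sheaf.H.map_apply]
  | succ m ih =>
    rw [succ_nsmul, Sheaf.H.map_add_apply, ih, Sheaf.H.map_id_apply, succ_nsmul]

open Groth.Agent.Lib.Helper9.EtFp in
theorem isAddTorsion_H [CompactSpace X] [QuasiSeparatedSpace X] (F : EtCoh.Ab X)
    (hF : EtCoh.IsTorsion F) (n : ℕ) : IsAddTorsion (EtCoh.H X F n) := by
  intro ξ
  have hpres : PreservesColimitsOfShape ℕ (EtCoh.HF X n) := by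
    let e : ℕ ≌ AsSmall.{u + 1} ℕ := AsSmall.equiv
    have : IsFiltered (AsSmall.{u + 1} ℕ) := IsFiltered.of_equivalence e
    have := preservesColimitsOfShape_HF X n (AsSmall.{u + 1} ℕ)
    exact preservesColimitsOfShape_of_equiv e.symm _
  have hc : IsColimit ((EtCoh.HF X n).mapCocone (colimit.cocone (tower F))) :=
    isColimitOfPreserves _ (colimit.isColimit _)
  have hsub : Subsingleton (EtCoh.H X (colimit (tower F)) n) :=
    Sheaf.subsingleton_H_of_isZero (isZero_colimit_tower F hF) n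
  have : PreservesFilteredColimitsOfSize.{0, 0} (forget AddCommGrpCat.{u + 1}) :=
    preservesFilteredColimitsOfSize_shrink.{0, u + 1, 0, u + 1} _
  obtain ⟨k, f, g, hfg⟩ := (Concrete.isColimit_rep_eq_iff_exists (tower F ⋙ EtCoh.HF X n) hc (i := 0) (j := 0)
    (ξ : EtCoh.H X F n) (0 : EtCoh.H X F n)).mp (hsub.elim _ _)
  obtain ⟨m, hm, hmf⟩ := tower_map_zero F k f
  rw [isOfFinAddOrder_iff_nsmul_eq_zero]
  refine ⟨m, hm, ?_⟩
  rw [← H_map_nsmul_id, ← hmf]
  have h0 : ((tower F ⋙ EtCoh.HF X n).map g) (0 : EtCoh.H X F n) = 0 := map_zero _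
  exact hfg.trans h0

end Groth.Agent.R2.H1.TorsionCoh
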