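import Mathlib
import Groth.Agent.R2.H1TowerMod
import Groth.Agent.R2.H54ClosedImm
import Groth.Agent.R2.H64FFSpec
import Groth.Agent.S0786

/-!
# Adic towers of schemes: the graded system on the bottom level (helper1)

For a compatible system `F k` of modules on an adic tower, the modules `P k = J^(k+1) F (k+1)` are killed by `J`,
hence come from modules `G k` on `X_0`; multiplication by generators of `J` gives commuting operators
`G k ⟶ G (k+1)`, and the resulting graded system is generated in degree `0` (`locFin_gr`).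
-/

set_option autoImplicit false
set_option linter.style.haveILetI false
universe u
open CategoryTheory CategoryTheory.Limits AlgebraicGeometry TopologicalSpace Opposite

namespace Groth.Agent.R2.H1.TowerGr

open Groth.Agent.R2.H1.Tower Groth.Agent.R2.H1.FibreKer Groth.Agent.R2.H1.TowerMod Scheme.Modules
  Groth.Agent.R2.H54.ClosedImm

variable {A : Type u} [CommRing A] {J : Ideal A} {T : Sys J} (S : T.Mod)

instance (k : ℕ) : ((pushforward (T.i k)).obj (S.F k)).IsQuasicoherent :=
  Groth.Agent.Lib.Helper23.QCohLocal.isQuasicoherent_pushforward (T.i k) (S.F k)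

instance (k : ℕ) : (S.P k).IsQuasicoherent :=
  Groth.Agent.Lib.Helper23.QCohLocal.isQuasicoherent_kernel (S.tr k)

/-- the kernel of `Γ(X_k, U) → Γ(X_0, j⁻¹U)` is `J Γ(X_k, U)` -/
theorem mem_map_of_mem_ker_j (k : ℕ) (U : (T.Xs k).affineOpens) (r : Γ(T.Xs k, U.1))
    (hr : r ∈ (T.j k).ker.ideal U) : r ∈ Ideal.map (ρ (T.q k) U.1).hom J := by
  have hr' : (T.j k).app U.1 r = 0 := RingHom.mem_ker.1 (Scheme.Hom.ideal_ker_le (T.j k) U hr)
  have := mem_map_of_app_eq_zero (J ^ (0 + 1)) (T.q k) (T.j k) (T.p 0)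
    (isPullback_j J T.Xs T.p T.i T.hcart k) U.2 r hr'
  rwa [zero_add, pow_one] at this

/-- `P k` is killed by the ideal of `X_0` in `X_(k+1)` -/
theorem smul_P_eq_zero (k : ℕ) (U : (T.Xs (k + 1)).affineOpens) (r : Γ(T.Xs (k + 1), U.1))
    (hr : r ∈ (T.j (k + 1)).ker.ideal U) (m : Γ(S.P k, U.1)) : r • m = 0 := by
  apply Groth.Agent.Lib.Helper20.StalkExact.injective_app_of_mono (S.ιP k) U.1
  rw [Scheme.Modules.Hom.app_smul,
    T.smul_eq_zero_of_mem' k U.1 r (mem_map_of_mem_ker_j (k + 1) U r hr) _ (S.ιP_app_mem k U.2 m)]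
  exact (map_zero _).symm

theorem isIso_unit_P (k : ℕ) :
    IsIso ((pullbackPushforwardAdjunction (T.j (k + 1))).unit.app (S.P k)) :=
  Groth.Agent.S0786.isIso_unit_closedImmersion (T.j (k + 1)) (S.P k)
    (fun U r hr m => smul_P_eq_zero S k U r hr m)

/-- the module on `X_0` corresponding to `P k` -/
noncomputable def G (k : ℕ) : (T.Xs 0).Modules := (Scheme.Modules.pullback (T.j (k + 1))).obj (S.P k)

/-- `P k ≅ j_* G k` -/
noncomputable def u (k : ℕ) : S.P k ≅ (pushforward (T.j (k + 1))).obj (G S k) :=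
  @asIso _ _ _ _ ((pullbackPushforwardAdjunction (T.j (k + 1))).unit.app (S.P k)) (isIso_unit_P S k)

/-- the operator, pushed forward to `X_(k+2)` (recall `(f ≫ g)_* = g_* f_*` definitionally) -/
noncomputable def θ (k : ℕ) (a : A) (ha : a ∈ J) :
    (pushforward (T.j (k + 2))).obj (G S k) ⟶ (pushforward (T.j (k + 2))).obj (G S (k + 1)) :=
  (show (pushforward (T.j (k + 2))).obj (G S k) ⟶ (pushforward (T.i (k + 1))).obj (S.P k) from
    (pushforward (T.i (k + 1))).map (u S k).inv) ≫ S.τ k a ha ≫ (u S (k + 1)).hom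

/-- the operator `G k ⟶ G (k+1)` on `X_0` induced by multiplication by `a ∈ J` -/
noncomputable def Top (k : ℕ) (a : A) (ha : a ∈ J) : G S k ⟶ G S (k + 1) :=
  (fullyFaithfulPush (T.j (k + 2))).preimage (θ S k a ha)

theorem map_Top (k : ℕ) (a : A) (ha : a ∈ J) :
    (pushforward (T.j (k + 2))).map (Top S k a ha) = θ S k a ha :=
  (fullyFaithfulPush (T.j (k + 2))).map_preimage _

theorem key_abs {C D : Type*} [Category C] [Category D] (I : C ⥤ D) {X0 X1 X2 X2' : C} {Z W : D}
    (v : X0 ⟶ X1) (ta : X1 ⟶ X2) (w : X2 ≅ X2') (tb : I.obj X2 ⟶ Z) (z : Z ⟶ W) :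
    I.map (v ≫ ta ≫ w.hom) ≫ I.map w.inv ≫ tb ≫ z = I.map v ≫ (I.map ta ≫ tb) ≫ z := by
  simp only [Functor.map_comp, Category.assoc]
  rw [← I.map_comp_assoc w.hom, Iso.hom_inv_id, I.map_id, Category.id_comp]

theorem Top_comm (k : ℕ) (a b : A) (ha : a ∈ J) (hb : b ∈ J) :
    Top S k a ha ≫ Top S (k + 1) b hb = Top S k b hb ≫ Top S (k + 1) a ha := by
  apply (fullyFaithfulPush (T.j (k + 3))).map_injective
  have key : ∀ (a b : A) (ha : a ∈ J) (hb : b ∈ J),
      (pushforward (T.j (k + 3))).map (Top S k a ha ≫ Top S (k + 1) b hb) =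
        (pushforward (T.i (k + 2))).map ((pushforward (T.i (k + 1))).map (u S k).inv) ≫
          ((pushforward (T.i (k + 2))).map (S.τ k a ha) ≫ S.τ (k + 1) b hb) ≫ (u S (k + 2)).hom := by
    intro a b ha hb
    have h1 : (pushforward (T.j (k + 3))).map (Top S k a ha) =
        (pushforward (T.i (k + 2))).map (θ S k a ha) :=
      congrArg (fun φ => (pushforward (T.i (k + 2))).map φ) (map_Top S k a ha)
    have h2 : (pushforward (T.j (k + 3))).map (Top S (k + 1) b hb) = θ S (k + 1) b hb :=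
      map_Top S (k + 1) b hb
    refine ((pushforward (T.j (k + 3))).map_comp _ _).trans ?_
    refine (congrArg₂ (· ≫ ·) h1 h2).trans ?_
    exact key_abs (pushforward (T.i (k + 2))) ((pushforward (T.i (k + 1))).map (u S k).inv)
      (S.τ k a ha) (u S (k + 1)) (S.τ (k + 1) b hb) (u S (k + 2)).hom
  refine (key a b ha hb).trans (Eq.trans ?_ (key b a hb ha).symm)
  exact congrArg (fun φ => (pushforward (T.i (k + 2))).map ((pushforward (T.i (k + 1))).map (u S k).inv) ≫
    φ ≫ (u S (k + 2)).hom) (S.τ_comm k a b ha hb)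

end Groth.Agent.R2.H1.TowerGr
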