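import Mathlib
import Groth.Agent.R2.H1TowerGr
import Groth.Agent.R2.H64FFGrFin
import Groth.Agent.R2.H55AmpleNil
import Groth.Agent.Lib.Helper22ThickAffine
import Groth.Agent.Lib.Helper2ModExact
import Groth.Agent.S0019

/-!
# Adic towers of schemes: the graded system on the bottom level is locally finitely generated (helper1)
-/

set_option autoImplicit false
set_option linter.style.haveILetI false
universe u
open CategoryTheory CategoryTheory.Limits AlgebraicGeometry TopologicalSpace Opposite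

namespace Groth.Agent.R2.H1.TowerGen

open Groth.Agent.R2.H1.Tower Groth.Agent.R2.H1.FibreKer Groth.Agent.R2.H1.TowerMod Scheme.Modules
  Groth.Agent.R2.H54.ClosedImm Groth.Agent.R2.H1.TowerGr Groth.Agent.R2.H64.FFSpec

section Algebra

/-- elements of `(span (range b)) • N` are combinations `Σ b_i • z_i` with `z_i ∈ N` -/
theorem exists_sum_of_mem_span_smul {R M : Type*} [CommRing R] [AddCommGroup M] [Module R M] {r : ℕ}
    (b : Fin r → R) (N : Submodule R M) (z : M) (hz : z ∈ Ideal.span (Set.range b) • N) :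
    ∃ w : Fin r → M, (∀ i, w i ∈ N) ∧ z = ∑ i, b i • w i := by
  refine Submodule.smul_induction_on hz (fun c hc m hm => ?_) ?_
  · obtain ⟨f, rfl⟩ := (Ideal.mem_span_range_iff_exists_fun).1 hc
    refine ⟨fun i => f i • m, fun i => N.smul_mem _ hm, ?_⟩
    rw [Finset.sum_smul]
    refine Finset.sum_congr rfl (fun i _ => ?_)
    rw [smul_smul, mul_comm]
  · rintro x y ⟨w, hw, hx⟩ ⟨w', hw', hy⟩
    refine ⟨fun i => w i + w' i, fun i => N.add_mem (hw i) (hw' i), ?_⟩
    rw [hx, hy, ← Finset.sum_add_distrib]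
    simp only [smul_add]

theorem exists_sum_of_mem_map_pow_succ {A R M : Type*} [CommRing A] [CommRing R] [AddCommGroup M]
    [Module R M] (ρ : A →+* R) {r : ℕ} (a : Fin r → A) (J : Ideal A)
    (hJ : Ideal.span (Set.range a) = J) (n : ℕ) (z : M)
    (hz : z ∈ (Ideal.map ρ (J ^ (n + 1)) • ⊤ : Submodule R M)) :
    ∃ w : Fin r → M, (∀ i, w i ∈ (Ideal.map ρ (J ^ n) • ⊤ : Submodule R M)) ∧
      z = ∑ i, ρ (a i) • w i := by
  have h1 : Ideal.map ρ (J ^ (n + 1)) =
      Ideal.span (Set.range (fun i => ρ (a i))) * Ideal.map ρ (J ^ n) := by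
    rw [pow_succ', Ideal.map_mul, ← hJ, Ideal.map_span, ← Set.range_comp]
    rfl
  rw [h1, Submodule.mul_smul] at hz
  exact exists_sum_of_mem_span_smul _ _ z hz

end Algebra

variable {A : Type u} [CommRing A] {J : Ideal A} {T : Sys J} (S : T.Mod)

/-- the transition maps respect the `I`-adic filtrations -/
theorem tr_app_mem (k : ℕ) (I : Ideal A) (W : (T.Xs (k + 1)).Opens) (z : Γ(S.F (k + 1), W))
    (hz : z ∈ (Ideal.map (ρ (T.q (k + 1)) W).hom I • ⊤ :
      Submodule Γ(T.Xs (k + 1), W) Γ(S.F (k + 1), W))) :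
    (show Γ(S.F k, T.i k ⁻¹ᵁ W) from (S.tr k).app W z) ∈
      (Ideal.map (ρ (T.q k) (T.i k ⁻¹ᵁ W)).hom I • ⊤ :
        Submodule Γ(T.Xs k, T.i k ⁻¹ᵁ W) Γ(S.F k, T.i k ⁻¹ᵁ W)) := by
  refine Submodule.smul_induction_on hz (fun r hr m _ => ?_) (fun x y hx hy => ?_)
  · have h1 : (S.tr k).app W (r • m) = ((T.i k).app W r • (show Γ(S.F k, T.i k ⁻¹ᵁ W) from
        (S.tr k).app W m) : Γ(S.F k, T.i k ⁻¹ᵁ W)) :=
      trans_smul (T.i k) (S.F (k + 1)) (S.F k) (S.ψ k) W r m
    rw [h1]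
    refine Submodule.smul_mem_smul ?_ Submodule.mem_top
    have h2 := Ideal.mem_map_of_mem ((T.i k).app W).hom hr
    rwa [Ideal.map_map, T.app_comp_ρ] at h2
  · have h1 : (S.tr k).app W (x + y) = (S.tr k).app W x + (S.tr k).app W y := map_add _ _ _
    rw [h1]
    exact Submodule.add_mem _ hx hy

/-- `J^(k+1) F (k+1)` is killed by the transition map -/
theorem tr_app_eq_zero_of_mem (k : ℕ) (W : (T.Xs (k + 1)).Opens) (z : Γ(S.F (k + 1), W))
    (hz : z ∈ (Ideal.map (ρ (T.q (k + 1)) W).hom (J ^ (k + 1)) • ⊤ :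
      Submodule Γ(T.Xs (k + 1), W) Γ(S.F (k + 1), W))) :
    (S.tr k).app W z = 0 := by
  have h := tr_app_mem S k (J ^ (k + 1)) W z hz
  rw [T.map_ρ_eq_bot k, Submodule.bot_smul, Submodule.mem_bot] at h
  exact h

/-- the operator `Top` on sections -/
theorem Top_app (k : ℕ) (a : A) (ha : a ∈ J) (W : (T.Xs (k + 2)).Opens)
    (x : Γ(G S k, T.j (k + 2) ⁻¹ᵁ W)) :
    (Top S k a ha).app (T.j (k + 2) ⁻¹ᵁ W) x =
      (u S (k + 1)).hom.app W ((S.τ k a ha).app W ((u S k).inv.app (T.i (k + 1) ⁻¹ᵁ W) x)) := by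
  have := congrArg (fun φ => φ.app W x) (map_Top S k a ha)
  exact this


/-- the short exact sequence `0 → P k → F (k+1) → i_* F k → 0` -/
noncomputable def sc (k : ℕ) : ShortComplex (T.Xs (k + 1)).Modules :=
  ShortComplex.mk (S.ιP k) (S.tr k) (kernel.condition _)

theorem sc_shortExact (k : ℕ) : (sc S k).ShortExact :=
  { exact := ShortComplex.exact_kernel (S.tr k)
    mono_f := inferInstanceAs (Mono (S.ιP k))
    epi_g := inferInstanceAs (Epi (S.tr k)) }

variable {r : ℕ} (a : Fin r → A) (ha : Ideal.span (Set.range a) = J)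

include ha in
theorem a_mem (i : Fin r) : a i ∈ J := by
  rw [← ha]
  exact Ideal.subset_span ⟨i, rfl⟩

/-- the graded system `G k = J^(k+1) F (k+1)` on the bottom level -/
noncomputable def gr : GrSys (T.Xs 0) r where
  G := G S
  T i n := Top S n (a i) (a_mem a ha i)
  comm i j n := Top_comm S n (a i) (a j) _ _

/-- generation in degree `0`, over (the preimage of) an affine open of level `n + 2` -/
theorem exists_sum_Top (n : ℕ) (W : (T.Xs (n + 2)).Opens) (hW : IsAffineOpen W)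
    (y : Γ(G S (n + 1), T.j (n + 2) ⁻¹ᵁ W)) :
    ∃ x : Fin r → Γ(G S n, T.j (n + 2) ⁻¹ᵁ W),
      y = ∑ i, (Top S n (a i) (a_mem a ha i)).app (T.j (n + 2) ⁻¹ᵁ W) (x i) := by
  set y' : Γ(S.P (n + 1), W) := (u S (n + 1)).inv.app W y with hy'
  have hz := S.ιP_app_mem (n + 1) hW y'
  obtain ⟨z, hz1, hz2⟩ := exists_sum_of_mem_map_pow_succ (ρ (T.q (n + 2)) W).hom a J ha (n + 1) _ hz
  have hx' : ∀ i, ∃ w : Γ(S.P n, T.i (n + 1) ⁻¹ᵁ W),
      (S.ιP n).app (T.i (n + 1) ⁻¹ᵁ W) w = (S.tr (n + 1)).app W (z i) := by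
    intro i
    have h0 : (S.tr n).app (T.i (n + 1) ⁻¹ᵁ W) ((S.tr (n + 1)).app W (z i)) = 0 :=
      tr_app_eq_zero_of_mem S n _ _ (tr_app_mem S (n + 1) (J ^ (n + 1)) W (z i) (hz1 i))
    exact Groth.Agent.Lib.Helper2.ModExact.exists_app_eq_of_shortExact (sc S n) (sc_shortExact S n)
      _ _ h0
  choose w hw using hx'
  refine ⟨fun i => (u S n).hom.app (T.i (n + 1) ⁻¹ᵁ W) (w i), ?_⟩
  have hy : y = (u S (n + 1)).hom.app W y' := by
    have := congrArg (fun φ : (pushforward (T.j (n + 2))).obj (G S (n + 1)) ⟶ _ => φ.app W y)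
      (u S (n + 1)).inv_hom_id
    exact this.symm
  have hy'' : y' = ∑ i, (S.τ n (a i) (a_mem a ha i)).app W (w i) := by
    apply Groth.Agent.Lib.Helper20.StalkExact.injective_app_of_mono (S.ιP (n + 1)) W
    rw [hz2, map_sum]
    refine Finset.sum_congr rfl (fun i _ => ?_)
    have h1 : (S.ιP (n + 1)).app W ((S.τ n (a i) (a_mem a ha i)).app W (w i)) =
        (S.ν (n + 1) (a i) (a_mem a ha i)).app W ((S.ιP n).app (T.i (n + 1) ⁻¹ᵁ W) (w i)) :=
      congrArg (fun φ => φ.app W (w i)) (S.τ_ι n (a i) (a_mem a ha i))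
    have h2 : (S.ν (n + 1) (a i) (a_mem a ha i)).app W ((S.tr (n + 1)).app W (z i)) =
        (T.μ (n + 2) (S.F (n + 2)) (a i)).app W (z i) :=
      congrArg (fun φ => φ.app W (z i)) (S.tr_ν (n + 1) (a i) (a_mem a ha i))
    rw [h1, hw i, h2, T.μ_app]
  rw [hy, hy'', map_sum]
  refine Finset.sum_congr rfl (fun i _ => ?_)
  rw [Top_app]
  have h3 : (u S n).inv.app (T.i (n + 1) ⁻¹ᵁ W) ((u S n).hom.app (T.i (n + 1) ⁻¹ᵁ W) (w i)) = w i := by
    have := congrArg (fun φ : S.P n ⟶ S.P n => φ.app (T.i (n + 1) ⁻¹ᵁ W) (w i)) (u S n).hom_inv_id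
    exact this
  exact congrArg (fun t => (u S (n + 1)).hom.app W ((S.τ n (a i) (a_mem a ha i)).app W t)) h3.symm


theorem exists_opens_preimage_eq (T : Sys J) (k : ℕ) (U : (T.Xs 0).Opens) :
    ∃ W : (T.Xs k).Opens, T.j k ⁻¹ᵁ W = U := by
  have hemb : Topology.IsClosedEmbedding (T.j k) := (T.j k).isClosedEmbedding
  have hsurj : Function.Surjective (T.j k) := (T.j k).surjective
  have hhomeo : IsHomeomorph (T.j k) :=
    isHomeomorph_iff_isEmbedding_surjective.2 ⟨hemb.isEmbedding, hsurj⟩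
  refine ⟨⟨T.j k '' U.1, hhomeo.isOpenMap _ U.2⟩, ?_⟩
  apply Opens.ext
  exact Set.preimage_image_eq _ hemb.injective

theorem isAffineOpen_of_preimage (T : Sys J) (k : ℕ) (W : (T.Xs k).Opens)
    (hW : IsAffineOpen (T.j k ⁻¹ᵁ W)) : IsAffineOpen W := by
  haveI : IsAffine (T.j k ⁻¹ᵁ W).toScheme := hW
  haveI : IsClosedImmersion (T.j k ∣_ W) := inferInstance
  haveI : Surjective (T.j k ∣_ W) := IsZariskiLocalAtTarget.restrict (P := @Surjective) inferInstance W
  exact Groth.Agent.Lib.Helper22.ThickAffine.isAffine_of_thickening (T.j k ∣_ W)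
    (T.j k ∣_ W).surjective

theorem genOn_gr (U : (T.Xs 0).Opens) (hU : IsAffineOpen U) : GenOn (gr S a ha) U 0 := by
  intro n _
  obtain ⟨W, rfl⟩ := exists_opens_preimage_eq T (n + 2) U
  have hW : IsAffineOpen W := isAffineOpen_of_preimage T (n + 2) W hU
  intro y _
  obtain ⟨x, hx⟩ := exists_sum_Top S a ha n W hW y
  rw [hx]
  refine Submodule.sum_mem _ (fun i _ => ?_)
  refine Submodule.mem_iSup_of_mem i ?_
  exact Submodule.mem_map_of_mem (f := appₗ ((gr S a ha).T i n) _) Submodule.mem_top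

section Coh

variable [IsNoetherianRing A] [IsLocallyNoetherian (T.Xs 0)] (hF : ∀ k, Coh.IsCoh (S.F k))

include hF in
theorem isCoh_P (k : ℕ) : Coh.IsCoh (S.P k) := by
  haveI := isLocallyNoetherian_level J T.Xs T.p T.i T.hcart (k + 1)
  exact Groth.Agent.R2.H64.FFGrFin.isCoh_kernel (hF (k + 1))
    (Groth.Agent.S0019.result (T.i k) _ (hF k)) (S.tr k)

include hF in
theorem isCoh_G (k : ℕ) : Coh.IsCoh (G S k) :=
  Groth.Agent.R2.H55.AmpleNil.isCoh_pullback (T.j (k + 1)) (S.P k) (isCoh_P S hF k)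

include hF in
/-- the graded system on the bottom level is locally finitely generated (in degree `0`) -/
theorem locFin_gr : LocFin (gr S a ha) :=
  ⟨fun n => isCoh_G S hF n, fun U hU => ⟨0, genOn_gr S a ha U hU⟩⟩

end Coh

end Groth.Agent.R2.H1.TowerGen
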