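import Mathlib
import Groth.Agent.R2.H64FFGrFin

/-!
# Uniform Serre vanishing for graded systems (helper64, PROJ:exist package UV)

Let `X` be a Noetherian scheme (locally Noetherian and quasi-compact), `tw m : X.Modules ⥤ X.Modules` a family of
exact functors ("twisting by `L^m`"), `C` a class of modules closed under coherent sub- and quotient objects, and
assume *Serre vanishing* for coherent modules in `C`:
`∀ M coherent in C, ∃ m₀, ∀ m ≥ m₀, ∀ q > 0, H^q(X, tw m M) = 0`.

`uniformVanishing`: for every graded system `𝒢` of coherent modules in `C` with `r` commuting operators of degree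
one which is locally finitely generated (`LocFin`), there is ONE `m₀` with `H^q(X, tw m (𝒢.G n)) = 0` for all
`m ≥ m₀`, all `n` and all `q > 0`.

The proof is an induction on the number `r` of operators (kernel and cokernel of the last operator have `r - 1`
operators), as for the graded finiteness theorem `Groth.Agent.R2.H64.FFGrFin.grFin`; no relative spectrum of a Rees
or associated graded algebra is used.  This is the common core of EGA III 4.7.1 and 5.2.4.
-/

set_option autoImplicit false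
set_option linter.style.haveILetI false
universe u

open CategoryTheory CategoryTheory.Limits AlgebraicGeometry

namespace Groth.Agent.R2.H64.UnifVan

open Groth.Agent.R2.H64.FFSpec Groth.Agent.R2.H64.FFGrFin Groth.Agent.R2.H62.CohLES

variable {X : Scheme.{u}}

/-- a class of modules closed under coherent subobjects and coherent quotients -/
structure SubQuot (C : X.Modules → Prop) : Prop where
  sub : ∀ {K M : X.Modules} (ι : K ⟶ M) [Mono ι], Coh.IsCoh K → Coh.IsCoh M → C M → C K
  quot : ∀ {M Q : X.Modules} (π : M ⟶ Q) [Epi π], Coh.IsCoh M → Coh.IsCoh Q → C M → C Q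

theorem subQuot_top : SubQuot (fun _ : X.Modules => True) := ⟨fun _ _ _ _ _ => trivial, fun _ _ _ _ _ => trivial⟩

/-- Exact "twisting" functors. -/
structure TwistFamily (X : Scheme.{u}) where
  /-- the functors -/
  tw : ℕ → X.Modules ⥤ X.Modules
  zero : ∀ m, (tw m).PreservesZeroMorphisms
  exact : ∀ m (S : ShortComplex X.Modules), S.ShortExact →
    letI := zero m
    (S.map (tw m)).ShortExact

/-- The vanishing statement for one module. -/
def Vanishes (T : TwistFamily X) (m₀ : ℕ) (M : X.Modules) : Prop :=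
  ∀ m, m₀ ≤ m → ∀ q, 0 < q → Subsingleton (Coh.HH X ((T.tw m).obj M) q)

theorem Vanishes.mono {T : TwistFamily X} {m₀ m₁ : ℕ} {M : X.Modules} (h : Vanishes T m₀ M)
    (hle : m₀ ≤ m₁) : Vanishes T m₁ M :=
  fun m hm q hq => h m (hle.trans hm) q hq

theorem vanishes_of_isZero (T : TwistFamily X) (m₀ : ℕ) {M : X.Modules} (hM : IsZero M) :
    Vanishes T m₀ M := by
  intro m _ q _
  haveI := T.zero m
  have hz : IsZero (Coh.toAb ((T.tw m).obj M)) :=
    Functor.map_isZero (SheafOfModules.toSheaf X.ringCatSheaf) (Functor.map_isZero (T.tw m) hM)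
  exact Sheaf.subsingleton_H_of_isZero hz q

/-- middle term of an exact sequence with vanishing ends -/
theorem subsingleton_of_exact {A B C : Type*} [AddCommGroup A] [AddCommGroup B] [AddCommGroup C]
    (f : A →+ B) (g : B →+ C) (h : Function.Exact f g) [Subsingleton A] [Subsingleton C] :
    Subsingleton B := by
  refine ⟨fun x y => ?_⟩
  have key : ∀ z : B, z = 0 := by
    intro z
    obtain ⟨a, ha⟩ := (h z).1 (Subsingleton.elim _ _)
    rw [← ha, Subsingleton.elim a 0, map_zero]
  rw [key x, key y]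

/-- In a short exact sequence, `H^q(tw M₂) = 0 (q>0)` and `H^q(tw M₁) = 0 (q>0)` give `H^q(tw M₃) = 0`. -/
theorem vanishes_X₃ (T : TwistFamily X) {m₀ : ℕ} {S : ShortComplex X.Modules} (hS : S.ShortExact)
    (h1 : Vanishes T m₀ S.X₁) (h2 : Vanishes T m₀ S.X₂) : Vanishes T m₀ S.X₃ := by
  intro m hm q hq
  haveI := T.zero m
  have hS' := T.exact m S hS
  haveI : Subsingleton (Coh.HH X (S.map (T.tw m)).X₂ q) := h2 m hm q hq
  haveI : Subsingleton (Coh.HH X (S.map (T.tw m)).X₁ (q + 1)) := h1 m hm (q + 1) (Nat.succ_pos q)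
  exact subsingleton_of_exact _ _ (exact_g_δ hS' q)

/-- In a short exact sequence, vanishing for the two ends gives vanishing for the middle. -/
theorem vanishes_X₂ (T : TwistFamily X) {m₀ : ℕ} {S : ShortComplex X.Modules} (hS : S.ShortExact)
    (h1 : Vanishes T m₀ S.X₁) (h3 : Vanishes T m₀ S.X₃) : Vanishes T m₀ S.X₂ := by
  intro m hm q hq
  haveI := T.zero m
  have hS' := T.exact m S hS
  haveI : Subsingleton (Coh.HH X (S.map (T.tw m)).X₁ q) := h1 m hm q hq
  haveI : Subsingleton (Coh.HH X (S.map (T.tw m)).X₃ q) := h3 m hm q hq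
  exact subsingleton_of_exact _ _ (exact_f_g hS' q)

variable [IsLocallyNoetherian X] [CompactSpace X]

/-- **Uniform Serre vanishing** for locally finitely generated graded systems. -/
theorem uniformVanishing (T : TwistFamily X) {C : X.Modules → Prop} (hC : SubQuot C)
    (hSV : ∀ M : X.Modules, Coh.IsCoh M → C M → ∃ m₀, Vanishes T m₀ M) :
    ∀ (r : ℕ) (𝒢 : GrSys X r), LocFin 𝒢 → (∀ n, C (𝒢.G n)) →
      ∃ m₀, ∀ n, Vanishes T m₀ (𝒢.G n) := by
  intro r
  induction r with
  | zero =>
    intro 𝒢 h𝒢 hC𝒢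
    obtain ⟨d, hd⟩ := exists_isZero_of_locFin_zero 𝒢 h𝒢
    choose mk hmk using fun n => hSV (𝒢.G n) (h𝒢.coh n) (hC𝒢 n)
    refine ⟨(Finset.range (d + 1)).sup mk, fun n => ?_⟩
    by_cases hn : n ≤ d
    · exact (hmk n).mono (Finset.le_sup (f := mk) (Finset.mem_range.2 (Nat.lt_succ_of_le hn)))
    · obtain ⟨k, rfl⟩ : ∃ k, n = k + 1 := ⟨n - 1, by omega⟩
      exact vanishes_of_isZero T _ (hd k (by omega))
  | succ r ih =>
    intro 𝒢 h𝒢 hC𝒢
    have hLQ := locFin_Qsys 𝒢 h𝒢
    have hLK := locFin_Ksys 𝒢 h𝒢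
    have hCK : ∀ n, C ((Ksys 𝒢).G n) := fun n =>
      hC.sub (kernel.ι (tt 𝒢 n)) (hLK.coh n) (h𝒢.coh n) (hC𝒢 n)
    have hCQ : ∀ n, C ((Qsys 𝒢).G n) := fun n =>
      hC.quot (cokernel.π (tt 𝒢 n)) (h𝒢.coh (n + 1)) (hLQ.coh n) (hC𝒢 (n + 1))
    obtain ⟨mK, hK⟩ := ih (Ksys 𝒢) hLK hCK
    obtain ⟨mQ, hQ⟩ := ih (Qsys 𝒢) hLQ hCQ
    obtain ⟨m0, h0⟩ := hSV (𝒢.G 0) (h𝒢.coh 0) (hC𝒢 0)
    refine ⟨max m0 (max mK mQ), fun n => ?_⟩
    induction n with
    | zero => exact h0.mono (le_max_left _ _)
    | succ n ihn =>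
      have hJ : Vanishes T (max m0 (max mK mQ)) (JG 𝒢 n) :=
        vanishes_X₃ T (S₁_shortExact 𝒢 n)
          ((hK n).mono ((le_max_left _ _).trans (le_max_right _ _))) ihn
      exact vanishes_X₂ T (S₂_shortExact 𝒢 n) hJ
        ((hQ n).mono ((le_max_right _ _).trans (le_max_right _ _)))

end Groth.Agent.R2.H64.UnifVan
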