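import Mathlib
import Groth.Agent.R2.H1TowerGen
import Groth.Agent.R2.H64UnifVan
import Groth.Agent.R2.H54AmpleFinal
import Groth.Agent.R2.H55AmpleNil
import Groth.Agent.R2.H55AmpleVan
import Groth.Agent.Lib.Helper23SecTw6

/-!
# Uniform vanishing of the cohomology of the twists on an adic tower (helper1)

EGA III 5.2.3: for an adic tower `X_k` over `Spec (A/J^(k+1))` with `X_0` proper, a compatible system of
invertible modules `L_k` with `L_0` ample and a compatible system of coherent modules `F_k`, there is one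
`n₀` such that `H^q(X_k, F_k ⊗ L_k^n) = 0` for all `n ≥ n₀`, all `k` and all `q > 0`.
-/

set_option autoImplicit false
set_option linter.style.haveILetI false
universe u
open CategoryTheory CategoryTheory.Limits AlgebraicGeometry TopologicalSpace Opposite

namespace Groth.Agent.R2.H1.TowerVan

open Groth.Agent.R2.H1.Tower Groth.Agent.R2.H1.TowerMod Scheme.Modules
  Groth.Agent.R2.H1.TowerGr Groth.Agent.R2.H1.TowerGen Groth.Agent.R2.H64.FFSpec
  Groth.Agent.R2.H64.UnifVan Groth.Agent.R2.H55.AmpleVan Groth.Agent.R2.H79.TwistCalc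

variable {A : Type u} [CommRing A] {J : Ideal A} (T : Sys J)

/-- the twisting functors `- ⊗ L^m` -/
noncomputable def twistFamily {X : Scheme.{u}} (L : X.Modules) (hL : PicF.IsInvertible L) :
    TwistFamily X where
  tw m := tensorRightF (CohB1.tensorPow L m)
  zero _ := inferInstance
  exact m S hS := shortExact_map_tensorRightF (CohB1.tensorPow L m)
    (Groth.Agent.Lib.Helper23.SecTw.isInvertible_tensorPow hL m) S hS

variable (L : ∀ k, (T.Xs k).Modules) (φ : ∀ k, (Scheme.Modules.pullback (T.i k)).obj (L (k + 1)) ≅ L k)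

/-- `j_k^* L_k ≅ L_0` -/
noncomputable def pullJ : ∀ k, (Scheme.Modules.pullback (T.j k)).obj (L k) ≅ L 0
  | 0 => (Scheme.Modules.pullbackId (T.Xs 0)).app (L 0)
  | k + 1 => ((Scheme.Modules.pullbackComp (T.j k) (T.i k)).app (L (k + 1))).symm ≪≫
      (Scheme.Modules.pullback (T.j k)).mapIso (φ k) ≪≫ pullJ k


section Main

variable [IsNoetherianRing A] (hp : IsProper (T.p 0))

include hp in
theorem locallyNoetherian_zero : IsLocallyNoetherian (T.Xs 0) := by
  haveI := hp
  haveI : IsNoetherianRing (A ⧸ J ^ (0 + 1)) := inferInstance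
  haveI : IsLocallyNoetherian (Spec (CommRingCat.of (A ⧸ J ^ (0 + 1)))) := inferInstance
  exact LocallyOfFiniteType.isLocallyNoetherian (T.p 0)

omit [IsNoetherianRing A] in
include hp in
theorem compactSpace_zero : CompactSpace (T.Xs 0) := by
  haveI := hp
  exact QuasiCompact.compactSpace_of_compactSpace (T.p 0)

variable (hL : ∀ k, PicF.IsInvertible (L k)) (hamp : CohB1.IsAmple (L 0))
  (S : T.Mod) (hF : ∀ k, Coh.IsCoh (S.F k))

include hp hL hamp hF φ in
/-- **Uniform vanishing on an adic tower** (EGA III 5.2.3), together with the vanishing for the kernels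
`P k = J^(k+1) F (k+1)` of the transition maps. -/
theorem uniform_vanishing :
    ∃ n₀ : ℕ, ∀ n, n₀ ≤ n → ∀ k q, 0 < q →
      Subsingleton (Coh.HH (T.Xs k) (CohB1.tensorMod (S.F k) (CohB1.tensorPow (L k) n)) q) ∧
      Subsingleton (Coh.HH (T.Xs (k + 1))
        (CohB1.tensorMod (S.P k) (CohB1.tensorPow (L (k + 1)) n)) q) := by
  haveI := locallyNoetherian_zero T hp
  haveI := compactSpace_zero T hp
  obtain ⟨r, a, ha⟩ := (Submodule.fg_iff_exists_fin_generating_family).1 (IsNoetherian.noetherian J)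
  let TW := twistFamily (L 0) (hL 0)
  have hSV : ∀ M : (T.Xs 0).Modules, Coh.IsCoh M → True → ∃ m₀, Vanishes TW m₀ M := by
    intro M hM _
    haveI := hp
    obtain ⟨n₀, h⟩ := Groth.Agent.R2.H54.AmpleFinal.ampleVanishing (A ⧸ J ^ (0 + 1)) (T.Xs 0) (T.p 0)
      (L 0) hamp M hM
    exact ⟨n₀, fun m hm q hq => h m hm q hq⟩
  obtain ⟨m₀, hm₀⟩ := uniformVanishing TW subQuot_top hSV r (gr S a ha) (locFin_gr S a ha hF)
    (fun _ => trivial)
  obtain ⟨m₁, hm₁⟩ := hSV (S.F 0) (hF 0) trivial
  refine ⟨max m₀ m₁, fun n hn => ?_⟩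
  have hP : ∀ k q, 0 < q → Subsingleton (Coh.HH (T.Xs (k + 1))
      (CohB1.tensorMod (S.P k) (CohB1.tensorPow (L (k + 1)) n)) q) := by
    intro k q hq
    haveI : (G S k).IsQuasicoherent := (isCoh_G S hF k).1
    have h1 : Subsingleton (Coh.HH (T.Xs 0) (CohB1.tensorMod (G S k) (CohB1.tensorPow (L 0) n)) q) :=
      hm₀ k n (le_trans (le_max_left _ _) hn) q hq
    have h2 := subsingleton_HH_of_iso
      (tensorLeftCongr (G S k) (tensorPowCongr (pullJ T L φ (k + 1)).symm n)) q h1
    have h3 := Groth.Agent.R2.H55.AmpleNil.subsingleton_HH_push_tensorPow (T.j (k + 1)) (G S k)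
      (L (k + 1)) (hL (k + 1)) n q h2
    exact subsingleton_HH_of_iso (tensorRightCongr (u S k).symm _) q h3
  have hFk : ∀ k q, 0 < q → Subsingleton (Coh.HH (T.Xs k)
      (CohB1.tensorMod (S.F k) (CohB1.tensorPow (L k) n)) q) := by
    intro k
    induction k with
    | zero => exact fun q hq => hm₁ n (le_trans (le_max_right _ _) hn) q hq
    | succ k ih =>
      intro q hq
      have h1 := subsingleton_HH_of_iso
        (tensorLeftCongr (S.F k) (tensorPowCongr (φ k).symm n)) q (ih q hq)
      have h2 := Groth.Agent.R2.H55.AmpleNil.subsingleton_HH_push_tensorPow (T.i k) (S.F k)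
        (L (k + 1)) (hL (k + 1)) n q h1
      have hS' := shortExact_map_tensorRightF (CohB1.tensorPow (L (k + 1)) n)
        (Groth.Agent.Lib.Helper23.SecTw.isInvertible_tensorPow (hL (k + 1)) n) (sc S k)
        (sc_shortExact S k)
      haveI : Subsingleton (Coh.HH (T.Xs (k + 1))
          ((sc S k).map (tensorRightF (CohB1.tensorPow (L (k + 1)) n))).X₁ q) := hP k q hq
      haveI : Subsingleton (Coh.HH (T.Xs (k + 1))
          ((sc S k).map (tensorRightF (CohB1.tensorPow (L (k + 1)) n))).X₃ q) := h2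
      exact subsingleton_of_exact _ _ (Groth.Agent.R2.H62.CohLES.exact_f_g hS' q)
  exact fun k q hq => ⟨hFk k q hq, hP k q hq⟩

end Main

end Groth.Agent.R2.H1.TowerVan
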