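import Mathlib
import Groth.Agent.R2.H1TowerVan
import Groth.Agent.R2.H1GGExt
import Groth.Agent.Lib.Helper23LocGen

/-!
# Uniform global generation of the twists on an adic tower (helper1)

EGA III 5.2.4: in the situation of `Groth.Agent.R2.H1.TowerVan.uniform_vanishing`, there is one `N` such that
`F_k ⊗ L_k^n` is globally generated for all `n ≥ N` and all `k`.
-/

set_option autoImplicit false
set_option linter.style.haveILetI false
universe u
open CategoryTheory CategoryTheory.Limits AlgebraicGeometry TopologicalSpace Opposite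

namespace Groth.Agent.R2.H1.TowerGG

open Groth.Agent.R2.H1.Tower Groth.Agent.R2.H1.TowerMod Scheme.Modules
  Groth.Agent.R2.H1.TowerGr Groth.Agent.R2.H1.TowerGen Groth.Agent.R2.H1.TowerVan
  Groth.Agent.R2.H1.GGExt Groth.Agent.R2.H55.AmpleVan Groth.Agent.R2.H79.TwistCalc

variable {A : Type u} [CommRing A] {J : Ideal A} {T : Sys J} (S : T.Mod)
  {r : ℕ} (a : Fin r → A) (ha : Ideal.span (Set.range a) = J)

/-- the operators `Top` are jointly epimorphic -/
theorem je_Top (n : ℕ) : JE (fun i => Top S n (a i) (a_mem a ha i)) := by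
  intro Q φ hφ
  apply Groth.Agent.Helper13ModAffine.hom_ext_affine
  intro U hU
  obtain ⟨W, rfl⟩ := exists_opens_preimage_eq T (n + 2) U
  have hW := isAffineOpen_of_preimage T (n + 2) W hU
  ext y
  obtain ⟨x, hx⟩ := exists_sum_Top S a ha n W hW y
  have h0 : ∀ i, φ.app _ ((Top S n (a i) (a_mem a ha i)).app _ (x i)) = 0 := fun i =>
    (congrArg (fun ψ : G S n ⟶ Q => ψ.app _ (x i)) (hφ i)).trans rfl
  rw [hx, map_sum]
  exact (Finset.sum_eq_zero (fun i _ => h0 i)).trans rfl

section Main

variable (T) (L : ∀ k, (T.Xs k).Modules)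
  (φ : ∀ k, (Scheme.Modules.pullback (T.i k)).obj (L (k + 1)) ≅ L k)
  [IsNoetherianRing A] (hp : IsProper (T.p 0))
  (hL : ∀ k, PicF.IsInvertible (L k)) (hamp : CohB1.IsAmple (L 0))
  (hF : ∀ k, Coh.IsCoh (S.F k))

include φ hp hL hamp hF in
/-- **Uniform global generation on an adic tower** (EGA III 5.2.4). -/
theorem uniform_gg :
    ∃ N : ℕ, ∀ n, N ≤ n → ∀ k,
      Curv2.IsGloballyGenerated (CohB1.tensorMod (S.F k) (CohB1.tensorPow (L k) n)) := by
  haveI := locallyNoetherian_zero T hp
  haveI := compactSpace_zero T hp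
  obtain ⟨n₀, hn₀⟩ := uniform_vanishing T L φ hp hL hamp S hF
  obtain ⟨r, a, ha⟩ := (Submodule.fg_iff_exists_fin_generating_family).1 (IsNoetherian.noetherian J)
  haveI : (G S 0).IsQuasicoherent := (isCoh_G S hF 0).1
  haveI : SheafOfModules.IsFiniteType (R := (T.Xs 0).ringCatSheaf) (G S 0) := (isCoh_G S hF 0).2
  obtain ⟨N0, hN0⟩ :=
    Groth.Agent.Lib.Helper23.LocGen.isGloballyGenerated_twist_eventually (L 0) hamp (G S 0)
  haveI : SheafOfModules.IsFiniteType (R := (T.Xs 0).ringCatSheaf) (S.F 0) := (hF 0).2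
  obtain ⟨N1, hN1⟩ :=
    Groth.Agent.Lib.Helper23.LocGen.isGloballyGenerated_twist_eventually (L 0) hamp (S.F 0)
  refine ⟨max n₀ (max N0 N1), fun n hn => ?_⟩
  have hG : ∀ k, Curv2.IsGloballyGenerated (CohB1.tensorMod (G S k) (CohB1.tensorPow (L 0) n)) := by
    intro k
    induction k with
    | zero => exact hN0 n (le_trans (le_trans (le_max_left _ _) (le_max_right _ _)) hn)
    | succ k ih =>
      exact gg_of_je _ (je_twist _ (je_Top S a ha k) (CohB1.tensorPow (L 0) n)) ih
  have hP : ∀ k, Curv2.IsGloballyGenerated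
      (CohB1.tensorMod (S.P k) (CohB1.tensorPow (L (k + 1)) n)) := by
    intro k
    have h1 := isGloballyGenerated_push_twist (T.j (k + 1)) (G S k) (L (k + 1)) (hL (k + 1)) (L 0)
      (pullJ T L φ (k + 1)) n (hG k)
    exact Groth.Agent.Lib.Helper23.RestrTensor.isGloballyGenerated_of_iso
      (tensorRightCongr (u S k).symm _) h1
  intro k
  induction k with
  | zero => exact hN1 n (le_trans (le_trans (le_max_right _ _) (le_max_right _ _)) hn)
  | succ k ih =>
    have h3 := isGloballyGenerated_push_twist (T.i k) (S.F k) (L (k + 1)) (hL (k + 1)) (L k)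
      (φ k) n ih
    have hS' := shortExact_map_tensorRightF (CohB1.tensorPow (L (k + 1)) n)
      (Groth.Agent.Lib.Helper23.SecTw.isInvertible_tensorPow (hL (k + 1)) n) (sc S k)
      (sc_shortExact S k)
    exact isGloballyGenerated_X₂ hS' (hP k) h3
      ((hn₀ n (le_trans (le_max_left _ _) hn) k 1 one_pos).2)

end Main

end Groth.Agent.R2.H1.TowerGG
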