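import Groth.Agent.R2.H20AnConnAlg
import Groth.Agent.Lib.Helper6AnDensity
import Groth.Agent.Lib.Helper6AnFT
import Groth.Agent.Lib.Helper6AnPts

/-!
# Connectedness of `X(ℂ)` versus connectedness of `X` (helper20)
-/

set_option autoImplicit false

open AlgebraicGeometry CategoryTheory TopologicalSpace Opposite An Topology

namespace Groth.Agent.R2.H20.AnConn

open Groth.Agent.Lib.Helper6

section topology

variable {W : Type*} [TopologicalSpace W]

/-- In a noetherian quasi-sober space, a set stable under specialisation and generisation is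
closed. -/
lemma isClosed_of_stable_noetherian [NoetherianSpace W] [QuasiSober W] {S : Set W}
    (hs : StableUnderSpecialization S) (hg : StableUnderGeneralization S) : IsClosed S := by
  have hfin : (irreducibleComponents W).Finite := NoetherianSpace.finite_irreducibleComponents
  have hS : S = ⋃ Z ∈ {Z ∈ irreducibleComponents W | (Z ∩ S).Nonempty}, Z := by
    apply Set.Subset.antisymm
    · intro x hx
      simp only [Set.mem_iUnion, exists_prop]
      exact ⟨irreducibleComponent x, ⟨irreducibleComponent_mem_irreducibleComponents x,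
        ⟨x, mem_irreducibleComponent, hx⟩⟩, mem_irreducibleComponent⟩
    · intro x hx
      simp only [Set.mem_iUnion, exists_prop] at hx
      obtain ⟨Z, ⟨hZ, ⟨y, hyZ, hyS⟩⟩, hxZ⟩ := hx
      have hZirr : IsIrreducible Z := hZ.1
      have hZcl : IsClosed Z := isClosed_of_mem_irreducibleComponents Z hZ
      obtain ⟨η, hη⟩ := QuasiSober.sober hZirr hZcl
      have hηS : η ∈ S := hg (hη.specializes hyZ) hyS
      exact hs (hη.specializes hxZ) hηS
  rw [hS]
  exact Set.Finite.isClosed_biUnion (hfin.subset fun Z hZ => hZ.1)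
    fun Z hZ => isClosed_of_mem_irreducibleComponents Z hZ.1

/-- In a quasi-sober space which is locally noetherian, a set stable under specialisation and
generisation is open. -/
lemma isOpen_of_stable_locally_noetherian [QuasiSober W] {S : Set W}
    (hloc : ∀ x : W, ∃ U : Set W, IsOpen U ∧ x ∈ U ∧ NoetherianSpace U)
    (hs : StableUnderSpecialization S) (hg : StableUnderGeneralization S) : IsOpen S := by
  rw [isOpen_iff_mem_nhds]
  intro x hx
  obtain ⟨U, hU, hxU, hN⟩ := hloc x
  have hqs : QuasiSober U := hU.isOpenEmbedding_subtypeVal.quasiSober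
  have hcl : IsClosed (Subtype.val ⁻¹' Sᶜ : Set U) := by
    apply isClosed_of_stable_noetherian
    · intro a b hab ha
      exact hg.compl (hab.map continuous_subtype_val) ha
    · intro a b hab ha
      exact hs.compl (hab.map continuous_subtype_val) ha
  have hop : IsOpen (Subtype.val ⁻¹' S : Set U) := by
    rw [← isClosed_compl_iff]
    exact hcl
  have hop' : IsOpen (Subtype.val '' (Subtype.val ⁻¹' S : Set U)) :=
    hU.isOpenEmbedding_subtypeVal.isOpenMap _ hop
  rw [Subtype.image_preimage_coe] at hop'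
  exact Filter.mem_of_superset (hop'.mem_nhds ⟨hxU, hx⟩) Set.inter_subset_right

end topology

section algebra

/-- The `ℂ`-points of the zero locus of a prime ideal form a preconnected set. -/
lemma isPreconnected_algHoms_of_prime {A : Type*} [CommRing A] [Algebra ℂ A]
    [Algebra.FiniteType ℂ A] (p : Ideal A) [p.IsPrime] :
    IsPreconnected {φ : A → ℂ | ∃ ψ : A →ₐ[ℂ] ℂ, ⇑ψ = φ ∧ ∀ a ∈ p, ψ a = 0} := by
  have hdom : IsDomain (A ⧸ p) := Ideal.Quotient.isDomain p
  have hft : Algebra.FiniteType ℂ (A ⧸ p) :=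
    Algebra.FiniteType.of_surjective (Ideal.Quotient.mkₐ ℂ p) (Ideal.Quotient.mkₐ_surjective ℂ p)
  have hpre := AnConnAlg.isPreconnected_algHoms (A ⧸ p)
  let π : ((A ⧸ p) → ℂ) → (A → ℂ) := fun φ a => φ (Ideal.Quotient.mk p a)
  have hπ : Continuous π := continuous_pi fun a => continuous_apply _
  have himg : π '' (Set.range fun ψ : (A ⧸ p) →ₐ[ℂ] ℂ => (ψ : (A ⧸ p) → ℂ)) =
      {φ : A → ℂ | ∃ ψ : A →ₐ[ℂ] ℂ, ⇑ψ = φ ∧ ∀ a ∈ p, ψ a = 0} := by
    apply Set.Subset.antisymm
    · rintro _ ⟨_, ⟨ψ, rfl⟩, rfl⟩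
      refine ⟨ψ.comp (Ideal.Quotient.mkₐ ℂ p), rfl, fun a ha => ?_⟩
      change ψ (Ideal.Quotient.mk p a) = 0
      rw [Ideal.Quotient.eq_zero_iff_mem.2 ha, map_zero]
    · rintro _ ⟨ψ, rfl, hψ⟩
      refine ⟨_, ⟨Ideal.Quotient.liftₐ p ψ hψ, rfl⟩, ?_⟩
      funext a
      exact Ideal.Quotient.liftₐ_apply p ψ hψ _
  rw [← himg]
  exact hpre.image π hπ.continuousOn

end algebra

section scheme

variable {X : Scheme.{0}} [X.Over SC]

/-- affine case: the `ℂ`-points specialising a given point form a preconnected set -/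
lemma isPreconnected_specializes_affine [IsAffine X] [LocallyOfFiniteType (X ↘ SC)] (y : X) :
    IsPreconnected {s : Pts X | y ⤳ s.pt} := by
  let _ : Algebra ℂ Γ(X, ⊤) := (strHom X).toAlgebra
  have hft : Algebra.FiniteType ℂ Γ(X, ⊤) := strHom_finiteType (X := X)
  let e : X ≃ₜ PrimeSpectrum Γ(X, ⊤) := X.toSpecΓ.homeomorph
  have he : ∀ p, e p = X.toSpecΓ p := fun p => rfl
  have hp : (X.toSpecΓ y).asIdeal.IsPrime := (X.toSpecΓ y).isPrime
  have key := isPreconnected_algHoms_of_prime (X.toSpecΓ y).asIdeal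
  -- characterisation of specialisation
  have hspec : ∀ s : Pts X, y ⤳ s.pt ↔ ∀ a ∈ (X.toSpecΓ y).asIdeal, s.evTop a = 0 := by
    intro s
    rw [← e.isInducing.specializes_iff, ← PrimeSpectrum.le_iff_specializes]
    constructor
    · intro h a ha
      exact (mem_toSpecΓ_pt_iff s a).1 (h ha)
    · intro h a ha
      exact (mem_toSpecΓ_pt_iff s a).2 (h a ha)
  rw [← (isInducing_evAll (X := X)).isPreconnected_image]
  have himg : evAll '' {s : Pts X | y ⤳ s.pt} =
      {φ : Γ(X, ⊤) → ℂ | ∃ ψ : Γ(X, ⊤) →ₐ[ℂ] ℂ, ⇑ψ = φ ∧ ∀ a ∈ (X.toSpecΓ y).asIdeal, ψ a = 0} := by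
    apply Set.Subset.antisymm
    · rintro _ ⟨s, hs, rfl⟩
      refine ⟨{ evHom s ⊤ (Opens.mem_top _) with commutes' := fun c => evTop_strHom s c }, rfl,
        fun a ha => ?_⟩
      exact (hspec s).1 hs a ha
    · rintro _ ⟨ψ, rfl, hψ⟩
      have hψc : ∀ c, (ψ : Γ(X, ⊤) →+* ℂ) (strHom X c) = c := fun c => ψ.commutes c
      refine ⟨ptOfRingHom (ψ : Γ(X, ⊤) →+* ℂ) hψc, ?_, ?_⟩
      · rw [Set.mem_ofPred_eq, hspec]
        intro a ha
        rw [evTop_ptOfRingHom]
        exact hψ a ha
      · funext f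
        exact evTop_ptOfRingHom _ hψc f
  rw [himg]
  exact key

/-- the `ℂ`-points in an affine open specialising a given point form a preconnected set -/
lemma isPreconnected_specializes_of_affineOpen [LocallyOfFiniteType (X ↘ SC)] (U : X.Opens)
    (hU : IsAffineOpen U) (x : X) (hx : x ∈ U) :
    IsPreconnected {s : Pts X | s.pt ∈ U ∧ x ⤳ s.pt} := by
  have : IsAffine U.toScheme := hU
  have : LocallyOfFiniteType (U.toScheme ↘ SC) := by
    rw [← Scheme.Opens.ι_comp_over]; infer_instance
  obtain ⟨x', rfl⟩ : ∃ x' : U.toScheme, U.ι x' = x := ⟨⟨x, hx⟩, rfl⟩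
  have key := isPreconnected_specializes_affine (X := U.toScheme) x'
  have himg : Pts.map U.ι '' {s : Pts U.toScheme | x' ⤳ s.pt} =
      {s : Pts X | s.pt ∈ U ∧ U.ι x' ⤳ s.pt} := by
    apply Set.Subset.antisymm
    · rintro _ ⟨s', hs', rfl⟩
      refine ⟨?_, ?_⟩
      · rw [Pts.pt_map]
        exact (s'.pt).2
      · rw [Pts.pt_map]
        exact hs'.map U.ι.continuous
    · rintro s ⟨hsU, hs⟩
      have hmem : s ∈ Set.range (Pts.map U.ι) := by
        rw [range_map_of_isOpenImmersion]
        simpa using hsU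
      obtain ⟨s', rfl⟩ := hmem
      refine ⟨s', ?_, rfl⟩
      rw [Pts.pt_map] at hs
      exact (U.ι.isOpenEmbedding.isInducing.specializes_iff).1 hs
  rw [← himg]
  exact key.image _ (Pts.continuous_map U.ι).continuousOn

/-- a scheme locally of finite type over `ℂ` is locally a noetherian space -/
lemma exists_noetherian_nhds [LocallyOfFiniteType (X ↘ SC)] (x : X) :
    ∃ U : Set X, IsOpen U ∧ x ∈ U ∧ NoetherianSpace U := by
  have hlN := isLocallyNoetherian_of_lft (X := X)
  obtain ⟨_, ⟨(U : X.Opens), hU : IsAffineOpen U, rfl⟩, hxU, -⟩ :=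
    X.isBasis_affineOpens.exists_subset_of_mem_open (Set.mem_univ x) isOpen_univ
  have : IsNoetherianRing Γ(X, U) := hlN.component_noetherian ⟨U, hU⟩
  exact ⟨U, U.2, hxU, noetherianSpace_of_isAffineOpen U hU⟩

/-- the set of points having a specialisation which is a `ℂ`-point in `R` -/
def gen (R : Set (Pts X)) : Set X := {x | ∃ s ∈ R, x ⤳ s.pt}

lemma gen_stableUnderGeneralization (R : Set (Pts X)) : StableUnderGeneralization (gen R) := by
  rintro x y hyx ⟨s, hs, hxs⟩
  exact ⟨s, hs, hyx.trans hxs⟩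

lemma gen_union_compl [LocallyOfFiniteType (X ↘ SC)] (S : Set (Pts X)) :
    gen S ∪ gen Sᶜ = Set.univ := by
  rw [Set.eq_univ_iff_forall]
  intro x
  obtain ⟨s, hs⟩ := exists_pt_mem_of_isLocallyClosed (X := X) (T := closure {x})
    isClosed_closure.isLocallyClosed ⟨x, subset_closure rfl⟩
  have hxs : x ⤳ s.pt := specializes_iff_mem_closure.2 hs
  by_cases h : s ∈ S
  · exact Or.inl ⟨s, h, hxs⟩
  · exact Or.inr ⟨s, h, hxs⟩

lemma gen_disjoint_compl [LocallyOfFiniteType (X ↘ SC)] (S : Set (Pts X)) (hS : IsClopen S) :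
    Disjoint (gen S) (gen Sᶜ) := by
  rw [Set.disjoint_left]
  rintro x ⟨s, hs, hxs⟩ ⟨t, ht, hxt⟩
  obtain ⟨_, ⟨(U : X.Opens), hU : IsAffineOpen U, rfl⟩, hsU, -⟩ :=
    X.isBasis_affineOpens.exists_subset_of_mem_open (Set.mem_univ s.pt) isOpen_univ
  obtain ⟨_, ⟨(U' : X.Opens), hU' : IsAffineOpen U', rfl⟩, htU', -⟩ :=
    X.isBasis_affineOpens.exists_subset_of_mem_open (Set.mem_univ t.pt) isOpen_univ
  have hxU : x ∈ U := hxs.mem_open U.2 hsU
  have hxU' : x ∈ U' := hxt.mem_open U'.2 htU'
  have h1 := isPreconnected_specializes_of_affineOpen U hU x hxU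
  have h2 := isPreconnected_specializes_of_affineOpen U' hU' x hxU'
  have h1S : {s : Pts X | s.pt ∈ U ∧ x ⤳ s.pt} ⊆ S :=
    h1.subset_isClopen hS ⟨s, ⟨hsU, hxs⟩, hs⟩
  have h2S : {s : Pts X | s.pt ∈ U' ∧ x ⤳ s.pt} ⊆ Sᶜ :=
    h2.subset_isClopen hS.compl ⟨t, ⟨htU', hxt⟩, ht⟩
  have hlc : IsLocallyClosed (((U : Set X) ∩ (U' : Set X)) ∩ closure {x}) :=
    (U.2.inter U'.2).isLocallyClosed.inter isClosed_closure.isLocallyClosed
  obtain ⟨r, hr⟩ := exists_pt_mem_of_isLocallyClosed (X := X) hlc
    ⟨x, ⟨hxU, hxU'⟩, subset_closure rfl⟩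
  have hxr : x ⤳ r.pt := specializes_iff_mem_closure.2 hr.2
  exact h2S ⟨hr.1.2, hxr⟩ (h1S ⟨hr.1.1, hxr⟩)

/-- Every clopen subset of `X(ℂ)` is the preimage of a clopen subset of `X`. -/
theorem exists_isClopen_preimage_eq [LocallyOfFiniteType (X ↘ SC)] (S : Set (Pts X))
    (hS : IsClopen S) : ∃ S' : Set X, IsClopen S' ∧ Pts.pt ⁻¹' S' = S := by
  have hcompl : gen Sᶜ = (gen S)ᶜ := by
    apply Set.Subset.antisymm
    · exact (gen_disjoint_compl S hS).symm.subset_compl_right
    · rw [Set.compl_subset_iff_union]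
      exact gen_union_compl S
  have hg1 : StableUnderGeneralization (gen S) := gen_stableUnderGeneralization S
  have hs1 : StableUnderSpecialization (gen S) := by
    rw [← stableUnderGeneralization_compl_iff, ← hcompl]
    exact gen_stableUnderGeneralization _
  have hop1 : IsOpen (gen S) :=
    isOpen_of_stable_locally_noetherian exists_noetherian_nhds hs1 hg1
  have hop2 : IsOpen (gen S)ᶜ :=
    isOpen_of_stable_locally_noetherian exists_noetherian_nhds hg1.compl hs1.compl
  refine ⟨gen S, ⟨isOpen_compl_iff.1 hop2, hop1⟩, ?_⟩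
  apply Set.Subset.antisymm
  · intro s hs
    by_contra hsS
    have h1 : s.pt ∈ gen Sᶜ := ⟨s, hsS, specializes_rfl⟩
    rw [hcompl] at h1
    exact h1 hs
  · intro s hs
    exact ⟨s, hs, specializes_rfl⟩

/-- `X` preconnected implies `X(ℂ)` preconnected -/
theorem preconnectedSpace_pts [LocallyOfFiniteType (X ↘ SC)] [PreconnectedSpace X] :
    PreconnectedSpace (Pts X) := by
  rw [preconnectedSpace_iff_clopen]
  intro S hS
  obtain ⟨S', hS', rfl⟩ := exists_isClopen_preimage_eq S hS
  rcases isClopen_iff.1 hS' with h | h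
  · left; rw [h]; rfl
  · right; rw [h]; rfl

/-- a clopen subset of `X` without `ℂ`-points is empty -/
lemma eq_empty_of_preimage_pt_eq_empty [LocallyOfFiniteType (X ↘ SC)] {T : Set X} (hT : IsOpen T)
    (h : Pts.pt ⁻¹' T = (∅ : Set (Pts X))) : T = ∅ := by
  by_contra hne
  obtain ⟨s, hs⟩ := exists_pt_mem_of_isLocallyClosed (X := X) hT.isLocallyClosed
    (Set.nonempty_iff_ne_empty.2 hne)
  have : s ∈ Pts.pt ⁻¹' T := hs
  rw [h] at this
  exact this

/-- `X(ℂ)` preconnected implies `X` preconnected -/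
theorem preconnectedSpace_of_pts [LocallyOfFiniteType (X ↘ SC)] [PreconnectedSpace (Pts X)] :
    PreconnectedSpace X := by
  rw [preconnectedSpace_iff_clopen]
  intro T hT
  have hpre : IsClopen (Pts.pt ⁻¹' T : Set (Pts X)) := hT.preimage Pts.continuous_pt
  rcases isClopen_iff.1 hpre with h | h
  · left
    exact eq_empty_of_preimage_pt_eq_empty hT.2 h
  · right
    have h' : Pts.pt ⁻¹' Tᶜ = (∅ : Set (Pts X)) := by
      rw [Set.preimage_compl, h, Set.compl_univ]
    have := eq_empty_of_preimage_pt_eq_empty hT.compl.2 h'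
    exact Set.compl_empty_iff.1 this

/-- `X` is connected iff `X(ℂ)` is connected -/
theorem connectedSpace_iff_pts [LocallyOfFiniteType (X ↘ SC)] :
    ConnectedSpace X ↔ ConnectedSpace (Pts X) := by
  constructor
  · intro h
    have := preconnectedSpace_pts (X := X)
    have : Nonempty (Pts X) := (nonempty_pts_iff (X := X)).1 h.toNonempty
    exact ⟨this⟩
  · intro h
    have := preconnectedSpace_of_pts (X := X)
    have : Nonempty X := (nonempty_pts_iff (X := X)).2 h.toNonempty
    exact ⟨this⟩

/-- connected components of a scheme locally of finite type over `ℂ` are open -/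
lemma isOpen_connectedComponent [LocallyOfFiniteType (X ↘ SC)] (x : X) :
    IsOpen (connectedComponent x) := by
  apply isOpen_of_stable_locally_noetherian exists_noetherian_nhds
  · intro a b hab ha
    have hpre : _root_.IsPreconnected (closure ({a} : Set X)) := isPreconnected_singleton.closure
    have hsub := hpre.subset_connectedComponent (subset_closure (Set.mem_singleton a))
    rw [← connectedComponent_eq ha] at hsub
    exact hsub (specializes_iff_mem_closure.1 hab)
  · intro a b hba ha
    have hpre : _root_.IsPreconnected (closure ({b} : Set X)) := isPreconnected_singleton.closure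
    have hsub := hpre.subset_connectedComponent (specializes_iff_mem_closure.1 hba)
    rw [← connectedComponent_eq ha] at hsub
    exact hsub (subset_closure (Set.mem_singleton b))

/-- `π₀(X(ℂ)) → π₀(X)` is bijective -/
theorem connectedComponentsMap_pt_bijective [LocallyOfFiniteType (X ↘ SC)] :
    Function.Bijective (Pts.continuous_pt (X := X)).connectedComponentsMap := by
  constructor
  · intro a b hab
    obtain ⟨s, rfl⟩ := ConnectedComponents.surjective_coe a
    obtain ⟨t, rfl⟩ := ConnectedComponents.surjective_coe b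
    rw [Continuous.connectedComponentsMap_mk, Continuous.connectedComponentsMap_mk,
      ConnectedComponents.coe_eq_coe'] at hab
    rw [ConnectedComponents.coe_eq_coe']
    -- the open subscheme on the connected component
    let U : X.Opens := ⟨connectedComponent t.pt, isOpen_connectedComponent t.pt⟩
    have : LocallyOfFiniteType (U.toScheme ↘ SC) := by
      rw [← Scheme.Opens.ι_comp_over]; infer_instance
    have hpc : PreconnectedSpace U.toScheme :=
      isPreconnected_iff_preconnectedSpace.1 (isPreconnected_connectedComponent (x := t.pt))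
    have hpts := preconnectedSpace_pts (X := U.toScheme)
    have hs : s ∈ Set.range (Pts.map U.ι) := by
      rw [range_map_of_isOpenImmersion, Scheme.Opens.opensRange_ι]
      exact hab
    have ht : t ∈ Set.range (Pts.map U.ι) := by
      rw [range_map_of_isOpenImmersion, Scheme.Opens.opensRange_ι]
      exact (mem_connectedComponent (x := t.pt))
    obtain ⟨s', hs'⟩ := hs
    obtain ⟨t', ht'⟩ := ht
    rw [← hs', ← ht']
    have hmem : s' ∈ connectedComponent t' := by
      rw [PreconnectedSpace.connectedComponent_eq_univ]; trivial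
    exact (Pts.continuous_map U.ι).image_connectedComponent_subset t' ⟨s', hmem, rfl⟩
  · intro c
    obtain ⟨x, rfl⟩ := ConnectedComponents.surjective_coe c
    obtain ⟨s, hs⟩ := exists_pt_mem_of_isLocallyClosed (X := X) (T := connectedComponent x)
      isClosed_connectedComponent.isLocallyClosed ⟨x, mem_connectedComponent⟩
    refine ⟨(s : ConnectedComponents (Pts X)), ?_⟩
    rw [Continuous.connectedComponentsMap_mk, ConnectedComponents.coe_eq_coe']
    exact hs

end scheme

end Groth.Agent.R2.H20.AnConn
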