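import Mathlib

/-!
# Primitive element data for a finite extension of domains (helper20)

For `P` an integrally closed domain of characteristic zero and `A` a domain, finite and
torsion-free over `P`, there is `α : A` and `0 ≠ h : P` such that `h • A ⊆ P[α]` and the
minimal polynomial `F` of `α` satisfies a Bezout identity `u F + v F' = h`.
-/

set_option autoImplicit false

open Polynomial nonZeroDivisors IntermediateField

namespace Groth.Agent.R2.H20.PrimElt

attribute [local instance] FractionRing.liftAlgebra FractionRing.isScalarTower_liftAlgebra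

variable (P A : Type*) [CommRing P] [IsDomain P] [CommRing A] [IsDomain A] [Algebra P A]
  [FaithfulSMul P A] [Module.Finite P A]

/-- a primitive element of `Frac A / Frac P` can be found in `A` -/
theorem exists_primitive_in [CharZero P] :
    ∃ α : A, (FractionRing P)⟮algebraMap A (FractionRing A) α⟯ = ⊤ := by
  classical
  set L := FractionRing P
  set K := FractionRing A
  have hint : Algebra.IsIntegral P A := Algebra.IsIntegral.of_finite P A
  have halg : Algebra.IsAlgebraic P A := inferInstance
  have hloc : IsLocalization (Algebra.algebraMapSubmonoid A P⁰) K := inferInstance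
  have hfd : FiniteDimensional L K := Module.Finite.of_isLocalization P A P⁰
  have hcz : CharZero L := inferInstance
  obtain ⟨β, hβ⟩ := Field.exists_primitive_element L K
  obtain ⟨⟨a, ⟨s, hs⟩⟩, has⟩ := IsLocalization.surj (Algebra.algebraMapSubmonoid A P⁰) β
  obtain ⟨p, hp, rfl⟩ := hs
  refine ⟨a, ?_⟩
  rw [eq_top_iff, ← hβ, IntermediateField.adjoin_simple_le_iff]
  simp only at has
  have hp0 : (algebraMap P L p) ≠ 0 := by
    intro h0
    have := (FaithfulSMul.algebraMap_injective P L) (h0.trans (map_zero _).symm)
    exact (nonZeroDivisors.ne_zero hp) this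
  have e1 : algebraMap A K (algebraMap P A p) = algebraMap L K (algebraMap P L p) := by
    rw [← IsScalarTower.algebraMap_apply, ← IsScalarTower.algebraMap_apply]
  have hβeq : β = algebraMap A K a * (algebraMap L K (algebraMap P L p))⁻¹ := by
    rw [← has, e1, mul_assoc, mul_inv_cancel₀, mul_one]
    intro h0
    exact hp0 ((algebraMap L K).injective (h0.trans (map_zero _).symm))
  rw [hβeq]
  refine mul_mem (IntermediateField.mem_adjoin_simple_self L _) (inv_mem ?_)
  exact IntermediateField.algebraMap_mem _ _

variable {P A}

/-- every element of `A` becomes a polynomial in a primitive element after multiplying by a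
nonzero scalar -/
theorem exists_smul_mem_range (α : A)
    (hα : (FractionRing P)⟮algebraMap A (FractionRing A) α⟯ = ⊤) (a : A) :
    ∃ c : P, c ≠ 0 ∧ ∃ G : P[X], aeval α G = c • a := by
  classical
  set L := FractionRing P
  set K := FractionRing A
  have hint : Algebra.IsIntegral P A := Algebra.IsIntegral.of_finite P A
  have hloc : IsLocalization (Algebra.algebraMapSubmonoid A P⁰) K := inferInstance
  have hfd : FiniteDimensional L K := Module.Finite.of_isLocalization P A P⁰
  have hmem : algebraMap A K a ∈ (L⟮algebraMap A K α⟯).toSubalgebra := by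
    rw [hα]; trivial
  rw [IntermediateField.adjoin_simple_toSubalgebra_of_isAlgebraic
    (Algebra.IsAlgebraic.isAlgebraic _), Algebra.adjoin_singleton_eq_range_aeval] at hmem
  obtain ⟨q, hq⟩ := hmem
  obtain ⟨b, hb, hbq⟩ := IsLocalization.integerNormalization_spec P⁰ q
  refine ⟨b, nonZeroDivisors.ne_zero hb, IsLocalization.integerNormalization P⁰ q, ?_⟩
  apply FaithfulSMul.algebraMap_injective A K
  have : (aeval (algebraMap A K α)) q = algebraMap A K a := hq
  rw [← aeval_algebraMap_apply, ← aeval_map_algebraMap L, hbq, Algebra.smul_def,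
    Polynomial.algebraMap_apply, map_mul, aeval_C, this, Algebra.smul_def, map_mul,
    ← IsScalarTower.algebraMap_apply, ← IsScalarTower.algebraMap_apply]

/-- a uniform denominator -/
theorem exists_uniform_denominator (α : A)
    (hα : (FractionRing P)⟮algebraMap A (FractionRing A) α⟯ = ⊤) :
    ∃ h : P, h ≠ 0 ∧ ∀ a : A, ∃ G : P[X], aeval α G = h • a := by
  classical
  have key : ∀ s : Finset A, ∃ h : P, h ≠ 0 ∧
      ∀ a ∈ Submodule.span P (s : Set A), ∃ G : P[X], aeval α G = h • a := by
    intro s
    induction s using Finset.induction_on with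
    | empty =>
      refine ⟨1, one_ne_zero, fun a ha => ⟨0, ?_⟩⟩
      simp only [Finset.coe_empty, Submodule.span_empty, Submodule.mem_bot] at ha
      simp [ha]
    | insert x s hx ih =>
      obtain ⟨h, hh, ih⟩ := ih
      obtain ⟨c, hc, G, hG⟩ := exists_smul_mem_range α hα x
      refine ⟨c * h, mul_ne_zero hc hh, fun a ha => ?_⟩
      rw [Finset.coe_insert, Submodule.mem_span_insert] at ha
      obtain ⟨r, b, hb, rfl⟩ := ha
      obtain ⟨G', hG'⟩ := ih b hb
      refine ⟨C (r * h) * G + C c * G', ?_⟩
      simp only [map_add, map_mul, hG, hG', aeval_C, Algebra.smul_def]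
      ring
  obtain ⟨s, hs⟩ := (Module.finite_def.1 (inferInstance : Module.Finite P A))
  obtain ⟨h, hh, H⟩ := key s
  exact ⟨h, hh, fun a => H a (by rw [hs]; trivial)⟩

/-- Bezout identity for the minimal polynomial, with a nonzero constant on the right -/
theorem exists_bezout [CharZero P] [IsIntegrallyClosed P] (α : A) :
    ∃ c : P, c ≠ 0 ∧ ∃ u v : P[X],
      u * minpoly P α + v * derivative (minpoly P α) = C c := by
  classical
  set L := FractionRing P
  set K := FractionRing A
  have hint : Algebra.IsIntegral P A := Algebra.IsIntegral.of_finite P A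
  have hs : IsIntegral P α := Algebra.IsIntegral.isIntegral α
  have hcz : CharZero L := inferInstance
  have e := minpoly.isIntegrallyClosed_eq_field_fractions L K hs
  have hirr : Irreducible ((minpoly P α).map (algebraMap P L)) := by
    rw [← e]
    exact minpoly.irreducible (hs.map (IsScalarTower.toAlgHom P A K)).tower_top
  obtain ⟨u, v, huv⟩ := hirr.separable
  obtain ⟨b₁, hb₁, hu⟩ := IsLocalization.integerNormalization_spec P⁰ u
  obtain ⟨b₂, hb₂, hv⟩ := IsLocalization.integerNormalization_spec P⁰ v
  refine ⟨b₁ * b₂, mul_ne_zero (nonZeroDivisors.ne_zero hb₁) (nonZeroDivisors.ne_zero hb₂),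
    C b₂ * IsLocalization.integerNormalization P⁰ u,
    C b₁ * IsLocalization.integerNormalization P⁰ v, ?_⟩
  apply Polynomial.map_injective (algebraMap P L) (FaithfulSMul.algebraMap_injective P L)
  have huv' : u * map (algebraMap P L) (minpoly P α) +
      v * map (algebraMap P L) (derivative (minpoly P α)) = 1 := by
    rw [← Polynomial.derivative_map]; exact huv
  simp only [Polynomial.map_add, Polynomial.map_mul, Polynomial.map_C, hu, hv]
  rw [Algebra.smul_def, Algebra.smul_def, Polynomial.algebraMap_apply,
    Polynomial.algebraMap_apply]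
  have : C (algebraMap P L b₂) * (C (algebraMap P L b₁) * u) * map (algebraMap P L) (minpoly P α) +
      C (algebraMap P L b₁) * (C (algebraMap P L b₂) * v) *
        map (algebraMap P L) (derivative (minpoly P α)) =
      C (algebraMap P L b₁) * C (algebraMap P L b₂) *
        (u * map (algebraMap P L) (minpoly P α) +
          v * map (algebraMap P L) (derivative (minpoly P α))) := by ring
  rw [this, huv', mul_one, map_mul, C_mul]

/-- the package: primitive element, uniform denominator and Bezout identity with the same
nonzero scalar -/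
theorem exists_primitive_data (P A : Type*) [CommRing P] [IsDomain P] [CommRing A] [IsDomain A]
    [Algebra P A] [FaithfulSMul P A] [Module.Finite P A] [CharZero P] [IsIntegrallyClosed P] :
    ∃ (α : A) (h : P), h ≠ 0 ∧ (∀ a : A, ∃ G : P[X], aeval α G = h • a) ∧
      ∃ u v : P[X], u * minpoly P α + v * derivative (minpoly P α) = C h := by
  obtain ⟨α, hα⟩ := exists_primitive_in P A
  obtain ⟨h₀, hh₀, H⟩ := exists_uniform_denominator α hα
  obtain ⟨c, hc, u, v, huv⟩ := exists_bezout (P := P) α
  refine ⟨α, h₀ * c, mul_ne_zero hh₀ hc, fun a => ?_, C h₀ * u, C h₀ * v, ?_⟩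
  · obtain ⟨G, hG⟩ := H a
    refine ⟨C c * G, ?_⟩
    rw [map_mul, hG, aeval_C, Algebra.smul_def, Algebra.smul_def, map_mul]
    ring
  · rw [C_mul, ← huv]
    ring

end Groth.Agent.R2.H20.PrimElt
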