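import Groth.Agent.R2.H20RootCover
import Groth.Agent.R2.H20PrimElt
import Groth.Agent.Lib.Helper6Density

/-!
# The set of `ℂ`-points of a finitely generated `ℂ`-domain is preconnected (helper20)
-/

set_option autoImplicit false

open MvPolynomial Topology

namespace Groth.Agent.R2.H20.AnConnAlg

open Groth.Agent.R2.H20.RootCover Groth.Agent.R2.H20.PrimElt

section aux

variable {d : ℕ}

lemma evalFun_mul (G G' : Polynomial (MvPolynomial (Fin d) ℂ)) (p : (Fin d → ℂ) × ℂ) :
    evalFun (G * G') p = evalFun G p * evalFun G' p := by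
  unfold evalFun spec
  rw [Polynomial.map_mul, Polynomial.eval_mul]

lemma evalFun_add (G G' : Polynomial (MvPolynomial (Fin d) ℂ)) (p : (Fin d → ℂ) × ℂ) :
    evalFun (G + G') p = evalFun G p + evalFun G' p := by
  unfold evalFun spec
  rw [Polynomial.map_add, Polynomial.eval_add]

lemma evalFun_sub (G G' : Polynomial (MvPolynomial (Fin d) ℂ)) (p : (Fin d → ℂ) × ℂ) :
    evalFun (G - G') p = evalFun G p - evalFun G' p := by
  unfold evalFun spec
  rw [Polynomial.map_sub, Polynomial.eval_sub]

lemma evalFun_C (c : MvPolynomial (Fin d) ℂ) (p : (Fin d → ℂ) × ℂ) :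
    evalFun (Polynomial.C c) p = eval p.1 c := by
  unfold evalFun spec
  rw [Polynomial.map_C, Polynomial.eval_C]

lemma evalFun_zero (p : (Fin d → ℂ) × ℂ) :
    evalFun (0 : Polynomial (MvPolynomial (Fin d) ℂ)) p = 0 := by
  unfold evalFun spec
  rw [Polynomial.map_zero, Polynomial.eval_zero]

lemma continuous_evalFun (G : Polynomial (MvPolynomial (Fin d) ℂ)) : Continuous (evalFun G) := by
  rw [← continuousOn_univ]
  exact (analyticOnNhd_evalFun G).continuousOn

end aux

variable {d : ℕ} {A : Type*} [CommRing A] [IsDomain A] [Algebra ℂ A]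
  [Algebra (MvPolynomial (Fin d) ℂ) A] [IsScalarTower ℂ (MvPolynomial (Fin d) ℂ) A]
  [Module.Finite (MvPolynomial (Fin d) ℂ) A] [FaithfulSMul (MvPolynomial (Fin d) ℂ) A]

/-- the values of an algebra homomorphism on the polynomial subring -/
lemma algHom_algebraMap (ψ : A →ₐ[ℂ] ℂ) (q : MvPolynomial (Fin d) ℂ) :
    ψ (algebraMap (MvPolynomial (Fin d) ℂ) A q) =
      eval (fun i => ψ (algebraMap (MvPolynomial (Fin d) ℂ) A (X i))) q := by
  have : (ψ.comp (IsScalarTower.toAlgHom ℂ (MvPolynomial (Fin d) ℂ) A)) =
      MvPolynomial.aeval (fun i => ψ (algebraMap (MvPolynomial (Fin d) ℂ) A (X i))) := by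
    apply MvPolynomial.algHom_ext
    intro i
    simp
  have h2 := congrArg (fun φ : MvPolynomial (Fin d) ℂ →ₐ[ℂ] ℂ => φ q) this
  simp only [AlgHom.comp_apply, IsScalarTower.coe_toAlgHom'] at h2
  rw [h2]
  exact congrFun (MvPolynomial.aeval_eq_eval _) q

/-- the values of an algebra homomorphism on polynomials in `α` -/
lemma algHom_aeval (ψ : A →ₐ[ℂ] ℂ) (α : A) (G : Polynomial (MvPolynomial (Fin d) ℂ)) :
    ψ (Polynomial.aeval α G) =
      evalFun G (fun i => ψ (algebraMap (MvPolynomial (Fin d) ℂ) A (X i)), ψ α) := by
  induction G using Polynomial.induction_on' with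
  | add p q hp hq => rw [map_add, map_add, hp, hq, evalFun_add]
  | monomial n a =>
    rw [← Polynomial.C_mul_X_pow_eq_monomial, map_mul, map_mul, Polynomial.aeval_C, map_pow,
      Polynomial.aeval_X, evalFun_mul, evalFun_C, algHom_algebraMap, map_pow]
    congr 1
    unfold evalFun spec
    simp

set_option linter.unusedSectionVars false

/-- The main algebraic step: for a domain finite and torsion-free over a polynomial ring, the set
of algebra homomorphisms to `ℂ` is preconnected in the topology of pointwise convergence. -/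
theorem isPreconnected_algHoms_aux (d : ℕ) (A : Type*) [CommRing A] [IsDomain A] [Algebra ℂ A]
    [Algebra (MvPolynomial (Fin d) ℂ) A] [IsScalarTower ℂ (MvPolynomial (Fin d) ℂ) A]
    [Module.Finite (MvPolynomial (Fin d) ℂ) A] [FaithfulSMul (MvPolynomial (Fin d) ℂ) A]
    [Algebra.FiniteType ℂ A] :
    IsPreconnected (Set.range fun ψ : A →ₐ[ℂ] ℂ => (ψ : A → ℂ)) := by
  classical
  set P := MvPolynomial (Fin d) ℂ with hP
  obtain ⟨α, h, hh, H, u, v, huv⟩ := exists_primitive_data P A
  have hintA : Algebra.IsIntegral P A := Algebra.IsIntegral.of_finite P A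
  have hint : IsIntegral P α := Algebra.IsIntegral.isIntegral α
  set F := minpoly P α with hFdef
  have hF : F.Monic := minpoly.monic hint
  have hirr : Irreducible F := minpoly.irreducible hint
  have hsep : ∀ z, eval z h ≠ 0 → (spec F z).Separable := by
    intro z hz
    have e := congrArg (Polynomial.map (eval z)) huv
    simp only [Polynomial.map_add, Polynomial.map_mul, Polynomial.map_C,
      ← Polynomial.derivative_map] at e
    refine ⟨Polynomial.C (eval z h)⁻¹ * Polynomial.map (eval z) u,
      Polynomial.C (eval z h)⁻¹ * Polynomial.map (eval z) v, ?_⟩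
    have : Polynomial.C (eval z h)⁻¹ * Polynomial.map (eval z) u * spec F z +
        Polynomial.C (eval z h)⁻¹ * Polynomial.map (eval z) v *
          Polynomial.derivative (spec F z) =
        Polynomial.C (eval z h)⁻¹ * (Polynomial.map (eval z) u * Polynomial.map (eval z) F +
          Polynomial.map (eval z) v * Polynomial.derivative (Polynomial.map (eval z) F)) := by
      unfold spec; ring
    rw [this, e, ← Polynomial.C_mul, inv_mul_cancel₀ hz, Polynomial.C_1]
  have hconn := isPreconnected_cover (F := F) (h := h) hF hirr hsep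
  choose G hG using H
  -- the kernel property
  have hker : ∀ (p : (Fin d → ℂ) × ℂ), p ∈ cover F h → ∀ Q Q' : Polynomial P,
      Polynomial.aeval α Q = Polynomial.aeval α Q' → evalFun Q p = evalFun Q' p := by
    intro p hp Q Q' hQ
    have h0 : Polynomial.aeval α (Q - Q') = 0 := by rw [map_sub, hQ, sub_self]
    obtain ⟨R, hR⟩ := minpoly.isIntegrallyClosed_dvd hint h0
    have : evalFun (Q - Q') p = 0 := by
      rw [hR, evalFun_mul, hp.2, zero_mul]
    rw [evalFun_sub] at this
    exact sub_eq_zero.1 this
  let Φ : (Fin d → ℂ) × ℂ → (A → ℂ) := fun p a => evalFun (G a) p / eval p.1 h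
  have hcont : ContinuousOn Φ (cover F h) := by
    refine continuousOn_pi.2 fun a => ?_
    refine ContinuousOn.div (continuous_evalFun (G a)).continuousOn ?_ (fun p hp => hp.1)
    exact ((MvPolynomial.continuous_eval h).comp continuous_fst).continuousOn
  have himg : Φ '' cover F h =
      {φ : A → ℂ | ∃ ψ : A →ₐ[ℂ] ℂ, ⇑ψ = φ ∧ ψ (algebraMap P A h) ≠ 0} := by
    apply Set.Subset.antisymm
    · rintro _ ⟨p, hp, rfl⟩
      have he : eval p.1 h ≠ 0 := hp.1
      -- values on the polynomial ring
      have hval : ∀ q : P, Φ p (algebraMap P A q) = eval p.1 q := by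
        intro q
        have : Polynomial.aeval α (G (algebraMap P A q)) =
            Polynomial.aeval α (Polynomial.C (h * q)) := by
          rw [hG, Polynomial.aeval_C, Algebra.smul_def, map_mul]
        change evalFun (G (algebraMap P A q)) p / eval p.1 h = _
        rw [hker p hp _ _ this, evalFun_C, map_mul, mul_div_cancel_left₀ _ he]
      have hmul : ∀ a b : A, Φ p (a * b) = Φ p a * Φ p b := by
        intro a b
        have : Polynomial.aeval α (Polynomial.C h * G (a * b)) =
            Polynomial.aeval α (G a * G b) := by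
          rw [map_mul, map_mul, hG, hG, hG, Polynomial.aeval_C, Algebra.smul_def, Algebra.smul_def,
            Algebra.smul_def]
          ring
        have e := hker p hp _ _ this
        rw [evalFun_mul, evalFun_mul, evalFun_C] at e
        change evalFun (G (a * b)) p / eval p.1 h =
          evalFun (G a) p / eval p.1 h * (evalFun (G b) p / eval p.1 h)
        field_simp
        linear_combination e
      have hadd : ∀ a b : A, Φ p (a + b) = Φ p a + Φ p b := by
        intro a b
        have : Polynomial.aeval α (G (a + b)) = Polynomial.aeval α (G a + G b) := by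
          rw [map_add, hG, hG, hG, smul_add]
        have e := hker p hp _ _ this
        rw [evalFun_add] at e
        change evalFun (G (a + b)) p / eval p.1 h =
          evalFun (G a) p / eval p.1 h + evalFun (G b) p / eval p.1 h
        rw [e, add_div]
      have hone : Φ p 1 = 1 := by
        have := hval 1
        rwa [map_one, map_one] at this
      have hzero : Φ p 0 = 0 := by
        have := hval 0
        rwa [map_zero, map_zero] at this
      let ψ : A →ₐ[ℂ] ℂ :=
        { toFun := Φ p
          map_one' := hone
          map_mul' := hmul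
          map_zero' := hzero
          map_add' := hadd
          commutes' := fun c => by
            change Φ p (algebraMap ℂ A c) = c
            rw [IsScalarTower.algebraMap_apply ℂ P A, hval]
            exact MvPolynomial.eval_C c }
      refine ⟨ψ, rfl, ?_⟩
      change Φ p (algebraMap P A h) ≠ 0
      rw [hval]
      exact he
    · rintro φ ⟨ψ, rfl, hψ⟩
      set p : (Fin d → ℂ) × ℂ := (fun i => ψ (algebraMap P A (X i)), ψ α) with hp
      have hp1 : eval p.1 h = ψ (algebraMap P A h) := (algHom_algebraMap ψ h).symm
      refine ⟨p, ⟨?_, ?_⟩, ?_⟩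
      · rw [hp1]; exact hψ
      · rw [← algHom_aeval ψ α F, hFdef, minpoly.aeval, map_zero]
      · funext a
        change evalFun (G a) p / eval p.1 h = ψ a
        rw [← algHom_aeval ψ α (G a), hG, hp1, Algebra.smul_def, map_mul,
          mul_div_cancel_left₀ _ hψ]
  have hpre : IsPreconnected (Φ '' cover F h) := hconn.image Φ hcont
  rw [himg] at hpre
  refine hpre.subset_closure ?_ ?_
  · rintro φ ⟨ψ, rfl, -⟩
    exact ⟨ψ, rfl⟩
  · rintro _ ⟨ψ₀, rfl⟩
    have hne : algebraMap P A h ≠ 0 := by
      intro h0
      exact hh (FaithfulSMul.algebraMap_injective P A (h0.trans (map_zero _).symm))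
    exact Groth.Agent.Lib.Helper6.core_density (algebraMap P A h) hne ψ₀

/-- The set of `ℂ`-points of a finitely generated `ℂ`-algebra which is a domain is preconnected. -/
theorem isPreconnected_algHoms (B : Type*) [CommRing B] [IsDomain B] [Algebra ℂ B]
    [Algebra.FiniteType ℂ B] :
    IsPreconnected (Set.range fun ψ : B →ₐ[ℂ] ℂ => (ψ : B → ℂ)) := by
  obtain ⟨d, g, hginj, hgfin⟩ := exists_finite_inj_algHom_of_fg ℂ B
  let _ : Algebra (MvPolynomial (Fin d) ℂ) B := g.toRingHom.toAlgebra
  have : IsScalarTower ℂ (MvPolynomial (Fin d) ℂ) B :=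
    IsScalarTower.of_algebraMap_eq fun c => (g.commutes c).symm
  have : Module.Finite (MvPolynomial (Fin d) ℂ) B := hgfin
  have : FaithfulSMul (MvPolynomial (Fin d) ℂ) B :=
    (faithfulSMul_iff_algebraMap_injective _ _).2 hginj
  exact isPreconnected_algHoms_aux d B

end Groth.Agent.R2.H20.AnConnAlg
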