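import Groth.Agent.R2.H20AnConn
import Groth.Agent.Lib.Helper6AnEps
import Groth.Agent.Lib.Helper6AnSep
import Mathlib.AlgebraicGeometry.Morphisms.FlatMono
import Mathlib.AlgebraicGeometry.Morphisms.FormallyUnramified
import Mathlib.AlgebraicGeometry.Morphisms.Etale
import Mathlib.AlgebraicGeometry.Morphisms.IsIso

/-!
# Full faithfulness of `U ↦ U(ℂ)` on etale schemes (helper20)
-/

set_option autoImplicit false

open AlgebraicGeometry CategoryTheory CategoryTheory.Limits TopologicalSpace Opposite An Topology

namespace Groth.Agent.R2.H20.AnEps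

open Groth.Agent.Lib.Helper6 Groth.Agent.R2.H20.AnConn

section lemmaE

variable {Y Z : Scheme.{0}} [Y.Over SC] [Z.Over SC]

/-- an open subset containing all `ℂ`-points is everything -/
lemma eq_univ_of_forall_pt_mem [LocallyOfFiniteType (Z ↘ SC)] {T : Set Z} (hT : IsOpen T)
    (h : ∀ s : Pts Z, s.pt ∈ T) : T = Set.univ := by
  by_contra hne
  obtain ⟨s, hs⟩ := exists_pt_mem_of_isLocallyClosed (X := Z) (T := Tᶜ)
    hT.isClosed_compl.isLocallyClosed (Set.nonempty_compl.2 hne)
  exact hs (h s)

/-- an etale morphism which is injective on `ℂ`-points is a monomorphism -/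
theorem mono_of_etale_of_injective_pts [LocallyOfFiniteType (Y ↘ SC)]
    (f : Y ⟶ Z) [f.IsOver SC] [Etale f] (hinj : Function.Injective (Pts.map f)) : Mono f := by
  rw [← pullback.isIso_diagonal_iff]
  have hoi : IsOpenImmersion (pullback.diagonal f) := inferInstance
  rw [isIso_iff_isOpenImmersion_and_surjective]
  refine ⟨hoi, ⟨?_⟩⟩
  rw [← Set.range_eq_univ]
  apply eq_univ_of_forall_pt_mem (pullback.diagonal f).isOpenEmbedding.isOpen_range
  intro w
  have hxx' := hinj (Pts.map_pullback_condition f f w)
  have h1 : w.1 ≫ pullback.fst f f = w.1 ≫ pullback.snd f f := congrArg Subtype.val hxx'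
  have h2 : w.1 = (w.1 ≫ pullback.fst f f) ≫ pullback.diagonal f := by
    apply pullback.hom_ext
    · simp
    · simp [h1]
  refine ⟨(w.1 ≫ pullback.fst f f) cpt, ?_⟩
  rw [← Scheme.Hom.comp_apply, ← h2]
  rfl

/-- an etale morphism which is bijective on `ℂ`-points is an isomorphism -/
theorem isIso_of_etale_of_bijective_pts [LocallyOfFiniteType (Y ↘ SC)]
    [LocallyOfFiniteType (Z ↘ SC)]
    (f : Y ⟶ Z) [f.IsOver SC] [Etale f] (hbij : Function.Bijective (Pts.map f)) : IsIso f := by
  have hmono := mono_of_etale_of_injective_pts f hbij.1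
  have hoi : IsOpenImmersion f := IsOpenImmersion.of_flat_of_mono f
  rw [isIso_iff_isOpenImmersion_and_surjective]
  refine ⟨hoi, ⟨?_⟩⟩
  rw [← Set.range_eq_univ]
  apply eq_univ_of_forall_pt_mem f.isOpenEmbedding.isOpen_range
  intro s
  obtain ⟨t, rfl⟩ := hbij.2 s
  exact ⟨t.pt, (Pts.pt_map f t).symm⟩

end lemmaE

section faithful

/-- two morphisms into a scheme with open diagonal over `X`, agreeing on `ℂ`-points, are equal -/
theorem eq_of_forall_pts_comp_eq {U V X : Scheme.{0}} [U.Over SC] [LocallyOfFiniteType (U ↘ SC)]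
    (p : V ⟶ X) [IsOpenImmersion (pullback.diagonal p)] (g g' : U ⟶ V)
    (hcomp : g ≫ p = g' ≫ p) (h : ∀ s : Pts U, s.1 ≫ g = s.1 ≫ g') : g = g' := by
  let k : U ⟶ pullback p p := pullback.lift g g' hcomp
  have hoi : IsOpenImmersion (pullback.fst k (pullback.diagonal p)) := inferInstance
  have hiso : IsIso (pullback.fst k (pullback.diagonal p)) := by
    rw [isIso_iff_isOpenImmersion_and_surjective]
    refine ⟨hoi, ⟨?_⟩⟩
    rw [← Set.range_eq_univ]
    apply eq_univ_of_forall_pt_mem
      (pullback.fst k (pullback.diagonal p)).isOpenEmbedding.isOpen_range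
    intro s
    have hcond : s.1 ≫ k = (s.1 ≫ g) ≫ pullback.diagonal p := by
      apply pullback.hom_ext
      · rw [Category.assoc, Category.assoc, pullback.diagonal_fst, Category.comp_id,
          pullback.lift_fst]
      · rw [Category.assoc, Category.assoc, pullback.diagonal_snd, Category.comp_id,
          pullback.lift_snd, h s]
    refine ⟨(pullback.lift s.1 (s.1 ≫ g) hcond) cpt, ?_⟩
    rw [← Scheme.Hom.comp_apply, pullback.lift_fst]
    rfl
  have e1 : pullback.fst k (pullback.diagonal p) ≫ g =
      pullback.snd k (pullback.diagonal p) := by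
    have : g = k ≫ pullback.fst p p := (pullback.lift_fst _ _ _).symm
    rw [this, ← Category.assoc, pullback.condition, Category.assoc, pullback.diagonal_fst,
      Category.comp_id]
  have e2 : pullback.fst k (pullback.diagonal p) ≫ g' =
      pullback.snd k (pullback.diagonal p) := by
    have : g' = k ≫ pullback.snd p p := (pullback.lift_snd _ _ _).symm
    rw [this, ← Category.assoc, pullback.condition, Category.assoc, pullback.diagonal_snd,
      Category.comp_id]
  rw [← cancel_epi (pullback.fst k (pullback.diagonal p)), e1, e2]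

end faithful

section full

variable {X U V : Scheme.{0}} [X.Over SC] [U.Over SC] [V.Over SC]

/-- every continuous map `U(ℂ) → V(ℂ)` over `X(ℂ)` to a separated etale `X`-scheme `V` is induced
by an `X`-morphism -/
theorem exists_lift_of_continuous [Fact EtaleLH]
    [LocallyOfFiniteType (X ↘ SC)] [LocallyOfFiniteType (U ↘ SC)] [LocallyOfFiniteType (V ↘ SC)]
    (a : U ⟶ X) (b : V ⟶ X) [a.IsOver SC] [b.IsOver SC] [Etale b] [IsSeparated b]
    (φ : Pts U → Pts V) (hφ : Continuous φ) (hφa : ∀ s, Pts.map b (φ s) = Pts.map a s) :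
    ∃ g : U ⟶ V, g ≫ b = a ∧ ∀ s : Pts U, s.1 ≫ g = (φ s).1 := by
  have hlW : LocallyOfFiniteType (pullback a b ↘ SC) := inferInstance
  have hsep : IsSeparatedMap (Pts.map b) := (isSeparated_iff_pts b).1 inferInstance
  have hlh : IsLocalHomeomorph (Pts.map b) := (Fact.out : EtaleLH) V X b
  have hcomp : Pts.map b ∘ Pts.map (pullback.snd a b) =
      Pts.map b ∘ (φ ∘ Pts.map (pullback.fst a b)) := by
    funext w
    simp only [Function.comp_apply]
    rw [hφa, Pts.map_pullback_condition a b w]
  have hcl : IsClosed {w : Pts (pullback a b) |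
      Pts.map (pullback.snd a b) w = φ (Pts.map (pullback.fst a b) w)} :=
    hsep.isClosed_eqLocus (Pts.continuous_map _) (hφ.comp (Pts.continuous_map _)) hcomp
  have hop : IsOpen {w : Pts (pullback a b) |
      Pts.map (pullback.snd a b) w = φ (Pts.map (pullback.fst a b) w)} :=
    hlh.isLocallyInjective.isOpen_eqLocus (Pts.continuous_map _)
      (hφ.comp (Pts.continuous_map _)) hcomp
  obtain ⟨W', hW', hpre⟩ := exists_isClopen_preimage_eq _ ⟨hcl, hop⟩
  let Wo : (pullback a b).Opens := ⟨W', hW'.2⟩
  have hlWo : LocallyOfFiniteType (Wo.toScheme ↘ SC) := by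
    rw [← Scheme.Opens.ι_comp_over]; infer_instance
  -- membership in the graph
  have hmem : ∀ t : Pts Wo.toScheme, Pts.map (pullback.snd a b) (Pts.map Wo.ι t) =
      φ (Pts.map (pullback.fst a b) (Pts.map Wo.ι t)) := by
    intro t
    have : Pts.map Wo.ι t ∈ Pts.pt ⁻¹' W' := by
      rw [Set.mem_preimage, Pts.pt_map]
      exact (t.pt).2
    rw [hpre] at this
    exact this
  have hbij : Function.Bijective (Pts.map (Wo.ι ≫ pullback.fst a b)) := by
    constructor
    · intro t t' htt'
      rw [Pts.map_comp, Pts.map_comp] at htt'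
      have h2 : Pts.map (pullback.snd a b) (Pts.map Wo.ι t) =
          Pts.map (pullback.snd a b) (Pts.map Wo.ι t') := by
        rw [hmem t, hmem t', htt']
      have hinj := (bijective_pts_of_isPullback (pullback.fst a b) (pullback.snd a b) a b
        (IsPullback.of_hasPullback a b)).1
      have : Pts.map Wo.ι t = Pts.map Wo.ι t' := by
        apply hinj
        apply Subtype.ext
        exact Prod.ext htt' h2
      exact map_injective_of_mono Wo.ι this
    · intro s
      obtain ⟨w, hw⟩ := (bijective_pts_of_isPullback (pullback.fst a b) (pullback.snd a b) a b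
        (IsPullback.of_hasPullback a b)).2 ⟨(s, φ s), (hφa s).symm⟩
      have hw1 : Pts.map (pullback.fst a b) w = s := congrArg (fun q => q.1.1) hw
      have hw2 : Pts.map (pullback.snd a b) w = φ s := congrArg (fun q => q.1.2) hw
      have hwΓ : w ∈ Pts.pt ⁻¹' W' := by
        rw [hpre]
        change Pts.map (pullback.snd a b) w = φ (Pts.map (pullback.fst a b) w)
        rw [hw1, hw2]
      have hwr : w ∈ Set.range (Pts.map Wo.ι) := by
        rw [range_map_of_isOpenImmersion, Scheme.Opens.opensRange_ι]
        exact hwΓ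
      obtain ⟨t, rfl⟩ := hwr
      exact ⟨t, by rw [Pts.map_comp]; exact hw1⟩
  have hiso := isIso_of_etale_of_bijective_pts (Wo.ι ≫ pullback.fst a b) hbij
  refine ⟨inv (Wo.ι ≫ pullback.fst a b) ≫ Wo.ι ≫ pullback.snd a b, ?_, ?_⟩
  · rw [Category.assoc, Category.assoc, ← pullback.condition, ← Category.assoc Wo.ι,
      IsIso.inv_hom_id_assoc]
  · intro s
    obtain ⟨t, rfl⟩ := hbij.2 s
    have h1 : (Pts.map (Wo.ι ≫ pullback.fst a b) t).1 = t.1 ≫ (Wo.ι ≫ pullback.fst a b) := rfl
    rw [h1, Category.assoc, IsIso.hom_inv_id_assoc]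
    have h2 := congrArg Subtype.val (hmem t)
    rw [Pts.map_comp]
    exact h2

end full

end Groth.Agent.R2.H20.AnEps
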