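import Groth.Agent.R2.H20AnProperB
import Groth.Agent.Lib.Helper6AnFT

/-!
# helper20: finite morphisms and `ℂ`-points

* `isClosed_singleton_pt` : the point underlying a `ℂ`-point is closed.
* `finite_preimage_pt` : if the fibre of `X(ℂ) → Y(ℂ)` over `y` is finite, so is the fibre of `X → Y`.
* `isFinite_of_isProper_of_finite_fibres` : a proper morphism with finite fibres on `ℂ`-points is finite.
* `finite_fibre` : finite morphisms have finite fibres on `ℂ`-points.
-/

set_option autoImplicit false

open CategoryTheory CategoryTheory.Limits AlgebraicGeometry TopologicalSpace Opposite An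

namespace Groth.Agent.R2.H20.AnFinite

open Groth.Agent.Lib.Helper6

variable {X Y : Scheme.{0}} [X.Over SC] [Y.Over SC]

/-- the point underlying a `ℂ`-point is closed -/
theorem isClosed_singleton_pt [LocallyOfFiniteType (Y ↘ SC)] (y : Pts Y) :
    IsClosed ({y.pt} : Set Y) := by
  have := jacobsonSpace_of_lft (X := Y)
  have h1 : IsImmersion (y.1 ≫ (Y ↘ SC)) := by rw [y.2]; infer_instance
  have h2 : IsImmersion y.1 := IsImmersion.of_comp y.1 (Y ↘ SC)
  have h3 : Set.range y.1 = {y.pt} := by
    ext p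
    simp only [Set.mem_range, Set.mem_singleton_iff]
    constructor
    · rintro ⟨c, rfl⟩
      rw [eq_cpt c]
      rfl
    · rintro rfl
      exact ⟨cpt, rfl⟩
  have h4 : IsLocallyClosed ({y.pt} : Set Y) := h3 ▸ y.1.isLocallyClosed_range
  exact isClosed_singleton_of_isLocallyClosed_singleton h4

/-- finite fibres on `ℂ`-points give finite fibres over `ℂ`-points -/
theorem finite_preimage_pt [LocallyOfFiniteType (X ↘ SC)] [LocallyOfFiniteType (Y ↘ SC)]
    (f : X ⟶ Y) [f.IsOver SC] (y : Pts Y) (h : (Pts.map f ⁻¹' {y}).Finite) :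
    (f ⁻¹' {y.pt}).Finite := by
  have := jacobsonSpace_of_lft (X := X)
  set F : Set X := f ⁻¹' {y.pt} with hF
  have hFc : IsClosed F := (isClosed_singleton_pt y).preimage f.continuous
  have hsub : F ∩ closedPoints X ⊆ Pts.pt '' (Pts.map f ⁻¹' {y}) := by
    rintro p ⟨hpF, hpc⟩
    obtain ⟨x, rfl⟩ := exists_pt_eq_of_isClosed p hpc
    refine ⟨x, ?_, rfl⟩
    apply pt_injective
    rw [Pts.pt_map]
    exact hpF
  have hfin : (F ∩ closedPoints X).Finite := (h.image _).subset hsub
  have hcl : IsClosed (F ∩ closedPoints X) := by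
    rw [← Set.biUnion_of_singleton (F ∩ closedPoints X)]
    exact hfin.isClosed_biUnion fun p hp => hp.2
  have := closure_inter_closedPoints hFc
  rw [hcl.closure_eq] at this
  rw [← this]
  exact hfin

set_option backward.isDefEq.respectTransparency.types false in
/-- **A proper morphism with finite fibres on `ℂ`-points is finite.** -/
theorem isFinite_of_isProper_of_finite_fibres [LocallyOfFiniteType (X ↘ SC)]
    [LocallyOfFiniteType (Y ↘ SC)] (f : X ⟶ Y) [f.IsOver SC] [IsProper f]
    (h : ∀ y : Pts Y, (Pts.map f ⁻¹' {y}).Finite) : IsFinite f := by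
  choose V hyV hV using fun y : Pts Y =>
    exists_isFinite_morphismRestrict_of_finite_preimage_singleton f y.pt
      (finite_preimage_pt f y (h y))
  refine IsZariskiLocalAtTarget.of_iSup_eq_top (P := @IsFinite) V ?_ hV
  by_contra hne
  have hne' : ((⨆ y, V y : Y.Opens) : Set Y)ᶜ.Nonempty := by
    rw [Set.nonempty_compl]
    intro h'
    exact hne (SetLike.coe_injective (by simpa using h'))
  obtain ⟨y, hy⟩ := exists_pt_mem_of_isLocallyClosed
    ((⨆ y, V y : Y.Opens).isOpen.isClosed_compl.isLocallyClosed) hne'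
  exact hy (Opens.mem_iSup.mpr ⟨y, hyV y⟩)

/-- finite morphisms have finite fibres on `ℂ`-points -/
lemma finite_fibre [LocallyOfFiniteType (Y ↘ SC)] (f : X ⟶ Y) [f.IsOver SC] [IsFinite f]
    (y : Pts Y) : (Pts.map f ⁻¹' {y}).Finite := by
  have h1 : (f ⁻¹' {y.pt} : Set X).Finite := f.finite_preimage_singleton y.pt
  have h2 : (Pts.pt ⁻¹' (f ⁻¹' {y.pt}) : Set (Pts X)).Finite :=
    h1.preimage (pt_injective.injOn)
  refine h2.subset ?_
  intro s hs
  have hs' : Pts.map f s = y := hs
  change f s.pt = y.pt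
  rw [← Pts.pt_map, hs']

end Groth.Agent.R2.H20.AnFinite
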