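import Groth.Agent.R2.H20PnCompact
import Groth.Agent.Lib.Helper6AnFib
import Groth.Agent.Lib.Helper6AnSep
import Groth.Agent.Lib.Helper6AnCons
import Groth.Agent.S9705

/-!
# helper20: projective morphisms induce proper maps on `ℂ`-points

* `isProperMap_of_isOpenCover` : properness of a continuous map is local on the target.
* `isHomeomorph_map_of_isIso`, `isProperMap_map_resLE_iff` : formal properties of `An.Pts`.
* `isProperMap_map_of_isPullback` : `Z = P ×_ℂ Y` with `P(ℂ)` compact ⇒ `Z(ℂ) → Y(ℂ)` proper.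
* `isProperMap_map_toBase` : `P^n_Y(ℂ) → Y(ℂ)` is proper.
* `isProperMap_map_of_closedImmersion_pn` : closed subschemes of `P^n_Y` are proper over `Y` on
  `ℂ`-points.
* `isClosedImmersion_of_isClosed_range` : an immersion whose image on `ℂ`-points is closed is a closed
  immersion.
-/

set_option autoImplicit false

open CategoryTheory CategoryTheory.Limits AlgebraicGeometry TopologicalSpace Opposite An

namespace Groth.Agent.R2.H20.AnProper

open Groth.Agent.Lib.Helper6 Groth.Agent.R2.H87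

section Topology

variable {α β ι : Type*} [TopologicalSpace α] [TopologicalSpace β]

/-- properness of a continuous map is local on the target -/
theorem isProperMap_of_isOpenCover {f : α → β} (hf : Continuous f) {U : ι → Opens β}
    (hU : IsOpenCover U) (h : ∀ i, IsProperMap ((U i).1.restrictPreimage f)) : IsProperMap f := by
  rw [isProperMap_iff_isClosedMap_and_compact_fibers]
  refine ⟨hf, hU.isClosedMap_iff_restrictPreimage.2 fun i => (h i).isClosedMap, fun y => ?_⟩
  obtain ⟨i, hi⟩ := hU.exists_mem y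
  have hc := (h i).isCompact_preimage (isCompact_singleton (x := (⟨y, hi⟩ : (U i).1)))
  have := hc.image continuous_subtype_val
  convert this using 1
  ext a
  simp only [Set.mem_preimage, Set.mem_singleton_iff, Set.mem_image, Subtype.exists,
    exists_and_right, exists_eq_right]
  constructor
  · intro ha
    exact ⟨by simpa [ha] using hi, Subtype.ext ha⟩
  · rintro ⟨_, ha⟩
    exact congrArg Subtype.val ha

end Topology

section Formal

variable {X Y : Scheme.{0}} [X.Over SC] [Y.Over SC]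

/-- an isomorphism over `ℂ` induces a homeomorphism on `ℂ`-points -/
noncomputable def homeoOfIso (e : X ≅ Y) [e.hom.IsOver SC] : Pts X ≃ₜ Pts Y where
  toFun := Pts.map e.hom
  invFun := Pts.map e.inv
  left_inv x := by rw [← Pts.map_comp]; simp [Pts.map_id]
  right_inv x := by rw [← Pts.map_comp]; simp [Pts.map_id]
  continuous_toFun := Pts.continuous_map _
  continuous_invFun := Pts.continuous_map _

theorem isHomeomorph_map_of_isIso (f : X ⟶ Y) [f.IsOver SC] [IsIso f] :
    IsHomeomorph (Pts.map f) := by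
  have : (asIso f).hom.IsOver SC := ‹f.IsOver SC›
  exact (homeoOfIso (asIso f)).isHomeomorph

/-- restricting `Pts.map f` over the `ℂ`-points of an open `V` is `Pts.map` of the restriction of `f`,
up to homeomorphisms -/
theorem isProperMap_map_resLE_iff (f : X ⟶ Y) [f.IsOver SC] (V : Y.Opens) :
    IsProperMap (Pts.map (f.resLE V (f ⁻¹ᵁ V) le_rfl)) ↔
      IsProperMap ((Pts.pt ⁻¹' (V : Set Y)).restrictPreimage (Pts.map f)) := by
  have hpre : Pts.map f ⁻¹' (Pts.pt ⁻¹' (V : Set Y)) = Pts.pt ⁻¹' ((f ⁻¹ᵁ V : X.Opens) : Set X) := by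
    ext s
    simp only [Set.mem_preimage, Pts.pt_map]
    rfl
  have hrU : Set.range (Pts.map (f ⁻¹ᵁ V).ι) = Pts.map f ⁻¹' (Pts.pt ⁻¹' (V : Set Y)) := by
    rw [range_map_of_isOpenImmersion, Scheme.Opens.opensRange_ι, hpre]
  have hrV : Set.range (Pts.map V.ι) = Pts.pt ⁻¹' (V : Set Y) := by
    rw [range_map_of_isOpenImmersion, Scheme.Opens.opensRange_ι]
  let eU : Pts (f ⁻¹ᵁ V).toScheme ≃ₜ ↥(Pts.map f ⁻¹' (Pts.pt ⁻¹' (V : Set Y))) :=
    ((isOpenEmbedding_map_of_isOpenImmersion (f ⁻¹ᵁ V).ι).isEmbedding.toHomeomorph).trans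
      (Homeomorph.setCongr hrU)
  let eV : Pts V.toScheme ≃ₜ ↥(Pts.pt ⁻¹' (V : Set Y)) :=
    ((isOpenEmbedding_map_of_isOpenImmersion V.ι).isEmbedding.toHomeomorph).trans
      (Homeomorph.setCongr hrV)
  have hconj : (Pts.pt ⁻¹' (V : Set Y)).restrictPreimage (Pts.map f) =
      eV ∘ (Pts.map (f.resLE V (f ⁻¹ᵁ V) le_rfl) ∘ eU.symm) := by
    funext z
    obtain ⟨z', rfl⟩ := eU.surjective z
    simp only [Function.comp_apply, Homeomorph.symm_apply_apply]
    apply Subtype.ext
    change Pts.map f (Pts.map (f ⁻¹ᵁ V).ι z') =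
      Pts.map V.ι (Pts.map (f.resLE V (f ⁻¹ᵁ V) le_rfl) z')
    apply Subtype.ext
    change (z'.1 ≫ (f ⁻¹ᵁ V).ι) ≫ f = (z'.1 ≫ f.resLE V (f ⁻¹ᵁ V) le_rfl) ≫ V.ι
    rw [Category.assoc, Category.assoc, Scheme.Hom.resLE_comp_ι]
  have hconj' : Pts.map (f.resLE V (f ⁻¹ᵁ V) le_rfl) =
      eV.symm ∘ ((Pts.pt ⁻¹' (V : Set Y)).restrictPreimage (Pts.map f) ∘ eU) := by
    rw [hconj]
    funext z
    simp
  constructor
  · intro h
    rw [hconj]
    exact eV.isProperMap.comp (h.comp eU.symm.isProperMap)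
  · intro h
    rw [hconj']
    exact eV.symm.isProperMap.comp (h.comp eU.isProperMap)

/-- `Pts.map f` is proper as soon as it is so over the members of an open cover of the target -/
theorem isProperMap_map_of_openCover (f : X ⟶ Y) [f.IsOver SC] {ι : Type*} (V : ι → Y.Opens)
    (hV : (⨆ i, V i) = ⊤)
    (h : ∀ i, IsProperMap (Pts.map (f.resLE (V i) (f ⁻¹ᵁ V i) le_rfl))) :
    IsProperMap (Pts.map f) := by
  let U : ι → Opens (Pts Y) := fun i => ⟨Pts.pt ⁻¹' (V i : Set Y), Pts.isOpen_preimage_pt (V i)⟩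
  have hU : IsOpenCover U := by
    rw [IsOpenCover, eq_top_iff]
    intro y _
    have : y.pt ∈ (⨆ i, V i) := by rw [hV]; trivial
    obtain ⟨i, hi⟩ := Opens.mem_iSup.mp this
    exact Opens.mem_iSup.mpr ⟨i, hi⟩
  exact isProperMap_of_isOpenCover (Pts.continuous_map f) hU fun i =>
    (isProperMap_map_resLE_iff f (V i)).1 (h i)

end Formal

section PartB

attribute [local instance 2000] CategoryTheory.instOverClass

variable {P Y Z : Scheme.{0}} [P.Over SC] [Y.Over SC] [Z.Over SC]

/-- if `Z = P ×_ℂ Y` and `P(ℂ)` is compact then `Z(ℂ) → Y(ℂ)` is proper -/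
theorem isProperMap_map_of_isPullback (r : Z ⟶ P) (p : Z ⟶ Y) [r.IsOver SC] [p.IsOver SC]
    (H : IsPullback r p (P ↘ SC) (Y ↘ SC)) [CompactSpace (Pts P)] : IsProperMap (Pts.map p) := by
  -- compare with the chosen pullback
  let e : Z ≅ pullback (P ↘ SC) (Y ↘ SC) := H.isoPullback
  have he1 : e.hom ≫ pullback.fst _ _ = r := H.isoPullback_hom_fst
  have he2 : e.hom ≫ pullback.snd _ _ = p := H.isoPullback_hom_snd
  have : e.hom.IsOver SC := ⟨by
    change e.hom ≫ pullback.fst (P ↘ SC) (Y ↘ SC) ≫ (P ↘ SC) = Z ↘ SC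
    rw [← Category.assoc, he1, comp_over]⟩
  have hp : Pts.map p = Pts.map (pullback.snd (P ↘ SC) (Y ↘ SC)) ∘ Pts.map e.hom := by
    funext z
    rw [Function.comp_apply, ← Pts.map_comp]
    congr 1
    exact he2.symm
  rw [hp]
  refine IsProperMap.comp ?_ (isHomeomorph_map_of_isIso e.hom).isProperMap
  -- the projection from the fibre product of the spaces of points
  have hΦ := isHomeomorph_pts_pullback (P ↘ SC) (Y ↘ SC)
  set Φ : Pts (pullback (P ↘ SC) (Y ↘ SC)) →
      {q : Pts P × Pts Y // Pts.map (P ↘ SC) q.1 = Pts.map (Y ↘ SC) q.2} := fun z =>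
    ⟨(Pts.map (pullback.fst _ _) z, Pts.map (pullback.snd _ _) z),
      Pts.map_pullback_condition _ _ z⟩ with hΦdef
  have hsnd : Pts.map (pullback.snd (P ↘ SC) (Y ↘ SC)) =
      (Prod.snd : Pts P × Pts Y → Pts Y) ∘ (Subtype.val ∘ Φ) := rfl
  rw [hsnd]
  refine isProperMap_snd_of_compactSpace.comp (IsProperMap.comp ?_ hΦ.isProperMap)
  have : {q : Pts P × Pts Y | Pts.map (P ↘ SC) q.1 = Pts.map (Y ↘ SC) q.2} = Set.univ := by
    ext q
    simp only [Set.mem_ofPred_eq, Set.mem_univ, iff_true]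
    exact Subsingleton.elim _ _
  have hcl : IsClosed {q : Pts P × Pts Y | Pts.map (P ↘ SC) q.1 = Pts.map (Y ↘ SC) q.2} := by
    rw [this]
    exact isClosed_univ
  exact hcl.isProperMap_subtypeVal

end PartB

section Pn

variable (n : ℕ) (Y : Scheme.{0}) [Y.Over SC]

/-- `P^n_Y` as a scheme over `ℂ` (through `Y`) -/
@[reducible] noncomputable def pnOver : (CohB1.ProjSpaceOver n Y).Over SC :=
  ⟨CohB1.ProjSpaceOver.toBase n Y ≫ Y ↘ SC⟩

lemma toBase_isOver :
    @Scheme.Hom.IsOver _ _ (CohB1.ProjSpaceOver.toBase n Y) SC (pnOver n Y) _ :=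
  @HomIsOver.mk _ _ _ _ _ _ (pnOver n Y) _ rfl

lemma locallyOfFiniteType_pnOver [LocallyOfFiniteType (Y ↘ SC)] :
    LocallyOfFiniteType (@CategoryTheory.over _ _ (CohB1.ProjSpaceOver n Y) SC (pnOver n Y)) := by
  have : IsProper (CohB1.ProjSpaceOver.toBase n Y) := Groth.Agent.S9705.isProper_toBase n Y
  change LocallyOfFiniteType (CohB1.ProjSpaceOver.toBase n Y ≫ Y ↘ SC)
  infer_instance

/-- **`P^n_Y(ℂ) → Y(ℂ)` is a proper map.** -/
theorem isProperMap_map_toBase :
    IsProperMap (@Pts.map _ (pnOver n Y) _ _ (CohB1.ProjSpaceOver.toBase n Y)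
      (toBase_isOver n Y)) := by
  let _ := pnOver n Y
  have := toBase_isOver n Y
  have : CompactSpace (Pts (CohB1.ProjSpaceOver n SC)) :=
    Groth.Agent.R2.H20.PnCompact.compactSpace_pts_projSpaceOver n
  have : (ProjSpaceOver.map n (Y ↘ SC)).IsOver SC := ⟨by
    change ProjSpaceOver.map n (Y ↘ SC) ≫ CohB1.ProjSpaceOver.toBase n SC =
      CohB1.ProjSpaceOver.toBase n Y ≫ Y ↘ SC
    exact ProjSpaceOver.map_toBase n (Y ↘ SC)⟩
  exact isProperMap_map_of_isPullback (ProjSpaceOver.map n (Y ↘ SC))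
    (CohB1.ProjSpaceOver.toBase n Y) (ProjSpaceOver.isPullback_map n (Y ↘ SC))

variable {n Y}

/-- **Projective morphisms are proper on `ℂ`-points**: if `f : Z ⟶ Y` factors as a closed immersion into
`P^n_Y` followed by the projection, then `Z(ℂ) → Y(ℂ)` is a proper map. -/
theorem isProperMap_map_of_closedImmersion_pn {Z : Scheme.{0}} [Z.Over SC]
    (f : Z ⟶ Y) [f.IsOver SC] (i : Z ⟶ CohB1.ProjSpaceOver n Y) [IsClosedImmersion i]
    (hi : i ≫ CohB1.ProjSpaceOver.toBase n Y = f) : IsProperMap (Pts.map f) := by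
  let _ := pnOver n Y
  have := toBase_isOver n Y
  have : i.IsOver SC := ⟨by
    change i ≫ CohB1.ProjSpaceOver.toBase n Y ≫ Y ↘ SC = Z ↘ SC
    rw [← Category.assoc, hi, comp_over]⟩
  have hf : Pts.map f = Pts.map (CohB1.ProjSpaceOver.toBase n Y) ∘ Pts.map i := by
    funext z
    rw [Function.comp_apply, ← Pts.map_comp]
    congr 1
    exact hi.symm
  rw [hf]
  exact (isProperMap_map_toBase n Y).comp
    (isClosedEmbedding_map_of_isClosedImmersion i).isProperMap

end Pn

section PartC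

variable {X P : Scheme.{0}} [X.Over SC] [P.Over SC]
  [LocallyOfFiniteType (X ↘ SC)] [LocallyOfFiniteType (P ↘ SC)]

/-- an immersion whose image on `ℂ`-points is closed is a closed immersion -/
theorem isClosedImmersion_of_isClosed_range (j : X ⟶ P) [j.IsOver SC] [IsImmersion j]
    (h : IsClosed (Set.range (Pts.map j))) : IsClosedImmersion j := by
  have := isLocallyNoetherian_of_lft (X := P)
  have hlc : Topology.IsLocallyConstructible (Set.range j) :=
    isLocallyConstructible_of_isLocallyClosed j.isLocallyClosed_range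
  rw [range_map_eq_preimage_range] at h
  exact IsClosedImmersion.of_isPreimmersion j ((isClosed_iff_pts _ hlc).2 h)

end PartC

end Groth.Agent.R2.H20.AnProper
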