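import Groth.Agent.R2.H20AnProperA
import Groth.Agent.S0025

/-!
# helper20: proper morphisms and proper maps on `ℂ`-points (via Chow's lemma)

* `isClosedImmersion_of_isImmersion_of_isProper` : a proper immersion is a closed immersion.
* `isClosedImmersion_lift` : for Chow data `(π, j)`, the pair `X' ⟶ P^n_X` is a closed immersion.
* `isProperMap_map_of_isProper` : a proper morphism induces a proper map on `ℂ`-points.
* `isProper_of_isProperMap_map` : converse, for quasi-compact separated morphisms.
-/

set_option autoImplicit false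

open CategoryTheory CategoryTheory.Limits AlgebraicGeometry TopologicalSpace Opposite An

namespace Groth.Agent.R2.H20.AnProper

open Groth.Agent.Lib.Helper6 Groth.Agent.R2.H87

section Scheme

universe u

variable {X S X' : Scheme.{u}}

/-- a proper immersion is a closed immersion -/
theorem isClosedImmersion_of_isImmersion_of_isProper (l : X' ⟶ X) [IsImmersion l] [IsProper l] :
    IsClosedImmersion l :=
  IsClosedImmersion.of_isPreimmersion l l.isClosedMap.isClosed_range

variable (n : ℕ) (f : X ⟶ S) (π : X' ⟶ X) (j : X' ⟶ CohB1.ProjSpaceOver n S)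

lemma lift_map_eq (h : j ≫ CohB1.ProjSpaceOver.toBase n S = π ≫ f) :
    ProjSpaceOver.lift n (j ≫ ProjSpaceOver.toZ n S) π ≫ ProjSpaceOver.map n f = j := by
  rw [ProjSpaceOver.lift_map]
  apply ProjSpaceOver.hom_ext
  · simp
  · simp [h]

/-- for Chow data `(π, j)` the morphism `(j, π) : X' ⟶ P^n_X` is a closed immersion -/
theorem isClosedImmersion_lift [IsImmersion j] [IsProper π]
    (h : j ≫ CohB1.ProjSpaceOver.toBase n S = π ≫ f) :
    IsClosedImmersion (ProjSpaceOver.lift n (j ≫ ProjSpaceOver.toZ n S) π) := by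
  set l := ProjSpaceOver.lift n (j ≫ ProjSpaceOver.toZ n S) π with hl
  have h1 : l ≫ ProjSpaceOver.map n f = j := lift_map_eq n f π j h
  have h2 : l ≫ CohB1.ProjSpaceOver.toBase n X = π := ProjSpaceOver.lift_toBase n _ _
  have : IsImmersion (l ≫ ProjSpaceOver.map n f) := by rw [h1]; infer_instance
  have : IsImmersion l := IsImmersion.of_comp l (ProjSpaceOver.map n f)
  have : IsProper (CohB1.ProjSpaceOver.toBase n X) := Groth.Agent.S9705.isProper_toBase n X
  have : IsProper (l ≫ CohB1.ProjSpaceOver.toBase n X) := by rw [h2]; infer_instance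
  have : IsProper l := IsProper.of_comp l (CohB1.ProjSpaceOver.toBase n X)
  exact isClosedImmersion_of_isImmersion_of_isProper l

end Scheme

section Chow

variable {X S X' : Scheme.{0}} [X.Over SC] [X'.Over SC]

/-- for Chow data `(π, j)`, the map `X'(ℂ) → X(ℂ)` is proper -/
theorem isProperMap_map_of_chow (n : ℕ) (f : X ⟶ S) (π : X' ⟶ X) [π.IsOver SC]
    (j : X' ⟶ CohB1.ProjSpaceOver n S) [IsImmersion j] [IsProper π]
    (h : j ≫ CohB1.ProjSpaceOver.toBase n S = π ≫ f) : IsProperMap (Pts.map π) := by
  have := isClosedImmersion_lift n f π j h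
  exact isProperMap_map_of_closedImmersion_pn π
    (ProjSpaceOver.lift n (j ≫ ProjSpaceOver.toZ n S) π) (ProjSpaceOver.lift_toBase n _ _)

end Chow

section Main

variable {X Y : Scheme.{0}} [X.Over SC] [Y.Over SC]
  [LocallyOfFiniteType (X ↘ SC)] [LocallyOfFiniteType (Y ↘ SC)]

omit [LocallyOfFiniteType (Y ↘ SC)] in
/-- proper morphisms to a Noetherian base induce proper maps on `ℂ`-points -/
theorem isProperMap_map_of_isProper_of_isNoetherian [IsNoetherian Y] (f : X ⟶ Y) [f.IsOver SC]
    [IsProper f] : IsProperMap (Pts.map f) := by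
  obtain ⟨n, X', π, j, hj, hcomm, hπ, hsurj, -⟩ := Groth.Agent.S0025.result f
  let _ : X'.Over SC := ⟨π ≫ X ↘ SC⟩
  have : π.IsOver SC := ⟨rfl⟩
  have hlft : LocallyOfFiniteType (X' ↘ SC) := by
    change LocallyOfFiniteType (π ≫ X ↘ SC)
    infer_instance
  -- `j` is a closed immersion
  have : IsProper (CohB1.ProjSpaceOver.toBase n Y) := Groth.Agent.S9705.isProper_toBase n Y
  have : IsProper (j ≫ CohB1.ProjSpaceOver.toBase n Y) := by rw [hcomm]; infer_instance
  have : IsProper j := IsProper.of_comp j (CohB1.ProjSpaceOver.toBase n Y)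
  have : IsClosedImmersion j := isClosedImmersion_of_isImmersion_of_isProper j
  have h1 : IsProperMap (Pts.map (π ≫ f)) :=
    isProperMap_map_of_closedImmersion_pn (π ≫ f) j hcomm
  have h2 : Function.Surjective (Pts.map π) := (surjective_iff_pts π).1 hsurj.surj
  have h3 : Pts.map (π ≫ f) = Pts.map f ∘ Pts.map π := by
    funext z
    exact Pts.map_comp π f z
  rw [h3] at h1
  exact isProperMap_of_comp_of_surj (Pts.continuous_map π) (Pts.continuous_map f) h1 h2

lemma isNoetherian_of_isAffineOpen (V : Y.Opens) (hV : IsAffineOpen V) :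
    IsNoetherian V.toScheme := by
  have : LocallyOfFiniteType (V.toScheme ↘ SC) := by
    rw [← Scheme.Opens.ι_comp_over]; infer_instance
  have := isLocallyNoetherian_of_lft (X := V.toScheme)
  have : IsAffine V.toScheme := hV
  exact { }

/-- **Proper morphisms induce proper maps on `ℂ`-points.** -/
theorem isProperMap_map_of_isProper (f : X ⟶ Y) [f.IsOver SC] [IsProper f] :
    IsProperMap (Pts.map f) := by
  refine isProperMap_map_of_openCover f (fun V : Y.affineOpens => V.1) ?_ fun V => ?_
  · exact iSup_affineOpens_eq_top Y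
  · have := isNoetherian_of_isAffineOpen V.1 V.2
    have : LocallyOfFiniteType ((f ⁻¹ᵁ V.1).toScheme ↘ SC) := by
      rw [← Scheme.Opens.ι_comp_over]; infer_instance
    have : IsProper (f.resLE V.1 (f ⁻¹ᵁ V.1) le_rfl) := by
      rw [Scheme.Hom.resLE_eq_morphismRestrict]; infer_instance
    exact isProperMap_map_of_isProper_of_isNoetherian _

/-- converse over a Noetherian base which is separated over `ℂ` -/
theorem isProper_of_isProperMap_map_of_isNoetherian [IsNoetherian Y] [IsSeparated (Y ↘ SC)]
    (f : X ⟶ Y) [f.IsOver SC] [QuasiCompact f] [IsSeparated f]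
    (h : IsProperMap (Pts.map f)) : IsProper f := by
  have hflft : LocallyOfFiniteType f := locallyOfFiniteType_of_isOver f
  obtain ⟨n, X', π, j, hj, hcomm, hπ, hsurj, -⟩ := Groth.Agent.S0025.result f
  let _ : X'.Over SC := ⟨π ≫ X ↘ SC⟩
  have : π.IsOver SC := ⟨rfl⟩
  have hlft : LocallyOfFiniteType (X' ↘ SC) := by
    change LocallyOfFiniteType (π ≫ X ↘ SC)
    infer_instance
  have hπp : IsProperMap (Pts.map π) := isProperMap_map_of_chow n f π j hcomm
  -- the structure of `P^n_Y` over `ℂ`
  let _ := pnOver n Y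
  have := toBase_isOver n Y
  have := locallyOfFiniteType_pnOver n Y
  have hpr : IsProper (CohB1.ProjSpaceOver.toBase n Y) := Groth.Agent.S9705.isProper_toBase n Y
  have hsep : IsSeparated (CohB1.ProjSpaceOver n Y ↘ SC) := by
    change IsSeparated (CohB1.ProjSpaceOver.toBase n Y ≫ Y ↘ SC)
    infer_instance
  have hT2 : T2Space (Pts (CohB1.ProjSpaceOver n Y)) := isSeparated_iff_t2Space.1 hsep
  have : j.IsOver SC := ⟨by
    change j ≫ CohB1.ProjSpaceOver.toBase n Y ≫ Y ↘ SC = π ≫ X ↘ SC
    rw [← Category.assoc, hcomm, Category.assoc, comp_over]⟩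
  -- `j` is proper on points
  have h1 : IsProperMap (Pts.map (CohB1.ProjSpaceOver.toBase n Y) ∘ Pts.map j) := by
    have : Pts.map (CohB1.ProjSpaceOver.toBase n Y) ∘ Pts.map j = Pts.map f ∘ Pts.map π := by
      funext z
      simp only [Function.comp_apply]
      rw [← Pts.map_comp, ← Pts.map_comp]
      congr 1
    rw [this]
    exact h.comp hπp
  have h2 : IsProperMap (Pts.map j) :=
    isProperMap_of_comp_of_t2 (Pts.continuous_map j) (Pts.continuous_map _) h1
  have : IsClosedImmersion j := isClosedImmersion_of_isClosed_range j h2.isClosed_range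
  have : IsProper (π ≫ f) := by rw [← hcomm]; infer_instance
  have : UniversallyClosed f := UniversallyClosed.of_comp_surjective π f
  exact { }

/-- **A quasi-compact separated morphism inducing a proper map on `ℂ`-points is proper.** -/
theorem isProper_of_isProperMap_map (f : X ⟶ Y) [f.IsOver SC] [QuasiCompact f] [IsSeparated f]
    (h : IsProperMap (Pts.map f)) : IsProper f := by
  refine IsZariskiLocalAtTarget.of_iSup_eq_top (P := @IsProper)
    (fun V : Y.affineOpens => V.1) (iSup_affineOpens_eq_top Y) fun V => ?_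
  have := isNoetherian_of_isAffineOpen V.1 V.2
  have : LocallyOfFiniteType (V.1.toScheme ↘ SC) := by
    rw [← Scheme.Opens.ι_comp_over]; infer_instance
  have : LocallyOfFiniteType ((f ⁻¹ᵁ V.1).toScheme ↘ SC) := by
    rw [← Scheme.Opens.ι_comp_over]; infer_instance
  have : IsAffine V.1.toScheme := V.2
  have hsep : IsSeparated (V.1.toScheme ↘ SC) := inferInstance
  have hp : IsProperMap (Pts.map (f.resLE V.1 (f ⁻¹ᵁ V.1) le_rfl)) :=
    (isProperMap_map_resLE_iff f V.1).2 (h.restrictPreimage _)
  have hqc : QuasiCompact (f.resLE V.1 (f ⁻¹ᵁ V.1) le_rfl) := by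
    rw [Scheme.Hom.resLE_eq_morphismRestrict]; infer_instance
  have hs : IsSeparated (f.resLE V.1 (f ⁻¹ᵁ V.1) le_rfl) := by
    rw [Scheme.Hom.resLE_eq_morphismRestrict]; infer_instance
  have := isProper_of_isProperMap_map_of_isNoetherian (f.resLE V.1 (f ⁻¹ᵁ V.1) le_rfl) hp
  rwa [Scheme.Hom.resLE_eq_morphismRestrict] at this

end Main

end Groth.Agent.R2.H20.AnProper
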