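import Mathlib
import Groth.Prelude.Def_Coh
import Groth.Prelude.Def_Pic
import Groth.Prelude.Def_CohB1
import Groth.Prelude.Def_CurvBase
import Groth.Agent.Lib.Helper10RedInd
import Groth.Agent.Lib.Helper7TopDim
import Groth.Agent.Lib.Helper23PB
import Groth.Agent.Lib.Helper23Restr2

/-!
# Reduced irreducible components of a scheme (helper20, for S7642)

For an ideal sheaf `J` with irreducible support, the reduced subscheme `J.radical.subscheme`:
* `isIntegral_radical_subscheme` : it is integral;
* `topologicalKrullDim_radical_subscheme` : its dimension is that of the support;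
* `isAffine_of_irreducible_of_dim_le_zero` : an irreducible scheme of dimension `≤ 0` is affine;
* `isAmple_of_dim_le_zero` : on it every invertible module is ample.
-/

set_option autoImplicit false
set_option linter.style.haveILetI false
universe u
open CategoryTheory CategoryTheory.Limits AlgebraicGeometry TopologicalSpace

namespace Groth.Agent.R2.H20.CompAmple

variable {X : Scheme.{u}}

theorem range_radical_subschemeι (J : X.IdealSheafData) :
    Set.range J.radical.subschemeι = (J.support : Set X) := by
  rw [Scheme.IdealSheafData.range_subschemeι]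
  rfl

theorem isReduced_radical_subscheme (J : X.IdealSheafData) : IsReduced J.radical.subscheme := by
  rw [← Scheme.IdealSheafData.vanishingIdeal_support]
  exact Groth.Agent.Lib.Helper10.RedInd.isReduced_subscheme_vanishingIdeal _

theorem irreducibleSpace_radical_subscheme (J : X.IdealSheafData)
    (hirr : IsIrreducible (J.support : Set X)) : IrreducibleSpace J.radical.subscheme := by
  have hirr' : IsIrreducible (Set.range J.radical.subschemeι) := by
    rw [range_radical_subschemeι]; exact hirr
  haveI : IrreducibleSpace ↥(Set.range J.radical.subschemeι) := Subtype.irreducibleSpace hirr'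
  exact (J.radical.subschemeι.isEmbedding.toHomeomorph).irreducibleSpace_iff.mpr inferInstance

theorem isIntegral_radical_subscheme (J : X.IdealSheafData)
    (hirr : IsIrreducible (J.support : Set X)) : IsIntegral J.radical.subscheme := by
  haveI := isReduced_radical_subscheme J
  haveI := irreducibleSpace_radical_subscheme J hirr
  exact isIntegral_of_irreducibleSpace_of_isReduced _

theorem topologicalKrullDim_radical_subscheme (J : X.IdealSheafData) :
    topologicalKrullDim J.radical.subscheme = topologicalKrullDim (J.support : Set X) := by
  have h1 := IsHomeomorph.topologicalKrullDim_eq _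
    (J.radical.subschemeι.isEmbedding.toHomeomorph).isHomeomorph
  rw [h1, range_radical_subschemeι]

/-- an irreducible scheme of dimension `≤ 0` is affine -/
theorem isAffine_of_irreducible_of_dim_le_zero (Y : Scheme.{u}) [IrreducibleSpace Y]
    (h : topologicalKrullDim Y ≤ 0) : IsAffine Y := by
  have hcl := Groth.Agent.Lib.Helper7.TopDim.isClosed_singleton_of_dim_le_zero h (genericPoint Y)
  have huniv : ({genericPoint Y} : Set Y) = Set.univ := by
    rw [← hcl.closure_eq]
    exact (genericPoint_spec Y).def
  obtain ⟨U, hU, hxU, -⟩ := exists_isAffineOpen_mem_and_subset (X := Y) (x := genericPoint Y)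
    (U := ⊤) trivial
  have hUtop : U = ⊤ := by
    rw [eq_top_iff]
    intro y _
    have : y ∈ ({genericPoint Y} : Set Y) := huniv ▸ Set.mem_univ y
    rw [Set.mem_singleton_iff] at this
    rw [this]; exact hxU
  rw [hUtop] at hU
  haveI : IsAffine (↑(⊤ : Y.Opens) : Scheme.{u}) := hU
  exact .of_isIso (Y.topIso.inv)

theorem isAmple_of_dim_le_zero (Y : Scheme.{u}) [IrreducibleSpace Y]
    (h : topologicalKrullDim Y ≤ 0) (M : Y.Modules) (hM : PicF.IsInvertible M) : CohB1.IsAmple M := by
  haveI := isAffine_of_irreducible_of_dim_le_zero Y h
  exact Groth.Agent.Lib.Helper23.SecTw.isAmple_of_isQuasiAffine M hM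

/-- a dimension `≤ 1` which is not `1` is `≤ 0` -/
theorem le_zero_of_le_one_of_ne {d : WithBot ℕ∞} (h1 : d ≤ 1) (hne : d ≠ 1) : d ≤ 0 := by
  have hlt : d < 1 := lt_of_le_of_ne h1 hne
  induction d using WithBot.recBotCoe with
  | bot => exact bot_le
  | coe a =>
    have h2 : a < 1 := by exact_mod_cast hlt
    have h3 : a = 0 := ENat.lt_one_iff_eq_zero.1 h2
    rw [h3]
    rfl

end Groth.Agent.R2.H20.CompAmple
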