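import Mathlib
import Groth.Prelude.Def_Coh
import Groth.Prelude.Def_Pic
import Groth.Prelude.Def_CohB1
import Groth.Prelude.Def_CurvBase
import Groth.Prelude.Def_ClSub2
import Groth.Prelude.Def_FlatMod2
import Groth.Agent.R2.H62CurveCore

/-!
# PROJ:curves-rr, layer 2 — interface (helper20)

Named `Prop`s for the work packages of the second layer of the curves project (degree of tensor
products, inverse of an invertible module, affineness of `X_s`, ampleness ⇔ positive degree).  Layer 1
(helper62, `R2/H62Curve*`) provides `HFin`, additivity of `χ`, `deg L = deg N + h⁰(coker)`.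

Everything is stated against `HFin k X` (= the conclusion of S0002 for `X`), so nothing here waits for S0002.
-/

set_option autoImplicit false
universe u
open CategoryTheory CategoryTheory.Limits AlgebraicGeometry

namespace Groth.Agent.R2.H20.CurveSpec

open Groth.Agent.R2.H62.CurveCore

/-- **CR1** (helper7 `R2/H7CurveVanish`, or helper2's S0458): cohomological dimension `≤ 1`. -/
def Van2 (X : Scheme.{u}) : Prop :=
  ∀ F : X.Modules, Coh.IsQCoh F → ∀ i : ℕ, 2 ≤ i → Subsingleton (Coh.HH X F i)

/-- **CR3**: every invertible module has an inverse (`M = ℋom(L, O)`; Lib `Helper21Dual8/9/12`). -/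
def InvStmt : Prop :=
  ∀ (X : Scheme.{u}) (L : X.Modules), PicF.IsInvertible L →
    ∃ M : X.Modules, PicF.IsInvertible M ∧ ClSub.IsInverseOf L M

section Curve

/- NOTE (fix after helper65's remark #1453): the instance hypotheses `IsIntegral X`, `IsProper` are now
bound INSIDE each `Prop` (section variables not mentioned in a `def` body are silently dropped). -/

/-- **CR2** (= S1557 against `HFin`): `χ(E ⊗ F) = rk(F) · deg E + n · χ(F)`. -/
def TensStmt (k : Type u) [Field k] (X : Scheme.{u}) [X.Over (Spec (CommRingCat.of k))] : Prop :=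
  ∀ [IsIntegral X] [IsProper (X ↘ Spec (CommRingCat.of k))],
  topologicalKrullDim X = 1 → HFin k X →
    ∀ (n : ℕ) (E : X.Modules), FlatMod.IsFinLocFreeOfRank n E → ∀ F : X.Modules, Coh.IsCoh F →
      Curv2.euler k X (CohB1.tensorMod E F) =
        (Module.finrank (X.presheaf.stalk (genericPoint X)) (F.presheaf.stalk (genericPoint X)) : ℤ) *
          Curv2.deg k X E n + n * Curv2.euler k X F

/-- **CR4**: two sections of an invertible module without common zero, the first one vanishing
somewhere and not identically: both non-vanishing loci are affine (finite morphism `(s : t) : X ⟶ P¹`,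
`R2/H65PnMap1.exists_map_of_local_coords`). -/
def AffStmt (k : Type u) [Field k] (X : Scheme.{u}) [X.Over (Spec (CommRingCat.of k))] : Prop :=
  ∀ [IsIntegral X] [IsProper (X ↘ Spec (CommRingCat.of k))],
  topologicalKrullDim X = 1 →
    ∀ (N : X.Modules), PicF.IsInvertible N → ∀ s t : Coh.structureModule X ⟶ N,
      CohB1.genLocus N s ⊔ CohB1.genLocus N t = ⊤ → CohB1.genLocus N s ≠ ⊤ →
        CohB1.genLocus N s ≠ ⊥ →
        IsAffineOpen (CohB1.genLocus N s) ∧ IsAffineOpen (CohB1.genLocus N t)

/-- **CR5**: a section of a power of `M` generating `M^{j+1}` along the zeros of a given nonzero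
section `s` of `M` (stabilisation of `h¹(M^j)`). -/
def GenStmt (k : Type u) [Field k] (X : Scheme.{u}) [X.Over (Spec (CommRingCat.of k))] : Prop :=
  ∀ [IsIntegral X] [IsProper (X ↘ Spec (CommRingCat.of k))],
  topologicalKrullDim X = 1 → HFin k X → Van2 X →
    ∀ (M : X.Modules), PicF.IsInvertible M → ∀ s : Coh.structureModule X ⟶ M, s ≠ 0 →
      ∃ (j : ℕ) (t : Coh.structureModule X ⟶ CohB1.tensorPow M (j + 1)),
        CohB1.genLocus M s ⊔ CohB1.genLocus _ t = ⊤

end Curve

end Groth.Agent.R2.H20.CurveSpec
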