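import Groth.Agent.R2.H30GenSite
import Groth.Agent.Lib.Helper23FinType
import Groth.Prelude.Def_RefHull

/-!
# helper20: modules of finite type are locally generated by finitely many sections, stalkwise

* `exists_generating_germs` : for `M` of finite type and `x : X` there are an open `U ∋ x` and finitely many
  sections of `M` over `U` whose germs span the stalk `M_y` over `O_{X,y}` for every `y ∈ U`.
-/

set_option autoImplicit false
universe u

open CategoryTheory CategoryTheory.Limits AlgebraicGeometry TopologicalSpace Opposite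

namespace Groth.Agent.R2.H20.FTGerms

open Groth.Agent.R2.H30.GenSite Groth.Agent.Lib.Helper23.FinType

variable {X : Scheme.{u}}

/-- germs of elements in the span of sections lie in the span of the germs -/
theorem germ_mem_span (M : X.Modules) {K : Type*} (W : X.Opens) (t : K → Γ(M, W)) (n : Γ(M, W))
    (hn : n ∈ Submodule.span Γ(X, W) (Set.range t)) (y : X) (hy : y ∈ W) :
    M.presheaf.germ W y hy n ∈ Submodule.span (X.presheaf.stalk y)
      (Set.range fun k => M.presheaf.germ W y hy (t k)) := by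
  induction hn using Submodule.span_induction with
  | mem a ha =>
    obtain ⟨k, rfl⟩ := ha
    exact Submodule.subset_span ⟨k, rfl⟩
  | zero => rw [map_zero]; exact Submodule.zero_mem _
  | add a b _ _ ha hb => rw [map_add]; exact Submodule.add_mem _ ha hb
  | smul r a _ ha =>
    rw [Mero.germ_smul]
    exact Submodule.smul_mem _ _ ha

/-- semilinear images of spans -/
theorem map_mem_span_of_semilinear {A B P Q K : Type*} [Semiring A] [Semiring B] [AddCommMonoid P]
    [AddCommMonoid Q] [Module A P] [Module B Q] (g : P →+ Q)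
    (hg : ∀ (r : A) (a : P), ∃ b : B, g (r • a) = b • g a) (t : K → P) (n : P)
    (hn : n ∈ Submodule.span A (Set.range t)) :
    g n ∈ Submodule.span B (Set.range fun k => g (t k)) := by
  induction hn using Submodule.span_induction with
  | mem a ha =>
    obtain ⟨k, rfl⟩ := ha
    exact Submodule.subset_span ⟨k, rfl⟩
  | zero => rw [map_zero]; exact Submodule.zero_mem _
  | add a b _ _ ha hb => rw [map_add]; exact Submodule.add_mem _ ha hb
  | smul r a _ ha =>
    obtain ⟨b, hb⟩ := hg r a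
    rw [hb]
    exact Submodule.smul_mem _ _ ha

set_option backward.isDefEq.respectTransparency false in
/-- **Local generation of a module of finite type by germs.** -/
theorem exists_generating_germs (M : X.Modules)
    [hM : SheafOfModules.IsFiniteType (R := X.ringCatSheaf) M] (x : X) :
    ∃ (W : X.Opens) (_ : x ∈ W) (K : Type u) (_ : Finite K) (t : K → Γ(M, W)),
      ∀ (y : X) (hy : y ∈ W) (a : M.presheaf.stalk y),
        a ∈ Submodule.span (X.presheaf.stalk y)
          (Set.range fun k => M.presheaf.germ W y hy (t k)) := by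
  obtain ⟨ι, U, gen, hgen, hU, hUa⟩ := exists_isOpenCover_generatingSections M
  obtain ⟨i, hxi⟩ : ∃ i, x ∈ U i := by
    have : x ∈ (⨆ i, U i : X.Opens) := by rw [hU.iSup_eq_top]; trivial
    exact Opens.mem_iSup.1 this
  let N : (U i : Scheme.{u}).Modules := M.restrict (U i).ι
  let σ := gen i
  have : Finite σ.I := (hgen i).finite
  have hUtop : (U i).ι ''ᵁ ⊤ = U i := by
    rw [Scheme.Hom.image_top_eq_opensRange, Scheme.Opens.opensRange_ι]
  let t : σ.I → Γ(M, (U i).ι ''ᵁ ⊤) := fun k => (σ.s k).val (op ⊤)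
  refine ⟨(U i).ι ''ᵁ ⊤, by rw [hUtop]; exact hxi, σ.I, inferInstance, t, ?_⟩
  intro y hy a
  have hyU : y ∈ U i := by rw [hUtop] at hy; exact hy
  obtain ⟨W₀, hyW₀, s, rfl⟩ := TopCat.Presheaf.exists_germ_eq M.presheaf a
  let V : (U i : Scheme.{u}).Opens := (U i).ι ⁻¹ᵁ W₀
  have hVW : (U i).ι ''ᵁ V ≤ W₀ := by
    rintro _ ⟨z, hz, rfl⟩
    exact hz
  let n₀ : Γ(M, (U i).ι ''ᵁ V) := M.presheaf.map (homOfLE hVW).op s
  obtain ⟨S, hS, hSspan⟩ := (epi_freeHom_iff N σ.s).1 σ.epi (op V) n₀
  let z : (U i : Scheme.{u}) := ⟨y, hyU⟩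
  have hzV : z ∈ V := hyW₀
  obtain ⟨Y, f, hf, hzY⟩ := hS z hzV
  have h1 := hSspan f hf
  have hyY : y ∈ (U i).ι ''ᵁ Y := ⟨z, hzY, rfl⟩
  -- germs
  let g : Γ(M, (U i).ι ''ᵁ Y) →+ M.presheaf.stalk y := (M.presheaf.germ ((U i).ι ''ᵁ Y) y hyY).hom
  have h2 := map_mem_span_of_semilinear (A := (U i : Scheme.{u}).ringCatSheaf.obj.obj (op Y))
    (B := X.presheaf.stalk y) (P := N.val.obj (op Y)) g ?_ (fun k => (σ.s k).val (op Y)) _ h1
  · have e1 : g (N.val.map f.op n₀) = M.presheaf.germ W₀ y hyW₀ s := by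
      have hle : (U i).ι ''ᵁ Y ≤ (U i).ι ''ᵁ V := by
        rintro _ ⟨w, hw, rfl⟩
        exact ⟨w, f.le hw, rfl⟩
      change M.presheaf.germ ((U i).ι ''ᵁ Y) y hyY
        (M.presheaf.map (homOfLE hle).op (M.presheaf.map (homOfLE hVW).op s)) = _
      rw [TopCat.Presheaf.germ_res_apply, TopCat.Presheaf.germ_res_apply]
    have e2 : ∀ k, g ((σ.s k).val (op Y)) = M.presheaf.germ ((U i).ι ''ᵁ ⊤) y hy (t k) := by
      intro k
      have hle : (U i).ι ''ᵁ Y ≤ (U i).ι ''ᵁ ⊤ := by
        rintro _ ⟨w, hw, rfl⟩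
        exact ⟨w, trivial, rfl⟩
      have hp := (σ.s k).property (homOfLE (le_top : Y ≤ ⊤)).op
      rw [← hp]
      change M.presheaf.germ ((U i).ι ''ᵁ Y) y hyY
        (M.presheaf.map (homOfLE hle).op (t k)) = _
      rw [TopCat.Presheaf.germ_res_apply]
    have e3 : (fun k => g ((σ.s k).val (op Y))) =
        fun k => M.presheaf.germ ((U i).ι ''ᵁ ⊤) y hy (t k) := funext e2
    have h3 := e1 ▸ h2
    exact e3 ▸ h3
  · intro r a
    refine ⟨X.presheaf.germ ((U i).ι ''ᵁ Y) y hyY (((U i).ι.appIso Y).inv r), ?_⟩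
    exact Mero.germ_smul M ((U i).ι ''ᵁ Y) y hyY _ a

end Groth.Agent.R2.H20.FTGerms
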