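import Mathlib
import Groth.Prelude.Def_Coh
import Groth.Prelude.Def_CohB1
import Groth.Prelude.Def_CurvBase
import Groth.Prelude.Def_FlatMod2
import Groth.Agent.Lib.Helper2RankLoc
import Groth.Agent.Lib.Helper2LocFree
import Groth.Agent.Lib.Helper18Strict6
import Groth.Agent.Lib.Helper23StalkLin
import Groth.Agent.Lib.Helper23TensorQCoh
import Groth.Agent.R2.H20FTGerms
import Groth.Agent.R2.H62CurveCore
import Groth.Agent.R2.H62CohSigma

/-!
# Ranks of finite locally free modules (helper20)

* `isCoh_of_isFinLocFreeOfRank`, `isCoh_tensorMod'` : coherence of locally free modules / tensor products;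
* `finite_stalk` : stalks of finite type modules are finite;
* `free_stalk`, `finrank_stalk` : stalks of a finite locally free module of rank `n` are free of rank `n`;
* `rank_add_of_shortExact` : ranks are additive in short exact sequences (on a nonempty scheme);
* `euler_eq_zero_of_isEmpty`.
-/

set_option autoImplicit false
set_option linter.style.haveILetI false
universe u
open CategoryTheory CategoryTheory.Limits AlgebraicGeometry TopologicalSpace Opposite TensorProduct

namespace Groth.Agent.R2.H20.LocFreeRank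

open Groth.Agent.Lib.Helper4.NormDelta

variable {X : Scheme.{u}}

theorem isFinLocFree_of_rank {n : ℕ} {E : X.Modules} (hE : FlatMod.IsFinLocFreeOfRank n E) :
    FlatMod.IsFinLocFree E := fun x => by
  obtain ⟨U, hx, h⟩ := hE x
  exact ⟨U, n, hx, h⟩

theorem isCoh_of_isFinLocFreeOfRank {n : ℕ} {E : X.Modules} (hE : FlatMod.IsFinLocFreeOfRank n E) :
    Coh.IsCoh E := by
  have hfp := Groth.Agent.Lib.Helper2.LocFree.isFP_of_isFinLocFree E (isFinLocFree_of_rank hE)
  haveI : SheafOfModules.IsFinitePresentation (R := X.ringCatSheaf) E := hfp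
  exact ⟨Groth.Agent.Helper18Strict.isQCoh_of_isFP E hfp, inferInstance⟩

theorem isCoh_tensorMod' {F G : X.Modules} (hF : Coh.IsCoh F) (hG : Coh.IsCoh G) :
    Coh.IsCoh (CohB1.tensorMod F G) := by
  haveI : F.IsQuasicoherent := hF.1
  haveI : G.IsQuasicoherent := hG.1
  haveI : SheafOfModules.IsFiniteType (R := X.ringCatSheaf) F := hF.2
  haveI : SheafOfModules.IsFiniteType (R := X.ringCatSheaf) G := hG.2
  exact ⟨Groth.Agent.Lib.Helper23.TensorQCoh.isQuasicoherent_tensorMod F G,
    Groth.Agent.Lib.Helper23.TensorQCoh.isFiniteType_tensorMod F G⟩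

theorem finite_stalk (F : X.Modules) (hF : Coh.IsCoh F) (x : X) :
    Module.Finite (X.presheaf.stalk x) (F.presheaf.stalk x) := by
  haveI := hF.2
  obtain ⟨W, hxW, K, hK, t, ht⟩ := Groth.Agent.R2.H20.FTGerms.exists_generating_germs F x
  haveI := hK
  refine Module.finite_def.2 (Submodule.fg_def.2
    ⟨Set.range fun k => F.presheaf.germ W x hxW (t k), Set.finite_range _, ?_⟩)
  rw [eq_top_iff]
  intro a _
  exact ht x hxW a

theorem free_stalk {n : ℕ} {E : X.Modules} (hE : FlatMod.IsFinLocFreeOfRank n E) (x : X) :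
    Module.Free (X.presheaf.stalk x) (E.presheaf.stalk x) := by
  haveI : E.IsQuasicoherent := (isCoh_of_isFinLocFreeOfRank hE).1
  obtain ⟨U, hxU, ⟨e⟩⟩ := hE x
  exact (Groth.Agent.Lib.Helper2.RankLoc.fibreRank_eq_of_restrict_iso_freeMod U.ι E e ⟨x, hxU⟩).1

theorem finrank_stalk {n : ℕ} {E : X.Modules} (hE : FlatMod.IsFinLocFreeOfRank n E) (x : X) :
    Module.finrank (X.presheaf.stalk x) (E.presheaf.stalk x) = n := by
  haveI : E.IsQuasicoherent := (isCoh_of_isFinLocFreeOfRank hE).1
  haveI := free_stalk hE x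
  obtain ⟨U, hxU, ⟨e⟩⟩ := hE x
  have h := (Groth.Agent.Lib.Helper2.RankLoc.fibreRank_eq_of_restrict_iso_freeMod U.ι E e ⟨x, hxU⟩).2
  have h' : Groth.Agent.Lib.Helper2.RankLoc.fibreRank E x = n := h
  rw [← h']
  exact (Module.finrank_baseChange (R := IsLocalRing.ResidueField (X.presheaf.stalk x))
    (S := X.presheaf.stalk x) (M' := E.presheaf.stalk x)).symm

section Algebra

variable {R : Type*} [CommRing R] [Nontrivial R] {M₁ M₂ M₃ : Type*} [AddCommGroup M₁] [AddCommGroup M₂]
  [AddCommGroup M₃] [Module R M₁] [Module R M₂] [Module R M₃]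

theorem finrank_add_of_exact [Module.Free R M₁] [Module.Free R M₃] [Module.Finite R M₁]
    [Module.Finite R M₃] (f : M₁ →ₗ[R] M₂) (g : M₂ →ₗ[R] M₃) (hf : Function.Injective f)
    (hg : Function.Surjective g) (hfg : Function.Exact f g) :
    Module.finrank R M₂ = Module.finrank R M₁ + Module.finrank R M₃ := by
  obtain ⟨l, hl⟩ := Module.projective_lifting_property g LinearMap.id hg
  obtain ⟨e, -, -⟩ := (hfg.splitSurjectiveEquiv hf) ⟨l, hl⟩
  rw [e.finrank_eq, Module.finrank_prod]

end Algebra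

theorem rank_add_of_shortExact [Nonempty X] (S : ShortComplex X.Modules) (hS : S.ShortExact)
    {n₁ n₂ n₃ : ℕ} (h₁ : FlatMod.IsFinLocFreeOfRank n₁ S.X₁) (h₂ : FlatMod.IsFinLocFreeOfRank n₂ S.X₂)
    (h₃ : FlatMod.IsFinLocFreeOfRank n₃ S.X₃) : n₂ = n₁ + n₃ := by
  obtain ⟨x⟩ := (inferInstance : Nonempty X)
  haveI := hS.mono_f
  haveI := hS.epi_g
  haveI := free_stalk h₁ x
  haveI := free_stalk h₃ x
  haveI := finite_stalk S.X₁ (isCoh_of_isFinLocFreeOfRank h₁) x
  haveI := finite_stalk S.X₃ (isCoh_of_isFinLocFreeOfRank h₃) x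
  have h := finrank_add_of_exact (stalkLin S.f x) (stalkLin S.g x)
    (Groth.Agent.Lib.Helper23.StalkLin.stalkLin_injective S.f x) (stalkLin_surjective S.g x)
    (Groth.Agent.Lib.Helper23.StalkLin.stalkLin_exact S hS x)
  rw [finrank_stalk h₁, finrank_stalk h₂, finrank_stalk h₃] at h
  exact h

section Empty

open Groth.Agent.R2.H62.CurveCore Groth.Agent.R2.H62.CohLES

theorem isZero_of_isEmpty [IsEmpty X] (M : X.Modules) : IsZero M := by
  rw [IsZero.iff_id_eq_zero]
  ext U s
  have hU : U = ⊥ := by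
    ext x
    exact (IsEmpty.false x).elim
  subst hU
  let Fs : TopCat.Sheaf Ab.{u} X.toTopCat := ⟨M.presheaf, M.isSheaf⟩
  have hT : IsTerminal (Fs.1.obj (op ⊥)) := TopCat.Sheaf.isTerminalOfEmpty Fs
  have hid : 𝟙 (Fs.1.obj (op ⊥)) = 0 := hT.hom_ext _ _
  have hz : ∀ a : Fs.1.obj (op ⊥), a = 0 := fun a => by
    have h' := congrArg (fun φ => φ.hom a) hid
    simpa using h'
  exact (hz _).trans (hz _).symm

variable {k : Type u} [Field k] [X.Over (Spec (CommRingCat.of k))]

/-- cohomology of isomorphic modules -/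
noncomputable def HHEquivOfIso {M N : X.Modules} (e : M ≅ N) (i : ℕ) :
    Coh.HH X M i ≃ₗ[k] Coh.HH X N i :=
  ((HHFunctorA k X i).mapIso e).toLinearEquiv

theorem euler_congr {M N : X.Modules} (e : M ≅ N) : Curv2.euler k X M = Curv2.euler k X N := by
  unfold Curv2.euler
  congr 1
  funext i
  rw [(HHEquivOfIso (k := k) e i).finrank_eq]

theorem subsingleton_HH_of_isZero {M : X.Modules} (hM : IsZero M) (i : ℕ) :
    Subsingleton (Coh.HH X M i) := by
  refine ⟨fun a b => ?_⟩
  have h : ∀ c : Coh.HH X M i, c = 0 := by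
    intro c
    have h1 := HHmap_id (M := M) i c
    rw [hM.eq_of_src (𝟙 M) 0, HHmap_zero] at h1
    exact h1.symm
  rw [h a, h b]

theorem euler_of_isZero {M : X.Modules} (hM : IsZero M) : Curv2.euler k X M = 0 := by
  unfold Curv2.euler
  have : ∀ i : ℕ, (-1 : ℤ) ^ i * (Module.finrank k (Coh.HH X M i) : ℤ) = 0 := by
    intro i
    haveI := subsingleton_HH_of_isZero hM i
    rw [Module.finrank_zero_of_subsingleton]
    simp
  simp only [this]
  exact finsum_zero

theorem euler_of_isEmpty [IsEmpty X] (M : X.Modules) : Curv2.euler k X M = 0 :=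
  euler_of_isZero (isZero_of_isEmpty M)

end Empty

end Groth.Agent.R2.H20.LocFreeRank
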