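import Mathlib
import Groth.Prelude.Def_Coh
import Groth.Prelude.Def_Pic
import Groth.Prelude.Def_CohB1
import Groth.Prelude.Def_CurvBase
import Groth.Prelude.Def_FlatMod2
import Groth.Agent.R2.H62CurveSec
import Groth.Agent.R2.H62CohSigma
import Groth.Agent.R2.H20FTGerms
import Groth.Agent.R2.H12Dev3A
import Groth.Agent.R2.H79TwistCalc
import Groth.Agent.Lib.Helper21Dual12
import Groth.Agent.Lib.Helper21Dual9
import Groth.Agent.Lib.Helper23Serre
import Groth.Agent.S0027
import Groth.Agent.S0046
import Groth.Agent.S0019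
import Groth.Agent.S0020
import Groth.Agent.R2.H5CohThick
import Groth.Agent.R2.H20LocFreeRank

set_option autoImplicit false
set_option linter.style.haveILetI false
universe u
open CategoryTheory CategoryTheory.Limits AlgebraicGeometry

namespace Groth.Agent.R2.H20.CurveTens

open Groth.Agent.R2.H62.CurveCore Groth.Agent.R2.H62.CohLES Groth.Agent.R2.H62.CurveInv
open Groth.Agent.Lib.Helper4.NormDelta Groth.Agent.R2.H79.TwistCalc Groth.Agent.R2.H20.LocFreeRank



section Flat

variable {X : Scheme.{u}}

theorem preservesFiniteLimits_tensorLeftF {n : ℕ} (E : X.Modules)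
    (hE : FlatMod.IsFinLocFreeOfRank n E) : PreservesFiniteLimits (tensorLeftF E) := by
  have hflat : ModSite.IsFlat (O := X.sheaf) E :=
    Groth.Agent.Lib.Helper21.Dual.isFlat_of_isLocFF E
      (Groth.Agent.Lib.Helper21.Dual.isLocFF_of_isFinLocFree E (isFinLocFree_of_rank hE))
  exact (Groth.Agent.Lib.Helper21.FlatCalc.flatL_iff_flatR (ModSite.tensorBi X.sheaf)
    (Groth.Agent.Lib.Helper21.ModTensor5.brd X.sheaf) E).2 hflat.1

theorem shortExact_map_tensorLeftF {n : ℕ} (E : X.Modules) (hE : FlatMod.IsFinLocFreeOfRank n E)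
    (S : ShortComplex X.Modules) (hS : S.ShortExact) : (S.map (tensorLeftF E)).ShortExact := by
  haveI := preservesFiniteLimits_tensorLeftF E hE
  exact hS.map_of_exact (tensorLeftF E)

/-- commutativity of the tensor product -/
noncomputable def tensorComm (F G : X.Modules) : CohB1.tensorMod F G ≅ CohB1.tensorMod G F :=
  Groth.Agent.Lib.Helper21.ModTensor5.brdApp X.sheaf F G

end Flat


section Rank

variable {X : Scheme.{u}} [IsIntegral X]

/-- the generic rank of a module -/
noncomputable def rk (F : X.Modules) : ℕ :=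
  Module.finrank (X.presheaf.stalk (genericPoint X)) (F.presheaf.stalk (genericPoint X))

/-- the function field, as a field structure on the stalk at the generic point -/
@[reducible] noncomputable def fieldStalk : Field (X.presheaf.stalk (genericPoint X)) :=
  inferInstanceAs (Field X.functionField)

attribute [local instance] fieldStalk

example : (fieldStalk (X := X)).toCommRing = (inferInstance : CommRing (X.presheaf.stalk (genericPoint X))) := rfl

theorem rk_additive (S : ShortComplex X.Modules) (hS : S.ShortExact)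
    (h₂ : Coh.IsCoh S.X₂) : rk S.X₂ = rk S.X₁ + rk S.X₃ := by
  haveI := hS.mono_f
  haveI := hS.epi_g
  haveI := finite_stalk S.X₂ h₂ (genericPoint X)
  have hinj := Groth.Agent.Lib.Helper23.StalkLin.stalkLin_injective S.f (genericPoint X)
  have hsurj := stalkLin_surjective S.g (genericPoint X)
  have hex := Groth.Agent.Lib.Helper23.StalkLin.stalkLin_exact S hS (genericPoint X)
  unfold rk
  have h1 := LinearMap.finrank_range_add_finrank_ker (stalkLin S.g (genericPoint X))
  rw [LinearMap.range_eq_top.2 hsurj, finrank_top] at h1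
  have h2 : LinearMap.ker (stalkLin S.g (genericPoint X)) = LinearMap.range (stalkLin S.f (genericPoint X)) :=
    (LinearMap.exact_iff.1 hex)
  rw [h2, LinearMap.finrank_range_of_inj hinj] at h1
  omega

end Rank

section Main

variable {k : Type u} [Field k] {X : Scheme.{u}} [X.Over (Spec (CommRingCat.of k))]
  [IsIntegral X] [IsProper (X ↘ Spec (CommRingCat.of k))]

/-- the torsion case (the shape of S1558) -/
def Tors (k : Type u) [Field k] (X : Scheme.{u}) [X.Over (Spec (CommRingCat.of k))] : Prop :=
  ∀ (F : X.Modules), Coh.IsCoh F → topologicalKrullDim (CohB1.support F) ≤ 0 →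
    ∀ (n : ℕ) (E : X.Modules), FlatMod.IsFinLocFreeOfRank n E →
      Curv2.euler k X (CohB1.tensorMod F E) = n * Curv2.euler k X F

/-- the defect `χ(E ⊗ F) - rk(F) deg(E) - n χ(F)` -/
noncomputable def phi (k : Type u) [Field k] {X : Scheme.{u}} [X.Over (Spec (CommRingCat.of k))]
    [IsIntegral X] (n : ℕ) (E F : X.Modules) : ℤ :=
  Curv2.euler k X (CohB1.tensorMod E F) - (rk F : ℤ) * Curv2.deg k X E n - n * Curv2.euler k X F

theorem rk_congr {F F' : X.Modules} (e : F ≅ F') : rk F = rk F' := by
  unfold rk
  have h1 : ∀ z, stalkLin e.inv (genericPoint X) (stalkLin e.hom (genericPoint X) z) = z := by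
    intro z
    rw [← stalkLin_comp_apply, e.hom_inv_id]
    obtain ⟨V, hxV, t, rfl⟩ := F.presheaf.exists_germ_eq z
    rw [stalkLin_germ]
    rfl
  have h2 : ∀ z, stalkLin e.hom (genericPoint X) (stalkLin e.inv (genericPoint X) z) = z := by
    intro z
    rw [← stalkLin_comp_apply, e.inv_hom_id]
    obtain ⟨V, hxV, t, rfl⟩ := F'.presheaf.exists_germ_eq z
    rw [stalkLin_germ]
    rfl
  exact LinearEquiv.finrank_eq
    { stalkLin e.hom (genericPoint X) with
      invFun := stalkLin e.inv (genericPoint X)
      left_inv := h1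
      right_inv := h2 }

theorem phi_congr (n : ℕ) (E : X.Modules) {F F' : X.Modules} (e : F ≅ F') :
    phi k n E F = phi k n E F' := by
  unfold phi
  have h3 : Curv2.euler k X (CohB1.tensorMod E F) = Curv2.euler k X (CohB1.tensorMod E F') :=
    euler_congr (k := k) ((tensorLeftF E).mapIso e)
  rw [euler_congr (k := k) e, rk_congr e, h3]

variable (hfin : HFin k X)
include hfin

theorem phi_additive (n : ℕ) (E : X.Modules) (hE : FlatMod.IsFinLocFreeOfRank n E)
    (S : ShortComplex X.Modules) (hS : S.ShortExact)
    (h₁ : Coh.IsCoh S.X₁) (h₂ : Coh.IsCoh S.X₂) (h₃ : Coh.IsCoh S.X₃) :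
    phi k n E S.X₂ = phi k n E S.X₁ + phi k n E S.X₃ := by
  haveI := compactSpace_of_isProper k X
  haveI := quasiSeparatedSpace_of_isProper k X
  have hEc := isCoh_of_isFinLocFreeOfRank hE
  have e1 := euler_additive_of_hfin hfin S hS h₁ h₂ h₃
  have e2 := euler_additive_of_hfin hfin (S.map (tensorLeftF E))
    (shortExact_map_tensorLeftF E hE S hS) (isCoh_tensorMod' hEc h₁) (isCoh_tensorMod' hEc h₂)
    (isCoh_tensorMod' hEc h₃)
  have e3 := rk_additive S hS h₂
  unfold phi
  have e2' : Curv2.euler k X (CohB1.tensorMod E S.X₂) =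
      Curv2.euler k X (CohB1.tensorMod E S.X₁) + Curv2.euler k X (CohB1.tensorMod E S.X₃) := e2
  rw [e1, e2', e3]
  push_cast
  ring

omit hfin in
theorem stalkLin_id_apply {F : X.Modules} (x : X) (z : F.presheaf.stalk x) :
    stalkLin (𝟙 F) x z = z := by
  obtain ⟨V, hxV, t, rfl⟩ := F.presheaf.exists_germ_eq z
  rw [stalkLin_germ]
  rfl

omit hfin in
theorem subsingleton_stalk_of_isZero {F : X.Modules} (hF : IsZero F) (x : X) :
    Subsingleton (F.presheaf.stalk x) := by
  refine ⟨fun a b => ?_⟩
  have h : ∀ c : F.presheaf.stalk x, c = 0 := by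
    intro c
    have h1 := stalkLin_id_apply (F := F) x c
    rw [hF.eq_of_src (𝟙 F) 0, stalkLin_zero_apply] at h1
    exact h1.symm
  rw [h a, h b]

omit hfin in
theorem rk_eq_zero_of_notMem_support {F : X.Modules} (h : genericPoint X ∉ CohB1.support F) :
    rk F = 0 := by
  unfold rk
  have : Subsingleton (F.presheaf.stalk (genericPoint X)) := by
    by_contra h'
    exact h h'
  exact Module.finrank_zero_of_subsingleton

omit hfin in
theorem phi_zero (n : ℕ) (E : X.Modules) {F : X.Modules} (hF : IsZero F) : phi k n E F = 0 := by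
  unfold phi
  have h1 : IsZero (CohB1.tensorMod E F) := (tensorLeftF E).map_isZero hF
  have h2 : rk F = 0 := by
    apply rk_eq_zero_of_notMem_support
    intro h
    exact h (subsingleton_stalk_of_isZero hF _)
  rw [euler_of_isZero h1, euler_of_isZero hF, h2]
  simp

variable (hdim : topologicalKrullDim X ≤ 1) (htors : Tors k X)
include hdim htors

omit hfin in
theorem phi_tors (n : ℕ) (E : X.Modules) (hE : FlatMod.IsFinLocFreeOfRank n E) {F : X.Modules}
    (hF : Coh.IsCoh F) (h : genericPoint X ∉ CohB1.support F) : phi k n E F = 0 := by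
  unfold phi
  have hd : topologicalKrullDim (CohB1.support F) ≤ 0 :=
    topologicalKrullDim_le_zero_of_isClosed_ne_univ hdim (Groth.Agent.S0020.result X F hF.2)
      (fun huniv => h (huniv ▸ Set.mem_univ _))
  rw [rk_eq_zero_of_notMem_support h, euler_congr (k := k) (tensorComm E F), htors F hF hd n E hE]
  simp

omit hfin hdim htors in
theorem rk_structureModule : rk (Coh.structureModule X) = 1 := by
  unfold rk
  obtain ⟨m, -, -, hm, -, -⟩ := exists_stalk_datum
    (Groth.Agent.Lib.Helper23.TensorUnit.isInvertible_structureModule X)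
    (Groth.Agent.Lib.Helper23.TensorUnit.isInvertible_structureModule X)
    (𝟙 (Coh.structureModule X)) (genericPoint X)
  let f : X.presheaf.stalk (genericPoint X) →ₗ[X.presheaf.stalk (genericPoint X)]
      (Coh.structureModule X).presheaf.stalk (genericPoint X) :=
    LinearMap.toSpanSingleton _ _ m
  have hf : Function.Bijective f := hm
  rw [← (LinearEquiv.ofBijective f hf).finrank_eq]
  exact Module.finrank_self _

omit hfin hdim htors in
theorem phi_unit (n : ℕ) (E : X.Modules) : phi k n E (Coh.structureModule X) = 0 := by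
  unfold phi
  rw [rk_structureModule,
    euler_congr (k := k) (Groth.Agent.Lib.Helper23.TensorUnit.tensorUnitIso E)]
  unfold Curv2.deg
  push_cast
  ring

theorem phi_sub (n : ℕ) (E : X.Modules) (hE : FlatMod.IsFinLocFreeOfRank n E) {J : X.Modules}
    (ι : J ⟶ Coh.structureModule X) [Mono ι] (hJ : Coh.IsCoh J) : phi k n E J = 0 := by
  by_cases hξ : genericPoint X ∈ CohB1.support J
  · have hO : Coh.IsCoh (Coh.structureModule X) := Groth.Agent.R2.H5.CohThick.isCoh_structureModule X
    have hC : Coh.IsCoh (cokernel ι) := isCoh_cokernel hJ hO ι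
    have hS := shortExact_cokernel ι
    have hadd := phi_additive hfin n E hE _ hS hJ hO hC
    have hr := rk_additive _ hS hO
    simp only at hadd hr
    rw [rk_structureModule] at hr
    have hJpos : 0 < rk J := by
      unfold rk
      haveI := finite_stalk J hJ (genericPoint X)
      haveI : Nontrivial (J.presheaf.stalk (genericPoint X)) := not_subsingleton_iff_nontrivial.1 hξ
      exact Module.finrank_pos
    have hC0 : rk (cokernel ι) = 0 := by omega
    have hCξ : genericPoint X ∉ CohB1.support (cokernel ι) := by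
      intro hmem
      haveI := finite_stalk (cokernel ι) hC (genericPoint X)
      haveI : Nontrivial ((cokernel ι).presheaf.stalk (genericPoint X)) :=
        not_subsingleton_iff_nontrivial.1 hmem
      have : 0 < rk (cokernel ι) := Module.finrank_pos
      omega
    have h1 := phi_tors hdim htors n E hE hC hCξ
    have h2 := phi_unit (k := k) n E
    rw [h1, h2] at hadd
    linarith
  · exact phi_tors hdim htors n E hE hJ hξ

theorem phi_quot (n : ℕ) (E : X.Modules) (hE : FlatMod.IsFinLocFreeOfRank n E) {A : X.Modules}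
    (π : Coh.structureModule X ⟶ A) [Epi π] (hA : Coh.IsCoh A) : phi k n E A = 0 := by
  haveI : IsLocallyNoetherian X :=
    LocallyOfFiniteType.isLocallyNoetherian (X ↘ Spec (CommRingCat.of k))
  have hO : Coh.IsCoh (Coh.structureModule X) := Groth.Agent.R2.H5.CohThick.isCoh_structureModule X
  have hK : Coh.IsCoh (kernel π) := Groth.Agent.R2.H12.Dev.isCoh_kernel hO hA π
  have hS : (ShortComplex.mk (kernel.ι π) π (kernel.condition π)).ShortExact :=
    ShortComplex.ShortExact.mk' (ShortComplex.exact_kernel π) inferInstance inferInstance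
  have hadd := phi_additive hfin n E hE _ hS hK hO hA
  simp only at hadd
  rw [phi_sub hfin hdim htors n E hE (kernel.ι π) hK, phi_unit (k := k) n E] at hadd
  linarith

theorem phi_push (n : ℕ) (E : X.Modules) (hE : FlatMod.IsFinLocFreeOfRank n E)
    {Z : Scheme.{u}} (i : Z ⟶ X) [IsClosedImmersion i] (I : Z.Modules)
    (ι : I ⟶ Coh.structureModule Z) [Mono ι] (hI : Coh.IsQCoh I) :
    phi k n E ((Coh.push i).obj I) = 0 := by
  haveI : IsLocallyNoetherian X :=
    LocallyOfFiniteType.isLocallyNoetherian (X ↘ Spec (CommRingCat.of k))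
  haveI : IsLocallyNoetherian Z := LocallyOfFiniteType.isLocallyNoetherian i
  have hOZ : Coh.IsCoh (Coh.structureModule Z) := Groth.Agent.R2.H5.CohThick.isCoh_structureModule Z
  have hIc : Coh.IsCoh I := Groth.Agent.S0046.result Z _ I ι hOZ hI
  have hG : Coh.IsCoh ((Coh.push i).obj I) := Groth.Agent.S0019.result i I hIc
  have hA : Coh.IsCoh ((Coh.push i).obj (Coh.structureModule Z)) :=
    Groth.Agent.S0019.result i _ hOZ
  let m := (Coh.push i).map ι
  haveI : Mono m := inferInstance
  have hC : Coh.IsCoh (cokernel m) := isCoh_cokernel hG hA m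
  let u := Groth.Agent.Lib.Helper23.Serre.unitPush i
  have h1 : phi k n E ((Coh.push i).obj (Coh.structureModule Z)) = 0 :=
    phi_quot hfin hdim htors n E hE u hA
  have h2 : phi k n E (cokernel m) = 0 :=
    phi_quot hfin hdim htors n E hE (u ≫ cokernel.π m) hC
  have hadd := phi_additive hfin n E hE _ (shortExact_cokernel m) hG hA hC
  simp only at hadd
  rw [h1, h2] at hadd
  linarith

/-- **CR2**: `χ(E ⊗ F) = rk(F) deg(E) + n χ(F)` on an integral proper curve. -/
theorem euler_tensor (n : ℕ) (E : X.Modules) (hE : FlatMod.IsFinLocFreeOfRank n E)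
    (F : X.Modules) (hF : Coh.IsCoh F) :
    Curv2.euler k X (CohB1.tensorMod E F) =
      (Module.finrank (X.presheaf.stalk (genericPoint X)) (F.presheaf.stalk (genericPoint X)) : ℤ) *
        Curv2.deg k X E n + n * Curv2.euler k X F := by
  haveI : IsLocallyNoetherian X :=
    LocallyOfFiniteType.isLocallyNoetherian (X ↘ Spec (CommRingCat.of k))
  haveI := compactSpace_of_isProper k X
  haveI : IsNoetherian X := { }
  have key : phi k n E F = 0 := by
    refine Groth.Agent.S0027.result X (fun M => phi k n E M = 0) ?_ ?_ ?_ F hF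
    · rintro M N ⟨e⟩ hM
      rw [← phi_congr n E e]
      exact hM
    · intro S hS h₁ h₂ h₃ p₁ p₃
      rw [phi_additive hfin n E hE S hS h₁ h₂ h₃, p₁, p₃]
      rfl
    · intro Z i hi hZ I ι hι hI
      exact phi_push hfin hdim htors n E hE i I ι hI
  unfold phi at key
  unfold rk at key
  linarith

end Main

end Groth.Agent.R2.H20.CurveTens
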