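import Mathlib
import Groth.Agent.Lib.Helper23StalkLin

/-!
# Exactness on stalks for exact (not necessarily short exact) complexes of `O_X`-modules (helper76)
-/

set_option autoImplicit false
universe u
open CategoryTheory CategoryTheory.Limits AlgebraicGeometry

namespace Groth.Agent.R2.H76.StalkExact

open Groth.Agent.Lib.Helper4.NormDelta Groth.Agent.Lib.Helper23.StalkLin

variable {X : Scheme.{u}}

theorem stalkLin_comp_apply {F G H : X.Modules} (φ : F ⟶ G) (ψ : G ⟶ H) (x : X)
    (y : F.presheaf.stalk x) : stalkLin (φ ≫ ψ) x y = stalkLin ψ x (stalkLin φ x y) := by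
  obtain ⟨V, hxV, t, rfl⟩ := F.presheaf.exists_germ_eq y
  rw [stalkLin_germ, stalkLin_germ, stalkLin_germ]
  rfl

theorem stalkLin_zero_apply {F G : X.Modules} (x : X) (y : F.presheaf.stalk x) :
    stalkLin (0 : F ⟶ G) x y = 0 := by
  obtain ⟨V, hxV, t, rfl⟩ := F.presheaf.exists_germ_eq y
  rw [stalkLin_germ]
  exact map_zero _

/-- An exact complex of `O_X`-modules is exact on stalks. -/
theorem stalkLin_exact_of_exact (S : ShortComplex X.Modules) (hS : S.Exact) (x : X) :
    Function.Exact (stalkLin S.f x) (stalkLin S.g x) := by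
  -- the short exact sequence `0 → ker g → X₂ → im g → 0`
  let K := kernel S.g
  let I := Abelian.image S.g
  let T : ShortComplex X.Modules :=
    ShortComplex.mk (kernel.ι S.g) (Abelian.factorThruImage S.g) (by
      rw [← cancel_mono (Abelian.image.ι S.g), Category.assoc, Abelian.image.fac, kernel.condition,
        zero_comp])
  have hT : T.ShortExact := by
    refine ShortComplex.ShortExact.mk' ?_ (inferInstanceAs (Mono (kernel.ι S.g)))
      (inferInstanceAs (Epi (Abelian.factorThruImage S.g)))
    rw [ShortComplex.exact_iff_of_epi_of_isIso_of_mono (φ := (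
      { τ₁ := 𝟙 _, τ₂ := 𝟙 _, τ₃ := Abelian.image.ι S.g,
        comm₁₂ := by simp [T], comm₂₃ := by simp [T] } :
      T ⟶ ShortComplex.mk (kernel.ι S.g) S.g (kernel.condition S.g)))]
    exact ShortComplex.exact_of_f_is_kernel _ (kernelIsKernel S.g)
  have hTex := stalkLin_exact T hT x
  -- `X₁ → ker g` is an epimorphism
  let p : S.X₁ ⟶ K := kernel.lift S.g S.f S.zero
  have hp : Epi p := by
    have := hS.epi_kernelLift
    exact this
  have hpf : p ≫ kernel.ι S.g = S.f := kernel.lift_ι _ _ _
  have := hp
  intro y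
  constructor
  · intro hy
    -- `y` is killed by `X₂ → im g`
    have h1 : stalkLin (Abelian.factorThruImage S.g) x y = 0 := by
      apply stalkLin_injective (Abelian.image.ι S.g) x
      rw [← stalkLin_comp_apply, Abelian.image.fac, hy, map_zero]
    obtain ⟨z, hz⟩ := (hTex y).1 h1
    obtain ⟨w, hw⟩ := stalkLin_surjective p x z
    refine ⟨w, ?_⟩
    rw [← hpf, stalkLin_comp_apply, hw]
    exact hz
  · rintro ⟨w, rfl⟩
    rw [← stalkLin_comp_apply, S.zero, stalkLin_zero_apply]

end Groth.Agent.R2.H76.StalkExact
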