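import Mathlib
import Groth.Agent.R2.H76StalkExact
import Groth.Agent.Lib.Helper2LocFree
import Groth.Agent.Lib.Helper2RankLoc
import Groth.Agent.Lib.Helper5Syzygy
import Groth.Agent.Lib.Helper23QCohAbelian
import Groth.Agent.Lib.Helper23FinType
import Groth.Agent.Lib.Helper23FinPres
import Groth.Agent.Lib.Helper23TensorQCoh
import Groth.Agent.Lib.Helper23FinTypeLocal
import Groth.Agent.Lib.Helper20AbsCurve

/-!
# Syzygies over regular schemes are locally free (helper76)
-/

set_option autoImplicit false
universe u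
open CategoryTheory CategoryTheory.Limits AlgebraicGeometry

namespace Groth.Agent.R2.H76.Syzygy

open Groth.Agent.Lib.Helper4.NormDelta Groth.Agent.Lib.Helper23.StalkLin
open Groth.Agent.R2.H76.StalkExact

theorem exists_nat_ringKrullDim_le (R : Type u) [CommRing R] [Nontrivial R] (m : ℕ)
    (h : ringKrullDim R ≤ (m : WithBot ℕ∞)) : ∃ n : ℕ, ringKrullDim R = n ∧ n ≤ m := by
  have h0 : 0 ≤ ringKrullDim R := ringKrullDim_nonneg_of_nontrivial
  obtain ⟨k, hk⟩ : ∃ k : ℕ∞, ringKrullDim R = k := by
    cases hR : ringKrullDim R with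
    | bot => rw [hR] at h0; simp at h0
    | coe k => exact ⟨k, rfl⟩
  rw [hk] at h
  have hk' : k ≤ (m : ℕ∞) := by exact_mod_cast h
  obtain ⟨n, rfl⟩ : ∃ n : ℕ, k = n := by
    cases k with
    | top => simp at hk'
    | coe n => exact ⟨n, rfl⟩
  exact ⟨n, hk, by exact_mod_cast hk'⟩

theorem ringKrullDim_stalk_le (X : Scheme.{u}) (x : X) :
    ringKrullDim (X.presheaf.stalk x) ≤ topologicalKrullDim X := by
  obtain ⟨W, hW, hxW, -⟩ := exists_isAffineOpen_mem_and_subset (x := x) (U := ⊤) trivial
  rw [Groth.Agent.Lib.Helper20.AbsCurve.ringKrullDim_stalk_eq_height hW x hxW]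
  refine (Ideal.height_le_ringKrullDim_of_ne_top Ideal.IsPrime.ne_top').trans ?_
  rw [← PrimeSpectrum.topologicalKrullDim_eq_ringKrullDim Γ(X, W)]
  change topologicalKrullDim (Spec Γ(X, W)) ≤ _
  rw [← IsHomeomorph.topologicalKrullDim_eq _ hW.isoSpec.hom.homeomorph.isHomeomorph]
  exact topologicalKrullDim_subspace_le X W


section main

variable {X : Scheme.{u}}

open Groth.Agent.Lib.Helper23.QCohLocal Groth.Agent.Lib.Helper23.FinType

/-- the stalk of an exact sequence of modules with free middle terms over a regular local ring of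
dimension `≤ m`: the leftmost term is flat. -/
theorem isFlatAt_zero [IsNoetherian X]
    (hreg : ∀ x : X, IsRegularLocalRing (X.presheaf.stalk x)) (m : ℕ)
    (hdim : topologicalKrullDim ↥X ≤ (m : WithBot ℕ∞))
    (S : ComposableArrows X.Modules (m + 1)) (hS : S.Exact)
    (hmono : Mono (S.map' 0 1 (Nat.zero_le 1) (Nat.le_add_left 1 m)))
    (hfree : ∀ (a : ℕ) (ha : a ≤ m + 1), 1 ≤ a → a ≤ m → ∀ x : X,
      Module.Free (X.presheaf.stalk x) ((S.obj' a ha).presheaf.stalk x))
    (x : X) : FlatMod.IsFlatAt (S.obj' 0 (Nat.zero_le _)) x := by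
  have := hreg x
  -- global dimension
  obtain ⟨n, hn, hnm⟩ := exists_nat_ringKrullDim_le (X.presheaf.stalk x) m
    ((ringKrullDim_stalk_le X x).trans hdim)
  have hgl : ∀ (M : Type u) [AddCommGroup M] [Module (X.presheaf.stalk x) M],
      HasProjectiveDimensionLT (ModuleCat.of (X.presheaf.stalk x) M) (m + 1) := by
    intro M _ _
    have := Groth.Agent.S0563.result (X.presheaf.stalk x) n hn M
    exact hasProjectiveDimensionLT_of_ge _ (n + 1) _ (by omega)
  -- the ℕ-indexed sequence of stalks
  let N : ℕ → Type u := fun i => (S.obj' (min i (m + 1)) (min_le_right _ _)).presheaf.stalk x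
  let d : ∀ i, N i →ₗ[X.presheaf.stalk x] N (i + 1) := fun i =>
    stalkLin (S.map' (min i (m + 1)) (min (i + 1) (m + 1)) (by omega) (min_le_right _ _)) x
  have hproj : ∀ i, 1 ≤ i → i ≤ m → Module.Projective (X.presheaf.stalk x) (N i) := by
    intro i h1 h2
    have := hfree (min i (m + 1)) (min_le_right _ _) (by omega) (by omega) x
    exact Module.Projective.of_free
  have hinj : Function.Injective (d 0) := by
    have key : ∀ (a b : ℕ) (ha : a = 0) (hb : b = 1) (hab : a ≤ b) (hb' : b ≤ m + 1),
        Function.Injective (stalkLin (S.map' a b hab hb') x) := by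
      intro a b ha hb hab hb'
      subst ha hb
      have := hmono
      exact stalkLin_injective _ x
    exact key _ _ (by omega) (by omega) _ _
  have hex : ∀ i, i + 1 < m → LinearMap.range (d i) = LinearMap.ker (d (i + 1)) := by
    intro i hi
    have key : ∀ (a b c : ℕ) (hab : a + 1 = b) (hbc : b + 1 = c) (hc : c ≤ m + 1),
        Function.Exact (stalkLin (S.map' a b (by omega) (by omega)) x)
          (stalkLin (S.map' b c (by omega) hc) x) := by
      intro a b c hab hbc hc
      subst hab hbc
      exact stalkLin_exact_of_exact _ (hS.exact a (by omega)) x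
    have h := key (min i (m + 1)) (min (i + 1) (m + 1)) (min (i + 1 + 1) (m + 1)) (by omega) (by omega)
      (min_le_right _ _)
    exact ((LinearMap.exact_iff).1 h).symm
  have hP := Groth.Agent.Lib.Helper5.Syzygy.projective_zero N d m hproj hinj hex hgl
  have key : ∀ (a : ℕ) (ha : a = 0) (ha' : a ≤ m + 1),
      Module.Projective (X.presheaf.stalk x) ((S.obj' a ha').presheaf.stalk x) →
      Module.Flat (X.presheaf.stalk x) ((S.obj' 0 (Nat.zero_le _)).presheaf.stalk x) := by
    intro a ha ha' h
    subst ha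
    exact Module.Flat.of_projective
  exact key (min 0 (m + 1)) (by omega) (min_le_right _ _) hP

end main


section final

variable {X : Scheme.{u}}

open Groth.Agent.Lib.Helper23.QCohLocal Groth.Agent.Lib.Helper23.FinType

theorem isFinLocFree_syzygy [IsNoetherian X]
    (hreg : ∀ x : X, IsRegularLocalRing (X.presheaf.stalk x)) (m : ℕ)
    (hdim : topologicalKrullDim ↥X ≤ (m : WithBot ℕ∞))
    (S : ComposableArrows X.Modules (m + 1)) (hS : S.Exact)
    (hmono : Mono (S.map' 0 1 (Nat.zero_le 1) (Nat.le_add_left 1 m)))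
    (hepi : Epi (S.map' m (m + 1) (Nat.le_succ m) (le_refl (m + 1))))
    (hE : ∀ i : Fin m, FlatMod.IsFinLocFree (S.obj ⟨i.1 + 1, Nat.succ_lt_succ (Nat.lt_succ_of_lt i.2)⟩))
    (hF : Coh.IsCoh (S.obj (Fin.last (m + 1)))) :
    FlatMod.IsFinLocFree (S.obj 0) := by
  -- the objects `1, …, m + 1` are quasi-coherent of finite type
  have hqc : ∀ (a : ℕ) (ha : a ≤ m + 1), 1 ≤ a →
      (S.obj' a ha).IsQuasicoherent ∧ SheafOfModules.IsFiniteType (R := X.ringCatSheaf) (S.obj' a ha) := by
    intro a ha h1
    obtain ⟨j, rfl⟩ : ∃ j, a = j + 1 := ⟨a - 1, by omega⟩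
    by_cases hj : j < m
    · have h := hE ⟨j, hj⟩
      have hfp : SheafOfModules.IsFinitePresentation (R := X.ringCatSheaf) (S.obj' (j + 1) ha) :=
        Groth.Agent.Lib.Helper2.LocFree.isFP_of_isFinLocFree _ h
      refine ⟨?_, ?_⟩
      · exact { nonempty_quasicoherentData :=
          ⟨(SheafOfModules.IsFinitePresentation.exists_quasicoherentData
            (R := X.ringCatSheaf) (S.obj' (j + 1) ha)).choose⟩ }
      · obtain ⟨σ, hσ⟩ := SheafOfModules.IsFinitePresentation.exists_quasicoherentData
          (R := X.ringCatSheaf) (S.obj' (j + 1) ha)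
        exact { exists_localGeneratorsData := ⟨σ.localGeneratorsData,
          { isFiniteType := fun i => (hσ.isFinite_presentation i).isFiniteType_generators }⟩ }
    · have hjm : j = m := by omega
      subst hjm
      exact ⟨hF.1, hF.2⟩
  have hfree : ∀ (a : ℕ) (ha : a ≤ m + 1), 1 ≤ a → a ≤ m → ∀ x : X,
      Module.Free (X.presheaf.stalk x) ((S.obj' a ha).presheaf.stalk x) := by
    intro a ha h1 h2 x
    obtain ⟨j, rfl⟩ : ∃ j, a = j + 1 := ⟨a - 1, by omega⟩
    have h := hE ⟨j, by omega⟩
    have := (hqc (j + 1) ha h1).1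
    exact (Groth.Agent.Lib.Helper2.RankLoc.isLocallyConstant_fibreRank_of_isFinLocFree _ h).1 x
  -- the object `0` is quasi-coherent of finite type
  have hG : (S.obj' 0 (Nat.zero_le _)).IsQuasicoherent := by
    rcases Nat.eq_zero_or_pos m with hm | hm
    · subst hm
      have := hmono
      have := hepi
      have hiso : IsIso (S.map' 0 1 (Nat.zero_le 1) (Nat.le_add_left 1 0)) := isIso_of_mono_of_epi _
      have := (hqc 1 (by omega) le_rfl).1
      exact Groth.Agent.Lib.Helper23.TensorQCoh.isQuasicoherent_of_iso (asIso (S.map' 0 1 (Nat.zero_le 1) (Nat.le_add_left 1 0))).symm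
    · have hex := hS.exact 0 (by omega)
      have : Mono (S.sc hS.toIsComplex 0 (by omega)).f := hmono
      have hk := hex.fIsKernel
      have := (hqc 1 (by omega) le_rfl).1
      have := (hqc 2 (by omega) (by omega)).1
      have hker := isQuasicoherent_kernel (S.map' 1 2 (by omega) (by omega))
      let e : S.obj' 0 (Nat.zero_le _) ≅ kernel (S.map' 1 2 (by omega) (by omega)) :=
        IsLimit.conePointUniqueUpToIso hk (limit.isLimit (parallelPair (S.map' 1 2 (by omega) (by omega)) 0))
      exact Groth.Agent.Lib.Helper23.TensorQCoh.isQuasicoherent_of_iso e.symm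
  have hGft : SheafOfModules.IsFiniteType (R := X.ringCatSheaf) (S.obj' 0 (Nat.zero_le _)) := by
    have := hmono
    have := (hqc 1 (by omega) le_rfl).1
    have := (hqc 1 (by omega) le_rfl).2
    exact isFiniteType_of_mono (S.map' 0 1 (Nat.zero_le 1) (Nat.le_add_left 1 m))
  have hGfp : SheafOfModules.IsFinitePresentation (R := X.ringCatSheaf) (S.obj' 0 (Nat.zero_le _)) :=
    isFinitePresentation_of_isFiniteType _
  intro x
  have hflat := isFlatAt_zero hreg m hdim S hS hmono hfree x
  obtain ⟨D, k, hxD, h⟩ :=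
    Groth.Agent.Lib.Helper2.LocFree.exists_restrict_iso_freeMod_of_isFlatAt (S.obj' 0 (Nat.zero_le _)) x hflat
  exact ⟨D, k, hxD, h⟩

end final

end Groth.Agent.R2.H76.Syzygy
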