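import Mathlib
import Groth.Agent.S1663
import Groth.Agent.Lib.Helper23AffOpen4
import Groth.Agent.R2.H76Syzygy

/-!
# Cohomological dimension `≤ 1` of Noetherian schemes of dimension `≤ 1` (helper7)

For a Noetherian scheme whose local rings have dimension `≤ 1` (e.g. `topologicalKrullDim X ≤ 1`),
`H^p(X, F) = 0` for every quasi-coherent `F` and `p ≥ 2`.  Proof: in such a scheme the intersection
of an affine open with any open is affine (helper8, `S1663.isAffineOpen_inf`), so Mayer–Vietoris
(helper23) along a finite affine cover gives the bound.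
-/

set_option autoImplicit false
set_option linter.style.haveILetI false
universe u
open CategoryTheory CategoryTheory.Limits Opposite TopologicalSpace AlgebraicGeometry

namespace Groth.Agent.R2.H7.CurveVanish

open Groth.Agent.Lib.Helper23.AffVanish

variable {X : Scheme.{u}}

/-- Mayer–Vietoris induction: cohomology of quasi-coherent modules on quasi-compact opens vanishes in
degrees `≥ 2`. -/
theorem subsingleton_HE_of_isCompact [IsLocallyNoetherian X]
    (hX : ∀ x : X, ringKrullDim (X.presheaf.stalk x) ≤ 1) (W : X.Opens)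
    (hW : IsCompact (W : Set X)) :
    ∀ (F : X.Modules) [F.IsQuasicoherent] (m : ℕ), Subsingleton (HE (ab' F) (m + 2) W) := by
  have hX' : ∀ x : X, IsNoetherianRing (X.presheaf.stalk x) ∧
      ringKrullDim (X.presheaf.stalk x) ≤ 1 := fun x => ⟨inferInstance, hX x⟩
  refine compact_open_induction_on (P := fun W : X.Opens => ∀ (F : X.Modules) [F.IsQuasicoherent]
    (m : ℕ), Subsingleton (HE (ab' F) (m + 2) W)) W hW ?_ ?_
  · exact fun F _ m =>
      ⟨fun a b => (HE_eq_zero_of_eq_bot _ _ rfl a).trans (HE_eq_zero_of_eq_bot _ _ rfl b).symm⟩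
  · rintro S hS U hPS F _ m
    haveI h1 : Subsingleton (HE (ab' F) (m + 1 + 1) S) := hPS F m
    haveI h2 : Subsingleton (HE (ab' F) (m + 1 + 1) U.1) :=
      subsingleton_HE_of_isAffineOpen U.2 F (m + 1)
    have haff : IsAffineOpen (S ⊓ U.1) := by
      rw [inf_comm]
      exact Groth.Agent.S1663.isAffineOpen_inf X hX' S U.1 U.2
    have h3 : Subsingleton (HE (ab' F) (m + 1) (S ⊓ U.1)) :=
      subsingleton_HE_of_isAffineOpen haff F m
    refine ⟨fun a b => ?_⟩
    have key : ∀ α : HE (ab' F) (m + 1 + 1) (S ⊔ U.1), α = 0 := by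
      intro α
      exact eq_zero_of_mv (ab' F) (m + 1) S U.1 (S ⊔ U.1) le_sup_left le_sup_right le_rfl α
        (Subsingleton.elim _ _) (Subsingleton.elim _ _)
        (fun γ => ⟨0, 0, @Subsingleton.elim _ h3 _ _⟩)
    exact (key a).trans (key b).symm

/-- **Noetherian scheme with local rings of dimension `≤ 1`: `H^p(X, F) = 0` for `p ≥ 2`,
`F` quasi-coherent.** -/
theorem subsingleton_HH_of_stalk_dim_le_one (X : Scheme.{u}) [IsNoetherian X]
    (hX : ∀ x : X, ringKrullDim (X.presheaf.stalk x) ≤ 1)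
    (F : X.Modules) (hF : F.IsQuasicoherent) (p : ℕ) (hp : 2 ≤ p) :
    Subsingleton (Coh.HH X F p) := by
  obtain ⟨m, rfl⟩ : ∃ m, p = m + 2 := ⟨p - 2, by omega⟩
  haveI := hF
  haveI := subsingleton_HE_of_isCompact hX (⊤ : X.Opens) isCompact_univ F m
  exact (HETopEquivH X.carrier (ab' F) (m + 2)).symm.subsingleton

/-- **Noetherian scheme of dimension `≤ 1`: `H^p(X, F) = 0` for `p ≥ 2`, `F` quasi-coherent.** -/
theorem subsingleton_HH_of_dim_le_one (X : Scheme.{u}) [IsNoetherian X]
    (hd : topologicalKrullDim X ≤ 1)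
    (F : X.Modules) (hF : F.IsQuasicoherent) (p : ℕ) (hp : 2 ≤ p) :
    Subsingleton (Coh.HH X F p) :=
  subsingleton_HH_of_stalk_dim_le_one X
    (fun x => (Groth.Agent.R2.H76.Syzygy.ringKrullDim_stalk_le X x).trans hd) F hF p hp

end Groth.Agent.R2.H7.CurveVanish
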