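import Mathlib
import Groth.Prelude.Def_Coh
import Groth.Prelude.Def_CohB1
import Groth.Prelude.Def_CurvBase
import Groth.Prelude.Def_FlatMod2
import Groth.Agent.R2.H79TwistCalc
import Groth.Agent.R2.H62ExtLES
import Groth.Agent.R2.H62CurveDeg
import Groth.Agent.Lib.Helper23RestrTensor
import Groth.Agent.Lib.Helper23TensorUnit
import Groth.Agent.Lib.Helper23Support
import Groth.Agent.Lib.Helper2SemiLocFree
import Groth.Agent.Lib.Helper27PnSections
import Groth.Agent.Lib.Helper7TopDim
import Groth.Agent.S2286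
import Groth.Agent.S0020

/-!
# `χ(F ⊗ E) = n χ(F)` for `F` coherent with zero-dimensional support (helper20; S1558)

* `SuppGlue.existsUnique_glue` : sections of a module supported in a closed set `T` glue uniquely along a family
  of opens covering `T` whose pairwise intersections miss `T`;
* `restrictTensorFreeIso`, `localEquiv` : on an open where `E` is free of rank `n`, `F ⊗ E ≅ F^n`;
* `exists_sections_equiv` : `Γ(X, F ⊗ E) ≃ Γ(X, F)^n`, semilinearly over `Γ(X, O_X)`;
* `finrank_HH_zero_tensor` : `h⁰(F ⊗ E) = n h⁰(F)`.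
-/

set_option autoImplicit false
set_option linter.style.haveILetI false
set_option linter.unusedSectionVars false
universe u
open CategoryTheory CategoryTheory.Limits AlgebraicGeometry TopologicalSpace Opposite TensorProduct

namespace Groth.Agent.R2.H20.SuppGlue

variable {X : Scheme.{u}} (G : X.Modules)

/-- restriction of sections -/
noncomputable abbrev rs {U V : X.Opens} (h : V ≤ U) : Γ(G, U) →+ Γ(G, V) :=
  (G.presheaf.map (homOfLE h).op).hom

theorem rs_rs {U V W : X.Opens} (h : V ≤ U) (h' : W ≤ V) (s : Γ(G, U)) :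
    rs G h' (rs G h s) = rs G (h'.trans h) s := by
  change (G.presheaf.map (homOfLE h).op ≫ G.presheaf.map (homOfLE h').op).hom s = _
  rw [← Functor.map_comp]
  rfl

theorem rs_self {U : X.Opens} (s : Γ(G, U)) : rs G (le_refl U) s = s := by
  change (G.presheaf.map (𝟙 _)).hom s = s
  rw [G.presheaf.map_id]
  rfl

/-- Sections of a module supported in a closed set `T` glue uniquely along a family of opens covering `T`
whose pairwise intersections miss `T`. -/
theorem existsUnique_glue (T : Set X) (hT : IsClosed T) (hG : CohB1.support G ⊆ T)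
    {ι : Type u} (U : ι → X.Opens) (hU : ∀ i j, i ≠ j → ∀ x ∈ U i ⊓ U j, x ∉ T)
    (hcov : T ⊆ ⋃ i, (U i : Set X)) (s : ∀ i, Γ(G, U i)) :
    ∃! c : Γ(G, ⊤), ∀ i, rs G (le_top : U i ≤ ⊤) c = s i := by
  classical
  let W₀ : X.Opens := ⟨Tᶜ, hT.isOpen_compl⟩
  let V : Option ι → X.Opens := fun o => o.elim W₀ U
  let sf : ∀ o : Option ι, Γ(G, V o) := fun o =>
    match o with
    | none => (0 : Γ(G, W₀))
    | some i => s i
  let Fs : TopCat.Sheaf Ab.{u} X.toTopCat := ⟨G.presheaf, G.isSheaf⟩
  have hzero : ∀ (W : X.Opens), (∀ x ∈ W, x ∉ T) → ∀ a b : Γ(G, W), a = b := by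
    intro W hW a b
    rw [Groth.Agent.Lib.Helper23.Support.eq_zero_of_disjoint_support G W (fun x hx h => hW x hx (hG h)) a,
      Groth.Agent.Lib.Helper23.Support.eq_zero_of_disjoint_support G W (fun x hx h => hW x hx (hG h)) b]
  have hcompat : TopCat.Presheaf.IsCompatible Fs.1 V sf := by
    intro o o'
    by_cases hoo : o = o'
    · subst hoo
      rfl
    · apply hzero
      rintro x ⟨hx1, hx2⟩ hxT
      cases o with
      | none => exact hx1 hxT
      | some i =>
        cases o' with
        | none => exact hx2 hxT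
        | some j =>
          exact hU i j (fun h => hoo (by rw [h])) x ⟨hx1, hx2⟩ hxT
  have hcover : (⊤ : X.Opens) ≤ iSup V := by
    intro x _
    by_cases hx : x ∈ T
    · obtain ⟨i, hi⟩ := Set.mem_iUnion.1 (hcov hx)
      exact Opens.mem_iSup.2 ⟨some i, hi⟩
    · exact Opens.mem_iSup.2 ⟨none, hx⟩
  obtain ⟨c, hc, hcu⟩ := Fs.existsUnique_gluing' V ⊤ (fun o => homOfLE le_top) hcover sf hcompat
  refine ⟨c, fun i => hc (some i), ?_⟩
  intro c' hc'
  apply hcu
  intro o
  cases o with
  | none => exact hzero W₀ (fun x hx => hx) _ _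
  | some i => exact hc' i

end Groth.Agent.R2.H20.SuppGlue

namespace Groth.Agent.R2.H20.TorsTensor

open Groth.Agent.R2.H79.TwistCalc

variable {X : Scheme.{u}}

/-- `F ⊗ O^n ≅ F^n` -/
noncomputable def tensorFreeIso (F : X.Modules) (n : ℕ) :
    CohB1.tensorMod F (FlatMod.freeMod X n) ≅ ∐ fun _ : Fin n => F :=
  PreservesCoproduct.iso (tensorLeftF F) (fun _ : Fin n => Coh.structureModule X) ≪≫
    Sigma.mapIso (fun _ : Fin n => Groth.Agent.Lib.Helper23.TensorUnit.tensorUnitIso F)

/-- on an open where `E` is free of rank `n`, `F ⊗ E ≅ F^n` -/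
noncomputable def restrictTensorFreeIso (F E : X.Modules) (U : X.Opens) (n : ℕ)
    (e : E.restrict U.ι ≅ FlatMod.freeMod (↑U) n) :
    (CohB1.tensorMod F E).restrict U.ι ≅ ∐ fun _ : Fin n => F.restrict U.ι :=
  Groth.Agent.Lib.Helper23.RestrTensor.restrictTensorIso F E U.ι ≪≫
    PicGrp.tensorModIso (Iso.refl _) e ≪≫ tensorFreeIso (F.restrict U.ι) n

/-- the evaluation functor at the top open -/
noncomputable abbrev evTop (Y : Scheme.{u}) : Y.Modules ⥤ ModuleCat.{u} (Y.ringCatSheaf.obj.obj (op ⊤)) :=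
  SheafOfModules.evaluation Y.ringCatSheaf (op ⊤)

instance (Y : Scheme.{u}) : (evTop Y).Additive := by
  change (SheafOfModules.forget _ ⋙ PresheafOfModules.evaluation _ _).Additive
  infer_instance

noncomputable def localEquiv (F E : X.Modules) (U : X.Opens) (n : ℕ)
    (e : E.restrict U.ι ≅ FlatMod.freeMod (↑U) n) :
    (evTop ↑U).obj ((CohB1.tensorMod F E).restrict U.ι) ≃ₗ[(↑U : Scheme.{u}).ringCatSheaf.obj.obj (op ⊤)]
      (Fin n → (evTop ↑U).obj (F.restrict U.ι)) :=
  ((evTop ↑U).mapIso (restrictTensorFreeIso F E U n e)).toLinearEquiv ≪≫ₗ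
    (Groth.Agent.R2.H62.ExtLES.sigmaEquiv (evTop ↑U) (fun _ : Fin n => F.restrict U.ι)).symm


section Assembly

open Groth.Agent.R2.H20.SuppGlue

variable {X : Scheme.{u}}

theorem restrict_smul (G : X.Modules) (U : X.Opens) (a : Γ(X, U.ι ''ᵁ ⊤)) (s : Γ(G, U.ι ''ᵁ ⊤)) :
    (show Γ(G, U.ι ''ᵁ ⊤) from
      (show ((↑U : Scheme.{u}).ringCatSheaf.obj.obj (op ⊤)) from ((U.ι.appIso ⊤).hom a : Γ(↑U, ⊤))) •
        (show ((G.restrict U.ι).val.obj (op ⊤)) from s)) = a • s := by
  change ((U.ι.appIso ⊤).inv ((U.ι.appIso ⊤).hom a)) • s = a • s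
  rw [Iso.hom_inv_id_apply]

/-- local form: on an open where `E` is free of rank `n`, sections of `F ⊗ E` are `n`-tuples of sections
of `F`, semilinearly. -/
theorem exists_local (F E : X.Modules) (U : X.Opens) (n : ℕ)
    (e : E.restrict U.ι ≅ FlatMod.freeMod (↑U) n) :
    ∃ θ : Γ(CohB1.tensorMod F E, U.ι ''ᵁ ⊤) ≃+ (Fin n → Γ(F, U.ι ''ᵁ ⊤)),
      ∀ (a : Γ(X, U.ι ''ᵁ ⊤)) (s : Γ(CohB1.tensorMod F E, U.ι ''ᵁ ⊤)) (j : Fin n),
        θ (a • s) j = a • θ s j := by
  let L := localEquiv F E U n e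
  refine ⟨L.toAddEquiv, fun a s j => ?_⟩
  let a' : (↑U : Scheme.{u}).ringCatSheaf.obj.obj (op ⊤) := ((U.ι.appIso ⊤).hom a : Γ(↑U, ⊤))
  have h := L.map_smul a' s
  have h' : L (a' • (show (evTop ↑U).obj ((CohB1.tensorMod F E).restrict U.ι) from s)) j = a' • L s j :=
    congrFun h j
  have e1 := restrict_smul (CohB1.tensorMod F E) U a s
  have e2 := restrict_smul F U a (L s j)
  exact (congrArg (fun t => L t j) e1.symm).trans (h'.trans e2)

end Assembly

section Global

open Groth.Agent.R2.H20.SuppGlue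

variable {X : Scheme.{u}}

/-- the support of `F ⊗ E` is contained in the support of `F` -/
theorem support_tensorMod_subset (F E : X.Modules) :
    CohB1.support (CohB1.tensorMod F E) ⊆ CohB1.support F := by
  intro x hx hF
  apply hx
  rw [Groth.Agent.S2286.subsingleton_stalk_tensorMod_iff]
  haveI : Subsingleton (F.presheaf.stalk x) := hF
  refine ⟨fun a b => ?_⟩
  have h : ∀ c : (F.presheaf.stalk x) ⊗[X.presheaf.stalk x] (E.presheaf.stalk x), c = 0 := by
    intro c
    induction c using TensorProduct.induction_on with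
    | zero => rfl
    | tmul p q => rw [Subsingleton.elim p 0, TensorProduct.zero_tmul]
    | add p q hp hq => rw [hp, hq, add_zero]
  rw [h a, h b]

/-- the restriction map to a family of opens -/
noncomputable def resFam (G : X.Modules) {ι : Type u} (U : ι → X.Opens) :
    Γ(G, ⊤) →+ ∀ i, Γ(G, U i) where
  toFun c i := rs G (le_top : U i ≤ ⊤) c
  map_zero' := by funext i; exact map_zero _
  map_add' a b := by funext i; exact map_add _ a b

theorem resFam_bijective (G : X.Modules) (T : Set X) (hT : IsClosed T)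
    (hG : CohB1.support G ⊆ T) {ι : Type u} (U : ι → X.Opens)
    (hU : ∀ i j, i ≠ j → ∀ x ∈ U i ⊓ U j, x ∉ T) (hcov : T ⊆ ⋃ i, (U i : Set X)) :
    Function.Bijective (resFam G U) := by
  constructor
  · intro a b hab
    obtain ⟨c, -, hcu⟩ := existsUnique_glue G T hT hG U hU hcov (resFam G U a)
    rw [hcu a (fun i => rfl), hcu b (fun i => (congrFun hab i).symm)]
  · intro s
    obtain ⟨c, hc, -⟩ := existsUnique_glue G T hT hG U hU hcov s
    exact ⟨c, funext hc⟩

end Global

section Sections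

open Groth.Agent.R2.H20.SuppGlue

variable {X : Scheme.{u}}

theorem rs_smul (G : X.Modules) {U V : X.Opens} (h : V ≤ U) (r : Γ(X, U)) (c : Γ(G, U)) :
    rs G h (r • c) = ((X.presheaf.map (homOfLE h).op).hom r : Γ(X, V)) • rs G h c :=
  G.val.map_smul (homOfLE h).op r c

/-- sections of `F ⊗ E` are `n`-tuples of sections of `F` when `F` is supported in a closed set `T` covered by
opens, with pairwise intersections missing `T`, on which `E` is free of rank `n`. -/
theorem exists_sections_equiv (F E : X.Modules) (n : ℕ) (T : Set X) (hT : IsClosed T)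
    (hF : CohB1.support F ⊆ T) {ι : Type u} (U : ι → X.Opens)
    (e : ∀ i, E.restrict (U i).ι ≅ FlatMod.freeMod (↑(U i)) n)
    (hU : ∀ i j, i ≠ j → ∀ x ∈ (U i).ι ''ᵁ ⊤ ⊓ (U j).ι ''ᵁ ⊤, x ∉ T)
    (hcov : T ⊆ ⋃ i, (((U i).ι ''ᵁ ⊤ : X.Opens) : Set X)) :
    ∃ Θ : Γ(CohB1.tensorMod F E, ⊤) ≃+ (Fin n → Γ(F, ⊤)),
      ∀ (r : Γ(X, ⊤)) (s : Γ(CohB1.tensorMod F E, ⊤)) (j : Fin n), Θ (r • s) j = r • Θ s j := by
  classical
  let U' : ι → X.Opens := fun i => (U i).ι ''ᵁ ⊤
  have hFE : CohB1.support (CohB1.tensorMod F E) ⊆ T := (support_tensorMod_subset F E).trans hF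
  have hρ₁ := resFam_bijective (CohB1.tensorMod F E) T hT hFE U' hU hcov
  have hρ₂ := resFam_bijective F T hT hF U' hU hcov
  choose θ hθ using fun i => exists_local F E (U i) n (e i)
  -- the two comparison maps
  let Φ : Γ(CohB1.tensorMod F E, ⊤) →+ (∀ i, Fin n → Γ(F, U' i)) :=
    { toFun := fun c i => θ i (resFam (CohB1.tensorMod F E) U' c i)
      map_zero' := by
        funext i
        change θ i (resFam (CohB1.tensorMod F E) U' 0 i) = 0
        rw [(resFam (CohB1.tensorMod F E) U').map_zero]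
        exact (θ i).map_zero
      map_add' := fun a b => by
        funext i
        change θ i (resFam (CohB1.tensorMod F E) U' (a + b) i) = _
        rw [(resFam (CohB1.tensorMod F E) U').map_add]
        exact (θ i).map_add _ _ }
  let Ψ : (Fin n → Γ(F, ⊤)) →+ (∀ i, Fin n → Γ(F, U' i)) :=
    { toFun := fun f i j => resFam F U' (f j) i
      map_zero' := by funext i j; exact (rs F (le_top : U' i ≤ ⊤)).map_zero
      map_add' := fun a b => by funext i j; exact (rs F (le_top : U' i ≤ ⊤)).map_add _ _ }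
  have hΦ : Function.Bijective Φ := by
    constructor
    · intro a b hab
      apply hρ₁.1
      funext i
      exact (θ i).injective (congrFun hab i)
    · intro g
      obtain ⟨c, hc⟩ := hρ₁.2 (fun i => (θ i).symm (g i))
      refine ⟨c, funext fun i => ?_⟩
      change θ i (resFam (CohB1.tensorMod F E) U' c i) = g i
      rw [hc, AddEquiv.apply_symm_apply]
  have hΨ : Function.Bijective Ψ := by
    constructor
    · intro a b hab
      funext j
      apply hρ₂.1
      funext i
      exact congrFun (congrFun hab i) j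
    · intro g
      choose f hf using fun j => hρ₂.2 (fun i => g i j)
      refine ⟨f, funext fun i => funext fun j => ?_⟩
      exact congrFun (hf j) i
  let eΦ := AddEquiv.ofBijective Φ hΦ
  let eΨ := AddEquiv.ofBijective Ψ hΨ
  refine ⟨eΦ.trans eΨ.symm, fun r s j => ?_⟩
  have key : Ψ (fun j => r • (eΦ.trans eΨ.symm) s j) = Φ (r • s) := by
    funext i j
    have h1 : Ψ ((eΦ.trans eΨ.symm) s) = Φ s := eΨ.apply_symm_apply (eΦ s)
    have h2 : Ψ ((eΦ.trans eΨ.symm) s) i j = Φ s i j := congrFun (congrFun h1 i) j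
    change rs F (le_top : U' i ≤ ⊤) (r • (eΦ.trans eΨ.symm) s j) =
      θ i (rs (CohB1.tensorMod F E) (le_top : U' i ≤ ⊤) (r • s)) j
    rw [rs_smul, rs_smul, hθ]
    congr 1
  have h3 : eΨ (fun j => r • (eΦ.trans eΨ.symm) s j) = eΦ (r • s) := key
  have h4 : (fun j => r • (eΦ.trans eΨ.symm) s j) = eΨ.symm (eΦ (r • s)) := by
    rw [← h3, AddEquiv.symm_apply_apply]
  exact (congrFun h4 j).symm

end Sections

section Final

variable {k : Type u} [Field k]

theorem finrank_fin_fun' (V : Type u) [AddCommGroup V] [Module k V] (n : ℕ) :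
    Module.finrank k (Fin n → V) = n * Module.finrank k V := by
  by_cases hV : Module.Finite k V
  · rw [Module.finrank_pi_fintype]
    simp
  · rw [Module.finrank_of_not_finite hV, mul_zero]
    rcases Nat.eq_zero_or_pos n with rfl | hn
    · exact Module.finrank_zero_of_subsingleton
    · apply Module.finrank_of_not_finite
      intro hfin
      apply hV
      exact Module.Finite.of_surjective (LinearMap.proj (R := k) (φ := fun _ : Fin n => V) ⟨0, hn⟩)
        (fun v => ⟨fun _ => v, rfl⟩)

theorem topologicalKrullDim_mono {T : Type*} [TopologicalSpace T] {A B : Set T} (h : A ⊆ B) :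
    topologicalKrullDim A ≤ topologicalKrullDim B :=
  (Topology.IsEmbedding.inclusion h).isInducing.topologicalKrullDim_le

variable {X : Scheme.{u}} [X.Over (Spec (CommRingCat.of k))]

/-- `H^0(X, N) ≃+ Γ(N, ⊤)` -/
noncomputable def hh0E (N : X.Modules) : Coh.HH X N 0 ≃+ Γ(N, ⊤) :=
  Groth.Agent.Lib.Helper27PnSections.hh0Equiv X N

theorem hh0E_smul (N : X.Modules) (r : Γ(X, ⊤)) (x : Coh.HH X N 0) :
    hh0E N ((show Coh.Γtop X from r) • x) = r • hh0E N x := by
  change Groth.Agent.Lib.Helper27PnSections.hh0Equiv X N ((show Coh.Γtop X from r) • x) = _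
  rw [Groth.Agent.Lib.Helper27PnSections.hh0Equiv_smul, Coh.smulAb_app,
    Groth.Agent.Lib.Helper27PnSections.resTop_top]
  rfl

/-- a `Γ(X, O_X)`-semilinear additive bijection on sections gives a `k`-linear bijection on `H^0` -/
noncomputable def hh0LinearEquiv (M F : X.Modules) (n : ℕ)
    (Θ : Γ(M, ⊤) ≃+ (Fin n → Γ(F, ⊤)))
    (hΘ : ∀ (r : Γ(X, ⊤)) (s : Γ(M, ⊤)) (j : Fin n), Θ (r • s) j = r • Θ s j) :
    Coh.HH X M 0 ≃ₗ[k] (Fin n → Coh.HH X F 0) := by
  let eM : Coh.HH X M 0 ≃+ Γ(M, ⊤) := hh0E M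
  let eF : Coh.HH X F 0 ≃+ Γ(F, ⊤) := hh0E F
  have hsm : ∀ (N : X.Modules) (r : Γ(X, ⊤)) (x : Coh.HH X N 0),
      hh0E N ((show Coh.Γtop X from r) • x) = r • hh0E N x := hh0E_smul
  refine
    { toFun := fun x j => eF.symm (Θ (eM x) j)
      invFun := fun f => eM.symm (Θ.symm (fun j => eF (f j)))
      map_add' := fun x y => by
        funext j
        change eF.symm (Θ (eM (x + y)) j) = eF.symm (Θ (eM x) j) + eF.symm (Θ (eM y) j)
        rw [eM.map_add, Θ.map_add, Pi.add_apply, eF.symm.map_add]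
      map_smul' := fun a x => by
        funext j
        change eF.symm (Θ (eM (a • x)) j) = a • eF.symm (Θ (eM x) j)
        let r : Γ(X, ⊤) := Coh.toGlobal (X ↘ Spec (CommRingCat.of k)) a
        have h1 : eM (a • x) = r • eM x := hsm M r x
        have h2 : eF (a • eF.symm (Θ (eM x) j)) = r • eF (eF.symm (Θ (eM x) j)) :=
          hsm F r (eF.symm (Θ (eM x) j))
        apply eF.injective
        rw [h2, AddEquiv.apply_symm_apply, AddEquiv.apply_symm_apply, h1, hΘ]
      left_inv := fun x => by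
        change eM.symm (Θ.symm (fun j => eF (eF.symm (Θ (eM x) j)))) = x
        simp only [AddEquiv.apply_symm_apply]
        change eM.symm (Θ.symm (Θ (eM x))) = x
        rw [AddEquiv.symm_apply_apply, AddEquiv.symm_apply_apply]
      right_inv := fun f => by
        funext j
        change eF.symm (Θ (eM (eM.symm (Θ.symm (fun j => eF (f j))))) j) = f j
        rw [AddEquiv.apply_symm_apply, AddEquiv.apply_symm_apply, AddEquiv.symm_apply_apply] }

end Final

section Row

variable {k : Type u} [Field k] {X : Scheme.{u}} [X.Over (Spec (CommRingCat.of k))]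
  [IsProper (X ↘ Spec (CommRingCat.of k))]

theorem finrank_HH_zero_tensor (F : X.Modules) (hF : Coh.IsCoh F)
    (hsupp : topologicalKrullDim (CohB1.support F) ≤ 0)
    (n : ℕ) (E : X.Modules) (hE : FlatMod.IsFinLocFreeOfRank n E) :
    Module.finrank k (Coh.HH X (CohB1.tensorMod F E) 0) = n * Module.finrank k (Coh.HH X F 0) := by
  classical
  have hN : IsLocallyNoetherian X :=
    LocallyOfFiniteType.isLocallyNoetherian (X ↘ (Spec (CommRingCat.of k)))
  have hXc : CompactSpace X := QuasiCompact.compactSpace_of_compactSpace (X ↘ (Spec (CommRingCat.of k)))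
  have : IsNoetherian X := { }
  set T := CohB1.support F with hTdef
  have hcl : IsClosed T := Groth.Agent.S0020.result X F hF.2
  have hpt : ∀ x ∈ T, IsClosed ({x} : Set X) := by
    intro x hx
    have h1 : IsClosed ({⟨x, hx⟩} : Set T) :=
      Groth.Agent.Lib.Helper7.TopDim.isClosed_singleton_of_dim_le_zero hsupp ⟨x, hx⟩
    have h2 := hcl.isClosedEmbedding_subtypeVal.isClosedMap _ h1
    simpa using h2
  have hfinT : T.Finite := by
    by_cases hne : Nonempty T
    · have h0 : topologicalKrullDim T = 0 :=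
        le_antisymm hsupp Groth.Agent.Lib.Helper7.TopDim.topologicalKrullDim_nonneg
      have := (Groth.Agent.Lib.Helper7.TopDim.dim_eq_zero_iff_finite_discrete (X := T)).1 h0
      exact Set.finite_coe_iff.mp this.1
    · rw [not_nonempty_iff] at hne
      exact Set.finite_coe_iff.mp inferInstance
  have hsub : ∀ S : Set X, S ⊆ T → IsClosed S := by
    intro S hS
    have hSfin : S.Finite := hfinT.subset hS
    have : S = ⋃ x ∈ S, {x} := by simp
    rw [this]
    exact hSfin.isClosed_biUnion (fun x hx => hpt x (hS hx))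
  -- choose the opens
  have hex : ∀ x : T, ∃ U : X.Opens, (x : X) ∈ U ∧ (∀ z ∈ U, z ∈ T → z = x) ∧
      Nonempty (E.restrict U.ι ≅ FlatMod.freeMod (↑U) n) := by
    intro x
    let W : X.Opens := ⟨(T \ {(x : X)})ᶜ, (hsub _ Set.sdiff_subset).isOpen_compl⟩
    have hxW : (x : X) ∈ W := fun h => h.2 rfl
    obtain ⟨_, ⟨V, hV, rfl⟩, hxV, hVW⟩ :=
      X.isBasis_affineOpens.exists_subset_of_mem_open hxW W.isOpen
    obtain ⟨g, hg, ⟨e⟩⟩ := Groth.Agent.Lib.Helper2.SemiLocFree.exists_basicOpen_iso_freeMod E n hE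
      {(x : X)} (Set.finite_singleton _) hV (Set.singleton_subset_iff.2 hxV)
    refine ⟨X.basicOpen g, hg rfl, ?_, ⟨e⟩⟩
    intro z hz hzT
    by_contra hne
    exact hVW (X.basicOpen_le g hz) ⟨hzT, hne⟩
  choose U hxU hUT e using hex
  have himg : ∀ x : T, (U x).ι ''ᵁ ⊤ = U x := fun x => by
    rw [Scheme.Hom.image_top_eq_opensRange, Scheme.Opens.opensRange_ι]
  obtain ⟨Θ, hΘ⟩ := exists_sections_equiv F E n T hcl subset_rfl U (fun x => (e x).some)
    (by
      intro x y hxy z hz hzT
      rw [himg x, himg y] at hz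
      exact hxy (Subtype.ext ((hUT x z hz.1 hzT).symm.trans (hUT y z hz.2 hzT))))
    (by
      intro z hz
      refine Set.mem_iUnion.2 ⟨⟨z, hz⟩, ?_⟩
      rw [himg]
      exact hxU ⟨z, hz⟩)
  rw [(hh0LinearEquiv (k := k) _ F n Θ hΘ).finrank_eq, finrank_fin_fun']

end Row

end Groth.Agent.R2.H20.TorsTensor
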