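import Mathlib
import Groth.Agent.R2.H20CurveTens
import Groth.Agent.R2.H20CurveSpec
import Groth.Agent.S1558
import Groth.Agent.Lib.Helper23QAffSec
import Groth.Agent.Lib.Helper23SecTw6
import Groth.Agent.R2.H7CurveVanish
import Groth.Agent.R2.H62CohEuler

/-!
# Degrees of tensor products on proper integral curves (helper20; PROJ:curves-rr CR2 and corollaries)

Everything against `HFin k X` (the conclusion of S0002 for `X`).

* `euler_tensor'` : `χ(E ⊗ F) = rk(F) deg(E) + n χ(F)` (= S1557 against `HFin`), `tensStmt`;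
* `rk_of_isInvertible` : invertible modules have generic rank `1`;
* `deg_tensorMod` : `deg(L ⊗ M) = deg L + deg M` for invertible `L`, `M`;
* `deg_tensorPow` : `deg(L^m) = m deg L`;
* `euler_eq_sub` : `χ(F) = h⁰(F) - h¹(F)` for quasi-coherent `F` on a curve;
* `finrank_HH_zero_ge` : `h⁰(F) ≥ χ(F)`.
-/

set_option autoImplicit false
set_option linter.style.haveILetI false
universe u
open CategoryTheory CategoryTheory.Limits AlgebraicGeometry

namespace Groth.Agent.R2.H20.CurveDeg

open Groth.Agent.R2.H62.CurveCore Groth.Agent.R2.H62.CohLES Groth.Agent.R2.H62.CurveInv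
open Groth.Agent.Lib.Helper4.NormDelta Groth.Agent.R2.H79.TwistCalc Groth.Agent.R2.H20.LocFreeRank
open Groth.Agent.R2.H20.CurveTens

variable {k : Type u} [Field k] {X : Scheme.{u}} [X.Over (Spec (CommRingCat.of k))]
  [IsIntegral X] [IsProper (X ↘ Spec (CommRingCat.of k))]

theorem tors : Tors k X := fun F hF hs n E hE => Groth.Agent.S1558.result k X F hF hs n E hE

/-- **CR2** (= S1557 against `HFin`). -/
theorem euler_tensor' (hdim : topologicalKrullDim X ≤ 1) (hfin : HFin k X)
    (n : ℕ) (E : X.Modules) (hE : FlatMod.IsFinLocFreeOfRank n E) (F : X.Modules) (hF : Coh.IsCoh F) :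
    Curv2.euler k X (CohB1.tensorMod E F) =
      (Module.finrank (X.presheaf.stalk (genericPoint X)) (F.presheaf.stalk (genericPoint X)) : ℤ) *
        Curv2.deg k X E n + n * Curv2.euler k X F :=
  euler_tensor hfin hdim tors n E hE F hF

theorem tensStmt : Groth.Agent.R2.H20.CurveSpec.TensStmt k X := by
  intro _ _ hdim hfin n E hE F hF
  exact euler_tensor' (le_of_eq hdim) hfin n E hE F hF

omit [X.Over (Spec (CommRingCat.of k))] [IsProper (X ↘ Spec (CommRingCat.of k))] in
theorem rk_of_isInvertible {L : X.Modules} (hL : PicF.IsInvertible L) :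
    Module.finrank (X.presheaf.stalk (genericPoint X)) (L.presheaf.stalk (genericPoint X)) = 1 := by
  obtain ⟨m, -, -, hm, -, -⟩ := exists_stalk_datum hL hL (𝟙 L) (genericPoint X)
  let f : X.presheaf.stalk (genericPoint X) →ₗ[X.presheaf.stalk (genericPoint X)]
      L.presheaf.stalk (genericPoint X) :=
    LinearMap.toSpanSingleton _ _ m
  have hf : Function.Bijective f := hm
  rw [← (LinearEquiv.ofBijective f hf).finrank_eq]
  exact Module.finrank_self _

/-- `deg(L ⊗ M) = deg L + deg M`. -/
theorem deg_tensorMod (hdim : topologicalKrullDim X ≤ 1) (hfin : HFin k X) {L M : X.Modules}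
    (hL : PicF.IsInvertible L) (hM : PicF.IsInvertible M) :
    Curv2.deg k X (CohB1.tensorMod L M) 1 = Curv2.deg k X L 1 + Curv2.deg k X M 1 := by
  have h := euler_tensor' hdim hfin 1 L
    (Groth.Agent.Lib.Helper23.SecTw.isFinLocFreeOfRank_one_of_isInvertible L hL) M
    (isCoh_of_isInvertible hM)
  rw [rk_of_isInvertible hM] at h
  unfold Curv2.deg at h ⊢
  rw [h]
  push_cast
  ring

/-- `deg(L^m) = m deg L`. -/
theorem deg_tensorPow (hdim : topologicalKrullDim X ≤ 1) (hfin : HFin k X) {L : X.Modules}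
    (hL : PicF.IsInvertible L) (m : ℕ) :
    Curv2.deg k X (CohB1.tensorPow L m) 1 = m * Curv2.deg k X L 1 := by
  induction m with
  | zero =>
    change Curv2.deg k X (Coh.structureModule X) 1 = _
    rw [deg_structureModule]
    simp
  | succ m ih =>
    change Curv2.deg k X (CohB1.tensorMod (CohB1.tensorPow L m) L) 1 = _
    rw [deg_tensorMod hdim hfin (Groth.Agent.Lib.Helper23.SecTw.isInvertible_tensorPow hL m) hL, ih]
    push_cast
    ring

omit [IsIntegral X] in
/-- `χ(F) = h⁰(F) - h¹(F)` on a curve. -/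
theorem euler_eq_sub (hdim : topologicalKrullDim X ≤ 1) (F : X.Modules) (hF : Coh.IsQCoh F) :
    Curv2.euler k X F = (Module.finrank k (Coh.HH X F 0) : ℤ) - Module.finrank k (Coh.HH X F 1) := by
  haveI : IsLocallyNoetherian X :=
    LocallyOfFiniteType.isLocallyNoetherian (X ↘ Spec (CommRingCat.of k))
  haveI := compactSpace_of_isProper k X
  haveI : IsNoetherian X := { }
  rw [euler_eq_eulerCharLE k F 1 (fun i hi =>
    Groth.Agent.R2.H7.CurveVanish.subsingleton_HH_of_dim_le_one X hdim F hF i (by omega)),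
    eulerCharLE_def]
  simp [Finset.sum_range_succ]
  ring

omit [IsIntegral X] in
theorem finrank_HH_zero_ge (hdim : topologicalKrullDim X ≤ 1) (F : X.Modules) (hF : Coh.IsQCoh F) :
    Curv2.euler k X F ≤ (Module.finrank k (Coh.HH X F 0) : ℤ) := by
  rw [euler_eq_sub hdim F hF]
  have : (0 : ℤ) ≤ Module.finrank k (Coh.HH X F 1) := Int.natCast_nonneg _
  linarith

end Groth.Agent.R2.H20.CurveDeg
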