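import Mathlib
import Groth.Prelude.Def_AlgSpDec
import Groth.Prelude.Def_Flat

/-!
# Krull dimension of local rings along flat / quasi-finite maps (helper45)
-/

set_option autoImplicit false
set_option linter.style.haveILetI false
universe u
open CategoryTheory CategoryTheory.Limits AlgebraicGeometry

namespace Groth.Agent.R2.H45.Dim

/-- quasi-finite algebras do not raise Krull dimension (incomparability). -/
theorem ringKrullDim_le_of_quasiFinite (A B : Type*) [CommRing A] [CommRing B] [Algebra A B]
    [Algebra.QuasiFinite A B] : ringKrullDim B ≤ ringKrullDim A := by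
  refine Order.krullDim_le_of_strictMono (PrimeSpectrum.comap (algebraMap A B)) ?_
  intro P Q hPQ
  have hle : PrimeSpectrum.comap (algebraMap A B) P ≤ PrimeSpectrum.comap (algebraMap A B) Q :=
    Ideal.comap_mono hPQ.le
  refine lt_of_le_of_ne hle fun heq => ?_
  have : P.asIdeal = Q.asIdeal :=
    Algebra.QuasiFinite.eq_of_le_of_under_eq (R := A) P.asIdeal Q.asIdeal hPQ.le
      (congrArg PrimeSpectrum.asIdeal heq)
  exact hPQ.ne (PrimeSpectrum.ext this)

/-- a flat local homomorphism of local rings does not lower Krull dimension (going down). -/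
theorem ringKrullDim_le_of_flat_of_isLocalHom (A B : Type*) [CommRing A] [CommRing B] [Algebra A B]
    [IsLocalRing A] [IsLocalRing B] [Module.Flat A B] [IsLocalHom (algebraMap A B)] :
    ringKrullDim A ≤ ringKrullDim B := by
  haveI : Module.FaithfullyFlat A B := Module.FaithfullyFlat.of_flat_of_isLocalHom
  unfold ringKrullDim
  rw [Order.krullDim, Order.krullDim]
  refine iSup_le fun l => ?_
  -- extend `l` so that it ends at the maximal ideal; not needed: lift via surjectivity of Spec
  obtain ⟨P, hP⟩ := PrimeSpectrum.comap_surjective_of_faithfullyFlat (B := B) l.last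
  haveI : P.asIdeal.LiesOver l.last.asIdeal := ⟨by
    rw [← hP]; rfl⟩
  obtain ⟨L, hL, -, -⟩ := Ideal.exists_ltSeries_of_hasGoingDown l P.asIdeal
  exact le_iSup_of_le L (by rw [hL])

/-- flat morphisms of schemes do not lower the dimension of local rings. -/
theorem ringKrullDim_stalk_le_of_flat {W U : Scheme.{u}} (g : W ⟶ U) [Flat g] (w : W) :
    ringKrullDim (U.presheaf.stalk (g w)) ≤ ringKrullDim (W.presheaf.stalk w) := by
  have hfl : (g.stalkMap w).hom.Flat := Flat.stalkMap g w
  have hloc : IsLocalHom (g.stalkMap w).hom := inferInstance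
  algebraize [(g.stalkMap w).hom]
  have : IsLocalHom (algebraMap (U.presheaf.stalk (g w)) (W.presheaf.stalk w)) := hloc
  exact ringKrullDim_le_of_flat_of_isLocalHom _ _

/-- locally quasi-finite morphisms of schemes do not raise the dimension of local rings. -/
theorem ringKrullDim_stalk_le_of_locallyQuasiFinite {W U : Scheme.{u}} (g : W ⟶ U)
    [LocallyQuasiFinite g] (w : W) :
    ringKrullDim (W.presheaf.stalk w) ≤ ringKrullDim (U.presheaf.stalk (g w)) := by
  have hqf : (g.stalkMap w).hom.QuasiFinite := g.quasiFiniteAt w
  algebraize [(g.stalkMap w).hom]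
  exact ringKrullDim_le_of_quasiFinite _ _

/-- unramified morphisms locally of finite type are locally quasi-finite. -/
theorem locallyQuasiFinite_of_formallyUnramified {X Y : Scheme.{u}} (f : X ⟶ Y)
    [LocallyOfFiniteType f] [FormallyUnramified f] : LocallyQuasiFinite f := by
  constructor
  intro U hU V hV e
  have h1 : (f.appLE U V e).hom.FiniteType :=
    HasRingHomProperty.appLE (P := @LocallyOfFiniteType) f inferInstance ⟨U, hU⟩ ⟨V, hV⟩ e
  have h2 : (f.appLE U V e).hom.FormallyUnramified :=
    HasRingHomProperty.appLE (P := @FormallyUnramified) f inferInstance ⟨U, hU⟩ ⟨V, hV⟩ e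
  algebraize [(f.appLE U V e).hom]
  rw [← RingHom.algebraMap_toAlgebra (f.appLE U V e).hom, RingHom.quasiFinite_algebraMap]
  infer_instance

/-- étale morphisms are locally quasi-finite. -/
theorem locallyQuasiFinite_of_etale {X Y : Scheme.{u}} (f : X ⟶ Y) [Etale f] :
    LocallyQuasiFinite f :=
  locallyQuasiFinite_of_formallyUnramified f

/-- étale morphisms of schemes preserve the dimension of local rings (no Noetherian hypothesis). -/
theorem ringKrullDim_stalk_eq_of_etale {W U : Scheme.{u}} (g : W ⟶ U) [Etale g] (w : W) :
    ringKrullDim (W.presheaf.stalk w) = ringKrullDim (U.presheaf.stalk (g w)) := by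
  have := locallyQuasiFinite_of_etale g
  exact le_antisymm (ringKrullDim_stalk_le_of_locallyQuasiFinite g w)
    (ringKrullDim_stalk_le_of_flat g w)

/-- the Krull dimension of a scheme is the supremum of the dimensions of its local rings. -/
theorem topologicalKrullDim_eq_iSup_stalk (X : Scheme.{u}) :
    topologicalKrullDim X = ⨆ x : X, ringKrullDim (X.presheaf.stalk x) := by
  have h1 : topologicalKrullDim X = Order.krullDim X := by
    letI := specializationOrder X
    exact Order.krullDim_eq_of_orderIso (irreducibleSetEquivPoints (α := X))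
  rw [h1, Order.krullDim_eq_iSup_coheight]
  congr 1
  funext x
  rw [ringKrullDim_stalk_eq_coheight]

/-- the Krull dimension of an open subset of a scheme is the supremum of the dimensions of the
local rings at its points. -/
theorem topologicalKrullDim_opens_eq_iSup_stalk {X : Scheme.{u}} (V : X.Opens) :
    topologicalKrullDim ((V : Set X)) = ⨆ x : (V : Set X), ringKrullDim (X.presheaf.stalk x.1) := by
  have h := topologicalKrullDim_eq_iSup_stalk V.toScheme
  change topologicalKrullDim ((V : Set X)) = _ at h
  rw [h]
  congr 1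
  funext x
  exact ringKrullDim_stalk_eq_of_etale V.ι x

/-- étale morphisms do not raise the Krull dimension. -/
theorem topologicalKrullDim_le_of_etale {W U : Scheme.{u}} (g : W ⟶ U) [Etale g] :
    topologicalKrullDim W ≤ topologicalKrullDim U := by
  rw [topologicalKrullDim_eq_iSup_stalk, topologicalKrullDim_eq_iSup_stalk]
  refine iSup_le fun w => ?_
  rw [ringKrullDim_stalk_eq_of_etale g w]
  exact le_iSup (fun x : U => ringKrullDim (U.presheaf.stalk x)) (g w)

/-- locally quasi-finite morphisms do not raise the Krull dimension. -/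
theorem topologicalKrullDim_le_of_locallyQuasiFinite {W U : Scheme.{u}} (g : W ⟶ U)
    [LocallyQuasiFinite g] : topologicalKrullDim W ≤ topologicalKrullDim U := by
  rw [topologicalKrullDim_eq_iSup_stalk, topologicalKrullDim_eq_iSup_stalk]
  refine iSup_le fun w => ?_
  exact (ringKrullDim_stalk_le_of_locallyQuasiFinite g w).trans
    (le_iSup (fun x : U => ringKrullDim (U.presheaf.stalk x)) (g w))

/-- flat surjective morphisms do not lower the Krull dimension. -/
theorem topologicalKrullDim_le_of_flat_of_surjective {W U : Scheme.{u}} (g : W ⟶ U) [Flat g]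
    [Surjective g] : topologicalKrullDim U ≤ topologicalKrullDim W := by
  rw [topologicalKrullDim_eq_iSup_stalk, topologicalKrullDim_eq_iSup_stalk]
  refine iSup_le fun x => ?_
  obtain ⟨w, rfl⟩ := g.surjective x
  exact (ringKrullDim_stalk_le_of_flat g w).trans
    (le_iSup (fun x : W => ringKrullDim (W.presheaf.stalk x)) w)

/-- étale surjective morphisms preserve the Krull dimension. -/
theorem topologicalKrullDim_eq_of_etale_of_surjective {W U : Scheme.{u}} (g : W ⟶ U) [Etale g]
    [Surjective g] : topologicalKrullDim W = topologicalKrullDim U :=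
  le_antisymm (topologicalKrullDim_le_of_etale g) (topologicalKrullDim_le_of_flat_of_surjective g)

/-- étale morphisms preserve the local dimension at a point. -/
theorem localDim_eq_of_etale {W U : Scheme.{u}} (g : W ⟶ U) [Etale g] (w : W) :
    FlatMor.localDim W w = FlatMor.localDim U (g w) := by
  unfold FlatMor.localDim
  apply le_antisymm
  · refine le_iInf fun U' => ?_
    refine (iInf_le _ (⟨g ⁻¹ᵁ U'.1, U'.2⟩ : {V : TopologicalSpace.Opens W // w ∈ V})).trans ?_
    rw [topologicalKrullDim_opens_eq_iSup_stalk, topologicalKrullDim_opens_eq_iSup_stalk]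
    refine iSup_le fun x => ?_
    rw [ringKrullDim_stalk_eq_of_etale g x.1]
    exact le_iSup (fun y : (U'.1 : Set U) => ringKrullDim (U.presheaf.stalk y.1)) ⟨g x.1, x.2⟩
  · refine le_iInf fun W' => ?_
    have hopen : IsOpen (g '' (W'.1 : Set W)) := g.isOpenMap _ W'.1.isOpen
    refine (iInf_le _ (⟨⟨g '' (W'.1 : Set W), hopen⟩, ⟨w, W'.2, rfl⟩⟩ :
      {V : TopologicalSpace.Opens U // g w ∈ V})).trans ?_
    rw [topologicalKrullDim_opens_eq_iSup_stalk, topologicalKrullDim_opens_eq_iSup_stalk]
    refine iSup_le fun y => ?_
    obtain ⟨y, x, hx, rfl⟩ := y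
    rw [← ringKrullDim_stalk_eq_of_etale g x]
    exact le_iSup (fun y : (W'.1 : Set W) => ringKrullDim (W.presheaf.stalk y.1)) ⟨x, hx⟩

end Groth.Agent.R2.H45.Dim
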