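import Mathlib
import Groth.Agent.Lib.Helper7TopDim

/-!
# helper65: topology of irreducible Noetherian spaces of dimension `≤ 1`, finite fibres of closed maps

* `topologicalKrullDim_le_zero_of_isClosed_ne_univ` (copied from helper62's `R2/H62CurveCoker`, to keep imports light).
* `finite_of_isClosed_ne_univ` : proper closed subsets of an irreducible Noetherian T0 space of dimension `≤ 1` are finite.
* `isClosed_singleton_of_closure_ne_univ` : non-generic points are closed.
* `finite_preimage_singleton` : a continuous closed map `r` from such a space, no fibre of which is everything, has finite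
  fibres.
-/

set_option autoImplicit false
set_option linter.unusedSectionVars false

open TopologicalSpace Order Set

namespace Groth.Agent.R2.H65.CurveTop

open Groth.Agent.Lib.Helper7.TopDim

/-- a proper closed subset of an irreducible space of dimension `≤ 1` has dimension `≤ 0` (helper62) -/
theorem topologicalKrullDim_le_zero_of_isClosed_ne_univ {X : Type*} [TopologicalSpace X]
    [IrreducibleSpace X] (hdim : topologicalKrullDim X ≤ 1) {Z : Set X} (hZ : IsClosed Z)
    (hne : Z ≠ Set.univ) : topologicalKrullDim Z ≤ 0 := by
  unfold topologicalKrullDim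
  unfold Order.krullDim
  refine iSup_le fun p => ?_
  have hind : Topology.IsInducing (Subtype.val : Z → X) := Topology.IsInducing.subtypeVal
  let q₀ : LTSeries (IrreducibleCloseds X) :=
    p.map (IrreducibleCloseds.map Subtype.val hind.continuous)
      (IrreducibleCloseds.map_strictMono_of_isInducing hind)
  let top : IrreducibleCloseds X :=
    { carrier := Set.univ
      isIrreducible' := IrreducibleSpace.isIrreducible_univ X
      isClosed' := isClosed_univ }
  have hlt : q₀.last < top := by
    rw [lt_iff_le_and_ne]
    refine ⟨fun x _ => Set.mem_univ x, fun h => hne ?_⟩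
    have h1 : (q₀.last : Set X) ⊆ Z := by
      change closure (Subtype.val '' (p.last : Set Z)) ⊆ Z
      refine closure_minimal ?_ hZ
      rintro _ ⟨y, -, rfl⟩
      exact y.2
    have h2 : (q₀.last : Set X) = Set.univ :=
      congrArg (fun c : IrreducibleCloseds X => (c : Set X)) h
    rw [h2] at h1
    exact Set.eq_univ_of_univ_subset h1
  let q : LTSeries (IrreducibleCloseds X) := q₀.snoc top hlt
  have hq : (q.length : WithBot ℕ∞) ≤ 1 := (LTSeries.length_le_krullDim q).trans hdim
  have hlen : q.length = p.length + 1 := by simp [q, q₀]
  rw [hlen] at hq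
  have : p.length + 1 ≤ 1 := by exact_mod_cast hq
  have : p.length = 0 := by omega
  rw [this]
  rfl

variable {X : Type*} [TopologicalSpace X] [IrreducibleSpace X] [NoetherianSpace X] [T0Space X]

/-- proper closed subsets of an irreducible Noetherian T0 space of dimension `≤ 1` are finite -/
theorem finite_of_isClosed_ne_univ (hdim : topologicalKrullDim X ≤ 1) {Z : Set X} (hZ : IsClosed Z)
    (hne : Z ≠ Set.univ) : Z.Finite := by
  rcases Z.eq_empty_or_nonempty with rfl | hZne
  · exact Set.finite_empty
  have : Nonempty Z := hZne.to_subtype
  have h0 : topologicalKrullDim Z = 0 :=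
    le_antisymm (topologicalKrullDim_le_zero_of_isClosed_ne_univ hdim hZ hne) topologicalKrullDim_nonneg
  have h1 := (dim_eq_zero_iff_finite_discrete (X := Z)).1 h0
  exact Set.finite_coe_iff.1 h1.1

/-- in an irreducible T0 space of dimension `≤ 1`, non-generic points are closed -/
theorem isClosed_singleton_of_closure_ne_univ (hdim : topologicalKrullDim X ≤ 1) (x : X)
    (hx : closure ({x} : Set X) ≠ Set.univ) : IsClosed ({x} : Set X) := by
  have h0 := topologicalKrullDim_le_zero_of_isClosed_ne_univ hdim (isClosed_closure (s := {x})) hx
  have h1 := isClosed_singleton_of_dim_le_zero h0 (⟨x, subset_closure rfl⟩ : closure ({x} : Set X))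
  have h2 := (isClosed_closure (s := ({x} : Set X))).isClosedMap_subtype_val _ h1
  simpa using h2

/-- a continuous closed map from an irreducible Noetherian T0 space of dimension `≤ 1`, none of whose fibres is the
whole space, has finite fibres -/
theorem finite_preimage_singleton (hdim : topologicalKrullDim X ≤ 1) {Y : Type*} [TopologicalSpace Y]
    (r : X → Y) (hc : Continuous r) (hcl : IsClosedMap r) (hnc : ∀ y, r ⁻¹' {y} ≠ Set.univ) (y : Y) :
    (r ⁻¹' {y}).Finite := by
  by_cases h : ∃ x ∈ r ⁻¹' {y}, closure ({x} : Set X) ≠ Set.univ
  · obtain ⟨x, hxy, hx⟩ := h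
    have h1 : IsClosed ({x} : Set X) := isClosed_singleton_of_closure_ne_univ hdim x hx
    have h2 : IsClosed ({y} : Set Y) := by
      have := hcl _ h1
      rwa [Set.image_singleton, show r x = y from hxy] at this
    exact finite_of_isClosed_ne_univ hdim (h2.preimage hc) (hnc y)
  · push Not at h
    apply Set.Subsingleton.finite
    intro a ha b hb
    have hab : closure ({a} : Set X) = closure {b} := by rw [h a ha, h b hb]
    have : Inseparable a b := inseparable_iff_closure_eq.2 hab
    exact this.eq

end Groth.Agent.R2.H65.CurveTop
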