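import Groth.Agent.R2.H65SecMap2
import Groth.Agent.R2.H65CurveTop
import Groth.Agent.S9705

/-!
# helper65: PROJ:curves-rr, package CR4 (`AffStmt`)

On an integral proper curve `X` over a field `k`: if `s t : O ⟶ N` are two sections of an invertible module without
common zero, and `s` vanishes somewhere but not identically, then `X_s` and `X_t` are affine.

Route: `r = (s : t) : X ⟶ P¹_k` (`H65SecMap2.exists_map`, with `r⁻¹ D₊(T_0) = X_s`, `r⁻¹ D₊(T_1) = X_t` exactly); `r` is
proper and non-constant, hence has finite fibres (`H65CurveTop.finite_preimage_singleton`), hence is finite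
(Mathlib `exists_isFinite_morphismRestrict_of_finite_preimage_singleton`), hence affine.
-/

set_option autoImplicit false
set_option linter.unusedSectionVars false
universe u

open CategoryTheory CategoryTheory.Limits AlgebraicGeometry TopologicalSpace Opposite

namespace Groth.Agent.R2.H65.CurveAff

open Groth.Agent.Lib.Helper23.SecTw Groth.Agent.Lib.Helper6 Groth.Agent.Lib.Helper23.GenLocus
open Groth.Agent.Helper13ProjUP Groth.Agent.R2.H65.PnSegre Groth.Agent.R2.H65.SecMap
open Groth.Agent.R2.H65.CurveTop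

section general

variable {X : Scheme.{u}}

/-- a morphism `O ⟶ N` is the morphism attached to its global section -/
theorem secHom_sv (N : X.Modules) (s : Coh.structureModule X ⟶ N) : secHom N (sv s ⊤) = s := by
  apply N.unitHomEquiv.injective
  unfold secHom
  rw [Equiv.apply_symm_apply]
  ext U
  exact SecTwist.map_val s (homOfLE (le_top : U.unop ≤ ⊤))

/-- sections which locally contain a generator generate (helper91, `R2/H91AmpleEmb`) -/
theorem generatedBy_of_isGen (N : X.Modules) {κ : Type*} (s : κ → ProjUP.Γm N)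
    (h : ∀ x : X, ∃ (i : κ) (W : X.Opens), x ∈ W ∧ IsGen N W (res N le_top (s i))) :
    ProjUP.GeneratedBy N s := by
  intro x
  rw [eq_top_iff]
  intro z _
  obtain ⟨i, W, hxW, hgenW⟩ := h x
  obtain ⟨V, hxV, t, rfl⟩ := N.presheaf.exists_germ_eq z
  have hxV' : x ∈ V ⊓ W := ⟨hxV, hxW⟩
  obtain ⟨c, hc⟩ := (hgenW (V ⊓ W) inf_le_right).2 (res N inf_le_left t)
  have hc' : c • res N (le_top : V ⊓ W ≤ ⊤) (s i) = res N inf_le_left t := by
    rw [← hc, res_res]
  have h1 : N.presheaf.germ V x hxV t = N.presheaf.germ (V ⊓ W) x hxV' (res N inf_le_left t) :=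
    (TopCat.Presheaf.germ_res_apply N.presheaf (homOfLE (inf_le_left : V ⊓ W ≤ V)) x hxV' t).symm
  have h2 : N.presheaf.germ (V ⊓ W) x hxV' (res N (le_top : V ⊓ W ≤ ⊤) (s i)) =
      N.presheaf.germ ⊤ x trivial (s i) :=
    TopCat.Presheaf.germ_res_apply N.presheaf (homOfLE (le_top : V ⊓ W ≤ ⊤)) x hxV' _
  rw [h1, ← hc', Groth.Agent.Lib.Helper2.QCoh.germ_smul, h2]
  exact Submodule.smul_mem _ _ (Submodule.subset_span ⟨i, rfl⟩)

set_option backward.isDefEq.respectTransparency.types false in
/-- a proper morphism with finite fibres is finite -/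
theorem isFinite_of_finite_fibres {Y : Scheme.{u}} (f : X ⟶ Y) [IsProper f]
    (h : ∀ y : Y, (f ⁻¹' {y}).Finite) : IsFinite f := by
  choose V hyV hV using fun y : Y =>
    exists_isFinite_morphismRestrict_of_finite_preimage_singleton f y (h y)
  refine IsZariskiLocalAtTarget.of_iSup_eq_top (P := @IsFinite) V ?_ hV
  rw [eq_top_iff]
  intro y _
  exact Opens.mem_iSup.mpr ⟨y, hyV y⟩

end general

section curve

/-- **CR4** (PROJ:curves-rr): on an irreducible scheme `X` of dimension `≤ 1`, proper over a Noetherian ring `k`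
(e.g. an integral proper curve over a field), let `s t : O ⟶ N` be sections of an invertible module without common
zero, `s` vanishing somewhere but not everywhere.  Then `X_s` and `X_t` are affine. -/
theorem affine_genLocus (k : Type u) [CommRing k] [IsNoetherianRing k] (X : Scheme.{u})
    [X.Over (Spec (CommRingCat.of k))] [IrreducibleSpace X] [IsProper (X ↘ Spec (CommRingCat.of k))]
    (hdim : topologicalKrullDim X ≤ 1) (N : X.Modules) (hN : PicF.IsInvertible N)
    (s t : Coh.structureModule X ⟶ N) (hcov : CohB1.genLocus N s ⊔ CohB1.genLocus N t = ⊤)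
    (hs1 : CohB1.genLocus N s ≠ ⊤) (hs2 : CohB1.genLocus N s ≠ ⊥) :
    IsAffineOpen (CohB1.genLocus N s) ∧ IsAffineOpen (CohB1.genLocus N t) := by
  classical
  -- the two sections
  let σ : Fin (1 + 1) → ProjUP.Γm N := ![sv s ⊤, sv t ⊤]
  have hσ0 : secHom N (σ 0) = s := secHom_sv N s
  have hσ1 : secHom N (σ 1) = t := secHom_sv N t
  have hgen : ProjUP.GeneratedBy N σ := by
    apply generatedBy_of_isGen
    intro x
    have hx : x ∈ CohB1.genLocus N s ⊔ CohB1.genLocus N t := by rw [hcov]; trivial
    rcases hx with hx | hx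
    · refine ⟨0, CohB1.genLocus N s, hx, ?_⟩
      have := isGen_sv_genLocus N s
      rwa [← res_sv s (le_top : CohB1.genLocus N s ≤ ⊤)] at this
    · refine ⟨1, CohB1.genLocus N t, hx, ?_⟩
      have := isGen_sv_genLocus N t
      rwa [← res_sv t (le_top : CohB1.genLocus N t ≤ ⊤)] at this
  obtain ⟨r, hrq, hpre, -, -⟩ := exists_map (X ↘ Spec (CommRingCat.of k)) N σ hN hgen
  have hp0 : r ⁻¹ᵁ D 1 k 0 = CohB1.genLocus N s := by
    rw [hpre 0]; unfold XS; rw [hσ0]
  have hp1 : r ⁻¹ᵁ D 1 k 1 = CohB1.genLocus N t := by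
    rw [hpre 1]; unfold XS; rw [hσ1]
  -- `r` is proper
  have : IsProper r := by
    have h3 := Groth.Agent.S9705.isProper_projSpace_toSpec 1 k
    have h4 : IsProper (r ≫ toBase (CohB1.polyGrading 1 k)) := by
      rw [hrq]; infer_instance
    have h5 : IsSeparated (toBase (CohB1.polyGrading 1 k)) := by
      change IsSeparated (CohB1.ProjSpace.toSpec 1 k)
      infer_instance
    exact IsProper.of_comp r (toBase (CohB1.polyGrading 1 k))
  -- `X` is a Noetherian space
  have : IsLocallyNoetherian X :=
    LocallyOfFiniteType.isLocallyNoetherian (X ↘ Spec (CommRingCat.of k))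
  have : CompactSpace X := QuasiCompact.compactSpace_of_compactSpace (X ↘ Spec (CommRingCat.of k))
  have : IsNoetherian X := ⟨⟩
  -- no fibre is everything
  have hnc : ∀ y, r ⁻¹' {y} ≠ Set.univ := by
    intro y hy
    by_cases hy0 : y ∈ D 1 k 0
    · apply hs1
      rw [← hp0, eq_top_iff]
      intro x _
      have : x ∈ r ⁻¹' {y} := by rw [hy]; trivial
      change r x ∈ D 1 k 0
      rw [show r x = y from this]
      exact hy0
    · apply hs2
      rw [← hp0, eq_bot_iff]
      intro x hx
      have : x ∈ r ⁻¹' {y} := by rw [hy]; trivial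
      change r x ∈ D 1 k 0 at hx
      rw [show r x = y from this] at hx
      exact (hy0 hx).elim
  have : IsFinite r := isFinite_of_finite_fibres r
    (finite_preimage_singleton hdim r r.continuous r.isClosedMap hnc)
  exact ⟨hp0 ▸ (isAffineOpen_D 1 k 0).preimage r, hp1 ▸ (isAffineOpen_D 1 k 1).preimage r⟩

/-- the `AffStmt` shape of helper20's `R2/H20CurveSpec` (integral proper curve over a field) -/
theorem affStmt (k : Type u) [Field k] (X : Scheme.{u}) [X.Over (Spec (CommRingCat.of k))] [IsIntegral X]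
    [IsProper (X ↘ Spec (CommRingCat.of k))] :
    topologicalKrullDim X = 1 →
    ∀ (N : X.Modules), PicF.IsInvertible N → ∀ s t : Coh.structureModule X ⟶ N,
      CohB1.genLocus N s ⊔ CohB1.genLocus N t = ⊤ → CohB1.genLocus N s ≠ ⊤ →
        CohB1.genLocus N s ≠ ⊥ →
        IsAffineOpen (CohB1.genLocus N s) ∧ IsAffineOpen (CohB1.genLocus N t) :=
  fun hdim N hN s t hcov hs1 hs2 => affine_genLocus k X hdim.le N hN s t hcov hs1 hs2

end curve

end Groth.Agent.R2.H65.CurveAff
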