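import Mathlib
import Groth.Agent.R2.H20CurveDeg
import Groth.Agent.R2.H98CurveGen
import Groth.Agent.R2.H65CurveAff
import Groth.Agent.R2.H87YBlowUp
import Groth.Agent.R2.H45Dim
import Groth.Agent.Lib.Helper23SecTw9
import Groth.Agent.Lib.Helper23AmpleIso
import Groth.Agent.Lib.Helper27PnSections

/-!
# Ampleness ⇔ positive degree on proper integral curves (helper20; PROJ:curves-rr CR6)

Against `HFin k X`:

* `isAmple_of_deg_pos` : `deg L > 0 ⇒ L` ample (sections of `L^m` by Riemann–Roch, CR5 (helper98) for a second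
  section, CR4 (helper65) for affineness of the two non-vanishing loci);
* `deg_pos_of_isAmple` : `L` ample `⇒ deg L > 0` (`X` is not affine);
* `isAmple_iff_deg_pos`.
-/

set_option autoImplicit false
set_option linter.style.haveILetI false
universe u
open CategoryTheory CategoryTheory.Limits AlgebraicGeometry TopologicalSpace Opposite

namespace Groth.Agent.R2.H20.CurveAmple

open Groth.Agent.R2.H62.CurveCore Groth.Agent.R2.H62.CohLES Groth.Agent.R2.H62.CurveInv
open Groth.Agent.R2.H20.LocFreeRank Groth.Agent.R2.H20.CurveDeg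
open Groth.Agent.Lib.Helper23.SecTw Groth.Agent.Lib.Helper23.GenLocus Groth.Agent.Lib.Helper23.AmpleIso

section general

variable {X : Scheme.{u}}

/-- a nonzero class in `H^0` gives a nonzero morphism `O ⟶ M` -/
theorem exists_hom_ne_zero_of_nontrivial (M : X.Modules) (h : Nontrivial (Coh.HH X M 0)) :
    ∃ s : Coh.structureModule X ⟶ M, s ≠ 0 := by
  obtain ⟨x, hx⟩ := exists_ne (0 : Coh.HH X M 0)
  let e := Groth.Agent.Lib.Helper27PnSections.hh0Equiv X M
  let σ : Γ(M, ⊤) := e x
  have hσ : σ ≠ 0 := fun h0 => hx (e.injective (h0.trans (map_zero e).symm))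
  refine ⟨secHom M σ, fun hs => hσ ?_⟩
  have h1 := sv_secHom M σ ⊤
  rw [hs, sv_zero, res_self] at h1
  exact h1.symm

end general

variable {k : Type u} [Field k] {X : Scheme.{u}} [X.Over (Spec (CommRingCat.of k))]
  [IsIntegral X] [IsProper (X ↘ Spec (CommRingCat.of k))]

omit [IsIntegral X] in
/-- a proper scheme of dimension one over a field is not affine -/
theorem not_isAffine (k : Type u) [Field k] (X : Scheme.{u}) [X.Over (Spec (CommRingCat.of k))]
    [IsProper (X ↘ Spec (CommRingCat.of k))] (hdim : topologicalKrullDim X = 1) : ¬ IsAffine X := by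
  intro hX
  haveI : IsAffineHom (X ↘ Spec (CommRingCat.of k)) := inferInstance
  haveI : IsFinite (X ↘ Spec (CommRingCat.of k)) :=
    IsFinite.iff_isProper_and_isAffineHom.2 ⟨inferInstance, inferInstance⟩
  have h1 := Groth.Agent.R2.H45.Dim.topologicalKrullDim_le_of_locallyQuasiFinite
    (X ↘ Spec (CommRingCat.of k))
  have h2 : topologicalKrullDim (Spec (CommRingCat.of k)) = 0 := by
    change topologicalKrullDim (PrimeSpectrum k) = 0
    rw [PrimeSpectrum.topologicalKrullDim_eq_ringKrullDim, ringKrullDim_eq_zero_of_field]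
  rw [hdim, h2] at h1
  exact absurd h1 (by decide)

/-- `χ(L^m) = m deg L + χ(O)` -/
theorem euler_tensorPow (hdim : topologicalKrullDim X ≤ 1) (hfin : HFin k X) {L : X.Modules}
    (hL : PicF.IsInvertible L) (m : ℕ) :
    Curv2.euler k X (CohB1.tensorPow L m) =
      m * Curv2.deg k X L 1 + Curv2.euler k X (Coh.structureModule X) := by
  have h := deg_tensorPow hdim hfin hL m
  unfold Curv2.deg at h ⊢
  push_cast at h ⊢
  linarith

/-- **CR6 (⇐)**: positive degree implies ample. -/
theorem isAmple_of_deg_pos (hdim : topologicalKrullDim X ≤ 1) (hfin : HFin k X) {L : X.Modules}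
    (hL : PicF.IsInvertible L) (hdeg : 0 < Curv2.deg k X L 1) : CohB1.IsAmple L := by
  haveI := compactSpace_of_isProper k X
  -- a nonzero section of a positive power
  set χ₀ := Curv2.euler k X (Coh.structureModule X) with hχ₀
  obtain ⟨m', hm'⟩ : ∃ m' : ℕ, 1 - χ₀ ≤ (m' : ℤ) := ⟨(1 - χ₀).toNat, Int.self_le_toNat _⟩
  obtain ⟨m, hm⟩ : ∃ m : ℕ, m = m' + 1 := ⟨_, rfl⟩
  have hmz : (m : ℤ) = m' + 1 := by rw [hm]; push_cast; ring
  have hP : PicF.IsInvertible (CohB1.tensorPow L m) := isInvertible_tensorPow hL m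
  have hχ : 0 < Curv2.euler k X (CohB1.tensorPow L m) := by
    rw [euler_tensorPow hdim hfin hL m]
    have h1 : (m : ℤ) ≤ m * Curv2.deg k X L 1 := by
      have : (0 : ℤ) ≤ m := Int.natCast_nonneg _
      nlinarith
    linarith
  have hh0 : 0 < Module.finrank k (Coh.HH X (CohB1.tensorPow L m) 0) := by
    have := finrank_HH_zero_ge (k := k) hdim (CohB1.tensorPow L m) (isCoh_of_isInvertible hP).1
    have h3 : (0 : ℤ) < Module.finrank k (Coh.HH X (CohB1.tensorPow L m) 0) := lt_of_lt_of_le hχ this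
    exact_mod_cast h3
  haveI : Module.Finite k (Coh.HH X (CohB1.tensorPow L m) 0) := hfin _ (isCoh_of_isInvertible hP) 0
  have hnt : Nontrivial (Coh.HH X (CohB1.tensorPow L m) 0) := Module.finrank_pos_iff.1 hh0
  obtain ⟨s, hs⟩ := exists_hom_ne_zero_of_nontrivial _ hnt
  -- `X_s` is neither empty nor everything
  have hs2 : CohB1.genLocus (CohB1.tensorPow L m) s ≠ ⊥ :=
    Groth.Agent.R2.H98.CurveGen.genLocus_ne_bot hP s hs
  have hdegm : 0 < Curv2.deg k X (CohB1.tensorPow L m) 1 := by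
    rw [deg_tensorPow hdim hfin hL m]
    have : (0 : ℤ) < m := by
      have : (0 : ℤ) ≤ m' := Int.natCast_nonneg _
      linarith
    positivity
  have hs1 : CohB1.genLocus (CohB1.tensorPow L m) s ≠ ⊤ := by
    intro htop
    haveI : IsIso s := (Groth.Agent.R2.H87.YBlowUp.genLocus_eq_top_iff _ s).1 htop
    have h4 := euler_congr (k := k) (asIso s)
    unfold Curv2.deg at hdegm
    rw [← h4] at hdegm
    simp at hdegm
  -- a second section (CR5)
  obtain ⟨j, t, hcov⟩ := Groth.Agent.R2.H98.CurveGen.genStmt hdim hfin hP s hs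
  have hNinv : PicF.IsInvertible (CohB1.tensorPow (CohB1.tensorPow L m) (j + 1)) :=
    isInvertible_tensorPow hP (j + 1)
  let σ₁ : Coh.structureModule X ⟶ CohB1.tensorPow (CohB1.tensorPow L m) (j + 1) :=
    SecTwist.powHom s (j + 1)
  have hσ₁ : CohB1.genLocus _ σ₁ = CohB1.genLocus (CohB1.tensorPow L m) s :=
    genLocus_powHom hP s (j + 1) (Nat.succ_pos j)
  -- affineness (CR4)
  have haff := Groth.Agent.R2.H65.CurveAff.affine_genLocus k X hdim _ hNinv σ₁ t
    (by rw [hσ₁]; exact hcov) (by rw [hσ₁]; exact hs1) (by rw [hσ₁]; exact hs2)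
  -- transport to a power of `L`
  obtain ⟨Φ⟩ := nonempty_tensorPow_tensorPow_iso L hL m (j + 1) ((m' * j + m' + j) + 1)
    (by rw [hm]; ring)
  refine ⟨hL, inferInstance, fun x => ?_⟩
  have hx : x ∈ CohB1.genLocus _ σ₁ ⊔ CohB1.genLocus _ t := by
    rw [hσ₁, hcov]; trivial
  rcases (Opens.mem_sup.1 hx) with h | h
  · refine ⟨m' * j + m' + j, σ₁ ≫ Φ.hom, ?_, ?_⟩
    · rw [genLocus_comp_iso]; exact h
    · rw [genLocus_comp_iso]; exact haff.1
  · refine ⟨m' * j + m' + j, t ≫ Φ.hom, ?_, ?_⟩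
    · rw [genLocus_comp_iso]; exact h
    · rw [genLocus_comp_iso]; exact haff.2

/-- **CR6 (⇒)**: ample implies positive degree. -/
theorem deg_pos_of_isAmple (hdim : topologicalKrullDim X = 1) (hfin : HFin k X) {L : X.Modules}
    (hL : PicF.IsInvertible L) (ha : CohB1.IsAmple L) : 0 < Curv2.deg k X L 1 := by
  obtain ⟨x⟩ : Nonempty X := inferInstance
  obtain ⟨n, s, hxs, haff⟩ := ha.2.2 x
  have hP : PicF.IsInvertible (CohB1.tensorPow L (n + 1)) := isInvertible_tensorPow hL (n + 1)
  have hs : s ≠ 0 := by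
    rintro rfl
    rw [genLocus_zero _ hP] at hxs
    exact hxs
  have hne : CohB1.genLocus (CohB1.tensorPow L (n + 1)) s ≠ ⊤ := by
    intro htop
    rw [htop] at haff
    haveI : IsAffine (↑(⊤ : X.Opens) : Scheme.{u}) := haff
    exact not_isAffine k X hdim (.of_isIso (X.topIso.inv))
  obtain ⟨y, hy⟩ : ∃ y : X, y ∉ CohB1.genLocus (CohB1.tensorPow L (n + 1)) s := by
    by_contra hall
    push Not at hall
    exact hne (eq_top_iff.2 fun y _ => hall y)
  have hpos := deg_pos_of_notMem_genLocus (le_of_eq hdim) hfin hP s hs y hy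
  rw [deg_tensorPow (le_of_eq hdim) hfin hL (n + 1)] at hpos
  have hn : (0 : ℤ) < ((n + 1 : ℕ) : ℤ) := by positivity
  by_contra hcon
  push Not at hcon
  have : ((n + 1 : ℕ) : ℤ) * Curv2.deg k X L 1 ≤ 0 := mul_nonpos_of_nonneg_of_nonpos (le_of_lt hn) hcon
  linarith

theorem isAmple_iff_deg_pos (hdim : topologicalKrullDim X = 1) (hfin : HFin k X) {L : X.Modules}
    (hL : PicF.IsInvertible L) : CohB1.IsAmple L ↔ 0 < Curv2.deg k X L 1 :=
  ⟨deg_pos_of_isAmple hdim hfin hL, isAmple_of_deg_pos (le_of_eq hdim) hfin hL⟩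

end Groth.Agent.R2.H20.CurveAmple
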