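import Mathlib

/-!
# Numerical polynomial functions `ℕ^r → ℤ` (helper62, PROJ:snapper)

`IsNumPolyLT r d f`: the function `f : (Fin r → ℕ) → ℤ` is the restriction of a polynomial with rational
coefficients all of whose monomials have total degree `< d`.  Closure properties: `0`, `+`, `-`, monotone in
`d`, adding a dummy last variable (`lift`), and the key summation lemma `sum_last`:
`(n', N) ↦ ∑_{j < N} g(n', j)` has degree `< d + 1` if `g` has degree `< d`  (Faulhaber, `sum_range_pow`).
-/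

set_option autoImplicit false
open Finset MvPolynomial

namespace Groth.Agent.R2.H62.Snapper

/-- all monomials of `P` have total degree `< d` -/
def DegLT {σ : Type*} (P : MvPolynomial σ ℚ) (d : ℕ) : Prop :=
  ∀ m ∈ P.support, (m.sum fun _ e => e) < d

theorem degLT_zero {σ : Type*} (d : ℕ) : DegLT (0 : MvPolynomial σ ℚ) d := by
  intro m hm; simp at hm

theorem DegLT.mono {σ : Type*} {P : MvPolynomial σ ℚ} {d d' : ℕ} (h : DegLT P d) (hd : d ≤ d') :
    DegLT P d' := fun m hm => lt_of_lt_of_le (h m hm) hd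

theorem DegLT.add {σ : Type*} {P Q : MvPolynomial σ ℚ} {d : ℕ} (hP : DegLT P d) (hQ : DegLT Q d) :
    DegLT (P + Q) d := by
  classical
  intro m hm
  rcases Finset.mem_union.1 (MvPolynomial.support_add hm) with h | h
  · exact hP m h
  · exact hQ m h

theorem DegLT.neg {σ : Type*} {P : MvPolynomial σ ℚ} {d : ℕ} (hP : DegLT P d) : DegLT (-P) d := by
  intro m hm
  rw [MvPolynomial.support_neg] at hm
  exact hP m hm

theorem DegLT.sub {σ : Type*} {P Q : MvPolynomial σ ℚ} {d : ℕ} (hP : DegLT P d) (hQ : DegLT Q d) :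
    DegLT (P - Q) d := by
  rw [sub_eq_add_neg]; exact hP.add hQ.neg

theorem degLT_sum {σ ι : Type*} (s : Finset ι) (F : ι → MvPolynomial σ ℚ) (d : ℕ)
    (h : ∀ i ∈ s, DegLT (F i) d) : DegLT (∑ i ∈ s, F i) d := by
  classical
  induction s using Finset.induction_on with
  | empty => simpa using degLT_zero d
  | insert a s ha ih =>
    rw [Finset.sum_insert ha]
    exact (h a (Finset.mem_insert_self a s)).add
      (ih fun i hi => h i (Finset.mem_insert_of_mem hi))

theorem degLT_monomial {σ : Type*} (m : σ →₀ ℕ) (c : ℚ) (d : ℕ) (h : (m.sum fun _ e => e) < d) :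
    DegLT (monomial m c) d := by
  classical
  intro m' hm'
  have := MvPolynomial.support_monomial_subset hm'
  rw [Finset.mem_singleton] at this
  rw [this]; exact h

theorem DegLT.totalDegree_le {σ : Type*} {P : MvPolynomial σ ℚ} {d : ℕ} (h : DegLT P (d + 1)) :
    P.totalDegree ≤ d := by
  unfold MvPolynomial.totalDegree
  exact Finset.sup_le fun m hm => Nat.lt_succ_iff.1 (h m hm)

/-- `f` is a numerical polynomial function all of whose monomials have degree `< d`. -/
def IsNumPolyLT (r d : ℕ) (f : (Fin r → ℕ) → ℤ) : Prop :=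
  ∃ P : MvPolynomial (Fin r) ℚ, DegLT P d ∧
    ∀ n : Fin r → ℕ, (f n : ℚ) = MvPolynomial.eval (fun i => (n i : ℚ)) P

theorem isNumPolyLT_zero (r d : ℕ) : IsNumPolyLT r d (fun _ => 0) :=
  ⟨0, degLT_zero d, fun n => by simp⟩

theorem IsNumPolyLT.mono {r d d' : ℕ} {f : (Fin r → ℕ) → ℤ} (h : IsNumPolyLT r d f) (hd : d ≤ d') :
    IsNumPolyLT r d' f := by
  obtain ⟨P, hP, he⟩ := h
  exact ⟨P, hP.mono hd, he⟩

theorem IsNumPolyLT.add {r d : ℕ} {f g : (Fin r → ℕ) → ℤ} (hf : IsNumPolyLT r d f)
    (hg : IsNumPolyLT r d g) : IsNumPolyLT r d (fun n => f n + g n) := by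
  obtain ⟨P, hP, he⟩ := hf
  obtain ⟨Q, hQ, he'⟩ := hg
  refine ⟨P + Q, hP.add hQ, fun n => ?_⟩
  rw [map_add, ← he, ← he']; push_cast; rfl

theorem IsNumPolyLT.sub {r d : ℕ} {f g : (Fin r → ℕ) → ℤ} (hf : IsNumPolyLT r d f)
    (hg : IsNumPolyLT r d g) : IsNumPolyLT r d (fun n => f n - g n) := by
  obtain ⟨P, hP, he⟩ := hf
  obtain ⟨Q, hQ, he'⟩ := hg
  refine ⟨P - Q, hP.sub hQ, fun n => ?_⟩
  rw [map_sub, ← he, ← he']; push_cast; rfl

theorem IsNumPolyLT.congr {r d : ℕ} {f g : (Fin r → ℕ) → ℤ} (hf : IsNumPolyLT r d f)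
    (h : ∀ n, f n = g n) : IsNumPolyLT r d g := by
  have : f = g := funext h
  rwa [← this]

theorem isNumPolyLT_const (r : ℕ) (c : ℤ) : IsNumPolyLT r 1 (fun _ => c) := by
  refine ⟨MvPolynomial.C (c : ℚ), ?_, fun n => by simp⟩
  have : (MvPolynomial.C (c : ℚ) : MvPolynomial (Fin r) ℚ) = monomial 0 (c : ℚ) := rfl
  rw [this]
  exact degLT_monomial 0 _ 1 (by simp)

/-- add a dummy last variable -/
theorem IsNumPolyLT.lift {r d : ℕ} {h : (Fin r → ℕ) → ℤ} (hh : IsNumPolyLT r d h) :
    IsNumPolyLT (r + 1) d (fun n => h fun i => n i.castSucc) := by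
  classical
  obtain ⟨P, hP, he⟩ := hh
  refine ⟨MvPolynomial.rename Fin.castSucc P, ?_, fun n => ?_⟩
  · intro m hm
    rw [MvPolynomial.support_rename_of_injective (Fin.castSucc_injective r)] at hm
    obtain ⟨m', hm', rfl⟩ := Finset.mem_image.1 hm
    rw [Finsupp.sum_mapDomain_index (fun _ => rfl) (fun _ _ _ => rfl)]
    exact hP m' hm'
  · rw [MvPolynomial.eval_rename, he]
    rfl


section Sum

variable {r : ℕ}

theorem prod_split (m : Fin (r + 1) →₀ ℕ) (g : Fin (r + 1) → ℚ) :
    (m.prod fun i e => g i ^ e) =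
      ((m.erase (Fin.last r)).prod fun i e => g i ^ e) * g (Fin.last r) ^ m (Fin.last r) := by
  rw [mul_comm]
  exact (Finsupp.mul_prod_erase' m (Fin.last r) (fun i e => g i ^ e) (fun i => pow_zero _)).symm

theorem prod_erase_update (m : Fin (r + 1) →₀ ℕ) (n : Fin (r + 1) → ℕ) (j : ℕ) :
    ((m.erase (Fin.last r)).prod fun i e => ((Function.update n (Fin.last r) j i : ℕ) : ℚ) ^ e) =
      (m.erase (Fin.last r)).prod fun i e => ((n i : ℕ) : ℚ) ^ e := by
  refine Finsupp.prod_congr fun x hx => ?_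
  rw [Finsupp.support_erase, Finset.mem_erase] at hx
  rw [Function.update_of_ne hx.1]

theorem eval_monomial_update (m : Fin (r + 1) →₀ ℕ) (c : ℚ) (n : Fin (r + 1) → ℕ) (j : ℕ) :
    MvPolynomial.eval (fun i => ((Function.update n (Fin.last r) j i : ℕ) : ℚ)) (monomial m c) =
      c * ((m.erase (Fin.last r)).prod fun i e => ((n i : ℕ) : ℚ) ^ e) * (j : ℚ) ^ m (Fin.last r) := by
  rw [MvPolynomial.eval_monomial, prod_split, prod_erase_update, Function.update_self, mul_assoc]

/-- the antidifference (in the last variable) of a monomial -/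
noncomputable def sumMonomial (m : Fin (r + 1) →₀ ℕ) (c : ℚ) : MvPolynomial (Fin (r + 1)) ℚ :=
  ∑ i ∈ range (m (Fin.last r) + 1),
    monomial (m.erase (Fin.last r) + Finsupp.single (Fin.last r) (m (Fin.last r) + 1 - i))
      (c * (bernoulli i * ((m (Fin.last r) + 1).choose i) / ((m (Fin.last r) : ℚ) + 1)))

theorem sum_erase_add (m : Fin (r + 1) →₀ ℕ) :
    ((m.erase (Fin.last r)).sum fun _ e => e) + m (Fin.last r) = m.sum fun _ e => e := by
  rw [add_comm]
  exact Finsupp.add_sum_erase' m (Fin.last r) (fun _ e => e) (fun _ => rfl)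

theorem degLT_sumMonomial (m : Fin (r + 1) →₀ ℕ) (c : ℚ) (d : ℕ) (h : (m.sum fun _ e => e) < d) :
    DegLT (sumMonomial m c) (d + 1) := by
  refine degLT_sum _ _ _ fun i _ => degLT_monomial _ _ _ ?_
  rw [Finsupp.sum_add_index' (fun _ => rfl) (fun _ _ _ => rfl),
    Finsupp.sum_single_index rfl]
  have := sum_erase_add m
  omega

theorem eval_sumMonomial (m : Fin (r + 1) →₀ ℕ) (c : ℚ) (n : Fin (r + 1) → ℕ) :
    MvPolynomial.eval (fun i => ((n i : ℕ) : ℚ)) (sumMonomial m c) =
      ∑ j ∈ range (n (Fin.last r)),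
        MvPolynomial.eval (fun i => ((Function.update n (Fin.last r) j i : ℕ) : ℚ)) (monomial m c) := by
  simp only [eval_monomial_update]
  rw [← Finset.mul_sum, sum_range_pow, Finset.mul_sum]
  unfold sumMonomial
  rw [map_sum]
  refine Finset.sum_congr rfl fun i _ => ?_
  rw [MvPolynomial.eval_monomial, prod_split]
  have h1 : ((m.erase (Fin.last r) + Finsupp.single (Fin.last r) (m (Fin.last r) + 1 - i)).erase
      (Fin.last r)) = m.erase (Fin.last r) := by
    ext x
    by_cases hx : x = Fin.last r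
    · subst hx; simp
    · simp [Finsupp.erase_ne hx, Finsupp.single_eq_of_ne hx]
  have h2 : (m.erase (Fin.last r) + Finsupp.single (Fin.last r) (m (Fin.last r) + 1 - i))
      (Fin.last r) = m (Fin.last r) + 1 - i := by simp
  rw [h1, h2]
  ring

/-- **Summation lemma**: partial sums in the last variable raise the degree by at most one. -/
theorem IsNumPolyLT.sum_last {d : ℕ} {g : (Fin (r + 1) → ℕ) → ℤ} (hg : IsNumPolyLT (r + 1) d g) :
    IsNumPolyLT (r + 1) (d + 1)
      (fun n => ∑ j ∈ range (n (Fin.last r)), g (Function.update n (Fin.last r) j)) := by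
  classical
  obtain ⟨P, hP, he⟩ := hg
  refine ⟨∑ m ∈ P.support, sumMonomial m (MvPolynomial.coeff m P), ?_, fun n => ?_⟩
  · exact degLT_sum _ _ _ fun m hm => degLT_sumMonomial m _ d (hP m hm)
  · rw [Int.cast_sum, map_sum (MvPolynomial.eval fun i => ((n i : ℕ) : ℚ))]
    simp only [eval_sumMonomial]
    rw [Finset.sum_comm]
    refine Finset.sum_congr rfl fun j _ => ?_
    rw [he, ← map_sum, ← MvPolynomial.as_sum]


theorem snoc_castSucc_eq_update (n : Fin (r + 1) → ℕ) (a : ℕ) :
    (Fin.snoc (fun i : Fin r => n i.castSucc) a : Fin (r + 1) → ℕ) =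
      Function.update n (Fin.last r) a := by
  funext x
  refine Fin.lastCases ?_ (fun i => ?_) x
  · simp
  · rw [Fin.snoc_castSucc, Function.update_of_ne (Fin.castSucc_lt_last i).ne]

/-- **Integration lemma**: a function whose restriction to `n_last = 0` has degree `< d + 1` and whose
difference in the last variable has degree `< d` has degree `< d + 1`. -/
theorem isNumPolyLT_of_diff {d : ℕ} (f : (Fin (r + 1) → ℕ) → ℤ)
    (h0 : IsNumPolyLT r (d + 1) (fun n' => f (Fin.snoc n' 0)))
    (hΔ : IsNumPolyLT (r + 1) d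
      (fun n => f (Function.update n (Fin.last r) (n (Fin.last r) + 1)) - f n)) :
    IsNumPolyLT (r + 1) (d + 1) f := by
  have h1 := h0.lift
  have h2 := hΔ.sum_last
  refine (h1.add h2).congr fun n => ?_
  simp only [Function.update_idem, Function.update_self]
  rw [Finset.sum_range_sub (fun j => f (Function.update n (Fin.last r) j)),
    snoc_castSucc_eq_update, Function.update_eq_self]
  ring

end Sum

end Groth.Agent.R2.H62.Snapper
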