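import Mathlib
import Groth.Agent.R2.H62SnapAlg

/-!
# The coefficient of `x_1 ⋯ x_d` of a polynomial of degree `≤ d` in `d` variables (helper62, PROJ:snapper)

`coeff_ones_eq_sum`: for `P : MvPolynomial (Fin d) ℚ` all of whose monomials have degree `≤ d`, the coefficient of
`x_0 ⋯ x_{d-1}` is the alternating sum `Σ_U (-1)^{|U|} P(1_{Uᶜ})` over the subsets `U` of `Fin d`; in particular it is an
integer when `P` takes integer values on `ℕ^d` (`coeff_ones_isInt`).  Also uniqueness of a polynomial with given values on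
`ℕ^r` (`eq_of_eval_nat_eq`).
-/

set_option autoImplicit false
open MvPolynomial Finset

namespace Groth.Agent.R2.H62.Snapper

variable {σ : Type*} [Fintype σ] [DecidableEq σ]

/-- the indicator of the complement of `U`, with values in `ℕ` -/
def indCompl (U : Finset σ) : σ → ℕ := fun i => if i ∈ U then 0 else 1

omit [Fintype σ] in
theorem eval_indCompl_monomial (U : Finset σ) (m : σ →₀ ℕ) (c : ℚ) :
    eval (fun i => ((indCompl U i : ℕ) : ℚ)) (monomial m c) = if Disjoint m.support U then c else 0 := by
  rw [eval_monomial, Finsupp.prod]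
  split_ifs with h
  · rw [Finset.prod_eq_one, mul_one]
    intro i hi
    have : i ∉ U := Finset.disjoint_left.1 h hi
    simp [indCompl, this]
  · rw [Finset.not_disjoint_iff] at h
    obtain ⟨i, hi, hiU⟩ := h
    rw [Finset.prod_eq_zero hi, mul_zero]
    have hne : m i ≠ 0 := Finsupp.mem_support_iff.1 hi
    simp [indCompl, hiU, hne]

theorem sum_neg_one_pow_card_disjoint (T : Finset σ) :
    (∑ U : Finset σ, (-1 : ℚ) ^ U.card * (if Disjoint T U then (1 : ℚ) else 0)) =
      if T = Finset.univ then 1 else 0 := by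
  have h1 : (∑ U : Finset σ, (-1 : ℚ) ^ U.card * (if Disjoint T U then (1 : ℚ) else 0)) =
      ∑ U ∈ (Tᶜ).powerset, (-1 : ℚ) ^ U.card := by
    rw [← Finset.sum_filter_add_sum_filter_not Finset.univ (fun U => Disjoint T U)]
    have h2 : ∑ U ∈ Finset.univ.filter (fun U => ¬ Disjoint T U),
        (-1 : ℚ) ^ U.card * (if Disjoint T U then (1 : ℚ) else 0) = 0 := by
      refine Finset.sum_eq_zero fun U hU => ?_
      rw [Finset.mem_filter] at hU
      rw [if_neg hU.2, mul_zero]
    rw [h2, add_zero]
    have h3 : Finset.univ.filter (fun U => Disjoint T U) = (Tᶜ).powerset := by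
      ext U
      rw [Finset.mem_filter, Finset.mem_powerset]
      constructor
      · rintro ⟨-, h⟩
        exact Finset.subset_compl_iff_disjoint_left.2 h
      · intro h
        exact ⟨Finset.mem_univ _, Finset.subset_compl_iff_disjoint_left.1 h⟩
    rw [h3]
    refine Finset.sum_congr rfl fun U hU => ?_
    rw [Finset.mem_powerset] at hU
    rw [if_pos (Finset.subset_compl_iff_disjoint_left.1 hU), mul_one]
  rw [h1]
  have h4 : (∑ U ∈ (Tᶜ).powerset, (-1 : ℚ) ^ U.card) =
      ((∑ U ∈ (Tᶜ).powerset, (-1 : ℤ) ^ U.card : ℤ) : ℚ) := by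
    push_cast; rfl
  rw [h4, Finset.sum_powerset_neg_one_pow_card]
  by_cases hT : T = Finset.univ
  · subst hT
    simp
  · have : Tᶜ ≠ ∅ := fun h => hT ((Finset.compl_eq_empty_iff T).1 h)
    simp [hT, this]

/-- the alternating sum functional -/
noncomputable def altSum (P : MvPolynomial σ ℚ) : ℚ :=
  ∑ U : Finset σ, (-1 : ℚ) ^ U.card * eval (fun i => ((indCompl U i : ℕ) : ℚ)) P

theorem altSum_monomial (m : σ →₀ ℕ) (c : ℚ) :
    altSum (monomial m c) = if m.support = Finset.univ then c else 0 := by
  unfold altSum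
  simp only [eval_indCompl_monomial]
  have : ∀ U : Finset σ, (-1 : ℚ) ^ U.card * (if Disjoint m.support U then c else 0) =
      c * ((-1 : ℚ) ^ U.card * (if Disjoint m.support U then (1 : ℚ) else 0)) := by
    intro U
    split_ifs <;> ring
  simp only [this]
  rw [← Finset.mul_sum, sum_neg_one_pow_card_disjoint]
  split_ifs <;> simp

theorem altSum_add (P Q : MvPolynomial σ ℚ) : altSum (P + Q) = altSum P + altSum Q := by
  unfold altSum
  simp only [map_add, mul_add, Finset.sum_add_distrib]

theorem altSum_zero : altSum (0 : MvPolynomial σ ℚ) = 0 := by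
  unfold altSum
  simp

theorem altSum_sum {ι : Type*} (s : Finset ι) (F : ι → MvPolynomial σ ℚ) :
    altSum (∑ i ∈ s, F i) = ∑ i ∈ s, altSum (F i) := by
  classical
  induction s using Finset.induction_on with
  | empty => simp [altSum_zero]
  | insert a s ha ih => rw [Finset.sum_insert ha, Finset.sum_insert ha, altSum_add, ih]

/-- a monomial of full support and degree `≤ card σ` is `x_1 ⋯ x_d` -/
theorem eq_ones_of_support_eq_univ (m : σ →₀ ℕ) (hs : m.support = Finset.univ)
    (hd : (m.sum fun _ e => e) ≤ Fintype.card σ) :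
    m = Finsupp.equivFunOnFinite.symm fun _ => 1 := by
  have h1 : ∀ i, 1 ≤ m i := fun i => by
    have : i ∈ m.support := hs ▸ Finset.mem_univ i
    exact Nat.one_le_iff_ne_zero.2 (Finsupp.mem_support_iff.1 this)
  have hsum : (m.sum fun _ e => e) = ∑ i, m i := by
    rw [Finsupp.sum, hs]
  have hcard : (Fintype.card σ) = ∑ _i : σ, 1 := by simp
  have h2 : ∀ i ∈ (Finset.univ : Finset σ), m i = 1 := by
    by_contra hne
    push Not at hne
    obtain ⟨j, -, hj⟩ := hne
    have hlt : ∑ _i : σ, 1 < ∑ i, m i := by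
      refine Finset.sum_lt_sum (fun i _ => h1 i) ⟨j, Finset.mem_univ j, ?_⟩
      exact lt_of_le_of_ne (h1 j) (Ne.symm hj)
    omega
  ext i
  simp [h2 i (Finset.mem_univ i)]

/-- **the coefficient of `x_1 ⋯ x_d`** as an alternating sum of values -/
theorem coeff_ones_eq_altSum (P : MvPolynomial σ ℚ) (hP : DegLT P (Fintype.card σ + 1)) :
    coeff (Finsupp.equivFunOnFinite.symm fun _ : σ => 1) P = altSum P := by
  classical
  conv_rhs => rw [P.as_sum]
  rw [altSum_sum]
  simp only [altSum_monomial]
  set o : σ →₀ ℕ := Finsupp.equivFunOnFinite.symm fun _ : σ => 1 with ho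
  have hterm : ∀ m ∈ P.support, (if m.support = Finset.univ then coeff m P else 0) =
      if m = o then coeff o P else 0 := by
    intro m hm
    by_cases h : m.support = Finset.univ
    · have := eq_ones_of_support_eq_univ m h (Nat.lt_succ_iff.1 (hP m hm))
      rw [if_pos h, if_pos this, this]
    · rw [if_neg h, if_neg]
      intro hmo
      apply h
      rw [hmo, ho]
      ext i
      simp
  rw [Finset.sum_congr rfl hterm, Finset.sum_ite_eq']
  split_ifs with h
  · rfl
  · exact MvPolynomial.notMem_support_iff.1 h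

omit [Fintype σ] [DecidableEq σ] in
/-- two polynomials over `ℚ` agreeing on `ℕ^r` are equal -/
theorem eq_of_eval_nat_eq {P Q : MvPolynomial σ ℚ}
    (h : ∀ n : σ → ℕ, eval (fun i => (n i : ℚ)) P = eval (fun i => (n i : ℚ)) Q) : P = Q := by
  refine MvPolynomial.funext_set (fun _ => Set.range (Nat.cast : ℕ → ℚ))
    (fun _ => Set.infinite_range_of_injective Nat.cast_injective) fun x hx => ?_
  have hx' : ∀ i, ∃ n : ℕ, (n : ℚ) = x i := fun i => hx i (Set.mem_univ i)
  choose n hn using hx'
  have : x = fun i => (n i : ℚ) := funext fun i => (hn i).symm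
  rw [this]
  exact h n

/-- **integrality of the top mixed coefficient** of a polynomial of degree `≤ d` in `d` variables with integer values on
`ℕ^d` -/
theorem coeff_ones_isInt (P : MvPolynomial σ ℚ) (hP : DegLT P (Fintype.card σ + 1))
    (f : (σ → ℕ) → ℤ) (hf : ∀ n : σ → ℕ, (f n : ℚ) = eval (fun i => (n i : ℚ)) P) :
    ∃ z : ℤ, coeff (Finsupp.equivFunOnFinite.symm fun _ : σ => 1) P = (z : ℚ) := by
  refine ⟨∑ U : Finset σ, (-1 : ℤ) ^ U.card * f (indCompl U), ?_⟩
  rw [coeff_ones_eq_altSum P hP]
  unfold altSum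
  push_cast
  refine Finset.sum_congr rfl fun U _ => ?_
  rw [hf]

end Groth.Agent.R2.H62.Snapper
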