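import Mathlib
import Groth.Agent.R2.H62SnapAlg
import Groth.Agent.R2.H62SnapCoeff

/-!
# Alternating sums over subsets (helper62, PROJ:snapper)

`altI r f = Σ_{I ⊆ Fin r} (-1)^{|I|} f(1_I)` for `f : (Fin r → ℕ) → ℤ`:
* `altI_succ`: `altI (r+1) f = altI r (f (cons 0 ·)) - altI r (f (cons 1 ·))`;
* `altI_eq_zero_of_isNumPolyLT`: `altI r f = 0` when `f` is a numerical polynomial all of whose monomials have degree `< r`.
-/

set_option autoImplicit false
open MvPolynomial Finset

namespace Groth.Agent.R2.H62.Snapper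

/-- the indicator of `I` with values in `ℕ` -/
def ind {r : ℕ} (I : Finset (Fin r)) : Fin r → ℕ := fun i => if i ∈ I then 1 else 0

/-- the alternating sum `Σ_I (-1)^{|I|} f(1_I)` -/
def altI (r : ℕ) (f : (Fin r → ℕ) → ℤ) : ℤ := ∑ I : Finset (Fin r), (-1 : ℤ) ^ I.card * f (ind I)

/-- Boolean form -/
def natB {r : ℕ} (ε : Fin r → Bool) : Fin r → ℕ := fun i => if ε i then 1 else 0

def sgnB {r : ℕ} (ε : Fin r → Bool) : ℤ := ∏ i, (if ε i then (-1 : ℤ) else 1)

def altB (r : ℕ) (f : (Fin r → ℕ) → ℤ) : ℤ := ∑ ε : Fin r → Bool, sgnB ε * f (natB ε)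

/-- subsets vs Boolean functions -/
def finsetEquivBool (r : ℕ) : Finset (Fin r) ≃ (Fin r → Bool) where
  toFun I := fun i => decide (i ∈ I)
  invFun ε := Finset.univ.filter fun i => ε i = true
  left_inv I := by ext i; simp
  right_inv ε := by funext i; simp

theorem natB_finsetEquivBool {r : ℕ} (I : Finset (Fin r)) : natB (finsetEquivBool r I) = ind I := by
  funext i
  simp [natB, ind, finsetEquivBool]

theorem sgnB_finsetEquivBool {r : ℕ} (I : Finset (Fin r)) :
    sgnB (finsetEquivBool r I) = (-1 : ℤ) ^ I.card := by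
  unfold sgnB
  have : ∀ i : Fin r, (if finsetEquivBool r I i = true then (-1 : ℤ) else 1) =
      if i ∈ I then (-1 : ℤ) else 1 := by
    intro i
    simp [finsetEquivBool]
  simp only [this]
  rw [Finset.prod_ite_mem, Finset.univ_inter, Finset.prod_const]

theorem altI_eq_altB (r : ℕ) (f : (Fin r → ℕ) → ℤ) : altI r f = altB r f := by
  unfold altI altB
  refine Fintype.sum_equiv (finsetEquivBool r) _ _ fun I => ?_
  rw [natB_finsetEquivBool, sgnB_finsetEquivBool]

theorem natB_cons {r : ℕ} (b : Bool) (ε : Fin r → Bool) :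
    natB (Fin.cons b ε : Fin (r + 1) → Bool) = Fin.cons (if b then 1 else 0) (natB ε) := by
  funext i
  refine Fin.cases ?_ (fun j => ?_) i
  · simp [natB]
  · simp [natB]

theorem sgnB_cons {r : ℕ} (b : Bool) (ε : Fin r → Bool) :
    sgnB (Fin.cons b ε : Fin (r + 1) → Bool) = (if b then (-1 : ℤ) else 1) * sgnB ε := by
  unfold sgnB
  rw [Fin.prod_univ_succ]
  simp

theorem altB_succ (r : ℕ) (f : (Fin (r + 1) → ℕ) → ℤ) :
    altB (r + 1) f = altB r (fun n => f (Fin.cons 0 n)) - altB r (fun n => f (Fin.cons 1 n)) := by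
  unfold altB
  rw [← (Fin.consEquiv fun _ : Fin (r + 1) => Bool).sum_comp, Fintype.sum_prod_type, Fintype.sum_bool]
  change (∑ y : Fin r → Bool, sgnB (Fin.cons true y : Fin (r + 1) → Bool) *
      f (natB (Fin.cons true y : Fin (r + 1) → Bool))) +
    (∑ y : Fin r → Bool, sgnB (Fin.cons false y : Fin (r + 1) → Bool) *
      f (natB (Fin.cons false y : Fin (r + 1) → Bool))) = _
  simp only [sgnB_cons, natB_cons]
  simp only [if_true, neg_one_mul, Bool.false_eq_true, if_false, one_mul]
  simp only [neg_mul, Finset.sum_neg_distrib]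
  ring

theorem altI_succ (r : ℕ) (f : (Fin (r + 1) → ℕ) → ℤ) :
    altI (r + 1) f = altI r (fun n => f (Fin.cons 0 n)) - altI r (fun n => f (Fin.cons 1 n)) := by
  rw [altI_eq_altB, altI_eq_altB, altI_eq_altB, altB_succ]

theorem altI_zero (f : (Fin 0 → ℕ) → ℤ) : altI 0 f = f (fun i => i.elim0) := by
  unfold altI
  rw [Finset.univ_unique, Finset.sum_singleton]
  have : (default : Finset (Fin 0)) = ∅ := Subsingleton.elim _ _
  rw [this, Finset.card_empty, pow_zero, one_mul]
  congr 1
  funext i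
  exact i.elim0

theorem altI_congr {r : ℕ} {f g : (Fin r → ℕ) → ℤ} (h : ∀ n, f n = g n) : altI r f = altI r g := by
  have : f = g := funext h
  rw [this]

theorem altI_sub {r : ℕ} (f g : (Fin r → ℕ) → ℤ) :
    altI r (fun n => f n - g n) = altI r f - altI r g := by
  unfold altI
  rw [← Finset.sum_sub_distrib]
  refine Finset.sum_congr rfl fun I _ => ?_
  ring

theorem altSum_eq_zero_of_degLT {σ : Type*} [Fintype σ] [DecidableEq σ] (P : MvPolynomial σ ℚ)
    (hP : DegLT P (Fintype.card σ)) : altSum P = 0 := by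
  classical
  conv_lhs => rw [P.as_sum]
  rw [altSum_sum]
  refine Finset.sum_eq_zero fun m hm => ?_
  rw [altSum_monomial, if_neg]
  intro hs
  have h1 : ∀ i, 1 ≤ m i := fun i => by
    have : i ∈ m.support := hs ▸ Finset.mem_univ i
    exact Nat.one_le_iff_ne_zero.2 (Finsupp.mem_support_iff.1 this)
  have hsum : (m.sum fun _ e => e) = ∑ i, m i := by
    rw [Finsupp.sum, hs]
  have hlt := hP m hm
  rw [hsum] at hlt
  have hge : Fintype.card σ ≤ ∑ i, m i := by
    calc Fintype.card σ = ∑ _i : σ, 1 := by simp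
      _ ≤ ∑ i, m i := Finset.sum_le_sum fun i _ => h1 i
  omega

theorem ind_compl {r : ℕ} (U : Finset (Fin r)) : ind Uᶜ = indCompl U := by
  funext i
  simp [ind, indCompl]

/-- the alternating sum of a numerical polynomial of degree `< r` in `r` variables vanishes -/
theorem altI_eq_zero_of_isNumPolyLT {r : ℕ} {f : (Fin r → ℕ) → ℤ} (hf : IsNumPolyLT r r f) :
    altI r f = 0 := by
  obtain ⟨P, hP, he⟩ := hf
  have h0 : altSum P = 0 := altSum_eq_zero_of_degLT P (by rw [Fintype.card_fin]; exact hP)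
  have h1 : ((altI r f : ℤ) : ℚ) = (-1 : ℚ) ^ r * altSum P := by
    unfold altI altSum
    push_cast
    rw [Finset.mul_sum]
    refine (Fintype.sum_equiv (Equiv.ofBijective (fun I : Finset (Fin r) => Iᶜ)
      (compl_involutive.bijective)) _ _ fun I => ?_)
    change (-1 : ℚ) ^ I.card * ((f (ind I) : ℤ) : ℚ) = (-1 : ℚ) ^ r * ((-1 : ℚ) ^ (Iᶜ).card *
      eval (fun i => ((indCompl Iᶜ i : ℕ) : ℚ)) P)
    rw [← ind_compl, compl_compl, he (ind I), ← mul_assoc]
    congr 1
    have hc : (Iᶜ).card + I.card = r := by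
      rw [Finset.card_compl, Fintype.card_fin]
      have := Finset.card_le_univ I
      rw [Fintype.card_fin] at this
      omega
    rw [← pow_add]
    have : r + (Iᶜ).card = 2 * (Iᶜ).card + I.card := by omega
    rw [this, pow_add, pow_mul]
    simp
  rw [h0, mul_zero] at h1
  exact_mod_cast h1

end Groth.Agent.R2.H62.Snapper
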