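import Mathlib
import Groth.Prelude.Def_Coh
import Groth.Prelude.Def_CohB1
import Groth.Prelude.Def_Twist2
import Groth.Agent.R2.H54ClosedImm
import Groth.Agent.R2.H58SerreFinPn
import Groth.Agent.Lib.Helper2PullbackSec
import Groth.Agent.R2.H79TwistCalc
import Groth.Agent.R2.H5CohThick
import Groth.Agent.Lib.Helper23FinTypeLocal
import Groth.Agent.S0012
import Groth.Agent.S0019
import Groth.Agent.S0022

/-!
# STEP A of relative Serre vanishing (coh-core, E4+E5; helper54)

For a closed immersion `i : Y ⟶ P^n_B` over a Noetherian ring `B` the modules `i^* O(m)` on `Y` have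
vanishing higher cohomology for `m ≫ 0`:

* `stepA_of`  : against `hSerre` (Serre vanishing on `P^n_B`, the conclusion of helper58's
  `projSpace_serre_vanishing_of`);
* `stepA`     : unconditionally, in helper62's interface shape `Groth.Agent.R2.H62.RelSerreSpec.StepA`
  (file `R2/H54RelSerreA2.lean`, which imports helper58's `H58SerreVanPn` and `S0844`).

Main tool: `pushPullIso : i_* i^* H ≅ (i_* O_Y) ⊗ H` for any `O_P`-module `H`, from the projection formula
`R2/H54ClosedImm.pfApp`; hence `pushPullTwistIso : i_* i^* O(m) ≅ (i_* O_Y)(m)`.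
-/

set_option autoImplicit false
set_option linter.style.haveILetI false
universe u

open CategoryTheory CategoryTheory.Limits AlgebraicGeometry Opposite TopologicalSpace

namespace Groth.Agent.R2.H54.RelSerreA

open Groth.Agent.R2.H54.ClosedImm Groth.Agent.Lib.Helper1.PT Groth.Agent.Lib.Helper1.KBC
  Groth.Agent.Lib.Helper21.ModTensor5

section general

variable {Y P : Scheme.{u}} (i : Y ⟶ P) [IsClosedImmersion i]

/-- `i_* i^* H ≅ (i_* O_Y) ⊗ H` for a closed immersion `i : Y ⟶ P` and any `O_P`-module `H`. -/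
noncomputable def pushPullIso (H : P.Modules) :
    (Coh.push i).obj ((Scheme.Modules.pullback i).obj H) ≅
      CohB1.tensorMod ((Coh.push i).obj (Coh.structureModule Y)) H :=
  ((Coh.push i).mapIso
      ((Groth.Agent.R2.H79.TwistCalc.tensorRightFUnit (X := Y)).app
        ((Scheme.Modules.pullback i).obj H))).symm ≪≫
    (pfApp i (Coh.structureModule Y) H).symm ≪≫
    (((brd P.sheaf).app ((Coh.push i).obj (Coh.structureModule Y))).app H).symm

end general

theorem isCoh_of_iso {X : Scheme.{u}} {M N : X.Modules} (e : M ≅ N) (h : Coh.IsCoh M) :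
    Coh.IsCoh N := by
  have : M.IsQuasicoherent := h.1
  have : SheafOfModules.IsFiniteType (R := X.ringCatSheaf) M := h.2
  exact ⟨Groth.Agent.Lib.Helper23.TensorQCoh.isQuasicoherent_of_iso e,
    Groth.Agent.Lib.Helper23.FinType.isFiniteType_of_iso e⟩

/-- a uniform bound for finitely many eventual properties -/
theorem exists_uniform_bound (Q : ℕ → ℤ → Prop) (h : ∀ p, ∃ d : ℤ, ∀ m, d ≤ m → Q p m) (N : ℕ) :
    ∃ m₀ : ℤ, ∀ p, p < N → ∀ m, m₀ ≤ m → Q p m := by
  induction N with
  | zero => exact ⟨0, fun p hp => absurd hp (Nat.not_lt_zero p)⟩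
  | succ N ih =>
    obtain ⟨m₁, h₁⟩ := ih
    obtain ⟨d, hd⟩ := h N
    refine ⟨max m₁ d, fun p hp m hm => ?_⟩
    rcases Nat.lt_succ_iff_lt_or_eq.1 hp with hlt | rfl
    · exact h₁ p hlt m (le_trans (le_max_left _ _) hm)
    · exact hd m (le_trans (le_max_right _ _) hm)

variable (n : ℕ) (B : Type u) [CommRing B] [IsNoetherianRing B]
  {Y : Scheme.{u}} (i : Y ⟶ CohB1.ProjSpace n B) [IsClosedImmersion i]

/-- `i_* O_Y` is coherent on `P^n_B`. -/
theorem isCoh_push_structureModule :
    Coh.IsCoh ((Coh.push i).obj (Coh.structureModule Y)) := by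
  haveI := Groth.Agent.R2.H58.SerreFin.isLocallyNoetherian_projSpace n B
  exact Groth.Agent.S0019.result i _ (Groth.Agent.R2.H5.CohThick.isCoh_structureModule Y)

/-- `i_* i^* O(m) ≅ (i_* O_Y)(m)`. -/
noncomputable def pushPullTwistIso (m : ℤ) :
    (Coh.push i).obj ((Scheme.Modules.pullback i).obj (Twist.twistProjSpace n B m)) ≅
      Twist.twistBy (CohB1.polyGrading n B) ((Coh.push i).obj (Coh.structureModule Y)) m :=
  pushPullIso i (Twist.twistProjSpace n B m)

omit [IsNoetherianRing B] [IsClosedImmersion i] in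
theorem isQCoh_pullback_twist (m : ℤ) :
    Coh.IsQCoh ((Scheme.Modules.pullback i).obj (Twist.twistProjSpace n B m)) := by
  haveI : (Twist.twistProjSpace n B m).IsQuasicoherent :=
    (Groth.Agent.R2.H79.TwistCalc.isCoh_twistProjSpace n B m).1
  exact Groth.Agent.Lib.Helper2.PullbackSec.isQuasicoherent_pullback i _

theorem isCoh_twistBy_push (m : ℤ) :
    Coh.IsCoh (Twist.twistBy (CohB1.polyGrading n B)
      ((Coh.push i).obj (Coh.structureModule Y)) m) :=
  Groth.Agent.R2.H79.TwistCalc.isCoh_tensorMod _ _ (isCoh_push_structureModule n B i)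
    (Groth.Agent.R2.H79.TwistCalc.isInvertible_twistProjSpace n B m)

/-- `i_* i^* O(m)` is coherent on `P^n_B`. -/
theorem isCoh_push_pullback_twist (m : ℤ) :
    Coh.IsCoh ((Coh.push i).obj
      ((Scheme.Modules.pullback i).obj (Twist.twistProjSpace n B m))) :=
  isCoh_of_iso (pushPullTwistIso n B i m).symm (isCoh_twistBy_push n B i m)

/-- **STEP A of relSerre**, against Serre vanishing on `P^n_B`. -/
theorem stepA_of
    (hSerre : ∀ (F : (CohB1.ProjSpace n B).Modules), Coh.IsCoh F → ∀ p : ℕ, 0 < p →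
      ∃ d₀ : ℤ, ∀ d : ℤ, d₀ ≤ d → Subsingleton (Coh.HH (CohB1.ProjSpace n B)
        (Twist.twistBy (CohB1.polyGrading n B) F d) p)) :
    ∃ m₀ : ℤ, ∀ m : ℤ, m₀ ≤ m → ∀ q : ℕ, 0 < q → Subsingleton
      (Coh.HH Y ((Scheme.Modules.pullback i).obj (Twist.twistProjSpace n B m)) q) := by
  have hF := isCoh_push_structureModule n B i
  obtain ⟨m₀, hm₀⟩ := exists_uniform_bound
    (fun p m => Subsingleton (Coh.HH (CohB1.ProjSpace n B)
      (Twist.twistBy (CohB1.polyGrading n B) ((Coh.push i).obj (Coh.structureModule Y)) m) (p + 1)))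
    (fun p => hSerre _ hF (p + 1) (Nat.succ_pos p)) n
  refine ⟨m₀, fun m hm q hq => ?_⟩
  haveI : Coh.IsQCoh ((Scheme.Modules.pullback i).obj (Twist.twistProjSpace n B m)) :=
    isQCoh_pullback_twist n B i m
  obtain ⟨e⟩ := Groth.Agent.S0012.result i
    ((Scheme.Modules.pullback i).obj (Twist.twistProjSpace n B m)) q
  have hsub : Subsingleton (Coh.HH (CohB1.ProjSpace n B)
      (Twist.twistBy (CohB1.polyGrading n B) ((Coh.push i).obj (Coh.structureModule Y)) m) q) := by
    by_cases hqn : q ≤ n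
    · obtain ⟨p, rfl⟩ : ∃ p, q = p + 1 := ⟨q - 1, by omega⟩
      exact hm₀ p (by omega) m hm
    · have hq : Coh.IsQCoh (X := CohB1.ProjSpace n B) (Twist.twistBy (CohB1.polyGrading n B)
          ((Coh.push i).obj (Coh.structureModule Y)) m) := (isCoh_twistBy_push n B i m).1
      exact @Groth.Agent.S0022.result n B _ _ hq q (by omega)
  have h2 : Subsingleton (Coh.HH (CohB1.ProjSpace n B) ((Coh.push i).obj
      ((Scheme.Modules.pullback i).obj (Twist.twistProjSpace n B m))) q) :=
    @Groth.Agent.R2.H58.SerreFin.subsingleton_of_iso (CohB1.ProjSpace n B) _ _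
      (pushPullTwistIso n B i m).symm q hsub
  exact e.toEquiv.subsingleton

end Groth.Agent.R2.H54.RelSerreA
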