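import Mathlib
import Groth.Agent.R2.H12Dev3C

/-!
# Devissage to ideals of integral closed subschemes (helper62, PROJ:snapper)

A one-directional variant of helper12's devissage: a property `P` of coherent modules on a Noetherian scheme which is
closed under isomorphisms, holds for `0`, is closed under extensions (`P X₁ → P X₃ → P X₂`) and holds for `i_* I`
for every nonzero quasi-coherent ideal `I` of an integral closed subscheme `i : Z ⟶ X` holds for every coherent module.
-/

set_option autoImplicit false
universe u
open CategoryTheory Limits AlgebraicGeometry TopologicalSpace Opposite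

namespace Groth.Agent.R2.H62.Snapper

open Groth.Agent.R2.H12.Dev

theorem devissage_ideal {X : Scheme.{u}} [IsNoetherian X] (P : X.Modules → Prop)
    (hiso : ∀ M N : X.Modules, Nonempty (M ≅ N) → P M → P N)
    (h0 : ∀ M : X.Modules, IsZero M → P M)
    (hex : ∀ S : ShortComplex X.Modules, S.ShortExact → Coh.IsCoh S.X₁ → Coh.IsCoh S.X₂ → Coh.IsCoh S.X₃ →
      P S.X₁ → P S.X₃ → P S.X₂)
    (hgen : ∀ (Z : Scheme.{u}) (i : Z ⟶ X) [IsClosedImmersion i] [IsIntegral Z] (I : Z.Modules)
      (ι : I ⟶ Coh.structureModule Z) [Mono ι], Coh.IsQCoh I → ¬ IsZero I → P ((Coh.push i).obj I))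
    (M : X.Modules) (hM : Coh.IsCoh M) : P M := by
  obtain ⟨m, hm⟩ := exists_chain_eq_top hM
  have hcoh : ∀ j, Coh.IsCoh (chain hM j : X.Modules) := fun j =>
    Groth.Agent.S0046.result X M _ (chain hM j).arrow hM (qcoh_chain hM j)
  have hall : ∀ j, P (chain hM j : X.Modules) := by
    intro j
    induction j with
    | zero => exact h0 _ (isZero_bot M)
    | succ j ih =>
      by_cases hne : chain hM j = ⊤
      · have heq : chain hM (j + 1) = chain hM j := stepFn_of_not hM _ (fun h => h.2 hne)
        rw [heq]; exact ih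
      · obtain ⟨hle, -, Z, i, hi, hZ, I, ι, hι, hIq, hI0, ⟨e⟩⟩ := chain_isStep hM j hne
        have hc3 : Coh.IsCoh (cokernel ((chain hM j).ofLE _ hle)) :=
          isCoh_cokernel (hcoh j) (hcoh (j + 1)) _
        have hPI : P ((Coh.push i).obj I) := hgen Z i I ι hIq hI0
        have hPc : P (cokernel ((chain hM j).ofLE _ hle)) := hiso _ _ ⟨e.symm⟩ hPI
        have hS : (ShortComplex.mk ((chain hM j).ofLE _ hle) (cokernel.π _)
            (cokernel.condition _)).ShortExact :=
          ShortComplex.ShortExact.mk' (ShortComplex.exact_cokernel _) inferInstance inferInstance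
        exact hex _ hS (hcoh j) (hcoh (j + 1)) hc3 ih hPc
  have hiso' : IsIso (chain hM m).arrow := (Subobject.isIso_arrow_iff_eq_top _).2 hm
  exact hiso _ _ ⟨asIso (chain hM m).arrow⟩ (hall m)

end Groth.Agent.R2.H62.Snapper
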