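import Mathlib

/-!
# Dimension drops on proper closed subsets of irreducible spaces (helper62, PROJ:snapper)
-/

set_option autoImplicit false

namespace Groth.Agent.R2.H62.Snapper

theorem withBot_lt_succ_of_le {x : WithBot ℕ∞} {d : ℕ} (h : x ≤ (d : WithBot ℕ∞)) :
    x < ((d + 1 : ℕ) : WithBot ℕ∞) :=
  lt_of_le_of_lt h (by exact_mod_cast Nat.lt_succ_self d)

theorem withBot_le_of_lt_succ {x : WithBot ℕ∞} {d : ℕ} (h : x < ((d + 1 : ℕ) : WithBot ℕ∞)) :
    x ≤ (d : WithBot ℕ∞) := by
  induction x using WithBot.recBotCoe with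
  | bot => exact bot_le
  | coe x =>
    induction x using ENat.recTopCoe with
    | top =>
      exfalso
      have h' : ((⊤ : ℕ∞) : WithBot ℕ∞) < (((d + 1 : ℕ) : ℕ∞) : WithBot ℕ∞) := h
      rw [WithBot.coe_lt_coe] at h'
      exact not_top_lt h'
    | coe n =>
      have h' : (((n : ℕ) : ℕ∞) : WithBot ℕ∞) < (((d + 1 : ℕ) : ℕ∞) : WithBot ℕ∞) := h
      have h2 : n < d + 1 := by exact_mod_cast h'
      have h3 : n ≤ d := Nat.lt_succ_iff.1 h2
      exact_mod_cast h3

/-- In an irreducible space of dimension `< d + 1`, a proper closed subset has dimension `< d`. -/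
theorem topologicalKrullDim_lt_of_isClosed_ne_univ {X : Type*} [TopologicalSpace X]
    [IrreducibleSpace X] (d : ℕ) (hdim : topologicalKrullDim X < ((d + 1 : ℕ) : WithBot ℕ∞))
    {Z : Set X} (hZ : IsClosed Z) (hne : Z ≠ Set.univ) :
    topologicalKrullDim Z < (d : WithBot ℕ∞) := by
  have key : ∀ p : LTSeries (TopologicalSpace.IrreducibleCloseds Z), p.length < d := by
    intro p
    have hind : Topology.IsInducing (Subtype.val : Z → X) := Topology.IsInducing.subtypeVal
    let q₀ : LTSeries (TopologicalSpace.IrreducibleCloseds X) :=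
      p.map (TopologicalSpace.IrreducibleCloseds.map Subtype.val hind.continuous)
        (TopologicalSpace.IrreducibleCloseds.map_strictMono_of_isInducing hind)
    let top : TopologicalSpace.IrreducibleCloseds X :=
      { carrier := Set.univ
        isIrreducible' := IrreducibleSpace.isIrreducible_univ X
        isClosed' := isClosed_univ }
    have hlt : q₀.last < top := by
      rw [lt_iff_le_and_ne]
      refine ⟨fun x _ => Set.mem_univ x, fun h => hne ?_⟩
      have h1 : (q₀.last : Set X) ⊆ Z := by
        change closure (Subtype.val '' (p.last : Set Z)) ⊆ Z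
        refine closure_minimal ?_ hZ
        rintro _ ⟨y, -, rfl⟩
        exact y.2
      have h2 : (q₀.last : Set X) = Set.univ :=
        congrArg (fun c : TopologicalSpace.IrreducibleCloseds X => (c : Set X)) h
      rw [h2] at h1
      exact Set.eq_univ_of_univ_subset h1
    let q : LTSeries (TopologicalSpace.IrreducibleCloseds X) := q₀.snoc top hlt
    have hq : (q.length : WithBot ℕ∞) < ((d + 1 : ℕ) : WithBot ℕ∞) :=
      lt_of_le_of_lt (Order.LTSeries.length_le_krullDim q) hdim
    have hlen : q.length = p.length + 1 := by simp [q, q₀]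
    rw [hlen] at hq
    have : p.length + 1 < d + 1 := by exact_mod_cast hq
    omega
  unfold topologicalKrullDim Order.krullDim
  cases d with
  | zero =>
    have : IsEmpty (LTSeries (TopologicalSpace.IrreducibleCloseds Z)) :=
      ⟨fun p => absurd (key p) (Nat.not_lt_zero _)⟩
    rw [iSup_of_empty]
    exact WithBot.bot_lt_coe _
  | succ e =>
    refine lt_of_le_of_lt (iSup_le fun p => ?_) (withBot_lt_succ_of_le le_rfl)
    have := key p
    have h3 : p.length ≤ e := Nat.lt_succ_iff.1 this
    exact_mod_cast h3

/-- In an irreducible subset `T` of dimension `< d + 1`, a closed subset `S ⊊ T` has dimension `< d`. -/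
theorem topologicalKrullDim_lt_of_isClosed_ssubset {X : Type*} [TopologicalSpace X] (d : ℕ)
    {T S : Set X} (hT : IsIrreducible T) (hdim : topologicalKrullDim T < ((d + 1 : ℕ) : WithBot ℕ∞))
    (hS : IsClosed S) (hST : S ⊆ T) (hne : S ≠ T) :
    topologicalKrullDim S < (d : WithBot ℕ∞) := by
  have : IrreducibleSpace T := Subtype.irreducibleSpace hT
  have hZc : IsClosed ((Subtype.val : T → X) ⁻¹' S) := hS.preimage continuous_subtype_val
  have hZne : (Subtype.val : T → X) ⁻¹' S ≠ Set.univ := by
    intro h
    refine hne (Set.Subset.antisymm hST fun x hx => ?_)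
    have : (⟨x, hx⟩ : T) ∈ (Subtype.val : T → X) ⁻¹' S := h ▸ Set.mem_univ _
    exact this
  have h1 := topologicalKrullDim_lt_of_isClosed_ne_univ (X := T) d hdim hZc hZne
  refine lt_of_le_of_lt ?_ h1
  let g : S → ((Subtype.val : T → X) ⁻¹' S) := fun s => ⟨⟨s.1, hST s.2⟩, s.2⟩
  have hg : Continuous g := by
    refine Continuous.subtype_mk (Continuous.subtype_mk continuous_subtype_val _) _
  refine Topology.IsInducing.topologicalKrullDim_le (f := g)
    (Topology.IsInducing.of_comp hg (continuous_subtype_val.comp continuous_subtype_val) ?_)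
  have : ((Subtype.val : T → X) ∘ (Subtype.val : ((Subtype.val : T → X) ⁻¹' S) → T)) ∘ g =
      (Subtype.val : S → X) := rfl
  rw [this]; exact Topology.IsInducing.subtypeVal


/-- dimension is monotone for subsets -/
theorem topologicalKrullDim_mono {X : Type*} [TopologicalSpace X] {A B : Set X} (h : A ⊆ B) :
    topologicalKrullDim A ≤ topologicalKrullDim B :=
  Topology.IsInducing.topologicalKrullDim_le (f := Set.inclusion h)
    (Topology.IsInducing.of_comp (continuous_inclusion h) continuous_subtype_val
      (by
        have : (Subtype.val : B → X) ∘ Set.inclusion h = (Subtype.val : A → X) := rfl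
        rw [this]; exact Topology.IsInducing.subtypeVal))

end Groth.Agent.R2.H62.Snapper
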