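import Mathlib
import Groth.Agent.Lib.Helper23Extend2
import Groth.Agent.R2.H62CurveInv
import Groth.Agent.R2.H62CurveCoker
import Groth.Agent.S0046
import Groth.Agent.S5084

/-!
# Kleiman's ideal for an invertible module on an integral scheme (helper62, PROJ:snapper)

For `L` invertible on an integral Noetherian scheme `Z` there are a coherent module `I` and monomorphisms
`a : I ⟶ O_Z`, `b : I ⟶ L` which are isomorphisms on a nonempty open `U` (`exists_kleiman_ideal`):
`I = O_Z ×_{j_* O_U} L` for an open `U` trivialising `L`.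
-/

set_option autoImplicit false
universe u
open CategoryTheory CategoryTheory.Limits AlgebraicGeometry TopologicalSpace Opposite

namespace Groth.Agent.R2.H62.Snapper

open Groth.Agent.Lib.Helper23.Extend Groth.Agent.Lib.Helper23.QCohLocal
  Groth.Agent.R2.H62.CurveInv

attribute [local instance] restrictFunctor_isRightAdjoint

variable {Z : Scheme.{u}}

/-- a morphism out of an invertible module on an integral scheme which is an isomorphism on a nonempty open
is a monomorphism -/
theorem mono_of_isoOn [IsIntegral Z] {M N : Z.Modules} (hM : PicF.IsInvertible M) (v : M ⟶ N)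
    (U : Z.Opens) (hU : (U : Set Z).Nonempty) (hv : IsoOn v U) : Mono v := by
  refine Groth.Agent.S5084.mono_of_injective_app v fun V => ?_
  rw [injective_iff_map_eq_zero]
  intro s hs
  by_cases hV : (V : Set Z).Nonempty
  · obtain ⟨y, hyV, hyU⟩ := nonempty_preirreducible_inter V.isOpen U.isOpen hV hU
    have hW : V ⊓ U ≤ U := inf_le_right
    have hWV : V ⊓ U ≤ V := inf_le_left
    have hiso := hv (V ⊓ U) hW
    have h1 : v.app (V ⊓ U) (M.presheaf.map (homOfLE hWV).op s) = 0 := by
      rw [app_map, hs, map_zero]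
    have h2 : M.presheaf.map (homOfLE hWV).op s = 0 := by
      apply (ConcreteCategory.bijective_of_isIso (v.app (V ⊓ U))).1
      rw [h1, map_zero]
    refine eq_zero_of_germ_eq_zero M hM s y hyV ?_
    have h3 := TopCat.Presheaf.germ_res_apply M.presheaf (homOfLE hWV) y ⟨hyV, hyU⟩ s
    rw [← h3, h2, map_zero]
  · refine eq_zero_of_forall_germ M s fun x hx => absurd ⟨x, hx⟩ hV


/-- **Kleiman's ideal**: for `L` invertible on an integral Noetherian scheme there is a coherent `I` with
monomorphisms `I ⟶ O_Z`, `I ⟶ L` which are isomorphisms over a nonempty open. -/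
theorem exists_kleiman_ideal [IsIntegral Z] [IsNoetherian Z] (L : Z.Modules)
    (hL : PicF.IsInvertible L) :
    ∃ (I : Z.Modules) (a : I ⟶ Coh.structureModule Z) (b : I ⟶ L) (U : Z.Opens),
      Coh.IsCoh I ∧ Mono a ∧ Mono b ∧ (U : Set Z).Nonempty ∧ IsoOn a U ∧ IsoOn b U := by
  obtain ⟨U, hξU, ⟨φ⟩⟩ := hL (genericPoint Z)
  let j : (↑U : Scheme.{u}) ⟶ Z := U.ι
  haveI : QuasiCompact j := inferInstance
  let adj := Scheme.Modules.restrictAdjunction j
  let Rj := Scheme.Modules.restrictFunctor j
  let Pj := Scheme.Modules.pushforward j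
  let OU := Coh.structureModule (↑U : Scheme.{u})
  let ρ : Rj.obj (Coh.structureModule Z) ≅ OU := Scheme.Modules.restrictUnitIso j
  let u : Coh.structureModule Z ⟶ Pj.obj OU := adj.unit.app _ ≫ Pj.map ρ.hom
  let v : L ⟶ Pj.obj OU := adj.unit.app L ≫ Pj.map φ.hom
  have hRη : ∀ F : Z.Modules, IsIso (Rj.map (adj.unit.app F)) := by
    intro F
    have htri : Rj.map (adj.unit.app F) ≫ adj.counit.app (Rj.obj F) = 𝟙 _ :=
      adj.left_triangle_components F
    have : IsIso (adj.counit.app (Rj.obj F)) := inferInstance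
    have h : Rj.map (adj.unit.app F) = inv (adj.counit.app (Rj.obj F)) :=
      IsIso.eq_inv_of_inv_hom_id htri
    rw [h]; infer_instance
  have hRu : IsIso (Rj.map u) := by
    have := hRη (Coh.structureModule Z)
    change IsIso (Rj.map (adj.unit.app _ ≫ Pj.map ρ.hom))
    rw [Functor.map_comp]; infer_instance
  have hRv : IsIso (Rj.map v) := by
    have := hRη L
    change IsIso (Rj.map (adj.unit.app _ ≫ Pj.map φ.hom))
    rw [Functor.map_comp]; infer_instance
  have hpb : IsPullback (pullback.fst u v) (pullback.snd u v) u v := IsPullback.of_hasPullback _ _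
  have hpb' := hpb.map Rj
  have hRa : IsIso (Rj.map (pullback.fst u v)) := hpb'.isIso_fst_of_isIso
  have hRb : IsIso (Rj.map (pullback.snd u v)) := hpb'.isIso_snd_of_isIso
  have hUr : j.opensRange = U := Scheme.Opens.opensRange_ι U
  have hIa : IsoOn (pullback.fst u v) U := fun W' hW' =>
    (isIso_restrict_iff j _).1 hRa W' (le_of_le_of_eq hW' hUr.symm)
  have hIb : IsoOn (pullback.snd u v) U := fun W' hW' =>
    (isIso_restrict_iff j _).1 hRb W' (le_of_le_of_eq hW' hUr.symm)
  have hIu : IsoOn u U := fun W' hW' =>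
    (isIso_restrict_iff j _).1 hRu W' (le_of_le_of_eq hW' hUr.symm)
  have hIv : IsoOn v U := fun W' hW' =>
    (isIso_restrict_iff j _).1 hRv W' (le_of_le_of_eq hW' hUr.symm)
  have hUne : (U : Set Z).Nonempty := ⟨genericPoint Z, hξU⟩
  have hmv : Mono v := mono_of_isoOn hL v U hUne hIv
  have hmu : Mono u :=
    mono_of_isoOn (Groth.Agent.Lib.Helper23.TensorUnit.isInvertible_structureModule Z) u U hUne hIu
  have hO : Coh.IsCoh (Coh.structureModule Z) :=
    Groth.Agent.R2.H62.CurveInv.isCoh_of_isInvertible
      (Groth.Agent.Lib.Helper23.TensorUnit.isInvertible_structureModule Z)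
  haveI : (Pj.obj OU).IsQuasicoherent := isQuasicoherent_pushforward j OU
  haveI : L.IsQuasicoherent := (Groth.Agent.R2.H62.CurveInv.isCoh_of_isInvertible hL).1
  haveI : (Coh.structureModule Z).IsQuasicoherent := hO.1
  have hq : (pullback u v).IsQuasicoherent := isQuasicoherent_pullback _ _
  exact ⟨pullback u v, pullback.fst u v, pullback.snd u v, U,
    Groth.Agent.S0046.result Z _ _ (pullback.fst u v) hO hq, inferInstance, inferInstance, hUne, hIa, hIb⟩

end Groth.Agent.R2.H62.Snapper
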