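import Mathlib
import Groth.Agent.R2.H62SnapAlg
import Groth.Agent.R2.H62SnapDim
import Groth.Agent.R2.H62SnapTw
import Groth.Agent.R2.H62SnapKl
import Groth.Agent.R2.H62SnapDev
import Groth.Agent.R2.H12Dev4B
import Groth.Agent.R2.H54RelSerreA
import Groth.Agent.S1524
import Groth.Agent.S0019
import Groth.Agent.S0020
import Groth.Agent.Lib.Helper23PB

/-!
# Snapper's theorem (helper62, PROJ:snapper)

For `X` proper over a field `k`, `L_0, …, L_{r-1}` invertible and `M` coherent with `dim Supp M < d`, the function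
`n ↦ χ(X, M ⊗ L_0^{n_0} ⊗ ⋯ ⊗ L_{r-1}^{n_{r-1}})` is a numerical polynomial all of whose monomials have degree `< d`
(`snapper_lt`).  The proof is by induction on `r` and `d`, devissage to ideals of integral closed subschemes and Kleiman's
two-sequence trick.
-/

set_option autoImplicit false
universe u
open CategoryTheory CategoryTheory.Limits AlgebraicGeometry TopologicalSpace Opposite

namespace Groth.Agent.R2.H62.Snapper

open Groth.Agent.R2.H12.Dev Groth.Agent.Lib.Helper23.Extend Groth.Agent.R2.H79.TwistCalc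

section general

variable {X : Scheme.{u}}

/-- the support of `M` has dimension `< d`: `M` vanishes on an open whose complement has dimension `< d` -/
def SmallSupp (M : X.Modules) (d : ℕ) : Prop :=
  ∃ W : X.Opens, VanOn M W ∧ topologicalKrullDim ↥((W : Set X)ᶜ) < (d : WithBot ℕ∞)

theorem SmallSupp.of_iso {M N : X.Modules} {d : ℕ} (e : M ≅ N) (h : SmallSupp M d) : SmallSupp N d := by
  obtain ⟨W, hW, hd⟩ := h
  exact ⟨W, hW.of_iso e, hd⟩

theorem SmallSupp.of_mono {M N : X.Modules} {d : ℕ} (i : N ⟶ M) [Mono i] (h : SmallSupp M d) :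
    SmallSupp N d := by
  obtain ⟨W, hW, hd⟩ := h
  exact ⟨W, hW.of_mono i, hd⟩

theorem SmallSupp.of_epi {M N : X.Modules} {d : ℕ} (p : M ⟶ N) [Epi p] (h : SmallSupp M d) :
    SmallSupp N d := by
  obtain ⟨W, hW, hd⟩ := h
  exact ⟨W, hW.of_epi p, hd⟩

theorem SmallSupp.mono {M : X.Modules} {d d' : ℕ} (h : SmallSupp M d) (hd : d ≤ d') : SmallSupp M d' := by
  obtain ⟨W, hW, hlt⟩ := h
  exact ⟨W, hW, lt_of_lt_of_le hlt (by exact_mod_cast hd)⟩

theorem SmallSupp.isZero {M : X.Modules} (h : SmallSupp M 0) : IsZero M := by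
  obtain ⟨W, hW, hd⟩ := h
  have hW' : W = ⊤ := by
    by_contra hne
    have hne' : ((W : Set X)ᶜ).Nonempty := by
      rw [Set.nonempty_compl]
      intro h
      exact hne (Opens.ext h)
    obtain ⟨x, hx⟩ := hne'
    have : Nonempty (IrreducibleCloseds ↥((W : Set X)ᶜ)) :=
      ⟨⟨closure {⟨x, hx⟩}, isIrreducible_singleton.closure, isClosed_closure⟩⟩
    have h0 : (0 : WithBot ℕ∞) ≤ topologicalKrullDim ↥((W : Set X)ᶜ) := Order.krullDim_nonneg
    exact absurd (lt_of_le_of_lt h0 hd) (by simp)
  exact isZero_of_vanOn_top (hW' ▸ hW)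

/-- small support from the prelude's support -/
theorem smallSupp_of_support (M : X.Modules) (hM : Coh.IsCoh M) (d : ℕ)
    (h : topologicalKrullDim (CohB1.support M) < (d : WithBot ℕ∞)) : SmallSupp M d := by
  have hc : IsClosed (CohB1.support M) := Groth.Agent.S0020.result X M hM.2
  refine ⟨⟨(CohB1.support M)ᶜ, hc.isOpen_compl⟩, vanOn_of_support_disjoint M _ (fun x hx => hx), ?_⟩
  change topologicalKrullDim ↥((CohB1.support M)ᶜᶜ) < _
  rw [compl_compl]
  exact h

end general

section shift

variable {X : Scheme.{u}}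

/-- `A ≅ B ⟹ A ⊗ C ≅ B ⊗ C` -/
noncomputable def tensorIsoRight {A B : X.Modules} (e : A ≅ B) (C : X.Modules) :
    CohB1.tensorMod A C ≅ CohB1.tensorMod B C := (tensorRightF C).mapIso e

/-- `A ≅ B ⟹ C ⊗ A ≅ C ⊗ B` -/
noncomputable def tensorIsoLeft (C : X.Modules) {A B : X.Modules} (e : A ≅ B) :
    CohB1.tensorMod C A ≅ CohB1.tensorMod C B := (tensorRightFCongr e).app C

/-- `(M ⊗ Λ) ⊗ A ≅ (M ⊗ A) ⊗ Λ` -/
noncomputable def tensorSwapIso (M Λ A : X.Modules) :
    CohB1.tensorMod (CohB1.tensorMod M Λ) A ≅ CohB1.tensorMod (CohB1.tensorMod M A) Λ :=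
  tensorAssocIso M Λ A ≪≫ tensorIsoLeft M (brdIso Λ A) ≪≫ (tensorAssocIso M A Λ).symm

/-- **general shift identity**: twisting `M ⊗ L_last` by `n` is twisting `M` by `n + e_last`. -/
theorem nonempty_twF_tensor_last_iso (r : ℕ) (L : Fin (r + 1) → X.Modules) (n : Fin (r + 1) → ℕ)
    (M : X.Modules) :
    Nonempty ((twF (r + 1) L n).obj (CohB1.tensorMod M (L (Fin.last r))) ≅
      (twF (r + 1) L (Function.update n (Fin.last r) (n (Fin.last r) + 1))).obj M) := by
  have h1 : (fun i : Fin r => Function.update n (Fin.last r) (n (Fin.last r) + 1) i.castSucc) =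
      fun i => n i.castSucc :=
    funext fun i => Function.update_of_ne (Fin.castSucc_lt_last i).ne _ _
  have h2 : Function.update n (Fin.last r) (n (Fin.last r) + 1) (Fin.last r) = n (Fin.last r) + 1 :=
    Function.update_self _ _ _
  rw [twF_succ, twF_succ, h1, h2]
  let L' : Fin r → X.Modules := fun i => L i.castSucc
  let n' : Fin r → ℕ := fun i => n i.castSucc
  let Λ := L (Fin.last r)
  let m := n (Fin.last r)
  let A := twB r L' n'
  change Nonempty (CohB1.tensorMod ((twF r L' n').obj (CohB1.tensorMod M Λ)) (CohB1.tensorPow Λ m) ≅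
    CohB1.tensorMod ((twF r L' n').obj M) (CohB1.tensorMod (CohB1.tensorPow Λ m) Λ))
  have e1 : (twF r L' n').obj (CohB1.tensorMod M Λ) ≅ CohB1.tensorMod (CohB1.tensorMod M Λ) A :=
    (twFIso r L' n').app _
  have e0 : (twF r L' n').obj M ≅ CohB1.tensorMod M A := (twFIso r L' n').app _
  have e5 : (twF r L' n').obj (CohB1.tensorMod M Λ) ≅ CohB1.tensorMod ((twF r L' n').obj M) Λ :=
    e1 ≪≫ tensorSwapIso M Λ A ≪≫ tensorIsoRight e0.symm Λ
  exact ⟨tensorIsoRight e5 (CohB1.tensorPow Λ m) ≪≫
    tensorAssocIso ((twF r L' n').obj M) Λ (CohB1.tensorPow Λ m) ≪≫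
    tensorIsoLeft ((twF r L' n').obj M) (brdIso Λ (CohB1.tensorPow Λ m))⟩

end shift

section chi

variable (k : Type u) [Field k] {X : Scheme.{u}} [X.Over (Spec (CommRingCat.of k))]

/-- the Euler characteristic of the twists of `M` -/
noncomputable def chiF (r : ℕ) (L : Fin r → X.Modules) (M : X.Modules) : (Fin r → ℕ) → ℤ :=
  fun n => Curv2.euler k X ((twF r L n).obj M)

theorem chiF_iso (r : ℕ) (L : Fin r → X.Modules) {M N : X.Modules} (e : M ≅ N) (n : Fin r → ℕ) :
    chiF k r L M n = chiF k r L N n :=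
  euler_congr k ((twF r L n).mapIso e)

theorem chiF_shift (r : ℕ) (L : Fin (r + 1) → X.Modules) (M : X.Modules) (n : Fin (r + 1) → ℕ) :
    chiF k (r + 1) L (CohB1.tensorMod M (L (Fin.last r))) n =
      chiF k (r + 1) L M (Function.update n (Fin.last r) (n (Fin.last r) + 1)) := by
  obtain ⟨e⟩ := nonempty_twF_tensor_last_iso r L n M
  exact euler_congr k e

theorem chiF_snoc_zero (r : ℕ) (L : Fin (r + 1) → X.Modules) (M : X.Modules) (n' : Fin r → ℕ) :
    chiF k (r + 1) L M (Fin.snoc n' 0) = chiF k r (fun i => L i.castSucc) M n' := by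
  obtain ⟨e⟩ := nonempty_twF_snoc_zero_iso r L n' M
  exact euler_congr k e

variable [IsProper (X ↘ (Spec (CommRingCat.of k)))]

theorem chiF_add (r : ℕ) (L : Fin r → X.Modules) (hL : ∀ i, PicF.IsInvertible (L i))
    (S : ShortComplex X.Modules) (hS : S.ShortExact)
    (h₁ : Coh.IsCoh S.X₁) (h₂ : Coh.IsCoh S.X₂) (h₃ : Coh.IsCoh S.X₃) (n : Fin r → ℕ) :
    chiF k r L S.X₂ n = chiF k r L S.X₁ n + chiF k r L S.X₃ n :=
  Groth.Agent.S1524.result k X (S.map (twF r L n)) (shortExact_map_twF r L n hL S hS)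
    (isCoh_twF r L n hL _ h₁) (isCoh_twF r L n hL _ h₂) (isCoh_twF r L n hL _ h₃)

end chi

section zero

variable (k : Type u) [Field k] {X : Scheme.{u}} [X.Over (Spec (CommRingCat.of k))]
  [IsProper (X ↘ (Spec (CommRingCat.of k)))]

include k in
theorem isNoetherian_of_isProper : IsNoetherian X := by
  have h1 : IsLocallyNoetherian X := LocallyOfFiniteType.isLocallyNoetherian (X ↘ Spec (CommRingCat.of k))
  have h2 : CompactSpace X := Groth.Agent.R2.H62.CurveCore.compactSpace_of_isProper k X
  exact { }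

theorem isCoh_structureModule' (Y : Scheme.{u}) : Coh.IsCoh (Coh.structureModule Y) :=
  Groth.Agent.R2.H62.CurveInv.isCoh_of_isInvertible
    (Groth.Agent.Lib.Helper23.TensorUnit.isInvertible_structureModule Y)

theorem euler_of_isZero {Z : X.Modules} (hZ : IsZero Z) : Curv2.euler k X Z = 0 := by
  have hO := isCoh_structureModule' X
  have hS : (ShortComplex.mk (𝟙 (Coh.structureModule X)) (cokernel.π _)
      (cokernel.condition _)).ShortExact :=
    ShortComplex.ShortExact.mk' (ShortComplex.exact_cokernel _) inferInstance inferInstance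
  have h := Groth.Agent.S1524.result k X _ hS hO hO (isCoh_cokernel hO hO _)
  have hz : IsZero (cokernel (𝟙 (Coh.structureModule X))) := isZero_cokernel_of_epi _
  have h2 : Curv2.euler k X (cokernel (𝟙 (Coh.structureModule X))) = 0 := by
    change Curv2.euler k X (Coh.structureModule X) = Curv2.euler k X (Coh.structureModule X) +
      Curv2.euler k X (cokernel (𝟙 (Coh.structureModule X))) at h
    linarith
  rw [euler_congr k (hZ.iso hz), h2]

theorem chiF_of_isZero (r : ℕ) (L : Fin r → X.Modules) {M : X.Modules} (hM : IsZero M) (n : Fin r → ℕ) :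
    chiF k r L M n = 0 :=
  euler_of_isZero k ((twF r L n).map_isZero hM)

end zero

section geom

variable {X Z : Scheme.{u}} (i : Z ⟶ X) [IsClosedImmersion i]

/-- the open complement of the image of a closed immersion -/
def complRange : X.Opens := ⟨(Set.range i)ᶜ, i.isClosedEmbedding.isClosed_range.isOpen_compl⟩

theorem preimage_complRange : i ⁻¹ᵁ (complRange i) = ⊥ := by
  refine le_bot_iff.1 fun z hz => ?_
  exact absurd (Set.mem_range_self z) hz

theorem vanOn_push_complRange (A : Z.Modules) :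
    VanOn ((Scheme.Modules.pushforward i).obj A) (complRange i) :=
  vanOn_push_of_preimage_eq_bot i A _ (preimage_complRange i)

theorem smallSupp_push (A : Z.Modules) (d : ℕ)
    (hdim : topologicalKrullDim ↥(Set.range i) < (d : WithBot ℕ∞)) :
    SmallSupp ((Scheme.Modules.pushforward i).obj A) d := by
  refine ⟨complRange i, vanOn_push_complRange i A, ?_⟩
  change topologicalKrullDim ↥((Set.range i)ᶜᶜ) < _
  rw [compl_compl]
  exact hdim

omit [IsClosedImmersion i] in
theorem isIrreducible_range [IrreducibleSpace Z] : IsIrreducible (Set.range i) := by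
  have h := (IrreducibleSpace.isIrreducible_univ Z).image i i.continuous.continuousOn
  rwa [Set.image_univ] at h

/-- the cokernel of `i_* u`, for `u` an isomorphism on a nonempty open of the irreducible `Z`, has small support -/
theorem smallSupp_cokernel_push [IrreducibleSpace Z] (d : ℕ)
    (hdim : topologicalKrullDim ↥(Set.range i) < ((d + 1 : ℕ) : WithBot ℕ∞))
    {A B : Z.Modules} (u : A ⟶ B) (D : Z.Opens) (hD : (D : Set Z).Nonempty) (hu : IsoOn u D) :
    SmallSupp (cokernel ((Scheme.Modules.pushforward i).map u)) d := by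
  obtain ⟨t, ht, hDt⟩ := i.isEmbedding.isInducing.isOpen_iff.mp D.isOpen
  have hWD : i ⁻¹ᵁ (⟨t, ht⟩ : X.Opens) = D := Opens.ext hDt
  have hv1 : VanOn (cokernel ((Scheme.Modules.pushforward i).map u)) (complRange i) :=
    (vanOn_push_complRange i B).of_epi (cokernel.π _)
  have hv2 : VanOn (cokernel ((Scheme.Modules.pushforward i).map u)) ⟨t, ht⟩ :=
    vanOn_cokernel_of_isoOn _ (isoOn_push i u D hu _ hWD.le)
  refine ⟨complRange i ⊔ ⟨t, ht⟩, hv1.sup hv2, ?_⟩
  refine topologicalKrullDim_lt_of_isClosed_ssubset d (isIrreducible_range i) hdim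
    (complRange i ⊔ ⟨t, ht⟩ : X.Opens).isOpen.isClosed_compl ?_ ?_
  · intro x hx
    by_contra hxr
    exact hx (Or.inl hxr)
  · intro heq
    obtain ⟨z, hz⟩ := hD
    have h1 : i z ∈ ((complRange i ⊔ ⟨t, ht⟩ : X.Opens) : Set X)ᶜ := heq ▸ Set.mem_range_self z
    have h2 : z ∈ i ⁻¹ᵁ (⟨t, ht⟩ : X.Opens) := hWD ▸ hz
    exact h1 (Or.inr h2)

end geom

section main

variable (k : Type u) [Field k] {X : Scheme.{u}} [X.Over (Spec (CommRingCat.of k))]
  [IsProper (X ↘ (Spec (CommRingCat.of k)))]

/-- short exact sequence of a monomorphism and its cokernel -/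
theorem shortExact_cokernel {A B : X.Modules} (a : A ⟶ B) [Mono a] :
    (ShortComplex.mk a (cokernel.π a) (cokernel.condition a)).ShortExact :=
  ShortComplex.ShortExact.mk' (ShortComplex.exact_cokernel _) inferInstance inferInstance

/-- **Kleiman's step**: the polynomial for `i_* O_Z`, `Z` an integral closed subscheme with `dim Z < d + 1`,
from the statement for one variable less and for smaller dimension. -/
theorem isNumPolyLT_push_structure (r d : ℕ) (L : Fin (r + 1) → X.Modules)
    (hL : ∀ j, PicF.IsInvertible (L j))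
    (ihr : ∀ M : X.Modules, Coh.IsCoh M → SmallSupp M (d + 1) →
      IsNumPolyLT r (d + 1) (chiF k r (fun j => L j.castSucc) M))
    (ihd : ∀ M : X.Modules, Coh.IsCoh M → SmallSupp M d → IsNumPolyLT (r + 1) d (chiF k (r + 1) L M))
    {Z : Scheme.{u}} (i : Z ⟶ X) [IsClosedImmersion i] [IsIntegral Z]
    (hdim : topologicalKrullDim ↥(Set.range i) < ((d + 1 : ℕ) : WithBot ℕ∞)) :
    IsNumPolyLT (r + 1) (d + 1)
      (chiF k (r + 1) L ((Scheme.Modules.pushforward i).obj (Coh.structureModule Z))) := by
  have hXN : IsNoetherian X := isNoetherian_of_isProper k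
  have hZN : IsNoetherian Z := isNoetherian_of_isClosedImmersion i
  let Λ := L (Fin.last r)
  let L₀ := (Scheme.Modules.pullback i).obj Λ
  have hL₀ : PicF.IsInvertible L₀ :=
    Groth.Agent.Lib.Helper23.PB.isInvertible_pullback i Λ (hL (Fin.last r))
  obtain ⟨I₀, a, b, U, hI₀, ha, hb, hU, hIa, hIb⟩ := exists_kleiman_ideal L₀ hL₀
  let pi := Scheme.Modules.pushforward i
  have hOZ : Coh.IsCoh (Coh.structureModule Z) := isCoh_structureModule' Z
  have hcA : Coh.IsCoh (pi.obj I₀) := Groth.Agent.S0019.result i _ hI₀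
  have hcO : Coh.IsCoh (pi.obj (Coh.structureModule Z)) := Groth.Agent.S0019.result i _ hOZ
  have hcL : Coh.IsCoh (pi.obj L₀) :=
    Groth.Agent.S0019.result i _ (Groth.Agent.R2.H62.CurveInv.isCoh_of_isInvertible hL₀)
  have hma : Mono (pi.map a) := inferInstance
  have hmb : Mono (pi.map b) := inferInstance
  have hcQ : Coh.IsCoh (cokernel (pi.map a)) := isCoh_cokernel hcA hcO _
  have hcQ' : Coh.IsCoh (cokernel (pi.map b)) := isCoh_cokernel hcA hcL _
  have hsQ : SmallSupp (cokernel (pi.map a)) d := smallSupp_cokernel_push i d hdim a U hU hIa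
  have hsQ' : SmallSupp (cokernel (pi.map b)) d := smallSupp_cokernel_push i d hdim b U hU hIb
  have hpQ := ihd _ hcQ hsQ
  have hpQ' := ihd _ hcQ' hsQ'
  have hadd1 := chiF_add k (r + 1) L hL _ (shortExact_cokernel (pi.map a)) hcA hcO hcQ
  have hadd2 := chiF_add k (r + 1) L hL _ (shortExact_cokernel (pi.map b)) hcA hcL hcQ'
  have hshift : ∀ n, chiF k (r + 1) L (pi.obj L₀) n =
      chiF k (r + 1) L (pi.obj (Coh.structureModule Z))
        (Function.update n (Fin.last r) (n (Fin.last r) + 1)) := fun n => by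
    rw [chiF_iso k (r + 1) L (Groth.Agent.R2.H54.RelSerreA.pushPullIso i Λ) n]
    exact chiF_shift k r L _ n
  refine isNumPolyLT_of_diff _ ?_ ?_
  · refine (ihr _ hcO (smallSupp_push i _ (d + 1) hdim)).congr fun n' => ?_
    exact (chiF_snoc_zero k r L _ n').symm
  · refine (hpQ'.sub hpQ).congr fun n => ?_
    have h1 := hadd1 n
    have h2 := hadd2 n
    have h3 := hshift n
    change chiF k (r + 1) L (pi.obj (Coh.structureModule Z)) n =
      chiF k (r + 1) L (pi.obj I₀) n + chiF k (r + 1) L (cokernel (pi.map a)) n at h1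
    change chiF k (r + 1) L (pi.obj L₀) n =
      chiF k (r + 1) L (pi.obj I₀) n + chiF k (r + 1) L (cokernel (pi.map b)) n at h2
    rw [← h3, h1, h2]
    ring

/-- **Snapper's theorem**, strict form: for `M` coherent with `dim Supp M < d`, the function
`n ↦ χ(X, M ⊗ L^n)` is a numerical polynomial with all monomials of degree `< d`. -/
theorem snapper_lt : ∀ (r : ℕ) (L : Fin r → X.Modules) (_ : ∀ j, PicF.IsInvertible (L j)) (d : ℕ)
    (M : X.Modules), Coh.IsCoh M → SmallSupp M d → IsNumPolyLT r d (chiF k r L M) := by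
  intro r
  induction r with
  | zero =>
    intro L hL d M hM hs
    cases d with
    | zero => exact (isNumPolyLT_zero 0 0).congr fun n => (chiF_of_isZero k 0 L hs.isZero n).symm
    | succ d =>
      refine ((isNumPolyLT_const 0 (chiF k 0 L M default)).mono
        (Nat.succ_le_succ (Nat.zero_le d))).congr fun n => ?_
      rw [Subsingleton.elim n default]
  | succ r ihr =>
    intro L hL d
    induction d with
    | zero =>
      intro M hM hs
      exact (isNumPolyLT_zero _ 0).congr fun n => (chiF_of_isZero k _ L hs.isZero n).symm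
    | succ d ihd =>
      intro M hM
      have hXN : IsNoetherian X := isNoetherian_of_isProper k
      refine devissage_ideal
        (fun M => SmallSupp M (d + 1) → IsNumPolyLT (r + 1) (d + 1) (chiF k (r + 1) L M))
        ?_ ?_ ?_ ?_ M hM
      · rintro M N ⟨e⟩ hP hs
        exact (hP (hs.of_iso e.symm)).congr fun n => chiF_iso k _ L e n
      · intro M hM0 _
        exact (isNumPolyLT_zero _ _).congr fun n => (chiF_of_isZero k _ L hM0 n).symm
      · intro S hS h1 h2 h3 hP1 hP3 hs
        have := hS.mono_f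
        have := hS.epi_g
        exact ((hP1 (hs.of_mono S.f)).add (hP3 (hs.of_epi S.g))).congr fun n =>
          (chiF_add k _ L hL S hS h1 h2 h3 n).symm
      · intro Z i _ _ I ι _ hIq hI0 hs
        obtain ⟨W, hvI, hdimW⟩ := hs
        have hiW : i ⁻¹ᵁ W = ⊥ := preimage_eq_bot_of_vanOn i ι hI0 hvI
        have hsub : Set.range i ⊆ (W : Set X)ᶜ := by
          rintro _ ⟨z, rfl⟩ hz
          have hz' : z ∈ i ⁻¹ᵁ W := hz
          rw [hiW] at hz'
          exact hz'
        have hdim : topologicalKrullDim ↥(Set.range i) < ((d + 1 : ℕ) : WithBot ℕ∞) :=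
          lt_of_le_of_lt (topologicalKrullDim_mono hsub) hdimW
        have hZN : IsNoetherian Z := isNoetherian_of_isClosedImmersion i
        have hOZ : Coh.IsCoh (Coh.structureModule Z) := isCoh_structureModule' Z
        have hIc : Coh.IsCoh I := Groth.Agent.S0046.result Z _ I ι hOZ hIq
        have hO := isNumPolyLT_push_structure k r d L hL
          (fun M hM hs => ihr _ (fun j => hL j.castSucc) (d + 1) M hM hs) ihd i hdim
        obtain ⟨D', hD', hι⟩ := exists_isoOn_of_ideal ι hI0
        have hsQ := smallSupp_cokernel_push i d hdim ι D' hD' hι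
        have hcI : Coh.IsCoh ((Scheme.Modules.pushforward i).obj I) := Groth.Agent.S0019.result i _ hIc
        have hcO : Coh.IsCoh ((Scheme.Modules.pushforward i).obj (Coh.structureModule Z)) :=
          Groth.Agent.S0019.result i _ hOZ
        have hcQ := isCoh_cokernel hcI hcO ((Scheme.Modules.pushforward i).map ι)
        have hpQ := (ihd _ hcQ hsQ).mono (Nat.le_succ d)
        have hmono : Mono ((Scheme.Modules.pushforward i).map ι) := inferInstance
        have hadd := chiF_add k (r + 1) L hL _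
          (shortExact_cokernel ((Scheme.Modules.pushforward i).map ι)) hcI hcO hcQ
        refine (hO.sub hpQ).congr fun n => ?_
        have h1 := hadd n
        change chiF k (r + 1) L ((Scheme.Modules.pushforward i).obj (Coh.structureModule Z)) n =
          chiF k (r + 1) L ((Scheme.Modules.pushforward i).obj I) n +
            chiF k (r + 1) L (cokernel ((Scheme.Modules.pushforward i).map ι)) n at h1
        rw [h1]
        change _ = chiF k (r + 1) L ((Scheme.Modules.pushforward i).obj I) n
        ring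

/-- **Snapper's theorem** in the prelude's terms. -/
theorem snapper (F : X.Modules) (hF : Coh.IsCoh F) (d : ℕ)
    (hsupp : topologicalKrullDim (CohB1.support F) ≤ d)
    (r : ℕ) (L : Fin r → X.Modules) (hL : ∀ i, PicF.IsInvertible (L i)) :
    ∃ P : MvPolynomial (Fin r) ℚ, P.totalDegree ≤ d ∧
      ∀ n : Fin r → ℕ, (Curv2.euler k X (Curv2.tensorPows F r L n) : ℚ) =
        MvPolynomial.eval (fun i => (n i : ℚ)) P := by
  obtain ⟨P, hP, he⟩ := snapper_lt k r L hL (d + 1) F hF
    (smallSupp_of_support F hF (d + 1) (withBot_lt_succ_of_le hsupp))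
  refine ⟨P, hP.totalDegree_le, fun n => ?_⟩
  rw [← he n, ← twF_obj]
  rfl

end main

end Groth.Agent.R2.H62.Snapper
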