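import Mathlib
import Groth.Prelude.Def_FGA
import Groth.Agent.R2.H62SnapMain
import Groth.Agent.S0458

/-!
# Snapper's theorem in the FGA conventions (helper62, PROJ:snapper)

* `eulerCharLE_eq_euler`: on a Noetherian scheme of dimension `≤ d`, the truncated Euler characteristic is the Euler
  characteristic (Grothendieck vanishing, S0458);
* `nonempty_multiTwist_tensor_iso`: `multiTwist L m ⊗ F ≅ tensorPows F n L m`.
-/

set_option autoImplicit false
universe u
open CategoryTheory CategoryTheory.Limits AlgebraicGeometry

namespace Groth.Agent.R2.H62.Snapper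

open Groth.Agent.R2.H79.TwistCalc

section vanish

variable (k : Type u) [Field k] {X : Scheme.{u}} [X.Over (Spec (CommRingCat.of k))]

theorem subsingleton_HH_of_dim_lt [IsNoetherian X] (d : ℕ) (hd : topologicalKrullDim X ≤ d)
    (M : X.Modules) (p : ℕ) (hp : d < p) : Subsingleton (Coh.HH X M p) := by
  have h : TopologicalSpace.NoetherianSpace X := inferInstance
  exact @Groth.Agent.S0458.result X.toTopCat h d hd (Coh.toAb M) p hp

theorem eulerCharLE_eq_euler [IsNoetherian X] (d : ℕ) (hd : topologicalKrullDim X ≤ d)
    (M : X.Modules) : FGA.eulerCharLE k X M d = Curv2.euler k X M := by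
  unfold FGA.eulerCharLE Curv2.euler
  symm
  refine finsum_eq_sum_of_support_subset _ fun i hi => ?_
  rw [Function.mem_support] at hi
  rw [Finset.coe_range, Set.mem_Iio]
  by_contra hlt
  have h1 : d < i := by omega
  have := subsingleton_HH_of_dim_lt d hd M i h1
  apply hi
  rw [Module.finrank_zero_of_subsingleton]
  simp

end vanish

section iso

variable {X : Scheme.{u}}

/-- left-nested tensor product of a list, starting from `F` -/
noncomputable def foldT (F : X.Modules) (l : List X.Modules) : X.Modules :=
  l.foldl (fun acc M => CohB1.tensorMod acc M) F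

theorem foldT_nil (F : X.Modules) : foldT F [] = F := rfl

theorem foldT_cons (F M : X.Modules) (l : List X.Modules) :
    foldT F (M :: l) = foldT (CohB1.tensorMod F M) l := rfl

theorem foldT_append_singleton (F M : X.Modules) (l : List X.Modules) :
    foldT F (l ++ [M]) = CohB1.tensorMod (foldT F l) M := by
  unfold foldT
  rw [List.foldl_append]
  rfl

theorem tensorPows_eq_foldT : ∀ (n : ℕ) (L : Fin n → X.Modules) (m : Fin n → ℕ) (F : X.Modules),
    Curv2.tensorPows F n L m = foldT F ((List.finRange n).map fun i => CohB1.tensorPow (L i) (m i))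
  | 0, _, _, _ => rfl
  | n + 1, L, m, F => by
    rw [List.finRange_succ_last, List.map_append, List.map_map, List.map_singleton,
      foldT_append_singleton]
    change CohB1.tensorMod (Curv2.tensorPows F n _ _) _ = _
    rw [tensorPows_eq_foldT n]
    rfl

theorem nonempty_foldT_iso : ∀ (l : List X.Modules) (F : X.Modules),
    Nonempty (foldT F l ≅ CohB1.tensorMod (FGA.tensorList l) F)
  | [], F => by
    change Nonempty (F ≅ CohB1.tensorMod (Coh.structureModule X) F)
    exact ⟨(tensorRightFUnit.app F).symm ≪≫ brdIso F (Coh.structureModule X)⟩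
  | M :: l, F => by
    obtain ⟨e⟩ := nonempty_foldT_iso l (CohB1.tensorMod F M)
    rw [foldT_cons]
    change Nonempty (_ ≅ CohB1.tensorMod (CohB1.tensorMod M (FGA.tensorList l)) F)
    exact ⟨e ≪≫ brdIso (FGA.tensorList l) (CohB1.tensorMod F M) ≪≫
      tensorAssocIso F M (FGA.tensorList l) ≪≫ brdIso F (CohB1.tensorMod M (FGA.tensorList l))⟩

theorem nonempty_multiTwist_tensor_iso {n : ℕ} (L : Fin n → X.Modules) (m : Fin n → ℕ) (F : X.Modules) :
    Nonempty (CohB1.tensorMod (FGA.multiTwist L m) F ≅ Curv2.tensorPows F n L m) := by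
  rw [tensorPows_eq_foldT]
  obtain ⟨e⟩ := nonempty_foldT_iso ((List.finRange n).map fun i => CohB1.tensorPow (L i) (m i)) F
  exact ⟨e.symm⟩

end iso

end Groth.Agent.R2.H62.Snapper
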