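import Mathlib
import Groth.Prelude.Def_FGA
import Groth.Agent.R2.H62SnapFGA
import Groth.Agent.R2.H62AltSum

/-!
# Intersection numbers `FGA.intNum` via Snapper polynomials (helper62, PROJ:snapper)

* `intNum_eq_altI`: `intNum k X d M F = Σ_I (-1)^{|I|} χ(F ⊗ M^{1_I})` in terms of `chiF`;
* `intNum_congr`, `intNum_cons` (`intNum (N, M) F = intNum M F - intNum M (N ⊗ F)`), `intNum_zero`;
* `intNum_eq_zero` : vanishing when `dim Supp F < r`.
-/

set_option autoImplicit false
universe u
open CategoryTheory CategoryTheory.Limits AlgebraicGeometry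

namespace Groth.Agent.R2.H62.Snapper

open Groth.Agent.R2.H79.TwistCalc

section lists

theorem sort_eq_filter_finRange {r : ℕ} (I : Finset (Fin r)) :
    I.sort (· ≤ ·) = (List.finRange r).filter (· ∈ I) := by
  refine (I.sortedLT_sort).eq_of_mem_iff
    (((List.sortedLT_finRange r).pairwise.filter _).sortedLT) fun a => ?_
  simp

variable {X : Scheme.{u}}

/-- left unit -/
noncomputable def tensorUnitLeftIso (A : X.Modules) : CohB1.tensorMod (Coh.structureModule X) A ≅ A :=
  brdIso (Coh.structureModule X) A ≪≫ tensorRightFUnit.app A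

theorem nonempty_tensorList_filter_iso {r : ℕ} (M : Fin r → X.Modules) (I : Finset (Fin r)) :
    ∀ l : List (Fin r), Nonempty (FGA.tensorList (l.map fun i => CohB1.tensorPow (M i) (ind I i)) ≅
      FGA.tensorList ((l.filter (· ∈ I)).map M))
  | [] => ⟨Iso.refl _⟩
  | i :: l => by
    obtain ⟨e⟩ := nonempty_tensorList_filter_iso M I l
    by_cases hi : i ∈ I
    · have h1 : ind I i = 1 := by simp [ind, hi]
      have h2 : (i :: l).filter (· ∈ I) = i :: l.filter (· ∈ I) := by simp [hi]
      rw [h2, List.map_cons, List.map_cons, h1]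
      change Nonempty (CohB1.tensorMod (CohB1.tensorMod (Coh.structureModule X) (M i)) _ ≅
        CohB1.tensorMod (M i) _)
      exact ⟨tensorIsoRight (tensorUnitLeftIso (M i)) _ ≪≫ tensorIsoLeft (M i) e⟩
    · have h1 : ind I i = 0 := by simp [ind, hi]
      have h2 : (i :: l).filter (· ∈ I) = l.filter (· ∈ I) := by simp [hi]
      rw [h2, List.map_cons, h1]
      change Nonempty (CohB1.tensorMod (Coh.structureModule X) _ ≅ _)
      exact ⟨tensorUnitLeftIso _ ≪≫ e⟩

/-- the summand of `intNum` as a twist -/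
theorem nonempty_tensorList_sort_iso {r : ℕ} (M : Fin r → X.Modules) (I : Finset (Fin r))
    (F : X.Modules) :
    Nonempty (CohB1.tensorMod (FGA.tensorList ((I.sort (· ≤ ·)).map M)) F ≅
      Curv2.tensorPows F r M (ind I)) := by
  obtain ⟨e1⟩ := nonempty_multiTwist_tensor_iso M (ind I) F
  obtain ⟨e2⟩ := nonempty_tensorList_filter_iso M I (List.finRange r)
  rw [sort_eq_filter_finRange]
  exact ⟨tensorIsoRight e2.symm F ≪≫ e1⟩

theorem tensorPows_cons : ∀ (r : ℕ) (N : X.Modules) (M : Fin r → X.Modules) (e : ℕ) (n : Fin r → ℕ)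
    (F : X.Modules),
    Curv2.tensorPows F (r + 1) (Fin.cons N M) (Fin.cons e n) =
      Curv2.tensorPows (CohB1.tensorMod F (CohB1.tensorPow N e)) r M n
  | 0, N, M, e, n, F => rfl
  | r + 1, N, M, e, n, F => by
    have h1 : (fun i : Fin (r + 1) => (Fin.cons N M : Fin (r + 2) → X.Modules) i.castSucc) =
        Fin.cons N (fun i : Fin r => M i.castSucc) := by
      funext i
      refine Fin.cases ?_ (fun j => ?_) i
      · rfl
      · simp
    have h2 : (fun i : Fin (r + 1) => (Fin.cons e n : Fin (r + 2) → ℕ) i.castSucc) =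
        Fin.cons e (fun i : Fin r => n i.castSucc) := by
      funext i
      refine Fin.cases ?_ (fun j => ?_) i
      · rfl
      · simp
    have h3 : (Fin.cons N M : Fin (r + 2) → X.Modules) (Fin.last (r + 1)) = M (Fin.last r) := by
      rw [← Fin.succ_last, Fin.cons_succ]
    have h4 : (Fin.cons e n : Fin (r + 2) → ℕ) (Fin.last (r + 1)) = n (Fin.last r) := by
      rw [← Fin.succ_last, Fin.cons_succ]
    change CohB1.tensorMod (Curv2.tensorPows F (r + 1) _ _) (CohB1.tensorPow _ _) =
      CohB1.tensorMod (Curv2.tensorPows _ r _ _) (CohB1.tensorPow _ _)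
    rw [h1, h2, h3, h4, tensorPows_cons r]

end lists

section intNum

variable (k : Type u) [Field k] {X : Scheme.{u}} [X.Over (Spec (CommRingCat.of k))]
  [IsProper (X ↘ (Spec (CommRingCat.of k)))]

/-- `intNum` as an alternating sum of values of `chiF` -/
theorem intNum_eq_altI (d : ℕ) (hd : topologicalKrullDim X ≤ d) {r : ℕ} (M : Fin r → X.Modules)
    (F : X.Modules) : FGA.intNum k X d M F = altI r (chiF k r M F) := by
  have hXN : IsNoetherian X := isNoetherian_of_isProper k
  unfold FGA.intNum altI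
  refine Finset.sum_congr rfl fun I _ => ?_
  congr 1
  rw [eulerCharLE_eq_euler k d hd]
  obtain ⟨e⟩ := nonempty_tensorList_sort_iso M I F
  rw [euler_congr k e, ← twF_obj]
  rfl

omit [IsProper (X ↘ (Spec (CommRingCat.of k)))] in
theorem chiF_cons (r : ℕ) (N : X.Modules) (M : Fin r → X.Modules) (F : X.Modules) (e : ℕ)
    (n : Fin r → ℕ) :
    chiF k (r + 1) (Fin.cons N M) F (Fin.cons e n) =
      chiF k r M (CohB1.tensorMod F (CohB1.tensorPow N e)) n := by
  unfold chiF
  rw [twF_obj, twF_obj, tensorPows_cons]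

theorem intNum_congr (d : ℕ) (hd : topologicalKrullDim X ≤ d) {r : ℕ} (M : Fin r → X.Modules)
    {F F' : X.Modules} (e : F ≅ F') : FGA.intNum k X d M F = FGA.intNum k X d M F' := by
  rw [intNum_eq_altI k d hd, intNum_eq_altI k d hd]
  exact altI_congr fun n => chiF_iso k r M e n

/-- `intNum (N, M_1, …, M_r) F = intNum M F - intNum M (N ⊗ F)` -/
theorem intNum_cons (d : ℕ) (hd : topologicalKrullDim X ≤ d) {r : ℕ} (N : X.Modules)
    (M : Fin r → X.Modules) (F : X.Modules) :
    FGA.intNum k X d (Fin.cons N M : Fin (r + 1) → X.Modules) F =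
      FGA.intNum k X d M F - FGA.intNum k X d M (CohB1.tensorMod N F) := by
  rw [intNum_eq_altI k d hd, intNum_eq_altI k d hd, intNum_eq_altI k d hd, altI_succ]
  congr 1
  · refine altI_congr fun n => ?_
    have h := chiF_cons k r N M F 0 n
    rw [h]
    exact chiF_iso k r M (tensorRightFUnit.app F) n
  · refine altI_congr fun n => ?_
    have h := chiF_cons k r N M F 1 n
    rw [h]
    refine chiF_iso k r M ?_ n
    exact tensorIsoLeft F (tensorUnitLeftIso N) ≪≫ brdIso F N

theorem intNum_zero (d : ℕ) (hd : topologicalKrullDim X ≤ d) (M : Fin 0 → X.Modules) (F : X.Modules) :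
    FGA.intNum k X d M F = Curv2.euler k X F := by
  rw [intNum_eq_altI k d hd, altI_zero]
  rfl

/-- **vanishing**: `intNum M F = 0` if `dim Supp F < r`. -/
theorem intNum_eq_zero (d : ℕ) (hd : topologicalKrullDim X ≤ d) {r : ℕ} (M : Fin r → X.Modules)
    (hM : ∀ i, PicF.IsInvertible (M i)) (F : X.Modules) (hF : Coh.IsCoh F)
    (hr : topologicalKrullDim (CohB1.support F) < r) : FGA.intNum k X d M F = 0 := by
  rw [intNum_eq_altI k d hd]
  exact altI_eq_zero_of_isNumPolyLT (snapper_lt k r M hM r F hF (smallSupp_of_support F hF r hr))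

end intNum

end Groth.Agent.R2.H62.Snapper
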