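import Mathlib

/-!
# Newton's backward difference expansion (helper62, PROJ:snapper)

`newton_backward`: if `u (i+1) (m+1) = u i (m+1) - u i m` and `u (r+1) = 0`, then
`u 0 m = Σ_{i ≤ r} C(m+i-1, i) · u i 0`.
-/

set_option autoImplicit false
open Finset

namespace Groth.Agent.R2.H62.Snapper

/-- `C(m+i-1, i)` -/
def cB (m i : ℕ) : ℕ := (m + i - 1).choose i

theorem cB_zero_right (m : ℕ) : cB m 0 = 1 := by simp [cB]

theorem cB_zero_succ (i : ℕ) : cB 0 (i + 1) = 0 := by
  unfold cB
  have : 0 + (i + 1) - 1 = i := by omega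
  rw [this]
  exact Nat.choose_succ_self i

theorem cB_succ_succ (m i : ℕ) : cB (m + 1) (i + 1) = cB m (i + 1) + cB (m + 1) i := by
  unfold cB
  have h1 : m + 1 + (i + 1) - 1 = (m + i) + 1 := by omega
  have h2 : m + (i + 1) - 1 = m + i := by omega
  have h3 : m + 1 + i - 1 = m + i := by omega
  rw [h1, h2, h3, Nat.choose_succ_succ, add_comm]

theorem newton_backward_aux (r : ℕ) (u : ℕ → ℕ → ℤ)
    (hrec : ∀ i m, u (i + 1) (m + 1) = u i (m + 1) - u i m)
    (hvan : ∀ m, u (r + 1) m = 0) :
    ∀ m t j, j + t = r + 1 → u j m = ∑ i ∈ range t, (cB m i : ℤ) * u (j + i) 0 := by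
  intro m
  induction m with
  | zero =>
    intro t j hjt
    cases t with
    | zero =>
      have : j = r + 1 := by omega
      rw [this, hvan]; simp
    | succ t =>
      rw [Finset.sum_range_succ', cB_zero_right]
      have : ∑ i ∈ range t, (cB 0 (i + 1) : ℤ) * u (j + (i + 1)) 0 = 0 :=
        Finset.sum_eq_zero fun i _ => by rw [cB_zero_succ]; simp
      rw [this]
      simp
  | succ m ihm =>
    intro t
    induction t with
    | zero =>
      intro j hjt
      have : j = r + 1 := by omega
      rw [this, hvan]; simp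
    | succ t iht =>
      intro j hjt
      have h1 : u j (m + 1) = u j m + u (j + 1) (m + 1) := by
        rw [hrec j m]; ring
      have h2 := ihm (t + 1) j hjt
      have h3 := iht (j + 1) (by omega)
      rw [h1, h2, h3, Finset.sum_range_succ' _ t, Finset.sum_range_succ' _ t, cB_zero_right,
        cB_zero_right]
      have h4 : ∀ i ∈ range t, (cB (m + 1) (i + 1) : ℤ) * u (j + (i + 1)) 0 =
          (cB m (i + 1) : ℤ) * u (j + (i + 1)) 0 + (cB (m + 1) i : ℤ) * u (j + 1 + i) 0 := by
        intro i _
        rw [cB_succ_succ]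
        push_cast
        have : j + 1 + i = j + (i + 1) := by omega
        rw [this]
        ring
      rw [Finset.sum_congr rfl h4, Finset.sum_add_distrib]
      ring

/-- **Newton's backward difference expansion** -/
theorem newton_backward (r : ℕ) (u : ℕ → ℕ → ℤ)
    (hrec : ∀ i m, u (i + 1) (m + 1) = u i (m + 1) - u i m)
    (hvan : ∀ m, u (r + 1) m = 0) (m : ℕ) :
    u 0 m = ∑ i ∈ range (r + 1), ((m + i - 1).choose i : ℤ) * u i 0 := by
  have h := newton_backward_aux r u hrec hvan m (r + 1) 0 (by omega)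
  rw [h]
  refine Finset.sum_congr rfl fun i _ => ?_
  rw [zero_add]
  rfl

end Groth.Agent.R2.H62.Snapper
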