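import Mathlib
import Groth.Agent.R2.H62IntNum
import Groth.Agent.R2.H62Newton
import Groth.Agent.Lib.Helper2TensorInv
import Groth.Agent.Lib.Helper1KBC3
set_option backward.isDefEq.respectTransparency.types false

/-!
# `χ(L^m ⊗ F)` in terms of intersection numbers (helper62, PROJ:snapper)
-/

set_option autoImplicit false
universe u
open CategoryTheory CategoryTheory.Limits AlgebraicGeometry TensorProduct

namespace Groth.Agent.R2.H62.Snapper

open Groth.Agent.R2.H79.TwistCalc

section support

open Groth.Agent.Lib.Helper1 Groth.Agent.Lib.Helper1.KBC Groth.Agent.Lib.Helper1.StalkTensor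
  Groth.Agent.Lib.Helper1.Sky

theorem support_tensorMod_subset {X : Scheme.{u}} (A F : X.Modules) :
    CohB1.support (CohB1.tensorMod A F) ⊆ CohB1.support F := by
  intro x hx hF
  apply hx
  have hF' : Subsingleton (St (toPM F) x) := hF
  have e := stalkTensorEquiv x A F
  have : Subsingleton (St (toPM A) x ⊗[Sky.Ox x] St (toPM F) x) := by
    refine ⟨fun a b => ?_⟩
    have h0 : ∀ z : St (toPM A) x ⊗[Sky.Ox x] St (toPM F) x, z = 0 := by
      intro z
      induction z using TensorProduct.induction_on with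
      | zero => rfl
      | tmul m n => rw [Subsingleton.elim n 0, TensorProduct.tmul_zero]
      | add z w hz hw => rw [hz, hw, add_zero]
    rw [h0 a, h0 b]
  exact e.toEquiv.subsingleton

end support

section main

variable (k : Type u) [Field k] {X : Scheme.{u}} [X.Over (Spec (CommRingCat.of k))]
  [IsProper (X ↘ (Spec (CommRingCat.of k)))]

/-- `M ⊗ (L^{m+1} ⊗ F) ≅ L^m ⊗ F` when `L ⊗ M ≅ O` -/
noncomputable def cancelIso (L M : X.Modules) (e : CohB1.tensorMod L M ≅ Coh.structureModule X)
    (F : X.Modules) (m : ℕ) :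
    CohB1.tensorMod M (CohB1.tensorMod (CohB1.tensorPow L (m + 1)) F) ≅
      CohB1.tensorMod (CohB1.tensorPow L m) F :=
  (tensorAssocIso M (CohB1.tensorPow L (m + 1)) F).symm ≪≫
    tensorIsoRight (brdIso M (CohB1.tensorMod (CohB1.tensorPow L m) L) ≪≫
      tensorAssocIso (CohB1.tensorPow L m) L M ≪≫ tensorIsoLeft (CohB1.tensorPow L m) e ≪≫
      tensorRightFUnit.app (CohB1.tensorPow L m)) F

theorem eulerCharLE_tensorPow_eq (d : ℕ) (hd : topologicalKrullDim X ≤ d)
    (L M : X.Modules) (hL : PicF.IsInvertible L)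
    (hLM : Nonempty (CohB1.tensorMod L M ≅ Coh.structureModule X))
    (F : X.Modules) (hF : Coh.IsCoh F) (r : ℕ) (hr : topologicalKrullDim (CohB1.support F) ≤ r) (m : ℕ) :
    FGA.eulerCharLE k X (CohB1.tensorMod (CohB1.tensorPow L m) F) d =
      (Finset.range (r + 1)).sum (fun i => ((m + i - 1).choose i : ℤ) *
        FGA.intNum k X d (fun _ : Fin i => M) F) := by
  have hXN : IsNoetherian X := isNoetherian_of_isProper k
  obtain ⟨e⟩ := hLM
  have hM : PicF.IsInvertible M :=
    Groth.Agent.Lib.Helper2.TensorInv.isInvertible_of_tensor_iso M L (brdIso M L ≪≫ e)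
  let u : ℕ → ℕ → ℤ := fun i m =>
    FGA.intNum k X d (fun _ : Fin i => M) (CohB1.tensorMod (CohB1.tensorPow L m) F)
  have hrec : ∀ i m, u (i + 1) (m + 1) = u i (m + 1) - u i m := by
    intro i m
    have hc : (fun _ : Fin (i + 1) => M) = (Fin.cons M (fun _ : Fin i => M) : Fin (i + 1) → X.Modules) := by
      funext j
      refine Fin.cases ?_ (fun _ => ?_) j <;> rfl
    change FGA.intNum k X d (fun _ : Fin (i + 1) => M) _ = _
    rw [hc, intNum_cons k d hd]
    congr 1
    exact intNum_congr k d hd _ (cancelIso L M e F m)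
  have hvan : ∀ m, u (r + 1) m = 0 := by
    intro m
    have hcoh : Coh.IsCoh (CohB1.tensorMod (CohB1.tensorPow L m) F) := by
      refine Groth.Agent.R2.H54.RelSerreA.isCoh_of_iso (brdIso F (CohB1.tensorPow L m)) ?_
      exact isCoh_tensorMod F _ hF (Groth.Agent.Lib.Helper23.SecTw.isInvertible_tensorPow hL m)
    refine intNum_eq_zero k d hd _ (fun _ => hM) _ hcoh ?_
    exact lt_of_le_of_lt (topologicalKrullDim_mono (support_tensorMod_subset _ F))
      (withBot_lt_succ_of_le hr)
  have h0 : u 0 m = FGA.eulerCharLE k X (CohB1.tensorMod (CohB1.tensorPow L m) F) d := by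
    change FGA.intNum k X d _ _ = _
    rw [intNum_zero k d hd, eulerCharLE_eq_euler k d hd]
  have hi0 : ∀ i, u i 0 = FGA.intNum k X d (fun _ : Fin i => M) F := fun i =>
    intNum_congr k d hd _ (tensorUnitLeftIso F)
  rw [← h0, newton_backward r u hrec hvan m]
  refine Finset.sum_congr rfl fun i _ => ?_
  rw [hi0]

end main

end Groth.Agent.R2.H62.Snapper
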