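import Mathlib
import Groth.Agent.R2.H62IntNum2
import Groth.Agent.R2.H70EdgeLin
import Groth.Agent.S0028

/-!
# Euler characteristics along closed immersions; the linear coefficient (helper62, PROJ:snapper)

* `euler_push`: `χ(X, i_* G) = χ(Z, G)` for an affine morphism `i : Z ⟶ X` and `G` quasi-coherent;
* `cast_altI_eq`: `altI r f = (-1)^r · altSum P` for `f` given by the polynomial `P`.
-/

set_option autoImplicit false
universe u
open CategoryTheory CategoryTheory.Limits AlgebraicGeometry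

namespace Groth.Agent.R2.H62.Snapper

section push

variable (k : Type u) [Field k] {X : Scheme.{u}} [X.Over (Spec (CommRingCat.of k))]

theorem euler_push {Z : Scheme.{u}} (i : Z ⟶ X) [IsAffineHom i] (G : Z.Modules) (hG : Coh.IsQCoh G) :
    Curv2.euler k X ((Coh.push i).obj G) =
      @Curv2.euler k _ Z ⟨i ≫ (X ↘ (Spec (CommRingCat.of k)))⟩ G := by
  letI : Z.Over (Spec (CommRingCat.of k)) := ⟨i ≫ (X ↘ (Spec (CommRingCat.of k)))⟩
  haveI : i.IsOver (Spec (CommRingCat.of k)) := ⟨rfl⟩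
  haveI : Coh.IsQCoh G := hG
  unfold Curv2.euler
  refine finsum_congr fun p => ?_
  obtain ⟨e⟩ := Groth.Agent.R2.H70.Edge.lerayLinear k Z X i G
    (fun q hq => Groth.Agent.S0028.result i G q hq) p
  rw [LinearEquiv.finrank_eq e]

end push

section alt

open MvPolynomial

theorem cast_altI_eq {r : ℕ} {f : (Fin r → ℕ) → ℤ} (P : MvPolynomial (Fin r) ℚ)
    (he : ∀ n : Fin r → ℕ, (f n : ℚ) = eval (fun i => (n i : ℚ)) P) :
    ((altI r f : ℤ) : ℚ) = (-1 : ℚ) ^ r * altSum P := by
  unfold altI altSum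
  push_cast
  rw [Finset.mul_sum]
  refine (Fintype.sum_equiv (Equiv.ofBijective (fun I : Finset (Fin r) => Iᶜ)
    (compl_involutive.bijective)) _ _ fun I => ?_)
  change (-1 : ℚ) ^ I.card * ((f (ind I) : ℤ) : ℚ) = (-1 : ℚ) ^ r * ((-1 : ℚ) ^ (Iᶜ).card *
    eval (fun i => ((indCompl Iᶜ i : ℕ) : ℚ)) P)
  rw [← ind_compl, compl_compl, he (ind I), ← mul_assoc]
  congr 1
  have hc : (Iᶜ).card + I.card = r := by
    rw [Finset.card_compl, Fintype.card_fin]
    have := Finset.card_le_univ I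
    rw [Fintype.card_fin] at this
    omega
  rw [← pow_add]
  have : r + (Iᶜ).card = 2 * (Iᶜ).card + I.card := by omega
  rw [this, pow_add, pow_mul]
  simp

/-- the coefficient of `x_1 ⋯ x_r` of a polynomial of degree `≤ r` in `r` variables, via `altI` -/
theorem coeff_ones_eq_altI {r : ℕ} {f : (Fin r → ℕ) → ℤ} (P : MvPolynomial (Fin r) ℚ)
    (hP : DegLT P (r + 1))
    (he : ∀ n : Fin r → ℕ, (f n : ℚ) = eval (fun i => (n i : ℚ)) P) :
    coeff (Finsupp.equivFunOnFinite.symm fun _ : Fin r => 1) P = (-1 : ℚ) ^ r * ((altI r f : ℤ) : ℚ) := by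
  rw [cast_altI_eq P he, ← mul_assoc, ← pow_add, ← two_mul, pow_mul]
  simp only [neg_one_sq, one_pow, one_mul]
  refine coeff_ones_eq_altSum P ?_
  rw [Fintype.card_fin]
  exact hP

end alt

end Groth.Agent.R2.H62.Snapper
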