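import Mathlib
import Groth.Agent.R2.H20CurveDeg
import Groth.Agent.R2.H54AmpleA1
import Groth.Agent.R2.H62IntNum3
import Groth.Agent.R2.H62SnapDev
import Groth.Agent.Lib.Helper26ModRank
import Groth.Agent.S1526

/-!
# `χ(E ⊗ V ⊗ F)` on proper schemes of dimension `≤ 1`, not necessarily integral (helper20)

For `X` proper over `k` of dimension `≤ 1` and `E`, `V` finite locally free of ranks `n`, `m` the defect
`ψ(F) = χ(E ⊗ (V ⊗ F)) - n χ(V ⊗ F) - m χ(E ⊗ F) + n m χ(F)` vanishes for every coherent `F`
(`psi_eq_zero`).  Proof: dévissage (helper62 `devissage_ideal`) to `i_* I` for `I` an ideal of an integral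
closed subscheme `i : Z ⟶ X`; projection formula (helper54) and `χ(X, i_* G) = χ(Z, G)` (helper62) reduce to `Z`,
where `I ⊆ O_Z` has torsion cokernel and the case of `O_Z` is the integral case `euler_tensor'`.
-/

set_option autoImplicit false
set_option linter.style.haveILetI false
universe u
open CategoryTheory CategoryTheory.Limits AlgebraicGeometry

namespace Groth.Agent.R2.H20.CurveTens2

open Groth.Agent.R2.H62.CurveCore Groth.Agent.R2.H62.CohLES Groth.Agent.R2.H62.CurveInv
open Groth.Agent.R2.H79.TwistCalc Groth.Agent.R2.H20.LocFreeRank Groth.Agent.R2.H20.CurveTens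
open Groth.Agent.R2.H20.CurveDeg Groth.Agent.Lib.Helper4.NormDelta

section Supp

variable {X : Scheme.{u}}

theorem subsingleton_stalk_of_iso {M N : X.Modules} (e : M ≅ N) (x : X)
    (h : Subsingleton (M.presheaf.stalk x)) : Subsingleton (N.presheaf.stalk x) := by
  refine ⟨fun a b => ?_⟩
  have key : ∀ z : N.presheaf.stalk x, z = stalkLin e.hom x (stalkLin e.inv x z) := by
    intro z
    rw [← stalkLin_comp_apply, e.inv_hom_id]
    obtain ⟨V, hxV, t, rfl⟩ := N.presheaf.exists_germ_eq z
    rw [stalkLin_germ]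
    rfl
  rw [key a, key b, Subsingleton.elim (stalkLin e.inv x a) (stalkLin e.inv x b)]

theorem support_congr {M N : X.Modules} (e : M ≅ N) : CohB1.support M = CohB1.support N := by
  ext x
  exact not_congr ⟨subsingleton_stalk_of_iso e x, subsingleton_stalk_of_iso e.symm x⟩

end Supp

section Defs

variable (k : Type u) [Field k] {X : Scheme.{u}} [X.Over (Spec (CommRingCat.of k))]

/-- the defect `χ(E ⊗ (V ⊗ F)) - n χ(V ⊗ F) - m χ(E ⊗ F) + n m χ(F)` -/
noncomputable def psi (n m : ℕ) (E V F : X.Modules) : ℤ :=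
  Curv2.euler k X (CohB1.tensorMod E (CohB1.tensorMod V F)) -
    n * Curv2.euler k X (CohB1.tensorMod V F) - m * Curv2.euler k X (CohB1.tensorMod E F) +
    n * m * Curv2.euler k X F

theorem psi_congr (n m : ℕ) (E V : X.Modules) {F F' : X.Modules} (e : F ≅ F') :
    psi k n m E V F = psi k n m E V F' := by
  unfold psi
  have h1 : Curv2.euler k X (CohB1.tensorMod E (CohB1.tensorMod V F)) =
      Curv2.euler k X (CohB1.tensorMod E (CohB1.tensorMod V F')) :=
    euler_congr (k := k) ((tensorLeftF E).mapIso ((tensorLeftF V).mapIso e))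
  have h2 : Curv2.euler k X (CohB1.tensorMod V F) = Curv2.euler k X (CohB1.tensorMod V F') :=
    euler_congr (k := k) ((tensorLeftF V).mapIso e)
  have h3 : Curv2.euler k X (CohB1.tensorMod E F) = Curv2.euler k X (CohB1.tensorMod E F') :=
    euler_congr (k := k) ((tensorLeftF E).mapIso e)
  rw [h1, h2, h3, euler_congr (k := k) e]

theorem psi_zero (n m : ℕ) (E V : X.Modules) {F : X.Modules} (hF : IsZero F) :
    psi k n m E V F = 0 := by
  unfold psi
  have h2 : IsZero (CohB1.tensorMod V F) := (tensorLeftF V).map_isZero hF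
  have h1 : IsZero (CohB1.tensorMod E (CohB1.tensorMod V F)) := (tensorLeftF E).map_isZero h2
  have h3 : IsZero (CohB1.tensorMod E F) := (tensorLeftF E).map_isZero hF
  rw [euler_of_isZero h1, euler_of_isZero h2, euler_of_isZero h3, euler_of_isZero hF]
  simp

end Defs

section Proper

variable {k : Type u} [Field k] {X : Scheme.{u}} [X.Over (Spec (CommRingCat.of k))]
  [IsProper (X ↘ Spec (CommRingCat.of k))]

theorem psi_additive (hfin : HFin k X) {n m : ℕ} {E V : X.Modules}
    (hE : FlatMod.IsFinLocFreeOfRank n E) (hV : FlatMod.IsFinLocFreeOfRank m V)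
    (S : ShortComplex X.Modules) (hS : S.ShortExact)
    (h₁ : Coh.IsCoh S.X₁) (h₂ : Coh.IsCoh S.X₂) (h₃ : Coh.IsCoh S.X₃) :
    psi k n m E V S.X₂ = psi k n m E V S.X₁ + psi k n m E V S.X₃ := by
  haveI := compactSpace_of_isProper k X
  haveI := quasiSeparatedSpace_of_isProper k X
  have hEc := isCoh_of_isFinLocFreeOfRank hE
  have hVc := isCoh_of_isFinLocFreeOfRank hV
  have hSV := shortExact_map_tensorLeftF V hV S hS
  have e1 := euler_additive_of_hfin hfin S hS h₁ h₂ h₃
  have e2 := euler_additive_of_hfin hfin (S.map (tensorLeftF V)) hSV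
    (isCoh_tensorMod' hVc h₁) (isCoh_tensorMod' hVc h₂) (isCoh_tensorMod' hVc h₃)
  have e3 := euler_additive_of_hfin hfin (S.map (tensorLeftF E))
    (shortExact_map_tensorLeftF E hE S hS) (isCoh_tensorMod' hEc h₁) (isCoh_tensorMod' hEc h₂)
    (isCoh_tensorMod' hEc h₃)
  have e4 := euler_additive_of_hfin hfin ((S.map (tensorLeftF V)).map (tensorLeftF E))
    (shortExact_map_tensorLeftF E hE _ hSV)
    (isCoh_tensorMod' hEc (isCoh_tensorMod' hVc h₁)) (isCoh_tensorMod' hEc (isCoh_tensorMod' hVc h₂))
    (isCoh_tensorMod' hEc (isCoh_tensorMod' hVc h₃))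
  have e2' : Curv2.euler k X (CohB1.tensorMod V S.X₂) =
      Curv2.euler k X (CohB1.tensorMod V S.X₁) + Curv2.euler k X (CohB1.tensorMod V S.X₃) := e2
  have e3' : Curv2.euler k X (CohB1.tensorMod E S.X₂) =
      Curv2.euler k X (CohB1.tensorMod E S.X₁) + Curv2.euler k X (CohB1.tensorMod E S.X₃) := e3
  have e4' : Curv2.euler k X (CohB1.tensorMod E (CohB1.tensorMod V S.X₂)) =
      Curv2.euler k X (CohB1.tensorMod E (CohB1.tensorMod V S.X₁)) +
        Curv2.euler k X (CohB1.tensorMod E (CohB1.tensorMod V S.X₃)) := e4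
  unfold psi
  rw [e1, e2', e3', e4']
  ring

/-- the defect vanishes on coherent modules with zero-dimensional support -/
theorem psi_tors {n m : ℕ} {E V : X.Modules}
    (hE : FlatMod.IsFinLocFreeOfRank n E) (hV : FlatMod.IsFinLocFreeOfRank m V)
    {F : X.Modules} (hF : Coh.IsCoh F) (hd : topologicalKrullDim (CohB1.support F) ≤ 0) :
    psi k n m E V F = 0 := by
  have hVc := isCoh_of_isFinLocFreeOfRank hV
  have hVF : Coh.IsCoh (CohB1.tensorMod V F) := isCoh_tensorMod' hVc hF
  have hd' : topologicalKrullDim (CohB1.support (CohB1.tensorMod V F)) ≤ 0 := by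
    refine le_trans (Groth.Agent.R2.H20.TorsTensor.topologicalKrullDim_mono ?_) hd
    rw [support_congr (tensorComm V F)]
    exact Groth.Agent.R2.H20.TorsTensor.support_tensorMod_subset F V
  have t1 : Curv2.euler k X (CohB1.tensorMod E F) = n * Curv2.euler k X F := by
    rw [euler_congr (k := k) (tensorComm E F)]
    exact Groth.Agent.S1558.result k X F hF hd n E hE
  have t2 : Curv2.euler k X (CohB1.tensorMod V F) = m * Curv2.euler k X F := by
    rw [euler_congr (k := k) (tensorComm V F)]
    exact Groth.Agent.S1558.result k X F hF hd m V hV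
  have t3 : Curv2.euler k X (CohB1.tensorMod E (CohB1.tensorMod V F)) =
      n * Curv2.euler k X (CohB1.tensorMod V F) := by
    rw [euler_congr (k := k) (tensorComm E (CohB1.tensorMod V F))]
    exact Groth.Agent.S1558.result k X _ hVF hd' n E hE
  unfold psi
  rw [t3, t1, t2]
  ring

end Proper

section Integral

variable {k : Type u} [Field k] {X : Scheme.{u}} [X.Over (Spec (CommRingCat.of k))]
  [IsIntegral X] [IsProper (X ↘ Spec (CommRingCat.of k))]

/-- the integral case for `F = O_X` (this is the integral case of `deg(E ⊗ V) = n deg V + m deg E`) -/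
theorem psi_unit (hdim : topologicalKrullDim X ≤ 1) (hfin : HFin k X) {n m : ℕ} {E V : X.Modules}
    (hE : FlatMod.IsFinLocFreeOfRank n E) (hV : FlatMod.IsFinLocFreeOfRank m V) :
    psi k n m E V (Coh.structureModule X) = 0 := by
  have hVc := isCoh_of_isFinLocFreeOfRank hV
  have h1 : Curv2.euler k X (CohB1.tensorMod E (CohB1.tensorMod V (Coh.structureModule X))) =
      Curv2.euler k X (CohB1.tensorMod E V) :=
    euler_congr (k := k) ((tensorLeftF E).mapIso (Groth.Agent.Lib.Helper23.TensorUnit.tensorUnitIso V))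
  have h2 : Curv2.euler k X (CohB1.tensorMod V (Coh.structureModule X)) = Curv2.euler k X V :=
    euler_congr (k := k) (Groth.Agent.Lib.Helper23.TensorUnit.tensorUnitIso V)
  have h3 : Curv2.euler k X (CohB1.tensorMod E (Coh.structureModule X)) = Curv2.euler k X E :=
    euler_congr (k := k) (Groth.Agent.Lib.Helper23.TensorUnit.tensorUnitIso E)
  have h4 := euler_tensor' hdim hfin n E hE V hVc
  rw [finrank_stalk hV] at h4
  unfold psi
  rw [h1, h2, h3, h4]
  unfold Curv2.deg
  ring

theorem psi_sub (hdim : topologicalKrullDim X ≤ 1) (hfin : HFin k X) {n m : ℕ} {E V : X.Modules}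
    (hE : FlatMod.IsFinLocFreeOfRank n E) (hV : FlatMod.IsFinLocFreeOfRank m V) {J : X.Modules}
    (ι : J ⟶ Coh.structureModule X) [Mono ι] (hJ : Coh.IsCoh J) : psi k n m E V J = 0 := by
  by_cases hξ : genericPoint X ∈ CohB1.support J
  · have hO : Coh.IsCoh (Coh.structureModule X) := Groth.Agent.R2.H5.CohThick.isCoh_structureModule X
    have hC : Coh.IsCoh (cokernel ι) := isCoh_cokernel hJ hO ι
    have hS := shortExact_cokernel ι
    have hadd := psi_additive hfin hE hV _ hS hJ hO hC
    have hr := rk_additive _ hS hO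
    simp only at hadd hr
    rw [rk_structureModule] at hr
    have hJpos : 0 < rk J := by
      unfold rk
      haveI := finite_stalk J hJ (genericPoint X)
      haveI : Nontrivial (J.presheaf.stalk (genericPoint X)) := not_subsingleton_iff_nontrivial.1 hξ
      exact Module.finrank_pos
    have hC0 : rk (cokernel ι) = 0 := by omega
    have hCξ : genericPoint X ∉ CohB1.support (cokernel ι) := by
      intro hmem
      haveI := finite_stalk (cokernel ι) hC (genericPoint X)
      haveI : Nontrivial ((cokernel ι).presheaf.stalk (genericPoint X)) :=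
        not_subsingleton_iff_nontrivial.1 hmem
      have : 0 < rk (cokernel ι) := Module.finrank_pos
      omega
    have hd : topologicalKrullDim (CohB1.support (cokernel ι)) ≤ 0 :=
      topologicalKrullDim_le_zero_of_isClosed_ne_univ hdim (Groth.Agent.S0020.result X _ hC.2)
        (fun huniv => hCξ (huniv ▸ Set.mem_univ _))
    rw [psi_tors hE hV hC hd, psi_unit hdim hfin hE hV] at hadd
    linarith
  · have hd : topologicalKrullDim (CohB1.support J) ≤ 0 :=
      topologicalKrullDim_le_zero_of_isClosed_ne_univ hdim (Groth.Agent.S0020.result X _ hJ.2)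
        (fun huniv => hξ (huniv ▸ Set.mem_univ _))
    exact psi_tors hE hV hJ hd

end Integral

section Push

variable {k : Type u} [Field k] {X : Scheme.{u}} [X.Over (Spec (CommRingCat.of k))]

/-- projection formula `H ⊗ i_* G ≅ i_* (i^* H ⊗ G)` for a closed immersion -/
noncomputable def pf {Z : Scheme.{u}} (i : Z ⟶ X) [IsClosedImmersion i] (H : X.Modules) (G : Z.Modules) :
    CohB1.tensorMod H ((Coh.push i).obj G) ≅
      (Coh.push i).obj (CohB1.tensorMod ((Scheme.Modules.pullback i).obj H) G) :=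
  tensorComm _ _ ≪≫ (Groth.Agent.R2.H54.AmpleA1.pushTensorPullIso i G H).symm ≪≫
    (Coh.push i).mapIso (tensorComm _ _)

theorem psi_push {n m : ℕ} {E V : X.Modules}
    (hE : FlatMod.IsFinLocFreeOfRank n E) (hV : FlatMod.IsFinLocFreeOfRank m V)
    {Z : Scheme.{u}} (i : Z ⟶ X) [IsClosedImmersion i] (G : Z.Modules) (hG : Coh.IsCoh G) :
    psi k n m E V ((Coh.push i).obj G) =
      @psi k _ Z ⟨i ≫ (X ↘ Spec (CommRingCat.of k))⟩ n m ((Scheme.Modules.pullback i).obj E)
        ((Scheme.Modules.pullback i).obj V) G := by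
  letI : Z.Over (Spec (CommRingCat.of k)) := ⟨i ≫ (X ↘ Spec (CommRingCat.of k))⟩
  haveI : E.IsQuasicoherent := (isCoh_of_isFinLocFreeOfRank hE).1
  haveI : V.IsQuasicoherent := (isCoh_of_isFinLocFreeOfRank hV).1
  have hE' := Groth.Agent.Lib.Helper26.ModRank.isFinLocFreeOfRank_pullback i E hE
  have hV' := Groth.Agent.Lib.Helper26.ModRank.isFinLocFreeOfRank_pullback i V hV
  have hEc := isCoh_of_isFinLocFreeOfRank hE'
  have hVc := isCoh_of_isFinLocFreeOfRank hV'
  have hVG := isCoh_tensorMod' hVc hG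
  have a1 : Curv2.euler k X (CohB1.tensorMod E ((Coh.push i).obj G)) =
      Curv2.euler k Z (CohB1.tensorMod ((Scheme.Modules.pullback i).obj E) G) :=
    (euler_congr (k := k) (pf i E G)).trans
      (Groth.Agent.R2.H62.Snapper.euler_push k i _ (isCoh_tensorMod' hEc hG).1)
  have a2 : Curv2.euler k X (CohB1.tensorMod V ((Coh.push i).obj G)) =
      Curv2.euler k Z (CohB1.tensorMod ((Scheme.Modules.pullback i).obj V) G) :=
    (euler_congr (k := k) (pf i V G)).trans
      (Groth.Agent.R2.H62.Snapper.euler_push k i _ hVG.1)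
  have a3 : Curv2.euler k X (CohB1.tensorMod E (CohB1.tensorMod V ((Coh.push i).obj G))) =
      Curv2.euler k Z (CohB1.tensorMod ((Scheme.Modules.pullback i).obj E)
        (CohB1.tensorMod ((Scheme.Modules.pullback i).obj V) G)) :=
    (euler_congr (k := k) ((tensorLeftF E).mapIso (pf i V G) ≪≫ pf i E _)).trans
      (Groth.Agent.R2.H62.Snapper.euler_push k i _ (isCoh_tensorMod' hEc hVG).1)
  have a4 : Curv2.euler k X ((Coh.push i).obj G) = Curv2.euler k Z G :=
    Groth.Agent.R2.H62.Snapper.euler_push k i G hG.1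
  unfold psi
  rw [a1, a2, a3, a4]

end Push

section Main

variable {k : Type u} [Field k] {X : Scheme.{u}} [X.Over (Spec (CommRingCat.of k))]
  [IsProper (X ↘ Spec (CommRingCat.of k))]

/-- **general CR2**: on a proper scheme of dimension `≤ 1` over a field, for `E`, `V` finite locally free of
ranks `n`, `m` and `F` coherent,
`χ(E ⊗ (V ⊗ F)) = n χ(V ⊗ F) + m χ(E ⊗ F) - n m χ(F)`. -/
theorem psi_eq_zero (hdim : topologicalKrullDim X ≤ 1)
    (hfinAll : ∀ (Z : Scheme.{u}) [Z.Over (Spec (CommRingCat.of k))]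
      [IsProper (Z ↘ Spec (CommRingCat.of k))], HFin k Z)
    {n m : ℕ} {E V : X.Modules}
    (hE : FlatMod.IsFinLocFreeOfRank n E) (hV : FlatMod.IsFinLocFreeOfRank m V)
    (F : X.Modules) (hF : Coh.IsCoh F) : psi k n m E V F = 0 := by
  haveI : IsLocallyNoetherian X :=
    LocallyOfFiniteType.isLocallyNoetherian (X ↘ Spec (CommRingCat.of k))
  haveI := compactSpace_of_isProper k X
  haveI : IsNoetherian X := { }
  haveI : E.IsQuasicoherent := (isCoh_of_isFinLocFreeOfRank hE).1
  haveI : V.IsQuasicoherent := (isCoh_of_isFinLocFreeOfRank hV).1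
  refine Groth.Agent.R2.H62.Snapper.devissage_ideal (fun M => psi k n m E V M = 0) ?_ ?_ ?_ ?_ F hF
  · rintro M N ⟨e⟩ hM
    rw [← psi_congr k n m E V e]
    exact hM
  · intro M hM
    exact psi_zero k n m E V hM
  · intro S hS h₁ h₂ h₃ p₁ p₃
    rw [psi_additive (hfinAll X) hE hV S hS h₁ h₂ h₃, p₁, p₃]
    rfl
  · intro Z i _ _ I ι _ hI _
    letI : Z.Over (Spec (CommRingCat.of k)) := ⟨i ≫ (X ↘ Spec (CommRingCat.of k))⟩
    haveI : IsProper (Z ↘ Spec (CommRingCat.of k)) := by
      change IsProper (i ≫ (X ↘ Spec (CommRingCat.of k)))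
      infer_instance
    haveI : IsLocallyNoetherian Z := LocallyOfFiniteType.isLocallyNoetherian i
    have hOZ : Coh.IsCoh (Coh.structureModule Z) := Groth.Agent.R2.H5.CohThick.isCoh_structureModule Z
    have hIc : Coh.IsCoh I := Groth.Agent.S0046.result Z _ I ι hOZ hI
    have hdimZ : topologicalKrullDim Z ≤ 1 :=
      le_trans i.isClosedEmbedding.isInducing.topologicalKrullDim_le hdim
    change psi k n m E V ((Coh.push i).obj I) = 0
    rw [psi_push hE hV i I hIc]
    exact psi_sub hdimZ (hfinAll Z)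
      (Groth.Agent.Lib.Helper26.ModRank.isFinLocFreeOfRank_pullback i E hE)
      (Groth.Agent.Lib.Helper26.ModRank.isFinLocFreeOfRank_pullback i V hV) ι hIc

/-- `deg(E ⊗ V) = n deg V + m deg E`. -/
theorem deg_tensorMod_locFree (hdim : topologicalKrullDim X ≤ 1)
    (hfinAll : ∀ (Z : Scheme.{u}) [Z.Over (Spec (CommRingCat.of k))]
      [IsProper (Z ↘ Spec (CommRingCat.of k))], HFin k Z)
    {n m : ℕ} {E V : X.Modules}
    (hE : FlatMod.IsFinLocFreeOfRank n E) (hV : FlatMod.IsFinLocFreeOfRank m V) :
    Curv2.deg k X (CohB1.tensorMod E V) (n * m) = n * Curv2.deg k X V m + m * Curv2.deg k X E n := by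
  haveI : IsLocallyNoetherian X :=
    LocallyOfFiniteType.isLocallyNoetherian (X ↘ Spec (CommRingCat.of k))
  have hO : Coh.IsCoh (Coh.structureModule X) := Groth.Agent.R2.H5.CohThick.isCoh_structureModule X
  have key := psi_eq_zero hdim hfinAll hE hV _ hO
  have h1 : Curv2.euler k X (CohB1.tensorMod E (CohB1.tensorMod V (Coh.structureModule X))) =
      Curv2.euler k X (CohB1.tensorMod E V) :=
    euler_congr (k := k) ((tensorLeftF E).mapIso (Groth.Agent.Lib.Helper23.TensorUnit.tensorUnitIso V))
  have h2 : Curv2.euler k X (CohB1.tensorMod V (Coh.structureModule X)) = Curv2.euler k X V :=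
    euler_congr (k := k) (Groth.Agent.Lib.Helper23.TensorUnit.tensorUnitIso V)
  have h3 : Curv2.euler k X (CohB1.tensorMod E (Coh.structureModule X)) = Curv2.euler k X E :=
    euler_congr (k := k) (Groth.Agent.Lib.Helper23.TensorUnit.tensorUnitIso E)
  unfold psi at key
  rw [h1, h2, h3] at key
  unfold Curv2.deg
  push_cast
  linarith

end Main

end Groth.Agent.R2.H20.CurveTens2
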