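import Mathlib
import Groth.Agent.R2.H62IntNum3
import Groth.Agent.Lib.Helper6CartDim
import Groth.Agent.Lib.Helper23Serre

/-!
# Intersection with an effective Cartier divisor (helper62, PROJ:snapper)

* `dim_range_subschemeι_lt`: an effective Cartier divisor in a scheme of dimension `≤ e + 1` has dimension `< e + 1`;
* `epi_toSubscheme`, `shortExact_idealMod`: `0 → I_D → O_X → O_D → 0`;
* `coeff_effCartier`: `(L_0 ⋯ L_e · X) = (L_1 ⋯ L_e · D)` for `L_0 ⊗ I_D ≅ O_X`.
-/

set_option autoImplicit false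
universe u
open CategoryTheory CategoryTheory.Limits AlgebraicGeometry TopologicalSpace

namespace Groth.Agent.R2.H62.Snapper

open Groth.Agent.R2.H79.TwistCalc Groth.Agent.R2.H12.Dev

section dim

variable {X : Scheme.{u}}

theorem dim_range_subschemeι_lt (D : X.IdealSheafData) (hD : FGA.IsEffCartier D) (e : ℕ)
    (hX : topologicalKrullDim X ≤ ((e + 1 : ℕ) : WithBot ℕ∞)) :
    topologicalKrullDim ↥(Set.range D.subschemeι) < ((e + 1 : ℕ) : WithBot ℕ∞) := by
  have h1 := Groth.Agent.Lib.Helper6.CartDim.topologicalKrullDim_preimage_add_one_le D hD ⊤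
  have h2 : topologicalKrullDim ↥(⊤ : X.Opens) ≤ topologicalKrullDim X :=
    topologicalKrullDim_subspace_le X _
  have h3 : topologicalKrullDim ↥(Set.range D.subschemeι) ≤
      topologicalKrullDim ↥(D.subschemeι ⁻¹ᵁ (⊤ : X.Opens)) := by
    let g : ↥(Set.range D.subschemeι) → ↥(D.subschemeι ⁻¹ᵁ (⊤ : X.Opens)) := fun y =>
      ⟨(D.subschemeι.isEmbedding.toHomeomorph).symm y, trivial⟩
    have hg : Continuous g :=
      ((D.subschemeι.isEmbedding.toHomeomorph).symm.continuous).subtype_mk _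
    refine Topology.IsInducing.topologicalKrullDim_le (f := g) ?_
    refine Topology.IsInducing.of_comp hg continuous_subtype_val ?_
    exact (D.subschemeι.isEmbedding.toHomeomorph).symm.isInducing
  have h4 : topologicalKrullDim ↥(Set.range D.subschemeι) + 1 ≤ ((e + 1 : ℕ) : WithBot ℕ∞) :=
    le_trans (add_le_add_left h3 1) (le_trans h1 (le_trans h2 hX))
  generalize topologicalKrullDim ↥(Set.range D.subschemeι) = a at h4 ⊢
  induction a using WithBot.recBotCoe with
  | bot => exact WithBot.bot_lt_coe _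
  | coe a =>
    induction a using ENat.recTopCoe with
    | top =>
      exfalso
      have h5 : ((⊤ : ℕ∞) : WithBot ℕ∞) + 1 = ((⊤ : ℕ∞) : WithBot ℕ∞) := rfl
      rw [h5] at h4
      have h6 : ((⊤ : ℕ∞) : WithBot ℕ∞) ≤ (((e + 1 : ℕ) : ℕ∞) : WithBot ℕ∞) := h4
      rw [WithBot.coe_le_coe] at h6
      exact absurd h6 (by simp)
    | coe n =>
      have h5 : (((n : ℕ) : ℕ∞) : WithBot ℕ∞) + 1 = (((n + 1 : ℕ) : ℕ∞) : WithBot ℕ∞) := by
        push_cast; rfl
      rw [h5] at h4
      have h6 : n + 1 ≤ e + 1 := by exact_mod_cast h4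
      have h7 : n < e + 1 := by omega
      exact_mod_cast h7

end dim

section ses

variable {X : Scheme.{u}}

open Groth.Agent.Lib.Helper23.Serre in
instance epi_unitToPush {Z : Scheme.{u}} (i : Z ⟶ X) [IsClosedImmersion i] :
    Epi (ClSub.unitToPush i) := by
  apply epi_of_locally_surjective
  intro V t x hx
  obtain ⟨_, ⟨V', hV', rfl⟩, hxV', hle⟩ :=
    X.isBasis_affineOpens.exists_subset_of_mem_open hx V.isOpen
  refine ⟨V', hle, hxV', ?_⟩
  obtain ⟨a, ha⟩ := i.app_surjective V' hV'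
    (((Scheme.Modules.pushforward i).obj (Coh.structureModule Z)).presheaf.map (homOfLE hle).op t)
  exact ⟨a, ha⟩

theorem shortExact_idealMod (D : X.IdealSheafData) :
    (ShortComplex.mk (ClSub.idealModι D) (ClSub.toSubscheme D)
      (kernel.condition (ClSub.toSubscheme D))).ShortExact :=
  ShortComplex.ShortExact.mk' (ShortComplex.exact_kernel _)
    (inferInstanceAs (Mono (kernel.ι (ClSub.toSubscheme D))))
    (inferInstanceAs (Epi (ClSub.unitToPush D.subschemeι)))

theorem isCoh_quotMod [IsLocallyNoetherian X] (D : X.IdealSheafData) : Coh.IsCoh (ClSub.quotMod D) :=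
  Groth.Agent.S0019.result D.subschemeι _ (isCoh_structureModule' _)

theorem isCoh_idealMod [IsLocallyNoetherian X] (D : X.IdealSheafData) : Coh.IsCoh (ClSub.idealMod D) :=
  isCoh_kernel (isCoh_structureModule' X) (isCoh_quotMod D) _

end ses

section main

theorem altI_add {r : ℕ} (f g : (Fin r → ℕ) → ℤ) :
    altI r (fun n => f n + g n) = altI r f + altI r g := by
  unfold altI
  rw [← Finset.sum_add_distrib]
  refine Finset.sum_congr rfl fun I _ => ?_
  ring

variable (k : Type u) [Field k] {X : Scheme.{u}} [X.Over (Spec (CommRingCat.of k))]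
  [IsProper (X ↘ (Spec (CommRingCat.of k)))]

theorem smallSupp_of_dim_le (M : X.Modules) (hM : Coh.IsCoh M) (d : ℕ)
    (hX : topologicalKrullDim X < (d : WithBot ℕ∞)) : SmallSupp M d :=
  smallSupp_of_support M hM d (lt_of_le_of_lt (topologicalKrullDim_subspace_le X _) hX)

open MvPolynomial in
/-- `(L_0 ⋯ L_e · X) = (L_1 ⋯ L_e · D)` for an effective Cartier divisor `D` with `L_0 ⊗ I_D ≅ O_X`. -/
theorem coeff_effCartier (e : ℕ) (hX : topologicalKrullDim X ≤ ((e + 1 : ℕ) : WithBot ℕ∞))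
    (D : X.IdealSheafData) (hD : FGA.IsEffCartier D)
    (L : Fin (e + 1) → X.Modules) (hL : ∀ j, PicF.IsInvertible (L j))
    (hLD : Nonempty (CohB1.tensorMod (L 0) (ClSub.idealMod D) ≅ Coh.structureModule X))
    (P : MvPolynomial (Fin (e + 1)) ℚ) (Q : MvPolynomial (Fin e) ℚ)
    (hP : ∀ n : Fin (e + 1) → ℕ,
      (Curv2.euler k X (Curv2.tensorPows (Coh.structureModule X) (e + 1) L n) : ℚ) =
        eval (fun i => (n i : ℚ)) P)
    (hQ : ∀ n : Fin e → ℕ,
      (Curv2.euler k X (Curv2.tensorPows (ClSub.quotMod D) e (fun j => L j.succ) n) : ℚ) =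
        eval (fun i => (n i : ℚ)) Q) :
    coeff (Finsupp.equivFunOnFinite.symm fun _ : Fin (e + 1) => 1) P =
      coeff (Finsupp.equivFunOnFinite.symm fun _ : Fin e => 1) Q := by
  have hXN : IsNoetherian X := isNoetherian_of_isProper k
  obtain ⟨eLD⟩ := hLD
  set Λ := L 0 with hΛdef
  set L' : Fin e → X.Modules := fun j => L j.succ with hL'def
  have hΛ : PicF.IsInvertible Λ := hL 0
  have hL' : ∀ j, PicF.IsInvertible (L' j) := fun j => hL j.succ
  have hLc : L = (Fin.cons Λ L' : Fin (e + 1) → X.Modules) := by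
    funext j
    refine Fin.cases ?_ (fun _ => ?_) j <;> rfl
  have hO : Coh.IsCoh (Coh.structureModule X) := isCoh_structureModule' X
  have hcD : Coh.IsCoh (ClSub.quotMod D) := isCoh_quotMod D
  have hcI : Coh.IsCoh (ClSub.idealMod D) := isCoh_idealMod D
  -- the polynomial `P`
  have hssX : SmallSupp (Coh.structureModule X) (e + 1 + 1) :=
    smallSupp_of_dim_le _ hO _ (withBot_lt_succ_of_le hX)
  obtain ⟨P₀, hP₀, heP⟩ := snapper_lt k (e + 1) L hL (e + 1 + 1) _ hO hssX
  have hPP : P = P₀ := eq_of_eval_nat_eq fun n => by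
    rw [← hP n, ← heP n, ← twF_obj]; rfl
  subst hPP
  -- the polynomial `Q`
  have hssD : SmallSupp (ClSub.quotMod D) (e + 1) :=
    smallSupp_push D.subschemeι _ (e + 1) (dim_range_subschemeι_lt D hD e hX)
  obtain ⟨Q₀, hQ₀, heQ⟩ := snapper_lt k e L' hL' (e + 1) _ hcD hssD
  have hQQ : Q = Q₀ := eq_of_eval_nat_eq fun n => by
    rw [← hQ n, ← heQ n, ← twF_obj]; rfl
  subst hQQ
  rw [coeff_ones_eq_altI P hP₀ heP, coeff_ones_eq_altI Q hQ₀ heQ]
  -- vanishing for `(Λ, L')` against `O_D`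
  have hLc' : ∀ j, PicF.IsInvertible ((Fin.cons Λ L' : Fin (e + 1) → X.Modules) j) := by
    intro j
    rw [← hLc]; exact hL j
  have hg0 := altI_eq_zero_of_isNumPolyLT
    (snapper_lt k (e + 1) (Fin.cons Λ L') hLc' (e + 1) _ hcD hssD)
  rw [altI_succ] at hg0
  have hA : ∀ n, chiF k (e + 1) (Fin.cons Λ L') (ClSub.quotMod D) (Fin.cons 0 n) =
      chiF k e L' (ClSub.quotMod D) n := fun n => by
    rw [chiF_cons]
    exact chiF_iso k e L' (tensorRightFUnit.app (ClSub.quotMod D)) n
  have hB : ∀ n, chiF k (e + 1) (Fin.cons Λ L') (ClSub.quotMod D) (Fin.cons 1 n) =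
      chiF k e L' (CohB1.tensorMod (ClSub.quotMod D) Λ) n := fun n => by
    rw [chiF_cons]
    exact chiF_iso k e L' (tensorIsoLeft (ClSub.quotMod D) (tensorUnitLeftIso Λ)) n
  rw [altI_congr hA, altI_congr hB] at hg0
  -- the two slices of `f_P`
  have hC : ∀ n, chiF k (e + 1) (Fin.cons Λ L') (Coh.structureModule X) (Fin.cons 0 n) =
      chiF k e L' (Coh.structureModule X) n := fun n => by
    rw [chiF_cons]
    exact chiF_iso k e L' (tensorRightFUnit.app (Coh.structureModule X)) n
  have hS := shortExact_map_tensorRightF Λ hΛ _ (shortExact_idealMod D)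
  have hE : ∀ n, chiF k (e + 1) (Fin.cons Λ L') (Coh.structureModule X) (Fin.cons 1 n) =
      chiF k e L' (Coh.structureModule X) n +
        chiF k e L' (CohB1.tensorMod (ClSub.quotMod D) Λ) n := fun n => by
    rw [chiF_cons]
    have h1 := chiF_add k e L' hL' _ hS (isCoh_tensorMod _ Λ hcI hΛ) (isCoh_tensorMod _ Λ hO hΛ)
      (isCoh_tensorMod _ Λ hcD hΛ) n
    change chiF k e L' (CohB1.tensorMod (Coh.structureModule X) Λ) n =
      chiF k e L' (CohB1.tensorMod (ClSub.idealMod D) Λ) n +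
        chiF k e L' (CohB1.tensorMod (ClSub.quotMod D) Λ) n at h1
    have h2 : chiF k e L' (CohB1.tensorMod (Coh.structureModule X) (CohB1.tensorPow Λ 1)) n =
        chiF k e L' (CohB1.tensorMod (Coh.structureModule X) Λ) n :=
      chiF_iso k e L' (tensorIsoLeft (Coh.structureModule X) (tensorUnitLeftIso Λ)) n
    rw [h2, h1, chiF_iso k e L' (brdIso (ClSub.idealMod D) Λ ≪≫ eLD) n]
  rw [hLc, altI_succ, altI_congr hC, altI_congr hE, altI_add]
  have hb : altI e (chiF k e L' (ClSub.quotMod D)) =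
      altI e (chiF k e L' (CohB1.tensorMod (ClSub.quotMod D) Λ)) := by linarith
  rw [hb, pow_succ]
  push_cast
  ring

end main

end Groth.Agent.R2.H62.Snapper
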