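import Mathlib
import Groth.Agent.Lib.Helper4NormDelta
import Groth.Agent.Lib.Helper23Extend2

/-!
# Lengths of stalks of `O_X`-modules (helper62, PROJ:snapper)

`len M ξ = length_{O_{X,ξ}} M_ξ ∈ ℕ∞`; additivity on short exact sequences, invariance under isomorphisms.
-/

set_option autoImplicit false
universe u
open CategoryTheory CategoryTheory.Limits AlgebraicGeometry TopologicalSpace Opposite

namespace Groth.Agent.R2.H62.Snapper

open Groth.Agent.Lib.Helper4.NormDelta Groth.Agent.Lib.Helper23.Extend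

variable {X : Scheme.{u}}

/-- the length of the stalk -/
noncomputable def len (M : X.Modules) (ξ : X) : ℕ∞ :=
  Module.length (X.presheaf.stalk ξ) (M.presheaf.stalk ξ)

theorem stalkLin_injective {F G : X.Modules} (φ : F ⟶ G) [Mono φ] (x : X) :
    Function.Injective (stalkLin φ x) := by
  rw [injective_iff_map_eq_zero]
  intro y hy
  obtain ⟨V, hxV, t, rfl⟩ := F.presheaf.exists_germ_eq y
  rw [stalkLin_germ] at hy
  have h0 : G.presheaf.germ V x hxV (Scheme.Modules.Hom.app φ V t) = G.presheaf.germ V x hxV 0 := by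
    rw [hy, map_zero]
  obtain ⟨W, hxW, i₁, i₂, hW⟩ := G.presheaf.germ_eq x hxV hxV _ 0 h0
  rw [map_zero, ← app_map] at hW
  have h1 : F.presheaf.map i₁.op t = 0 := injective_app_of_mono φ W (by rw [hW, map_zero])
  rw [← TopCat.Presheaf.germ_res_apply F.presheaf i₁ x hxW t, h1, map_zero]

theorem stalkLin_comp {F G H : X.Modules} (φ : F ⟶ G) (ψ : G ⟶ H) (x : X) (y : F.presheaf.stalk x) :
    stalkLin (φ ≫ ψ) x y = stalkLin ψ x (stalkLin φ x y) := by
  obtain ⟨V, hxV, t, rfl⟩ := F.presheaf.exists_germ_eq y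
  rw [stalkLin_germ, stalkLin_germ, stalkLin_germ]
  rfl

theorem stalkLin_id (F : X.Modules) (x : X) (y : F.presheaf.stalk x) : stalkLin (𝟙 F) x y = y := by
  obtain ⟨V, hxV, t, rfl⟩ := F.presheaf.exists_germ_eq y
  rw [stalkLin_germ]
  rfl

theorem stalkLin_zero {F G : X.Modules} (x : X) (y : F.presheaf.stalk x) :
    stalkLin (0 : F ⟶ G) x y = 0 := by
  obtain ⟨V, hxV, t, rfl⟩ := F.presheaf.exists_germ_eq y
  rw [stalkLin_germ]
  exact map_zero _

/-- the stalk of an isomorphism -/
noncomputable def stalkEquiv {F G : X.Modules} (e : F ≅ G) (x : X) :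
    F.presheaf.stalk x ≃ₗ[X.presheaf.stalk x] G.presheaf.stalk x :=
  LinearEquiv.ofLinearMap (stalkLin e.hom x) (stalkLin e.inv x)
    (by ext y; change stalkLin e.hom x (stalkLin e.inv x y) = y
        rw [← stalkLin_comp, e.inv_hom_id, stalkLin_id])
    (by ext y; change stalkLin e.inv x (stalkLin e.hom x y) = y
        rw [← stalkLin_comp, e.hom_inv_id, stalkLin_id])

theorem len_iso {F G : X.Modules} (e : F ≅ G) (x : X) : len F x = len G x :=
  (stalkEquiv e x).length_eq

theorem exact_stalkLin (S : ShortComplex X.Modules) (hS : S.ShortExact) (x : X) :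
    Function.Exact (stalkLin S.f x) (stalkLin S.g x) := by
  intro y
  constructor
  · intro hy
    obtain ⟨W, hxW, s, rfl⟩ := exists_germ_of_stalkLin_eq_zero S hS x y hy
    exact ⟨S.X₁.presheaf.germ W x hxW s, stalkLin_germ S.f x W hxW s⟩
  · rintro ⟨z, rfl⟩
    rw [← stalkLin_comp, S.zero, stalkLin_zero]

theorem len_add (S : ShortComplex X.Modules) (hS : S.ShortExact) (x : X) :
    len S.X₂ x = len S.X₁ x + len S.X₃ x := by
  have := hS.mono_f
  have := hS.epi_g
  exact Module.length_eq_add_of_exact (stalkLin S.f x) (stalkLin S.g x) (stalkLin_injective S.f x)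
    (stalkLin_surjective S.g x) (exact_stalkLin S hS x)

theorem len_eq_zero_of_subsingleton (M : X.Modules) (x : X) (h : Subsingleton (M.presheaf.stalk x)) :
    len M x = 0 :=
  Module.length_eq_zero_iff.2 h

theorem subsingleton_stalk_of_isZero {M : X.Modules} (hM : IsZero M) (x : X) :
    Subsingleton (M.presheaf.stalk x) := by
  refine ⟨fun a b => ?_⟩
  have h0 : ∀ y : M.presheaf.stalk x, y = 0 := by
    intro y
    have h1 : stalkLin (𝟙 M) x y = y := stalkLin_id M x y
    rw [hM.eq_of_src (𝟙 M) 0, stalkLin_zero] at h1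
    exact h1.symm
  rw [h0 a, h0 b]

end Groth.Agent.R2.H62.Snapper
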