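import Mathlib
import Groth.Agent.R2.H62TopLen
import Groth.Agent.R2.H62SnapMain
import Groth.Agent.R2.H54ClosedImm

/-!
# Lengths of stalks of pushforwards along closed immersions (helper62, PROJ:snapper)

* `len_eq_zero_of_vanOn` : stalks vanish at the points of an open on which the module vanishes;
* `len_push_eq_zero` : `(i_* G)_ξ = 0` for `ξ` outside the image of the closed immersion `i`;
* `eq_generic_of_dim` : a point of the image of an integral closed subscheme of dimension `≤ d` whose closure has
  dimension `d` is the generic point;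
* `len_push_structure_generic`, `len_push_ideal_generic` : the generic stalk of `i_* O_Z` and of `i_* I` (`I ≠ 0` an ideal)
  has length one.
-/

set_option autoImplicit false
universe u
open CategoryTheory CategoryTheory.Limits AlgebraicGeometry TopologicalSpace Opposite

namespace Groth.Agent.R2.H62.Snapper

open Groth.Agent.R2.H12.Dev Groth.Agent.Lib.Helper23.Extend

variable {X : Scheme.{u}}

theorem subsingleton_stalk_of_vanOn {M : X.Modules} {W : X.Opens} (h : VanOn M W) (x : X) (hx : x ∈ W) :
    Subsingleton (M.presheaf.stalk x) := by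
  refine ⟨fun a b => ?_⟩
  have h0 : ∀ y : M.presheaf.stalk x, y = 0 := by
    intro y
    obtain ⟨V, hxV, t, rfl⟩ := M.presheaf.exists_germ_eq y
    have hxVW : x ∈ V ⊓ W := ⟨hxV, hx⟩
    rw [← TopCat.Presheaf.germ_res_apply M.presheaf (homOfLE (inf_le_left : V ⊓ W ≤ V)) x hxVW t]
    have h1 : M.presheaf.map (homOfLE (inf_le_left : V ⊓ W ≤ V)).op t = 0 :=
      h (V ⊓ W) inf_le_right _
    rw [h1, map_zero]
  rw [h0 a, h0 b]

theorem len_eq_zero_of_vanOn {M : X.Modules} {W : X.Opens} (h : VanOn M W) (x : X) (hx : x ∈ W) :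
    len M x = 0 :=
  len_eq_zero_of_subsingleton M x (subsingleton_stalk_of_vanOn h x hx)

variable {Z : Scheme.{u}} (i : Z ⟶ X) [IsClosedImmersion i]

theorem len_push_eq_zero (G : Z.Modules) (ξ : X) (hξ : ξ ∉ Set.range i) :
    len ((Scheme.Modules.pushforward i).obj G) ξ = 0 :=
  len_eq_zero_of_vanOn (vanOn_push_complRange i G) ξ hξ

theorem closure_singleton_generic [IsIntegral Z] :
    closure ({i (genericPoint Z)} : Set X) = Set.range i := by
  rw [← Set.image_singleton, i.isClosedEmbedding.closure_image_eq]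
  have h := (genericPoint_spec Z)
  rw [IsGenericPoint] at h
  rw [h, Set.image_univ]

theorem eq_generic_of_dim [IsIntegral Z] (d : ℕ)
    (hdim : topologicalKrullDim ↥(Set.range i) < ((d + 1 : ℕ) : WithBot ℕ∞)) (ξ : X)
    (hξ : topologicalKrullDim ↥(closure ({ξ} : Set X)) = (d : WithBot ℕ∞)) (hr : ξ ∈ Set.range i) :
    ξ = i (genericPoint Z) := by
  have hsub : closure ({ξ} : Set X) ⊆ Set.range i :=
    i.isClosedEmbedding.isClosed_range.closure_subset_iff.2 (Set.singleton_subset_iff.2 hr)
  have heq : closure ({ξ} : Set X) = Set.range i := by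
    by_contra hne
    have hlt := topologicalKrullDim_lt_of_isClosed_ssubset d (isIrreducible_range i) hdim
      isClosed_closure hsub hne
    rw [hξ] at hlt
    exact lt_irrefl _ hlt
  rw [← closure_singleton_generic i] at heq
  exact ((inseparable_iff_closure_eq).2 heq).eq

theorem len_push_structure_generic [IsIntegral Z] :
    len ((Scheme.Modules.pushforward i).obj (Coh.structureModule Z)) (i (genericPoint Z)) = 1 :=
  Module.length_eq_one_iff.2 (isSimpleModule_stalk_push_structureModule i)

theorem len_push_ideal_generic [IsIntegral Z] (I : Z.Modules) (ι : I ⟶ Coh.structureModule Z) [Mono ι]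
    (hI0 : ¬ IsZero I) :
    len ((Scheme.Modules.pushforward i).obj I) (i (genericPoint Z)) = 1 := by
  obtain ⟨D', hD', hι⟩ := exists_isoOn_of_ideal ι hI0
  obtain ⟨t, ht, hDt⟩ := i.isEmbedding.isInducing.isOpen_iff.mp D'.isOpen
  have hWD : i ⁻¹ᵁ (⟨t, ht⟩ : X.Opens) = D' := Opens.ext hDt
  have hv : VanOn (cokernel ((Scheme.Modules.pushforward i).map ι)) ⟨t, ht⟩ :=
    vanOn_cokernel_of_isoOn _ (isoOn_push i ι D' hι _ hWD.le)
  have hgen : genericPoint Z ∈ D' :=
    ((genericPoint_spec Z).mem_open_set_iff D'.isOpen).2 (by rwa [Set.univ_inter])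
  have hmem : i (genericPoint Z) ∈ (⟨t, ht⟩ : X.Opens) := by
    have : genericPoint Z ∈ i ⁻¹ᵁ (⟨t, ht⟩ : X.Opens) := hWD ▸ hgen
    exact this
  have h0 := len_eq_zero_of_vanOn hv _ hmem
  have hadd := len_add _ (shortExact_cokernel ((Scheme.Modules.pushforward i).map ι)) (i (genericPoint Z))
  change len ((Scheme.Modules.pushforward i).obj (Coh.structureModule Z)) (i (genericPoint Z)) =
    len ((Scheme.Modules.pushforward i).obj I) (i (genericPoint Z)) +
      len (cokernel ((Scheme.Modules.pushforward i).map ι)) (i (genericPoint Z)) at hadd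
  rw [h0, add_zero, len_push_structure_generic] at hadd
  exact hadd.symm

end Groth.Agent.R2.H62.Snapper
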