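import Mathlib
import Groth.Agent.R2.H20CurveTens2
import Groth.Agent.R2.H62CartierInt
import Groth.Agent.R2.H62TopLen2
import Groth.Agent.Lib.Helper23QAffSec

/-!
# Degree of a twist by an effective Cartier divisor on a proper scheme of dimension `≤ 1` (helper20)

* `isFinite_of_dim_le_zero` : a proper morphism from a scheme of dimension `≤ 0` is finite;
* `dim_subscheme_le_zero`, `dim_support_quotMod_le_zero` : an effective Cartier divisor `D` in a scheme of dimension
  `≤ 1` has dimension `≤ 0`;
* `euler_tensor_effCartier` : `χ(E ⊗ L) = χ(E) + n · h^0(O_D)` for `L ⊗ I_D ≅ O_X`.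
-/

set_option autoImplicit false
set_option linter.style.haveILetI false
universe u
open CategoryTheory CategoryTheory.Limits AlgebraicGeometry

namespace Groth.Agent.R2.H20.EffCartDeg

open Groth.Agent.R2.H62.CurveCore Groth.Agent.R2.H62.CohLES Groth.Agent.R2.H62.CurveInv
open Groth.Agent.R2.H79.TwistCalc Groth.Agent.R2.H20.LocFreeRank Groth.Agent.R2.H20.CurveTens
open Groth.Agent.R2.H20.CurveDeg Groth.Agent.R2.H20.CurveTens2 Groth.Agent.R2.H62.Snapper

section Finite

theorem isFinite_of_dim_le_zero {Z Y : Scheme.{u}} (f : Z ⟶ Y) [IsProper f] [IsLocallyNoetherian Z]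
    (h : topologicalKrullDim Z ≤ 0) : IsFinite f := by
  haveI : IsLocallyArtinian Z := IsLocallyArtinian.of_topologicalKrullDim_le_zero h
  haveI : DiscreteTopology Z := inferInstance
  haveI : LocallyQuasiFinite f := by
    rw [locallyQuasiFinite_iff_isDiscrete_preimage_singleton]
    intro x
    exact IsDiscrete.univ.mono (Set.subset_univ _)
  exact IsFinite.of_isProper_of_locallyQuasiFinite f

end Finite

section Dim

variable {X : Scheme.{u}}

theorem lt_one_le_zero {a : WithBot ℕ∞} (h : a < ((0 + 1 : ℕ) : WithBot ℕ∞)) : a ≤ 0 := by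
  induction a using WithBot.recBotCoe with
  | bot => exact bot_le
  | coe a =>
    induction a using ENat.recTopCoe with
    | top =>
      exfalso
      have h6 : ((⊤ : ℕ∞) : WithBot ℕ∞) < (((0 + 1 : ℕ) : ℕ∞) : WithBot ℕ∞) := h
      rw [WithBot.coe_lt_coe] at h6
      exact absurd h6 (by simp)
    | coe n =>
      have h6 : (((n : ℕ) : ℕ∞) : WithBot ℕ∞) < (((0 + 1 : ℕ) : ℕ∞) : WithBot ℕ∞) := h
      have h7 : n < 0 + 1 := by exact_mod_cast h6
      have h8 : n = 0 := by omega
      subst h8
      exact le_refl _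

theorem dim_range_le_zero (hdim : topologicalKrullDim X ≤ 1) (D : X.IdealSheafData)
    (hD : BlowUp.IsEffCartierIdeal D) : topologicalKrullDim ↥(Set.range D.subschemeι) ≤ 0 := by
  have hX : topologicalKrullDim X ≤ ((0 + 1 : ℕ) : WithBot ℕ∞) := by
    simpa using hdim
  exact lt_one_le_zero (dim_range_subschemeι_lt D hD 0 hX)

theorem dim_subscheme_le_zero (hdim : topologicalKrullDim X ≤ 1) (D : X.IdealSheafData)
    (hD : BlowUp.IsEffCartierIdeal D) : topologicalKrullDim D.subscheme ≤ 0 := by
  refine le_trans ?_ (dim_range_le_zero hdim D hD)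
  exact (D.subschemeι.isEmbedding.toHomeomorph).isInducing.topologicalKrullDim_le

theorem support_push_subset {Z : Scheme.{u}} (i : Z ⟶ X) [IsClosedImmersion i] (G : Z.Modules) :
    CohB1.support ((Scheme.Modules.pushforward i).obj G) ⊆ Set.range i := by
  intro x hx
  by_contra hr
  exact hx (subsingleton_stalk_of_vanOn (vanOn_push_complRange i G) x hr)

theorem dim_support_quotMod_le_zero (hdim : topologicalKrullDim X ≤ 1) (D : X.IdealSheafData)
    (hD : BlowUp.IsEffCartierIdeal D) :
    topologicalKrullDim (CohB1.support (ClSub.quotMod D)) ≤ 0 :=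
  le_trans (Groth.Agent.R2.H20.TorsTensor.topologicalKrullDim_mono
    (support_push_subset D.subschemeι _)) (dim_range_le_zero hdim D hD)

end Dim

section Euler

variable {k : Type u} [Field k] {X : Scheme.{u}} [X.Over (Spec (CommRingCat.of k))]
  [IsProper (X ↘ Spec (CommRingCat.of k))]

/-- `χ(E ⊗ L) = χ(E) + n h^0(O_D)` when `L ⊗ I_D ≅ O_X` and `O_D` has zero-dimensional support. -/
theorem euler_tensor_effCartier (hfin : HFin k X) (D : X.IdealSheafData)
    (hdD : topologicalKrullDim (CohB1.support (ClSub.quotMod D)) ≤ 0)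
    {L : X.Modules} (hL : PicF.IsInvertible L) (hLD : ClSub.IsInverseOf L (ClSub.idealMod D))
    {n : ℕ} {E : X.Modules} (hE : FlatMod.IsFinLocFreeOfRank n E) :
    Curv2.euler k X (CohB1.tensorMod E L) =
      Curv2.euler k X E + n * Module.finrank k (Coh.HH X (ClSub.quotMod D) 0) := by
  haveI : IsLocallyNoetherian X :=
    LocallyOfFiniteType.isLocallyNoetherian (X ↘ Spec (CommRingCat.of k))
  haveI := compactSpace_of_isProper k X
  haveI := quasiSeparatedSpace_of_isProper k X
  obtain ⟨eLD⟩ := hLD
  have hL1 := Groth.Agent.Lib.Helper23.SecTw.isFinLocFreeOfRank_one_of_isInvertible L hL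
  have hLc := isCoh_of_isInvertible hL
  have hEc := isCoh_of_isFinLocFreeOfRank hE
  have hOc : Coh.IsCoh (Coh.structureModule X) := Groth.Agent.R2.H5.CohThick.isCoh_structureModule X
  have hQc := isCoh_quotMod D
  have hIc := isCoh_idealMod D
  have hS := shortExact_idealMod D
  have hSL := shortExact_map_tensorLeftF L hL1 _ hS
  have hSEL := shortExact_map_tensorLeftF E hE _ hSL
  have hadd := euler_additive_of_hfin hfin _ hSEL
    (isCoh_tensorMod' hEc (isCoh_tensorMod' hLc hIc)) (isCoh_tensorMod' hEc (isCoh_tensorMod' hLc hOc))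
    (isCoh_tensorMod' hEc (isCoh_tensorMod' hLc hQc))
  have hadd' : Curv2.euler k X (CohB1.tensorMod E (CohB1.tensorMod L (Coh.structureModule X))) =
      Curv2.euler k X (CohB1.tensorMod E (CohB1.tensorMod L (ClSub.idealMod D))) +
        Curv2.euler k X (CohB1.tensorMod E (CohB1.tensorMod L (ClSub.quotMod D))) := hadd
  have h1 : Curv2.euler k X (CohB1.tensorMod E (CohB1.tensorMod L (Coh.structureModule X))) =
      Curv2.euler k X (CohB1.tensorMod E L) :=
    LocFreeRank.euler_congr (k := k) ((tensorLeftF E).mapIso (Groth.Agent.Lib.Helper23.TensorUnit.tensorUnitIso L))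
  have h2 : Curv2.euler k X (CohB1.tensorMod E (CohB1.tensorMod L (ClSub.idealMod D))) =
      Curv2.euler k X E :=
    LocFreeRank.euler_congr (k := k) ((tensorLeftF E).mapIso eLD ≪≫
      Groth.Agent.Lib.Helper23.TensorUnit.tensorUnitIso E)
  have hLQ : Coh.IsCoh (CohB1.tensorMod L (ClSub.quotMod D)) := isCoh_tensorMod' hLc hQc
  have hdLQ : topologicalKrullDim (CohB1.support (CohB1.tensorMod L (ClSub.quotMod D))) ≤ 0 := by
    refine le_trans (Groth.Agent.R2.H20.TorsTensor.topologicalKrullDim_mono ?_) hdD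
    rw [support_congr (tensorComm L (ClSub.quotMod D))]
    exact Groth.Agent.R2.H20.TorsTensor.support_tensorMod_subset _ L
  have h3 : Curv2.euler k X (CohB1.tensorMod E (CohB1.tensorMod L (ClSub.quotMod D))) =
      n * Curv2.euler k X (CohB1.tensorMod L (ClSub.quotMod D)) := by
    rw [LocFreeRank.euler_congr (k := k) (tensorComm E _)]
    exact Groth.Agent.S1558.result k X _ hLQ hdLQ n E hE
  have h4 : Curv2.euler k X (CohB1.tensorMod L (ClSub.quotMod D)) =
      Curv2.euler k X (ClSub.quotMod D) := by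
    rw [LocFreeRank.euler_congr (k := k) (tensorComm L _), Groth.Agent.S1558.result k X _ hQc hdD 1 L hL1]
    simp
  have h5 := euler_eq_finrank_of_dim_zero (k := k) (ClSub.quotMod D) hQc hdD
  rw [h1, h2, h3, h4, h5] at hadd'
  exact hadd'

end Euler

end Groth.Agent.R2.H20.EffCartDeg
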