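import Groth.Agent.R2.H20AnConn
import Groth.Agent.Lib.Helper6AnFib
import Mathlib.RingTheory.Etale.StandardEtale
import Mathlib.RingTheory.Unramified.LocalStructure
import Mathlib.AlgebraicGeometry.Morphisms.Etale
import Mathlib.Analysis.Calculus.ImplicitContDiff

/-!
# Etale morphisms induce local homeomorphisms on `ℂ`-points (helper20)
-/

set_option autoImplicit false

open AlgebraicGeometry CategoryTheory TopologicalSpace Opposite An Topology
open scoped ContDiff

namespace Groth.Agent.R2.H20.EtaleLH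

open Groth.Agent.Lib.Helper6 Groth.Agent.R2.H20.RootCover Groth.Agent.R2.H20.AnConnAlg

section topology

/-- a continuous open locally injective map is a local homeomorphism -/
lemma isLocalHomeomorph_of_continuous_isOpenMap_isLocallyInjective {A B : Type*}
    [TopologicalSpace A] [TopologicalSpace B] {f : A → B} (hc : Continuous f) (ho : IsOpenMap f)
    (hi : IsLocallyInjective f) : IsLocalHomeomorph f := by
  rw [isLocalHomeomorph_iff_isOpenEmbedding_restrict]
  intro x
  obtain ⟨U, hU, hxU, hinj⟩ := hi x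
  refine ⟨U, hU.mem_nhds hxU, ?_⟩
  exact .of_continuous_injective_isOpenMap (hc.comp continuous_subtype_val)
    (Set.injOn_iff_injective.1 hinj) (ho.comp hU.isOpenEmbedding_subtypeVal.isOpenMap)

end topology

section universal

variable (n : ℕ)

/-- the universal monic polynomial of degree `n` -/
noncomputable def Funiv : Polynomial (MvPolynomial (Fin n) ℂ) :=
  Polynomial.X ^ n + ∑ i : Fin n, Polynomial.C (MvPolynomial.X i) * Polynomial.X ^ (i : ℕ)

lemma spec_Funiv (a : Fin n → ℂ) :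
    spec (Funiv n) a = Polynomial.X ^ n + ∑ i : Fin n, Polynomial.C (a i) * Polynomial.X ^ (i : ℕ) := by
  unfold spec Funiv
  simp [Polynomial.map_sum]

/-- the derivative with respect to the last variable -/
noncomputable def Duniv (p : (Fin n → ℂ) × ℂ) : ℂ :=
  (spec (Funiv n) p.1).derivative.eval p.2

lemma Duniv_eq (p : (Fin n → ℂ) × ℂ) :
    Duniv n p = evalFun (Polynomial.derivative (Funiv n)) p := by
  unfold Duniv evalFun spec
  rw [Polynomial.derivative_map]

lemma continuous_Duniv : Continuous (Duniv n) := by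
  have : Duniv n = evalFun (Polynomial.derivative (Funiv n)) := funext (Duniv_eq n)
  rw [this]
  exact continuous_evalFun _

variable {n}

/-- The zero set of the universal polynomial, away from the critical points, pulled back along a
continuous family of coefficient vectors, is a local homeomorphism over the parameter space. -/
theorem isLocalHomeomorph_fst {T : Type*} [TopologicalSpace T] (c : T → Fin n → ℂ)
    (hc : Continuous c) :
    IsLocalHomeomorph (fun z : {q : T × ℂ // evalFun (Funiv n) (c q.1, q.2) = 0 ∧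
      Duniv n (c q.1, q.2) ≠ 0} => z.1.1) := by
  have hω : (ω : WithTop ℕ∞) ≠ 0 := by simp
  have hcE : Continuous (evalFun (Funiv n)) := continuous_evalFun _
  apply isLocalHomeomorph_of_continuous_isOpenMap_isLocallyInjective
  · exact continuous_fst.comp continuous_subtype_val
  · -- open map
    rw [isOpenMap_iff_nhds_le]
    rintro ⟨⟨φ₀, t₀⟩, hz1, hz2⟩
    rw [Filter.le_map_iff]
    intro W hW
    have hcd : ContDiffAt ℂ ω (evalFun (Funiv n)) (c φ₀, t₀) :=
      ((analyticOnNhd_evalFun (Funiv n)) _ trivial).contDiffAt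
    have hinv : (fderiv ℂ (evalFun (Funiv n)) (c φ₀, t₀) ∘L
        ContinuousLinearMap.inr ℂ (Fin n → ℂ) ℂ).IsInvertible :=
      isInvertible_fderiv_evalFun_comp_inr (Funiv n) (c φ₀, t₀) hz2
    set θ : (Fin n → ℂ) → ℂ := hcd.implicitFunction hω hinv with hθ
    have hθ0 : θ (c φ₀) = t₀ := hcd.implicitFunction_apply_self hω hinv
    have hθc : ContinuousAt θ (c φ₀) := (hcd.contDiffAt_implicitFunction hω hinv).continuousAt
    have hθc' : ContinuousAt (fun φ => θ (c φ)) φ₀ :=
      ContinuousAt.comp (f := c) (g := θ) hθc hc.continuousAt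
    have hev : ∀ᶠ φ in 𝓝 φ₀, evalFun (Funiv n) (c φ, θ (c φ)) = 0 := by
      have := hcd.eventually_apply_implicitFunction hω hinv
      simp only at this
      have h2 := hc.continuousAt.eventually this
      filter_upwards [h2] with φ hφ
      rw [hφ, hz1]
    have hpair : ContinuousAt (fun φ => (c φ, θ (c φ))) φ₀ := hc.continuousAt.prodMk hθc'
    have hD : ∀ᶠ φ in 𝓝 φ₀, Duniv n (c φ, θ (c φ)) ≠ 0 := by
      have hcont : ContinuousAt (fun φ => Duniv n (c φ, θ (c φ))) φ₀ :=
        ContinuousAt.comp (f := fun φ => (c φ, θ (c φ))) (g := Duniv n)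
          (continuous_Duniv n).continuousAt hpair
      apply hcont.eventually_ne
      simp only [hθ0]
      exact hz2
    -- the neighbourhood
    rw [nhds_subtype_eq_comap, Filter.mem_comap] at hW
    obtain ⟨W', hW', hW'W⟩ := hW
    rw [mem_nhds_prod_iff] at hW'
    obtain ⟨A, hA, B, hB, hAB⟩ := hW'
    have hB' : ∀ᶠ φ in 𝓝 φ₀, θ (c φ) ∈ B := by
      apply hθc'.eventually
      simp only [hθ0]
      exact hB
    filter_upwards [hA, hB', hev, hD] with φ h1 h2 h3 h4
    refine ⟨⟨(φ, θ (c φ)), h3, h4⟩, hW'W ?_, rfl⟩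
    exact hAB ⟨h1, h2⟩
  · -- locally injective
    rintro ⟨⟨φ₀, t₀⟩, hz1, hz2⟩
    have hcd : ContDiffAt ℂ ω (evalFun (Funiv n)) (c φ₀, t₀) :=
      ((analyticOnNhd_evalFun (Funiv n)) _ trivial).contDiffAt
    have hinv : (fderiv ℂ (evalFun (Funiv n)) (c φ₀, t₀) ∘L
        ContinuousLinearMap.inr ℂ (Fin n → ℂ) ℂ).IsInvertible :=
      isInvertible_fderiv_evalFun_comp_inr (Funiv n) (c φ₀, t₀) hz2
    set θ : (Fin n → ℂ) → ℂ := hcd.implicitFunction hω hinv with hθ
    have hiff := hcd.eventually_apply_eq_iff_implicitFunction hω hinv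
    obtain ⟨O, hOsub, hO, hmem⟩ := mem_nhds_iff.1 hiff
    have hct : Continuous (fun z : {q : T × ℂ // evalFun (Funiv n) (c q.1, q.2) = 0 ∧
        Duniv n (c q.1, q.2) ≠ 0} => (c z.1.1, z.1.2)) :=
      (hc.comp (continuous_fst.comp continuous_subtype_val)).prodMk
        (continuous_snd.comp continuous_subtype_val)
    refine ⟨(fun z : {q : T × ℂ // evalFun (Funiv n) (c q.1, q.2) = 0 ∧
        Duniv n (c q.1, q.2) ≠ 0} => (c z.1.1, z.1.2)) ⁻¹' O, hO.preimage hct, hmem, ?_⟩
    rintro ⟨⟨φ, t⟩, h1, h2⟩ hz ⟨⟨φ', t'⟩, h1', h2'⟩ hz' (hφ : φ = φ')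
    subst hφ
    have e1 := (hOsub hz).1 (by simpa [hz1] using h1)
    have e2 := (hOsub hz').1 (by simpa [hz1] using h1')
    simp only at e1 e2
    apply Subtype.ext
    exact Prod.ext rfl (e1.symm.trans e2)

end universal

section pe

variable {V : Scheme.{0}} [V.Over SC]

/-- evaluation of a polynomial with coefficients global sections at a `ℂ`-point and a number -/
noncomputable def pe (p : Polynomial Γ(V, ⊤)) (q : Pts V × ℂ) : ℂ :=
  Polynomial.eval₂ (evHom q.1 ⊤ (Opens.mem_top _)) q.2 p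

lemma pe_mul (p p' : Polynomial Γ(V, ⊤)) (q : Pts V × ℂ) : pe (p * p') q = pe p q * pe p' q :=
  Polynomial.eval₂_mul _ _

lemma pe_add (p p' : Polynomial Γ(V, ⊤)) (q : Pts V × ℂ) : pe (p + p') q = pe p q + pe p' q :=
  Polynomial.eval₂_add _ _

lemma pe_pow (p : Polynomial Γ(V, ⊤)) (k : ℕ) (q : Pts V × ℂ) : pe (p ^ k) q = pe p q ^ k :=
  Polynomial.eval₂_pow _ _ _

lemma continuous_pe (p : Polynomial Γ(V, ⊤)) : Continuous (pe p) := by
  have : pe p = fun q : Pts V × ℂ =>
      ∑ i ∈ Finset.range (p.natDegree + 1), evAll q.1 (p.coeff i) * q.2 ^ i := by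
    funext q
    unfold pe
    rw [Polynomial.eval₂_eq_sum_range]
    rfl
  rw [this]
  refine continuous_finsetSum _ fun i _ => ?_
  refine Continuous.mul ?_ (continuous_snd.pow i)
  exact (continuous_apply (p.coeff i)).comp (continuous_evAll.comp continuous_fst)

/-- the coefficient vector of a polynomial at a point -/
noncomputable def coeffVec (f : Polynomial Γ(V, ⊤)) (y : Pts V) : Fin f.natDegree → ℂ :=
  fun i => y.evTop (f.coeff i)

lemma continuous_coeffVec (f : Polynomial Γ(V, ⊤)) : Continuous (coeffVec f) :=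
  continuous_pi fun i => (continuous_apply (f.coeff i)).comp continuous_evAll

lemma map_eq_spec_Funiv (f : Polynomial Γ(V, ⊤)) (hf : f.Monic) (y : Pts V) :
    f.map (evHom y ⊤ (Opens.mem_top _)) = spec (Funiv f.natDegree) (coeffVec f y) := by
  rw [spec_Funiv]
  conv_lhs => rw [hf.as_sum]
  rw [Polynomial.map_add, Polynomial.map_pow, Polynomial.map_X, Polynomial.map_sum]
  have h2 : ∑ i : Fin f.natDegree, Polynomial.C (coeffVec f y i) * Polynomial.X ^ (i : ℕ) =
      ∑ i ∈ Finset.range f.natDegree,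
        Polynomial.C (y.evTop (f.coeff i)) * (Polynomial.X : Polynomial ℂ) ^ i :=
    Fin.sum_univ_eq_sum_range
      (fun i => Polynomial.C (y.evTop (f.coeff i)) * (Polynomial.X : Polynomial ℂ) ^ i) f.natDegree
  rw [h2]
  congr 1
  refine Finset.sum_congr rfl fun i _ => ?_
  rw [Polynomial.map_mul, Polynomial.map_pow, Polynomial.map_X, Polynomial.map_C]
  rfl

lemma pe_eq_evalFun (f : Polynomial Γ(V, ⊤)) (hf : f.Monic) (q : Pts V × ℂ) :
    pe f q = evalFun (Funiv f.natDegree) (coeffVec f q.1, q.2) := by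
  unfold pe evalFun
  rw [← map_eq_spec_Funiv f hf, Polynomial.eval_map]

lemma pe_derivative_eq (f : Polynomial Γ(V, ⊤)) (hf : f.Monic) (q : Pts V × ℂ) :
    pe (Polynomial.derivative f) q = Duniv f.natDegree (coeffVec f q.1, q.2) := by
  unfold pe Duniv
  rw [← map_eq_spec_Funiv f hf, Polynomial.derivative_map, Polynomial.eval_map]

end pe

section core

variable {U V : Scheme.{0}} [U.Over SC] [V.Over SC]

/-- compatibility of structure homomorphisms -/
lemma appTop_strHom (g' : U ⟶ V) [g'.IsOver SC] (c : ℂ) : g'.appTop (strHom V c) = strHom U c := by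
  unfold strHom
  have h : (U ↘ SC) = g' ≫ (V ↘ SC) := (comp_over g' SC).symm
  rw [h, Scheme.Hom.comp_appTop]
  rfl

/-- the affine standard etale case -/
theorem isLocalHomeomorph_map_of_standardEtale [IsAffine U] [IsAffine V] (g' : U ⟶ V)
    [g'.IsOver SC]
    (PP : @StandardEtalePresentation Γ(V, ⊤) Γ(U, ⊤) _ _ g'.appTop.hom.toAlgebra) :
    IsLocalHomeomorph (Pts.map g') := by
  let _ : Algebra Γ(V, ⊤) Γ(U, ⊤) := g'.appTop.hom.toAlgebra
  have hF1 : ∀ (s : Pts U) (r : Γ(V, ⊤)),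
      s.evTop (algebraMap Γ(V, ⊤) Γ(U, ⊤) r) = (Pts.map g' s).evTop r :=
    fun s r => (evTop_map g' s r).symm
  have hF2 : ∀ (s : Pts U) (p : Polynomial Γ(V, ⊤)),
      s.evTop (Polynomial.aeval PP.x p) = pe p (Pts.map g' s, s.evTop PP.x) := by
    intro s p
    unfold pe
    rw [Polynomial.aeval_def]
    have h := Polynomial.hom_eval₂ p (algebraMap Γ(V, ⊤) Γ(U, ⊤)) (evHom s ⊤ (Opens.mem_top _)) PP.x
    have h' : s.evTop (Polynomial.eval₂ (algebraMap Γ(V, ⊤) Γ(U, ⊤)) PP.x p) =
        (evHom s ⊤ (Opens.mem_top _)) (Polynomial.eval₂ (algebraMap Γ(V, ⊤) Γ(U, ⊤)) PP.x p) := rfl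
    rw [h', h]
    congr 1
  -- the graph map
  let Φ : Pts U → Pts V × ℂ := fun s => (Pts.map g' s, s.evTop PP.x)
  have hΦc : Continuous Φ :=
    (Pts.continuous_map g').prodMk ((continuous_apply PP.x).comp continuous_evAll)
  have hΦf : ∀ s, pe PP.f (Φ s) = 0 := by
    intro s
    rw [← hF2, PP.hasMap.1]
    exact map_zero (evHom s ⊤ (Opens.mem_top _))
  have hΦg : ∀ s, pe PP.g (Φ s) ≠ 0 := by
    intro s
    rw [← hF2]
    exact (PP.hasMap.2.map (evHom s ⊤ (Opens.mem_top _))).ne_zero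
  -- derivative does not vanish
  have hder : ∀ q : Pts V × ℂ, pe PP.f q = 0 → pe PP.g q ≠ 0 →
      pe (Polynomial.derivative PP.f) q ≠ 0 := by
    intro q h1 h2 h3
    obtain ⟨p₁, p₂, k, hk⟩ := PP.cond
    have := congrArg (fun p => pe p q) hk
    simp only [pe_add, pe_mul, pe_pow, h1, h3, zero_mul, add_zero] at this
    exact pow_ne_zero k h2 this.symm
  -- the two subtypes
  let Z' := {q : Pts V × ℂ // pe PP.f q = 0 ∧ pe PP.g q ≠ 0}
  let Z₀ := {q : Pts V × ℂ // evalFun (Funiv PP.f.natDegree) (coeffVec PP.f q.1, q.2) = 0 ∧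
      Duniv PP.f.natDegree (coeffVec PP.f q.1, q.2) ≠ 0}
  let Φ' : Pts U → Z' := fun s => ⟨Φ s, hΦf s, hΦg s⟩
  have hΦ'c : Continuous Φ' := hΦc.subtype_mk _
  -- every function is a rational expression
  have hrat : ∀ a : Γ(U, ⊤), ∃ (p : Polynomial Γ(V, ⊤)) (k : ℕ),
      ∀ s : Pts U, s.evTop a * pe PP.g (Φ s) ^ k = pe p (Φ s) := by
    intro a
    obtain ⟨p, k, hpk⟩ := PP.exists_mul_aeval_x_g_pow_eq_aeval_x a
    refine ⟨p, k, fun s => ?_⟩
    rw [← hF2, ← hF2, ← hpk]
    change evHom s ⊤ (Opens.mem_top _) a *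
        (evHom s ⊤ (Opens.mem_top _) (Polynomial.aeval PP.x PP.g)) ^ k =
      evHom s ⊤ (Opens.mem_top _) (a * Polynomial.aeval PP.x PP.g ^ k)
    rw [map_mul, map_pow]
  choose P K hPK using hrat
  let Ψ : Z' → (Γ(U, ⊤) → ℂ) := fun z a => pe (P a) z.1 / pe PP.g z.1 ^ K a
  have hΨc : Continuous Ψ := by
    refine continuous_pi fun a => ?_
    refine Continuous.div ((continuous_pe (P a)).comp continuous_subtype_val)
      (((continuous_pe PP.g).comp continuous_subtype_val).pow (K a)) fun z => ?_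
    exact pow_ne_zero _ z.2.2
  have hΨΦ : Ψ ∘ Φ' = evAll := by
    funext s a
    change pe (P a) (Φ s) / pe PP.g (Φ s) ^ K a = s.evTop a
    rw [← hPK a s, mul_div_assoc, div_self (pow_ne_zero _ (hΦg s)), mul_one]
  have hΦ'ind : IsInducing Φ' := by
    apply IsInducing.of_comp hΦ'c hΨc
    rw [hΨΦ]
    exact isInducing_evAll
  have hΦ'inj : Function.Injective Φ' := by
    intro s s' hss'
    apply ext_of_evTop
    intro a
    have := congrFun (congrFun hΨΦ s) a
    have h2 := congrFun (congrFun hΨΦ s') a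
    simp only [Function.comp_apply] at this h2
    change evAll s a = evAll s' a
    rw [← this, ← h2, hss']
  have hΦ'surj : Function.Surjective Φ' := by
    rintro ⟨⟨y, t⟩, h1, h2⟩
    let _ : Algebra Γ(V, ⊤) ℂ := (evHom y ⊤ (Opens.mem_top _)).toAlgebra
    have hmap : PP.HasMap t := by
      refine ⟨?_, ?_⟩
      · rw [Polynomial.aeval_def]; exact h1
      · rw [Polynomial.aeval_def]; exact isUnit_iff_ne_zero.2 h2
    let ψ : Γ(U, ⊤) →ₐ[Γ(V, ⊤)] ℂ := (PP.lift t hmap).comp PP.equivRing.toAlgHom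
    have hψr : ∀ r : Γ(V, ⊤), ψ (algebraMap Γ(V, ⊤) Γ(U, ⊤) r) = y.evTop r := fun r => ψ.commutes r
    have hψx : ψ PP.x = t := by
      change PP.lift t hmap (PP.equivRing PP.x) = t
      rw [PP.equivRing_x, StandardEtalePair.lift_X]
    have hψc : ∀ c, (ψ : Γ(U, ⊤) →+* ℂ) (strHom U c) = c := by
      intro c
      rw [← appTop_strHom g' c]
      exact (hψr _).trans (evTop_strHom y c)
    refine ⟨ptOfRingHom (ψ : Γ(U, ⊤) →+* ℂ) hψc, ?_⟩
    apply Subtype.ext
    apply Prod.ext
    · apply ext_of_evTop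
      intro r
      change (Pts.map g' (ptOfRingHom (ψ : Γ(U, ⊤) →+* ℂ) hψc)).evTop r = y.evTop r
      rw [← hF1, evTop_ptOfRingHom]
      exact hψr r
    · change (ptOfRingHom (ψ : Γ(U, ⊤) →+* ℂ) hψc).evTop PP.x = t
      rw [evTop_ptOfRingHom]
      exact hψx
  -- the inclusion of Z' into Z₀
  have hincl : ∀ q : Pts V × ℂ, pe PP.f q = 0 ∧ pe PP.g q ≠ 0 →
      evalFun (Funiv PP.f.natDegree) (coeffVec PP.f q.1, q.2) = 0 ∧
        Duniv PP.f.natDegree (coeffVec PP.f q.1, q.2) ≠ 0 := by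
    rintro q ⟨h1, h2⟩
    refine ⟨?_, ?_⟩
    · rw [← pe_eq_evalFun PP.f PP.monic_f]; exact h1
    · rw [← pe_derivative_eq PP.f PP.monic_f]; exact hder q h1 h2
  let j : Pts U → Z₀ := fun s => ⟨Φ s, hincl _ ⟨hΦf s, hΦg s⟩⟩
  have hjoe : IsOpenEmbedding j := by
    refine ⟨⟨?_, ?_⟩, ?_⟩
    · -- inducing
      have h1 : IsInducing (Subtype.val ∘ Φ') := IsInducing.subtypeVal.comp hΦ'ind
      have h2 : (Subtype.val : Z₀ → Pts V × ℂ) ∘ j = Subtype.val ∘ Φ' := rfl
      exact IsInducing.of_comp (hΦc.subtype_mk _) continuous_subtype_val (h2 ▸ h1)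
    · intro s s' hss'
      apply hΦ'inj
      apply Subtype.ext
      exact congrArg (fun z : Z₀ => z.1) hss'
    · have hr : Set.range j = {z : Z₀ | pe PP.g z.1 ≠ 0} := by
        ext z
        constructor
        · rintro ⟨s, rfl⟩
          exact hΦg s
        · intro hz
          have hzf : pe PP.f z.1 = 0 := by
            rw [pe_eq_evalFun PP.f PP.monic_f]; exact z.2.1
          obtain ⟨s, hs⟩ := hΦ'surj ⟨z.1, hzf, hz⟩
          refine ⟨s, Subtype.ext ?_⟩
          exact congrArg (fun z : Z' => z.1) hs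
      rw [hr]
      exact isOpen_ne_fun ((continuous_pe PP.g).comp continuous_subtype_val) continuous_const
  have hTC := isLocalHomeomorph_fst (coeffVec PP.f) (continuous_coeffVec PP.f)
  have hcomp : Pts.map g' = (fun z : Z₀ => z.1.1) ∘ j := rfl
  rw [hcomp]
  exact hTC.comp hjoe.isLocalHomeomorph

end core

section localization

/-- being a local homeomorphism can be checked on open pieces of the source -/
lemma isLocalHomeomorph_of_local {A B : Type*} [TopologicalSpace A] [TopologicalSpace B]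
    {f : A → B} (hc : Continuous f)
    (h : ∀ a : A, ∃ (C : Type) (_ : TopologicalSpace C) (j : C → A), IsOpenEmbedding j ∧
      a ∈ Set.range j ∧ IsLocalHomeomorph (f ∘ j)) : IsLocalHomeomorph f := by
  apply isLocalHomeomorph_of_continuous_isOpenMap_isLocallyInjective hc
  · rw [isOpenMap_iff_nhds_le]
    intro a
    obtain ⟨C, _, j, hj, ⟨c, rfl⟩, hfj⟩ := h a
    have h1 := (isOpenMap_iff_nhds_le.1 hfj.isOpenMap) c
    rw [← Filter.map_map, hj.map_nhds_eq] at h1
    exact h1
  · intro a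
    obtain ⟨C, _, j, hj, ⟨c, rfl⟩, hfj⟩ := h a
    obtain ⟨W, hW, hcW, hinj⟩ := hfj.isLocallyInjective c
    refine ⟨j '' W, hj.isOpenMap W hW, ⟨c, hcW, rfl⟩, ?_⟩
    rintro _ ⟨w, hw, rfl⟩ _ ⟨w', hw', rfl⟩ hww'
    exact congrArg j (hinj hw hw' hww')

end localization

section affine

variable {U V : Scheme.{0}} [U.Over SC] [V.Over SC]

/-- the affine etale case -/
theorem isLocalHomeomorph_map_of_etale_affine [IsAffine U] [IsAffine V] (g' : U ⟶ V)
    [g'.IsOver SC] [Etale g'] : IsLocalHomeomorph (Pts.map g') := by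
  apply isLocalHomeomorph_of_local (Pts.continuous_map g')
  intro s₀
  let _ : Algebra Γ(V, ⊤) Γ(U, ⊤) := g'.appTop.hom.toAlgebra
  have hEt : Algebra.Etale Γ(V, ⊤) Γ(U, ⊤) := by
    rw [← RingHom.etale_algebraMap]
    exact (HasRingHomProperty.iff_of_isAffine (P := @Etale)).1 inferInstance
  have hFP : Algebra.FinitePresentation Γ(V, ⊤) Γ(U, ⊤) := inferInstance
  have hQ : (U.toSpecΓ s₀.pt).asIdeal.IsPrime := (U.toSpecΓ s₀.pt).isPrime
  have hEtAt : Algebra.IsEtaleAt Γ(V, ⊤) (U.toSpecΓ s₀.pt).asIdeal := inferInstance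
  obtain ⟨f, hfQ, hstd⟩ :=
    Algebra.IsEtaleAt.exists_isStandardEtale (R := Γ(V, ⊤)) (U.toSpecΓ s₀.pt).asIdeal
  -- the basic open
  have hs₀ : s₀.pt ∈ U.basicOpen f := by
    rw [mem_basicOpen_iff s₀ ⊤ (Opens.mem_top _) f]
    intro h0
    exact hfQ ((mem_toSpecΓ_pt_iff s₀ f).2 h0)
  refine ⟨Pts (U.basicOpen f).toScheme, inferInstance, Pts.map (U.basicOpen f).ι,
    isOpenEmbedding_map_of_isOpenImmersion _, ?_, ?_⟩
  · rw [range_map_of_isOpenImmersion, Scheme.Opens.opensRange_ι]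
    exact hs₀
  · have hcomp : Pts.map g' ∘ Pts.map (U.basicOpen f).ι = Pts.map ((U.basicOpen f).ι ≫ g') := by
      funext s
      exact (Pts.map_comp _ _ s).symm
    rw [hcomp]
    have hAff : IsAffine (U.basicOpen f).toScheme := inferInstance
    -- the standard etale presentation
    let _ : Algebra Γ(V, ⊤) Γ((U.basicOpen f).toScheme, ⊤) :=
      ((U.basicOpen f).ι ≫ g').appTop.hom.toAlgebra
    have htower : IsScalarTower Γ(V, ⊤) Γ(U, ⊤) Γ((U.basicOpen f).toScheme, ⊤) := by
      refine IsScalarTower.of_algebraMap_eq fun r => ?_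
      change ((U.basicOpen f).ι ≫ g').appTop.hom r = (U.basicOpen f).ι.appTop.hom (g'.appTop.hom r)
      rw [Scheme.Hom.comp_appTop]
      rfl
    have hloc : IsLocalization.Away f Γ((U.basicOpen f).toScheme, ⊤) := inferInstance
    let e : Localization.Away f ≃ₐ[Γ(V, ⊤)] Γ((U.basicOpen f).toScheme, ⊤) :=
      (IsLocalization.algEquiv (Submonoid.powers f) (Localization.Away f)
        Γ((U.basicOpen f).toScheme, ⊤)).restrictScalars Γ(V, ⊤)
    have hstd' : Algebra.IsStandardEtale Γ(V, ⊤) Γ((U.basicOpen f).toScheme, ⊤) :=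
      Algebra.IsStandardEtale.of_equiv e
    exact isLocalHomeomorph_map_of_standardEtale ((U.basicOpen f).ι ≫ g')
      hstd'.nonempty_standardEtalePresentation.some

end affine

section general

/-- **Etale morphisms induce local homeomorphisms on `ℂ`-points.** -/
theorem etaleLH : An.EtaleLH := by
  intro X Y _ _ _ g _ _
  apply isLocalHomeomorph_of_local (Pts.continuous_map g)
  intro s₀
  obtain ⟨_, ⟨(V₀ : Y.Opens), hV₀ : IsAffineOpen V₀, rfl⟩, hyV₀, -⟩ :=
    Y.isBasis_affineOpens.exists_subset_of_mem_open (Set.mem_univ (g s₀.pt)) isOpen_univ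
  obtain ⟨_, ⟨(U₀ : X.Opens), hU₀ : IsAffineOpen U₀, rfl⟩, hsU₀, hle⟩ :=
    X.isBasis_affineOpens.exists_subset_of_mem_open (show s₀.pt ∈ ((g ⁻¹ᵁ V₀ : X.Opens) : Set X) from hyV₀)
      (g ⁻¹ᵁ V₀).2
  have hle' : U₀ ≤ g ⁻¹ᵁ V₀ := hle
  have : IsAffine U₀.toScheme := hU₀
  have : IsAffine V₀.toScheme := hV₀
  refine ⟨Pts U₀.toScheme, inferInstance, Pts.map U₀.ι,
    isOpenEmbedding_map_of_isOpenImmersion _, ?_, ?_⟩
  · rw [range_map_of_isOpenImmersion, Scheme.Opens.opensRange_ι]
    exact hsU₀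
  · have hcomp : Pts.map g ∘ Pts.map U₀.ι = Pts.map V₀.ι ∘ Pts.map (g.resLE V₀ U₀ hle') := by
      funext s
      apply Subtype.ext
      change (s.1 ≫ U₀.ι) ≫ g = (s.1 ≫ g.resLE V₀ U₀ hle') ≫ V₀.ι
      rw [Category.assoc, Category.assoc, Scheme.Hom.resLE_comp_ι]
    rw [hcomp]
    exact (isOpenEmbedding_map_of_isOpenImmersion V₀.ι).isLocalHomeomorph.comp
      (isLocalHomeomorph_map_of_etale_affine (g.resLE V₀ U₀ hle'))

end general

end Groth.Agent.R2.H20.EtaleLH
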