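import Groth.Agent.R2.H20EtaleLH
import Groth.Agent.Lib.Helper6AnAffine
import Groth.Agent.Lib.Helper6AnSep
import Groth.Agent.Lib.Helper6Density
import Mathlib.AlgebraicGeometry.Morphisms.Finite
import Mathlib.AlgebraicGeometry.Morphisms.QuasiFinite
import Mathlib.Topology.Covering.Basic
import Mathlib.Topology.Maps.Proper.Basic

/-!
# Finite etale morphisms induce finite covering maps on `ℂ`-points (helper20)
-/

set_option autoImplicit false

open AlgebraicGeometry CategoryTheory TopologicalSpace Opposite An Topology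

namespace Groth.Agent.R2.H20.FinEtCover

open Groth.Agent.Lib.Helper6 Groth.Agent.R2.H20.EtaleLH

section proper

variable {U V : Scheme.{0}} [U.Over SC] [V.Over SC]

/-- a finite morphism of affine schemes of finite type over `ℂ` induces a proper map on
`ℂ`-points -/
theorem isProperMap_map_of_isFinite_affine [IsAffine U] [IsAffine V]
    [LocallyOfFiniteType (U ↘ SC)] [LocallyOfFiniteType (V ↘ SC)] (g' : U ⟶ V) [g'.IsOver SC]
    [IsFinite g'] : IsProperMap (Pts.map g') := by
  have hT2 : T2Space (Pts V) := (isSeparated_iff_t2Space (X := V)).1 inferInstance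
  have hlc : LocallyCompactSpace (Pts V) := locallyCompactSpace_of_affine
  rw [isProperMap_iff_isCompact_preimage]
  refine ⟨Pts.continuous_map g', fun K hK => ?_⟩
  have hint : g'.appTop.hom.IsIntegral := (g'.finite_appTop).to_isIntegral
  obtain ⟨n, a, ha⟩ := exists_generators (X := U)
  have hemb := isClosedEmbedding_of_generators n a ha
  -- monic equations
  have hmon : ∀ i : Fin n, ∃ p : Polynomial Γ(V, ⊤), p.Monic ∧
      Polynomial.eval₂ g'.appTop.hom (a i) p = 0 := fun i => hint (a i)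
  choose p hpm hp0 using hmon
  -- bound functions
  let β : Fin n → Pts V → ℝ := fun i y =>
    ∑ j ∈ Finset.range (p i).natDegree, ‖y.evTop ((p i).coeff j)‖ + 1
  have hβc : ∀ i, Continuous (β i) := by
    intro i
    refine Continuous.add (continuous_finsetSum _ fun j _ => ?_) continuous_const
    exact continuous_norm.comp ((continuous_apply ((p i).coeff j)).comp continuous_evAll)
  have hroot : ∀ (i : Fin n) (s : Pts U), ‖s.evTop (a i)‖ ≤ β i (Pts.map g' s) := by
    intro i s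
    have h := Polynomial.hom_eval₂ (p i) g'.appTop.hom (evHom s ⊤ (Opens.mem_top _)) (a i)
    rw [hp0 i, map_zero] at h
    have hcomp : (evHom s ⊤ (Opens.mem_top _)).comp g'.appTop.hom =
        evHom (Pts.map g' s) ⊤ (Opens.mem_top _) := by
      ext r
      exact (evTop_map g' s r).symm
    rw [hcomp] at h
    have hr : ((p i).map (evHom (Pts.map g' s) ⊤ (Opens.mem_top _))).IsRoot (s.evTop (a i)) := by
      rw [Polynomial.IsRoot, Polynomial.eval_map]
      exact h.symm
    have hb := norm_le_of_isRoot_monic ((hpm i).map _) hr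
    rw [(hpm i).natDegree_map] at hb
    refine hb.trans (le_of_eq ?_)
    change _ = ∑ j ∈ Finset.range (p i).natDegree, ‖(Pts.map g' s).evTop ((p i).coeff j)‖ + 1
    congr 1
    refine Finset.sum_congr rfl fun j _ => ?_
    rw [Polynomial.coeff_map]
    rfl
  -- uniform bound on `K`
  have hbdd : ∀ i, ∃ B : ℝ, ∀ y ∈ K, β i y ≤ B := by
    intro i
    obtain ⟨B, hB⟩ := hK.bddAbove_image (hβc i).continuousOn
    exact ⟨B, fun y hy => hB ⟨y, hy, rfl⟩⟩
  choose B hB using hbdd
  let B₀ : ℝ := ∑ i, |B i|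
  have hB₀ : ∀ i, B i ≤ B₀ := fun i =>
    (le_abs_self (B i)).trans (Finset.single_le_sum (f := fun i => |B i|)
      (fun i _ => abs_nonneg _) (Finset.mem_univ i))
  have hB₀nn : 0 ≤ B₀ := Finset.sum_nonneg fun i _ => abs_nonneg _
  -- the preimage is closed and bounded
  have hKcl : IsClosed K := hK.isClosed
  have hPcl : IsClosed (Pts.map g' ⁻¹' K) := hKcl.preimage (Pts.continuous_map g')
  have himcl : IsClosed ((fun (x : Pts U) (i : Fin n) => x.evTop (a i)) '' (Pts.map g' ⁻¹' K)) :=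
    hemb.isClosedMap _ hPcl
  have hsub : ((fun (x : Pts U) (i : Fin n) => x.evTop (a i)) '' (Pts.map g' ⁻¹' K)) ⊆
      Metric.closedBall (0 : Fin n → ℂ) B₀ := by
    rintro _ ⟨s, hs, rfl⟩
    rw [mem_closedBall_zero_iff, pi_norm_le_iff_of_nonneg hB₀nn]
    intro i
    exact (hroot i s).trans ((hB i _ hs).trans (hB₀ i))
  have hcomp : IsCompact ((fun (x : Pts U) (i : Fin n) => x.evTop (a i)) '' (Pts.map g' ⁻¹' K)) :=
    (isCompact_closedBall (0 : Fin n → ℂ) B₀).of_isClosed_subset himcl hsub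
  exact hemb.isInducing.isCompact_iff.2 hcomp

end proper

section cover

variable {X Y : Scheme.{0}} [X.Over SC] [Y.Over SC]

/-- finite fibres on `ℂ`-points -/
lemma finite_fibre (f : X ⟶ Y) [f.IsOver SC] [IsFinite f] (y : Pts Y) :
    (Pts.map f ⁻¹' {y}).Finite := by
  have h1 : (f ⁻¹' {y.pt} : Set X).Finite := f.finite_preimage_singleton y.pt
  have h2 : (Pts.pt ⁻¹' (f ⁻¹' {y.pt}) : Set (Pts X)).Finite :=
    h1.preimage (pt_injective.injOn)
  refine h2.subset ?_
  intro s hs
  have hs' : Pts.map f s = y := hs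
  change f s.pt = y.pt
  rw [← Pts.pt_map, hs']

/-- the affine case -/
theorem isCoveringMap_map_of_finite_etale_affine [IsAffine X] [IsAffine Y]
    [LocallyOfFiniteType (X ↘ SC)] [LocallyOfFiniteType (Y ↘ SC)] (f : X ⟶ Y) [f.IsOver SC]
    [IsFinite f] [Etale f] : IsCoveringMap (Pts.map f) := by
  have hT2 : T2Space (Pts X) := (isSeparated_iff_t2Space (X := X)).1 inferInstance
  rw [isCoveringMap_iff_isCoveringMapOn_univ]
  apply IsClosedMap.isCoveringMapOn_of_isLocalHomeomorphOn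
  · exact (isProperMap_map_of_isFinite_affine f).isClosedMap
  · intro y _
    exact finite_fibre f y
  · exact (etaleLH X Y f).isLocalHomeomorphOn.mono (Set.subset_univ _)

/-- **Finite etale morphisms induce covering maps on `ℂ`-points.** -/
theorem isCoveringMap_map_of_finite_etale [LocallyOfFiniteType (X ↘ SC)]
    [LocallyOfFiniteType (Y ↘ SC)] (f : X ⟶ Y) [f.IsOver SC] [IsFinite f] [Etale f] :
    IsCoveringMap (Pts.map f) := by
  intro y₀
  obtain ⟨_, ⟨(V : Y.Opens), hV : IsAffineOpen V, rfl⟩, hyV, -⟩ :=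
    Y.isBasis_affineOpens.exists_subset_of_mem_open (Set.mem_univ y₀.pt) isOpen_univ
  have hU : IsAffineOpen (f ⁻¹ᵁ V) := hV.preimage f
  have : IsAffine (f ⁻¹ᵁ V).toScheme := hU
  have : IsAffine V.toScheme := hV
  have : LocallyOfFiniteType ((f ⁻¹ᵁ V).toScheme ↘ SC) := by
    rw [← Scheme.Opens.ι_comp_over]; infer_instance
  have : LocallyOfFiniteType (V.toScheme ↘ SC) := by
    rw [← Scheme.Opens.ι_comp_over]; infer_instance
  have hfin : IsFinite (f.resLE V (f ⁻¹ᵁ V) le_rfl) := by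
    rw [Scheme.Hom.resLE_eq_morphismRestrict]; infer_instance
  have hcov := isCoveringMap_map_of_finite_etale_affine (f.resLE V (f ⁻¹ᵁ V) le_rfl)
  -- the open subsets
  have hs : IsOpen (Pts.pt ⁻¹' (V : Set Y) : Set (Pts Y)) := Pts.isOpen_preimage_pt V
  have hpre : Pts.map f ⁻¹' (Pts.pt ⁻¹' (V : Set Y)) = Pts.pt ⁻¹' ((f ⁻¹ᵁ V : X.Opens) : Set X) := by
    ext s
    simp only [Set.mem_preimage, Pts.pt_map]
    rfl
  have hfs : IsOpen (Pts.map f ⁻¹' (Pts.pt ⁻¹' (V : Set Y))) := by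
    rw [hpre]; exact Pts.isOpen_preimage_pt _
  have hrU : Set.range (Pts.map (f ⁻¹ᵁ V).ι) = Pts.map f ⁻¹' (Pts.pt ⁻¹' (V : Set Y)) := by
    rw [range_map_of_isOpenImmersion, Scheme.Opens.opensRange_ι, hpre]
  have hrV : Set.range (Pts.map V.ι) = Pts.pt ⁻¹' (V : Set Y) := by
    rw [range_map_of_isOpenImmersion, Scheme.Opens.opensRange_ι]
  let eU : Pts (f ⁻¹ᵁ V).toScheme ≃ₜ ↥(Pts.map f ⁻¹' (Pts.pt ⁻¹' (V : Set Y))) :=
    ((isOpenEmbedding_map_of_isOpenImmersion (f ⁻¹ᵁ V).ι).isEmbedding.toHomeomorph).trans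
      (Homeomorph.setCongr hrU)
  let eV : Pts V.toScheme ≃ₜ ↥(Pts.pt ⁻¹' (V : Set Y)) :=
    ((isOpenEmbedding_map_of_isOpenImmersion V.ι).isEmbedding.toHomeomorph).trans
      (Homeomorph.setCongr hrV)
  have hconj : (Pts.pt ⁻¹' (V : Set Y)).restrictPreimage (Pts.map f) =
      eV ∘ (Pts.map (f.resLE V (f ⁻¹ᵁ V) le_rfl) ∘ eU.symm) := by
    funext z
    obtain ⟨z', rfl⟩ := eU.surjective z
    simp only [Function.comp_apply, Homeomorph.symm_apply_apply]
    apply Subtype.ext
    change Pts.map f (Pts.map (f ⁻¹ᵁ V).ι z') =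
      Pts.map V.ι (Pts.map (f.resLE V (f ⁻¹ᵁ V) le_rfl) z')
    apply Subtype.ext
    change (z'.1 ≫ (f ⁻¹ᵁ V).ι) ≫ f = (z'.1 ≫ f.resLE V (f ⁻¹ᵁ V) le_rfl) ≫ V.ι
    rw [Category.assoc, Category.assoc, Scheme.Hom.resLE_comp_ι]
  have hcov' : IsCoveringMap ((Pts.pt ⁻¹' (V : Set Y)).restrictPreimage (Pts.map f)) := by
    rw [hconj]
    exact (hcov.comp_homeomorph eU.symm).homeomorph_comp eV
  exact IsCoveringMapOn.of_isCoveringMap_restrictPreimage _ hs hfs hcov' y₀ hyV

end cover

end Groth.Agent.R2.H20.FinEtCover
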