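import Mathlib
import Groth.Agent.R2.H20CurveAmple
import Groth.Agent.R2.H98CurveGen
import Groth.Agent.S1526

/-!
# Invertible modules on genus-zero curves (helper20)

For a proper integral curve `X` over `k` (dimension `≤ 1`) against the finiteness hypothesis `HFin`:
* `euler_eq_deg_add` : Riemann–Roch `χ(L) = deg L + χ(O_X)` (a restatement of the definition);
* `exists_section_of_euler_pos` : `χ(L) > 0` gives a nonzero section;
* `finrank_H1_le_of_section` : for a nonzero section `s : O_X ⟶ L`, `h^1(L) ≤ h^1(O_X)`.
-/

set_option autoImplicit false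
set_option linter.style.haveILetI false
universe u
open CategoryTheory CategoryTheory.Limits AlgebraicGeometry

namespace Groth.Agent.R2.H20.GenusZero

open Groth.Agent.R2.H62.CurveCore Groth.Agent.R2.H62.CurveInv Groth.Agent.R2.H20.CurveDeg
  Groth.Agent.R2.H20.CurveAmple Groth.Agent.R2.H98.CurveGen

variable {k : Type u} [Field k] {X : Scheme.{u}} [X.Over (Spec (CommRingCat.of k))]
  [IsProper (X ↘ Spec (CommRingCat.of k))]

/-- `χ(L) > 0` on a scheme of dimension `≤ 1` gives a nonzero section. -/
theorem exists_section_of_euler_pos (hdim : topologicalKrullDim X ≤ 1) (F : X.Modules)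
    (hF : Coh.IsQCoh F) (h : 0 < Curv2.euler k X F) :
    ∃ s : Coh.structureModule X ⟶ F, s ≠ 0 := by
  have h2 := finrank_HH_zero_ge (k := k) hdim F hF
  have h3 : 0 < Module.finrank k (Coh.HH X F 0) := by omega
  exact exists_hom_ne_zero_of_nontrivial F (Module.nontrivial_of_finrank_pos (R := k) h3)

/-- for a nonzero section `s : O_X ⟶ L` of an invertible module on an integral proper curve,
`h^1(L) ≤ h^1(O_X)`. -/
theorem finrank_H1_le_of_section [IsIntegral X] (hdim : topologicalKrullDim X ≤ 1) (hfin : HFin k X)
    {L : X.Modules} (hL : PicF.IsInvertible L) (s : Coh.structureModule X ⟶ L) (hs : s ≠ 0) :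
    Module.finrank k (Coh.HH X L 1) ≤ Module.finrank k (Coh.HH X (Coh.structureModule X) 1) := by
  have hO : PicF.IsInvertible (Coh.structureModule X) :=
    Groth.Agent.Lib.Helper23.TensorUnit.isInvertible_structureModule X
  haveI : Mono s := mono_of_ne_zero hO hL s hs
  have hcO := isCoh_of_isInvertible hO
  have hcL := isCoh_of_isInvertible hL
  have hcQ := isCoh_cokernel hcO hcL s
  have h3 : Subsingleton (Coh.HH X (cokernel s) 1) :=
    Groth.Agent.S1526.result k X (cokernel s) hcQ (dim_support_cokernel_le_zero hdim hO hL s hs) 1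
      le_rfl
  exact finrank_H1_le k (S := ShortComplex.mk s (cokernel.π s) (cokernel.condition s))
    (shortExact_cokernel s) h3 (hfin _ hcO 1)

end Groth.Agent.R2.H20.GenusZero
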