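import Mathlib
import Groth.Agent.Lib.Helper6AnPts
import Groth.Agent.Lib.Helper6AnFib

/-!
# `ℂ`-points of and morphisms to `Spec R` for a `ℂ`-algebra `R` (helper20)

`ptSpec χ hχ : An.Pts (Spec R)` for a `ℂ`-linear ring hom `χ : R → ℂ`, with `evTop_ptSpec`; `toSpecOfHom θ : X ⟶ Spec R` for
`θ : R →+* Γ(X, ⊤)`, with `toSpecOfHom_appTop_inv` and `toSpecOfHom_isOver`.
-/

set_option autoImplicit false
set_option linter.unusedSectionVars false

open AlgebraicGeometry CategoryTheory Opposite TopologicalSpace An Groth.Agent.Lib.Helper6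

namespace Groth.Agent.R2.H20.SpecPts

section spec

variable {R : Type} [CommRing R] [Algebra ℂ R]

/-- the structure homomorphism of `Spec R` -/
lemma ΓSpecIso_hom_strHom (c : ℂ) :
    (Scheme.ΓSpecIso (CommRingCat.of R)).hom (strHom (Spec (CommRingCat.of R)) c) =
      algebraMap ℂ R c := by
  unfold strHom
  have h := Scheme.ΓSpecIso_inv_naturality (CommRingCat.ofHom (algebraMap ℂ R))
  have h2 : (Spec (CommRingCat.of R) ↘ SC) = Spec.map (CommRingCat.ofHom (algebraMap ℂ R)) := rfl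
  rw [h2]
  have h3 := congrArg (fun φ => φ.hom c) h
  simp only [CommRingCat.hom_comp, RingHom.coe_comp, Function.comp_apply,
    CommRingCat.hom_ofHom] at h3
  simp only [RingHom.coe_comp, Function.comp_apply]
  rw [← h3]
  exact congrArg (fun φ => φ.hom (algebraMap ℂ R c)) (Scheme.ΓSpecIso (CommRingCat.of R)).inv_hom_id

lemma strHom_spec (c : ℂ) :
    strHom (Spec (CommRingCat.of R)) c =
      (Scheme.ΓSpecIso (CommRingCat.of R)).inv (algebraMap ℂ R c) := by
  rw [← ΓSpecIso_hom_strHom]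
  exact (congrArg (fun φ => φ.hom (strHom (Spec (CommRingCat.of R)) c))
    (Scheme.ΓSpecIso (CommRingCat.of R)).hom_inv_id).symm

/-- the `ℂ`-point of `Spec R` attached to a `ℂ`-linear ring homomorphism `R → ℂ` -/
noncomputable def ptSpec (χ : R →+* ℂ) (hχ : ∀ c, χ (algebraMap ℂ R c) = c) :
    Pts (Spec (CommRingCat.of R)) :=
  ptOfRingHom (χ.comp (Scheme.ΓSpecIso (CommRingCat.of R)).hom.hom) (fun c => by
    rw [RingHom.comp_apply]
    erw [ΓSpecIso_hom_strHom]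
    exact hχ c)

lemma evTop_ptSpec (χ : R →+* ℂ) (hχ : ∀ c, χ (algebraMap ℂ R c) = c)
    (f : Γ(Spec (CommRingCat.of R), ⊤)) :
    (ptSpec χ hχ).evTop f = χ ((Scheme.ΓSpecIso (CommRingCat.of R)).hom f) :=
  evTop_ptOfRingHom _ _ f

lemma evTop_ptSpec_inv (χ : R →+* ℂ) (hχ : ∀ c, χ (algebraMap ℂ R c) = c) (r : R) :
    (ptSpec χ hχ).evTop ((Scheme.ΓSpecIso (CommRingCat.of R)).inv r) = χ r := by
  rw [evTop_ptSpec]
  exact congrArg χ (congrArg (fun φ => φ.hom r) (Scheme.ΓSpecIso (CommRingCat.of R)).inv_hom_id)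

end spec

section toSpec

variable {X : Scheme.{0}} [X.Over SC] {R : Type} [CommRing R] [Algebra ℂ R]

/-- the morphism to `Spec R` attached to a ring homomorphism `R → Γ(X, ⊤)` -/
noncomputable def toSpecOfHom (θ : R →+* Γ(X, ⊤)) : X ⟶ Spec (CommRingCat.of R) :=
  X.toSpecΓ ≫ Spec.map (CommRingCat.ofHom θ)

lemma toSpecOfHom_appTop (θ : R →+* Γ(X, ⊤)) :
    (toSpecOfHom θ).appTop = (Scheme.ΓSpecIso (CommRingCat.of R)).hom ≫ CommRingCat.ofHom θ := by
  unfold toSpecOfHom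
  rw [Scheme.Hom.comp_appTop, Scheme.toSpecΓ_appTop, Scheme.ΓSpecIso_naturality]

lemma toSpecOfHom_appTop_inv (θ : R →+* Γ(X, ⊤)) (r : R) :
    (toSpecOfHom θ).appTop ((Scheme.ΓSpecIso (CommRingCat.of R)).inv r) = θ r := by
  rw [toSpecOfHom_appTop]
  simp only [CommRingCat.hom_comp, RingHom.coe_comp, Function.comp_apply, CommRingCat.hom_ofHom]
  exact congrArg θ (congrArg (fun φ => φ.hom r) (Scheme.ΓSpecIso (CommRingCat.of R)).inv_hom_id)

lemma toSpecOfHom_isOver (θ : R →+* Γ(X, ⊤)) (hθ : ∀ c, θ (algebraMap ℂ R c) = strHom X c) :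
    (toSpecOfHom θ).IsOver SC := by
  refine ⟨?_⟩
  apply ext_of_isAffine
  rw [Scheme.Hom.comp_appTop]
  ext c'
  obtain ⟨c, rfl⟩ : ∃ c : ℂ, c' = (Scheme.ΓSpecIso (CommRingCat.of ℂ)).inv c :=
    ⟨(Scheme.ΓSpecIso (CommRingCat.of ℂ)).hom c', by simp⟩
  have h1 : (X ↘ SC).appTop ((Scheme.ΓSpecIso (CommRingCat.of ℂ)).inv c) = strHom X c := rfl
  have h2 : (Spec (CommRingCat.of R) ↘ SC).appTop ((Scheme.ΓSpecIso (CommRingCat.of ℂ)).inv c) =
      strHom (Spec (CommRingCat.of R)) c := rfl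
  simp only [CommRingCat.hom_comp, RingHom.coe_comp, Function.comp_apply]
  erw [h1, h2, strHom_spec, toSpecOfHom_appTop_inv, hθ]

end toSpec

end Groth.Agent.R2.H20.SpecPts
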