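import Mathlib
import Groth.Agent.R2.H20SpecPts
import Groth.Agent.R2.H20AnEps
import Groth.Agent.R2.H20EtaleLH

/-!
# Kummer covers and algebraic `p`-th roots of functions with continuous `p`-th roots (helper20)

`pair p`: the standard étale pair `(Y ^ p - t, t)` over `ℂ[t]`; `B p` its algebra; `chi p z w` its `ℂ`-points;
`exists_pow_eq`: on a scheme locally of finite type over `ℂ`, a nowhere vanishing global function `u` such that
`x ↦ u(x)` has a continuous `p`-th root on the `ℂ`-points has a `p`-th root in `Γ(X, ⊤)` (lifting through the Kummer cover,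
by `H20AnEps.exists_lift_of_continuous`).
-/

set_option autoImplicit false
set_option linter.style.haveILetI false

open Polynomial

namespace Groth.Agent.R2.H20.Kummer

/-- the standard étale pair `(Y ^ p - t, t)` over `ℂ[t]` -/
noncomputable def pair (p : ℕ) [NeZero p] : StandardEtalePair ℂ[X] where
  f := X ^ p - C X
  monic_f := monic_X_pow_sub_C _ (NeZero.ne p)
  g := C X
  cond := by
    refine ⟨C (C ((p : ℂ)⁻¹)) * X, -1, 1, ?_⟩
    obtain ⟨m, hm⟩ : ∃ m, p = m + 1 := ⟨p - 1, by have := NeZero.ne p; omega⟩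
    have hp : ((p : ℂ[X]) : ℂ[X]) * C ((p : ℂ)⁻¹) = 1 := by
      rw [← C_eq_natCast, ← C_mul, mul_inv_cancel₀ (Nat.cast_ne_zero.2 (NeZero.ne p)), C_1]
    simp only [derivative_sub, derivative_X_pow, derivative_C, sub_zero, pow_one]
    have h2 : (C (p : ℂ[X]) : ℂ[X][X]) * C (C ((p : ℂ)⁻¹)) = 1 := by rw [← C_mul, hp, C_1]
    have h3 : (X : ℂ[X][X]) ^ (p - 1) * X = X ^ p := by
      rw [hm, Nat.add_sub_cancel, pow_succ]
    linear_combination (X : ℂ[X][X]) ^ p * h2 + (C (p : ℂ[X]) : ℂ[X][X]) * C (C ((p : ℂ)⁻¹)) * h3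

/-- the Kummer algebra `ℂ[t, t⁻¹][Y]/(Y ^ p - t)`, as a standard étale algebra over `ℂ[t]` -/
abbrev B (p : ℕ) [NeZero p] : Type := (pair p).Ring

variable (p : ℕ) [NeZero p]

noncomputable instance : Algebra ℂ (B p) := ((algebraMap ℂ[X] (B p)).comp C).toAlgebra

instance : IsScalarTower ℂ ℂ[X] (B p) := IsScalarTower.of_algebraMap_eq fun _ => rfl

/-- the root `Y` -/
noncomputable def root : B p := (pair p).X

/-- the parameter `t` -/
noncomputable def tt : B p := algebraMap ℂ[X] (B p) X

lemma root_pow : root p ^ p = tt p := by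
  have h : aeval (pair p).X (X ^ p - C X : ℂ[X][X]) = 0 := (pair p).hasMap_X.1
  rw [map_sub, map_pow, aeval_X, aeval_C, sub_eq_zero] at h
  exact h

lemma aeval_root_g : aeval (root p) (pair p).g = tt p := by
  change aeval (root p) (C X : ℂ[X][X]) = _
  rw [aeval_C]
  rfl

/-- every element of the Kummer algebra is a polynomial in the root divided by a power of `t` -/
lemma exists_mul_pow_eq (r : B p) : ∃ (q : ℂ[X][X]) (n : ℕ), r * tt p ^ n = aeval (root p) q := by
  let PP : StandardEtalePresentation ℂ[X] (B p) :=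
    { P := pair p
      x := (pair p).X
      hasMap := (pair p).hasMap_X
      lift_bijective := by
        rw [StandardEtalePair.lift_X_left]
        exact Function.bijective_id }
  obtain ⟨q, n, h⟩ := PP.exists_mul_aeval_x_g_pow_eq_aeval_x r
  refine ⟨q, n, ?_⟩
  rw [← aeval_root_g]
  exact h

section chi

variable (z w : ℂ) (h : w ^ p = z) (hz : z ≠ 0)

/-- the `ℂ`-point `(z, w)` of the Kummer cover -/
noncomputable def chi : B p →+* ℂ :=
  letI : Algebra ℂ[X] ℂ := (evalRingHom z).toAlgebra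
  ((pair p).lift w ⟨by
    change aeval w (X ^ p - C X : ℂ[X][X]) = 0
    rw [map_sub, map_pow, aeval_X, aeval_C, h]
    change z - eval z X = 0
    rw [eval_X, sub_self], by
    change IsUnit (aeval w (C X : ℂ[X][X]))
    rw [aeval_C]
    change IsUnit (eval z X)
    rw [eval_X]
    exact IsUnit.mk0 z hz⟩).toRingHom

lemma chi_root : chi p z w h hz (root p) = w := by
  letI : Algebra ℂ[X] ℂ := (evalRingHom z).toAlgebra
  exact (pair p).lift_X w _

lemma chi_algebraMap (q : ℂ[X]) : chi p z w h hz (algebraMap ℂ[X] (B p) q) = eval z q := by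
  letI : Algebra ℂ[X] ℂ := (evalRingHom z).toAlgebra
  exact AlgHom.commutes _ q

lemma chi_tt : chi p z w h hz (tt p) = z := by
  unfold tt
  rw [chi_algebraMap, eval_X]

lemma chi_algebraMap_C (c : ℂ) : chi p z w h hz (algebraMap ℂ (B p) c) = c := by
  change chi p z w h hz (algebraMap ℂ[X] (B p) (C c)) = c
  rw [chi_algebraMap, eval_C]

lemma chi_aeval (q : ℂ[X][X]) :
    chi p z w h hz (aeval (root p) q) = eval₂ (evalRingHom z) w q := by
  rw [aeval_def, hom_eval₂, chi_root]
  congr 1
  ext q'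
  · simp [chi_algebraMap]
  · simp [chi_algebraMap]

end chi

section continuity

lemma continuous_eval₂ (q : ℂ[X][X]) :
    Continuous fun zw : ℂ × ℂ => eval₂ (evalRingHom zw.1) zw.2 q := by
  induction q using Polynomial.induction_on' with
  | add q₁ q₂ h₁ h₂ =>
    simp only [eval₂_add]
    exact h₁.add h₂
  | monomial n a =>
    simp only [eval₂_monomial, coe_evalRingHom]
    exact ((Polynomial.continuous a).comp continuous_fst).mul (continuous_snd.pow n)

variable {T : Type*} [TopologicalSpace T]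

lemma continuous_chi_apply (zf wf : T → ℂ) (hzc : Continuous zf) (hwc : Continuous wf)
    (h : ∀ x, wf x ^ p = zf x) (hz : ∀ x, zf x ≠ 0) (r : B p) :
    Continuous fun x => chi p (zf x) (wf x) (h x) (hz x) r := by
  obtain ⟨q, n, hq⟩ := exists_mul_pow_eq p r
  have key : ∀ x, chi p (zf x) (wf x) (h x) (hz x) r =
      eval₂ (evalRingHom (zf x)) (wf x) q / zf x ^ n := by
    intro x
    rw [← chi_aeval p (zf x) (wf x) (h x) (hz x), ← hq, map_mul, map_pow, chi_tt,
      mul_div_assoc, div_self (pow_ne_zero n (hz x)), mul_one]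
  simp only [key]
  exact ((continuous_eval₂ q).comp (hzc.prodMk hwc)).div (hzc.pow n) fun x => pow_ne_zero n (hz x)

end continuity

section scheme

open AlgebraicGeometry CategoryTheory An Groth.Agent.Lib.Helper6 Groth.Agent.R2.H20.SpecPts

/-- the affine line over `ℂ` -/
noncomputable abbrev A1 : Scheme.{0} := Spec (CommRingCat.of ℂ[X])

/-- the Kummer cover of the punctured affine line -/
noncomputable abbrev V : Scheme.{0} := Spec (CommRingCat.of (B p))

/-- the covering map -/
noncomputable def b : V p ⟶ A1 := Spec.map (CommRingCat.ofHom (algebraMap ℂ[X] (B p)))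

instance : (b p).IsOver SC := ⟨by
  change Spec.map _ ≫ Spec.map _ = Spec.map _
  rw [← Spec.map_comp]
  rfl⟩

instance : Etale (b p) := by
  unfold b
  rw [HasRingHomProperty.Spec_iff (P := @Etale)]
  exact RingHom.etale_algebraMap.mpr inferInstance

instance : Algebra.FiniteType ℂ (B p) :=
  Algebra.FiniteType.trans (inferInstance : Algebra.FiniteType ℂ ℂ[X])
    (inferInstance : Algebra.FiniteType ℂ[X] (B p))

lemma continuous_evTop {Z : Scheme.{0}} [Z.Over SC] (u : Γ(Z, ⊤)) :
    Continuous fun x : Pts Z => x.evTop u :=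
  (continuous_apply u).comp continuous_evAll

lemma b_appTop_inv (q : ℂ[X]) :
    (b p).appTop ((Scheme.ΓSpecIso (CommRingCat.of ℂ[X])).inv q) =
      (Scheme.ΓSpecIso (CommRingCat.of (B p))).inv (algebraMap ℂ[X] (B p) q) := by
  have := Scheme.ΓSpecIso_inv_naturality (CommRingCat.ofHom (algebraMap ℂ[X] (B p)))
  exact (congrArg (fun φ => φ.hom q) this).symm

/-- a nowhere vanishing global function with a continuous `p`-th root has an algebraic `p`-th root -/
theorem exists_pow_eq {Z : Scheme.{0}} [Z.Over SC] [LocallyOfFiniteType (Z ↘ SC)] (u : Γ(Z, ⊤))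
    (ψ : Pts Z → ℂ) (hψ : Continuous ψ) (hψu : ∀ x, ψ x ^ p = x.evTop u)
    (hu : ∀ x : Pts Z, x.evTop u ≠ 0) : ∃ v : Γ(Z, ⊤), v ^ p = u := by
  haveI : Fact EtaleLH := ⟨Groth.Agent.R2.H20.EtaleLH.etaleLH⟩
  let θ : ℂ[X] →+* Γ(Z, ⊤) := eval₂RingHom (strHom Z) u
  have hθ : ∀ c, θ (algebraMap ℂ ℂ[X] c) = strHom Z c := fun c => by
    change eval₂ (strHom Z) u (C c) = _
    rw [eval₂_C]
  let a : Z ⟶ A1 := toSpecOfHom θ
  haveI : a.IsOver SC := toSpecOfHom_isOver θ hθ
  let φ : Pts Z → Pts (V p) := fun x =>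
    ptSpec (chi p (x.evTop u) (ψ x) (hψu x) (hu x)) (chi_algebraMap_C p _ _ _ _)
  have hφc : Continuous φ := by
    rw [(isInducing_evAll (X := V p)).continuous_iff]
    refine continuous_pi fun f => ?_
    change Continuous fun x => (φ x).evTop f
    simp only [φ, evTop_ptSpec]
    exact continuous_chi_apply p _ _ (continuous_evTop u) hψ hψu hu _
  have hφa : ∀ s, Pts.map (b p) (φ s) = Pts.map a s := by
    intro s
    apply ext_of_evTop
    intro f
    rw [evTop_map, evTop_map]
    obtain ⟨q, rfl⟩ : ∃ q : ℂ[X], f = (Scheme.ΓSpecIso (CommRingCat.of ℂ[X])).inv q :=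
      ⟨(Scheme.ΓSpecIso (CommRingCat.of ℂ[X])).hom f, by simp⟩
    rw [toSpecOfHom_appTop_inv, b_appTop_inv, evTop_ptSpec_inv, chi_algebraMap]
    change _ = evHom s ⊤ (TopologicalSpace.Opens.mem_top _) (eval₂ (strHom Z) u q)
    rw [hom_eval₂]
    change _ = eval₂ _ (s.evTop u) q
    have hc : (evHom s ⊤ (TopologicalSpace.Opens.mem_top _)).comp (strHom Z) = RingHom.id ℂ := by
      ext c
      exact evTop_strHom s c
    rw [hc]
    rfl
  obtain ⟨g, hgb, -⟩ := Groth.Agent.R2.H20.AnEps.exists_lift_of_continuous a (b p) φ hφc hφa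
  refine ⟨g.appTop ((Scheme.ΓSpecIso (CommRingCat.of (B p))).inv (root p)), ?_⟩
  rw [← map_pow, ← map_pow, root_pow]
  unfold tt
  rw [← b_appTop_inv]
  have h2 : g.appTop ((b p).appTop ((Scheme.ΓSpecIso (CommRingCat.of ℂ[X])).inv X)) =
      (g ≫ b p).appTop ((Scheme.ΓSpecIso (CommRingCat.of ℂ[X])).inv X) := by
    rw [Scheme.Hom.comp_appTop]
    rfl
  rw [h2, hgb, toSpecOfHom_appTop_inv]
  change eval₂ (strHom Z) u X = u
  rw [eval₂_X]

end scheme

end Groth.Agent.R2.H20.Kummer
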