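import Groth.Agent.R2.H87ProjSpaceOver
import Groth.Agent.Lib.Helper13ProjUPa
import Groth.Agent.Lib.Helper27PnChart
import Groth.Agent.Lib.Helper6AnAffine

/-!
# helper20: the space of `ℂ`-points of projective space is compact

* `subring_eq_top_of_isPullback` : sections of a fibre product over affine pieces are generated (as a
  ring) by the sections of the two factors.
* `compactSpace_pts_projSpaceOver` : `An.Pts (CohB1.ProjSpaceOver n SC)` is a compact space.
-/

set_option autoImplicit false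

open CategoryTheory CategoryTheory.Limits AlgebraicGeometry TopologicalSpace Opposite An

namespace Groth.Agent.R2.H20.PnCompact

section General

universe u

variable {X Y S T : Scheme.{u}} {f : T ⟶ S} {g : Y ⟶ X} {iX : X ⟶ S} {iY : Y ⟶ T}

/-- sections of a fibre product over affine pieces are generated by the two factors -/
theorem subring_eq_top_of_isPullback (H : IsPullback g iY iX f)
    {US : S.Opens} {UT : T.Opens} {UX : X.Opens} (hUST : UT ≤ f ⁻¹ᵁ US) (hUSX : UX ≤ iX ⁻¹ᵁ US)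
    {UY : Y.Opens} (hUY : UY = g ⁻¹ᵁ UX ⊓ iY ⁻¹ᵁ UT)
    (hUS : IsAffineOpen US) (hUT : IsAffineOpen UT) (hUX : IsAffineOpen UX)
    (R' : Subring Γ(Y, UY))
    (h1 : ∀ a, (g.appLE UX UY (by simp [hUY])).hom a ∈ R')
    (h2 : ∀ c, (iY.appLE UT UY (by simp [hUY])).hom c ∈ R') : R' = ⊤ := by
  have hiso := isIso_pushoutSection_of_isAffineOpen H hUST hUSX hUY hUS hUT hUX
  let ι : CommRingCat.of R' ⟶ Γ(Y, UY) := CommRingCat.ofHom R'.subtype
  let a1 : Γ(X, UX) ⟶ CommRingCat.of R' :=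
    CommRingCat.ofHom ((g.appLE UX UY (by simp [hUY])).hom.codRestrict R' h1)
  let a2 : Γ(T, UT) ⟶ CommRingCat.of R' :=
    CommRingCat.ofHom ((iY.appLE UT UY (by simp [hUY])).hom.codRestrict R' h2)
  have e1 : a1 ≫ ι = g.appLE UX UY (by simp [hUY]) := by ext; rfl
  have e2 : a2 ≫ ι = iY.appLE UT UY (by simp [hUY]) := by ext; rfl
  have hw : iX.appLE US UX hUSX ≫ a1 = f.appLE US UT hUST ≫ a2 := by
    have hmono : Mono ι := ConcreteCategory.mono_of_injective ι Subtype.val_injective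
    rw [← cancel_mono ι, Category.assoc, Category.assoc, e1, e2]
    simp only [Scheme.Hom.appLE_comp_appLE, H.w]
  let d : pushout (iX.appLE US UX hUSX) (f.appLE US UT hUST) ⟶ CommRingCat.of R' :=
    pushout.desc a1 a2 hw
  have hd : d ≫ ι = pushoutSection H hUST hUSX hUY := by
    apply pushout.hom_ext
    · rw [pushout.inl_desc_assoc, e1, pushout.inl_desc]
    · rw [pushout.inr_desc_assoc, e2, pushout.inr_desc]
  rw [eq_top_iff]
  intro b _
  have : b = ι.hom (d.hom ((inv (pushoutSection H hUST hUSX hUY)).hom b)) := by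
    have h3 : inv (pushoutSection H hUST hUSX hUY) ≫ d ≫ ι = 𝟙 _ := by
      rw [hd]; simp
    have := congrArg (fun k => k.hom b) h3
    simpa using this.symm
  rw [this]
  exact (d.hom _).2

end General

open Groth.Agent.R2.H87 Groth.Agent.Helper13Dehom Groth.Agent.Helper13ProjUP
open Groth.Agent.Lib.Helper27PnChart Groth.Agent.Lib.Helper6

variable (n : ℕ)

/-- the integers in universe zero -/
abbrev ZZ : Type := ULift.{0} ℤ

/-- `P^n_ℤ` -/
noncomputable abbrev PZ : Scheme.{0} := Proj (CohB1.polyGrading n ZZ)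

/-- `P^n_ℂ` -/
noncomputable abbrev Pc : Scheme.{0} := CohB1.ProjSpaceOver n SC

/-- the projection `P^n_ℂ ⟶ P^n_ℤ` -/
noncomputable abbrev q : Pc n ⟶ PZ n := ProjSpaceOver.toZ n SC

lemma X_mem (i : Fin (n + 1)) :
    (MvPolynomial.X i : MvPolynomial (Fin (n + 1)) ZZ) ∈ CohB1.polyGrading n ZZ 1 :=
  X_mem_one n ZZ i

/-- the standard open `D₊(T_i)` of `P^n_ℤ` -/
noncomputable def D (i : Fin (n + 1)) : (PZ n).Opens :=
  Proj.basicOpen (CohB1.polyGrading n ZZ) (MvPolynomial.X i)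

/-- the standard open of `P^n_ℂ` -/
noncomputable def W (i : Fin (n + 1)) : (Pc n).Opens := q n ⁻¹ᵁ D n i

/-- the coordinate function `T_j / T_i` on `D₊(T_i) ⊆ P^n_ℤ` -/
noncomputable def t (i j : Fin (n + 1)) : Γ(PZ n, D n i) :=
  dehom (X_mem n i) (MvPolynomial.X j)

/-- the coordinate function `T_j / T_i` on `W i ⊆ P^n_ℂ` -/
noncomputable def s (i j : Fin (n + 1)) : Γ(Pc n, W n i) := (q n).app (D n i) (t n i j)

lemma iSup_W : (⨆ i, W n i) = ⊤ := by
  have h := iSup_basicOpen_X n ZZ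
  have : (⨆ i, W n i) = q n ⁻¹ᵁ (⨆ i, D n i) := by
    simp only [W, Scheme.Hom.preimage_iSup]
  rw [this]
  change q n ⁻¹ᵁ (⨆ i, Proj.basicOpen (CohB1.polyGrading n ZZ) (MvPolynomial.X i)) = ⊤
  rw [h]
  rfl

lemma isAffineOpen_D (i : Fin (n + 1)) : IsAffineOpen (D n i) :=
  isAffineOpen_basicOpen (X_mem n i)

instance : IsAffineHom (q n) :=
  MorphismProperty.of_isPullback (ProjSpaceOver.isPullback_toZ n SC).flip inferInstance

lemma isAffineOpen_W (i : Fin (n + 1)) : IsAffineOpen (W n i) :=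
  (isAffineOpen_D n i).preimage (q n)

lemma t_self (i : Fin (n + 1)) : t n i i = 1 := dehom_self (X_mem n i)

lemma s_self (i : Fin (n + 1)) : s n i i = 1 := by
  rw [s, t_self]; exact map_one _

/-- the structure morphism of `P^n_ℂ` -/
noncomputable abbrev π : Pc n ⟶ SC := CohB1.ProjSpaceOver.toBase n SC

/-- `Γ(P^n_ℂ, W i)` is generated by the constants and the coordinate functions `T_j / T_i`. -/
lemma subring_eq_top (i : Fin (n + 1)) (R' : Subring Γ(Pc n, W n i))
    (hc : ∀ c : Γ(SC, ⊤), ((π n).appLE ⊤ (W n i) (by simp)).hom c ∈ R')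
    (hs : ∀ j, s n i j ∈ R') : R' = ⊤ := by
  have hUY : W n i = q n ⁻¹ᵁ D n i ⊓ π n ⁻¹ᵁ ⊤ := by simp [W]
  refine subring_eq_top_of_isPullback (ProjSpaceOver.isPullback_toZ n SC)
    (US := ⊤) (UT := ⊤) (UX := D n i) le_top le_top hUY (isAffineOpen_top _) (isAffineOpen_top _)
    (isAffineOpen_D n i) R' ?_ hc
  intro a
  obtain ⟨j, p, -, rfl⟩ := exists_dehom_eq (X_mem n i) a
  set ψ : MvPolynomial (Fin (n + 1)) ZZ →+* Γ(Pc n, W n i) :=
    ((q n).appLE (D n i) (W n i) (by simp [hUY])).hom.comp (dehom (X_mem n i)) with hψ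
  change ψ p ∈ R'
  induction p using MvPolynomial.induction_on with
  | C z =>
    have hz : z = ((z.down : ℤ) : ZZ) := by
      apply ULift.ext
      simp
    rw [hz, map_intCast, map_intCast]
    exact intCast_mem R' _
  | add p p' hp hp' => rw [map_add]; exact add_mem hp hp'
  | mul_X p j hp =>
    rw [map_mul]
    refine mul_mem hp ?_
    have : ψ (MvPolynomial.X j) = s n i j := by
      simp only [hψ, s, t]
      rw [Scheme.Hom.app_eq_appLE]
      rfl
    rw [this]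
    exact hs j

section Points

variable {X Y : Scheme.{0}} [X.Over SC] [Y.Over SC]

/-- evaluation and `appLE` -/
lemma ev_appLE (g : X ⟶ Y) [g.IsOver SC] (y : Pts X) (U : Y.Opens) (V : X.Opens)
    (e : V ≤ g ⁻¹ᵁ U) (hy : y.pt ∈ V) (f : Γ(Y, U)) :
    y.ev V hy ((g.appLE U V e).hom f) =
      (Pts.map g y).ev U (by rw [Pts.pt_map]; exact e hy) f := by
  unfold Pts.ev
  congr 1
  have := Scheme.Hom.appLE_comp_appLE y.1 g U V ⊤ e (Pts.top_le_preimage y hy)
  exact congrArg (fun φ => φ.hom f) this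

/-- the structure homomorphism of an open subscheme -/
lemma strHom_opens (U : X.Opens) (e : U ≤ (X ↘ SC) ⁻¹ᵁ ⊤) (c : ℂ) :
    strHom U.toScheme c = (U.ι.appLE U ⊤ (by simp)).hom
      (((X ↘ SC).appLE ⊤ U e).hom ((Scheme.ΓSpecIso (CommRingCat.of ℂ)).inv.hom c)) := by
  unfold strHom
  have h : (U.toScheme ↘ SC).appTop = (X ↘ SC).appLE ⊤ U e ≫ U.ι.appLE U ⊤ (by simp) := by
    rw [Scheme.Hom.appLE_comp_appLE, Scheme.Opens.ι_comp_over, Scheme.Hom.appLE]
    have h0 : ∀ (V : U.toScheme.Opens) (k : op V ⟶ op V), U.toScheme.presheaf.map k = 𝟙 _ := by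
      intro V k
      rw [Subsingleton.elim k (𝟙 _), CategoryTheory.Functor.map_id]
    exact (Category.comp_id _).symm.trans (congrArg _ (h0 _ _).symm)
  rw [h]
  rfl

omit [X.Over SC] in
lemma bijective_ι_appLE (U : X.Opens) :
    Function.Bijective (U.ι.appLE U ⊤ (by simp)).hom := by
  have : IsIso (U.ι.appLE U ⊤ (by simp)) := by
    rw [Scheme.Opens.ι_appLE]
    have h1 : U.ι ''ᵁ ⊤ ≤ U := by simp
    have h2 : U ≤ U.ι ''ᵁ ⊤ := by simp
    have : IsIso (homOfLE h1) := ⟨homOfLE h2, rfl, rfl⟩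
    exact (inferInstance : IsIso (X.presheaf.map (homOfLE h1).op))
  exact ConcreteCategory.bijective_of_isIso _

end Points

/-- the coordinate functions on the affine scheme `W i` -/
noncomputable def s' (i j : Fin (n + 1)) : Γ((W n i).toScheme, ⊤) :=
  ((W n i).ι.appLE (W n i) ⊤ (by simp)).hom (s n i j)

instance (i : Fin (n + 1)) : IsAffine (W n i).toScheme := isAffineOpen_W n i

lemma surjective_eval (i : Fin (n + 1)) :
    Function.Surjective (MvPolynomial.eval₂Hom (strHom (W n i).toScheme) (s' n i)) := by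
  set Φ := MvPolynomial.eval₂Hom (strHom (W n i).toScheme) (s' n i) with hΦ
  let R' : Subring Γ(Pc n, W n i) := Φ.range.comap ((W n i).ι.appLE (W n i) ⊤ (by simp)).hom
  have hR' : R' = ⊤ := by
    refine subring_eq_top n i R' ?_ ?_
    · intro c
      change ((W n i).ι.appLE (W n i) ⊤ _).hom (((π n).appLE ⊤ (W n i) _).hom c) ∈ Φ.range
      refine ⟨MvPolynomial.C ((Scheme.ΓSpecIso (CommRingCat.of ℂ)).hom.hom c), ?_⟩
      rw [hΦ, MvPolynomial.eval₂Hom_C, strHom_opens (W n i) (by simp)]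
      congr 2
      exact congrArg (fun φ => φ.hom c) (Scheme.ΓSpecIso (CommRingCat.of ℂ)).hom_inv_id
    · intro j
      exact ⟨MvPolynomial.X j, by rw [hΦ, MvPolynomial.eval₂Hom_X']; rfl⟩
  intro b
  obtain ⟨b', rfl⟩ := (bijective_ι_appLE (W n i)).2 b
  have : b' ∈ R' := hR' ▸ Subring.mem_top _
  exact this

/-- the chart `W i (ℂ) → ℂ^{n+1}` is a closed embedding -/
lemma isClosedEmbedding_chart (i : Fin (n + 1)) :
    Topology.IsClosedEmbedding
      (fun (y : Pts (W n i).toScheme) (j : Fin (n + 1)) => y.evTop (s' n i j)) :=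
  isClosedEmbedding_of_generators (n + 1) (s' n i) (surjective_eval n i)

/-- the compact piece of the chart -/
def K' (i : Fin (n + 1)) : Set (Pts (W n i).toScheme) :=
  {y | ∀ j, ‖y.evTop (s' n i j)‖ ≤ 1}

lemma isCompact_K' (i : Fin (n + 1)) : IsCompact (K' n i) := by
  have h : K' n i = (fun (y : Pts (W n i).toScheme) (j : Fin (n + 1)) => y.evTop (s' n i j)) ⁻¹'
      (Set.univ.pi fun _ => Metric.closedBall (0 : ℂ) 1) := by
    ext y
    simp [K']
  rw [h]
  exact (isClosedEmbedding_chart n i).isCompact_preimage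
    (isCompact_univ_pi fun _ => isCompact_closedBall _ _)

lemma basicOpen_s (i j : Fin (n + 1)) : (Pc n).basicOpen (s n i j) = W n j ⊓ W n i := by
  have h := basicOpen_dehom (𝒜 := CohB1.polyGrading n ZZ) (X_mem n j) (X_mem n i)
  have h2 := Scheme.preimage_basicOpen (q n) (t n i j)
  refine h2.symm.trans ?_
  change q n ⁻¹ᵁ (PZ n).basicOpen (dehom (X_mem n i) (MvPolynomial.X j)) = _
  rw [h]
  rfl

lemma mem_W_iff (x : Pts (Pc n)) (i j : Fin (n + 1)) (hi : x.pt ∈ W n i) :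
    x.pt ∈ W n j ↔ x.ev (W n i) hi (s n i j) ≠ 0 := by
  rw [← mem_basicOpen_iff, basicOpen_s]
  exact ⟨fun h => ⟨h, hi⟩, fun h => h.1⟩

lemma ev_cocycle (x : Pts (Pc n)) (i j k : Fin (n + 1)) (hi : x.pt ∈ W n i) (hj : x.pt ∈ W n j) :
    x.ev (W n i) hi (s n i j) * x.ev (W n j) hj (s n j k) = x.ev (W n i) hi (s n i k) := by
  have hVi : D n i ⊓ D n j ≤ D n i := inf_le_left
  have hVj : D n i ⊓ D n j ≤ D n j := inf_le_right
  have h := dehom_cocycle (𝒜 := CohB1.polyGrading n ZZ) (X_mem n k) (X_mem n j) (X_mem n i)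
    (W := D n i ⊓ D n j) hVj hVi
  have hx : x.pt ∈ q n ⁻¹ᵁ (D n i ⊓ D n j) := ⟨hi, hj⟩
  -- naturality
  have hnat : ∀ (l m : Fin (n + 1)) (hV : D n i ⊓ D n j ≤ D n l),
      ((q n).app (D n i ⊓ D n j)).hom (resO (𝒜 := CohB1.polyGrading n ZZ) hV (t n l m)) =
        ((Pc n).presheaf.map (homOfLE (show q n ⁻¹ᵁ (D n i ⊓ D n j) ≤ W n l from
          fun _ hy => hV hy)).op).hom (s n l m) := by
    intro l m hV
    have := (q n).naturality (homOfLE hV).op
    exact congrArg (fun φ => φ.hom (t n l m)) this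
  have h2 := congrArg ((q n).app (D n i ⊓ D n j)).hom h
  rw [map_mul] at h2
  change ((q n).app (D n i ⊓ D n j)).hom (resO (𝒜 := CohB1.polyGrading n ZZ) hVi (t n i j)) *
    ((q n).app (D n i ⊓ D n j)).hom (resO (𝒜 := CohB1.polyGrading n ZZ) hVj (t n j k)) =
    ((q n).app (D n i ⊓ D n j)).hom (resO (𝒜 := CohB1.polyGrading n ZZ) hVi (t n i k)) at h2
  rw [hnat, hnat, hnat] at h2
  have h3 := congrArg (x.ev (q n ⁻¹ᵁ (D n i ⊓ D n j)) hx) h2
  rw [Groth.Agent.Lib.Helper6.ev_mul] at h3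
  erw [Groth.Agent.Lib.Helper6.ev_res, Groth.Agent.Lib.Helper6.ev_res, Groth.Agent.Lib.Helper6.ev_res] at h3
  exact h3

lemma exists_mem_K' (x : Pts (Pc n)) :
    ∃ (i : Fin (n + 1)) (y : Pts (W n i).toScheme), y ∈ K' n i ∧ Pts.map (W n i).ι y = x := by
  -- a chart containing x
  obtain ⟨i₀, hi₀⟩ : ∃ i, x.pt ∈ W n i := by
    have : x.pt ∈ (⨆ i, W n i) := by rw [iSup_W]; trivial
    exact Opens.mem_iSup.mp this
  set b : Fin (n + 1) → ℂ := fun j => x.ev (W n i₀) hi₀ (s n i₀ j) with hb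
  have hb₀ : b i₀ = 1 := by
    simp only [hb, s_self]
    exact Groth.Agent.Lib.Helper6.ev_one x _ hi₀
  obtain ⟨i, hi⟩ := Finite.exists_max (fun j => ‖b j‖)
  have hbi : b i ≠ 0 := by
    intro h0
    have := hi i₀
    rw [hb₀, h0] at this
    simp at this
    linarith
  have hxi : x.pt ∈ W n i := (mem_W_iff n x i₀ i hi₀).mpr hbi
  have hcoc : ∀ k, b i * x.ev (W n i) hxi (s n i k) = b k := fun k =>
    ev_cocycle n x i₀ i k hi₀ hxi
  have hle : ∀ k, ‖x.ev (W n i) hxi (s n i k)‖ ≤ 1 := by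
    intro k
    have h1 : ‖b i‖ * ‖x.ev (W n i) hxi (s n i k)‖ = ‖b k‖ := by
      rw [← norm_mul, hcoc]
    have h2 : 0 < ‖b i‖ := norm_pos_iff.mpr hbi
    have h3 := hi k
    by_contra hcon
    push Not at hcon
    have : ‖b i‖ * 1 < ‖b i‖ * ‖x.ev (W n i) hxi (s n i k)‖ := by
      exact mul_lt_mul_of_pos_left hcon h2
    rw [h1, mul_one] at this
    exact absurd h3 (not_le.mpr this)
  -- lift x to the chart
  have hxr : x ∈ Set.range (Pts.map (W n i).ι) := by
    rw [range_map_of_isOpenImmersion, Scheme.Opens.opensRange_ι]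
    exact hxi
  obtain ⟨y, rfl⟩ := hxr
  refine ⟨i, y, fun k => ?_, rfl⟩
  have := ev_appLE (W n i).ι y (W n i) ⊤ (by simp) (Opens.mem_top _) (s n i k)
  change ‖y.ev ⊤ _ (((W n i).ι.appLE (W n i) ⊤ _).hom (s n i k))‖ ≤ 1
  rw [this]
  exact hle k

/-- **The space of `ℂ`-points of `P^n_ℂ` is compact.** -/
theorem compactSpace_pts_projSpaceOver : CompactSpace (Pts (CohB1.ProjSpaceOver n SC)) := by
  have h : (Set.univ : Set (Pts (Pc n))) = ⋃ i, Pts.map (W n i).ι '' K' n i := by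
    ext x
    simp only [Set.mem_univ, Set.mem_iUnion, Set.mem_image, true_iff]
    obtain ⟨i, y, hy, rfl⟩ := exists_mem_K' n x
    exact ⟨i, y, hy, rfl⟩
  refine ⟨?_⟩
  rw [h]
  exact isCompact_iUnion fun i => (isCompact_K' n i).image (Pts.continuous_map _)

end Groth.Agent.R2.H20.PnCompact
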