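import Mathlib

/-!
One-variable complex analysis: a function holomorphic off a finite set, with polynomial growth,
agrees off that set with a polynomial.
-/

set_option autoImplicit false

namespace Groth.Agent.R2.H20.PolyGrowth

open Complex Filter Topology Set Metric

/-- An entire function of polynomial growth of order `N` is a polynomial of degree at most `N`. -/
theorem entire_polyGrowth (N : ℕ) : ∀ (f : ℂ → ℂ), Differentiable ℂ f →
    (∃ C : ℝ, ∀ s : ℂ, ‖f s‖ ≤ C * (1 + ‖s‖) ^ N) →
    ∃ p : Polynomial ℂ, p.natDegree ≤ N ∧ ∀ s, f s = p.eval s := by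
  induction N with
  | zero =>
    intro f hf ⟨C, hC⟩
    have hb : Bornology.IsBounded (range f) := by
      rw [isBounded_iff_forall_norm_le]
      refine ⟨C, ?_⟩
      rintro _ ⟨s, rfl⟩
      simpa using hC s
    obtain ⟨c, hc⟩ := hf.exists_const_forall_eq_of_bounded hb
    exact ⟨Polynomial.C c, by simp, fun s => by simp [hc s]⟩
  | succ N ih =>
    intro f hf ⟨C, hC⟩
    have hq : Differentiable ℂ (dslope f 0) := by
      rw [← differentiableOn_univ]
      exact (differentiableOn_dslope (by simp)).2 hf.differentiableOn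
    have hC0 : 0 ≤ C := by
      have := (norm_nonneg _).trans (hC 0)
      simpa using this
    -- bound on the closed unit ball
    obtain ⟨M, hM⟩ : ∃ M : ℝ, ∀ s ∈ closedBall (0 : ℂ) 1, ‖dslope f 0 s‖ ≤ M := by
      have hcomp : IsCompact (closedBall (0 : ℂ) 1) := isCompact_closedBall 0 1
      obtain ⟨M, hM⟩ := hcomp.exists_bound_of_continuousOn hq.continuous.continuousOn
      exact ⟨M, hM⟩
    have hM0 : 0 ≤ M := (norm_nonneg _).trans (hM 0 (by simp))
    have hbound : ∀ s : ℂ, ‖dslope f 0 s‖ ≤ (M + 2 * C + 2 * ‖f 0‖) * (1 + ‖s‖) ^ N := by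
      intro s
      have h1 : (1 : ℝ) ≤ (1 + ‖s‖) ^ N := one_le_pow₀ (by linarith [norm_nonneg s])
      by_cases hs : ‖s‖ ≤ 1
      · have := hM s (by simpa using hs)
        calc ‖dslope f 0 s‖ ≤ M := this
          _ ≤ M * (1 + ‖s‖) ^ N := le_mul_of_one_le_right hM0 h1
          _ ≤ (M + 2 * C + 2 * ‖f 0‖) * (1 + ‖s‖) ^ N := by
            gcongr
            nlinarith [norm_nonneg (f 0)]
      · rw [not_le] at hs
        have hs0 : s ≠ 0 := by
          rintro rfl; simp at hs; linarith
        have hpos : 0 < ‖s‖ := norm_pos_iff.2 hs0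
        rw [dslope_of_ne _ hs0, slope_def_field, norm_div, sub_zero]
        rw [div_le_iff₀ hpos]
        have h2 : ‖f s - f 0‖ ≤ C * (1 + ‖s‖) ^ (N + 1) + ‖f 0‖ :=
          (norm_sub_le _ _).trans (add_le_add (hC s) le_rfl)
        have h3 : (1 + ‖s‖) ≤ 2 * ‖s‖ := by linarith
        have h4 : 0 ≤ (1 + ‖s‖) ^ N := by positivity
        calc ‖f s - f 0‖ ≤ C * (1 + ‖s‖) ^ (N + 1) + ‖f 0‖ := h2
          _ = C * (1 + ‖s‖) ^ N * (1 + ‖s‖) + ‖f 0‖ := by ring
          _ ≤ C * (1 + ‖s‖) ^ N * (2 * ‖s‖) + ‖f 0‖ * ((1 + ‖s‖) ^ N * (2 * ‖s‖)) := by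
            have h5 : 0 ≤ C * (1 + ‖s‖) ^ N := mul_nonneg hC0 h4
            have h6 : (1 : ℝ) ≤ (1 + ‖s‖) ^ N * (2 * ‖s‖) := by nlinarith
            have h7 : ‖f 0‖ ≤ ‖f 0‖ * ((1 + ‖s‖) ^ N * (2 * ‖s‖)) :=
              le_mul_of_one_le_right (norm_nonneg _) h6
            nlinarith [mul_le_mul_of_nonneg_left h3 h5]
          _ ≤ (M + 2 * C + 2 * ‖f 0‖) * (1 + ‖s‖) ^ N * ‖s‖ := by
            have : 0 ≤ M * (1 + ‖s‖) ^ N * ‖s‖ := by positivity
            nlinarith
    obtain ⟨p, hp, hpe⟩ := ih (dslope f 0) hq ⟨_, hbound⟩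
    refine ⟨Polynomial.C (f 0) + Polynomial.X * p, ?_, fun s => ?_⟩
    · refine (Polynomial.natDegree_add_le _ _).trans ?_
      simp only [Polynomial.natDegree_C, zero_le, sup_of_le_right]
      refine (Polynomial.natDegree_mul_le).trans ?_
      simp only [Polynomial.natDegree_X]
      omega
    · simp only [Polynomial.eval_add, Polynomial.eval_C, Polynomial.eval_mul, Polynomial.eval_X]
      rw [← hpe s]
      by_cases hs0 : s = 0
      · subst hs0; simp
      · rw [dslope_of_ne _ hs0, slope_def_field, sub_zero]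
        field_simp
        ring


/-- A function holomorphic off a finite set, with polynomial growth of order `N` there, agrees off
that set with a polynomial of degree at most `N`. -/
theorem polyGrowth_off_finite (S : Finset ℂ) (N : ℕ) : ∀ (g : ℂ → ℂ),
    DifferentiableOn ℂ g ((S : Set ℂ)ᶜ) → (∃ C : ℝ, ∀ s ∉ S, ‖g s‖ ≤ C * (1 + ‖s‖) ^ N) →
    ∃ p : Polynomial ℂ, p.natDegree ≤ N ∧ ∀ s ∉ S, g s = p.eval s := by
  classical
  induction S using Finset.induction_on with
  | empty =>
    intro g hd ⟨C, hC⟩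
    have hd' : Differentiable ℂ g := by
      rw [← differentiableOn_univ]
      simpa using hd
    obtain ⟨p, hp, hpe⟩ := entire_polyGrowth N g hd' ⟨C, fun s => hC s (by simp)⟩
    exact ⟨p, hp, fun s _ => hpe s⟩
  | insert c S' hc ih =>
    intro g hd ⟨C₀, hC₀⟩
    -- make the constant nonnegative
    set C : ℝ := max C₀ 0 with hCdef
    have hC0 : 0 ≤ C := le_max_right _ _
    have hC : ∀ s ∉ insert c S', ‖g s‖ ≤ C * (1 + ‖s‖) ^ N := fun s hs =>
      (hC₀ s hs).trans (by gcongr; exact le_max_left _ _)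
    have hopen : IsOpen ((S' : Set ℂ)ᶜ) := S'.finite_toSet.isClosed.isOpen_compl
    have hopen2 : IsOpen (((insert c S' : Finset ℂ) : Set ℂ)ᶜ) :=
      (insert c S').finite_toSet.isClosed.isOpen_compl
    set s : Set ℂ := (S' : Set ℂ)ᶜ ∩ ball c 1 with hs
    have hsc : s ∈ 𝓝 c := Filter.inter_mem (hopen.mem_nhds (by simpa using hc)) (ball_mem_nhds c one_pos)
    have hsub : s \ {c} ⊆ ((insert c S' : Finset ℂ) : Set ℂ)ᶜ := by
      rintro x ⟨⟨hx1, _⟩, hx2⟩
      simp only [Finset.coe_insert, mem_compl_iff, mem_insert_iff, Finset.mem_coe, not_or]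
      exact ⟨hx2, by simpa using hx1⟩
    have hdiff : DifferentiableOn ℂ g (s \ {c}) := hd.mono hsub
    have hbdd : BddAbove (norm ∘ g '' (s \ {c})) := by
      refine ⟨C * (2 + ‖c‖) ^ N, ?_⟩
      rintro _ ⟨x, hx, rfl⟩
      have hx' : x ∉ insert c S' := by
        have := hsub hx
        simpa using this
      have hxc : ‖x‖ ≤ 1 + ‖c‖ := by
        have : dist x c < 1 := hx.1.2
        have h2 : ‖x‖ ≤ ‖x - c‖ + ‖c‖ := by
          simpa using norm_add_le (x - c) c
        rw [dist_eq_norm] at this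
        linarith
      refine (hC x hx').trans ?_
      refine mul_le_mul_of_nonneg_left (pow_le_pow_left₀ (by positivity) (by linarith) N) hC0
    set g1 : ℂ → ℂ := Function.update g c (limUnder (𝓝[≠] c) g) with hg1
    have hg1s : DifferentiableOn ℂ g1 s := differentiableOn_update_limUnder_of_bddAbove hsc hdiff hbdd
    have hg1eq : ∀ x, x ≠ c → g1 x = g x := fun x hx => Function.update_of_ne hx _ _
    have hg1d : DifferentiableOn ℂ g1 ((S' : Set ℂ)ᶜ) := by
      intro x hx
      by_cases hxc : x = c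
      · subst hxc
        exact (hg1s.differentiableAt hsc).differentiableWithinAt
      · have hx' : x ∈ ((insert c S' : Finset ℂ) : Set ℂ)ᶜ := by
          simp only [Finset.coe_insert, mem_compl_iff, mem_insert_iff, Finset.mem_coe, not_or]
          exact ⟨hxc, by simpa using hx⟩
        have h1 : DifferentiableAt ℂ g x := hd.differentiableAt (hopen2.mem_nhds hx')
        have h2 : g1 =ᶠ[𝓝 x] g := by
          filter_upwards [isOpen_ne.mem_nhds hxc] with y hy using hg1eq y hy
        exact (h2.differentiableAt_iff.2 h1).differentiableWithinAt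
    have hg1c : ContinuousAt g1 c := (hg1s.differentiableAt hsc).continuousAt
    have hbound1 : ∀ x ∉ S', ‖g1 x‖ ≤ C * (1 + ‖x‖) ^ N := by
      intro x hx
      by_cases hxc : x = c
      · subst hxc
        have hev : ∀ᶠ y in 𝓝[≠] x, ‖g1 y‖ ≤ C * (1 + ‖y‖) ^ N := by
          have h1 : ∀ᶠ y in 𝓝[≠] x, y ∈ (S' : Set ℂ)ᶜ :=
            nhdsWithin_le_nhds (hopen.mem_nhds (by simpa using hx))
          filter_upwards [h1, self_mem_nhdsWithin] with y hy hyc
          rw [hg1eq y hyc]
          exact hC y (by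
            simp only [Finset.mem_insert, not_or]
            exact ⟨hyc, by simpa using hy⟩)
        have ht1 : Tendsto (fun y => ‖g1 y‖) (𝓝[≠] x) (𝓝 ‖g1 x‖) :=
          (hg1c.norm).mono_left nhdsWithin_le_nhds
        have ht2 : Tendsto (fun y : ℂ => C * (1 + ‖y‖) ^ N) (𝓝[≠] x) (𝓝 (C * (1 + ‖x‖) ^ N)) := by
          have : Continuous (fun y : ℂ => C * (1 + ‖y‖) ^ N) := by fun_prop
          exact this.continuousAt.mono_left nhdsWithin_le_nhds
        exact le_of_tendsto_of_tendsto ht1 ht2 hev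
      · rw [hg1eq x hxc]
        exact hC x (by
          simp only [Finset.mem_insert, not_or]
          exact ⟨hxc, hx⟩)
    obtain ⟨p, hp, hpe⟩ := ih g1 hg1d ⟨C, hbound1⟩
    refine ⟨p, hp, fun x hx => ?_⟩
    simp only [Finset.mem_insert, not_or] at hx
    rw [← hg1eq x hx.1]
    exact hpe x hx.2

end Groth.Agent.R2.H20.PolyGrowth
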