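import Mathlib

/-!
# Elements with `p`-th roots for all primes `p` in finitely generated algebras (helper20)

`exists_algebraMap_eq_of_forall_prime_pow`: in a finitely generated domain over an algebraically closed field, an element
having `p`-th roots for all primes `p` is a constant.  `finite_setOf_ringHom_apply`: in a finitely generated algebra,
such an element takes finitely many values at the rational points.
-/

set_option autoImplicit false

open Polynomial

namespace Groth.Agent.R2.H20.PthRoot

section notpow

variable {k : Type*} [Field k] {σ : Type*}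

/-- a variable is not a `p`-th power in the field of rational functions -/
lemma X_ne_pow (i : σ) {p : ℕ} (hp : 2 ≤ p) (b : FractionRing (MvPolynomial σ k)) :
    b ^ p ≠ algebraMap (MvPolynomial σ k) (FractionRing (MvPolynomial σ k)) (MvPolynomial.X i) := by
  intro hb
  have hint : IsIntegral (MvPolynomial σ k) b := by
    refine ⟨X ^ p - C (MvPolynomial.X i), monic_X_pow_sub_C _ (by omega), ?_⟩
    simp [hb]
  obtain ⟨w, rfl⟩ := IsIntegrallyClosed.isIntegral_iff.1 hint
  rw [← map_pow] at hb
  have hw : w ^ p = MvPolynomial.X i := IsFractionRing.injective _ _ hb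
  have hirr : Irreducible (w ^ p) := hw ▸ (MvPolynomial.X_prime (R := k) (i := i)).irreducible
  exact not_irreducible_pow (by omega) hirr

end notpow

section main

variable {k : Type*} [Field k] [IsAlgClosed k] {D : Type*} [CommRing D] [IsDomain D] [Algebra k D]
  [Algebra.FiniteType k D]

theorem exists_algebraMap_eq_of_forall_prime_pow (u : D)
    (h : ∀ p : ℕ, p.Prime → ∃ v : D, v ^ p = u) : ∃ c : k, algebraMap k D c = u := by
  by_cases halg : IsAlgebraic k u
  · have hint : IsIntegral k u := halg.isIntegral
    have hirr := minpoly.irreducible hint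
    have hdeg := IsAlgClosed.degree_eq_one_of_irreducible k hirr
    exact minpoly.mem_range_of_degree_eq_one k u hdeg
  · exfalso
    -- transcendental case
    let K := FractionRing D
    have hinj : Function.Injective (algebraMap D K) := IsFractionRing.injective D K
    let u' : K := algebraMap D K u
    have htr : Transcendental k u' := (transcendental_algebraMap_iff hinj).2 halg
    have hind : AlgebraicIndepOn k id ({u'} : Set K) := by
      have : Subsingleton ({u'} : Set K) := inferInstance
      exact (algebraicIndependent_singleton_iff (R := k) (x := fun i : ({u'} : Set K) => id (i : K))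
        ⟨u', rfl⟩).2 htr
    obtain ⟨t, hut, ht⟩ := exists_isTranscendenceBasis_superset hind
    let F := IntermediateField.adjoin k (Set.range ((↑) : t → K))
    have hKalg : Algebra.IsAlgebraic F K := ht.isAlgebraic_field
    obtain ⟨S, hS⟩ := (Algebra.FiniteType.out : (⊤ : Subalgebra k D).FG)
    let S' : Set K := algebraMap D K '' (S : Set D)
    let E : Subalgebra F K := Algebra.adjoin F S'
    have hEfg : E.toSubmodule.FG :=
      fg_adjoin_of_finite (S.finite_toSet.image _) fun x _ => (hKalg.isAlgebraic x).isIntegral
    have : Module.Finite F E := Module.Finite.iff_fg.2 hEfg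
    have hDE : ∀ d : D, algebraMap D K d ∈ E := by
      intro d
      have hd : d ∈ Algebra.adjoin k (S : Set D) := hS ▸ Algebra.mem_top
      induction hd using Algebra.adjoin_induction with
      | mem x hx => exact Algebra.subset_adjoin ⟨x, hx, rfl⟩
      | algebraMap r =>
        rw [← IsScalarTower.algebraMap_apply k D K, IsScalarTower.algebraMap_apply k F K]
        exact E.algebraMap_mem _
      | add x y _ _ hx hy => rw [map_add]; exact E.add_mem hx hy
      | mul x y _ _ hx hy => rw [map_mul]; exact E.mul_mem hx hy
    obtain ⟨p, hpN, hp⟩ := Nat.exists_infinite_primes (Module.finrank F E + 2)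
    obtain ⟨v, hv⟩ := h p hp
    let v' : K := algebraMap D K v
    have hv' : v' ^ p = u' := by rw [← map_pow, hv]
    let i₀ : t := ⟨u', hut rfl⟩
    let uF : F := ⟨u', IntermediateField.subset_adjoin _ _ ⟨i₀, rfl⟩⟩
    let e := ht.1.aevalEquivField
    have he : e (algebraMap (MvPolynomial t k) (FractionRing (MvPolynomial t k))
        (MvPolynomial.X i₀)) = uF := by
      apply Subtype.ext
      rw [AlgebraicIndependent.aevalEquivField_algebraMap_apply_coe, MvPolynomial.aeval_X]
    have hnp : ∀ b : F, b ^ p ≠ uF := by
      intro b hb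
      apply X_ne_pow i₀ hp.two_le (e.symm b)
      rw [← map_pow, hb, ← he, AlgEquiv.symm_apply_apply]
    have hirr : Irreducible (X ^ p - C uF : F[X]) := X_pow_sub_C_irreducible_of_prime hp hnp
    have hroot : aeval v' (X ^ p - C uF : F[X]) = 0 := by
      simp only [map_sub, map_pow, aeval_X, aeval_C, hv']
      exact sub_self _
    have hmin : (X ^ p - C uF : F[X]) = minpoly F v' :=
      minpoly.eq_of_irreducible_of_monic hirr hroot (monic_X_pow_sub_C _ hp.ne_zero)
    have hdeg : (minpoly F v').natDegree = p := by
      rw [← hmin, natDegree_X_pow_sub_C]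
    let x : E := ⟨v', hDE v⟩
    have hx : minpoly F x = minpoly F v' :=
      (minpoly.algebraMap_eq (A := F) (B := E) (B' := K) Subtype.val_injective x).symm
    have hle := minpoly.natDegree_le (A := F) x
    rw [hx, hdeg] at hle
    omega

end main

section values

variable {k : Type*} [Field k] [IsAlgClosed k] {A : Type*} [CommRing A] [Algebra k A]
  [Algebra.FiniteType k A]

/-- if `u` has `p`-th roots for all primes `p` in a finitely generated algebra over an algebraically
closed field, then `u` takes only finitely many values at the `k`-points -/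
theorem finite_setOf_ringHom_apply (u : A) (h : ∀ p : ℕ, p.Prime → ∃ v : A, v ^ p = u) :
    {c : k | ∃ ρ : A →+* k, (∀ a, ρ (algebraMap k A a) = a) ∧ ρ u = c}.Finite := by
  have hN : IsNoetherianRing A := Algebra.FiniteType.isNoetherianRing k A
  have hfin : (minimalPrimes A).Finite := minimalPrimes.finite_of_isNoetherianRing A
  have hsub : {c : k | ∃ ρ : A →+* k, (∀ a, ρ (algebraMap k A a) = a) ∧ ρ u = c} ⊆
      ⋃ P ∈ minimalPrimes A, {c : k | u - algebraMap k A c ∈ P} := by
    rintro c ⟨ρ, hρ, rfl⟩
    have hker : (RingHom.ker ρ).IsPrime := RingHom.ker_isPrime ρ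
    obtain ⟨P, hP, hPle⟩ := Ideal.exists_minimalPrimes_le (I := ⊥) (J := RingHom.ker ρ) bot_le
    have hPprime : P.IsPrime := hP.1.1
    obtain ⟨c, hc⟩ := exists_algebraMap_eq_of_forall_prime_pow (k := k) (D := A ⧸ P)
      (Ideal.Quotient.mk P u) (fun p hp => by
        obtain ⟨v, hv⟩ := h p hp
        exact ⟨Ideal.Quotient.mk P v, by rw [← map_pow, hv]⟩)
    have hmem : u - algebraMap k A c ∈ P := by
      rw [← Ideal.Quotient.eq, ← hc]
      rfl
    have h0 : ρ (u - algebraMap k A c) = 0 := hPle hmem
    rw [map_sub, hρ, sub_eq_zero] at h0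
    refine Set.mem_iUnion₂.2 ⟨P, hP, ?_⟩
    change u - algebraMap k A (ρ u) ∈ P
    rw [h0]
    exact hmem
  refine Set.Finite.subset (hfin.biUnion fun P hP => ?_) hsub
  have hPprime : P.IsPrime := hP.1.1
  refine Set.Subsingleton.finite ?_
  intro c hc c' hc'
  have hd : algebraMap k A (c' - c) ∈ P := by
    have := P.sub_mem hc hc'
    rw [map_sub]
    convert this using 1
    ring
  by_contra hne
  have hu : IsUnit (algebraMap k A (c' - c)) :=
    (IsUnit.mk0 _ (sub_ne_zero.2 (Ne.symm hne))).map _
  exact hPprime.ne_top (Ideal.eq_top_of_isUnit_mem _ hd hu)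

end values

end Groth.Agent.R2.H20.PthRoot
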