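import Mathlib

/-!
A function on the complement of a hypersurface in `ℂ^d` which is a polynomial of bounded degree along
every coordinate line agrees with a polynomial on a Zariski dense open set.
-/

set_option autoImplicit false

namespace Groth.Agent.R2.H20.SepPoly

open MvPolynomial

/-- The hypothesis: along each coordinate line through a point off `{h = 0}`, `g` is a polynomial of degree `≤ N`
on the part of the line off `{h = 0}`. -/
def LinePoly {d : ℕ} (N : ℕ) (h : MvPolynomial (Fin d) ℂ) (g : (Fin d → ℂ) → ℂ) : Prop :=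
  ∀ (z : Fin d → ℂ) (i : Fin d), eval z h ≠ 0 →
    ∃ p : Polynomial ℂ, p.natDegree ≤ N ∧
      ∀ s : ℂ, eval (Function.update z i s) h ≠ 0 → g (Function.update z i s) = p.eval s

/-- Substituting the constant `a` for the first variable. -/
noncomputable def slice {d : ℕ} (a : ℂ) (h : MvPolynomial (Fin (d + 1)) ℂ) : MvPolynomial (Fin d) ℂ :=
  aeval (fun j : Fin (d + 1) => Fin.cases (C a) (fun k => X k) j) h

lemma eval_slice {d : ℕ} (a : ℂ) (h : MvPolynomial (Fin (d + 1)) ℂ) (z' : Fin d → ℂ) :
    eval z' (slice a h) = eval (Fin.cons a z' : Fin (d + 1) → ℂ) h := by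
  unfold slice
  change (aeval z' : MvPolynomial (Fin d) ℂ →ₐ[ℂ] ℂ) (aeval _ h) = _
  rw [comp_aeval_apply]
  change eval _ h = _
  congr 2
  funext j
  refine Fin.cases ?_ (fun k => ?_) j
  · simp
  · simp

lemma finite_slice_eq_zero {d : ℕ} (h : MvPolynomial (Fin (d + 1)) ℂ) (hh : h ≠ 0) :
    {a : ℂ | slice a h = 0}.Finite := by
  by_contra hinf
  rw [Set.not_finite] at hinf
  apply hh
  apply MvPolynomial.funext
  intro z
  rw [← Fin.cons_self_tail z, eval_eq_eval_mv_eval', map_zero]
  have hz : Polynomial.map (eval (Fin.tail z)) (finSuccEquiv ℂ d h) = 0 := by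
    refine Polynomial.eq_zero_of_infinite_isRoot _ (hinf.mono ?_)
    intro a ha
    simp only [Set.mem_ofPred_eq] at ha ⊢
    rw [Polynomial.IsRoot, ← eval_eq_eval_mv_eval', ← eval_slice, ha, map_zero]
  rw [hz, Polynomial.eval_zero]

theorem exists_poly_of_linePoly : ∀ (d : ℕ) (N : ℕ) (h : MvPolynomial (Fin d) ℂ) (g : (Fin d → ℂ) → ℂ),
    h ≠ 0 → LinePoly N h g →
    ∃ (Q h' : MvPolynomial (Fin d) ℂ), h' ≠ 0 ∧ ∀ z, eval z h' ≠ 0 → g z = eval z Q := by
  intro d
  induction d with
  | zero =>
    intro N h g hh hg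
    refine ⟨C (g default), 1, one_ne_zero, fun z _ => ?_⟩
    rw [Subsingleton.elim z default]
    simp
  | succ d ih =>
    intro N h g hh hg
    classical
    -- choose nodes
    have hfin := finite_slice_eq_zero h hh
    have hinf : ({a : ℂ | slice a h = 0}ᶜ).Infinite := hfin.infinite_compl
    obtain ⟨t, ht, htc⟩ := hinf.exists_subset_card_eq (N + 1)
    have htne : ∀ a ∈ t, slice a h ≠ 0 := fun a ha => by
      have := ht ha
      simpa using this
    -- induction hypothesis on each slice
    have hslice : ∀ a ∈ t, LinePoly N (slice a h) (fun z' => g (Fin.cons a z')) := by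
      intro a _ z' i hz'
      rw [eval_slice] at hz'
      obtain ⟨p, hp, hpe⟩ := hg (Fin.cons a z') i.succ hz'
      refine ⟨p, hp, fun s hs => ?_⟩
      rw [eval_slice, Fin.cons_update] at hs
      have := hpe s hs
      rw [← Fin.cons_update] at this
      exact this
    have hex : ∀ a : ℂ, ∃ (Q h' : MvPolynomial (Fin d) ℂ), a ∈ t → (h' ≠ 0 ∧
        ∀ z', eval z' h' ≠ 0 → g (Fin.cons a z') = eval z' Q) := by
      intro a
      by_cases ha : a ∈ t
      · obtain ⟨Q, h', h1, h2⟩ := ih N (slice a h) _ (htne a ha) (hslice a ha)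
        exact ⟨Q, h', fun _ => ⟨h1, h2⟩⟩
      · exact ⟨0, 0, fun h => absurd h ha⟩
    choose Qa ha' hQa using hex
    -- the interpolating polynomial
    set Q : MvPolynomial (Fin (d + 1)) ℂ :=
      ∑ a ∈ t, rename Fin.succ (Qa a) * Polynomial.aeval (X (0 : Fin (d + 1))) (Lagrange.basis t id a)
      with hQ
    set h' : MvPolynomial (Fin (d + 1)) ℂ :=
      h * ∏ a ∈ t, rename Fin.succ (ha' a * slice a h) with hh'
    have hh'ne : h' ≠ 0 := by
      refine mul_ne_zero hh (Finset.prod_ne_zero_iff.2 fun a ha => ?_)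
      intro h0
      have hinj : Function.Injective (rename (Fin.succ : Fin d → Fin (d + 1)) : MvPolynomial (Fin d) ℂ → _) :=
        rename_injective _ (Fin.succ_injective d)
      have : ha' a * slice a h = 0 := hinj (by rw [h0, map_zero])
      exact mul_ne_zero (hQa a ha).1 (htne a ha) this
    refine ⟨Q, h', hh'ne, fun z hz => ?_⟩
    have hz0 : eval z h ≠ 0 := fun h0 => hz (by rw [hh', map_mul, h0, zero_mul])
    have hza : ∀ a ∈ t, eval (Fin.tail z) (ha' a) ≠ 0 ∧ eval (Fin.tail z) (slice a h) ≠ 0 := by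
      intro a ha
      have h1 : eval z (∏ a ∈ t, rename Fin.succ (ha' a * slice a h)) ≠ 0 :=
        fun h0 => hz (by rw [hh', map_mul, h0, mul_zero])
      rw [map_prod, Finset.prod_ne_zero_iff] at h1
      have h2 := h1 a ha
      rw [eval_rename, map_mul] at h2
      have h3 : (z ∘ Fin.succ) = Fin.tail z := rfl
      rw [h3] at h2
      exact ⟨left_ne_zero_of_mul h2, right_ne_zero_of_mul h2⟩
    obtain ⟨p, hp, hpe⟩ := hg z 0 hz0
    have hzupd : ∀ s : ℂ, Function.update z 0 s = Fin.cons s (Fin.tail z) := by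
      intro s
      rw [← Fin.cons_self_tail z, Fin.update_cons_zero]
      simp
    have hpa : ∀ a ∈ t, p.eval a = eval (Fin.tail z) (Qa a) := by
      intro a ha
      have h1 : eval (Function.update z 0 a) h ≠ 0 := by
        rw [hzupd, ← eval_slice]; exact (hza a ha).2
      rw [← hpe a h1, hzupd]
      exact (hQa a ha).2 _ (hza a ha).1
    have hpint : p = Lagrange.interpolate t id (fun a => eval (Fin.tail z) (Qa a)) := by
      refine Lagrange.eq_interpolate_of_eval_eq _ (Set.injOn_id _) ?_ (fun a ha => hpa a ha)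
      rw [htc]
      refine (Polynomial.degree_le_natDegree).trans_lt ?_
      exact_mod_cast Nat.lt_succ_of_le hp
    have hgz : g z = p.eval (z 0) := by
      have h1 : Function.update z 0 (z 0) = z := Function.update_eq_self 0 z
      have := hpe (z 0) (by rw [h1]; exact hz0)
      rwa [h1] at this
    rw [hgz, hpint, Lagrange.interpolate_apply, Polynomial.eval_finsetSum, hQ, map_sum]
    refine Finset.sum_congr rfl fun a _ => ?_
    rw [map_mul, eval_rename, Polynomial.eval_mul, Polynomial.eval_C]
    have h3 : (z ∘ Fin.succ) = Fin.tail z := rfl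
    rw [h3]
    congr 1
    rw [Polynomial.aeval_def, Polynomial.hom_eval₂]
    have hid : (eval z).comp (algebraMap ℂ (MvPolynomial (Fin (d + 1)) ℂ)) = RingHom.id ℂ := by
      ext x; simp
    rw [hid, eval_X, Polynomial.eval₂_id]

end Groth.Agent.R2.H20.SepPoly
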