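import Groth.Agent.R2.H20RootCoverA
import Groth.Agent.R2.H20PolyGrowth
import Groth.Agent.R2.H20SepPoly

/-!
The root covering `{(z, w) : h z ≠ 0, F(z)(w) = 0}` of an irreducible monic polynomial `F` over
`ℂ[z_1, …, z_d]`, separable off `{h = 0}`, is connected.
-/

set_option autoImplicit false

namespace Groth.Agent.R2.H20.RootCover

open MvPolynomial Topology Filter
open scoped ContDiff

variable {d : ℕ} (F : Polynomial (MvPolynomial (Fin d) ℂ)) (h : MvPolynomial (Fin d) ℂ)

/-- The root covering. -/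
def cover : Set ((Fin d → ℂ) × ℂ) := {p | eval p.1 h ≠ 0 ∧ evalFun F p = 0}

/-- The finite set of roots of the specialisation at `z`. -/
noncomputable def rootsAt (z : Fin d → ℂ) : Finset ℂ := (spec F z).roots.toFinset

lemma mem_rootsAt {F : Polynomial (MvPolynomial (Fin d) ℂ)} (hF : F.Monic) (z : Fin d → ℂ) (w : ℂ) :
    w ∈ rootsAt F z ↔ evalFun F (z, w) = 0 := by
  unfold rootsAt evalFun
  rw [Multiset.mem_toFinset, Polynomial.mem_roots (spec_monic hF z).ne_zero, Polynomial.IsRoot.def]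

variable {F h}

lemma card_rootsAt (hF : F.Monic) (hsep : ∀ z, eval z h ≠ 0 → (spec F z).Separable)
    (z : Fin d → ℂ) (hz : eval z h ≠ 0) : (rootsAt F z).card = F.natDegree := by
  unfold rootsAt
  rw [Multiset.toFinset_card_of_nodup (Polynomial.nodup_roots (hsep z hz)),
    IsAlgClosed.card_roots_eq_natDegree, spec_natDegree hF]

section Local

variable (hF : F.Monic) (hsep : ∀ z, eval z h ≠ 0 → (spec F z).Separable)
  {u v : Set ((Fin d → ℂ) × ℂ)} (hu : IsOpen u) (hv : IsOpen v) (huv : cover F h ⊆ u ∪ v)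
  (hdisj : cover F h ∩ (u ∩ v) = ∅)

include hF hsep hu hv huv hdisj in
/-- Local structure of the covering near a point of the base. -/
lemma local_structure (z0 : Fin d → ℂ) (hz0 : eval z0 h ≠ 0) :
    ∃ (ψ : ↥(rootsAt F z0) → (Fin d → ℂ) → ℂ) (I1 : Finset ↥(rootsAt F z0)),
      ∀ᶠ z in 𝓝 z0, eval z h ≠ 0 ∧ (∀ i, AnalyticAt ℂ (ψ i) z) ∧ Function.Injective (fun i => ψ i z) ∧
        (∀ i, evalFun F (z, ψ i z) = 0) ∧ (∀ i, (z, ψ i z) ∈ u ↔ i ∈ I1) := by
  classical
  have hzero : ∀ i : ↥(rootsAt F z0), evalFun F (z0, i.1) = 0 := fun i => (mem_rootsAt hF z0 i.1).1 i.2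
  have hcd : ∀ i : ↥(rootsAt F z0), ContDiffAt ℂ ω (evalFun F) (z0, i.1) := fun i =>
    ((analyticOnNhd_evalFun F) _ trivial).contDiffAt
  have hder : ∀ i : ↥(rootsAt F z0), (spec F z0).derivative.eval i.1 ≠ 0 := fun i => by
    have := (hsep z0 hz0).eval₂_derivative_ne_zero (RingHom.id ℂ) (x := i.1)
      (by rw [Polynomial.eval₂_id]; exact hzero i)
    rwa [Polynomial.eval₂_id] at this
  have hinv : ∀ i : ↥(rootsAt F z0),
      (fderiv ℂ (evalFun F) (z0, i.1) ∘L ContinuousLinearMap.inr ℂ (Fin d → ℂ) ℂ).IsInvertible := fun i =>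
    isInvertible_fderiv_evalFun_comp_inr F (z0, i.1) (hder i)
  have hω : (ω : WithTop ℕ∞) ≠ 0 := by simp
  set ψ : ↥(rootsAt F z0) → (Fin d → ℂ) → ℂ := fun i => (hcd i).implicitFunction hω (hinv i) with hψ
  have hψ0 : ∀ i, ψ i z0 = i.1 := fun i => (hcd i).implicitFunction_apply_self hω (hinv i)
  have hψcd : ∀ i, ContDiffAt ℂ ω (ψ i) z0 := fun i => (hcd i).contDiffAt_implicitFunction hω (hinv i)
  have hψc : ∀ i, ContinuousAt (ψ i) z0 := fun i => (hψcd i).continuousAt
  set I1 : Finset ↥(rootsAt F z0) := Finset.univ.filter (fun i => (z0, i.1) ∈ u) with hI1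
  refine ⟨ψ, I1, ?_⟩
  -- (a)
  have ha : ∀ᶠ z in 𝓝 z0, eval z h ≠ 0 :=
    (MvPolynomial.continuous_eval h).continuousAt.eventually_ne hz0
  -- (b)
  have hb : ∀ᶠ z in 𝓝 z0, ∀ i, AnalyticAt ℂ (ψ i) z :=
    Filter.eventually_all.2 fun i => (hψcd i).analyticAt.eventually_analyticAt
  -- (c)
  have hc : ∀ᶠ z in 𝓝 z0, ∀ i j, i ≠ j → ψ i z ≠ ψ j z := by
    refine Filter.eventually_all.2 fun i => Filter.eventually_all.2 fun j => ?_
    by_cases hij : i = j
    · exact Filter.Eventually.of_forall fun z hne => absurd hij hne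
    · have hcont : ContinuousAt (fun z => ψ i z - ψ j z) z0 := (hψc i).sub (hψc j)
      have hne : ψ i z0 - ψ j z0 ≠ 0 := by
        rw [hψ0, hψ0, sub_ne_zero]
        exact fun h => hij (Subtype.ext h)
      filter_upwards [hcont.eventually_ne hne] with z hz _
      exact sub_ne_zero.1 hz
  -- (d)
  have hd' : ∀ᶠ z in 𝓝 z0, ∀ i, evalFun F (z, ψ i z) = 0 := by
    refine Filter.eventually_all.2 fun i => ?_
    have := (hcd i).eventually_apply_implicitFunction hω (hinv i)
    simp only at this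
    filter_upwards [this] with z hz
    rw [hz, hzero i]
  -- (e)
  have hpair : ∀ i, ContinuousAt (fun z => (z, ψ i z)) z0 := fun i => continuousAt_id.prodMk (hψc i)
  have he1 : ∀ᶠ z in 𝓝 z0, ∀ i, i ∈ I1 → (z, ψ i z) ∈ u := by
    refine Filter.eventually_all.2 fun i => ?_
    by_cases hi : i ∈ I1
    · have hmem : (z0, ψ i z0) ∈ u := by
        rw [hψ0]
        simpa [hI1] using hi
      filter_upwards [(hpair i).eventually (hu.mem_nhds hmem)] with z hz _ using hz
    · exact Filter.Eventually.of_forall fun z h' => absurd h' hi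
  have he2 : ∀ᶠ z in 𝓝 z0, ∀ i, i ∉ I1 → (z, ψ i z) ∈ v := by
    refine Filter.eventually_all.2 fun i => ?_
    by_cases hi : i ∈ I1
    · exact Filter.Eventually.of_forall fun z h' => absurd hi h'
    · have hnu : (z0, i.1) ∉ u := by
        simpa [hI1] using hi
      have hcov : (z0, i.1) ∈ cover F h := ⟨hz0, hzero i⟩
      have hmem : (z0, ψ i z0) ∈ v := by
        rw [hψ0]
        exact (huv hcov).resolve_left hnu
      filter_upwards [(hpair i).eventually (hv.mem_nhds hmem)] with z hz _ using hz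
  filter_upwards [ha, hb, hc, hd', he1, he2] with z h1 h2 h3 h4 h5 h6
  refine ⟨h1, h2, ?_, h4, fun i => ⟨fun hiu => ?_, h5 i⟩⟩
  · intro i j hij
    by_contra hne
    exact h3 i j hne hij
  · by_contra hi
    have hcov : (z, ψ i z) ∈ cover F h := ⟨h1, h4 i⟩
    have : (z, ψ i z) ∈ cover F h ∩ (u ∩ v) := ⟨hcov, hiu, h6 i hi⟩
    rw [hdisj] at this
    exact this

end Local


section Coeff

/-- Coefficients of `∏ (X - ψ_i(z))` are analytic when the `ψ_i` are. -/
lemma analyticAt_coeff_prod {E : Type*} [NormedAddCommGroup E] [NormedSpace ℂ E] {ι : Type*} (I : Finset ι)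
    (ψ : ι → E → ℂ) (z0 : E) (hψ : ∀ i ∈ I, AnalyticAt ℂ (ψ i) z0) (j : ℕ) :
    AnalyticAt ℂ (fun z => (∏ i ∈ I, (Polynomial.X - Polynomial.C (ψ i z))).coeff j) z0 := by
  classical
  induction I using Finset.induction_on generalizing j with
  | empty =>
    simp only [Finset.prod_empty]
    exact analyticAt_const
  | insert a I ha ih =>
    have hψ' : ∀ i ∈ I, AnalyticAt ℂ (ψ i) z0 := fun i hi => hψ i (Finset.mem_insert_of_mem hi)
    have hψa : AnalyticAt ℂ (ψ a) z0 := hψ a (Finset.mem_insert_self _ _)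
    simp only [Finset.prod_insert ha]
    cases j with
    | zero =>
      have : (fun z => ((Polynomial.X - Polynomial.C (ψ a z)) *
          ∏ i ∈ I, (Polynomial.X - Polynomial.C (ψ i z))).coeff 0) =
          fun z => -(ψ a z) * (∏ i ∈ I, (Polynomial.X - Polynomial.C (ψ i z))).coeff 0 := by
        funext z
        rw [Polynomial.mul_coeff_zero]
        simp
      rw [this]
      exact hψa.neg.mul (ih hψ' 0)
    | succ j =>
      have : (fun z => ((Polynomial.X - Polynomial.C (ψ a z)) *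
          ∏ i ∈ I, (Polynomial.X - Polynomial.C (ψ i z))).coeff (j + 1)) =
          fun z => (∏ i ∈ I, (Polynomial.X - Polynomial.C (ψ i z))).coeff j -
            (∏ i ∈ I, (Polynomial.X - Polynomial.C (ψ i z))).coeff (j + 1) * ψ a z := by
        funext z
        rw [mul_comm, Polynomial.coeff_mul_X_sub_C]
      rw [this]
      exact (ih hψ' j).sub ((ih hψ' (j + 1)).mul hψa)

end Coeff

section Global

open Classical in
/-- The roots over `z` lying in the open set `u`. -/
noncomputable def R1 (F : Polynomial (MvPolynomial (Fin d) ℂ)) (u : Set ((Fin d → ℂ) × ℂ)) (z : Fin d → ℂ) :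
    Finset ℂ :=
  (rootsAt F z).filter (fun w => (z, w) ∈ u)

/-- The monic polynomial with roots `R1`. -/
noncomputable def Gz (F : Polynomial (MvPolynomial (Fin d) ℂ)) (u : Set ((Fin d → ℂ) × ℂ)) (z : Fin d → ℂ) :
    Polynomial ℂ :=
  ∏ w ∈ R1 F u z, (Polynomial.X - Polynomial.C w)

variable (hF : F.Monic) (hsep : ∀ z, eval z h ≠ 0 → (spec F z).Separable)
  {u v : Set ((Fin d → ℂ) × ℂ)} (hu : IsOpen u) (hv : IsOpen v) (huv : cover F h ⊆ u ∪ v)
  (hdisj : cover F h ∩ (u ∩ v) = ∅)

include hF hsep in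
/-- At a point where the local structure holds, the sets of roots are images of the local branches. -/
lemma good_point {z0 z : Fin d → ℂ} (hz0 : eval z0 h ≠ 0) (ψ : ↥(rootsAt F z0) → (Fin d → ℂ) → ℂ)
    (I1 : Finset ↥(rootsAt F z0))
    (hz : eval z h ≠ 0 ∧ (∀ i, AnalyticAt ℂ (ψ i) z) ∧ Function.Injective (fun i => ψ i z) ∧
        (∀ i, evalFun F (z, ψ i z) = 0) ∧ (∀ i, (z, ψ i z) ∈ u ↔ i ∈ I1)) :
    R1 F u z = I1.image (fun i => ψ i z) ∧ (R1 F u z).card = I1.card ∧
      Gz F u z = ∏ i ∈ I1, (Polynomial.X - Polynomial.C (ψ i z)) := by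
  classical
  obtain ⟨h1, _, h3, h4, h5⟩ := hz
  have hroots : rootsAt F z = Finset.univ.image (fun i => ψ i z) := by
    symm
    refine Finset.eq_of_subset_of_card_le ?_ ?_
    · intro w hw
      obtain ⟨i, _, rfl⟩ := Finset.mem_image.1 hw
      exact (mem_rootsAt hF z _).2 (h4 i)
    · rw [Finset.card_image_of_injective _ h3, Finset.card_univ, Fintype.card_coe,
        card_rootsAt hF hsep z h1, card_rootsAt hF hsep z0 hz0]
  have hR1 : R1 F u z = I1.image (fun i => ψ i z) := by
    ext w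
    simp only [R1, Finset.mem_filter, hroots, Finset.mem_image, Finset.mem_univ, true_and]
    constructor
    · rintro ⟨⟨i, rfl⟩, hw⟩
      exact ⟨i, (h5 i).1 hw, rfl⟩
    · rintro ⟨i, hi, rfl⟩
      exact ⟨⟨i, rfl⟩, (h5 i).2 hi⟩
  refine ⟨hR1, ?_, ?_⟩
  · rw [hR1, Finset.card_image_of_injective _ h3]
  · rw [Gz, hR1, Finset.prod_image (fun i _ j _ hij => h3 hij)]

include hF hsep hu hv huv hdisj in
lemma eventually_card_R1 (z0 : Fin d → ℂ) (hz0 : eval z0 h ≠ 0) :
    ∀ᶠ z in 𝓝 z0, (R1 F u z).card = (R1 F u z0).card := by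
  obtain ⟨ψ, I1, hev⟩ := local_structure hF hsep hu hv huv hdisj z0 hz0
  have h0 := (good_point hF hsep hz0 ψ I1 hev.self_of_nhds).2.1
  filter_upwards [hev] with z hz
  rw [(good_point hF hsep hz0 ψ I1 hz).2.1, h0]

include hF hsep hu hv huv hdisj in
lemma card_R1_const {z z' : Fin d → ℂ} (hz : eval z h ≠ 0) (hz' : eval z' h ≠ 0) :
    (R1 F u z).card = (R1 F u z').card := by
  have hpre := isPreconnected_compl_zeros h
  refine hpre.constant (f := fun z => (R1 F u z).card) ?_ hz hz'
  intro z0 hz0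
  have hev := eventually_card_R1 hF hsep hu hv huv hdisj z0 hz0
  have : ContinuousAt (fun z => (R1 F u z).card) z0 :=
    (continuousAt_const (y := (R1 F u z0).card)).congr (hev.mono fun z hz => hz.symm)
  exact this.continuousWithinAt

include hF hsep hu hv huv hdisj in
lemma analyticAt_coeff_Gz (z0 : Fin d → ℂ) (hz0 : eval z0 h ≠ 0) (j : ℕ) :
    AnalyticAt ℂ (fun z => (Gz F u z).coeff j) z0 := by
  obtain ⟨ψ, I1, hev⟩ := local_structure hF hsep hu hv huv hdisj z0 hz0
  have h0 := hev.self_of_nhds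
  have hana := analyticAt_coeff_prod I1 ψ z0 (fun i _ => h0.2.1 i) j
  refine hana.congr ?_
  filter_upwards [hev] with z hz
  rw [(good_point hF hsep hz0 ψ I1 hz).2.2]

end Global


section Bound

variable (hF : F.Monic) (u : Set ((Fin d → ℂ) × ℂ))

lemma R1_subset (z : Fin d → ℂ) : R1 F u z ⊆ rootsAt F z := by
  classical
  exact Finset.filter_subset _ _

lemma card_rootsAt_le (z : Fin d → ℂ) (hF : F.Monic) : (rootsAt F z).card ≤ F.natDegree := by
  unfold rootsAt
  refine (Multiset.toFinset_card_le _).trans ?_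
  rw [← spec_natDegree hF z]
  exact Polynomial.card_roots' _

include hF in
lemma exists_coeff_bound : ∃ (C : ℝ) (N : ℕ), 0 ≤ C ∧ ∀ (z : Fin d → ℂ) (j : ℕ),
    ‖(Gz F u z).coeff j‖ ≤ C * (1 + ‖z‖) ^ N := by
  obtain ⟨C0, N0, hC0, hroot⟩ := exists_root_bound F hF
  refine ⟨(1 + C0) ^ F.natDegree, N0 * F.natDegree, by positivity, fun z j => ?_⟩
  have hz : (1 : ℝ) ≤ 1 + ‖z‖ := by linarith [norm_nonneg z]
  have ht : (1 : ℝ) ≤ (1 + ‖z‖) ^ N0 := one_le_pow₀ hz
  have hB : 0 ≤ C0 * (1 + ‖z‖) ^ N0 := by positivity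
  have h1 := norm_coeff_prod_X_sub_C_le (R1 F u z) (C0 * (1 + ‖z‖) ^ N0) hB
    (fun w hw => hroot z w ((mem_rootsAt hF z w).1 (R1_subset u z hw))) j
  have hcard : (R1 F u z).card ≤ F.natDegree :=
    (Finset.card_le_card (R1_subset u z)).trans (card_rootsAt_le z hF)
  calc ‖(Gz F u z).coeff j‖ ≤ (1 + C0 * (1 + ‖z‖) ^ N0) ^ (R1 F u z).card := h1
    _ ≤ (1 + C0 * (1 + ‖z‖) ^ N0) ^ F.natDegree := pow_le_pow_right₀ (by linarith) hcard
    _ ≤ ((1 + C0) * (1 + ‖z‖) ^ N0) ^ F.natDegree := by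
      refine pow_le_pow_left₀ (by positivity) ?_ _
      nlinarith
    _ = (1 + C0) ^ F.natDegree * (1 + ‖z‖) ^ (N0 * F.natDegree) := by
      rw [mul_pow, ← pow_mul]

end Bound

section Line

lemma update_eq_line (z : Fin d → ℂ) (i : Fin d) (s : ℂ) :
    Function.update z i s = fun j => Function.update z i 0 j + s * (Pi.single i (1 : ℂ) : Fin d → ℂ) j := by
  funext j
  by_cases hj : j = i
  · subst hj; simp
  · simp [Function.update_of_ne hj, Pi.single_eq_of_ne hj]

lemma differentiable_update (z : Fin d → ℂ) (i : Fin d) :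
    Differentiable ℂ (fun s : ℂ => Function.update z i s) := by
  have : (fun s : ℂ => Function.update z i s) =
      fun s : ℂ => Function.update z i 0 + s • (Pi.single i (1 : ℂ) : Fin d → ℂ) := by
    funext s
    rw [update_eq_line]
    funext j
    simp
  rw [this]
  fun_prop

lemma norm_update_le (z : Fin d → ℂ) (i : Fin d) (s : ℂ) : ‖Function.update z i s‖ ≤ ‖z‖ + ‖s‖ := by
  rw [pi_norm_le_iff_of_nonneg (by positivity)]
  intro j
  by_cases hj : j = i
  · subst hj
    simp only [Function.update_self]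
    linarith [norm_nonneg z]
  · rw [Function.update_of_ne hj]
    linarith [norm_le_pi_norm z j, norm_nonneg s]

variable (hF : F.Monic) (hsep : ∀ z, eval z h ≠ 0 → (spec F z).Separable)
  {u v : Set ((Fin d → ℂ) × ℂ)} (hu : IsOpen u) (hv : IsOpen v) (huv : cover F h ⊆ u ∪ v)
  (hdisj : cover F h ∩ (u ∩ v) = ∅)

include hF hsep hu hv huv hdisj in
lemma exists_linePoly : ∃ N : ℕ, ∀ j : ℕ, SepPoly.LinePoly N h (fun z => (Gz F u z).coeff j) := by
  obtain ⟨C, N, hC, hbound⟩ := exists_coeff_bound hF u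
  refine ⟨N, fun j z i hz => ?_⟩
  have hfin : {s : ℂ | eval (Function.update z i s) h = 0}.Finite := by
    have := finite_zeros_on_line h (Function.update z i 0) (Pi.single i (1 : ℂ)) (z i) (by
      rw [← update_eq_line, Function.update_eq_self]; exact hz)
    refine this.subset ?_
    intro s hs
    simp only [Set.mem_ofPred_eq] at hs ⊢
    rw [← update_eq_line]; exact hs
  have hmem : ∀ s : ℂ, s ∉ hfin.toFinset ↔ eval (Function.update z i s) h ≠ 0 := by
    intro s; simp
  have hdiff : DifferentiableOn ℂ (fun s => (Gz F u (Function.update z i s)).coeff j)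
      ((hfin.toFinset : Set ℂ)ᶜ) := by
    intro s hs
    have hs' : eval (Function.update z i s) h ≠ 0 := by
      apply (hmem s).1
      simpa using hs
    have h1 := (analyticAt_coeff_Gz hF hsep hu hv huv hdisj (Function.update z i s) hs' j).differentiableAt
    exact (DifferentiableAt.comp s (g := fun z => (Gz F u z).coeff j) h1
      (differentiable_update z i s)).differentiableWithinAt
  have hbd : ∀ s ∉ hfin.toFinset, ‖(Gz F u (Function.update z i s)).coeff j‖ ≤
      C * (1 + ‖z‖) ^ N * (1 + ‖s‖) ^ N := by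
    intro s _
    refine (hbound _ j).trans ?_
    rw [mul_assoc, ← mul_pow]
    refine mul_le_mul_of_nonneg_left (pow_le_pow_left₀ (by positivity) ?_ N) hC
    have := norm_update_le z i s
    nlinarith [norm_nonneg z, norm_nonneg s]
  obtain ⟨p, hp, hpe⟩ := PolyGrowth.polyGrowth_off_finite hfin.toFinset N
    (fun s => (Gz F u (Function.update z i s)).coeff j) hdiff ⟨C * (1 + ‖z‖) ^ N, hbd⟩
  exact ⟨p, hp, fun s hs => hpe s ((hmem s).2 hs)⟩

end Line


section Final

lemma exists_eval_ne_zero (hh : h ≠ 0) : ∃ z : Fin d → ℂ, eval z h ≠ 0 := by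
  by_contra hcon
  push Not at hcon
  exact hh (MvPolynomial.funext fun z => by rw [hcon z, map_zero])

lemma Gz_monic (u : Set ((Fin d → ℂ) × ℂ)) (z : Fin d → ℂ) : (Gz F u z).Monic :=
  Polynomial.monic_prod_of_monic _ _ fun w _ => Polynomial.monic_X_sub_C w

lemma Gz_natDegree (u : Set ((Fin d → ℂ) × ℂ)) (z : Fin d → ℂ) : (Gz F u z).natDegree = (R1 F u z).card := by
  unfold Gz
  exact Polynomial.natDegree_finsetProd_X_sub_C_eq_card _ _

lemma Gz_dvd (hF : F.Monic) (u : Set ((Fin d → ℂ) × ℂ)) (z : Fin d → ℂ) : Gz F u z ∣ spec F z := by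
  classical
  unfold Gz
  rw [Finset.prod_eq_multiset_prod]
  rw [Multiset.prod_X_sub_C_dvd_iff_le_roots (spec_monic hF z).ne_zero]
  rw [Multiset.le_iff_subset (R1 F u z).nodup]
  intro w hw
  have hw' : w ∈ R1 F u z := hw
  have := R1_subset u z hw'
  exact Multiset.mem_toFinset.1 this

/-- The root covering of an irreducible monic polynomial is preconnected. -/
theorem isPreconnected_cover (hF : F.Monic) (hirr : Irreducible F)
    (hsep : ∀ z, eval z h ≠ 0 → (spec F z).Separable) : IsPreconnected (cover F h) := by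
  classical
  rw [isPreconnected_iff_subset_of_disjoint]
  intro u v hu hv huv hdisj
  by_cases hh : h = 0
  · left
    intro p hp
    exact absurd (by rw [hh, map_zero]) hp.1
  obtain ⟨zs, hzs⟩ := exists_eval_ne_zero hh
  set m1 := (R1 F u zs).card with hm1
  have hconst : ∀ z, eval z h ≠ 0 → (R1 F u z).card = m1 := fun z hz =>
    card_R1_const hF hsep hu hv huv hdisj hz hzs
  by_cases h0 : m1 = 0
  · right
    intro p hp
    have hc := hconst p.1 hp.1
    rw [h0, Finset.card_eq_zero] at hc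
    have hnu : p ∉ u := by
      intro hpu
      have : p.2 ∈ R1 F u p.1 := by
        simp only [R1, Finset.mem_filter]
        exact ⟨(mem_rootsAt hF p.1 p.2).2 hp.2, hpu⟩
      rw [hc] at this
      simp at this
    exact (huv hp).resolve_left hnu
  by_cases hm : m1 = F.natDegree
  · left
    intro p hp
    have hc := hconst p.1 hp.1
    have heq : R1 F u p.1 = rootsAt F p.1 :=
      Finset.eq_of_subset_of_card_le (R1_subset u p.1) (by
        rw [hc, hm, card_rootsAt hF hsep p.1 hp.1])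
    have : p.2 ∈ R1 F u p.1 := by
      rw [heq]; exact (mem_rootsAt hF p.1 p.2).2 hp.2
    simp only [R1, Finset.mem_filter] at this
    exact this.2
  -- the impossible case
  exfalso
  have hm1lt : m1 < F.natDegree := by
    have : m1 ≤ F.natDegree := by
      rw [hm1]
      exact (Finset.card_le_card (R1_subset u zs)).trans (card_rootsAt_le zs hF)
    omega
  obtain ⟨N, hline⟩ := exists_linePoly hF hsep hu hv huv hdisj
  have hex : ∀ j : ℕ, ∃ (Q h' : MvPolynomial (Fin d) ℂ), h' ≠ 0 ∧
      ∀ z, eval z h' ≠ 0 → (Gz F u z).coeff j = eval z Q := fun j =>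
    SepPoly.exists_poly_of_linePoly d N h _ hh (hline j)
  choose Q h' hh' hQ using hex
  set H : MvPolynomial (Fin d) ℂ := h * ∏ j ∈ Finset.range m1, h' j with hH
  have hHne : H ≠ 0 := mul_ne_zero hh (Finset.prod_ne_zero_iff.2 fun j _ => hh' j)
  set p0 : Polynomial (MvPolynomial (Fin d) ℂ) :=
    ∑ j ∈ Finset.range m1, Polynomial.C (Q j) * Polynomial.X ^ j with hp0
  have hp0deg : p0.degree < (m1 : WithBot ℕ) := by
    refine lt_of_le_of_lt (Polynomial.degree_sum_le _ _) ?_
    refine (Finset.sup_lt_iff (WithBot.bot_lt_coe m1)).2 ?_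
    intro j hj
    refine (Polynomial.degree_C_mul_X_pow_le j (Q j)).trans_lt ?_
    exact WithBot.coe_lt_coe.2 (Finset.mem_range.1 hj)
  set G : Polynomial (MvPolynomial (Fin d) ℂ) := Polynomial.X ^ m1 + p0 with hG
  have hGmonic : G.Monic := Polynomial.monic_X_pow_add hp0deg
  have hGdeg : G.natDegree = m1 := by
    rw [hG, Polynomial.natDegree_add_eq_left_of_degree_lt (by rwa [Polynomial.degree_X_pow]),
      Polynomial.natDegree_X_pow]
  -- specialisation of G
  have hGspec : ∀ z, eval z H ≠ 0 → G.map (eval z) = Gz F u z := by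
    intro z hz
    have hz0 : eval z h ≠ 0 := fun h0 => hz (by rw [hH, map_mul, h0, zero_mul])
    have hzj : ∀ j ∈ Finset.range m1, eval z (h' j) ≠ 0 := by
      intro j hj
      have h1 : eval z (∏ j ∈ Finset.range m1, h' j) ≠ 0 :=
        fun h0 => hz (by rw [hH, map_mul, h0, mul_zero])
      rw [map_prod, Finset.prod_ne_zero_iff] at h1
      exact h1 j hj
    have hdeg : (Gz F u z).natDegree = m1 := by rw [Gz_natDegree, hconst z hz0]
    conv_rhs => rw [(Gz_monic u z).as_sum, hdeg]
    rw [hG, hp0, Polynomial.map_add, Polynomial.map_pow, Polynomial.map_X, Polynomial.map_sum]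
    congr 1
    refine Finset.sum_congr rfl fun j hj => ?_
    rw [Polynomial.map_mul, Polynomial.map_C, Polynomial.map_pow, Polynomial.map_X, hQ j z (hzj j hj)]
  -- G divides F
  have hdvd : G ∣ F := by
    rw [← Polynomial.modByMonic_eq_zero_iff_dvd hGmonic]
    refine Polynomial.ext fun k => ?_
    rw [Polynomial.coeff_zero]
    have hmul : (F %ₘ G).coeff k * H = 0 := by
      refine MvPolynomial.funext fun z => ?_
      rw [map_mul, map_zero]
      by_cases hz : eval z H = 0
      · rw [hz, mul_zero]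
      · have h1 : eval z ((F %ₘ G).coeff k) = ((F %ₘ G).map (eval z)).coeff k := by
          rw [Polynomial.coeff_map]
        rw [h1, Polynomial.map_modByMonic _ hGmonic, hGspec z hz,
          (Polynomial.modByMonic_eq_zero_iff_dvd (Gz_monic u z)).2 (Gz_dvd hF u z),
          Polynomial.coeff_zero, zero_mul]
    exact (mul_eq_zero.1 hmul).resolve_right hHne
  obtain ⟨Q', hFG⟩ := hdvd
  rcases hirr.isUnit_or_isUnit hFG with hGu | hQu
  · have := hGmonic.eq_one_of_isUnit hGu
    rw [this, Polynomial.natDegree_one] at hGdeg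
    exact h0 hGdeg.symm
  · have hQ0 : Q'.natDegree = 0 := Polynomial.natDegree_eq_zero_of_isUnit hQu
    have hQne : Q' ≠ 0 := hQu.ne_zero
    have : F.natDegree = G.natDegree + Q'.natDegree := by
      rw [hFG, Polynomial.natDegree_mul hGmonic.ne_zero hQne]
    rw [hQ0, hGdeg, add_zero] at this
    exact hm this.symm

end Final

end Groth.Agent.R2.H20.RootCover
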