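import Mathlib

/-!
Preparations for the connectedness of the root covering of an irreducible monic polynomial over
`ℂ[z_1, …, z_d]`: bounds, analyticity, and the complement of a hypersurface.
-/

set_option autoImplicit false

namespace Groth.Agent.R2.H20.RootCover

open MvPolynomial Topology Filter

variable {d : ℕ}

/-- Polynomial growth of a polynomial function. -/
lemma exists_norm_eval_le (c : MvPolynomial (Fin d) ℂ) :
    ∃ (C : ℝ) (N : ℕ), 0 ≤ C ∧ ∀ z : Fin d → ℂ, ‖eval z c‖ ≤ C * (1 + ‖z‖) ^ N := by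
  induction c using MvPolynomial.induction_on with
  | C a =>
    refine ⟨‖a‖, 0, norm_nonneg _, fun z => ?_⟩
    simp
  | add p q hp hq =>
    obtain ⟨C₁, N₁, h1, hp⟩ := hp
    obtain ⟨C₂, N₂, h2, hq⟩ := hq
    refine ⟨C₁ + C₂, max N₁ N₂, add_nonneg h1 h2, fun z => ?_⟩
    rw [map_add]
    have hz : (1 : ℝ) ≤ 1 + ‖z‖ := by linarith [norm_nonneg z]
    calc ‖eval z p + eval z q‖ ≤ ‖eval z p‖ + ‖eval z q‖ := norm_add_le _ _
      _ ≤ C₁ * (1 + ‖z‖) ^ N₁ + C₂ * (1 + ‖z‖) ^ N₂ := add_le_add (hp z) (hq z)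
      _ ≤ C₁ * (1 + ‖z‖) ^ max N₁ N₂ + C₂ * (1 + ‖z‖) ^ max N₁ N₂ := by
        gcongr
        · exact le_max_left _ _
        · exact le_max_right _ _
      _ = (C₁ + C₂) * (1 + ‖z‖) ^ max N₁ N₂ := by ring
  | mul_X p i hp =>
    obtain ⟨C₁, N₁, h1, hp⟩ := hp
    refine ⟨C₁, N₁ + 1, h1, fun z => ?_⟩
    rw [map_mul, eval_X, norm_mul, pow_succ, ← mul_assoc]
    have hz : ‖z i‖ ≤ 1 + ‖z‖ := (norm_le_pi_norm z i).trans (by linarith)
    exact mul_le_mul (hp z) hz (norm_nonneg _) (by positivity)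

/-- Specialisation of a polynomial over `ℂ[z]` at a point `z`. -/
noncomputable abbrev spec (F : Polynomial (MvPolynomial (Fin d) ℂ)) (z : Fin d → ℂ) : Polynomial ℂ :=
  F.map (eval z)

lemma spec_monic {F : Polynomial (MvPolynomial (Fin d) ℂ)} (hF : F.Monic) (z : Fin d → ℂ) :
    (spec F z).Monic := hF.map _

lemma spec_natDegree {F : Polynomial (MvPolynomial (Fin d) ℂ)} (hF : F.Monic) (z : Fin d → ℂ) :
    (spec F z).natDegree = F.natDegree := hF.natDegree_map _

/-- Roots of the specialisations have polynomial growth. -/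
lemma exists_root_bound (F : Polynomial (MvPolynomial (Fin d) ℂ)) (hF : F.Monic) :
    ∃ (C : ℝ) (N : ℕ), 0 ≤ C ∧ ∀ (z : Fin d → ℂ) (w : ℂ), (spec F z).eval w = 0 →
      ‖w‖ ≤ C * (1 + ‖z‖) ^ N := by
  classical
  have hex : ∀ k : ℕ, ∃ (C : ℝ) (N : ℕ), 0 ≤ C ∧ ∀ z : Fin d → ℂ, ‖eval z (F.coeff k)‖ ≤ C * (1 + ‖z‖) ^ N :=
    fun k => exists_norm_eval_le _
  choose Ck Nk hCk hkb using hex
  set N := (Finset.range F.natDegree).sup Nk with hN
  set C := ∑ k ∈ Finset.range F.natDegree, Ck k with hC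
  have hC0 : 0 ≤ C := Finset.sum_nonneg fun k _ => hCk k
  refine ⟨C + 1, N, by linarith, fun z w hw => ?_⟩
  have hmon := spec_monic hF z
  have hne : spec F z ≠ 0 := hmon.ne_zero
  have h1 := Polynomial.IsRoot.norm_lt_cauchyBound hne (show (spec F z).IsRoot w from hw)
  have hz : (1 : ℝ) ≤ 1 + ‖z‖ := by linarith [norm_nonneg z]
  have hzN : (1 : ℝ) ≤ (1 + ‖z‖) ^ N := one_le_pow₀ hz
  have h2 : ((Polynomial.cauchyBound (spec F z) : NNReal) : ℝ) ≤ (C + 1) * (1 + ‖z‖) ^ N := by
    unfold Polynomial.cauchyBound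
    rw [hmon.leadingCoeff]
    simp only [nnnorm_one, div_one, NNReal.coe_add, NNReal.coe_one]
    have h3 : (((Finset.range (spec F z).natDegree).sup (‖(spec F z).coeff ·‖₊) : NNReal) : ℝ) ≤
        C * (1 + ‖z‖) ^ N := by
      rw [spec_natDegree hF]
      have : ((Finset.range F.natDegree).sup (‖(spec F z).coeff ·‖₊) : NNReal) ≤
          ∑ k ∈ Finset.range F.natDegree, ‖(spec F z).coeff k‖₊ := by
        refine Finset.sup_le fun k hk => ?_
        exact Finset.single_le_sum (f := fun k => ‖(spec F z).coeff k‖₊) (fun _ _ => zero_le) hk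
      refine (NNReal.coe_le_coe.2 this).trans ?_
      rw [NNReal.coe_sum, hC, Finset.sum_mul]
      refine Finset.sum_le_sum fun k hk => ?_
      simp only [coe_nnnorm, Polynomial.coeff_map]
      refine (hkb k z).trans ?_
      have : Nk k ≤ N := Finset.le_sup (f := Nk) hk
      exact mul_le_mul_of_nonneg_left (pow_le_pow_right₀ hz this) (hCk k)
    calc _ ≤ C * (1 + ‖z‖) ^ N + 1 := by linarith
      _ ≤ C * (1 + ‖z‖) ^ N + 1 * (1 + ‖z‖) ^ N := by linarith
      _ = (C + 1) * (1 + ‖z‖) ^ N := by ring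
  have h4 : ‖w‖ < ((Polynomial.cauchyBound (spec F z) : NNReal) : ℝ) := by
    have := NNReal.coe_lt_coe.2 h1
    simpa using this
  exact h4.le.trans h2

/-- Coefficients of a product of linear factors with bounded roots. -/
lemma norm_coeff_prod_X_sub_C_le (S : Finset ℂ) (B : ℝ) (hB : 0 ≤ B) (hS : ∀ w ∈ S, ‖w‖ ≤ B) (j : ℕ) :
    ‖(∏ w ∈ S, (Polynomial.X - Polynomial.C w)).coeff j‖ ≤ (1 + B) ^ S.card := by
  classical
  induction S using Finset.induction_on generalizing j with
  | empty =>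
    simp only [Finset.prod_empty, Finset.card_empty, pow_zero]
    rw [Polynomial.coeff_one]
    split_ifs <;> simp
  | insert a S ha ih =>
    have hS' : ∀ w ∈ S, ‖w‖ ≤ B := fun w hw => hS w (Finset.mem_insert_of_mem hw)
    have haB : ‖a‖ ≤ B := hS a (Finset.mem_insert_self _ _)
    rw [Finset.prod_insert ha, Finset.card_insert_of_notMem ha, mul_comm]
    have hpos : (0 : ℝ) ≤ (1 + B) ^ S.card := by positivity
    cases j with
    | zero =>
      rw [Polynomial.mul_coeff_zero]
      simp only [Polynomial.coeff_sub, Polynomial.coeff_X_zero, Polynomial.coeff_C_zero, zero_sub,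
        mul_neg, norm_neg, norm_mul]
      calc _ ≤ (1 + B) ^ S.card * B := mul_le_mul (ih hS' 0) haB (norm_nonneg _) hpos
        _ ≤ (1 + B) ^ (S.card + 1) := by rw [pow_succ]; nlinarith
    | succ j =>
      rw [Polynomial.coeff_mul_X_sub_C]
      calc _ ≤ ‖(∏ w ∈ S, (Polynomial.X - Polynomial.C w)).coeff j‖ +
            ‖(∏ w ∈ S, (Polynomial.X - Polynomial.C w)).coeff (j + 1) * a‖ := norm_sub_le _ _
        _ ≤ (1 + B) ^ S.card + (1 + B) ^ S.card * B := by
          rw [norm_mul]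
          exact add_le_add (ih hS' j) (mul_le_mul (ih hS' (j + 1)) haB (norm_nonneg _) hpos)
        _ = (1 + B) ^ (S.card + 1) := by ring


/-- The function `(z, w) ↦ F(z)(w)`. -/
noncomputable def evalFun (F : Polynomial (MvPolynomial (Fin d) ℂ)) (p : (Fin d → ℂ) × ℂ) : ℂ :=
  (spec F p.1).eval p.2

lemma evalFun_eq_sum (F : Polynomial (MvPolynomial (Fin d) ℂ)) (p : (Fin d → ℂ) × ℂ) :
    evalFun F p = ∑ k ∈ Finset.range (F.natDegree + 1), eval p.1 (F.coeff k) * p.2 ^ k := by
  unfold evalFun spec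
  rw [Polynomial.eval_map, Polynomial.eval₂_eq_sum_range]

lemma analyticOnNhd_evalFun (F : Polynomial (MvPolynomial (Fin d) ℂ)) :
    AnalyticOnNhd ℂ (evalFun F) Set.univ := by
  have : evalFun F = fun p => ∑ k ∈ Finset.range (F.natDegree + 1), eval p.1 (F.coeff k) * p.2 ^ k :=
    funext (evalFun_eq_sum F)
  rw [this]
  refine Finset.analyticOnNhd_fun_sum _ fun k _ => ?_
  refine AnalyticOnNhd.mul ?_ ?_
  · exact AnalyticOnNhd.eval_continuousLinearMap (ContinuousLinearMap.fst ℂ (Fin d → ℂ) ℂ) (F.coeff k)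
  · exact (analyticOnNhd_snd).pow k

lemma fderiv_evalFun_comp_inr (F : Polynomial (MvPolynomial (Fin d) ℂ)) (u : (Fin d → ℂ) × ℂ) :
    (fderiv ℂ (evalFun F) u ∘L ContinuousLinearMap.inr ℂ (Fin d → ℂ) ℂ) =
      ContinuousLinearMap.smulRight (1 : ℂ →L[ℂ] ℂ) ((spec F u.1).derivative.eval u.2) := by
  have hd : DifferentiableAt ℂ (evalFun F) u := ((analyticOnNhd_evalFun F) u trivial).differentiableAt
  have h1 : HasFDerivAt (fun w' => evalFun F (u.1, w'))
      (fderiv ℂ (evalFun F) u ∘L ContinuousLinearMap.inr ℂ (Fin d → ℂ) ℂ) u.2 :=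
    HasFDerivAt.comp u.2 (f := fun w' => (u.1, w')) (g := evalFun F) hd.hasFDerivAt
      (hasFDerivAt_prodMk_right u.1 u.2)
  have h2 : HasFDerivAt (fun w' => evalFun F (u.1, w'))
      (ContinuousLinearMap.smulRight (1 : ℂ →L[ℂ] ℂ) ((spec F u.1).derivative.eval u.2)) u.2 :=
    ((spec F u.1).hasDerivAt u.2).hasFDerivAt
  exact h1.unique h2

lemma isInvertible_fderiv_evalFun_comp_inr (F : Polynomial (MvPolynomial (Fin d) ℂ)) (u : (Fin d → ℂ) × ℂ)
    (hu : (spec F u.1).derivative.eval u.2 ≠ 0) :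
    (fderiv ℂ (evalFun F) u ∘L ContinuousLinearMap.inr ℂ (Fin d → ℂ) ℂ).IsInvertible := by
  rw [fderiv_evalFun_comp_inr]
  refine ContinuousLinearMap.IsInvertible.of_inverse
    (g := ContinuousLinearMap.smulRight (1 : ℂ →L[ℂ] ℂ) ((spec F u.1).derivative.eval u.2)⁻¹) ?_ ?_
  · ext
    simp only [ContinuousLinearMap.coe_comp, ContinuousLinearMap.smulRight_apply,
      one_apply_eq_self, Function.comp_apply, smul_eq_mul, one_mul,
      ContinuousLinearMap.coe_id', id_eq]
    exact inv_mul_cancel₀ hu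
  · ext
    simp only [ContinuousLinearMap.coe_comp, ContinuousLinearMap.smulRight_apply,
      one_apply_eq_self, Function.comp_apply, smul_eq_mul, one_mul,
      ContinuousLinearMap.coe_id', id_eq]
    exact mul_inv_cancel₀ hu

/-- Restriction of a polynomial to an affine line. -/
lemma exists_univariate (h : MvPolynomial (Fin d) ℂ) (a b : Fin d → ℂ) :
    ∃ q : Polynomial ℂ, ∀ s : ℂ, q.eval s = eval (fun j => a j + s * b j) h := by
  refine ⟨aeval (fun j => Polynomial.C (a j) + Polynomial.X * Polynomial.C (b j)) h, fun s => ?_⟩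
  have h1 : ∀ q : Polynomial ℂ, q.eval s = (Polynomial.aeval s : Polynomial ℂ →ₐ[ℂ] ℂ) q := fun q => by
    simp [Polynomial.aeval_def, Polynomial.eval₂_eq_eval_map]
  rw [h1, comp_aeval_apply]
  change eval _ h = _
  congr 2
  funext j
  simp only [map_add, Polynomial.aeval_C, Polynomial.aeval_X, map_mul]
  simp only [Algebra.algebraMap_self, RingHom.id_apply]

lemma finite_zeros_on_line (h : MvPolynomial (Fin d) ℂ) (a b : Fin d → ℂ) (s₀ : ℂ)
    (h0 : eval (fun j => a j + s₀ * b j) h ≠ 0) :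
    {s : ℂ | eval (fun j => a j + s * b j) h = 0}.Finite := by
  obtain ⟨q, hq⟩ := exists_univariate h a b
  have hq0 : q ≠ 0 := by
    rintro rfl
    apply h0
    rw [← hq]; simp
  have := Polynomial.finite_setOfPred_isRoot hq0
  refine this.subset ?_
  intro s hs
  simp only [Set.mem_ofPred_eq, Polynomial.IsRoot.def] at hs ⊢
  rw [hq]; exact hs

lemma isPreconnected_compl_zeros (h : MvPolynomial (Fin d) ℂ) :
    IsPreconnected {z : Fin d → ℂ | eval z h ≠ 0} := by
  refine isPreconnected_of_forall_pair fun x hx y hy => ?_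
  set L : ℂ → (Fin d → ℂ) := fun s j => x j + s * (y j - x j) with hL
  have hLc : Continuous L := by
    refine continuous_pi fun j => ?_
    fun_prop
  have hL0 : L 0 = x := by funext j; simp [hL]
  have hL1 : L 1 = y := by funext j; simp [hL]
  set T : Set ℂ := {s | eval (L s) h ≠ 0} with hT
  have hfin : (Tᶜ).Finite := by
    have := finite_zeros_on_line h x (fun j => y j - x j) 0 (by
      have : (fun j => x j + (0 : ℂ) * (y j - x j)) = x := by funext j; simp
      rw [this]; exact hx)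
    refine this.subset ?_
    intro s hs
    simpa [hT] using hs
  have hTconn : IsConnected T := by
    have h1 : IsConnected (Tᶜᶜ) := by
      refine Set.Countable.isConnected_compl_of_one_lt_rank ?_ hfin.countable
      rw [Complex.rank_real_complex]
      norm_num
    rwa [compl_compl] at h1
  refine ⟨L '' T, ?_, ⟨0, ?_, hL0⟩, ⟨1, ?_, hL1⟩, hTconn.isPreconnected.image L hLc.continuousOn⟩
  · rintro _ ⟨s, hs, rfl⟩
    exact hs
  · simp only [hT, Set.mem_ofPred_eq]; rw [hL0]; exact hx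
  · simp only [hT, Set.mem_ofPred_eq]; rw [hL1]; exact hy

end Groth.Agent.R2.H20.RootCover
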