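import Mathlib
import Groth.Agent.Lib.Helper23Extend2

/-!
# Subsheaves of modules from families of submodules of sections (helper21)

* `SubFam M` : a family of submodules `S T ⊆ Γ(M, T)`, stable under restriction and local
* `SubFam.toModules`, `SubFam.ι : K.toModules ⟶ M`, `mono_ι`, `ι_app_injective`, `mem_iff_exists_ι`
-/

set_option autoImplicit false
universe u
open CategoryTheory Limits AlgebraicGeometry TopologicalSpace Opposite

namespace Groth.Agent.R2.H21.SubSheaf

variable {X : Scheme.{u}}

/-- A family of submodules of sections of `M`, stable under restriction and local. -/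
structure SubFam (M : X.Modules) where
  S : ∀ T : X.Opens, Submodule Γ(X, T) Γ(M, T)
  res : ∀ {T T' : X.Opens} (h : T' ≤ T) (s : Γ(M, T)), s ∈ S T → M.presheaf.map (homOfLE h).op s ∈ S T'
  loc : ∀ (T : X.Opens) (s : Γ(M, T)),
    (∀ x ∈ T, ∃ (T' : X.Opens) (h : T' ≤ T), x ∈ T' ∧ M.presheaf.map (homOfLE h).op s ∈ S T') → s ∈ S T

variable {M : X.Modules} (K : SubFam M)

namespace SubFam

/-- restriction maps of the family -/
noncomputable def resHom {T T' : X.Opens} (h : T' ≤ T) : K.S T →+ K.S T' where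
  toFun s := ⟨M.presheaf.map (homOfLE h).op s.1, K.res h s.1 s.2⟩
  map_zero' := by ext; simp
  map_add' a b := by ext; simp

@[simp] theorem resHom_coe {T T' : X.Opens} (h : T' ≤ T) (s : K.S T) :
    ((K.resHom h s : K.S T') : Γ(M, T')) = M.presheaf.map (homOfLE h).op s.1 := rfl

/-- the presheaf of abelian groups of the family -/
noncomputable def pre : TopCat.Presheaf Ab X where
  obj T := AddCommGrpCat.of (K.S T.unop)
  map {T T'} f := AddCommGrpCat.ofHom (K.resHom f.unop.le)
  map_id T := by
    ext s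
    change M.presheaf.map (homOfLE _).op s.1 = s.1
    have : (homOfLE (le_refl T.unop)).op = 𝟙 T := rfl
    rw [this, M.presheaf.map_id]; rfl
  map_comp {T T' T''} f g := by
    ext s
    change M.presheaf.map (homOfLE _).op s.1 =
      M.presheaf.map (homOfLE _).op (M.presheaf.map (homOfLE _).op s.1)
    rw [← ConcreteCategory.comp_apply, ← M.presheaf.map_comp]
    rfl

noncomputable instance preModule (T : (Opens X)ᵒᵖ) : Module (X.ringCatSheaf.obj.obj T) (K.pre.obj T) :=
  inferInstanceAs (Module Γ(X, T.unop) (K.S T.unop))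

theorem pre_map_smul ⦃T T' : (Opens X)ᵒᵖ⦄ (f : T ⟶ T') (r : X.ringCatSheaf.obj.obj T) (m : K.pre.obj T) :
    K.pre.map f (r • m) = X.ringCatSheaf.obj.map f r • K.pre.map f m := by
  apply Subtype.ext
  exact M.val.map_smul f r m.1

/-- the presheaf of modules of the family -/
noncomputable def preMod : PresheafOfModules X.ringCatSheaf.obj :=
  PresheafOfModules.ofPresheaf K.pre K.pre_map_smul

theorem pre_isSheaf : TopCat.Presheaf.IsSheaf K.pre := by
  rw [TopCat.Presheaf.isSheaf_iff_isSheafUniqueGluing]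
  intro ι U sf hsf
  let Msh : TopCat.Sheaf Ab X := ⟨M.presheaf, M.isSheaf⟩
  let sf' : ∀ i, ToType (M.presheaf.obj (op (U i))) := fun i => (sf i).1
  have hsf' : TopCat.Presheaf.IsCompatible M.presheaf U sf' := fun i j => congrArg Subtype.val (hsf i j)
  obtain ⟨s, hs, huniq⟩ := Msh.existsUnique_gluing U sf' hsf'
  have hsK : s ∈ K.S (iSup U) := by
    apply K.loc
    intro x hx
    obtain ⟨i, hi⟩ := Opens.mem_iSup.1 hx
    refine ⟨U i, le_iSup U i, hi, ?_⟩
    have h1 := hs i
    have h2 : M.presheaf.map (homOfLE (le_iSup U i)).op s = sf' i := h1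
    rw [h2]
    exact (sf i).2
  exact ⟨⟨s, hsK⟩, fun i => Subtype.ext (hs i),
    fun t ht => Subtype.ext (huniq t.1 fun i => congrArg Subtype.val (ht i))⟩

/-- the sheaf of modules of the family -/
noncomputable def toModules : X.Modules :=
  (⟨K.preMod, K.pre_isSheaf⟩ : SheafOfModules X.ringCatSheaf)

/-- the inclusion of presheaves of abelian groups -/
noncomputable def preι : K.pre ⟶ M.val.presheaf where
  app T := AddCommGrpCat.ofHom (K.S T.unop).subtype.toAddMonoidHom
  naturality T T' f := by
    ext s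
    rfl

/-- the inclusion morphism -/
noncomputable def ι : K.toModules ⟶ M :=
  (⟨PresheafOfModules.homMk (M₁ := K.preMod) (M₂ := M.val) K.preι (fun _ _ _ => rfl)⟩ :
    SheafOfModules.Hom (⟨K.preMod, K.pre_isSheaf⟩ : SheafOfModules X.ringCatSheaf) M)

theorem ι_app_apply (T : X.Opens) (s : Γ(K.toModules, T)) :
    K.ι.app T s = (show K.S T from s).1 := rfl

theorem ι_app_injective (T : X.Opens) : Function.Injective (K.ι.app T) :=
  fun _ _ h => Subtype.ext h

theorem ι_app_mem (T : X.Opens) (s : Γ(K.toModules, T)) : K.ι.app T s ∈ K.S T :=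
  (show K.S T from s).2

theorem exists_ι_app_eq (T : X.Opens) (s : Γ(M, T)) (hs : s ∈ K.S T) :
    ∃ t : Γ(K.toModules, T), K.ι.app T t = s :=
  ⟨(show Γ(K.toModules, T) from (⟨s, hs⟩ : K.S T)), rfl⟩

theorem mem_iff_exists_ι (T : X.Opens) (s : Γ(M, T)) :
    s ∈ K.S T ↔ ∃ t : Γ(K.toModules, T), K.ι.app T t = s :=
  ⟨K.exists_ι_app_eq T s, fun ⟨t, ht⟩ => ht ▸ K.ι_app_mem T t⟩

instance mono_ι : Mono K.ι := by
  apply (Scheme.Modules.toPresheaf X).mono_of_mono_map
  apply (config := { allowSynthFailures := true }) NatTrans.mono_of_mono_app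
  intro T
  rw [AddCommGrpCat.mono_iff_injective]
  exact K.ι_app_injective T.unop

/-- sections of the subsheaf, as a linear equivalence with the submodule -/
noncomputable def sectionsEquiv (T : X.Opens) : Γ(K.toModules, T) ≃ₗ[Γ(X, T)] K.S T :=
  LinearEquiv.refl Γ(X, T) (K.S T)

theorem sectionsEquiv_coe (T : X.Opens) (s : Γ(K.toModules, T)) :
    ((K.sectionsEquiv T s : K.S T) : Γ(M, T)) = K.ι.app T s := rfl

theorem finite_sections_of_fg (T : X.Opens) (h : (K.S T).FG) : Module.Finite Γ(X, T) Γ(K.toModules, T) := by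
  have : Module.Finite Γ(X, T) (K.S T) := Module.Finite.iff_fg.2 h
  exact Module.Finite.equiv (K.sectionsEquiv T).symm

end SubFam

end Groth.Agent.R2.H21.SubSheaf
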