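import Mathlib
import Groth.Agent.Lib.Helper23Extend2
import Groth.Agent.R2.H21SubFam

/-!
# Extension of finite type quasi-coherent submodules along well-ordered affine covers (helper21)

Sectionwise version of the transfinite extension argument (EGA I 9.4.7).
-/

set_option autoImplicit false
universe u v
open CategoryTheory Limits AlgebraicGeometry TopologicalSpace Opposite

namespace Groth.Agent.R2.H21.ExtendWO

open Groth.Agent.Lib.Helper23.QCohLocal Groth.Agent.Lib.Helper2.Push Groth.Agent.Lib.Helper2.QCoh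
  Groth.Agent.Lib.Helper23.FinType Groth.Agent.Lib.Helper23.ModLocal Groth.Agent.Lib.Helper23.Extend
  Groth.Agent.R2.H21.SubSheaf

variable {X : Scheme.{u}}

section Res

/-- restriction of sections of a module -/
noncomputable def res (H : X.Modules) {T T' : X.Opens} (h : T' ≤ T) (s : Γ(H, T)) : Γ(H, T') :=
  H.presheaf.map (homOfLE h).op s

/-- restriction of functions -/
noncomputable def rres {T T' : X.Opens} (h : T' ≤ T) : Γ(X, T) →+* Γ(X, T') :=
  (X.presheaf.map (homOfLE h).op).hom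

variable (H : X.Modules) {T T' T'' : X.Opens}

theorem res_def (h : T' ≤ T) (s : Γ(H, T)) : res H h s = H.presheaf.map (homOfLE h).op s := rfl

theorem rres_def (h : T' ≤ T) (r : Γ(X, T)) : rres h r = X.presheaf.map (homOfLE h).op r := rfl

@[simp] theorem res_zero (h : T' ≤ T) : res H h 0 = 0 := map_zero _

@[simp] theorem res_add (h : T' ≤ T) (s t : Γ(H, T)) : res H h (s + t) = res H h s + res H h t := map_add _ _ _

@[simp] theorem res_sub (h : T' ≤ T) (s t : Γ(H, T)) : res H h (s - t) = res H h s - res H h t := map_sub _ _ _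

@[simp] theorem res_smul (h : T' ≤ T) (r : Γ(X, T)) (s : Γ(H, T)) :
    res H h (r • s) = rres h r • res H h s :=
  Scheme.Modules.map_smul H (homOfLE h) r s

@[simp] theorem res_res (h : T' ≤ T) (h' : T'' ≤ T') (s : Γ(H, T)) :
    res H h' (res H h s) = res H (h'.trans h) s := by
  unfold res
  rw [← ConcreteCategory.comp_apply, ← H.presheaf.map_comp]
  rfl

@[simp] theorem res_self (h : T ≤ T) (s : Γ(H, T)) : res H h s = s := by
  unfold res
  have : (homOfLE h).op = 𝟙 (op T) := rfl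
  rw [this, H.presheaf.map_id]; rfl

@[simp] theorem rres_rres (h : T' ≤ T) (h' : T'' ≤ T') (r : Γ(X, T)) :
    rres h' (rres h r) = rres (h'.trans h) r := by
  unfold rres
  rw [← CommRingCat.comp_apply, ← X.presheaf.map_comp]
  rfl

@[simp] theorem rres_self (h : T ≤ T) (r : Γ(X, T)) : rres h r = r := by
  unfold rres
  have : (homOfLE h).op = 𝟙 (op T) := rfl
  rw [this, X.presheaf.map_id]; rfl

theorem res_mem_span {A B : X.Opens} (hBA : B ≤ A) (N : Set Γ(H, A)) (s : Γ(H, A))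
    (hs : s ∈ Submodule.span Γ(X, A) N) :
    res H hBA s ∈ Submodule.span Γ(X, B) (res H hBA '' N) := by
  induction hs using Submodule.span_induction with
  | mem y hy => exact Submodule.subset_span ⟨y, hy, rfl⟩
  | zero => rw [res_zero]; exact Submodule.zero_mem _
  | add a b _ _ ha hb => rw [res_add]; exact Submodule.add_mem _ ha hb
  | smul r a _ ha => rw [res_smul]; exact Submodule.smul_mem _ _ ha

theorem res_image_image {V A B : X.Opens} (hAV : A ≤ V) (hBA : B ≤ A) (N : Set Γ(H, V)) :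
    res H hBA '' (res H hAV '' N) = res H (hBA.trans hAV) '' N := by
  rw [Set.image_image]
  exact Set.image_congr (fun s _ => res_res H hAV hBA s)

theorem res_mem_span' {V A B : X.Opens} (hAV : A ≤ V) (hBA : B ≤ A) (N : Set Γ(H, V)) (s : Γ(H, A))
    (hs : s ∈ Submodule.span Γ(X, A) (res H hAV '' N)) :
    res H hBA s ∈ Submodule.span Γ(X, B) (res H (hBA.trans hAV) '' N) := by
  have := res_mem_span H hBA _ s hs
  rwa [res_image_image] at this

end Res

section Loc

variable {H : X.Modules} {T : X.Opens}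

theorem isLocOn_lift' (hH : IsLocOn H T) (f : Γ(X, T)) (D : X.Opens) (hD : D = X.basicOpen f) (hle : D ≤ T)
    (s : Γ(H, D)) : ∃ (n : ℕ) (t : Γ(H, T)), res H hle t = (rres hle f) ^ n • s := by
  subst hD
  exact hH.exists_extension f s

theorem isLocOn_zero' (hH : IsLocOn H T) (f : Γ(X, T)) (D : X.Opens) (hD : D = X.basicOpen f) (hle : D ≤ T)
    (t : Γ(H, T)) (ht : res H hle t = 0) : ∃ n : ℕ, f ^ n • t = 0 := by
  subst hD
  exact hH.exists_pow_smul_eq_zero f t ht

/-- every element of the span of restricted sections over a basic open lifts, up to a power of `f` -/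
theorem exists_lift_of_mem_span (hT : IsAffineOpen T) (N' : Set Γ(H, T)) (f : Γ(X, T)) (D : X.Opens)
    (hD : D = X.basicOpen f) (hle : D ≤ T) (z : Γ(H, D))
    (hz : z ∈ Submodule.span Γ(X, D) (res H hle '' N')) :
    ∃ (n : ℕ) (w : Γ(H, T)), w ∈ Submodule.span Γ(X, T) N' ∧ res H hle w = (rres hle f) ^ n • z := by
  subst hD
  have hloc := hT.isLocalization_basicOpen f
  induction hz using Submodule.span_induction with
  | mem y hy =>
    obtain ⟨y₀, hy₀, rfl⟩ := hy
    exact ⟨0, y₀, Submodule.subset_span hy₀, by simp⟩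
  | zero => exact ⟨0, 0, Submodule.zero_mem _, by simp⟩
  | add z₁ z₂ _ _ h₁ h₂ =>
    obtain ⟨N₁, w₁, hw₁, e₁⟩ := h₁
    obtain ⟨N₂, w₂, hw₂, e₂⟩ := h₂
    refine ⟨N₁ + N₂, f ^ N₂ • w₁ + f ^ N₁ • w₂,
      Submodule.add_mem _ (Submodule.smul_mem _ _ hw₁) (Submodule.smul_mem _ _ hw₂), ?_⟩
    rw [res_add, res_smul, res_smul, e₁, e₂, map_pow, map_pow, smul_add, smul_smul, smul_smul, ← pow_add,
      ← pow_add, add_comm N₂ N₁]
  | smul a z _ h =>
    obtain ⟨N, w, hw, e⟩ := h
    obtain ⟨k, r, hr⟩ := IsLocalization.Away.surj (x := f) a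
    refine ⟨N + k, r • w, Submodule.smul_mem _ _ hw, ?_⟩
    have hr' : a * (rres hle f) ^ k = rres hle r := hr
    rw [res_smul, e, ← hr', smul_smul, smul_smul]
    congr 1
    rw [pow_add]; ring

/-- a section whose restriction to a basic open lies in the span of restricted sections lies in the span up to a
power of `f` -/
theorem exists_pow_smul_mem_span (hT : IsAffineOpen T) (hH : IsLocOn H T) (N' : Set Γ(H, T)) (f : Γ(X, T))
    (D : X.Opens) (hD : D = X.basicOpen f) (hle : D ≤ T) (s : Γ(H, T))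
    (hs : res H hle s ∈ Submodule.span Γ(X, D) (res H hle '' N')) :
    ∃ n : ℕ, f ^ n • s ∈ Submodule.span Γ(X, T) N' := by
  obtain ⟨n, w, hw, e⟩ := exists_lift_of_mem_span hT N' f D hD hle _ hs
  have h0 : res H hle (w - f ^ n • s) = 0 := by rw [res_sub, res_smul, e, map_pow, sub_self]
  obtain ⟨m, hm⟩ := isLocOn_zero' hH f D hD hle (w - f ^ n • s) h0
  refine ⟨m + n, ?_⟩
  have : f ^ (m + n) • s = f ^ m • w := by
    rw [smul_sub, sub_eq_zero] at hm; rw [hm, smul_smul, pow_add]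
  rw [this]; exact Submodule.smul_mem _ _ hw

/-- a section which locally lies in the span of restricted sections lies in the span (on an affine open) -/
theorem mem_span_of_locally (hT : IsAffineOpen T) (hH : IsLocOn H T) (N' : Set Γ(H, T)) (s : Γ(H, T))
    (hs : ∀ x ∈ T, ∃ (T' : X.Opens) (h : T' ≤ T), x ∈ T' ∧
      res H h s ∈ Submodule.span Γ(X, T') (res H h '' N')) :
    s ∈ Submodule.span Γ(X, T) N' := by
  let S₀ : Set Γ(X, T) := {f | res H (X.basicOpen_le f) s ∈
    Submodule.span Γ(X, X.basicOpen f) (res H (X.basicOpen_le f) '' N')}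
  have hS₀ : Ideal.span S₀ = ⊤ := by
    rw [← hT.self_le_iSup_basicOpen_iff]
    intro x hx
    obtain ⟨T', h, hxT', hmem⟩ := hs x hx
    obtain ⟨f, hf, hxf⟩ := hT.exists_basicOpen_le (V := T') ⟨x, hxT'⟩ hx
    refine Opens.mem_iSup.2 ⟨⟨f, ?_⟩, hxf⟩
    have := res_mem_span' H h hf N' _ hmem
    rwa [res_res] at this
  refine Submodule.mem_of_span_eq_top_of_smul_pow_mem _ S₀ hS₀ s (fun f => ?_)
  exact exists_pow_smul_mem_span hT hH N' f.1 _ rfl (X.basicOpen_le f.1) s f.2

end Loc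

section Fam

variable {H : X.Modules}

theorem subFam_res_mem (K : SubFam H) {T T' : X.Opens} (h : T' ≤ T) {s : Γ(H, T)} (hs : s ∈ K.S T) :
    res H h s ∈ K.S T' := K.res h s hs

theorem subFam_loc' (K : SubFam H) (T : X.Opens) (s : Γ(H, T))
    (h : ∀ x ∈ T, ∃ (T' : X.Opens) (h : T' ≤ T), x ∈ T' ∧ res H h s ∈ K.S T') : s ∈ K.S T := K.loc T s h

/-- `K` is localizing on `T` -/
def LocAt (K : SubFam H) (T : X.Opens) : Prop :=
  ∀ (f : Γ(X, T)) (D : X.Opens) (_ : D = X.basicOpen f) (hle : D ≤ T) (s : Γ(H, D)), s ∈ K.S D →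
    ∃ (n : ℕ) (t : Γ(H, T)), t ∈ K.S T ∧ res H hle t = (rres hle f) ^ n • s

/-- `K` is saturated with respect to `W` -/
def Sat (K : SubFam H) (W : X.Opens) : Prop :=
  ∀ (T : X.Opens) (s : Γ(H, T)) (T' : X.Opens) (h : T' ≤ T), T ⊓ W ≤ T' → res H h s ∈ K.S T' → s ∈ K.S T

theorem Sat.mono {K : SubFam H} {W W' : X.Opens} (h : Sat K W) (hle : W ≤ W') : Sat K W' :=
  fun T s T' hT' hW hs => h T s T' hT' ((inf_le_inf_left T hle).trans hW) hs

theorem isUnit_rres {T : X.Opens} (f : Γ(X, T)) (D : X.Opens) (hD : D = X.basicOpen f) (hle : D ≤ T) :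
    IsUnit (rres hle f) := by
  subst hD
  exact X.toRingedSpace.isUnit_res_basicOpen f

/-- sections over a basic open of a localizing family are in the span of the restrictions -/
theorem LocAt.mem_span {K : SubFam H} {T : X.Opens} (hK : LocAt K T) (f : Γ(X, T)) (D : X.Opens)
    (hD : D = X.basicOpen f) (hle : D ≤ T) (s : Γ(H, D)) (hs : s ∈ K.S D) :
    s ∈ Submodule.span Γ(X, D) (res H hle '' (K.S T : Set Γ(H, T))) := by
  obtain ⟨n, t, ht, e⟩ := hK f D hD hle s hs
  obtain ⟨u, hu⟩ := (isUnit_rres f D hD hle).pow n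
  have : s = (↑u⁻¹ : Γ(X, D)) • res H hle t := by
    rw [e, ← hu, smul_smul, Units.inv_mul, one_smul]
  rw [this]
  exact Submodule.smul_mem _ _ (Submodule.subset_span ⟨t, ht, rfl⟩)

/-- the subfamily of `K` of sections which, on `V`, are locally in the span of `N` -/
noncomputable def stepFam (K : SubFam H) (V : X.Opens) (N : Set Γ(H, V)) : SubFam H where
  S T :=
    { carrier := {s | s ∈ K.S T ∧ ∀ x ∈ T, x ∈ V → ∃ (T'' : X.Opens) (h : T'' ≤ T) (hV : T'' ≤ V), x ∈ T'' ∧
          res H h s ∈ Submodule.span Γ(X, T'') (res H hV '' N)}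
      zero_mem' := ⟨Submodule.zero_mem _, fun x hx hxV =>
        ⟨T ⊓ V, inf_le_left, inf_le_right, ⟨hx, hxV⟩, by rw [res_zero]; exact Submodule.zero_mem _⟩⟩
      add_mem' := by
        rintro a b ⟨ha, ha'⟩ ⟨hb, hb'⟩
        refine ⟨Submodule.add_mem _ ha hb, fun x hx hxV => ?_⟩
        obtain ⟨T₁, h₁, hV₁, hx₁, hm₁⟩ := ha' x hx hxV
        obtain ⟨T₂, h₂, hV₂, hx₂, hm₂⟩ := hb' x hx hxV
        refine ⟨T₁ ⊓ T₂, inf_le_left.trans h₁, inf_le_left.trans hV₁, ⟨hx₁, hx₂⟩, ?_⟩
        rw [res_add]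
        refine Submodule.add_mem _ ?_ ?_
        · have := res_mem_span' H hV₁ (inf_le_left : T₁ ⊓ T₂ ≤ T₁) N _ hm₁
          rwa [res_res] at this
        · have := res_mem_span' H hV₂ (inf_le_right : T₁ ⊓ T₂ ≤ T₂) N _ hm₂
          rwa [res_res] at this
      smul_mem' := by
        rintro r a ⟨ha, ha'⟩
        refine ⟨Submodule.smul_mem _ _ ha, fun x hx hxV => ?_⟩
        obtain ⟨T₁, h₁, hV₁, hx₁, hm₁⟩ := ha' x hx hxV
        exact ⟨T₁, h₁, hV₁, hx₁, by rw [res_smul]; exact Submodule.smul_mem _ _ hm₁⟩ }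
  res := by
    rintro T T₁ h s ⟨hs, hs'⟩
    refine ⟨K.res h s hs, fun x hx hxV => ?_⟩
    obtain ⟨T'', h'', hV'', hx'', hm⟩ := hs' x (h hx) hxV
    refine ⟨T'' ⊓ T₁, inf_le_right, inf_le_left.trans hV'', ⟨hx'', hx⟩, ?_⟩
    have := res_mem_span' H hV'' (inf_le_left : T'' ⊓ T₁ ≤ T'') N _ hm
    rw [res_res] at this
    change res H _ (res H h s) ∈ _
    rwa [res_res]
  loc := by
    intro T s hs
    refine ⟨K.loc T s fun x hx => ?_, fun x hx hxV => ?_⟩
    · obtain ⟨T', h, hxT', hm⟩ := hs x hx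
      exact ⟨T', h, hxT', hm.1⟩
    · obtain ⟨T', h, hxT', hm⟩ := hs x hx
      obtain ⟨T'', h'', hV'', hx'', hm''⟩ := hm.2 x hxT' hxV
      refine ⟨T'', h''.trans h, hV'', hx'', ?_⟩
      change res H h'' (res H h s) ∈ _ at hm''
      rwa [res_res] at hm''

theorem mem_stepFam {K : SubFam H} {V : X.Opens} {N : Set Γ(H, V)} {T : X.Opens} {s : Γ(H, T)} :
    s ∈ (stepFam K V N).S T ↔ s ∈ K.S T ∧ ∀ x ∈ T, x ∈ V →
      ∃ (T'' : X.Opens) (h : T'' ≤ T) (hV : T'' ≤ V), x ∈ T'' ∧
        res H h s ∈ Submodule.span Γ(X, T'') (res H hV '' N) := Iff.rfl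

theorem stepFam_le (K : SubFam H) (V : X.Opens) (N : Set Γ(H, V)) (T : X.Opens) :
    (stepFam K V N).S T ≤ K.S T := fun _ hs => hs.1

/-- on affine opens inside `V`, the step family is the span of the restrictions of `N` -/
theorem stepFam_eq_span [H.IsQuasicoherent] (K : SubFam H) (V : X.Opens) (N : Set Γ(H, V))
    (hN : N ⊆ (K.S V : Set Γ(H, V))) {T : X.Opens} (hT : IsAffineOpen T) (hTV : T ≤ V) :
    (stepFam K V N).S T = Submodule.span Γ(X, T) (res H hTV '' N) := by
  apply le_antisymm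
  · intro s hs
    refine mem_span_of_locally hT (IsLocOn.of_isQuasicoherent hT H) _ s (fun x hx => ?_)
    obtain ⟨T'', h, hV'', hx'', hm⟩ := hs.2 x hx (hTV hx)
    refine ⟨T'', h, hx'', ?_⟩
    rwa [res_image_image]
  · rw [Submodule.span_le]
    rintro _ ⟨y, hy, rfl⟩
    refine ⟨K.res hTV y (hN hy), fun x hx _ => ⟨T, le_rfl, hTV, hx, ?_⟩⟩
    rw [res_self]
    exact Submodule.subset_span ⟨y, hy, rfl⟩

theorem stepFam_fg [H.IsQuasicoherent] (K : SubFam H) (V : X.Opens) (N : Set Γ(H, V)) (hfin : N.Finite)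
    (hN : N ⊆ (K.S V : Set Γ(H, V))) {T : X.Opens} (hT : IsAffineOpen T) (hTV : T ≤ V) :
    ((stepFam K V N).S T).FG := by
  rw [stepFam_eq_span K V N hN hT hTV]
  exact Submodule.fg_span (hfin.image _)

theorem stepFam_locAt [H.IsQuasicoherent] (K : SubFam H) (V : X.Opens) (N : Set Γ(H, V))
    (hN : N ⊆ (K.S V : Set Γ(H, V))) {T : X.Opens} (hT : IsAffineOpen T) (hTV : T ≤ V) :
    LocAt (stepFam K V N) T := by
  intro f D hD hle s hs
  have hDaff : IsAffineOpen D := by rw [hD]; exact hT.basicOpen f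
  rw [stepFam_eq_span K V N hN hDaff (hle.trans hTV), ← res_image_image H hTV hle] at hs
  obtain ⟨n, w, hw, e⟩ := exists_lift_of_mem_span hT _ f D hD hle s hs
  refine ⟨n, w, ?_, e⟩
  rw [stepFam_eq_span K V N hN hT hTV]
  exact hw

theorem stepFam_sat (K : SubFam H) (V : X.Opens) (N : Set Γ(H, V)) {W : X.Opens} (hsat : Sat K W) :
    Sat (stepFam K V N) (W ⊔ V) := by
  intro T s T' h hle hs
  refine ⟨hsat T s T' h (le_trans (inf_le_inf_left T le_sup_left) hle) hs.1, fun x hx hxV => ?_⟩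
  have hxT' : x ∈ T' := hle ⟨hx, Or.inr hxV⟩
  obtain ⟨T'', h'', hV'', hx'', hm⟩ := hs.2 x hxT' hxV
  refine ⟨T'', h''.trans h, hV'', hx'', ?_⟩
  rwa [res_res] at hm

/-- the step family agrees with `K` on opens of `W`, if `N` generates `K` on a cover of `W ⊓ V` by affine opens on
which `K` is localizing -/
theorem stepFam_eq_of_le (K : SubFam H) (V : X.Opens) (N : Set Γ(H, V)) (W : X.Opens)
    (hcov : ∀ x ∈ W ⊓ V, ∃ (D : X.Opens) (hDV : D ≤ V), x ∈ D ∧ IsAffineOpen D ∧ LocAt K D ∧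
      K.S D ≤ Submodule.span Γ(X, D) (res H hDV '' N))
    {T : X.Opens} (hTW : T ≤ W) : (stepFam K V N).S T = K.S T := by
  apply le_antisymm (stepFam_le K V N T)
  intro s hs
  refine ⟨hs, fun x hx hxV => ?_⟩
  obtain ⟨D, hDV, hxD, hDaff, hDloc, hDspan⟩ := hcov x ⟨hTW hx, hxV⟩
  obtain ⟨h, hh, hxh⟩ := hDaff.exists_basicOpen_le (V := T ⊓ D) ⟨x, ⟨hx, hxD⟩⟩ hxD
  refine ⟨X.basicOpen h, hh.trans inf_le_left, (X.basicOpen_le h).trans hDV, hxh, ?_⟩
  have h1 := hDloc.mem_span h _ rfl (X.basicOpen_le h) _ (subFam_res_mem K (hh.trans inf_le_left) hs)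
  refine Submodule.span_le.2 ?_ h1
  rintro _ ⟨t, ht, rfl⟩
  exact res_mem_span' H hDV (X.basicOpen_le h) N t (hDspan ht)

/-- **Lemma A**: a `W`-saturated family which is localizing on finitely many basic opens of the affine open `V` covering
`W ⊓ V` is localizing on `V`. -/
theorem locAt_of_sat [H.IsQuasicoherent] (K : SubFam H) (W V : X.Opens) (hV : IsAffineOpen V) (hsat : Sat K W)
    (G : Finset Γ(X, V)) (hGW : ∀ g ∈ G, X.basicOpen g ≤ W) (hGloc : ∀ g ∈ G, LocAt K (X.basicOpen g))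
    (hcov : W ⊓ V ≤ ⨆ g ∈ G, X.basicOpen g) : LocAt K V := by
  intro f D hD hle s hs
  obtain ⟨n₀, t₀, e₀⟩ := isLocOn_lift' (IsLocOn.of_isQuasicoherent hV H) f D hD hle s
  have key : ∀ g : Γ(X, V), ∃ k : ℕ, g ∈ G →
      (rres (X.basicOpen_le g) f) ^ k • res H (X.basicOpen_le g) t₀ ∈ K.S (X.basicOpen g) := by
    intro g
    by_cases hg : g ∈ G
    swap
    · exact ⟨0, fun h => absurd h hg⟩
    have hDgV : X.basicOpen g ≤ V := X.basicOpen_le g
    have hDgaff : IsAffineOpen (X.basicOpen g) := hV.basicOpen g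
    have hE : X.basicOpen g ⊓ D = X.basicOpen (rres hDgV f) := by
      rw [hD]; exact (Scheme.basicOpen_res X f (homOfLE hDgV).op).symm
    obtain ⟨ng, tg, htg, eg⟩ := hGloc g hg (rres hDgV f) (X.basicOpen g ⊓ D) hE inf_le_left
      (res H inf_le_right s) (K.res _ _ hs)
    have hd : res H (inf_le_left : X.basicOpen g ⊓ D ≤ X.basicOpen g)
        ((rres hDgV f) ^ n₀ • tg - (rres hDgV f) ^ ng • res H hDgV t₀) = 0 := by
      rw [res_sub, res_smul, res_smul, eg, res_res, map_pow, map_pow]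
      have h1 : res H (inf_le_left.trans hDgV : X.basicOpen g ⊓ D ≤ V) t₀ =
          res H inf_le_right (res H hle t₀) := by rw [res_res]
      rw [h1, e₀, res_smul, map_pow, rres_rres, smul_smul, smul_smul, rres_rres, ← pow_add, ← pow_add,
        add_comm, sub_self]
    obtain ⟨m, hm⟩ := isLocOn_zero' (IsLocOn.of_isQuasicoherent hDgaff H) (rres hDgV f)
      (X.basicOpen g ⊓ D) hE inf_le_left _ hd
    refine ⟨m + ng, fun _ => ?_⟩
    have h2 : (rres hDgV f) ^ (m + ng) • res H hDgV t₀ = (rres hDgV f) ^ (m + n₀) • tg := by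
      rw [smul_sub, sub_eq_zero, smul_smul, smul_smul, ← pow_add, ← pow_add] at hm
      exact hm.symm
    rw [h2]
    exact Submodule.smul_mem _ _ htg
  choose k hk using key
  refine ⟨G.sup k + n₀, f ^ (G.sup k) • t₀, ?_, ?_⟩
  · refine hsat V _ (V ⊓ W) inf_le_left le_rfl ?_
    refine K.loc _ _ (fun x hx => ?_)
    have hx' : x ∈ W ⊓ V := ⟨hx.2, hx.1⟩
    obtain ⟨g, hxg⟩ := Opens.mem_iSup.1 (hcov hx')
    obtain ⟨hg, hxg⟩ := Opens.mem_iSup.1 hxg
    refine ⟨X.basicOpen g, le_inf (X.basicOpen_le g) (hGW g hg), hxg, ?_⟩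
    change res H _ (res H _ (f ^ (G.sup k) • t₀)) ∈ _
    rw [res_res, res_smul, map_pow]
    have hkle : k g ≤ G.sup k := Finset.le_sup hg
    obtain ⟨j, hj⟩ := Nat.exists_eq_add_of_le hkle
    rw [hj, add_comm, pow_add, mul_smul]
    exact Submodule.smul_mem _ _ (hk g hg)
  · rw [res_smul, e₀, map_pow, smul_smul, ← pow_add]

theorem exists_finite_subset_span_image {R M M' : Type*} [Semiring R] [AddCommMonoid M] [Module R M]
    (φ : M' → M) (A : Set M') (P : Submodule R M) (hP : P.FG) (hle : P ≤ Submodule.span R (φ '' A)) :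
    ∃ A₀ : Set M', A₀.Finite ∧ A₀ ⊆ A ∧ P ≤ Submodule.span R (φ '' A₀) := by
  classical
  obtain ⟨S, hS⟩ := hP
  have h1 : ∀ y : M, ∃ T' : Finset M', y ∈ S →
      ((T' : Set M') ⊆ A ∧ y ∈ Submodule.span R (φ '' (T' : Set M'))) := by
    intro y
    by_cases hy : y ∈ S
    swap
    · exact ⟨∅, fun h => absurd h hy⟩
    have hy' : y ∈ Submodule.span R (φ '' A) := hle (hS ▸ Submodule.subset_span hy)
    obtain ⟨T, hT, hyT⟩ := Submodule.mem_span_finite_of_mem_span hy'
    obtain ⟨T', hT', rfl⟩ := Finset.subset_set_image_iff.1 hT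
    exact ⟨T', fun _ => ⟨hT', by rwa [Finset.coe_image] at hyT⟩⟩
  choose T' hT' using h1
  refine ⟨⋃ y ∈ (S : Set M), (T' y : Set M'), S.finite_toSet.biUnion (fun y _ => (T' y).finite_toSet), ?_, ?_⟩
  · intro a ha
    simp only [Set.mem_iUnion] at ha
    obtain ⟨y, hy, ha⟩ := ha
    exact (hT' y hy).1 ha
  · rw [← hS, Submodule.span_le]
    intro y hy
    refine Submodule.span_mono (Set.image_mono ?_) (hT' y hy).2
    exact Set.subset_biUnion_of_mem (u := fun y => (T' y : Set M')) hy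

theorem exists_finite_gen (K : SubFam H) (V : X.Opens) (hKV : LocAt K V) (G : Finset Γ(X, V))
    (hfg : ∀ g ∈ G, (K.S (X.basicOpen g)).FG) :
    ∃ N : Set Γ(H, V), N.Finite ∧ N ⊆ (K.S V : Set Γ(H, V)) ∧
      ∀ g ∈ G, K.S (X.basicOpen g) ≤
        Submodule.span Γ(X, X.basicOpen g) (res H (X.basicOpen_le g) '' N) := by
  classical
  have h1 : ∀ g : Γ(X, V), ∃ A₀ : Set Γ(H, V), g ∈ G → (A₀.Finite ∧ A₀ ⊆ (K.S V : Set Γ(H, V)) ∧
      K.S (X.basicOpen g) ≤ Submodule.span Γ(X, X.basicOpen g) (res H (X.basicOpen_le g) '' A₀)) := by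
    intro g
    by_cases hg : g ∈ G
    swap
    · exact ⟨∅, fun h => absurd h hg⟩
    obtain ⟨A₀, h1, h2, h3⟩ := exists_finite_subset_span_image (res H (X.basicOpen_le g))
      (K.S V : Set Γ(H, V)) (K.S (X.basicOpen g)) (hfg g hg)
      (fun s hs => hKV.mem_span g _ rfl (X.basicOpen_le g) s hs)
    exact ⟨A₀, fun _ => ⟨h1, h2, h3⟩⟩
  choose A hA using h1
  refine ⟨⋃ g ∈ (G : Set Γ(X, V)), A g, G.finite_toSet.biUnion (fun g hg => (hA g hg).1), ?_, ?_⟩
  · intro a ha
    simp only [Set.mem_iUnion] at ha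
    obtain ⟨g, hg, ha⟩ := ha
    exact (hA g hg).2.1 ha
  · intro g hg
    refine (hA g hg).2.2.trans (Submodule.span_mono (Set.image_mono ?_))
    exact Set.subset_biUnion_of_mem (u := fun g => A g) (Finset.mem_coe.2 hg)

/-- **The successor step**: enlarge the open on which the family is localizing and finitely generated by an affine
open `V`, without changing the family on `W`. -/
theorem exists_step [H.IsQuasicoherent] (K : SubFam H) (W V : X.Opens) (hV : IsAffineOpen V) (hsat : Sat K W)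
    (G : Finset Γ(X, V)) (hGW : ∀ g ∈ G, X.basicOpen g ≤ W) (hGloc : ∀ g ∈ G, LocAt K (X.basicOpen g))
    (hGfg : ∀ g ∈ G, (K.S (X.basicOpen g)).FG) (hcov : W ⊓ V ≤ ⨆ g ∈ G, X.basicOpen g) :
    ∃ K' : SubFam H, (∀ T, K'.S T ≤ K.S T) ∧ (∀ T, T ≤ W → K'.S T = K.S T) ∧ Sat K' (W ⊔ V) ∧
      ∀ T, IsAffineOpen T → T ≤ V → LocAt K' T ∧ (K'.S T).FG := by
  have hKV : LocAt K V := locAt_of_sat K W V hV hsat G hGW hGloc hcov
  obtain ⟨N, hNfin, hNK, hNspan⟩ := exists_finite_gen K V hKV G hGfg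
  refine ⟨stepFam K V N, stepFam_le K V N, fun T hT => ?_, stepFam_sat K V N hsat, fun T hT hTV =>
    ⟨stepFam_locAt K V N hNK hT hTV, stepFam_fg K V N hNfin hNK hT hTV⟩⟩
  refine stepFam_eq_of_le K V N W (fun x hx => ?_) hT
  obtain ⟨g, hxg⟩ := Opens.mem_iSup.1 (hcov hx)
  obtain ⟨hg, hxg⟩ := Opens.mem_iSup.1 hxg
  exact ⟨X.basicOpen g, X.basicOpen_le g, hxg, hV.basicOpen g, hGloc g hg, hNspan g hg⟩

end Fam

section Stage

variable {H : X.Modules}

/-- the full family -/
noncomputable def topFam (H : X.Modules) : SubFam H where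
  S _ := ⊤
  res _ _ _ := Submodule.mem_top
  loc _ _ _ := Submodule.mem_top

/-- the intersection of a family of families -/
noncomputable def iInfFam {ι : Sort*} (K : ι → SubFam H) : SubFam H where
  S T := ⨅ a, (K a).S T
  res h s hs := by
    rw [Submodule.mem_iInf] at hs ⊢
    exact fun a => (K a).res h s (hs a)
  loc T s hs := by
    rw [Submodule.mem_iInf]
    intro a
    refine (K a).loc T s (fun x hx => ?_)
    obtain ⟨T', h, hx', hm⟩ := hs x hx
    exact ⟨T', h, hx', (Submodule.mem_iInf _).1 hm a⟩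

theorem LocAt.congr {K K' : SubFam H} {T : X.Opens} (hK : LocAt K T)
    (h : ∀ T', T' ≤ T → K'.S T' = K.S T') : LocAt K' T := by
  intro f D hD hle s hs
  rw [h D hle] at hs
  obtain ⟨n, t, ht, e⟩ := hK f D hD hle s hs
  exact ⟨n, t, by rw [h T le_rfl]; exact ht, e⟩

theorem locAt_topFam [H.IsQuasicoherent] {T : X.Opens} (hT : IsAffineOpen T) : LocAt (topFam H) T := by
  intro f D hD hle s _
  obtain ⟨n, t, e⟩ := isLocOn_lift' (IsLocOn.of_isQuasicoherent hT H) f D hD hle s
  exact ⟨n, t, Submodule.mem_top, e⟩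

variable {L : Type v} (V : L → X.Opens) (U : X.Opens)

/-- test opens for the index set `I` -/
def Test (I : Set L) (T : X.Opens) : Prop := T ≤ U ∨ ∃ m ∈ I, T ≤ V m

/-- the open `U ∪ ⋃_{m ∈ I} V m` -/
def WI (I : Set L) : X.Opens := U ⊔ ⨆ m : I, V m.1

variable {V U}

theorem mem_WI {I : Set L} {x : X} : x ∈ WI V U I ↔ x ∈ U ∨ ∃ m ∈ I, x ∈ V m := by
  unfold WI
  constructor
  · rintro (h | h)
    · exact Or.inl h
    · obtain ⟨m, hm⟩ := Opens.mem_iSup.1 h
      exact Or.inr ⟨m.1, m.2, hm⟩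
  · rintro (h | ⟨m, hm, hx⟩)
    · exact Or.inl h
    · exact Or.inr (Opens.mem_iSup.2 ⟨⟨m, hm⟩, hx⟩)

theorem Test.le_WI {I : Set L} {T : X.Opens} (h : Test V U I T) : T ≤ WI V U I := by
  intro x hx
  rcases h with h | ⟨m, hm, h⟩
  · exact mem_WI.2 (Or.inl (h hx))
  · exact mem_WI.2 (Or.inr ⟨m, hm, h hx⟩)

theorem Test.mono {I J : Set L} {T : X.Opens} (h : Test V U I T) (hIJ : I ⊆ J) : Test V U J T := by
  rcases h with h | ⟨m, hm, h⟩
  · exact Or.inl h
  · exact Or.inr ⟨m, hIJ hm, h⟩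

theorem WI_mono {I J : Set L} (hIJ : I ⊆ J) : WI V U I ≤ WI V U J := by
  intro x hx
  rcases mem_WI.1 hx with h | ⟨m, hm, h⟩
  · exact mem_WI.2 (Or.inl h)
  · exact mem_WI.2 (Or.inr ⟨m, hIJ hm, h⟩)

variable (V U)

/-- the invariants of the transfinite construction -/
structure Good (K₀ : SubFam H) (I : Set L) (K : SubFam H) : Prop where
  on_U : ∀ T, T ≤ U → K.S T = K₀.S T
  sat : Sat K (WI V U I)
  locAt : ∀ T, IsAffineOpen T → Test V U I T → LocAt K T
  fg : ∀ T, IsAffineOpen T → Test V U I T → (K.S T).FG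

/-- the stages of the transfinite construction -/
structure Stage [Preorder L] (K₀ : SubFam H) where
  I : Set L
  K : SubFam H
  lower : IsLowerSet I
  good : Good V U K₀ I K

variable {V U} {K₀ : SubFam H}

/-- the order on stages -/
def Stage.le [Preorder L] (a b : Stage V U K₀) : Prop :=
  a.I ⊆ b.I ∧ (∀ T, b.K.S T ≤ a.K.S T) ∧ ∀ T, T ≤ WI V U a.I → b.K.S T = a.K.S T

theorem Stage.le_refl [Preorder L] (a : Stage V U K₀) : a.le a :=
  ⟨subset_rfl, fun _ => le_rfl, fun _ _ => rfl⟩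

theorem Stage.le_trans [Preorder L] {a b c : Stage V U K₀} (hab : a.le b) (hbc : b.le c) : a.le c :=
  ⟨hab.1.trans hbc.1, fun T => (hbc.2.1 T).trans (hab.2.1 T), fun T hT => by
    rw [hbc.2.2 T (hT.trans (WI_mono hab.1)), hab.2.2 T hT]⟩

/-- the base stage -/
noncomputable def Stage.base [Preorder L] (hsat : Sat K₀ U)
    (hloc : ∀ T, IsAffineOpen T → T ≤ U → LocAt K₀ T) (hfg : ∀ T, IsAffineOpen T → T ≤ U → (K₀.S T).FG) :
    Stage V U K₀ where
  I := ∅
  K := K₀
  lower := isLowerSet_empty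
  good :=
    { on_U := fun _ _ => rfl
      sat := hsat.mono (fun x hx => mem_WI.2 (Or.inl hx))
      locAt := fun T hT hTest => by
        have hTU : T ≤ U := by
          rcases hTest with h | ⟨m, hm, -⟩
          · exact h
          · exact absurd hm (Set.notMem_empty m)
        exact hloc T hT hTU
      fg := fun T hT hTest => by
        have hTU : T ≤ U := by
          rcases hTest with h | ⟨m, hm, -⟩
          · exact h
          · exact absurd hm (Set.notMem_empty m)
        exact hfg T hT hTU }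

theorem Stage.exists_ub [Preorder L] (c : Set (Stage V U K₀)) (hc : IsChain Stage.le c) (hne : c.Nonempty) :
    ∃ ub : Stage V U K₀, ∀ a ∈ c, a.le ub := by
  obtain ⟨a₀, ha₀⟩ := hne
  have htot : ∀ a ∈ c, ∀ b ∈ c, a.le b ∨ b.le a := by
    intro a ha b hb
    by_cases hab : a = b
    · subst hab; exact Or.inl a.le_refl
    · exact hc ha hb hab
  let Iinf : Set L := ⋃ a ∈ c, Stage.I a
  let Kinf : SubFam H := iInfFam (fun a : c => a.1.K)
  have hmemK : ∀ (T : X.Opens) (s : Γ(H, T)), s ∈ Kinf.S T ↔ ∀ a ∈ c, s ∈ (Stage.K a).S T := by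
    intro T s
    change s ∈ ⨅ a : c, a.1.K.S T ↔ _
    rw [Submodule.mem_iInf]
    exact ⟨fun h a ha => h ⟨a, ha⟩, fun h a => h a.1 a.2⟩
  have hkey : ∀ a ∈ c, ∀ T, T ≤ WI V U (Stage.I a) → Kinf.S T = (Stage.K a).S T := by
    intro a ha T hT
    apply le_antisymm
    · intro s hs; exact (hmemK T s).1 hs a ha
    · intro s hs
      rw [hmemK]
      intro b hb
      rcases htot a ha b hb with hab | hba
      · rw [hab.2.2 T hT]; exact hs
      · exact hba.2.1 T hs
  have hIsub : ∀ a ∈ c, Stage.I a ⊆ Iinf := fun a ha =>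
    Set.subset_biUnion_of_mem (u := fun a : Stage V U K₀ => a.I) ha
  have htest : ∀ T, Test V U Iinf T → ∃ a ∈ c, Test V U (Stage.I a) T := by
    intro T hT
    rcases hT with h | ⟨m, hm, h⟩
    · exact ⟨a₀, ha₀, Or.inl h⟩
    · simp only [Iinf, Set.mem_iUnion] at hm
      obtain ⟨a, ha, hma⟩ := hm
      exact ⟨a, ha, Or.inr ⟨m, hma, h⟩⟩
  refine ⟨⟨Iinf, Kinf, ?_, ⟨?_, ?_, ?_, ?_⟩⟩, fun a ha =>
    ⟨hIsub a ha, fun T s hs => (hmemK T s).1 hs a ha, hkey a ha⟩⟩
  · intro m m' hle hm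
    simp only [Iinf, Set.mem_iUnion] at hm ⊢
    obtain ⟨a, ha, hma⟩ := hm
    exact ⟨a, ha, a.lower hle hma⟩
  · intro T hT
    rw [hkey a₀ ha₀ T (hT.trans (fun x hx => mem_WI.2 (Or.inl hx)))]
    exact a₀.good.on_U T hT
  · intro T s T' h hle hs
    rw [hmemK]
    intro a ha
    exact a.good.sat T s T' h ((inf_le_inf_left T (WI_mono (hIsub a ha))).trans hle)
      ((hmemK T' _).1 hs a ha)
  · intro T hT hTest
    obtain ⟨a, ha, hTa⟩ := htest T hTest
    exact (a.good.locAt T hT hTa).congr (fun T' hT' => hkey a ha T' (hT'.trans hTa.le_WI))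
  · intro T hT hTest
    obtain ⟨a, ha, hTa⟩ := htest T hTest
    rw [hkey a ha T hTa.le_WI]
    exact a.good.fg T hT hTa

/-- **the transfinite construction**: a family satisfying the invariants for the whole index set. -/
theorem exists_good_univ [LinearOrder L] [WellFoundedLT L] [H.IsQuasicoherent]
    (hV : ∀ l, IsAffineOpen (V l))
    (hW : ∀ l, IsCompact ((V l : Set X) ∩ ⋃ m ∈ Set.Iio l, (V m : Set X)))
    (hU : ∀ l, IsCompact ((U : Set X) ∩ (V l : Set X)))
    (K₀ : SubFam H) (hsat : Sat K₀ U)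
    (hloc : ∀ T, IsAffineOpen T → T ≤ U → LocAt K₀ T) (hfg : ∀ T, IsAffineOpen T → T ≤ U → (K₀.S T).FG) :
    ∃ K : SubFam H, Good V U K₀ Set.univ K := by
  classical
  have : Nonempty (Stage V U K₀) := ⟨Stage.base hsat hloc hfg⟩
  obtain ⟨a, hmax⟩ := exists_maximal_of_nonempty_chains_bounded
    (r := Stage.le (V := V) (U := U) (K₀ := K₀))
    (fun c hc hne => Stage.exists_ub c hc hne) (fun h1 h2 => Stage.le_trans h1 h2)
  suffices h : a.I = Set.univ by
    refine ⟨a.K, ?_⟩
    have := a.good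
    rwa [h] at this
  by_contra hne
  have hne' : (a.Iᶜ).Nonempty := Set.nonempty_compl.2 hne
  obtain ⟨l, hl, hmin⟩ := WellFounded.has_min (wellFounded_lt (α := L)) a.Iᶜ hne'
  have hlt : ∀ m, m < l → m ∈ a.I := by
    intro m hm
    by_contra hmI
    exact hmin m hmI hm
  have hIio : ∀ m ∈ a.I, m < l := by
    intro m hm
    by_contra hml
    exact hl (a.lower (not_lt.1 hml) hm)
  have hcpt : IsCompact ((WI V U a.I ⊓ V l : X.Opens) : Set X) := by
    have h1 : ((WI V U a.I ⊓ V l : X.Opens) : Set X) =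
        ((U : Set X) ∩ (V l : Set X)) ∪ ((V l : Set X) ∩ ⋃ m ∈ Set.Iio l, (V m : Set X)) := by
      ext x
      simp only [Opens.coe_inf, Set.mem_inter_iff, SetLike.mem_coe, Set.mem_union, Set.mem_iUnion,
        Set.mem_Iio]
      rw [mem_WI]
      constructor
      · rintro ⟨h | ⟨m, hm, hx⟩, hxl⟩
        · exact Or.inl ⟨h, hxl⟩
        · exact Or.inr ⟨hxl, m, hIio m hm, hx⟩
      · rintro (⟨h, hxl⟩ | ⟨hxl, m, hm, hx⟩)
        · exact ⟨Or.inl h, hxl⟩
        · exact ⟨Or.inr ⟨m, hlt m hm, hx⟩, hxl⟩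
    rw [h1]
    exact (hU l).union (hW l)
  obtain ⟨t, ht⟩ := hcpt.elim_finite_subcover
    (fun g : {g : Γ(X, V l) // Test V U a.I (X.basicOpen g)} => (X.basicOpen g.1 : Set X))
    (fun g => (X.basicOpen g.1).isOpen) (by
      intro x hx
      have hxW : x ∈ WI V U a.I := hx.1
      have hxl : x ∈ V l := hx.2
      rcases mem_WI.1 hxW with h | ⟨m, hm, h⟩
      · obtain ⟨g, hg, hxg⟩ := (hV l).exists_basicOpen_le (V := U) ⟨x, h⟩ hxl
        exact Set.mem_iUnion.2 ⟨⟨g, Or.inl hg⟩, hxg⟩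
      · obtain ⟨g, hg, hxg⟩ := (hV l).exists_basicOpen_le (V := V m) ⟨x, h⟩ hxl
        exact Set.mem_iUnion.2 ⟨⟨g, Or.inr ⟨m, hm, hg⟩⟩, hxg⟩)
  let G : Finset Γ(X, V l) := t.image Subtype.val
  have hG : ∀ g ∈ G, Test V U a.I (X.basicOpen g) := by
    intro g hg
    obtain ⟨g', -, rfl⟩ := Finset.mem_image.1 hg
    exact g'.2
  have hcov : WI V U a.I ⊓ V l ≤ ⨆ g ∈ G, X.basicOpen g := by
    intro x hx
    obtain ⟨g, hg⟩ := Set.mem_iUnion.1 (ht hx)
    obtain ⟨hgt, hxg⟩ := Set.mem_iUnion.1 hg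
    exact Opens.mem_iSup.2 ⟨g.1, Opens.mem_iSup.2 ⟨Finset.mem_image_of_mem _ hgt, hxg⟩⟩
  obtain ⟨K', hle, heq, hsat, hnew⟩ := exists_step a.K (WI V U a.I) (V l) (hV l) a.good.sat G
    (fun g hg => (hG g hg).le_WI) (fun g hg => a.good.locAt _ ((hV l).basicOpen g) (hG g hg))
    (fun g hg => a.good.fg _ ((hV l).basicOpen g) (hG g hg)) hcov
  have hold : ∀ T, Test V U a.I T → ∀ T', T' ≤ T → K'.S T' = a.K.S T' :=
    fun T hT T' hT' => heq T' (hT'.trans hT.le_WI)
  let b : Stage V U K₀ :=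
    { I := insert l a.I
      K := K'
      lower := by
        intro m m' hle hm
        rcases hm with hm | hm
        · rw [hm] at hle
          rcases hle.lt_or_eq with h | h
          · exact Or.inr (hlt _ h)
          · exact Or.inl h
        · exact Or.inr (a.lower hle hm)
      good :=
        { on_U := fun T hT => by
            rw [hold T (Or.inl hT) T le_rfl]; exact a.good.on_U T hT
          sat := hsat.mono (by
            intro x hx
            rcases hx with hx | hx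
            · exact WI_mono (Set.subset_insert l a.I) hx
            · exact mem_WI.2 (Or.inr ⟨l, Set.mem_insert l a.I, hx⟩))
          locAt := fun T hT hTest => by
            rcases hTest with h | ⟨m, hm, h⟩
            · exact (a.good.locAt T hT (Or.inl h)).congr (hold T (Or.inl h))
            · rcases hm with hm | hm
              · rw [hm] at h
                exact (hnew T hT h).1
              · exact (a.good.locAt T hT (Or.inr ⟨m, hm, h⟩)).congr (hold T (Or.inr ⟨m, hm, h⟩))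
          fg := fun T hT hTest => by
            rcases hTest with h | ⟨m, hm, h⟩
            · rw [hold T (Or.inl h) T le_rfl]; exact a.good.fg T hT (Or.inl h)
            · rcases hm with hm | hm
              · rw [hm] at h
                exact (hnew T hT h).2
              · rw [hold T (Or.inr ⟨m, hm, h⟩) T le_rfl]; exact a.good.fg T hT (Or.inr ⟨m, hm, h⟩) } }
  have hab : a.le b := ⟨Set.subset_insert l a.I, hle, heq⟩
  exact hl ((hmax b hab).1 (Set.mem_insert l a.I))

end Stage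

section Final

variable {H : X.Modules}

theorem isLocOn_toModules [H.IsQuasicoherent] (K : SubFam H) {T : X.Opens} (hT : IsAffineOpen T)
    (hK : LocAt K T) : IsLocOn K.toModules T := by
  constructor
  · intro f s
    obtain ⟨n, t, ht, e⟩ := hK f _ rfl (X.basicOpen_le f) (K.ι.app _ s) (K.ι_app_mem _ s)
    obtain ⟨t', ht'⟩ := K.exists_ι_app_eq T t ht
    refine ⟨n, t', ?_⟩
    apply K.ι_app_injective
    rw [app_map, ht', Scheme.Modules.Hom.app_smul]
    exact e
  · intro f t ht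
    have h1 : H.presheaf.map (homOfLE (X.basicOpen_le f)).op (K.ι.app T t) = 0 := by
      rw [← app_map, ht, map_zero]
    obtain ⟨n, hn⟩ := (IsLocOn.of_isQuasicoherent hT H).exists_pow_smul_eq_zero f _ h1
    refine ⟨n, K.ι_app_injective T ?_⟩
    rw [Scheme.Modules.Hom.app_smul, hn, map_zero]

/-- a family satisfying the invariants for the whole index set gives a quasi-coherent submodule of finite type -/
theorem toModules_of_good [H.IsQuasicoherent] {L : Type v} (V : L → X.Opens) (hV : ∀ l, IsAffineOpen (V l))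
    (hcov : ⨆ l, V l = ⊤) (U : X.Opens) (K₀ K : SubFam H) (hK : Good V U K₀ Set.univ K) :
    K.toModules.IsQuasicoherent ∧ SheafOfModules.IsFiniteType (R := X.ringCatSheaf) K.toModules := by
  have hcov' : IsOpenCover (fun i : Set.range V => (i.1 : X.Opens)) := by
    change (⨆ i : Set.range V, (i.1 : X.Opens)) = ⊤
    rw [eq_top_iff, ← hcov]
    exact iSup_le fun l => le_iSup (fun i : Set.range V => (i.1 : X.Opens)) ⟨V l, l, rfl⟩
  have hVa : ∀ i : Set.range V, IsAffineOpen (i.1 : X.Opens) := by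
    rintro ⟨_, l, rfl⟩; exact hV l
  have hloc : ∀ i : Set.range V, IsLocOn K.toModules (i.1 : X.Opens) := by
    rintro ⟨_, l, rfl⟩
    exact isLocOn_toModules K (hV l) (hK.locAt _ (hV l) (Or.inr ⟨l, trivial, le_rfl⟩))
  have hq : K.toModules.IsQuasicoherent :=
    isQuasicoherent_of_affine_cover _ _ hcov' hVa
      (fun i => isQuasicoherent_restrict_fromSpec_of_isLocOn (hVa i) _ (hloc i))
  refine ⟨hq, ?_⟩
  refine isFiniteType_of_finite K.toModules _ hcov' hVa (fun i => ?_)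
  obtain ⟨_, l, rfl⟩ := i
  exact K.finite_sections_of_fg _ (hK.fg _ (hV l) (Or.inr ⟨l, trivial, le_rfl⟩))

/-- from a family satisfying the invariants for the whole index set to a quasi-coherent submodule of finite type -/
theorem exists_sub_of_good [H.IsQuasicoherent] {L : Type v} (V : L → X.Opens) (hV : ∀ l, IsAffineOpen (V l))
    (hcov : ⨆ l, V l = ⊤) (U : X.Opens) (K : SubFam H) (hK : Good V U (topFam H) Set.univ K) :
    ∃ (F : X.Modules) (ψ : F ⟶ H), Mono ψ ∧ F.IsQuasicoherent ∧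
      SheafOfModules.IsFiniteType (R := X.ringCatSheaf) F ∧ IsoOn ψ U := by
  obtain ⟨hq, hft⟩ := toModules_of_good V hV hcov U (topFam H) K hK
  refine ⟨K.toModules, K.ι, inferInstance, hq, hft, ?_⟩
  intro T hT
  have hbij : Function.Bijective (K.ι.app T) :=
    ⟨K.ι_app_injective T, fun s => K.exists_ι_app_eq T s (by rw [hK.on_U T hT]; trivial)⟩
  exact (ConcreteCategory.isIso_iff_bijective _).2 hbij

/-- **Extension of quasi-coherent submodules of finite type along a well-ordered affine cover** (EGA I 9.4.7). -/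
theorem exists_extension_wo {L : Type v} [LinearOrder L] [WellFoundedLT L]
    (V : L → X.Opens) (hV : ∀ l, IsAffineOpen (V l)) (hcov : ⨆ l, V l = ⊤)
    (hW : ∀ l, IsCompact ((V l : Set X) ∩ ⋃ m ∈ Set.Iio l, (V m : Set X)))
    (U : X.Opens) [QuasiCompact U.ι] (F : X.Modules) [F.IsQuasicoherent]
    (G : (U : Scheme.{u}).Modules) (i : G ⟶ F.restrict U.ι) [Mono i]
    [G.IsQuasicoherent] [SheafOfModules.IsFiniteType (R := (U : Scheme.{u}).ringCatSheaf) G] :
    ∃ (G' : X.Modules) (i' : G' ⟶ F) (e : G'.restrict U.ι ≅ G), Mono i' ∧ G'.IsQuasicoherent ∧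
      SheafOfModules.IsFiniteType (R := X.ringCatSheaf) G' ∧
      e.hom ≫ i = (Scheme.Modules.restrictFunctor U.ι).map i' := by
  obtain ⟨H, ψ₀, e₀, hHq, hcompat, hmono, -⟩ := exists_extension' U.ι F G i
  have := hHq
  have : Mono ψ₀ := hmono inferInstance
  have : SheafOfModules.IsFiniteType (R := (U : Scheme.{u}).ringCatSheaf) (H.restrict U.ι) :=
    isFiniteType_of_iso e₀.symm
  have hH : FTOn H U := by
    have := ftOn_of_isFiniteType_restrict U.ι H
    rw [Scheme.Opens.opensRange_ι] at this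
    exact this
  have hU : ∀ l, IsCompact ((U : Set X) ∩ (V l : Set X)) := by
    intro l
    have h1 : IsCompact ((U.ι ⁻¹ᵁ V l : (U : Scheme.{u}).Opens) : Set U) :=
      U.ι.isCompact_preimage (hV l).isCompact
    have h2 := h1.image U.ι.continuous
    have h3 : U.ι '' ((U.ι ⁻¹ᵁ V l : (U : Scheme.{u}).Opens) : Set U) = (U : Set X) ∩ (V l : Set X) := by
      change U.ι '' (U.ι ⁻¹' (V l : Set X)) = _
      rw [Set.image_preimage_eq_inter_range, Scheme.Opens.range_ι, Set.inter_comm]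
    rwa [h3] at h2
  obtain ⟨K, hK⟩ := exists_good_univ (H := H) (V := V) (U := U) hV hW hU (topFam H)
    (fun _ _ _ _ _ _ => Submodule.mem_top) (fun T hT _ => locAt_topFam hT)
    (fun T hT hTU => by
      have := hH T hT hTU
      exact Module.Finite.fg_top)
  obtain ⟨G', ψ, hm, hq, hft, hiso⟩ := exists_sub_of_good V hV hcov U K hK
  have := hm
  have : IsIso ((Scheme.Modules.restrictFunctor U.ι).map ψ) := by
    rw [isIso_restrict_iff, Scheme.Opens.opensRange_ι]; exact hiso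
  refine ⟨G', ψ ≫ ψ₀, asIso ((Scheme.Modules.restrictFunctor U.ι).map ψ) ≪≫ e₀, mono_comp _ _, hq, hft, ?_⟩
  rw [Iso.trans_hom, Category.assoc, hcompat, asIso_hom, ← Functor.map_comp]

end Final

end Groth.Agent.R2.H21.ExtendWO
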