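import Mathlib
import Groth.Agent.R2.H21ExtendWO

/-!
# Extension of finite type quasi-coherent submodules on schemes with locally Noetherian underlying space (helper21)

* `isCompact_of_subset` : subsets of quasi-compact sets are quasi-compact
* `quasiCompact_ι` : open immersions of open subschemes are quasi-compact
* `exists_extension_ln` : EGA I 9.4.8 a)
* `exists_sub_through_section` : every section over an affine open lies in a quasi-coherent submodule of finite type
-/

set_option autoImplicit false
universe u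
open CategoryTheory Limits AlgebraicGeometry TopologicalSpace Opposite

namespace Groth.Agent.R2.H21.ExtendLN

open Groth.Agent.Lib.Helper23.QCohLocal Groth.Agent.Lib.Helper2.Push Groth.Agent.Lib.Helper2.QCoh
  Groth.Agent.Lib.Helper23.FinType Groth.Agent.Lib.Helper23.ModLocal Groth.Agent.Lib.Helper23.Extend
  Groth.Agent.R2.H21.SubSheaf Groth.Agent.R2.H21.ExtendWO

variable {X : Scheme.{u}}

/-- the underlying space is locally Noetherian (in the form of the frozen statements) -/
def LocNoeth (X : Scheme.{u}) : Prop :=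
  ∀ x : X, ∃ U : X.Opens, x ∈ U ∧ TopologicalSpace.NoetherianSpace (U : Set X)

theorem isCompact_of_subset (hX : LocNoeth X) {K S : Set X} (hK : IsCompact K) (hS : S ⊆ K) : IsCompact S := by
  choose N hxN hN using hX
  obtain ⟨t, ht⟩ := hK.elim_finite_subcover (fun x : X => (N x : Set X)) (fun x => (N x).isOpen)
    (fun x _ => Set.mem_iUnion.2 ⟨x, hxN x⟩)
  have h1 : S = ⋃ x ∈ t, (S ∩ (N x : Set X)) := by
    ext y
    constructor
    · intro hy
      obtain ⟨x, hx⟩ := Set.mem_iUnion.1 (ht (hS hy))
      obtain ⟨hxt, hyx⟩ := Set.mem_iUnion.1 hx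
      exact Set.mem_iUnion.2 ⟨x, Set.mem_iUnion.2 ⟨hxt, hy, hyx⟩⟩
    · intro hy
      obtain ⟨x, hx⟩ := Set.mem_iUnion.1 hy
      obtain ⟨-, hyx⟩ := Set.mem_iUnion.1 hx
      exact hyx.1
  rw [h1]
  exact t.isCompact_biUnion
    (fun x _ => (TopologicalSpace.noetherianSpace_set_iff _).1 (hN x) _ Set.inter_subset_right)

theorem quasiCompact_ι (hX : LocNoeth X) (U : X.Opens) : QuasiCompact U.ι := by
  refine ⟨fun W hW hWc => ?_⟩
  rw [U.ι.isOpenEmbedding.isInducing.isCompact_iff]
  refine isCompact_of_subset hX hWc ?_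
  rintro _ ⟨y, hy, rfl⟩
  exact hy

/-- **EGA I 9.4.8 a)**: extension of quasi-coherent submodules of finite type on a scheme with locally Noetherian
underlying space. -/
theorem exists_extension_ln (hX : LocNoeth X) (U : X.Opens) (F : X.Modules) [F.IsQuasicoherent]
    (G : (U : Scheme.{u}).Modules) (i : G ⟶ F.restrict U.ι) [Mono i]
    [G.IsQuasicoherent] [SheafOfModules.IsFiniteType (R := (U : Scheme.{u}).ringCatSheaf) G] :
    ∃ (G' : X.Modules) (i' : G' ⟶ F) (e : G'.restrict U.ι ≅ G), Mono i' ∧ G'.IsQuasicoherent ∧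
      SheafOfModules.IsFiniteType (R := X.ringCatSheaf) G' ∧
      e.hom ≫ i = (Scheme.Modules.restrictFunctor U.ι).map i' := by
  have := quasiCompact_ι hX U
  obtain ⟨_, hwf⟩ := exists_wellFoundedLT (α := X.affineOpens)
  exact exists_extension_wo (fun l : X.affineOpens => (l : X.Opens)) (fun l => l.2) (iSup_affineOpens_eq_top X)
    (fun l => isCompact_of_subset hX l.2.isCompact Set.inter_subset_left) U F G i

/-- **EGA I 9.4.8 a), absolute form**: every quasi-coherent module of finite type on an open subscheme extends. -/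
theorem exists_extension_ln' (hX : LocNoeth X) (U : X.Opens)
    (G : (U : Scheme.{u}).Modules) [G.IsQuasicoherent]
    [SheafOfModules.IsFiniteType (R := (U : Scheme.{u}).ringCatSheaf) G] :
    ∃ (G' : X.Modules), G'.IsQuasicoherent ∧ SheafOfModules.IsFiniteType (R := X.ringCatSheaf) G' ∧
      Nonempty (G'.restrict U.ι ≅ G) := by
  have := quasiCompact_ι hX U
  let adj := Scheme.Modules.restrictAdjunction U.ι
  have : ((Scheme.Modules.pushforward U.ι).obj G).IsQuasicoherent := isQuasicoherent_pushforward U.ι G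
  have : IsIso (adj.counit.app G) := inferInstance
  let i : G ⟶ ((Scheme.Modules.pushforward U.ι).obj G).restrict U.ι := inv (adj.counit.app G)
  obtain ⟨G', i', e, -, hq, hft, -⟩ := exists_extension_ln hX U ((Scheme.Modules.pushforward U.ι).obj G) G i
  exact ⟨G', hq, hft, ⟨e⟩⟩

/-- every section of a quasi-coherent module over an affine open lies in a quasi-coherent submodule of finite type -/
theorem exists_sub_through_section (hX : LocNoeth X) (F : X.Modules) [F.IsQuasicoherent] {U : X.Opens}
    (hU : IsAffineOpen U) (s : Γ(F, U)) :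
    ∃ (G' : X.Modules) (i' : G' ⟶ F), Mono i' ∧ G'.IsQuasicoherent ∧
      SheafOfModules.IsFiniteType (R := X.ringCatSheaf) G' ∧ ∃ g : Γ(G', U), i'.app U g = s := by
  obtain ⟨_, hwf⟩ := exists_wellFoundedLT (α := X.affineOpens)
  have hN : ({s} : Set Γ(F, U)) ⊆ ((topFam F).S U : Set Γ(F, U)) := fun _ _ => Submodule.mem_top
  have hsat0 : Sat (topFam F) ⊥ := fun _ _ _ _ _ _ => Submodule.mem_top
  obtain ⟨K, hK⟩ := exists_good_univ (H := F) (V := fun l : X.affineOpens => (l : X.Opens)) (U := U)
    (fun l => l.2)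
    (fun l => isCompact_of_subset hX l.2.isCompact Set.inter_subset_left)
    (fun l => isCompact_of_subset hX l.2.isCompact Set.inter_subset_right)
    (stepFam (topFam F) U {s})
    ((stepFam_sat (topFam F) U {s} hsat0).mono (by rw [bot_sup_eq]))
    (fun T hT hTU => stepFam_locAt (topFam F) U {s} hN hT hTU)
    (fun T hT hTU => stepFam_fg (topFam F) U {s} (Set.finite_singleton s) hN hT hTU)
  obtain ⟨hq, hft⟩ := toModules_of_good _ (fun l : X.affineOpens => l.2) (iSup_affineOpens_eq_top X) U _ K hK
  refine ⟨K.toModules, K.ι, inferInstance, hq, hft, ?_⟩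
  have hs : s ∈ K.S U := by
    rw [hK.on_U U le_rfl, stepFam_eq_span (topFam F) U {s} hN hU le_rfl]
    exact Submodule.subset_span ⟨s, rfl, res_self _ _ _⟩
  exact K.exists_ι_app_eq U s hs

end Groth.Agent.R2.H21.ExtendLN
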