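import Mathlib
import Groth.Prelude.Def_RelSpec
import Groth.Agent.Lib.Helper18QCAlg1
import Groth.Agent.Lib.Helper23FTsub
import Groth.Agent.R2.H21ExtendLN

/-!
# Finite type submodules generating a quasi-coherent algebra of finite type (helper21)

* `gen B j U` : the subring of `B(U)` generated by the functions and the image of `E(U)` under `j : E ⟶ B`
* `gen_eq_top_of_cover` : if `gen = ⊤` on an affine open cover, then `gen = ⊤` on every affine open
-/

set_option autoImplicit false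
universe u
open CategoryTheory Limits AlgebraicGeometry TopologicalSpace Opposite

namespace Groth.Agent.R2.H21.AlgGen

open Groth.Agent.Lib.Helper23.QCohLocal Groth.Agent.Lib.Helper2.Push Groth.Agent.Lib.Helper2.QCoh
  Groth.Agent.Lib.Helper23.FinType Groth.Agent.Lib.Helper23.ModLocal Groth.Agent.Lib.Helper23.Extend
  Groth.Agent.R2.H21.ExtendWO Groth.Agent.Helper18QCAlg

variable {X : Scheme.{u}} (B : RelSpec.QCAlg X) {E : X.Modules} (j : E ⟶ B.toModule)

/-- restriction of sections of `B` -/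
noncomputable def bres {U V : X.Opens} (h : V ≤ U) : B.presheaf.obj (op U) →+* B.presheaf.obj (op V) :=
  (B.presheaf.map (homOfLE h).op).hom

/-- the structure map on sections -/
noncomputable def bstr (U : X.Opens) : Γ(X, U) →+* B.presheaf.obj (op U) := (B.str.app (op U)).hom

/-- the map `j` on sections, with values in the ring of sections -/
noncomputable def jmap (U : X.Opens) (e : Γ(E, U)) : B.presheaf.obj (op U) :=
  (show Γ(B.toModule, U) from (ConcreteCategory.hom (j.app U)) e)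

theorem bres_bstr {U V : X.Opens} (h : V ≤ U) (r : Γ(X, U)) :
    bres B h (bstr B U r) = bstr B V (rres h r) := str_res_apply' B h r

theorem bres_jmap {U V : X.Opens} (h : V ≤ U) (e : Γ(E, U)) :
    bres B h (jmap B j U e) = jmap B j V (res E h e) := (app_map j (homOfLE h) e).symm

theorem jmap_smul {U : X.Opens} (r : Γ(X, U)) (e : Γ(E, U)) :
    jmap B j U (r • e) = bstr B U r * jmap B j U e := Scheme.Modules.Hom.app_smul j r e

theorem jmap_add {U : X.Opens} (e e' : Γ(E, U)) :
    jmap B j U (e + e') = jmap B j U e + jmap B j U e' := (j.app U).hom.map_add e e'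

/-- the subring generated by the functions and the image of `E` -/
noncomputable def gen (U : X.Opens) : Subring (B.presheaf.obj (op U)) :=
  Subring.closure (Set.range (bstr B U) ∪ Set.range (jmap B j U))

theorem bstr_mem_gen (U : X.Opens) (r : Γ(X, U)) : bstr B U r ∈ gen B j U :=
  Subring.subset_closure (Or.inl ⟨r, rfl⟩)

theorem jmap_mem_gen (U : X.Opens) (e : Γ(E, U)) : jmap B j U e ∈ gen B j U :=
  Subring.subset_closure (Or.inr ⟨e, rfl⟩)

theorem bres_mem_gen {U V : X.Opens} (h : V ≤ U) {b : B.presheaf.obj (op U)} (hb : b ∈ gen B j U) :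
    bres B h b ∈ gen B j V := by
  have h1 : (gen B j U).map (bres B h) ≤ gen B j V := by
    unfold gen
    rw [RingHom.map_closure, Subring.closure_le]
    rintro _ ⟨y, hy | hy, rfl⟩
    · obtain ⟨r, rfl⟩ := hy
      rw [bres_bstr]; exact bstr_mem_gen B j V _
    · obtain ⟨e, rfl⟩ := hy
      rw [bres_jmap]; exact jmap_mem_gen B j V _
  exact h1 ⟨b, hb, rfl⟩

/-- generation passes to basic opens -/
theorem gen_basicOpen_eq_top {U : X.Opens} (hU : IsAffineOpen U) (f : Γ(X, U)) (h : gen B j U = ⊤) :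
    gen B j (X.basicOpen f) = ⊤ := by
  rw [eq_top_iff]
  intro z _
  obtain ⟨n, t, ht⟩ := exists_extension_aux B hU f z
  have ht' : bres B (X.basicOpen_le f) t = bstr B _ ((rres (X.basicOpen_le f) f) ^ n) * z := ht
  obtain ⟨u, hu⟩ := (isUnit_rres f _ rfl (X.basicOpen_le f)).pow n
  have hz : z = bstr B _ (↑u⁻¹ : Γ(X, X.basicOpen f)) * bres B (X.basicOpen_le f) t := by
    rw [ht', ← mul_assoc, ← map_mul, ← hu, Units.inv_mul, map_one, one_mul]
  rw [hz]
  exact mul_mem (bstr_mem_gen B j _ _) (bres_mem_gen B j _ (h ▸ Subring.mem_top t))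

/-- every generated section over the basic open `D(f)` of the affine open `U` lifts, up to a power of `f`, to a generated
section over `U` -/
theorem exists_lift_of_mem_gen [E.IsQuasicoherent] {U : X.Opens} (hU : IsAffineOpen U) (f : Γ(X, U))
    (z : B.presheaf.obj (op (X.basicOpen f))) (hz : z ∈ gen B j (X.basicOpen f)) :
    ∃ (n : ℕ) (a : B.presheaf.obj (op U)), a ∈ gen B j U ∧
      bres B (X.basicOpen_le f) a = bstr B _ ((rres (X.basicOpen_le f) f) ^ n) * z := by
  have hle : X.basicOpen f ≤ U := X.basicOpen_le f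
  induction hz using Subring.closure_induction with
  | mem z hz =>
    rcases hz with ⟨r, rfl⟩ | ⟨e, rfl⟩
    · have hloc := hU.isLocalization_basicOpen f
      obtain ⟨k, r', hr⟩ := IsLocalization.Away.surj (x := f) r
      have hr' : r * (rres hle f) ^ k = rres hle r' := hr
      refine ⟨k, bstr B U r', bstr_mem_gen B j U r', ?_⟩
      rw [bres_bstr, ← hr', map_mul, mul_comm]
    · obtain ⟨k, e', he'⟩ := (IsLocOn.of_isQuasicoherent hU E).exists_extension f e
      have he'' : res E hle e' = (rres hle f) ^ k • e := he'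
      refine ⟨k, jmap B j U e', jmap_mem_gen B j U e', ?_⟩
      rw [bres_jmap, he'', jmap_smul]
  | zero => exact ⟨0, 0, zero_mem _, by simp⟩
  | one => exact ⟨0, 1, one_mem _, by simp⟩
  | add z₁ z₂ _ _ h₁ h₂ =>
    obtain ⟨n₁, a₁, ha₁, e₁⟩ := h₁
    obtain ⟨n₂, a₂, ha₂, e₂⟩ := h₂
    refine ⟨n₁ + n₂, bstr B U (f ^ n₂) * a₁ + bstr B U (f ^ n₁) * a₂,
      add_mem (mul_mem (bstr_mem_gen B j U _) ha₁) (mul_mem (bstr_mem_gen B j U _) ha₂), ?_⟩
    rw [map_add, map_mul, map_mul, bres_bstr, bres_bstr, e₁, e₂]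
    simp only [map_pow, map_mul, pow_add]
    ring
  | neg z _ h₁ =>
    obtain ⟨n₁, a₁, ha₁, e₁⟩ := h₁
    exact ⟨n₁, -a₁, neg_mem ha₁, by rw [map_neg, e₁, mul_neg]⟩
  | mul z₁ z₂ _ _ h₁ h₂ =>
    obtain ⟨n₁, a₁, ha₁, e₁⟩ := h₁
    obtain ⟨n₂, a₂, ha₂, e₂⟩ := h₂
    refine ⟨n₁ + n₂, a₁ * a₂, mul_mem ha₁ ha₂, ?_⟩
    rw [map_mul, e₁, e₂]
    simp only [map_pow, map_mul, pow_add]
    ring

/-- a section over the affine open `U` whose restriction to `D(f)` is generated is generated up to a power of `f` -/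
theorem exists_pow_mul_mem_gen' [E.IsQuasicoherent] {U : X.Opens} (hU : IsAffineOpen U) (f : Γ(X, U))
    (b : B.presheaf.obj (op U)) (hb : bres B (X.basicOpen_le f) b ∈ gen B j (X.basicOpen f)) :
    ∃ n : ℕ, bstr B U (f ^ n) * b ∈ gen B j U := by
  have hle : X.basicOpen f ≤ U := X.basicOpen_le f
  obtain ⟨n, a, ha, e⟩ := exists_lift_of_mem_gen B j hU f (bres B hle b) hb
  have h0 : bres B hle (a - bstr B U (f ^ n) * b) = 0 := by
    rw [map_sub, map_mul, bres_bstr, e]
    simp only [map_pow, sub_self]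
  obtain ⟨m, hm⟩ := exists_pow_aux B hU f (a - bstr B U (f ^ n) * b) h0
  have hm' : bstr B U (f ^ m) * (a - bstr B U (f ^ n) * b) = 0 := hm
  refine ⟨m + n, ?_⟩
  have h1 : bstr B U (f ^ (m + n)) * b = bstr B U (f ^ m) * a := by
    rw [mul_sub, sub_eq_zero] at hm'
    rw [hm', pow_add, map_mul, mul_assoc]
  rw [h1]
  exact mul_mem (bstr_mem_gen B j U _) ha

/-- if the basic open `D(f)` of the affine open `U` is generated, every section over `U` is generated up to a power
of `f` -/
theorem exists_pow_mul_mem_gen [E.IsQuasicoherent] {U : X.Opens} (hU : IsAffineOpen U) (f : Γ(X, U))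
    (h : gen B j (X.basicOpen f) = ⊤) (b : B.presheaf.obj (op U)) :
    ∃ n : ℕ, bstr B U (f ^ n) * b ∈ gen B j U :=
  exists_pow_mul_mem_gen' B j hU f b (h ▸ Subring.mem_top _)

/-- a section over an affine open which is generated on a cover by basic opens is generated -/
theorem mem_gen_of_span [E.IsQuasicoherent] {U : X.Opens} (hU : IsAffineOpen U) (S₀ : Set Γ(X, U))
    (hS₀ : Ideal.span S₀ = ⊤) (b : B.presheaf.obj (op U))
    (h : ∀ f ∈ S₀, bres B (X.basicOpen_le f) b ∈ gen B j (X.basicOpen f)) : b ∈ gen B j U := by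
  let _ : Module Γ(X, U) (B.presheaf.obj (op U)) := Module.compHom _ (bstr B U)
  let M' : Submodule Γ(X, U) (B.presheaf.obj (op U)) :=
    { carrier := (gen B j U : Set (B.presheaf.obj (op U)))
      add_mem' := fun ha hb => add_mem ha hb
      zero_mem' := zero_mem _
      smul_mem' := fun r b hb => mul_mem (bstr_mem_gen B j U r) hb }
  have hb : b ∈ M' := by
    refine Submodule.mem_of_span_eq_top_of_smul_pow_mem M' S₀ hS₀ b (fun f => ?_)
    obtain ⟨n, hn⟩ := exists_pow_mul_mem_gen' B j hU f.1 b (h f.1 f.2)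
    exact ⟨n, hn⟩
  exact hb

/-- generation on an affine open can be checked on a cover by basic opens -/
theorem gen_eq_top_of_span [E.IsQuasicoherent] {U : X.Opens} (hU : IsAffineOpen U) (S₀ : Set Γ(X, U))
    (hS₀ : Ideal.span S₀ = ⊤) (h : ∀ f ∈ S₀, gen B j (X.basicOpen f) = ⊤) : gen B j U = ⊤ := by
  rw [eq_top_iff]
  intro b _
  exact mem_gen_of_span B j hU S₀ hS₀ b (fun f hf => (h f hf) ▸ Subring.mem_top _)

/-- **generation is local**: if the algebra is generated by `E` on an affine open cover, it is on every affine open -/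
theorem gen_eq_top_of_cover [E.IsQuasicoherent] (𝒰 : Set X.Opens) (h𝒰a : ∀ V ∈ 𝒰, IsAffineOpen V)
    (hcov : ∀ x : X, ∃ V ∈ 𝒰, x ∈ V) (h : ∀ V ∈ 𝒰, gen B j V = ⊤) {U : X.Opens} (hU : IsAffineOpen U) :
    gen B j U = ⊤ := by
  refine gen_eq_top_of_span B j hU {f | gen B j (X.basicOpen f) = ⊤} ?_ (fun f hf => hf)
  rw [← hU.self_le_iSup_basicOpen_iff]
  intro x hx
  obtain ⟨V, hV, hxV⟩ := hcov x
  obtain ⟨f, g, hfg, hxf⟩ := exists_basicOpen_le_affine_inter hU (h𝒰a V hV) x ⟨hx, hxV⟩
  refine Opens.mem_iSup.2 ⟨⟨f, ?_⟩, hxf⟩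
  change gen B j (X.basicOpen f) = ⊤
  rw [hfg]
  exact gen_basicOpen_eq_top B j (h𝒰a V hV) g (h V hV)

section Main

open Groth.Agent.Lib.Helper23.FTsub

/-- the "every section over an affine open lies in a quasi-coherent submodule of finite type" property -/
def ThroughSection (K : X.Modules) : Prop :=
  ∀ (U : X.affineOpens) (s : Γ(K, U.1)), ∃ (G : X.Modules) (i : G ⟶ K), Mono i ∧ G.IsQuasicoherent ∧
    SheafOfModules.IsFiniteType (R := X.ringCatSheaf) G ∧ ∃ g : Γ(G, U.1), i.app U.1 g = s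

theorem throughSection_of_qcqs [CompactSpace X] [QuasiSeparatedSpace X] (K : X.Modules) [K.IsQuasicoherent] :
    ThroughSection K := fun U s => Groth.Agent.S9819.result K U s

theorem throughSection_of_locNoeth (hX : Groth.Agent.R2.H21.ExtendLN.LocNoeth X) (K : X.Modules)
    [K.IsQuasicoherent] : ThroughSection K :=
  fun U s => Groth.Agent.R2.H21.ExtendLN.exists_sub_through_section hX K U.2 s

/-- finitely many sections over affine opens lie in a quasi-coherent submodule of finite type -/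
theorem exists_ft_sub_list' (K : X.Modules) [K.IsQuasicoherent] (hts : ThroughSection K)
    (l : List (Σ U : X.affineOpens, Γ(K, U.1))) :
    ∃ (K' : X.Modules) (i : K' ⟶ K), Mono i ∧ K'.IsQuasicoherent ∧
      SheafOfModules.IsFiniteType (R := X.ringCatSheaf) K' ∧
      ∀ p ∈ l, ∃ g : Γ(K', p.1.1), i.app p.1.1 g = p.2 := by
  induction l with
  | nil =>
    obtain ⟨G, i, hi, hq, hf, -⟩ := hts ⟨⊥, isAffineOpen_bot X⟩ 0
    exact ⟨G, i, hi, hq, hf, fun p hp => absurd hp (List.not_mem_nil)⟩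
  | cons a l ih =>
    obtain ⟨K₁, i₁, hi₁, hq₁, hf₁, h₁⟩ := ih
    obtain ⟨K₂, i₂, hi₂, hq₂, hf₂, g₂, hg₂⟩ := hts a.1 a.2
    have : K₁.IsQuasicoherent := hq₁
    have : K₂.IsQuasicoherent := hq₂
    have : SheafOfModules.IsFiniteType (R := X.ringCatSheaf) K₁ := hf₁
    have : SheafOfModules.IsFiniteType (R := X.ringCatSheaf) K₂ := hf₂
    obtain ⟨C, c, ia, ib, hc, hCq, hCf, hac, hbc⟩ := exists_sup_sub K K₁ K₂ i₁ i₂
    refine ⟨C, c, hc, hCq, hCf, ?_⟩
    intro p hp
    rcases List.mem_cons.1 hp with rfl | hp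
    · refine ⟨ib.app _ g₂, ?_⟩
      rw [← hg₂, ← hbc]
      rfl
    · obtain ⟨g, hg⟩ := h₁ _ hp
      refine ⟨ia.app _ g, ?_⟩
      rw [← hg, ← hac]
      rfl

/-- **a finite type quasi-coherent submodule generating a quasi-coherent algebra of finite type** -/
theorem exists_generating_sub [CompactSpace X] (hts : ThroughSection B.toModule)
    (hB : ∀ U : X.affineOpens, (B.str.app (op (U : X.Opens))).hom.FiniteType) :
    ∃ (E : X.Modules) (j : E ⟶ B.toModule), Mono j ∧ E.IsQuasicoherent ∧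
      SheafOfModules.IsFiniteType (R := X.ringCatSheaf) E ∧
      ∀ U : X.Opens, IsAffineOpen U → gen B j U = ⊤ := by
  classical
  obtain ⟨t, ht⟩ := isCompact_univ.elim_finite_subcover (fun U : X.affineOpens => ((U : X.Opens) : Set X))
    (fun U => (U : X.Opens).isOpen) (by
      intro x _
      have hx : x ∈ (⊤ : X.Opens) := trivial
      rw [← iSup_affineOpens_eq_top X] at hx
      obtain ⟨U, hU⟩ := Opens.mem_iSup.1 hx
      exact Set.mem_iUnion.2 ⟨U, hU⟩)
  have hgen : ∀ U : X.affineOpens, ∃ s : Finset (B.presheaf.obj (op (U : X.Opens))),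
      Subring.closure (Set.range (bstr B U.1) ∪ (s : Set (B.presheaf.obj (op (U : X.Opens))))) = ⊤ := by
    intro U
    let _ := (B.str.app (op (U : X.Opens))).hom.toAlgebra
    have h1 : Algebra.FiniteType Γ(X, U.1) (B.presheaf.obj (op (U : X.Opens))) := hB U
    obtain ⟨s, hs⟩ := h1.out
    refine ⟨s, ?_⟩
    have h2 := Algebra.adjoin_eq_ring_closure (R := Γ(X, U.1)) (s : Set (B.presheaf.obj (op (U : X.Opens))))
    rw [hs] at h2
    exact h2.symm
  choose s hs using hgen
  let l : List (Σ U : X.affineOpens, Γ(B.toModule, U.1)) :=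
    (t.sigma (fun U => s U)).toList.map (fun p => ⟨p.1, (show Γ(B.toModule, p.1.1) from p.2)⟩)
  obtain ⟨E, j, hj, hq, hf, hl⟩ := exists_ft_sub_list' B.toModule hts l
  have := hq
  refine ⟨E, j, hj, hq, hf, fun U hU => ?_⟩
  refine gen_eq_top_of_cover B j {V | ∃ W ∈ t, (W : X.Opens) = V} ?_ ?_ ?_ hU
  · rintro V ⟨W, -, rfl⟩; exact W.2
  · intro x
    obtain ⟨W, hW⟩ := Set.mem_iUnion.1 (ht (Set.mem_univ x))
    obtain ⟨hWt, hxW⟩ := Set.mem_iUnion.1 hW
    exact ⟨W, ⟨W, hWt, rfl⟩, hxW⟩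
  · rintro V ⟨W, hWt, rfl⟩
    rw [eq_top_iff, ← hs W]
    unfold gen
    rw [Subring.closure_le]
    rintro y (hy | hy)
    · exact Subring.subset_closure (Or.inl hy)
    · have hmem : (⟨W, (show Γ(B.toModule, W.1) from y)⟩ : Σ U : X.affineOpens, Γ(B.toModule, U.1)) ∈ l := by
        refine List.mem_map.2 ⟨⟨W, y⟩, ?_, rfl⟩
        rw [Finset.mem_toList, Finset.mem_sigma]
        exact ⟨hWt, hy⟩
      obtain ⟨g, hg⟩ := hl _ hmem
      exact Subring.subset_closure (Or.inr ⟨g, hg⟩)

end Main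

end Groth.Agent.R2.H21.AlgGen
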