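import Mathlib
import Groth.Prelude.Def_RelSpec
import Groth.Agent.Lib.Helper10QAffRelSpec
import Groth.Agent.Lib.Helper13SymAlg
import Groth.Agent.Lib.Helper13RelSpecLocal
import Groth.Agent.R2.H21AlgGen

/-!
# Affine morphisms of finite type embed into vector bundles (helper21)

* `isIso_can` : for an affine morphism `f`, the canonical morphism `X ⟶ Spec (f_* O_X)` is an isomorphism
* `isClosedImmersion_specMap_of_gen` : a morphism of quasi-coherent algebras whose target is generated by the image of a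
  module through which it factors induces a closed immersion of relative spectra
* `exists_closedImmersion_vectorBundle` : EGA II 1.7.? (X affine of finite type over Y is a closed subscheme of V(E))
-/

set_option autoImplicit false
universe u
open CategoryTheory Limits AlgebraicGeometry TopologicalSpace Opposite

namespace Groth.Agent.R2.H21.AffVB

open Groth.Agent.Lib.Helper10.QAffRelSpec Groth.Agent.R2.H21.AlgGen Groth.Agent.Helper13RelSpecLocal

section Can

variable {X S : Scheme.{u}} (f : X ⟶ S) [IsAffineHom f]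

theorem isIso_can : IsIso (can f) := by
  have hiso : IsIso (RelSpec.QCAlg.directImage f).gammaMap :=
    Groth.Agent.S8255.result (RelSpec.QCAlg.directImage f)
  have key : ∀ U : S.affineOpens, IsOpenImmersion ((f ⁻¹ᵁ U.1).ι ≫ can f) ∧
      Set.range ((f ⁻¹ᵁ U.1).ι ≫ can f) =
        (((RelSpec.QCAlg.directImage f).π ⁻¹ᵁ U.1 : (RelSpec.QCAlg.directImage f).spec.Opens) :
          Set (RelSpec.QCAlg.directImage f).spec) := by
    intro U
    rw [ι_can f U.1 U.2]
    have h0 : IsAffine (f ⁻¹ᵁ U.1).toScheme := U.2.preimage f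
    have h1 : IsIso (f ⁻¹ᵁ U.1).toSpecΓ := by
      delta Scheme.Opens.toSpecΓ
      have : IsIso (f ⁻¹ᵁ U.1).toScheme.toSpecΓ := IsAffine.affine
      infer_instance
    have h2 : IsIso ((RelSpec.QCAlg.directImage f).gammaMap.app (op U.1)) :=
      @NatIso.isIso_app_of_isIso _ _ _ _ _ _ _ hiso (op U.1)
    have h3 : IsIso (Spec.map ((RelSpec.QCAlg.directImage f).gammaMap.app (op U.1))) := inferInstance
    have hg : IsIso ((f ⁻¹ᵁ U.1).toSpecΓ ≫
        Spec.map ((RelSpec.QCAlg.directImage f).gammaMap.app (op U.1))) :=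
      @IsIso.comp_isIso _ _ _ _ _ _ _ h1 h3
    have h4 : IsOpenImmersion (U.2.preimage (RelSpec.QCAlg.directImage f).π).fromSpec := inferInstance
    rw [← Category.assoc]
    constructor
    · exact MorphismProperty.comp_mem (W := @IsOpenImmersion) _ _ inferInstance h4
    · rw [Scheme.Hom.comp_base, TopCat.coe_comp, Set.range_comp]
      have hs : Set.range ((f ⁻¹ᵁ U.1).toSpecΓ ≫
          Spec.map ((RelSpec.QCAlg.directImage f).gammaMap.app (op U.1))).base = Set.univ :=
        Set.range_eq_univ.2 (Scheme.Hom.homeomorph ((f ⁻¹ᵁ U.1).toSpecΓ ≫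
          Spec.map ((RelSpec.QCAlg.directImage f).gammaMap.app (op U.1)))).surjective
      rw [hs, Set.image_univ]
      exact IsAffineOpen.range_fromSpec _
  have hoi : IsOpenImmersion (can f) :=
    isOpenImmersion_of_local _ (RelSpec.QCAlg.directImage f).π f (can_π f) (fun U => (key U).1)
  have hsurj : Surjective (can f) := by
    refine ⟨fun z => ?_⟩
    have hz : z ∈ (⊤ : (RelSpec.QCAlg.directImage f).spec.Opens) := trivial
    rw [← iSup_preimage_affineOpens (RelSpec.QCAlg.directImage f).π] at hz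
    obtain ⟨U, hzU⟩ := Opens.mem_iSup.1 hz
    have h1 : z ∈ Set.range ((f ⁻¹ᵁ U.1).ι ≫ can f) := by rw [(key U).2]; exact hzU
    obtain ⟨w, hw⟩ := h1
    exact ⟨(f ⁻¹ᵁ U.1).ι w, hw⟩
  exact (isIso_iff_isOpenImmersion_and_surjective _).2 ⟨hoi, hsurj⟩

end Can

section ClosedImm

variable {S : Scheme.{u}} {A B : RelSpec.QCAlg S} (ψ : A ⟶ B) {E : S.Modules}
  (jA : E ⟶ A.toModule) (jB : E ⟶ B.toModule)

theorem surjective_of_gen (h : jA ≫ RelSpec.QCAlg.Hom.toModuleMap ψ = jB) (U : S.Opens)
    (hgen : gen B jB U = ⊤) : Function.Surjective (ψ.hom.app (op U)).hom := by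
  rw [← RingHom.range_eq_top, eq_top_iff, ← hgen]
  unfold gen
  rw [Subring.closure_le]
  rintro y (⟨r, rfl⟩ | ⟨e, rfl⟩)
  · refine ⟨bstr A U r, ?_⟩
    have h0 := NatTrans.congr_app ψ.comm (op U)
    rw [NatTrans.comp_app] at h0
    have h1 := congrArg (fun t => t.hom r) h0
    exact h1
  · refine ⟨jmap A jA U e, ?_⟩
    have h1 := congrArg (fun t => (ConcreteCategory.hom (t.app U)) e) h
    exact h1

theorem isClosedImmersion_specMap_of_gen (h : jA ≫ RelSpec.QCAlg.Hom.toModuleMap ψ = jB)
    (hgen : ∀ U : S.Opens, IsAffineOpen U → gen B jB U = ⊤) :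
    IsClosedImmersion (RelSpec.QCAlg.specMap ψ) := by
  refine specMap_of_target_local ψ @IsClosedImmersion fun U hU => ?_
  exact IsClosedImmersion.spec_of_surjective _ (surjective_of_gen ψ jA jB h U (hgen U hU))

end ClosedImm

section Main

open Groth.Agent.Helper13SymAlg

variable {X Y : Scheme.{u}} (f : X ⟶ Y) [IsAffineHom f] [LocallyOfFiniteType f]

theorem finiteType_directImage (U : Y.affineOpens) :
    ((RelSpec.QCAlg.directImage f).str.app (op (U : Y.Opens))).hom.FiniteType := by
  have h := LocallyOfFiniteType.finiteType_appLE f U.2 (U.2.preimage f) le_rfl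
  rwa [Scheme.Hom.appLE_eq_app] at h

theorem exists_closedImmersion_vectorBundle [CompactSpace Y]
    (hts : ThroughSection (RelSpec.QCAlg.directImage f).toModule) :
    ∃ (E : Y.Modules) (_ : Coh.IsCoh E) (A : RelSpec.QCAlg Y) (j : E ⟶ A.toModule)
      (_ : RelSpec.IsSymAlg E A j) (i : X ⟶ A.spec), IsClosedImmersion i ∧ i ≫ A.π = f := by
  obtain ⟨E, jB, -, hq, hf, hgen⟩ :=
    exists_generating_sub (RelSpec.QCAlg.directImage f) hts (finiteType_directImage f)
  have := hq
  obtain ⟨ψ, hψ, -⟩ := isSymAlg E (RelSpec.QCAlg.directImage f) jB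
  have hci : IsClosedImmersion (RelSpec.QCAlg.specMap ψ) :=
    isClosedImmersion_specMap_of_gen ψ (j E) jB hψ hgen
  have hiso := isIso_can f
  refine ⟨E, ⟨hq, hf⟩, symAlg E, j E, isSymAlg E, can f ≫ RelSpec.QCAlg.specMap ψ, ?_, ?_⟩
  · infer_instance
  · rw [Category.assoc, RelSpec.QCAlg.specMap_π, can_π]

end Main

end Groth.Agent.R2.H21.AffVB
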