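import Mathlib

/-!
# Corepresentability passes to cokernels (helper21)

`T : ModuleCat A ⥤ 𝒞`, `E₁ ⟶ E₀ ⟶ G ⟶ 0` exact in `𝒞`, and `M ↦ Hom(E_i, T M)` corepresented by `Q_i`
(as abelian-group valued functors).  Then `M ↦ Hom(G, T M)` is corepresented by the cokernel of the
induced map `Q₁ ⟶ Q₀`.
-/

set_option autoImplicit false
universe u w
open CategoryTheory CategoryTheory.Limits Opposite

namespace Groth.Agent.R2.H21.Corep

variable {A : Type u} [CommRing A] {𝒞 : Type w} [Category.{u} 𝒞] [Abelian 𝒞]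
  (T : ModuleCat.{u} A ⥤ 𝒞)

/-- `M ↦ Hom(E, T M)` -/
noncomputable abbrev K (E : 𝒞) : ModuleCat.{u} A ⥤ AddCommGrpCat.{u} :=
  T ⋙ preadditiveCoyoneda.obj (op E)

/-- `M ↦ Hom_A(Q, M)` as abelian groups -/
noncomputable abbrev L (Q : ModuleCat.{u} A) : ModuleCat.{u} A ⥤ AddCommGrpCat.{u} :=
  (linearCoyoneda A (ModuleCat.{u} A)).obj (op Q) ⋙ forget₂ (ModuleCat.{u} A) AddCommGrpCat.{u}

variable {T}

/-- the components of an isomorphism `K T E ≅ L Q` as additive equivalences -/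
noncomputable def comp {E : 𝒞} {Q : ModuleCat.{u} A} (α : K T E ≅ L Q) (M : ModuleCat.{u} A) :
    (E ⟶ T.obj M) ≃+ (Q ⟶ M) :=
  (α.app M).addCommGroupIsoToAddEquiv

theorem comp_naturality {E : 𝒞} {Q : ModuleCat.{u} A} (α : K T E ≅ L Q) {M M' : ModuleCat.{u} A}
    (f : M ⟶ M') (x : E ⟶ T.obj M) : comp α M' (x ≫ T.map f) = comp α M x ≫ f :=
  ConcreteCategory.congr_hom (α.hom.naturality f) x

theorem comp_symm_naturality {E : 𝒞} {Q : ModuleCat.{u} A} (α : K T E ≅ L Q) {M M' : ModuleCat.{u} A}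
    (f : M ⟶ M') (y : Q ⟶ M) : (comp α M').symm (y ≫ f) = (comp α M).symm y ≫ T.map f := by
  apply (comp α M').injective
  rw [AddEquiv.apply_symm_apply, comp_naturality, AddEquiv.apply_symm_apply]

section Main

variable {E₁ E₀ G : 𝒞} (v : E₁ ⟶ E₀) (π : E₀ ⟶ G) [Epi π] (w : v ≫ π = 0)
  (hex : (ShortComplex.mk v π w).Exact) {Q₀ Q₁ : ModuleCat.{u} A}
  (α₀ : K T E₀ ≅ L Q₀) (α₁ : K T E₁ ≅ L Q₁)

/-- the transported map `Hom(Q₀, M) → Hom(Q₁, M)` -/
noncomputable def θ (M : ModuleCat.{u} A) (φ : Q₀ ⟶ M) : Q₁ ⟶ M :=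
  comp α₁ M (v ≫ (comp α₀ M).symm φ)

theorem θ_naturality {M M' : ModuleCat.{u} A} (f : M ⟶ M') (φ : Q₀ ⟶ M) :
    θ v α₀ α₁ M' (φ ≫ f) = θ v α₀ α₁ M φ ≫ f := by
  unfold θ
  rw [comp_symm_naturality, ← Category.assoc, comp_naturality]

/-- the map `Q₁ ⟶ Q₀` inducing `θ` -/
noncomputable def q : Q₁ ⟶ Q₀ := θ v α₀ α₁ Q₀ (𝟙 Q₀)

theorem θ_eq (M : ModuleCat.{u} A) (φ : Q₀ ⟶ M) : θ v α₀ α₁ M φ = q v α₀ α₁ ≫ φ := by
  have h := θ_naturality v α₀ α₁ φ (𝟙 Q₀)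
  rw [Category.id_comp] at h
  exact h

theorem q_comp (M : ModuleCat.{u} A) (x : E₀ ⟶ T.obj M) :
    q v α₀ α₁ ≫ comp α₀ M x = comp α₁ M (v ≫ x) := by
  rw [← θ_eq]
  unfold θ
  rw [AddEquiv.symm_apply_apply]

omit [Epi π] in
include w in
theorem q_comp_of_factor (M : ModuleCat.{u} A) (ψ : G ⟶ T.obj M) :
    q v α₀ α₁ ≫ comp α₀ M (π ≫ ψ) = 0 := by
  rw [q_comp, ← Category.assoc, w, zero_comp, map_zero]

theorem v_comp_of_factor (M : ModuleCat.{u} A) (n : cokernel (q v α₀ α₁) ⟶ M) :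
    v ≫ (comp α₀ M).symm (cokernel.π (q v α₀ α₁) ≫ n) = 0 := by
  apply (comp α₁ M).injective
  rw [← q_comp, AddEquiv.apply_symm_apply, ← Category.assoc, cokernel.condition, zero_comp, map_zero]

/-- `π` is a cokernel of `v` -/
noncomputable def isColimitπ : IsColimit (CokernelCofork.ofπ π w) :=
  hex.gIsCokernel

/-- the component of the isomorphism -/
noncomputable def e (M : ModuleCat.{u} A) : (G ⟶ T.obj M) ≃+ (cokernel (q v α₀ α₁) ⟶ M) where
  toFun ψ := cokernel.desc (q v α₀ α₁) (comp α₀ M (π ≫ ψ)) (q_comp_of_factor v π w α₀ α₁ M ψ)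
  invFun n := (isColimitπ v π w hex).desc (CokernelCofork.ofπ ((comp α₀ M).symm
    (cokernel.π (q v α₀ α₁) ≫ n)) (v_comp_of_factor v α₀ α₁ M n))
  left_inv ψ := by
    rw [← cancel_epi π]
    have h := (isColimitπ v π w hex).fac (CokernelCofork.ofπ ((comp α₀ M).symm
      (cokernel.π (q v α₀ α₁) ≫ cokernel.desc (q v α₀ α₁) (comp α₀ M (π ≫ ψ))
        (q_comp_of_factor v π w α₀ α₁ M ψ))) (v_comp_of_factor v α₀ α₁ M _))
      WalkingParallelPair.one
    refine h.trans ?_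
    change (comp α₀ M).symm (cokernel.π (q v α₀ α₁) ≫ cokernel.desc (q v α₀ α₁) _ _) = π ≫ ψ
    rw [cokernel.π_desc, AddEquiv.symm_apply_apply]
  right_inv n := by
    rw [← cancel_epi (cokernel.π (q v α₀ α₁)), cokernel.π_desc]
    have h := (isColimitπ v π w hex).fac (CokernelCofork.ofπ ((comp α₀ M).symm
      (cokernel.π (q v α₀ α₁) ≫ n)) (v_comp_of_factor v α₀ α₁ M n)) WalkingParallelPair.one
    have h' : π ≫ (isColimitπ v π w hex).desc (CokernelCofork.ofπ ((comp α₀ M).symm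
        (cokernel.π (q v α₀ α₁) ≫ n)) (v_comp_of_factor v α₀ α₁ M n)) =
        (comp α₀ M).symm (cokernel.π (q v α₀ α₁) ≫ n) := h
    rw [h', AddEquiv.apply_symm_apply]
  map_add' ψ ψ' := by
    rw [← cancel_epi (cokernel.π (q v α₀ α₁)), cokernel.π_desc, Preadditive.comp_add, map_add,
      Preadditive.comp_add, cokernel.π_desc, cokernel.π_desc]

theorem e_naturality {M M' : ModuleCat.{u} A} (f : M ⟶ M') (ψ : G ⟶ T.obj M) :
    e v π w hex α₀ α₁ M' (ψ ≫ T.map f) = e v π w hex α₀ α₁ M ψ ≫ f := by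
  rw [← cancel_epi (cokernel.π (q v α₀ α₁))]
  change cokernel.π _ ≫ cokernel.desc _ _ _ = cokernel.π _ ≫ cokernel.desc _ _ _ ≫ f
  rw [cokernel.π_desc, cokernel.π_desc_assoc, ← Category.assoc, comp_naturality]

include v π w hex α₀ α₁ in
/-- **corepresentability passes to cokernels** -/
theorem exists_corep_of_exact :
    ∃ (N : ModuleCat.{u} A) (p : Q₀ ⟶ N), Epi p ∧ Nonempty (K T G ≅ L N) := by
  refine ⟨cokernel (q v α₀ α₁), cokernel.π (q v α₀ α₁), inferInstance, ⟨?_⟩⟩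
  refine NatIso.ofComponents (fun M => (e v π w hex α₀ α₁ M).toAddCommGrpIso) ?_
  intro M M' f
  ext ψ
  exact e_naturality v π w hex α₀ α₁ f ψ

end Main

end Groth.Agent.R2.H21.Corep
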