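import Mathlib
import Groth.Prelude.Def_ModSite
import Groth.Prelude.Def_FlatMod2
import Groth.Prelude.Def_ega3
import Groth.Agent.Lib.Helper21Dual9
import Groth.Agent.Lib.Helper21Dual12
import Groth.Agent.Lib.Helper21ModTensor7
import Groth.Agent.Lib.Helper23SecTw3
import Groth.Agent.Lib.Helper23SecTw6
import Groth.Agent.Lib.Helper23SecTw9
import Groth.Agent.Lib.Helper23Restr
set_option backward.isDefEq.respectTransparency.types false

/-!
# `Hom(E, P) ≃ Γ(X, P ⊗ E^∨)` for a finite locally free module `E` (helper21)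

* `unitHomAddEquiv Q : (O_X ⟶ Q) ≃+ Γ(Q, ⊤)`, natural in `Q`.
* `homDualAddEquiv E hE P : (E ⟶ P) ≃+ Γ(P ⊗ E^∨, ⊤)`, natural in `P`
  (`E^∨ = Groth.Agent.Lib.Helper21.Dual.dual E`).
-/

set_option autoImplicit false
set_option linter.style.haveILetI false
universe u
open CategoryTheory CategoryTheory.Limits AlgebraicGeometry TopologicalSpace Opposite

namespace Groth.Agent.R2.H21.HomDual

open Groth.Agent.Lib.Helper21.ModTensor3 Groth.Agent.Lib.Helper21.ModTensor5
  Groth.Agent.Lib.Helper21.ModTensor6 Groth.Agent.Lib.Helper21.ModTensor7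
  Groth.Agent.Lib.Helper21.Dual Groth.Agent.Lib.Helper23.SecTw Groth.Agent.Lib.Helper6
  Groth.Agent.Lib.Helper23.GenLocus

variable {X : Scheme.{u}}

section UnitHom

/-- `Hom(O_X, Q) ≃+ Γ(X, Q)` -/
noncomputable def unitHomAddEquiv (Q : X.Modules) : (Coh.structureModule X ⟶ Q) ≃+ Γ(Q, ⊤) where
  toFun s := sv s ⊤
  invFun σ := secHom Q σ
  left_inv s := by
    apply Q.unitHomEquiv.injective
    ext U
    have h1 : (Q.unitHomEquiv (secHom Q (sv s ⊤))).val U = sv (secHom Q (sv s ⊤)) U.unop := rfl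
    have h2 : (Q.unitHomEquiv s).val U = sv s U.unop := rfl
    rw [h1, h2, sv_secHom, res_sv]
  right_inv σ := by
    change sv (secHom Q σ) ⊤ = σ
    rw [sv_secHom]
    exact res_self Q σ
  map_add' s t := sv_add s t ⊤

theorem unitHomAddEquiv_naturality {P Q : X.Modules} (φ : P ⟶ Q) (s : Coh.structureModule X ⟶ P) :
    unitHomAddEquiv Q (s ≫ φ) = φ.app ⊤ (unitHomAddEquiv P s) := rfl

end UnitHom

section Dual

variable (E : X.Modules)

/-- `- ⊗ E` on `X.Modules` -/
noncomputable abbrev tRX (E : X.Modules) : X.Modules ⥤ X.Modules := tR X.sheaf E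

/-- the dual `E^∨ = Hom(E, O_X)` of an `O_X`-module -/
noncomputable def dualMod : X.Modules := dual (O := X.sheaf) E

variable (hE : FlatMod.IsFinLocFree E)

/-- `(- ⊗ E) ⊣ (- ⊗ E^∨)` for `E` finite locally free -/
noncomputable def dAdj : tRX E ⊣ tRX (dualMod E) :=
  dualAdj (O := X.sheaf) E (isLocFF_of_isFinLocFree E hE)

/-- `O_X ⊗ E ≅ E` -/
noncomputable def lUnit : (tRX E).obj (Coh.structureModule X) ≅ E :=
  (tLUnitIso X.sheaf).app E

instance : (tRX E).Additive := tR_additive X.sheaf E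

/-- **`Hom(E, P) ≃+ Γ(X, P ⊗ E^∨)`** for `E` finite locally free -/
noncomputable def homDualAddEquiv (P : X.Modules) :
    (E ⟶ P) ≃+ Γ((tRX (dualMod E)).obj P, ⊤) where
  toFun s := unitHomAddEquiv ((tRX (dualMod E)).obj P)
    ((dAdj E hE).homEquiv (Coh.structureModule X) P ((lUnit E).hom ≫ s))
  invFun σ := (lUnit E).inv ≫ ((dAdj E hE).homEquiv (Coh.structureModule X) P).symm
    ((unitHomAddEquiv ((tRX (dualMod E)).obj P)).symm σ)
  left_inv s := by simp
  right_inv σ := by simp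
  map_add' s t := by
    rw [Preadditive.comp_add, ← (dAdj E hE).homAddEquiv_apply, map_add, map_add]
    rfl

theorem homDualAddEquiv_naturality {P P' : X.Modules} (φ : P ⟶ P') (s : E ⟶ P) :
    homDualAddEquiv E hE P' (s ≫ φ) =
      ((tRX (dualMod E)).map φ).app ⊤ (homDualAddEquiv E hE P s) := by
  change unitHomAddEquiv _ ((dAdj E hE).homEquiv _ _ ((lUnit E).hom ≫ s ≫ φ)) =
    ((tRX (dualMod E)).map φ).app ⊤
      (unitHomAddEquiv _ ((dAdj E hE).homEquiv _ _ ((lUnit E).hom ≫ s)))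
  rw [← unitHomAddEquiv_naturality, ← Adjunction.homEquiv_naturality_right, Category.assoc]

end Dual

end Groth.Agent.R2.H21.HomDual
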