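import Mathlib
import Groth.Agent.R2.H21HomDual
import Groth.Agent.Lib.Helper21ExtShLocFree
import Groth.Agent.Lib.Helper21ModTensor6
import Groth.Agent.Lib.Helper1StalkTensorC
import Groth.Agent.Lib.Helper1KBC3
import Groth.Agent.Lib.Helper23TensorQCoh
import Groth.Agent.Lib.Helper2LocFree
import Groth.Agent.R2.H8CbcG8
set_option backward.isDefEq.respectTransparency.types false

/-!
# Duals of finite locally free modules: finiteness, flatness, and `Hom(E, -) ≅ Γ(X, - ⊗ E^∨)` (helper21)

* `isFinLocFree_of_isLocFF`, `isFinLocFree_dualMod`.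
* `isCoh_tensor`, `isFlatOver_tensor`: `F ⊗ D` is coherent / flat over the base for `D` finite locally free.
* `tensorAFunctorTensorIso : tensorAFunctor A F ⋙ (- ⊗ D) ≅ tensorAFunctor A (F ⊗ D)`.
* `homDualIso A E hE : Hom(E, -) ≅ (- ⊗ E^∨) ⋙ Γ(X, -)` as functors to abelian groups.
-/

set_option autoImplicit false
set_option linter.style.haveILetI false
universe u
open CategoryTheory CategoryTheory.Limits AlgebraicGeometry TopologicalSpace Opposite TensorProduct

namespace Groth.Agent.R2.H21.HomDual

open Groth.Agent.Lib.Helper21.ModTensor3 Groth.Agent.Lib.Helper21.ModTensor5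
  Groth.Agent.Lib.Helper21.ModTensor6 Groth.Agent.Lib.Helper21.ModTensor7
  Groth.Agent.Lib.Helper21.Dual Groth.Agent.Lib.Helper21.LocFact

section Algebra

theorem flat_tensor_of_flat (R S M N : Type u) [CommRing R] [CommRing S] [Algebra R S]
    [AddCommGroup M] [Module R M] [Module S M] [IsScalarTower R S M]
    [AddCommGroup N] [Module S N] [Module R N] [IsScalarTower R S N]
    [Module.Flat R M] [Module.Flat S N] : Module.Flat R (N ⊗[S] M) := by
  rw [Module.Flat.iff_lTensor_preserves_injective_linearMap]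
  intro Q Q' _ _ _ _ f hf
  have h1 : Function.Injective (LinearMap.lTensor M f) :=
    Module.Flat.lTensor_preserves_injective_linearMap f hf
  let g : M ⊗[R] Q →ₗ[S] M ⊗[R] Q' := AlgebraTensorModule.lTensor S M f
  have hg : Function.Injective g := h1
  have h2 : Function.Injective (LinearMap.lTensor N g) :=
    Module.Flat.lTensor_preserves_injective_linearMap g hg
  let eQ := AlgebraTensorModule.assoc R S S N M Q
  let eQ' := AlgebraTensorModule.assoc R S S N M Q'
  have hcomm : ∀ x, eQ' (LinearMap.lTensor (N ⊗[S] M) f x) = LinearMap.lTensor N g (eQ x) := by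
    intro x
    induction x using TensorProduct.induction_on with
    | zero => simp
    | add x y hx hy => simp only [map_add, hx, hy]
    | tmul z q =>
      induction z using TensorProduct.induction_on with
      | zero => simp
      | add x y hx hy => simp only [TensorProduct.add_tmul, map_add, hx, hy]
      | tmul n m => rfl
  intro x y hxy
  apply eQ.injective
  apply h2
  rw [← hcomm, ← hcomm, hxy]

/-- `T ≃ M ⊗_S N` with `M` flat over `R` (through `φ : R → S`) and `N` flat over `S`: then `T` is flat over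
`R`. -/
theorem flat_compHom_of_equiv_tensor {R S : Type u} [CommRing R] [CommRing S] (φ : R →+* S)
    (M N T : Type u) [AddCommGroup M] [Module S M] [AddCommGroup N] [Module S N]
    [AddCommGroup T] [Module S T] (e : T ≃ₗ[S] M ⊗[S] N)
    (hM : @Module.Flat R M _ _ (Module.compHom M φ)) (hN : Module.Flat S N) :
    @Module.Flat R T _ _ (Module.compHom T φ) := by
  letI : Algebra R S := φ.toAlgebra
  letI : Module R M := Module.compHom M φ
  letI : Module R N := Module.compHom N φ
  letI : Module R T := Module.compHom T φ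
  haveI : IsScalarTower R S M := ⟨fun r s m => by
    change (φ r * s) • m = φ r • (s • m); rw [mul_smul]⟩
  haveI : IsScalarTower R S N := ⟨fun r s m => by
    change (φ r * s) • m = φ r • (s • m); rw [mul_smul]⟩
  haveI : IsScalarTower R S T := ⟨fun r s m => by
    change (φ r * s) • m = φ r • (s • m); rw [mul_smul]⟩
  haveI : Module.Flat R M := hM
  have h := flat_tensor_of_flat R S M N
  exact Module.Flat.of_linearEquiv ((e.restrictScalars R).trans
    ((TensorProduct.comm S M N).restrictScalars R))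

end Algebra

variable {X : Scheme.{u}}

section LocFF

/-- two finite free structures with equinumerous index types give an isomorphism -/
def ffIso {𝒜 : Type*} [Category 𝒜] [Preadditive 𝒜] {U Q Q' : 𝒜} {I I' : Type} [Fintype I] [Fintype I']
    (ff : FF U Q I) (ff' : FF U Q' I') (e : I ≃ I') : Q ≅ Q' where
  hom := ff.desc (fun i => ff'.ι (e i))
  inv := ff'.desc (fun k => ff.ι (e.symm k))
  hom_inv_id := by
    apply ff.hom_ext
    intro i
    rw [← Category.assoc, ff.ι_desc, ff'.ι_desc, e.symm_apply_apply, Category.comp_id]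
  inv_hom_id := by
    apply ff'.hom_ext
    intro k
    rw [← Category.assoc, ff'.ι_desc, ff.ι_desc, e.apply_symm_apply, Category.comp_id]

/-- a trivialization of `L.over U` gives one of `L|_U` -/
noncomputable def restrictIsoFree (L : X.Modules) (U : X.Opens) (n : ℕ)
    (e : (SheafOfModules.overFunctor X.ringCatSheaf U).obj L ≅
      ∐ fun _ : Fin n => SheafOfModules.unit.{u} (X.ringCatSheaf.over U)) :
    L.restrict U.ι ≅ FlatMod.freeMod (↑U) n := by
  let Φ : SheafOfModules.{u} (X.ringCatSheaf.over U) ⥤ (↑U : Scheme.{u}).Modules :=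
    (Scheme.Modules.overEquiv U).functor
  let i1 : Φ.obj ((SheafOfModules.overFunctor X.ringCatSheaf U).obj L) ≅ L.restrict U.ι :=
    (Scheme.Modules.overFunctorEquiv U).app L
  let i3 : Φ.obj (∐ fun _ : Fin n => SheafOfModules.unit.{u} (X.ringCatSheaf.over U)) ≅
      ∐ fun _ : Fin n => Φ.obj (SheafOfModules.unit.{u} (X.ringCatSheaf.over U)) :=
    PreservesCoproduct.iso Φ _
  let i4 : (∐ fun _ : Fin n => Φ.obj (SheafOfModules.unit.{u} (X.ringCatSheaf.over U))) ≅
      FlatMod.freeMod (↑U) n :=
    Sigma.mapIso (fun _ => Iso.refl _)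
  exact i1.symm ≪≫ Φ.mapIso e ≪≫ i3 ≪≫ i4

theorem isFinLocFree_of_isLocFF (L : X.Modules) (h : IsLocFF (O := X.sheaf) L) :
    FlatMod.IsFinLocFree L := by
  obtain ⟨K, U, hcov, h⟩ := h
  intro x
  have hx := hcov ⊤
  rw [Opens.mem_grothendieckTopology] at hx
  obtain ⟨V, f, ⟨k, ⟨g⟩⟩, hxV⟩ := hx x trivial
  obtain ⟨I, _, ⟨ff⟩⟩ := h k
  refine ⟨U k, Fintype.card I, leOfHom g hxV, ⟨?_⟩⟩
  refine restrictIsoFree L (U k) (Fintype.card I) ?_
  exact ffIso ff (ffSigma (ModSite.unit (X.sheaf.over (U k))) (Fin (Fintype.card I)))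
    (Fintype.equivFin I)

theorem isFinLocFree_dualMod (E : X.Modules) (hE : FlatMod.IsFinLocFree E) :
    FlatMod.IsFinLocFree (dualMod E) :=
  isFinLocFree_of_isLocFF _ (isLocFF_dual (O := X.sheaf) E (isLocFF_of_isFinLocFree E hE))

end LocFF

end Groth.Agent.R2.H21.HomDual

namespace Groth.Agent.R2.H21.HomDual

open Groth.Agent.Lib.Helper21.ModTensor3 Groth.Agent.Lib.Helper21.ModTensor5
  Groth.Agent.Lib.Helper21.ModTensor6 Groth.Agent.Lib.Helper21.ModTensor7
  Groth.Agent.Lib.Helper21.Dual Groth.Agent.Lib.Helper21.LocFact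

variable {X : Scheme.{u}}

section Tensor

theorem isFlat_of_isFinLocFree (D : X.Modules) (hD : FlatMod.IsFinLocFree D) : FlatMod.IsFlat D :=
  (Groth.Agent.Lib.Helper1.StalkTensor.modSite_isFlat_iff D).1
    (isFlat_of_isLocFF (O := X.sheaf) D (isLocFF_of_isFinLocFree D hD))

theorem isFlatOver_tensor {S : Scheme.{u}} (f : X ⟶ S) (F D : X.Modules)
    (hfl : FlatMod.IsFlatOver f F) (hD : FlatMod.IsFinLocFree D) :
    FlatMod.IsFlatOver f ((tRX D).obj F) := by
  intro x
  exact flat_compHom_of_equiv_tensor (f.stalkMap x).hom _ _ _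
    (Groth.Agent.Lib.Helper1.KBC.stalkTensorEquiv x F D) (hfl x) (isFlat_of_isFinLocFree D hD x)

set_option backward.isDefEq.respectTransparency false in
/-- finite locally free modules are coherent (as in helper85's `H85DefAmple`) -/
theorem isCoh_of_isFinLocFree (M : X.Modules) (h : FlatMod.IsFinLocFree M) : Coh.IsCoh M := by
  haveI hfp := Groth.Agent.Lib.Helper2.LocFree.isFP_of_isFinLocFree M h
  refine ⟨{ nonempty_quasicoherentData :=
      ⟨(SheafOfModules.IsFinitePresentation.exists_quasicoherentData (R := X.ringCatSheaf) M).choose⟩ },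
    { exists_localGeneratorsData := ?_ }⟩
  obtain ⟨σ, hσ⟩ := SheafOfModules.IsFinitePresentation.exists_quasicoherentData
    (R := X.ringCatSheaf) M
  haveI := hσ
  exact ⟨σ.localGeneratorsData, inferInstance⟩

theorem isCoh_tensor (F D : X.Modules) (hF : Coh.IsCoh F) (hD : FlatMod.IsFinLocFree D) :
    Coh.IsCoh ((tRX D).obj F) := by
  obtain ⟨hD1, hD2⟩ := isCoh_of_isFinLocFree D hD
  haveI : F.IsQuasicoherent := hF.1
  haveI : D.IsQuasicoherent := hD1
  haveI : SheafOfModules.IsFiniteType (R := X.ringCatSheaf) F := hF.2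
  haveI : SheafOfModules.IsFiniteType (R := X.ringCatSheaf) D := hD2
  exact ⟨Groth.Agent.Lib.Helper23.TensorQCoh.isQuasicoherent_tensorMod F D,
    Groth.Agent.Lib.Helper23.TensorQCoh.isFiniteType_tensorMod F D⟩

end Tensor

section Functors

variable (A : Type u) [CommRing A] [X.Over (Spec (CommRingCat.of A))]

/-- `(F ⊗_A -) ⊗ D ≅ (F ⊗ D) ⊗_A -` -/
noncomputable def tensorAFunctorTensorIso (F D : X.Modules) :
    CohIII.tensorAFunctor A F ⋙ tRX D ≅ CohIII.tensorAFunctor A ((tRX D).obj F) :=
  Functor.isoWhiskerLeft (tilde.functor (CommRingCat.of A) ⋙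
    Scheme.Modules.pullback (X ↘ Spec (CommRingCat.of A))) (tRTensorIso X.sheaf F D)

/-- global sections as an abelian group -/
noncomputable abbrev ΓAb : X.Modules ⥤ AddCommGrpCat.{u} :=
  CohIII.globalSectionsA A (X := X) ⋙ forget₂ (ModuleCat.{u} A) AddCommGrpCat.{u}

/-- **`Hom(E, -) ≅ Γ(X, - ⊗ E^∨)`** as functors to abelian groups -/
noncomputable def homDualIso (E : X.Modules) (hE : FlatMod.IsFinLocFree E) :
    preadditiveCoyoneda.obj (op E) ≅ tRX (dualMod E) ⋙ ΓAb A :=
  NatIso.ofComponents (fun P => (homDualAddEquiv E hE P).toAddCommGrpIso) (fun {P P'} φ => by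
    ext s
    exact homDualAddEquiv_naturality E hE φ s)

end Functors

end Groth.Agent.R2.H21.HomDual
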