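import Mathlib

/-!
# Base change for direct images of modules along restriction to an open subscheme (helper28)
-/

set_option autoImplicit false
universe u
open CategoryTheory AlgebraicGeometry TopologicalSpace Opposite

namespace Groth.Agent.R2.H28.OpenBC

open Scheme.Modules

variable {X Y : Scheme.{u}} (f : X ⟶ Y) (V : Y.Opens)

/-- base change for direct images along restriction to an open subscheme (module level). -/
noncomputable def baseChangeIso :
    pushforward f ⋙ restrictFunctor V.ι ≅
      restrictFunctor (f ⁻¹ᵁ V).ι ⋙ pushforward (f ∣_ V) :=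
  letI := CategoryTheory.Functor.isContinuous_comp.{u} V.ι.opensFunctor (Opens.map f.base)
    (Opens.grothendieckTopology V) (Opens.grothendieckTopology Y) (Opens.grothendieckTopology X)
  letI := CategoryTheory.Functor.isContinuous_comp.{u} (Opens.map (f ∣_ V).base)
    (f ⁻¹ᵁ V).ι.opensFunctor
    (Opens.grothendieckTopology V) (Opens.grothendieckTopology (f ⁻¹ᵁ V : Scheme.{u}))
    (Opens.grothendieckTopology X)
  (SheafOfModules.pushforwardComp _ _) ≪≫
    SheafOfModules.pushforwardCongr₂ _
      (NatIso.ofComponents
        (fun W => eqToIso (image_morphismRestrict_preimage f V W)) (fun _ => rfl))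
      (by
        ext W x
        have key : (V.ι.appIso W.unop).inv ≫ f.app (V.ι ''ᵁ W.unop) ≫
            X.presheaf.map (eqToHom (image_morphismRestrict_preimage f V W.unop)).op =
            (f ∣_ V).app W.unop ≫ ((f ⁻¹ᵁ V).ι.appIso ((f ∣_ V) ⁻¹ᵁ W.unop)).inv := by
          rw [morphismRestrict_app, Scheme.Opens.ι_appIso, Scheme.Opens.ι_appIso]
          exact (Category.id_comp _).trans (Category.comp_id _).symm
        exact congr($(key).hom x)) ≪≫
    (SheafOfModules.pushforwardComp _ _).symm

end Groth.Agent.R2.H28.OpenBC
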