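import Mathlib
import Groth.Agent.Lib.Helper1PT4
import Groth.Agent.R2.H27PushStalk
set_option backward.isDefEq.respectTransparency.types false

/-!
# The projection formula `f_* M ⊗ N ≅ f_*(M ⊗ f^* N)` for a closed immersion (helper27)
-/

set_option autoImplicit false
set_option linter.style.haveILetI false
universe u
open CategoryTheory CategoryTheory.Limits AlgebraicGeometry TopologicalSpace Opposite
  MonoidalCategory TensorProduct

namespace Groth.Agent.R2.H27.ProjClosed

open Groth.Agent.Lib.Helper1.PT Groth.Agent.Lib.Helper1.Sky Groth.Agent.Lib.Helper1.StalkTensor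
  Groth.Agent.Lib.Helper21.ModTensor2 Groth.Agent.Lib.Helper1.KBC

variable {X Y : Scheme.{u}} (f : X ⟶ Y)

section Map

variable (M : X.Modules) (N : Y.Modules)

/-- the projection map, on presheaves over `Y` -/
noncomputable def pP : toPM ((psh f).obj M) ⊗ toPM N ⟶
    toPM ((psh f).obj (tens M ((plb f).obj N))) :=
  (toPM ((psh f).obj M) ◁ toPMMap (un f N)) ≫ nu f M ((plb f).obj N)

/-- the projection map `f_* M ⊗ N ⟶ f_*(M ⊗ f^* N)` -/
noncomputable def proj : tens ((psh f).obj M) N ⟶ (psh f).obj (tens M ((plb f).obj N)) :=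
  ((adj Y.sheaf).homEquiv (toPM ((psh f).obj M) ⊗ toPM N)
    ((psh f).obj (tens M ((plb f).obj N)))).symm (pP f M N)

lemma etaX_proj :
    etaX (toPM ((psh f).obj M) ⊗ toPM N) ≫ toPMMap (proj f M N) = pP f M N := by
  have h := (adj Y.sheaf).homEquiv_unit (X := toPM ((psh f).obj M) ⊗ toPM N)
    (Y := (psh f).obj (tens M ((plb f).obj N))) (f := proj f M N)
  have h2 : (adj Y.sheaf).homEquiv _ _ (proj f M N) = pP f M N :=
    Equiv.apply_symm_apply _ _
  exact h.symm.trans h2

variable {M N}

lemma pP_naturality_left {M M' : X.Modules} (g : M ⟶ M') (N : Y.Modules) :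
    (toPMMap ((psh f).map g) ▷ toPM N) ≫ pP f M' N = pP f M N ≫
      toPMMap ((psh f).map ((DCoh.tensorBi.map g).app ((plb f).obj N))) := by
  unfold pP
  rw [Category.assoc, ← nu_naturality_left, ← Category.assoc, ← Category.assoc,
    whisker_exchange]

lemma pP_naturality_right (M : X.Modules) {N N' : Y.Modules} (φ : N ⟶ N') :
    (toPM ((psh f).obj M) ◁ toPMMap φ) ≫ pP f M N' = pP f M N ≫
      toPMMap ((psh f).map ((DCoh.tensorBi.obj M).map ((plb f).map φ))) := by
  unfold pP
  rw [Category.assoc, ← nu_naturality_right, ← Category.assoc, ← Category.assoc,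
    ← MonoidalCategory.whiskerLeft_comp, ← MonoidalCategory.whiskerLeft_comp,
    toPMMap_un_naturality]

lemma proj_naturality_left {M M' : X.Modules} (g : M ⟶ M') (N : Y.Modules) :
    (DCoh.tensorBi.map ((psh f).map g)).app N ≫ proj f M' N = proj f M N ≫
      (psh f).map ((DCoh.tensorBi.map g).app ((plb f).obj N)) := by
  apply shX_hom_ext (T := toPM ((psh f).obj M) ⊗ toPM N)
  have h1 : etaX (toPM ((psh f).obj M) ⊗ toPM N) ≫
      toPMMap ((DCoh.tensorBi.map ((psh f).map g)).app N ≫ proj f M' N) =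
      (toPMMap ((psh f).map g) ▷ toPM N) ≫ pP f M' N := by
    have e1 := etaX_naturality (toPMMap ((psh f).map g) ▷ toPM N)
    have e2 := etaX_proj f M' N
    calc etaX (toPM ((psh f).obj M) ⊗ toPM N) ≫
          toPMMap ((DCoh.tensorBi.map ((psh f).map g)).app N ≫ proj f M' N)
        = (etaX (toPM ((psh f).obj M) ⊗ toPM N) ≫
            toPMMap (shX.map (toPMMap ((psh f).map g) ▷ toPM N))) ≫
            toPMMap (proj f M' N) := (Category.assoc _ _ _).symm
      _ = ((toPMMap ((psh f).map g) ▷ toPM N) ≫ etaX (toPM ((psh f).obj M') ⊗ toPM N)) ≫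
            toPMMap (proj f M' N) := by rw [e1]
      _ = (toPMMap ((psh f).map g) ▷ toPM N) ≫ pP f M' N := by rw [Category.assoc, e2]
  have h2 : etaX (toPM ((psh f).obj M) ⊗ toPM N) ≫ toPMMap (proj f M N ≫
      (psh f).map ((DCoh.tensorBi.map g).app ((plb f).obj N))) =
      pP f M N ≫ toPMMap ((psh f).map ((DCoh.tensorBi.map g).app ((plb f).obj N))) := by
    have e2 := etaX_proj f M N
    calc _ = (etaX (toPM ((psh f).obj M) ⊗ toPM N) ≫ toPMMap (proj f M N)) ≫
            toPMMap ((psh f).map ((DCoh.tensorBi.map g).app ((plb f).obj N))) :=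
          (Category.assoc _ _ _).symm
      _ = _ := by rw [e2]
  exact h1.trans ((pP_naturality_left f g N).trans h2.symm)

lemma proj_naturality_right (M : X.Modules) {N N' : Y.Modules} (φ : N ⟶ N') :
    (DCoh.tensorBi.obj ((psh f).obj M)).map φ ≫ proj f M N' = proj f M N ≫
      (psh f).map ((DCoh.tensorBi.obj M).map ((plb f).map φ)) := by
  apply shX_hom_ext (T := toPM ((psh f).obj M) ⊗ toPM N)
  have h1 : etaX (toPM ((psh f).obj M) ⊗ toPM N) ≫
      toPMMap ((DCoh.tensorBi.obj ((psh f).obj M)).map φ ≫ proj f M N') =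
      (toPM ((psh f).obj M) ◁ toPMMap φ) ≫ pP f M N' := by
    have e1 := etaX_naturality (toPM ((psh f).obj M) ◁ toPMMap φ)
    have e2 := etaX_proj f M N'
    calc etaX (toPM ((psh f).obj M) ⊗ toPM N) ≫
          toPMMap ((DCoh.tensorBi.obj ((psh f).obj M)).map φ ≫ proj f M N')
        = (etaX (toPM ((psh f).obj M) ⊗ toPM N) ≫
            toPMMap (shX.map (toPM ((psh f).obj M) ◁ toPMMap φ))) ≫
            toPMMap (proj f M N') := (Category.assoc _ _ _).symm
      _ = ((toPM ((psh f).obj M) ◁ toPMMap φ) ≫ etaX (toPM ((psh f).obj M) ⊗ toPM N')) ≫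
            toPMMap (proj f M N') := by rw [e1]
      _ = (toPM ((psh f).obj M) ◁ toPMMap φ) ≫ pP f M N' := by rw [Category.assoc, e2]
  have h2 : etaX (toPM ((psh f).obj M) ⊗ toPM N) ≫ toPMMap (proj f M N ≫
      (psh f).map ((DCoh.tensorBi.obj M).map ((plb f).map φ))) =
      pP f M N ≫ toPMMap ((psh f).map ((DCoh.tensorBi.obj M).map ((plb f).map φ))) := by
    have e2 := etaX_proj f M N
    calc _ = (etaX (toPM ((psh f).obj M) ⊗ toPM N) ≫ toPMMap (proj f M N)) ≫
            toPMMap ((psh f).map ((DCoh.tensorBi.obj M).map ((plb f).map φ))) :=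
          (Category.assoc _ _ _).symm
      _ = _ := by rw [e2]
  exact h1.trans ((pP_naturality_right f M φ).trans h2.symm)

end Map

section Core

/-- abstract form of the projection formula for modules -/
theorem bijective_of_isBaseChange {R S : Type u} [CommRing R] [CommRing S] [Algebra R S]
    {P L Q F : Type u} [AddCommGroup P] [Module R P] [AddCommGroup L] [Module R L]
    [AddCommGroup Q] [Module R Q] [Module S Q] [IsScalarTower R S Q]
    [AddCommGroup F] [Module R F] [Module S F] [IsScalarTower R S F]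
    (B' : P ≃ₗ[R] Q) (w : L →ₗ[R] F) (hw : IsBaseChange S w)
    (Θ : P ⊗[R] L →+ Q ⊗[S] F) (hΘ : ∀ p l, Θ (p ⊗ₜ l) = B' p ⊗ₜ w l) :
    Function.Bijective Θ := by
  have h : ∀ t, (hw.tensorEquiv Q) (Θ t) = (TensorProduct.congr B' (LinearEquiv.refl R L)) t := by
    intro t
    induction t using TensorProduct.induction_on with
    | zero => simp
    | tmul p l =>
      rw [hΘ]
      simp [IsBaseChange.tensorEquiv]
    | add a b ha hb => rw [map_add, map_add, map_add, ha, hb]
  have h2 : (Θ : P ⊗[R] L → Q ⊗[S] F) =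
      (hw.tensorEquiv Q).symm ∘ (TensorProduct.congr B' (LinearEquiv.refl R L)) := by
    funext t
    rw [Function.comp_apply, ← h t, LinearEquiv.symm_apply_apply]
  rw [h2]
  exact (hw.tensorEquiv Q).symm.bijective.comp (TensorProduct.congr B' (LinearEquiv.refl R L)).bijective

end Core

section Stalk

open Groth.Agent.R2.H27.PushStalk

variable (M : X.Modules) (N : Y.Modules) (x : X)

/-- the stalk map of the pushforward, as an additive map on `St` -/
noncomputable def pushSt : St (toPM ((psh f).obj M)) (f x) →+ St (toPM M) x :=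
  (pushStalkAb f M x).hom

lemma pushSt_gm (V : Y.Opens) (hy : f x ∈ V) (s : (toPM ((psh f).obj M)).obj (op V)) :
    pushSt f M x (gm (toPM ((psh f).obj M)) (f x) V hy s) = gm (toPM M) x (f ⁻¹ᵁ V) hy s :=
  pushStalkAb_germ f M x V hy s

lemma pushSt_smul (r : Groth.Agent.Lib.Helper1.Sky.Ox (f x)) (a : St (toPM ((psh f).obj M)) (f x)) :
    pushSt f M x (r • a) = (f.stalkMap x).hom r • pushSt f M x a :=
  pushStalkAb_smul f M x r a

lemma pushSt_bijective (hi : Topology.IsInducing f.base) : Function.Bijective (pushSt f M x) :=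
  pushStalkAb_bijective f hi M x

/-- the projection map on sections: pure tensors -/
lemma proj_section (V : Y.Opens) (s : (toPM ((psh f).obj M)).obj (op V))
    (n : (toPM N).obj (op V)) :
    (toPMMap (proj f M N)).app (op V)
      ((etaX (toPM ((psh f).obj M) ⊗ toPM N)).app (op V) (tm (toPM ((psh f).obj M)) (toPM N) s n)) =
    (etaX (toPM M ⊗ toPM ((plb f).obj N))).app (op (f ⁻¹ᵁ V))
      (tm (toPM M) (toPM ((plb f).obj N)) s ((toPMMap (un f N)).app (op V) n)) := by
  have h1 := etaX_proj f M N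
  have h2 := congrArg (fun g => (g.app (op V)).hom (tm (toPM ((psh f).obj M)) (toPM N) s n)) h1
  exact h2

set_option maxHeartbeats 800000 in
theorem bijective_sm_proj (hi : Topology.IsInducing f.base) :
    Function.Bijective (sm (toPMMap (proj f M N)) (f x)) := by
  -- notation
  let R := Groth.Agent.Lib.Helper1.Sky.Ox (f x)
  let S := Groth.Agent.Lib.Helper1.Sky.Ox x
  let φ₀ : R →+* S := (f.stalkMap x).hom
  let T := tens M ((plb f).obj N)
  let P := St (toPM ((psh f).obj M)) (f x)
  let L := St (toPM N) (f x)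
  let Q := St (toPM M) x
  let F := St (toPM ((plb f).obj N)) x
  letI algRS : Algebra R S := φ₀.toAlgebra
  letI modQ : Module R Q := Module.compHom Q φ₀
  haveI : IsScalarTower R S Q := IsScalarTower.of_algebraMap_smul (fun r q => rfl)
  letI modF : Module R F := Module.compHom F φ₀
  haveI : IsScalarTower R S F := IsScalarTower.of_algebraMap_smul (fun r q => rfl)
  -- the stalk of `f_* M`
  let B'₀ : P →ₗ[R] Q :=
    { toFun := pushSt f M x
      map_add' := fun a b => map_add (pushSt f M x) a b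
      map_smul' := fun r a => pushSt_smul f M x r a }
  let B' : P ≃ₗ[R] Q := LinearEquiv.ofBijective B'₀ (pushSt_bijective f M x hi)
  -- the base change map
  let w : L →ₗ[R] F :=
    { toFun := fun l => pushSt f ((plb f).obj N) x (sm (toPMMap (un f N)) (f x) l)
      map_add' := fun a b => by rw [map_add, map_add]
      map_smul' := fun r a => by
        rw [sm_smul, pushSt_smul]
        rfl }
  have hw_gm : ∀ (V : Y.Opens) (hy : f x ∈ V) (n : (toPM N).obj (op V)),
      w (gm (toPM N) (f x) V hy n) =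
        gm (toPM ((plb f).obj N)) x (f ⁻¹ᵁ V) hy ((toPMMap (un f N)).app (op V) n) := by
    intro V hy n
    change pushSt f ((plb f).obj N) x (sm (toPMMap (un f N)) (f x) (gm (toPM N) (f x) V hy n)) = _
    rw [sm_gm, pushSt_gm]
  let e : S ⊗[R] L ≃ₗ[S] F := ((stalkPullbackIso f x).app N).symm.toLinearEquiv
  have he : ∀ l : L, e ((1 : S) ⊗ₜ[R] l) = w l := by
    intro l
    obtain ⟨V, hy, n, rfl⟩ := exists_gm_eq l
    rw [hw_gm]
    exact sigma_inv_unit f x N V hy n
  have hw : IsBaseChange S w := IsBaseChange.of_equiv e he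
  -- the composite
  let A := stalkTensorEquiv (f x) ((psh f).obj M) N
  let C := stalkTensorEquiv x M ((plb f).obj N)
  let Θ : P ⊗[R] L →+ Q ⊗[S] F :=
    (C.toLinearMap.toAddMonoidHom.comp (pushSt f T x)).comp
      ((sm (toPMMap (proj f M N)) (f x)).comp A.symm.toLinearMap.toAddMonoidHom)
  have hΘ : ∀ (p : P) (l : L), Θ (p ⊗ₜ[R] l) = B' p ⊗ₜ[S] w l := by
    intro p l
    obtain ⟨V, hy, s, n, rfl, rfl⟩ := exists_rep₂ p l
    change C (pushSt f T x (sm (toPMMap (proj f M N)) (f x) (A.symm
      (gm (toPM ((psh f).obj M)) (f x) V hy s ⊗ₜ[R] gm (toPM N) (f x) V hy n)))) = _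
    rw [stalkTensorEquiv_symm_gm, sm_gm, proj_section, hw_gm]
    change C (pushSt f T x (gm (toPM ((psh f).obj T)) (f x) V hy _)) =
      pushSt f M x (gm (toPM ((psh f).obj M)) (f x) V hy s) ⊗ₜ[S] _
    rw [pushSt_gm, pushSt_gm]
    exact stalkTensorEquiv_gm x M ((plb f).obj N) (f ⁻¹ᵁ V) hy s _
  have hbij := bijective_of_isBaseChange B' w hw Θ hΘ
  have h1 : Function.Bijective (fun a => C (pushSt f T x a)) :=
    C.bijective.comp (pushSt_bijective f T x hi)
  have h2 : (Θ : P ⊗[R] L → Q ⊗[S] F) = (fun a => C (pushSt f T x a)) ∘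
      ((sm (toPMMap (proj f M N)) (f x)) ∘ A.symm) := rfl
  rw [h2, Function.Bijective.of_comp_iff' h1, Function.Bijective.of_comp_iff _ A.symm.bijective]
    at hbij
  exact hbij

lemma subsingleton_sections_of_empty (M : X.Modules) {U : X.Opens} (h : ¬ (U : Set X).Nonempty) :
    Subsingleton ((toPM M).obj (op U)) := by
  let G : TopCat.Sheaf AddCommGrpCat.{u} X.toTopCat := (SheafOfModules.toSheaf _).obj M
  have h' : U = ⊥ := by
    ext z
    simp only [Opens.coe_bot, Set.mem_empty_iff_false, iff_false]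
    exact fun hz => h ⟨z, hz⟩
  have hT : IsTerminal (G.obj.obj (op U)) := TopCat.Sheaf.isTerminalOfEqEmpty G h'
  have hZ : IsZero (G.obj.obj (op U)) :=
    IsZero.of_iso (isZero_zero _) (hT.uniqueUpToIso HasZeroObject.zeroIsTerminal)
  exact AddCommGrpCat.subsingleton_of_isZero hZ

lemma subsingleton_St_push (hcl : IsClosed (Set.range f.base)) (y : Y)
    (hy : y ∉ Set.range f.base) : Subsingleton (St (toPM ((psh f).obj M)) y) := by
  refine ⟨fun a b => ?_⟩
  have h0 : ∀ a : St (toPM ((psh f).obj M)) y, a = 0 := by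
    intro a
    obtain ⟨V, hV, s, rfl⟩ := exists_gm_eq a
    let W : Y.Opens := V ⊓ ⟨(Set.range f.base)ᶜ, hcl.isOpen_compl⟩
    have hyW : y ∈ W := ⟨hV, hy⟩
    have hW : ¬ ((f ⁻¹ᵁ W : X.Opens) : Set X).Nonempty := by
      rintro ⟨z, hz⟩
      exact hz.2 ⟨z, rfl⟩
    haveI := subsingleton_sections_of_empty M hW
    rw [← gm_rs (homOfLE inf_le_left : W ⟶ V) hyW s]
    have : rs (toPM ((psh f).obj M)) (homOfLE inf_le_left : W ⟶ V) s = 0 :=
      Subsingleton.elim (α := (toPM M).obj (op (f ⁻¹ᵁ W))) _ _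
    rw [this, map_zero]
  rw [h0 a, h0 b]

theorem isIso_proj [IsClosedImmersion f] : IsIso (proj f M N) := by
  apply isIso_of_forall_isIso_stalk
  intro y
  have hi : Topology.IsInducing f.base := f.isClosedEmbedding.isInducing
  have hcl : IsClosed (Set.range f.base) := f.isClosedEmbedding.isClosed_range
  by_cases hy : y ∈ Set.range f.base
  · obtain ⟨x, rfl⟩ := hy
    have hb := bijective_sm_proj f M N x hi
    rw [ConcreteCategory.isIso_iff_bijective]
    exact hb
  · haveI h1 : Subsingleton (St (toPM ((psh f).obj (tens M ((plb f).obj N)))) y) :=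
      subsingleton_St_push f _ hcl y hy
    haveI h0 : Subsingleton (St (toPM ((psh f).obj M)) y) := subsingleton_St_push f _ hcl y hy
    haveI h2 : Subsingleton (St (toPM (tens ((psh f).obj M) N)) y) :=
      (stalkTensorEquiv y ((psh f).obj M) N).toEquiv.subsingleton
    have hA : IsZero ((stalkFun y).obj (tens ((psh f).obj M) N)) :=
      @ModuleCat.isZero_of_subsingleton _ _ _ h2
    have hB : IsZero ((stalkFun y).obj ((psh f).obj (tens M ((plb f).obj N)))) :=
      @ModuleCat.isZero_of_subsingleton _ _ _ h1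
    exact ⟨⟨0, hA.eq_of_src _ _, hB.eq_of_tgt _ _⟩⟩

end Stalk

end Groth.Agent.R2.H27.ProjClosed
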