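import Mathlib
import Groth.Agent.R2.H27ProjClosed
import Groth.Agent.R2.H28DerBase
import Groth.Agent.R2.H28OpenBC
import Groth.Prelude.Def_CxOX
set_option backward.isDefEq.respectTransparency.types false

/-!
# Interface for the perfect projection formula S0961 (helper27, mini-project PROJ:proj-perf)

Named `Prop`s (packages) from which `R2/H27ProjPerf*.lean` assembles
`Rf_* E ⊗^L P ≅ Rf_*(E ⊗^L f^* P)` for `P` K-flat and perfect.  A package `PkgN` is delivered as a
theorem `pkgN : PkgN` in a file of its prover.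
-/

set_option autoImplicit false
set_option linter.style.haveILetI false
universe u
open CategoryTheory CategoryTheory.Limits AlgebraicGeometry TopologicalSpace Opposite
  HomologicalComplex
attribute [local instance] HasDerivedCategory.standard

namespace Groth.Agent.R2.H27.ProjPerfSpec

open Groth.Agent.R2.H27.ProjClosed Groth.Agent.R2.H28.DerBase Groth.Agent.R2.H28.OpenBC

/-- PKG-1 (unit case of the projection map): `f_* M ⊗ O_Y ⟶ f_*(M ⊗ f^* O_Y)` is invertible. -/
def Pkg1 : Prop :=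
  ∀ {X Y : Scheme.{u}} (f : X ⟶ Y) (M : X.Modules), IsIso (proj f M (Coh.structureModule Y))

/-- PKG-7 (local projection formula for modules free over an open): if `L|_V` is finite free then
the projection map `f_* M ⊗ L ⟶ f_*(M ⊗ f^* L)` is invertible over `V`. -/
def Pkg7 : Prop :=
  ∀ {X Y : Scheme.{u}} (f : X ⟶ Y) (V : Y.Opens) (M : X.Modules) (L : Y.Modules) (n : ℕ),
    Nonempty ((Scheme.Modules.restrictFunctor V.ι).obj L ≅ FlatMod.freeMod (V : Scheme.{u}) n) →
    IsIso ((Scheme.Modules.restrictFunctor V.ι).map (proj f M L))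

/-- PKG-3a (derived direct image and restriction to opens, units): the unit of `Rf_*` at a complex
`T` is invertible over `V` iff the unit of `R(f|_V)_*` at `T|_{f⁻¹V}` is invertible. -/
def Pkg3a : Prop :=
  ∀ {X Y : Scheme.{u}} (f : X ⟶ Y) (V : Y.Opens) [DCoh.HasRpush f] [DCoh.HasRpush (f ∣_ V)]
    (T : CochainComplex X.Modules ℤ),
    IsIso ((DCoh.restrictD V.ι).map ((unitC f).app T)) ↔
      IsIso ((unitC (f ∣_ V)).app ((DCoh.restrictCx (f ⁻¹ᵁ V)).obj T))

/-- PKG-3b: `Rf_*` preserves morphisms invertible over (the preimage of) an open. -/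
def Pkg3b : Prop :=
  ∀ {X Y : Scheme.{u}} (f : X ⟶ Y) (V : Y.Opens) [DCoh.HasRpush f] {A B : DCoh.D X} (ψ : A ⟶ B),
    IsIso ((DCoh.restrictD (f ⁻¹ᵁ V).ι).map ψ) →
      IsIso ((DCoh.restrictD V.ι).map ((DCoh.Rpush f).map ψ))

/-- PKG-4 (K-injectivity): `Tot(I ⊗ G)` is K-injective for `I` K-injective and `G` a bounded
complex of finite free modules. -/
def Pkg4 : Prop :=
  ∀ {U : Scheme.{u}} (I G : CochainComplex U.Modules ℤ) [I.IsKInjective] (a b : ℤ),
    DCoh.VanishesOutside G a b →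
    (∀ i : ℤ, ∃ n : ℕ, Nonempty (G.X i ≅ FlatMod.freeMod U n)) →
    CochainComplex.IsKInjective ((DCoh.tensorCx.obj I).obj G)

/-- PKG-5 (extension by zero of a bounded complex of finite free modules is K-flat). -/
def Pkg5 : Prop :=
  ∀ {Y : Scheme.{u}} (V : Y.Opens) (F : CochainComplex (V : Scheme.{u}).Modules ℤ) (a b : ℤ),
    DCoh.VanishesOutside F a b →
    (∀ i : ℤ, ∃ n : ℕ, Nonempty (F.X i ≅ FlatMod.freeMod (V : Scheme.{u}) n)) →
    DCoh.IsKFlat (((CxOX.extZero V.ι).mapHomologicalComplex (ComplexShape.up ℤ)).obj F)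

/-- PKG-8a: tensoring with a fixed complex preserves morphisms of K-flat complexes which are
quasi-isomorphisms over an open. -/
def Pkg8a : Prop :=
  ∀ {Y : Scheme.{u}} (V : Y.Opens) (B N₁ N₂ : CochainComplex Y.Modules ℤ) (a : N₁ ⟶ N₂),
    DCoh.IsKFlat N₁ → DCoh.IsKFlat N₂ →
    IsIso ((DCoh.restrictD V.ι).map (DerivedCategory.Q.map a)) →
    IsIso ((DCoh.restrictD V.ι).map (DerivedCategory.Q.map ((DCoh.tensorCx.obj B).map a)))

/-- PKG-8b: the pullback preserves morphisms of K-flat complexes which are quasi-isomorphisms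
over an open. -/
def Pkg8b : Prop :=
  ∀ {X Y : Scheme.{u}} (f : X ⟶ Y) (V : Y.Opens) (N₁ N₂ : CochainComplex Y.Modules ℤ)
    (a : N₁ ⟶ N₂), DCoh.IsKFlat N₁ → DCoh.IsKFlat N₂ →
    IsIso ((DCoh.restrictD V.ι).map (DerivedCategory.Q.map a)) →
    IsIso ((DCoh.restrictD (f ⁻¹ᵁ V).ι).map (DerivedCategory.Q.map
      (((Scheme.Modules.pullback f).mapHomologicalComplex (ComplexShape.up ℤ)).map a)))

end Groth.Agent.R2.H27.ProjPerfSpec
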