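import Mathlib
import Groth.Prelude.Def_CxOX
import Groth.Agent.Lib.Helper26FpqcMod

/-!
# The counit `j_! j^* K ⟶ K` of extension by zero is a monomorphism (helper28)
-/

set_option autoImplicit false
set_option linter.style.haveILetI false
universe u
open CategoryTheory CategoryTheory.Limits AlgebraicGeometry TopologicalSpace Opposite

namespace Groth.Agent.R2.H28.ExtZeroMono

open Groth.Agent.Lib.Helper1.Sky Groth.Agent.Lib.Helper1.StalkTensor
  Groth.Agent.Lib.Helper26.FpqcMod

variable {X : Scheme.{u}}

/-- a module all of whose modules of sections are trivial is zero -/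
lemma isZero_of_subsingleton_sections (M : X.Modules)
    (h : ∀ W : X.Opens, Subsingleton Γ(M, W)) : IsZero M := by
  rw [IsZero.iff_id_eq_zero]
  ext W x
  haveI := h W
  exact Subsingleton.elim _ _

/-- the adjoint triple `j_! ⊣ j^* ⊣ j_*` -/
noncomputable def triple (U : X.Opens) :
    Adjunction.Triple (CxOX.extZero U.ι) (Scheme.Modules.restrictFunctor U.ι)
      (Scheme.Modules.pushforward U.ι) where
  adj₁ := CxOX.extZeroAdj U.ι
  adj₂ := Scheme.Modules.restrictAdjunction U.ι

instance isIso_unit_extZeroAdj (U : X.Opens) : IsIso (CxOX.extZeroAdj U.ι).unit :=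
  (triple U).isIso_unit_iff_isIso_counit.2
    (inferInstanceAs (IsIso (Scheme.Modules.restrictAdjunction U.ι).counit))

/-- the restriction to `U` of the counit `j_! j^* K ⟶ K` is an isomorphism -/
instance isIso_restrict_counit (U : X.Opens) (K : X.Modules) :
    IsIso ((Scheme.Modules.restrictFunctor U.ι).map ((CxOX.extZeroAdj U.ι).counit.app K)) := by
  have h := (CxOX.extZeroAdj U.ι).right_triangle_components K
  haveI : IsIso ((CxOX.extZeroAdj U.ι).unit.app ((Scheme.Modules.restrictFunctor U.ι).obj K)) :=
    inferInstance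
  exact IsIso.of_isIso_fac_left h

/-- the restriction to `U` of the skyscraper at a point outside `U` vanishes -/
lemma isZero_restrict_sky (U : X.Opens) (x : X) (hx : x ∉ U) (N : ModuleCat.{u} (Ox x)) :
    IsZero ((Scheme.Modules.restrictFunctor U.ι).obj ((skyFun x).obj N)) := by
  apply isZero_of_subsingleton_sections
  intro W
  have hW : x ∉ U.ι ''ᵁ W := fun h => hx (U.ι.image_le_opensRange W |>.trans (by simp) h)
  change Subsingleton (PLift (x ∈ U.ι ''ᵁ W) → N)
  haveI : IsEmpty (PLift (x ∈ U.ι ''ᵁ W)) := ⟨fun h => hW h.down⟩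
  infer_instance


/-- the stalk of `j_! P` at a point outside `U` vanishes -/
lemma isZero_stalk_extZero (U : X.Opens) (x : X) (hx : x ∉ U) (P : (U : Scheme.{u}).Modules) :
    IsZero ((stalkFun x).obj ((CxOX.extZero U.ι).obj P)) := by
  rw [IsZero.iff_id_eq_zero]
  let adj := (CxOX.extZeroAdj U.ι).comp (stalkSkyAdj x)
  apply (adj.homEquiv P _).injective
  exact (isZero_restrict_sky U x hx _).eq_of_tgt _ _

/-- the counit `j_! j^* K ⟶ K` is a monomorphism -/
theorem mono_extZero_counit (U : X.Opens) (K : X.Modules) :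
    Mono ((CxOX.extZeroAdj U.ι).counit.app K) := by
  rw [mono_iff_stalk]
  intro x
  by_cases hx : x ∈ U
  · have h1 := injective_iff U.ι ⟨x, hx⟩ ((CxOX.extZeroAdj U.ι).counit.app K)
    have h2 : IsIso ((Scheme.Modules.pullback U.ι).map ((CxOX.extZeroAdj U.ι).counit.app K)) :=
      (NatIso.isIso_map_iff (Scheme.Modules.restrictFunctorIsoPullback U.ι) _).1 inferInstance
    have h3 : Function.Injective ((stalkFun (⟨x, hx⟩ : U)).map
        ((Scheme.Modules.pullback U.ι).map ((CxOX.extZeroAdj U.ι).counit.app K))).hom :=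
      (ConcreteCategory.bijective_of_isIso _).1
    exact h1.1 h3
  · have hz := isZero_stalk_extZero U x hx ((Scheme.Modules.restrictFunctor U.ι).obj K)
    haveI : Subsingleton ((stalkFun x).obj ((CxOX.extZero U.ι).obj
        ((Scheme.Modules.restrictFunctor U.ι).obj K))) :=
      ModuleCat.subsingleton_of_isZero hz
    intro a b _
    exact Subsingleton.elim (α := ((stalkFun x).obj ((CxOX.extZero U.ι).obj
        ((Scheme.Modules.restrictFunctor U.ι).obj K)))) a b

end Groth.Agent.R2.H28.ExtZeroMono
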