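import Mathlib
import Groth.Agent.R2.H27ProjPerfSpec
import Groth.Agent.Lib.Helper23PB
import Groth.Agent.Lib.Helper21ModTensor7
import Groth.Agent.R2.H28ExtZeroMono
set_option backward.isDefEq.respectTransparency.types false

/-!
# The projection map `f_* M ⊗ O_Y ⟶ f_*(M ⊗ f^* O_Y)` is invertible (helper28)

Package `Pkg1` of helper27's mini-project `PROJ:proj-perf` (S0961).

* `rho M : M ⊗ O_X ≅ M` (right unitor of the sheaf tensor product), `etaX_rho`.
* `cY f : O_Y ⟶ f_* O_X`, `un_pullbackUnitHom`.
* `Phi_eq`: `proj f M O_Y ≫ f_*(M ⊗ (f^*O_Y ≅ O_X)) ≫ f_*(rho M) = rho (f_* M)`.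
* `isIso_proj_unit`, `pkg1`.
-/

set_option autoImplicit false
set_option linter.style.haveILetI false
set_option linter.unusedSectionVars false
universe u
open CategoryTheory CategoryTheory.Limits AlgebraicGeometry TopologicalSpace Opposite
  MonoidalCategory TensorProduct

namespace Groth.Agent.R2.H28.ProjPkg1

open Groth.Agent.Lib.Helper1.PT Groth.Agent.Lib.Helper1.Sky Groth.Agent.Lib.Helper1.StalkTensor
  Groth.Agent.Lib.Helper21.ModTensor2 Groth.Agent.Lib.Helper1.KBC
  Groth.Agent.R2.H27.ProjClosed Groth.Agent.Lib.Helper23.PB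

variable {X Y : Scheme.{u}} (f : X ⟶ Y)

example : toPM (Coh.structureModule X) = 𝟙_ (PMod X.presheaf) := rfl

/-- the right unitor of the sheaf tensor product -/
noncomputable def rho (M : X.Modules) : tens M (Coh.structureModule X) ≅ M :=
  shX.mapIso (ρ_ (toPM M)) ≪≫ (asIso (adj X.sheaf).counit).app M

lemma etaX_rho (M : X.Modules) :
    etaX (toPM M ⊗ toPM (Coh.structureModule X)) ≫ toPMMap (rho M).hom = (ρ_ (toPM M)).hom := by
  have h1 := etaX_naturality (ρ_ (toPM M)).hom
  have h2 : etaX (toPM M) ≫ toPMMap ((adj X.sheaf).counit.app M) = 𝟙 _ :=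
    (adj X.sheaf).right_triangle_components M
  change etaX (toPM M ⊗ 𝟙_ (PMod X.presheaf)) ≫ (toPMMap (shX.map (ρ_ (toPM M)).hom) ≫
    toPMMap ((adj X.sheaf).counit.app M)) = _
  rw [← Category.assoc, ← h1, Category.assoc, h2, Category.comp_id]

/-- the comorphism `O_Y ⟶ f_* O_X` -/
noncomputable def cY : Coh.structureModule Y ⟶ (psh f).obj (Coh.structureModule X) :=
  SheafOfModules.unitToPushforwardObjUnit.{u} f.toRingCatSheafHom

lemma un_pullbackUnitHom :
    un f (Coh.structureModule Y) ≫ (psh f).map (pullbackUnitHom f) = cY f := by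
  have h := (ppAdj f).homEquiv_unit (X := Coh.structureModule Y)
    (Y := Coh.structureModule X) (f := pullbackUnitHom f)
  have h2 : (ppAdj f).homEquiv _ _ (pullbackUnitHom f) = cY f :=
    SheafOfModules.pullbackPushforwardAdjunction_homEquiv_pullbackObjUnitToUnit.{u}
      f.toRingCatSheafHom
  exact h.symm.trans h2

lemma cY_app (V : Y.Opens) (r : (toPM (Coh.structureModule Y)).obj (op V)) :
    (toPMMap (cY f)).app (op V) r = (f.app V).hom r := rfl

variable (M : X.Modules)

/-- the candidate inverse direction: `f_*M ⊗ O_Y ⟶ f_*M` through the projection map -/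
noncomputable def Phi : tens ((psh f).obj M) (Coh.structureModule Y) ⟶ (psh f).obj M :=
  proj f M (Coh.structureModule Y) ≫
    (psh f).map ((DCoh.tensorBi.obj M).map (pullbackUnitHom f)) ≫ (psh f).map (rho M).hom

lemma Phi_eq : Phi f M = (rho ((psh f).obj M)).hom := by
  apply shX_hom_ext (T := toPM ((psh f).obj M) ⊗ toPM (Coh.structureModule Y))
  rw [etaX_rho]
  have h0 : etaX (toPM ((psh f).obj M) ⊗ toPM (Coh.structureModule Y)) ≫ toPMMap (Phi f M) =
      (toPM ((psh f).obj M) ◁ toPMMap (cY f)) ≫ nu f M (Coh.structureModule X) ≫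
        toPMMap ((psh f).map (rho M).hom) := by
    have e1 := etaX_proj f M (Coh.structureModule Y)
    have e2 := nu_naturality_right f M (pullbackUnitHom f)
    calc etaX (toPM ((psh f).obj M) ⊗ toPM (Coh.structureModule Y)) ≫ toPMMap (Phi f M)
        = (etaX (toPM ((psh f).obj M) ⊗ toPM (Coh.structureModule Y)) ≫
            toPMMap (proj f M (Coh.structureModule Y))) ≫
            toPMMap ((psh f).map ((DCoh.tensorBi.obj M).map (pullbackUnitHom f))) ≫
            toPMMap ((psh f).map (rho M).hom) := (Category.assoc _ _ _).symm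
      _ = ((toPM ((psh f).obj M) ◁ toPMMap (un f (Coh.structureModule Y))) ≫
            nu f M ((plb f).obj (Coh.structureModule Y))) ≫
            toPMMap ((psh f).map ((DCoh.tensorBi.obj M).map (pullbackUnitHom f))) ≫
            toPMMap ((psh f).map (rho M).hom) := by rw [e1]; rfl
      _ = (toPM ((psh f).obj M) ◁ toPMMap (un f (Coh.structureModule Y))) ≫
            ((toPM ((psh f).obj M) ◁ toPMMap ((psh f).map (pullbackUnitHom f))) ≫
              nu f M (Coh.structureModule X)) ≫
            toPMMap ((psh f).map (rho M).hom) := by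
          rw [e2]; simp only [Category.assoc]
      _ = (toPM ((psh f).obj M) ◁ (toPMMap (un f (Coh.structureModule Y)) ≫
            toPMMap ((psh f).map (pullbackUnitHom f)))) ≫ nu f M (Coh.structureModule X) ≫
            toPMMap ((psh f).map (rho M).hom) := by
          rw [MonoidalCategory.whiskerLeft_comp]; simp only [Category.assoc]
      _ = _ := by
          have := un_pullbackUnitHom f
          have h3 : toPMMap (un f (Coh.structureModule Y)) ≫
            toPMMap ((psh f).map (pullbackUnitHom f)) = toPMMap (cY f) :=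
            congrArg toPMMap this
          rw [h3]
  rw [h0]
  apply PresheafOfModules.hom_ext
  intro V
  apply ModuleCat.MonoidalCategory.tensor_ext
  intro s r
  have key : ∀ (U : X.Opens) (τ : (toPM M ⊗ toPM (Coh.structureModule X)).obj (op U)),
      (toPMMap (rho M).hom).app (op U)
        ((etaX (toPM M ⊗ toPM (Coh.structureModule X))).app (op U) τ) =
        (ρ_ (toPM M)).hom.app (op U) τ := fun U τ =>
    congrArg (fun g => (g.app (op U)).hom τ) (etaX_rho M)
  change (toPMMap (rho M).hom).app (op (f ⁻¹ᵁ V.unop))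
    (nuFun f M (Coh.structureModule X) V.unop s ((toPMMap (cY f)).app V r)) = _
  unfold nuFun
  rw [key]
  rfl

theorem isIso_proj_unit : IsIso (proj f M (Coh.structureModule Y)) := by
  have h := Phi_eq f M
  unfold Phi at h
  haveI : IsIso (pullbackUnitHom f) := inferInstance
  haveI h1 : IsIso ((psh f).map ((DCoh.tensorBi.obj M).map (pullbackUnitHom f)) ≫
      (psh f).map (rho M).hom) := inferInstance
  have h2 : IsIso (proj f M (Coh.structureModule Y) ≫
      ((psh f).map ((DCoh.tensorBi.obj M).map (pullbackUnitHom f)) ≫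
      (psh f).map (rho M).hom)) := by
    rw [h]; infer_instance
  exact IsIso.of_isIso_comp_right _ ((psh f).map ((DCoh.tensorBi.obj M).map (pullbackUnitHom f)) ≫
      (psh f).map (rho M).hom)

open Groth.Agent.R2.H27.ProjPerfSpec in
theorem pkg1 : Pkg1.{u} := fun f M => isIso_proj_unit f M

end Groth.Agent.R2.H28.ProjPkg1
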