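import Mathlib
import Groth.Agent.R2.H28ProjPkg1
import Groth.Agent.R2.H28OpenBC
import Groth.Agent.Lib.Helper20LocFree
set_option backward.isDefEq.respectTransparency.types false

/-!
# The projection map `f_* M ⊗ L ⟶ f_*(M ⊗ f^* L)` is invertible over opens where `L` is free
(helper28)

Package `Pkg7` of helper27's mini-project `PROJ:proj-perf` (S0961).
-/

set_option autoImplicit false
set_option linter.style.haveILetI false
set_option linter.unusedSectionVars false
universe u
open CategoryTheory CategoryTheory.Limits AlgebraicGeometry TopologicalSpace Opposite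
  MonoidalCategory TensorProduct

namespace Groth.Agent.R2.H28.ProjPkg7

open Groth.Agent.Lib.Helper1.PT Groth.Agent.Lib.Helper1.Sky Groth.Agent.Lib.Helper1.StalkTensor
  Groth.Agent.Lib.Helper21.ModTensor2 Groth.Agent.Lib.Helper1.KBC
  Groth.Agent.R2.H27.ProjClosed Groth.Agent.Lib.Helper23.PB Groth.Agent.R2.H28.ProjPkg1
  Groth.Agent.R2.H28.OpenBC

section Abstract

variable {C D : Type*} [Category C] [Category D] [Preadditive C] [Preadditive D]
  {G1 G2 : C ⥤ D} [G1.Additive] [G2.Additive] (α : G1 ⟶ G2)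

/-- a natural transformation of additive functors which is invertible at `N` is invertible at
finite coproducts of copies of `N` -/
theorem isIso_app_sigma_const (N : C) (n : ℕ) [HasCoproduct (fun _ : Fin n => N)]
    (h : IsIso (α.app N)) : IsIso (α.app (∐ fun _ : Fin n => N)) := by
  classical
  let ι : ∀ i : Fin n, N ⟶ ∐ fun _ : Fin n => N := fun i => Sigma.ι (fun _ : Fin n => N) i
  let π : ∀ i : Fin n, (∐ fun _ : Fin n => N) ⟶ N := fun i =>
    Sigma.desc (fun k => if k = i then 𝟙 N else 0)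
  have hιπ : ∀ i j, ι i ≫ π j = if i = j then 𝟙 N else 0 := fun i j => by
    simp only [ι, π, colimit.ι_desc, Cofan.mk_ι_app]
  have htot : ∑ i, π i ≫ ι i = 𝟙 _ := by
    apply Sigma.hom_ext
    intro k
    change ι k ≫ _ = ι k ≫ _
    rw [Preadditive.comp_sum, Category.comp_id]
    have : ∀ i, ι k ≫ π i ≫ ι i = if k = i then ι k else 0 := fun i => by
      rw [← Category.assoc, hιπ]
      split_ifs with hki
      · subst hki; exact Category.id_comp _
      · exact zero_comp
    simp only [this, Finset.sum_ite_eq, Finset.mem_univ, if_true]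
  refine ⟨∑ i, G2.map (π i) ≫ inv (α.app N) ≫ G1.map (ι i), ?_, ?_⟩
  · rw [Preadditive.comp_sum]
    have : ∀ i, α.app (∐ fun _ : Fin n => N) ≫ G2.map (π i) ≫ inv (α.app N) ≫ G1.map (ι i) =
        G1.map (π i ≫ ι i) := fun i => by
      rw [← Category.assoc, ← α.naturality, Category.assoc, IsIso.hom_inv_id_assoc, G1.map_comp]
    simp only [this]
    rw [← G1.map_sum, htot, G1.map_id]
  · rw [Preadditive.sum_comp]
    have : ∀ i, (G2.map (π i) ≫ inv (α.app N) ≫ G1.map (ι i)) ≫ α.app (∐ fun _ : Fin n => N) =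
        G2.map (π i ≫ ι i) := fun i => by
      rw [Category.assoc, Category.assoc, α.naturality, IsIso.inv_hom_id_assoc, G2.map_comp]
    simp only [this]
    rw [← G2.map_sum, htot, G2.map_id]

end Abstract

variable {X Y : Scheme.{u}} (f : X ⟶ Y) (M : X.Modules)

/-- `N ↦ f_* M ⊗ N` -/
noncomputable abbrev G1 : Y.Modules ⥤ Y.Modules := DCoh.tensorBi.obj ((psh f).obj M)

/-- `N ↦ f_*(M ⊗ f^* N)` -/
noncomputable abbrev G2 : Y.Modules ⥤ Y.Modules := plb f ⋙ DCoh.tensorBi.obj M ⋙ psh f

instance : (plb f).Additive := by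
  haveI : (plb f).IsLeftAdjoint := (ppAdj f).isLeftAdjoint
  exact Functor.additive_of_preserves_binary_products _

instance : (G2 f M).Additive := inferInstanceAs (plb f ⋙ DCoh.tensorBi.obj M ⋙ psh f).Additive

/-- the projection map as a natural transformation in the second variable -/
noncomputable def projNat : G1 f M ⟶ G2 f M where
  app N := proj f M N
  naturality {N N'} φ := proj_naturality_right f M φ

theorem isIso_proj_freeMod (n : ℕ) : IsIso (proj f M (FlatMod.freeMod Y n)) :=
  isIso_app_sigma_const (projNat f M) (Coh.structureModule Y) n (isIso_proj_unit f M)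

section VIso

/-- morphisms of modules which are invertible over an open `V` -/
def VIso {Y : Scheme.{u}} (V : Y.Opens) {A B : Y.Modules} (φ : A ⟶ B) : Prop :=
  IsIso ((Scheme.Modules.restrictFunctor V.ι).map φ)

lemma vIso_iff_plb {Y : Scheme.{u}} (V : Y.Opens) {A B : Y.Modules} (φ : A ⟶ B) :
    VIso V φ ↔ IsIso ((plb V.ι).map φ) :=
  NatIso.isIso_map_iff (Scheme.Modules.restrictFunctorIsoPullback V.ι) φ

lemma vIso_of_isIso {Y : Scheme.{u}} (V : Y.Opens) {A B : Y.Modules} (φ : A ⟶ B) [IsIso φ] :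
    VIso V φ := by
  unfold VIso; infer_instance

lemma vIso_comp {Y : Scheme.{u}} (V : Y.Opens) {A B C : Y.Modules} (φ : A ⟶ B) (ψ : B ⟶ C)
    (h1 : VIso V φ) (h2 : VIso V ψ) : VIso V (φ ≫ ψ) := by
  unfold VIso at *
  rw [Functor.map_comp]
  infer_instance

variable (V : Y.Opens)

/-- tensoring preserves morphisms invertible over `V` -/
lemma vIso_tensor (A : Y.Modules) {N N' : Y.Modules} (φ : N ⟶ N') (h : VIso V φ) :
    VIso V ((DCoh.tensorBi.obj A).map φ) := by
  rw [vIso_iff_plb] at h ⊢
  have e := (pullTensorIso V.ι).app A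
  have h1 : IsIso (((H₂ V.ι).obj A).map φ) := by
    haveI := h
    change IsIso ((DCoh.tensorBi.obj ((plb V.ι).obj A)).map ((plb V.ι).map φ))
    infer_instance
  exact (NatIso.isIso_map_iff e φ).2 h1

/-- `f^*` followed by restriction to `f⁻¹ V` is restriction to `V` followed by `(f|_V)^*` -/
noncomputable def plbRestrictIso :
    plb f ⋙ plb (f ⁻¹ᵁ V).ι ≅ plb V.ι ⋙ plb (f ∣_ V) :=
  Scheme.Modules.pullbackComp (f ⁻¹ᵁ V).ι f ≪≫
    Scheme.Modules.pullbackCongr (morphismRestrict_ι f V).symm ≪≫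
    (Scheme.Modules.pullbackComp (f ∣_ V) V.ι).symm

lemma vIso_G2 {N N' : Y.Modules} (φ : N ⟶ N') (h : VIso V φ) :
    VIso V ((G2 f M).map φ) := by
  -- step (a)
  have ha : IsIso ((plb (f ⁻¹ᵁ V).ι).map ((plb f).map φ)) := by
    rw [vIso_iff_plb] at h
    haveI := h
    have h1 : IsIso ((plb V.ι ⋙ plb (f ∣_ V)).map φ) := by
      change IsIso ((plb (f ∣_ V)).map ((plb V.ι).map φ))
      infer_instance
    exact (NatIso.isIso_map_iff (plbRestrictIso f V) φ).2 h1
  -- step (b)
  have hb : VIso (f ⁻¹ᵁ V) ((DCoh.tensorBi.obj M).map ((plb f).map φ)) :=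
    vIso_tensor (f ⁻¹ᵁ V) M _ ((vIso_iff_plb _ _).2 ha)
  -- step (c)
  unfold VIso at hb ⊢
  haveI := hb
  have hc : IsIso ((Scheme.Modules.restrictFunctor (f ⁻¹ᵁ V).ι ⋙
      Scheme.Modules.pushforward (f ∣_ V)).map ((DCoh.tensorBi.obj M).map ((plb f).map φ))) := by
    change IsIso ((Scheme.Modules.pushforward (f ∣_ V)).map
      ((Scheme.Modules.restrictFunctor (f ⁻¹ᵁ V).ι).map
        ((DCoh.tensorBi.obj M).map ((plb f).map φ))))
    infer_instance
  exact (NatIso.isIso_map_iff (baseChangeIso f V) _).2 hc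

/-- invertibility of the projection map over `V` only depends on the second variable up to
morphisms invertible over `V` -/
lemma vIso_proj_iff {N N' : Y.Modules} (φ : N ⟶ N') (h : VIso V φ) :
    VIso V (proj f M N) ↔ VIso V (proj f M N') := by
  have h1 : VIso V ((G1 f M).map φ) := vIso_tensor V _ φ h
  have h2 : VIso V ((G2 f M).map φ) := vIso_G2 f M V φ h
  have hn : (G1 f M).map φ ≫ proj f M N' = proj f M N ≫ (G2 f M).map φ :=
    proj_naturality_right f M φ
  have hn' : (Scheme.Modules.restrictFunctor V.ι).map ((G1 f M).map φ) ≫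
      (Scheme.Modules.restrictFunctor V.ι).map (proj f M N') =
      (Scheme.Modules.restrictFunctor V.ι).map (proj f M N) ≫
      (Scheme.Modules.restrictFunctor V.ι).map ((G2 f M).map φ) := by
    rw [← Functor.map_comp, ← Functor.map_comp, hn]
  unfold VIso at *
  constructor
  · intro h3
    have h4 : IsIso ((Scheme.Modules.restrictFunctor V.ι).map ((G1 f M).map φ) ≫
        (Scheme.Modules.restrictFunctor V.ι).map (proj f M N')) := by
      rw [hn']; exact IsIso.comp_isIso' h3 h2
    exact @IsIso.of_isIso_comp_left _ _ _ _ _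
      ((Scheme.Modules.restrictFunctor V.ι).map ((G1 f M).map φ))
      ((Scheme.Modules.restrictFunctor V.ι).map (proj f M N')) h1 h4
  · intro h3
    have h4 : IsIso ((Scheme.Modules.restrictFunctor V.ι).map (proj f M N) ≫
        (Scheme.Modules.restrictFunctor V.ι).map ((G2 f M).map φ)) := by
      rw [← hn']; exact IsIso.comp_isIso' h1 h3
    exact @IsIso.of_isIso_comp_right _ _ _ _ _
      ((Scheme.Modules.restrictFunctor V.ι).map (proj f M N))
      ((Scheme.Modules.restrictFunctor V.ι).map ((G2 f M).map φ)) h2 h4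

/-- the counit `j_! j^* K ⟶ K` is invertible over `V` -/
lemma vIso_counit (K : Y.Modules) : VIso V ((CxOX.extZeroAdj V.ι).counit.app K) :=
  Groth.Agent.R2.H28.ExtZeroMono.isIso_restrict_counit V K

/-- the local projection formula for modules free over an open -/
theorem vIso_proj_of_free (L : Y.Modules) (n : ℕ)
    (e : (Scheme.Modules.restrictFunctor V.ι).obj L ≅ FlatMod.freeMod (V : Scheme.{u}) n) :
    VIso V (proj f M L) := by
  -- `L ⟵ j_! j^* L`
  refine (vIso_proj_iff f M V ((CxOX.extZeroAdj V.ι).counit.app L) (vIso_counit V L)).1 ?_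
  -- `j_! j^* L ≅ j_! O_V^n ≅ j_! j^* O_Y^n`
  let e' : (Scheme.Modules.restrictFunctor V.ι).obj L ≅
      (Scheme.Modules.restrictFunctor V.ι).obj (FlatMod.freeMod Y n) :=
    e ≪≫ (Groth.Agent.Lib.Helper20.LocFree.restrictFreeMod V.ι n).symm
  refine (vIso_proj_iff f M V ((CxOX.extZero V.ι).map e'.hom) (vIso_of_isIso V _)).2 ?_
  -- `j_! j^* O_Y^n ⟶ O_Y^n`
  refine (vIso_proj_iff f M V ((CxOX.extZeroAdj V.ι).counit.app (FlatMod.freeMod Y n))
    (vIso_counit V (FlatMod.freeMod Y n))).2 ?_
  exact @vIso_of_isIso Y V _ _ (proj f M (FlatMod.freeMod Y n)) (isIso_proj_freeMod f M n)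

end VIso

open Groth.Agent.R2.H27.ProjPerfSpec in
theorem pkg7 : Pkg7.{u} := by
  intro X Y f V M L n ⟨e⟩
  exact vIso_proj_of_free f M V L n e

end Groth.Agent.R2.H28.ProjPkg7
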