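import Groth.Agent.R2.H28GlueTwo
import Groth.Agent.S6508

/-!
# `RΓ_Z` on K-injective complexes, `Rj_*` for open immersions (helper28)
-/

set_option autoImplicit false
set_option linter.style.haveILetI false
universe w v u
open CategoryTheory CategoryTheory.Limits AlgebraicGeometry TopologicalSpace Opposite ZeroObject

namespace Groth.Agent.R2.H28.RGammaZ

open Groth.Agent.Lib.Helper1.Sky Groth.Agent.Lib.Helper1.StalkTensor
  Groth.Agent.R2.H28.DerBase Groth.Agent.R2.H28.Support Groth.Agent.R2.H28.GlueTwo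
  Groth.Agent.Lib.Helper17.KInj CategoryTheory.Pretriangulated

attribute [local instance] HasDerivedCategory.standard

section ExtZeroGeneral

variable {X Y : Scheme.{u}}

/-- restriction along an isomorphism of schemes is an equivalence -/
noncomputable def restrictEquiv (e : X ≅ Y) : X.Modules ≌ Y.Modules :=
  CategoryTheory.Equivalence.mk (Scheme.Modules.restrictFunctor e.inv) (Scheme.Modules.restrictFunctor e.hom)
    (Scheme.Modules.restrictFunctorId.symm ≪≫
      Scheme.Modules.restrictFunctorCongr (e.hom_inv_id).symm ≪≫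
      Scheme.Modules.restrictFunctorComp e.hom e.inv)
    ((Scheme.Modules.restrictFunctorComp e.inv e.hom).symm ≪≫
      Scheme.Modules.restrictFunctorCongr (e.inv_hom_id) ≪≫
      Scheme.Modules.restrictFunctorId)

/-- extension by zero along an isomorphism is restriction along the inverse -/
noncomputable def extZeroIsoOfIso (e : X ≅ Y) :
    CxOX.extZero e.hom ≅ Scheme.Modules.restrictFunctor e.inv :=
  (CxOX.extZeroAdj e.hom).leftAdjointUniq (restrictEquiv e).toAdjunction

/-- extension by zero along any open immersion is exact -/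
theorem pfl_extZero' (j : X ⟶ Y) [IsOpenImmersion j] : PreservesFiniteLimits (CxOX.extZero j) := by
  let e := j.isoOpensRange
  let V := j.opensRange
  haveI h1 : PreservesFiniteLimits (CxOX.extZero e.hom) :=
    preservesFiniteLimits_of_natIso (extZeroIsoOfIso e).symm
  haveI h2 : PreservesFiniteLimits (CxOX.extZero V.ι) := pfl_extZero V
  let φ : Scheme.Modules.restrictFunctor j ≅
      Scheme.Modules.restrictFunctor V.ι ⋙ Scheme.Modules.restrictFunctor e.hom :=
    Scheme.Modules.restrictFunctorCongr (j.isoOpensRange_hom_ι).symm ≪≫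
      Scheme.Modules.restrictFunctorComp e.hom V.ι
  let adjC := ((CxOX.extZeroAdj e.hom).comp (CxOX.extZeroAdj V.ι)).ofNatIsoRight φ.symm
  exact preservesFiniteLimits_of_natIso ((CxOX.extZeroAdj j).leftAdjointUniq adjC).symm

/-- the adjoint triple `j_! ⊣ j^* ⊣ j_*` -/
noncomputable def triple' (j : X ⟶ Y) [IsOpenImmersion j] :
    Adjunction.Triple (CxOX.extZero j) (Scheme.Modules.restrictFunctor j)
      (Scheme.Modules.pushforward j) where
  adj₁ := CxOX.extZeroAdj j
  adj₂ := Scheme.Modules.restrictAdjunction j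

instance isIso_unit_extZeroAdj' (j : X ⟶ Y) [IsOpenImmersion j] : IsIso (CxOX.extZeroAdj j).unit :=
  (triple' j).isIso_unit_iff_isIso_counit.2
    (inferInstanceAs (IsIso (Scheme.Modules.restrictAdjunction j).counit))

/-- the derived adjunction `j_! ⊣ j^*` for a general open immersion -/
noncomputable def adjD' (j : X ⟶ Y) [IsOpenImmersion j] [PreservesFiniteLimits (CxOX.extZero j)] :
    CxOX.extZeroD j ⊣ DCoh.restrictD j :=
  Groth.Agent.Lib.Helper17.ExactAdj.mapDerivedCategoryAdjunction (CxOX.extZero j)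
    (Scheme.Modules.restrictFunctor j) (CxOX.extZeroAdj j)

instance isIso_unit_adjD' (j : X ⟶ Y) [IsOpenImmersion j]
    [PreservesFiniteLimits (CxOX.extZero j)] : IsIso (adjD' j).unit :=
  isIso_unit_mapDerivedCategoryAdjunction _ _ _

/-- the counit of any adjunction `j^* ⊣ Rj_*` is invertible (`Rj_*` is fully faithful) -/
theorem isIso_counit_of_adj (j : X ⟶ Y) [IsOpenImmersion j] [DCoh.HasRpush j]
    (adj : DCoh.restrictD j ⊣ DCoh.Rpush j) : IsIso adj.counit := by
  haveI := pfl_extZero' j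
  let t : Adjunction.Triple (CxOX.extZeroD j) (DCoh.restrictD j) (DCoh.Rpush j) :=
    { adj₁ := adjD' j, adj₂ := adj }
  exact t.isIso_unit_iff_isIso_counit.1 (isIso_unit_adjD' j)

/-- the unit of any adjunction `j^* ⊣ Rj_*` is invertible on the essential image of `Rj_*` -/
theorem isIso_unit_app_of_iso (j : X ⟶ Y) [IsOpenImmersion j] [DCoh.HasRpush j]
    (adj : DCoh.restrictD j ⊣ DCoh.Rpush j) (G : DCoh.D Y) (N : DCoh.D X)
    (e : G ≅ (DCoh.Rpush j).obj N) : IsIso (adj.unit.app G) := by
  haveI := isIso_counit_of_adj j adj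
  have h1 : IsIso (adj.unit.app ((DCoh.Rpush j).obj N)) := by
    have h := adj.right_triangle_components N
    haveI : IsIso (adj.unit.app ((DCoh.Rpush j).obj N) ≫
        (DCoh.Rpush j).map (adj.counit.app N)) := by
      rw [h]
      exact IsIso.id _
    exact IsIso.of_isIso_comp_right _ ((DCoh.Rpush j).map (adj.counit.app N))
  have hnat := adj.unit.naturality e.hom
  have h2 : adj.unit.app G = e.hom ≫ adj.unit.app ((DCoh.Rpush j).obj N) ≫
      (DCoh.restrictD j ⋙ DCoh.Rpush j).map e.inv := by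
    have := adj.unit.naturality e.inv
    simp only [Functor.id_obj, Functor.id_map] at this
    rw [← this, Iso.hom_inv_id_assoc]
  rw [h2]
  infer_instance

end ExtZeroGeneral

section RGZ

variable {U X : Scheme.{u}} (j : U ⟶ X) [IsOpenImmersion j]

/-- the unit of `RΓ_Z` at the level of complexes -/
noncomputable def unitZ [CxOX.HasRgammaZ j] :
    (DCoh.gammaZ j).mapHomologicalComplex (ComplexShape.up ℤ) ⋙ DerivedCategory.Q ⟶
      DerivedCategory.Q ⋙ CxOX.RgammaZ j :=
  unitOfK (DCoh.gammaZ j) (CxOX.RgammaZ j)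
    ((CxOX.gammaZKh j).totalRightDerivedUnit DerivedCategory.Qh
      (HomotopyCategory.quasiIso X.Modules (ComplexShape.up ℤ)))

instance isRightDerivedFunctor_unitZ [CxOX.HasRgammaZ j] :
    (CxOX.RgammaZ j).IsRightDerivedFunctor (unitZ j)
      (HomologicalComplex.quasiIso X.Modules (ComplexShape.up ℤ)) :=
  isRightDerivedFunctor_unitOfK _ _ _

/-- `RΓ_Z` on a K-injective complex is computed termwise -/
noncomputable def rgammaZIso [CxOX.HasRgammaZ j] (I : CochainComplex X.Modules ℤ)
    [I.IsKInjective] :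
    DerivedCategory.Q.obj
        (((DCoh.gammaZ j).mapHomologicalComplex (ComplexShape.up ℤ)).obj I) ≅
      (CxOX.RgammaZ j).obj (DerivedCategory.Q.obj I) :=
  haveI := isIso_app_of_isKInjective (DCoh.gammaZ j) (CxOX.RgammaZ j) (unitZ j) I
  asIso ((unitZ j).app I)

/-- `Γ_Z(M)` restricts to zero on the open complement of `Z` -/
lemma isZero_restrict_gammaZ (M : X.Modules) :
    IsZero ((Scheme.Modules.restrictFunctor j).obj ((DCoh.gammaZ j).obj M)) := by
  let η := (Scheme.Modules.restrictAdjunction j).unit.app M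
  have e : (Scheme.Modules.restrictFunctor j).obj (kernel η) ≅
      kernel ((Scheme.Modules.restrictFunctor j).map η) :=
    PreservesKernel.iso (Scheme.Modules.restrictFunctor j) η
  haveI : Mono ((Scheme.Modules.restrictFunctor j).map η) := by
    have h := (Scheme.Modules.restrictAdjunction j).left_triangle_components M
    exact mono_of_mono_fac h
  exact IsZero.of_iso (isZero_kernel_of_mono _) e

/-- a complex all of whose terms vanish is zero -/
lemma isZero_of_forall_isZero_X {C : Type*} [Category C] [Preadditive C]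
    (K : CochainComplex C ℤ) (h : ∀ n, IsZero (K.X n)) : IsZero K := by
  rw [IsZero.iff_id_eq_zero]
  ext n
  exact (h n).eq_of_src _ _

/-- `RΓ_Z(G)` restricts to zero on the open complement of `Z` -/
lemma isZero_restrictD_rgammaZ [CxOX.HasRgammaZ j] (G : DCoh.D X) :
    IsZero ((DCoh.restrictD j).obj ((CxOX.RgammaZ j).obj G)) := by
  obtain ⟨I, hI, -, ⟨eI⟩⟩ := Groth.Agent.R2.H28.MVScheme.exists_resolution G
  haveI := hI
  have e : (DCoh.restrictD j).obj ((CxOX.RgammaZ j).obj G) ≅
      DerivedCategory.Q.obj (((Scheme.Modules.restrictFunctor j).mapHomologicalComplex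
        (ComplexShape.up ℤ)).obj (((DCoh.gammaZ j).mapHomologicalComplex
          (ComplexShape.up ℤ)).obj I)) :=
    (DCoh.restrictD j).mapIso ((CxOX.RgammaZ j).mapIso eI.symm ≪≫ (rgammaZIso j I).symm) ≪≫
      (Scheme.Modules.restrictFunctor j).mapDerivedCategoryFactors.app _
  refine IsZero.of_iso (DerivedCategory.Q.map_isZero ?_) e
  exact isZero_of_forall_isZero_X _ (fun n => isZero_restrict_gammaZ j (I.X n))

end RGZ

section Supp

variable {X : Scheme.{u}}

/-- if `E|_W = 0` then the cohomology sheaves of `E` are supported off `W` -/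
lemma support_subset_of_isZero_restrictD (W : X.Opens) (E : DCoh.D X)
    (h : IsZero ((DCoh.restrictD W.ι).obj E)) (i : ℤ) :
    CohB1.support (DCoh.HD E i) ⊆ ((W : Set X))ᶜ := by
  intro x hx hxW
  apply hx
  have hz : IsZero ((Scheme.Modules.restrictFunctor W.ι).obj (DCoh.HD E i)) :=
    IsZero.of_iso ((DerivedCategory.homologyFunctor _ i).map_isZero h)
      (Groth.Agent.Lib.Helper17.AdjWay.homologyIso
        (Scheme.Modules.restrictFunctor W.ι) E i).symm
  let y : (W : Scheme.{u}) := ⟨x, hxW⟩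
  have e := (Scheme.Modules.restrictStalkNatIso W.ι y).app (DCoh.HD E i)
  have hs : Subsingleton (((Scheme.Modules.restrictFunctor W.ι).obj
      (DCoh.HD E i)).presheaf.stalk y) :=
    ModuleCat.subsingleton_of_isZero ((stalkFun y).map_isZero hz)
  exact @Equiv.subsingleton _ _ (e.symm.addCommGroupIsoToAddEquiv.toEquiv) hs

end Supp

section Transport

variable {X Y : Scheme.{u}}

/-- `Rj_*` for a composite of open immersions, on objects -/
lemma exists_rpush_comp_iso {Z : Scheme.{u}} (a : X ⟶ Y) (b : Y ⟶ Z) (c : X ⟶ Z)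
    [IsOpenImmersion a] [DCoh.HasRpush a] [DCoh.HasRpush b] [DCoh.HasRpush c] (h : a ≫ b = c)
    (N : DCoh.D X) :
    Nonempty ((DCoh.Rpush b).obj ((DCoh.Rpush a).obj N) ≅ (DCoh.Rpush c).obj N) := by
  obtain ⟨I, hI, -, ⟨eI⟩⟩ := Groth.Agent.R2.H28.MVScheme.exists_resolution N
  haveI := hI
  haveI := isKInjective_pushforward_open a I
  let φ : Scheme.Modules.pushforward a ⋙ Scheme.Modules.pushforward b ≅
      Scheme.Modules.pushforward c :=
    Scheme.Modules.pushforwardComp a b ≪≫ Scheme.Modules.pushforwardCongr h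
  let θ : ((Scheme.Modules.pushforward b).mapHomologicalComplex (ComplexShape.up ℤ)).obj
      (((Scheme.Modules.pushforward a).mapHomologicalComplex (ComplexShape.up ℤ)).obj I) ≅
      ((Scheme.Modules.pushforward c).mapHomologicalComplex (ComplexShape.up ℤ)).obj I :=
    ((compCxIso (Scheme.Modules.pushforward a) (Scheme.Modules.pushforward b)).app I).symm ≪≫
      (NatIso.mapHomologicalComplex φ (ComplexShape.up ℤ)).app I
  exact ⟨(DCoh.Rpush b).mapIso ((DCoh.Rpush a).mapIso eI.symm ≪≫ (rpushIso a I).symm) ≪≫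
    (rpushIso b _).symm ≪≫ DerivedCategory.Q.mapIso θ ≪≫ rpushIso c I ≪≫
    (DCoh.Rpush c).mapIso eI⟩

/-- the essential image of `R(ι_{j(X)})_*` is contained in that of `Rj_*` -/
lemma exists_rpush_iso_of_opensRange (j : X ⟶ Y) [IsOpenImmersion j] [DCoh.HasRpush j]
    [DCoh.HasRpush j.opensRange.ι] (N' : DCoh.D (j.opensRange : Scheme.{u})) :
    ∃ N : DCoh.D X, Nonempty ((DCoh.Rpush j.opensRange.ι).obj N' ≅ (DCoh.Rpush j).obj N) := by
  haveI := Groth.Agent.R2.H28.HasRpush.hasRpush j.isoOpensRange.inv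
  obtain ⟨e⟩ := exists_rpush_comp_iso j.isoOpensRange.inv j j.opensRange.ι
    (j.isoOpensRange_inv_comp) N'
  exact ⟨(DCoh.Rpush j.isoOpensRange.inv).obj N', ⟨e.symm⟩⟩

end Transport

section Main68

variable {X Xbar : Scheme.{u}}

/-- an object whose cohomology is supported on a closed subset contained in `j(X)` lies in the
essential image of `Rj_*` -/
lemma exists_iso_rpush_of_support (j : X ⟶ Xbar) [IsOpenImmersion j] [DCoh.HasRpush j]
    (T : Set Xbar) (hT : IsClosed T) (hTj : T ⊆ Set.range j.base) (E : DCoh.D Xbar)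
    (hE : ∀ i : ℤ, CohB1.support (DCoh.HD E i) ⊆ T) :
    ∃ N : DCoh.D X, Nonempty (E ≅ (DCoh.Rpush j).obj N) := by
  haveI := Groth.Agent.R2.H28.HasRpush.hasRpush j.opensRange.ι
  obtain ⟨e1⟩ := iso_rpush_restrict_of_support j.opensRange T hT
    (hTj.trans (by rw [Scheme.Hom.coe_opensRange])) E hE
  obtain ⟨N, ⟨e2⟩⟩ := exists_rpush_iso_of_opensRange j ((DCoh.restrictD j.opensRange.ι).obj E)
  exact ⟨N, ⟨e1 ≪≫ e2⟩⟩

/-- the unit `RΓ_{Z̄}(G) ⟶ Rj_* j^* RΓ_{Z̄}(G)` is invertible when `Z̄ ⊆ j(X)` -/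
theorem isIso_unit_rgammaZ (j : X ⟶ Xbar) [IsOpenImmersion j] (W : Xbar.Opens)
    (hW : ((W : Set Xbar))ᶜ ⊆ Set.range j.base) [DCoh.HasRpush j] [CxOX.HasRgammaZ W.ι]
    (adj : DCoh.restrictD j ⊣ DCoh.Rpush j) (G : DCoh.D Xbar) :
    IsIso (adj.unit.app ((CxOX.RgammaZ W.ι).obj G)) := by
  have hz : IsZero ((DCoh.restrictD W.ι).obj ((CxOX.RgammaZ W.ι).obj G)) :=
    isZero_restrictD_rgammaZ W.ι G
  obtain ⟨N, ⟨e⟩⟩ := exists_iso_rpush_of_support j ((W : Set Xbar))ᶜ W.isOpen.isClosed_compl hW
    ((CxOX.RgammaZ W.ι).obj G) (support_subset_of_isZero_restrictD W _ hz)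
  exact isIso_unit_app_of_iso j adj _ N e

end Main68

end Groth.Agent.R2.H28.RGammaZ
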