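import Groth.Agent.R2.H28OpenBC
import Groth.Agent.R2.H28RGammaZ
import Groth.Agent.Lib.Helper21DerPost
import Groth.Agent.Lib.Helper23DerComp
import Groth.Prelude.Def_Coh

/-!
# Higher direct images of `O`-modules commute with restriction to opens (helper28)

`(R^p f_* M)|_V ≅ R^p (f|_V)_* (M|_{f⁻¹ V})`, naturally in `M`.
-/

set_option autoImplicit false
set_option linter.style.haveILetI false
universe u
open CategoryTheory CategoryTheory.Limits AlgebraicGeometry TopologicalSpace Opposite

namespace Groth.Agent.R2.H28.RpushRestrict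

open Groth.Agent.R2.H28.DerBase Groth.Agent.R2.H28.OpenBC Groth.Agent.R2.H28.RGammaZ

variable {X Y : Scheme.{u}}

/-- `O_X`-modules have injective resolutions -/
instance hasInjectiveResolutions_modules (X : Scheme.{u}) : HasInjectiveResolutions X.Modules :=
  inferInstance

/-- restriction along an open immersion preserves injective objects -/
instance preservesInjectiveObjects_restrictFunctor {U : Scheme.{u}} (j : U ⟶ X)
    [IsOpenImmersion j] : (Scheme.Modules.restrictFunctor j).PreservesInjectiveObjects := by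
  haveI := pfl_extZero' j
  haveI : (CxOX.extZero j).PreservesMonomorphisms := inferInstance
  exact Functor.preservesInjectiveObjects_of_adjunction_of_preservesMonomorphisms
    (CxOX.extZeroAdj j)

/-- `(R^p f_* -)|_V ≅ R^p (f|_V)_* (-|_{f⁻¹ V})` -/
noncomputable def rpushRestrictIso (f : X ⟶ Y) (V : Y.Opens) (p : ℕ) :
    Coh.Rpush f p ⋙ Scheme.Modules.restrictFunctor V.ι ≅
      Scheme.Modules.restrictFunctor (f ⁻¹ᵁ V).ι ⋙ Coh.Rpush (f ∣_ V) p :=
  (Groth.Agent.Lib.Helper21.DerPost.postIso (Scheme.Modules.pushforward f)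
      (Scheme.Modules.restrictFunctor V.ι) p).symm ≪≫
    Groth.Agent.Lib.Helper21.DerPost.natIsoRightDerived (baseChangeIso f V) p ≪≫
    Groth.Agent.Lib.Helper23DerComp.compIso (Scheme.Modules.restrictFunctor (f ⁻¹ᵁ V).ι)
      (Scheme.Modules.pushforward (f ∣_ V)) p

end Groth.Agent.R2.H28.RpushRestrict
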