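import Mathlib
import Groth.Agent.R2.H28ProjPkg7
import Groth.Agent.Lib.Helper23ModLocal
import Groth.Agent.Lib.Helper21Dual12
import Groth.Agent.Lib.Helper21Dual9
import Groth.Agent.Lib.Helper21DerAcyc
import Groth.Agent.Lib.Helper21DerPost
import Groth.Agent.Lib.Helper1Sky9
import Groth.Prelude.Def_Coh
import Groth.Agent.R2.H28RpushRestrict
set_option backward.isDefEq.respectTransparency.types false

/-!
# The projection formula for higher direct images and finite locally free modules (helper28)

`E ⊗ R^q f_* F ≅ R^q f_*(f^* E ⊗ F)` for `E` a finite locally free `O_Y`-module (S0927).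
-/

set_option autoImplicit false
set_option linter.style.haveILetI false
set_option linter.unusedSectionVars false
universe u
open CategoryTheory CategoryTheory.Limits AlgebraicGeometry TopologicalSpace Opposite
  MonoidalCategory TensorProduct

namespace Groth.Agent.R2.H28.ProjRq

open Groth.Agent.Lib.Helper1.PT Groth.Agent.Lib.Helper1.Sky Groth.Agent.Lib.Helper1.StalkTensor
  Groth.Agent.Lib.Helper21.ModTensor2 Groth.Agent.Lib.Helper1.KBC
  Groth.Agent.R2.H27.ProjClosed Groth.Agent.Lib.Helper23.PB Groth.Agent.R2.H28.ProjPkg1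
  Groth.Agent.R2.H28.ProjPkg7

variable {X Y : Scheme.{u}} (f : X ⟶ Y)

/-- the projection map is invertible when the module on the base is finite locally free -/
theorem isIso_proj_of_isFinLocFree (F : X.Modules) (E : Y.Modules) (hE : FlatMod.IsFinLocFree E) :
    IsIso (proj f F E) := by
  choose U n hU e using hE
  refine Groth.Agent.Lib.Helper23.ModLocal.isIso_of_isIso_restrict _
    (fun y : Y => ((U y : Y.Opens) : Scheme.{u})) (fun y => (U y).ι)
    (fun y => ⟨y, ⟨y, hU y⟩, rfl⟩) (fun y => ?_)
  obtain ⟨e'⟩ := e y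
  exact vIso_proj_of_free f F (U y) E (n y) e'

/-- `- ⊗ E` -/
noncomputable abbrev tRX {Z : Scheme.{u}} (E : Z.Modules) : Z.Modules ⥤ Z.Modules :=
  (DCoh.tensorBi (X := Z)).flip.obj E

/-- the projection formula as an isomorphism of functors -/
noncomputable def projIso (E : Y.Modules) (hE : FlatMod.IsFinLocFree E) :
    psh f ⋙ tRX E ≅ tRX ((plb f).obj E) ⋙ psh f :=
  NatIso.ofComponents
    (fun F => @asIso _ _ _ _ (proj f F E) (isIso_proj_of_isFinLocFree f F E hE))
    (fun {F F'} g => proj_naturality_left f g E)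

section Flat

open Groth.Agent.Lib.Helper21.Dual Groth.Agent.Lib.Helper21.ModTensor3
  Groth.Agent.Lib.Helper21.ModTensor5

variable {Z : Scheme.{u}} (E : Z.Modules) (hE : FlatMod.IsFinLocFree E)

include hE in
lemma modSite_isFlat : ModSite.IsFlat (O := Z.sheaf) E :=
  isFlat_of_isLocFF E (isLocFF_of_isFinLocFree E hE)

include hE in
lemma preservesFiniteLimits_tRX : PreservesFiniteLimits (tRX E) := (modSite_isFlat E hE).1

lemma preservesFiniteColimits_tRX : PreservesFiniteColimits (tRX E) :=
  tR_preservesFiniteColimits Z.sheaf E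

instance additive_tRX : (tRX E).Additive := tR_additive Z.sheaf E

include hE in
lemma injective_tRX_obj (I : Z.Modules) [hI : Injective I] : Injective ((tRX E).obj I) :=
  @injective_tR_obj _ _ _ Z.sheaf E (isLocFF_of_isFinLocFree E hE) I hI

end Flat

open Groth.Agent.Lib.Helper21.DerPost Groth.Agent.Lib.Helper21.DerAcyc
  Groth.Agent.R2.H28.RpushRestrict Groth.Agent.R2.H28.DerBase in
/-- the projection formula for higher direct images, tensor product on the right -/
theorem nonempty_tRX_rpush_iso (F : X.Modules) (E : Y.Modules) (hE : FlatMod.IsFinLocFree E)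
    (q : ℕ) :
    Nonempty ((tRX E).obj (((psh f).rightDerived q).obj F) ≅
      ((psh f).rightDerived q).obj ((tRX ((plb f).obj E)).obj F)) := by
  have hE' : FlatMod.IsFinLocFree ((plb f).obj E) :=
    Groth.Agent.Lib.Helper1.Sky.isFinLocFree_pullback f E hE
  haveI := preservesFiniteLimits_tRX E hE
  haveI := preservesFiniteColimits_tRX E
  haveI := preservesFiniteLimits_tRX _ hE'
  haveI := preservesFiniteColimits_tRX ((plb f).obj E)
  haveI : (tRX E).PreservesHomology := inferInstance
  haveI : (tRX ((plb f).obj E)).PreservesHomology := inferInstance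
  haveI : PreservesFiniteLimits (psh f) := by
    haveI : (psh f).IsRightAdjoint := (ppAdj f).isRightAdjoint
    infer_instance
  let e1 := (postIso (psh f) (tRX E) q).app F
  let e2 := (natIsoRightDerived (projIso f E hE) q).app F
  obtain ⟨e3⟩ := nonempty_rightDerived_comp_iso (tRX ((plb f).obj E)) (psh f)
    (fun I hI n hn => by
      haveI := hI
      haveI := injective_tRX_obj _ hE' I
      obtain ⟨n, rfl⟩ : ∃ k, n = k + 1 := ⟨n - 1, by omega⟩
      exact Functor.isZero_rightDerived_obj_injective_succ _ n _) F q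
  exact ⟨e1.symm ≪≫ e2 ≪≫ e3⟩

open Groth.Agent.Lib.Helper21.ModTensor5 in
/-- S0927: `E ⊗ R^q f_* F ≅ R^q f_*(f^* E ⊗ F)` for `E` finite locally free -/
theorem nonempty_tensorMod_rpush_iso [HasInjectiveResolutions X.Modules]
    (F : X.Modules) (E : Y.Modules) (hE : FlatMod.IsFinLocFree E) (q : ℕ) :
    Nonempty (CohB1.tensorMod E ((Coh.Rpush f q).obj F) ≅
      (Coh.Rpush f q).obj (CohB1.tensorMod ((Scheme.Modules.pullback f).obj E) F)) := by
  obtain ⟨e⟩ := nonempty_tRX_rpush_iso f F E hE q
  exact ⟨brdApp Y.sheaf E ((Coh.Rpush f q).obj F) ≪≫ e ≪≫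
    (Coh.Rpush f q).mapIso (brdApp X.sheaf F ((Scheme.Modules.pullback f).obj E))⟩

end Groth.Agent.R2.H28.ProjRq
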