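import Mathlib
import Groth.Agent.R2.H21HomDual2
import Groth.Agent.R2.H28ProjRq
set_option backward.isDefEq.respectTransparency.types false

/-!
# Pullback of duals of finite locally free modules (helper21)

* `pullDualIso g E hE : (- ⊗ E^∨) ⋙ g^* ≅ g^* ⋙ (- ⊗ (g^*E)^∨)` (from the projection formula, by uniqueness of
  adjoints).
* `sheafHomIso E hE : Hom(E, -) ≅ (- ⊗ E^∨)` for the abstract sheaf Hom `DCoh.sheafHom E`.
* `nonempty_fiberMod_iso`: `(G ⊗ F^∨)_y ≅ Hom(F_y, G_y)`.
-/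

set_option autoImplicit false
set_option linter.style.haveILetI false
universe u
open CategoryTheory CategoryTheory.Limits AlgebraicGeometry TopologicalSpace Opposite

namespace Groth.Agent.R2.H21.DualPull

open Groth.Agent.R2.H21.HomDual Groth.Agent.Lib.Helper1.PT
  Groth.Agent.Lib.Helper21.ModTensor3 Groth.Agent.Lib.Helper21.ModTensor5
  Groth.Agent.Lib.Helper21.Dual

variable {X' X : Scheme.{u}}

/-- `(- ⊗ E^∨) ⊣ (- ⊗ E)` for `E` finite locally free -/
noncomputable def dAdjSw (E : X.Modules) (hE : FlatMod.IsFinLocFree E) : tRX (dualMod E) ⊣ tRX E :=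
  dualAdjSw (O := X.sheaf) E (isLocFF_of_isFinLocFree E hE)

/-- pullback commutes with `- ⊗ E^∨` -/
noncomputable def pullDualIso (g : X' ⟶ X) (E : X.Modules) (hE : FlatMod.IsFinLocFree E) :
    tRX (dualMod E) ⋙ plb g ≅ plb g ⋙ tRX (dualMod ((plb g).obj E)) :=
  Adjunction.leftAdjointUniq ((dAdjSw E hE).comp (ppAdj g))
    (((ppAdj g).comp (dAdjSw ((plb g).obj E)
      (Groth.Agent.Lib.Helper1.Sky.isFinLocFree_pullback g E hE))).ofNatIsoRight
        (Groth.Agent.R2.H28.ProjRq.projIso g E hE).symm)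

/-- the abstract sheaf Hom out of a finite locally free module is `- ⊗ E^∨` -/
noncomputable def sheafHomIso (E : X.Modules) (hE : FlatMod.IsFinLocFree E) [DCoh.HasSheafHom E] :
    DCoh.sheafHom E ≅ tRX (dualMod E) :=
  Adjunction.rightAdjointUniq (DCoh.sheafHomAdj E)
    ((dAdj E hE).ofNatIsoLeft ((brd X.sheaf).app E).symm)

/-- `g^*(G ⊗ F^∨) ≅ Hom(g^*F, g^*G)` -/
noncomputable def pullTensorDualIso (g : X' ⟶ X) (F G : X.Modules) (hF : FlatMod.IsFinLocFree F)
    [DCoh.HasSheafHom ((plb g).obj F)] :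
    (plb g).obj ((tRX (dualMod F)).obj G) ≅ (DCoh.sheafHom ((plb g).obj F)).obj ((plb g).obj G) :=
  (pullDualIso g F hF).app G ≪≫
    ((sheafHomIso ((plb g).obj F)
      (Groth.Agent.Lib.Helper1.Sky.isFinLocFree_pullback g F hF)).app ((plb g).obj G)).symm

end Groth.Agent.R2.H21.DualPull
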