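import Mathlib
import Groth.Agent.R2.H64FFMain

/-!
# The kernel filtration of formal functions is `I`-good (helper21; on top of helper64/helper35's package F)

`good_filtration_of` : the frozen statement S4461 against finiteness of coherent cohomology: for `R_k` the kernel of
`H^p(X, M) → H^p(X, M/I^(k+1)M)` one has `R_(k+1) = I · R_k` for `k` large.
-/

set_option autoImplicit false
set_option linter.style.haveILetI false
universe u

open CategoryTheory CategoryTheory.Limits AlgebraicGeometry Opposite

namespace Groth.Agent.R2.H21.FFGood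

open Groth.Agent.R2.H64.FFGr Groth.Agent.R2.H64.FFSpec Groth.Agent.R2.H64.FFCore
  Groth.Agent.R2.H64.FFGrFin Groth.Agent.R2.H62.CohLES
open Groth.Agent.R2.H35.FFRees (HHmap_smulMod smul_HH_modPow_eq_zero reesStmt)

variable (A : Type u) [CommRing A] [IsNoetherianRing A] (I : Ideal A) (X : Scheme.{u})
  [X.Over (Spec (CommRingCat.of A))] [IsLocallyNoetherian X] [CompactSpace X]

theorem good_filtration_of
    (hfin : ∀ M : X.Modules, Coh.IsCoh M → ∀ q, Module.Finite A (Coh.HH X M q))
    (M : X.Modules) (hM : Coh.IsCoh M) (p : ℕ) :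
    ∃ k₀ : ℕ, ∀ k : ℕ, k₀ ≤ k →
      ((Formal.toHHmodPow I M p (k + 1)).ker : Set (Coh.HH X M p)) =
        ((I • Submodule.span A ((Formal.toHHmodPow I M p k).ker : Set (Coh.HH X M p)) :
          Submodule A (Coh.HH X M p)) : Set (Coh.HH X M p)) := by
  obtain ⟨r, a, ha⟩ := Submodule.fg_iff_exists_fin_generating_family.1
    (IsNoetherian.noetherian I)
  have hai : ∀ i, a i ∈ I := fun i => ha ▸ Submodule.subset_span ⟨i, rfl⟩
  obtain ⟨D, hcomm, hLF⟩ := reesStmt A X I r a ha M hM
  obtain ⟨d, hd⟩ := grFin A hfin r (D.sys hcomm) hLF p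
  -- kernels are ranges
  have hker : ∀ (k : ℕ) (x : Coh.HH X M p), x ∈ (Formal.toHHmodPow I M p k).ker ↔
      ∃ y, HHmap (kernel.ι (Formal.modPowπ I (k + 1) M)) p y = x := by
    intro k x
    exact (exact_f_g (powSC_shortExact I (k + 1) M) p) x
  have hmul : ∀ (i : Fin r) (n : ℕ) (y : Coh.HH X (powMod I n M) p),
      HHmap (kernel.ι (Formal.modPowπ I (n + 1) M)) p (HHmap (D.mul i n) p y) =
        a i • HHmap (kernel.ι (Formal.modPowπ I n M)) p y := by
    intro i n y
    rw [← HHmap_comp, D.mul_ι, HHmap_comp, HHmap_smulMod]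
  refine ⟨d, fun k hk => ?_⟩
  apply Set.eq_of_subset_of_subset
  · intro x hx
    obtain ⟨y, rfl⟩ := (hker (k + 1) x).1 hx
    have hy : y ∈ ⨆ i, (⊤ : Submodule A (Coh.HH X (powMod I (k + 1) M) p)).map
        (HHmapA A (D.mul i (k + 1)) p) := hd (k + 1) (by omega) Submodule.mem_top
    have key : ∀ z, z ∈ ⨆ i, (⊤ : Submodule A (Coh.HH X (powMod I (k + 1) M) p)).map
        (HHmapA A (D.mul i (k + 1)) p) →
        HHmapA A (kernel.ι (Formal.modPowπ I (k + 1 + 1) M)) p z ∈
          (I • Submodule.span A ((Formal.toHHmodPow I M p k).ker : Set (Coh.HH X M p)) :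
            Submodule A (Coh.HH X M p)) := by
      intro z hz
      induction hz using Submodule.iSup_induction' with
      | mem i z hz =>
        obtain ⟨w, -, rfl⟩ := hz
        change HHmap _ p (HHmap _ p w) ∈ _
        rw [hmul]
        exact Submodule.smul_mem_smul (hai i)
          (Submodule.subset_span ((hker k _).2 ⟨w, rfl⟩))
      | zero => rw [map_zero]; exact Submodule.zero_mem _
      | add y z _ _ hy hz => rw [map_add]; exact Submodule.add_mem _ hy hz
    exact key y hy
  · intro x hx
    -- the kernels are submodules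
    have hsub : ∀ k, Submodule.span A ((Formal.toHHmodPow I M p k).ker : Set (Coh.HH X M p)) ≤
        LinearMap.ker (HHmapA A (Formal.modPowπ I (k + 1) M) p) := by
      intro k
      rw [Submodule.span_le]
      intro x hx
      exact hx
    change x ∈ LinearMap.ker (HHmapA A (Formal.modPowπ I (k + 1 + 1) M) p)
    refine Submodule.smul_induction_on hx (fun c hc y hy => ?_)
      (fun y z hy hz => Submodule.add_mem _ hy hz)
    have hy' : HHmap (Formal.modPowπ I (k + 1) M) p y = 0 := hsub k hy
    rw [← ha] at hc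
    induction hc using Submodule.span_induction with
    | mem c hc =>
      obtain ⟨i, rfl⟩ := hc
      change HHmap (Formal.modPowπ I (k + 1 + 1) M) p (a i • y) = 0
      rw [← HHmap_smulMod, ← HHmap_comp, ← D.π_quotMul, HHmap_comp, hy', map_zero]
    | zero => rw [zero_smul]; exact Submodule.zero_mem _
    | add c c' _ _ hc hc' => rw [add_smul]; exact Submodule.add_mem _ hc hc'
    | smul b c _ hc => rw [smul_eq_mul, mul_smul]; exact Submodule.smul_mem _ b hc

end Groth.Agent.R2.H21.FFGood
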