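import Mathlib
import Groth.Agent.R2.H64FFMain
import Groth.Agent.R2.H35FFLim

/-!
# Formal functions relative to a class of coherent modules (helper21; a relativisation of helper64/helper35's
coh-core package F)

`C` is a class of modules closed under coherent subobjects and quotients (`SubQuot C`); the finiteness hypothesis
`hfin` is only asked for coherent modules in `C`.  The theorems `s0057_of`, `s0058_of`, `s0059_of`, `s0003_of` are the
statements of `Groth.Agent.R2.H64.FFMain` / `Groth.Agent.R2.H35.FFLim` for a coherent module `M` in `C`; the proofs are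
those of helper64 with the class threaded through the induction on the number of operators.
-/

set_option autoImplicit false
set_option linter.style.haveILetI false
universe u

open CategoryTheory CategoryTheory.Limits AlgebraicGeometry Opposite

namespace Groth.Agent.R2.H21.FFRel

open Groth.Agent.R2.H64.FFGr Groth.Agent.R2.H64.FFSpec Groth.Agent.R2.H64.FFCore
  Groth.Agent.R2.H64.FFGrFin Groth.Agent.R2.H62.CohLES
open Groth.Agent.R2.H35.FFRees (HHmap_smulMod smul_HH_modPow_eq_zero reesStmt)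

/-- a class of modules closed under coherent subobjects and coherent quotients -/
structure SubQuot {X : Scheme.{u}} (C : X.Modules → Prop) : Prop where
  sub : ∀ {K M : X.Modules} (ι : K ⟶ M) [Mono ι], Coh.IsCoh K → Coh.IsCoh M → C M → C K
  quot : ∀ {M Q : X.Modules} (π : M ⟶ Q) [Epi π], Coh.IsCoh M → Coh.IsCoh Q → C M → C Q

section step

variable {X : Scheme.{u}} (A : Type u) [CommRing A] [IsNoetherianRing A]
  [X.Over (Spec (CommRingCat.of A))] [IsLocallyNoetherian X] {C : X.Modules → Prop}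

/-- **Induction step** of the graded finiteness theorem. -/
theorem cohGen_step (hC : SubQuot C)
    (hfin : ∀ M : X.Modules, Coh.IsCoh M → C M → ∀ q, Module.Finite A (Coh.HH X M q))
    {r : ℕ} (IH : ∀ (ℋ : GrSys X r), LocFin ℋ → (∀ n, C (ℋ.G n)) → ∀ q, CohGen A ℋ q)
    (𝒢 : GrSys X (r + 1)) (h𝒢 : LocFin 𝒢) (hC𝒢 : ∀ n, C (𝒢.G n)) (q : ℕ) : CohGen A 𝒢 q := by
  have hLQ := locFin_Qsys 𝒢 h𝒢
  have hLK := locFin_Ksys 𝒢 h𝒢
  have hCQ : ∀ n, C ((Qsys 𝒢).G n) := fun n =>
    hC.quot (cokernel.π (tt 𝒢 n)) (h𝒢.coh (n + 1)) (hLQ.coh n) (hC𝒢 (n + 1))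
  have hCK : ∀ n, C ((Ksys 𝒢).G n) := fun n =>
    hC.sub (kernel.ι (tt 𝒢 n)) (hLK.coh n) (h𝒢.coh n) (hC𝒢 n)
  obtain ⟨dQ, hQ⟩ := IH (Qsys 𝒢) hLQ hCQ q
  obtain ⟨dK, hK⟩ := IH (Ksys 𝒢) hLK hCK (q + 1)
  obtain ⟨d, hd⟩ := exists_bound_of_step (A := A)
    (N := fun n => Coh.HH X (𝒢.G n) q) (NJ := fun n => Coh.HH X (JG 𝒢 n) q)
    (NQ := fun n => Coh.HH X (QG 𝒢 n) q) (NK := fun n => Coh.HH X (KG 𝒢 n) (q + 1))
    (fun i n => HHmapA A (TT 𝒢 i n) q) (fun i n => HHmapA A (JT 𝒢 i n) q)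
    (fun i n => HHmapA A (QT 𝒢 i n) q) (fun i n => HHmapA A (KT 𝒢 i n) (q + 1))
    (fun n => HHmapA A (Abelian.factorThruImage (tt 𝒢 n)) q)
    (fun n => HHmapA A (Abelian.image.ι (tt 𝒢 n)) q)
    (fun n => HHmapA A (cokernel.π (tt 𝒢 n)) q)
    (fun n => δA (S₁_shortExact 𝒢 n) A q)
    (fun n y hy => ((exact_f_g (S₂_shortExact 𝒢 n) q) y).1 hy)
    (fun n z hz => ((exact_g_δ (S₁_shortExact 𝒢 n) q) z).1 hz)
    (fun i n z => HHmap_square _ _ _ _ (JT_ι 𝒢 i n) q z)
    (fun i n y => HHmap_square _ _ _ _ (π_QT 𝒢 i n).symm q y)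
    (fun i n z => δ_naturality (S₁_shortExact 𝒢 n) (S₁_shortExact 𝒢 (n + 1)) (S₁hom 𝒢 i n) q z)
    (fun i k n x => HHmap_square _ _ _ _ ((Qsys 𝒢).comm k i n) q x)
    (fun i k n x => HHmap_square _ _ _ _ ((Ksys 𝒢).comm k i n) (q + 1) x)
    (fun n => hfin _ (hLQ.coh n) (hCQ n) q) (fun n => hfin _ (hLK.coh n) (hCK n) (q + 1))
    dQ hQ dK hK
  refine ⟨d, fun n hn y _ => ?_⟩
  have hy := hd n hn y
  have hle : (⨆ i : Fin r, LinearMap.range (HHmapA A (TT 𝒢 i n) q)) ⊔
      LinearMap.range ((HHmapA A (Abelian.image.ι (tt 𝒢 n)) q).comp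
        (HHmapA A (Abelian.factorThruImage (tt 𝒢 n)) q)) ≤
      ⨆ i : Fin (r + 1), (⊤ : Submodule A (Coh.HH X (𝒢.G n) q)).map (HHmapA A (𝒢.T i n) q) := by
    refine sup_le (iSup_le fun i => ?_) ?_
    · rw [← Submodule.map_top]
      exact le_iSup (fun i : Fin (r + 1) =>
        (⊤ : Submodule A (Coh.HH X (𝒢.G n) q)).map (HHmapA A (𝒢.T i n) q)) i.castSucc
    · rintro _ ⟨w, rfl⟩
      refine Submodule.mem_iSup_of_mem (Fin.last r) ⟨w, Submodule.mem_top, ?_⟩
      change HHmap (tt 𝒢 n) q w = HHmap _ q (HHmap _ q w)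
      rw [← HHmap_comp, Abelian.image.fac]
  exact hle hy

end step

section main

/-- the graded finiteness theorem, relative to the class `C` -/
theorem grFin {X : Scheme.{u}} (A : Type u) [CommRing A] [IsNoetherianRing A]
    [X.Over (Spec (CommRingCat.of A))] [IsLocallyNoetherian X] [CompactSpace X]
    {C : X.Modules → Prop} (hC : SubQuot C)
    (hfin : ∀ M : X.Modules, Coh.IsCoh M → C M → ∀ q, Module.Finite A (Coh.HH X M q)) :
    ∀ (r : ℕ) (𝒢 : GrSys X r), LocFin 𝒢 → (∀ n, C (𝒢.G n)) → ∀ q, CohGen A 𝒢 q := by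
  intro r
  induction r with
  | zero => exact fun 𝒢 h𝒢 _ q => cohGen_zero A 𝒢 h𝒢 q
  | succ r ih => exact fun 𝒢 h𝒢 hC𝒢 q => cohGen_step A hC hfin ih 𝒢 h𝒢 hC𝒢 q

end main

section ff

theorem C_powMod {A : Type u} [CommRing A] {X : Scheme.{u}} [X.Over (Spec (CommRingCat.of A))]
    {C : X.Modules → Prop} (hC : SubQuot C) (I : Ideal A) (n : ℕ) (M : X.Modules)
    (hM : Coh.IsCoh M) (hCM : C M) (hcoh : Coh.IsCoh (powMod I n M)) : C (powMod I n M) := by
  haveI : Mono (kernel.ι (Formal.modPowπ I n M)) := (powSC_shortExact I n M).mono_f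
  exact hC.sub (kernel.ι (Formal.modPowπ I n M)) hcoh hM hCM

variable (A : Type u) [CommRing A] [IsNoetherianRing A] (I : Ideal A) (X : Scheme.{u})
  [X.Over (Spec (CommRingCat.of A))] [IsLocallyNoetherian X] [CompactSpace X]
  {C : X.Modules → Prop}

/-- Generators of `I`, Rees data and bounded generation of the cohomology of the Rees system. -/
theorem exists_reesData_cohGen
    (hC : SubQuot C)
    (hfin : ∀ M : X.Modules, Coh.IsCoh M → C M → ∀ q, Module.Finite A (Coh.HH X M q))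
    (M : X.Modules) (hM : Coh.IsCoh M) (hCM : C M) :
    ∃ (r : ℕ) (a : Fin r → A) (_ : ∀ i, a i ∈ I) (D : ReesData I a M)
      (_ : ∀ i j n, D.mul i n ≫ D.mul j (n + 1) = D.mul j n ≫ D.mul i (n + 1))
      (_ : ∀ n, Coh.IsCoh (powMod I n M)),
      ∀ q, ∃ d, GenFrom (A := A) (N := fun n => Coh.HH X (powMod I n M) q)
        (fun i n => HHmapA A (D.mul i n) q) (fun _ => ⊤) d := by
  obtain ⟨r, a, ha⟩ := Submodule.fg_iff_exists_fin_generating_family.1
    (IsNoetherian.noetherian I)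
  have hai : ∀ i, a i ∈ I := fun i => ha ▸ Submodule.subset_span ⟨i, rfl⟩
  obtain ⟨D, hcomm, hLF⟩ := reesStmt A X I r a ha M hM
  exact ⟨r, a, hai, D, hcomm, hLF.coh, fun q => grFin A hC hfin r (D.sys hcomm) hLF
    (fun n => C_powMod hC I n M hM hCM (hLF.coh n)) q⟩

/-- **S0057 against S0002.** -/
theorem s0057_of (hC : SubQuot C)
    (hfin : ∀ M : X.Modules, Coh.IsCoh M → C M → ∀ q, Module.Finite A (Coh.HH X M q))
    (M : X.Modules) (hM : Coh.IsCoh M) (hCM : C M) (p : ℕ) :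
    ∃ c : ℕ, ∀ n : ℕ, c ≤ n →
      ((Formal.toHHmodPow I M p n).ker : Set (Coh.HH X M p)) ⊆
        ((I ^ (n - c) • (⊤ : Submodule A (Coh.HH X M p)) : Submodule A (Coh.HH X M p)) :
          Set (Coh.HH X M p)) := by
  obtain ⟨r, a, hai, D, -, -, hgen⟩ := exists_reesData_cohGen A I X hC hfin M hM hCM
  obtain ⟨d, hd⟩ := hgen p
  have key := range_le_pow_smul_top I a hai
    (fun n => HHmapA A (kernel.ι (Formal.modPowπ I n M)) p)
    (fun i n => HHmapA A (D.mul i n) p)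
    (fun i n x => by
      change HHmap (kernel.ι (Formal.modPowπ I (n + 1) M)) p (HHmap (D.mul i n) p x) =
        a i • HHmap (kernel.ι (Formal.modPowπ I n M)) p x
      rw [← HHmap_comp, D.mul_ι, HHmap_comp, HHmap_smulMod]) d hd
  refine ⟨d, fun n hn x hx => ?_⟩
  have hx' : HHmap (Formal.modPowπ I (n + 1) M) p x = 0 := hx
  obtain ⟨y, hy⟩ := ((exact_f_g (powSC_shortExact I (n + 1) M) p) x).1 hx'
  have h1 : x ∈ I ^ (n + 1 - d) • (⊤ : Submodule A (Coh.HH X M p)) :=
    key (n + 1) (by omega) ⟨y, hy⟩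
  exact Submodule.smul_mono_left (Ideal.pow_le_pow_right (by omega)) h1

/-- **S0058 against S0002.** -/
theorem s0058_of (hC : SubQuot C)
    (hfin : ∀ M : X.Modules, Coh.IsCoh M → C M → ∀ q, Module.Finite A (Coh.HH X M q))
    (M : X.Modules) (hM : Coh.IsCoh M) (hCM : C M) (p : ℕ) :
    ∃ c : ℕ, ∀ (n k : ℕ) (h : n ≤ k), n + c ≤ k →
      Set.range (Sheaf.H.map ((SheafOfModules.toSheaf X.ringCatSheaf).map
        ((Formal.completion I M).map (homOfLE h).op)) p) =
        Set.range (Formal.toHHmodPow I M p n) := by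
  obtain ⟨r, a, hai, D, hcomm, hcoh, hgen⟩ := exists_reesData_cohGen A I X hC hfin M hM hCM
  obtain ⟨d, hd⟩ := hgen (p + 1)
  -- the morphism of short exact sequences giving naturality of `δ` in `n`
  let stp : ∀ n, powSC I (n + 1 + 1) M ⟶ powSC I (n + 1) M := fun n =>
    { τ₁ := D.incl (n + 1)
      τ₂ := 𝟙 M
      τ₃ := Formal.modPowTrans I (n + 1) M
      comm₁₂ := by
        change D.incl (n + 1) ≫ kernel.ι (Formal.modPowπ I (n + 1) M) =
          kernel.ι (Formal.modPowπ I (n + 1 + 1) M) ≫ 𝟙 M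
        rw [D.incl_ι, Category.comp_id]
      comm₂₃ := by
        change 𝟙 M ≫ Formal.modPowπ I (n + 1) M =
          Formal.modPowπ I (n + 1 + 1) M ≫ Formal.modPowTrans I (n + 1) M
        rw [Formal.modPowπ_trans, Category.id_comp] }
  obtain ⟨c, hc⟩ := exists_uniform_ML (A := A) I a
    (H := Coh.HH X M p) (H' := Coh.HH X M (p + 1))
    (HP := fun n => Coh.HH X (Formal.modPow I (n + 1) M) p)
    (HK := fun n => Coh.HH X (powMod I (n + 1) M) (p + 1)) hai
    (fun n => HHmapA A (Formal.modPowπ I (n + 1) M) p)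
    (fun n => HHmapA A (Formal.modPowTrans I (n + 1) M) p)
    (Groth.Agent.R2.H64.FFMain.Tr A I X M p)
    (fun n x => Groth.Agent.R2.H64.FFMain.Tr_refl A I X M p n x)
    (fun n k h h' x => Groth.Agent.R2.H64.FFMain.Tr_succ A I X M p n k h h' x)
    (fun n => δA (powSC_shortExact I (n + 1) M) A p)
    (fun n => HHmapA A (kernel.ι (Formal.modPowπ I (n + 1) M)) (p + 1))
    (fun n => HHmapA A (D.incl (n + 1)) (p + 1))
    (fun i n => HHmapA A (D.mul i (n + 1)) (p + 1))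
    (fun n x hx => ((exact_g_δ (powSC_shortExact I (n + 1) M) p) x).1 hx)
    (fun n x hx => ((exact_δ_f (powSC_shortExact I (n + 1) M) p) x).1 hx)
    (fun n x => δ_naturality (powSC_shortExact I (n + 1 + 1) M) (powSC_shortExact I (n + 1) M)
      (stp n) p x)
    (fun n y => (exact_δ_f (powSC_shortExact I (n + 1) M) p).apply_apply_eq_zero y)
    (fun n x => by
      change HHmap (kernel.ι (Formal.modPowπ I (n + 1) M)) (p + 1)
        (HHmap (D.incl (n + 1)) (p + 1) x) =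
        HHmap (kernel.ι (Formal.modPowπ I (n + 1 + 1) M)) (p + 1) x
      rw [← HHmap_comp, D.incl_ι])
    (fun i n x => by
      change HHmap (kernel.ι (Formal.modPowπ I (n + 1 + 1) M)) (p + 1)
        (HHmap (D.mul i (n + 1)) (p + 1) x) =
        a i • HHmap (kernel.ι (Formal.modPowπ I (n + 1) M)) (p + 1) x
      rw [← HHmap_comp, D.mul_ι, HHmap_comp, HHmap_smulMod])
    (fun i n x => by
      change HHmap (D.incl (n + 1)) (p + 1) (HHmap (D.mul i (n + 1)) (p + 1) x) = a i • x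
      rw [← HHmap_comp, D.mul_incl, HHmap_smulMod])
    1 (fun n r hr x => smul_HH_modPow_eq_zero I M p (n + 1) r hr x)
    (fun i k n x => by
      change HHmap (D.mul i (n + 1 + 1)) (p + 1) (HHmap (D.mul k (n + 1)) (p + 1) x) =
        HHmap (D.mul k (n + 1 + 1)) (p + 1) (HHmap (D.mul i (n + 1)) (p + 1) x)
      rw [← HHmap_comp, ← HHmap_comp, hcomm])
    (fun n => hfin _ (hcoh (n + 1))
      (C_powMod hC I (n + 1) M hM hCM (hcoh (n + 1))) (p + 1)) d (fun n hn => hd (n + 1) (by omega))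
  refine ⟨c, fun n k h hk => ?_⟩
  apply Set.eq_of_subset_of_subset
  · rintro _ ⟨x, rfl⟩
    obtain ⟨y, hy⟩ := hc n k h hk x
    exact ⟨y, hy⟩
  · rintro _ ⟨y, rfl⟩
    exact ⟨HHmapA A (Formal.modPowπ I (k + 1) M) p y, Groth.Agent.R2.H64.FFMain.Tr_π A I X M p n k h y⟩


end ff

end Groth.Agent.R2.H21.FFRel
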