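import Mathlib
import Groth.Prelude.Def_Formal
import Groth.Prelude.Def_ClSub2
import Groth.Agent.Lib.Helper18Ann2
import Groth.Agent.Lib.Helper20FormalPull
import Groth.Agent.Lib.Helper20PullbackAff
import Groth.Agent.S0787
import Groth.Agent.R2.H70EdgeLin
import Groth.Agent.R2.H62CohLES

/-!
# Cohomology of coherent modules with proper support (helper21)

* `finite_HH_of_properSupport` : for `X` locally of finite type over `Spec A` (`A` Noetherian) and `N` a coherent
  module whose support is proper over `Spec A`, the `A`-modules `H^q(X, N)` are finite — AGAINST the hypothesis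
  `hfin` = the conclusion of S0002 (finiteness of coherent cohomology of proper `A`-schemes).
-/

set_option autoImplicit false
universe u
open CategoryTheory Limits AlgebraicGeometry TopologicalSpace Opposite

namespace Groth.Agent.R2.H21.PropSupp

open Groth.Agent.R2.H62.CohLES Groth.Agent.R2.H70.Edge CohPull

/-- the conclusion of S0002 over `A` -/
def FinProper (A : Type u) [CommRing A] : Prop :=
  ∀ (W : Scheme.{u}) [W.Over (Spec (CommRingCat.of A))] [IsProper (W ↘ Spec (CommRingCat.of A))]
    (G : W.Modules), Coh.IsCoh G → ∀ n : ℕ, Module.Finite A (Coh.HH W G n)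

section semilinear

variable {X W : Scheme.{u}} (i : W ⟶ X)

variable (A : Type u) [CommRing A] [X.Over (Spec (CommRingCat.of A))]

/-- the edge map of an affine morphism as an `A`-linear equivalence -/
theorem toGlobal_comp (a : A) :
    Coh.toGlobal (i ≫ (X ↘ Spec (CommRingCat.of A))) a =
      i.appTop.hom (Coh.toGlobal (X ↘ Spec (CommRingCat.of A)) a) := by
  unfold Coh.toGlobal
  rw [Scheme.Hom.comp_appTop]
  rfl

end semilinear

theorem finite_HH_of_properSupport (A : Type u) [CommRing A] [IsNoetherianRing A]
    (hfin : FinProper A) (X : Scheme.{u}) [X.Over (Spec (CommRingCat.of A))]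
    [LocallyOfFiniteType (X ↘ Spec (CommRingCat.of A))]
    (N : X.Modules) (hN : Coh.IsCoh N)
    (hs : ClSub.IsProperOver (X ↘ Spec (CommRingCat.of A)) (CohB1.support N)) (q : ℕ) :
    Module.Finite A (Coh.HH X N q) := by
  have : N.IsQuasicoherent := hN.1
  have : SheafOfModules.IsFiniteType (R := X.ringCatSheaf) N := hN.2
  obtain ⟨J, -, hunit, -, hsupp⟩ := Groth.Agent.Helper18Ann.main_S9377 N hN.2
  have hcl : IsClosed (CohB1.support N) := hs.1
  have hrange : Set.range ⇑J.subschemeι = CohB1.support N := by
    rw [Scheme.IdealSheafData.range_subschemeι, hsupp]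
  have hprop : IsProper (J.subschemeι ≫ (X ↘ Spec (CommRingCat.of A))) :=
    ((Groth.Agent.S0787.result (X ↘ Spec (CommRingCat.of A)) (CohB1.support N) hcl).2.1
      hs) J.subscheme J.subschemeι inferInstance hrange
  -- the closed subscheme and the module on it
  let : J.subscheme.Over (Spec (CommRingCat.of A)) :=
    ⟨J.subschemeι ≫ (X ↘ Spec (CommRingCat.of A))⟩
  have : IsProper (J.subscheme ↘ Spec (CommRingCat.of A)) := hprop
  let G : J.subscheme.Modules := (Scheme.Modules.pullback J.subschemeι).obj N
  have hG : Coh.IsCoh G :=
    ⟨Groth.Agent.Lib.Helper20.PullbackAff.isQuasicoherent_pullback J.subschemeι N,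
      Groth.Agent.Lib.Helper20.FormalPull.isFiniteType_pullback J.subschemeι N⟩
  have hW : Module.Finite A (Coh.HH J.subscheme G q) := hfin J.subscheme G hG q
  have : Coh.IsQCoh G := hG.1
  -- the edge map is a semilinear bijection
  have hbij := pushEdge_bijective_of_isAffineHom J.subschemeι G q
  let e₁ : Coh.HH X ((Scheme.Modules.pushforward J.subschemeι).obj G) q ≃ₗ[A]
      Coh.HH J.subscheme G q :=
    LinearEquiv.ofBijective
      { toFun := pushEdge J.subschemeι G q
        map_add' := map_add _
        map_smul' := fun a x => by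
          change pushEdge J.subschemeι G q (a • x) = a • pushEdge J.subschemeι G q x
          rw [smulA_def, smulA_def, pushEdge_smul]
          exact congrArg (· • pushEdge J.subschemeι G q x)
            (toGlobal_comp J.subschemeι A a).symm } hbij
  -- transfer along the unit isomorphism
  let u : N ⟶ (Scheme.Modules.pushforward J.subschemeι).obj G :=
    (Scheme.Modules.pullbackPushforwardAdjunction J.subschemeι).unit.app N
  haveI : IsIso u := hunit
  have h1 : Module.Finite A (Coh.HH X ((Scheme.Modules.pushforward J.subschemeι).obj G) q) :=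
    Module.Finite.equiv e₁.symm
  refine Module.Finite.of_surjective (HHmapA A (inv u) q) ?_
  intro x
  refine ⟨HHmap u q x, ?_⟩
  rw [HHmapA_apply, ← HHmap_comp, IsIso.hom_inv_id, HHmap_id]

end Groth.Agent.R2.H21.PropSupp
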