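import Mathlib
import Groth.Agent.R2.H21FFRel
import Groth.Agent.R2.H21PropSupp
import Groth.Agent.S0796

/-!
# Formal functions for coherent modules with proper support (helper21)

`s4460_of`, `s4478_of` : the frozen statements S4460 / S4478 against `FinProper A` (= the conclusion of S0002 over `A`).
-/

set_option autoImplicit false
set_option linter.style.haveILetI false
universe u

open CategoryTheory CategoryTheory.Limits AlgebraicGeometry Opposite

namespace Groth.Agent.R2.H21.FFProp

open Groth.Agent.R2.H21.FFRel Groth.Agent.R2.H21.PropSupp Groth.Agent.R2.H64.FFGrFin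
  Groth.Agent.R2.H64.FFSpec

variable (A : Type u) [CommRing A] [IsNoetherianRing A] (X : Scheme.{u})
  [X.Over (Spec (CommRingCat.of A))] [LocallyOfFiniteType (X ↘ Spec (CommRingCat.of A))]

include A in
theorem isLocallyNoetherian : IsLocallyNoetherian X :=
  LocallyOfFiniteType.isLocallyNoetherian (X ↘ Spec (CommRingCat.of A))

/-- the class of modules with proper support is closed under coherent subobjects and quotients -/
theorem subQuot_properSupport :
    SubQuot (fun N : X.Modules =>
      ClSub.IsProperOver (X ↘ Spec (CommRingCat.of A)) (CohB1.support N)) := by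
  haveI := isLocallyNoetherian A X
  constructor
  · intro K M ι _ hK hM hCM
    let S : ShortComplex X.Modules := ShortComplex.mk ι (cokernel.π ι) (cokernel.condition ι)
    have hS : S.ShortExact :=
      { exact := ShortComplex.exact_cokernel ι
        mono_f := inferInstanceAs (Mono ι)
        epi_g := inferInstanceAs (Epi (cokernel.π ι)) }
    exact ((Groth.Agent.S0796.result (X ↘ Spec (CommRingCat.of A)) S hS hK hM
      (isCoh_cokernel hK hM ι)).1 hCM).1
  · intro M Q π _ hM hQ hCM
    let S : ShortComplex X.Modules := ShortComplex.mk (kernel.ι π) π (kernel.condition π)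
    have hS : S.ShortExact :=
      { exact := ShortComplex.exact_kernel π
        mono_f := inferInstanceAs (Mono (kernel.ι π))
        epi_g := inferInstanceAs (Epi π) }
    exact ((Groth.Agent.S0796.result (X ↘ Spec (CommRingCat.of A)) S hS
      (isCoh_kernel hM hQ π) hM hQ).1 hCM).2

variable [QuasiCompact (X ↘ Spec (CommRingCat.of A))]

omit [IsNoetherianRing A] [LocallyOfFiniteType (X ↘ Spec (CommRingCat.of A))] in
include A in
theorem compactSpace : CompactSpace X :=
  QuasiCompact.compactSpace_of_compactSpace (X ↘ Spec (CommRingCat.of A))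

/-- **S4460 against S0002.** -/
theorem s4460_of (hfin : FinProper A) (I : Ideal A) [IsAdicComplete I A]
    (M : X.Modules) (hM : Coh.IsCoh M)
    (hs : ClSub.IsProperOver (X ↘ Spec (CommRingCat.of A)) (CohB1.support M)) (p : ℕ) :
    Function.Bijective (Formal.toHHlim I M p) := by
  haveI := isLocallyNoetherian A X
  haveI := compactSpace A X
  have hC := subQuot_properSupport A X
  have hfinC : ∀ N : X.Modules, Coh.IsCoh N →
      ClSub.IsProperOver (X ↘ Spec (CommRingCat.of A)) (CohB1.support N) →
      ∀ q, Module.Finite A (Coh.HH X N q) :=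
    fun N hN hCN q => finite_HH_of_properSupport A hfin X N hN hCN q
  haveI := hfinC M hM hs p
  exact Groth.Agent.R2.H35.FFLim.s0003_of A I X M p
    (s0057_of A I X hC hfinC M hM hs p) (s0058_of A I X hC hfinC M hM hs p)

/-- **S4478 against S0002.** -/
theorem s4478_of (hfin : FinProper A) (I : Ideal A)
    (F : X.Modules) (hF : Coh.IsCoh F)
    (hs : ClSub.IsProperOver (X ↘ Spec (CommRingCat.of A)) (CohB1.support F)) (p : ℕ) :
    Nonempty (AdicCompletion I (Coh.HH X F p) ≃+ Formal.HHlim I F p) := by
  haveI := isLocallyNoetherian A X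
  haveI := compactSpace A X
  have hC := subQuot_properSupport A X
  have hfinC : ∀ N : X.Modules, Coh.IsCoh N →
      ClSub.IsProperOver (X ↘ Spec (CommRingCat.of A)) (CohB1.support N) →
      ∀ q, Module.Finite A (Coh.HH X N q) :=
    fun N hN hCN q => finite_HH_of_properSupport A hfin X N hN hCN q
  exact Groth.Agent.R2.H35.FFLim.s0059_of A I X F p
    (s0057_of A I X hC hfinC F hF hs p) (s0058_of A I X hC hfinC F hF hs p)

end Groth.Agent.R2.H21.FFProp
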