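import Mathlib

/-!
# A local criterion of injectivity (helper21)

* `exists_generators_of_ideal`: minimal generators of an ideal of a Noetherian local ring: relations between them
  have coefficients in the maximal ideal.
* `injective_of_injective_mod`: `A` Noetherian local, `N` flat over `A`, `φ : M → N` linear, injective modulo `𝔪`,
  `M` `𝔪`-adically separated ⇒ `φ` injective.
* `injective_of_injective_mod_of_local`: the same over a local `A`-algebra `O` (local homomorphism), `M` finite over
  the Noetherian local ring `O`.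
-/

open TensorProduct IsLocalRing CategoryTheory

universe u
set_option linter.style.haveILetI false
set_option autoImplicit false

namespace Groth.Agent.R2.H21.LocFlat

/-- generators of an ideal lifting a basis modulo `𝔪`: a relation between them has coefficients in `𝔪` -/
theorem exists_generators_of_ideal (A : Type u) [CommRing A] [IsLocalRing A] [IsNoetherianRing A]
    (J : Ideal A) :
    ∃ (ι : Type u) (_ : Fintype ι) (a : ι → A), Ideal.span (Set.range a) = J ∧
      ∀ c : ι → A, ∑ i, a i * c i = 0 → ∀ i, c i ∈ maximalIdeal A := by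
  classical
  let k := ResidueField A
  haveI : Module.Finite A J := Module.IsNoetherian.finite A J
  let ι := Module.Free.ChooseBasisIndex k (k ⊗[A] J)
  let b : Module.Basis ι k (k ⊗[A] J) := Module.Free.chooseBasis k (k ⊗[A] J)
  haveI : Fintype ι := Module.Free.ChooseBasisIndex.fintype k (k ⊗[A] J)
  have hsurj : Function.Surjective (TensorProduct.mk A k J 1) :=
    TensorProduct.mk_surjective A J k Ideal.Quotient.mk_surjective
  choose f hf using fun i => hsurj (b i)
  have hspan : Submodule.span A (Set.range f) = ⊤ :=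
    IsLocalRing.span_eq_top_of_tmul_eq_basis f b hf
  refine ⟨ι, inferInstance, fun i => (f i : A), ?_, ?_⟩
  · have := congrArg (Submodule.map (Submodule.subtype J)) hspan
    rw [Submodule.map_span, Submodule.map_top, Submodule.range_subtype, ← Set.range_comp] at this
    exact this
  · intro c hc i
    have h1 : ∑ i, c i • f i = 0 := by
      apply Subtype.ext
      rw [Submodule.coe_sum, Submodule.coe_zero, ← hc]
      refine Finset.sum_congr rfl fun i _ => ?_
      rw [Submodule.coe_smul, smul_eq_mul, mul_comm]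
    have h2 : ∑ i, (residue A (c i)) • b i = 0 := by
      have := congrArg (TensorProduct.mk A k J 1) h1
      rw [map_sum, map_zero] at this
      rw [← this]
      refine Finset.sum_congr rfl fun i _ => ?_
      rw [map_smul, hf]
      rfl
    have h3 := Fintype.linearIndependent_iff.1 b.linearIndependent _ h2 i
    exact (residue_eq_zero_iff _).1 h3

theorem injective_of_injective_mod (A : Type u) [CommRing A] [IsLocalRing A] [IsNoetherianRing A]
    {M N : Type u} [AddCommGroup M] [Module A M] [AddCommGroup N] [Module A N] [Module.Flat A N]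
    (φ : M →ₗ[A] N)
    (h1 : ∀ m : M, φ m ∈ (maximalIdeal A) • (⊤ : Submodule A N) →
      m ∈ (maximalIdeal A) • (⊤ : Submodule A M))
    (h2 : ∀ m : M, (∀ n : ℕ, m ∈ (maximalIdeal A ^ n) • (⊤ : Submodule A M)) → m = 0) :
    Function.Injective φ := by
  rw [injective_iff_map_eq_zero]
  intro x hx
  apply h2
  intro n
  induction n with
  | zero => rw [pow_zero, Ideal.one_eq_top, Submodule.top_smul]; trivial
  | succ n ih =>
    obtain ⟨ι, _, a, ha, hmin⟩ := exists_generators_of_ideal A (maximalIdeal A ^ n)
    have hx' : ∃ m : ι → M, x = ∑ i, a i • m i := by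
      rw [← ha] at ih
      refine Submodule.smul_induction_on ih ?_ ?_
      · intro r hr z _
        obtain ⟨c, rfl⟩ := Ideal.mem_span_range_iff_exists_fun.1 hr
        refine ⟨fun i => c i • z, ?_⟩
        rw [Finset.sum_smul]
        refine Finset.sum_congr rfl fun i _ => ?_
        rw [smul_smul, mul_comm]
      · rintro z z' ⟨m, rfl⟩ ⟨m', rfl⟩
        refine ⟨fun i => m i + m' i, ?_⟩
        rw [← Finset.sum_add_distrib]
        refine Finset.sum_congr rfl fun i _ => ?_
        rw [smul_add]
    obtain ⟨m, rfl⟩ := hx'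
    rw [map_sum] at hx
    simp_rw [map_smul] at hx
    obtain ⟨k, b, y, hy, hb⟩ := Module.Flat.isTrivialRelation_of_sum_smul_eq_zero hx
    have hb' : ∀ i j, b i j ∈ maximalIdeal A := fun i j => hmin (fun i => b i j) (hb j) i
    have hm : ∀ i, m i ∈ maximalIdeal A • (⊤ : Submodule A M) := by
      intro i
      apply h1
      have hyi : φ (m i) = ∑ j, b i j • y j := hy i
      rw [hyi]
      exact Submodule.sum_mem _ fun j _ => Submodule.smul_mem_smul (hb' i j) trivial
    rw [pow_succ, Submodule.mul_smul]
    refine Submodule.sum_mem _ fun i _ => Submodule.smul_mem_smul ?_ (hm i)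
    rw [← ha]
    exact Ideal.subset_span ⟨i, rfl⟩

/-- for an `O`-module `M` seen as an `A`-module: `J • M ⊆ (J O) • M` -/
theorem smul_top_le_map_smul_top {A O : Type u} [CommRing A] [CommRing O] [Algebra A O]
    {M : Type u} [AddCommGroup M] [Module O M] [Module A M] [IsScalarTower A O M] (J : Ideal A)
    (m : M) (hm : m ∈ J • (⊤ : Submodule A M)) :
    m ∈ (J.map (algebraMap A O)) • (⊤ : Submodule O M) := by
  refine Submodule.smul_induction_on hm ?_ ?_
  · intro r hr z _
    rw [← algebraMap_smul O r z]
    exact Submodule.smul_mem_smul (Ideal.mem_map_of_mem _ hr) trivial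
  · intro z z' hz hz'
    exact Submodule.add_mem _ hz hz'

/-- for an `O`-module `M` seen as an `A`-module: `(J O) • M ⊆ J • M` -/
theorem map_smul_top_le_smul_top {A O : Type u} [CommRing A] [CommRing O] [Algebra A O]
    {M : Type u} [AddCommGroup M] [Module O M] [Module A M] [IsScalarTower A O M] (J : Ideal A)
    (m : M) (hm : m ∈ (J.map (algebraMap A O)) • (⊤ : Submodule O M)) :
    m ∈ J • (⊤ : Submodule A M) := by
  refine Submodule.smul_induction_on hm ?_ ?_
  · intro r hr z _
    -- r ∈ J O is a combination Σ o_i * algebraMap a_i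
    have : ∀ r ∈ J.map (algebraMap A O), ∀ z : M, r • z ∈ J • (⊤ : Submodule A M) := by
      intro r hr
      refine Submodule.span_induction ?_ ?_ ?_ ?_ hr
      · rintro _ ⟨a, ha, rfl⟩ z
        rw [algebraMap_smul]
        exact Submodule.smul_mem_smul ha trivial
      · intro z
        rw [zero_smul]
        exact Submodule.zero_mem _
      · intro x y _ _ hx hy z
        rw [add_smul]
        exact Submodule.add_mem _ (hx z) (hy z)
      · intro o x _ hx z
        rw [smul_eq_mul, mul_comm, mul_smul]
        exact hx (o • z)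
    exact this r hr z
  · intro z z' hz hz'
    exact Submodule.add_mem _ hz hz'

/-- **local criterion of injectivity**: `A → O` a local homomorphism of Noetherian local rings, `M` a finite
`O`-module, `N` an `O`-module flat over `A`, `φ : M → N` `O`-linear and injective modulo `𝔪_A O`. Then `φ` is
injective. -/
theorem injective_of_injective_mod_of_local {A O : Type u} [CommRing A] [IsLocalRing A]
    [IsNoetherianRing A] [CommRing O] [IsLocalRing O] [IsNoetherianRing O] [Algebra A O]
    [IsLocalHom (algebraMap A O)]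
    {M N : Type u} [AddCommGroup M] [Module O M] [Module A M] [IsScalarTower A O M]
    [Module.Finite O M]
    [AddCommGroup N] [Module O N] [Module A N] [IsScalarTower A O N] [Module.Flat A N]
    (φ : M →ₗ[O] N)
    (h1 : ∀ m : M, φ m ∈ ((maximalIdeal A).map (algebraMap A O)) • (⊤ : Submodule O N) →
      m ∈ ((maximalIdeal A).map (algebraMap A O)) • (⊤ : Submodule O M)) :
    Function.Injective φ := by
  have hle : (maximalIdeal A).map (algebraMap A O) ≤ maximalIdeal O :=
    IsLocalRing.map_maximalIdeal_le (algebraMap A O)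
  refine injective_of_injective_mod A (φ.restrictScalars A) ?_ ?_
  · intro m hm
    exact map_smul_top_le_smul_top _ m (h1 m (smul_top_le_map_smul_top _ _ hm))
  · intro m hm
    have h3 : m ∈ (⨅ n : ℕ, (maximalIdeal O ^ n) • (⊤ : Submodule O M)) := by
      rw [Submodule.mem_iInf]
      intro n
      have h4 := smul_top_le_map_smul_top (O := O) _ m (hm n)
      rw [Ideal.map_pow] at h4
      exact Submodule.smul_mono_left (Ideal.pow_right_mono hle n) h4
    rw [Ideal.iInf_pow_smul_eq_bot_of_isLocalRing _ (IsLocalRing.maximalIdeal.isMaximal O).ne_top] at h3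
    exact (Submodule.mem_bot O).mp h3

open ChangeOfRings in
/-- the kernel of `m ↦ 1 ⊗ m : M → R' ⊗_R M` for a surjection `R → R'` is `(ker) • M` -/
theorem mem_ker_smul_top_of_tmul_eq_zero {R R' : Type u} [CommRing R] [CommRing R'] (ψ : R →+* R')
    (hψ : Function.Surjective ψ) (M : ModuleCat.{u} R) (m : M)
    (h : ((1 : R') ⊗ₜ[R,ψ] m : (ModuleCat.extendScalars.{u, u, u} ψ).obj M) = 0) :
    m ∈ (RingHom.ker ψ) • (⊤ : Submodule R M) := by
  letI : Algebra R R' := ψ.toAlgebra
  let e : (R ⧸ RingHom.ker ψ) ≃ₗ[R] R' :=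
    (Ideal.quotientKerAlgEquivOfSurjective (f := Algebra.ofId R R') hψ).toLinearEquiv
  have h1 : (LinearMap.rTensor M e.toLinearMap) ((1 : R ⧸ RingHom.ker ψ) ⊗ₜ[R] m) = 0 := by
    rw [LinearMap.rTensor_tmul]
    have : e.toLinearMap 1 = (1 : R') := map_one (Ideal.quotientKerAlgEquivOfSurjective (f := Algebra.ofId R R') hψ)
    rw [this]
    exact h
  have h2 : ((1 : R ⧸ RingHom.ker ψ) ⊗ₜ[R] m) = 0 := by
    have hinj : Function.Injective (LinearMap.rTensor M e.toLinearMap) :=
      (LinearEquiv.rTensor M e).injective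
    exact hinj (h1.trans (map_zero _).symm)
  have h3 : m ∈ LinearMap.ker (TensorProduct.mk R (R ⧸ RingHom.ker ψ) M 1) := h2
  rw [LinearMap.ker_tensorProductMk] at h3
  exact h3

open ChangeOfRings in
theorem tmul_eq_zero_of_mem_ker_smul_top {R R' : Type u} [CommRing R] [CommRing R'] (ψ : R →+* R')
    (M : ModuleCat.{u} R) (m : M) (hm : m ∈ (RingHom.ker ψ) • (⊤ : Submodule R M)) :
    ((1 : R') ⊗ₜ[R,ψ] m : (ModuleCat.extendScalars.{u, u, u} ψ).obj M) = 0 := by
  letI : Module R R' := Module.compHom R' ψ
  refine Submodule.smul_induction_on hm ?_ ?_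
  · intro r hr n _
    have h1 : ((1 : R') ⊗ₜ[R] (r • n) : R' ⊗[R] M) = (r • (1 : R')) ⊗ₜ[R] n := (TensorProduct.smul_tmul r 1 n).symm
    have h2 : r • (1 : R') = 0 := by
      change ψ r * 1 = 0
      rw [mul_one]
      exact hr
    rw [h2, TensorProduct.zero_tmul] at h1
    exact h1
  · intro x y hx hy
    have : ((1 : R') ⊗ₜ[R] (x + y) : R' ⊗[R] M) = (1 : R') ⊗ₜ[R] x + (1 : R') ⊗ₜ[R] y := TensorProduct.tmul_add _ _ _
    have h0 : ((1 : R') ⊗ₜ[R] x + (1 : R') ⊗ₜ[R] y : R' ⊗[R] M) = 0 := by
      rw [show ((1 : R') ⊗ₜ[R] x : R' ⊗[R] M) = 0 from hx,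
        show ((1 : R') ⊗ₜ[R] y : R' ⊗[R] M) = 0 from hy, add_zero]
    exact this.trans h0

open ChangeOfRings in
/-- if `R' ⊗_R φ` is injective (`R → R'` surjective with kernel `I`) then `φ` is injective modulo `I` -/
theorem mem_of_extendScalars_injective {R R' : Type u} [CommRing R] [CommRing R'] (ψ : R →+* R')
    (hψ : Function.Surjective ψ) {M N : ModuleCat.{u} R} (φ : M ⟶ N)
    (h : Function.Injective ((ModuleCat.extendScalars.{u, u, u} ψ).map φ).hom) (m : M)
    (hm : φ.hom m ∈ (RingHom.ker ψ) • (⊤ : Submodule R N)) :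
    m ∈ (RingHom.ker ψ) • (⊤ : Submodule R M) := by
  apply mem_ker_smul_top_of_tmul_eq_zero ψ hψ M m
  apply h
  exact (tmul_eq_zero_of_mem_ker_smul_top ψ N _ hm).trans
    (map_zero ((ModuleCat.extendScalars.{u, u, u} ψ).map φ).hom).symm

end Groth.Agent.R2.H21.LocFlat
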