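import Mathlib
import Groth.Prelude
import Groth.Agent.Lib.Helper5FiberStalk

/-!
# Local rings of fibres: the kernel of the stalk map of `fiberι` (helper9)
-/

set_option autoImplicit false
set_option linter.style.haveILetI false

universe u

open AlgebraicGeometry CategoryTheory Limits IsLocalRing

namespace Groth.Agent.R2.H9.ExtProd

open Groth.Agent.Lib.Helper5.FiberStalk

theorem fiberι_mem' {X Y : Scheme.{u}} (f : X ⟶ Y) (y : Y) (w : f.fiber y) :
    f (f.fiberι y w) = y := by
  have h : f.fiberι y w ∈ Set.range (f.fiberι y) := Set.mem_range_self w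
  rw [f.range_fiberι y] at h
  exact h

/-- the kernel of `O_{X,x} → O_{X_y,z}` is `𝔪_y O_{X,x}` (auxiliary form with `y = f x`). -/
theorem ker_stalkMap_fiberι_aux {X Y : Scheme.{u}} (f : X ⟶ Y) (x : X) (y : Y) (hy : f x = y)
    (z : f.fiber y) (hz : f.fiberι y z = x) :
    RingHom.ker ((f.fiberι y).stalkMap z).hom ≤
      (maximalIdeal (Y.presheaf.stalk (f (f.fiberι y z)))).map
        (f.stalkMap (f.fiberι y z)).hom := by
  subst hy
  obtain rfl : z = toFiber f x (closedPoint (Q f x)) :=
    (f.fiberι (f x)).isEmbedding.injective (hz.trans (fiberι_toFiber_closedPoint f x).symm)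
  intro s hs
  rw [RingHom.mem_ker] at hs
  obtain ⟨U, hU, t, rfl⟩ := X.presheaf.exists_germ_eq s
  have hxU : x ∈ U := by
    rw [← fiberι_toFiber_closedPoint f x]
    exact hU
  have e1 : ((f.fiberι (f x)).stalkMap (toFiber f x (closedPoint (Q f x)))).hom
      (X.presheaf.germ U _ hU t) =
      (f.fiber (f x)).presheaf.germ ((f.fiberι (f x)) ⁻¹ᵁ U) _ hU ((f.fiberι (f x)).app U t) :=
    Scheme.Hom.germ_stalkMap_apply (f.fiberι (f x)) U _ hU t
  rw [e1] at hs
  have h2 := stalkClosedPointTo_toFiber_germ f x U hxU t hU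
  rw [hs, map_zero] at h2
  have h3 : X.presheaf.germ U x hxU t ∈ fibIdeal f x := Ideal.Quotient.eq_zero_iff_mem.mp h2.symm
  exact (germ_mem_fibIdeal_congr f (fiberι_toFiber_closedPoint f x) U hU t).mpr h3

/-- the kernel of `O_{X,x} → O_{X_y,z}` is `𝔪_y O_{X,x}`. -/
theorem ker_stalkMap_fiberι {X Y : Scheme.{u}} (f : X ⟶ Y) (y : Y) (z : f.fiber y) :
    RingHom.ker ((f.fiberι y).stalkMap z).hom =
      (maximalIdeal (Y.presheaf.stalk (f (f.fiberι y z)))).map
        (f.stalkMap (f.fiberι y z)).hom :=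
  le_antisymm (ker_stalkMap_fiberι_aux f (f.fiberι y z) y (fiberι_mem' f y z) z rfl)
    (map_maximalIdeal_le_ker f y z)

theorem length_quot_map_of_surjective {A B : Type*} [CommRing A] [CommRing B] (φ : A →+* B)
    (hφ : Function.Surjective φ) (I : Ideal A) :
    Module.length B (B ⧸ I.map φ) = Module.length A (A ⧸ (I ⊔ RingHom.ker φ)) := by
  letI := φ.toAlgebra
  rw [← Module.length_eq_of_surjective (S := A) (R := B) (M := B ⧸ I.map φ) hφ]
  let ψ : A →ₗ[A] B ⧸ I.map φ :=
    ((Submodule.mkQ (I.map φ)).restrictScalars A).comp (Algebra.linearMap A B)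
  have hψs : Function.Surjective ψ := (Submodule.mkQ_surjective _).comp hφ
  have hker : LinearMap.ker ψ = I ⊔ RingHom.ker φ := by
    ext a
    rw [LinearMap.mem_ker]
    change Ideal.Quotient.mk (I.map φ) (φ a) = 0 ↔ _
    rw [Ideal.Quotient.eq_zero_iff_mem, ← Ideal.mem_comap, Ideal.comap_map_of_surjective φ hφ,
      RingHom.ker_eq_comap_bot]
  exact (((ψ.quotKerEquivOfSurjective hψs).symm.trans
    (Submodule.quotEquivOfEq _ _ hker)).length_eq)

theorem stalkMap_comp_hom' {X Y Z : Scheme.{u}} (f : X ⟶ Y) (g : Y ⟶ Z) (x : X) :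
    ((f ≫ g).stalkMap x).hom = ((f.stalkMap x).hom).comp ((g.stalkMap (f x)).hom) :=
  congrArg CommRingCat.Hom.hom (Scheme.Hom.stalkMap_comp f g x)

/-- the multiplicity of the fibre `F = b⁻¹(y)` over `X` at `z'` is the length of
`O_{P,z} / (𝔪_x + 𝔪_y) O_{P,z}`. -/
theorem length_fiber_quot {P X Y : Scheme.{u}} (a : P ⟶ X) (b : P ⟶ Y) (y : Y) (z' : b.fiber y) :
    Module.length ((b.fiber y).presheaf.stalk z')
      ((b.fiber y).presheaf.stalk z' ⧸ Ideal.map ((b.fiberι y ≫ a).stalkMap z').hom
        (maximalIdeal (X.presheaf.stalk ((b.fiberι y ≫ a) z')))) =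
    Module.length (P.presheaf.stalk (b.fiberι y z'))
      (P.presheaf.stalk (b.fiberι y z') ⧸
        ((maximalIdeal (X.presheaf.stalk (a (b.fiberι y z')))).map
            (a.stalkMap (b.fiberι y z')).hom ⊔
          (maximalIdeal (Y.presheaf.stalk (b (b.fiberι y z')))).map
            (b.stalkMap (b.fiberι y z')).hom)) := by
  have hsurj : Function.Surjective ((b.fiberι y).stalkMap z').hom :=
    (b.fiberι y).stalkMap_surjective z'
  have h1 := length_quot_map_of_surjective ((b.fiberι y).stalkMap z').hom hsurj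
    ((maximalIdeal (X.presheaf.stalk (a (b.fiberι y z')))).map (a.stalkMap (b.fiberι y z')).hom)
  rw [ker_stalkMap_fiberι b y z', Ideal.map_map] at h1
  rw [← h1, stalkMap_comp_hom']
  rfl

section Square

variable {P X Y S : Scheme.{u}} {a : P ⟶ X} {b : P ⟶ Y} {f : X ⟶ S} {g : Y ⟶ S}

theorem isPullback_fiber (hP : IsPullback a b f g) (y : Y) :
    IsPullback (b.fiberι y ≫ a) (b.fiberToSpecResidueField y) f
      (Y.fromSpecResidueField y ≫ g) :=
  (IsPullback.of_hasPullback b (Y.fromSpecResidueField y)).paste_horiz hP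

theorem flat_fiberι_comp (hP : IsPullback a b f g) [Subsingleton S] [IsIntegral S] (y : Y) :
    Flat (b.fiberι y ≫ a) :=
  MorphismProperty.of_isPullback (P := @Flat) (isPullback_fiber hP y).flip inferInstance

theorem locallyOfFiniteType_fiberToSpecResidueField (hP : IsPullback a b f g)
    [LocallyOfFiniteType f] (y : Y) : LocallyOfFiniteType (b.fiberToSpecResidueField y) :=
  MorphismProperty.of_isPullback (P := @LocallyOfFiniteType) (isPullback_fiber hP y) inferInstance

theorem quasiCompact_fiberToSpecResidueField (hP : IsPullback a b f g)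
    [QuasiCompact f] (y : Y) : QuasiCompact (b.fiberToSpecResidueField y) :=
  MorphismProperty.of_isPullback (P := @QuasiCompact) (isPullback_fiber hP y) inferInstance

end Square

end Groth.Agent.R2.H9.ExtProd
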