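import Mathlib
import Groth.Agent.Lib.Helper26FpqcMod
import Groth.Agent.R2.H9ExtProdB
import Groth.Agent.R2.H21LocFlat
import Groth.Agent.R2.H5CohThick
import Groth.Agent.Lib.Helper20SuppClosed
import Groth.Agent.Lib.Helper18Epi1
import Groth.Agent.Lib.Helper2FibreCrit2
set_option backward.isDefEq.respectTransparency.types false

/-!
# Injectivity on a fibre implies injectivity on stalks (helper21)

`f : X ⟶ Y`, `X`, `Y` locally Noetherian, `u : F ⟶ G` with `F` of finite type stalks and `G` flat over `Y`.
If `ι_y^* u` is a monomorphism on the fibre `X_y`, then `u_x` is injective for every `x ∈ X_y`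
(local flatness criterion + Krull's intersection theorem).
-/

set_option autoImplicit false
set_option linter.style.haveILetI false
universe u
open CategoryTheory CategoryTheory.Limits AlgebraicGeometry TopologicalSpace Opposite IsLocalRing

namespace Groth.Agent.R2.H21.FibreMono

open Groth.Agent.Lib.Helper1.Sky Groth.Agent.Lib.Helper1.StalkTensor Groth.Agent.Lib.Helper26.FpqcMod
  Groth.Agent.R2.H21.LocFlat

variable {X Y : Scheme.{u}} (f : X ⟶ Y)

/-- **injectivity on stalks along the fibre** -/
theorem stalk_injective_of_mono_fibre [IsLocallyNoetherian X] [IsLocallyNoetherian Y] (y : Y)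
    {F G : X.Modules} (hF : ∀ x : X, Module.Finite (Ox x) ((stalkFun x).obj F))
    (hG : FlatMod.IsFlatOver f G) (u : F ⟶ G)
    [Mono ((Scheme.Modules.pullback (f.fiberι y)).map u)] (z : f.fiber y) :
    Function.Injective ((stalkFun (f.fiberι y z)).map u).hom := by
  -- notation
  let x : X := f.fiberι y z
  let ψ : Ox x →+* Ox z := ((f.fiberι y).stalkMap z).hom
  have hψ : Function.Surjective ψ := (f.fiberι y).stalkMap_surjective z
  -- injectivity after extension of scalars
  have hmono : Function.Injective
      ((stalkFun z).map ((Scheme.Modules.pullback (f.fiberι y)).map u)).hom :=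
    sm_injective_of_mono _ z
  have hsq := sq (f.fiberι y) z u
  have hext : Function.Injective
      ((ModuleCat.extendScalars.{u, u, u} ψ).map ((stalkFun x).map u)).hom := by
    have e : (ModuleCat.extendScalars.{u, u, u} ψ).map ((stalkFun x).map u) =
        (stalkPullbackIso (f.fiberι y) z).inv.app F ≫
          (stalkFun z).map ((Scheme.Modules.pullback (f.fiberι y)).map u) ≫
            (stalkPullbackIso (f.fiberι y) z).hom.app G := by
      rw [hsq, ← Category.assoc, ← NatTrans.comp_app, Iso.inv_hom_id, NatTrans.id_app,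
        Category.id_comp]
    rw [e]
    have i1 : Function.Injective ((stalkPullbackIso (f.fiberι y) z).inv.app F).hom :=
      (ConcreteCategory.bijective_of_isIso _).1
    have i2 : Function.Injective ((stalkPullbackIso (f.fiberι y) z).hom.app G).hom :=
      (ConcreteCategory.bijective_of_isIso _).1
    exact i2.comp (hmono.comp i1)
  -- the algebra
  have hker : RingHom.ker ψ = (maximalIdeal (Y.presheaf.stalk (f x))).map (f.stalkMap x).hom :=
    Groth.Agent.R2.H9.ExtProd.ker_stalkMap_fiberι f y z
  letI : Algebra (Y.presheaf.stalk (f x)) (Ox x) := (f.stalkMap x).hom.toAlgebra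
  haveI : IsLocalHom (algebraMap (Y.presheaf.stalk (f x)) (Ox x)) := f.toLRSHom.prop x
  letI mF : Module (Y.presheaf.stalk (f x)) ((stalkFun x).obj F) :=
    Module.compHom _ (f.stalkMap x).hom
  letI mG : Module (Y.presheaf.stalk (f x)) ((stalkFun x).obj G) :=
    Module.compHom _ (f.stalkMap x).hom
  haveI : IsScalarTower (Y.presheaf.stalk (f x)) (Ox x) ((stalkFun x).obj F) :=
    ⟨fun r s m => by
      change ((f.stalkMap x).hom r * s) • m = (f.stalkMap x).hom r • (s • m); rw [mul_smul]⟩
  haveI : IsScalarTower (Y.presheaf.stalk (f x)) (Ox x) ((stalkFun x).obj G) :=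
    ⟨fun r s m => by
      change ((f.stalkMap x).hom r * s) • m = (f.stalkMap x).hom r • (s • m); rw [mul_smul]⟩
  haveI : Module.Finite (Ox x) ((stalkFun x).obj F) := hF x
  haveI : Module.Flat (Y.presheaf.stalk (f x)) ((stalkFun x).obj G) := hG x
  refine injective_of_injective_mod_of_local (A := Y.presheaf.stalk (f x)) (O := Ox x)
    ((stalkFun x).map u).hom ?_
  intro m hm
  have hm' : ((stalkFun x).map u).hom m ∈ (RingHom.ker ψ) • (⊤ : Submodule (Ox x) _) := by
    rw [hker]; exact hm
  have := mem_of_extendScalars_injective ψ hψ ((stalkFun x).map u) hext m hm'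
  rw [hker] at this
  exact this


section kernel

variable {X : Scheme.{u}} {F G : X.Modules} (u : F ⟶ G)

/-- if the stalk of the kernel vanishes at `x` then `u_x` is injective -/
theorem stalk_injective_of_subsingleton_kernel (x : X)
    (h : Subsingleton ((kernel u).presheaf.stalk x)) :
    Function.Injective ((stalkFun x).map u).hom := by
  let S : ShortComplex X.Modules := ShortComplex.mk (kernel.ι u) (Abelian.coimage.π u)
    (by
      rw [← cancel_mono (Abelian.factorThruCoimage u), Category.assoc, Abelian.coimage.fac,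
        kernel.condition, zero_comp])
  have hS : S.ShortExact := by
    haveI : Mono S.f := inferInstanceAs (Mono (kernel.ι u))
    haveI : Epi S.g := inferInstanceAs (Epi (Abelian.coimage.π u))
    exact ShortComplex.ShortExact.mk' (ShortComplex.exact_cokernel (kernel.ι u)) inferInstance
      inferInstance
  obtain ⟨-, -, hex⟩ := stalk_shortExact x S hS
  have hfac : (stalkFun x).map u =
      (stalkFun x).map (Abelian.coimage.π u) ≫ (stalkFun x).map (Abelian.factorThruCoimage u) := by
    rw [← Functor.map_comp, Abelian.coimage.fac]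
  have h2 : Function.Injective ((stalkFun x).map (Abelian.factorThruCoimage u)).hom :=
    sm_injective_of_mono _ x
  have h1 : Function.Injective ((stalkFun x).map (Abelian.coimage.π u)).hom := by
    rw [injective_iff_map_eq_zero]
    intro a ha
    obtain ⟨b, rfl⟩ := (hex a).mp ha
    have hb : b = 0 := Subsingleton.elim (α := (kernel u).presheaf.stalk x) b 0
    rw [hb]
    exact map_zero _
  rw [hfac]
  exact h2.comp h1

/-- if `u_x` is injective then the stalk of the kernel vanishes at `x` -/
theorem subsingleton_kernel_of_stalk_injective (x : X)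
    (h : Function.Injective ((stalkFun x).map u).hom) :
    Subsingleton ((kernel u).presheaf.stalk x) := by
  have hi : Function.Injective ((stalkFun x).map (kernel.ι u)).hom := sm_injective_of_mono _ x
  have hz : (stalkFun x).map (kernel.ι u) ≫ (stalkFun x).map u = 0 := by
    rw [← Functor.map_comp, kernel.condition, Functor.map_zero]
  refine ⟨fun a b => ?_⟩
  apply hi
  apply h
  have ha := ConcreteCategory.congr_hom hz a
  have hb := ConcreteCategory.congr_hom hz b
  exact ha.trans hb.symm

end kernel

section nhd

variable {X Y : Scheme.{u}} (f : X ⟶ Y)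

/-- **injectivity near the fibre**: `f` proper, `Y` locally Noetherian, `F`, `G` coherent, `G` flat over `Y`,
`ι_y^* u` a monomorphism. Then there is an open `U ∋ y` such that `u_x` is injective for all `x ∈ f⁻¹ U`. -/
theorem exists_nhd_stalk_injective [IsProper f] [IsLocallyNoetherian Y] (y : Y)
    {F G : X.Modules} (hF : Coh.IsCoh F) (hG : Coh.IsCoh G) (hGfl : FlatMod.IsFlatOver f G)
    (u : F ⟶ G) [Mono ((Scheme.Modules.pullback (f.fiberι y)).map u)] :
    ∃ U : Y.Opens, y ∈ U ∧ ∀ x : X, f x ∈ U → Function.Injective ((stalkFun x).map u).hom := by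
  haveI : IsLocallyNoetherian X := LocallyOfFiniteType.isLocallyNoetherian f
  haveI : F.IsQuasicoherent := hF.1
  haveI : SheafOfModules.IsFiniteType (R := X.ringCatSheaf) F := hF.2
  have hK : Coh.IsCoh (kernel u) := (Groth.Agent.R2.H5.CohThick.cohP X).prop_kernel u hF hG
  haveI : SheafOfModules.IsFiniteType (R := X.ringCatSheaf) (kernel u) := hK.2
  -- the open locus where the stalk of the kernel vanishes
  let W : Set X := {x | Subsingleton ((kernel u).presheaf.stalk x)}
  have hW : IsOpen W := by
    rw [isOpen_iff_forall_mem_open]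
    intro x hx
    obtain ⟨V, hxV, hV⟩ := Groth.Agent.Lib.Helper20.SuppClosed.exists_opens_subsingleton_stalk
      (kernel u) (hM := hK.2) x hx
    exact ⟨V, fun z hz => hV z hz, V.isOpen, hxV⟩
  have hfib : ∀ x : X, f x = y → x ∈ W := by
    intro x hx
    have hx' : x ∈ Set.range (f.fiberι y) := by
      rw [f.range_fiberι y]; exact hx
    obtain ⟨z, rfl⟩ := hx'
    exact subsingleton_kernel_of_stalk_injective u _
      (stalk_injective_of_mono_fibre f y
        (fun x => Groth.Agent.Lib.Helper2.FibreCrit.finite_stalk F x) hGfl u z)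
  have hcl : IsClosed (f '' Wᶜ) := f.isClosedMap _ hW.isClosed_compl
  refine ⟨⟨(f '' Wᶜ)ᶜ, hcl.isOpen_compl⟩, ?_, ?_⟩
  · rintro ⟨x, hx, hxy⟩
    exact hx (hfib x hxy)
  · intro x hx
    have hxW : x ∈ W := by
      by_contra hn
      exact hx ⟨x, hn, rfl⟩
    exact stalk_injective_of_subsingleton_kernel u x hxW

/-- **local base**: a morphism that is a monomorphism on the closed fibre is a monomorphism. -/
theorem mono_of_mono_closedFibre {A : Type u} [CommRing A] [IsNoetherianRing A] [IsLocalRing A]
    (f : X ⟶ Spec (CommRingCat.of A)) [IsProper f]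
    {F G : X.Modules} (hF : Coh.IsCoh F) (hG : Coh.IsCoh G) (hGfl : FlatMod.IsFlatOver f G)
    (u : F ⟶ G) [Mono ((Scheme.Modules.pullback (f.fiberι (IsLocalRing.closedPoint A))).map u)] :
    Mono u := by
  obtain ⟨U, hyU, hU⟩ := exists_nhd_stalk_injective f (IsLocalRing.closedPoint A) hF hG hGfl u
  refine (mono_iff_stalk u).2 (fun x => hU x ?_)
  exact (IsLocalRing.specializes_closedPoint (show PrimeSpectrum A from f x)).mem_open U.isOpen hyU

end nhd


section epi

variable {X : Scheme.{u}}

/-- **local base**: a morphism that is an epimorphism on the closed fibre is an epimorphism (`f` closed). -/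
theorem epi_of_epi_closedFibre {A : Type u} [CommRing A] [IsLocalRing A]
    (f : X ⟶ Spec (CommRingCat.of A)) (hcl : IsClosedMap f)
    {F G : X.Modules} [F.IsQuasicoherent] [G.IsQuasicoherent] (hG : CohB1.IsFT G)
    (u : F ⟶ G) [Epi ((Scheme.Modules.pullback (f.fiberι (IsLocalRing.closedPoint A))).map u)] :
    Epi u := by
  obtain ⟨U, hU⟩ := Groth.Agent.Helper18Epi.main_S10844 hG u
  have h1 : Set.range (f.fiberι (IsLocalRing.closedPoint A)) ⊆ (U : Set X) :=
    (hU _ _).mpr inferInstance
  have hc : IsClosed (f '' (U : Set X)ᶜ) := hcl _ U.isOpen.isClosed_compl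
  have htop : (U : Set X) = Set.univ := by
    by_contra hne
    obtain ⟨x, hx⟩ : ((U : Set X)ᶜ).Nonempty := Set.nonempty_compl.mpr hne
    have hmem : (show ↥(Spec (CommRingCat.of A)) from IsLocalRing.closedPoint A) ∈
        f '' (U : Set X)ᶜ :=
      (IsLocalRing.specializes_closedPoint (show PrimeSpectrum A from f x)).mem_closed hc
        ⟨x, hx, rfl⟩
    obtain ⟨x', hx', hfx'⟩ := hmem
    apply hx'
    apply h1
    rw [f.range_fiberι]
    exact hfx'
  have h2 : Epi ((Scheme.Modules.pullback (𝟙 X)).map u) :=
    (hU X (𝟙 X)).mp (by rw [htop]; exact Set.subset_univ _)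
  have hnat := (Scheme.Modules.pullbackId X).hom.naturality u
  have e : u = (Scheme.Modules.pullbackId X).inv.app F ≫
      (Scheme.Modules.pullback (𝟙 X)).map u ≫ (Scheme.Modules.pullbackId X).hom.app G := by
    rw [hnat, ← Category.assoc, ← NatTrans.comp_app, Iso.inv_hom_id, NatTrans.id_app]
    exact (Category.id_comp _).symm
  rw [e]
  infer_instance

end epi

end Groth.Agent.R2.H21.FibreMono
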