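import Mathlib
import Groth.Prelude.Def_RelSpec
import Groth.Agent.Lib.Helper13QCAlgOfAffine
import Groth.Agent.Lib.Helper13QCAlgPO

/-!
# The quasi-coherent algebra attached to a presheaf of rings that is quasi-coherent on affine opens (helper21)

For a presheaf of commutative rings `P` on a scheme `S` with a structure map `φ : O_S ⟶ P` such that
`RelSpec.IsQC P φ` (localization property on affine opens; `P` need not be a sheaf), we construct

* `shAlg P φ h : RelSpec.QCAlg S`
* `toSh P φ h : P ⟶ (shAlg P φ h).presheaf`, an isomorphism on affine opens (`isIso_toSh_app`),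
  compatible with the structure maps (`str_toSh`).
-/

set_option autoImplicit false
universe u
open CategoryTheory Limits AlgebraicGeometry TopologicalSpace Opposite

namespace Groth.Agent.R2.H21.QCSh

open Scheme.AffineZariskiSite Groth.Agent.Helper13QCAlgOfAffine Groth.Agent.Helper13QCAlgPO

noncomputable section

variable {S : Scheme.{u}} (P : TopCat.Presheaf CommRingCat.{u} S.carrier) (φ : S.presheaf ⟶ P)
  (h : RelSpec.IsQC P φ)

/-- the restriction to the affine site -/
abbrev resF : S.AffineZariskiSiteᵒᵖ ⥤ CommRingCat.{u} := (toOpensFunctor S).op ⋙ P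

/-- the structure map on the affine site -/
abbrev resα : (toOpensFunctor S).op ⋙ S.presheaf ⟶ resF P := (toOpensFunctor S).op.whiskerLeft φ

include h in
theorem coequifibered : (resα P φ).Coequifibered :=
  coequifibered_iff_forall_isLocalizationAway.mpr fun U r => h U.1 U.2 r

/-- the quasi-coherent algebra attached to `P` -/
def shAlg : RelSpec.QCAlg S := qcAlg (coequifibered P φ h)

/-- the identification of the sections over an affine open -/
def γ (U : S.Opens) (hU : IsAffineOpen U) : (shAlg P φ h).presheaf.obj (op U) ⟶ P.obj (op U) :=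
  gammaAff (coequifibered P φ h) U hU

instance (U : S.Opens) (hU : IsAffineOpen U) : IsIso (γ P φ h U hU) :=
  isIso_gammaAff (coequifibered P φ h) U hU

theorem γ_naturality {U V : S.AffineZariskiSite} (i : V ⟶ U) :
    (shAlg P φ h).presheaf.map (homOfLE (toOpens_mono i.le)).op ≫ γ P φ h V.1 V.2 =
      γ P φ h U.1 U.2 ≫ P.map (homOfLE (toOpens_mono i.le)).op :=
  gammaAff_naturality (coequifibered P φ h) i

theorem str_γ (U : S.Opens) (hU : IsAffineOpen U) :
    (shAlg P φ h).str.app (op U) ≫ γ P φ h U hU = φ.app (op U) :=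
  π_app_gammaAff (coequifibered P φ h) U hU

/-- extension of a family on affine opens, natural for the morphisms of the affine site -/
def extendSite {F : TopCat.Presheaf CommRingCat.{u} S.carrier} (A : RelSpec.QCAlg S)
    (d : ∀ (U : S.Opens) (_ : IsAffineOpen U), F.obj (op U) ⟶ A.presheaf.obj (op U))
    (hd : ∀ {U V : S.AffineZariskiSite} (i : V ⟶ U),
      F.map (homOfLE (toOpens_mono i.le)).op ≫ d V.1 V.2 =
        d U.1 U.2 ≫ A.presheaf.map (homOfLE (toOpens_mono i.le)).op) : F ⟶ A.presheaf :=
  Functor.IsCoverDense.restrictHomEquivHom (G := toOpensFunctor S)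
    (K := Opens.grothendieckTopology S) (ℱ := F)
    (ℱ' := (⟨A.presheaf, A.isSheaf⟩ : TopCat.Sheaf CommRingCat.{u} S.carrier))
    { app := fun U => d U.unop.1 U.unop.2
      naturality := fun _ _ i => hd i.unop }

theorem extendSite_app {F : TopCat.Presheaf CommRingCat.{u} S.carrier} (A : RelSpec.QCAlg S)
    (d : ∀ (U : S.Opens) (_ : IsAffineOpen U), F.obj (op U) ⟶ A.presheaf.obj (op U))
    (hd : ∀ {U V : S.AffineZariskiSite} (i : V ⟶ U),
      F.map (homOfLE (toOpens_mono i.le)).op ≫ d V.1 V.2 =
        d U.1 U.2 ≫ A.presheaf.map (homOfLE (toOpens_mono i.le)).op)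
    (U : S.Opens) (hU : IsAffineOpen U) : (extendSite A d hd).app (op U) = d U hU := by
  have h := (Functor.IsCoverDense.restrictHomEquivHom (G := toOpensFunctor S)
    (K := Opens.grothendieckTopology S) (ℱ := F)
    (ℱ' := (⟨A.presheaf, A.isSheaf⟩ : TopCat.Sheaf CommRingCat.{u} S.carrier))).symm_apply_apply
      ({ app := fun U => d U.unop.1 U.unop.2
         naturality := fun _ _ i => hd i.unop } :
        (toOpensFunctor S).op ⋙ F ⟶ (toOpensFunctor S).op ⋙ A.presheaf)
  exact NatTrans.congr_app h (op ⟨U, hU⟩)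

theorem inv_γ_naturality {U V : S.AffineZariskiSite} (i : V ⟶ U) :
    P.map (homOfLE (toOpens_mono i.le)).op ≫ inv (γ P φ h V.1 V.2) =
      inv (γ P φ h U.1 U.2) ≫ (shAlg P φ h).presheaf.map (homOfLE (toOpens_mono i.le)).op := by
  rw [IsIso.eq_inv_comp, ← Category.assoc, IsIso.comp_inv_eq]
  exact (γ_naturality P φ h i).symm

/-- the canonical map to the associated quasi-coherent algebra -/
def toSh : P ⟶ (shAlg P φ h).presheaf :=
  extendSite (shAlg P φ h) (fun U hU => inv (γ P φ h U hU)) (fun i => inv_γ_naturality P φ h i)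

theorem toSh_app (U : S.Opens) (hU : IsAffineOpen U) :
    (toSh P φ h).app (op U) = inv (γ P φ h U hU) :=
  extendSite_app (shAlg P φ h) (fun U hU => inv (γ P φ h U hU))
    (fun i => inv_γ_naturality P φ h i) U hU

theorem isIso_toSh_app (U : S.Opens) (hU : IsAffineOpen U) : IsIso ((toSh P φ h).app (op U)) := by
  rw [toSh_app P φ h U hU]; infer_instance

theorem toSh_app_γ (U : S.Opens) (hU : IsAffineOpen U) :
    (toSh P φ h).app (op U) ≫ γ P φ h U hU = 𝟙 _ := by
  rw [toSh_app P φ h U hU, IsIso.inv_hom_id]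

theorem γ_toSh_app (U : S.Opens) (hU : IsAffineOpen U) :
    γ P φ h U hU ≫ (toSh P φ h).app (op U) = 𝟙 _ := by
  rw [toSh_app P φ h U hU, IsIso.hom_inv_id]

theorem str_toSh : φ ≫ toSh P φ h = (shAlg P φ h).str := by
  apply presheaf_hom_ext_affine (shAlg P φ h)
  intro U hU
  rw [NatTrans.comp_app, toSh_app P φ h U hU, IsIso.comp_inv_eq, str_γ]

theorem toSh_bijective (U : S.Opens) (hU : IsAffineOpen U) :
    Function.Bijective ((toSh P φ h).app (op U)).hom :=
  (ConcreteCategory.isIso_iff_bijective _).1 (isIso_toSh_app P φ h U hU)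

end

end Groth.Agent.R2.H21.QCSh
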