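import Mathlib
import Groth.Prelude.Def_RelProj
import Groth.Agent.R2.H21QCSh

/-!
# Constructing quasi-coherent graded algebras (helper21)

* `gradedRingOfEquiv` : transport of a grading along a ring isomorphism (also converts between kinds of subobjects)
* `shGrAlg` : the quasi-coherent graded algebra attached to a presheaf of rings `P`, quasi-coherent on affine opens,
  with gradings of `P(U)` for `U` affine preserved by restriction and with structure map in degree zero.
-/

set_option autoImplicit false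
universe u
open CategoryTheory Limits AlgebraicGeometry TopologicalSpace Opposite

namespace Groth.Agent.R2.H21.GrAlg

section Transport

variable {R R' : Type u} [CommRing R] [CommRing R'] {σ' : Type*} [SetLike σ' R']
  [AddSubmonoidClass σ' R'] (e : R ≃+* R') (𝒢' : ℕ → σ') [GradedRing 𝒢'] (𝒢 : ℕ → AddSubgroup R)
  (hmem : ∀ d x, x ∈ 𝒢 d ↔ e x ∈ 𝒢' d)

/-- the component maps -/
def compHom (i : ℕ) : 𝒢' i →+ 𝒢 i where
  toFun y := ⟨e.symm y, (hmem i _).2 (by rw [RingEquiv.apply_symm_apply]; exact y.2)⟩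
  map_zero' := Subtype.ext (by simp)
  map_add' a b := Subtype.ext (by simp)

/-- the decomposition map -/
def decomp : R →+ DirectSum ℕ (fun i => 𝒢 i) :=
  (DirectSum.map (compHom e 𝒢' 𝒢 hmem)).comp
    ((DirectSum.decomposeAddEquiv 𝒢').toAddMonoidHom.comp e.toAddMonoidHom)

theorem coe_map (y : DirectSum ℕ (fun i => 𝒢' i)) :
    DirectSum.coeAddMonoidHom 𝒢 (DirectSum.map (compHom e 𝒢' 𝒢 hmem) y) =
      e.symm (DirectSum.coeAddMonoidHom 𝒢' y) := by
  induction y using DirectSum.induction_on with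
  | zero => simp
  | of i x =>
    rw [DirectSum.map_of, DirectSum.coeAddMonoidHom_of, DirectSum.coeAddMonoidHom_of]
    rfl
  | add x y hx hy => rw [map_add, map_add, hx, hy, map_add, map_add]

theorem decomp_left :
    (DirectSum.coeAddMonoidHom 𝒢).comp (decomp e 𝒢' 𝒢 hmem) = AddMonoidHom.id R := by
  ext x
  change DirectSum.coeAddMonoidHom 𝒢 (DirectSum.map (compHom e 𝒢' 𝒢 hmem)
    (DirectSum.decompose 𝒢' (e x))) = x
  rw [coe_map]
  have : DirectSum.coeAddMonoidHom 𝒢' (DirectSum.decompose 𝒢' (e x)) = e x :=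
    DirectSum.Decomposition.left_inv (e x)
  rw [this, RingEquiv.symm_apply_apply]

theorem decomp_right :
    (decomp e 𝒢' 𝒢 hmem).comp (DirectSum.coeAddMonoidHom 𝒢) = AddMonoidHom.id _ := by
  refine DirectSum.addHom_ext fun i x => ?_
  change DirectSum.map (compHom e 𝒢' 𝒢 hmem)
    (DirectSum.decompose 𝒢' (e (DirectSum.coeAddMonoidHom 𝒢 (DirectSum.of (fun i => 𝒢 i) i x)))) =
      DirectSum.of (fun i => 𝒢 i) i x
  rw [DirectSum.coeAddMonoidHom_of]
  have hx : e (x : R) ∈ 𝒢' i := (hmem i _).1 x.2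
  rw [DirectSum.decompose_of_mem 𝒢' hx, DirectSum.map_of]
  congr 1
  apply Subtype.ext
  change e.symm (e (x : R)) = x
  rw [RingEquiv.symm_apply_apply]

/-- transport of a grading along a ring isomorphism -/
@[instance_reducible]
def gradedRingOfEquiv : GradedRing 𝒢 :=
  { (DirectSum.Decomposition.ofAddHom (ℳ := 𝒢) (decomp e 𝒢' 𝒢 hmem) (decomp_left e 𝒢' 𝒢 hmem)
      (decomp_right e 𝒢' 𝒢 hmem)) with
    one_mem := (hmem 0 1).2 (by rw [map_one]; exact SetLike.one_mem_graded 𝒢')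
    mul_mem := fun i j a b ha hb => (hmem _ _).2 (by
      rw [map_mul]; exact SetLike.mul_mem_graded ((hmem _ _).1 ha) ((hmem _ _).1 hb)) }

end Transport

section Graded

open Groth.Agent.R2.H21.QCSh

variable {S : Scheme.{u}} (P : TopCat.Presheaf CommRingCat.{u} S.carrier) (φ : S.presheaf ⟶ P)
  (h : RelSpec.IsQC P φ)
  (𝒢 : ∀ (U : S.Opens), IsAffineOpen U → ℕ → AddSubgroup (P.obj (op U)))
  (hgr : ∀ (U : S.Opens) (hU : IsAffineOpen U), GradedRing (𝒢 U hU))
  (hmap : ∀ {U V : S.Opens} (hU : IsAffineOpen U) (hV : IsAffineOpen V) (i : V ≤ U) {d : ℕ}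
    {x : P.obj (op U)}, x ∈ 𝒢 U hU d → (P.map (homOfLE i).op).hom x ∈ 𝒢 V hV d)
  (hstr : ∀ (U : S.Opens) (hU : IsAffineOpen U) (r : Γ(S, U)), (φ.app (op U)).hom r ∈ 𝒢 U hU 0)

/-- the identification of sections over an affine open, as a ring isomorphism -/
noncomputable def γEquiv (U : S.Opens) (hU : IsAffineOpen U) :
    (shAlg P φ h).presheaf.obj (op U) ≃+* P.obj (op U) :=
  (asIso (γ P φ h U hU)).commRingCatIsoToRingEquiv

theorem γEquiv_apply (U : S.Opens) (hU : IsAffineOpen U) (x : (shAlg P φ h).presheaf.obj (op U)) :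
    γEquiv P φ h U hU x = (γ P φ h U hU).hom x := rfl

theorem γ_toSh_apply (U : S.Opens) (hU : IsAffineOpen U) (x : (shAlg P φ h).presheaf.obj (op U)) :
    ((toSh P φ h).app (op U)).hom ((γ P φ h U hU).hom x) = x :=
  congrArg (fun t : (shAlg P φ h).presheaf.obj (op U) ⟶ _ => t.hom x) (γ_toSh_app P φ h U hU)

theorem toSh_γ_apply (U : S.Opens) (hU : IsAffineOpen U) (y : P.obj (op U)) :
    (γ P φ h U hU).hom (((toSh P φ h).app (op U)).hom y) = y :=
  congrArg (fun t : P.obj (op U) ⟶ _ => t.hom y) (toSh_app_γ P φ h U hU)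

theorem γ_res {U V : S.Opens} (hU : IsAffineOpen U) (hV : IsAffineOpen V) (i : V ≤ U)
    (x : (shAlg P φ h).presheaf.obj (op U)) :
    (γ P φ h V hV).hom (((shAlg P φ h).presheaf.map (homOfLE i).op).hom x) =
      (P.map (homOfLE i).op).hom ((γ P φ h U hU).hom x) := by
  have h1 := (toSh P φ h).naturality (homOfLE i).op
  have h2 := congrArg (fun t : P.obj (op U) ⟶ _ => t.hom ((γ P φ h U hU).hom x)) h1
  simp only [CommRingCat.hom_comp, RingHom.comp_apply] at h2
  rw [γ_toSh_apply] at h2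
  rw [← h2, toSh_γ_apply]

/-- the degree `d` part over an affine open -/
noncomputable def shDeg (U : S.Opens) (hU : IsAffineOpen U) (d : ℕ) :
    AddSubgroup ((shAlg P φ h).presheaf.obj (op U)) :=
  (𝒢 U hU d).comap (γ P φ h U hU).hom.toAddMonoidHom

theorem mem_shDeg (U : S.Opens) (hU : IsAffineOpen U) (d : ℕ)
    (x : (shAlg P φ h).presheaf.obj (op U)) :
    x ∈ shDeg P φ h 𝒢 U hU d ↔ (γ P φ h U hU).hom x ∈ 𝒢 U hU d := Iff.rfl

/-- the quasi-coherent graded algebra attached to a graded presheaf of rings, quasi-coherent on affine opens -/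
noncomputable def shGrAlg : RelProj.QCGrAlg S where
  toQCAlg := shAlg P φ h
  deg U hU d := shDeg P φ h 𝒢 U hU d
  graded U hU :=
    letI := hgr U hU
    gradedRingOfEquiv (γEquiv P φ h U hU) (𝒢 U hU) (shDeg P φ h 𝒢 U hU) (fun _ _ => Iff.rfl)
  map_mem := fun {U V} hU hV i {d} {x} hx => by
    rw [mem_shDeg, γ_res P φ h hU hV i x]
    exact hmap hU hV i ((mem_shDeg P φ h 𝒢 _ hU d x).1 hx)
  str_mem U hU r := by
    rw [mem_shDeg]
    have h1 := congrArg (fun t : Γ(S, U) ⟶ _ => t.hom r) (str_γ P φ h U hU)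
    simp only [CommRingCat.hom_comp, RingHom.comp_apply] at h1
    rw [h1]
    exact hstr U hU r

theorem shGrAlg_mem_deg (U : S.Opens) (hU : IsAffineOpen U) (d : ℕ)
    (x : (shAlg P φ h).presheaf.obj (op U)) :
    x ∈ (shGrAlg P φ h 𝒢 hgr (fun hU hV i => hmap hU hV i) hstr).deg U hU d ↔ (γ P φ h U hU).hom x ∈ 𝒢 U hU d := Iff.rfl

end Graded

end Groth.Agent.R2.H21.GrAlg
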