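import Mathlib

/-!
# Locally integral schemes (helper21)

* `exists_away_isDomain` : a reduced ring with finitely many minimal primes whose localization at a prime `q` is a domain
  has a basic open neighbourhood `D(s)` of `q` with `A_s` a domain
* `exists_isIntegral_nhd` : a scheme whose local rings are domains and whose space is locally Noetherian is locally integral
-/

set_option autoImplicit false
universe u
open CategoryTheory AlgebraicGeometry TopologicalSpace Opposite

namespace Groth.Agent.R2.H21.LocInt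

section Algebra

variable {A : Type u} [CommRing A]

/-- the kernel of the localization map lies in every prime contained in `q` -/
theorem ker_le_of_le (q : Ideal A) [q.IsPrime] (L : Type u) [CommRing L] [Algebra A L]
    [IsLocalization.AtPrime L q] (p : Ideal A) [p.IsPrime] (hp : p ≤ q) :
    RingHom.ker (algebraMap A L) ≤ p := by
  intro x hx
  rw [RingHom.mem_ker, IsLocalization.map_eq_zero_iff q.primeCompl] at hx
  obtain ⟨⟨s, hs⟩, hsx⟩ := hx
  have h1 : s * x ∈ p := by rw [hsx]; exact p.zero_mem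
  rcases Ideal.IsPrime.mem_or_mem ‹p.IsPrime› h1 with h | h
  · exact absurd (hp h) hs
  · exact h

theorem eq_ker_of_mem_minimalPrimes (q : Ideal A) [q.IsPrime] (L : Type u) [CommRing L] [Algebra A L]
    [IsLocalization.AtPrime L q] [IsDomain L] (p : Ideal A) (hp : p ∈ minimalPrimes A) (hpq : p ≤ q) :
    p = RingHom.ker (algebraMap A L) := by
  have : p.IsPrime := hp.1.1
  have hk : (RingHom.ker (algebraMap A L)).IsPrime := RingHom.ker_isPrime _
  exact le_antisymm (hp.2 ⟨hk, bot_le⟩ (ker_le_of_le q L p hpq)) (ker_le_of_le q L p hpq)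

theorem exists_away_isDomain [IsReduced A] (hfin : (minimalPrimes A).Finite) (q : Ideal A) [q.IsPrime]
    (L : Type u) [CommRing L] [Algebra A L] [IsLocalization.AtPrime L q] [IsDomain L] :
    ∃ s : A, s ∉ q ∧ ∀ (B : Type u) [CommRing B] [Algebra A B] [IsLocalization.Away s B], IsDomain B := by
  classical
  obtain ⟨p₁, hp₁, hp₁q⟩ := Ideal.exists_minimalPrimes_le (bot_le : (⊥ : Ideal A) ≤ q)
  have hp₁' : p₁ ∈ minimalPrimes A := hp₁
  have hp₁prime : p₁.IsPrime := hp₁.1.1
  have huniq : ∀ p ∈ minimalPrimes A, p ≤ q → p = p₁ := fun p hp hpq =>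
    (eq_ker_of_mem_minimalPrimes q L p hp hpq).trans (eq_ker_of_mem_minimalPrimes q L p₁ hp₁' hp₁q).symm
  let S : Finset (Ideal A) := hfin.toFinset.erase p₁
  have hS : ∀ p ∈ S, ∃ t : A, t ∈ p ∧ t ∉ q := by
    intro p hp
    have hp' : p ∈ minimalPrimes A := hfin.mem_toFinset.1 (Finset.mem_of_mem_erase hp)
    have hne : p ≠ p₁ := Finset.ne_of_mem_erase hp
    have : ¬ p ≤ q := fun h => hne (huniq p hp' h)
    obtain ⟨t, ht, htq⟩ := SetLike.not_le_iff_exists.1 this
    exact ⟨t, ht, htq⟩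
  choose! t ht using hS
  let s : A := ∏ p ∈ S, t p
  have hsq : s ∉ q := by
    intro h
    obtain ⟨p, hp, hpq⟩ := (Ideal.IsPrime.prod_mem_iff).1 h
    exact (ht p hp).2 hpq
  have hsp : ∀ p ∈ minimalPrimes A, p ≠ p₁ → s ∈ p := by
    intro p hp hne
    have hpS : p ∈ S := Finset.mem_erase.2 ⟨hne, hfin.mem_toFinset.2 hp⟩
    exact Ideal.mem_of_dvd p (Finset.dvd_prod_of_mem t hpS) (ht p hpS).1
  have hsp₁ : s ∉ p₁ := fun h => hsq (hp₁q h)
  have hkey : ∀ x : A, x ∈ p₁ → s * x = 0 := by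
    intro x hx
    have h1 : s * x ∈ sInf (minimalPrimes A) := by
      rw [Submodule.mem_sInf]
      intro p hp
      by_cases hne : p = p₁
      · rw [hne]; exact Ideal.mul_mem_left _ _ hx
      · exact Ideal.mul_mem_right _ _ (hsp p hp hne)
    have h2 : sInf (minimalPrimes A) = ⊥ := by
      change sInf ((⊥ : Ideal A).minimalPrimes) = ⊥
      rw [Ideal.sInf_minimalPrimes]
      exact nilradical_eq_zero A
    rw [h2] at h1
    exact h1
  refine ⟨s, hsq, fun B _ _ _ => ?_⟩
  have hnt : Nontrivial B := by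
    rw [← not_subsingleton_iff_nontrivial]
    intro hsub
    have h0 : algebraMap A B 1 = 0 := Subsingleton.elim _ _
    rw [IsLocalization.map_eq_zero_iff (Submonoid.powers s)] at h0
    obtain ⟨⟨_, k, rfl⟩, hk⟩ := h0
    rw [mul_one] at hk
    have hk' : s ^ k = 0 := hk
    exact hsp₁ (hp₁prime.mem_of_pow_mem k (hk' ▸ p₁.zero_mem))
  have hnzd : NoZeroDivisors B := by
    constructor
    intro a b hab
    obtain ⟨x, ⟨_, m, rfl⟩, rfl⟩ := IsLocalization.exists_mk'_eq (Submonoid.powers s) a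
    obtain ⟨y, ⟨_, n, rfl⟩, rfl⟩ := IsLocalization.exists_mk'_eq (Submonoid.powers s) b
    rw [← IsLocalization.mk'_mul, IsLocalization.mk'_eq_zero_iff] at hab
    obtain ⟨⟨_, k, rfl⟩, hk⟩ := hab
    have h1 : s ^ k * (x * y) ∈ p₁ := by rw [hk]; exact p₁.zero_mem
    have h2 : x * y ∈ p₁ := by
      rcases hp₁prime.mem_or_mem h1 with h | h
      · exact absurd (hp₁prime.mem_of_pow_mem k h) hsp₁
      · exact h
    have hz : ∀ z : A, z ∈ p₁ → ∀ hm, IsLocalization.mk' B z (⟨s ^ hm, hm, rfl⟩ : Submonoid.powers s) = 0 := by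
      intro z hz hm
      rw [IsLocalization.mk'_eq_zero_iff]
      exact ⟨⟨s, 1, pow_one s⟩, hkey z hz⟩
    rcases hp₁prime.mem_or_mem h2 with h | h
    · exact Or.inl (hz x h m)
    · exact Or.inr (hz y h n)
  exact NoZeroDivisors.to_isDomain B

end Algebra

section Geometry

theorem finite_minimalPrimes_of_noetherianSpace (A : Type u) [CommRing A] [NoetherianSpace (PrimeSpectrum A)] :
    (minimalPrimes A).Finite := by
  have h := NoetherianSpace.finite_irreducibleComponents (α := PrimeSpectrum A)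
  have : Finite (irreducibleComponents (PrimeSpectrum A)) := h.to_subtype
  have e := minimalPrimes.equivIrreducibleComponents A
  exact Set.finite_coe_iff.1 (Finite.of_equiv _ (e.toEquiv.trans OrderDual.ofDual).symm)

theorem mem_basicOpen_iff_notMem_primeIdealOf {X : Scheme.{u}} {U : X.Opens} (hU : IsAffineOpen U)
    {x : X} (hx : x ∈ U) (g : Γ(X, U)) :
    x ∈ X.basicOpen g ↔ g ∉ (hU.primeIdealOf ⟨x, hx⟩).asIdeal := by
  let _ := TopCat.Presheaf.algebra_section_stalk X.presheaf ⟨x, hx⟩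
  have := hU.isLocalization_stalk ⟨x, hx⟩
  rw [Scheme.mem_basicOpen _ _ _ hx]
  exact IsLocalization.AtPrime.isUnit_to_map_iff (X.presheaf.stalk x)
    (hU.primeIdealOf ⟨x, hx⟩).asIdeal g

variable {Y : Scheme.{u}}

theorem exists_isIntegral_nhd (hdom : ∀ y : Y, IsDomain (Y.presheaf.stalk y))
    (hY : ∀ y : Y, ∃ U : Y.Opens, y ∈ U ∧ NoetherianSpace ↥U) (y : Y) :
    ∃ U : Y.Opens, y ∈ U ∧ IsIntegral (U : Scheme.{u}) := by
  obtain ⟨W, hyW, hW⟩ := hY y
  obtain ⟨_, ⟨V, hV, rfl⟩, hyV', hVW'⟩ := Y.isBasis_affineOpens.exists_subset_of_mem_open hyW W.2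
  have hyV : y ∈ V := hyV'
  have hVW : (V : Set Y) ⊆ (W : Set Y) := hVW'
  have hredY : IsReduced Y := by
    have : ∀ x : Y, _root_.IsReduced (Y.presheaf.stalk x) := fun x => by
      have := hdom x; infer_instance
    exact isReduced_of_isReduced_stalk Y
  have hred : _root_.IsReduced Γ(Y, V) := inferInstance
  have hVn : NoetherianSpace ↥(V : Set Y) := by
    rw [noetherianSpace_set_iff]
    intro t ht
    exact ((noetherianSpace_set_iff (W : Set Y)).1 hW) t (ht.trans hVW)
  have hSpec : NoetherianSpace (PrimeSpectrum Γ(Y, V)) := by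
    have e : ↥(V : Set Y) ≃ₜ PrimeSpectrum Γ(Y, V) := Scheme.homeoOfIso hV.isoSpec
    exact @noetherianSpace_of_surjective _ _ _ _ hVn e e.continuous e.surjective
  have hfin := finite_minimalPrimes_of_noetherianSpace Γ(Y, V)
  let _ := TopCat.Presheaf.algebra_section_stalk Y.presheaf ⟨y, hyV⟩
  have := hV.isLocalization_stalk ⟨y, hyV⟩
  have := hdom y
  have : (hV.primeIdealOf ⟨y, hyV⟩).asIdeal.IsPrime := (hV.primeIdealOf ⟨y, hyV⟩).isPrime
  obtain ⟨s, hsq, hB⟩ := exists_away_isDomain hfin (hV.primeIdealOf ⟨y, hyV⟩).asIdeal (Y.presheaf.stalk y)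
  have hloc : IsLocalization.Away s Γ(Y, Y.basicOpen s) := hV.isLocalization_basicOpen s
  have hdomU : IsDomain Γ(Y, Y.basicOpen s) := hB _
  have hyU : y ∈ Y.basicOpen s := (mem_basicOpen_iff_notMem_primeIdealOf hV hyV s).2 hsq
  refine ⟨Y.basicOpen s, hyU, ?_⟩
  have haff : IsAffine (Y.basicOpen s : Scheme.{u}) := hV.basicOpen s
  have hne : Nonempty (Y.basicOpen s : Scheme.{u}) := ⟨⟨y, hyU⟩⟩
  have hdomTop : IsDomain Γ((Y.basicOpen s : Scheme.{u}), ⊤) :=
    MulEquiv.isDomain Γ(Y, Y.basicOpen s)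
      (Scheme.Opens.topIso (Y.basicOpen s)).commRingCatIsoToRingEquiv.toMulEquiv
  exact isIntegral_of_isAffine_of_isDomain _

end Geometry

end Groth.Agent.R2.H21.LocInt
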