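import Mathlib
import Groth.Agent.R2.H11CbcInvNear
import Groth.Agent.Lib.Helper1PT2

/-!
# Lifting sections from a fibre (helper21), on top of helper11's `exists_section_lift`

* `exists_unit_lift`: `A` Noetherian, `X` proper over `A`, `N` coherent and flat over `A` with vanishing `H^1` on
  all fibres, `X' = X ×_A K` for `ρ : A → K` with `K` "a fraction field of a quotient": every section `u` of
  `g'^* N` is, up to a unit `ρ a` of `K`, the restriction of a global section `s` of `N`.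
-/

set_option autoImplicit false
set_option linter.style.haveILetI false
universe u
open CategoryTheory CategoryTheory.Limits AlgebraicGeometry TopologicalSpace Opposite

namespace Groth.Agent.R2.H21.NearLift

open Groth.Agent.R2.H11.CbcSpec Groth.Agent.R2.H16.CbcFISec Groth.Agent.R2.H16.CbcFITerm
  Groth.Agent.R2.H16.CbcFINat Groth.Agent.Lib.Helper16.TensorCmp Groth.Agent.R2.H11.CbcGammaFI
  Groth.Agent.R2.H11.CbcInvLift Groth.Agent.Lib.Helper1.PT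

variable (A : Type u) [CommRing A] {X : Scheme.{u}} [X.Over (Spec (CommRingCat.of A))]
  (N : X.Modules)

/-- helper11's lifting statement, for `F₁ A N = N ⊗_A A`. -/
theorem exists_unit_lift₁ [IsNoetherianRing A] [IsProper (X ↘ Spec (CommRingCat.of A))]
    (hN : Coh.IsCoh N) (hfl : FlatMod.IsFlatOver (X ↘ Spec (CommRingCat.of A)) N)
    (hvan : ∀ (L : ChainComplex (ModuleCat.{u} A) ℤ)
      (_ : CohIII.tensorAFunctor A N ⋙ CohIII.HAb X 1 ≅
        CohIII.TFun L (-((1 : ℕ) : ℤ)) ⋙ forget₂ (ModuleCat.{u} A) AddCommGrpCat.{u})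
      (x : PrimeSpectrum A),
      Subsingleton ↥((CohIII.bcCx (algebraMap A x.asIdeal.ResidueField) L).homology
        (-((1 : ℕ) : ℤ))))
    {K : Type u} [Field K] (ρ : A →+* K) (hK : ∀ m : K, ∃ a b : A, ρ a ≠ 0 ∧ ρ a * m = ρ b)
    {X' : Scheme.{u}} {g' : X' ⟶ X} {f' : X' ⟶ Spec (CommRingCat.of K)}
    (hc : IsPullback g' f' (X ↘ Spec (CommRingCat.of A)) (Spec.map (CommRingCat.ofHom ρ)))
    (u : ↑Γ(G₁ A g' N, g' ⁻¹ᵁ ⊤)) :
    ∃ (z : ↑Γ(F₁ A N, ⊤)) (a : A), ρ a ≠ 0 ∧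
      ηP A g' N ⊤ z = αW f' (g' ⁻¹ᵁ ⊤) (ρ a) • u := by
  haveI : N.IsQuasicoherent := hN.1
  let t : ↑((TW A N ⊤).obj (MA' ρ)) := (fiInv N hc).app (op ⊤) u
  obtain ⟨z, a, ha, hz⟩ := exists_section_lift A N hN hfl hvan ρ hK t
  have k1 : (fiHom N hc).app (op ⊤) (φm A ρ N 1 ⊤ z) =
      (σ A g' f' N 1).app (op ⊤) (ηP A g' N ⊤ z) :=
    ConcreteCategory.congr_hom (congrArg (fun α => α.app (op ⊤)) (fiHom_gen N hc (1 : K))) z
  have k2 : (fiHom N hc).app (op ⊤) ((μ A ρ N (ρ a)).app (op ⊤) t) =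
      (σ A g' f' N (ρ a)).app (op ⊤) ((fiHom N hc).app (op ⊤) t) :=
    ConcreteCategory.congr_hom (congrArg (fun α => α.app (op ⊤)) (fiHom_mulEnd N hc (ρ a))) t
  have k3 : (fiHom N hc).app (op ⊤) t = u :=
    ConcreteCategory.congr_hom (congrArg (fun α => α.app (op ⊤)) (fiIso N hc).inv_hom_id) u
  refine ⟨z, a, ha, ?_⟩
  have h1 : (σ A g' f' N 1).app (op ⊤) (ηP A g' N ⊤ z) =
      (σ A g' f' N (ρ a)).app (op ⊤) u :=
    k1.symm.trans ((congrArg ((fiHom N hc).app (op ⊤)) hz).trans (k2.trans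
      (congrArg ((σ A g' f' N (ρ a)).app (op ⊤)) k3)))
  have h2 : (σ A g' f' N 1).app (op ⊤) (ηP A g' N ⊤ z) =
      αW f' (g' ⁻¹ᵁ ⊤) 1 • (show ↑Γ(G₁ A g' N, g' ⁻¹ᵁ ⊤) from ηP A g' N ⊤ z) :=
    σ_app_apply N 1 ⊤ _
  have h3 : (σ A g' f' N (ρ a)).app (op ⊤) u = αW f' (g' ⁻¹ᵁ ⊤) (ρ a) • u :=
    σ_app_apply N (ρ a) ⊤ u
  have h4 : αW f' (g' ⁻¹ᵁ ⊤) 1 • (show ↑Γ(G₁ A g' N, g' ⁻¹ᵁ ⊤) from ηP A g' N ⊤ z) =
      (show ↑Γ(G₁ A g' N, g' ⁻¹ᵁ ⊤) from ηP A g' N ⊤ z) := by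
    rw [map_one, one_smul]
  exact h4.symm.trans (h2.symm.trans (h1.trans h3))

/-- **lifting sections up to a unit**: every section of `g'^* N` over `X' = X ×_A K` is, up to a unit of `K`,
the restriction of a global section of `N`. -/
theorem exists_unit_lift [IsNoetherianRing A] [IsProper (X ↘ Spec (CommRingCat.of A))]
    (hN : Coh.IsCoh N) (hfl : FlatMod.IsFlatOver (X ↘ Spec (CommRingCat.of A)) N)
    (hvan : ∀ (L : ChainComplex (ModuleCat.{u} A) ℤ)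
      (_ : CohIII.tensorAFunctor A N ⋙ CohIII.HAb X 1 ≅
        CohIII.TFun L (-((1 : ℕ) : ℤ)) ⋙ forget₂ (ModuleCat.{u} A) AddCommGrpCat.{u})
      (x : PrimeSpectrum A),
      Subsingleton ↥((CohIII.bcCx (algebraMap A x.asIdeal.ResidueField) L).homology
        (-((1 : ℕ) : ℤ))))
    {K : Type u} [Field K] (ρ : A →+* K) (hK : ∀ m : K, ∃ a b : A, ρ a ≠ 0 ∧ ρ a * m = ρ b)
    {X' : Scheme.{u}} {g' : X' ⟶ X} {f' : X' ⟶ Spec (CommRingCat.of K)}
    (hc : IsPullback g' f' (X ↘ Spec (CommRingCat.of A)) (Spec.map (CommRingCat.ofHom ρ)))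
    (u : ↑Γ((plb g').obj N, g' ⁻¹ᵁ ⊤)) :
    ∃ (s : ↑Γ(N, ⊤)) (a : A), ρ a ≠ 0 ∧
      (un g' N).app ⊤ s = αW f' (g' ⁻¹ᵁ ⊤) (ρ a) • u := by
  obtain ⟨ι₉⟩ := Groth.Agent.R2.H8.CbcG9.g9 A N
  let u' : ↑Γ(G₁ A g' N, g' ⁻¹ᵁ ⊤) := ((plb g').map ι₉.inv).app (g' ⁻¹ᵁ ⊤) u
  obtain ⟨z, a, ha, hz⟩ := exists_unit_lift₁ A N hN hfl hvan ρ hK hc u'
  refine ⟨ι₉.hom.app ⊤ z, a, ha, ?_⟩
  have hnat : un g' (F₁ A N) ≫ (psh g').map ((plb g').map ι₉.hom) = ι₉.hom ≫ un g' N :=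
    ((ppAdj g').unit.naturality ι₉.hom).symm
  have h1 : (un g' N).app ⊤ (ι₉.hom.app ⊤ z) =
      ((plb g').map ι₉.hom).app (g' ⁻¹ᵁ ⊤) ((un g' (F₁ A N)).app ⊤ z) :=
    (ConcreteCategory.congr_hom (congrArg (fun φ => Scheme.Modules.Hom.app φ ⊤) hnat) z).symm
  have h2 : (un g' (F₁ A N)).app ⊤ z = αW f' (g' ⁻¹ᵁ ⊤) (ρ a) • u' := hz
  rw [h1, h2, Scheme.Modules.Hom.app_smul]
  congr 1
  change ((plb g').map ι₉.hom).app (g' ⁻¹ᵁ ⊤) (((plb g').map ι₉.inv).app (g' ⁻¹ᵁ ⊤) u) = u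
  have h3 : (plb g').map ι₉.inv ≫ (plb g').map ι₉.hom = 𝟙 _ := by
    rw [← Functor.map_comp, Iso.inv_hom_id, CategoryTheory.Functor.map_id]
  exact ConcreteCategory.congr_hom (congrArg (fun φ => Scheme.Modules.Hom.app φ (g' ⁻¹ᵁ ⊤)) h3) u


section local_base

open Groth.Agent.R2.H16.CbcFIFib Groth.Agent.R2.H11.CbcInvNear Groth.Agent.Helper13PullbackUnit

variable [IsNoetherianRing A] [IsLocalRing A] [IsProper (X ↘ Spec (CommRingCat.of A))]

/-- over a Noetherian local base: vanishing of `H^1` of the closed fibre gives vanishing on all fibres, in the form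
needed by `exists_unit_lift`. -/
theorem hvan_of_closedFibre (hN : Coh.IsCoh N)
    (hfl : FlatMod.IsFlatOver (X ↘ Spec (CommRingCat.of A)) N)
    (h1 : Subsingleton (CohIII.fiberH (X ↘ Spec (CommRingCat.of A)) N (IsLocalRing.closedPoint A) 1))
    (L : ChainComplex (ModuleCat.{u} A) ℤ)
    (γ : CohIII.tensorAFunctor A N ⋙ CohIII.HAb X 1 ≅
        CohIII.TFun L (-((1 : ℕ) : ℤ)) ⋙ forget₂ (ModuleCat.{u} A) AddCommGrpCat.{u})
    (x : PrimeSpectrum A) :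
    Subsingleton ↥((CohIII.bcCx (algebraMap A x.asIdeal.ResidueField) L).homology
      (-((1 : ℕ) : ℤ))) := by
  haveI : N.IsQuasicoherent := hN.1
  haveI : CompactSpace X :=
    QuasiCompact.compactSpace_of_compactSpace (X ↘ Spec (CommRingCat.of A))
  obtain ⟨U₁, hyU₁, hU₁⟩ := exists_nhd_fiberH_subsingleton (X ↘ Spec (CommRingCat.of A)) N hN hfl 1
    (IsLocalRing.closedPoint A) h1
  have hx : (show ↥(Spec (CommRingCat.of A)) from x) ∈ U₁ :=
    (IsLocalRing.specializes_closedPoint x).mem_open U₁.isOpen hyU₁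
  exact (subsingleton_fiberH_iff N x L 1 γ).mp (hU₁ _ hx)

/-- **every section of `N` on the closed fibre lifts** (Noetherian local base, `H^1` of the closed fibre vanishes). -/
theorem surjective_unit_closedFibre (hN : Coh.IsCoh N)
    (hfl : FlatMod.IsFlatOver (X ↘ Spec (CommRingCat.of A)) N)
    (h1 : Subsingleton (CohIII.fiberH (X ↘ Spec (CommRingCat.of A)) N (IsLocalRing.closedPoint A) 1)) :
    Function.Surjective
      ((un ((X ↘ Spec (CommRingCat.of A)).fiberι (IsLocalRing.closedPoint A)) N).app ⊤) := by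
  intro u₁
  let y : ↥(Spec (CommRingCat.of A)) := IsLocalRing.closedPoint A
  obtain ⟨u, hu⟩ : ∃ u : ↑Γ((plb ((X ↘ Spec (CommRingCat.of A)).fiberι y)).obj N,
      ((X ↘ Spec (CommRingCat.of A)).fiberι y) ⁻¹ᵁ ⊤), u = u₁ := ⟨u₁, rfl⟩
  have hK : ∀ m : ↑((Spec (CommRingCat.of A)).residueField y),
      ∃ a b : A, (ρκ y) a ≠ 0 ∧ (ρκ y) a * m = (ρκ y) b := by
    intro m
    obtain ⟨a, b, ha, hab⟩ := residueField_frac (yp y).asIdeal ((iκ y).symm m)
    have hρ : ∀ c : A, (ρκ y) c = (iκ y) (algebraMap A (yp y).asIdeal.ResidueField c) := fun c => rfl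
    refine ⟨a, b, ?_, ?_⟩
    · rw [hρ]
      intro h0
      exact ha ((map_eq_zero_iff _ (iκ y).injective).mp h0)
    · rw [hρ, hρ, ← hab, map_mul, RingEquiv.apply_symm_apply]
  obtain ⟨s, a, ha, hs⟩ := exists_unit_lift A N hN hfl (hvan_of_closedFibre A N hN hfl h1)
    (ρκ y) hK (fiber_isPullback y) u
  -- `a` is a unit of `A`
  have hau : IsUnit a := by
    by_contra hna
    apply ha
    have hmem : a ∈ (yp y).asIdeal := (IsLocalRing.mem_maximalIdeal a).mpr hna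
    have h0 : algebraMap A (yp y).asIdeal.ResidueField a = 0 :=
      Ideal.algebraMap_residueField_eq_zero.mpr hmem
    change (iκ y) (algebraMap A (yp y).asIdeal.ResidueField a) = 0
    rw [h0, map_zero]
  obtain ⟨b, hb⟩ := hau.exists_left_inv
  refine ⟨αW (X ↘ Spec (CommRingCat.of A)) ⊤ b • s, ?_⟩
  have hcomm := αW_comm (fiber_isPullback (X := X) y) ⊤ b
  have e1 : (((X ↘ Spec (CommRingCat.of A)).fiberι y).app ⊤).hom
      (αW (X ↘ Spec (CommRingCat.of A)) ⊤ b) =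
      αW ((X ↘ Spec (CommRingCat.of A)).fiberToSpecResidueField y)
        (((X ↘ Spec (CommRingCat.of A)).fiberι y) ⁻¹ᵁ ⊤) ((ρκ y) b) := by
    rw [Scheme.Hom.app_eq_appLE]
    exact hcomm.symm
  have e2 : (un ((X ↘ Spec (CommRingCat.of A)).fiberι y) N).app ⊤
      (αW (X ↘ Spec (CommRingCat.of A)) ⊤ b • s) =
      αW ((X ↘ Spec (CommRingCat.of A)).fiberToSpecResidueField y)
        (((X ↘ Spec (CommRingCat.of A)).fiberι y) ⁻¹ᵁ ⊤) ((ρκ y) b) •
      (αW ((X ↘ Spec (CommRingCat.of A)).fiberToSpecResidueField y)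
        (((X ↘ Spec (CommRingCat.of A)).fiberι y) ⁻¹ᵁ ⊤) ((ρκ y) a) • u) := by
    rw [Scheme.Modules.Hom.app_smul, pushforward_smul, e1, hs]
    rfl
  have e3 : αW ((X ↘ Spec (CommRingCat.of A)).fiberToSpecResidueField y)
        (((X ↘ Spec (CommRingCat.of A)).fiberι y) ⁻¹ᵁ ⊤) ((ρκ y) b) *
      αW ((X ↘ Spec (CommRingCat.of A)).fiberToSpecResidueField y)
        (((X ↘ Spec (CommRingCat.of A)).fiberι y) ⁻¹ᵁ ⊤) ((ρκ y) a) = 1 := by
    have h4 : (ρκ y) b * (ρκ y) a = 1 :=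
      ((ρκ y).map_mul b a).symm.trans ((congrArg (ρκ y) hb).trans (ρκ y).map_one)
    exact (RingHom.map_mul _ _ _).symm.trans ((congrArg _ h4).trans (RingHom.map_one _))
  rw [e2, smul_smul, e3, one_smul]
  exact hu

end local_base

end Groth.Agent.R2.H21.NearLift
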