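import Mathlib
import Groth.Prelude.Def_RelProj
import Groth.Agent.R2.H21GrAlg

/-!
# Polynomial algebras over a quasi-coherent algebra, as quasi-coherent graded algebras (helper21)

For a quasi-coherent algebra `𝒜` on a scheme `S` and a type of variables `σ`, we construct

* `polyGr 𝒜 σ : RelProj.QCGrAlg S`, the polynomial algebra `𝒜[T_k, k ∈ σ]` graded by total degree;
  over an affine open `U` its ring of sections is identified with `MvPolynomial σ (𝒜(U))` through `polyIso`;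
* `polyι 𝒜 σ : 𝒜 ⟶ (polyGr 𝒜 σ).toQCAlg`, the inclusion of the constants, landing in degree zero;
* `polyX 𝒜 σ k`, the global section `T_k`, of degree one;
* `isGenDegOne_polyGr`, `isFTDeg_one_polyGr` (for `σ` finite and `𝒜` finite over the structure sheaf).
-/

set_option autoImplicit false
universe u
open CategoryTheory Limits AlgebraicGeometry TopologicalSpace Opposite

namespace Groth.Agent.R2.H21.PolyAlg

open Groth.Agent.R2.H21.QCSh Groth.Agent.R2.H21.GrAlg

noncomputable section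

variable {S : Scheme.{u}} (𝒜 : RelSpec.QCAlg S) (σ : Type)

/-- the presheaf `U ↦ 𝒜(U)[T_σ]` -/
def polyPre : TopCat.Presheaf CommRingCat.{u} S.carrier where
  obj U := CommRingCat.of (MvPolynomial σ (𝒜.presheaf.obj U))
  map i := CommRingCat.ofHom (MvPolynomial.map (𝒜.presheaf.map i).hom)
  map_id U := by
    apply CommRingCat.hom_ext
    apply RingHom.ext
    intro x
    change MvPolynomial.map (𝒜.presheaf.map (𝟙 U)).hom x = x
    rw [CategoryTheory.Functor.map_id]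
    exact MvPolynomial.map_id x
  map_comp i j := by
    apply CommRingCat.hom_ext
    apply RingHom.ext
    intro x
    change MvPolynomial.map (𝒜.presheaf.map (i ≫ j)).hom x =
      MvPolynomial.map (𝒜.presheaf.map j).hom (MvPolynomial.map (𝒜.presheaf.map i).hom x)
    rw [CategoryTheory.Functor.map_comp, MvPolynomial.map_map]
    rfl

theorem polyPre_map_apply {U V : (Opens S.carrier)ᵒᵖ} (i : U ⟶ V)
    (x : MvPolynomial σ (𝒜.presheaf.obj U)) :
    ((polyPre 𝒜 σ).map i).hom x = MvPolynomial.map (𝒜.presheaf.map i).hom x := rfl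

/-- the constants -/
def polyC : 𝒜.presheaf ⟶ polyPre 𝒜 σ where
  app U := CommRingCat.ofHom MvPolynomial.C
  naturality U V i := by
    apply CommRingCat.hom_ext
    apply RingHom.ext
    intro x
    change MvPolynomial.C ((𝒜.presheaf.map i).hom x) =
      MvPolynomial.map (𝒜.presheaf.map i).hom (MvPolynomial.C x)
    rw [MvPolynomial.map_C]

theorem polyC_app_apply (U : (Opens S.carrier)ᵒᵖ) (a : 𝒜.presheaf.obj U) :
    ((polyC 𝒜 σ).app U).hom a = MvPolynomial.C a := rfl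

/-- the structure map -/
def polyStr : S.presheaf ⟶ polyPre 𝒜 σ := 𝒜.str ≫ polyC 𝒜 σ

theorem polyStr_app_apply (U : (Opens S.carrier)ᵒᵖ) (r : S.presheaf.obj U) :
    ((polyStr 𝒜 σ).app U).hom r = MvPolynomial.C ((𝒜.str.app U).hom r) := rfl

theorem isQC_poly : RelSpec.IsQC (polyPre 𝒜 σ) (polyStr 𝒜 σ) := by
  intro U hU r
  let alg1 : Algebra (𝒜.presheaf.obj (op U)) (𝒜.presheaf.obj (op (S.basicOpen r))) :=
    (𝒜.presheaf.map (homOfLE (S.basicOpen_le r)).op).hom.toAlgebra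
  have hloc : IsLocalization.Away ((𝒜.str.app (op U)).hom r)
    (𝒜.presheaf.obj (op (S.basicOpen r))) := 𝒜.isQC U hU r
  have h2 := MvPolynomial.isLocalization (σ := σ) (Submonoid.powers ((𝒜.str.app (op U)).hom r))
    (𝒜.presheaf.obj (op (S.basicOpen r)))
  rw [Submonoid.map_powers] at h2
  have halg : (MvPolynomial.algebraMvPolynomial :
      Algebra (MvPolynomial σ (𝒜.presheaf.obj (op U)))
        (MvPolynomial σ (𝒜.presheaf.obj (op (S.basicOpen r))))) =
      (((polyPre 𝒜 σ).map (homOfLE (S.basicOpen_le r)).op).hom.toAlgebra) := by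
    apply Algebra.algebra_ext
    intro x
    rfl
  rw [halg] at h2
  exact h2

/-- the grading by total degree -/
def polyDeg (U : S.Opens) (_ : IsAffineOpen U) (d : ℕ) :
    AddSubgroup ((polyPre 𝒜 σ).obj (op U)) :=
  (MvPolynomial.homogeneousSubmodule σ (𝒜.presheaf.obj (op U)) d).toAddSubgroup

theorem mem_polyDeg (U : S.Opens) (hU : IsAffineOpen U) (d : ℕ)
    (x : MvPolynomial σ (𝒜.presheaf.obj (op U))) :
    x ∈ polyDeg 𝒜 σ U hU d ↔ x.IsHomogeneous d := Iff.rfl

attribute [local instance] MvPolynomial.gradedAlgebra in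
/-- the graded ring structure -/
@[instance_reducible]
def polyGraded (U : S.Opens) (hU : IsAffineOpen U) : GradedRing (polyDeg 𝒜 σ U hU) :=
  gradedRingOfEquiv (RingEquiv.refl (MvPolynomial σ (𝒜.presheaf.obj (op U))))
    (MvPolynomial.homogeneousSubmodule σ (𝒜.presheaf.obj (op U))) (polyDeg 𝒜 σ U hU)
    (fun _ _ => Iff.rfl)

/-- the polynomial algebra `𝒜[T_σ]` as a quasi-coherent graded algebra -/
def polyGr : RelProj.QCGrAlg S :=
  shGrAlg (polyPre 𝒜 σ) (polyStr 𝒜 σ) (isQC_poly 𝒜 σ) (polyDeg 𝒜 σ) (polyGraded 𝒜 σ)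
    (fun {U V} hU hV i {d} {x} hx =>
      MvPolynomial.IsHomogeneous.map ((mem_polyDeg 𝒜 σ U hU d x).1 hx)
        (𝒜.presheaf.map (homOfLE i).op).hom)
    (fun U hU r => MvPolynomial.isHomogeneous_C σ ((𝒜.str.app (op U)).hom r))

/-- sections over an affine open are polynomials -/
def polyIso (U : S.Opens) (hU : IsAffineOpen U) :
    (polyGr 𝒜 σ).presheaf.obj (op U) ≃+* MvPolynomial σ (𝒜.presheaf.obj (op U)) :=
  γEquiv (polyPre 𝒜 σ) (polyStr 𝒜 σ) (isQC_poly 𝒜 σ) U hU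

theorem mem_deg_iff (U : S.Opens) (hU : IsAffineOpen U) (d : ℕ)
    (x : (polyGr 𝒜 σ).presheaf.obj (op U)) :
    x ∈ (polyGr 𝒜 σ).deg U hU d ↔ (polyIso 𝒜 σ U hU x).IsHomogeneous d := Iff.rfl

/-- the canonical map from the presheaf of polynomial rings -/
def polyTo : polyPre 𝒜 σ ⟶ (polyGr 𝒜 σ).presheaf :=
  toSh (polyPre 𝒜 σ) (polyStr 𝒜 σ) (isQC_poly 𝒜 σ)

/-- the canonical map from the polynomial ring over an open, as a ring homomorphism -/
def polyHom (U : S.Opens) :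
    MvPolynomial σ (𝒜.presheaf.obj (op U)) →+* (polyGr 𝒜 σ).presheaf.obj (op U) :=
  ((polyTo 𝒜 σ).app (op U)).hom

theorem polyIso_polyHom (U : S.Opens) (hU : IsAffineOpen U)
    (y : MvPolynomial σ (𝒜.presheaf.obj (op U))) :
    polyIso 𝒜 σ U hU (polyHom 𝒜 σ U y) = y :=
  toSh_γ_apply (polyPre 𝒜 σ) (polyStr 𝒜 σ) (isQC_poly 𝒜 σ) U hU y

theorem polyHom_polyIso (U : S.Opens) (hU : IsAffineOpen U)
    (x : (polyGr 𝒜 σ).presheaf.obj (op U)) :
    polyHom 𝒜 σ U (polyIso 𝒜 σ U hU x) = x :=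
  γ_toSh_apply (polyPre 𝒜 σ) (polyStr 𝒜 σ) (isQC_poly 𝒜 σ) U hU x

theorem polyHom_mem_deg_iff (U : S.Opens) (hU : IsAffineOpen U) (d : ℕ)
    (y : MvPolynomial σ (𝒜.presheaf.obj (op U))) :
    polyHom 𝒜 σ U y ∈ (polyGr 𝒜 σ).deg U hU d ↔ y.IsHomogeneous d := by
  rw [mem_deg_iff, polyIso_polyHom]

theorem polyHom_bijective (U : S.Opens) (hU : IsAffineOpen U) :
    Function.Bijective (polyHom 𝒜 σ U) :=
  toSh_bijective (polyPre 𝒜 σ) (polyStr 𝒜 σ) (isQC_poly 𝒜 σ) U hU

theorem polyStr_polyTo : polyStr 𝒜 σ ≫ polyTo 𝒜 σ = (polyGr 𝒜 σ).str :=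
  str_toSh (polyPre 𝒜 σ) (polyStr 𝒜 σ) (isQC_poly 𝒜 σ)

theorem polyHom_C_str (U : S.Opens) (r : Γ(S, U)) :
    polyHom 𝒜 σ U (MvPolynomial.C ((𝒜.str.app (op U)).hom r)) =
      ((polyGr 𝒜 σ).str.app (op U)).hom r := by
  rw [← polyStr_polyTo]
  rfl

/-- the inclusion of the constants -/
def polyι : 𝒜 ⟶ (polyGr 𝒜 σ).toQCAlg where
  hom := polyC 𝒜 σ ≫ polyTo 𝒜 σ
  comm := by
    rw [← Category.assoc]
    exact polyStr_polyTo 𝒜 σ

theorem polyι_app_apply (U : S.Opens) (a : 𝒜.presheaf.obj (op U)) :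
    ((polyι 𝒜 σ).hom.app (op U)).hom a = polyHom 𝒜 σ U (MvPolynomial.C a) := rfl

theorem polyι_mem_deg_zero (U : S.Opens) (hU : IsAffineOpen U) (a : 𝒜.presheaf.obj (op U)) :
    ((polyι 𝒜 σ).hom.app (op U)).hom a ∈ (polyGr 𝒜 σ).deg U hU 0 := by
  rw [polyι_app_apply, polyHom_mem_deg_iff]
  exact MvPolynomial.isHomogeneous_C σ _

/-- the variables, as global sections -/
def polyX (k : σ) : (polyGr 𝒜 σ).presheaf.obj (op ⊤) :=
  polyHom 𝒜 σ ⊤ (MvPolynomial.X k)

theorem polyHom_res {U V : S.Opens} (i : V ≤ U) (y : MvPolynomial σ (𝒜.presheaf.obj (op U))) :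
    ((polyGr 𝒜 σ).presheaf.map (homOfLE i).op).hom (polyHom 𝒜 σ U y) =
      polyHom 𝒜 σ V (MvPolynomial.map (𝒜.presheaf.map (homOfLE i).op).hom y) := by
  have h1 := (polyTo 𝒜 σ).naturality (homOfLE i).op
  exact (congrArg (fun t : (polyPre 𝒜 σ).obj (op U) ⟶ _ => t.hom y) h1).symm

theorem polyX_res (k : σ) (U : S.Opens) :
    ((polyGr 𝒜 σ).presheaf.map (homOfLE (le_top : U ≤ ⊤)).op).hom (polyX 𝒜 σ k) =
      polyHom 𝒜 σ U (MvPolynomial.X k) := by
  rw [polyX, polyHom_res, MvPolynomial.map_X]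

theorem polyX_res_mem_deg_one (k : σ) (U : S.Opens) (hU : IsAffineOpen U) :
    ((polyGr 𝒜 σ).presheaf.map (homOfLE (le_top : U ≤ ⊤)).op).hom (polyX 𝒜 σ k) ∈
      (polyGr 𝒜 σ).deg U hU 1 := by
  rw [polyX_res, polyHom_mem_deg_iff]
  exact MvPolynomial.isHomogeneous_X _ k

theorem polyHom_mem_closure (U : S.Opens) (hU : IsAffineOpen U)
    (y : MvPolynomial σ (𝒜.presheaf.obj (op U))) :
    polyHom 𝒜 σ U y ∈
      Subring.closure ((((polyGr 𝒜 σ).deg U hU 0 : Set ((polyGr 𝒜 σ).presheaf.obj (op U)))) ∪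
        ((polyGr 𝒜 σ).deg U hU 1 : Set _)) := by
  induction y using MvPolynomial.induction_on with
  | C a =>
    exact Subring.subset_closure (Or.inl ((polyHom_mem_deg_iff 𝒜 σ U hU 0 _).2
      (MvPolynomial.isHomogeneous_C σ a)))
  | add p q hp hq =>
    rw [map_add]
    exact Subring.add_mem _ hp hq
  | mul_X p k hp =>
    rw [map_mul]
    exact Subring.mul_mem _ hp (Subring.subset_closure (Or.inr ((polyHom_mem_deg_iff 𝒜 σ U hU 1 _).2
      (MvPolynomial.isHomogeneous_X _ k))))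

theorem isGenDegOne_polyGr : (polyGr 𝒜 σ).IsGenDegOne := by
  intro U hU
  rw [eq_top_iff]
  intro x _
  obtain ⟨y, rfl⟩ := (polyHom_bijective 𝒜 σ U hU).2 x
  exact polyHom_mem_closure 𝒜 σ U hU y

theorem isFTDeg_one_polyGr [Finite σ]
    (hfin : ∀ (U : S.Opens), IsAffineOpen U → (𝒜.str.app (op U)).hom.Finite) :
    (polyGr 𝒜 σ).IsFTDeg 1 := by
  classical
  intro U hU
  cases nonempty_fintype σ
  let algA : Algebra Γ(S, U) (𝒜.presheaf.obj (op U)) := (𝒜.str.app (op U)).hom.toAlgebra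
  let algB : Algebra Γ(S, U) ((polyGr 𝒜 σ).presheaf.obj (op U)) :=
    ((polyGr 𝒜 σ).str.app (op U)).hom.toAlgebra
  have hA : Module.Finite Γ(S, U) (𝒜.presheaf.obj (op U)) := hfin U hU
  obtain ⟨T, hT⟩ := hA.fg_top
  let T' : Finset ((polyGr 𝒜 σ).presheaf.obj (op U)) :=
    (T ×ˢ (Finset.univ : Finset σ)).image
      (fun tk => polyHom 𝒜 σ U (MvPolynomial.C tk.1 * MvPolynomial.X tk.2))
  have claim : ∀ (a : 𝒜.presheaf.obj (op U)) (k : σ),
      polyHom 𝒜 σ U (MvPolynomial.C a * MvPolynomial.X k) ∈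
        Submodule.span Γ(S, U) (T' : Set ((polyGr 𝒜 σ).presheaf.obj (op U))) := by
    intro a k
    have ha : a ∈ Submodule.span Γ(S, U) (T : Set (𝒜.presheaf.obj (op U))) := by
      rw [hT]; exact Submodule.mem_top
    induction ha using Submodule.span_induction with
    | mem t ht =>
      exact Submodule.subset_span (Finset.mem_coe.2 (Finset.mem_image.2
        ⟨(t, k), Finset.mem_product.2 ⟨ht, Finset.mem_univ k⟩, rfl⟩))
    | zero =>
      rw [map_zero, zero_mul, map_zero]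
      exact Submodule.zero_mem _
    | add a b _ _ ha hb =>
      rw [map_add, add_mul, map_add]
      exact Submodule.add_mem _ ha hb
    | smul r a _ ha =>
      have h1 : polyHom 𝒜 σ U (MvPolynomial.C (r • a) * MvPolynomial.X k) =
          r • polyHom 𝒜 σ U (MvPolynomial.C a * MvPolynomial.X k) := by
        rw [Algebra.smul_def, Algebra.smul_def, map_mul MvPolynomial.C, mul_assoc,
          map_mul (polyHom 𝒜 σ U)]
        exact congrArg (· * _) (polyHom_C_str 𝒜 σ U r)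
      rw [h1]
      exact Submodule.smul_mem _ r ha
  refine ⟨T', ?_, ?_⟩
  · intro x hx
    obtain ⟨⟨t, k⟩, _, rfl⟩ := Finset.mem_image.1 (Finset.mem_coe.1 hx)
    exact (polyHom_mem_deg_iff 𝒜 σ U hU 1 _).2
      (MvPolynomial.isHomogeneous_C_mul_X t k)
  · intro x hx
    have key : x ∈ Submodule.span Γ(S, U) (T' : Set ((polyGr 𝒜 σ).presheaf.obj (op U))) := by
      have hy : polyIso 𝒜 σ U hU x ∈
          MvPolynomial.homogeneousSubmodule σ (𝒜.presheaf.obj (op U)) 1 :=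
        (mem_deg_iff 𝒜 σ U hU 1 x).1 hx
      rw [MvPolynomial.homogeneousSubmodule_one_eq_span_X,
        Submodule.mem_span_range_iff_exists_fun] at hy
      obtain ⟨a, ha⟩ := hy
      rw [← polyHom_polyIso 𝒜 σ U hU x, ← ha, map_sum]
      refine Submodule.sum_mem _ fun k _ => ?_
      rw [MvPolynomial.smul_eq_C_mul]
      exact claim (a k) k
    obtain ⟨c, -, hc⟩ := Submodule.mem_span_finset.1 key
    refine ⟨c, ?_⟩
    rw [← hc]
    refine Finset.sum_congr rfl fun t _ => ?_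
    rw [Algebra.smul_def]
    rfl

theorem eval₂RingHom_eq [Unique σ] (U : S.Opens) :
    Polynomial.eval₂RingHom ((polyι 𝒜 σ).hom.app (op U)).hom
        (((polyGr 𝒜 σ).presheaf.map (homOfLE (le_top : U ≤ ⊤)).op).hom (polyX 𝒜 σ default)) =
      (polyHom 𝒜 σ U).comp
        ((MvPolynomial.uniqueAlgEquiv (𝒜.presheaf.obj (op U)) σ).symm :
          Polynomial (𝒜.presheaf.obj (op U)) →+* MvPolynomial σ (𝒜.presheaf.obj (op U))) := by
  apply Polynomial.ringHom_ext
  · intro a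
    rw [Polynomial.coe_eval₂RingHom, Polynomial.eval₂_C, polyι_app_apply, RingHom.comp_apply]
    congr 1
    simp
  · rw [Polynomial.coe_eval₂RingHom, Polynomial.eval₂_X, polyX_res, RingHom.comp_apply]
    congr 1
    simp

theorem eval₂RingHom_bijective [Unique σ] (U : S.Opens) (hU : IsAffineOpen U) :
    Function.Bijective (Polynomial.eval₂RingHom ((polyι 𝒜 σ).hom.app (op U)).hom
      (((polyGr 𝒜 σ).presheaf.map (homOfLE (le_top : U ≤ ⊤)).op).hom (polyX 𝒜 σ default))) := by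
  rw [eval₂RingHom_eq]
  exact (polyHom_bijective 𝒜 σ U hU).comp
    (MvPolynomial.uniqueAlgEquiv (𝒜.presheaf.obj (op U)) σ).symm.bijective

end

end Groth.Agent.R2.H21.PolyAlg
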