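import Mathlib
import Groth.Agent.R2.H21DualPull
set_option backward.isDefEq.respectTransparency.types false

/-!
# Lifting homomorphisms along a pullback (helper21)

* `unit_proj` : `(η_A ⊗ B) ≫ proj = deltaFlat` (projection formula versus the monoidal structure of the pullback).
* `unitTensorIso` : `θ : g_*g^*G ⊗ D ≅ g_*g^*(G ⊗ D)` for `D` finite locally free, with `(η_G ⊗ D) ≫ θ = η_{G ⊗ D}`.
* `exists_pullback_map_eq` : if every section of `g^*(G ⊗ F^∨)` comes from a global section of `G ⊗ F^∨`, then every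
  morphism `g^*F ⟶ g^*G` is the pullback of a morphism `F ⟶ G` (`F` finite locally free).
-/

set_option autoImplicit false
set_option linter.style.haveILetI false
universe u
open CategoryTheory CategoryTheory.Limits AlgebraicGeometry TopologicalSpace Opposite MonoidalCategory

namespace Groth.Agent.R2.H21.ProjUnit

open Groth.Agent.R2.H21.HomDual Groth.Agent.R2.H21.DualPull Groth.Agent.Lib.Helper1.PT
  Groth.Agent.Lib.Helper1.Sky Groth.Agent.Lib.Helper1.StalkTensor
  Groth.Agent.Lib.Helper21.ModTensor2 Groth.Agent.Lib.Helper1.KBC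
  Groth.Agent.R2.H27.ProjClosed

variable {X Y : Scheme.{u}} (f : X ⟶ Y)

/-- the projection map composed with the unit is the (flat form of the) monoidal comparison map -/
lemma unit_proj (A B : Y.Modules) :
    (DCoh.tensorBi.map (un f A)).app B ≫ proj f ((plb f).obj A) B = deltaFlat f A B := by
  apply shX_hom_ext (T := toPM A ⊗ toPM B)
  have h1 : etaX (toPM A ⊗ toPM B) ≫
      toPMMap ((DCoh.tensorBi.map (un f A)).app B ≫ proj f ((plb f).obj A) B) =
      (toPMMap (un f A) ▷ toPM B) ≫ pP f ((plb f).obj A) B := by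
    have e1 := etaX_naturality (toPMMap (un f A) ▷ toPM B)
    have e2 := etaX_proj f ((plb f).obj A) B
    calc etaX (toPM A ⊗ toPM B) ≫
          toPMMap ((DCoh.tensorBi.map (un f A)).app B ≫ proj f ((plb f).obj A) B)
        = (etaX (toPM A ⊗ toPM B) ≫ toPMMap (shX.map (toPMMap (un f A) ▷ toPM B))) ≫
            toPMMap (proj f ((plb f).obj A) B) := (Category.assoc _ _ _).symm
      _ = ((toPMMap (un f A) ▷ toPM B) ≫ etaX (toPM ((psh f).obj ((plb f).obj A)) ⊗ toPM B)) ≫
            toPMMap (proj f ((plb f).obj A) B) := by rw [e1]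
      _ = (toPMMap (un f A) ▷ toPM B) ≫ pP f ((plb f).obj A) B := by rw [Category.assoc, e2]
  have h2 : (toPMMap (un f A) ▷ toPM B) ≫ pP f ((plb f).obj A) B = dP f A B := by
    unfold pP dP
    rw [← Category.assoc, MonoidalCategory.tensorHom_def]
  exact h1.trans (h2.trans (etaX_deltaFlat f A B).symm)

/-- `(η_A ⊗ B) ≫ proj = η_{A ⊗ B} ≫ f_*(δ)` -/
lemma unit_proj' (A B : Y.Modules) :
    (DCoh.tensorBi.map (un f A)).app B ≫ proj f ((plb f).obj A) B =
      un f (tens A B) ≫ (psh f).map (delta f A B) := by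
  rw [unit_proj, un_delta]

section Lift

variable {X' X : Scheme.{u}} (g : X' ⟶ X)

/-- `θ : g_*g^*G ⊗ D ≅ g_*g^*(G ⊗ D)` for `D` finite locally free -/
noncomputable def unitTensorIso (G D : X.Modules) (hD : FlatMod.IsFinLocFree D) :
    tens ((psh g).obj ((plb g).obj G)) D ≅ (psh g).obj ((plb g).obj (tens G D)) :=
  haveI := Groth.Agent.R2.H28.ProjRq.isIso_proj_of_isFinLocFree g ((plb g).obj G) D hD
  asIso (proj g ((plb g).obj G) D) ≪≫ (psh g).mapIso (asIso (delta g G D)).symm

lemma unit_unitTensorIso (G D : X.Modules) (hD : FlatMod.IsFinLocFree D) :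
    (DCoh.tensorBi.map (un g G)).app D ≫ (unitTensorIso g G D hD).hom = un g (tens G D) := by
  haveI := Groth.Agent.R2.H28.ProjRq.isIso_proj_of_isFinLocFree g ((plb g).obj G) D hD
  change (DCoh.tensorBi.map (un g G)).app D ≫ (proj g ((plb g).obj G) D ≫
    (psh g).map (inv (delta g G D))) = un g (tens G D)
  rw [← Category.assoc, unit_proj', Category.assoc, ← Functor.map_comp, IsIso.hom_inv_id,
    CategoryTheory.Functor.map_id, Category.comp_id]

/-- **lifting homomorphisms**: if every global section of `g^*(G ⊗ F^∨)` comes from a global section of `G ⊗ F^∨`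
then every morphism `g^*F ⟶ g^*G` is the pullback of a morphism `F ⟶ G`. -/
theorem exists_pullback_map_eq (F G : X.Modules) (hF : FlatMod.IsFinLocFree F)
    (h : Function.Surjective ((un g ((tRX (dualMod F)).obj G)).app ⊤))
    (u₀ : (plb g).obj F ⟶ (plb g).obj G) : ∃ u : F ⟶ G, (plb g).map u = u₀ := by
  have hD := isFinLocFree_dualMod F hF
  let θ := unitTensorIso g G (dualMod F) hD
  obtain ⟨s, hs⟩ := h (θ.hom.app ⊤ (homDualAddEquiv F hF _ ((ppAdj g).homEquiv F ((plb g).obj G) u₀)))
  refine ⟨(homDualAddEquiv F hF G).symm s, ?_⟩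
  apply ((ppAdj g).homEquiv F ((plb g).obj G)).injective
  rw [Adjunction.homEquiv_unit, Adjunction.unit_naturality]
  apply (homDualAddEquiv F hF _).injective
  rw [homDualAddEquiv_naturality, AddEquiv.apply_symm_apply]
  have hinj : Function.Injective (θ.hom.app ⊤) := by
    intro a b hab
    have h1 : θ.inv.app ⊤ (θ.hom.app ⊤ a) = a := by
      change (θ.hom ≫ θ.inv).app ⊤ a = a
      rw [θ.hom_inv_id]; rfl
    have h2 : θ.inv.app ⊤ (θ.hom.app ⊤ b) = b := by
      change (θ.hom ≫ θ.inv).app ⊤ b = b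
      rw [θ.hom_inv_id]; rfl
    rw [← h1, ← h2, hab]
  apply hinj
  rw [← hs]
  exact congrArg (fun φ => φ.app ⊤ s) (unit_unitTensorIso g G (dualMod F) hD)

end Lift

end Groth.Agent.R2.H21.ProjUnit
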