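import Mathlib
import Groth.Prelude.Def_Coh
import Groth.Prelude.Def_CohB1
import Groth.Agent.R2.H79TwistCalc
import Groth.Agent.R2.H34InvDual
import Groth.Agent.Lib.Helper23RestrTensor
import Groth.Agent.Lib.Helper23PB
import Groth.Agent.Lib.Helper23TensorQCoh
import Groth.Agent.Lib.Helper2PullbackSec
import Groth.Agent.S0012
import Groth.Agent.R2.H58SerreFin

/-!
# The projection formula for invertible modules along an arbitrary morphism (helper54)

For a morphism of schemes `h : Y ⟶ X`, an `O_Y`-module `E` and an **invertible** `O_X`-module `H`: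

* `tensorEquiv H H' e`   : `- ⊗ H` is an equivalence of categories when `e : H ⊗ H' ≅ O_X`;
* `pushTensorInvIso`     : `(h_* E) ⊗ H ≅ h_* (E ⊗ h^* H)` (no hypothesis on `h`): both sides are right adjoint to
  `M ↦ h^*(M ⊗ H') ≅ h^* M ⊗ h^* H'`;
* `subsingleton_HH_push_tensorPow` : for `h` affine and `G` quasi-coherent, `H^p(Y, G ⊗ (h^*L)^n) = 0` implies
  `H^p(X, h_* G ⊗ L^n) = 0`.
-/

set_option autoImplicit false
set_option linter.style.haveILetI false
universe u

open CategoryTheory CategoryTheory.Limits AlgebraicGeometry Opposite TopologicalSpace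

namespace Groth.Agent.R2.H54.ProjInv

open Groth.Agent.R2.H79.TwistCalc Groth.Agent.Lib.Helper1.PT Groth.Agent.Lib.Helper21.ModTensor5

section equiv

variable {X : Scheme.{u}}

/-- `- ⊗ H` is an equivalence with inverse `- ⊗ H'` when `H ⊗ H' ≅ O_X`. -/
noncomputable def tensorEquiv (H H' : X.Modules)
    (e : CohB1.tensorMod H H' ≅ Coh.structureModule X) : X.Modules ≌ X.Modules :=
  CategoryTheory.Equivalence.mk (tensorRightF H) (tensorRightF H')
    (tensorRightFUnit.symm ≪≫ tensorRightFCongr e.symm ≪≫ (tensorAssocNatIso H H').symm)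
    (tensorAssocNatIso H' H ≪≫
      tensorRightFCongr ((((brd X.sheaf).app H').app H) ≪≫ e) ≪≫ tensorRightFUnit)

end equiv

section pf

variable {Y X : Scheme.{u}} (h : Y ⟶ X)

/-- `h^*(M ⊗ N) ≅ h^* M ⊗ h^* N`, naturally in `M`. -/
noncomputable def pullbackTensorNatIso (N : X.Modules) :
    tensorRightF N ⋙ Scheme.Modules.pullback h ≅
      Scheme.Modules.pullback h ⋙ tensorRightF ((Scheme.Modules.pullback h).obj N) :=
  NatIso.ofComponents
    (fun M => Groth.Agent.Lib.Helper23.RestrTensor.pullbackTensorIso M N h)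
    (fun {_ _} φ => delta_naturality_left h φ N)

variable (H H' : X.Modules) (e : CohB1.tensorMod H' H ≅ Coh.structureModule X)

/-- `h^* H' ⊗ h^* H ≅ O_Y` from `H' ⊗ H ≅ O_X`. -/
noncomputable def pullbackInvIso :
    CohB1.tensorMod ((Scheme.Modules.pullback h).obj H') ((Scheme.Modules.pullback h).obj H) ≅
      Coh.structureModule Y :=
  (Groth.Agent.Lib.Helper23.RestrTensor.pullbackTensorIso H' H h).symm ≪≫
    (Scheme.Modules.pullback h).mapIso e ≪≫ Groth.Agent.Lib.Helper23.PB.pullbackUnitIso h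

/-- the adjunction `(- ⊗ H') ⋙ h^* ⊣ h_* ⋙ (- ⊗ H)` -/
noncomputable def adj₁ :
    tensorRightF H' ⋙ Scheme.Modules.pullback h ⊣ Scheme.Modules.pushforward h ⋙ tensorRightF H :=
  (tensorEquiv H' H e).toAdjunction.comp (Scheme.Modules.pullbackPushforwardAdjunction h)

/-- the adjunction `h^* ⋙ (- ⊗ h^*H') ⊣ (- ⊗ h^*H) ⋙ h_*` -/
noncomputable def adj₂ :
    Scheme.Modules.pullback h ⋙ tensorRightF ((Scheme.Modules.pullback h).obj H') ⊣
      tensorRightF ((Scheme.Modules.pullback h).obj H) ⋙ Scheme.Modules.pushforward h :=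
  (Scheme.Modules.pullbackPushforwardAdjunction h).comp
    (tensorEquiv ((Scheme.Modules.pullback h).obj H') ((Scheme.Modules.pullback h).obj H)
      (pullbackInvIso h H H' e)).toAdjunction

/-- the projection formula for a module `H` with a tensor inverse, as an isomorphism of functors. -/
noncomputable def pushTensorNatIso :
    Scheme.Modules.pushforward h ⋙ tensorRightF H ≅
      tensorRightF ((Scheme.Modules.pullback h).obj H) ⋙ Scheme.Modules.pushforward h :=
  ((adj₁ h H H' e).ofNatIsoLeft (pullbackTensorNatIso h H')).rightAdjointUniq (adj₂ h H H' e)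

/-- **projection formula**: `(h_* E) ⊗ H ≅ h_* (E ⊗ h^* H)` for `H` with a tensor inverse. -/
noncomputable def pushTensorInvIso' (E : Y.Modules) :
    CohB1.tensorMod ((Coh.push h).obj E) H ≅
      (Coh.push h).obj (CohB1.tensorMod E ((Scheme.Modules.pullback h).obj H)) :=
  (pushTensorNatIso h H H' e).app E

end pf

/-- **projection formula** for an invertible module `H` along an arbitrary morphism `h`. -/
theorem nonempty_pushTensorInvIso {Y X : Scheme.{u}} (h : Y ⟶ X) (E : Y.Modules) (H : X.Modules)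
    (hH : PicF.IsInvertible H) :
    Nonempty (CohB1.tensorMod ((Coh.push h).obj E) H ≅
      (Coh.push h).obj (CohB1.tensorMod E ((Scheme.Modules.pullback h).obj H))) := by
  obtain ⟨H', -, -, ⟨e⟩⟩ := Groth.Agent.R2.H34.InvDual.exists_inverse H hH
  exact ⟨pushTensorInvIso' h H H' e E⟩

/-- isomorphic modules have the same cohomology (subsingleton form) -/
theorem subsingleton_HH_of_iso {X : Scheme.{u}} {M N : X.Modules} (e : M ≅ N) (p : ℕ)
    (h : Subsingleton (Coh.HH X M p)) : Subsingleton (Coh.HH X N p) :=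
  @Groth.Agent.R2.H58.SerreFin.subsingleton_of_iso X M N e p h

/-- for an affine morphism `h`, `G` quasi-coherent and `L` invertible: `H^p(Y, G ⊗ (h^*L)^n) = 0` implies
`H^p(X, h_* G ⊗ L^n) = 0`. -/
theorem subsingleton_HH_push_tensorPow {Y X : Scheme.{u}} (h : Y ⟶ X) [IsAffineHom h]
    (G : Y.Modules) [G.IsQuasicoherent] (L : X.Modules) (hL : PicF.IsInvertible L) (n p : ℕ)
    (hv : Subsingleton (Coh.HH Y
      (CohB1.tensorMod G (CohB1.tensorPow ((Scheme.Modules.pullback h).obj L) n)) p)) :
    Subsingleton (Coh.HH X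
      (CohB1.tensorMod ((Coh.push h).obj G) (CohB1.tensorPow L n)) p) := by
  obtain ⟨b⟩ := Groth.Agent.Lib.Helper23.PB.nonempty_pullback_tensorPow_iso h L hL n
  have hLn : PicF.IsInvertible (CohB1.tensorPow L n) :=
    Groth.Agent.Lib.Helper23.SecTw.isInvertible_tensorPow hL n
  have h' : Subsingleton (Coh.HH Y
      (CohB1.tensorMod G ((Scheme.Modules.pullback h).obj (CohB1.tensorPow L n))) p) :=
    subsingleton_HH_of_iso ((tensorRightFCongr b.symm).app G) p hv
  haveI : (CohB1.tensorPow L n).IsQuasicoherent :=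
    Groth.Agent.Lib.Helper23.SecTw.isQuasicoherent_of_isInvertible _ hLn
  haveI : ((Scheme.Modules.pullback h).obj (CohB1.tensorPow L n)).IsQuasicoherent :=
    Groth.Agent.Lib.Helper2.PullbackSec.isQuasicoherent_pullback h _
  haveI : Coh.IsQCoh (CohB1.tensorMod G ((Scheme.Modules.pullback h).obj (CohB1.tensorPow L n))) :=
    Groth.Agent.Lib.Helper23.TensorQCoh.isQuasicoherent_tensorMod _ _
  obtain ⟨e⟩ := Groth.Agent.S0012.result h
    (CohB1.tensorMod G ((Scheme.Modules.pullback h).obj (CohB1.tensorPow L n))) p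
  have h'' : Subsingleton (Coh.HH X ((Coh.push h).obj
      (CohB1.tensorMod G ((Scheme.Modules.pullback h).obj (CohB1.tensorPow L n)))) p) :=
    e.symm.toEquiv.subsingleton
  obtain ⟨pf⟩ := nonempty_pushTensorInvIso h G (CohB1.tensorPow L n) hLn
  exact subsingleton_HH_of_iso pf.symm p h''

end Groth.Agent.R2.H54.ProjInv
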