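import Mathlib
import Groth.Prelude.Def_ClSub2
import Groth.Prelude.Def_LCI2
import Groth.Agent.S0055
import Groth.Agent.S2359
import Groth.Agent.S0787
import Groth.Agent.Lib.Helper18Ann2
import Groth.Agent.Lib.Helper20FormalPull
import Groth.Agent.Lib.Helper20PullbackAff
import Groth.Agent.Lib.Helper16ClosedEmb
import Groth.Agent.Lib.Helper21DerAcyc
import Groth.Agent.Lib.Helper23Restr2
import Groth.Agent.Lib.Helper23PB
import Groth.Agent.R2.H54ProjInv
import Groth.Agent.R2.H79TwistCalc

/-!
# Relative Serre vanishing for coherent modules with proper support (helper21)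

* `nonempty_RpushAb_closedImmersion_iso` : `R^p (i ≫ f)_* G ≅ R^p f_* (i_* G)` (abelian sheaves) for a closed immersion `i`.
* `exists_isZero_RpushAb_twist` : `Y` Noetherian, `f : X ⟶ Y` of finite type, `L` invertible and `f`-ample, `N` coherent with
  support proper over `Y`: `R^p f_* (N ⊗ L^n) = 0` for all `p > 0` and `n ≫ 0`.
-/

set_option autoImplicit false
set_option linter.style.haveILetI false
universe u
open CategoryTheory CategoryTheory.Limits AlgebraicGeometry TopologicalSpace Opposite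

namespace Groth.Agent.R2.H21.PropVan

open Groth.Agent.R2.H79.TwistCalc

/-- the higher direct images of `i_* G` along `f` are those of `G` along `i ≫ f`, for a closed immersion `i` -/
theorem nonempty_RpushAb_closedImmersion_iso {T X Y : Scheme.{u}} (i : T ⟶ X) [IsClosedImmersion i]
    (f : X ⟶ Y) (G : T.Modules) (p : ℕ) :
    Nonempty ((Coh.RpushAb (i ≫ f) p).obj (Coh.toAb G) ≅
      (Coh.RpushAb f p).obj (Coh.toAb ((Scheme.Modules.pushforward i).obj G))) := by
  have hi : Topology.IsClosedEmbedding i.base := i.isClosedEmbedding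
  haveI : PreservesFiniteColimits (Coh.pushAb i) :=
    Groth.Agent.Lib.Helper16.ClosedEmb.push_preservesFiniteColimits i.base hi
  haveI : PreservesFiniteLimits (Coh.pushAb i) :=
    Groth.Agent.Lib.Helper16.ClosedEmb.push_preservesFiniteLimits i.base
  haveI : PreservesFiniteLimits (Coh.pushAb f) :=
    Groth.Agent.Lib.Helper16.ClosedEmb.push_preservesFiniteLimits f.base
  haveI : (Coh.pushAb i).PreservesInjectiveObjects :=
    Groth.Agent.Lib.Helper16.ClosedEmb.push_preservesInjectiveObjects i.base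
  have hE : ∀ I : Sheaf (Opens.grothendieckTopology T) AddCommGrpCat.{u}, Injective I →
      ∀ q : ℕ, 0 < q → IsZero (((Coh.pushAb f).rightDerived q).obj ((Coh.pushAb i).obj I)) := by
    intro I hI q hq
    obtain ⟨k, rfl⟩ := Nat.exists_eq_succ_of_ne_zero hq.ne'
    haveI : Injective ((Coh.pushAb i).obj I) := (Coh.pushAb i).injective_obj I
    exact Functor.isZero_rightDerived_obj_injective_succ _ k _
  obtain ⟨e⟩ := Groth.Agent.Lib.Helper21.DerAcyc.nonempty_rightDerived_comp_iso
    (Coh.pushAb i) (Coh.pushAb f) hE (Coh.toAb G) p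
  exact ⟨e⟩

/-- `N ⊗ L ≅ N' ⊗ L` for `N ≅ N'` -/
noncomputable def tensorModMapIsoLeft {X : Scheme.{u}} {N N' : X.Modules} (L : X.Modules) (e : N ≅ N') :
    CohB1.tensorMod N L ≅ CohB1.tensorMod N' L :=
  (tensorRightF L).mapIso e

/-- `G ⊗ L ≅ G ⊗ L'` for `L ≅ L'` -/
noncomputable def tensorModCongrRight {X : Scheme.{u}} (G : X.Modules) {L L' : X.Modules} (b : L ≅ L') :
    CohB1.tensorMod G L ≅ CohB1.tensorMod G L' :=
  (tensorRightFCongr b).app G

/-- **relative Serre vanishing for modules with proper support** -/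
theorem exists_isZero_RpushAb_twist {X Y : Scheme.{u}} (f : X ⟶ Y) [IsNoetherian Y]
    [LocallyOfFiniteType f] [QuasiCompact f] (L : X.Modules) (hL : PicF.IsInvertible L)
    (hamp : RelAmple.IsRelAmple f L) (N : X.Modules) (hN : Coh.IsCoh N)
    (hs : ClSub.IsProperOver f (CohB1.support N)) :
    ∃ n₀ : ℕ, ∀ n : ℕ, n₀ ≤ n → ∀ p : ℕ, 0 < p →
      IsZero ((Coh.RpushAb f p).obj (Coh.toAb (CohB1.tensorMod N (CohB1.tensorPow L n)))) := by
  have : N.IsQuasicoherent := hN.1
  have : SheafOfModules.IsFiniteType (R := X.ringCatSheaf) N := hN.2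
  obtain ⟨J, -, hunit, -, hsupp⟩ := Groth.Agent.Helper18Ann.main_S9377 N hN.2
  have hcl : IsClosed (CohB1.support N) := hs.1
  have hrange : Set.range ⇑J.subschemeι = CohB1.support N := by
    rw [Scheme.IdealSheafData.range_subschemeι, hsupp]
  haveI hprop : IsProper (J.subschemeι ≫ f) :=
    ((Groth.Agent.S0787.result f (CohB1.support N) hcl).2.1 hs) J.subscheme J.subschemeι
      inferInstance hrange
  let G : J.subscheme.Modules := (Scheme.Modules.pullback J.subschemeι).obj N
  have hG : Coh.IsCoh G :=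
    ⟨Groth.Agent.Lib.Helper20.PullbackAff.isQuasicoherent_pullback J.subschemeι N,
      Groth.Agent.Lib.Helper20.FormalPull.isFiniteType_pullback J.subschemeι N⟩
  have hampT : RelAmple.IsRelAmple (J.subschemeι ≫ f) ((Scheme.Modules.pullback J.subschemeι).obj L) :=
    Groth.Agent.S2359.result f J.subschemeι J.subschemeι.isEmbedding L hamp
  have hLT : PicF.IsInvertible ((Scheme.Modules.pullback J.subschemeι).obj L) :=
    Groth.Agent.Lib.Helper23.SecTw.isInvertible_of_isRelAmple (J.subschemeι ≫ f) _ hampT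
  obtain ⟨n₀, hn₀⟩ := Groth.Agent.S0055.result (J.subschemeι ≫ f)
    ((Scheme.Modules.pullback J.subschemeι).obj L) hLT (fun W hW => hampT.2 ⟨W, hW⟩) G hG
  refine ⟨n₀, fun n hn p hp => ?_⟩
  have hLn : PicF.IsInvertible (CohB1.tensorPow L n) :=
    Groth.Agent.Lib.Helper23.SecTw.isInvertible_tensorPow hL n
  -- `N ⊗ L^n ≅ i_* (G ⊗ (i^* L)^n)`
  haveI : IsIso ((Scheme.Modules.pullbackPushforwardAdjunction J.subschemeι).unit.app N) := hunit
  let e₀ : N ≅ (Scheme.Modules.pushforward J.subschemeι).obj G :=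
    asIso ((Scheme.Modules.pullbackPushforwardAdjunction J.subschemeι).unit.app N)
  let e₁ : CohB1.tensorMod N (CohB1.tensorPow L n) ≅
      CohB1.tensorMod ((Scheme.Modules.pushforward J.subschemeι).obj G) (CohB1.tensorPow L n) :=
    tensorModMapIsoLeft (CohB1.tensorPow L n) e₀
  obtain ⟨e₂⟩ := Groth.Agent.R2.H54.ProjInv.nonempty_pushTensorInvIso J.subschemeι G
    (CohB1.tensorPow L n) hLn
  obtain ⟨b⟩ := Groth.Agent.Lib.Helper23.PB.nonempty_pullback_tensorPow_iso J.subschemeι L hL n
  let e₃ : (Scheme.Modules.pushforward J.subschemeι).obj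
      (CohB1.tensorMod G ((Scheme.Modules.pullback J.subschemeι).obj (CohB1.tensorPow L n))) ≅
      (Scheme.Modules.pushforward J.subschemeι).obj
        (CohB1.tensorMod G (CohB1.tensorPow ((Scheme.Modules.pullback J.subschemeι).obj L) n)) :=
    (Scheme.Modules.pushforward J.subschemeι).mapIso (tensorModCongrRight G b)
  let e : CohB1.tensorMod N (CohB1.tensorPow L n) ≅
      (Scheme.Modules.pushforward J.subschemeι).obj
        (CohB1.tensorMod G (CohB1.tensorPow ((Scheme.Modules.pullback J.subschemeι).obj L) n)) :=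
    e₁ ≪≫ e₂ ≪≫ e₃
  obtain ⟨ℓ⟩ := nonempty_RpushAb_closedImmersion_iso J.subschemeι f
    (CohB1.tensorMod G (CohB1.tensorPow ((Scheme.Modules.pullback J.subschemeι).obj L) n)) p
  refine IsZero.of_iso (hn₀ n hn p hp) ?_
  exact (Coh.RpushAb f p).mapIso ((SheafOfModules.toSheaf X.ringCatSheaf).mapIso e) ≪≫ ℓ.symm

end Groth.Agent.R2.H21.PropVan
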