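import Mathlib
import Groth.Prelude.Def_TorSh
import Groth.Agent.Lib.Helper2FlatOver

/-!
# Torsion-free rank one modules embed into the sheaf of rational functions (helper21)

For an integral scheme `X` with generic point `ξ`, function field `K = O_{X,ξ}` and `j : Spec K ⟶ X`,
the sheaf of rational functions is `j_* O_{Spec K}`.

* `toRat F e : F ⟶ RatSh X` : the morphism induced by a `K`-linear map `e : F_ξ → K`
* `mono_toRat` : it is a monomorphism when `F` is quasi-coherent torsion-free and `e` is injective
-/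

set_option autoImplicit false
universe u
open CategoryTheory AlgebraicGeometry TopologicalSpace Opposite

namespace Groth.Agent.R2.H21.RatFn

open Groth.Agent.Lib.Helper2

variable (X : Scheme.{u}) [IsIntegral X]

/-- the function field, as the stalk at the generic point -/
noncomputable abbrev K : CommRingCat := X.presheaf.stalk (genericPoint X)

/-- the canonical morphism from the spectrum of the function field -/
noncomputable abbrev j : Spec (K X) ⟶ X := X.fromSpecStalk (genericPoint X)

/-- the sheaf of rational functions -/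
noncomputable abbrev RatSh : X.Modules :=
  (Scheme.Modules.pushforward (j X)).obj (Coh.structureModule (Spec (K X)))

noncomputable instance : Field (K X) := inferInstanceAs (Field X.functionField)

/-- the comparison map from the function field to the sections of the sheaf of rational functions -/
noncomputable def kmap (U : X.Opens) : K X →+* Γ(Spec (K X), (j X) ⁻¹ᵁ U) :=
  ((Scheme.ΓSpecIso (K X)).inv ≫ (Spec (K X)).presheaf.map (homOfLE le_top).op).hom

theorem app_eq_kmap (U : X.Opens) (h : genericPoint X ∈ U) (r : Γ(X, U)) :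
    (j X).app U r = kmap X U (X.presheaf.germ U (genericPoint X) h r) := by
  have := Scheme.fromSpecStalk_app (X := X) (x := genericPoint X) h
  exact congrArg (fun t => t.hom r) this

theorem kmap_res {U V : X.Opens} (hVU : V ≤ U) (a : K X) :
    (Spec (K X)).presheaf.map (homOfLE ((j X).preimage_mono hVU)).op (kmap X U a) = kmap X V a := by
  unfold kmap
  rw [← ConcreteCategory.comp_apply, Category.assoc, ← Functor.map_comp]
  rfl

theorem mem_of_nonempty (U : X.Opens) (x : X) (hx : x ∈ U) : genericPoint X ∈ U :=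
  ((genericPoint_spec X).mem_open_set_iff U.2).2 ⟨x, trivial, hx⟩

theorem preimage_eq_bot (U : X.Opens) (h : genericPoint X ∉ U) : (j X) ⁻¹ᵁ U = ⊥ := by
  ext p
  simp only [Scheme.Hom.mem_preimage, SetLike.mem_coe, Opens.coe_bot, Set.mem_empty_iff_false,
    iff_false]
  have hp : p = IsLocalRing.closedPoint (K X) :=
    @Subsingleton.elim _ (inferInstanceAs (Subsingleton (PrimeSpectrum (K X)))) _ _
  rw [hp, Scheme.fromSpecStalk_closedPoint]
  exact h

theorem subsingleton_sections (U : X.Opens) (h : genericPoint X ∉ U) :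
    Subsingleton Γ(Spec (K X), (j X) ⁻¹ᵁ U) := by
  rw [preimage_eq_bot X U h]
  infer_instance

section Hom

variable {X}
variable (F : X.Modules) (e : F.presheaf.stalk (genericPoint X) →ₗ[K X] K X)

open Classical in
/-- the map on sections -/
noncomputable def toRatApp (U : X.Opens) : Γ(F, U) →+ Γ(Spec (K X), (j X) ⁻¹ᵁ U) :=
  if h : genericPoint X ∈ U then
    (kmap X U).toAddMonoidHom.comp
      (e.toAddMonoidHom.comp (F.presheaf.germ U (genericPoint X) h).hom)
  else 0

theorem toRatApp_of_mem (U : X.Opens) (h : genericPoint X ∈ U) (m : Γ(F, U)) :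
    toRatApp F e U m = kmap X U (e (F.presheaf.germ U (genericPoint X) h m)) := by
  unfold toRatApp
  rw [dif_pos h]
  rfl

theorem toRatApp_res {U V : X.Opens} (hVU : V ≤ U) (m : Γ(F, U)) :
    toRatApp F e V (F.presheaf.map (homOfLE hVU).op m) =
      (Spec (K X)).presheaf.map (homOfLE ((j X).preimage_mono hVU)).op (toRatApp F e U m) := by
  by_cases h : genericPoint X ∈ V
  · have h' : genericPoint X ∈ U := hVU h
    rw [toRatApp_of_mem F e _ h, toRatApp_of_mem F e _ h', kmap_res X hVU]
    congr 2
    exact TopCat.Presheaf.germ_res_apply F.presheaf (homOfLE hVU) (genericPoint X) h m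
  · have := subsingleton_sections X V h
    exact Subsingleton.elim _ _

theorem toRatApp_smul (U : X.Opens) (r : Γ(X, U)) (m : Γ(F, U)) :
    toRatApp F e U (r • m) = (j X).app U r * toRatApp F e U m := by
  by_cases h : genericPoint X ∈ U
  · rw [toRatApp_of_mem F e _ h, toRatApp_of_mem F e _ h, app_eq_kmap X _ h, ← map_mul]
    congr 1
    have h1 : F.presheaf.germ U (genericPoint X) h (r • m) =
        X.presheaf.germ U (genericPoint X) h r • F.presheaf.germ U (genericPoint X) h m :=
      QCoh.germ_smul F (genericPoint X) U h r m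
    rw [h1, map_smul, smul_eq_mul]
  · have := subsingleton_sections X U h
    exact Subsingleton.elim _ _

/-- the natural transformation of presheaves of abelian groups -/
noncomputable def toRatPre : F.val.presheaf ⟶ (RatSh X).val.presheaf where
  app T := AddCommGrpCat.ofHom (toRatApp F e T.unop)
  naturality T T' f := by
    ext m
    exact toRatApp_res F e f.unop.le m

/-- the morphism to the sheaf of rational functions induced by a linear form on the generic stalk -/
noncomputable def toRat : F ⟶ RatSh X :=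
  (⟨PresheafOfModules.homMk (M₁ := F.val) (M₂ := (RatSh X).val) (toRatPre F e)
    (fun T r m => toRatApp_smul F e T.unop r m)⟩ : SheafOfModules.Hom F (RatSh X))

theorem toRat_app_apply (U : X.Opens) (m : Γ(F, U)) :
    (toRat F e).app U m = toRatApp F e U m := rfl

end Hom

section Mono

variable {X}
variable (F : X.Modules) [F.IsQuasicoherent]
  (hF : ∀ x : X, Module.IsTorsionFree (X.presheaf.stalk x) (F.presheaf.stalk x))

include hF in
/-- sections of a torsion-free quasi-coherent module are determined by their germ at the generic point -/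
theorem eq_zero_of_germ_generic (U : X.Opens) (h : genericPoint X ∈ U) (m : Γ(F, U))
    (hm : F.presheaf.germ U (genericPoint X) h m = 0) : m = 0 := by
  let Fsh : TopCat.Sheaf Ab X := ⟨F.presheaf, F.isSheaf⟩
  refine TopCat.Presheaf.section_ext Fsh U m 0 ?_
  intro x hx
  rw [map_zero]
  obtain ⟨_, ⟨V, hV, rfl⟩, hxV, hVU'⟩ := X.isBasis_affineOpens.exists_subset_of_mem_open hx U.2
  have hVU : V ≤ U := hVU'
  have hxV : x ∈ V := hxV
  have hξV : genericPoint X ∈ V := mem_of_nonempty X V x hxV
  have h0 : F.presheaf.germ V (genericPoint X) hξV (F.presheaf.map (homOfLE hVU).op m) = 0 := by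
    rw [TopCat.Presheaf.germ_res_apply F.presheaf (homOfLE hVU) (genericPoint X) hξV m]
    exact hm
  obtain ⟨s, hs, hsm⟩ := QCoh.exists_smul_eq_zero_of_germ_eq_zero hV F (genericPoint X) hξV _ h0
  have hs0 : s ≠ 0 := by
    rintro rfl
    rw [Scheme.basicOpen_zero] at hs
    exact hs
  have hsx : X.presheaf.germ V x hxV s ≠ 0 := by
    intro h1
    exact hs0 (germ_injective_of_isIntegral X x hxV (h1.trans (map_zero _).symm))
  have h2 : X.presheaf.germ V x hxV s • F.presheaf.germ V x hxV (F.presheaf.map (homOfLE hVU).op m) = 0 := by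
    rw [← QCoh.germ_smul, hsm, map_zero]
  have := hF x
  rw [smul_eq_zero_iff_right hsx] at h2
  rw [← TopCat.Presheaf.germ_res_apply F.presheaf (homOfLE hVU) x hxV m]
  exact h2

variable (e : F.presheaf.stalk (genericPoint X) →ₗ[K X] K X) (he : Function.Injective e)

theorem kmap_injective (U : X.Opens) (h : genericPoint X ∈ U) : Function.Injective (kmap X U) := by
  have h1 : (j X) (IsLocalRing.closedPoint (K X)) ∈ U := by
    rw [Scheme.fromSpecStalk_closedPoint]; exact h
  have : Nonempty ((j X) ⁻¹ᵁ U : (Spec (K X)).Opens) := ⟨⟨IsLocalRing.closedPoint (K X), h1⟩⟩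
  have : Nontrivial Γ(Spec (K X), (j X) ⁻¹ᵁ U) := Scheme.component_nontrivial _ _
  exact RingHom.injective _

include hF he in
theorem toRat_app_injective (U : X.Opens) : Function.Injective (toRatApp F e U) := by
  rw [injective_iff_map_eq_zero]
  intro m hm
  by_cases h : genericPoint X ∈ U
  · rw [toRatApp_of_mem F e _ h] at hm
    have h1 := kmap_injective U h (hm.trans (map_zero _).symm)
    have h2 := he (h1.trans (map_zero _).symm)
    exact eq_zero_of_germ_generic F hF U h m h2
  · have hU : U = ⊥ := by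
      ext x
      simp only [SetLike.mem_coe, Opens.coe_bot, Set.mem_empty_iff_false, iff_false]
      exact fun hx => h (mem_of_nonempty X U x hx)
    subst hU
    let Fsh : TopCat.Sheaf Ab X := ⟨F.presheaf, F.isSheaf⟩
    exact TopCat.Presheaf.section_ext Fsh ⊥ m 0 (fun x hx => absurd hx (by simp))

include hF he in
theorem mono_toRat : Mono (toRat F e) := by
  apply (Scheme.Modules.toPresheaf X).mono_of_mono_map
  apply (config := { allowSynthFailures := true }) NatTrans.mono_of_mono_app
  intro T
  rw [AddCommGrpCat.mono_iff_injective]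
  exact toRat_app_injective F hF e he T.unop

end Mono

section Converse

variable {X}

theorem preimage_eq_top (U : X.Opens) (h : genericPoint X ∈ U) : (j X) ⁻¹ᵁ U = ⊤ := by
  ext p
  simp only [Scheme.Hom.mem_preimage, SetLike.mem_coe, Opens.coe_top, Set.mem_univ, iff_true]
  have hp : p = IsLocalRing.closedPoint (K X) :=
    @Subsingleton.elim _ (inferInstanceAs (Subsingleton (PrimeSpectrum (K X)))) _ _
  rw [hp, Scheme.fromSpecStalk_closedPoint]
  exact h

theorem isIso_res_of_eq_top {Y : Scheme.{u}} (W : Y.Opens) (hW : W = ⊤) :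
    IsIso (Y.presheaf.map (homOfLE (le_top : W ≤ ⊤)).op) := by
  subst hW
  have : (homOfLE (le_top : (⊤ : Y.Opens) ≤ ⊤)).op = 𝟙 _ := rfl
  rw [this, Y.presheaf.map_id]
  infer_instance

theorem kmap_surjective (U : X.Opens) (h : genericPoint X ∈ U) : Function.Surjective (kmap X U) := by
  have h1 := isIso_res_of_eq_top ((j X) ⁻¹ᵁ U) (preimage_eq_top U h)
  have h2 : IsIso ((Scheme.ΓSpecIso (K X)).inv ≫
      (Spec (K X)).presheaf.map (homOfLE (le_top : (j X) ⁻¹ᵁ U ≤ ⊤)).op) := inferInstance
  exact ((ConcreteCategory.isIso_iff_bijective _).1 h2).2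

variable {G : X.Modules} (i : G ⟶ RatSh X)

omit [IsIntegral X] in
theorem app_injective_of_mono {A B : X.Modules} (m : A ⟶ B) [Mono m] (W : X.Opens) :
    Function.Injective (m.app W) := by
  have : Mono ((Scheme.Modules.toPresheaf X).map m) := inferInstance
  have : Mono (((Scheme.Modules.toPresheaf X).map m).app (op W)) := inferInstance
  exact (AddCommGrpCat.mono_iff_injective _).1 this

omit [IsIntegral X] in
theorem app_res {A B : X.Modules} (m : A ⟶ B) {W W' : X.Opens} (h : W' ≤ W) (s : Γ(A, W)) :
    m.app W' (A.presheaf.map (homOfLE h).op s) = B.presheaf.map (homOfLE h).op (m.app W s) := by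
  have := m.mapPresheaf.naturality (homOfLE h).op
  exact congrArg (fun φ => φ s) this

/-- the value of `i` on a section, as an element of the ring of sections over `Spec K` -/
noncomputable def val (U : X.Opens) (m : Γ(G, U)) : Γ(Spec (K X), (j X) ⁻¹ᵁ U) := i.app U m

theorem val_smul (U : X.Opens) (a : Γ(X, U)) (m : Γ(G, U)) :
    val i U (a • m) = (j X).app U a * val i U m :=
  Scheme.Modules.Hom.app_smul i a m

theorem val_res {U V : X.Opens} (hVU : V ≤ U) (m : Γ(G, U)) :
    val i V (G.presheaf.map (homOfLE hVU).op m) =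
      (Spec (K X)).presheaf.map (homOfLE ((j X).preimage_mono hVU)).op (val i U m) :=
  app_res i hVU m

theorem val_sub (U : X.Opens) (m m' : Γ(G, U)) : val i U (m - m') = val i U m - val i U m' :=
  map_sub (i.app U).hom m m'

variable [Mono i]

theorem val_injective (U : X.Opens) : Function.Injective (val i U) := app_injective_of_mono i U

include i in
theorem eq_zero_of_smul_eq_zero (U : X.Opens) (a : Γ(X, U)) (ha : a ≠ 0) (m : Γ(G, U))
    (h : a • m = 0) : m = 0 := by
  by_cases hξ : genericPoint X ∈ U
  · apply val_injective i U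
    have h1 : val i U (a • m) = val i U 0 := by rw [h]
    rw [val_smul, app_eq_kmap X U hξ] at h1
    have h2 : X.presheaf.germ U (genericPoint X) hξ a ≠ 0 := fun h3 =>
      ha (germ_injective_of_isIntegral X (genericPoint X) hξ (h3.trans (map_zero _).symm))
    have h3 : IsUnit (kmap X U (X.presheaf.germ U (genericPoint X) hξ a)) :=
      (isUnit_iff_ne_zero.2 h2).map _
    have h4 : val i U 0 = 0 := map_zero (i.app U).hom
    rw [h4] at h1
    rw [h4]
    exact (h3.mul_right_eq_zero).1 h1
  · apply val_injective i U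
    have := subsingleton_sections X U hξ
    exact Subsingleton.elim _ _

include i in
theorem isTorsionFree_stalk (x : X) : Module.IsTorsionFree (X.presheaf.stalk x) (G.presheaf.stalk x) := by
  constructor
  intro r hr y₁ y₂ hy
  have hr0 : r ≠ 0 := hr.ne_zero
  rw [← sub_eq_zero]
  have hy' : r • (y₁ - y₂) = 0 := by
    change r • y₁ = r • y₂ at hy
    rw [smul_sub, hy, sub_self]
  generalize y₁ - y₂ = y at hy'
  obtain ⟨V₁, hxV₁, t, rfl⟩ := G.presheaf.exists_germ_eq y
  obtain ⟨V₂, hxV₂, a, rfl⟩ := X.presheaf.exists_germ_eq r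
  let V : X.Opens := V₁ ⊓ V₂
  have hxV : x ∈ V := ⟨hxV₁, hxV₂⟩
  let t' : Γ(G, V) := G.presheaf.map (homOfLE (inf_le_left : V ≤ V₁)).op t
  let a' : Γ(X, V) := X.presheaf.map (homOfLE (inf_le_right : V ≤ V₂)).op a
  have ht' : G.presheaf.germ V x hxV t' = G.presheaf.germ V₁ x hxV₁ t :=
    TopCat.Presheaf.germ_res_apply G.presheaf (homOfLE inf_le_left) x hxV t
  have ha' : X.presheaf.germ V x hxV a' = X.presheaf.germ V₂ x hxV₂ a :=
    TopCat.Presheaf.germ_res_apply X.presheaf (homOfLE inf_le_right) x hxV a
  rw [← ht', ← ha', ← QCoh.germ_smul] at hy'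
  have h0 : G.presheaf.germ V x hxV (a' • t') = G.presheaf.germ V x hxV 0 := by rw [hy', map_zero]
  obtain ⟨W, hxW, i₁, i₂, hW⟩ := G.presheaf.germ_eq x hxV hxV (a' • t') 0 h0
  rw [map_zero] at hW
  have hWV : W ≤ V := i₁.le
  let t'' : Γ(G, W) := G.presheaf.map (homOfLE hWV).op t'
  let a'' : Γ(X, W) := X.presheaf.map (homOfLE hWV).op a'
  have h1 : a'' • t'' = 0 := by
    have : G.presheaf.map (homOfLE hWV).op (a' • t') = a'' • t'' := G.val.map_smul (homOfLE hWV).op a' t'
    rw [← this]
    exact hW
  have ha''0 : a'' ≠ 0 := by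
    intro h2
    apply hr0
    rw [← ha', ← TopCat.Presheaf.germ_res_apply X.presheaf (homOfLE hWV) x hxW a']
    change X.presheaf.germ W x hxW a'' = 0
    rw [h2, map_zero]
  have h3 := eq_zero_of_smul_eq_zero i W a'' ha''0 t'' h1
  rw [← ht', ← TopCat.Presheaf.germ_res_apply G.presheaf (homOfLE hWV) x hxW t']
  change G.presheaf.germ W x hxW t'' = 0
  rw [h3, map_zero]

end Converse

section Rank

variable {X} {G : X.Modules} (i : G ⟶ RatSh X) [Mono i]

omit [IsIntegral X] in
theorem isZero_of_forall_eq_zero {K' : X.Modules} (h : ∀ (U : X.Opens) (s : Γ(K', U)), s = 0) :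
    Limits.IsZero K' := by
  rw [Limits.IsZero.iff_id_eq_zero]
  ext U s
  simp only [Scheme.Modules.Hom.id_app, Scheme.Modules.Hom.zero_app]
  rw [h U s]
  simp

include i in
theorem finrank_generic_eq_one (hG : ¬ Limits.IsZero G) :
    Module.finrank (K X) (G.presheaf.stalk (genericPoint X)) = 1 := by
  have hex : ∃ (U : X.Opens) (s : Γ(G, U)), s ≠ 0 := by
    by_contra hcon
    push Not at hcon
    exact hG (isZero_of_forall_eq_zero hcon)
  obtain ⟨U, m₀, hm₀⟩ := hex
  have hξU : genericPoint X ∈ U := by
    by_contra hξ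
    apply hm₀
    apply val_injective i U
    have := subsingleton_sections X U hξ
    exact Subsingleton.elim _ _
  obtain ⟨c₀, hc₀⟩ := kmap_surjective U hξU (val i U m₀)
  have hc₀0 : c₀ ≠ 0 := by
    rintro rfl
    apply hm₀
    apply val_injective i U
    rw [← hc₀, map_zero]
    exact (map_zero (i.app U).hom).symm
  have hy₀ : G.presheaf.germ U (genericPoint X) hξU m₀ ≠ 0 := by
    intro h0
    have hEq : G.presheaf.germ U (genericPoint X) hξU m₀ = G.presheaf.germ U (genericPoint X) hξU 0 := by
      rw [h0, map_zero]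
    obtain ⟨W, hξW, i₁, i₂, hW⟩ := G.presheaf.germ_eq (genericPoint X) hξU hξU m₀ 0 hEq
    rw [map_zero] at hW
    have hWU : W ≤ U := i₁.le
    have h1 : val i W (G.presheaf.map (homOfLE hWU).op m₀) = 0 := by
      have : G.presheaf.map (homOfLE hWU).op m₀ = 0 := hW
      rw [this]
      exact map_zero (i.app W).hom
    rw [val_res i hWU, ← hc₀, kmap_res X hWU] at h1
    exact hc₀0 (kmap_injective W hξW (h1.trans (map_zero _).symm))
  rw [finrank_eq_one_iff_of_nonzero' _ hy₀]
  intro y
  obtain ⟨V₁, hξV₁, t, rfl⟩ := G.presheaf.exists_germ_eq y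
  obtain ⟨cy, hcy⟩ := kmap_surjective V₁ hξV₁ (val i V₁ t)
  obtain ⟨V₂, hξV₂, a, ha⟩ := X.presheaf.exists_germ_eq (cy / c₀ : K X)
  let W : X.Opens := U ⊓ V₁ ⊓ V₂
  have hξW : genericPoint X ∈ W := ⟨⟨hξU, hξV₁⟩, hξV₂⟩
  have hWU : W ≤ U := inf_le_left.trans inf_le_left
  have hWV₁ : W ≤ V₁ := inf_le_left.trans inf_le_right
  have hWV₂ : W ≤ V₂ := inf_le_right
  let m₀' : Γ(G, W) := G.presheaf.map (homOfLE hWU).op m₀
  let t' : Γ(G, W) := G.presheaf.map (homOfLE hWV₁).op t
  let a' : Γ(X, W) := X.presheaf.map (homOfLE hWV₂).op a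
  have hm₀' : G.presheaf.germ W (genericPoint X) hξW m₀' = G.presheaf.germ U (genericPoint X) hξU m₀ :=
    TopCat.Presheaf.germ_res_apply G.presheaf (homOfLE hWU) (genericPoint X) hξW m₀
  have ht' : G.presheaf.germ W (genericPoint X) hξW t' = G.presheaf.germ V₁ (genericPoint X) hξV₁ t :=
    TopCat.Presheaf.germ_res_apply G.presheaf (homOfLE hWV₁) (genericPoint X) hξW t
  have ha' : X.presheaf.germ W (genericPoint X) hξW a' = cy / c₀ :=
    (TopCat.Presheaf.germ_res_apply X.presheaf (homOfLE hWV₂) (genericPoint X) hξW a).trans ha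
  have hkey : a' • m₀' = t' := by
    apply val_injective i W
    rw [val_smul, app_eq_kmap X W hξW, ha']
    change _ * val i W (G.presheaf.map (homOfLE hWU).op m₀) = val i W (G.presheaf.map (homOfLE hWV₁).op t)
    rw [val_res i hWU, val_res i hWV₁, ← hc₀, ← hcy, kmap_res X hWU, kmap_res X hWV₁, ← map_mul,
      div_mul_cancel₀ _ hc₀0]
  refine ⟨cy / c₀, ?_⟩
  rw [← hm₀', ← ht', ← ha', ← QCoh.germ_smul, hkey]

end Rank

end Groth.Agent.R2.H21.RatFn
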