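import Mathlib
import Groth.Prelude.Def_RelSpec
import Groth.Agent.R2.H21AlgGen

/-!
# The quasi-coherent subalgebra generated by a quasi-coherent submodule (helper21)

* `locGen B j T` : sections of `B` over `T` which are locally in the subring generated by functions and `j(E)`
* `subAlg B j : RelSpec.QCAlg X`, `subAlgι B j : subAlg B j ⟶ B`
* `finiteType_subAlg` : finite type over affine opens when `E` is of finite type
-/

set_option autoImplicit false
universe u
open CategoryTheory Limits AlgebraicGeometry TopologicalSpace Opposite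

namespace Groth.Agent.R2.H21.SubAlg

open Groth.Agent.Lib.Helper23.QCohLocal Groth.Agent.Lib.Helper2.Push Groth.Agent.Lib.Helper2.QCoh
  Groth.Agent.Lib.Helper23.FinType Groth.Agent.Lib.Helper23.ModLocal Groth.Agent.Lib.Helper23.Extend
  Groth.Agent.R2.H21.ExtendWO Groth.Agent.Helper18QCAlg Groth.Agent.R2.H21.AlgGen

variable {X : Scheme.{u}} (B : RelSpec.QCAlg X) {E : X.Modules} (j : E ⟶ B.toModule)

omit B j in
/-- abstract algebra form of "localizing on `D(r)`" (copied from the earlier library file `Helper10QCAlgOfSheaf`, to keep the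
dependency closure small) -/
theorem away_of_elementwise' {R A A' R' : Type*} [CommRing R] [CommRing A] [CommRing A'] [CommRing R']
    (fU : R →+* A) (fD : R' →+* A') (ρB : A →+* A') (ρS : R →+* R')
    (hnat : ∀ a, ρB (fU a) = fD (ρS a)) (r : R) (hunit : IsUnit (ρS r))
    (hex : ∀ z : A', ∃ (n : ℕ) (t : A), ρB t = (fD (ρS r)) ^ n * z)
    (huniq : ∀ t : A, ρB t = 0 → ∃ n : ℕ, fU (r ^ n) * t = 0) :
    letI := ρB.toAlgebra
    IsLocalization.Away (fU r) A' := by
  let _ := ρB.toAlgebra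
  have halg : ∀ b : A, algebraMap A A' b = ρB b := fun b => rfl
  rw [IsLocalization.Away, isLocalization_iff]
  refine ⟨?_, ?_, ?_⟩
  · rintro ⟨_, n, rfl⟩
    rw [map_pow, halg, hnat]
    exact (hunit.map fD).pow n
  · intro z
    obtain ⟨n, t, ht⟩ := hex z
    refine ⟨⟨t, ⟨_, n, rfl⟩⟩, ?_⟩
    show z * algebraMap A A' (fU r ^ n) = algebraMap A A' t
    rw [halg, halg, ht, map_pow, hnat, mul_comm]
  · intro a b hab
    rw [halg, halg] at hab
    have h0 : ρB (a - b) = 0 := by rw [map_sub, hab, sub_self]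
    obtain ⟨n, hn⟩ := huniq (a - b) h0
    refine ⟨⟨_, n, rfl⟩, ?_⟩
    show fU r ^ n * a = fU r ^ n * b
    rw [map_pow, mul_sub, sub_eq_zero] at hn
    exact hn

theorem bres_bres {U V W : X.Opens} (h : V ≤ U) (h' : W ≤ V) (b : B.presheaf.obj (op U)) :
    bres B h' (bres B h b) = bres B (h'.trans h) b := by
  unfold bres
  rw [← CommRingCat.comp_apply, ← B.presheaf.map_comp]
  rfl

theorem bres_self {U : X.Opens} (h : U ≤ U) (b : B.presheaf.obj (op U)) : bres B h b = b := by
  unfold bres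
  have : (homOfLE h).op = 𝟙 (op U) := rfl
  rw [this, B.presheaf.map_id]; rfl

/-- sections which are locally generated by functions and `E` -/
noncomputable def locGen (T : X.Opens) : Subring (B.presheaf.obj (op T)) where
  carrier := {s | ∀ x ∈ T, ∃ (T' : X.Opens) (h : T' ≤ T), x ∈ T' ∧ bres B h s ∈ gen B j T'}
  mul_mem' := by
    intro a b ha hb x hx
    obtain ⟨T₁, h₁, hx₁, hm₁⟩ := ha x hx
    obtain ⟨T₂, h₂, hx₂, hm₂⟩ := hb x hx
    refine ⟨T₁ ⊓ T₂, inf_le_left.trans h₁, ⟨hx₁, hx₂⟩, ?_⟩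
    rw [map_mul]
    refine mul_mem ?_ ?_
    · have := bres_mem_gen B j (inf_le_left : T₁ ⊓ T₂ ≤ T₁) hm₁
      rwa [bres_bres] at this
    · have := bres_mem_gen B j (inf_le_right : T₁ ⊓ T₂ ≤ T₂) hm₂
      rwa [bres_bres] at this
  one_mem' := fun x hx => ⟨T, le_rfl, hx, by rw [map_one]; exact one_mem _⟩
  add_mem' := by
    intro a b ha hb x hx
    obtain ⟨T₁, h₁, hx₁, hm₁⟩ := ha x hx
    obtain ⟨T₂, h₂, hx₂, hm₂⟩ := hb x hx
    refine ⟨T₁ ⊓ T₂, inf_le_left.trans h₁, ⟨hx₁, hx₂⟩, ?_⟩
    rw [map_add]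
    refine add_mem ?_ ?_
    · have := bres_mem_gen B j (inf_le_left : T₁ ⊓ T₂ ≤ T₁) hm₁
      rwa [bres_bres] at this
    · have := bres_mem_gen B j (inf_le_right : T₁ ⊓ T₂ ≤ T₂) hm₂
      rwa [bres_bres] at this
  zero_mem' := fun x hx => ⟨T, le_rfl, hx, by rw [map_zero]; exact zero_mem _⟩
  neg_mem' := by
    intro a ha x hx
    obtain ⟨T₁, h₁, hx₁, hm₁⟩ := ha x hx
    exact ⟨T₁, h₁, hx₁, by rw [map_neg]; exact neg_mem hm₁⟩

theorem mem_locGen {T : X.Opens} {s : B.presheaf.obj (op T)} :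
    s ∈ locGen B j T ↔ ∀ x ∈ T, ∃ (T' : X.Opens) (h : T' ≤ T), x ∈ T' ∧ bres B h s ∈ gen B j T' := Iff.rfl

theorem gen_le_locGen (T : X.Opens) : gen B j T ≤ locGen B j T :=
  fun s hs x hx => ⟨T, le_rfl, hx, by rw [bres_self]; exact hs⟩

theorem bstr_mem_locGen (T : X.Opens) (r : Γ(X, T)) : bstr B T r ∈ locGen B j T :=
  gen_le_locGen B j T (bstr_mem_gen B j T r)

theorem bres_mem_locGen {T T' : X.Opens} (h : T' ≤ T) {s : B.presheaf.obj (op T)} (hs : s ∈ locGen B j T) :
    bres B h s ∈ locGen B j T' := by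
  intro x hx
  obtain ⟨T₁, h₁, hx₁, hm₁⟩ := hs x (h hx)
  refine ⟨T₁ ⊓ T', inf_le_right, ⟨hx₁, hx⟩, ?_⟩
  have := bres_mem_gen B j (inf_le_left : T₁ ⊓ T' ≤ T₁) hm₁
  rw [bres_bres] at this
  rwa [bres_bres]

theorem mem_locGen_of_locally {T : X.Opens} (s : B.presheaf.obj (op T))
    (hs : ∀ x ∈ T, ∃ (T' : X.Opens) (h : T' ≤ T), x ∈ T' ∧ bres B h s ∈ locGen B j T') :
    s ∈ locGen B j T := by
  intro x hx
  obtain ⟨T', h, hx', hm⟩ := hs x hx
  obtain ⟨T'', h'', hx'', hm''⟩ := hm x hx'
  refine ⟨T'', h''.trans h, hx'', ?_⟩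
  rwa [bres_bres] at hm''

/-- on affine opens, locally generated sections are generated -/
theorem locGen_eq_gen [E.IsQuasicoherent] {T : X.Opens} (hT : IsAffineOpen T) : locGen B j T = gen B j T := by
  apply le_antisymm _ (gen_le_locGen B j T)
  intro s hs
  refine mem_gen_of_span B j hT {f | bres B (X.basicOpen_le f) s ∈ gen B j (X.basicOpen f)} ?_ s
    (fun f hf => hf)
  rw [← hT.self_le_iSup_basicOpen_iff]
  intro x hx
  obtain ⟨T', h, hx', hm⟩ := hs x hx
  obtain ⟨f, hf, hxf⟩ := hT.exists_basicOpen_le (V := T') ⟨x, hx'⟩ hx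
  refine Opens.mem_iSup.2 ⟨⟨f, ?_⟩, hxf⟩
  have := bres_mem_gen B j hf hm
  rwa [bres_bres] at this

/-- restriction maps of the subalgebra -/
noncomputable def resHom {T T' : X.Opens} (h : T' ≤ T) : locGen B j T →+* locGen B j T' :=
  (bres B h).restrict (locGen B j T) (locGen B j T') (fun _ hs => bres_mem_locGen B j h hs)

/-- the presheaf of rings of the subalgebra -/
noncomputable def pre : TopCat.Presheaf CommRingCat.{u} X where
  obj T := CommRingCat.of (locGen B j T.unop)
  map f := CommRingCat.ofHom (resHom B j f.unop.le)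
  map_id T := by
    ext s
    exact bres_self B _ s.1
  map_comp f g := by
    ext s
    exact (bres_bres B _ _ s.1).symm

theorem pre_isSheaf : (pre B j).IsSheaf := by
  rw [TopCat.Presheaf.isSheaf_iff_isSheafUniqueGluing]
  intro ι U sf hsf
  let Bsh : TopCat.Sheaf CommRingCat X := ⟨B.presheaf, B.isSheaf⟩
  let sf' : ∀ i, ToType (B.presheaf.obj (op (U i))) := fun i => (sf i).1
  have hsf' : TopCat.Presheaf.IsCompatible B.presheaf U sf' := fun i j => congrArg Subtype.val (hsf i j)
  obtain ⟨s, hs, huniq⟩ := Bsh.existsUnique_gluing U sf' hsf'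
  have hsK : s ∈ locGen B j (iSup U) := by
    apply mem_locGen_of_locally
    intro x hx
    obtain ⟨i, hi⟩ := Opens.mem_iSup.1 hx
    refine ⟨U i, le_iSup U i, hi, ?_⟩
    have h2 : bres B (le_iSup U i) s = sf' i := hs i
    rw [h2]
    exact (sf i).2
  exact ⟨⟨s, hsK⟩, fun i => Subtype.ext (hs i),
    fun t ht => Subtype.ext (huniq t.1 fun i => congrArg Subtype.val (ht i))⟩

/-- the structure map on sections -/
noncomputable def strHom (T : X.Opens) : Γ(X, T) →+* locGen B j T :=
  (bstr B T).codRestrict (locGen B j T) (bstr_mem_locGen B j T)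

/-- the structure map of the subalgebra -/
noncomputable def str : X.presheaf ⟶ pre B j where
  app T := CommRingCat.ofHom (strHom B j T.unop)
  naturality T T' f := by
    ext r
    exact Subtype.ext (bres_bstr B f.unop.le r).symm

theorem pre_isQC [E.IsQuasicoherent] : RelSpec.IsQC (pre B j) (str B j) := by
  intro U hU r
  have hle := X.basicOpen_le r
  refine away_of_elementwise' (R := Γ(X, U)) (A := locGen B j U)
    (A' := locGen B j (X.basicOpen r)) (R' := Γ(X, X.basicOpen r))
    (strHom B j U) (strHom B j (X.basicOpen r)) (resHom B j hle) (rres hle) ?_ r ?_ ?_ ?_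
  · intro a
    exact Subtype.ext (bres_bstr B hle a)
  · exact isUnit_rres r _ rfl hle
  · intro z
    have hz : z.1 ∈ gen B j (X.basicOpen r) := by
      rw [← locGen_eq_gen B j (hU.basicOpen r)]; exact z.2
    obtain ⟨n, a, ha, e⟩ := exists_lift_of_mem_gen B j hU r z.1 hz
    refine ⟨n, ⟨a, gen_le_locGen B j U ha⟩, Subtype.ext ?_⟩
    refine e.trans ?_
    rw [map_pow]
    rfl
  · intro t ht
    have h0 : bres B hle t.1 = 0 := congrArg Subtype.val ht
    obtain ⟨n, hn⟩ := exists_pow_aux B hU r t.1 h0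
    exact ⟨n, Subtype.ext hn⟩

/-- the quasi-coherent subalgebra generated by `E` -/
noncomputable def subAlg [E.IsQuasicoherent] : RelSpec.QCAlg X where
  presheaf := pre B j
  isSheaf := pre_isSheaf B j
  str := str B j
  isQC := pre_isQC B j

/-- the inclusion of the subalgebra -/
noncomputable def subAlgι [E.IsQuasicoherent] : subAlg B j ⟶ B where
  hom :=
    { app := fun T => CommRingCat.ofHom (locGen B j T.unop).subtype
      naturality := fun _ _ _ => rfl }
  comm := rfl

theorem subAlgι_injective [E.IsQuasicoherent] (V : X.Opens) :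
    Function.Injective ((subAlgι B j).hom.app (op V)).hom := Subtype.val_injective

theorem jmap_zero (U : X.Opens) : jmap B j U 0 = 0 := (j.app U).hom.map_zero

theorem finiteType_subAlg [E.IsQuasicoherent] [SheafOfModules.IsFiniteType (R := X.ringCatSheaf) E]
    (V : X.affineOpens) : ((subAlg B j).str.app (op (V : X.Opens))).hom.FiniteType := by
  classical
  have hfin : Module.Finite Γ(X, V.1) Γ(E, V.1) := finite_of_isFiniteType E V.2
  obtain ⟨S, hS⟩ := hfin.fg_top
  let _ := (strHom B j V.1).toAlgebra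
  let S' : Finset (locGen B j V.1) :=
    S.image (fun e => ⟨jmap B j V.1 e, gen_le_locGen B j _ (jmap_mem_gen B j _ e)⟩)
  change Algebra.FiniteType Γ(X, V.1) (locGen B j V.1)
  refine ⟨⟨S', ?_⟩⟩
  rw [eq_top_iff]
  rintro ⟨y, hy⟩ -
  have hy' : y ∈ gen B j V.1 := by rw [← locGen_eq_gen B j V.2]; exact hy
  let A'' : Subring (B.presheaf.obj (op V.1)) :=
    (Algebra.adjoin Γ(X, V.1) (S' : Set (locGen B j V.1))).toSubring.map (locGen B j V.1).subtype
  have hle : gen B j V.1 ≤ A'' := by
    unfold gen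
    rw [Subring.closure_le]
    rintro z (⟨r, rfl⟩ | ⟨e, rfl⟩)
    · exact ⟨algebraMap _ _ r, Subalgebra.algebraMap_mem _ r, rfl⟩
    · have he : e ∈ Submodule.span Γ(X, V.1) (S : Set Γ(E, V.1)) := by rw [hS]; trivial
      induction he using Submodule.span_induction with
      | mem e he =>
        exact ⟨⟨jmap B j V.1 e, gen_le_locGen B j _ (jmap_mem_gen B j _ e)⟩,
          Algebra.subset_adjoin (Finset.mem_image_of_mem _ he), rfl⟩
      | zero => rw [jmap_zero]; exact zero_mem _
      | add a b _ _ ha hb => rw [jmap_add]; exact add_mem ha hb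
      | smul r a _ ha =>
        rw [jmap_smul]
        exact mul_mem ⟨algebraMap _ _ r, Subalgebra.algebraMap_mem _ r, rfl⟩ ha
  obtain ⟨y', hy'', hyy'⟩ := hle hy'
  have h1 : y' = ⟨y, hy⟩ := Subtype.ext hyy'
  rw [← h1]; exact hy''

/-- every section over an affine open lies in a quasi-coherent subalgebra of finite type -/
theorem exists_subAlg_through_section (hts : ThroughSection B.toModule) (U : X.affineOpens)
    (b : B.presheaf.obj (op (U : X.Opens))) :
    ∃ (B' : RelSpec.QCAlg X) (φ : B' ⟶ B),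
      (∀ V : X.Opens, Function.Injective (φ.hom.app (op V)).hom) ∧
      (∀ V : X.affineOpens, (B'.str.app (op (V : X.Opens))).hom.FiniteType) ∧
      b ∈ Set.range (φ.hom.app (op (U : X.Opens))).hom := by
  obtain ⟨E, j, -, hq, hf, g, hg⟩ := hts U (show Γ(B.toModule, U.1) from b)
  have := hq
  have := hf
  refine ⟨subAlg B j, subAlgι B j, subAlgι_injective B j, finiteType_subAlg B j, ?_⟩
  have hb : b ∈ locGen B j U.1 := by
    have h1 : jmap B j U.1 g = b := hg
    rw [← h1]
    exact gen_le_locGen B j _ (jmap_mem_gen B j _ g)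
  exact ⟨⟨b, hb⟩, rfl⟩

end Groth.Agent.R2.H21.SubAlg
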