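import Mathlib
import Groth.Agent.R2.H22SchDense
import Groth.Agent.Lib.Helper12Reduced

/-!
# Schematic density of big opens in flat families with reduced fibres (helper22)
-/

set_option autoImplicit false
set_option linter.style.haveILetI false
set_option linter.unusedSectionVars false
universe u

namespace Groth.Agent.R2.H22.BigOpen

open CategoryTheory AlgebraicGeometry Opposite TopologicalSpace Limits

/-- schematic density transfers along an isomorphism. -/
theorem isSchematicallyDense_of_isIso {Y' Y : Scheme.{u}} (φ : Y' ⟶ Y) [IsIso φ] (U : Y.Opens)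
    (h : CInt.IsSchematicallyDense (φ ⁻¹ᵁ U)) : CInt.IsSchematicallyDense U := by
  intro V
  rw [injective_iff_map_eq_zero]
  intro t ht
  have hinj : Function.Injective (φ.app V) :=
    (ConcreteCategory.bijective_of_isIso (φ.app V)).injective
  apply hinj
  rw [map_zero]
  apply (injective_iff_map_eq_zero _).1 (h (φ ⁻¹ᵁ V))
  have nat := φ.naturality (homOfLE (inf_le_left : V ⊓ U ≤ V)).op
  have h2 := congr($nat t)
  rw [CommRingCat.comp_apply, CommRingCat.comp_apply, ht, map_zero] at h2
  exact h2.symm

/-- in a reduced scheme, an open subset containing all points whose local ring has dimension zero is schematically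
dense. -/
theorem isSchematicallyDense_of_isReduced {Z : Scheme.{u}} [IsReduced Z] (W : Z.Opens)
    (hW : ∀ z : Z, ringKrullDim (Z.presheaf.stalk z) = 0 → z ∈ W) :
    CInt.IsSchematicallyDense W := by
  intro V
  rw [injective_iff_map_eq_zero]
  intro t ht
  by_contra hne
  have hb : Z.basicOpen t ≠ ⊥ := fun h => hne ((basicOpen_eq_bot_iff t).1 h)
  obtain ⟨z, hz⟩ : ∃ z, z ∈ Z.basicOpen t := by
    by_contra hno
    apply hb
    ext y
    simp only [Opens.coe_bot, Set.mem_empty_iff_false, iff_false]
    exact fun hy => hno ⟨y, hy⟩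
  obtain ⟨O, hO, hzO, hOt⟩ := exists_isAffineOpen_mem_and_subset (x := z) (U := Z.basicOpen t) hz
  obtain ⟨p, hp, hpq⟩ := Ideal.exists_minimalPrimes_le
    (bot_le : (⊥ : Ideal Γ(Z, O)) ≤ (hO.primeIdealOf ⟨z, hzO⟩).asIdeal)
  haveI hpp : p.IsPrime := hp.1.1
  set η : Z := hO.fromSpec ⟨p, hpp⟩ with hη
  have hηO : η ∈ O := Groth.Agent.Lib.Helper2.QCoh.fromSpec_mem hO _
  have hdim : ringKrullDim (Z.presheaf.stalk η) = 0 := by
    letI := TopCat.Presheaf.algebra_section_stalk Z.presheaf (⟨η, hηO⟩ : O)
    haveI := hO.isLocalization_stalk ⟨η, hηO⟩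
    rw [IsLocalization.AtPrime.ringKrullDim_eq_height (hO.primeIdealOf ⟨η, hηO⟩).asIdeal
      (Z.presheaf.stalk η), Groth.Agent.Lib.Helper2.QCoh.primeIdealOf_fromSpec hO]
    have : p.height = 0 := Ideal.height_eq_zero_iff.2 hp
    rw [this]
    rfl
  have hηW := hW η hdim
  have hηt : η ∈ Z.basicOpen t := hOt hηO
  have hηV : η ∈ V := Z.basicOpen_le t hηt
  have h3 : Z.basicOpen (Z.presheaf.map (homOfLE (inf_le_left : V ⊓ W ≤ V)).op t) =
      (V ⊓ W) ⊓ Z.basicOpen t := Scheme.basicOpen_res _ _ _
  rw [ht, Scheme.basicOpen_zero] at h3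
  have : η ∈ ((V ⊓ W) ⊓ Z.basicOpen t : Z.Opens) := ⟨⟨hηV, hηW⟩, hηt⟩
  rw [← h3] at this
  exact this

/-- the local ring of the fibre over `s` at `z`, compared with `CInt.fiberStalk`. -/
theorem ringKrullDim_stalk_fiber_eq {X S : Scheme.{u}} (f : X ⟶ S) (s : S) (z : f.fiber s) :
    ringKrullDim ((f.fiber s).presheaf.stalk z) =
      ringKrullDim (CInt.fiberStalk f (f.fiberι s z)) := by
  have key : ∀ (s s' : S) (h : s' = s) (x : X) (hx : f.base x = s) (hx' : f.base x = s'),
      ringKrullDim ((f.fiber s).presheaf.stalk ((f.fiberHomeo s).symm ⟨x, hx⟩)) =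
        ringKrullDim ((f.fiber s').presheaf.stalk ((f.fiberHomeo s').symm ⟨x, hx'⟩)) := by
    intro s s' h x hx hx'
    subst h
    rfl
  have hx : f.base (f.fiberι s z) = s := (f.fiberHomeo s z).2
  have hz : z = (f.fiberHomeo s).symm ⟨f.fiberι s z, hx⟩ := by
    apply (f.fiberHomeo s).injective
    rw [Homeomorph.apply_symm_apply]
    exact Subtype.ext rfl
  have e1 := congrArg (fun w => ringKrullDim ((f.fiber s).presheaf.stalk w)) hz
  exact e1.trans (key s (f.base (f.fiberι s z)) hx _ hx rfl)

/-- **big opens of a smooth family over a field base are schematically dense** (and more generally: flat, locally of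
finite presentation, reduced fibres, and `U` containing the points of fibre dimension zero). -/
theorem isSchematicallyDense_of_smooth_of_big (k : Type u) [Field k] (X S : Scheme.{u})
    (a : X ⟶ Spec (CommRingCat.of k)) (b : S ⟶ Spec (CommRingCat.of k)) [Smooth a]
    (U : (pullback a b).Opens)
    (hU : ∀ x : ↥(pullback a b), x ∉ U →
      (2 : WithBot ℕ∞) ≤ ringKrullDim ↑(CInt.fiberStalk (pullback.snd a b) x)) :
    CInt.IsSchematicallyDense U := by
  haveI : Smooth (pullback.snd a b) := inferInstance
  haveI : Flat (pullback.snd a b) := inferInstance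
  haveI : LocallyOfFinitePresentation (pullback.snd a b) := inferInstance
  have hfib : ∀ s : S, CInt.IsSchematicallyDense
      ((pullback.fst (pullback.snd a b) (S.fromSpecResidueField s)) ⁻¹ᵁ U) := by
    intro s
    haveI : Smooth (pullback.snd (pullback.snd a b) (S.fromSpecResidueField s)) := inferInstance
    haveI : IsReduced (pullback (pullback.snd a b) (S.fromSpecResidueField s)) :=
      Groth.Agent.Lib.Helper12.Reduced.isReduced_of_smooth
        (pullback.snd (pullback.snd a b) (S.fromSpecResidueField s))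
    apply isSchematicallyDense_of_isReduced
    intro z hz
    by_contra hzU
    have h2 := hU ((pullback.snd a b).fiberι s z) hzU
    rw [← ringKrullDim_stalk_fiber_eq (pullback.snd a b) s z] at h2
    have h3 : ringKrullDim ((pullback (pullback.snd a b)
        (S.fromSpecResidueField s)).presheaf.stalk z) = 0 := hz
    have h4 : (2 : WithBot ℕ∞) ≤ 0 := by
      have h5 : ringKrullDim (((pullback.snd a b).fiber s).presheaf.stalk z) = 0 := h3
      rwa [h5] at h2
    exact absurd h4 (by decide)
  have h6 := Groth.Agent.R2.H22.SchDense.isSchematicallyDense_baseChange_of_fibres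
    (pullback.snd a b) U hfib (𝟙 S)
  exact isSchematicallyDense_of_isIso (pullback.fst (pullback.snd a b) (𝟙 S)) U h6

end Groth.Agent.R2.H22.BigOpen
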