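import Mathlib
import Groth.Agent.R2.H22LocGen
import Groth.Agent.Lib.Helper3FlatLocA

/-!
# The fibre criterion at one prime, with flatness only at that prime (helper22)

Variants of `LocMain.exists_smul_eq_zero_of_fibKSepAt`, `LocDesc.model_exists_smul_eq_zero` and
`LocGen.exists_smul_eq_zero_of_regAt` in which the target module is only assumed to be flat over `A` after localizing at the prime
`q` of `B`.
-/

set_option autoImplicit false
set_option linter.style.haveILetI false
set_option linter.unusedSectionVars false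
universe u

namespace Groth.Agent.R2.H22.LocFlat

open TensorProduct MvPolynomial
open Groth.Agent.Lib.Helper3.FlatLoc Groth.Agent.Lib.Helper3.FlatDesc Groth.Agent.Lib.Helper3.FlatOpen
open Groth.Agent.R2.H22.LocMain Groth.Agent.R2.H22.LocDesc Groth.Agent.R2.H22.FibGr
  Groth.Agent.R2.H22.FibK Groth.Agent.R2.H22.FibKrull

section Gr

variable {A : Type u} [CommRing A] {B : Type u} [CommRing B] [Algebra A B]
  {M : Type u} [AddCommGroup M] [Module B M] [Module A M] [IsScalarTower A B M]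
  {N : Type u} [AddCommGroup N] [Module B N] [Module A N] [IsScalarTower A B N]
  (u : M →ₗ[B] N)

theorem fibKSepAt_mul (K : Type u) [Field K] [Algebra A K] (f s : B)
    (h : FibKSepAt (A := A) (N := fun _ : Unit => N) (fun _ => u) K f) :
    FibKSepAt (A := A) (N := fun _ : Unit => N) (fun _ => u) K (f * s) := by
  intro z hz
  obtain ⟨n, hn⟩ := hz ()
  have h1 : ∀ _ : Unit, ∃ k : ℕ, f ^ k • AlgebraTensorModule.rTensor A K u (s ^ n • z) = 0 := by
    intro _
    refine ⟨n, ?_⟩
    rw [map_smul, smul_smul, ← mul_pow]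
    exact hn
  obtain ⟨k, hk⟩ := h (s ^ n • z) h1
  refine ⟨k + n, ?_⟩
  have : (f * s) ^ (k + n) = (f ^ n * s ^ k) * (f ^ k * s ^ n) := by ring
  rw [this, mul_smul, mul_smul (f ^ k), hk, smul_zero]

theorem exists_smul_eq_zero_of_mulMap_eq_zero (q : Ideal B) [q.IsPrime]
    (hN : Module.Flat A (LocalizedModule q.primeCompl N)) (I : Ideal A) (τ : N ⊗[A] I)
    (hτ : FibGr.mulMap (B := B) I N τ = 0) : ∃ s : B, s ∉ q ∧ s • τ = 0 := by
  have h1 : I.subtype.lTensor N τ = 0 := by
    have : (AlgebraTensorModule.rid A B N) (AlgebraTensorModule.lTensor B N (Submodule.subtype I) τ)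
        = 0 := hτ
    have h2 := (AlgebraTensorModule.rid A B N).injective (this.trans (map_zero _).symm)
    exact h2
  obtain ⟨s, hs, hsτ⟩ := (flat_localizedModule_iff' q.primeCompl).mp hN I τ h1
  exact ⟨s, hs, hsτ⟩

variable (K : Type u) [Field K] [Algebra A K]

theorem exists_smul_mem_at_local (q : Ideal B) [hq : q.IsPrime]
    (hN : Module.Flat A (LocalizedModule q.primeCompl N)) (f : B) (hfq : f ∉ q)
    (hK : RingHom.ker (algebraMap A K) = q.comap (algebraMap A B))
    (hfib : FibKSepAt (A := A) (N := fun _ : Unit => N) (fun _ => u) K f) (n : ℕ) (x : M)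
    (hx : x ∈ (((q.comap (algebraMap A B)) ^ n) • ⊤ : Submodule A M))
    (hux : ∃ m : ℕ, f ^ m • u x = 0) :
    ∃ g : B, g ∉ q ∧ g • x ∈ (((q.comap (algebraMap A B)) ^ (n + 1)) • ⊤ : Submodule A M) := by
  set 𝔭 : Ideal A := q.comap (algebraMap A B) with h𝔭
  haveI : 𝔭.IsPrime := Ideal.comap_isPrime _ _
  obtain ⟨τ, hτ⟩ := exists_mulMap_eq (B := B) (𝔭 ^ n) M hx
  obtain ⟨m, hm⟩ := hux
  have h0 : FibGr.mulMap (B := B) (𝔭 ^ n) N
      (f ^ m • AlgebraTensorModule.rTensor A ↥(𝔭 ^ n) u τ) = 0 := by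
    rw [map_smul, mulMap_natural, hτ, hm]
  obtain ⟨s, hs, hsτ⟩ := exists_smul_eq_zero_of_mulMap_eq_zero q hN (𝔭 ^ n) _ h0
  have hfs : f * s ∉ q := fun hmem => (hq.mem_or_mem hmem).elim hfq hs
  have hfib' := fibKSepAt_mul u K f s hfib
  have h1 : ∀ _ : Unit, ∃ k : ℕ,
      (f * s) ^ k • AlgebraTensorModule.rTensor A ↥(𝔭 ^ n) u τ = 0 := by
    intro _
    refine ⟨m + 1, ?_⟩
    have : (f * s) ^ (m + 1) = (f * s ^ m) * (s * f ^ m) := by ring
    rw [this, mul_smul, mul_smul s, hsτ, smul_zero]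
  set V₁ : Submodule A ↥(𝔭 ^ n) := 𝔭 • ⊤ with hV₁
  have hV : ∀ a ∈ 𝔭, ∀ v : ↥(𝔭 ^ n) ⧸ V₁, a • v = 0 := by
    intro a ha v
    obtain ⟨v, rfl⟩ := Submodule.Quotient.mk_surjective _ v
    rw [← Submodule.Quotient.mk_smul, Submodule.Quotient.mk_eq_zero]
    exact Submodule.smul_mem_smul ha Submodule.mem_top
  have h2 : ∀ _ : Unit, ∃ k : ℕ, (f * s) ^ k • AlgebraTensorModule.rTensor A (↥(𝔭 ^ n) ⧸ V₁) u
      (AlgebraTensorModule.lTensor B M V₁.mkQ τ) = 0 := by
    intro i
    obtain ⟨k, hk⟩ := h1 i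
    refine ⟨k, ?_⟩
    rw [lTensor_rTensor_comm', ← map_smul, hk, map_zero]
  obtain ⟨a, ha, k, hak⟩ := exists_smul_pow_smul_eq_zero_at (N := fun _ : Unit => N) (fun _ => u)
    𝔭 K hK (f * s) hfib' hV _ h2
  refine ⟨algebraMap A B a * (f * s) ^ k, ?_, ?_⟩
  · intro hmem
    rcases hq.mem_or_mem hmem with hmem | hmem
    · exact ha (Ideal.mem_comap.2 hmem)
    · exact hfs (hq.mem_of_pow_mem k hmem)
  have h3 : (V₁.mkQ).lTensor M (a • (f * s) ^ k • τ) = 0 := by
    have e : (V₁.mkQ).lTensor M (a • (f * s) ^ k • τ) =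
        a • (f * s) ^ k • AlgebraTensorModule.lTensor B M V₁.mkQ τ := by
      rw [map_smul]
      congr 1
      exact map_smul (AlgebraTensorModule.lTensor B M V₁.mkQ) ((f * s) ^ k) τ
    rw [e, hak]
  have hex := lTensor_exact M (LinearMap.exact_subtype_mkQ V₁) (Submodule.mkQ_surjective V₁)
  obtain ⟨σ, hσ⟩ := (hex _).1 h3
  have h4 : ∀ σ : M ⊗[A] V₁, FibGr.mulMap (B := B) (𝔭 ^ n) M ((V₁.subtype).lTensor M σ) ∈
      ((𝔭 ^ (n + 1)) • ⊤ : Submodule A M) := by
    intro σ
    induction σ using TensorProduct.induction_on with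
    | zero => simp
    | tmul p v =>
      rw [LinearMap.lTensor_tmul, FibGr.mulMap_tmul]
      exact Submodule.smul_mem_smul (coe_mem_pow_succ 𝔭 n v.1 v.2) Submodule.mem_top
    | add σ₁ σ₂ h₁ h₂ =>
      rw [map_add, map_add]
      exact Submodule.add_mem _ h₁ h₂
  have h5 := h4 σ
  rw [hσ] at h5
  have e2 : FibGr.mulMap (B := B) (𝔭 ^ n) M (a • (f * s) ^ k • τ) = a • (f * s) ^ k • x := by
    rw [LinearMap.map_smul_of_tower, map_smul, hτ]
  rw [e2] at h5
  rw [mul_smul, algebraMap_smul]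
  exact h5

end Gr

section Main

variable {A : Type u} [CommRing A] {B : Type u} [CommRing B] [Algebra A B] [IsNoetherianRing B]
  {M : Type u} [AddCommGroup M] [Module B M] [Module A M] [IsScalarTower A B M] [Module.Finite B M]
  {N : Type u} [AddCommGroup N] [Module B N] [Module A N] [IsScalarTower A B N]

/-- **the fibre criterion at one prime**, target flat at that prime only. -/
theorem exists_smul_eq_zero_of_fibKSepAt_local (u : M →ₗ[B] N) (f : B) (q : Ideal B)
    [hq : q.IsPrime] (hN : Module.Flat A (LocalizedModule q.primeCompl N)) (hfq : f ∉ q)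
    (K : Type u) [Field K] [Algebra A K]
    (hK : RingHom.ker (algebraMap A K) = q.comap (algebraMap A B))
    (hfibK : FibKSepAt (A := A) (N := fun _ : Unit => N) (fun _ => u) K f) (x : M)
    (hx : ∃ n : ℕ, f ^ n • u x = 0) :
    ∃ g : B, g ∉ q ∧ g • x = 0 := by
  haveI : (q.comap (algebraMap A B)).IsPrime := Ideal.comap_isPrime _ _
  have hstep : ∀ n : ℕ, ∃ g : B, g ∉ q ∧
      g • x ∈ (((q.comap (algebraMap A B)) ^ n) • ⊤ : Submodule A M) := by
    intro n
    induction n with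
    | zero => exact ⟨1, fun h => hq.ne_top ((Ideal.eq_top_iff_one q).2 h), by simp⟩
    | succ n ih =>
      obtain ⟨g, hg, hgx⟩ := ih
      have hux : ∃ m : ℕ, f ^ m • u (g • x) = 0 := by
        obtain ⟨m, hm⟩ := hx
        exact ⟨m, by rw [map_smul, smul_comm, hm, smul_zero]⟩
      obtain ⟨g', hg', hg'x⟩ := exists_smul_mem_at_local u K q hN f hfq hK hfibK n (g • x) hgx hux
      refine ⟨g' * g, fun h => (hq.mem_or_mem h).elim hg' hg, ?_⟩
      rw [mul_smul]
      exact hg'x
  have hJ : (q.comap (algebraMap A B)).map (algebraMap A B) ≤ q := Ideal.map_comap_le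
  have hstep' : ∀ n : ℕ, ∃ g : B, g ∉ q ∧
      g • x ∈ ((((q.comap (algebraMap A B)).map (algebraMap A B)) ^ n) • ⊤ : Submodule B M) := by
    intro n
    obtain ⟨g, hg, hgx⟩ := hstep n
    refine ⟨g, hg, ?_⟩
    refine Submodule.smul_induction_on hgx (fun a ha m _ => ?_) (fun z₁ z₂ h₁ h₂ => ?_)
    · rw [← algebraMap_smul B a m]
      refine Submodule.smul_mem_smul ?_ Submodule.mem_top
      rw [← Ideal.map_pow]
      exact Ideal.mem_map_of_mem _ ha
    · exact Submodule.add_mem _ h₁ h₂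
  exact exists_smul_eq_zero_of_forall_mem_pow_smul q _ hJ x hstep'

end Main

attribute [local instance] MvPolynomial.algebraMvPolynomial

section Model

variable {Λ : Type u} [CommRing Λ]
  {σ ι κ : Type} [Finite σ] [Fintype ι] [DecidableEq ι] [Fintype κ]
  (w : κ → ι → MvPolynomial σ Λ) {R : Type u} [CommRing R] [Algebra Λ R]

set_option maxHeartbeats 1600000 in
/-- the model case. -/
theorem model_exists_smul_eq_zero_local [IsNoetherianRing Λ]
    (q : Ideal (MvPolynomial σ R)) [hq : q.IsPrime]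
    (hflat : Module.Flat R (LocalizedModule q.primeCompl
      ((ι → MvPolynomial σ R) ⧸ KT w (MvPolynomial σ R))))
    (f h : MvPolynomial σ R) (hfq : f ∉ q)
    (K : Type u) [Field K] [Algebra R K]
    (hK : RingHom.ker (algebraMap R K) = q.comap (algebraMap R (MvPolynomial σ R)))
    (hreg : RegAt (A := R) ((ι → MvPolynomial σ R) ⧸ KT w (MvPolynomial σ R)) K f h)
    (y : (ι → MvPolynomial σ R) ⧸ KT w (MvPolynomial σ R))
    (hy : ∃ n : ℕ, f ^ n • h • y = 0) : ∃ g : MvPolynomial σ R, g ∉ q ∧ g • y = 0 := by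
  classical
  obtain ⟨n, hn⟩ := hy
  obtain ⟨v, rfl⟩ := Submodule.Quotient.mk_surjective _ y
  have hmem : f ^ n • h • v ∈ KT w (MvPolynomial σ R) := by
    rw [← Submodule.Quotient.mk_eq_zero, Submodule.Quotient.mk_smul, Submodule.Quotient.mk_smul]
    exact hn
  obtain ⟨a, ha⟩ := hmem
  let extra : Finset R := f.coeffs ∪ h.coeffs ∪ (Finset.univ.biUnion fun i => (v i).coeffs) ∪
    (Finset.univ.biUnion fun j => (a j).coeffs)
  obtain ⟨A₁, hfg, hextra, hflat₁⟩ := exists_fg_subalgebra_flat w q hflat extra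
  have hef : (f.coeffs : Set R) ⊆ A₁ := fun c hc => hextra (by
    simp only [extra, Finset.coe_union, Set.mem_union]
    exact Or.inl (Or.inl (Or.inl hc)))
  have heh : (h.coeffs : Set R) ⊆ A₁ := fun c hc => hextra (by
    simp only [extra, Finset.coe_union, Set.mem_union]
    exact Or.inl (Or.inl (Or.inr hc)))
  have hev : ∀ i, ((v i).coeffs : Set R) ⊆ A₁ := fun i c hc => hextra (by
    simp only [extra, Finset.coe_union, Set.mem_union]
    exact Or.inl (Or.inr (Finset.mem_coe.2 (Finset.mem_biUnion.2 ⟨i, Finset.mem_univ i, hc⟩))))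
  have hea : ∀ j, ((a j).coeffs : Set R) ⊆ A₁ := fun j c hc => hextra (by
    simp only [extra, Finset.coe_union, Set.mem_union]
    exact Or.inr (Finset.mem_coe.2 (Finset.mem_biUnion.2 ⟨j, Finset.mem_univ j, hc⟩)))
  obtain ⟨f₁, hf₁⟩ := exists_map_eq A₁ f hef
  obtain ⟨h₁, hh₁⟩ := exists_map_eq A₁ h heh
  choose v₁ hv₁ using fun i => exists_map_eq A₁ (v i) (hev i)
  choose a₁ ha₁ using fun j => exists_map_eq A₁ (a j) (hea j)
  haveI := isScalarTower_mvPolynomial (σ := σ) Λ A₁ R
  have hFv : Fmap (MvPolynomial σ A₁) (MvPolynomial σ R) ι v₁ = v := funext hv₁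
  have hFa : Fmap (MvPolynomial σ A₁) (MvPolynomial σ R) κ a₁ = a := funext ha₁
  have hrel : WT w (MvPolynomial σ A₁) a₁ = f₁ ^ n • h₁ • v₁ := by
    apply Fmap_injective A₁ ι
    rw [← WT_Fmap, hFa, ha, Fmap_smul', Fmap_smul', hFv, map_pow, hf₁, hh₁]
  haveI : Algebra.FiniteType Λ A₁ := (Subalgebra.fg_iff_finiteType A₁).mp hfg
  haveI : IsNoetherianRing A₁ := Algebra.FiniteType.isNoetherianRing Λ A₁
  set q₁ : Ideal (MvPolynomial σ A₁) :=
    q.comap (algebraMap (MvPolynomial σ A₁) (MvPolynomial σ R)) with hq₁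
  haveI : q₁.IsPrime := Ideal.comap_isPrime _ _
  have hf₁q : f₁ ∉ q₁ := fun hmem => hfq (by rw [← hf₁]; exact hmem)
  have hK₁ : RingHom.ker (algebraMap A₁ K) = q₁.comap (algebraMap A₁ (MvPolynomial σ A₁)) := by
    ext x
    rw [RingHom.mem_ker, Ideal.mem_comap, Ideal.mem_comap]
    have e1 : algebraMap A₁ K x = algebraMap R K (x : R) := rfl
    have e2 : algebraMap (MvPolynomial σ A₁) (MvPolynomial σ R)
        (algebraMap A₁ (MvPolynomial σ A₁) x) = algebraMap R (MvPolynomial σ R) (x : R) := by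
      rw [MvPolynomial.algebraMap_eq, MvPolynomial.algebraMap_eq]
      exact MvPolynomial.map_C _ _
    rw [e1, ← RingHom.mem_ker, hK, Ideal.mem_comap, e2]
  have hψ : IsBaseChange R
      ((Mmap w (MvPolynomial σ A₁) (MvPolynomial σ R)).restrictScalars A₁) :=
    isBaseChange_restrictScalars_of_isPushout _ (isBaseChange_Mmap w _ _)
  have hreg₁ : RegAt (A := A₁) ((ι → MvPolynomial σ A₁) ⧸ KT w (MvPolynomial σ A₁)) K f₁ h₁ := by
    refine regAt_of_isBaseChange (A := R) (B := MvPolynomial σ R) K _ hψ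
      (algebraMap (MvPolynomial σ A₁) (MvPolynomial σ R)) ?_ f₁ h₁ (by rw [hf₁, hh₁]; exact hreg)
    intro b m
    show Mmap w (MvPolynomial σ A₁) (MvPolynomial σ R) (b • m) = _
    rw [map_smul, algebraMap_smul]
    rfl
  have htors : ∃ k : ℕ, f₁ ^ k • (LinearMap.lsmul (MvPolynomial σ A₁)
      ((ι → MvPolynomial σ A₁) ⧸ KT w (MvPolynomial σ A₁)) h₁)
      (Submodule.Quotient.mk v₁) = 0 := by
    refine ⟨n, ?_⟩
    rw [LinearMap.lsmul_apply, ← Submodule.Quotient.mk_smul, ← Submodule.Quotient.mk_smul,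
      Submodule.Quotient.mk_eq_zero]
    exact ⟨a₁, hrel⟩
  obtain ⟨g₁, hg₁, hg₁y⟩ := exists_smul_eq_zero_of_fibKSepAt_local (A := A₁)
    (B := MvPolynomial σ A₁)
    (M := (ι → MvPolynomial σ A₁) ⧸ KT w (MvPolynomial σ A₁))
    (N := (ι → MvPolynomial σ A₁) ⧸ KT w (MvPolynomial σ A₁))
    (LinearMap.lsmul _ _ h₁) f₁ q₁ hflat₁ hf₁q K hK₁ (fibKSepAt_of_regAt K f₁ h₁ hreg₁)
    (Submodule.Quotient.mk v₁) htors
  refine ⟨algebraMap _ _ g₁, hg₁, ?_⟩
  have h2 := congrArg (Mmap w (MvPolynomial σ A₁) (MvPolynomial σ R)) hg₁y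
  rw [map_zero, ← Submodule.Quotient.mk_smul, Mmap_mk, Fmap_smul', hFv] at h2
  rw [← Submodule.Quotient.mk_smul]
  exact h2

end Model

section General

variable {A B : Type u} [CommRing A] [CommRing B] [Algebra A B] [Algebra.FinitePresentation A B]
  {M : Type u} [AddCommGroup M] [Module B M] [Module A M] [IsScalarTower A B M]
  [Module.FinitePresentation B M]

/-- **the fibre criterion at one prime for one multiplication** (EGA IV 11.3.7, injectivity part, finitely presented
case). -/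
theorem exists_smul_eq_zero_of_regAt_local (q : Ideal B) [hq : q.IsPrime]
    (hflat : Module.Flat A (LocalizedModule q.primeCompl M)) (f h : B) (hfq : f ∉ q)
    (K : Type u) [Field K] [Algebra A K]
    (hK : RingHom.ker (algebraMap A K) = q.comap (algebraMap A B))
    (hreg : RegAt (A := A) M K f h) (x : M) (hx : ∃ n : ℕ, f ^ n • h • x = 0) :
    ∃ g : B, g ∉ q ∧ g • x = 0 := by
  obtain ⟨n, π, hπ, hker⟩ := Algebra.FinitePresentation.out (R := A) (A := B)
  letI algPB : Algebra (MvPolynomial (Fin n) A) B := π.toRingHom.toAlgebra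
  haveI : IsScalarTower A (MvPolynomial (Fin n) A) B :=
    .of_algebraMap_eq' π.comp_algebraMap.symm
  letI modPM : Module (MvPolynomial (Fin n) A) M := Module.compHom M π.toRingHom
  haveI : IsScalarTower (MvPolynomial (Fin n) A) B M :=
    ⟨fun p s m => by
      change (π p * s) • m = π p • (s • m)
      rw [mul_smul]⟩
  haveI : IsScalarTower A (MvPolynomial (Fin n) A) M :=
    ⟨fun r p m => by
      change π (r • p) • m = r • (π p • m)
      rw [map_smul, smul_assoc]⟩
  haveI : Module.FinitePresentation (MvPolynomial (Fin n) A) B :=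
    Module.finitePresentation_of_surjective (Algebra.linearMap (MvPolynomial (Fin n) A) B) hπ
      hker
  haveI : Module.FinitePresentation (MvPolynomial (Fin n) A) M :=
    Module.FinitePresentation.trans (MvPolynomial (Fin n) A) M B
  obtain ⟨k, m, Λ, hΛ, w, ⟨e⟩⟩ := exists_model_equiv (R := A) (n := n) (M := M)
  haveI : Algebra.FiniteType ℤ Λ := (Subalgebra.fg_iff_finiteType Λ).mp hΛ
  haveI : IsNoetherianRing Λ := Algebra.FiniteType.isNoetherianRing ℤ Λ
  obtain ⟨f', rfl⟩ := hπ f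
  obtain ⟨h', rfl⟩ := hπ h
  obtain ⟨n', hn'⟩ := hx
  set q' : Ideal (MvPolynomial (Fin n) A) := q.comap π.toRingHom with hq'
  haveI : q'.IsPrime := Ideal.comap_isPrime _ _
  have hf'q : f' ∉ q' := fun hmem => hfq hmem
  have hK' : RingHom.ker (algebraMap A K) =
      q'.comap (algebraMap A (MvPolynomial (Fin n) A)) := by
    rw [hK, hq', Ideal.comap_comap]
    congr 1
    exact (π.comp_algebraMap).symm
  have hflat' : Module.Flat A (LocalizedModule q'.primeCompl ((Fin k → MvPolynomial (Fin n) A) ⧸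
      KT w (MvPolynomial (Fin n) A))) := by
    have h1 := (flat_localizedModule_comap_iff (R := A) (P := MvPolynomial (Fin n) A) (M := M)
      hπ q).mpr hflat
    exact flat_localizedModule_of_linearEquiv e.symm _ h1
  have hψ : IsBaseChange A (e.restrictScalars A).toLinearMap :=
    IsBaseChange.ofEquiv (e.restrictScalars A)
  have hreg' : RegAt (A := A) ((Fin k → MvPolynomial (Fin n) A) ⧸
      KT w (MvPolynomial (Fin n) A)) K f' h' := by
    refine regAt_of_isBaseChange (A₁ := A) (A := A) (B₁ := MvPolynomial (Fin n) A) (B := B) K _ hψ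
      π.toRingHom (fun b m => ?_) f' h' hreg
    show e (b • m) = π b • e m
    rw [map_smul]
    rfl
  have hy : ∃ j : ℕ, f' ^ j • h' • e.symm x = 0 := by
    refine ⟨n', ?_⟩
    rw [← map_smul, ← map_smul]
    have : f' ^ n' • h' • x = 0 := by
      show π (f' ^ n') • π h' • x = 0
      rw [map_pow]
      exact hn'
    rw [this, map_zero]
  obtain ⟨g', hg', hg'y⟩ := model_exists_smul_eq_zero_local w q' hflat' f' h' hf'q K hK' hreg'
    (e.symm x) hy
  refine ⟨π g', hg', ?_⟩
  have := congrArg e hg'y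
  rw [map_smul, LinearEquiv.apply_symm_apply, map_zero] at this
  exact this

end General

end Groth.Agent.R2.H22.LocFlat
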