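import Mathlib
import Groth.Agent.R2.H22LocFlat

/-!
# Descent of a linear map between finitely presented modules; the fibre criterion for a general map (helper22)

`uT wM wN U hU T`: the map between presented modules over `T` induced by a matrix `U`.  Main result
`exists_smul_eq_zero_of_fibKSepAt_fp` (EGA IV 11.3.7, injectivity part, general map, no Noetherian hypotheses).
-/

set_option autoImplicit false
set_option linter.style.haveILetI false
set_option linter.unusedSectionVars false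
universe u

namespace Groth.Agent.R2.H22.PairDesc

open TensorProduct MvPolynomial
open Groth.Agent.Lib.Helper3.FlatLoc Groth.Agent.Lib.Helper3.FlatDesc Groth.Agent.Lib.Helper3.FlatOpen
open Groth.Agent.R2.H22.LocMain Groth.Agent.R2.H22.LocDesc Groth.Agent.R2.H22.LocFlat

section MatrixMap

variable {T₀ : Type*} [CommRing T₀] {ιM κM ιN κN : Type*} [Fintype κM] [Fintype κN] [Fintype ιM]
  (wM : κM → ιM → T₀) (wN : κN → ιN → T₀) (U : ιM → ιN → T₀)

/-- the matrix `U` carries the relations of `wM` into those of `wN` (over the base ring `T₀`). -/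
def Compat : Prop := ∀ j : κM, WT U T₀ (wM j) ∈ KT wN T₀

variable {wM wN U}

theorem wT_self (w : κM → ιM → T₀) : wT w T₀ = w := by
  ext j i
  simp [wT]

theorem WT_mem_KT (hU : Compat wM wN U) (T : Type*) [CommRing T] [Algebra T₀ T] {x : ιM → T}
    (hx : x ∈ KT wM T) : WT U T x ∈ KT wN T := by
  obtain ⟨a, rfl⟩ := hx
  rw [WT_apply wM T a, map_sum]
  refine Submodule.sum_mem _ fun j _ => ?_
  rw [map_smul]
  refine Submodule.smul_mem _ _ ?_
  have h1 : wT wM T j = Fmap T₀ T ιM (wM j) := by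
    rw [← Fmap_wT wM T₀ T j, wT_self]
  rw [h1, WT_Fmap]
  exact Fmap_mem_KT wN T₀ T (hU j)

/-- the induced map on presented modules. -/
noncomputable def uT (hU : Compat wM wN U) (T : Type*) [CommRing T] [Algebra T₀ T] :
    ((ιM → T) ⧸ KT wM T) →ₗ[T] ((ιN → T) ⧸ KT wN T) :=
  Submodule.mapQ _ _ (WT U T) (fun _ hx => WT_mem_KT hU T hx)

@[simp]
theorem uT_mk (hU : Compat wM wN U) (T : Type*) [CommRing T] [Algebra T₀ T] (x : ιM → T) :
    uT hU T (Submodule.Quotient.mk x) = Submodule.Quotient.mk (WT U T x) := rfl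

theorem Mmap_uT (hU : Compat wM wN U) (T T' : Type*) [CommRing T] [Algebra T₀ T] [CommRing T']
    [Algebra T₀ T'] [Algebra T T'] [IsScalarTower T₀ T T'] (y : (ιM → T) ⧸ KT wM T) :
    Mmap wN T T' (uT hU T y) = uT hU T' (Mmap wM T T' y) := by
  obtain ⟨x, rfl⟩ := Submodule.Quotient.mk_surjective _ y
  rw [uT_mk, Mmap_mk, Mmap_mk, uT_mk, WT_Fmap]

end MatrixMap

section Transfer

variable {A₁ A B₁ B : Type u} [CommRing A₁] [CommRing A] [CommRing B₁] [CommRing B]
  [Algebra A₁ A] [Algebra A₁ B₁] [Algebra A B]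
  {M₁ M : Type u} [AddCommGroup M₁] [Module A₁ M₁] [Module B₁ M₁] [IsScalarTower A₁ B₁ M₁]
  [AddCommGroup M] [Module A M] [Module B M] [IsScalarTower A B M] [Module A₁ M]
  [IsScalarTower A₁ A M]
  {N₁ N : Type u} [AddCommGroup N₁] [Module A₁ N₁] [Module B₁ N₁] [IsScalarTower A₁ B₁ N₁]
  [AddCommGroup N] [Module A N] [Module B N] [IsScalarTower A B N] [Module A₁ N]
  [IsScalarTower A₁ A N]
  (K : Type u) [Field K] [Algebra A K] [Algebra A₁ K] [IsScalarTower A₁ A K]

theorem bcMap_rTensor (ψM : M₁ →ₗ[A₁] M) (ψN : N₁ →ₗ[A₁] N) (u₁ : M₁ →ₗ[B₁] N₁) (u : M →ₗ[B] N)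
    (hcomm : ∀ x, ψN (u₁ x) = u (ψM x)) (z : M₁ ⊗[A₁] K) :
    bcMap (R := A) ψN K (AlgebraTensorModule.rTensor A₁ K u₁ z) =
      AlgebraTensorModule.rTensor A K u (bcMap (R := A) ψM K z) := by
  induction z using TensorProduct.induction_on with
  | zero => simp
  | tmul m c =>
    rw [AlgebraTensorModule.rTensor_tmul, bcMap_tmul, bcMap_tmul, AlgebraTensorModule.rTensor_tmul,
      hcomm]
  | add z₁ z₂ h₁ h₂ => simp only [map_add, h₁, h₂]

/-- transfer of the fibrewise injectivity hypothesis along base changes of the two modules. -/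
theorem fibKSepAt_of_isBaseChange (ψM : M₁ →ₗ[A₁] M) (hψM : IsBaseChange A ψM)
    (ψN : N₁ →ₗ[A₁] N) (β : B₁ →+* B)
    (hβM : ∀ b m, ψM (b • m) = β b • ψM m) (hβN : ∀ b m, ψN (b • m) = β b • ψN m)
    (u₁ : M₁ →ₗ[B₁] N₁) (u : M →ₗ[B] N) (hcomm : ∀ x, ψN (u₁ x) = u (ψM x)) (f₁ : B₁)
    (h : FibKSepAt (A := A) (N := fun _ : Unit => N) (fun _ => u) K (β f₁)) :
    FibKSepAt (A := A₁) (N := fun _ : Unit => N₁) (fun _ => u₁) K f₁ := by
  intro z hz
  obtain ⟨n, hn⟩ := hz ()
  have h1 := congrArg (bcMap (R := A) ψN K) hn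
  rw [bcMap_smul K ψN β hβN, bcMap_rTensor K ψM ψN u₁ u hcomm, map_pow, map_zero] at h1
  obtain ⟨k, hk⟩ := h (bcMap (R := A) ψM K z) (fun _ => ⟨n, h1⟩)
  refine ⟨k, ?_⟩
  apply (bcMap_bijective ψM hψM K).injective
  rw [bcMap_smul K ψM β hβM, map_pow, hk, map_zero]

end Transfer

attribute [local instance] MvPolynomial.algebraMvPolynomial

section Model

variable {Λ : Type u} [CommRing Λ]
  {σ ιM κM ιN κN : Type} [Finite σ] [Fintype ιM] [DecidableEq ιM] [Fintype κM]
  [Fintype ιN] [DecidableEq ιN] [Fintype κN]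
  {wM : κM → ιM → MvPolynomial σ Λ} {wN : κN → ιN → MvPolynomial σ Λ}
  {U : ιM → ιN → MvPolynomial σ Λ} (hU : Compat wM wN U)
  {R : Type u} [CommRing R] [Algebra Λ R]

set_option maxHeartbeats 1600000 in
/-- the model case for a general map. -/
theorem model_pair_exists_smul_eq_zero_local [IsNoetherianRing Λ]
    (q : Ideal (MvPolynomial σ R)) [hq : q.IsPrime]
    (hflat : Module.Flat R (LocalizedModule q.primeCompl
      ((ιN → MvPolynomial σ R) ⧸ KT wN (MvPolynomial σ R))))
    (f : MvPolynomial σ R) (hfq : f ∉ q)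
    (K : Type u) [Field K] [Algebra R K]
    (hK : RingHom.ker (algebraMap R K) = q.comap (algebraMap R (MvPolynomial σ R)))
    (hfib : FibKSepAt (A := R)
      (N := fun _ : Unit => (ιN → MvPolynomial σ R) ⧸ KT wN (MvPolynomial σ R))
      (fun _ => uT hU (MvPolynomial σ R)) K f)
    (y : (ιM → MvPolynomial σ R) ⧸ KT wM (MvPolynomial σ R))
    (hy : ∃ n : ℕ, f ^ n • uT hU (MvPolynomial σ R) y = 0) :
    ∃ g : MvPolynomial σ R, g ∉ q ∧ g • y = 0 := by
  classical
  obtain ⟨n, hn⟩ := hy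
  obtain ⟨v, rfl⟩ := Submodule.Quotient.mk_surjective _ y
  have hmem : f ^ n • WT U (MvPolynomial σ R) v ∈ KT wN (MvPolynomial σ R) := by
    rw [← Submodule.Quotient.mk_eq_zero, Submodule.Quotient.mk_smul]
    exact hn
  obtain ⟨a, ha⟩ := hmem
  let extra : Finset R := f.coeffs ∪ (Finset.univ.biUnion fun i => (v i).coeffs) ∪
    (Finset.univ.biUnion fun j => (a j).coeffs)
  obtain ⟨A₁, hfg, hextra, hflat₁⟩ := exists_fg_subalgebra_flat wN q hflat extra
  have hef : (f.coeffs : Set R) ⊆ A₁ := fun c hc => hextra (by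
    simp only [extra, Finset.coe_union, Set.mem_union]
    exact Or.inl (Or.inl hc))
  have hev : ∀ i, ((v i).coeffs : Set R) ⊆ A₁ := fun i c hc => hextra (by
    simp only [extra, Finset.coe_union, Set.mem_union]
    exact Or.inl (Or.inr (Finset.mem_coe.2 (Finset.mem_biUnion.2 ⟨i, Finset.mem_univ i, hc⟩))))
  have hea : ∀ j, ((a j).coeffs : Set R) ⊆ A₁ := fun j c hc => hextra (by
    simp only [extra, Finset.coe_union, Set.mem_union]
    exact Or.inr (Finset.mem_coe.2 (Finset.mem_biUnion.2 ⟨j, Finset.mem_univ j, hc⟩)))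
  obtain ⟨f₁, hf₁⟩ := exists_map_eq A₁ f hef
  choose v₁ hv₁ using fun i => exists_map_eq A₁ (v i) (hev i)
  choose a₁ ha₁ using fun j => exists_map_eq A₁ (a j) (hea j)
  haveI := isScalarTower_mvPolynomial (σ := σ) Λ A₁ R
  have hFv : Fmap (MvPolynomial σ A₁) (MvPolynomial σ R) ιM v₁ = v := funext hv₁
  have hFa : Fmap (MvPolynomial σ A₁) (MvPolynomial σ R) κN a₁ = a := funext ha₁
  have hrel : WT wN (MvPolynomial σ A₁) a₁ = f₁ ^ n • WT U (MvPolynomial σ A₁) v₁ := by
    apply Fmap_injective A₁ ιN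
    rw [← WT_Fmap, hFa, ha, Fmap_smul', ← WT_Fmap, hFv, map_pow, hf₁]
  haveI : Algebra.FiniteType Λ A₁ := (Subalgebra.fg_iff_finiteType A₁).mp hfg
  haveI : IsNoetherianRing A₁ := Algebra.FiniteType.isNoetherianRing Λ A₁
  set q₁ : Ideal (MvPolynomial σ A₁) :=
    q.comap (algebraMap (MvPolynomial σ A₁) (MvPolynomial σ R)) with hq₁
  haveI : q₁.IsPrime := Ideal.comap_isPrime _ _
  have hf₁q : f₁ ∉ q₁ := fun hmem => hfq (by rw [← hf₁]; exact hmem)
  have hK₁ : RingHom.ker (algebraMap A₁ K) = q₁.comap (algebraMap A₁ (MvPolynomial σ A₁)) := by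
    ext x
    rw [RingHom.mem_ker, Ideal.mem_comap, Ideal.mem_comap]
    have e1 : algebraMap A₁ K x = algebraMap R K (x : R) := rfl
    have e2 : algebraMap (MvPolynomial σ A₁) (MvPolynomial σ R)
        (algebraMap A₁ (MvPolynomial σ A₁) x) = algebraMap R (MvPolynomial σ R) (x : R) := by
      rw [MvPolynomial.algebraMap_eq, MvPolynomial.algebraMap_eq]
      exact MvPolynomial.map_C _ _
    rw [e1, ← RingHom.mem_ker, hK, Ideal.mem_comap, e2]
  have hψM : IsBaseChange R
      ((Mmap wM (MvPolynomial σ A₁) (MvPolynomial σ R)).restrictScalars A₁) :=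
    isBaseChange_restrictScalars_of_isPushout _ (isBaseChange_Mmap wM _ _)
  have hfib₁ : FibKSepAt (A := A₁)
      (N := fun _ : Unit => (ιN → MvPolynomial σ A₁) ⧸ KT wN (MvPolynomial σ A₁))
      (fun _ => uT hU (MvPolynomial σ A₁)) K f₁ := by
    refine fibKSepAt_of_isBaseChange (A := R) (B := MvPolynomial σ R) K _ hψM
      ((Mmap wN (MvPolynomial σ A₁) (MvPolynomial σ R)).restrictScalars A₁)
      (algebraMap (MvPolynomial σ A₁) (MvPolynomial σ R)) ?_ ?_ (uT hU (MvPolynomial σ A₁))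
      (uT hU (MvPolynomial σ R)) ?_ f₁ (by rw [hf₁]; exact hfib)
    · intro b m
      show Mmap wM (MvPolynomial σ A₁) (MvPolynomial σ R) (b • m) = _
      rw [map_smul, algebraMap_smul]
      rfl
    · intro b m
      show Mmap wN (MvPolynomial σ A₁) (MvPolynomial σ R) (b • m) = _
      rw [map_smul, algebraMap_smul]
      rfl
    · intro x
      exact Mmap_uT hU (MvPolynomial σ A₁) (MvPolynomial σ R) x
  have htors : ∃ k : ℕ, f₁ ^ k • uT hU (MvPolynomial σ A₁) (Submodule.Quotient.mk v₁) = 0 := by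
    refine ⟨n, ?_⟩
    rw [uT_mk, ← Submodule.Quotient.mk_smul, Submodule.Quotient.mk_eq_zero]
    exact ⟨a₁, hrel⟩
  obtain ⟨g₁, hg₁, hg₁y⟩ := exists_smul_eq_zero_of_fibKSepAt_local (A := A₁)
    (B := MvPolynomial σ A₁)
    (M := (ιM → MvPolynomial σ A₁) ⧸ KT wM (MvPolynomial σ A₁))
    (N := (ιN → MvPolynomial σ A₁) ⧸ KT wN (MvPolynomial σ A₁))
    (uT hU (MvPolynomial σ A₁)) f₁ q₁ hflat₁ hf₁q K hK₁ hfib₁
    (Submodule.Quotient.mk v₁) htors
  refine ⟨algebraMap _ _ g₁, hg₁, ?_⟩
  have h2 := congrArg (Mmap wM (MvPolynomial σ A₁) (MvPolynomial σ R)) hg₁y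
  rw [map_zero, ← Submodule.Quotient.mk_smul, Mmap_mk, Fmap_smul', hFv] at h2
  rw [← Submodule.Quotient.mk_smul]
  exact h2

end Model

section PairModel

theorem coeffs_lift {R : Type u} [CommRing R] {σ : Type} (cs : Finset R)
    (p : MvPolynomial σ R) (hp : p.coeffs ⊆ cs) :
    ∃ f : MvPolynomial σ (Algebra.adjoin ℤ (cs : Set R)),
      MvPolynomial.map (algebraMap (Algebra.adjoin ℤ (cs : Set R)) R) f = p := by
  apply MvPolynomial.mem_range_map_iff_coeffs_subset.mpr
  intro c hc
  exact ⟨⟨c, Algebra.subset_adjoin (Finset.mem_coe.2 (hp hc))⟩, rfl⟩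

theorem WT_eq_of_wT {T₀ T : Type*} [CommRing T₀] [CommRing T] [Algebra T₀ T] {ι κ : Type*}
    [Fintype κ] [DecidableEq κ] (w : κ → ι → T₀) (g : (κ → T) →ₗ[T] (ι → T))
    (h : ∀ j, wT w T j = g (Pi.single j 1)) : WT w T = g := by
  apply LinearMap.ext
  intro a
  rw [WT_apply, LinearMap.pi_apply_eq_sum_univ g a]
  refine Finset.sum_congr rfl fun j _ => ?_
  rw [h j]
  congr 2
  funext j'
  simp [Pi.single_apply, eq_comm]

theorem Fmap_injective' {R : Type u} [CommRing R] {σ : Type} (Λ : Subalgebra ℤ R) (ι' : Type) :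
    Function.Injective (Fmap (MvPolynomial σ Λ) (MvPolynomial σ R) ι') := by
  intro x y hxy
  funext i
  have := congrFun hxy i
  rw [Fmap_apply, Fmap_apply] at this
  exact MvPolynomial.map_injective _ (Subtype.val_injective) this

set_option maxHeartbeats 1600000 in
/-- simultaneous models for two finitely presented modules and a linear map between them. -/
theorem exists_pair_model {R : Type u} [CommRing R] {n : ℕ} {M N : Type u}
    [AddCommGroup M] [Module (MvPolynomial (Fin n) R) M]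
    [Module.FinitePresentation (MvPolynomial (Fin n) R) M]
    [AddCommGroup N] [Module (MvPolynomial (Fin n) R) N]
    [Module.FinitePresentation (MvPolynomial (Fin n) R) N]
    (u : M →ₗ[MvPolynomial (Fin n) R] N) :
    ∃ (kM mM kN mN : ℕ) (Λ : Subalgebra ℤ R) (_ : Λ.FG)
      (wM : Fin mM → Fin kM → MvPolynomial (Fin n) Λ)
      (wN : Fin mN → Fin kN → MvPolynomial (Fin n) Λ)
      (U : Fin kM → Fin kN → MvPolynomial (Fin n) Λ) (hU : Compat wM wN U)
      (eM : ((Fin kM → MvPolynomial (Fin n) R) ⧸ KT wM (MvPolynomial (Fin n) R)) ≃ₗ[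
        MvPolynomial (Fin n) R] M)
      (eN : ((Fin kN → MvPolynomial (Fin n) R) ⧸ KT wN (MvPolynomial (Fin n) R)) ≃ₗ[
        MvPolynomial (Fin n) R] N),
      ∀ y, eN (uT hU (MvPolynomial (Fin n) R) y) = u (eM y) := by
  classical
  obtain ⟨kM, mM, πM, gM, hπM, hexM⟩ :=
    Module.FinitePresentation.exists_fin' (MvPolynomial (Fin n) R) M
  obtain ⟨kN, mN, πN, gN, hπN, hexN⟩ :=
    Module.FinitePresentation.exists_fin' (MvPolynomial (Fin n) R) N
  let vM : Fin mM → Fin kM → MvPolynomial (Fin n) R := fun j => gM (Pi.single j 1)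
  let vN : Fin mN → Fin kN → MvPolynomial (Fin n) R := fun j => gN (Pi.single j 1)
  have hUex : ∀ i : Fin kM, ∃ y : Fin kN → MvPolynomial (Fin n) R,
      πN y = u (πM (Pi.single i 1)) := fun i => hπN _
  choose Umat hUmat using hUex
  have hπNU : ∀ x : Fin kM → MvPolynomial (Fin n) R, πN (∑ i, x i • Umat i) = u (πM x) := by
    intro x
    rw [map_sum]
    simp_rw [map_smul, hUmat, ← map_smul, ← map_sum]
    congr 2
    funext k
    rw [Finset.sum_apply]
    simp [Pi.single_apply]
  have hVex : ∀ j : Fin mM, ∃ c : Fin mN → MvPolynomial (Fin n) R,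
      gN c = ∑ i, vM j i • Umat i := by
    intro j
    apply (hexN _).mp
    rw [hπNU, (hexM (vM j)).mpr ⟨_, rfl⟩, map_zero]
  choose Vmat hVmat using hVex
  let cs : Finset R :=
    (Finset.univ.biUnion fun j => Finset.univ.biUnion fun i => (vM j i).coeffs) ∪
    (Finset.univ.biUnion fun j => Finset.univ.biUnion fun i => (vN j i).coeffs) ∪
    (Finset.univ.biUnion fun j => Finset.univ.biUnion fun i => (Umat j i).coeffs) ∪
    (Finset.univ.biUnion fun j => Finset.univ.biUnion fun i => (Vmat j i).coeffs)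
  have h1 : ∀ j i, (vM j i).coeffs ⊆ cs := fun j i c hc => by
    simp only [cs, Finset.mem_union]
    exact Or.inl (Or.inl (Or.inl (Finset.mem_biUnion.mpr ⟨j, Finset.mem_univ j,
      Finset.mem_biUnion.mpr ⟨i, Finset.mem_univ i, hc⟩⟩)))
  have h2 : ∀ j i, (vN j i).coeffs ⊆ cs := fun j i c hc => by
    simp only [cs, Finset.mem_union]
    exact Or.inl (Or.inl (Or.inr (Finset.mem_biUnion.mpr ⟨j, Finset.mem_univ j,
      Finset.mem_biUnion.mpr ⟨i, Finset.mem_univ i, hc⟩⟩)))
  have h3 : ∀ j i, (Umat j i).coeffs ⊆ cs := fun j i c hc => by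
    simp only [cs, Finset.mem_union]
    exact Or.inl (Or.inr (Finset.mem_biUnion.mpr ⟨j, Finset.mem_univ j,
      Finset.mem_biUnion.mpr ⟨i, Finset.mem_univ i, hc⟩⟩))
  have h4 : ∀ j i, (Vmat j i).coeffs ⊆ cs := fun j i c hc => by
    simp only [cs, Finset.mem_union]
    exact Or.inr (Finset.mem_biUnion.mpr ⟨j, Finset.mem_univ j,
      Finset.mem_biUnion.mpr ⟨i, Finset.mem_univ i, hc⟩⟩)
  set Λ : Subalgebra ℤ R := Algebra.adjoin ℤ (cs : Set R) with hΛ
  choose wM hwM using fun j i => coeffs_lift cs (vM j i) (h1 j i)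
  choose wN hwN using fun j i => coeffs_lift cs (vN j i) (h2 j i)
  choose U hUe using fun j i => coeffs_lift cs (Umat j i) (h3 j i)
  choose V hVe using fun j i => coeffs_lift cs (Vmat j i) (h4 j i)
  have hwTM : wT wM (MvPolynomial (Fin n) R) = vM := by
    ext j i : 2
    exact hwM j i
  have hwTN : wT wN (MvPolynomial (Fin n) R) = vN := by
    ext j i : 2
    exact hwN j i
  have hwTU : wT U (MvPolynomial (Fin n) R) = Umat := by
    ext j i : 2
    exact hUe j i
  have hgM : WT wM (MvPolynomial (Fin n) R) = gM :=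
    WT_eq_of_wT wM gM (fun j => by rw [hwTM])
  have hgN : WT wN (MvPolynomial (Fin n) R) = gN :=
    WT_eq_of_wT wN gN (fun j => by rw [hwTN])
  have hWU : ∀ x : Fin kM → MvPolynomial (Fin n) R,
      WT U (MvPolynomial (Fin n) R) x = ∑ i, x i • Umat i := by
    intro x
    rw [WT_apply, hwTU]
  have hFw : ∀ j, Fmap (MvPolynomial (Fin n) Λ) (MvPolynomial (Fin n) R) (Fin kM) (wM j) = vM j := by
    intro j
    funext i
    exact hwM j i
  have hFV : ∀ j, Fmap (MvPolynomial (Fin n) Λ) (MvPolynomial (Fin n) R) (Fin mN) (V j) = Vmat j := by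
    intro j
    funext i
    exact hVe j i
  have hU : Compat wM wN U := by
    intro j
    refine ⟨V j, ?_⟩
    apply Fmap_injective' Λ (Fin kN)
    rw [← WT_Fmap, ← WT_Fmap, hFV, hFw, hgN, hVmat, hWU]
  have hKM : KT wM (MvPolynomial (Fin n) R) = LinearMap.ker πM := by
    rw [KT, hgM]
    exact (LinearMap.exact_iff.mp hexM).symm
  have hKN : KT wN (MvPolynomial (Fin n) R) = LinearMap.ker πN := by
    rw [KT, hgN]
    exact (LinearMap.exact_iff.mp hexN).symm
  refine ⟨kM, mM, kN, mN, Λ, Subalgebra.fg_adjoin_finset cs, wM, wN, U, hU,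
    (Submodule.quotEquivOfEq _ _ hKM) ≪≫ₗ (LinearMap.quotKerEquivOfSurjective πM hπM),
    (Submodule.quotEquivOfEq _ _ hKN) ≪≫ₗ (LinearMap.quotKerEquivOfSurjective πN hπN), ?_⟩
  intro y
  obtain ⟨x, rfl⟩ := Submodule.Quotient.mk_surjective _ y
  rw [uT_mk]
  show πN (WT U (MvPolynomial (Fin n) R) x) = u (πM x)
  rw [hWU, hπNU]

end PairModel

section General

variable {A B : Type u} [CommRing A] [CommRing B] [Algebra A B] [Algebra.FinitePresentation A B]
  {M : Type u} [AddCommGroup M] [Module B M] [Module A M] [IsScalarTower A B M]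
  [Module.FinitePresentation B M]
  {N : Type u} [AddCommGroup N] [Module B N] [Module A N] [IsScalarTower A B N]
  [Module.FinitePresentation B N]

set_option maxHeartbeats 1600000 in
/-- **the fibre criterion at one prime for a general map** (EGA IV 11.3.7, injectivity part): `B` finitely presented over
`A`, `M`, `N` finitely presented over `B`, `N_q` flat over `A`, `u ⊗ K` injective on `(M ⊗ K)_f`; then the `f`-power
torsion of `ker u` vanishes at `q`. -/
theorem exists_smul_eq_zero_of_fibKSepAt_fp (u : M →ₗ[B] N) (q : Ideal B) [hq : q.IsPrime]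
    (hflat : Module.Flat A (LocalizedModule q.primeCompl N)) (f : B) (hfq : f ∉ q)
    (K : Type u) [Field K] [Algebra A K]
    (hK : RingHom.ker (algebraMap A K) = q.comap (algebraMap A B))
    (hfib : FibKSepAt (A := A) (N := fun _ : Unit => N) (fun _ => u) K f) (x : M)
    (hx : ∃ n : ℕ, f ^ n • u x = 0) :
    ∃ g : B, g ∉ q ∧ g • x = 0 := by
  obtain ⟨n, π, hπ, hker⟩ := Algebra.FinitePresentation.out (R := A) (A := B)
  letI algPB : Algebra (MvPolynomial (Fin n) A) B := π.toRingHom.toAlgebra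
  haveI : IsScalarTower A (MvPolynomial (Fin n) A) B :=
    .of_algebraMap_eq' π.comp_algebraMap.symm
  letI modPM : Module (MvPolynomial (Fin n) A) M := Module.compHom M π.toRingHom
  haveI : IsScalarTower (MvPolynomial (Fin n) A) B M :=
    ⟨fun p s m => by
      change (π p * s) • m = π p • (s • m)
      rw [mul_smul]⟩
  haveI : IsScalarTower A (MvPolynomial (Fin n) A) M :=
    ⟨fun r p m => by
      change π (r • p) • m = r • (π p • m)
      rw [map_smul, smul_assoc]⟩
  letI modPN : Module (MvPolynomial (Fin n) A) N := Module.compHom N π.toRingHom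
  haveI : IsScalarTower (MvPolynomial (Fin n) A) B N :=
    ⟨fun p s m => by
      change (π p * s) • m = π p • (s • m)
      rw [mul_smul]⟩
  haveI : IsScalarTower A (MvPolynomial (Fin n) A) N :=
    ⟨fun r p m => by
      change π (r • p) • m = r • (π p • m)
      rw [map_smul, smul_assoc]⟩
  haveI : Module.FinitePresentation (MvPolynomial (Fin n) A) B :=
    Module.finitePresentation_of_surjective (Algebra.linearMap (MvPolynomial (Fin n) A) B) hπ
      hker
  haveI : Module.FinitePresentation (MvPolynomial (Fin n) A) M :=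
    Module.FinitePresentation.trans (MvPolynomial (Fin n) A) M B
  haveI : Module.FinitePresentation (MvPolynomial (Fin n) A) N :=
    Module.FinitePresentation.trans (MvPolynomial (Fin n) A) N B
  let u' : M →ₗ[MvPolynomial (Fin n) A] N := u.restrictScalars (MvPolynomial (Fin n) A)
  obtain ⟨kM, mM, kN, mN, Λ, hΛ, wM, wN, U, hU, eM, eN, hcomm⟩ := exists_pair_model u'
  haveI : Algebra.FiniteType ℤ Λ := (Subalgebra.fg_iff_finiteType Λ).mp hΛ
  haveI : IsNoetherianRing Λ := Algebra.FiniteType.isNoetherianRing ℤ Λ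
  obtain ⟨f', rfl⟩ := hπ f
  obtain ⟨n', hn'⟩ := hx
  set q' : Ideal (MvPolynomial (Fin n) A) := q.comap π.toRingHom with hq'
  haveI : q'.IsPrime := Ideal.comap_isPrime _ _
  have hf'q : f' ∉ q' := fun hmem => hfq hmem
  have hK' : RingHom.ker (algebraMap A K) =
      q'.comap (algebraMap A (MvPolynomial (Fin n) A)) := by
    rw [hK, hq', Ideal.comap_comap]
    congr 1
    exact (π.comp_algebraMap).symm
  have hflat' : Module.Flat A (LocalizedModule q'.primeCompl ((Fin kN → MvPolynomial (Fin n) A) ⧸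
      KT wN (MvPolynomial (Fin n) A))) := by
    have h1 := (flat_localizedModule_comap_iff (R := A) (P := MvPolynomial (Fin n) A) (M := N)
      hπ q).mpr hflat
    exact flat_localizedModule_of_linearEquiv eN.symm _ h1
  have hψM : IsBaseChange A (eM.restrictScalars A).toLinearMap :=
    IsBaseChange.ofEquiv (eM.restrictScalars A)
  have hfib' : FibKSepAt (A := A)
      (N := fun _ : Unit => (Fin kN → MvPolynomial (Fin n) A) ⧸ KT wN (MvPolynomial (Fin n) A))
      (fun _ => uT hU (MvPolynomial (Fin n) A)) K f' := by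
    refine fibKSepAt_of_isBaseChange (A₁ := A) (A := A) (B₁ := MvPolynomial (Fin n) A) (B := B) K
      (eM.restrictScalars A).toLinearMap hψM (eN.restrictScalars A).toLinearMap π.toRingHom
      (fun b m => ?_) (fun b m => ?_) (uT hU (MvPolynomial (Fin n) A)) u (fun y => ?_) f' hfib
    · show eM (b • m) = π b • eM m
      rw [map_smul]
      rfl
    · show eN (b • m) = π b • eN m
      rw [map_smul]
      rfl
    · exact hcomm y
  have hy : ∃ j : ℕ, f' ^ j • uT hU (MvPolynomial (Fin n) A) (eM.symm x) = 0 := by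
    refine ⟨n', ?_⟩
    apply eN.injective
    rw [map_smul, hcomm, LinearEquiv.apply_symm_apply, map_zero]
    show π (f' ^ n') • u x = 0
    rw [map_pow]
    exact hn'
  obtain ⟨g', hg', hg'y⟩ := model_pair_exists_smul_eq_zero_local hU q' hflat' f' hf'q K hK' hfib'
    (eM.symm x) hy
  refine ⟨π g', hg', ?_⟩
  have := congrArg eM hg'y
  rw [map_smul, LinearEquiv.apply_symm_apply, map_zero] at this
  exact this

end General

end Groth.Agent.R2.H22.PairDesc
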