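import Mathlib
import Groth.Agent.Lib.Helper3FlatOpenFP
import Groth.Agent.Lib.Helper3FlatDescE

/-!
# The local criterion of flatness for finitely presented modules over finitely presented algebras (helper22)

`flat_localizedModule_of_torsion_prime`: `S` a finitely presented `R`-algebra, `M` a finitely presented `S`-module,
`q` a prime of `S` and `p = q ∩ R`.  If the kernel of `M ⊗ p → M` is killed at `q` (that is `Tor₁^R(M, R/p)_q = 0`),
then `M_q` is flat over `R`.  No Noetherian hypothesis; the proof is helper3's descent of flatness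
(`Lib/Helper3FlatDescC`) with the flatness hypothesis replaced by the only consequence of it that is used.
-/

set_option autoImplicit false
set_option linter.style.haveILetI false
set_option linter.unusedSectionVars false

universe u

namespace Groth.Agent.R2.H22.NLC

open TensorProduct MvPolynomial Groth.Agent.Lib.Helper3.FlatLoc Groth.Agent.Lib.Helper3.FlatDesc
  Groth.Agent.Lib.Helper3.FlatOpen

attribute [local instance] MvPolynomial.algebraMvPolynomial

section Top

variable {Λ R : Type u} [CommRing Λ] [CommRing R] [Algebra Λ R]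
  {σ ι κ : Type} [Finite σ] [Fintype ι] [DecidableEq ι] [Fintype κ]
  (w : κ → ι → MvPolynomial σ Λ)

/-- Consequence of the torsion hypothesis for the ideal `p = q ∩ R` at the top level: the finitely many torsion
conditions (copy of the flat case of helper3, with the hypothesis weakened). -/
theorem exists_torsion_top' (q : Ideal (MvPolynomial σ R)) [q.IsPrime]
    (hT : ∀ z : ((ι → MvPolynomial σ R) ⧸ KT w (MvPolynomial σ R)) ⊗[R]
        ↥(q.comap (algebraMap R (MvPolynomial σ R))),
      (q.comap (algebraMap R (MvPolynomial σ R))).subtype.lTensor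
        ((ι → MvPolynomial σ R) ⧸ KT w (MvPolynomial σ R)) z = 0 → ∃ s ∈ q.primeCompl, s • z = 0)
    (y : ι → MvPolynomial σ Λ) (hyK : y ∈ KT w (MvPolynomial σ Λ))
    (hyp : ∀ i, y i ∈ ((q.comap (algebraMap R (MvPolynomial σ R))).comap
      (algebraMap Λ R)).map (C (σ := σ))) :
    ∃ s ∈ q.primeCompl, ∃ e : κ → MvPolynomial σ R,
      (∀ l, e l ∈ (q.comap (algebraMap R (MvPolynomial σ R))).map (C (σ := σ))) ∧
      WT w (MvPolynomial σ R) e = s • Fmap (MvPolynomial σ Λ) (MvPolynomial σ R) ι y := by
  set p : Ideal R := q.comap (algebraMap R (MvPolynomial σ R)) with hp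
  have hF : Function.Injective (p.subtype.lTensor (ι → MvPolynomial σ R)) :=
    Module.Flat.lTensor_preserves_injective_linearMap _ Subtype.val_injective
  have hK := (kernel_torsion_iff (KT w (MvPolynomial σ R)) p q.primeCompl hF).mp hT
  have hsm := Ideal.smul_restrictScalars (S := MvPolynomial σ R) p
    (⊤ : Submodule (MvPolynomial σ R) (ι → MvPolynomial σ R))
  rw [Submodule.restrictScalars_top, MvPolynomial.algebraMap_eq] at hsm
  have hsm2 := Ideal.smul_restrictScalars (S := MvPolynomial σ R) p (KT w (MvPolynomial σ R))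
  rw [MvPolynomial.algebraMap_eq] at hsm2
  have h1 : Fmap (MvPolynomial σ Λ) (MvPolynomial σ R) ι y ∈ p • (⊤ : Submodule R _) := by
    rw [← hsm, Submodule.restrictScalars_mem, mem_smul_top_pi_iff]
    intro i
    rw [Fmap_apply, MvPolynomial.algebraMap_def]
    exact map_mem_map_C _ p (hyp i)
  obtain ⟨s, hs, hsy⟩ := hK _ (Fmap_mem_KT w _ _ hyK) h1
  rw [← hsm2, Submodule.restrictScalars_mem, mem_smul_KT_iff] at hsy
  obtain ⟨e, he, hew⟩ := hsy
  exact ⟨s, hs, e, he, hew⟩

/-- **Local descent of the local criterion**: if `Tor₁(M, R/p)` vanishes at `q` (`p = q ∩ R`), then the presented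
module is already flat at the contraction of `q` over some finitely generated `Λ`-subalgebra of `R`. -/
theorem exists_fg_subalgebra_flat_of_torsion [IsNoetherianRing Λ] (q : Ideal (MvPolynomial σ R))
    [q.IsPrime]
    (hT : ∀ z : ((ι → MvPolynomial σ R) ⧸ KT w (MvPolynomial σ R)) ⊗[R]
        ↥(q.comap (algebraMap R (MvPolynomial σ R))),
      (q.comap (algebraMap R (MvPolynomial σ R))).subtype.lTensor
        ((ι → MvPolynomial σ R) ⧸ KT w (MvPolynomial σ R)) z = 0 → ∃ s ∈ q.primeCompl, s • z = 0)
    (extra : Finset R) :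
    ∃ A : Subalgebra Λ R, A.FG ∧ (extra : Set R) ⊆ A ∧
      Module.Flat A (LocalizedModule
        (q.comap (algebraMap (MvPolynomial σ A) (MvPolynomial σ R))).primeCompl
        ((ι → MvPolynomial σ A) ⧸ KT w (MvPolynomial σ A))) := by
  classical
  set p : Ideal R := q.comap (algebraMap R (MvPolynomial σ R)) with hp
  set p₀ : Ideal Λ := p.comap (algebraMap Λ R) with hp₀
  let Y₀ : Submodule (MvPolynomial σ Λ) (ι → MvPolynomial σ Λ) :=
    KT w (MvPolynomial σ Λ) ⊓ Submodule.pi Set.univ (fun _ => p₀.map (C (σ := σ)))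
  obtain ⟨G, hG⟩ : Y₀.FG := IsNoetherian.noetherian Y₀
  have hGY : ∀ y ∈ G, y ∈ KT w (MvPolynomial σ Λ) ∧ ∀ i, y i ∈ p₀.map (C (σ := σ)) := by
    intro y hy
    have : y ∈ Y₀ := hG ▸ Submodule.subset_span hy
    exact ⟨this.1, fun i => this.2 i (Set.mem_univ i)⟩
  have hex : ∀ y, ∃ (s : MvPolynomial σ R) (e : κ → MvPolynomial σ R), y ∈ G →
      s ∈ q.primeCompl ∧ (∀ l, e l ∈ p.map (C (σ := σ))) ∧
      WT w (MvPolynomial σ R) e = s • Fmap (MvPolynomial σ Λ) (MvPolynomial σ R) ι y := by
    intro y
    by_cases hy : y ∈ G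
    · obtain ⟨s, hs, e, he, hew⟩ := exists_torsion_top' w q hT y (hGY y hy).1 (hGY y hy).2
      exact ⟨s, e, fun _ => ⟨hs, he, hew⟩⟩
    · exact ⟨0, 0, fun h => absurd h hy⟩
  choose s e hse using hex
  let cs : Finset R := extra ∪ G.biUnion fun y =>
    (s y).coeffs ∪ Finset.univ.biUnion fun l => (e y l).coeffs
  let A : Subalgebra Λ R := Algebra.adjoin Λ (cs : Set R)
  have hAfg : A.FG := Subalgebra.fg_adjoin_finset cs
  have hcsA : ∀ c ∈ cs, c ∈ A := fun c hc => Algebra.subset_adjoin hc
  have hlift : ∀ f : MvPolynomial σ R, f.coeffs ⊆ cs →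
      ∃ f' : MvPolynomial σ A, algebraMap (MvPolynomial σ A) (MvPolynomial σ R) f' = f := by
    intro f hf
    rw [MvPolynomial.algebraMap_def]
    apply MvPolynomial.mem_range_map_iff_coeffs_subset.mpr
    intro c hc
    exact ⟨⟨c, hcsA c (hf hc)⟩, rfl⟩
  refine ⟨A, hAfg, fun c hc => hcsA c (Finset.mem_union_left _ hc), ?_⟩
  haveI : Algebra.FiniteType Λ A := (Subalgebra.fg_iff_finiteType A).mp hAfg
  haveI : IsNoetherianRing A := Algebra.FiniteType.isNoetherianRing Λ A
  haveI := isScalarTower_mvPolynomial (σ := σ) Λ A R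
  set qA : Ideal (MvPolynomial σ A) :=
    q.comap (algebraMap (MvPolynomial σ A) (MvPolynomial σ R)) with hqA
  have hinj : Function.Injective (Fmap (MvPolynomial σ A) (MvPolynomial σ R) ι) := by
    intro a b hab
    ext i : 1
    have := congrFun hab i
    rw [Fmap_apply, Fmap_apply, MvPolynomial.algebraMap_def] at this
    exact MvPolynomial.map_injective _ Subtype.val_injective this
  have hpA : ∀ a : A, a ∈ qA.comap (algebraMap A (MvPolynomial σ A)) ↔ (a : R) ∈ p := by
    intro a
    rw [Ideal.mem_comap, hqA, Ideal.mem_comap, hp, Ideal.mem_comap, MvPolynomial.algebraMap_eq,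
      MvPolynomial.algebraMap_eq, MvPolynomial.algebraMap_def, MvPolynomial.map_C]
    rfl
  have hp₀A : (qA.comap (algebraMap A (MvPolynomial σ A))).comap (algebraMap Λ A) = p₀ := by
    ext x
    rw [Ideal.mem_comap, hpA, hp₀, Ideal.mem_comap]
    rfl
  refine flat_level w qA G ?_ ?_
  · intro y hyK hyp
    rw [hp₀A] at hyp
    rw [hG]
    exact ⟨hyK, fun i _ => hyp i⟩
  · intro y hy
    obtain ⟨hs, he, hew⟩ := hse y hy
    obtain ⟨s', hs'⟩ := hlift (s y) (fun c hc => Finset.mem_union_right _
      (Finset.mem_biUnion.mpr ⟨y, hy, Finset.mem_union_left _ hc⟩))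
    have hl : ∀ l, ∃ f' : MvPolynomial σ A,
        algebraMap (MvPolynomial σ A) (MvPolynomial σ R) f' = e y l := fun l =>
      hlift (e y l) (fun c hc => Finset.mem_union_right _
        (Finset.mem_biUnion.mpr ⟨y, hy, Finset.mem_union_right _
          (Finset.mem_biUnion.mpr ⟨l, Finset.mem_univ l, hc⟩)⟩))
    choose e' he' using hl
    refine ⟨s', ?_, ?_⟩
    · intro h
      apply hs
      rw [← hs']
      exact h
    · rw [mem_smul_KT_iff]
      refine ⟨e', ?_, ?_⟩
      · intro l
        rw [MvPolynomial.mem_map_C_iff]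
        intro m
        rw [hpA]
        have := he l
        rw [MvPolynomial.mem_map_C_iff] at this
        have h2 := this m
        rw [← he' l, MvPolynomial.algebraMap_def, MvPolynomial.coeff_map] at h2
        exact h2
      · apply hinj
        rw [← WT_Fmap, Fmap_smul', Fmap_Fmap, hs', ← hew]
        congr 1
        ext l : 1
        exact he' l


/-- the local criterion for presented modules over polynomial rings. -/
theorem flat_model_of_torsion [IsNoetherianRing Λ] (q : Ideal (MvPolynomial σ R)) [q.IsPrime]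
    (hT : ∀ z : ((ι → MvPolynomial σ R) ⧸ KT w (MvPolynomial σ R)) ⊗[R]
        ↥(q.comap (algebraMap R (MvPolynomial σ R))),
      (q.comap (algebraMap R (MvPolynomial σ R))).subtype.lTensor
        ((ι → MvPolynomial σ R) ⧸ KT w (MvPolynomial σ R)) z = 0 → ∃ s ∈ q.primeCompl, s • z = 0) :
    Module.Flat R (LocalizedModule q.primeCompl
      ((ι → MvPolynomial σ R) ⧸ KT w (MvPolynomial σ R))) := by
  obtain ⟨A, -, -, hA⟩ := exists_fg_subalgebra_flat_of_torsion w q hT ∅
  exact flat_of_flat_subalgebra w A q hA

end Top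

section General

/-- transport of the torsion condition along a linear equivalence. -/
theorem torsion_of_linearEquiv {R S M M' : Type*} [CommRing R] [CommRing S]
    [Algebra R S] [AddCommGroup M] [Module R M] [Module S M] [IsScalarTower R S M]
    [AddCommGroup M'] [Module R M'] [Module S M'] [IsScalarTower R S M'] (e : M ≃ₗ[S] M')
    (T : Submonoid S) (I : Ideal R)
    (h : ∀ z : M ⊗[R] I, I.subtype.lTensor M z = 0 → ∃ s ∈ T, s • z = 0) :
    ∀ z : M' ⊗[R] I, I.subtype.lTensor M' z = 0 → ∃ s ∈ T, s • z = 0 := by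
  intro z' hz'
  let eR : M ≃ₗ[R] M' := e.restrictScalars R
  obtain ⟨z, rfl⟩ : ∃ z, eR.toLinearMap.rTensor I z = z' :=
    ⟨eR.symm.toLinearMap.rTensor I z', by
      rw [← LinearMap.comp_apply, ← LinearMap.rTensor_comp]
      simp⟩
  have hz : I.subtype.lTensor M z = 0 := by
    have h1 : eR.toLinearMap.rTensor R (I.subtype.lTensor M z) = 0 := by
      rw [← LinearMap.comp_apply, LinearMap.rTensor_comp_lTensor, ← LinearMap.lTensor_comp_rTensor,
        LinearMap.comp_apply, hz']
    have hinj : Function.Injective (eR.toLinearMap.rTensor R) := by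
      have : eR.toLinearMap.rTensor R = (TensorProduct.congr eR (LinearEquiv.refl R R)).toLinearMap := by
        ext; simp
      rw [this]
      exact LinearEquiv.injective _
    exact hinj (by rw [h1, map_zero])
  obtain ⟨s, hs, hsz⟩ := h z hz
  refine ⟨s, hs, ?_⟩
  have comp : ∀ z : M ⊗[R] I, eR.toLinearMap.rTensor I (s • z) =
      s • eR.toLinearMap.rTensor I z := by
    intro z
    induction z with
    | zero => simp
    | add a b ha hb => simp only [smul_add, map_add, ha, hb]
    | tmul m i =>
      rw [smul_tmul', LinearMap.rTensor_tmul, LinearMap.rTensor_tmul, smul_tmul']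
      congr 1
      exact map_smul e s m
  rw [← comp, hsz, map_zero]

/-- the local criterion for finitely presented modules over polynomial rings. -/
theorem flat_localizedModule_mvPolynomial_of_torsion {R : Type u} [CommRing R] {n : ℕ} {M : Type u}
    [AddCommGroup M] [Module (MvPolynomial (Fin n) R) M] [Module R M]
    [IsScalarTower R (MvPolynomial (Fin n) R) M]
    [Module.FinitePresentation (MvPolynomial (Fin n) R) M]
    (q : Ideal (MvPolynomial (Fin n) R)) [q.IsPrime]
    (hT : ∀ z : M ⊗[R] ↥(q.comap (algebraMap R (MvPolynomial (Fin n) R))),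
      (q.comap (algebraMap R (MvPolynomial (Fin n) R))).subtype.lTensor M z = 0 →
        ∃ s ∈ q.primeCompl, s • z = 0) :
    Module.Flat R (LocalizedModule q.primeCompl M) := by
  classical
  obtain ⟨k, m, Λ, hΛ, w, ⟨e⟩⟩ := exists_model_equiv (R := R) (n := n) (M := M)
  haveI : Algebra.FiniteType ℤ Λ := (Subalgebra.fg_iff_finiteType Λ).mp hΛ
  haveI : IsNoetherianRing Λ := Algebra.FiniteType.isNoetherianRing ℤ Λ
  have h1 := flat_model_of_torsion (R := R) w q (torsion_of_linearEquiv e.symm _ _ hT)
  exact flat_localizedModule_of_linearEquiv e _ h1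

/-- **the local criterion of flatness**, finitely presented case: `Tor₁^R(M, R/p)_q = 0` with `p = q ∩ R` implies that
`M_q` is flat over `R`. -/
theorem flat_localizedModule_of_torsion_prime {R S M : Type u} [CommRing R] [CommRing S]
    [Algebra R S] [Algebra.FinitePresentation R S] [AddCommGroup M] [Module S M] [Module R M]
    [IsScalarTower R S M] [Module.FinitePresentation S M] (q : Ideal S) [q.IsPrime]
    (p : Ideal R) (hp : q.comap (algebraMap R S) = p)
    (hT : ∀ z : M ⊗[R] p, p.subtype.lTensor M z = 0 → ∃ s ∈ q.primeCompl, s • z = 0) :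
    Module.Flat R (LocalizedModule q.primeCompl M) := by
  obtain ⟨n, f, hf, hker⟩ := Algebra.FinitePresentation.out (R := R) (A := S)
  letI : Algebra (MvPolynomial (Fin n) R) S := f.toRingHom.toAlgebra
  haveI : IsScalarTower R (MvPolynomial (Fin n) R) S :=
    .of_algebraMap_eq' f.comp_algebraMap.symm
  letI : Module (MvPolynomial (Fin n) R) M := Module.compHom M f.toRingHom
  haveI : IsScalarTower (MvPolynomial (Fin n) R) S M :=
    ⟨fun p s m => by
      change (f p * s) • m = f p • (s • m)
      rw [mul_smul]⟩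
  haveI : IsScalarTower R (MvPolynomial (Fin n) R) M :=
    ⟨fun r p m => by
      change f (r • p) • m = r • (f p • m)
      rw [map_smul, smul_assoc]⟩
  haveI : Module.FinitePresentation (MvPolynomial (Fin n) R) S :=
    Module.finitePresentation_of_surjective (Algebra.linearMap (MvPolynomial (Fin n) R) S) hf
      hker
  haveI : Module.FinitePresentation (MvPolynomial (Fin n) R) M :=
    Module.FinitePresentation.trans (MvPolynomial (Fin n) R) M S
  rw [← flat_localizedModule_comap_iff (R := R) (P := MvPolynomial (Fin n) R) hf q]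
  have key : ∀ (I : Ideal R), I = p → ∀ z : M ⊗[R] I, I.subtype.lTensor M z = 0 →
      ∃ s ∈ (q.comap (algebraMap (MvPolynomial (Fin n) R) S)).primeCompl, s • z = 0 := by
    intro I hI
    subst hI
    intro z hz
    obtain ⟨s, hs, hsz⟩ := hT z hz
    obtain ⟨s', rfl⟩ := hf s
    refine ⟨s', hs, ?_⟩
    rw [← hsz]
    clear hsz hz
    induction z with
    | zero => simp
    | add a b ha hb => simp only [smul_add, ha, hb]
    | tmul m i => rw [smul_tmul', smul_tmul']; rfl
  refine flat_localizedModule_mvPolynomial_of_torsion _ (key _ ?_)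
  rw [← hp]
  ext r
  simp only [Ideal.mem_comap]
  rw [← IsScalarTower.algebraMap_apply]

end General

end Groth.Agent.R2.H22.NLC
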