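import Mathlib
import Groth.Agent.R2.H22NLC
import Groth.Agent.R2.H22LocFlat
import Groth.Agent.Lib.Helper3FlatLocB

/-!
# Slicing a flat module by a fibrewise regular element (helper22)

`A → B` of finite presentation, `M` a finitely presented `B`-module, `q` a prime of `B`, `M_q` flat over `A`, `K` a field
over `A` with kernel `q ∩ A`, `h : B` injective on `(M ⊗[A] K)_q`.  Then `h` is injective on `M_q` (`slice_injective`) and
`(M/hM)_q` is flat over `A` (`slice_flat`).  No Noetherian hypotheses (EGA IV 11.3.8, finitely presented form).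
-/

set_option autoImplicit false
set_option linter.style.haveILetI false
set_option linter.unusedSectionVars false
universe u

open TensorProduct
open Groth.Agent.Lib.Helper3.FlatLoc Groth.Agent.R2.H22.NLC Groth.Agent.R2.H22.LocMain
  Groth.Agent.R2.H22.LocDesc Groth.Agent.R2.H22.LocFlat

namespace Groth.Agent.R2.H22.Slice

section L1

variable {A B : Type u} [CommRing A] [CommRing B] [Algebra A B] [Algebra.FinitePresentation A B]
  {M : Type u} [AddCommGroup M] [Module B M] [Module A M] [IsScalarTower A B M]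
  {C : Type u} [AddCommGroup C] [Module B C] [Module A C] [IsScalarTower A B C]
  [Module.FinitePresentation B C]

theorem mulMap_mem_smul_top (I : Ideal A) (w : M ⊗[A] I) :
    mulMap M I w ∈ (I • ⊤ : Submodule A M) := by
  induction w with
  | zero => simp
  | add a b ha hb => rw [map_add]; exact add_mem ha hb
  | tmul m i =>
    rw [mulMap_tmul]
    exact Submodule.smul_mem_smul i.2 Submodule.mem_top

theorem exists_mulMap_eq_of_mem (I : Ideal A) {y : M} (hy : y ∈ (I • ⊤ : Submodule A M)) :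
    ∃ w : M ⊗[A] I, mulMap M I w = y := by
  refine Submodule.smul_induction_on hy ?_ ?_
  · intro r hr n _
    exact ⟨n ⊗ₜ (⟨r, hr⟩ : I), by simp [mulMap_tmul]⟩
  · rintro x y ⟨w₁, rfl⟩ ⟨w₂, rfl⟩
    exact ⟨w₁ + w₂, by simp⟩

/-- **flatness of the slice**: `M_q` flat over `A`, `h` injective on `(M/pM)_q` with `p = q ∩ A`; then `(M/hM)_q` is flat
over `A`. -/
theorem flat_localizedModule_quotient (q : Ideal B) [q.IsPrime] (h : B)
    (hflat : Module.Flat A (LocalizedModule q.primeCompl M))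
    (hHp : ∀ m : M, h • m ∈ ((q.comap (algebraMap A B)) • ⊤ : Submodule A M) →
      ∃ t : B, t ∉ q ∧ t • m ∈ ((q.comap (algebraMap A B)) • ⊤ : Submodule A M))
    (π : M →ₗ[B] C) (hπ : Function.Surjective π) (hker : ∀ m, π m = 0 → ∃ m', h • m' = m)
    (hh : ∀ c : C, h • c = 0) :
    Module.Flat A (LocalizedModule q.primeCompl C) := by
  set p : Ideal A := q.comap (algebraMap A B) with hp
  refine flat_localizedModule_of_torsion_prime q p rfl ?_
  intro z hz
  have hT := (flat_localizedModule_iff' q.primeCompl).mp hflat p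
  set πA : M →ₗ[A] C := π.restrictScalars A with hπA
  obtain ⟨z', rfl⟩ := LinearMap.rTensor_surjective (↥p) (g := πA) hπ z
  have h1 : π (mulMap M p z') = 0 := by
    have := mulMap_rTensor p πA z'
    rw [(mulMap_eq_zero_iff p _).mpr hz] at this
    exact this.symm
  obtain ⟨m', hm'⟩ := hker _ h1
  obtain ⟨t, ht, htm⟩ := hHp m' (by rw [hm']; exact mulMap_mem_smul_top p z')
  obtain ⟨w', hw'⟩ := exists_mulMap_eq_of_mem p htm
  have h2 : p.subtype.lTensor M (t • z' - h • w') = 0 := by
    rw [← mulMap_eq_zero_iff, map_sub, mulMap_smul, mulMap_smul, hw', ← hm', smul_comm, sub_self]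
  obtain ⟨s, hs, hsz⟩ := hT _ h2
  refine ⟨s * t, q.primeCompl.mul_mem hs ht, ?_⟩
  have hcomp : ∀ (b : B) (y : M ⊗[A] p), πA.rTensor p (b • y) = b • πA.rTensor p y := by
    intro b y
    induction y with
    | zero => simp
    | add a b ha hb => simp only [smul_add, map_add, ha, hb]
    | tmul m i =>
      rw [smul_tmul', LinearMap.rTensor_tmul, LinearMap.rTensor_tmul, smul_tmul']
      congr 1
      exact map_smul π b m
  have hzero : ∀ y : C ⊗[A] p, h • y = 0 := by
    intro y
    induction y with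
    | zero => simp
    | add a b ha hb => rw [smul_add, ha, hb, add_zero]
    | tmul c i => rw [smul_tmul', hh, zero_tmul]
  have h3 := congrArg (πA.rTensor p) hsz
  rw [map_zero, smul_sub, map_sub, hcomp, hcomp, hcomp, hcomp, hzero, smul_zero, sub_zero] at h3
  rw [mul_smul]
  exact h3

end L1

section L2

variable {A B : Type u} [CommRing A] [CommRing B] [Algebra A B]
  {M : Type u} [AddCommGroup M] [Module B M] [Module A M] [IsScalarTower A B M]

/-- `h` injective on `(M ⊗ K)_f` gives `h` injective on `(M/pM)` near `q`. -/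
theorem exists_smul_mem_of_regAt (q : Ideal B) [hq : q.IsPrime] (K : Type u) [Field K] [Algebra A K]
    (hK : RingHom.ker (algebraMap A K) = q.comap (algebraMap A B)) (f h : B) (hfq : f ∉ q)
    (hreg : RegAt (A := A) M K f h) (m : M)
    (hm : h • m ∈ ((q.comap (algebraMap A B)) • ⊤ : Submodule A M)) :
    ∃ t : B, t ∉ q ∧ t • m ∈ ((q.comap (algebraMap A B)) • ⊤ : Submodule A M) := by
  set 𝔭 : Ideal A := q.comap (algebraMap A B) with h𝔭
  haveI : 𝔭.IsPrime := Ideal.comap_isPrime _ _
  have hV : ∀ a ∈ 𝔭, ∀ v : A ⧸ 𝔭, a • v = 0 := by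
    intro a ha v
    rw [Algebra.smul_def, Ideal.Quotient.algebraMap_eq, Ideal.Quotient.eq_zero_iff_mem.mpr ha,
      zero_mul]
  have hy : ∀ _ : Unit, ∃ n : ℕ, f ^ n • AlgebraTensorModule.rTensor A (A ⧸ 𝔭)
      (LinearMap.lsmul B M h) (m ⊗ₜ[A] (1 : A ⧸ 𝔭)) = 0 := by
    intro _
    refine ⟨0, ?_⟩
    rw [pow_zero, one_smul, AlgebraTensorModule.rTensor_tmul, LinearMap.lsmul_apply]
    exact Groth.Agent.Lib.Helper3.FlatLoc.tmul_eq_zero_of_mem_smul_top 𝔭 hV hm 1
  obtain ⟨a, ha, n, han⟩ := exists_smul_pow_smul_eq_zero_at (N := fun _ : Unit => M)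
    (fun _ => LinearMap.lsmul B M h) 𝔭 K hK f (fibKSepAt_of_regAt K f h hreg) hV
    (m ⊗ₜ[A] (1 : A ⧸ 𝔭)) hy
  refine ⟨algebraMap A B a * f ^ n, ?_, ?_⟩
  · intro hmem
    rcases hq.mem_or_mem hmem with hmem | hmem
    · exact ha (Ideal.mem_comap.2 hmem)
    · exact hfq (hq.mem_of_pow_mem n hmem)
  · rw [TensorProduct.smul_tmul', TensorProduct.smul_tmul'] at han
    have h1 := congrArg (tensorQuotEquivQuotSMul M 𝔭) han
    rw [map_zero, ← map_one (Ideal.Quotient.mk 𝔭), tensorQuotEquivQuotSMul_tmul_mk, one_smul,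
      Submodule.Quotient.mk_eq_zero] at h1
    rw [mul_smul, algebraMap_smul]
    exact h1

/-- from an element killing the kernel of `h` on the fibre to `RegAt`. -/
theorem regAt_mul_of_kills (K : Type u) [AddCommGroup K] [Module A K] (f h : B)
    (hf : ∀ z : M ⊗[A] K, h • z = 0 → f • z = 0) (t : B) : RegAt (A := A) M K (f * t) h := by
  rintro z ⟨n, hn⟩
  refine ⟨n + 1, ?_⟩
  have h1 : h • ((f * t) ^ n • z) = 0 := by rw [smul_comm]; exact hn
  have h2 := hf _ h1
  have h3 : (f * t) ^ (n + 1) = t * (f * (f * t) ^ n) := by ring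
  rw [h3, mul_smul, mul_smul, h2, smul_zero]

end L2

section L4

variable {A B : Type u} [CommRing A] [CommRing B] [Algebra A B] [Algebra.FiniteType A B]
  {M : Type u} [AddCommGroup M] [Module B M] [Module A M] [IsScalarTower A B M]
  [Module.Finite B M]

/-- a single element outside `q` killing the kernel of `h` on the fibre. -/
theorem exists_kills_of_pointwise (q : Ideal B) [hq : q.IsPrime] (K : Type u) [Field K]
    [Algebra A K] (h : B)
    (HF : ∀ z : M ⊗[A] K, h • z = 0 → ∃ t : B, t ∉ q ∧ t • z = 0) :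
    ∃ f : B, f ∉ q ∧ ∀ z : M ⊗[A] K, h • z = 0 → f • z = 0 := by
  classical
  haveI : IsNoetherianRing (K ⊗[A] B) := Algebra.FiniteType.isNoetherianRing K (K ⊗[A] B)
  haveI : IsNoetherianRing (B ⊗[A] K) :=
    isNoetherianRing_of_ringEquiv (K ⊗[A] B) (Algebra.TensorProduct.comm A K B).toRingEquiv
  let e : M ⊗[B] (B ⊗[A] K) ≃ₗ[B] M ⊗[A] K :=
    TensorProduct.AlgebraTensorModule.cancelBaseChange A B B M K
  let c : (B ⊗[A] K) ⊗[B] M ≃ₗ[B] M ⊗[B] (B ⊗[A] K) := TensorProduct.comm B _ _
  let φ : (B ⊗[A] K) ⊗[B] M ≃ₗ[B] M ⊗[A] K := c ≪≫ₗ e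
  let ker' : Submodule (B ⊗[A] K) ((B ⊗[A] K) ⊗[B] M) :=
    LinearMap.ker (LinearMap.lsmul (B ⊗[A] K) ((B ⊗[A] K) ⊗[B] M) (algebraMap B (B ⊗[A] K) h))
  haveI : IsNoetherian (B ⊗[A] K) ((B ⊗[A] K) ⊗[B] M) := isNoetherian_of_isNoetherianRing_of_finite _ _
  obtain ⟨G, hG⟩ : ker'.FG := IsNoetherian.noetherian ker'
  have hmem : ∀ w : (B ⊗[A] K) ⊗[B] M, w ∈ ker' ↔ h • w = 0 := by
    intro w
    show algebraMap B (B ⊗[A] K) h • w = 0 ↔ _
    rw [algebraMap_smul]
  have hex : ∀ w : (B ⊗[A] K) ⊗[B] M, ∃ t : B, w ∈ G → (t ∉ q ∧ t • w = 0) := by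
    intro w
    by_cases hw : w ∈ G
    · have hwk : w ∈ ker' := hG ▸ Submodule.subset_span hw
      have h1 : h • φ w = 0 := by rw [← map_smul, (hmem w).mp hwk, map_zero]
      obtain ⟨t, ht, htw⟩ := HF _ h1
      refine ⟨t, fun _ => ⟨ht, ?_⟩⟩
      apply φ.injective
      rw [map_smul, htw, map_zero]
    · exact ⟨1, fun h' => absurd h' hw⟩
  choose t ht using hex
  refine ⟨∏ w ∈ G, t w, ?_, ?_⟩
  · intro hmem'
    obtain ⟨w, hw, hw'⟩ := (Ideal.IsPrime.prod_mem_iff).mp hmem'
    exact (ht w hw).1 hw'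
  · intro z hz
    have hz' : φ.symm z ∈ ker' := by
      rw [hmem, ← map_smul, hz, map_zero]
    have hkill : ∀ w ∈ ker', (∏ w ∈ G, t w) • w = 0 := by
      intro w hw
      rw [← hG] at hw
      induction hw using Submodule.span_induction with
      | mem w hw =>
        obtain ⟨c', hc'⟩ := Finset.dvd_prod_of_mem t hw
        rw [hc', mul_comm, mul_smul, (ht w hw).2, smul_zero]
      | zero => rw [smul_zero]
      | add x y _ _ hx hy => rw [smul_add, hx, hy, add_zero]
      | smul a x _ hx => rw [smul_comm, hx, smul_zero]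
    have := congrArg φ (hkill _ hz')
    rwa [map_smul, LinearEquiv.apply_symm_apply, map_zero] at this

end L4

section Core

variable {A B : Type u} [CommRing A] [CommRing B] [Algebra A B] [Algebra.FinitePresentation A B]
  {M : Type u} [AddCommGroup M] [Module B M] [Module A M] [IsScalarTower A B M]
  [Module.FinitePresentation B M]

/-- **slicing, injectivity**: `h` is injective on `M_q`. -/
theorem slice_injective (q : Ideal B) [hq : q.IsPrime] (K : Type u) [Field K] [Algebra A K]
    (hK : RingHom.ker (algebraMap A K) = q.comap (algebraMap A B)) (h : B)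
    (hflat : Module.Flat A (LocalizedModule q.primeCompl M))
    (HF : ∀ z : M ⊗[A] K, h • z = 0 → ∃ t : B, t ∉ q ∧ t • z = 0) (x : M)
    (hx : ∃ t : B, t ∉ q ∧ t • h • x = 0) : ∃ t' : B, t' ∉ q ∧ t' • x = 0 := by
  obtain ⟨f, hf, hkill⟩ := exists_kills_of_pointwise q K h HF
  obtain ⟨t, ht, htx⟩ := hx
  have hreg := regAt_mul_of_kills K f h hkill t
  exact exists_smul_eq_zero_of_regAt_local q hflat (f * t) h
    (fun hm => (hq.mem_or_mem hm).elim hf ht) K hK hreg x
    ⟨1, by rw [pow_one, mul_smul, htx, smul_zero]⟩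

/-- **slicing, flatness**: `(M/hM)_q` is flat over `A`. -/
theorem slice_flat (q : Ideal B) [hq : q.IsPrime] (K : Type u) [Field K] [Algebra A K]
    (hK : RingHom.ker (algebraMap A K) = q.comap (algebraMap A B)) (h : B)
    (hflat : Module.Flat A (LocalizedModule q.primeCompl M))
    (HF : ∀ z : M ⊗[A] K, h • z = 0 → ∃ t : B, t ∉ q ∧ t • z = 0)
    {C : Type u} [AddCommGroup C] [Module B C] [Module A C] [IsScalarTower A B C]
    [Module.FinitePresentation B C]
    (π : M →ₗ[B] C) (hπ : Function.Surjective π) (hker : ∀ m, π m = 0 → ∃ m', h • m' = m)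
    (hh : ∀ c : C, h • c = 0) :
    Module.Flat A (LocalizedModule q.primeCompl C) := by
  obtain ⟨f, hf, hkill⟩ := exists_kills_of_pointwise q K h HF
  have hreg := regAt_mul_of_kills K f h hkill 1
  have hf1 : f * 1 ∉ q := by rwa [mul_one]
  exact flat_localizedModule_quotient q h hflat
    (fun m hm => exists_smul_mem_of_regAt q K hK (f * 1) h hf1 hreg m hm) π hπ hker hh

end Core

end Groth.Agent.R2.H22.Slice
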