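import Mathlib
import Groth.Agent.R2.H22Slice
import Groth.Agent.R2.H22PairDesc

/-!
# Injectivity and flatness of the cokernel from the fibre (EGA IV 11.3.7), finitely presented case (helper22)

`A → B` of finite presentation, `u : M → N` a map of finitely presented `B`-modules, `q` a prime of `B`, `N_q` flat over `A`,
`K` a field over `A` with kernel `q ∩ A`, `u ⊗ K` injective at `q`.  Then `u` is injective at `q` (`ker_torsion_of_fibre`)
and `(Coker u)_q` is flat over `A` (`flat_localizedModule_coker_of_fibre`).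
-/

set_option autoImplicit false
set_option linter.style.haveILetI false
set_option linter.unusedSectionVars false
universe u

open TensorProduct
open Groth.Agent.Lib.Helper3.FlatLoc Groth.Agent.R2.H22.NLC Groth.Agent.R2.H22.LocMain
  Groth.Agent.R2.H22.LocDesc Groth.Agent.R2.H22.LocFlat Groth.Agent.R2.H22.Slice
  Groth.Agent.R2.H22.PairDesc

namespace Groth.Agent.R2.H22.Coker

section L1

variable {A B : Type u} [CommRing A] [CommRing B] [Algebra A B] [Algebra.FinitePresentation A B]
  {M : Type u} [AddCommGroup M] [Module B M] [Module A M] [IsScalarTower A B M]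
  {N : Type u} [AddCommGroup N] [Module B N] [Module A N] [IsScalarTower A B N]
  {C : Type u} [AddCommGroup C] [Module B C] [Module A C] [IsScalarTower A B C]
  [Module.FinitePresentation B C]

/-- **flatness of the cokernel**: `N_q` flat over `A`, `u` injective modulo `p = q ∩ A` near `q`; then `(Coker u)_q` is
flat over `A`. -/
theorem flat_localizedModule_coker (q : Ideal B) [q.IsPrime] (u : M →ₗ[B] N)
    (hflat : Module.Flat A (LocalizedModule q.primeCompl N))
    (hHp : ∀ m : M, u m ∈ ((q.comap (algebraMap A B)) • ⊤ : Submodule A N) →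
      ∃ t : B, t ∉ q ∧ t • m ∈ ((q.comap (algebraMap A B)) • ⊤ : Submodule A M))
    (π : N →ₗ[B] C) (hπ : Function.Surjective π) (hker : ∀ n, π n = 0 → ∃ m, u m = n)
    (hπu : ∀ m, π (u m) = 0) :
    Module.Flat A (LocalizedModule q.primeCompl C) := by
  set p : Ideal A := q.comap (algebraMap A B) with hp
  refine flat_localizedModule_of_torsion_prime q p rfl ?_
  intro z hz
  have hT := (flat_localizedModule_iff' q.primeCompl).mp hflat p
  set πA : N →ₗ[A] C := π.restrictScalars A with hπA
  set uA : M →ₗ[A] N := u.restrictScalars A with huA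
  obtain ⟨z', rfl⟩ := LinearMap.rTensor_surjective (↥p) (g := πA) hπ z
  have h1 : π (mulMap N p z') = 0 := by
    have := mulMap_rTensor p πA z'
    rw [(mulMap_eq_zero_iff p _).mpr hz] at this
    exact this.symm
  obtain ⟨m', hm'⟩ := hker _ h1
  obtain ⟨t, ht, htm⟩ := hHp m' (by rw [hm']; exact mulMap_mem_smul_top p z')
  obtain ⟨w', hw'⟩ := exists_mulMap_eq_of_mem p htm
  have h2 : p.subtype.lTensor N (t • z' - uA.rTensor p w') = 0 := by
    rw [← mulMap_eq_zero_iff, map_sub, mulMap_smul, mulMap_rTensor, hw', ← hm']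
    show t • u m' - u (t • m') = 0
    rw [map_smul, sub_self]
  obtain ⟨s, hs, hsz⟩ := hT _ h2
  refine ⟨s * t, q.primeCompl.mul_mem hs ht, ?_⟩
  have hcomp : ∀ (b : B) (y : N ⊗[A] p), πA.rTensor p (b • y) = b • πA.rTensor p y := by
    intro b y
    induction y with
    | zero => simp
    | add a b ha hb => simp only [smul_add, map_add, ha, hb]
    | tmul m i =>
      rw [smul_tmul', LinearMap.rTensor_tmul, LinearMap.rTensor_tmul, smul_tmul']
      congr 1
      exact map_smul π b m
  have hzero : ∀ y : M ⊗[A] p, πA.rTensor p (uA.rTensor p y) = 0 := by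
    intro y
    induction y with
    | zero => simp
    | add a b ha hb => rw [map_add, map_add, ha, hb, add_zero]
    | tmul c i =>
      rw [LinearMap.rTensor_tmul, LinearMap.rTensor_tmul]
      show π (u c) ⊗ₜ[A] i = 0
      rw [hπu, zero_tmul]
  have h3 := congrArg (πA.rTensor p) hsz
  rw [map_zero, hcomp, map_sub, hcomp, hzero, sub_zero] at h3
  rw [mul_smul]
  exact h3

end L1

section L2

variable {A B : Type u} [CommRing A] [CommRing B] [Algebra A B]
  {M : Type u} [AddCommGroup M] [Module B M] [Module A M] [IsScalarTower A B M]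
  {N : Type u} [AddCommGroup N] [Module B N] [Module A N] [IsScalarTower A B N]

/-- `u ⊗ K` injective on `(M ⊗ K)_f` gives `u` injective modulo `p` near `q`. -/
theorem exists_smul_mem_of_fibKSepAt (u : M →ₗ[B] N) (q : Ideal B) [hq : q.IsPrime] (K : Type u)
    [Field K] [Algebra A K]
    (hK : RingHom.ker (algebraMap A K) = q.comap (algebraMap A B)) (f : B) (hfq : f ∉ q)
    (hfib : FibKSepAt (A := A) (N := fun _ : Unit => N) (fun _ => u) K f) (m : M)
    (hm : u m ∈ ((q.comap (algebraMap A B)) • ⊤ : Submodule A N)) :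
    ∃ t : B, t ∉ q ∧ t • m ∈ ((q.comap (algebraMap A B)) • ⊤ : Submodule A M) := by
  set 𝔭 : Ideal A := q.comap (algebraMap A B) with h𝔭
  haveI : 𝔭.IsPrime := Ideal.comap_isPrime _ _
  have hV : ∀ a ∈ 𝔭, ∀ v : A ⧸ 𝔭, a • v = 0 := by
    intro a ha v
    rw [Algebra.smul_def, Ideal.Quotient.algebraMap_eq, Ideal.Quotient.eq_zero_iff_mem.mpr ha,
      zero_mul]
  have hy : ∀ _ : Unit, ∃ n : ℕ, f ^ n • AlgebraTensorModule.rTensor A (A ⧸ 𝔭) u
      (m ⊗ₜ[A] (1 : A ⧸ 𝔭)) = 0 := by
    intro _
    refine ⟨0, ?_⟩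
    rw [pow_zero, one_smul, AlgebraTensorModule.rTensor_tmul]
    exact Groth.Agent.Lib.Helper3.FlatLoc.tmul_eq_zero_of_mem_smul_top 𝔭 hV hm 1
  obtain ⟨a, ha, n, han⟩ := exists_smul_pow_smul_eq_zero_at (N := fun _ : Unit => N)
    (fun _ => u) 𝔭 K hK f hfib hV (m ⊗ₜ[A] (1 : A ⧸ 𝔭)) hy
  refine ⟨algebraMap A B a * f ^ n, ?_, ?_⟩
  · intro hmem
    rcases hq.mem_or_mem hmem with hmem | hmem
    · exact ha (Ideal.mem_comap.2 hmem)
    · exact hfq (hq.mem_of_pow_mem n hmem)
  · rw [TensorProduct.smul_tmul', TensorProduct.smul_tmul'] at han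
    have h1 := congrArg (tensorQuotEquivQuotSMul M 𝔭) han
    rw [map_zero, ← map_one (Ideal.Quotient.mk 𝔭), tensorQuotEquivQuotSMul_tmul_mk, one_smul,
      Submodule.Quotient.mk_eq_zero] at h1
    rw [mul_smul, algebraMap_smul]
    exact h1

/-- from an element killing the kernel of `u ⊗ K` to the fibrewise injectivity hypothesis. -/
theorem fibKSepAt_mul_of_kills (u : M →ₗ[B] N) (K : Type u) [Field K] [Algebra A K] (f : B)
    (hf : ∀ z : M ⊗[A] K, AlgebraTensorModule.rTensor A K u z = 0 → f • z = 0) (t : B) :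
    FibKSepAt (A := A) (N := fun _ : Unit => N) (fun _ => u) K (f * t) := by
  intro z hz
  obtain ⟨n, hn⟩ := hz ()
  refine ⟨n + 1, ?_⟩
  have h1 : AlgebraTensorModule.rTensor A K u ((f * t) ^ n • z) = 0 := by
    rw [map_smul]
    exact hn
  have h2 := hf _ h1
  have h3 : (f * t) ^ (n + 1) = t * (f * (f * t) ^ n) := by ring
  rw [h3, mul_smul, mul_smul, h2, smul_zero]

end L2

section L4

variable {A B : Type u} [CommRing A] [CommRing B] [Algebra A B] [Algebra.FiniteType A B]
  {M : Type u} [AddCommGroup M] [Module B M] [Module A M] [IsScalarTower A B M]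
  [Module.Finite B M]
  {N : Type u} [AddCommGroup N] [Module B N] [Module A N] [IsScalarTower A B N]

theorem phi_baseChange (K : Type u) [CommRing K] [Algebra A K] (u : M →ₗ[B] N)
    (w : (B ⊗[A] K) ⊗[B] M) :
    (TensorProduct.comm B _ _ ≪≫ₗ TensorProduct.AlgebraTensorModule.cancelBaseChange A B B N K)
        (u.baseChange (B ⊗[A] K) w) =
      AlgebraTensorModule.rTensor A K u
        ((TensorProduct.comm B _ _ ≪≫ₗ
          TensorProduct.AlgebraTensorModule.cancelBaseChange A B B M K) w) := by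
  induction w using TensorProduct.induction_on with
  | zero => simp
  | tmul t m =>
    induction t using TensorProduct.induction_on with
    | zero => simp
    | tmul b k =>
      simp only [LinearMap.baseChange_tmul, LinearEquiv.trans_apply, TensorProduct.comm_tmul,
        TensorProduct.AlgebraTensorModule.cancelBaseChange_tmul,
        AlgebraTensorModule.rTensor_tmul, map_smul]
    | add t₁ t₂ h₁ h₂ => simp only [add_tmul, map_add, h₁, h₂]
  | add w₁ w₂ h₁ h₂ => simp only [map_add, h₁, h₂]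

/-- a single element outside `q` killing the kernel of `u ⊗ K`. -/
theorem exists_kills_ker_of_pointwise (u : M →ₗ[B] N) (q : Ideal B) [hq : q.IsPrime] (K : Type u)
    [Field K] [Algebra A K]
    (HF : ∀ z : M ⊗[A] K, AlgebraTensorModule.rTensor A K u z = 0 →
      ∃ t : B, t ∉ q ∧ t • z = 0) :
    ∃ f : B, f ∉ q ∧ ∀ z : M ⊗[A] K, AlgebraTensorModule.rTensor A K u z = 0 → f • z = 0 := by
  classical
  haveI : IsNoetherianRing (K ⊗[A] B) := Algebra.FiniteType.isNoetherianRing K (K ⊗[A] B)
  haveI : IsNoetherianRing (B ⊗[A] K) :=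
    isNoetherianRing_of_ringEquiv (K ⊗[A] B) (Algebra.TensorProduct.comm A K B).toRingEquiv
  let φ : (B ⊗[A] K) ⊗[B] M ≃ₗ[B] M ⊗[A] K :=
    TensorProduct.comm B _ _ ≪≫ₗ TensorProduct.AlgebraTensorModule.cancelBaseChange A B B M K
  let φN : (B ⊗[A] K) ⊗[B] N ≃ₗ[B] N ⊗[A] K :=
    TensorProduct.comm B _ _ ≪≫ₗ TensorProduct.AlgebraTensorModule.cancelBaseChange A B B N K
  let ker' : Submodule (B ⊗[A] K) ((B ⊗[A] K) ⊗[B] M) := LinearMap.ker (u.baseChange (B ⊗[A] K))
  haveI : IsNoetherian (B ⊗[A] K) ((B ⊗[A] K) ⊗[B] M) :=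
    isNoetherian_of_isNoetherianRing_of_finite _ _
  obtain ⟨G, hG⟩ : ker'.FG := IsNoetherian.noetherian ker'
  have hmem : ∀ w : (B ⊗[A] K) ⊗[B] M, w ∈ ker' ↔ AlgebraTensorModule.rTensor A K u (φ w) = 0 := by
    intro w
    rw [← phi_baseChange K u w]
    show u.baseChange (B ⊗[A] K) w = 0 ↔ φN (u.baseChange (B ⊗[A] K) w) = 0
    constructor
    · intro h
      rw [h, map_zero]
    · intro h
      exact φN.injective (h.trans (map_zero _).symm)
  have hex : ∀ w : (B ⊗[A] K) ⊗[B] M, ∃ t : B, w ∈ G → (t ∉ q ∧ t • w = 0) := by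
    intro w
    by_cases hw : w ∈ G
    · have hwk : w ∈ ker' := hG ▸ Submodule.subset_span hw
      obtain ⟨t, ht, htw⟩ := HF _ ((hmem w).mp hwk)
      refine ⟨t, fun _ => ⟨ht, ?_⟩⟩
      apply φ.injective
      rw [map_smul, htw, map_zero]
    · exact ⟨1, fun h' => absurd h' hw⟩
  choose t ht using hex
  refine ⟨∏ w ∈ G, t w, ?_, ?_⟩
  · intro hmem'
    obtain ⟨w, hw, hw'⟩ := (Ideal.IsPrime.prod_mem_iff).mp hmem'
    exact (ht w hw).1 hw'
  · intro z hz
    have hz' : φ.symm z ∈ ker' := by
      rw [hmem, LinearEquiv.apply_symm_apply]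
      exact hz
    have hkill : ∀ w ∈ ker', (∏ w ∈ G, t w) • w = 0 := by
      intro w hw
      rw [← hG] at hw
      induction hw using Submodule.span_induction with
      | mem w hw =>
        obtain ⟨c', hc'⟩ := Finset.dvd_prod_of_mem t hw
        rw [hc', mul_comm, mul_smul, (ht w hw).2, smul_zero]
      | zero => rw [smul_zero]
      | add x y _ _ hx hy => rw [smul_add, hx, hy, add_zero]
      | smul a x _ hx => rw [smul_comm, hx, smul_zero]
    have := congrArg φ (hkill _ hz')
    rwa [map_smul, LinearEquiv.apply_symm_apply, map_zero] at this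

end L4

section Core

variable {A B : Type u} [CommRing A] [CommRing B] [Algebra A B] [Algebra.FinitePresentation A B]
  {M : Type u} [AddCommGroup M] [Module B M] [Module A M] [IsScalarTower A B M]
  [Module.FinitePresentation B M]
  {N : Type u} [AddCommGroup N] [Module B N] [Module A N] [IsScalarTower A B N]
  [Module.FinitePresentation B N]

/-- **EGA IV 11.3.7, injectivity**: the kernel of `u` vanishes at `q`. -/
theorem ker_torsion_of_fibre (u : M →ₗ[B] N) (q : Ideal B) [hq : q.IsPrime] (K : Type u) [Field K]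
    [Algebra A K] (hK : RingHom.ker (algebraMap A K) = q.comap (algebraMap A B))
    (hflat : Module.Flat A (LocalizedModule q.primeCompl N))
    (HF : ∀ z : M ⊗[A] K, AlgebraTensorModule.rTensor A K u z = 0 →
      ∃ t : B, t ∉ q ∧ t • z = 0)
    (x : M) (hx : ∃ t : B, t ∉ q ∧ t • u x = 0) : ∃ t' : B, t' ∉ q ∧ t' • x = 0 := by
  obtain ⟨f, hf, hkill⟩ := exists_kills_ker_of_pointwise u q K HF
  obtain ⟨t, ht, htx⟩ := hx
  have hfib := fibKSepAt_mul_of_kills u K f hkill t
  exact exists_smul_eq_zero_of_fibKSepAt_fp u q hflat (f * t)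
    (fun hm => (hq.mem_or_mem hm).elim hf ht) K hK hfib x
    ⟨1, by rw [pow_one, mul_smul, htx, smul_zero]⟩

/-- **EGA IV 11.3.7, flatness of the cokernel**. -/
theorem flat_localizedModule_coker_of_fibre (u : M →ₗ[B] N) (q : Ideal B) [hq : q.IsPrime]
    (K : Type u) [Field K] [Algebra A K]
    (hK : RingHom.ker (algebraMap A K) = q.comap (algebraMap A B))
    (hflat : Module.Flat A (LocalizedModule q.primeCompl N))
    (HF : ∀ z : M ⊗[A] K, AlgebraTensorModule.rTensor A K u z = 0 →
      ∃ t : B, t ∉ q ∧ t • z = 0)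
    {C : Type u} [AddCommGroup C] [Module B C] [Module A C] [IsScalarTower A B C]
    [Module.FinitePresentation B C]
    (π : N →ₗ[B] C) (hπ : Function.Surjective π) (hker : ∀ n, π n = 0 → ∃ m, u m = n)
    (hπu : ∀ m, π (u m) = 0) :
    Module.Flat A (LocalizedModule q.primeCompl C) := by
  obtain ⟨f, hf, hkill⟩ := exists_kills_ker_of_pointwise u q K HF
  have hfib := fibKSepAt_mul_of_kills u K f hkill 1
  have hf1 : f * 1 ∉ q := by rwa [mul_one]
  exact flat_localizedModule_coker q u hflat
    (fun m hm => exists_smul_mem_of_fibKSepAt u q K hK (f * 1) hf1 hfib m hm) π hπ hker hπu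

end Core

end Groth.Agent.R2.H22.Coker
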