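import Mathlib
import Groth.Prelude
import Groth.Agent.R2.H22Slice

/-!
# Essentially finitely presented local algebras: slicing by a fibrewise regular element (helper22)

* `exists_fp_model`: a finitely presented module over a localization `M₀⁻¹ S₀` is the localization of a finitely presented
  `S₀`-module.
* `lTensor_injective_of_flat_coker`: an injective map with flat cokernel is universally injective.
* `eq_zero_of_smul_eq_zero_of_mem_nzdFiber`: `R → S` local, essentially of finite presentation, `N` a finitely presented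
  `S`-module flat over `R`, `s : S` injective on `N/𝔪_R N`; then `s` is injective on `N ⊗[R] Q` for every `R`-module `Q`.
-/

set_option autoImplicit false
set_option linter.style.haveILetI false
set_option linter.unusedSectionVars false
universe u

open TensorProduct

namespace Groth.Agent.R2.H22.EssFP

section W2

variable {R : Type*} [CommRing R] {M M' : Type*} [AddCommGroup M] [AddCommGroup M'] [Module R M]
  [Module R M']

/-- enlarging the multiplicative set of a localization of modules. -/
theorem isLocalizedModule_of_le (S₁ S₂ : Submonoid R) (h : S₁ ≤ S₂) (f : M →ₗ[R] M')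
    [IsLocalizedModule S₁ f] (hunits : ∀ t : S₂, IsUnit (algebraMap R (Module.End R M') t)) :
    IsLocalizedModule S₂ f where
  map_units := hunits
  surj y := by
    obtain ⟨⟨x, s⟩, hx⟩ := IsLocalizedModule.surj S₁ f y
    exact ⟨⟨x, ⟨s.1, h s.2⟩⟩, hx⟩
  exists_of_eq {x₁ x₂} hx := by
    obtain ⟨c, hc⟩ := IsLocalizedModule.exists_of_eq (S := S₁) hx
    exact ⟨⟨c.1, h c.2⟩, hc⟩

end W2

section W1

/-- a finitely presented module over a localization is the localization of a finitely presented module. -/
theorem exists_fp_model {S₀ : Type u} (S : Type u) [CommRing S₀] [CommRing S] [Algebra S₀ S]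
    (M₀ : Submonoid S₀) [IsLocalization M₀ S]
    (N : Type u) [AddCommGroup N] [Module S N] [Module S₀ N] [IsScalarTower S₀ S N]
    [Module.FinitePresentation S N] :
    ∃ (N₀ : Type u) (_ : AddCommGroup N₀) (_ : Module S₀ N₀) (_ : Module.FinitePresentation S₀ N₀)
      (j : N₀ →ₗ[S₀] N), IsLocalizedModule M₀ j := by
  classical
  obtain ⟨n, K, e, hK⟩ := Module.FinitePresentation.exists_fin S N
  obtain ⟨G, hG⟩ := hK
  let φ : (Fin n → S₀) →ₗ[S₀] (Fin n → S) :=
    LinearMap.pi fun i => Algebra.linearMap S₀ S ∘ₗ LinearMap.proj i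
  haveI : IsLocalizedModule M₀ φ := IsLocalizedModule.pi M₀ (fun _ : Fin n => Algebra.linearMap S₀ S)
  have hex : ∀ v : Fin n → S, ∃ (w : Fin n → S₀) (d : M₀), d • v = φ w := fun v => by
    obtain ⟨⟨w, d⟩, h⟩ := IsLocalizedModule.surj M₀ φ v
    exact ⟨w, d, h⟩
  choose w d hwd using hex
  let K₀ : Submodule S₀ (Fin n → S₀) := Submodule.span S₀ (w '' (G : Set (Fin n → S)))
  have hK₀fg : K₀.FG := Submodule.fg_span ((Finset.finite_toSet G).image w)
  have hloc : K₀.localized' S M₀ φ = K := by
    rw [Submodule.localized'_span, ← hG]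
    apply le_antisymm
    · rw [Submodule.span_le]
      rintro _ ⟨_, ⟨v, hv, rfl⟩, rfl⟩
      rw [← hwd v]
      have : (d v • v : Fin n → S) = algebraMap S₀ S (d v) • v := by
        rw [Submonoid.smul_def, algebraMap_smul]
      rw [this]
      exact Submodule.smul_mem _ _ (Submodule.subset_span hv)
    · rw [Submodule.span_le]
      intro v hv
      have hu : IsUnit (algebraMap S₀ S (d v)) := IsLocalization.map_units S (d v)
      have h1 : algebraMap S₀ S (d v) • v ∈ Submodule.span S (φ '' (w '' (G : Set (Fin n → S)))) := by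
        have : (algebraMap S₀ S (d v) • v : Fin n → S) = φ (w v) := by
          rw [← hwd v, Submonoid.smul_def, algebraMap_smul]
        rw [this]
        exact Submodule.subset_span ⟨w v, ⟨v, hv, rfl⟩, rfl⟩
      have h2 := Submodule.smul_mem _ (↑hu.unit⁻¹ : S) h1
      rwa [smul_smul, IsUnit.val_inv_mul, one_smul] at h2
  let j₀ := Submodule.toLocalizedQuotient' S M₀ φ K₀
  let e₁ : ((Fin n → S) ⧸ K₀.localized' S M₀ φ) ≃ₗ[S₀] N :=
    ((Submodule.quotEquivOfEq _ _ hloc).trans e.symm).restrictScalars S₀
  refine ⟨(Fin n → S₀) ⧸ K₀, inferInstance, inferInstance, ?_, e₁.toLinearMap ∘ₗ j₀, ?_⟩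
  · refine Module.finitePresentation_of_surjective (Submodule.mkQ K₀) (Submodule.mkQ_surjective _) ?_
    rw [Submodule.ker_mkQ]
    exact hK₀fg
  · exact IsLocalizedModule.of_linearEquiv M₀ j₀ e₁

end W1

section W3

variable {R : Type u} [CommRing R] {N N' C : Type u} [AddCommGroup N] [AddCommGroup N']
  [AddCommGroup C] [Module R N] [Module R N'] [Module R C]

/-- an injective map with flat cokernel is universally injective. -/
theorem lTensor_injective_of_flat_coker (u : N →ₗ[R] N') (π : N' →ₗ[R] C)
    (hu : Function.Injective u) (hex : Function.Exact u π) (hπ : Function.Surjective π)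
    [Module.Flat R C] (Q : Type u) [AddCommGroup Q] [Module R Q] :
    Function.Injective (u.lTensor Q) := by
  rw [injective_iff_map_eq_zero]
  intro x hx
  obtain ⟨F, _, _, _, p, hp⟩ : ∃ (F : Type u) (_ : AddCommGroup F) (_ : Module R F)
      (_ : Module.Flat R F) (p : F →ₗ[R] Q), Function.Surjective p :=
    ⟨Q →₀ R, inferInstance, inferInstance, inferInstance, Finsupp.linearCombination R id,
      Finsupp.linearCombination_id_surjective R Q⟩
  obtain ⟨K, _, _, ι, hι, hιp⟩ : ∃ (K : Type u) (_ : AddCommGroup K) (_ : Module R K)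
      (ι : K →ₗ[R] F), Function.Injective ι ∧ Function.Exact ι p :=
    ⟨LinearMap.ker p, inferInstance, inferInstance, (LinearMap.ker p).subtype,
      Submodule.injective_subtype _, LinearMap.exact_subtype_ker_map p⟩
  obtain ⟨y, rfl⟩ := LinearMap.rTensor_surjective N hp x
  have h2 : p.rTensor N' (u.lTensor F y) = 0 := by
    rw [← LinearMap.comp_apply, LinearMap.rTensor_comp_lTensor, ← LinearMap.lTensor_comp_rTensor,
      LinearMap.comp_apply]
    exact hx
  obtain ⟨k, hk⟩ := (rTensor_exact N' hιp hp _).mp h2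
  have h3 : ι.rTensor C (π.lTensor K k) = 0 := by
    rw [← LinearMap.comp_apply, LinearMap.rTensor_comp_lTensor, ← LinearMap.lTensor_comp_rTensor,
      LinearMap.comp_apply, hk, ← LinearMap.comp_apply, ← LinearMap.lTensor_comp]
    have : π ∘ₗ u = 0 := by
      ext n
      exact hex.apply_apply_eq_zero n
    rw [this, LinearMap.lTensor_zero, LinearMap.zero_apply]
  have h3' : π.lTensor K k = 0 := by
    have hinj : Function.Injective (ι.rTensor C) :=
      Module.Flat.rTensor_preserves_injective_linearMap ι hι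
    exact hinj (h3.trans (map_zero _).symm)
  obtain ⟨k', hk'⟩ := (lTensor_exact K hex hπ k).mp h3'
  have h5 : u.lTensor F (ι.rTensor N k') = u.lTensor F y := by
    rw [← LinearMap.comp_apply, LinearMap.lTensor_comp_rTensor, ← LinearMap.rTensor_comp_lTensor,
      LinearMap.comp_apply, hk', hk]
  have hinj : Function.Injective (u.lTensor F) :=
    Module.Flat.lTensor_preserves_injective_linearMap u hu
  have h6 : y = ι.rTensor N k' := (hinj h5).symm
  rw [h6, ← LinearMap.comp_apply, ← LinearMap.rTensor_comp]
  have : p ∘ₗ ι = 0 := by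
    ext k
    exact hιp.apply_apply_eq_zero k
  rw [this, LinearMap.rTensor_zero, LinearMap.zero_apply]

end W3

section Fibre

attribute [local instance] Algebra.TensorProduct.rightAlgebra

variable {R : Type u} [CommRing R] (p : Ideal R) [p.IsPrime] (S : Type u) [CommRing S]
  [Algebra R S] (N : Type u) [AddCommGroup N] [Module S N] [Module R N] [IsScalarTower R S N]

/-- the fibre module, in the form `N ⊗[R] κ(p)`. -/
noncomputable def fiberEquiv :
    N ⊗[R] p.ResidueField ≃ₗ[S] (p.ResidueField ⊗[R] S) ⊗[S] N :=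
  (AlgebraTensorModule.cancelBaseChange R S S N p.ResidueField).symm ≪≫ₗ
    TensorProduct.comm S N (S ⊗[R] p.ResidueField) ≪≫ₗ
    TensorProduct.congr (Algebra.TensorProduct.commRight R S p.ResidueField).toLinearEquiv
      (LinearEquiv.refl S N)

theorem eq_zero_of_smul_eq_zero_of_mem_nzd (s : S)
    (hs : s ∈ nonZeroSMulDivisors S (FlatCA.fiberMod p S N)) (w : N ⊗[R] p.ResidueField)
    (hw : s • w = 0) : w = 0 := by
  have h1 : s • fiberEquiv p S N w = 0 := by rw [← map_smul, hw, map_zero]
  have h2 : fiberEquiv p S N w = 0 := (mem_nonZeroSMulDivisors_iff.mp hs) (fiberEquiv p S N w) h1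
  exact (fiberEquiv p S N).injective (h2.trans (map_zero _).symm)

end Fibre

section Main

open IsLocalRing Groth.Agent.R2.H22.Slice

/-- **slicing over an essentially finitely presented local algebra**: an element of `S` acting injectively on the closed
fibre `N/𝔪_R N` acts injectively on `N ⊗[R] Q` for every `R`-module `Q`. -/
theorem eq_zero_of_smul_eq_zero_of_mem_nzdFiber {R S : Type u} [CommRing R] [IsLocalRing R]
    [CommRing S] [IsLocalRing S] [Algebra R S] [IsLocalHom (algebraMap R S)]
    (hS : FlatCA.EssFinitePresentation R S)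
    (N : Type u) [AddCommGroup N] [Module S N] [Module R N] [IsScalarTower R S N]
    [Module.FinitePresentation S N] [Module.Flat R N] (s : S) (hs : s ∈ FlatCA.nzdFiber R S N)
    (Q : Type u) [AddCommGroup Q] [Module R Q] (z : N ⊗[R] Q) (hz : s • z = 0) : z = 0 := by
  classical
  obtain ⟨S₀, _, _, _, _, M₀, hfp, hloc⟩ := hS
  letI : Module S₀ N := Module.compHom N (algebraMap S₀ S)
  haveI : IsScalarTower S₀ S N := ⟨fun a b n => by
    change (a • b) • n = algebraMap S₀ S a • (b • n)
    rw [Algebra.smul_def, mul_smul]⟩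
  haveI : IsScalarTower R S₀ N := ⟨fun r a n => by
    change algebraMap S₀ S (r • a) • n = r • (algebraMap S₀ S a • n)
    rw [Algebra.smul_def, map_mul, ← IsScalarTower.algebraMap_apply, mul_smul, algebraMap_smul]⟩
  obtain ⟨N₀, _, _, hN₀fp, j, hj⟩ := exists_fp_model S M₀ N
  letI : Module R N₀ := Module.compHom N₀ (algebraMap R S₀)
  haveI : IsScalarTower R S₀ N₀ := ⟨fun r a n => by
    change (r • a) • n = algebraMap R S₀ r • (a • n)
    rw [Algebra.smul_def, mul_smul]⟩
  set q : Ideal S₀ := (maximalIdeal S).comap (algebraMap S₀ S) with hq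
  haveI : q.IsPrime := Ideal.comap_isPrime _ _
  have hunit : ∀ t : S₀, t ∉ q → IsUnit (algebraMap S₀ S t) := fun t ht => by
    rw [← IsLocalRing.notMem_maximalIdeal]
    exact ht
  have hM₀q : M₀ ≤ q.primeCompl := by
    intro m hm hmq
    exact (IsLocalRing.notMem_maximalIdeal.mpr (IsLocalization.map_units S ⟨m, hm⟩)) hmq
  have hunits : ∀ t : q.primeCompl, IsUnit (algebraMap S₀ (Module.End S₀ N) t) := by
    intro t
    obtain ⟨v, hv⟩ := hunit t.1 t.2
    rw [Module.End.isUnit_iff]
    constructor
    · intro x y hxy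
      simp only [Module.algebraMap_end_apply] at hxy
      have : (↑v⁻¹ : S) • ((t : S₀) • x) = (↑v⁻¹ : S) • ((t : S₀) • y) := by rw [hxy]
      rw [← algebraMap_smul S (t : S₀) x, ← algebraMap_smul S (t : S₀) y, ← hv, smul_smul,
        smul_smul, Units.inv_mul, one_smul, one_smul] at this
      exact this
    · intro y
      refine ⟨(↑v⁻¹ : S) • y, ?_⟩
      simp only [Module.algebraMap_end_apply]
      rw [← algebraMap_smul S (t : S₀), ← hv, smul_smul, Units.mul_inv, one_smul]
  haveI : IsLocalizedModule q.primeCompl j := isLocalizedModule_of_le M₀ q.primeCompl hM₀q j hunits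
  have hflat : Module.Flat R (LocalizedModule q.primeCompl N₀) :=
    Module.Flat.of_linearEquiv ((IsLocalizedModule.iso q.primeCompl j).restrictScalars R)
  have hK : RingHom.ker (algebraMap R (maximalIdeal R).ResidueField) =
      q.comap (algebraMap R S₀) := by
    rw [Ideal.ker_algebraMap_residueField, hq, Ideal.comap_comap, ← IsScalarTower.algebraMap_eq,
      IsLocalRing.maximalIdeal_comap]
  obtain ⟨⟨s₀, m⟩, hsm⟩ := IsLocalization.surj M₀ s
  have HF : ∀ z₀ : N₀ ⊗[R] (maximalIdeal R).ResidueField, s₀ • z₀ = 0 →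
      ∃ t : S₀, t ∉ q ∧ t • z₀ = 0 := by
    intro z₀ hz₀
    have h1 : s • ((algebraMap S₀ S m) •
        AlgebraTensorModule.rTensor R (maximalIdeal R).ResidueField j z₀) = 0 := by
      rw [smul_smul, hsm, algebraMap_smul, ← map_smul, hz₀, map_zero]
    have h2 := eq_zero_of_smul_eq_zero_of_mem_nzd (maximalIdeal R) S N s hs _ h1
    rw [algebraMap_smul, ← map_smul] at h2
    obtain ⟨c, hc⟩ := (IsLocalizedModule.eq_zero_iff q.primeCompl
      (AlgebraTensorModule.rTensor R (maximalIdeal R).ResidueField j)).mp h2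
    refine ⟨c * m, q.primeCompl.mul_mem c.2 (hM₀q m.2), ?_⟩
    rw [mul_smul]
    exact hc
  set P : Submodule S₀ N₀ := LinearMap.range (LinearMap.lsmul S₀ N₀ s₀) with hP
  haveI : Module.FinitePresentation S₀ (N₀ ⧸ P) := by
    refine Module.finitePresentation_of_surjective P.mkQ (Submodule.mkQ_surjective _) ?_
    rw [Submodule.ker_mkQ, hP, LinearMap.range_eq_map]
    exact Module.Finite.fg_top.map _
  have hflatC : Module.Flat R (LocalizedModule q.primeCompl (N₀ ⧸ P)) := by
    refine slice_flat q (maximalIdeal R).ResidueField hK s₀ hflat HF P.mkQ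
      (Submodule.mkQ_surjective _) ?_ ?_
    · intro n hn
      have : n ∈ P := (Submodule.Quotient.mk_eq_zero P).mp hn
      obtain ⟨n', hn'⟩ := this
      exact ⟨n', hn'⟩
    · intro c
      obtain ⟨n, rfl⟩ := Submodule.Quotient.mk_surjective _ c
      rw [← Submodule.Quotient.mk_smul, Submodule.Quotient.mk_eq_zero]
      exact ⟨n, rfl⟩
  have hinj : ∀ x : N, s₀ • x = 0 → x = 0 := by
    intro x hx
    obtain ⟨⟨n, t⟩, hnt⟩ := IsLocalizedModule.surj q.primeCompl j x
    simp only at hnt
    have h1 : j (s₀ • n) = 0 := by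
      rw [map_smul, ← hnt, Submonoid.smul_def, smul_comm, hx, smul_zero]
    obtain ⟨c, hc⟩ := (IsLocalizedModule.eq_zero_iff q.primeCompl j).mp h1
    obtain ⟨t', ht', ht'n⟩ := slice_injective q (maximalIdeal R).ResidueField hK s₀ hflat HF n
      ⟨c, c.2, hc⟩
    have h2 : j n = 0 := (IsLocalizedModule.eq_zero_iff q.primeCompl j).mpr ⟨⟨t', ht'⟩, ht'n⟩
    rw [h2] at hnt
    exact IsLocalizedModule.smul_injective j t (by
      show t • x = t • 0
      rw [hnt, smul_zero])
  let u : N →ₗ[R] N := (LinearMap.lsmul S₀ N s₀).restrictScalars R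
  let π₀ : N →ₗ[S₀] LocalizedModule q.primeCompl (N₀ ⧸ P) :=
    IsLocalizedModule.map q.primeCompl j (LocalizedModule.mkLinearMap q.primeCompl (N₀ ⧸ P)) P.mkQ
  have hmap : IsLocalizedModule.map q.primeCompl j j (LinearMap.lsmul S₀ N₀ s₀) =
      LinearMap.lsmul S₀ N s₀ := by
    apply IsLocalizedModule.linearMap_ext q.primeCompl j j
    rw [IsLocalizedModule.map_comp]
    ext n
    simp
  have hex : Function.Exact u (π₀.restrictScalars R) := by
    have := IsLocalizedModule.map_exact q.primeCompl j j
      (LocalizedModule.mkLinearMap q.primeCompl (N₀ ⧸ P)) (LinearMap.lsmul S₀ N₀ s₀) P.mkQ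
      (LinearMap.exact_map_mkQ_range _)
    rw [hmap] at this
    exact this
  have hπ : Function.Surjective (π₀.restrictScalars R) :=
    IsLocalizedModule.map_surjective q.primeCompl j _ P.mkQ (Submodule.mkQ_surjective _)
  have huinj : Function.Injective u := by
    rw [injective_iff_map_eq_zero]
    exact hinj
  haveI := hflatC
  have h3 := lTensor_injective_of_flat_coker u (π₀.restrictScalars R) huinj hex hπ Q
  rw [LinearMap.lTensor_inj_iff_rTensor_inj] at h3
  have h4 : ∀ w : N ⊗[R] Q, u.rTensor Q w = s₀ • w := by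
    intro w
    induction w using TensorProduct.induction_on with
    | zero => simp
    | tmul n q => rfl
    | add w₁ w₂ h₁ h₂ => rw [map_add, h₁, h₂, smul_add]
  apply h3
  rw [map_zero, h4, ← algebraMap_smul S s₀ z, ← hsm, mul_comm, mul_smul, hz, smul_zero]

end Main

end Groth.Agent.R2.H22.EssFP
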