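import Mathlib
import Groth.Prelude.Def_CAlgX

set_option autoImplicit false
set_option linter.style.haveILetI false

universe u

namespace Groth.Agent.R2.H22.EssStalk

open AlgebraicGeometry TensorProduct

/-- "essentially of finite presentation" as a property of ring homomorphisms. -/
def QEss {R S : Type u} [CommRing R] [CommRing S] (φ : R →+* S) : Prop :=
  @CAlgX.IsEssFinitePresentation R _ S _ φ.toAlgebra

theorem qEss_respectsIso : RingHom.RespectsIso @QEss := by
  constructor
  · intro R S T _ _ _ φ e h
    letI algRS : Algebra R S := φ.toAlgebra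
    obtain ⟨S₀, i1, i2, i3, i4, M, hfp, hloc⟩ := h
    letI algRT : Algebra R T := (e.toRingHom.comp φ).toAlgebra
    letI algS₀T : Algebra S₀ T := (e.toRingHom.comp (algebraMap S₀ S)).toAlgebra
    refine ⟨S₀, i1, i2, algS₀T, ?_, M, hfp, ?_⟩
    · refine IsScalarTower.of_algebraMap_eq' ?_
      ext r
      change e (φ r) = e (algebraMap S₀ S (algebraMap R S₀ r))
      rw [← IsScalarTower.algebraMap_apply R S₀ S]
      rfl
    · let e' : S ≃ₐ[S₀] T := AlgEquiv.ofRingEquiv (f := e) (fun x => rfl)
      exact IsLocalization.isLocalization_of_algEquiv M e'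
  · intro R S T _ _ _ φ e h
    letI algST : Algebra S T := φ.toAlgebra
    obtain ⟨S₀, i1, i2, i3, i4, M, hfp, hloc⟩ := h
    letI algRT : Algebra R T := (φ.comp e.toRingHom).toAlgebra
    letI algRS₀ : Algebra R S₀ := ((algebraMap S S₀).comp e.toRingHom).toAlgebra
    refine ⟨S₀, i1, algRS₀, i3, ?_, M, ?_, hloc⟩
    · refine IsScalarTower.of_algebraMap_eq' ?_
      ext r
      change φ (e r) = algebraMap S₀ T (algebraMap S S₀ (e r))
      rw [← IsScalarTower.algebraMap_apply S S₀ T]
      rfl
    · have h1 : (algebraMap S S₀).FinitePresentation :=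
        RingHom.finitePresentation_algebraMap.mpr hfp
      exact RingHom.finitePresentation_respectsIso.2 (algebraMap S S₀) e h1

attribute [local instance] Algebra.TensorProduct.rightAlgebra in
set_option maxHeartbeats 800000 in
theorem qEss_localRingHom {R S : Type u} [CommRing R] [CommRing S] (φ : R →+* S)
    (hφ : φ.FinitePresentation) (J : Ideal S) (hJ : J.IsPrime) :
    QEss (Localization.localRingHom (J.comap φ) J φ rfl) := by
  letI algRS : Algebra R S := φ.toAlgebra
  haveI : Algebra.FinitePresentation R S := hφ
  set p : Ideal R := J.comap φ with hp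
  letI algpJ : Algebra (Localization.AtPrime p) (Localization.AtPrime J) :=
    (Localization.localRingHom p J φ rfl).toAlgebra
  haveI : IsScalarTower R (Localization.AtPrime p) (Localization.AtPrime J) := by
    refine IsScalarTower.of_algebraMap_eq' ?_
    ext r
    change algebraMap R (Localization.AtPrime J) r =
      Localization.localRingHom p J φ rfl (algebraMap R (Localization.AtPrime p) r)
    rw [Localization.localRingHom_to_map, IsScalarTower.algebraMap_apply R S (Localization.AtPrime J)]
    rfl
  let ψ : (Localization.AtPrime p) ⊗[R] S →ₐ[Localization.AtPrime p] Localization.AtPrime J :=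
    Algebra.TensorProduct.lift (Algebra.ofId _ _) (IsScalarTower.toAlgHom R S (Localization.AtPrime J))
      (fun _ _ => Commute.all _ _)
  letI algT : Algebra ((Localization.AtPrime p) ⊗[R] S) (Localization.AtPrime J) :=
    ψ.toRingHom.toAlgebra
  haveI : IsScalarTower (Localization.AtPrime p) ((Localization.AtPrime p) ⊗[R] S)
      (Localization.AtPrime J) := IsScalarTower.of_algebraMap_eq' ψ.comp_algebraMap.symm
  haveI : IsScalarTower S ((Localization.AtPrime p) ⊗[R] S) (Localization.AtPrime J) := by
    refine IsScalarTower.of_algebraMap_eq' ?_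
    ext s
    change algebraMap S (Localization.AtPrime J) s = ψ ((1 : Localization.AtPrime p) ⊗ₜ[R] s)
    simp [ψ]
  have hle : Algebra.algebraMapSubmonoid S p.primeCompl ≤ J.primeCompl := by
    rintro _ ⟨r, hr, rfl⟩
    exact hr
  haveI : IsLocalization (Algebra.algebraMapSubmonoid S p.primeCompl)
      ((Localization.AtPrime p) ⊗[R] S) := IsLocalization.tensorRight _ p.primeCompl
  have hloc := IsLocalization.isLocalization_of_submonoid_le ((Localization.AtPrime p) ⊗[R] S)
    (Localization.AtPrime J) (Algebra.algebraMapSubmonoid S p.primeCompl) J.primeCompl hle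
  exact ⟨(Localization.AtPrime p) ⊗[R] S, inferInstance, inferInstance, algT, inferInstance,
    J.primeCompl.map (algebraMap S ((Localization.AtPrime p) ⊗[R] S)), inferInstance, hloc⟩

/-- The stalk maps of a morphism locally of finite presentation are essentially of finite presentation. -/
theorem essFP_stalkMap {X Y : Scheme.{u}} (f : X ⟶ Y) [hf : LocallyOfFinitePresentation f] (x : X) :
    QEss (f.stalkMap x).hom :=
  HasRingHomProperty.stalkMap_of_respectsIso (P := @LocallyOfFinitePresentation) qEss_respectsIso
    (fun φ hφ J hJ => qEss_localRingHom φ hφ J hJ) hf x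

end Groth.Agent.R2.H22.EssStalk
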