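import Mathlib
import Groth.Prelude.Def_CAlgX
import Groth.Agent.R2.H22NLC
import Groth.Agent.R2.H22EssFP

set_option autoImplicit false
set_option linter.style.haveILetI false

universe u

namespace Groth.Agent.R2.H22.FibCrit

open TensorProduct

section Tor

/-- `Tor₁^S(M, S/𝔪S) = 0` when `M` is flat over `R`. -/
theorem lTensor_map_injective {R S M : Type*} [CommRing R] [CommRing S] [Algebra R S]
    [AddCommGroup M] [Module R M] [Module S M] [IsScalarTower R S M] [Module.Flat R M]
    (𝔪 : Ideal R) :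
    Function.Injective ((𝔪.map (algebraMap R S)).subtype.lTensor M) := by
  set I : Ideal S := 𝔪.map (algebraMap R S) with hI
  let f : 𝔪 →ₗ[R] I :=
    { toFun := fun a => ⟨algebraMap R S a.1, Ideal.mem_map_of_mem _ a.2⟩
      map_add' := fun a b => by
        apply Subtype.ext
        simp
      map_smul' := fun r a => by
        apply Subtype.ext
        simp [Algebra.smul_def] }
  let μ : S ⊗[R] 𝔪 →ₗ[S] I := LinearMap.liftBaseChange S f
  have hμ : Function.Surjective μ := by
    rintro ⟨x, hx⟩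
    have : ∀ x ∈ I, ∀ hx : x ∈ I, (⟨x, hx⟩ : I) ∈ LinearMap.range μ := by
      intro x hx'
      refine Submodule.span_induction ?_ ?_ ?_ ?_ hx'
      · rintro _ ⟨a, ha, rfl⟩ hx
        exact ⟨(1 : S) ⊗ₜ[R] (⟨a, ha⟩ : 𝔪), by
          apply Subtype.ext
          simp [μ, f]⟩
      · intro hx
        exact ⟨0, by simp; rfl⟩
      · intro x y hx hy h₁ h₂ hxy
        obtain ⟨a, ha⟩ := h₁ hx
        obtain ⟨b, hb⟩ := h₂ hy
        exact ⟨a + b, by rw [map_add, ha, hb]; rfl⟩
      · intro c x hx h₁ hcx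
        obtain ⟨a, ha⟩ := h₁ hx
        exact ⟨c • a, by rw [map_smul, ha]; rfl⟩
    exact this x hx hx
  let e : M ⊗[S] (S ⊗[R] 𝔪) ≃ₗ[S] M ⊗[R] 𝔪 := AlgebraTensorModule.cancelBaseChange R S S M 𝔪
  have hflat : Function.Injective (𝔪.subtype.lTensor M) :=
    Module.Flat.lTensor_preserves_injective_linearMap _ Subtype.val_injective
  have key : ∀ w' : M ⊗[S] (S ⊗[R] 𝔪),
      TensorProduct.rid S M (I.subtype.lTensor M (μ.lTensor M w')) =
        TensorProduct.rid R M (𝔪.subtype.lTensor M (e w')) := by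
    intro w'
    induction w' with
    | zero => simp
    | add a b ha hb => simp only [map_add, ha, hb]
    | tmul m x =>
      induction x with
      | zero => simp
      | add a b ha hb => simp only [tmul_add, map_add, ha, hb]
      | tmul s a =>
        simp only [LinearMap.lTensor_tmul, TensorProduct.rid_tmul, e,
          AlgebraTensorModule.cancelBaseChange_tmul, μ, LinearMap.liftBaseChange_tmul,
          Submodule.subtype_apply, f]
        change (s * algebraMap R S a.1) • m = (a : R) • s • m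
        rw [mul_comm, mul_smul, algebraMap_smul]
  rw [injective_iff_map_eq_zero]
  intro w hw
  obtain ⟨w', rfl⟩ := LinearMap.lTensor_surjective M hμ w
  have h1 := key w'
  rw [hw, map_zero] at h1
  have h0 : e w' = 0 := by
    apply hflat
    rw [map_zero]
    apply (TensorProduct.rid R M).injective
    rw [← h1, map_zero]
  rw [LinearEquiv.map_eq_zero_iff] at h0
  rw [h0, map_zero]

/-- If `M/IM` is flat over `S/I`, then `- ⊗_S M` preserves injections of `S/I`-modules. -/
theorem rTensor_injective_of_flat_quotient {S M : Type*} [CommRing S] [AddCommGroup M]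
    [Module S M] (I : Ideal S) [Module.Flat (S ⧸ I) (M ⧸ (I • ⊤ : Submodule S M))]
    {X Y : Type*} [AddCommGroup X] [AddCommGroup Y] [Module (S ⧸ I) X] [Module (S ⧸ I) Y]
    [Module S X] [Module S Y] [IsScalarTower S (S ⧸ I) X] [IsScalarTower S (S ⧸ I) Y]
    (j : X →ₗ[S ⧸ I] Y) (hj : Function.Injective j) :
    Function.Injective ((j.restrictScalars S).rTensor M) := by
  let eM : ((S ⧸ I) ⊗[S] M) ≃ₗ[S ⧸ I] M ⧸ (I • ⊤ : Submodule S M) :=
    (quotTensorEquivQuotSMul M I).extendScalarsOfSurjective Ideal.Quotient.mk_surjective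
  haveI : Module.Flat (S ⧸ I) ((S ⧸ I) ⊗[S] M) := Module.Flat.of_linearEquiv eM
  let eX : X ⊗[S ⧸ I] ((S ⧸ I) ⊗[S] M) ≃ₗ[S ⧸ I] X ⊗[S] M :=
    AlgebraTensorModule.cancelBaseChange S (S ⧸ I) (S ⧸ I) X M
  let eY : Y ⊗[S ⧸ I] ((S ⧸ I) ⊗[S] M) ≃ₗ[S ⧸ I] Y ⊗[S] M :=
    AlgebraTensorModule.cancelBaseChange S (S ⧸ I) (S ⧸ I) Y M
  have hinj : Function.Injective (j.rTensor ((S ⧸ I) ⊗[S] M)) :=
    Module.Flat.rTensor_preserves_injective_linearMap j hj
  have hnat : ∀ w, eY (j.rTensor ((S ⧸ I) ⊗[S] M) w) = (j.restrictScalars S).rTensor M (eX w) := by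
    intro w
    induction w with
    | zero => simp
    | add a b ha hb => simp only [map_add, ha, hb]
    | tmul x y =>
      induction y with
      | zero => simp
      | add a b ha hb => simp only [tmul_add, map_add, ha, hb]
      | tmul a m =>
        simp only [LinearMap.rTensor_tmul, eX, eY, AlgebraTensorModule.cancelBaseChange_tmul,
          LinearMap.coe_restrictScalars, map_smul]
  rw [injective_iff_map_eq_zero]
  intro z hz
  obtain ⟨w, rfl⟩ := eX.surjective z
  rw [← hnat, LinearEquiv.map_eq_zero_iff] at hz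
  have : w = 0 := hinj (by rw [hz, map_zero])
  rw [this, map_zero]

theorem lTensor_injective_of_flat_quotient {S M : Type*} [CommRing S] [AddCommGroup M]
    [Module S M] (I : Ideal S) [Module.Flat (S ⧸ I) (M ⧸ (I • ⊤ : Submodule S M))]
    {X Y : Type*} [AddCommGroup X] [AddCommGroup Y] [Module (S ⧸ I) X] [Module (S ⧸ I) Y]
    [Module S X] [Module S Y] [IsScalarTower S (S ⧸ I) X] [IsScalarTower S (S ⧸ I) Y]
    (j : X →ₗ[S ⧸ I] Y) (hj : Function.Injective j) :
    Function.Injective ((j.restrictScalars S).lTensor M) := by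
  have h := rTensor_injective_of_flat_quotient (M := M) I j hj
  have hc : (j.restrictScalars S).lTensor M =
      (TensorProduct.comm S Y M).toLinearMap ∘ₗ (j.restrictScalars S).rTensor M ∘ₗ
        (TensorProduct.comm S M X).toLinearMap := by
    apply TensorProduct.ext'
    intro m x
    simp
  rw [hc]
  exact (TensorProduct.comm S Y M).injective.comp (h.comp (TensorProduct.comm S M X).injective)

/-- `Tor₁^S(M, S/𝔞) = 0` for `𝔞 ⊇ 𝔪S` when `M` is `R`-flat and `M/𝔪M` is flat over `S/𝔪S`. -/
theorem lTensor_injective_of_le {R S M : Type*} [CommRing R] [CommRing S] [Algebra R S]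
    [AddCommGroup M] [Module R M] [Module S M] [IsScalarTower R S M] [Module.Flat R M]
    (𝔪 : Ideal R)
    (hfib : Module.Flat (S ⧸ 𝔪.map (algebraMap R S))
      (M ⧸ (𝔪.map (algebraMap R S) • ⊤ : Submodule S M)))
    (𝔞 : Ideal S) (h𝔞 : 𝔪.map (algebraMap R S) ≤ 𝔞) :
    Function.Injective (𝔞.subtype.lTensor M) := by
  set I : Ideal S := 𝔪.map (algebraMap R S) with hI
  have hI1 : Function.Injective (I.subtype.lTensor M) := lTensor_map_injective 𝔪
  let X : Ideal (S ⧸ I) := 𝔞.map (Ideal.Quotient.mk I)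
  let ι : I →ₗ[S] 𝔞 := Submodule.inclusion h𝔞
  let π : 𝔞 →ₗ[S] X :=
    { toFun := fun a => ⟨Ideal.Quotient.mk I a.1, Ideal.mem_map_of_mem _ a.2⟩
      map_add' := fun a b => by
        apply Subtype.ext
        simp
      map_smul' := fun s a => by
        apply Subtype.ext
        simp [Algebra.smul_def] }
  have hπ : Function.Surjective π := by
    rintro ⟨y, hy⟩
    obtain ⟨a, ha, rfl⟩ := (Ideal.mem_map_iff_of_surjective _ Ideal.Quotient.mk_surjective).mp hy
    exact ⟨⟨a, ha⟩, rfl⟩
  have hex : Function.Exact ι π := by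
    intro a
    constructor
    · intro ha
      have h1 : Ideal.Quotient.mk I a.1 = 0 := congrArg Subtype.val ha
      rw [Ideal.Quotient.eq_zero_iff_mem] at h1
      exact ⟨⟨a.1, h1⟩, Subtype.ext rfl⟩
    · rintro ⟨i, rfl⟩
      apply Subtype.ext
      exact Ideal.Quotient.eq_zero_iff_mem.mpr i.2
  let j : X →ₗ[S ⧸ I] S ⧸ I := Submodule.subtype X
  have hQF : Function.Injective ((j.restrictScalars S).lTensor M) :=
    lTensor_injective_of_flat_quotient (M := M) I j Subtype.val_injective
  let mkS : S →ₗ[S] S ⧸ I := (Ideal.Quotient.mkₐ S I).toLinearMap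
  have hcomp : (j.restrictScalars S) ∘ₗ π = mkS ∘ₗ 𝔞.subtype := LinearMap.ext fun a => rfl
  have hcomp2 : 𝔞.subtype ∘ₗ ι = I.subtype := LinearMap.ext fun a => rfl
  rw [injective_iff_map_eq_zero]
  intro z hz
  have h1 : (j.restrictScalars S).lTensor M (π.lTensor M z) = 0 := by
    rw [← LinearMap.comp_apply, ← LinearMap.lTensor_comp, hcomp, LinearMap.lTensor_comp,
      LinearMap.comp_apply, hz, map_zero]
  have h2 : π.lTensor M z = 0 := hQF (by rw [h1, map_zero])
  obtain ⟨w, rfl⟩ := (lTensor_exact M hex hπ z).mp h2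
  have h3 : I.subtype.lTensor M w = 0 := by
    rw [← hz, ← LinearMap.comp_apply, ← LinearMap.lTensor_comp, hcomp2]
  have hw : w = 0 := hI1 (by rw [h3, map_zero])
  rw [hw, map_zero]

end Tor

section LocalNLC

open IsLocalRing Groth.Agent.R2.H22.EssFP Groth.Agent.R2.H22.NLC

theorem isUnit_algebraMap_end' {S₀ S N : Type*} [CommRing S₀] [CommRing S] [Algebra S₀ S]
    [AddCommGroup N] [Module S N] [Module S₀ N] [IsScalarTower S₀ S N] (t : S₀)
    (ht : IsUnit (algebraMap S₀ S t)) : IsUnit (algebraMap S₀ (Module.End S₀ N) t) := by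
  obtain ⟨v, hv⟩ := ht
  rw [Module.End.isUnit_iff]
  constructor
  · intro x y hxy
    simp only [Module.algebraMap_end_apply] at hxy
    have : (↑v⁻¹ : S) • (t • x) = (↑v⁻¹ : S) • (t • y) := by rw [hxy]
    rw [← algebraMap_smul S t x, ← algebraMap_smul S t y, ← hv, smul_smul,
      smul_smul, Units.inv_mul, one_smul, one_smul] at this
    exact this
  · intro y
    refine ⟨(↑v⁻¹ : S) • y, ?_⟩
    simp only [Module.algebraMap_end_apply]
    rw [← algebraMap_smul S t, ← hv, smul_smul, Units.mul_inv, one_smul]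

set_option maxHeartbeats 800000 in
/-- **local criterion of flatness** over an arbitrary base `A`, for a finitely presented module over a local,
essentially finitely presented `A`-algebra: `Tor₁^A(M, A/𝔭) = 0` (with `𝔭` the contraction of the maximal ideal)
implies `M` flat over `A`. -/
theorem flat_of_essFP_local {A S' M : Type u} [CommRing A] [CommRing S'] [IsLocalRing S']
    [Algebra A S'] (hS' : CAlgX.IsEssFinitePresentation A S')
    [AddCommGroup M] [Module S' M] [Module A M] [IsScalarTower A S' M]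
    [Module.FinitePresentation S' M] (𝔭 : Ideal A)
    (h𝔭 : (maximalIdeal S').comap (algebraMap A S') = 𝔭)
    (hT : Function.Injective (𝔭.subtype.lTensor M)) :
    Module.Flat A M := by
  classical
  obtain ⟨C, _, _, _, _, T, hfp, hloc⟩ := hS'
  letI : Module C M := Module.compHom M (algebraMap C S')
  haveI : IsScalarTower C S' M := ⟨fun a b n => by
    change (a • b) • n = algebraMap C S' a • (b • n)
    rw [Algebra.smul_def, mul_smul]⟩
  haveI : IsScalarTower A C M := ⟨fun r a n => by
    change algebraMap C S' (r • a) • n = r • (algebraMap C S' a • n)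
    rw [Algebra.smul_def, map_mul, ← IsScalarTower.algebraMap_apply, mul_smul, algebraMap_smul]⟩
  obtain ⟨M₀, _, _, hM₀fp, jM, hjM⟩ := exists_fp_model S' T M
  letI : Module A M₀ := Module.compHom M₀ (algebraMap A C)
  haveI : IsScalarTower A C M₀ := ⟨fun r a n => by
    change (r • a) • n = algebraMap A C r • (a • n)
    rw [Algebra.smul_def, mul_smul]⟩
  set q : Ideal C := (maximalIdeal S').comap (algebraMap C S') with hq
  haveI : q.IsPrime := Ideal.comap_isPrime _ _
  have hunit : ∀ t : C, t ∉ q → IsUnit (algebraMap C S' t) := fun t ht => by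
    rw [← IsLocalRing.notMem_maximalIdeal]
    exact ht
  have hTq : T ≤ q.primeCompl := by
    intro m hm hmq
    exact (IsLocalRing.notMem_maximalIdeal.mpr (IsLocalization.map_units S' ⟨m, hm⟩)) hmq
  haveI : IsLocalizedModule q.primeCompl jM := isLocalizedModule_of_le T q.primeCompl hTq jM
    (fun t => isUnit_algebraMap_end' (S := S') t.1 (hunit t.1 t.2))
  have hp : q.comap (algebraMap A C) = 𝔭 := by
    rw [← h𝔭, hq, Ideal.comap_comap, ← IsScalarTower.algebraMap_eq]
  have hflat : Module.Flat A (LocalizedModule q.primeCompl M₀) := by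
    refine flat_localizedModule_of_torsion_prime q 𝔭 hp ?_
    intro z hz
    have h1 : 𝔭.subtype.lTensor M ((jM.restrictScalars A).rTensor 𝔭 z) = 0 := by
      rw [← LinearMap.comp_apply, LinearMap.lTensor_comp_rTensor, ← LinearMap.rTensor_comp_lTensor,
        LinearMap.comp_apply, hz, map_zero]
    have h2 : (jM.restrictScalars A).rTensor 𝔭 z = 0 := hT (by rw [h1, map_zero])
    have h3 : AlgebraTensorModule.rTensor A 𝔭 jM z = 0 := h2
    obtain ⟨c, hc⟩ := (IsLocalizedModule.eq_zero_iff q.primeCompl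
      (AlgebraTensorModule.rTensor A 𝔭 jM)).mp h3
    exact ⟨c.1, c.2, hc⟩
  exact Module.Flat.of_linearEquiv
    ((IsLocalizedModule.iso q.primeCompl jM).restrictScalars A).symm

end LocalNLC

section Tower

theorem ringHom_ext_tensor {R A B L : Type*} [CommRing R] [CommRing A] [CommRing B] [Algebra R A]
    [Algebra R B] [CommRing L] (f g : A ⊗[R] B →+* L)
    (h₁ : ∀ a, f (a ⊗ₜ 1) = g (a ⊗ₜ 1)) (h₂ : ∀ b, f (1 ⊗ₜ b) = g (1 ⊗ₜ b)) : f = g := by
  refine RingHom.ext fun x => ?_
  induction x with
  | zero => simp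
  | add x y hx hy => rw [map_add, map_add, hx, hy]
  | tmul a b =>
    have : a ⊗ₜ[R] b = (a ⊗ₜ 1) * (1 ⊗ₜ b) := by
      rw [Algebra.TensorProduct.tmul_mul_tmul, mul_one, one_mul]
    rw [this, map_mul, map_mul, h₁, h₂]

theorem ringHom_eq_of_adjoin {R A L : Type*} [CommRing R] [CommRing A] [Algebra R A] [CommRing L]
    (s : Set A) (hs : Algebra.adjoin R s = ⊤) (f g : A →+* L)
    (hR : ∀ r, f (algebraMap R A r) = g (algebraMap R A r)) (hs' : ∀ x ∈ s, f x = g x) :
    f = g := by
  let E : Subalgebra R A :=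
    { (RingHom.eqLocus f g).toSubsemiring with algebraMap_mem' := fun r => hR r }
  have h : Algebra.adjoin R s ≤ E := Algebra.adjoin_le hs'
  rw [hs] at h
  ext x
  exact h (Algebra.mem_top)

set_option maxHeartbeats 1600000 in
/-- essentially finitely presented algebras: if `S` and `S'` are essentially of finite presentation over `R` then `S'`
is essentially of finite presentation over `S` (for any `R`-algebra map `S → S'`). -/
theorem isEssFinitePresentation_tower {R S S' : Type u} [CommRing R] [CommRing S] [CommRing S']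
    [Algebra R S] [Algebra S S'] [Algebra R S'] [IsScalarTower R S S']
    (hS : CAlgX.IsEssFinitePresentation R S) (hS' : CAlgX.IsEssFinitePresentation R S') :
    CAlgX.IsEssFinitePresentation S S' := by
  classical
  obtain ⟨S₀, _, _, _, _, T, hfpS₀, hlocS⟩ := hS
  obtain ⟨S₀', _, _, _, _, T', hfpS₀', hlocS'⟩ := hS'
  obtain ⟨s, hs⟩ := (Algebra.FiniteType.out : (⊤ : Subalgebra R S₀).FG)
  let φ₀ : S₀ →+* S' := (algebraMap S S').comp (algebraMap S₀ S)
  obtain ⟨t, ht⟩ := IsLocalization.exist_integer_multiples_of_finset T' (s.image φ₀)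
  have hb : ∀ y : s, ∃ b : S₀', algebraMap S₀' S' b = algebraMap S₀' S' (t : S₀') * φ₀ y.1 := by
    intro y
    obtain ⟨b, hb⟩ := ht (φ₀ y.1) (Finset.mem_image_of_mem _ y.2)
    exact ⟨b, by rw [hb, Algebra.smul_def]⟩
  choose b hb using hb
  let g : s → S ⊗[R] S₀' := fun y =>
    (algebraMap S₀ S y.1) ⊗ₜ[R] (t : S₀') - 1 ⊗ₜ[R] b y
  let K : Ideal (S ⊗[R] S₀') := Ideal.span (Set.range g)
  have hK : K.FG := Submodule.fg_span (Set.finite_range g)
  haveI : Algebra.FinitePresentation S ((S ⊗[R] S₀') ⧸ K) :=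
    Algebra.FinitePresentation.quotient hK
  let ψ : S ⊗[R] S₀' →ₐ[S] S' :=
    Algebra.TensorProduct.lift (Algebra.ofId S S') (IsScalarTower.toAlgHom R S₀' S')
      (fun _ _ => Commute.all _ _)
  have hψ : ∀ (a : S) (c : S₀'), ψ (a ⊗ₜ c) = algebraMap S S' a * algebraMap S₀' S' c := by
    intro a c
    simp [ψ, Algebra.ofId_apply]
  have hψK : ∀ x ∈ K, ψ x = 0 := by
    intro x hx
    have : K ≤ RingHom.ker ψ.toRingHom := by
      rw [Ideal.span_le]
      rintro _ ⟨y, rfl⟩
      show ψ (g y) = 0
      simp only [g, map_sub, hψ, map_one, one_mul, hb]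
      rw [mul_comm]
      simp [φ₀]
    exact this hx
  let ψbar : ((S ⊗[R] S₀') ⧸ K) →ₐ[S] S' := Ideal.Quotient.liftₐ K ψ hψK
  letI : Algebra ((S ⊗[R] S₀') ⧸ K) S' := ψbar.toRingHom.toAlgebra
  haveI : IsScalarTower S ((S ⊗[R] S₀') ⧸ K) S' :=
    IsScalarTower.of_algebraMap_eq' ψbar.comp_algebraMap.symm
  have halg : ∀ x : S ⊗[R] S₀', algebraMap ((S ⊗[R] S₀') ⧸ K) S' (Ideal.Quotient.mk K x) = ψ x :=
    fun x => rfl
  let θ : S₀' →+* ((S ⊗[R] S₀') ⧸ K) :=
    (Ideal.Quotient.mk K).comp
      (Algebra.TensorProduct.includeRight : S₀' →ₐ[R] S ⊗[R] S₀').toRingHom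
  have hθ : ∀ c, θ c = Ideal.Quotient.mk K (1 ⊗ₜ c) := fun c => rfl
  have hθψ : ∀ c, algebraMap ((S ⊗[R] S₀') ⧸ K) S' (θ c) = algebraMap S₀' S' c := by
    intro c
    rw [hθ, halg, hψ, map_one, one_mul]
  let TC : Submonoid ((S ⊗[R] S₀') ⧸ K) := T'.map θ
  refine ⟨(S ⊗[R] S₀') ⧸ K, inferInstance, inferInstance, inferInstance, inferInstance, TC,
    inferInstance, ?_⟩
  -- the localization property
  have hunitΨ : ∀ y : TC, IsUnit (algebraMap ((S ⊗[R] S₀') ⧸ K) S' y) := by
    rintro ⟨_, t', ht', rfl⟩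
    rw [hθψ]
    exact IsLocalization.map_units S' ⟨t', ht'⟩
  let Ψ : Localization TC →+* S' := IsLocalization.lift (M := TC) (S := Localization TC)
    (g := algebraMap ((S ⊗[R] S₀') ⧸ K) S') hunitΨ
  have hunitΘ : ∀ y : T', IsUnit
      (((algebraMap ((S ⊗[R] S₀') ⧸ K) (Localization TC)).comp θ) y) := fun y =>
    IsLocalization.map_units (Localization TC) (⟨θ y, Submonoid.mem_map_of_mem θ y.2⟩ : TC)
  let Θ : S' →+* Localization TC := IsLocalization.lift (M := T') (P := Localization TC)
    (g := (algebraMap ((S ⊗[R] S₀') ⧸ K) (Localization TC)).comp θ) hunitΘ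
  have hΨ : ∀ c, Ψ (algebraMap ((S ⊗[R] S₀') ⧸ K) (Localization TC) c) =
      algebraMap ((S ⊗[R] S₀') ⧸ K) S' c := fun c => IsLocalization.lift_eq _ c
  have hΘ : ∀ c, Θ (algebraMap S₀' S' c) =
      algebraMap ((S ⊗[R] S₀') ⧸ K) (Localization TC) (θ c) := fun c => IsLocalization.lift_eq _ c
  have h1 : Ψ.comp Θ = RingHom.id S' := by
    apply IsLocalization.ringHom_ext T'
    ext c
    simp only [RingHom.comp_apply, RingHom.id_apply]
    rw [hΘ, hΨ, hθψ]
  -- the two maps `S → L`
  have hSL : Θ.comp (algebraMap S S') =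
      ((algebraMap ((S ⊗[R] S₀') ⧸ K) (Localization TC)).comp (Ideal.Quotient.mk K)).comp
        (Algebra.TensorProduct.includeLeft : S →ₐ[R] S ⊗[R] S₀').toRingHom := by
    apply IsLocalization.ringHom_ext T
    refine ringHom_eq_of_adjoin (R := R) (A := S₀) (L := Localization TC) (s : Set S₀) hs _ _ ?_ ?_
    · intro r
      simp only [RingHom.comp_apply, AlgHom.toRingHom_eq_coe, RingHom.coe_coe,
        Algebra.TensorProduct.includeLeft_apply]
      rw [← IsScalarTower.algebraMap_apply R S₀ S, ← IsScalarTower.algebraMap_apply R S S',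
        IsScalarTower.algebraMap_apply R S₀' S', hΘ, hθ]
      congr 2
      rw [Algebra.algebraMap_eq_smul_one (A := S₀'), Algebra.algebraMap_eq_smul_one (A := S),
        TensorProduct.smul_tmul]
    · intro y hy
      simp only [RingHom.comp_apply, AlgHom.toRingHom_eq_coe, RingHom.coe_coe,
        Algebra.TensorProduct.includeLeft_apply]
      have hu : IsUnit (algebraMap ((S ⊗[R] S₀') ⧸ K) (Localization TC) (θ (t : S₀'))) :=
        IsLocalization.map_units (Localization TC) (⟨θ t, Submonoid.mem_map_of_mem θ t.2⟩ : TC)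
      apply hu.mul_left_cancel
      have e1 : algebraMap ((S ⊗[R] S₀') ⧸ K) (Localization TC) (θ (t : S₀')) *
          Θ (algebraMap S S' (algebraMap S₀ S y)) =
          algebraMap ((S ⊗[R] S₀') ⧸ K) (Localization TC) (θ (b ⟨y, hy⟩)) := by
        rw [← hΘ, ← hΘ, ← map_mul, hb ⟨y, hy⟩]
        rfl
      have e2 : algebraMap ((S ⊗[R] S₀') ⧸ K) (Localization TC) (θ (t : S₀')) *
          algebraMap ((S ⊗[R] S₀') ⧸ K) (Localization TC)
            (Ideal.Quotient.mk K (algebraMap S₀ S y ⊗ₜ[R] (1 : S₀'))) =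
          algebraMap ((S ⊗[R] S₀') ⧸ K) (Localization TC) (θ (b ⟨y, hy⟩)) := by
        rw [← map_mul, hθ, hθ, ← map_mul, Algebra.TensorProduct.tmul_mul_tmul, one_mul, mul_one]
        congr 1
        rw [Ideal.Quotient.eq]
        exact Ideal.subset_span ⟨⟨y, hy⟩, rfl⟩
      rw [e1, e2]
  have h2 : Θ.comp Ψ = RingHom.id (Localization TC) := by
    refine IsLocalization.ringHom_ext (S := Localization TC) TC ?_
    apply Ideal.Quotient.ringHom_ext
    refine ringHom_ext_tensor (L := Localization TC) _ _ ?_ ?_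
    · intro a
      simp only [RingHom.comp_apply, RingHom.id_apply]
      rw [hΨ, halg, hψ, map_one, mul_one]
      exact RingHom.congr_fun hSL a
    · intro c
      simp only [RingHom.comp_apply, RingHom.id_apply]
      rw [hΨ, halg, hψ, map_one, one_mul, hΘ, hθ]
  let e : Localization TC ≃+* S' := RingEquiv.ofRingHom Ψ Θ h1 h2
  let e' : Localization TC ≃ₐ[(S ⊗[R] S₀') ⧸ K] S' := AlgEquiv.ofRingEquiv (f := e) hΨ
  exact IsLocalization.isLocalization_of_algEquiv (S := Localization TC) TC e'

end Tower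

section Descent

/-- `I M` as an `A`-submodule and `(I B) M` as a `B`-submodule have the same elements. -/
theorem mem_map_smul_top_iff' {A B M : Type*} [CommRing A] [CommRing B] [Algebra A B]
    [AddCommGroup M] [Module A M] [Module B M] [IsScalarTower A B M] (I : Ideal A) (x : M) :
    x ∈ (I.map (algebraMap A B) • (⊤ : Submodule B M)) ↔ x ∈ (I • ⊤ : Submodule A M) := by
  constructor
  · intro hx
    have key : ∀ b ∈ I.map (algebraMap A B), ∀ m : M, b • m ∈ (I • ⊤ : Submodule A M) := by
      intro b hb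
      refine Submodule.span_induction ?_ ?_ ?_ ?_ hb
      · rintro _ ⟨a, ha, rfl⟩ m
        rw [algebraMap_smul]
        exact Submodule.smul_mem_smul ha Submodule.mem_top
      · intro m
        rw [zero_smul]
        exact zero_mem _
      · intro b₁ b₂ _ _ h₁ h₂ m
        rw [add_smul]
        exact add_mem (h₁ m) (h₂ m)
      · intro c b _ h m
        rw [smul_eq_mul, mul_comm, mul_smul]
        exact h (c • m)
    refine Submodule.smul_induction_on hx ?_ (fun _ _ h₁ h₂ => add_mem h₁ h₂)
    intro b hb m _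
    exact key b hb m
  · intro hx
    refine Submodule.smul_induction_on hx ?_ (fun _ _ h₁ h₂ => add_mem h₁ h₂)
    intro a ha m _
    rw [← algebraMap_smul B a m]
    exact Submodule.smul_mem_smul (Ideal.mem_map_of_mem _ ha) Submodule.mem_top

/-- If `M` is flat over `R` and faithfully flat over the `R`-algebra `S`, then `S` is flat over `R`. -/
theorem flat_of_flat_of_faithfullyFlat {R S M : Type*} [CommRing R] [CommRing S] [Algebra R S]
    [AddCommGroup M] [Module R M] [Module S M] [IsScalarTower R S M] [Module.Flat R M]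
    [Module.FaithfullyFlat S M] : Module.Flat R S := by
  rw [Module.Flat.iff_lTensor_preserves_injective_linearMap]
  intro N P _ _ _ _ f hf
  let g : S ⊗[R] N →ₗ[S] S ⊗[R] P := AlgebraTensorModule.lTensor S S f
  have hgf : (g : S ⊗[R] N → S ⊗[R] P) = f.lTensor S := rfl
  rw [← hgf, ← Module.FaithfullyFlat.lTensor_injective_iff_injective S M]
  let eN := AlgebraTensorModule.cancelBaseChange R S S M N
  let eP := AlgebraTensorModule.cancelBaseChange R S S M P
  have hnat : ∀ w, eP (g.lTensor M w) = f.lTensor M (eN w) := by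
    intro w
    induction w with
    | zero => simp
    | add a b ha hb => simp only [map_add, ha, hb]
    | tmul m x =>
      induction x with
      | zero => simp
      | add a b ha hb => simp only [tmul_add, map_add, ha, hb]
      | tmul s n =>
        simp [g, eN, eP]
  have hfl : Function.Injective (f.lTensor M) :=
    Module.Flat.lTensor_preserves_injective_linearMap f hf
  rw [injective_iff_map_eq_zero]
  intro w hw
  have h1 : f.lTensor M (eN w) = 0 := by rw [← hnat, hw, map_zero]
  have h2 := hfl (h1.trans (map_zero _).symm)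
  exact eN.injective (h2.trans (map_zero _).symm)

end Descent

end Groth.Agent.R2.H22.FibCrit
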