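import Mathlib
import Groth.Agent.R2.H22SepProd

/-!
# Schematically dominant families on a fibre product: affine pieces (helper22)
-/

set_option autoImplicit false
set_option linter.style.haveILetI false
universe u

namespace Groth.Agent.R2.H22.SchDomProd

open CategoryTheory AlgebraicGeometry Opposite TopologicalSpace TensorProduct Limits
open Groth.Agent.R2.H22.SepCore Groth.Agent.R2.H22.SepTrans Groth.Agent.R2.H22.SchDom
  Groth.Agent.R2.H22.SchDomBC Groth.Agent.R2.H22.SepProd

theorem appLE_congr_hom {X Y : Scheme.{u}} {φ ψ : X ⟶ Y} (e : φ = ψ) (U : Y.Opens) (V : X.Opens)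
    (h : V ≤ φ ⁻¹ᵁ U) : φ.appLE U V h = ψ.appLE U V (e ▸ h) := by
  subst e; rfl

variable {X S S' : Scheme.{u}} (p : X ⟶ S) (g : S' ⟶ S) {ι : Type u} {Z : ι → Scheme.{u}}
  (f : ∀ i, Z i ⟶ X)

/-- the base-changed family `Z i ×_S S' ⟶ X ×_S S'`. -/
noncomputable abbrev bcMap (i : ι) : pullback (f i ≫ p) g ⟶ pullback p g :=
  pullback.map (f i ≫ p) g p g (f i) (𝟙 S') (𝟙 S) (Category.comp_id _)
    ((Category.comp_id _).trans (Category.id_comp _).symm)

theorem bcMap_fst (i : ι) : bcMap p g f i ≫ pullback.fst p g = pullback.fst (f i ≫ p) g ≫ f i :=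
  pullback.lift_fst _ _ _

theorem bcMap_snd (i : ι) : bcMap p g f i ≫ pullback.snd p g = pullback.snd (f i ≫ p) g :=
  (pullback.lift_snd _ _ _).trans (Category.comp_id _)

variable {p g}

/-- the algebraic input on an affine piece, for the family of ring maps `Γ(X,V) → Γ(Z i, W)`. -/
def PieceSepSD (j : Piece p g) : Prop :=
  letI := (p.appLE j.U j.V j.hVU).hom.toAlgebra
  letI := (g.appLE j.U j.U' j.hU'U).hom.toAlgebra
  SepMaps (Γ(X, j.V) ⊗[Γ(S, j.U)] Γ(S', j.U'))
    (M := (Γ(X, j.V) ⊗[Γ(S, j.U)] Γ(S', j.U')) ⊗[Γ(X, j.V)] Γ(X, j.V))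
    (N := fun k : AffOver f j.V => (Γ(X, j.V) ⊗[Γ(S, j.U)] Γ(S', j.U')) ⊗[Γ(X, j.V)] Nsec f j.V k)
    (fun k => (Algebra.linearMap Γ(X, j.V) (Nsec f j.V k)).baseChange
      (Γ(X, j.V) ⊗[Γ(S, j.U)] Γ(S', j.U')))

/-- the affine piece of `Z i ×_S S'` over `W ⊆ Z i` and `U' ⊆ S'`. -/
noncomputable abbrev OW (j : Piece p g) (k : AffOver f j.V) : (pullback (f k.i ≫ p) g).Opens :=
  (pullback.fst (f k.i ≫ p) g) ⁻¹ᵁ k.W ⊓ (pullback.snd (f k.i ≫ p) g) ⁻¹ᵁ j.U'

theorem OW_le (j : Piece p g) (k : AffOver f j.V) : OW f j k ≤ (bcMap p g f k.i) ⁻¹ᵁ j.O := by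
  intro x hx
  refine ⟨?_, ?_⟩
  · show pullback.fst p g (bcMap p g f k.i x) ∈ j.V
    have : pullback.fst p g (bcMap p g f k.i x) = f k.i (pullback.fst (f k.i ≫ p) g x) := by
      have := congr($(bcMap_fst p g f k.i) x)
      exact this
    rw [this]
    exact k.hle hx.1
  · show pullback.snd p g (bcMap p g f k.i x) ∈ j.U'
    have : pullback.snd p g (bcMap p g f k.i x) = pullback.snd (f k.i ≫ p) g x := by
      have := congr($(bcMap_snd p g f k.i) x)
      exact this
    rw [this]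
    exact hx.2

theorem hWU (j : Piece p g) (k : AffOver f j.V) : k.W ≤ (f k.i ≫ p) ⁻¹ᵁ j.U :=
  k.hle.trans ((f k.i).preimage_mono j.hVU)

/-- the top right pushout square `Γ(X,V) → Γ(Z i, W)`, `Γ(P,O) → Γ(P_i, O_W)`. -/
theorem isPushout_piece (j : Piece p g) (k : AffOver f j.V) :
    IsPushout ((f k.i).appLE j.V k.W k.hle) ((pullback.fst p g).appLE j.V j.O inf_le_left)
      ((pullback.fst (f k.i ≫ p) g).appLE k.W (OW f j k) inf_le_left)
      ((bcMap p g f k.i).appLE j.O (OW f j k) (OW_le f j k)) := by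
  have s := isPushout_appLE (IsPullback.of_hasPullback p g) j.hU'U j.hVU j.hU j.hU' j.hV
  have h := isPushout_appLE (IsPullback.of_hasPullback (f k.i ≫ p) g) j.hU'U (hWU f j k)
    j.hU j.hU' k.hW
  have e1 : (f k.i ≫ p).appLE j.U k.W (hWU f j k) =
      p.appLE j.U j.V j.hVU ≫ (f k.i).appLE j.V k.W k.hle := by
    rw [Scheme.Hom.appLE_comp_appLE]
  have e2 : (pullback.snd (f k.i ≫ p) g).appLE j.U' (OW f j k) inf_le_right =
      (pullback.snd p g).appLE j.U' j.O inf_le_right ≫
        (bcMap p g f k.i).appLE j.O (OW f j k) (OW_le f j k) := by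
    rw [Scheme.Hom.appLE_comp_appLE]
    exact (appLE_congr_hom (bcMap_snd p g f k.i) _ _ _).symm
  have e3 : (f k.i).appLE j.V k.W k.hle ≫
      (pullback.fst (f k.i ≫ p) g).appLE k.W (OW f j k) inf_le_left =
      (pullback.fst p g).appLE j.V j.O inf_le_left ≫
        (bcMap p g f k.i).appLE j.O (OW f j k) (OW_le f j k) := by
    rw [Scheme.Hom.appLE_comp_appLE, Scheme.Hom.appLE_comp_appLE]
    exact (appLE_congr_hom (bcMap_fst p g f k.i) _ _ _).symm
  rw [e1, e2] at h
  exact (IsPushout.paste_horiz_iff s e3).1 h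

theorem isAffineOpen_OW (j : Piece p g) (k : AffOver f j.V) : IsAffineOpen (OW f j k) :=
  isAffineOpen_inf (IsPullback.of_hasPullback (f k.i ≫ p) g) j.hU'U (hWU f j k) j.hU j.hU' k.hW

/-- the basic open of `O_W` defined by the pullback of the function of the piece. -/
noncomputable abbrev DW (j : Piece p g) (k : AffOver f j.V) : (pullback (f k.i ≫ p) g).Opens :=
  (pullback (f k.i ≫ p) g).basicOpen
    ((bcMap p g f k.i).appLE j.O (OW f j k) (OW_le f j k) j.f)

theorem DW_le (j : Piece p g) (k : AffOver f j.V) : DW f j k ≤ (bcMap p g f k.i) ⁻¹ᵁ j.D := by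
  rw [DW, Scheme.basicOpen_appLE]
  exact inf_le_right

/-- the localization square. -/
theorem isPushout_loc (j : Piece p g) (k : AffOver f j.V) :
    IsPushout ((bcMap p g f k.i).appLE j.O (OW f j k) (OW_le f j k))
      ((pullback p g).presheaf.map (homOfLE j.D_le_O).op)
      ((pullback (f k.i ≫ p) g).presheaf.map
        (homOfLE ((pullback (f k.i ≫ p) g).basicOpen_le _ : DW f j k ≤ OW f j k)).op)
      ((bcMap p g f k.i).appLE j.D (DW f j k) (DW_le f j k)) := by
  haveI : IsLocalization (Submonoid.powers j.f) Γ(pullback p g, j.D) :=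
    j.isAffineOpen_O.isLocalization_basicOpen j.f
  haveI : IsLocalization ((Submonoid.powers j.f).map
      ((bcMap p g f k.i).appLE j.O (OW f j k) (OW_le f j k)).hom) Γ(pullback (f k.i ≫ p) g, DW f j k) := by
    rw [Submonoid.map_powers]
    exact (isAffineOpen_OW f j k).isLocalization_basicOpen _
  refine CommRingCat.isPushout_of_isLocalization
    ((bcMap p g f k.i).appLE j.O (OW f j k) (OW_le f j k)).hom
    ((bcMap p g f k.i).appLE j.D (DW f j k) (DW_le f j k)).hom ?_ (.powers j.f)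
  change CommRingCat.Hom.hom ((pullback p g).presheaf.map _ ≫ (bcMap p g f k.i).appLE _ _ _) =
    CommRingCat.Hom.hom ((bcMap p g f k.i).appLE _ _ _ ≫ (pullback (f k.i ≫ p) g).presheaf.map _)
  rw [Scheme.Hom.map_appLE, Scheme.Hom.appLE_map]

/-- on an affine piece, a function killed by all members of the base-changed family is zero, provided the
algebraic input `PieceSepSD` holds. -/
theorem schDomOn_piece (j : Piece p g) (h : PieceSepSD f j) (t : Γ(pullback p g, j.D))
    (ht : ∀ i, (bcMap p g f i).app j.D t = 0) : t = 0 := by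
  have hpush := isPushout_appLE (IsPullback.of_hasPullback p g) j.hU'U j.hVU j.hU j.hU' j.hV
  letI := (p.appLE j.U j.V j.hVU).hom.toAlgebra
  letI := (g.appLE j.U j.U' j.hU'U).hom.toAlgebra
  letI algBR : Algebra Γ(X, j.V) Γ(pullback p g, j.O) :=
    ((pullback.fst p g).appLE j.V j.O inf_le_left).hom.toAlgebra
  letI algA'R : Algebra Γ(S', j.U') Γ(pullback p g, j.O) :=
    ((pullback.snd p g).appLE j.U' j.O inf_le_right).hom.toAlgebra
  letI algAR : Algebra Γ(S, j.U) Γ(pullback p g, j.O) :=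
    (((pullback.fst p g).appLE j.V j.O inf_le_left).hom.comp
      (p.appLE j.U j.V j.hVU).hom).toAlgebra
  haveI : IsScalarTower Γ(S, j.U) Γ(X, j.V) Γ(pullback p g, j.O) :=
    .of_algebraMap_eq' rfl
  haveI : IsScalarTower Γ(S, j.U) Γ(S', j.U') Γ(pullback p g, j.O) :=
    .of_algebraMap_eq' <| congr($(hpush.1.1).hom)
  have h1 : Algebra.IsPushout Γ(S, j.U) Γ(X, j.V) Γ(S', j.U') Γ(pullback p g, j.O) :=
    CommRingCat.isPushout_iff_isPushout.mp hpush
  letI algBS : Algebra Γ(X, j.V) Γ(pullback p g, j.D) :=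
    ((pullback.fst p g).appLE j.V j.D j.D_le).hom.toAlgebra
  haveI : IsScalarTower Γ(X, j.V) Γ(pullback p g, j.O) Γ(pullback p g, j.D) :=
    .of_algebraMap_eq' <| by
      have := (pullback.fst p g).appLE_map (inf_le_left : j.O ≤ _) (homOfLE j.D_le_O).op
      exact congr($(this.symm).hom)
  haveI : IsLocalization.Away j.f Γ(pullback p g, j.D) :=
    j.isAffineOpen_O.isLocalization_basicOpen j.f
  have hR := sepMaps_baseChange_of_algEquiv
    (Algebra.IsPushout.equiv Γ(S, j.U) Γ(X, j.V) Γ(S', j.U') Γ(pullback p g, j.O))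
    (fun k : AffOver f j.V => Algebra.linearMap Γ(X, j.V) (Nsec f j.V k)) h
  have key := eq_zero_of_sepMaps_baseChange_away (R := Γ(pullback p g, j.O))
    (S := Γ(pullback p g, j.D)) j.f
    (fun k : AffOver f j.V => Algebra.linearMap Γ(X, j.V) (Nsec f j.V k)) hR
    (t ⊗ₜ[Γ(X, j.V)] (1 : Γ(X, j.V))) ?_
  · have := congrArg (TensorProduct.rid Γ(X, j.V) Γ(pullback p g, j.D)) key
    simpa using this
  · intro k
    rw [LinearMap.lTensor_tmul, Algebra.linearMap_apply, map_one]
    have hp := (isPushout_piece f j k).paste_vert (isPushout_loc f j k)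
    rw [Scheme.Hom.appLE_map] at hp
    refine tmul_eq_zero_of_isPushout hp t ?_
    have h0 := ht k.i
    have := congrArg ((pullback (f k.i ≫ p) g).presheaf.map (homOfLE (DW_le f j k)).op) h0
    rw [map_zero] at this
    exact this

end Groth.Agent.R2.H22.SchDomProd
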