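import Mathlib
import Groth.Agent.R2.H22SchDomProd
import Groth.Agent.R2.H22FibSch

/-!
# The relative fibre criterion for schematically dominant families (helper22)
-/

set_option autoImplicit false
set_option linter.style.haveILetI false
set_option linter.unusedSectionVars false
universe u

namespace Groth.Agent.R2.H22.FibSchDom

open CategoryTheory AlgebraicGeometry Opposite TopologicalSpace TensorProduct Limits
open Groth.Agent.R2.H22.SepCore Groth.Agent.R2.H22.SepTrans Groth.Agent.R2.H22.SchDom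
  Groth.Agent.R2.H22.SchDomBC Groth.Agent.R2.H22.SepProd Groth.Agent.R2.H22.SchDomProd
  Groth.Agent.R2.H22.FibSch Groth.Agent.R2.H22.FibBC

/-- in a pushout square of commutative rings, the image of `t` vanishes as soon as `t ⊗ 1 = 0`. -/
theorem eq_zero_of_tmul_eq_zero_of_isPushout {R S T P : CommRingCat.{u}} {f : R ⟶ S} {g : R ⟶ T}
    {inl : S ⟶ P} {inr : T ⟶ P} (h : IsPushout f g inl inr) (t : T)
    (ht : letI := f.hom.toAlgebra
      letI := g.hom.toAlgebra
      (t ⊗ₜ[R] (1 : S) : T ⊗[R] S) = 0) : inr t = 0 := by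
  algebraize [f.hom, g.hom, inl.hom, inr.hom, inl.hom.comp f.hom]
  have : IsScalarTower R T P := .of_algebraMap_eq' <| congr($(h.1.1).hom)
  have h1 : Algebra.IsPushout R S T P := CommRingCat.isPushout_iff_isPushout.mp h
  have h2 : Algebra.IsPushout R T S P := h1.symm
  have := congrArg (Algebra.IsPushout.equiv R T S P) ht
  rw [Algebra.IsPushout.equiv_tmul, map_zero, map_one, mul_one] at this
  exact this

variable {X S S' : Scheme.{u}} {p : X ⟶ S} {g : S' ⟶ S} {ι : Type u} {Z : ι → Scheme.{u}}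
  (f : ∀ i, Z i ⟶ X)

/-- a schematically dominant base-changed family gives the algebraic separating property on every
affine piece. -/
theorem pieceSepSD_of_schDom (hsd : SchDom (bcMap p g f)) (j : Piece p g) : PieceSepSD f j := by
  have hpush := isPushout_appLE (IsPullback.of_hasPullback p g) j.hU'U j.hVU j.hU j.hU' j.hV
  unfold PieceSepSD
  letI := (p.appLE j.U j.V j.hVU).hom.toAlgebra
  letI := (g.appLE j.U j.U' j.hU'U).hom.toAlgebra
  letI algBR : Algebra Γ(X, j.V) Γ(pullback p g, j.O) :=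
    ((pullback.fst p g).appLE j.V j.O inf_le_left).hom.toAlgebra
  letI algA'R : Algebra Γ(S', j.U') Γ(pullback p g, j.O) :=
    ((pullback.snd p g).appLE j.U' j.O inf_le_right).hom.toAlgebra
  letI algAR : Algebra Γ(S, j.U) Γ(pullback p g, j.O) :=
    (((pullback.fst p g).appLE j.V j.O inf_le_left).hom.comp
      (p.appLE j.U j.V j.hVU).hom).toAlgebra
  haveI : IsScalarTower Γ(S, j.U) Γ(X, j.V) Γ(pullback p g, j.O) :=
    .of_algebraMap_eq' rfl
  haveI : IsScalarTower Γ(S, j.U) Γ(S', j.U') Γ(pullback p g, j.O) :=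
    .of_algebraMap_eq' <| congr($(hpush.1.1).hom)
  have h1 : Algebra.IsPushout Γ(S, j.U) Γ(X, j.V) Γ(S', j.U') Γ(pullback p g, j.O) :=
    CommRingCat.isPushout_iff_isPushout.mp hpush
  refine sepMaps_baseChange_of_algEquiv
    (Algebra.IsPushout.equiv Γ(S, j.U) Γ(X, j.V) Γ(S', j.U') Γ(pullback p g, j.O)).symm
    (fun k : AffOver f j.V => Algebra.linearMap Γ(X, j.V) (Nsec f j.V k)) ?_
  intro f₀ y hy
  let j' : Piece p g := { j with f := f₀ }
  letI algBS : Algebra Γ(X, j.V) Γ(pullback p g, j'.D) :=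
    ((pullback.fst p g).appLE j.V j'.D j'.D_le).hom.toAlgebra
  haveI : IsScalarTower Γ(X, j.V) Γ(pullback p g, j.O) Γ(pullback p g, j'.D) :=
    .of_algebraMap_eq' <| by
      have := (pullback.fst p g).appLE_map (inf_le_left : j.O ≤ _) (homOfLE j'.D_le_O).op
      exact congr($(this.symm).hom)
  haveI : IsLocalization.Away f₀ Γ(pullback p g, j'.D) :=
    j.isAffineOpen_O.isLocalization_basicOpen f₀
  refine exists_pow_smul_eq_zero_of_away (R := Γ(pullback p g, j.O))
    (S := Γ(pullback p g, j'.D)) f₀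
    (fun k : AffOver f j.V => Algebra.linearMap Γ(X, j.V) (Nsec f j.V k)) ?_ y hy
  intro x hx
  obtain ⟨t, rfl⟩ : ∃ t : Γ(pullback p g, j'.D), x = t ⊗ₜ[Γ(X, j.V)] (1 : Γ(X, j.V)) := by
    refine ⟨TensorProduct.rid Γ(X, j.V) Γ(pullback p g, j'.D) x, ?_⟩
    apply (TensorProduct.rid Γ(X, j.V) Γ(pullback p g, j'.D)).injective
    rw [TensorProduct.rid_tmul, one_smul]
  have ht : t = 0 := by
    apply hsd j'.D t
    intro i
    -- cover `bcMap⁻¹ D` by the `DW`
    refine TopCat.Sheaf.eq_of_locally_eq' (pullback (f i ≫ p) g).sheaf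
      (fun W : {W : (Z i).affineOpens // W.1 ≤ (f i) ⁻¹ᵁ j.V} =>
        DW f j' ⟨i, W.1.1, W.1.2, W.2⟩) ((bcMap p g f i) ⁻¹ᵁ j'.D)
      (fun W => homOfLE (DW_le f j' ⟨i, W.1.1, W.1.2, W.2⟩)) ?_ _ 0 (fun W => ?_)
    · intro x hx
      have hxO : bcMap p g f i x ∈ j.O := j'.D_le_O hx
      have hfst : pullback.fst p g (bcMap p g f i x) = f i (pullback.fst (f i ≫ p) g x) := by
        have := congr($(bcMap_fst p g f i) x)
        exact this
      have hsnd : pullback.snd p g (bcMap p g f i x) = pullback.snd (f i ≫ p) g x := by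
        have := congr($(bcMap_snd p g f i) x)
        exact this
      have hxV : pullback.fst (f i ≫ p) g x ∈ (f i) ⁻¹ᵁ j.V := by
        show f i (pullback.fst (f i ≫ p) g x) ∈ j.V
        rw [← hfst]
        exact hxO.1
      obtain ⟨W, hW, hxW, hWV⟩ := exists_isAffineOpen_mem_and_subset
        (x := pullback.fst (f i ≫ p) g x) (U := (f i) ⁻¹ᵁ j.V) hxV
      refine Opens.mem_iSup.mpr ⟨⟨⟨W, hW⟩, hWV⟩, ?_⟩
      show x ∈ DW f j' ⟨i, W, hW, hWV⟩
      rw [DW, Scheme.basicOpen_appLE]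
      refine ⟨⟨hxW, ?_⟩, hx⟩
      show pullback.snd (f i ≫ p) g x ∈ j.U'
      rw [← hsnd]
      exact hxO.2
    · refine Eq.trans ?_ (map_zero _).symm
      set k : AffOver f j.V := ⟨i, W.1.1, W.1.2, W.2⟩ with hk
      have hp := (isPushout_piece f j' k).paste_vert (isPushout_loc f j' k)
      rw [Scheme.Hom.appLE_map] at hp
      have h0 := hx k
      rw [LinearMap.lTensor_tmul, Algebra.linearMap_apply, map_one] at h0
      exact eq_zero_of_tmul_eq_zero_of_isPushout hp t h0
  rw [ht, TensorProduct.zero_tmul]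

/-- **The relative fibre criterion for schematically dominant families** (EGA IV 11.10.9). -/
theorem schDom_baseChange_of_fibres [IsLocallyNoetherian X] (p : X ⟶ S) [∀ i, Flat (f i ≫ p)]
    (hfib : ∀ s : S, SchDom (bcMap p (S.fromSpecResidueField s) f))
    {S' : Scheme.{u}} (g : S' ⟶ S) : SchDom (bcMap p g f) := by
  refine schDom_of_basis (bcMap p g f) (fun j : Piece p g => j.D) (isBasis_pieces p g) ?_
  intro j t ht
  refine schDomOn_piece f j ?_ t ht
  unfold PieceSepSD
  letI algAB := (p.appLE j.U j.V j.hVU).hom.toAlgebra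
  letI := (g.appLE j.U j.U' j.hU'U).hom.toAlgebra
  haveI : IsNoetherianRing Γ(X, j.V) := IsLocallyNoetherian.component_noetherian ⟨j.V, j.hV⟩
  letI : ∀ k : AffOver f j.V, Module Γ(S, j.U) (Nsec f j.V k) := fun k =>
    Module.compHom _ (algebraMap Γ(S, j.U) Γ(X, j.V))
  haveI : ∀ k : AffOver f j.V, IsScalarTower Γ(S, j.U) Γ(X, j.V) (Nsec f j.V k) := fun k =>
    IsScalarTower.of_algebraMap_smul fun _ _ => rfl
  haveI : ∀ k : AffOver f j.V, Module.Flat Γ(S, j.U) (Nsec f j.V k) := by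
    intro k
    have hle : k.W ≤ (f k.i ≫ p) ⁻¹ᵁ j.U := hWU f j k
    have hflat : ((f k.i ≫ p).appLE j.U k.W hle).hom.Flat :=
      HasRingHomProperty.appLE (P := @Flat) (f k.i ≫ p) inferInstance ⟨j.U, j.hU⟩ ⟨k.W, k.hW⟩ hle
    letI alg2 : Algebra Γ(S, j.U) Γ(Z k.i, k.W) := ((f k.i ≫ p).appLE j.U k.W hle).hom.toAlgebra
    haveI : Module.Flat Γ(S, j.U) Γ(Z k.i, k.W) := hflat
    let e : Γ(Z k.i, k.W) ≃ₗ[Γ(S, j.U)] Nsec f j.V k :=
      { AddEquiv.refl Γ(Z k.i, k.W) with
        map_smul' := fun a x => by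
          have h1 : (f k.i ≫ p).appLE j.U k.W hle =
              p.appLE j.U j.V j.hVU ≫ (f k.i).appLE j.V k.W k.hle := by
            rw [Scheme.Hom.appLE_comp_appLE]
          show ((f k.i ≫ p).appLE j.U k.W hle).hom a * x =
            ((f k.i).appLE j.V k.W k.hle).hom ((p.appLE j.U j.V j.hVU).hom a) * x
          rw [h1]
          rfl }
    exact Module.Flat.of_linearEquiv e.symm
  refine sepMaps_baseChange_of_fibres (A := Γ(S, j.U)) (B := Γ(X, j.V)) (M := Γ(X, j.V))
    (N := fun k : AffOver f j.V => Nsec f j.V k)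
    (fun k : AffOver f j.V => Algebra.linearMap Γ(X, j.V) (Nsec f j.V k)) ?_ Γ(S', j.U')
  -- the fibrewise hypothesis
  intro 𝔭 h𝔭
  set P : PrimeSpectrum Γ(S, j.U) := ⟨𝔭, h𝔭⟩ with hP
  set s : S := j.hU.fromSpec P with hs
  have hsU : s ∈ j.U := by
    have : s ∈ j.hU.fromSpec.opensRange := ⟨P, rfl⟩
    rwa [j.hU.opensRange_fromSpec] at this
  have htop : (⊤ : (Spec (S.residueField s)).Opens) ≤ (S.fromSpecResidueField s) ⁻¹ᵁ j.U := by
    intro y _
    show S.fromSpecResidueField s y ∈ j.U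
    rw [Scheme.fromSpecResidueField_apply]
    exact hsU
  let js : Piece p (S.fromSpecResidueField s) :=
    ⟨j.U, j.V, ⊤, j.hU, j.hV, isAffineOpen_top _, j.hVU, htop, 1⟩
  have hps := pieceSepSD_of_schDom f (hfib s) js
  have hfield : IsField Γ(Spec (S.residueField s), ⊤) :=
    MulEquiv.isField (Field.toIsField (S.residueField s))
      (Scheme.ΓSpecIso (S.residueField s)).commRingCatIsoToRingEquiv.toMulEquiv
  refine ⟨Γ(Spec (S.residueField s), ⊤), hfield.toField,
    ((S.fromSpecResidueField s).appLE j.U ⊤ htop).hom.toAlgebra, ?_, ?_⟩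
  · exact ker_appLE_fromSpecResidueField j.hU P htop
  · exact hps

end Groth.Agent.R2.H22.FibSchDom
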