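import Mathlib

/-!
# Base change of kernels of maps with flat cokernel (helper22)

Namespace `Groth.Agent.R2.H22.KerBC`.

* `lTensor_injective_of_flat_coker`, `ker_lTensor_eq`: for `u : M → N` with `N / u(M)` flat over `R`,
  `T ⊗ u` is injective if `u` is, and `ker (T ⊗ u)` is the image of `T ⊗ ker u`.
* `baseChange_injective_of_isPushout`, `mem_span_of_baseChange_eq_zero`: the same over `B → B' = R' ⊗_R B`.
-/

set_option autoImplicit false
universe u
open TensorProduct

namespace Groth.Agent.R2.H22.KerBC

section basic
variable {R : Type*} [CommRing R] {M N : Type*} [AddCommGroup M] [Module R M] [AddCommGroup N]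
  [Module R N] (u : M →ₗ[R] N) [Module.Flat R (N ⧸ LinearMap.range u)]
  (T : Type*) [AddCommGroup T] [Module R T]

theorem lTensor_subtype_range_injective :
    Function.Injective ((LinearMap.range u).subtype.lTensor T) :=
  LinearMap.lTensor_injective_of_exact_of_flat (LinearMap.range u).mkQ
    (Submodule.mkQ_surjective _) (LinearMap.range u).subtype (Submodule.injective_subtype _)
    (LinearMap.exact_subtype_mkQ _) T

theorem lTensor_injective_of_flat_coker (hu : Function.Injective u) :
    Function.Injective (u.lTensor T) := by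
  have h1 : u = (LinearMap.range u).subtype ∘ₗ u.rangeRestrict := by
    ext m; rfl
  have h2 : Function.Injective (u.rangeRestrict.lTensor T) := by
    let e : M ≃ₗ[R] LinearMap.range u := LinearEquiv.ofInjective u hu
    have : u.rangeRestrict = e.toLinearMap := by ext m; rfl
    rw [this]
    exact (e.lTensor T).injective
  rw [h1, LinearMap.lTensor_comp]
  exact (lTensor_subtype_range_injective u T).comp h2

theorem ker_lTensor_eq :
    LinearMap.ker (u.lTensor T) = LinearMap.range ((LinearMap.ker u).subtype.lTensor T) := by
  have h1 : u = (LinearMap.range u).subtype ∘ₗ u.rangeRestrict := by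
    ext m; rfl
  have hex : Function.Exact (LinearMap.ker u).subtype u.rangeRestrict := by
    intro m
    constructor
    · intro hm
      have : u m = 0 := congrArg Subtype.val hm
      exact ⟨⟨m, this⟩, rfl⟩
    · rintro ⟨k, rfl⟩
      exact Subtype.ext k.2
  have hex' := lTensor_exact T hex u.surjective_rangeRestrict
  have h3 : LinearMap.ker (u.lTensor T) = LinearMap.ker (u.rangeRestrict.lTensor T) := by
    conv_lhs => rw [h1, LinearMap.lTensor_comp]
    rw [LinearMap.ker_comp, LinearMap.ker_eq_bot.2 (lTensor_subtype_range_injective u T),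
      Submodule.comap_bot]
  rw [h3]
  exact (LinearMap.exact_iff.1 hex')

end basic

section pushout
variable (R R' B B' : Type*) [CommRing R] [CommRing R'] [CommRing B] [CommRing B']
  [Algebra R R'] [Algebra R B] [Algebra B B'] [Algebra R' B'] [Algebra R B']
  [IsScalarTower R B B'] [IsScalarTower R R' B'] [Algebra.IsPushout R R' B B']
  {M N : Type*} [AddCommGroup M] [Module R M] [Module B M] [IsScalarTower R B M]
  [AddCommGroup N] [Module R N] [Module B N] [IsScalarTower R B N]
  (u : M →ₗ[B] N)

theorem cancelBaseChange_symm_naturality (w : R' ⊗[R] M) :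
    LinearMap.baseChange B' u ((Algebra.IsPushout.cancelBaseChange R R' B B' M).symm w) =
      (Algebra.IsPushout.cancelBaseChange R R' B B' N).symm
        ((u.restrictScalars R).lTensor R' w) := by
  induction w using TensorProduct.induction_on with
  | zero => simp only [map_zero]
  | add a b ha hb => simp only [map_add, ha, hb]
  | tmul r m =>
    rw [Algebra.IsPushout.cancelBaseChange_symm_tmul, LinearMap.baseChange_tmul,
      LinearMap.lTensor_tmul]
    exact (Algebra.IsPushout.cancelBaseChange_symm_tmul R R' B B' N r (u m)).symm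

theorem cancelBaseChange_naturality (z : B' ⊗[B] M) :
    Algebra.IsPushout.cancelBaseChange R R' B B' N (LinearMap.baseChange B' u z) =
      (u.restrictScalars R).lTensor R' (Algebra.IsPushout.cancelBaseChange R R' B B' M z) := by
  obtain ⟨w, rfl⟩ := (Algebra.IsPushout.cancelBaseChange R R' B B' M).symm.surjective z
  rw [cancelBaseChange_symm_naturality, LinearEquiv.apply_symm_apply,
    LinearEquiv.apply_symm_apply]

include R R' in
theorem baseChange_injective_of_isPushout
    (hfl : Module.Flat R (N ⧸ LinearMap.range (u.restrictScalars R)))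
    (hu : Function.Injective u) :
    Function.Injective (LinearMap.baseChange B' u) := by
  rw [injective_iff_map_eq_zero]
  intro z hz
  have h1 := cancelBaseChange_naturality R R' B B' u z
  rw [hz, map_zero] at h1
  have h2 := lTensor_injective_of_flat_coker (u.restrictScalars R) R' hu
  have h3 : Algebra.IsPushout.cancelBaseChange R R' B B' M z = 0 :=
    h2 (h1.symm.trans (map_zero _).symm)
  exact (LinearEquiv.map_eq_zero_iff _).1 h3

theorem symm_lTensor_ker_mem_span (w : R' ⊗[R] (LinearMap.ker (u.restrictScalars R))) :
    (Algebra.IsPushout.cancelBaseChange R R' B B' M).symm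
      ((LinearMap.ker (u.restrictScalars R)).subtype.lTensor R' w) ∈
      Submodule.span B' ((TensorProduct.mk B B' M 1) '' (LinearMap.ker u : Set M)) := by
  induction w using TensorProduct.induction_on with
  | zero => simp only [map_zero, Submodule.zero_mem]
  | add a b ha hb =>
    rw [map_add, map_add]
    exact add_mem ha hb
  | tmul r k =>
    rw [LinearMap.lTensor_tmul, Algebra.IsPushout.cancelBaseChange_symm_tmul]
    have : (algebraMap R' B' r) ⊗ₜ[B] ((LinearMap.ker (u.restrictScalars R)).subtype k) =
        (algebraMap R' B' r) • (TensorProduct.mk B B' M 1 (k : M)) := by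
      rw [TensorProduct.mk_apply, TensorProduct.smul_tmul', smul_eq_mul, mul_one]
      rfl
    rw [this]
    refine Submodule.smul_mem _ _ (Submodule.subset_span ⟨k, ?_, rfl⟩)
    exact k.2

include R R' in
theorem mem_span_of_baseChange_eq_zero
    (hfl : Module.Flat R (N ⧸ LinearMap.range (u.restrictScalars R)))
    (z : B' ⊗[B] M) (hz : LinearMap.baseChange B' u z = 0) :
    z ∈ Submodule.span B' ((TensorProduct.mk B B' M 1) '' (LinearMap.ker u : Set M)) := by
  have h1 := cancelBaseChange_naturality R R' B B' u z
  rw [hz, map_zero] at h1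
  have h2 : Algebra.IsPushout.cancelBaseChange R R' B B' M z ∈
      LinearMap.ker ((u.restrictScalars R).lTensor R') := h1.symm
  rw [ker_lTensor_eq] at h2
  obtain ⟨w, hw⟩ := h2
  have h3 : z = (Algebra.IsPushout.cancelBaseChange R R' B B' M).symm
      ((LinearMap.ker (u.restrictScalars R)).subtype.lTensor R' w) := by
    rw [hw, LinearEquiv.symm_apply_apply]
  rw [h3]
  exact symm_lTensor_ker_mem_span R R' B B' u w

end pushout

section gens
variable {R : Type*} [CommRing R] {B : Type*} [CommRing B] [Algebra R B]
  {M N : Type*} [AddCommGroup M] [Module R M] [Module B M] [IsScalarTower R B M]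
  [AddCommGroup N] [Module R N] [Module B N] [IsScalarTower R B N]
  (u : M →ₗ[B] N)

theorem tmul_eq_zero_of_mem_span (T : Type*) [CommRing T] [Algebra R T] (s : Set M)
    (hs : ∀ k ∈ s, (1 : T) ⊗ₜ[R] k = 0) (κ : M) (hκ : κ ∈ Submodule.span B s) (a : T) :
    a ⊗ₜ[R] κ = 0 := by
  induction hκ using Submodule.span_induction generalizing a with
  | mem k hk =>
    have : a ⊗ₜ[R] k = a • ((1 : T) ⊗ₜ[R] k) := by
      rw [TensorProduct.smul_tmul', smul_eq_mul, mul_one]
    rw [this, hs k hk, smul_zero]
  | zero => exact TensorProduct.tmul_zero _ _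
  | add x y _ _ hx hy => rw [TensorProduct.tmul_add, hx, hy, add_zero]
  | smul b x _ hx =>
    have : a ⊗ₜ[R] (b • x) =
        ((LinearMap.lsmul B M b).restrictScalars R).lTensor T (a ⊗ₜ x) := by
      rw [LinearMap.lTensor_tmul]; rfl
    rw [this, hx, map_zero]

/-- If `N / u(M)` is `R`-flat, `Ker u` is generated over `B` by `s` and `1 ⊗ k = 0` in `T ⊗ M` for all `k ∈ s`,
then `T ⊗ u` is injective. -/
theorem lTensor_injective_of_gens
    (hfl : Module.Flat R (N ⧸ LinearMap.range (u.restrictScalars R)))
    (T : Type*) [CommRing T] [Algebra R T] (s : Set M)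
    (hs : Submodule.span B s = LinearMap.ker u)
    (h0 : ∀ k ∈ s, (1 : T) ⊗ₜ[R] k = 0) :
    Function.Injective ((u.restrictScalars R).lTensor T) := by
  rw [← LinearMap.ker_eq_bot, ker_lTensor_eq, LinearMap.range_eq_bot]
  refine LinearMap.ext fun w => ?_
  rw [LinearMap.zero_apply]
  induction w using TensorProduct.induction_on with
  | zero => rw [map_zero]
  | add x y hx hy => rw [map_add, hx, hy, add_zero]
  | tmul a κ =>
    rw [LinearMap.lTensor_tmul]
    refine tmul_eq_zero_of_mem_span (B := B) T s h0 _ ?_ a
    rw [hs]
    exact κ.2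

end gens

end Groth.Agent.R2.H22.KerBC
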