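-- helper83: the kernel of a surjection onto a module flat over the base is finitely presented.
import Mathlib
import Groth.Agent.Lib.Helper3FlatDescE

set_option autoImplicit false
set_option linter.style.haveILetI false
set_option backward.isDefEq.respectTransparency false

universe u

namespace Groth.Agent.R2.H83.FpKer

open TensorProduct MvPolynomial Groth.Agent.Lib.Helper3.FlatLoc Groth.Agent.Lib.Helper3.FlatDesc
  Groth.Agent.Lib.Helper3.FlatOpen

attribute [local instance] MvPolynomial.algebraMvPolynomial

section Step1

variable {Λ : Type u} [CommRing Λ]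
  {σ ι κ : Type} [Finite σ] [Fintype ι] [DecidableEq ι] [Fintype κ]
  (w : κ → ι → MvPolynomial σ Λ)

omit [Finite σ] [DecidableEq ι] in
/-- Syzygies of the model commute with base change `A → R` when the model is flat over `A`. -/
theorem ker_WT_le_span {A R : Type u} [CommRing A] [CommRing R] [Algebra Λ A] [Algebra Λ R]
    [Algebra A R] [IsScalarTower Λ A R]
    (hflat : Module.Flat A ((ι → MvPolynomial σ A) ⧸ KT w (MvPolynomial σ A))) :
    LinearMap.ker (WT w (MvPolynomial σ R)) ≤
      Submodule.span (MvPolynomial σ R)
        (Fmap (MvPolynomial σ A) (MvPolynomial σ R) κ ''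
          (LinearMap.ker (WT w (MvPolynomial σ A)) : Set (κ → MvPolynomial σ A))) := by
  haveI := isScalarTower_mvPolynomial (σ := σ) Λ A R
  have hbκ : IsBaseChange R
      ((Fmap (MvPolynomial σ A) (MvPolynomial σ R) κ).restrictScalars A) :=
    isBaseChange_restrictScalars_of_isPushout _
      (IsBaseChange.finitePow κ (IsBaseChange.linearMap (MvPolynomial σ A) (MvPolynomial σ R)))
  have hbι : IsBaseChange R
      ((Fmap (MvPolynomial σ A) (MvPolynomial σ R) ι).restrictScalars A) :=
    isBaseChange_restrictScalars_of_isPushout _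
      (IsBaseChange.finitePow ι (IsBaseChange.linearMap (MvPolynomial σ A) (MvPolynomial σ R)))
  -- the `A`-linear maps
  let K := KT w (MvPolynomial σ A)
  let Z := LinearMap.ker (WT w (MvPolynomial σ A))
  let W : (κ → MvPolynomial σ A) →ₗ[A] (ι → MvPolynomial σ A) :=
    (WT w (MvPolynomial σ A)).restrictScalars A
  let W₁ : (κ → MvPolynomial σ A) →ₗ[A] K :=
    ((WT w (MvPolynomial σ A)).rangeRestrict).restrictScalars A
  let incl : K →ₗ[A] (ι → MvPolynomial σ A) := K.subtype.restrictScalars A
  let q : (ι → MvPolynomial σ A) →ₗ[A] ((ι → MvPolynomial σ A) ⧸ K) := K.mkQ.restrictScalars A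
  let j : Z →ₗ[A] (κ → MvPolynomial σ A) := Z.subtype.restrictScalars A
  have hW : W = incl ∘ₗ W₁ := rfl
  have h_inj : Function.Injective (incl.lTensor R) :=
    LinearMap.lTensor_injective_of_exact_of_flat q K.mkQ_surjective incl K.injective_subtype
      (LinearMap.exact_subtype_mkQ K) R
  have h_ex : Function.Exact (j.lTensor R) (W₁.lTensor R) := by
    refine lTensor_exact R (f := j) (g := W₁) ?_ ?_
    · intro x
      constructor
      · intro hx
        have hx' : WT w (MvPolynomial σ A) x = 0 := congrArg Subtype.val hx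
        exact ⟨⟨x, hx'⟩, rfl⟩
      · rintro ⟨z, rfl⟩
        exact Subtype.ext z.2
    · exact (WT w (MvPolynomial σ A)).surjective_rangeRestrict
  -- compatibility of the base change isomorphisms
  have hcomm : ∀ t : R ⊗[A] (κ → MvPolynomial σ A),
      hbι.equiv (W.lTensor R t) = WT w (MvPolynomial σ R) (hbκ.equiv t) := by
    intro t
    induction t using TensorProduct.induction_on with
    | zero => simp
    | tmul r a =>
      rw [LinearMap.lTensor_tmul, IsBaseChange.equiv_tmul, IsBaseChange.equiv_tmul]
      change r • Fmap _ _ ι (WT w (MvPolynomial σ A) a) =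
        WT w (MvPolynomial σ R) (r • Fmap _ _ κ a)
      rw [LinearMap.map_smul_of_tower, WT_Fmap]
    | add x y hx hy => simp only [map_add, hx, hy]
  intro c hc
  have hc' : WT w (MvPolynomial σ R) c = 0 := hc
  set t := hbκ.equiv.symm c with ht
  have h1 : W.lTensor R t = 0 := by
    apply hbι.equiv.injective
    rw [hcomm, ht, LinearEquiv.apply_symm_apply, hc', map_zero]
  have h2 : W₁.lTensor R t = 0 := by
    apply h_inj
    rw [map_zero, ← LinearMap.comp_apply, ← LinearMap.lTensor_comp, ← hW, h1]
  obtain ⟨s, hs⟩ := (h_ex t).mp h2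
  have hct : c = hbκ.equiv t := by rw [ht, LinearEquiv.apply_symm_apply]
  rw [hct, ← hs]
  clear hs hct h2 h1 ht
  induction s using TensorProduct.induction_on with
  | zero => simp
  | tmul r z =>
    rw [LinearMap.lTensor_tmul, IsBaseChange.equiv_tmul]
    change r • Fmap _ _ κ (z : κ → MvPolynomial σ A) ∈ _
    rw [← algebraMap_smul (MvPolynomial σ R) r]
    exact Submodule.smul_mem _ _ (Submodule.subset_span ⟨z.1, z.2, rfl⟩)
  | add x y hx hy =>
    rw [map_add, map_add]
    exact Submodule.add_mem _ hx hy

/-- The syzygy module of the model over `R[X]` is finitely generated when the model is `R`-flat. -/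
theorem fg_ker_WT [IsNoetherianRing Λ] {R : Type u} [CommRing R] [Algebra Λ R]
    (hflat : Module.Flat R ((ι → MvPolynomial σ R) ⧸ KT w (MvPolynomial σ R))) :
    (LinearMap.ker (WT w (MvPolynomial σ R))).FG := by
  obtain ⟨A, hAfg, -, hAflat⟩ := exists_fg_subalgebra_flat_global w hflat ∅
  haveI : Algebra.FiniteType Λ A := (Subalgebra.fg_iff_finiteType A).mp hAfg
  haveI : IsNoetherianRing A := Algebra.FiniteType.isNoetherianRing Λ A
  haveI : Fintype σ := Fintype.ofFinite σ
  haveI : IsNoetherianRing (MvPolynomial σ A) := inferInstance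
  haveI := isScalarTower_mvPolynomial (σ := σ) Λ A R
  obtain ⟨S, hS⟩ : (LinearMap.ker (WT w (MvPolynomial σ A))).FG := IsNoetherian.noetherian _
  classical
  refine ⟨S.image (Fmap (MvPolynomial σ A) (MvPolynomial σ R) κ), ?_⟩
  apply le_antisymm
  · rw [Submodule.span_le]
    intro x hx
    rw [Finset.coe_image] at hx
    obtain ⟨z, hz, rfl⟩ := hx
    have hz' : z ∈ LinearMap.ker (WT w (MvPolynomial σ A)) := hS ▸ Submodule.subset_span hz
    change WT w (MvPolynomial σ R) (Fmap _ _ κ z) = 0
    rw [WT_Fmap, LinearMap.mem_ker.mp hz', map_zero]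
  · refine (ker_WT_le_span w hAflat).trans ?_
    rw [Submodule.span_le]
    rintro _ ⟨z, hz, rfl⟩
    rw [← hS] at hz
    rw [Finset.coe_image]
    induction hz using Submodule.span_induction with
    | mem x hx => exact Submodule.subset_span ⟨x, hx, rfl⟩
    | zero => rw [map_zero]; exact Submodule.zero_mem _
    | add x y _ _ hx hy => rw [map_add]; exact Submodule.add_mem _ hx hy
    | smul a x _ hx => rw [Fmap_smul']; exact Submodule.smul_mem _ _ hx

/-- The relation module of the model over `R[X]` is finitely presented when the model is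
`R`-flat. -/
theorem finitePresentation_KT [IsNoetherianRing Λ] {R : Type u} [CommRing R] [Algebra Λ R]
    (hflat : Module.Flat R ((ι → MvPolynomial σ R) ⧸ KT w (MvPolynomial σ R))) :
    Module.FinitePresentation (MvPolynomial σ R) (KT w (MvPolynomial σ R)) := by
  refine Module.finitePresentation_of_surjective (WT w (MvPolynomial σ R)).rangeRestrict
    (WT w (MvPolynomial σ R)).surjective_rangeRestrict ?_
  rw [LinearMap.ker_rangeRestrict]
  exact fg_ker_WT w hflat

end Step1

section Schanuel

variable {P : Type*} [CommRing P] {F M N : Type*} [AddCommGroup F] [Module P F] [AddCommGroup M]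
  [Module P M] [AddCommGroup N] [Module P N]

/-- If one surjection from a finite projective module onto `N` has finitely presented kernel, so
does every surjection from a finitely presented module. -/
theorem finitePresentation_ker_of_finitePresentation_ker [Module.Projective P F] [Module.Finite P F]
    (q : F →ₗ[P] N) (hq : Function.Surjective q) [Module.FinitePresentation P (LinearMap.ker q)]
    [Module.FinitePresentation P M] (p : M →ₗ[P] N) (hp : Function.Surjective p) :
    Module.FinitePresentation P (LinearMap.ker p) := by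
  obtain ⟨φ, hφ⟩ := Module.projective_lifting_property p q hp
  have hφ' : ∀ a, p (φ a) = q a := fun a => congr($hφ a)
  -- the fibre product
  let E : Submodule P (M × F) := LinearMap.ker (p ∘ₗ LinearMap.fst P M F - q ∘ₗ LinearMap.snd P M F)
  have hE : ∀ x : M × F, x ∈ E ↔ p x.1 = q x.2 := by
    intro x
    change p x.1 - q x.2 = 0 ↔ _
    rw [sub_eq_zero]
  let π₁ : E →ₗ[P] M := LinearMap.fst P M F ∘ₗ E.subtype
  have hπ₁ : Function.Surjective π₁ := by
    intro m
    obtain ⟨a, ha⟩ := hq (p m)
    exact ⟨⟨(m, a), (hE _).mpr ha.symm⟩, rfl⟩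
  -- the kernel of `π₁` is the kernel of `q`
  let θ : LinearMap.ker q →ₗ[P] LinearMap.ker π₁ :=
    { toFun := fun a => ⟨⟨(0, a.1), (hE _).mpr (by rw [map_zero]; exact a.2.symm)⟩, rfl⟩
      map_add' := fun a b => by
        apply Subtype.ext; apply Subtype.ext
        simp
      map_smul' := fun c a => by
        apply Subtype.ext; apply Subtype.ext
        simp }
  have hθ : Function.Bijective θ := by
    constructor
    · intro a b hab
      have h1 : ((θ a : E) : M × F) = ((θ b : E) : M × F) := by rw [hab]
      exact Subtype.ext (congrArg Prod.snd h1)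
    · rintro ⟨⟨⟨m, a⟩, hma⟩, hk⟩
      have hm : m = 0 := hk
      subst hm
      have ha : q a = 0 := by
        have := (hE _).mp hma
        rw [map_zero] at this
        exact this.symm
      exact ⟨⟨a, ha⟩, rfl⟩
  haveI : Module.FinitePresentation P (LinearMap.ker π₁) :=
    Module.FinitePresentation.of_equiv (M := LinearMap.ker q) (N := LinearMap.ker π₁)
      (LinearEquiv.ofBijective θ hθ)
  haveI : Module.FinitePresentation P E := Module.finitePresentation_of_ker π₁ hπ₁
  -- the retraction onto the kernel of `p`
  let ρ : E →ₗ[P] LinearMap.ker p :=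
    (LinearMap.fst P M F ∘ₗ E.subtype - φ ∘ₗ LinearMap.snd P M F ∘ₗ E.subtype).codRestrict
      (LinearMap.ker p) (fun x => by
        have hx := (hE x.1).mp x.2
        change p (x.1.1 - φ x.1.2) = 0
        rw [map_sub, hφ', hx, sub_self])
  have hρ : ∀ x : E, (ρ x : M) = x.1.1 - φ x.1.2 := fun x => rfl
  refine Module.finitePresentation_of_surjective ρ ?_ ?_
  · rintro ⟨k, hk⟩
    have hk' : p k = 0 := hk
    refine ⟨⟨(k, 0), (hE _).mpr (by rw [hk', map_zero])⟩, Subtype.ext ?_⟩
    rw [hρ]
    simp
  · let s : F →ₗ[P] E :=
      (LinearMap.prod φ LinearMap.id).codRestrict E (fun a => (hE _).mpr (hφ' a))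
    have hs : LinearMap.ker ρ = LinearMap.range s := by
      ext x
      rw [LinearMap.mem_ker, LinearMap.mem_range]
      constructor
      · intro hx
        have hx' : x.1.1 - φ x.1.2 = 0 := by rw [← hρ, hx]; rfl
        refine ⟨x.1.2, Subtype.ext ?_⟩
        change (φ x.1.2, x.1.2) = x.1
        rw [← sub_eq_zero.mp hx']
      · rintro ⟨a, rfl⟩
        apply Subtype.ext
        rw [hρ]
        change φ a - φ a = 0
        rw [sub_self]
    rw [hs, LinearMap.range_eq_map]
    exact Submodule.FG.map _ Module.Finite.fg_top

end Schanuel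

section Transfer

/-- A module over a quotient `B` of `P` which is finitely presented over `P` is finitely presented
over `B`. -/
theorem finitePresentation_of_surjective_algebraMap {P B K : Type*} [CommRing P] [CommRing B]
    [Algebra P B] (hPB : Function.Surjective (algebraMap P B)) [AddCommGroup K] [Module P K]
    [Module B K] [IsScalarTower P B K] [Module.FinitePresentation P K] :
    Module.FinitePresentation B K := by
  let μ : B ⊗[P] K →ₗ[B] K := (LinearMap.id : K →ₗ[P] K).liftBaseChange B
  have hμ : ∀ (b : B) (k : K), μ (b ⊗ₜ k) = b • k := fun b k => rfl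
  have hone : ∀ t : B ⊗[P] K, ∃ k : K, t = 1 ⊗ₜ k := by
    intro t
    induction t using TensorProduct.induction_on with
    | zero => exact ⟨0, by simp⟩
    | tmul b k =>
      obtain ⟨a, rfl⟩ := hPB b
      refine ⟨a • k, ?_⟩
      rw [TensorProduct.tmul_smul, TensorProduct.smul_tmul', Algebra.smul_def, mul_one]
    | add x y hx hy =>
      obtain ⟨k₁, rfl⟩ := hx
      obtain ⟨k₂, rfl⟩ := hy
      exact ⟨k₁ + k₂, by rw [TensorProduct.tmul_add]⟩
  have hbij : Function.Bijective μ := by
    constructor
    · rw [injective_iff_map_eq_zero]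
      intro t ht
      obtain ⟨k, rfl⟩ := hone t
      rw [hμ, one_smul] at ht
      rw [ht, TensorProduct.tmul_zero]
    · intro k
      exact ⟨1 ⊗ₜ k, by rw [hμ, one_smul]⟩
  exact Module.FinitePresentation.of_equiv (LinearEquiv.ofBijective μ hbij)

end Transfer

section Main

/-- **EGA IV 11.3.9.1 (ring form).** Let `B` be a finitely presented `A`-algebra, `M`, `N` finitely
presented `B`-modules with `N` flat over `A`. The kernel of a surjection `M → N` is finitely
presented. -/
theorem finitePresentation_ker {A B : Type u} [CommRing A] [CommRing B] [Algebra A B]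
    [Algebra.FinitePresentation A B] {M N : Type u} [AddCommGroup M] [Module B M]
    [AddCommGroup N] [Module B N] [Module A N] [IsScalarTower A B N]
    [Module.FinitePresentation B M] [Module.FinitePresentation B N] [Module.Flat A N]
    (p : M →ₗ[B] N) (hp : Function.Surjective p) :
    Module.FinitePresentation B (LinearMap.ker p) := by
  obtain ⟨n, f, hf, hker⟩ := Algebra.FinitePresentation.out (R := A) (A := B)
  letI : Algebra (MvPolynomial (Fin n) A) B := f.toRingHom.toAlgebra
  haveI : IsScalarTower A (MvPolynomial (Fin n) A) B :=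
    .of_algebraMap_eq' f.comp_algebraMap.symm
  letI : Module (MvPolynomial (Fin n) A) N := Module.compHom N f.toRingHom
  letI : Module (MvPolynomial (Fin n) A) M := Module.compHom M f.toRingHom
  haveI : IsScalarTower (MvPolynomial (Fin n) A) B N :=
    ⟨fun a s x => by
      change (f a * s) • x = f a • (s • x)
      rw [mul_smul]⟩
  haveI : IsScalarTower (MvPolynomial (Fin n) A) B M :=
    ⟨fun a s x => by
      change (f a * s) • x = f a • (s • x)
      rw [mul_smul]⟩
  haveI : IsScalarTower A (MvPolynomial (Fin n) A) N :=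
    ⟨fun r a x => by
      change f (r • a) • x = r • (f a • x)
      rw [map_smul, smul_assoc]⟩
  haveI : Module.FinitePresentation (MvPolynomial (Fin n) A) B :=
    Module.finitePresentation_of_surjective (Algebra.linearMap (MvPolynomial (Fin n) A) B) hf hker
  haveI : Module.FinitePresentation (MvPolynomial (Fin n) A) N :=
    Module.FinitePresentation.trans (MvPolynomial (Fin n) A) N B
  haveI : Module.FinitePresentation (MvPolynomial (Fin n) A) M :=
    Module.FinitePresentation.trans (MvPolynomial (Fin n) A) M B
  obtain ⟨k, m, Λ, hΛ, w, ⟨e⟩⟩ := exists_model_equiv (R := A) (n := n) (M := N)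
  haveI : Algebra.FiniteType ℤ Λ := (Subalgebra.fg_iff_finiteType Λ).mp hΛ
  haveI : IsNoetherianRing Λ := Algebra.FiniteType.isNoetherianRing ℤ Λ
  have hflat : Module.Flat A ((Fin k → MvPolynomial (Fin n) A) ⧸ KT w (MvPolynomial (Fin n) A)) :=
    Module.Flat.of_linearEquiv (e.restrictScalars A)
  haveI hKT := finitePresentation_KT w hflat
  let q : (Fin k → MvPolynomial (Fin n) A) →ₗ[MvPolynomial (Fin n) A] N :=
    e.toLinearMap ∘ₗ (KT w (MvPolynomial (Fin n) A)).mkQ
  have hq : Function.Surjective q := e.surjective.comp (Submodule.mkQ_surjective _)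
  have hkq : LinearMap.ker q = KT w (MvPolynomial (Fin n) A) := by
    rw [LinearMap.ker_comp, LinearEquiv.ker, Submodule.comap_bot, Submodule.ker_mkQ]
  haveI : Module.FinitePresentation (MvPolynomial (Fin n) A) (LinearMap.ker q) := by
    rw [hkq]; exact hKT
  let p' : M →ₗ[MvPolynomial (Fin n) A] N := p.restrictScalars (MvPolynomial (Fin n) A)
  haveI h1 : Module.FinitePresentation (MvPolynomial (Fin n) A) (LinearMap.ker p') :=
    finitePresentation_ker_of_finitePresentation_ker q hq p' hp
  let ε : LinearMap.ker p' ≃ₗ[MvPolynomial (Fin n) A] LinearMap.ker p :=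
    { toFun := fun x => ⟨x.1, x.2⟩
      invFun := fun x => ⟨x.1, x.2⟩
      map_add' := fun _ _ => rfl
      map_smul' := fun _ _ => rfl
      left_inv := fun _ => rfl
      right_inv := fun _ => rfl }
  haveI : Module.FinitePresentation (MvPolynomial (Fin n) A) (LinearMap.ker p) :=
    Module.FinitePresentation.of_equiv (M := LinearMap.ker p') (N := LinearMap.ker p) ε
  exact finitePresentation_of_surjective_algebraMap (P := MvPolynomial (Fin n) A) (B := B)
    (K := LinearMap.ker p) hf

end Main

end Groth.Agent.R2.H83.FpKer
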