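-- helper83: EGA IV 11.3.9.1 for sheaves: kernel of an epimorphism onto a flat f.p. module is f.p.
import Mathlib
import Groth.Agent.R2.H83FpKer
import Groth.Agent.Lib.Helper18Strict7
import Groth.Agent.Lib.Helper2FlatOver2

set_option autoImplicit false
set_option linter.style.haveILetI false
universe u
open CategoryTheory CategoryTheory.Limits AlgebraicGeometry TopologicalSpace Opposite
open Groth.Agent.Lib.Helper2.FPAff Groth.Agent.Helper18Strict Groth.Agent.Lib.Helper2.FlatOver

namespace Groth.Agent.R2.H83.FpKerSh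

open Groth.Agent.Lib.Helper23.QCohLocal in
/-- Let `f : X ⟶ Y` be locally of finite presentation, `G`, `H` quasi-coherent finitely presented
`O_X`-modules with `H` flat over `Y`, `p : G ⟶ H` an epimorphism. Then `Ker p` is finitely
presented. -/
theorem isFP_kernel_of_flat {X Y : Scheme.{u}} (f : X ⟶ Y) [LocallyOfFinitePresentation f]
    (G H : X.Modules) [G.IsQuasicoherent] [H.IsQuasicoherent] (hG : CohB1.IsFP G)
    (hH : CohB1.IsFP H) (hflat : FlatMod.IsFlatOver f H) (p : G ⟶ H) [Epi p] :
    CohB1.IsFP (kernel p) := by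
  haveI : SheafOfModules.IsFinitePresentation (R := X.ringCatSheaf) G := hG
  haveI : SheafOfModules.IsFinitePresentation (R := X.ringCatSheaf) H := hH
  haveI : (kernel p).IsQuasicoherent := isQuasicoherent_kernel p
  have key : ∀ x : X, ∃ W : X.Opens, IsAffineOpen W ∧ x ∈ W ∧
      Module.FinitePresentation Γ(X, W) Γ(kernel p, W) := by
    intro x
    obtain ⟨W, V, hW, hV, hxW, hWV⟩ := exists_affine_nhds f x
    refine ⟨W, hW, hxW, ?_⟩
    have hsurj : Function.Surjective (appₗ p W) :=
      Groth.Agent.Lib.Helper23.FinType.surjective_app_of_epi p hW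
    haveI : Module.FinitePresentation Γ(X, W) Γ(G, W) := finitePresentation_sections G hW
    haveI : Module.FinitePresentation Γ(X, W) Γ(H, W) := finitePresentation_sections H hW
    letI : Algebra Γ(Y, V) Γ(X, W) := (f.appLE V W hWV).hom.toAlgebra
    haveI : Algebra.FinitePresentation Γ(Y, V) Γ(X, W) :=
      HasRingHomProperty.appLE (P := @LocallyOfFinitePresentation) f inferInstance
        ⟨V, hV⟩ ⟨W, hW⟩ hWV
    letI : Module Γ(Y, V) Γ(H, W) := Module.compHom Γ(H, W) (f.appLE V W hWV).hom
    haveI : IsScalarTower Γ(Y, V) Γ(X, W) Γ(H, W) :=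
      ⟨fun a b m => by
        change ((f.appLE V W hWV).hom a * b) • m = (f.appLE V W hWV).hom a • (b • m)
        rw [mul_smul]⟩
    haveI : Module.Flat Γ(Y, V) Γ(H, W) :=
      (isFlatOver_iff_forall_affine f H).1 hflat W V hWV hW hV
    haveI := Groth.Agent.R2.H83.FpKer.finitePresentation_ker (A := Γ(Y, V)) (appₗ p W) hsurj
    obtain ⟨ε⟩ := nonempty_kernel_sections_equiv p W
    exact Module.FinitePresentation.of_equiv ε.symm
  choose W hW hxW hfp using key
  refine Groth.Agent.Lib.Helper2.FinPushFP.isFinitePresentation_of_finitePresentation_sections _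
    W ?_ hW hfp
  rw [IsOpenCover, eq_top_iff]
  intro x _
  exact Opens.mem_iSup.2 ⟨x, hxW x⟩

end Groth.Agent.R2.H83.FpKerSh
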