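import Mathlib
import Groth.Agent.Lib.Helper4ModEpi
import Groth.Agent.Lib.Helper21RestrExact

/-!
# helper30: generating sections of a sheaf of modules on a site, concretely

For a sheaf of modules `M` on a small site and a family of global sections `s : I → M.sections`,
the morphism `free I ⟶ M` attached to `s` is an epimorphism iff every local section of `M` is
locally a linear combination of the `s i` (`epi_freeHom_iff`).
-/

set_option autoImplicit false
set_option linter.style.haveILetI false
set_option linter.unusedVariables false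
universe u
open CategoryTheory CategoryTheory.Limits Opposite

namespace Groth.Agent.R2.H30.GenSite

variable {C : Type u} [SmallCategory C] {J : GrothendieckTopology C} {R : Sheaf J RingCat.{u}}

section span

variable (M : SheafOfModules.{u} R) {I : Type u} (s : I → M.sections)

/-- the span of the values of the sections `s i` at `X` -/
def spanAt (X : Cᵒᵖ) : Submodule (R.obj.obj X) (M.val.obj X) :=
  Submodule.span _ (Set.range fun i => (s i).val X)

theorem val_mem_spanAt (X : Cᵒᵖ) (i : I) : (s i).val X ∈ spanAt M s X :=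
  Submodule.subset_span ⟨i, rfl⟩

theorem map_mem_spanAt {X Y : Cᵒᵖ} (f : X ⟶ Y) {t : M.val.obj X} (ht : t ∈ spanAt M s X) :
    M.val.map f t ∈ spanAt M s Y := by
  induction ht using Submodule.span_induction with
  | mem x hx =>
    obtain ⟨i, rfl⟩ := hx
    have := (s i).property f
    exact this ▸ val_mem_spanAt M s Y i
  | zero => rw [map_zero]; exact Submodule.zero_mem _
  | add x y _ _ hx hy => rw [map_add]; exact Submodule.add_mem _ hx hy
  | smul a x _ hx =>
    rw [PresheafOfModules.map_smul]
    exact Submodule.smul_mem _ _ hx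

/-- `t` is locally in the span of the `s i` -/
def InLocSpan (X : Cᵒᵖ) (t : M.val.obj X) : Prop :=
  ∃ S ∈ J X.unop, ∀ ⦃Y : C⦄ (f : Y ⟶ X.unop), S.arrows f → M.val.map f.op t ∈ spanAt M s (op Y)

theorem inLocSpan_of_mem {X : Cᵒᵖ} {t : M.val.obj X} (ht : t ∈ spanAt M s X) : InLocSpan M s X t :=
  ⟨⊤, J.top_mem _, fun _ f _ => map_mem_spanAt M s f.op ht⟩

/-- the family of submodules of sections which are locally in the span of the `s i` -/
def locSpan : M.val.Submodule where
  obj X :=
    { carrier := {t | InLocSpan M s X t}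
      add_mem' := by
        rintro a b ⟨S, hS, ha⟩ ⟨T, hT, hb⟩
        refine ⟨S ⊓ T, J.intersection_covering hS hT, fun Y f hf => ?_⟩
        rw [map_add]
        exact Submodule.add_mem _ (ha f hf.1) (hb f hf.2)
      zero_mem' := ⟨⊤, J.top_mem _, fun Y f _ => by rw [map_zero]; exact Submodule.zero_mem _⟩
      smul_mem' := by
        rintro c a ⟨S, hS, ha⟩
        refine ⟨S, hS, fun Y f hf => ?_⟩
        rw [PresheafOfModules.map_smul]
        exact Submodule.smul_mem _ _ (ha f hf) }
  map {X Y} f := by
    rintro t ⟨S, hS, ht⟩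
    refine ⟨S.pullback f.unop, J.pullback_stable f.unop hS, fun Z g hg => ?_⟩
    have h := ht (g ≫ f.unop) hg
    rw [op_comp, Quiver.Hom.op_unop, PresheafOfModules.map_comp] at h
    exact h

theorem mem_locSpan_iff (X : Cᵒᵖ) (t : M.val.obj X) :
    t ∈ (locSpan M s).obj X ↔ InLocSpan M s X t := Iff.rfl

/-- locality of `locSpan` -/
theorem mem_locSpan_of_locally {X : Cᵒᵖ} (t : M.val.obj X) (S : Sieve X.unop) (hS : S ∈ J X.unop)
    (h : ∀ ⦃Y : C⦄ (f : Y ⟶ X.unop), S.arrows f → M.val.map f.op t ∈ (locSpan M s).obj (op Y)) :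
    t ∈ (locSpan M s).obj X := by
  choose T hT hT' using h
  refine ⟨Sieve.bind S.arrows (fun Y f hf => T f hf), J.bind_covering hS (fun Y f hf => hT f hf), ?_⟩
  rintro Z g ⟨Y, a, b, hb, ha, rfl⟩
  have := hT' b hb a ha
  rw [op_comp, PresheafOfModules.map_comp]
  exact this

/-- `locSpan` as a subfunctor of the underlying presheaf of types -/
noncomputable def subF : Subfunctor (M.val.presheaf ⋙ forget AddCommGrpCat.{u}) where
  obj X := {t | InLocSpan M s X t}
  map {X Y} f := by
    intro t ht
    exact (locSpan M s).map f ht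

theorem isSheaf_subF : Presieve.IsSheaf J (subF M s).toFunctor := by
  have hM : Presieve.IsSheaf J (M.val.presheaf ⋙ forget AddCommGrpCat.{u}) :=
    (isSheaf_iff_isSheaf_of_type J _).1
      ((Presheaf.isSheaf_iff_isSheaf_forget J M.val.presheaf (forget AddCommGrpCat.{u})).1 M.isSheaf)
  rw [Subfunctor.isSheaf_iff _ hM]
  intro X t ht
  exact mem_locSpan_of_locally M s t _ ht (fun Y f hf => hf)

/-- comparison of the underlying presheaves of types -/
noncomputable def subFIso : (locSpan M s).toPresheafOfModules.presheaf ⋙ forget AddCommGrpCat.{u} ≅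
    (subF M s).toFunctor :=
  NatIso.ofComponents (fun X => Iso.refl _) (fun {X Y} f => by
    ext t
    rfl)

theorem isSheaf_locSpan : Presheaf.IsSheaf J (locSpan M s).toPresheafOfModules.presheaf := by
  rw [Presheaf.isSheaf_iff_isSheaf_forget J _ (forget AddCommGrpCat.{u}), isSheaf_iff_isSheaf_of_type]
  exact Presieve.isSheaf_iso J (subFIso M s).symm (isSheaf_subF M s)

/-- the sieve of arrows along which `t` restricts into the span of the `s i` -/
def spanSieve (X : C) (t : M.val.obj (op X)) : Sieve X where
  arrows Y f := M.val.map f.op t ∈ spanAt M s (op Y)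
  downward_closed := by
    intro Y Z f hf g
    rw [op_comp, PresheafOfModules.map_comp]
    exact map_mem_spanAt M s g.op hf

theorem inLocSpan_iff_spanSieve (X : C) (t : M.val.obj (op X)) :
    InLocSpan M s (op X) t ↔ spanSieve M s X t ∈ J X :=
  ⟨fun ⟨S, hS, h⟩ => J.superset_covering (fun Y f hf => h f hf) hS,
    fun h => ⟨_, h, fun Y f hf => hf⟩⟩

/-- the subsheaf of modules of sections locally in the span of the `s i` -/
noncomputable def subSh : SheafOfModules.{u} R where
  val := (locSpan M s).toPresheafOfModules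
  isSheaf := isSheaf_locSpan M s

/-- the inclusion of `subSh` -/
noncomputable def subι : subSh M s ⟶ M := ⟨(locSpan M s).ι⟩

instance mono_subι : Mono (subι M s) :=
  (SheafOfModules.forget R).mono_of_mono_map (inferInstanceAs (Mono (locSpan M s).ι))

/-- the sections `s i` lifted to `subSh` -/
noncomputable def liftSec (i : I) : (subSh M s).sections :=
  PresheafOfModules.sectionsMk
    (fun X => (⟨(s i).val X, inLocSpan_of_mem M s (val_mem_spanAt M s X i)⟩ : (locSpan M s).obj X))
    (fun X Y f => Subtype.ext ((s i).property f))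

theorem sectionsMap_subι_liftSec (i : I) :
    SheafOfModules.sectionsMap (subι M s) (liftSec M s i) = s i := by
  ext X
  rfl

theorem freeHom_fac :
    (subSh M s).freeHomEquiv.symm (liftSec M s) ≫ subι M s = M.freeHomEquiv.symm s := by
  rw [SheafOfModules.freeHomEquiv_symm_comp]
  have : (fun i => SheafOfModules.sectionsMap (subι M s) (liftSec M s i)) = s :=
    funext (sectionsMap_subι_liftSec M s)
  rw [this]

theorem spanAt_le_range (X : Cᵒᵖ) :
    spanAt M s X ≤ LinearMap.range ((M.freeHomEquiv.symm s).val.app X).hom := by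
  apply Submodule.span_le.2
  rintro _ ⟨i, rfl⟩
  refine ⟨(SheafOfModules.freeSection (R := R) i).val X, ?_⟩
  have := SheafOfModules.sectionsMap_freeHomEquiv_symm_freeSection (M := M) s i
  exact congrArg (fun σ => σ.val X) this

/-- **generation criterion**: the morphism `free I ⟶ M` attached to sections `s i` is an epimorphism iff
every section of `M` is locally a linear combination of the `s i`. -/
theorem epi_freeHom_iff :
    Epi (M.freeHomEquiv.symm s) ↔ ∀ (X : Cᵒᵖ) (t : M.val.obj X), InLocSpan M s X t := by
  constructor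
  · intro h X t
    haveI : Epi ((subSh M s).freeHomEquiv.symm (liftSec M s) ≫ subι M s) := by
      rw [freeHom_fac]; exact h
    haveI : Epi (subι M s) := epi_of_epi ((subSh M s).freeHomEquiv.symm (liftSec M s)) _
    haveI : IsIso (subι M s) := isIso_of_mono_of_epi _
    haveI : IsIso ((SheafOfModules.forget R).map (subι M s)) := inferInstance
    haveI : IsIso ((PresheafOfModules.evaluation R.obj X).map
        ((SheafOfModules.forget R).map (subι M s))) := inferInstance
    have hsurj : Function.Surjective ((subι M s).val.app X).hom :=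
      ((ModuleCat.epi_iff_surjective _).1 (inferInstanceAs (Epi ((PresheafOfModules.evaluation R.obj X).map
        ((SheafOfModules.forget R).map (subι M s))))))
    obtain ⟨t', rfl⟩ := hsurj t
    exact t'.2
  · intro h
    apply Groth.Agent.Lib.Helper21.RestrExact.epi_of_isLocallySurjective
    constructor
    intro X t
    obtain ⟨S, hS, hSt⟩ := h (op X) t
    refine J.superset_covering ?_ hS
    intro Y f hf
    obtain ⟨e, he⟩ := spanAt_le_range M s (op Y) (hSt f hf)
    exact ⟨e, he⟩

end span

section exact

/-- sections over `X` as a functor to `R(X)`-modules -/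
noncomputable abbrev ev (X : Cᵒᵖ) : SheafOfModules.{u} R ⥤ ModuleCat.{u} (R.obj.obj X) :=
  SheafOfModules.forget R ⋙ PresheafOfModules.evaluation R.obj X

instance (X : Cᵒᵖ) : PreservesLimits (ev (R := R) X) := by
  haveI : (SheafOfModules.forget.{u} R).IsRightAdjoint :=
    (PresheafOfModules.sheafificationAdjunction (𝟙 R.obj)).isRightAdjoint
  haveI : PreservesLimits (SheafOfModules.forget.{u} R) := inferInstance
  exact comp_preservesLimits _ _

instance (X : Cᵒᵖ) : (ev (R := R) X).Additive := by
  unfold ev; infer_instance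

theorem injective_app_of_mono {M N : SheafOfModules.{u} R} (f : M ⟶ N) [Mono f] (X : Cᵒᵖ) :
    Function.Injective (f.val.app X).hom := by
  haveI : Mono ((ev X).map f) := inferInstance
  exact (ModuleCat.mono_iff_injective ((ev X).map f)).1 inferInstance

theorem mono_of_injective_app {M N : SheafOfModules.{u} R} (f : M ⟶ N)
    (h : ∀ X : Cᵒᵖ, Function.Injective (f.val.app X).hom) : Mono f :=
  (SheafOfModules.forget R).mono_of_mono_map
    (PresheafOfModules.mono_of_injective (f := f.val) (fun X => h X))

theorem mono_iff_injective_app {M N : SheafOfModules.{u} R} (f : M ⟶ N) :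
    Mono f ↔ ∀ X : Cᵒᵖ, Function.Injective (f.val.app X).hom :=
  ⟨fun _ X => injective_app_of_mono f X, mono_of_injective_app f⟩

theorem bijective_app_of_isIso {M N : SheafOfModules.{u} R} (f : M ⟶ N) [IsIso f] (X : Cᵒᵖ) :
    Function.Bijective (f.val.app X).hom := by
  haveI : IsIso ((ev X).map f) := inferInstance
  exact (ConcreteCategory.isIso_iff_bijective ((ev X).map f)).1 inferInstance

/-- epimorphisms are the locally surjective maps -/
theorem epi_iff_locSurj {M N : SheafOfModules.{u} R} (f : M ⟶ N) :
    Epi f ↔ ∀ (X : Cᵒᵖ) (t : N.val.obj X), ∃ S ∈ J X.unop, ∀ ⦃Y : C⦄ (g : Y ⟶ X.unop), S.arrows g →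
      ∃ a : M.val.obj (op Y), (f.val.app (op Y)).hom a = N.val.map g.op t := by
  constructor
  · intro h X t
    have h1 := Groth.Agent.Lib.Helper4.ModEpi.isLocallySurjective_of_epi f
    exact ⟨_, h1.imageSieve_mem (U := X.unop) t, fun Y g hg => hg⟩
  · intro h
    apply Groth.Agent.Lib.Helper21.RestrExact.epi_of_isLocallySurjective
    constructor
    intro X t
    obtain ⟨S, hS, hSt⟩ := h (op X) t
    exact J.superset_covering (fun Y g hg => hSt g hg) hS

/-- left exactness on sections -/
theorem exists_app_eq_of_exact_of_mono (S : ShortComplex (SheafOfModules.{u} R)) (hS : S.Exact)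
    [Mono S.f] (X : Cᵒᵖ) (t : S.X₂.val.obj X) (ht : (S.g.val.app X).hom t = 0) :
    ∃ a : S.X₁.val.obj X, (S.f.val.app X).hom a = t := by
  have h1 : (S.map (ev X)).Exact := hS.map_of_mono_of_preservesKernel _ inferInstance inferInstance
  rw [ShortComplex.moduleCat_exact_iff] at h1
  exact h1 t ht

/-- exactness on sections, locally -/
theorem exists_locally_app_eq_of_exact (S : ShortComplex (SheafOfModules.{u} R)) (hS : S.Exact)
    (X : Cᵒᵖ) (t : S.X₂.val.obj X) (ht : (S.g.val.app X).hom t = 0) :
    ∃ T ∈ J X.unop, ∀ ⦃Y : C⦄ (g : Y ⟶ X.unop), T.arrows g →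
      ∃ a : S.X₁.val.obj (op Y), (S.f.val.app (op Y)).hom a = S.X₂.val.map g.op t := by
  -- `t` comes from the kernel of `g`
  let S' : ShortComplex (SheafOfModules.{u} R) := ShortComplex.mk (kernel.ι S.g) S.g (kernel.condition _)
  have hS' : S'.Exact := ShortComplex.exact_of_f_is_kernel _ (kernelIsKernel S.g)
  haveI : Mono S'.f := inferInstanceAs (Mono (kernel.ι S.g))
  obtain ⟨k, hk⟩ := exists_app_eq_of_exact_of_mono S' hS' X t ht
  haveI : Epi (kernel.lift S.g S.f S.zero) := by
    have := hS.epi_kernelLift
    exact this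
  obtain ⟨T, hT, hTk⟩ := (epi_iff_locSurj (kernel.lift S.g S.f S.zero)).1 inferInstance X k
  refine ⟨T, hT, fun Y g hg => ?_⟩
  obtain ⟨a, ha⟩ := hTk g hg
  refine ⟨a, ?_⟩
  have h2 : S.f = kernel.lift S.g S.f S.zero ≫ kernel.ι S.g := (kernel.lift_ι _ _ _).symm
  have h3 : (S.f.val.app (op Y)).hom a =
      ((kernel.ι S.g).val.app (op Y)).hom (((kernel.lift S.g S.f S.zero).val.app (op Y)).hom a) := by
    conv_lhs => rw [h2]
    rfl
  rw [h3, ha, ← hk]
  exact (PresheafOfModules.naturality_apply (kernel.ι S.g).val g.op k)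

/-- exactness can be checked locally on sections -/
theorem exact_of_locally (S : ShortComplex (SheafOfModules.{u} R))
    (h : ∀ (X : Cᵒᵖ) (t : S.X₂.val.obj X), (S.g.val.app X).hom t = 0 →
      ∃ T ∈ J X.unop, ∀ ⦃Y : C⦄ (g : Y ⟶ X.unop), T.arrows g →
        ∃ a : S.X₁.val.obj (op Y), (S.f.val.app (op Y)).hom a = S.X₂.val.map g.op t) :
    S.Exact := by
  rw [S.exact_iff_epi_kernel_lift, epi_iff_locSurj]
  intro X k
  have hk : (S.g.val.app X).hom (((kernel.ι S.g).val.app X).hom k) = 0 := by
    have h1 : ((kernel.ι S.g ≫ S.g).val.app X).hom k = 0 := by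
      rw [kernel.condition]; rfl
    exact h1
  obtain ⟨T, hT, hTk⟩ := h X _ hk
  refine ⟨T, hT, fun Y g hg => ?_⟩
  obtain ⟨a, ha⟩ := hTk g hg
  refine ⟨a, ?_⟩
  apply injective_app_of_mono (kernel.ι S.g) (op Y)
  have h2 : ((kernel.ι S.g).val.app (op Y)).hom (((kernel.lift S.g S.f S.zero).val.app (op Y)).hom a) =
      (S.f.val.app (op Y)).hom a := by
    have h3 : ((kernel.lift S.g S.f S.zero ≫ kernel.ι S.g).val.app (op Y)).hom a =
        (S.f.val.app (op Y)).hom a := by
      rw [kernel.lift_ι]
    exact h3
  rw [h2, ha]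
  exact (PresheafOfModules.naturality_apply (kernel.ι S.g).val g.op k).symm

end exact

end Groth.Agent.R2.H30.GenSite
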