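import Mathlib
import Groth.Agent.Lib.Helper21LocFact1
import Groth.Agent.Lib.Helper21UnitHom
import Groth.Agent.R2.H30GenSite

/-!
# helper30: sections of finite free sheaves of modules on a site, in coordinates

For a finite type `I`, sections of `free I` over any object are `I`-tuples of sections of the structure sheaf
(`coord`, `comb`), and the morphism `free I ⟶ M` attached to sections `σ i` sends `comb a` to `∑ a i • σ i`.
-/

set_option autoImplicit false
set_option linter.style.haveILetI false
set_option linter.unusedVariables false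
set_option linter.unusedSectionVars false
universe u
open CategoryTheory CategoryTheory.Limits Opposite

namespace Groth.Agent.R2.H30.FreeSec

open Groth.Agent.Lib.Helper21.LocFact Groth.Agent.R2.H30.GenSite

variable {C : Type u} [SmallCategory C] {J : GrothendieckTopology C} (R : Sheaf J RingCat.{u})
  {I : Type u} [Fintype I]

/-- coordinates of a section of `free I` -/
noncomputable def coord (Y : Cᵒᵖ) (c : (SheafOfModules.free (R := R) I).val.obj Y) : I → R.obj.obj Y :=
  fun i => ((πFree R i).val.app Y).hom c

/-- the section of `free I` with given coordinates -/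
noncomputable def comb (Y : Cᵒᵖ) (a : I → R.obj.obj Y) : (SheafOfModules.free (R := R) I).val.obj Y :=
  ∑ i, ((SheafOfModules.ιFree (R := R) i).val.app Y).hom (a i)

theorem app_sum_apply {M N : SheafOfModules.{u} R} {ι : Type*} (S : Finset ι) (f : ι → (M ⟶ N))
    (Y : Cᵒᵖ) (c : M.val.obj Y) :
    ((∑ i ∈ S, f i).val.app Y).hom c = ∑ i ∈ S, ((f i).val.app Y).hom c := by
  classical
  induction S using Finset.induction_on with
  | empty => simp only [Finset.sum_empty]; rfl
  | insert i S hi ih =>
    rw [Finset.sum_insert hi, Finset.sum_insert hi, ← ih]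
    rfl

theorem comb_coord (Y : Cᵒᵖ) (c : (SheafOfModules.free (R := R) I).val.obj Y) :
    comb R Y (coord R Y c) = c := by
  have h := (ffFree R I).sum
  have h2 : ((∑ i, πFree R i ≫ SheafOfModules.ιFree (R := R) i).val.app Y).hom c = c :=
    congrArg (fun φ : SheafOfModules.free (R := R) I ⟶ SheafOfModules.free I =>
      (φ.val.app Y).hom c) h
  rw [app_sum_apply] at h2
  exact h2

theorem coord_comb (Y : Cᵒᵖ) (a : I → R.obj.obj Y) : coord R Y (comb R Y a) = a := by
  classical
  funext j
  unfold coord comb
  rw [map_sum]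
  have h : ∀ i, ((πFree R j).val.app Y).hom (((SheafOfModules.ιFree (R := R) i).val.app Y).hom (a i)) =
      if i = j then a i else 0 := by
    intro i
    have h1 := ιFree_πFree R i j
    have h2 : ((SheafOfModules.ιFree (R := R) i ≫ πFree R j).val.app Y).hom (a i) =
        if i = j then a i else 0 := by
      rw [h1]
      split_ifs <;> rfl
    exact h2
  rw [Finset.sum_congr rfl fun i _ => h i]
  exact (Finset.sum_eq_single j (fun i _ hij => if_neg hij)
    (fun hj => absurd (Finset.mem_univ j) hj)).trans (if_pos rfl)

/-- coordinates, as a linear equivalence -/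
noncomputable def coordₗ (Y : Cᵒᵖ) :
    (SheafOfModules.free (R := R) I).val.obj Y ≃ₗ[R.obj.obj Y] (I → R.obj.obj Y) where
  toFun := coord R Y
  invFun := comb R Y
  left_inv := comb_coord R Y
  right_inv := coord_comb R Y
  map_add' c c' := by
    funext i
    exact map_add ((πFree R i).val.app Y).hom c c'
  map_smul' r c := by
    funext i
    exact map_smul ((πFree R i).val.app Y).hom r c

theorem coord_injective (Y : Cᵒᵖ) : Function.Injective (coord (I := I) R Y) :=
  (coordₗ R Y).injective

theorem comb_injective (Y : Cᵒᵖ) : Function.Injective (comb (I := I) R Y) :=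
  (coordₗ R Y).symm.injective

theorem comb_surjective (Y : Cᵒᵖ) : Function.Surjective (comb (I := I) R Y) :=
  (coordₗ R Y).symm.surjective

theorem comb_add (Y : Cᵒᵖ) (a b : I → R.obj.obj Y) : comb R Y (a + b) = comb R Y a + comb R Y b :=
  map_add (coordₗ R Y).symm a b

theorem comb_smul (Y : Cᵒᵖ) (r : R.obj.obj Y) (a : I → R.obj.obj Y) :
    comb R Y (r • a) = r • comb R Y a :=
  map_smul (coordₗ R Y).symm r a

theorem comb_zero (Y : Cᵒᵖ) : comb (I := I) R Y 0 = 0 := map_zero (coordₗ R Y).symm

theorem comb_sum_smul {K : Type*} [Fintype K] (Y : Cᵒᵖ) (b : K → R.obj.obj Y) (c : K → I → R.obj.obj Y) :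
    comb R Y (fun i => ∑ k, b k * c k i) = ∑ k, b k • comb R Y (c k) := by
  have h3 : (fun i => ∑ k, b k * c k i) = ∑ k, b k • c k := by
    funext i
    simp [Finset.sum_apply, Pi.smul_apply, smul_eq_mul]
  rw [h3]
  have := map_sum (coordₗ R Y).symm (fun k => b k • c k) Finset.univ
  refine this.trans ?_
  refine Finset.sum_congr rfl fun k _ => ?_
  exact map_smul (coordₗ R Y).symm (b k) (c k)

/-- the value of a section at an object, with its module type -/
def sv {M : SheafOfModules.{u} R} (τ : M.sections) (Y : Cᵒᵖ) : M.val.obj Y := τ.val Y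

/-- evaluation of the unit-morphism attached to a section -/
theorem unitHomEquiv_symm_app {M : SheafOfModules.{u} R} (τ : M.sections) (Y : Cᵒᵖ) (a : R.obj.obj Y) :
    ((M.unitHomEquiv.symm τ).val.app Y).hom a = a • sv R τ Y := rfl

/-- the morphism attached to sections `σ i` sends `comb a` to `∑ a i • σ i` -/
theorem app_comb {M : SheafOfModules.{u} R} (σ : I → M.sections) (Y : Cᵒᵖ) (a : I → R.obj.obj Y) :
    ((M.freeHomEquiv.symm σ).val.app Y).hom (comb R Y a) = ∑ i, a i • sv R (σ i) Y := by
  unfold comb
  rw [map_sum]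
  refine Finset.sum_congr rfl fun i _ => ?_
  have h1 : SheafOfModules.ιFree i ≫ M.freeHomEquiv.symm σ = M.unitHomEquiv.symm (σ i) := by
    have := SheafOfModules.unitHomEquiv_symm_freeHomEquiv_apply (M.freeHomEquiv.symm σ) i
    rw [Equiv.apply_symm_apply] at this
    exact this.symm
  have h2 : ((SheafOfModules.ιFree i ≫ M.freeHomEquiv.symm σ).val.app Y).hom (a i) =
      a i • sv R (σ i) Y := by
    rw [h1]
    exact unitHomEquiv_symm_app R (σ i) Y (a i)
  exact h2

/-- morphisms out of `free I` are determined by their values on the sections `comb a` -/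
theorem hom_ext_comb {M : SheafOfModules.{u} R} (f g : SheafOfModules.free (R := R) I ⟶ M)
    (h : ∀ (Y : Cᵒᵖ) (a : I → R.obj.obj Y),
      (f.val.app Y).hom (comb R Y a) = (g.val.app Y).hom (comb R Y a)) : f = g := by
  apply SheafOfModules.hom_ext
  apply PresheafOfModules.hom_ext
  intro Y
  apply ModuleCat.hom_ext
  apply LinearMap.ext
  intro c
  obtain ⟨a, rfl⟩ := comb_surjective R Y c
  exact h Y a

/-- naturality of `comb` -/
theorem map_comb {Y Z : Cᵒᵖ} (f : Y ⟶ Z) (a : I → R.obj.obj Y) :
    (SheafOfModules.free (R := R) I).val.map f (comb R Y a) = comb R Z (fun i => R.obj.map f (a i)) := by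
  unfold comb
  rw [map_sum]
  refine Finset.sum_congr rfl fun i _ => ?_
  exact (PresheafOfModules.naturality_apply (SheafOfModules.ιFree (R := R) i).val f (a i)).symm

/-- naturality of `coord` -/
theorem coord_map {Y Z : Cᵒᵖ} (f : Y ⟶ Z) (c : (SheafOfModules.free (R := R) I).val.obj Y) (i : I) :
    coord R Z ((SheafOfModules.free (R := R) I).val.map f c) i = R.obj.map f (coord R Y c i) :=
  (PresheafOfModules.naturality_apply (πFree R i).val f c)

end Groth.Agent.R2.H30.FreeSec
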