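import Mathlib
import Groth.Prelude.Def_ModSite2
import Groth.Agent.R2.H30GenSite

/-!
# helper30: dictionary for sheaves of modules on a ringed space

Concrete (sections over opens) descriptions of generating sections, epimorphisms, exactness and
finite type for `ModSite.Mod O`, `O` a sheaf of rings on a topological space.
-/

set_option autoImplicit false
set_option linter.style.haveILetI false
set_option linter.unusedVariables false
universe u
open CategoryTheory CategoryTheory.Limits Opposite TopologicalSpace

namespace Groth.Agent.R2.H30.RSDict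

open Groth.Agent.R2.H30.GenSite

variable {X : TopCat.{u}} {O : Sheaf (Opens.grothendieckTopology X) CommRingCat.{u}}

/-- the ring of sections over `U` -/
abbrev Γr (O : Sheaf (Opens.grothendieckTopology X) CommRingCat.{u}) (U : Opens X) : Type u :=
  (ModSite.ringSh O).obj.obj (op U)

/-- restriction of sections of a module -/
noncomputable abbrev res (F : ModSite.Mod O) {U V : Opens X} (h : V ≤ U) (t : F.val.obj (op U)) :
    F.val.obj (op V) :=
  F.val.map (homOfLE h).op t

/-- restriction of sections of the structure sheaf -/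
noncomputable abbrev resR (O : Sheaf (Opens.grothendieckTopology X) CommRingCat.{u}) {U V : Opens X}
    (h : V ≤ U) (a : Γr O U) : Γr O V :=
  (ModSite.ringSh O).obj.map (homOfLE h).op a

section res

variable (F : ModSite.Mod O)

theorem res_res {U V W : Opens X} (h : V ≤ U) (h' : W ≤ V) (t : F.val.obj (op U)) :
    res F h' (res F h t) = res F (h'.trans h) t := by
  have := PresheafOfModules.map_comp F.val (homOfLE h).op (homOfLE h').op
  have h2 := congrArg (fun φ => φ t) (congrArg (fun ψ => (ψ.hom : _ → _)) this)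
  exact h2.symm

theorem resR_resR {U V W : Opens X} (h : V ≤ U) (h' : W ≤ V) (a : Γr O U) :
    resR O h' (resR O h a) = resR O (h'.trans h) a := by
  have := (ModSite.ringSh O).obj.map_comp (homOfLE h).op (homOfLE h').op
  exact (congrArg (fun φ => (φ.hom : _ → _) a) this).symm

theorem resR_self {U : Opens X} (a : Γr O U) : resR O (le_refl U) a = a := by
  have := (ModSite.ringSh O).obj.map_id (op U)
  exact congrArg (fun φ => (φ.hom : _ → _) a) this

theorem res_self {U : Opens X} (t : F.val.obj (op U)) : res F (le_refl U) t = t := by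
  have := PresheafOfModules.map_id F.val (op U)
  have h2 := congrArg (fun φ => φ t) (congrArg (fun ψ => (ψ.hom : _ → _)) this)
  exact h2

theorem res_add {U V : Opens X} (h : V ≤ U) (t t' : F.val.obj (op U)) :
    res F h (t + t') = res F h t + res F h t' := map_add _ _ _

theorem res_zero {U V : Opens X} (h : V ≤ U) : res F h (0 : F.val.obj (op U)) = 0 := map_zero _

theorem res_sub {U V : Opens X} (h : V ≤ U) (t t' : F.val.obj (op U)) :
    res F h (t - t') = res F h t - res F h t' := map_sub _ _ _

theorem res_neg {U V : Opens X} (h : V ≤ U) (t : F.val.obj (op U)) :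
    res F h (-t) = -res F h t := map_neg _ _

theorem res_smul {U V : Opens X} (h : V ≤ U) (a : Γr O U) (t : F.val.obj (op U)) :
    res F h (a • t) = resR O h a • res F h t :=
  PresheafOfModules.map_smul F.val (homOfLE h).op a t

theorem res_sum {U V : Opens X} (h : V ≤ U) {ι : Type*} (S : Finset ι) (t : ι → F.val.obj (op U)) :
    res F h (∑ i ∈ S, t i) = ∑ i ∈ S, res F h (t i) := map_sum _ _ _

theorem app_res {F G : ModSite.Mod O} (φ : F ⟶ G) {U V : Opens X} (h : V ≤ U) (t : F.val.obj (op U)) :
    (φ.val.app (op V)).hom (res F h t) = res G h ((φ.val.app (op U)).hom t) :=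
  (PresheafOfModules.naturality_apply φ.val (homOfLE h).op t)

end res

section overSite

variable (F : ModSite.Mod O) (U : Opens X)

/-- the object of `Over U` given by an open `V ≤ U` -/
abbrev ov {U V : Opens X} (h : V ≤ U) : Over U := Over.mk (homOfLE h)

/-- the section of `F.over U` given by a section of `F` over `U` -/
noncomputable def secOver (t : F.val.obj (op U)) : (F.over U).sections :=
  PresheafOfModules.sectionsMk (M := (F.over U).val) (fun Y => res F Y.unop.hom.le t)
    (fun Y Z g => by
      have := res_res F Y.unop.hom.le g.unop.left.le t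
      exact this)

theorem secOver_val (t : F.val.obj (op U)) (Y : (Over U)ᵒᵖ) :
    (secOver F U t).val Y = res F Y.unop.hom.le t := rfl

/-- the morphism `free I ⟶ F|_U` given by sections `s i` of `F` over `U` -/
noncomputable def genHom {I : Type u} (s : I → F.val.obj (op U)) :
    SheafOfModules.free I ⟶ F.over U :=
  (F.over U).freeHomEquiv.symm (fun i => secOver F U (s i))

/-- the sections `s i ∈ F(U)` locally span `F|_U` -/
def LocSpan {I : Type*} (s : I → F.val.obj (op U)) : Prop :=
  ∀ (V : Opens X) (hV : V ≤ U) (t : F.val.obj (op V)) (y : X), y ∈ V →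
    ∃ (W : Opens X) (hW : W ≤ V), y ∈ W ∧
      res F hW t ∈ Submodule.span (Γr O W) (Set.range fun i => res F (hW.trans hV) (s i))

variable {F U}

theorem locSpan_of_epi {I : Type u} {s : I → F.val.obj (op U)} (h : Epi (genHom F U s)) :
    LocSpan F U s := by
  intro V hV t y hy
  have h1 := (epi_freeHom_iff (F.over U) (fun i => secOver F U (s i))).1 h (op (ov hV)) t
  obtain ⟨S, hS, hSt⟩ := h1
  rw [GrothendieckTopology.mem_over_iff] at hS
  obtain ⟨W, f, hf, hyW⟩ := hS y hy
  rw [Sieve.overEquiv_iff] at hf
  refine ⟨W, f.le, hyW, ?_⟩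
  exact hSt _ hf

theorem epi_of_locSpan {I : Type u} {s : I → F.val.obj (op U)} (h : LocSpan F U s) :
    Epi (genHom F U s) := by
  refine (epi_freeHom_iff (F.over U) (fun i => secOver F U (s i))).2 ?_
  intro Y t
  refine (inLocSpan_iff_spanSieve _ _ Y.unop t).2 ?_
  rw [GrothendieckTopology.mem_over_iff]
  intro y hy
  obtain ⟨W, hW, hyW, hmem⟩ := h Y.unop.left Y.unop.hom.le t y hy
  refine ⟨W, homOfLE hW, ?_, hyW⟩
  rw [Sieve.overEquiv_iff]
  exact hmem

theorem epi_genHom_iff {I : Type u} (s : I → F.val.obj (op U)) :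
    Epi (genHom F U s) ↔ LocSpan F U s :=
  ⟨locSpan_of_epi, epi_of_locSpan⟩

theorem LocSpan.of_range_subset {I I' : Type*} {s : I → F.val.obj (op U)} {s' : I' → F.val.obj (op U)}
    (h : LocSpan F U s) (hr : Set.range s ⊆ Set.range s') : LocSpan F U s' := by
  intro V hV t y hy
  obtain ⟨W, hW, hyW, hmem⟩ := h V hV t y hy
  refine ⟨W, hW, hyW, Submodule.span_mono ?_ hmem⟩
  rintro _ ⟨i, rfl⟩
  obtain ⟨j, hj⟩ := hr ⟨i, rfl⟩
  exact ⟨j, congrArg (fun z => RSDict.res F (hW.trans hV) z) hj⟩

/-- restriction of a locally spanning family to a smaller open -/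
theorem LocSpan.res {I : Type*} {s : I → F.val.obj (op U)} (h : LocSpan F U s) {U' : Opens X}
    (hU' : U' ≤ U) : LocSpan F U' (fun i => res F hU' (s i)) := by
  intro V hV t y hy
  obtain ⟨W, hW, hyW, hmem⟩ := h V (hV.trans hU') t y hy
  refine ⟨W, hW, hyW, ?_⟩
  convert hmem using 3
  funext i
  exact res_res F hU' (hW.trans hV) (s i)

/-- every section of `F.over U` comes from a section of `F` over `U` -/
theorem eq_secOver (σ : (F.over U).sections) :
    σ = secOver F U (σ.val (op (Over.mk (𝟙 U)))) := by
  ext Y
  have := PresheafOfModules.sections_property σ (X := op (Over.mk (𝟙 U))) (Y := Y)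
    (Over.homMk Y.unop.hom (by simp) : Y.unop ⟶ Over.mk (𝟙 U)).op
  exact this.symm

end overSite

section epi

variable {F G : ModSite.Mod O}

/-- `φ|_U` is an epimorphism iff `φ` is locally surjective over `U` -/
theorem epi_restr_iff (φ : F ⟶ G) (U : Opens X) :
    Epi ((ModSite.restr O U).map φ) ↔
      ∀ (V : Opens X) (hV : V ≤ U) (t : G.val.obj (op V)) (y : X), y ∈ V →
        ∃ (W : Opens X) (hW : W ≤ V), y ∈ W ∧
          ∃ a : F.val.obj (op W), (φ.val.app (op W)).hom a = res G hW t := by
  rw [epi_iff_locSurj]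
  constructor
  · intro h V hV t y hy
    obtain ⟨S, hS, hSt⟩ := h (op (ov hV)) t
    rw [GrothendieckTopology.mem_over_iff] at hS
    obtain ⟨W, f, hf, hyW⟩ := hS y hy
    rw [Sieve.overEquiv_iff] at hf
    obtain ⟨a, ha⟩ := hSt _ hf
    exact ⟨W, f.le, hyW, a, ha⟩
  · intro h Y t
    let S : Sieve Y.unop :=
      { arrows := fun Z g => ∃ a : F.val.obj (op Z.left),
          (φ.val.app (op Z.left)).hom a = G.val.map g.left.op t
        downward_closed := by
          rintro Z Z' g ⟨a, ha⟩ g'
          refine ⟨F.val.map g'.left.op a, ?_⟩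
          have h1 := PresheafOfModules.naturality_apply φ.val g'.left.op a
          have h2 := PresheafOfModules.map_comp G.val g.left.op g'.left.op
          exact h1.trans ((congrArg (fun z => G.val.map g'.left.op z) ha).trans
            (congrArg (fun ψ => (ψ.hom : _ → _) t) h2).symm) }
    refine ⟨S, ?_, fun Z g hg => hg⟩
    rw [GrothendieckTopology.mem_over_iff]
    intro y hy
    obtain ⟨W, hW, hyW, a, ha⟩ := h Y.unop.left Y.unop.hom.le t y hy
    refine ⟨W, homOfLE hW, ?_, hyW⟩
    rw [Sieve.overEquiv_iff]
    exact ⟨a, ha⟩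

/-- epimorphisms of `O`-modules are the locally surjective maps -/
theorem epi_iff (φ : F ⟶ G) :
    Epi φ ↔ ∀ (V : Opens X) (t : G.val.obj (op V)) (y : X), y ∈ V →
        ∃ (W : Opens X) (hW : W ≤ V), y ∈ W ∧
          ∃ a : F.val.obj (op W), (φ.val.app (op W)).hom a = res G hW t := by
  rw [epi_iff_locSurj]
  constructor
  · intro h V t y hy
    obtain ⟨S, hS, hSt⟩ := h (op V) t
    obtain ⟨W, f, hf, hyW⟩ := hS y hy
    obtain ⟨a, ha⟩ := hSt _ hf
    exact ⟨W, f.le, hyW, a, ha⟩
  · intro h Y t
    let S : Sieve Y.unop :=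
      { arrows := fun Z g => ∃ a : F.val.obj (op Z),
          (φ.val.app (op Z)).hom a = G.val.map g.op t
        downward_closed := by
          rintro Z Z' g ⟨a, ha⟩ g'
          refine ⟨F.val.map g'.op a, ?_⟩
          have h1 := PresheafOfModules.naturality_apply φ.val g'.op a
          have h2 := PresheafOfModules.map_comp G.val g.op g'.op
          exact h1.trans ((congrArg (fun z => G.val.map g'.op z) ha).trans
            (congrArg (fun ψ => (ψ.hom : _ → _) t) h2).symm) }
    refine ⟨S, ?_, fun Z g hg => hg⟩
    intro y hy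
    obtain ⟨W, hW, hyW, a, ha⟩ := h Y.unop t y hy
    exact ⟨W, homOfLE hW, ⟨a, ha⟩, hyW⟩

/-- if the image of `φ` contains a locally spanning family over `U`, then `φ|_U` is an epimorphism -/
theorem epi_restr_of_locSpan (φ : F ⟶ G) {U : Opens X} {I : Type*} (s : I → G.val.obj (op U))
    (hs : LocSpan G U s) (g : I → F.val.obj (op U)) (hg : ∀ i, (φ.val.app (op U)).hom (g i) = s i) :
    Epi ((ModSite.restr O U).map φ) := by
  rw [epi_restr_iff]
  intro V hV t y hy
  obtain ⟨W, hW, hyW, hmem⟩ := hs V hV t y hy
  refine ⟨W, hW, hyW, ?_⟩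
  have hle : Submodule.span (Γr O W) (Set.range fun i => res G (hW.trans hV) (s i)) ≤
      LinearMap.range (φ.val.app (op W)).hom := by
    apply Submodule.span_le.2
    rintro _ ⟨i, rfl⟩
    exact ⟨res F (hW.trans hV) (g i), by rw [app_res, hg]⟩
  exact hle hmem

/-- finitely many open neighbourhoods of a point have a common refinement -/
theorem exists_nbhd_le {ι : Type*} [Finite ι] (x : X) (W : ι → Opens X) (hW : ∀ i, x ∈ W i) :
    ∃ W' : Opens X, x ∈ W' ∧ ∀ i, W' ≤ W i := by
  classical
  haveI := Fintype.ofFinite ι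
  refine ⟨Finset.univ.inf W, ?_, fun i => Finset.inf_le (Finset.mem_univ i)⟩
  have : (x : X) ∈ ((Finset.univ.inf W : Opens X) : Set X) := by
    rw [Opens.coe_finset_inf]
    simp only [Finset.inf_set_eq_iInter, Set.mem_iInter]
    intro i _
    exact hW i
  exact this

end epi

section finiteType

variable (F : ModSite.Mod O)

/-- generating sections of `F|_U` from a locally spanning family -/
noncomputable def genSections {U : Opens X} {I : Type u} (s : I → F.val.obj (op U))
    (h : LocSpan F U s) : (F.over U).GeneratingSections where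
  I := I
  s := fun i => secOver F U (s i)
  epi := epi_of_locSpan h

/-- a generating family of sections of `F|_U` is a locally spanning family of sections over `U` -/
theorem locSpan_of_generatingSections {U : Opens X} (σ : (F.over U).GeneratingSections) :
    LocSpan F U (fun i : σ.I => (σ.s i).val (op (Over.mk (𝟙 U)))) := by
  apply locSpan_of_epi
  have : (fun i => secOver F U ((σ.s i).val (op (Over.mk (𝟙 U))))) = σ.s :=
    funext fun i => (eq_secOver (σ.s i)).symm
  unfold genHom
  rw [this]
  exact σ.epi

theorem coversTop_iff {ι : Type*} (V : ι → Opens X) :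
    (Opens.grothendieckTopology X).CoversTop V ↔ ∀ x : X, ∃ i, x ∈ V i := by
  constructor
  · intro h x
    obtain ⟨W, f, hf, hxW⟩ := h ⊤ x trivial
    obtain ⟨i, ⟨g⟩⟩ := (Sieve.mem_ofObjects_iff ..).1 hf
    exact ⟨i, g.le hxW⟩
  · intro h W x hx
    obtain ⟨i, hi⟩ := h x
    exact ⟨W ⊓ V i, homOfLE inf_le_left, (Sieve.mem_ofObjects_iff ..).2 ⟨i, ⟨homOfLE inf_le_right⟩⟩,
      ⟨hx, hi⟩⟩

/-- **locally generated by sections**, concretely -/
theorem nonempty_localGeneratorsData_iff :
    Nonempty (SheafOfModules.LocalGeneratorsData.{u} (R := ModSite.ringSh O) F) ↔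
      ∀ x : X, ∃ (U : Opens X) (_ : x ∈ U) (I : Type u) (s : I → F.val.obj (op U)), LocSpan F U s := by
  constructor
  · rintro ⟨σ⟩ x
    obtain ⟨i, hi⟩ := (coversTop_iff σ.X).1 σ.coversTop x
    exact ⟨σ.X i, hi, _, _, locSpan_of_generatingSections F (σ.generators i)⟩
  · intro h
    choose U hxU I s hs using h
    exact ⟨{ I := (X : Type u)
             X := U
             coversTop := (coversTop_iff U).2 fun x => ⟨x, hxU x⟩
             generators := fun x => genSections F (s x) (hs x) }⟩

/-- **finite type**, concretely -/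
theorem isFiniteType_iff :
    SheafOfModules.IsFiniteType (R := ModSite.ringSh O) F ↔
      ∀ x : X, ∃ (U : Opens X) (_ : x ∈ U) (n : ℕ) (s : Fin n → F.val.obj (op U)), LocSpan F U s := by
  constructor
  · rintro ⟨σ, hσ⟩ x
    obtain ⟨i, hi⟩ := (coversTop_iff σ.X).1 σ.coversTop x
    haveI : Finite (σ.generators i).I := (hσ.isFiniteType i).finite
    obtain ⟨n, ⟨e⟩⟩ := Finite.exists_equiv_fin (σ.generators i).I
    refine ⟨σ.X i, hi, n, fun j => ((σ.generators i).s (e.symm j)).val (op (Over.mk (𝟙 _))), ?_⟩
    refine (locSpan_of_generatingSections F (σ.generators i)).of_range_subset ?_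
    rintro _ ⟨j, rfl⟩
    exact ⟨e j, by simp⟩
  · intro h
    choose U hxU n s hs using h
    let σ : SheafOfModules.LocalGeneratorsData.{u} (R := ModSite.ringSh O) F :=
      { I := (X : Type u)
        X := U
        coversTop := (coversTop_iff U).2 fun x => ⟨x, hxU x⟩
        generators := fun x => genSections F (fun i : ULift.{u} (Fin (n x)) => s x i.down)
          ((hs x).of_range_subset (by rintro _ ⟨j, rfl⟩; exact ⟨⟨j⟩, rfl⟩)) }
    have hσ : σ.IsFiniteType :=
      { isFiniteType := fun x =>
          { finite := (inferInstance : Finite (ULift.{u} (Fin (n x)))) } }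
    exact { exists_localGeneratorsData := ⟨σ, hσ⟩ }

/-- finite type from locally spanning families indexed by arbitrary finite types -/
theorem isFiniteType_of_locSpan.{w}
    (h : ∀ x : X, ∃ (U : Opens X) (_ : x ∈ U) (I : Type w) (_ : Finite I) (s : I → F.val.obj (op U)),
      LocSpan F U s) :
    SheafOfModules.IsFiniteType (R := ModSite.ringSh O) F := by
  rw [isFiniteType_iff]
  intro x
  obtain ⟨U, hxU, I, hI, s, hs⟩ := h x
  obtain ⟨n, ⟨e⟩⟩ := Finite.exists_equiv_fin I
  refine ⟨U, hxU, n, fun j => s (e.symm j), hs.of_range_subset ?_⟩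
  rintro _ ⟨i, rfl⟩
  exact ⟨e i, by simp⟩

end finiteType

section spanLemmas

variable {F G : ModSite.Mod O}

/-- restriction preserves membership in spans of restricted sections -/
theorem res_mem_span {U W W' : Opens X} {I : Type*} (s : I → F.val.obj (op U)) (hW : W ≤ U)
    (hW' : W' ≤ W) {z : F.val.obj (op W)}
    (hz : z ∈ Submodule.span (Γr O W) (Set.range fun i => res F hW (s i))) :
    res F hW' z ∈ Submodule.span (Γr O W') (Set.range fun i => res F (hW'.trans hW) (s i)) := by
  induction hz using Submodule.span_induction with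
  | mem x hx =>
    obtain ⟨i, rfl⟩ := hx
    exact Submodule.subset_span ⟨i, (res_res F hW hW' (s i)).symm⟩
  | zero => rw [res_zero]; exact Submodule.zero_mem _
  | add x y _ _ hx hy => rw [res_add]; exact Submodule.add_mem _ hx hy
  | smul a x _ hx => rw [res_smul]; exact Submodule.smul_mem _ _ hx

/-- a morphism maps spans into spans -/
theorem app_mem_span (φ : F ⟶ G) {W : Opens X} {I : Type*} (v : I → F.val.obj (op W))
    {z : F.val.obj (op W)} (hz : z ∈ Submodule.span (Γr O W) (Set.range v)) :
    (φ.val.app (op W)).hom z ∈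
      Submodule.span (Γr O W) (Set.range fun i => (φ.val.app (op W)).hom (v i)) := by
  induction hz using Submodule.span_induction with
  | mem x hx =>
    obtain ⟨i, rfl⟩ := hx
    exact Submodule.subset_span ⟨i, rfl⟩
  | zero => rw [map_zero]; exact Submodule.zero_mem _
  | add x y _ _ hx hy => rw [map_add]; exact Submodule.add_mem _ hx hy
  | smul a x _ hx => rw [map_smul]; exact Submodule.smul_mem _ _ hx

end spanLemmas

end Groth.Agent.R2.H30.RSDict
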