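import Mathlib
import Groth.Prelude.Def_ModSite2
import Groth.Agent.R2.H30RSDict
import Groth.Agent.R2.H30FreeSec

/-!
# helper30: finite free modules and finite presentation on a ringed space, concretely
-/

set_option autoImplicit false
set_option linter.style.haveILetI false
set_option linter.unusedVariables false
set_option linter.unusedSectionVars false
universe u
open CategoryTheory CategoryTheory.Limits Opposite TopologicalSpace

namespace Groth.Agent.R2.H30.RSFree

open Groth.Agent.R2.H30.GenSite Groth.Agent.R2.H30.RSDict Groth.Agent.R2.H30.FreeSec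

variable {X : TopCat.{u}} {O : Sheaf (Opens.grothendieckTopology X) CommRingCat.{u}}

section basis

variable (F : ModSite.Mod O) (U : Opens X) {I : Type u} [Fintype I] (s : I → F.val.obj (op U))

/-- the structure sheaf of the localised site -/
abbrev RU (O : Sheaf (Opens.grothendieckTopology X) CommRingCat.{u}) (U : Opens X) :
    Sheaf ((Opens.grothendieckTopology X).over U) RingCat.{u} := (ModSite.ringSh O).over U

theorem genHom_comb (Y : (Over U)ᵒᵖ) (a : I → Γr O Y.unop.left) :
    ((genHom F U s).val.app Y).hom (comb (RU O U) Y a) =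
      ∑ i, a i • res F Y.unop.hom.le (s i) := by
  have := app_comb (RU O U) (M := F.over U) (fun i => secOver F U (s i)) Y a
  exact this

/-- `s` is a basis of `F|_U` -/
structure IsBasis : Prop where
  span : LocSpan F U s
  indep : ∀ (V : Opens X) (hV : V ≤ U) (a : I → Γr O V), ∑ i, a i • res F hV (s i) = 0 → a = 0

variable {F U s}

theorem isIso_genHom_of_isBasis (h : IsBasis F U s) : IsIso (genHom F U s) := by
  haveI : Epi (genHom F U s) := epi_of_locSpan h.span
  haveI : Mono (genHom F U s) := by
    apply mono_of_injective_app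
    intro Y
    rw [injective_iff_map_eq_zero]
    intro c hc
    obtain ⟨a, rfl⟩ := comb_surjective (RU O U) Y c
    rw [genHom_comb] at hc
    have := h.indep Y.unop.left Y.unop.hom.le a hc
    rw [this]
    exact comb_zero (RU O U) Y
  exact isIso_of_mono_of_epi _

theorem isBasis_of_isIso_genHom (h : IsIso (genHom F U s)) : IsBasis F U s := by
  refine ⟨locSpan_of_epi inferInstance, ?_⟩
  intro V hV a ha
  have h1 := genHom_comb F U s (op (ov hV)) a
  have h2 : ((genHom F U s).val.app (op (ov hV))).hom (comb (RU O U) (op (ov hV)) a) = 0 := h1.trans ha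
  have h3 := (bijective_app_of_isIso (genHom F U s) (op (ov hV))).1
  have h4 : comb (RU O U) (op (ov hV)) a = 0 := h3 (h2.trans (map_zero _).symm)
  have h5 := congrArg (coord (RU O U) (op (ov hV))) h4
  rw [coord_comb] at h5
  rw [h5]
  exact map_zero (coordₗ (RU O U) (op (ov hV)))

theorem isIso_genHom_iff : IsIso (genHom F U s) ↔ IsBasis F U s :=
  ⟨isBasis_of_isIso_genHom, isIso_genHom_of_isBasis⟩

theorem exists_isBasis_of_iso (e : (ModSite.restr O U).obj F ≅ SheafOfModules.free I) :
    ∃ s : I → F.val.obj (op U), IsBasis F U s := by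
  let σ : I → (F.over U).sections := (F.over U).freeHomEquiv e.inv
  refine ⟨fun i => (σ i).val (op (Over.mk (𝟙 U))), ?_⟩
  apply isBasis_of_isIso_genHom
  have h1 : (fun i => secOver F U ((σ i).val (op (Over.mk (𝟙 U))))) = σ :=
    funext fun i => (eq_secOver (σ i)).symm
  have h2 : genHom F U (fun i => (σ i).val (op (Over.mk (𝟙 U)))) = e.inv := by
    unfold genHom
    rw [h1]
    exact (F.over U).freeHomEquiv.symm_apply_apply e.inv
  rw [h2]
  infer_instance

theorem nonempty_iso_free_of_isBasis (h : IsBasis F U s) :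
    Nonempty ((ModSite.restr O U).obj F ≅ SheafOfModules.free I) :=
  haveI := isIso_genHom_of_isBasis h
  ⟨(asIso (genHom F U s)).symm⟩

theorem nonempty_iso_free_iff :
    Nonempty ((ModSite.restr O U).obj F ≅ SheafOfModules.free I) ↔
      ∃ s : I → F.val.obj (op U), IsBasis F U s :=
  ⟨fun ⟨e⟩ => exists_isBasis_of_iso e, fun ⟨s, h⟩ => nonempty_iso_free_of_isBasis h⟩

end basis

section cover

/-- covering sieves of the localised site from pointwise local data -/
theorem exists_cover_over {U : Opens X} (Y : Over U) (P : ∀ ⦃Z : Over U⦄, (Z ⟶ Y) → Prop)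
    (hP : ∀ ⦃Z Z' : Over U⦄ (g : Z ⟶ Y) (g' : Z' ⟶ Z), P g → P (g' ≫ g))
    (h : ∀ y ∈ Y.left, ∃ (W : Opens X) (hW : W ≤ Y.left), y ∈ W ∧
      P (Over.homMk (homOfLE hW) : ov (hW.trans Y.hom.le) ⟶ Y)) :
    ∃ T ∈ ((Opens.grothendieckTopology X).over U) Y, ∀ ⦃Z : Over U⦄ (g : Z ⟶ Y), T.arrows g → P g := by
  let T : Sieve Y := { arrows := fun Z g => P g, downward_closed := fun {Z Z'} g hg g' => hP g g' hg }
  refine ⟨T, ?_, fun Z g hg => hg⟩
  rw [GrothendieckTopology.mem_over_iff]
  intro y hy
  obtain ⟨W, hW, hyW, hPW⟩ := h y hy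
  refine ⟨W, homOfLE hW, ?_, hyW⟩
  rw [Sieve.overEquiv_iff]
  exact hPW

end cover

section pres

variable (F : ModSite.Mod O) (U : Opens X)

/-- a finite presentation of `F|_U` by sections over `U` and relations with coefficients over `U` -/
structure LocPres (I₀ I₁ : Type u) [Fintype I₀] [Fintype I₁] where
  /-- generators -/
  s : I₀ → F.val.obj (op U)
  span : LocSpan F U s
  /-- relations -/
  r : I₁ → I₀ → Γr O U
  rel : ∀ k, ∑ i, r k i • s i = 0
  relSpan : ∀ (V : Opens X) (hV : V ≤ U) (a : I₀ → Γr O V), ∑ i, a i • res F hV (s i) = 0 →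
    ∀ y ∈ V, ∃ (W : Opens X) (hW : W ≤ V), y ∈ W ∧
      (fun i => resR O hW (a i)) ∈
        Submodule.span (Γr O W) (Set.range fun k => fun i => resR O (hW.trans hV) (r k i))

variable {F U} {I₀ I₁ : Type u} [Fintype I₀] [Fintype I₁]

/-- the terminal object of `Over U` -/
abbrev T (U : Opens X) : Over U := Over.mk (𝟙 U)

/-- `T U` is terminal -/
noncomputable def hT (U : Opens X) : IsTerminal (T U) := Over.mkIdTerminal

open Groth.Agent.Lib.Helper21.UnitHom in
/-- the global section of `free I₀` over `U` with coordinates `c` -/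
noncomputable def freeSec (c : I₀ → Γr O U) : (SheafOfModules.free (R := RU O U) I₀).sections :=
  secOf (hT U) (SheafOfModules.free (R := RU O U) I₀) (comb (RU O U) (op (T U)) c)

theorem freeSec_val (c : I₀ → Γr O U) (Y : (Over U)ᵒᵖ) :
    (freeSec (I₀ := I₀) c).val Y = comb (RU O U) Y (fun i => resR O Y.unop.hom.le (c i)) := by
  have h1 := map_comb (RU O U) ((hT U).from Y.unop).op c
  exact h1

/-- the morphism `free I₁ ⟶ free I₀` with matrix `r` -/
noncomputable def relHom (r : I₁ → I₀ → Γr O U) :
    SheafOfModules.free (R := RU O U) I₁ ⟶ SheafOfModules.free (R := RU O U) I₀ :=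
  (SheafOfModules.free (R := RU O U) I₀).freeHomEquiv.symm (fun k => freeSec (r k))

theorem relHom_comb (r : I₁ → I₀ → Γr O U) (Y : (Over U)ᵒᵖ) (b : I₁ → Γr O Y.unop.left) :
    ((relHom r).val.app Y).hom (comb (RU O U) Y b) =
      comb (RU O U) Y (fun i => ∑ k, b k * resR O Y.unop.hom.le (r k i)) := by
  have h1 := app_comb (RU O U) (M := SheafOfModules.free (R := RU O U) I₀) (fun k => freeSec (r k)) Y b
  refine h1.trans ?_
  have h2 : ∀ k, sv (RU O U) (freeSec (r k)) Y =
      comb (RU O U) Y (fun i => resR O Y.unop.hom.le (r k i)) := fun k => freeSec_val (r k) Y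
  simp only [h2]
  exact (comb_sum_smul (RU O U) Y b (fun k i => resR O Y.unop.hom.le (r k i))).symm

variable (P : LocPres F U I₀ I₁)

theorem relHom_genHom : relHom P.r ≫ genHom F U P.s = 0 := by
  apply hom_ext_comb
  intro Y (b : I₁ → Γr O Y.unop.left)
  have h1 : ((relHom P.r ≫ genHom F U P.s).val.app Y).hom (comb (RU O U) Y b) =
      ((genHom F U P.s).val.app Y).hom (((relHom P.r).val.app Y).hom (comb (RU O U) Y b)) := rfl
  rw [h1, relHom_comb, genHom_comb]
  have h2 : ∀ k, ∑ i, resR O Y.unop.hom.le (P.r k i) • res F Y.unop.hom.le (P.s i) = 0 := by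
    intro k
    have := congrArg (res F Y.unop.hom.le) (P.rel k)
    rw [res_sum, res_zero] at this
    rw [← this]
    exact Finset.sum_congr rfl fun i _ => (res_smul F _ _ _).symm
  have h3 : ∑ i, (∑ k, b k * resR O Y.unop.hom.le (P.r k i)) • res F Y.unop.hom.le (P.s i) =
      ∑ k, b k • ∑ i, resR O Y.unop.hom.le (P.r k i) • res F Y.unop.hom.le (P.s i) := by
    simp only [Finset.sum_smul, Finset.smul_sum, mul_smul]
    exact Finset.sum_comm
  refine h3.trans ?_
  have h4 : ∑ k, b k • ∑ i, resR O Y.unop.hom.le (P.r k i) • res F Y.unop.hom.le (P.s i) = 0 := by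
    simp only [h2, smul_zero, Finset.sum_const_zero]
  exact h4.trans rfl

/-- the presentation sequence is exact -/
theorem exact_relHom_genHom : (ShortComplex.mk (relHom P.r) (genHom F U P.s) (relHom_genHom P)).Exact := by
  apply exact_of_locally
  intro Y c hc
  obtain ⟨a, rfl⟩ := comb_surjective (RU O U) Y c
  have hc' : ((genHom F U P.s).val.app Y).hom (comb (RU O U) Y a) = 0 := hc
  rw [genHom_comb] at hc'
  refine exists_cover_over Y.unop
    (fun Z g => ∃ d : (SheafOfModules.free (R := RU O U) I₁).val.obj (op Z),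
      ((relHom P.r).val.app (op Z)).hom d =
        (SheafOfModules.free (R := RU O U) I₀).val.map g.op (comb (RU O U) Y a)) ?_ ?_
  · rintro Z Z' g g' ⟨d, hd⟩
    refine ⟨(SheafOfModules.free (R := RU O U) I₁).val.map g'.op d, ?_⟩
    have h1 := PresheafOfModules.naturality_apply (relHom P.r).val g'.op d
    have h2 := PresheafOfModules.map_comp (SheafOfModules.free (R := RU O U) I₀).val g.op g'.op
    exact h1.trans ((congrArg (fun z => (SheafOfModules.free (R := RU O U) I₀).val.map g'.op z) hd).trans
      (congrArg (fun ψ => (ψ.hom : _ → _) (comb (RU O U) Y a)) h2).symm)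
  · intro y hy
    obtain ⟨W, hW, hyW, hmem⟩ := P.relSpan Y.unop.left Y.unop.hom.le a hc' y hy
    obtain ⟨b, hb⟩ := (Submodule.mem_span_range_iff_exists_fun _).1 hmem
    refine ⟨W, hW, hyW, comb (RU O U) (op (ov (hW.trans Y.unop.hom.le))) b, ?_⟩
    rw [relHom_comb, map_comb]
    congr 1
    funext i
    have := congrFun hb i
    simp only [Finset.sum_apply, Pi.smul_apply, smul_eq_mul] at this
    exact this

/-- the Mathlib presentation attached to a concrete presentation -/
noncomputable def LocPres.presentation : (F.over U).Presentation :=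
  haveI : Epi (ShortComplex.mk (relHom P.r) (genHom F U P.s) (relHom_genHom P)).g :=
    epi_of_locSpan P.span
  SheafOfModules.presentationOfIsCokernelFree (relHom P.r) (genHom F U P.s) (relHom_genHom P)
    ((exact_relHom_genHom P).gIsCokernel)

instance : (P.presentation).IsFinite where
  isFiniteType_generators := ⟨inferInstanceAs (Finite I₀)⟩
  isFiniteType_relations := ⟨inferInstanceAs (Finite I₁)⟩

end pres

section ofPresentation

variable {F : ModSite.Mod O} {U : Opens X} (Q : (F.over U).Presentation)
  [Fintype Q.generators.I] [Fintype Q.relations.I]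

/-- the generators of a presentation, as sections over `U` -/
noncomputable def gsec (i : Q.generators.I) : F.val.obj (op U) := (Q.generators.s i).val (op (T U))

theorem π_eq_genHom : Q.generators.π = genHom F U (gsec Q) := by
  have h1 : (fun i => secOver F U (gsec Q i)) = Q.generators.s :=
    funext fun i => (eq_secOver (Q.generators.s i)).symm
  unfold genHom
  rw [h1]

/-- the kernel of the generators map -/
noncomputable abbrev Kq : SheafOfModules.{u} (RU O U) := kernel Q.generators.π

/-- the linear map from sections of the kernel to coordinate vectors -/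
noncomputable def Lq (Y : (Over U)ᵒᵖ) : (Kq Q).val.obj Y →ₗ[(RU O U).obj.obj Y] (Q.generators.I → (RU O U).obj.obj Y) :=
  (coordₗ (RU O U) Y).toLinearMap.comp ((kernel.ι Q.generators.π).val.app Y).hom

/-- naturality of `Lq` -/
theorem Lq_map {Y Z : (Over U)ᵒᵖ} (f : Y ⟶ Z) (κ : (Kq Q).val.obj Y) (i : Q.generators.I) :
    Lq Q Z ((Kq Q).val.map f κ) i = (RU O U).obj.map f (Lq Q Y κ i) := by
  have h1 := PresheafOfModules.naturality_apply (kernel.ι Q.generators.π).val f κ
  have h2 := coord_map (RU O U) f (((kernel.ι Q.generators.π).val.app Y).hom κ) i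
  have h3 : Lq Q Z ((Kq Q).val.map f κ) i =
      coord (RU O U) Z (((kernel.ι Q.generators.π).val.app Z).hom ((Kq Q).val.map f κ)) i := rfl
  rw [h3]
  exact (congrArg (fun z => coord (RU O U) Z z i) h1).trans h2

/-- the relations of a presentation, as coordinate vectors over `U` -/
noncomputable def rsec (k : Q.relations.I) : Q.generators.I → Γr O U :=
  Lq Q (op (T U)) ((Q.relations.s k).val (op (T U)))

theorem comb_Lq (Y : (Over U)ᵒᵖ) (κ : (Kq Q).val.obj Y) :
    comb (RU O U) Y (Lq Q Y κ) = ((kernel.ι Q.generators.π).val.app Y).hom κ :=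
  comb_coord (RU O U) Y _

theorem genHom_comb_Lq (Y : (Over U)ᵒᵖ) (κ : (Kq Q).val.obj Y) :
    ((genHom F U (gsec Q)).val.app Y).hom (comb (RU O U) Y (Lq Q Y κ)) = 0 := by
  rw [comb_Lq, ← π_eq_genHom]
  have h1 : ((kernel.ι Q.generators.π ≫ Q.generators.π).val.app Y).hom κ = 0 := by
    rw [kernel.condition]; rfl
  exact h1

theorem rsec_rel (k : Q.relations.I) : ∑ i, rsec Q k i • gsec Q i = 0 := by
  have h1 := genHom_comb_Lq Q (op (T U)) ((Q.relations.s k).val (op (T U)))
  rw [genHom_comb] at h1
  refine Eq.trans ?_ h1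
  refine Finset.sum_congr rfl fun i _ => ?_
  congr 1
  exact (res_self F (gsec Q i)).symm

/-- the value of `rel.s k` at any object, in coordinates -/
theorem Lq_relations (k : Q.relations.I) (Y : (Over U)ᵒᵖ) (i : Q.generators.I) :
    Lq Q Y ((Q.relations.s k).val Y) i = resR O Y.unop.hom.le (rsec Q k i) := by
  have h1 := PresheafOfModules.sections_property (Q.relations.s k) (X := op (T U)) (Y := Y)
    ((hT U).from Y.unop).op
  have h2 := Lq_map Q ((hT U).from Y.unop).op ((Q.relations.s k).val (op (T U))) i
  rw [← h1]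
  exact h2

theorem rsec_relSpan (V : Opens X) (hV : V ≤ U) (a : Q.generators.I → Γr O V)
    (ha : ∑ i, a i • res F hV (gsec Q i) = 0) (y : X) (hy : y ∈ V) :
    ∃ (W : Opens X) (hW : W ≤ V), y ∈ W ∧
      (fun i => resR O hW (a i)) ∈
        Submodule.span (Γr O W) (Set.range fun k => fun i => resR O (hW.trans hV) (rsec Q k i)) := by
  -- `comb a` lies in the kernel
  have h1 : (Q.generators.π.val.app (op (ov hV))).hom (comb (RU O U) (op (ov hV)) a) = 0 := by
    rw [π_eq_genHom, genHom_comb]
    exact ha
  let S' : ShortComplex (SheafOfModules.{u} (RU O U)) :=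
    ShortComplex.mk (kernel.ι Q.generators.π) Q.generators.π (kernel.condition _)
  have hS' : S'.Exact := ShortComplex.exact_of_f_is_kernel _ (kernelIsKernel Q.generators.π)
  haveI : Mono S'.f := inferInstanceAs (Mono (kernel.ι Q.generators.π))
  obtain ⟨κ, hκ⟩ := exists_app_eq_of_exact_of_mono S' hS' (op (ov hV)) _ h1
  -- `κ` is locally in the span of the relations
  have h2 := (epi_freeHom_iff (Kq Q) Q.relations.s).1 Q.relations.epi (op (ov hV)) κ
  obtain ⟨S, hS, hSκ⟩ := h2
  rw [GrothendieckTopology.mem_over_iff] at hS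
  obtain ⟨W, f, hf, hyW⟩ := hS y hy
  rw [Sieve.overEquiv_iff] at hf
  refine ⟨W, f.le, hyW, ?_⟩
  have h3 := hSκ _ hf
  -- apply the coordinate map
  have h4 := Submodule.apply_mem_span_image_of_mem_span (Lq Q (op (Over.mk (f ≫ (ov hV).hom)))) h3
  have h5 : Lq Q (op (Over.mk (f ≫ (ov hV).hom)))
      ((Kq Q).val.map (Over.homMk f : Over.mk (f ≫ (ov hV).hom) ⟶ ov hV).op κ) =
      fun i => resR O f.le (a i) := by
    funext i
    rw [Lq_map]
    have h6 : Lq Q (op (ov hV)) κ = a := by
      have : comb (RU O U) (op (ov hV)) (Lq Q (op (ov hV)) κ) = comb (RU O U) (op (ov hV)) a :=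
        (comb_Lq Q (op (ov hV)) κ).trans hκ
      exact comb_injective (RU O U) _ this
    rw [h6]
    rfl
  rw [h5] at h4
  refine Submodule.span_mono ?_ h4
  rintro _ ⟨_, ⟨k, rfl⟩, rfl⟩
  refine ⟨k, ?_⟩
  funext i
  exact (Lq_relations Q k (op (Over.mk (f ≫ (ov hV).hom))) i).symm

/-- the concrete presentation attached to a finite Mathlib presentation -/
noncomputable def locPresOfPresentation : LocPres F U Q.generators.I Q.relations.I where
  s := gsec Q
  span := locSpan_of_generatingSections F Q.generators
  r := rsec Q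
  rel := rsec_rel Q
  relSpan := rsec_relSpan Q

end ofPresentation

section fp

variable (F : ModSite.Mod O)

/-- finite presentation from concrete local presentations -/
theorem isFinitePresentation_of_locPres
    (h : ∀ x : X, ∃ (U : Opens X) (_ : x ∈ U) (I₀ I₁ : Type u) (_ : Fintype I₀) (_ : Fintype I₁),
      Nonempty (LocPres F U I₀ I₁)) :
    SheafOfModules.IsFinitePresentation (R := ModSite.ringSh O) F := by
  choose U hxU I₀ I₁ hI₀ hI₁ hP using h
  let σ : SheafOfModules.QuasicoherentData.{u} (R := ModSite.ringSh O) F :=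
    { I := (X : Type u)
      X := U
      coversTop := (coversTop_iff U).2 fun x => ⟨x, hxU x⟩
      presentation := fun x => (hP x).some.presentation }
  have hσ : σ.IsFinitePresentation := { isFinite_presentation := fun x => inferInstance }
  exact { exists_quasicoherentData := ⟨σ, hσ⟩ }

/-- **finite presentation**, concretely -/
theorem isFinitePresentation_iff :
    SheafOfModules.IsFinitePresentation (R := ModSite.ringSh O) F ↔
      ∀ x : X, ∃ (U : Opens X) (_ : x ∈ U) (I₀ I₁ : Type u) (_ : Fintype I₀) (_ : Fintype I₁),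
        Nonempty (LocPres F U I₀ I₁) := by
  constructor
  · rintro ⟨σ, hσ⟩ x
    obtain ⟨i, hi⟩ := (coversTop_iff σ.X).1 σ.coversTop x
    haveI : Finite (σ.presentation i).generators.I :=
      (hσ.isFinite_presentation i).isFiniteType_generators.finite
    haveI : Finite (σ.presentation i).relations.I :=
      (hσ.isFinite_presentation i).isFiniteType_relations.finite
    letI := Fintype.ofFinite (σ.presentation i).generators.I
    letI := Fintype.ofFinite (σ.presentation i).relations.I
    exact ⟨σ.X i, hi, _, _, inferInstance, inferInstance, ⟨locPresOfPresentation (σ.presentation i)⟩⟩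
  · exact isFinitePresentation_of_locPres F

variable {F}

/-- restriction of a concrete presentation to a smaller open -/
noncomputable def LocPres.restrict {U : Opens X} {I₀ I₁ : Type u} [Fintype I₀] [Fintype I₁]
    (P : LocPres F U I₀ I₁) {U' : Opens X} (hU' : U' ≤ U) : LocPres F U' I₀ I₁ where
  s := fun i => res F hU' (P.s i)
  span := P.span.res hU'
  r := fun k i => resR O hU' (P.r k i)
  rel := fun k => by
    have := congrArg (res F hU') (P.rel k)
    rw [res_sum, res_zero] at this
    rw [← this]
    exact Finset.sum_congr rfl fun i _ => (res_smul F _ _ _).symm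
  relSpan := fun V hV a ha y hy => by
    have ha' : ∑ i, a i • res F (hV.trans hU') (P.s i) = 0 := by
      rw [← ha]
      exact Finset.sum_congr rfl fun i _ => by rw [res_res]
    obtain ⟨W, hW, hyW, hmem⟩ := P.relSpan V (hV.trans hU') a ha' y hy
    refine ⟨W, hW, hyW, ?_⟩
    have hset : (Set.range fun k => fun i => resR O (hW.trans hV) (resR O hU' (P.r k i))) =
        Set.range fun k => fun i => resR O (hW.trans (hV.trans hU')) (P.r k i) := by
      congr 1
      funext k i
      exact resR_resR hU' (hW.trans hV) (P.r k i)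
    rw [hset]
    exact hmem

end fp

end Groth.Agent.R2.H30.RSFree
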