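import Mathlib
import Groth.Prelude.Def_ModSite2
import Groth.Agent.R2.H30RSFree

/-!
# helper30: kernels of surjections onto finitely presented modules on a ringed space
-/

set_option autoImplicit false
set_option linter.style.haveILetI false
set_option linter.unusedVariables false
set_option linter.unusedSectionVars false
universe u
open CategoryTheory CategoryTheory.Limits Opposite TopologicalSpace

namespace Groth.Agent.R2.H30.RSKer

open Groth.Agent.R2.H30.GenSite Groth.Agent.R2.H30.RSDict Groth.Agent.R2.H30.FreeSec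
  Groth.Agent.R2.H30.RSFree

variable {X : TopCat.{u}} {O : Sheaf (Opens.grothendieckTopology X) CommRingCat.{u}}

section transfer

variable {K G : ModSite.Mod O} (ι : K ⟶ G) [Mono ι]

/-- a family of sections of a submodule locally spans it as soon as its image locally spans the image -/
theorem locSpan_of_mono {U : Opens X} {I : Type*} [Fintype I] (κ : I → K.val.obj (op U))
    (h : ∀ (V : Opens X) (hV : V ≤ U) (w : K.val.obj (op V)) (y : X), y ∈ V →
      ∃ (W : Opens X) (hW : W ≤ V), y ∈ W ∧
        res G hW ((ι.val.app (op V)).hom w) ∈ Submodule.span (Γr O W)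
          (Set.range fun i => res G (hW.trans hV) ((ι.val.app (op U)).hom (κ i)))) :
    LocSpan K U κ := by
  intro V hV w y hy
  obtain ⟨W, hW, hyW, hmem⟩ := h V hV w y hy
  refine ⟨W, hW, hyW, ?_⟩
  obtain ⟨c, hc⟩ := (Submodule.mem_span_range_iff_exists_fun _).1 hmem
  have h1 : (ι.val.app (op W)).hom (res K hW w) =
      (ι.val.app (op W)).hom (∑ i, c i • res K (hW.trans hV) (κ i)) := by
    rw [app_res, ← hc, map_sum]
    refine Finset.sum_congr rfl fun i _ => ?_
    rw [map_smul, app_res]
  have h2 := injective_app_of_mono ι (op W) h1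
  rw [h2]
  exact Submodule.sum_mem _ fun i _ => Submodule.smul_mem _ _ (Submodule.subset_span ⟨i, rfl⟩)

end transfer

section algebra

theorem alg_key {R M : Type*} [Ring R] [AddCommGroup M] [Module R M] {J I₀ I₁ : Type*}
    [Fintype J] [Fintype I₀] [Fintype I₁]
    (C : J → R) (Gw : J → M) (Aw : J → I₀ → R) (Lw : I₀ → M) (b : I₁ → R) (Rw : I₁ → I₀ → R)
    (F2 : ∀ i, ∑ j, C j * Aw j i = ∑ k, b k * Rw k i) :
    ∑ j, C j • Gw j =
      ∑ j, C j • (Gw j - ∑ i, Aw j i • Lw i) + ∑ k, b k • ∑ i, Rw k i • Lw i := by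
  have h1 : ∑ j, C j • ∑ i, Aw j i • Lw i = ∑ i, (∑ j, C j * Aw j i) • Lw i := by
    simp only [Finset.smul_sum, Finset.sum_smul, smul_smul]
    exact Finset.sum_comm
  have h2 : ∑ k, b k • ∑ i, Rw k i • Lw i = ∑ i, (∑ k, b k * Rw k i) • Lw i := by
    simp only [Finset.smul_sum, Finset.sum_smul, smul_smul]
    exact Finset.sum_comm
  simp only [smul_sub, Finset.sum_sub_distrib]
  rw [h1, h2]
  simp only [F2]
  abel

end algebra

section kernel

variable {G F : ModSite.Mod O} (θ : G ⟶ F) {U : Opens X} {J I₀ I₁ : Type*}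
  [Fintype J] [Fintype I₀] [Fintype I₁]

/-- the relation-spanning property of a family of relations `r` among sections `s` -/
def RelSpan (s : I₀ → F.val.obj (op U)) (r : I₁ → I₀ → Γr O U) : Prop :=
  ∀ (V : Opens X) (hV : V ≤ U) (a : I₀ → Γr O V), ∑ i, a i • res F hV (s i) = 0 →
    ∀ y ∈ V, ∃ (W : Opens X) (hW : W ≤ V), y ∈ W ∧
      (fun i => resR O hW (a i)) ∈
        Submodule.span (Γr O W) (Set.range fun k => fun i => resR O (hW.trans hV) (r k i))

/-- the standard generators of the kernel of `θ` -/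
noncomputable def kerGen (g : J → G.val.obj (op U)) (l : I₀ → G.val.obj (op U)) (A : J → I₀ → Γr O U)
    (r : I₁ → I₀ → Γr O U) : J ⊕ I₁ → G.val.obj (op U) :=
  Sum.elim (fun j => g j - ∑ i, A j i • l i) (fun k => ∑ i, r k i • l i)

theorem resR_sum {U V : Opens X} (h : V ≤ U) {ι : Type*} (S : Finset ι) (a : ι → Γr O U) :
    resR O h (∑ i ∈ S, a i) = ∑ i ∈ S, resR O h (a i) :=
  map_sum ((ModSite.ringSh O).obj.map (homOfLE h).op).hom a S

theorem resR_mul {U V : Opens X} (h : V ≤ U) (a b : Γr O U) :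
    resR O h (a * b) = resR O h a * resR O h b :=
  map_mul ((ModSite.ringSh O).obj.map (homOfLE h).op).hom a b

theorem resR_sub {U V : Opens X} (h : V ≤ U) (a b : Γr O U) :
    resR O h (a - b) = resR O h a - resR O h b :=
  map_sub ((ModSite.ringSh O).obj.map (homOfLE h).op).hom a b

theorem resR_add {U V : Opens X} (h : V ≤ U) (a b : Γr O U) :
    resR O h (a + b) = resR O h a + resR O h b :=
  map_add ((ModSite.ringSh O).obj.map (homOfLE h).op).hom a b

theorem resR_zero {U V : Opens X} (h : V ≤ U) : resR O h (0 : Γr O U) = 0 :=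
  map_zero ((ModSite.ringSh O).obj.map (homOfLE h).op).hom

theorem resR_one {U V : Opens X} (h : V ≤ U) : resR O h (1 : Γr O U) = 1 :=
  map_one ((ModSite.ringSh O).obj.map (homOfLE h).op).hom

/-- **key lemma**: sections killed by `θ` are locally combinations of the standard generators -/
theorem ker_locSpan (g : J → G.val.obj (op U)) (hg : LocSpan G U g)
    (s : I₀ → F.val.obj (op U)) (l : I₀ → G.val.obj (op U))
    (hl : ∀ i, (θ.val.app (op U)).hom (l i) = s i)
    (A : J → I₀ → Γr O U) (hA : ∀ j, (θ.val.app (op U)).hom (g j) = ∑ i, A j i • s i)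
    (r : I₁ → I₀ → Γr O U) (hr : RelSpan s r)
    (V : Opens X) (hV : V ≤ U) (w : G.val.obj (op V)) (hw : (θ.val.app (op V)).hom w = 0)
    (y : X) (hy : y ∈ V) :
    ∃ (W : Opens X) (hW : W ≤ V), y ∈ W ∧
      res G hW w ∈ Submodule.span (Γr O W)
        (Set.range fun q => res G (hW.trans hV) (kerGen g l A r q)) := by
  obtain ⟨W₁, hW₁, hyW₁, hmem₁⟩ := hg V hV w y hy
  obtain ⟨c, hc⟩ := (Submodule.mem_span_range_iff_exists_fun _).1 hmem₁
  -- the induced relation among the `s i`
  have hrel : ∑ i, (∑ j, c j * resR O (hW₁.trans hV) (A j i)) • res F (hW₁.trans hV) (s i) = 0 := by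
    have h1 : (θ.val.app (op W₁)).hom (res G hW₁ w) = 0 := by rw [app_res, hw, res_zero]
    rw [← hc, map_sum] at h1
    rw [← h1]
    simp only [Finset.sum_smul, mul_smul]
    rw [Finset.sum_comm]
    refine Finset.sum_congr rfl fun j _ => ?_
    rw [map_smul, app_res, hA, res_sum, Finset.smul_sum]
    refine Finset.sum_congr rfl fun i _ => ?_
    rw [res_smul]
  obtain ⟨W, hW, hyW, hmem⟩ := hr W₁ (hW₁.trans hV) _ hrel y hyW₁
  obtain ⟨b, hb⟩ := (Submodule.mem_span_range_iff_exists_fun _).1 hmem
  refine ⟨W, hW.trans hW₁, hyW, ?_⟩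
  have hWU : W ≤ U := (hW.trans hW₁).trans hV
  -- the equation on `W`
  have F1 : res G (hW.trans hW₁) w = ∑ j, resR O hW (c j) • res G hWU (g j) := by
    rw [← res_res G hW₁ hW, ← hc, res_sum]
    refine Finset.sum_congr rfl fun j _ => ?_
    rw [res_smul, res_res]
  have F2 : ∀ i, ∑ j, resR O hW (c j) * resR O hWU (A j i) = ∑ k, b k * resR O hWU (r k i) := by
    intro i
    have := congrFun hb i
    simp only [Finset.sum_apply, Pi.smul_apply, smul_eq_mul] at this
    rw [this, resR_sum]
    refine Finset.sum_congr rfl fun j _ => ?_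
    rw [resR_mul, resR_resR]
  have key := alg_key (fun j => resR O hW (c j)) (fun j => res G hWU (g j))
    (fun j i => resR O hWU (A j i)) (fun i => res G hWU (l i)) b (fun k i => resR O hWU (r k i)) F2
  rw [F1, key]
  refine Submodule.add_mem _ (Submodule.sum_mem _ fun j _ => Submodule.smul_mem _ _
    (Submodule.subset_span ⟨Sum.inl j, ?_⟩)) (Submodule.sum_mem _ fun k _ => Submodule.smul_mem _ _
    (Submodule.subset_span ⟨Sum.inr k, ?_⟩))
  · show res G hWU (g j - ∑ i, A j i • l i) = _
    rw [res_sub, res_sum]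
    congr 1
    refine Finset.sum_congr rfl fun i _ => ?_
    rw [res_smul]
  · show res G hWU (∑ i, r k i • l i) = _
    rw [res_sum]
    refine Finset.sum_congr rfl fun i _ => ?_
    rw [res_smul]

end kernel

end Groth.Agent.R2.H30.RSKer
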