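import Mathlib
import Groth.Prelude.Def_ModSite2
import Groth.Agent.R2.H30RSKer

/-!
# helper30: cokernels of maps from finite type modules into finitely presented modules on a ringed space
-/

set_option autoImplicit false
set_option linter.style.haveILetI false
set_option linter.unusedVariables false
set_option linter.unusedSectionVars false
universe u
open CategoryTheory CategoryTheory.Limits Opposite TopologicalSpace

namespace Groth.Agent.R2.H30.RSCoker

open Groth.Agent.R2.H30.GenSite Groth.Agent.R2.H30.RSDict Groth.Agent.R2.H30.FreeSec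
  Groth.Agent.R2.H30.RSFree Groth.Agent.R2.H30.RSKer

variable {X : TopCat.{u}} {O : Sheaf (Opens.grothendieckTopology X) CommRingCat.{u}}

/-- finite type, with generators indexed by a finite type in the universe of the space -/
theorem exists_locSpan_of_isFiniteType (G : ModSite.Mod O)
    [SheafOfModules.IsFiniteType (R := ModSite.ringSh O) G] (x : X) :
    ∃ (U : Opens X) (_ : x ∈ U) (J : Type u) (_ : Fintype J) (g : J → G.val.obj (op U)),
      LocSpan G U g := by
  obtain ⟨U, hxU, n, g, hg⟩ := (isFiniteType_iff (O := O) G).1 inferInstance x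
  refine ⟨U, hxU, ULift.{u} (Fin n), inferInstance, fun j => g j.down, hg.of_range_subset ?_⟩
  rintro _ ⟨j, rfl⟩
  exact ⟨⟨j⟩, rfl⟩

/-- local exactness at a point, for the site of opens -/
theorem exists_app_eq_of_exact_at (S : ShortComplex (ModSite.Mod O)) (hS : S.Exact) {V : Opens X}
    (t : S.X₂.val.obj (op V)) (ht : (S.g.val.app (op V)).hom t = 0) (y : X) (hy : y ∈ V) :
    ∃ (W : Opens X) (hW : W ≤ V), y ∈ W ∧
      ∃ a : S.X₁.val.obj (op W), (S.f.val.app (op W)).hom a = res S.X₂ hW t := by
  obtain ⟨T, hT, hTt⟩ := exists_locally_app_eq_of_exact S hS (op V) t ht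
  obtain ⟨W, f, hf, hyW⟩ := hT y hy
  obtain ⟨a, ha⟩ := hTt f hf
  exact ⟨W, f.le, hyW, a, ha⟩

section coker

variable {G F : ModSite.Mod O} (φ : G ⟶ F) {U : Opens X} {J I₀ I₁ : Type u}
  [Fintype J] [Fintype I₀] [Fintype I₁]

theorem alg_key2 {R : Type*} [Ring R] {J I₀ I₁ : Type*} [Fintype J] [Fintype I₀] [Fintype I₁]
    (a : I₀ → R) (c : J → R) (Aw : J → I₀ → R) (b : I₁ → R) (Rw : I₁ → I₀ → R)
    (h : ∀ i, a i - ∑ j, c j * Aw j i = ∑ k, b k * Rw k i) :
    a = ∑ q : I₁ ⊕ J, Sum.elim b c q • (Sum.elim Rw Aw q) := by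
  funext i
  rw [Fintype.sum_sum_type]
  simp only [Sum.elim_inl, Sum.elim_inr, Pi.add_apply, Finset.sum_apply, Pi.smul_apply, smul_eq_mul]
  rw [← h i]
  abel

/-- the presentation of the cokernel -/
noncomputable def cokerLocPres (P : LocPres F U I₀ I₁) (g : J → G.val.obj (op U))
    (hg : LocSpan G U g) (A : J → I₀ → Γr O U)
    (hA : ∀ j, (φ.val.app (op U)).hom (g j) = ∑ i, A j i • P.s i) :
    LocPres (cokernel φ) U I₀ (I₁ ⊕ J) where
  s := fun i => ((cokernel.π φ).val.app (op U)).hom (P.s i)
  span := by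
    intro V hV c y hy
    obtain ⟨W₁, hW₁, hyW₁, f, hf⟩ := (epi_iff (O := O) (cokernel.π φ)).1 inferInstance V c y hy
    obtain ⟨W₂, hW₂, hyW₂, hmem⟩ := P.span W₁ (hW₁.trans hV) f y hyW₁
    refine ⟨W₂, hW₂.trans hW₁, hyW₂, ?_⟩
    have h1 := app_mem_span (cokernel.π φ) _ hmem
    rw [app_res, hf, res_res] at h1
    refine Submodule.span_mono ?_ h1
    rintro _ ⟨i, rfl⟩
    exact ⟨i, (app_res (cokernel.π φ) _ _).symm⟩
  r := Sum.elim P.r A
  rel := by
    rintro (k | j)
    · have := congrArg ((cokernel.π φ).val.app (op U)).hom (P.rel k)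
      rw [map_sum, map_zero] at this
      rw [← this]
      exact Finset.sum_congr rfl fun i _ => (map_smul _ _ _).symm
    · have h1 : ((cokernel.π φ).val.app (op U)).hom ((φ.val.app (op U)).hom (g j)) = 0 := by
        have : ((φ ≫ cokernel.π φ).val.app (op U)).hom (g j) = 0 := by
          rw [cokernel.condition]; rfl
        exact this
      rw [hA, map_sum] at h1
      rw [← h1]
      exact Finset.sum_congr rfl fun i _ => (map_smul _ _ _).symm
  relSpan := by
    intro V hV a ha y hy
    -- `∑ a i • s i` maps to zero in the cokernel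
    have h0 : ((cokernel.π φ).val.app (op V)).hom (∑ i, a i • res F hV (P.s i)) = 0 := by
      rw [map_sum, ← ha]
      refine Finset.sum_congr rfl fun i _ => ?_
      rw [map_smul, app_res]
    let S : ShortComplex (ModSite.Mod O) := ShortComplex.mk φ (cokernel.π φ) (cokernel.condition φ)
    have hS : S.Exact := ShortComplex.exact_of_g_is_cokernel _ (cokernelIsCokernel φ)
    obtain ⟨W₁, hW₁, hyW₁, γ, hγ⟩ := exists_app_eq_of_exact_at S hS _ h0 y hy
    obtain ⟨W₂, hW₂, hyW₂, hmem₂⟩ := hg W₁ (hW₁.trans hV) γ y hyW₁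
    obtain ⟨c, hc⟩ := (Submodule.mem_span_range_iff_exists_fun _).1 hmem₂
    have hW₂U : W₂ ≤ U := (hW₂.trans hW₁).trans hV
    -- the corrected relation
    have hrel : ∑ i, (resR O (hW₂.trans hW₁) (a i) - ∑ j, c j * resR O hW₂U (A j i)) •
        res F hW₂U (P.s i) = 0 := by
      simp only [sub_smul, Finset.sum_sub_distrib, Finset.sum_smul, mul_smul]
      rw [sub_eq_zero, Finset.sum_comm]
      have h1 : (φ.val.app (op W₂)).hom (res G hW₂ γ) =
          ∑ i, resR O (hW₂.trans hW₁) (a i) • res F hW₂U (P.s i) := by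
        rw [app_res]
        have h2 : (φ.val.app (op W₁)).hom γ = res F hW₁ (∑ i, a i • res F hV (P.s i)) := hγ
        rw [h2, res_res, res_sum]
        refine Finset.sum_congr rfl fun i _ => ?_
        rw [res_smul, res_res]
      rw [← h1, ← hc, map_sum]
      refine Finset.sum_congr rfl fun j _ => ?_
      rw [map_smul, app_res, hA, res_sum, Finset.smul_sum]
      refine Finset.sum_congr rfl fun i _ => ?_
      rw [res_smul]
    obtain ⟨W₃, hW₃, hyW₃, hmem₃⟩ := P.relSpan W₂ hW₂U _ hrel y hyW₂
    obtain ⟨b, hb⟩ := (Submodule.mem_span_range_iff_exists_fun _).1 hmem₃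
    refine ⟨W₃, hW₃.trans (hW₂.trans hW₁), hyW₃, ?_⟩
    have hW₃U : W₃ ≤ U := hW₃.trans hW₂U
    have key := alg_key2 (fun i => resR O (hW₃.trans (hW₂.trans hW₁)) (a i))
      (fun j => resR O hW₃ (c j)) (fun j i => resR O hW₃U (A j i)) b
      (fun k i => resR O hW₃U (P.r k i)) (by
        intro i
        have := congrFun hb i
        simp only [Finset.sum_apply, Pi.smul_apply, smul_eq_mul] at this
        rw [this, resR_sub, resR_resR, resR_sum]
        congr 1
        refine Finset.sum_congr rfl fun j _ => ?_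
        rw [resR_mul, resR_resR])
    rw [key]
    refine Submodule.sum_mem _ fun q _ => Submodule.smul_mem _ _ (Submodule.subset_span ⟨q, ?_⟩)
    rcases q with k | j <;> rfl

end coker

end Groth.Agent.R2.H30.RSCoker
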