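import Mathlib
import Groth.Agent.S6833
import Groth.Agent.R2.H83FpKerSh
import Groth.Agent.Lib.Helper2FlatOpen
import Groth.Agent.Lib.Helper4NormDelta
import Groth.Agent.Lib.Helper23QCohAbelian
import Groth.Agent.Lib.Helper18Strict6

/-!
# Kernels of homomorphisms with flat cokernel are of finite type (helper22)

Namespace `Groth.Agent.R2.H22.KerFG`.

* `isFP_cokernel`: the cokernel of a homomorphism of finitely presented modules is finitely presented
  (scheme form of S6833).
* `range_app_eq_ker`: for quasi-coherent modules, `F'(U) ⟶ F(U) ⟶ (Coker u)(U)` is exact over affine `U`.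
* `fg_ker_app`: `f` locally of finite presentation, `F`, `F'` finitely presented, `Coker u` flat over `Y`
  at the points of the affine open `U` (over an affine `V`): then `Ker (u(U))` is a finitely generated module
  (EGA IV 11.3.9.1, helper83's `finitePresentation_ker`).
* `exists_basicOpen_injective`: if `Ker (u(U))` is finitely generated and `u_x` is injective, then `u_{x'}` is
  injective for all `x'` in a basic open neighbourhood of `x`.
-/

set_option autoImplicit false
set_option linter.style.haveILetI false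
universe u
open CategoryTheory CategoryTheory.Limits AlgebraicGeometry TopologicalSpace Opposite
open Groth.Agent.Helper18Strict Groth.Agent.Lib.Helper2.FlatOver Groth.Agent.Lib.Helper2.FPAff
open Groth.Agent.Lib.Helper4.NormDelta

namespace Groth.Agent.R2.H22.KerFG

variable {X Y : Scheme.{u}}

theorem isFP_cokernel {F F' : X.Modules} (hF : CohB1.IsFP F) (hF' : CohB1.IsFP F') (u : F' ⟶ F) :
    CohB1.IsFP (cokernel u) := by
  haveI : SheafOfModules.IsFiniteType (R := X.ringCatSheaf) F' :=
    Groth.Agent.Helper18Strict.isFT_of_isFP F' hF'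
  haveI : SheafOfModules.IsFinitePresentation (R := X.ringCatSheaf) F := hF
  exact Groth.Agent.S6833.result (O := X.sheaf) (G := F') (F := F) u

/-- exactness in the middle on sections over an affine open. -/
theorem range_app_eq_ker {F F' : X.Modules} [F.IsQuasicoherent] [F'.IsQuasicoherent] (u : F' ⟶ F)
    {U : X.Opens} (hU : IsAffineOpen U) :
    LinearMap.range (appₗ u U) = LinearMap.ker (appₗ (cokernel.π u) U) := by
  haveI : (cokernel u).IsQuasicoherent :=
    Groth.Agent.Lib.Helper23.QCohLocal.isQuasicoherent_cokernel u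
  haveI : (kernel (cokernel.π u)).IsQuasicoherent :=
    Groth.Agent.Lib.Helper23.QCohLocal.isQuasicoherent_kernel (cokernel.π u)
  apply le_antisymm
  · rintro _ ⟨m', rfl⟩
    rw [LinearMap.mem_ker, appₗ_apply, appₗ_apply, ← ConcreteCategory.comp_apply,
      ← Scheme.Modules.Hom.comp_app, cokernel.condition, Scheme.Modules.Hom.zero_app]
    rfl
  · intro m hm
    rw [LinearMap.mem_ker, appₗ_apply] at hm
    have hsurj : Function.Surjective ((Abelian.factorThruImage u).app U) :=
      Groth.Agent.Lib.Helper23.FinType.surjective_app_of_epi (A := F')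
        (B := kernel (cokernel.π u)) (Abelian.factorThruImage u) hU
    obtain ⟨m', hm'⟩ := hsurj (OmegaSh.kerLift (cokernel.π u) U m hm)
    refine ⟨m', ?_⟩
    have h1 : u = Abelian.factorThruImage u ≫ kernel.ι (cokernel.π u) :=
      (Abelian.image.fac u).symm
    rw [appₗ_apply]
    conv_lhs => rw [h1]
    rw [Scheme.Modules.Hom.comp_app, ConcreteCategory.comp_apply, hm', OmegaSh.ι_kerLift]

/-- **EGA IV 11.3.9.1**: the kernel on sections over an affine chart on which the cokernel is flat over the base
is finitely generated. -/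
theorem fg_ker_app (f : X ⟶ Y) [LocallyOfFinitePresentation f] {F F' : X.Modules}
    [F.IsQuasicoherent] [F'.IsQuasicoherent] (hF : CohB1.IsFP F) (hF' : CohB1.IsFP F') (u : F' ⟶ F)
    {U : X.Opens} {V : Y.Opens} (hU : IsAffineOpen U) (hV : IsAffineOpen V) (hUV : U ≤ f ⁻¹ᵁ V)
    (H : ∀ x : X, x ∈ U → FlatMod.IsFlatOverAt f (cokernel u) x) :
    (LinearMap.ker (appₗ u U)).FG := by
  haveI : SheafOfModules.IsFinitePresentation (R := X.ringCatSheaf) F := hF
  haveI : SheafOfModules.IsFinitePresentation (R := X.ringCatSheaf) F' := hF'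
  haveI : (cokernel u).IsQuasicoherent :=
    Groth.Agent.Lib.Helper23.QCohLocal.isQuasicoherent_cokernel u
  have hCfp : SheafOfModules.IsFinitePresentation (R := X.ringCatSheaf) (cokernel u) :=
    isFP_cokernel hF hF' u
  have hsurj : Function.Surjective (appₗ (cokernel.π u) U) :=
    Groth.Agent.Lib.Helper23.FinType.surjective_app_of_epi (cokernel.π u) hU
  haveI : Module.FinitePresentation Γ(X, U) Γ(F, U) := finitePresentation_sections F hU
  haveI : Module.FinitePresentation Γ(X, U) Γ(F', U) := finitePresentation_sections F' hU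
  haveI : Module.FinitePresentation Γ(X, U) Γ(cokernel u, U) :=
    @finitePresentation_sections _ (cokernel u) _ hCfp _ hU
  letI : Algebra Γ(Y, V) Γ(X, U) := (f.appLE V U hUV).hom.toAlgebra
  haveI : Algebra.FinitePresentation Γ(Y, V) Γ(X, U) :=
    HasRingHomProperty.appLE (P := @LocallyOfFinitePresentation) f inferInstance
      ⟨V, hV⟩ ⟨U, hU⟩ hUV
  letI : Module Γ(Y, V) Γ(cokernel u, U) :=
    Module.compHom Γ(cokernel u, U) (f.appLE V U hUV).hom
  haveI : IsScalarTower Γ(Y, V) Γ(X, U) Γ(cokernel u, U) :=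
    ⟨fun a b m => by
      change ((f.appLE V U hUV).hom a * b) • m = (f.appLE V U hUV).hom a • (b • m)
      rw [mul_smul]⟩
  haveI : Module.Flat Γ(Y, V) Γ(cokernel u, U) :=
    flat_sections_of_isFlatOverAt f (cokernel u) hU hV hUV H
  haveI := Groth.Agent.R2.H83.FpKer.finitePresentation_ker (A := Γ(Y, V))
    (appₗ (cokernel.π u) U) hsurj
  have hle : ∀ m', appₗ u U m' ∈ LinearMap.ker (appₗ (cokernel.π u) U) := fun m' => by
    rw [← range_app_eq_ker u hU]
    exact ⟨m', rfl⟩
  let φ : Γ(F', U) →ₗ[Γ(X, U)] LinearMap.ker (appₗ (cokernel.π u) U) :=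
    (appₗ u U).codRestrict _ hle
  have hφ : Function.Surjective φ := by
    rintro ⟨m, hm⟩
    rw [← range_app_eq_ker u hU] at hm
    obtain ⟨m', rfl⟩ := hm
    exact ⟨m', rfl⟩
  have := Module.FinitePresentation.fg_ker φ hφ
  rwa [LinearMap.ker_codRestrict] at this

/-- If the kernel on sections over an affine open `U` is finitely generated and the stalk map at `x ∈ U` is
injective, then the stalk maps at all points of a basic open neighbourhood of `x` in `U` are injective. -/
theorem exists_basicOpen_injective {F F' : X.Modules} [F.IsQuasicoherent] [F'.IsQuasicoherent]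
    (u : F' ⟶ F) {U : X.Opens} (hU : IsAffineOpen U) (hK : (LinearMap.ker (appₗ u U)).FG)
    (x : X) (hx : x ∈ U) (hinj : Function.Injective (stalkHom u x)) :
    ∃ s : Γ(X, U), x ∈ X.basicOpen s ∧
      ∀ x' : X, x' ∈ X.basicOpen s → Function.Injective (stalkHom u x') := by
  classical
  set K := LinearMap.ker (appₗ u U) with hKdef
  haveI : Module.Finite Γ(X, U) K := Module.Finite.iff_fg.mpr hK
  -- every element of `K` dies in the stalk at `x`
  have h1 : ∀ k : K, ∃ r ∉ (hU.primeIdealOf ⟨x, hx⟩).asIdeal, r • k = 0 := by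
    intro k
    letI := moduleStalkSections F' U x hx
    haveI := isLocalizedModule_germ hU F' x hx
    have hk : appₗ u U k.1 = 0 := k.2
    have h0 : germₗ F' U x hx k.1 = 0 := by
      apply hinj
      rw [germₗ_apply, stalkHom_germ, ← appₗ_apply, hk, map_zero, map_zero]
    obtain ⟨c, hc⟩ := (IsLocalizedModule.eq_zero_iff
      (hU.primeIdealOf ⟨x, hx⟩).asIdeal.primeCompl (germₗ F' U x hx)).1 h0
    exact ⟨c.1, c.2, Subtype.ext hc⟩
  have h2 : (hU.primeIdealOf ⟨x, hx⟩) ∉ Module.support Γ(X, U) K :=
    Module.notMem_support_iff'.2 h1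
  rw [Module.mem_support_iff_of_finite, SetLike.not_le_iff_exists] at h2
  obtain ⟨s, hsann, hsx⟩ := h2
  have hsK : ∀ m' : Γ(F', U), appₗ u U m' = 0 → s • m' = 0 := by
    intro m' hm'
    have := Module.mem_annihilator.1 hsann (⟨m', hm'⟩ : K)
    exact congrArg Subtype.val this
  refine ⟨s, (Groth.Agent.Lib.Helper2.mem_basicOpen_iff_notMem_primeIdealOf hU x hx s).2 hsx, ?_⟩
  intro x' hx's
  have hx' : x' ∈ U := X.basicOpen_le s hx's
  have hsx' : s ∉ (hU.primeIdealOf ⟨x', hx'⟩).asIdeal :=
    (Groth.Agent.Lib.Helper2.mem_basicOpen_iff_notMem_primeIdealOf hU x' hx' s).1 hx's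
  letI i1 := moduleStalkSections F' U x' hx'
  letI i2 := moduleStalkSections F U x' hx'
  haveI l1 := isLocalizedModule_germ hU F' x' hx'
  haveI l2 := isLocalizedModule_germ hU F x' hx'
  set S := (hU.primeIdealOf ⟨x', hx'⟩).asIdeal.primeCompl with hS
  rw [injective_iff_map_eq_zero]
  intro a ha
  obtain ⟨⟨m', t⟩, hmt⟩ := IsLocalizedModule.surj S (germₗ F' U x' hx') a
  -- `hmt : t • a = germ m'`
  have h3 : germₗ F U x' hx' (appₗ u U m') = 0 := by
    rw [germₗ_apply, appₗ_apply, ← stalkHom_germ, ← germₗ_apply, ← hmt]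
    change stalkHom u x' ((X.presheaf.germ U x' hx' t.1) • a) = 0
    rw [stalkHom_smul, ha, smul_zero]
  obtain ⟨t', ht'⟩ := (IsLocalizedModule.eq_zero_iff S (germₗ F U x' hx')).1 h3
  have h4 : appₗ u U (t'.1 • m') = 0 := by
    rw [map_smul]
    exact ht'
  have h5 : s • (t'.1 • m') = 0 := hsK _ h4
  have h6 : germₗ F' U x' hx' m' = 0 := by
    have h7 : (⟨s, hsx'⟩ * t' : S) • germₗ F' U x' hx' m' = 0 := by
      rw [Submonoid.smul_def, Submonoid.coe_mul, mul_smul, ← map_smul, ← map_smul]
      change germₗ F' U x' hx' (s • (t'.1 • m')) = 0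
      rw [h5, map_zero]
    exact IsLocalizedModule.smul_injective (germₗ F' U x' hx') (⟨s, hsx'⟩ * t' : S)
      (h7.trans (smul_zero _).symm)
  rw [h6] at hmt
  exact IsLocalizedModule.smul_injective (germₗ F' U x' hx') t (hmt.trans (smul_zero _).symm)

end Groth.Agent.R2.H22.KerFG
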