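import Mathlib
import Groth.Agent.Lib.Helper20PullbackAff
import Groth.Agent.Lib.Helper18Strict3

set_option autoImplicit false
set_option linter.style.haveILetI false
universe u
open CategoryTheory AlgebraicGeometry Limits TensorProduct Opposite TopologicalSpace
open Groth.Agent.Lib.Helper23.QCohLocal Groth.Agent.Lib.Helper20.OmegaAff
  Groth.Agent.Lib.Helper20.Thickening Groth.Agent.Lib.Helper20.PullbackAff

namespace Groth.Agent.R2.H22.PullNat

section cat
variable {C : Type*} [Category C]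

theorem skeleton {T T' N N' Z Z' : C} (φ : T ⟶ N) [Epi φ] (φ' : T' ⟶ N') (ψ : N ⟶ N')
    (A : N ⟶ Z) (A' : N' ⟶ Z') (t : T ⟶ T') (a : T ⟶ Z) (a' : T' ⟶ Z') (m : Z ⟶ Z')
    (h1 : φ ≫ A = a) (h2 : φ' ≫ A' = a') (h3 : t ≫ φ' = φ ≫ ψ) (h4 : t ≫ a' = a ≫ m) :
    ψ ≫ A' = A ≫ m := by
  rw [← cancel_epi φ, ← Category.assoc, ← h3, Category.assoc, h2, h4, ← h1, Category.assoc]

/-- pasting two naturality squares -/
theorem sq_comp {A A' B B' D D' : C} {a : A ⟶ A'} {b : B ⟶ B'} {d : D ⟶ D'}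
    {e₁ : A ⟶ B} {e₁' : A' ⟶ B'} {e₂ : B ⟶ D} {e₂' : B' ⟶ D'}
    (h₁ : a ≫ e₁' = e₁ ≫ b) (h₂ : b ≫ e₂' = e₂ ≫ d) :
    a ≫ (e₁' ≫ e₂') = (e₁ ≫ e₂) ≫ d := by
  rw [← Category.assoc, h₁, Category.assoc, h₂, Category.assoc]

end cat

section tildeIso
variable {B : CommRingCat.{u}}

theorem fromTildeΓ_comp_isoTildeOfΓIso_hom (N : (Spec B).Modules) [N.IsQuasicoherent]
    (M : ModuleCat.{u} B) (e : moduleSpecΓFunctor.obj N ≅ M) :
    N.fromTildeΓ ≫ (isoTildeOfΓIso N M e).hom = tilde.map e.hom := by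
  haveI : IsIso N.fromTildeΓ := isIso_fromTildeΓ N
  exact IsIso.hom_inv_id_assoc N.fromTildeΓ (tilde.map e.hom)

theorem isoTildeOfΓIso_naturality {N N' : (Spec B).Modules} [N.IsQuasicoherent]
    [N'.IsQuasicoherent] (ψ : N ⟶ N') {M M' : ModuleCat.{u} B}
    (e : moduleSpecΓFunctor.obj N ≅ M) (e' : moduleSpecΓFunctor.obj N' ≅ M') (μ : M ⟶ M')
    (hμ : moduleSpecΓFunctor.map ψ ≫ e'.hom = e.hom ≫ μ) :
    ψ ≫ (isoTildeOfΓIso N' M' e').hom = (isoTildeOfΓIso N M e).hom ≫ tilde.map μ := by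
  haveI : IsIso N.fromTildeΓ := isIso_fromTildeΓ N
  refine skeleton N.fromTildeΓ N'.fromTildeΓ ψ _ _ (tilde.map (moduleSpecΓFunctor.map ψ))
    (tilde.map e.hom) (tilde.map e'.hom) (tilde.map μ)
    (fromTildeΓ_comp_isoTildeOfΓIso_hom N M e) (fromTildeΓ_comp_isoTildeOfΓIso_hom N' M' e')
    ((Scheme.Modules.fromTildeΓNatTrans (R := B)).naturality ψ) ?_
  exact (tilde.map_comp _ _).symm.trans ((congrArg tilde.map hμ).trans (tilde.map_comp _ _))

end tildeIso

section pull
variable {X Y : Scheme.{u}} (f : Y ⟶ X) {V : X.Opens} (hV : IsAffineOpen V) {U : Y.Opens}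
  (hU : IsAffineOpen U) (h : U ≤ f ⁻¹ᵁ V) {F G : X.Modules} [F.IsQuasicoherent] [G.IsQuasicoherent]
  (φ : F ⟶ G)

/-- the isomorphism `hV.fromSpec^* F ≅ Γ(F,V)~`. -/
noncomputable def e1 (F : X.Modules) [F.IsQuasicoherent] :
    (Scheme.Modules.pullback hV.fromSpec).obj F ≅ tilde ((ΓUF hV).obj F) :=
  haveI : (F.restrict hV.fromSpec).IsQuasicoherent :=
    Scheme.Modules.isQuasicoherent_restrictFunctor hV.fromSpec F
  ((Scheme.Modules.restrictFunctorIsoPullback hV.fromSpec).app F).symm ≪≫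
      isoTildeOfΓIso (F.restrict hV.fromSpec) ((ΓUF hV).obj F) (Iso.refl _)

theorem e1_naturality :
    (Scheme.Modules.pullback hV.fromSpec).map φ ≫ (e1 hV G).hom =
      (e1 hV F).hom ≫ tilde.map ((ΓUF hV).map φ) := by
  haveI : (F.restrict hV.fromSpec).IsQuasicoherent :=
    Scheme.Modules.isQuasicoherent_restrictFunctor hV.fromSpec F
  haveI : (G.restrict hV.fromSpec).IsQuasicoherent :=
    Scheme.Modules.isQuasicoherent_restrictFunctor hV.fromSpec G
  have hA : (Scheme.Modules.pullback hV.fromSpec).map φ ≫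
      (Scheme.Modules.restrictFunctorIsoPullback hV.fromSpec).inv.app G =
      (Scheme.Modules.restrictFunctorIsoPullback hV.fromSpec).inv.app F ≫
        (Scheme.Modules.restrictFunctor hV.fromSpec).map φ :=
    (Scheme.Modules.restrictFunctorIsoPullback hV.fromSpec).inv.naturality φ
  have hB := isoTildeOfΓIso_naturality ((Scheme.Modules.restrictFunctor hV.fromSpec).map φ)
    (Iso.refl (moduleSpecΓFunctor.obj (F.restrict hV.fromSpec)))
    (Iso.refl (moduleSpecΓFunctor.obj (G.restrict hV.fromSpec)))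
    ((ΓUF hV).map φ) (by
      show moduleSpecΓFunctor.map _ ≫ 𝟙 _ = 𝟙 _ ≫ _
      rw [Category.comp_id, Category.id_comp]
      rfl)
  exact sq_comp hA hB

theorem restrictPullbackIso_naturality :
    (Scheme.Modules.restrictFunctor hU.fromSpec).map ((Scheme.Modules.pullback f).map φ) ≫
        (restrictPullbackIso f hV hU h G).hom =
      (restrictPullbackIso f hV hU h F).hom ≫
        tilde.map ((ModuleCat.extendScalars (f.appLE V U h).hom).map ((ΓUF hV).map φ)) := by
  have hsq : Spec.map (f.appLE V U h) ≫ hV.fromSpec = hU.fromSpec ≫ f :=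
    IsAffineOpen.SpecMap_appLE_fromSpec f hV hU h
  have s1 := (Scheme.Modules.restrictFunctorIsoPullback hU.fromSpec).hom.naturality
    ((Scheme.Modules.pullback f).map φ)
  have s2 := (Scheme.Modules.pullbackComp hU.fromSpec f).hom.naturality φ
  have s3 := (Scheme.Modules.pullbackCongr hsq.symm).hom.naturality φ
  have s4 := (Scheme.Modules.pullbackComp (Spec.map (f.appLE V U h)) hV.fromSpec).inv.naturality φ
  have s5 : (Scheme.Modules.pullback (Spec.map (f.appLE V U h))).map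
        ((Scheme.Modules.pullback hV.fromSpec).map φ) ≫
      (Scheme.Modules.pullback (Spec.map (f.appLE V U h))).map (e1 hV G).hom =
      (Scheme.Modules.pullback (Spec.map (f.appLE V U h))).map (e1 hV F).hom ≫
        (Scheme.Modules.pullback (Spec.map (f.appLE V U h))).map (tilde.map ((ΓUF hV).map φ)) := by
    rw [← Functor.map_comp, ← Functor.map_comp, e1_naturality]
  have s6 := (pullbackTildeIso (f.appLE V U h)).hom.naturality ((ΓUF hV).map φ)
  exact sq_comp s1 (sq_comp s2 (sq_comp s3 (sq_comp s4 (sq_comp s5 s6))))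

theorem ΓUFPullbackIso_naturality :
    (ΓUF hU).map ((Scheme.Modules.pullback f).map φ) ≫ (ΓUFPullbackIso f hV hU h G).hom =
      (ΓUFPullbackIso f hV hU h F).hom ≫
        (ModuleCat.extendScalars (f.appLE V U h).hom).map ((ΓUF hV).map φ) := by
  have s1 : moduleSpecΓFunctor.map ((Scheme.Modules.restrictFunctor hU.fromSpec).map
        ((Scheme.Modules.pullback f).map φ)) ≫
      moduleSpecΓFunctor.map (restrictPullbackIso f hV hU h G).hom =
      moduleSpecΓFunctor.map (restrictPullbackIso f hV hU h F).hom ≫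
        moduleSpecΓFunctor.map
          (tilde.map ((ModuleCat.extendScalars (f.appLE V U h).hom).map ((ΓUF hV).map φ))) := by
    rw [← Functor.map_comp, ← Functor.map_comp, restrictPullbackIso_naturality]
  have s2 := (tilde.toTildeΓNatIso (R := Γ(Y, U))).inv.naturality
    ((ModuleCat.extendScalars (f.appLE V U h).hom).map ((ΓUF hV).map φ))
  exact sq_comp s1 s2

end pull

section equivNat
variable {X : Scheme.{u}} {U : X.Opens} (hU : IsAffineOpen U) {M M' : X.Modules} (ψ : M ⟶ M')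

theorem ΓUEquiv_naturality (y : Γ(M, U)) :
    ((ΓUF hU).map ψ).hom (ΓUEquiv hU M y) = ΓUEquiv hU M' (ψ.app U y) := by
  have hn := ψ.mapPresheaf.naturality (homOfLE (Groth.Agent.Lib.Helper2.QCoh.fromSpec_image_le hU ⊤)).op
  have := congrArg (fun t => t.hom y) hn
  exact this

end equivNat

section package
variable {X Y : Scheme.{u}} (f : Y ⟶ X) {V : X.Opens} (hV : IsAffineOpen V) {U : Y.Opens}
  (hU : IsAffineOpen U) (h : U ≤ f ⁻¹ᵁ V)

include hV hU in
open Groth.Agent.Helper18Strict in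
/-- **Sections of a pullback over an affine chart, naturally in the module**: a family of isomorphisms
`Γ(Y,U) ⊗_{Γ(X,V)} Γ(F,V) ≃ Γ(f^*F, U)` compatible with all homomorphisms of quasi-coherent modules. -/
theorem exists_natural_sections_equiv :
    letI : Algebra Γ(X, V) Γ(Y, U) := (f.appLE V U h).hom.toAlgebra
    ∃ T : ∀ (F : X.Modules) [F.IsQuasicoherent],
        Γ(Y, U) ⊗[Γ(X, V)] Γ(F, V) ≃ₗ[Γ(Y, U)] Γ((Scheme.Modules.pullback f).obj F, U),
      ∀ (F G : X.Modules) [F.IsQuasicoherent] [G.IsQuasicoherent] (φ : F ⟶ G)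
        (z : Γ(Y, U) ⊗[Γ(X, V)] Γ(F, V)),
        T G (LinearMap.baseChange Γ(Y, U) (appₗ φ V) z) =
          ((Scheme.Modules.pullback f).map φ).app U (T F z) := by
  letI : Algebra Γ(X, V) Γ(Y, U) := (f.appLE V U h).hom.toAlgebra
  let τ : ∀ (F : X.Modules) [F.IsQuasicoherent],
      ((ΓUF hU).obj ((Scheme.Modules.pullback f).obj F)) ≃ₗ[Γ(Y, U)]
        (Γ(Y, U) ⊗[Γ(X, V)] ((ΓUF hV).obj F)) :=
    fun F _ => (ΓUFPullbackIso f hV hU h F).toLinearEquiv
  let T : ∀ (F : X.Modules) [F.IsQuasicoherent],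
      Γ(Y, U) ⊗[Γ(X, V)] Γ(F, V) ≃ₗ[Γ(Y, U)] Γ((Scheme.Modules.pullback f).obj F, U) :=
    fun F _ => (TensorProduct.AlgebraTensorModule.congr (LinearEquiv.refl Γ(Y, U) Γ(Y, U))
      (ΓUEquiv hV F)) ≪≫ₗ (τ F).symm ≪≫ₗ
      (ΓUEquiv hU ((Scheme.Modules.pullback f).obj F)).symm
  refine ⟨T, fun F G _ _ φ z => ?_⟩
  have hnat := ΓUFPullbackIso_naturality f hV hU h φ
  have hτ : ∀ w : (ΓUF hU).obj ((Scheme.Modules.pullback f).obj F),
      τ G (((ΓUF hU).map ((Scheme.Modules.pullback f).map φ)).hom w) =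
        LinearMap.baseChange Γ(Y, U) ((ΓUF hV).map φ).hom (τ F w) :=
    fun w => congrArg (fun t => t.hom w) hnat
  induction z using TensorProduct.induction_on with
  | zero => simp
  | add a b ha hb => simp only [map_add, ha, hb]
  | tmul b m =>
    set w := (τ F).symm (b ⊗ₜ[Γ(X, V)] (ΓUEquiv hV F m)) with hw
    have e1 : ΓUEquiv hV G (appₗ φ V m) = ((ΓUF hV).map φ).hom (ΓUEquiv hV F m) :=
      (ΓUEquiv_naturality hV φ m).symm
    have h1 : (τ G).symm (b ⊗ₜ[Γ(X, V)] (ΓUEquiv hV G (appₗ φ V m))) =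
        ((ΓUF hU).map ((Scheme.Modules.pullback f).map φ)).hom w := by
      rw [LinearEquiv.symm_apply_eq, hτ w, hw, LinearEquiv.apply_symm_apply,
        LinearMap.baseChange_tmul, e1]
    have h2 : T G (LinearMap.baseChange Γ(Y, U) (appₗ φ V) (b ⊗ₜ[Γ(X, V)] m)) =
        (ΓUEquiv hU ((Scheme.Modules.pullback f).obj G)).symm
          ((τ G).symm (b ⊗ₜ[Γ(X, V)] (ΓUEquiv hV G (appₗ φ V m)))) := by
      rw [LinearMap.baseChange_tmul]
      simp only [T, LinearEquiv.trans_apply, TensorProduct.AlgebraTensorModule.congr_tmul,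
        LinearEquiv.refl_apply]
    have h3 : T F (b ⊗ₜ[Γ(X, V)] m) =
        (ΓUEquiv hU ((Scheme.Modules.pullback f).obj F)).symm w := by
      simp only [T, LinearEquiv.trans_apply, TensorProduct.AlgebraTensorModule.congr_tmul,
        LinearEquiv.refl_apply, hw]
    rw [h2, h3, h1, LinearEquiv.symm_apply_eq, ← ΓUEquiv_naturality hU,
      LinearEquiv.apply_symm_apply]

end package

end Groth.Agent.R2.H22.PullNat
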