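import Mathlib
import Groth.Agent.R2.H22PullNat
import Groth.Agent.R2.H22KerBC
import Groth.Agent.R2.H22KerFG
import Groth.Agent.Lib.Helper26FlatLimA

/-!
# Injectivity of a homomorphism with flat cokernel under base change, on affine charts (helper22)

Namespace `Groth.Agent.R2.H22.InjBC`.

* `modBase`, `appBase`: `Γ(M,U)` as a `Γ(S,V)`-module, `u(U)` as a `Γ(S,V)`-linear map.
* `sections_injective_pullback_iff`: in a cartesian square, over affine charts, `(g'^*u)(U')` is injective iff
  `Γ(S',V') ⊗_{Γ(S,V)} u(U)` is.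
* `flat_quotient_range`: `Γ(F,U) / u(Γ(F',U))` is flat over `Γ(S,V)` if `Coker u` is flat over `S` at the points of `U`.
-/

set_option autoImplicit false
set_option linter.style.haveILetI false
universe u
open CategoryTheory AlgebraicGeometry Limits TensorProduct Opposite TopologicalSpace
open Groth.Agent.Helper18Strict Groth.Agent.Lib.Helper2.FlatOver Groth.Agent.Lib.Helper2.PullbackSec
  Groth.Agent.Lib.Helper4.NormDelta

namespace Groth.Agent.R2.H22.InjBC

section base
variable {X S : Scheme.{u}}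

/-- `Γ(M,U)` as a module over `Γ(S,V)` via `f`. -/
@[reducible] noncomputable def modBase (f : X ⟶ S) (M : X.Modules) {V : S.Opens} {U : X.Opens}
    (e : U ≤ f ⁻¹ᵁ V) : Module Γ(S, V) Γ(M, U) := Module.compHom Γ(M, U) (f.appLE V U e).hom

/-- `u(U)` as a `Γ(S,V)`-linear map. -/
noncomputable def appBase (f : X ⟶ S) {F' F : X.Modules} (u : F' ⟶ F) {V : S.Opens} {U : X.Opens}
    (e : U ≤ f ⁻¹ᵁ V) :
    letI := modBase f F' e; letI := modBase f F e
    Γ(F', U) →ₗ[Γ(S, V)] Γ(F, U) :=
  letI := modBase f F' e; letI := modBase f F e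
  { toFun := fun m => u.app U m
    map_add' := map_add _
    map_smul' := fun a m => (appₗ u U).map_smul ((f.appLE V U e).hom a) m }

end base

section cartesian
variable {X S X' S' : Scheme.{u}} {f : X ⟶ S} {f' : X' ⟶ S'} {g' : X' ⟶ X} {g : S' ⟶ S}

/-- In a cartesian square, over affine charts, `(g'^*u)(g'⁻¹U ⊓ f'⁻¹V')` is injective iff
`Γ(S', V') ⊗_{Γ(S, V)} u(U)` is. -/
theorem sections_injective_pullback_iff (hc : IsPullback g' f' f g) {F' F : X.Modules}
    [F'.IsQuasicoherent] [F.IsQuasicoherent] (u : F' ⟶ F)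
    {V : S.Opens} {V' : S'.Opens} {U : X.Opens} (eV' : V' ≤ g ⁻¹ᵁ V) (eU : U ≤ f ⁻¹ᵁ V)
    (hV : IsAffineOpen V) (hV' : IsAffineOpen V') (hU : IsAffineOpen U) :
    letI : Algebra Γ(S, V) Γ(S', V') := (g.appLE V V' eV').hom.toAlgebra
    letI := modBase f F' eU; letI := modBase f F eU
    Function.Injective (((Scheme.Modules.pullback g').map u).app (g' ⁻¹ᵁ U ⊓ f' ⁻¹ᵁ V')) ↔
      Function.Injective ((appBase f u eU).lTensor Γ(S', V')) := by
  set U' : X'.Opens := g' ⁻¹ᵁ U ⊓ f' ⁻¹ᵁ V' with hU'def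
  have hU' : IsAffineOpen U' := isAffineOpen_inf_preimage hc eV' eU hV hV' hU
  have e1 : U' ≤ g' ⁻¹ᵁ U := inf_le_left
  have e2 : U' ≤ f' ⁻¹ᵁ V' := inf_le_right
  letI aAB : Algebra Γ(S, V) Γ(X, U) := (f.appLE V U eU).hom.toAlgebra
  letI aAA' : Algebra Γ(S, V) Γ(S', V') := (g.appLE V V' eV').hom.toAlgebra
  letI aBB' : Algebra Γ(X, U) Γ(X', U') := (g'.appLE U U' e1).hom.toAlgebra
  letI aA'B' : Algebra Γ(S', V') Γ(X', U') := (f'.appLE V' U' e2).hom.toAlgebra
  letI aAB' : Algebra Γ(S, V) Γ(X', U') :=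
    ((g'.appLE U U' e1).hom.comp (f.appLE V U eU).hom).toAlgebra
  haveI tABB' : IsScalarTower Γ(S, V) Γ(X, U) Γ(X', U') :=
    IsScalarTower.of_algebraMap_eq (fun a => rfl)
  haveI tAA'B' : IsScalarTower Γ(S, V) Γ(S', V') Γ(X', U') := by
    refine IsScalarTower.of_algebraMap_eq (fun a => ?_)
    change (g'.appLE U U' e1).hom ((f.appLE V U eU).hom a) =
      (f'.appLE V' U' e2).hom ((g.appLE V V' eV').hom a)
    have h1 := Scheme.Hom.appLE_comp_appLE g' f V U U' eU e1
    have h2 := Scheme.Hom.appLE_comp_appLE f' g V V' U' eV' e2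
    have h3 : (f.appLE V U eU ≫ g'.appLE U U' e1) = (g.appLE V V' eV' ≫ f'.appLE V' U' e2) := by
      rw [h1, h2]
      congr 1
      exact hc.w
    exact congrArg (fun φ => φ.hom a) h3
  haveI hPO : Algebra.IsPushout Γ(S, V) Γ(S', V') Γ(X, U) Γ(X', U') :=
    algebra_isPushout hc eV' eU hV hV' hU e1 e2
  letI mAM' : Module Γ(S, V) Γ(F', U) := modBase f F' eU
  letI mAM : Module Γ(S, V) Γ(F, U) := modBase f F eU
  haveI tABM' : IsScalarTower Γ(S, V) Γ(X, U) Γ(F', U) :=
    IsScalarTower.of_algebraMap_smul (fun a n => rfl)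
  haveI tABM : IsScalarTower Γ(S, V) Γ(X, U) Γ(F, U) :=
    IsScalarTower.of_algebraMap_smul (fun a n => rfl)
  obtain ⟨T, hT⟩ := Groth.Agent.R2.H22.PullNat.exists_natural_sections_equiv g' hU hU' e1
  have happ : appBase f u eU = (appₗ u U).restrictScalars Γ(S, V) := rfl
  have hE := Groth.Agent.R2.H22.KerBC.cancelBaseChange_naturality
    Γ(S, V) Γ(S', V') Γ(X, U) Γ(X', U') (appₗ u U)
  -- first equivalence: `(g'^*u)(U')` injective iff `baseChange` is
  have step1 : Function.Injective (((Scheme.Modules.pullback g').map u).app U') ↔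
      Function.Injective (LinearMap.baseChange Γ(X', U') (appₗ u U)) := by
    constructor
    · intro h z₁ z₂ hz
      apply (T F').injective
      apply h
      rw [← hT F' F u z₁, ← hT F' F u z₂, hz]
    · intro h m₁ m₂ hm
      obtain ⟨z₁, rfl⟩ := (T F').surjective m₁
      obtain ⟨z₂, rfl⟩ := (T F').surjective m₂
      rw [← hT F' F u z₁, ← hT F' F u z₂] at hm
      rw [h ((T F).injective hm)]
  have step2 : Function.Injective (LinearMap.baseChange Γ(X', U') (appₗ u U)) ↔
      Function.Injective (((appₗ u U).restrictScalars Γ(S, V)).lTensor Γ(S', V')) := by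
    constructor
    · intro h w₁ w₂ hw
      obtain ⟨z₁, rfl⟩ := (Algebra.IsPushout.cancelBaseChange
        Γ(S, V) Γ(S', V') Γ(X, U) Γ(X', U') Γ(F', U)).surjective w₁
      obtain ⟨z₂, rfl⟩ := (Algebra.IsPushout.cancelBaseChange
        Γ(S, V) Γ(S', V') Γ(X, U) Γ(X', U') Γ(F', U)).surjective w₂
      rw [← hE z₁, ← hE z₂] at hw
      rw [h ((LinearEquiv.injective _) hw)]
    · intro h z₁ z₂ hz
      apply (Algebra.IsPushout.cancelBaseChange
        Γ(S, V) Γ(S', V') Γ(X, U) Γ(X', U') Γ(F', U)).injective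
      apply h
      rw [← hE z₁, ← hE z₂, hz]
  rw [happ]
  exact step1.trans step2

end cartesian

section engine
open Groth.Agent.Lib.Helper18ColimSys
variable {R : Type u} [CommRing R] {ι : Type u} {G : ι → Type u} [∀ i, CommRing (G i)]
    [∀ i, Algebra R (G i)] {A : Type u} [CommRing A] [Algebra R A] {g : ∀ i, G i →ₐ[R] A}

/-- `A = colim G i`; `u : M → N` linear over an `R`-algebra `B`, with `N / u(M)` flat over `R` and `Ker u` finitely
generated over `B`. If `A ⊗ u` is injective, then `G j' ⊗ u` is injective for all `j'` receiving a map from a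
suitable `j`. -/
theorem Sys.lTensor_injective_stage (hS : Sys R G A g) {B : Type*} [CommRing B] [Algebra R B]
    {M N : Type*} [AddCommGroup M] [Module R M] [Module B M] [IsScalarTower R B M]
    [AddCommGroup N] [Module R N] [Module B N] [IsScalarTower R B N] (u : M →ₗ[B] N)
    (hfl : Module.Flat R (N ⧸ LinearMap.range (u.restrictScalars R)))
    (hK : (LinearMap.ker u).FG)
    (hinj : Function.Injective ((u.restrictScalars R).lTensor A)) :
    ∃ j, ∀ (j' : ι) (_ : G j →ₐ[R] G j'),
      Function.Injective ((u.restrictScalars R).lTensor (G j')) := by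
  classical
  obtain ⟨s, hs⟩ := hK
  obtain ⟨i₀⟩ := hS.nonempty
  have h0 : ∀ z ∈ s.image (fun k => (1 : G i₀) ⊗ₜ[R] k),
      (g i₀).toLinearMap.rTensor M z = 0 := by
    intro z hz
    obtain ⟨k, hk, rfl⟩ := Finset.mem_image.1 hz
    rw [LinearMap.rTensor_tmul, AlgHom.toLinearMap_apply, map_one]
    apply hinj
    rw [LinearMap.lTensor_tmul, map_zero]
    have hk' : k ∈ LinearMap.ker u := by
      rw [← hs]; exact Submodule.subset_span hk
    have : (u.restrictScalars R) k = 0 := hk'
    rw [this, TensorProduct.tmul_zero]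
  obtain ⟨j, φ, -, hφ⟩ := hS.tensor_kill_left_finset M i₀ _ h0
  refine ⟨j, fun j' ψ => ?_⟩
  refine Groth.Agent.R2.H22.KerBC.lTensor_injective_of_gens u hfl (G j') (s : Set M) hs ?_
  intro k hk
  have h1 := hφ _ (Finset.mem_image_of_mem _ hk)
  rw [LinearMap.rTensor_tmul, AlgHom.toLinearMap_apply, map_one] at h1
  have h2 := congrArg (ψ.toLinearMap.rTensor M) h1
  rwa [LinearMap.rTensor_tmul, AlgHom.toLinearMap_apply, map_one, map_zero] at h2

end engine

section local_
variable {X S : Scheme.{u}}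

/-- `Γ(F,U) / u(Γ(F',U))` is flat over `Γ(S,V)` if `Coker u` is flat over `S` at the points of `U`. -/
theorem flat_quotient_range (f : X ⟶ S) {F' F : X.Modules} [F'.IsQuasicoherent] [F.IsQuasicoherent]
    (u : F' ⟶ F) {U : X.Opens} (hU : IsAffineOpen U) {V : S.Opens} (hV : IsAffineOpen V)
    (e : U ≤ f ⁻¹ᵁ V) (H : ∀ x : X, x ∈ U → FlatMod.IsFlatOverAt f (cokernel u) x) :
    letI := modBase f F' e; letI := modBase f F e
    Module.Flat Γ(S, V) (Γ(F, U) ⧸ LinearMap.range (appBase f u e)) := by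
  haveI : (cokernel u).IsQuasicoherent :=
    Groth.Agent.Lib.Helper23.QCohLocal.isQuasicoherent_cokernel u
  letI := modBase f F' e
  letI := modBase f F e
  letI := modBase f (cokernel u) e
  haveI hfl : Module.Flat Γ(S, V) Γ(cokernel u, U) :=
    flat_sections_of_isFlatOverAt f (cokernel u) hU hV e H
  have hsurj : Function.Surjective (appBase f (cokernel.π u) e) :=
    Groth.Agent.Lib.Helper23.FinType.surjective_app_of_epi (cokernel.π u) hU
  have hker : LinearMap.range (appBase f u e) = LinearMap.ker (appBase f (cokernel.π u) e) := by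
    ext m
    have := Groth.Agent.R2.H22.KerFG.range_app_eq_ker u hU
    have h2 : m ∈ LinearMap.range (appₗ u U) ↔ m ∈ LinearMap.ker (appₗ (cokernel.π u) U) := by
      rw [this]
    exact h2
  exact Module.Flat.of_linearEquiv ((Submodule.quotEquivOfEq _ _ hker).trans
    ((appBase f (cokernel.π u) e).quotKerEquivOfSurjective hsurj))

/-- injectivity on sections over an affine open implies injectivity on the stalks at its points. -/
theorem stalkHom_injective_of_app_injective {F' F : X.Modules} [F'.IsQuasicoherent]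
    [F.IsQuasicoherent] (u : F' ⟶ F) {U : X.Opens} (hU : IsAffineOpen U)
    (hinj : Function.Injective (u.app U)) (x : X) (hx : x ∈ U) :
    Function.Injective (stalkHom u x) := by
  letI i1 := moduleStalkSections F' U x hx
  letI i2 := moduleStalkSections F U x hx
  haveI l1 := isLocalizedModule_germ hU F' x hx
  haveI l2 := isLocalizedModule_germ hU F x hx
  set P := (hU.primeIdealOf ⟨x, hx⟩).asIdeal.primeCompl with hP
  rw [injective_iff_map_eq_zero]
  intro a ha
  obtain ⟨⟨m', t⟩, hmt⟩ := IsLocalizedModule.surj P (germₗ F' U x hx) a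
  have h3 : germₗ F U x hx (appₗ u U m') = 0 := by
    rw [germₗ_apply, appₗ_apply, ← stalkHom_germ, ← germₗ_apply, ← hmt]
    change stalkHom u x ((X.presheaf.germ U x hx t.1) • a) = 0
    rw [stalkHom_smul, ha, smul_zero]
  obtain ⟨t', ht'⟩ := (IsLocalizedModule.eq_zero_iff P (germₗ F U x hx)).1 h3
  have h4 : u.app U (t'.1 • m') = 0 := by
    have : appₗ u U (t'.1 • m') = 0 := by
      rw [map_smul]
      exact ht'
    exact this
  have h5 : t'.1 • m' = 0 := hinj (h4.trans (map_zero _).symm)
  have h6 : germₗ F' U x hx m' = 0 := by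
    have h7 : t' • germₗ F' U x hx m' = 0 := by
      rw [Submonoid.smul_def, ← map_smul]
      rw [h5, map_zero]
    exact IsLocalizedModule.smul_injective (germₗ F' U x hx) t'
      (h7.trans (smul_zero _).symm)
  rw [h6] at hmt
  exact IsLocalizedModule.smul_injective (germₗ F' U x hx) t (hmt.trans (smul_zero _).symm)

/-- injectivity on the stalks at all points of an open implies injectivity on its sections. -/
theorem app_injective_of_stalkHom_injective {F' F : X.Modules} (u : F' ⟶ F) (U : X.Opens)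
    (hinj : ∀ x : X, x ∈ U → Function.Injective (stalkHom u x)) :
    Function.Injective (u.app U) := by
  rw [injective_iff_map_eq_zero]
  intro m hm
  refine TopCat.Presheaf.section_ext (⟨F'.presheaf, F'.isSheaf⟩ : TopCat.Sheaf Ab X) U m 0
    fun x hx => ?_
  apply hinj x hx
  change stalkHom u x (F'.presheaf.germ U x hx m) = stalkHom u x (F'.presheaf.germ U x hx 0)
  rw [stalkHom_germ, stalkHom_germ, hm, map_zero, map_zero, map_zero]

end local_

end Groth.Agent.R2.H22.InjBC
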