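import Mathlib
import Groth.Agent.R2.H22InjBC
import Groth.Agent.Lib.Helper26FlatLimD

/-!
# Injectivity with flat cokernel: base change and descent to a stage of a limit (helper22)

Namespace `Groth.Agent.R2.H22.InjLim`.

* `stalkHom_injective_pullback`: in a cartesian square (`f` l.f.p., `F'`, `F` f.p.), if `u_x` is injective and
  `Coker u` is `f`-flat at `x = g'(x')`, then `(g'^*u)_{x'}` is injective (EGA IV 11.3.7-type universal injectivity).
* `exists_stage_chart_injective`: chart version of the descent of injectivity to a stage of `S = lim S_j`.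
-/

set_option autoImplicit false
set_option linter.style.haveILetI false
universe u
open CategoryTheory AlgebraicGeometry Limits TensorProduct Opposite TopologicalSpace
open Groth.Agent.Helper18Strict Groth.Agent.Lib.Helper2.FlatOver Groth.Agent.Lib.Helper2.PullbackSec
  Groth.Agent.Lib.Helper4.NormDelta Groth.Agent.R2.H22.InjBC Groth.Agent.R2.H22.KerFG
  Groth.Agent.Lib.Helper26.ModLim Groth.Agent.Lib.Helper18ColimSys

namespace Groth.Agent.R2.H22.InjLim

section cartesian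
variable {X S X' S' : Scheme.{u}} {f : X ⟶ S} {f' : X' ⟶ S'} {g' : X' ⟶ X} {g : S' ⟶ S}

/-- **Universal injectivity**: in a cartesian square with `f` locally of finite presentation and `F'`, `F` of finite
presentation, if `u_x` is injective and `Coker u` is `f`-flat at `x = g'(x')` then `(g'^*u)_{x'}` is injective. -/
theorem stalkHom_injective_pullback (hc : IsPullback g' f' f g) [LocallyOfFinitePresentation f]
    {F' F : X.Modules} [F'.IsQuasicoherent] [F.IsQuasicoherent] (hF' : CohB1.IsFP F')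
    (hF : CohB1.IsFP F) (u : F' ⟶ F) (x' : X')
    (Hfl : FlatMod.IsFlatOverAt f (cokernel u) (g' x'))
    (Hinj : Function.Injective (stalkHom u (g' x'))) :
    Function.Injective (stalkHom ((Scheme.Modules.pullback g').map u) x') := by
  haveI : (cokernel u).IsQuasicoherent :=
    Groth.Agent.Lib.Helper23.QCohLocal.isQuasicoherent_cokernel u
  have hCfp : SheafOfModules.IsFinitePresentation (R := X.ringCatSheaf) (cokernel u) :=
    isFP_cokernel hF hF' u
  have hΩ : IsOpen {x : X | FlatMod.IsFlatOverAt f (cokernel u) x} :=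
    @Groth.Agent.Lib.Helper2.FinPres.isOpen_setOf_isFlatOverAt _ _ f _ (cokernel u) _ hCfp
  let Ω : X.Opens := ⟨_, hΩ⟩
  have hw : g (f' x') = f (g' x') := by
    have := congrArg (fun φ => φ.base x') hc.w
    simpa using this.symm
  obtain ⟨V, hV, hxV⟩ : ∃ V : S.Opens, IsAffineOpen V ∧ f (g' x') ∈ V := by
    obtain ⟨_, ⟨V, hV, rfl⟩, hxV, -⟩ :=
      S.isBasis_affineOpens.exists_subset_of_mem_open (Set.mem_univ (f (g' x'))) isOpen_univ
    exact ⟨V, hV, hxV⟩
  obtain ⟨V', hV', hxV', eV'⟩ : ∃ V' : S'.Opens, IsAffineOpen V' ∧ f' x' ∈ V' ∧ V' ≤ g ⁻¹ᵁ V := by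
    obtain ⟨_, ⟨V', hV', rfl⟩, hxV', hle⟩ := S'.isBasis_affineOpens.exists_subset_of_mem_open
      (show f' x' ∈ ((g ⁻¹ᵁ V : S'.Opens) : Set S') from by
        show g (f' x') ∈ V
        rw [hw]; exact hxV) (g ⁻¹ᵁ V).isOpen
    exact ⟨V', hV', hxV', hle⟩
  obtain ⟨U, hU, hxU, hUle⟩ : ∃ U : X.Opens, IsAffineOpen U ∧ g' x' ∈ U ∧ U ≤ f ⁻¹ᵁ V ⊓ Ω := by
    obtain ⟨_, ⟨U, hU, rfl⟩, hxU, hUV⟩ := X.isBasis_affineOpens.exists_subset_of_mem_open
      (show g' x' ∈ ((f ⁻¹ᵁ V ⊓ Ω : X.Opens) : Set X) from ⟨hxV, Hfl⟩) (f ⁻¹ᵁ V ⊓ Ω).isOpen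
    exact ⟨U, hU, hxU, hUV⟩
  have hK := fg_ker_app f hF hF' u hU hV (hUle.trans inf_le_left) (fun x hx => (hUle hx).2)
  obtain ⟨s, hxs, hs⟩ := exists_basicOpen_injective u hU hK (g' x') hxU Hinj
  set W : X.Opens := X.basicOpen s with hWdef
  have hW : IsAffineOpen W := hU.basicOpen s
  have hWU : W ≤ U := X.basicOpen_le s
  have eW : W ≤ f ⁻¹ᵁ V := hWU.trans (hUle.trans inf_le_left)
  have hinjW : Function.Injective (u.app W) := app_injective_of_stalkHom_injective u W hs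
  letI := modBase f F' eW
  letI := modBase f F eW
  letI : Algebra Γ(S, V) Γ(S', V') := (g.appLE V V' eV').hom.toAlgebra
  haveI hflq : Module.Flat Γ(S, V) (Γ(F, W) ⧸ LinearMap.range (appBase f u eW)) :=
    flat_quotient_range f u hW hV eW (fun x hx => (hUle (hWU hx)).2)
  have h1 : Function.Injective ((appBase f u eW).lTensor Γ(S', V')) :=
    Groth.Agent.R2.H22.KerBC.lTensor_injective_of_flat_coker (appBase f u eW) Γ(S', V') hinjW
  have h2 := (sections_injective_pullback_iff hc u eV' eW hV hV' hW).2 h1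
  haveI : ((Scheme.Modules.pullback g').obj F').IsQuasicoherent := isQuasicoherent_pullback g' F'
  haveI : ((Scheme.Modules.pullback g').obj F).IsQuasicoherent := isQuasicoherent_pullback g' F
  exact stalkHom_injective_of_app_injective _
    (isAffineOpen_inf_preimage hc eV' eW hV hV' hW) h2 x' ⟨hxs, hxV'⟩

end cartesian

section chart
variable {I : Type u} [SmallCategory I] [IsCofiltered I] (D : I ⥤ Scheme.{u}) (c : Cone D)
  (hc : IsLimit c) [∀ (i j : I) (f : i ⟶ j), IsAffineHom (D.map f)] (i₀ : I)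

attribute [local instance] algG algA

include hc in
/-- Chart version of the descent of injectivity: `S = lim S_j`, `f₀ : X₀ ⟶ S_{i₀}` l.f.p., `h₀ : F₀ ⟶ G₀` a
homomorphism of f.p. modules with `Coker h₀` flat over `S_{i₀}` at the points of the affine `U` (over the affine `V`).
If the pullback of `h₀` to `X₀ ×_{S_{i₀}} S` is injective on stalks at all points above `U`, the same holds for the
pullback to `X₀ ×_{S_{i₀}} S_{j'}` for all `j' → j`, for some `j`. -/
theorem exists_stage_chart_injective {X₀ : Scheme.{u}} (f₀ : X₀ ⟶ D.obj i₀)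
    [LocallyOfFinitePresentation f₀] {F₀ G₀ : X₀.Modules} [F₀.IsQuasicoherent] [G₀.IsQuasicoherent]
    (hF₀ : CohB1.IsFP F₀) (hG₀ : CohB1.IsFP G₀) (h₀ : F₀ ⟶ G₀)
    {U : X₀.Opens} (hU : IsAffineOpen U) {V : (D.obj i₀).Opens} (hV : IsAffineOpen V)
    (e : U ≤ f₀ ⁻¹ᵁ V)
    {P : Scheme.{u}} {qX : P ⟶ X₀} {pX : P ⟶ c.pt} (hP : IsPullback qX pX f₀ (c.π.app i₀))
    (Hfl : ∀ x₀ : X₀, x₀ ∈ U → FlatMod.IsFlatOverAt f₀ (cokernel h₀) x₀)
    (Hinj : ∀ x : P, qX x ∈ U →
      Function.Injective (stalkHom ((Scheme.Modules.pullback qX).map h₀) x)) :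
    ∃ j : Over i₀, ∀ (j' : Over i₀) (_ : j' ⟶ j) {Xj : Scheme.{u}} (p : Xj ⟶ X₀)
      (b : Xj ⟶ D.obj j'.left), IsPullback p b f₀ (D.map j'.hom) → ∀ x : Xj, p x ∈ U →
        Function.Injective (stalkHom ((Scheme.Modules.pullback p).map h₀) x) := by
  letI aBC : Algebra Γ(D.obj i₀, V) Γ(X₀, U) := (f₀.appLE V U e).hom.toAlgebra
  letI mF : Module Γ(D.obj i₀, V) Γ(F₀, U) := modBase f₀ F₀ e
  letI mG : Module Γ(D.obj i₀, V) Γ(G₀, U) := modBase f₀ G₀ e
  haveI tF : IsScalarTower Γ(D.obj i₀, V) Γ(X₀, U) Γ(F₀, U) :=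
    IsScalarTower.of_algebraMap_smul (fun a n => rfl)
  haveI tG : IsScalarTower Γ(D.obj i₀, V) Γ(X₀, U) Γ(G₀, U) :=
    IsScalarTower.of_algebraMap_smul (fun a n => rfl)
  have hflq : Module.Flat Γ(D.obj i₀, V)
      (Γ(G₀, U) ⧸ LinearMap.range ((appₗ h₀ U).restrictScalars Γ(D.obj i₀, V))) :=
    flat_quotient_range f₀ h₀ hU hV e Hfl
  have hK := fg_ker_app f₀ hG₀ hF₀ h₀ hU hV e Hfl
  -- injectivity at the limit
  haveI hπ : IsAffineHom (c.π.app i₀) := isAffineHom_π_app D c hc i₀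
  have hV' : IsAffineOpen (c.π.app i₀ ⁻¹ᵁ V) := hV.preimage _
  have hinjP : Function.Injective (((Scheme.Modules.pullback qX).map h₀).app
      (qX ⁻¹ᵁ U ⊓ pX ⁻¹ᵁ (c.π.app i₀ ⁻¹ᵁ V))) :=
    app_injective_of_stalkHom_injective _ _ (fun x hx => Hinj x hx.1)
  have hinjA : Function.Injective
      (((appₗ h₀ U).restrictScalars Γ(D.obj i₀, V)).lTensor Γ(c.pt, c.π.app i₀ ⁻¹ᵁ V)) :=
    (sections_injective_pullback_iff hP h₀ le_rfl e hV hV' hU).1 hinjP
  obtain ⟨j, hj⟩ := Sys.lTensor_injective_stage (sys D c hc i₀ V hV) (appₗ h₀ U) hflq hK hinjA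
  refine ⟨j, fun j' a Xj p b hpb x hx => ?_⟩
  have hj' := hj j' (trAlg D i₀ V a)
  have hVj : IsAffineOpen (D.map j'.hom ⁻¹ᵁ V) := hV.preimage _
  have h2 : Function.Injective (((Scheme.Modules.pullback p).map h₀).app
      (p ⁻¹ᵁ U ⊓ b ⁻¹ᵁ (D.map j'.hom ⁻¹ᵁ V))) :=
    (sections_injective_pullback_iff hpb h₀ le_rfl e hV hVj hU).2 hj'
  haveI : ((Scheme.Modules.pullback p).obj F₀).IsQuasicoherent := isQuasicoherent_pullback p F₀
  haveI : ((Scheme.Modules.pullback p).obj G₀).IsQuasicoherent := isQuasicoherent_pullback p G₀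
  refine stalkHom_injective_of_app_injective _
    (isAffineOpen_inf_preimage hpb le_rfl e hV hVj hU) h2 x ⟨hx, ?_⟩
  show (D.map j'.hom) (b x) ∈ V
  have : (D.map j'.hom) (b x) = f₀ (p x) := by
    have := congrArg (fun φ => φ.base x) hpb.w
    simpa using this.symm
  rw [this]
  exact e hx

end chart

end Groth.Agent.R2.H22.InjLim
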