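import Mathlib
import Groth.Agent.R2.H22InjLim

/-!
# Injectivity with flat cokernel descends to a stage of a limit of schemes: pointwise version (helper22)

Namespace `Groth.Agent.R2.H22.InjLim`.

* `stalkHom_injective_of_iso`, `stalkHom_injective_pullback_comp_iff`: transport of stalk-injectivity along
  isomorphisms of arrows, in particular `a^*(b^*h) ≅ (a ≫ b)^*h`.
* `isFlatOverAt_cokernel_pullback_iff`: `Coker (p^*h) ≅ p^*(Coker h)` for flatness.
* `exists_stage_stalkHom_injective`: EGA IV 11.2.6 (ii)-type: `S = lim S_j`, `f₀ : X₀ ⟶ S_{i₀}` l.f.p., `h₀ : F₀ ⟶ G₀` a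
  homomorphism of f.p. modules; if the pullback `h` of `h₀` to `X₀ ×_{S_{i₀}} S` is injective at `x` with cokernel flat over
  `S` at `x`, the same holds for the pullbacks to `X₀ ×_{S_{i₀}} S_{j'}` at the image of `x`, for all `j' → j` (some `j`).
-/

set_option autoImplicit false
set_option linter.style.haveILetI false
universe u
open CategoryTheory AlgebraicGeometry Limits TensorProduct Opposite TopologicalSpace
open Groth.Agent.Helper18Strict Groth.Agent.Lib.Helper2.FlatOver Groth.Agent.Lib.Helper2.PullbackSec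
  Groth.Agent.Lib.Helper4.NormDelta Groth.Agent.R2.H22.InjBC Groth.Agent.R2.H22.KerFG
  Groth.Agent.Lib.Helper26.ModLim Groth.Agent.Lib.Helper18ColimSys Groth.Agent.Lib.Helper22.LimBC
  Groth.Agent.Lib.Helper26.FlatLim

namespace Groth.Agent.R2.H22.InjLim

section transfer

theorem stalkHom_injective_of_iso {X : Scheme.{u}} {F₁ G₁ F₂ G₂ : X.Modules} (u₁ : F₁ ⟶ G₁)
    (u₂ : F₂ ⟶ G₂) (eF : F₁ ≅ F₂) (eG : G₁ ≅ G₂) (w : u₁ ≫ eG.hom = eF.hom ≫ u₂) (x : X)
    (h : Function.Injective (stalkHom u₂ x)) : Function.Injective (stalkHom u₁ x) := by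
  intro a b hab
  have key : ∀ m, stalkHom eG.hom x (stalkHom u₁ x m) = stalkHom u₂ x (stalkHom eF.hom x m) := by
    intro m
    rw [stalkHom_comp, stalkHom_comp, w]
  have h1 : stalkHom eF.hom x a = stalkHom eF.hom x b := h (by rw [← key, ← key, hab])
  have h2 := congrArg (stalkHom eF.inv x) h1
  rwa [stalkHom_comp, stalkHom_comp, eF.hom_inv_id, stalkHom_id, stalkHom_id] at h2

theorem stalkHom_injective_pullback_comp_iff {X Y Z : Scheme.{u}} (a : Z ⟶ Y) (b : Y ⟶ X)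
    (c : Z ⟶ X) (hc : a ≫ b = c) {F G : X.Modules} (h : F ⟶ G) (z : Z) :
    Function.Injective (stalkHom ((Scheme.Modules.pullback a).map
        ((Scheme.Modules.pullback b).map h)) z) ↔
      Function.Injective (stalkHom ((Scheme.Modules.pullback c).map h) z) := by
  let e : Scheme.Modules.pullback b ⋙ Scheme.Modules.pullback a ≅ Scheme.Modules.pullback c :=
    Scheme.Modules.pullbackComp a b ≪≫ Scheme.Modules.pullbackCongr hc
  have w : (Scheme.Modules.pullback a).map ((Scheme.Modules.pullback b).map h) ≫ (e.app G).hom =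
      (e.app F).hom ≫ (Scheme.Modules.pullback c).map h := e.hom.naturality h
  constructor
  · intro H
    refine stalkHom_injective_of_iso _ _ (e.app F).symm (e.app G).symm ?_ z H
    rw [Iso.symm_hom, Iso.symm_hom, Iso.comp_inv_eq, Category.assoc, Iso.eq_inv_comp]
    exact w.symm
  · intro H
    exact stalkHom_injective_of_iso _ _ (e.app F) (e.app G) w z H

theorem isFlatOverAt_cokernel_pullback_iff {X S T : Scheme.{u}} (b : T ⟶ S) (p : T ⟶ X)
    {F G : X.Modules} (h : F ⟶ G) (y : T) :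
    FlatMod.IsFlatOverAt b (cokernel ((Scheme.Modules.pullback p).map h)) y ↔
      FlatMod.IsFlatOverAt b ((Scheme.Modules.pullback p).obj (cokernel h)) y :=
  ⟨fun H => isFlatOverAt_of_iso b (PreservesCokernel.iso (Scheme.Modules.pullback p) h).symm y H,
    fun H => isFlatOverAt_of_iso b (PreservesCokernel.iso (Scheme.Modules.pullback p) h) y H⟩

end transfer

section pt
variable {I : Type u} [SmallCategory I] [IsCofiltered I] (D : I ⥤ Scheme.{u}) (c : Cone D)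
  (hc : IsLimit c) [∀ (i j : I) (f : i ⟶ j), IsAffineHom (D.map f)] (i₀ : I)

include hc in
/-- **EGA IV 11.2.6 (ii)**, pointwise, base system `(S_j)`: injectivity at `x` with cokernel flat at `x` descends to a
stage (and then holds at all later stages, for all models of the fibre product). -/
theorem exists_stage_stalkHom_injective {X₀ : Scheme.{u}} (f₀ : X₀ ⟶ D.obj i₀)
    [LocallyOfFinitePresentation f₀] {F₀ G₀ : X₀.Modules} [F₀.IsQuasicoherent] [G₀.IsQuasicoherent]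
    (hF₀ : CohB1.IsFP F₀) (hG₀ : CohB1.IsFP G₀) (h₀ : F₀ ⟶ G₀)
    {P : Scheme.{u}} {qX : P ⟶ X₀} {pX : P ⟶ c.pt} (hP : IsPullback qX pX f₀ (c.π.app i₀)) (x : P)
    (Hinj : Function.Injective (stalkHom ((Scheme.Modules.pullback qX).map h₀) x))
    (Hfl : FlatMod.IsFlatOverAt pX (cokernel ((Scheme.Modules.pullback qX).map h₀)) x) :
    ∃ j : Over i₀, ∀ (j' : Over i₀) (_ : j' ⟶ j) {Xj : Scheme.{u}} (p : Xj ⟶ X₀)
      (b : Xj ⟶ D.obj j'.left) (_ : IsPullback p b f₀ (D.map j'.hom)) (v : P ⟶ Xj),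
      v ≫ p = qX → v ≫ b = pX ≫ c.π.app j'.left →
        Function.Injective (stalkHom ((Scheme.Modules.pullback p).map h₀) (v x)) ∧
        FlatMod.IsFlatOverAt b (cokernel ((Scheme.Modules.pullback p).map h₀)) (v x) := by
  haveI hD : ∀ {i j : I} (φ : i ⟶ j), IsAffineHom (D.map φ) := fun φ => inferInstance
  -- the cokernel
  set C₀ : X₀.Modules := cokernel h₀ with hC₀
  haveI hC₀q : C₀.IsQuasicoherent := Groth.Agent.Lib.Helper23.QCohLocal.isQuasicoherent_cokernel h₀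
  haveI hC₀fp : SheafOfModules.IsFinitePresentation (R := X₀.ringCatSheaf) C₀ :=
    isFP_cokernel hG₀ hF₀ h₀
  -- step 1: flatness of the cokernel at a stage
  have H' : FlatMod.IsFlatOverAt pX ((Scheme.Modules.pullback qX).obj C₀) x :=
    (isFlatOverAt_cokernel_pullback_iff pX qX h₀ x).1 Hfl
  obtain ⟨j₁, hj₁⟩ := exists_stage_isFlatOverAt D c hc i₀ f₀ C₀ hP x H'
  -- the `X`-system
  have hc'' : IsLimit (bcCone i₀ hP) := isLimitBcCone i₀ hP hc
  -- step 2: a chart at stage `j₁` inside the flat locus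
  set X₁ := (bcDiagram D i₀ f₀).obj j₁ with hX₁
  set f₁ : X₁ ⟶ D.obj j₁.left := dSnd D i₀ f₀ j₁ with hf₁
  set q₁ : X₁ ⟶ X₀ := dFst D i₀ f₀ j₁ with hq₁
  set π₁ : P ⟶ X₁ := bcπ i₀ hP j₁ with hπ₁
  haveI : LocallyOfFinitePresentation f₁ :=
    MorphismProperty.of_isPullback (isPullback_d D i₀ f₀ j₁) inferInstance
  haveI : ((Scheme.Modules.pullback q₁).obj C₀).IsQuasicoherent := isQuasicoherent_pullback _ C₀
  have hC₁fp : SheafOfModules.IsFinitePresentation (R := X₁.ringCatSheaf)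
      ((Scheme.Modules.pullback q₁).obj C₀) :=
    Groth.Agent.Helper18Strict.isFP_pullback _ C₀ hC₀fp
  have hΩ : IsOpen {y : X₁ | FlatMod.IsFlatOverAt f₁ ((Scheme.Modules.pullback q₁).obj C₀) y} :=
    @Groth.Agent.Lib.Helper2.FinPres.isOpen_setOf_isFlatOverAt _ _ f₁ _
      ((Scheme.Modules.pullback q₁).obj C₀) _ hC₁fp
  let Ω : X₁.Opens := ⟨_, hΩ⟩
  have hx₁Ω : π₁ x ∈ Ω :=
    hj₁ j₁ (𝟙 j₁) q₁ f₁ (isPullback_d D i₀ f₀ j₁) π₁ (bcπ_fst i₀ hP j₁) (bcπ_snd i₀ hP j₁)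
  obtain ⟨V₁, hV₁, hxV₁⟩ : ∃ V₁ : (D.obj j₁.left).Opens, IsAffineOpen V₁ ∧ f₁ (π₁ x) ∈ V₁ := by
    obtain ⟨_, ⟨V, hV, rfl⟩, hxV, -⟩ := (D.obj j₁.left).isBasis_affineOpens.exists_subset_of_mem_open
      (Set.mem_univ (f₁ (π₁ x))) isOpen_univ
    exact ⟨V, hV, hxV⟩
  obtain ⟨U₁, hU₁, hxU₁, hU₁le⟩ : ∃ U₁ : X₁.Opens, IsAffineOpen U₁ ∧ π₁ x ∈ U₁ ∧
      U₁ ≤ f₁ ⁻¹ᵁ V₁ ⊓ Ω := by
    obtain ⟨_, ⟨U, hU, rfl⟩, hxU, hUV⟩ := X₁.isBasis_affineOpens.exists_subset_of_mem_open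
      (show π₁ x ∈ ((f₁ ⁻¹ᵁ V₁ ⊓ Ω : X₁.Opens) : Set X₁) from ⟨hxV₁, hx₁Ω⟩) (f₁ ⁻¹ᵁ V₁ ⊓ Ω).isOpen
    exact ⟨U, hU, hxU, hUV⟩
  -- the chart at the limit
  haveI hπ : IsAffineHom ((bcCone i₀ hP).π.app j₁) :=
    isAffineHom_π_app (bcDiagram D i₀ f₀) (bcCone i₀ hP) hc'' j₁
  have hUP : IsAffineOpen ((bcCone i₀ hP).π.app j₁ ⁻¹ᵁ U₁) := hU₁.preimage _
  have hxUP : x ∈ (bcCone i₀ hP).π.app j₁ ⁻¹ᵁ U₁ := hxU₁
  haveI hπS : IsAffineHom (c.π.app j₁.left) := isAffineHom_π_app D c hc j₁.left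
  have hVP : IsAffineOpen (c.π.app j₁.left ⁻¹ᵁ V₁) := hV₁.preimage _
  have hUVP : (bcCone i₀ hP).π.app j₁ ⁻¹ᵁ U₁ ≤ pX ⁻¹ᵁ (c.π.app j₁.left ⁻¹ᵁ V₁) := by
    intro y hy
    show (c.π.app j₁.left) (pX y) ∈ V₁
    have e1 : (c.π.app j₁.left) (pX y) = f₁ (π₁ y) := by
      have := congrArg (fun φ => φ.base y) (bcπ_snd i₀ hP j₁)
      exact this.symm
    rw [e1]
    exact (hU₁le hy).1
  haveI : LocallyOfFinitePresentation pX := MorphismProperty.of_isPullback hP inferInstance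
  haveI : ((Scheme.Modules.pullback qX).obj F₀).IsQuasicoherent := isQuasicoherent_pullback qX F₀
  haveI : ((Scheme.Modules.pullback qX).obj G₀).IsQuasicoherent := isQuasicoherent_pullback qX G₀
  have hflP : ∀ y : P, y ∈ (bcCone i₀ hP).π.app j₁ ⁻¹ᵁ U₁ →
      FlatMod.IsFlatOverAt pX (cokernel ((Scheme.Modules.pullback qX).map h₀)) y := by
    intro y hy
    rw [isFlatOverAt_cokernel_pullback_iff]
    exact isFlatOverAt_of_stage hP (isPullback_d D i₀ f₀ j₁) (bcπ_fst i₀ hP j₁) (c.w j₁.hom)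
      (bcπ_snd i₀ hP j₁) C₀ y (hU₁le hy).2
  have hKP := fg_ker_app pX (Groth.Agent.Helper18Strict.isFP_pullback qX G₀ hG₀)
    (Groth.Agent.Helper18Strict.isFP_pullback qX F₀ hF₀) ((Scheme.Modules.pullback qX).map h₀)
    hUP hVP hUVP hflP
  obtain ⟨s, hxs, hs⟩ := exists_basicOpen_injective ((Scheme.Modules.pullback qX).map h₀) hUP hKP
    x hxUP Hinj
  -- descend `s` to a stage
  obtain ⟨k, a, sk, hsk⟩ := exists_appLE_eq (bcDiagram D i₀ f₀) (bcCone i₀ hP) hc'' j₁ U₁ hU₁ s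
  have hUk : IsAffineOpen ((bcDiagram D i₀ f₀).map a ⁻¹ᵁ U₁) := hU₁.preimage _
  have hW : IsAffineOpen (((bcDiagram D i₀ f₀).obj k).basicOpen sk) := hUk.basicOpen sk
  have hsW : P.basicOpen s = ((bcCone i₀ hP).π.app j₁ ⁻¹ᵁ U₁) ⊓
      (bcCone i₀ hP).π.app k ⁻¹ᵁ (((bcDiagram D i₀ f₀).obj k).basicOpen sk) := by
    rw [hsk]; exact Scheme.basicOpen_appLE _ _ _ _ _
  have hWU : ((bcDiagram D i₀ f₀).obj k).basicOpen sk ≤ (bcDiagram D i₀ f₀).map a ⁻¹ᵁ U₁ :=
    Scheme.basicOpen_le _ sk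
  -- step 3: the chart lemma at stage `k`
  haveI : LocallyOfFinitePresentation (dSnd D i₀ f₀ k) :=
    MorphismProperty.of_isPullback (isPullback_d D i₀ f₀ k) inferInstance
  haveI : ((Scheme.Modules.pullback (dFst D i₀ f₀ k)).obj F₀).IsQuasicoherent :=
    isQuasicoherent_pullback _ F₀
  haveI : ((Scheme.Modules.pullback (dFst D i₀ f₀ k)).obj G₀).IsQuasicoherent :=
    isQuasicoherent_pullback _ G₀
  have hVk : IsAffineOpen (D.map a.left ⁻¹ᵁ V₁) := hV₁.preimage _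
  have eWV : ((bcDiagram D i₀ f₀).obj k).basicOpen sk ≤
      dSnd D i₀ f₀ k ⁻¹ᵁ (D.map a.left ⁻¹ᵁ V₁) := by
    refine hWU.trans ?_
    rw [← Scheme.Hom.comp_preimage, ← map_dSnd, Scheme.Hom.comp_preimage]
    exact Scheme.Hom.preimage_mono _ (hU₁le.trans inf_le_left)
  have hwk : a.left ≫ j₁.hom = k.hom := Over.w a
  have Hflk : ∀ y : (bcDiagram D i₀ f₀).obj k, y ∈ ((bcDiagram D i₀ f₀).obj k).basicOpen sk →
      FlatMod.IsFlatOverAt (dSnd D i₀ f₀ k)
        (cokernel ((Scheme.Modules.pullback (dFst D i₀ f₀ k)).map h₀)) y := by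
    intro y hy
    rw [isFlatOverAt_cokernel_pullback_iff]
    exact isFlatOverAt_of_stage (isPullback_d D i₀ f₀ k) (isPullback_d D i₀ f₀ j₁)
      (map_dFst D i₀ f₀ a) (by rw [← D.map_comp, hwk]) (map_dSnd D i₀ f₀ a) C₀ y (hU₁le (hWU hy)).2
  have Hinjk : ∀ y : P, (bcπ i₀ hP k) y ∈ ((bcDiagram D i₀ f₀).obj k).basicOpen sk →
      Function.Injective (stalkHom ((Scheme.Modules.pullback (bcπ i₀ hP k)).map
        ((Scheme.Modules.pullback (dFst D i₀ f₀ k)).map h₀)) y) := by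
    intro y hy
    rw [stalkHom_injective_pullback_comp_iff _ _ qX (bcπ_fst i₀ hP k)]
    have hy0 : y ∈ (bcCone i₀ hP).π.app j₁ ⁻¹ᵁ U₁ := by
      show bcπ i₀ hP j₁ y ∈ U₁
      have e1 : bcπ i₀ hP j₁ y = (bcDiagram D i₀ f₀).map a (bcπ i₀ hP k y) := by
        have := congrArg (fun φ => φ.base y) (bcπ_map i₀ hP a)
        simpa using this.symm
      rw [e1]
      exact hWU hy
    exact hs y (hsW.ge ⟨hy0, hy⟩)
  obtain ⟨l, hl⟩ := exists_stage_chart_injective D c hc k.left (dSnd D i₀ f₀ k)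
    (Groth.Agent.Helper18Strict.isFP_pullback _ F₀ hF₀)
    (Groth.Agent.Helper18Strict.isFP_pullback _ G₀ hG₀)
    ((Scheme.Modules.pullback (dFst D i₀ f₀ k)).map h₀) hW hVk eWV (isPullback_bcπ i₀ hP k)
    Hflk Hinjk
  refine ⟨Over.mk (l.hom ≫ k.hom), fun j' a' Xj p b hpb v hv1 hv2 => ⟨?_, ?_⟩⟩
  · let l' : Over k.left := Over.mk (a'.left ≫ l.hom)
    have hw : D.map j'.hom = D.map l'.hom ≫ D.map k.hom := by
      rw [← D.map_comp]
      congr 1
      have := Over.w a'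
      simpa [l'] using this.symm
    let p' : Xj ⟶ (bcDiagram D i₀ f₀).obj k := dLift k p (b ≫ D.map l'.hom) (by
      rw [hpb.w, hw, Category.assoc])
    have hp'1 : p' ≫ dFst D i₀ f₀ k = p := dLift_fst _ _ _ _
    have hp'2 : p' ≫ dSnd D i₀ f₀ k = b ≫ D.map l'.hom := dLift_snd _ _ _ _
    have hp' : IsPullback p' b (dSnd D i₀ f₀ k) (D.map l'.hom) := by
      refine IsPullback.of_right ?_ hp'2 (isPullback_d D i₀ f₀ k)
      rw [hp'1, ← hw]
      exact hpb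
    have hvp' : v ≫ p' = bcπ i₀ hP k := by
      apply d_hom_ext
      · rw [Category.assoc, hp'1, hv1, bcπ_fst]
      · rw [Category.assoc, hp'2, reassoc_of% hv2, bcπ_snd]
        congr 1
        exact c.w l'.hom
    have hmem : p' (v x) ∈ ((bcDiagram D i₀ f₀).obj k).basicOpen sk := by
      have e1 : p' (v x) = bcπ i₀ hP k x := by
        have := congrArg (fun φ => φ.base x) hvp'
        simpa using this
      rw [e1]
      have : x ∈ P.basicOpen s := hxs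
      rw [hsW] at this
      exact this.2
    have := hl l' (Over.homMk a'.left) p' b hp' (v x) hmem
    exact (stalkHom_injective_pullback_comp_iff p' (dFst D i₀ f₀ k) p hp'1 h₀ (v x)).1 this
  · rw [isFlatOverAt_cokernel_pullback_iff]
    have a'' : j' ⟶ j₁ := a' ≫ (Over.homMk l.hom : Over.mk (l.hom ≫ k.hom) ⟶ k) ≫ a
    exact hj₁ j' a'' p b hpb v hv1 hv2

end pt

end Groth.Agent.R2.H22.InjLim
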