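import Mathlib
import Groth.Agent.R2.H22FibBC2

/-!
# Separating families modulo a nilpotent ideal with free graded pieces (helper22)

`sepMaps_of_sepMaps_quotient_nilpotent` (EGA IV 11.9.? algebraic form): `J` a nilpotent ideal of `A` with every
`(A ⧸ J) ⊗[A] J ^ k` free over `A ⧸ J`, `N i` flat over `A`.  If the family `u ⊗ (B ⊗[A] A ⧸ J)` is separating then `u` is.
-/

set_option autoImplicit false
set_option linter.style.haveILetI false
set_option linter.unusedSectionVars false
universe u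

namespace Groth.Agent.R2.H22.NilGr

open TensorProduct
open Groth.Agent.R2.H22.SepCore Groth.Agent.R2.H22.SepLim Groth.Agent.R2.H22.FibK
  Groth.Agent.R2.H22.FibGr Groth.Agent.R2.H22.FibBC

variable {A : Type u} [CommRing A] {B : Type u} [CommRing B] [Algebra A B]
  {M : Type u} [AddCommGroup M] [Module B M] [Module A M] [IsScalarTower A B M] {ι : Type*}
  {N : ι → Type u} [∀ i, AddCommGroup (N i)] [∀ i, Module B (N i)] [∀ i, Module A (N i)]
  [∀ i, IsScalarTower A B (N i)] (u : ∀ i, M →ₗ[B] N i)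

/-- the separating property of the family on `M ⊗[A] K`, tested against elements of `B` (`K` any `A`-algebra). -/
def RingSep (K : Type u) [CommRing K] [Algebra A K] : Prop :=
  ∀ (f : B) (z : M ⊗[A] K),
    (∀ i, ∃ n : ℕ, f ^ n • AlgebraTensorModule.rTensor A K (u i) z = 0) → ∃ n : ℕ, f ^ n • z = 0

theorem ringSep_of_sepMaps (K : Type u) [CommRing K] [Algebra A K]
    (h : SepMaps (B ⊗[A] K) (M := (B ⊗[A] K) ⊗[B] M) (N := fun i => (B ⊗[A] K) ⊗[B] N i)
      (fun i => (u i).baseChange (B ⊗[A] K))) : RingSep (A := A) u K := by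
  intro f z hz
  have key : ∀ i, ∃ n : ℕ, (algebraMap B (B ⊗[A] K) f) ^ n •
      (u i).baseChange (B ⊗[A] K) ((eC A B K M).symm z) = 0 := by
    intro i
    obtain ⟨n, hn⟩ := hz i
    refine ⟨n, ?_⟩
    apply (eC A B K (N i)).injective
    rw [← map_pow, algebraMap_smul, map_smul, map_zero, LinearMap.baseChange_eq_ltensor,
      eC_lTensor, LinearEquiv.apply_symm_apply]
    exact hn
  obtain ⟨n, hn⟩ := h _ _ key
  refine ⟨n, ?_⟩
  rw [← map_pow, algebraMap_smul] at hn
  have := congrArg (eC A B K M) hn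
  rwa [map_smul, LinearEquiv.apply_symm_apply, map_zero] at this

section theta

variable (A) (K : Type u) [CommRing K] [Algebra A K] (V : Type u) [AddCommGroup V] [Module A V]
  [Module.Free K (K ⊗[A] V)]
  (P : Type u) [AddCommGroup P] [Module B P] [Module A P] [IsScalarTower A B P]

/-- coordinates of `P ⊗[A] (K ⊗[A] V)` with respect to a `K`-basis of `K ⊗[A] V`. -/
noncomputable def thetaR :
    P ⊗[A] (K ⊗[A] V) ≃ₗ[B] (Module.Free.ChooseBasisIndex K (K ⊗[A] V) →₀ P ⊗[A] K) := by
  classical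
  exact (AlgebraTensorModule.congr (LinearEquiv.refl B P)
    ((Module.Free.chooseBasis K (K ⊗[A] V)).repr.restrictScalars A)) ≪≫ₗ
    (TensorProduct.finsuppRight A B P K (Module.Free.ChooseBasisIndex K (K ⊗[A] V)))

theorem thetaR_tmul (p : P) (q : K ⊗[A] V) (l : Module.Free.ChooseBasisIndex K (K ⊗[A] V)) :
    thetaR (B := B) A K V P (p ⊗ₜ q) l =
      p ⊗ₜ[A] ((Module.Free.chooseBasis K (K ⊗[A] V)).repr q l) := by
  classical
  simp only [thetaR, LinearEquiv.trans_apply, AlgebraTensorModule.congr_tmul,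
    LinearEquiv.refl_apply, LinearEquiv.restrictScalars_apply]
  exact TensorProduct.finsuppRight_apply_tmul_apply _ _ _

variable {P} {P' : Type u} [AddCommGroup P'] [Module B P'] [Module A P'] [IsScalarTower A B P']

theorem thetaR_natural (v : P →ₗ[B] P') (z : P ⊗[A] (K ⊗[A] V))
    (l : Module.Free.ChooseBasisIndex K (K ⊗[A] V)) :
    thetaR (B := B) A K V P' (AlgebraTensorModule.rTensor A (K ⊗[A] V) v z) l =
      AlgebraTensorModule.rTensor A K v (thetaR (B := B) A K V P z l) := by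
  induction z using TensorProduct.induction_on with
  | zero => simp
  | tmul p q =>
    rw [AlgebraTensorModule.rTensor_tmul, thetaR_tmul, thetaR_tmul,
      AlgebraTensorModule.rTensor_tmul]
  | add z₁ z₂ h₁ h₂ => simp only [map_add, Finsupp.add_apply, h₁, h₂]

theorem leftComm_lTensor_mkR (w : M ⊗[A] V) :
    TensorProduct.leftComm A M K V
      (AlgebraTensorModule.lTensor B M (TensorProduct.mk A K V 1) w) = (1 : K) ⊗ₜ[A] w := by
  induction w using TensorProduct.induction_on with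
  | zero => simp
  | tmul m v => simp
  | add w₁ w₂ h₁ h₂ => simp only [map_add, TensorProduct.tmul_add, h₁, h₂]

end theta

section step

variable (J : Ideal A) {V : Type u} [AddCommGroup V] [Module A V]
  [Module.Free (A ⧸ J) ((A ⧸ J) ⊗[A] V)]

theorem mem_smul_top_of_tmul_eq_zero {W : Type u} [AddCommGroup W] [Module A W] (w : W)
    (h : (1 : A ⧸ J) ⊗ₜ[A] w = 0) : w ∈ (J • ⊤ : Submodule A W) := by
  have := congrArg (TensorProduct.quotTensorEquivQuotSMul W J) h
  rw [TensorProduct.quotTensorEquivQuotSMul_mk_one_tmul, map_zero,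
    Submodule.Quotient.mk_eq_zero] at this
  exact this

/-- **the graded step modulo `J`**. -/
theorem exists_pow_smul_mem_smul (hfib : RingSep (A := A) u (A ⧸ J)) (f : B) (y : M ⊗[A] V)
    (hy : ∀ i, ∃ n : ℕ, f ^ n • AlgebraTensorModule.rTensor A V (u i) y = 0) :
    ∃ n : ℕ, f ^ n • y ∈ (J • ⊤ : Submodule A (M ⊗[A] V)) := by
  classical
  set yK := AlgebraTensorModule.lTensor B M (TensorProduct.mk A (A ⧸ J) V 1) y with hyK
  have hc : ∀ l, ∃ n : ℕ, f ^ n • thetaR (B := B) A (A ⧸ J) V M yK l = 0 := by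
    intro l
    apply hfib
    intro i
    obtain ⟨n, hn⟩ := hy i
    refine ⟨n, ?_⟩
    rw [← thetaR_natural (B := B) A (A ⧸ J) V (u i), hyK, lTensor_rTensor_comm',
      ← Finsupp.smul_apply, ← map_smul, ← map_smul, hn, map_zero, map_zero, Finsupp.zero_apply]
  choose k hk using hc
  set c := thetaR (B := B) A (A ⧸ J) V M yK with hcdef
  have hcz : f ^ (c.support.sup k) • c = 0 := by
    ext l
    rw [Finsupp.smul_apply, Finsupp.zero_apply]
    by_cases hl : l ∈ c.support
    · have hle : k l ≤ c.support.sup k := Finset.le_sup hl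
      obtain ⟨d, hd⟩ := Nat.exists_eq_add_of_le hle
      rw [hd, pow_add, mul_comm, mul_smul, hk l, smul_zero]
    · rw [Finsupp.notMem_support_iff.1 hl, smul_zero]
  have h1 : f ^ (c.support.sup k) • yK = 0 := by
    apply (thetaR (B := B) A (A ⧸ J) V M).injective
    rw [map_smul, map_zero]
    exact hcz
  have h2 : (1 : A ⧸ J) ⊗ₜ[A] (f ^ (c.support.sup k) • y) = 0 := by
    rw [← leftComm_lTensor_mkR (B := B) A (A ⧸ J) V, map_smul, ← hyK, h1, map_zero]
  exact ⟨c.support.sup k, mem_smul_top_of_tmul_eq_zero J _ h2⟩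

end step

section main

variable [∀ i, Module.Flat A (N i)] (J : Ideal A)
  (hfree : ∀ k : ℕ, Module.Free (A ⧸ J) ((A ⧸ J) ⊗[A] ↥(J ^ k)))

include hfree in
theorem exists_pow_smul_mem_pow (hfib : RingSep (A := A) u (A ⧸ J)) (f : B) (k : ℕ) :
    ∀ x : M, (∀ i, ∃ n : ℕ, f ^ n • u i x = 0) →
      ∃ n : ℕ, f ^ n • x ∈ ((J ^ k) • ⊤ : Submodule A M) := by
  induction k with
  | zero => intro x _; exact ⟨0, by simp⟩
  | succ k ih =>
    intro x hx
    obtain ⟨n, hn⟩ := ih x hx
    obtain ⟨τ, hτ⟩ := exists_mulMap_eq (B := B) (J ^ k) M hn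
    have h1 : ∀ i, ∃ m : ℕ, f ^ m • AlgebraTensorModule.rTensor A ↥(J ^ k) (u i) τ = 0 := by
      intro i
      obtain ⟨m, hm⟩ := hx i
      refine ⟨m, ?_⟩
      apply mulMap_injective (B := B) (J ^ k) (N i)
      rw [map_smul, mulMap_natural, hτ, map_smul, smul_comm, hm, smul_zero, map_zero]
    haveI := hfree k
    obtain ⟨m, hm⟩ := exists_pow_smul_mem_smul u J (V := ↥(J ^ k)) hfib f τ h1
    refine ⟨m + n, ?_⟩
    have h3 : ∀ a ∈ J, ∀ w : M ⊗[A] ↥(J ^ k),
        mulMap (B := B) (J ^ k) M (a • w) ∈ ((J ^ (k + 1)) • ⊤ : Submodule A M) := by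
      intro a ha w
      induction w using TensorProduct.induction_on with
      | zero => simp
      | tmul p v =>
        rw [LinearMap.map_smul_of_tower, mulMap_tmul, smul_smul]
        refine Submodule.smul_mem_smul ?_ Submodule.mem_top
        rw [pow_succ']
        exact Ideal.mul_mem_mul ha v.2
      | add w₁ w₂ h₁ h₂ =>
        rw [smul_add, map_add]
        exact Submodule.add_mem _ h₁ h₂
    have h4 : ∀ σ ∈ (J • ⊤ : Submodule A (M ⊗[A] ↥(J ^ k))),
        mulMap (B := B) (J ^ k) M σ ∈ ((J ^ (k + 1)) • ⊤ : Submodule A M) := by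
      intro σ hσ
      refine Submodule.smul_induction_on hσ (fun a ha w _ => h3 a ha w) (fun z₁ z₂ h₁ h₂ => ?_)
      rw [map_add]
      exact Submodule.add_mem _ h₁ h₂
    have h5 := h4 _ hm
    rw [map_smul, hτ, ← mul_smul, ← pow_add] at h5
    exact h5

include hfree in
/-- **separating modulo a nilpotent ideal with free graded pieces implies separating**. -/
theorem sepMaps_of_sepMaps_quotient_nilpotent (hJ : IsNilpotent J)
    (h0 : SepMaps (B ⊗[A] (A ⧸ J)) (M := (B ⊗[A] (A ⧸ J)) ⊗[B] M)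
      (N := fun i => (B ⊗[A] (A ⧸ J)) ⊗[B] N i)
      (fun i => (u i).baseChange (B ⊗[A] (A ⧸ J)))) : SepMaps B u := by
  intro f x hx
  obtain ⟨k, hk⟩ := hJ
  obtain ⟨n, hn⟩ := exists_pow_smul_mem_pow u J hfree (ringSep_of_sepMaps u (A ⧸ J) h0) f k x hx
  refine ⟨n, ?_⟩
  rw [hk, Ideal.zero_eq_bot, Submodule.bot_smul, Submodule.mem_bot] at hn
  exact hn

end main

end Groth.Agent.R2.H22.NilGr
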