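import Mathlib
import Groth.Agent.R2.H22FibSch

/-!
# Separating families over an affine base: passage to finitely generated subalgebras (helper22)
-/

set_option autoImplicit false
set_option linter.style.haveILetI false
set_option linter.unusedSectionVars false
universe u

namespace Groth.Agent.R2.H22.SepAff

open CategoryTheory AlgebraicGeometry Opposite TopologicalSpace TensorProduct Limits
open Groth.Agent.Lib.Helper20.Thickening Groth.Agent.Lib.Helper20.PullbackAff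
open Groth.Agent.R2.H22.SepCore Groth.Agent.R2.H22.SepSheaf Groth.Agent.R2.H22.SepPull
  Groth.Agent.R2.H22.SepTrans Groth.Agent.R2.H22.SepProd Groth.Agent.R2.H22.SepLim
  Groth.Agent.R2.H22.FibSch

section pieces

variable {X S S' : Scheme.{u}} (p : X ⟶ S) (g : S' ⟶ S) [IsAffine S] [IsAffine S']

/-- the piece over the whole (affine) bases. -/
noncomputable def topPiece (V : X.Opens) (hV : IsAffineOpen V)
    (f : Γ(pullback p g, (pullback.fst p g) ⁻¹ᵁ V ⊓ (pullback.snd p g) ⁻¹ᵁ ⊤)) : Piece p g :=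
  ⟨⊤, V, ⊤, isAffineOpen_top S, hV, isAffineOpen_top S', fun _ _ => trivial, fun _ _ => trivial, f⟩

theorem isBasis_topPieces :
    Opens.IsBasis (Set.range (fun j : Σ' (V : X.Opens) (_ : IsAffineOpen V),
      Γ(pullback p g, (pullback.fst p g) ⁻¹ᵁ V ⊓ (pullback.snd p g) ⁻¹ᵁ ⊤) =>
        (topPiece p g j.1 j.2.1 j.2.2).D)) := by
  rw [Opens.isBasis_iff_nbhd]
  intro W x hxW
  obtain ⟨V, hV, hxV, -⟩ := exists_isAffineOpen_mem_and_subset
    (x := pullback.fst p g x) (U := ⊤) trivial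
  have hO : IsAffineOpen ((pullback.fst p g) ⁻¹ᵁ V ⊓ (pullback.snd p g) ⁻¹ᵁ ⊤) :=
    (topPiece p g V hV 1).isAffineOpen_O
  obtain ⟨f, hfW, hxf⟩ := hO.exists_basicOpen_le ⟨x, hxW⟩ ⟨hxV, trivial⟩
  exact ⟨_, ⟨⟨V, hV, f⟩, rfl⟩, hxf, hfW⟩

end pieces

section main

theorem appLE_top_top {X Y : Scheme.{u}} (f : X ⟶ Y) (h : (⊤ : X.Opens) ≤ f ⁻¹ᵁ ⊤) :
    f.appLE ⊤ ⊤ h = f.appTop := by
  exact Scheme.Hom.appLE_eq_app f (U := ⊤)

section abstract

variable {R R' : CommRingCat.{u}} [Algebra R R'] (C : Subalgebra R R')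

/-- the map to a subalgebra, in `CommRingCat`. -/
noncomputable def toSub : R ⟶ CommRingCat.of C := CommRingCat.ofHom (algebraMap R C)

/-- the inclusion of a subalgebra, in `CommRingCat`. -/
noncomputable def ofSub : CommRingCat.of C ⟶ R' := CommRingCat.ofHom (C.val : C →+* R')

theorem toSub_ofSub : toSub C ≫ ofSub C = CommRingCat.ofHom (algebraMap R R') := rfl

theorem ofSub_injective : Function.Injective (ofSub C).hom := Subtype.val_injective

theorem toSub_apply (x : R) : (toSub C).hom x = algebraMap R C x := rfl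

theorem toSub_finiteType (hC : C.FG) : (toSub C).hom.FiniteType := by
  haveI : Algebra.FiniteType R C := (Subalgebra.fg_iff_finiteType C).mp hC
  exact (RingHom.finiteType_algebraMap).2 inferInstance

end abstract

variable {X : Scheme.{u}} (A A' : CommRingCat.{u}) (φ : A ⟶ A') (p : X ⟶ Spec A)
  {F : X.Modules} [F.IsQuasicoherent] {ι : Type*} {G : ι → X.Modules}
  [∀ i, (G i).IsQuasicoherent]

/-- **passage to finitely generated subalgebras**, scheme form over an affine base (EGA IV 11.9.14). -/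
theorem sep_baseChange_spec_of_fg (hG : ∀ i, FlatMod.IsFlatOver p (G i)) (u : ∀ i, F ⟶ G i)
    (hfg : ∀ (B : CommRingCat.{u}) (a : A ⟶ B) (b : B ⟶ A'), a ≫ b = φ →
      Function.Injective b.hom → a.hom.FiniteType →
      Sep (fun i => (Scheme.Modules.pullback (pullback.fst p (Spec.map a))).map (u i))) :
    Sep (fun i => (Scheme.Modules.pullback (pullback.fst p (Spec.map φ))).map (u i)) := by
  refine sep_of_basis (fun i => (Scheme.Modules.pullback (pullback.fst p (Spec.map φ))).map (u i))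
    (fun j : Σ' (V : X.Opens) (_ : IsAffineOpen V),
      Γ(pullback p (Spec.map φ),
        (pullback.fst p (Spec.map φ)) ⁻¹ᵁ V ⊓ (pullback.snd p (Spec.map φ)) ⁻¹ᵁ ⊤) =>
      (topPiece p (Spec.map φ) j.1 j.2.1 j.2.2).D) (isBasis_topPieces p (Spec.map φ)) ?_
  rintro ⟨V, hV, f⟩
  refine pullSepOn_piece u (topPiece p (Spec.map φ) V hV f) ?_
  have hVU : V ≤ p ⁻¹ᵁ ⊤ := fun _ _ => trivial
  have hU'U : (⊤ : (Spec A').Opens) ≤ (Spec.map φ) ⁻¹ᵁ ⊤ := fun _ _ => trivial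
  letI algAB : Algebra Γ(Spec A, ⊤) Γ(X, V) := (p.appLE ⊤ V hVU).hom.toAlgebra
  letI algAA' : Algebra Γ(Spec A, ⊤) Γ(Spec A', ⊤) := ((Spec.map φ).appLE ⊤ ⊤ hU'U).hom.toAlgebra
  show SepMaps (Γ(X, V) ⊗[Γ(Spec A, ⊤)] Γ(Spec A', ⊤))
    (M := (Γ(X, V) ⊗[Γ(Spec A, ⊤)] Γ(Spec A', ⊤)) ⊗[Γ(X, V)] ((ΓUF hV).obj F))
    (N := fun i => (Γ(X, V) ⊗[Γ(Spec A, ⊤)] Γ(Spec A', ⊤)) ⊗[Γ(X, V)] ((ΓUF hV).obj (G i)))
    (fun i => (((ΓUF hV).map (u i)).hom).baseChange (Γ(X, V) ⊗[Γ(Spec A, ⊤)] Γ(Spec A', ⊤)))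
  letI : ∀ i, Module Γ(Spec A, ⊤) ((ΓUF hV).obj (G i)) := fun i =>
    Module.compHom _ (algebraMap Γ(Spec A, ⊤) Γ(X, V))
  haveI : ∀ i, IsScalarTower Γ(Spec A, ⊤) Γ(X, V) ((ΓUF hV).obj (G i)) := fun i =>
    IsScalarTower.of_algebraMap_smul fun _ _ => rfl
  haveI : ∀ i, Module.Flat Γ(Spec A, ⊤) ((ΓUF hV).obj (G i)) := by
    intro i
    have hflat := (Groth.Agent.Lib.Helper2.FlatOver.isFlatOver_iff_forall_affine p (G i)).1 (hG i)
      V ⊤ hVU hV (isAffineOpen_top _)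
    letI : Module Γ(Spec A, ⊤) Γ(G i, V) := Module.compHom _ (p.appLE ⊤ V hVU).hom
    haveI : Module.Flat Γ(Spec A, ⊤) Γ(G i, V) := hflat
    let e : Γ(G i, V) ≃ₗ[Γ(Spec A, ⊤)] ((ΓUF hV).obj (G i)) :=
      { (ΓUEquiv hV (G i)).toAddEquiv with
        map_smul' := fun a x =>
          (ΓUEquiv hV (G i)).map_smul (algebraMap Γ(Spec A, ⊤) Γ(X, V) a) x }
    exact Module.Flat.of_linearEquiv e.symm
  refine sepMaps_baseChange_of_fg (A := Γ(Spec A, ⊤))
    (fun i => ((ΓUF hV).map (u i)).hom) ?_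
  intro C hC
  -- the factorisation `A ⟶ C ⟶ A'`
  let BC : CommRingCat.{u} := CommRingCat.of C
  let a : A ⟶ BC := (Scheme.ΓSpecIso A).inv ≫ toSub C
  let b : BC ⟶ A' := ofSub C ≫ (Scheme.ΓSpecIso A').hom
  have hab : a ≫ b = φ := by
    have h1 : toSub C ≫ ofSub C = (Spec.map φ).appTop := by
      rw [← appLE_top_top (Spec.map φ) hU'U, toSub_ofSub]
      rfl
    simp only [a, b, Category.assoc]
    rw [reassoc_of% h1, Scheme.ΓSpecIso_naturality, Iso.inv_hom_id_assoc]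
  have hb : Function.Injective b.hom := by
    have h2 : Function.Injective (Scheme.ΓSpecIso A').hom.hom :=
      (ConcreteCategory.bijective_of_isIso (Scheme.ΓSpecIso A').hom).injective
    exact h2.comp (ofSub_injective C)
  have ha : a.hom.FiniteType := by
    have h3 : (toSub C).hom.FiniteType := toSub_finiteType C hC
    have h4 : (Scheme.ΓSpecIso A).inv.hom.FiniteType :=
      RingHom.FiniteType.of_surjective _
        (ConcreteCategory.bijective_of_isIso (Scheme.ΓSpecIso A).inv).surjective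
    exact h3.comp h4
  have hsepa := hfg BC a b hab hb ha
  have hps := pieceSep_of_sep u hsepa (topPiece p (Spec.map a) V hV 1)
  have hU'Ua : (⊤ : (Spec BC).Opens) ≤ (Spec.map a) ⁻¹ᵁ ⊤ := fun _ _ => trivial
  letI algABC : Algebra Γ(Spec A, ⊤) Γ(Spec BC, ⊤) :=
    ((Spec.map a).appLE ⊤ ⊤ hU'Ua).hom.toAlgebra
  have hps' : SepMaps (Γ(X, V) ⊗[Γ(Spec A, ⊤)] Γ(Spec BC, ⊤))
    (M := (Γ(X, V) ⊗[Γ(Spec A, ⊤)] Γ(Spec BC, ⊤)) ⊗[Γ(X, V)] ((ΓUF hV).obj F))
    (N := fun i => (Γ(X, V) ⊗[Γ(Spec A, ⊤)] Γ(Spec BC, ⊤)) ⊗[Γ(X, V)] ((ΓUF hV).obj (G i)))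
    (fun i => (((ΓUF hV).map (u i)).hom).baseChange (Γ(X, V) ⊗[Γ(Spec A, ⊤)] Γ(Spec BC, ⊤))) :=
    hps
  let e₀ : Γ(Spec BC, ⊤) ≃ₐ[Γ(Spec A, ⊤)] C :=
    AlgEquiv.ofRingEquiv (f := (Scheme.ΓSpecIso BC).commRingCatIsoToRingEquiv) (by
      intro x
      have h5 := Scheme.ΓSpecIso_naturality a
      rw [← appLE_top_top (Spec.map a) hU'Ua] at h5
      have h6 := congr($h5 x)
      simp only [a, Iso.hom_inv_id_assoc] at h6
      exact h6.trans (toSub_apply C x))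
  exact sepMaps_baseChange_of_algEquiv
    (Algebra.TensorProduct.congr (AlgEquiv.refl (R := Γ(X, V)) (A₁ := Γ(X, V))) e₀)
    (fun i => ((ΓUF hV).map (u i)).hom) hps'

end main

end Groth.Agent.R2.H22.SepAff
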