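import Mathlib
import Groth.Agent.R2.H22FibSch
import Groth.Agent.R2.H22SepAff
import Groth.Agent.R2.H22NilGr

/-!
# Separating families modulo a nilpotent ideal: scheme form over an affine base (helper22)
-/

set_option autoImplicit false
set_option linter.style.haveILetI false
set_option linter.unusedSectionVars false
universe u

namespace Groth.Agent.R2.H22.NilSch

open CategoryTheory AlgebraicGeometry Opposite TopologicalSpace TensorProduct Limits
open Groth.Agent.Lib.Helper20.Thickening Groth.Agent.Lib.Helper20.PullbackAff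
open Groth.Agent.R2.H22.SepCore Groth.Agent.R2.H22.SepSheaf Groth.Agent.R2.H22.SepPull
  Groth.Agent.R2.H22.SepTrans Groth.Agent.R2.H22.SchDomBC Groth.Agent.R2.H22.SepProd
  Groth.Agent.R2.H22.SepBC Groth.Agent.R2.H22.FibBC Groth.Agent.R2.H22.FibSch
  Groth.Agent.R2.H22.SepAff Groth.Agent.R2.H22.NilGr

section general

variable {X : Scheme.{u}} {F : X.Modules} [F.IsQuasicoherent] {ι : Type*} {G : ι → X.Modules}
  [∀ i, (G i).IsQuasicoherent] (u : ∀ i, F ⟶ G i)

/-- the algebraic separating property on all affine opens gives the separating property. -/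
theorem sep_of_sepMaps_affine
    (h : ∀ (V : X.Opens) (hV : IsAffineOpen V),
      SepMaps Γ(X, V) (fun i => ((ΓUF hV).map (u i)).hom)) : Sep u := by
  refine sep_of_basis u (fun V : X.affineOpens => V.1) ?_ ?_
  · have : Set.range (fun V : X.affineOpens => V.1) = X.affineOpens := Subtype.range_coe
    rw [this]
    exact X.isBasis_affineOpens
  · intro V t ht
    have hV : IsAffineOpen V.1 := V.2
    obtain ⟨n, hn⟩ := h V.1 hV 1 (ΓUEquiv hV F t) (fun i => ⟨0, by
      rw [pow_zero, one_smul]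
      show ((ΓUF hV).map (u i)).hom (ΓUEquiv hV F t) = 0
      rw [← ΓUEquiv_app, ht i, map_zero]⟩)
    rw [one_pow, one_smul] at hn
    exact (ΓUEquiv hV F).injective (hn.trans (map_zero _).symm)

end general

section piece

variable {X S S' : Scheme.{u}} {p : X ⟶ S} {g : S' ⟶ S}
variable {F : X.Modules} [F.IsQuasicoherent] {ι : Type*} {G : ι → X.Modules}
  [∀ i, (G i).IsQuasicoherent] (u : ∀ i, F ⟶ G i)

/-- a separating pulled-back family gives the algebraic separating property over the ring of sections of every affine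
piece. -/
theorem sepMaps_sections_of_sep
    (hsep : Sep (fun i => (Scheme.Modules.pullback (pullback.fst p g)).map (u i)))
    (j : Piece p g) :
    letI _algBR : Algebra Γ(X, j.V) Γ(pullback p g, j.O) :=
      ((pullback.fst p g).appLE j.V j.O inf_le_left).hom.toAlgebra
    SepMaps Γ(pullback p g, j.O)
      (M := Γ(pullback p g, j.O) ⊗[Γ(X, j.V)] ((ΓUF j.hV).obj F))
      (N := fun i => Γ(pullback p g, j.O) ⊗[Γ(X, j.V)] ((ΓUF j.hV).obj (G i)))
      (fun i => (((ΓUF j.hV).map (u i)).hom).baseChange Γ(pullback p g, j.O)) := by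
  letI algBR : Algebra Γ(X, j.V) Γ(pullback p g, j.O) :=
    ((pullback.fst p g).appLE j.V j.O inf_le_left).hom.toAlgebra
  intro f y hy
  let j' : Piece p g := { j with f := f }
  letI algBS : Algebra Γ(X, j.V) Γ(pullback p g, j'.D) :=
    ((pullback.fst p g).appLE j.V j'.D j'.D_le).hom.toAlgebra
  haveI : IsScalarTower Γ(X, j.V) Γ(pullback p g, j.O) Γ(pullback p g, j'.D) :=
    .of_algebraMap_eq' <| by
      have := (pullback.fst p g).appLE_map (inf_le_left : j.O ≤ _) (homOfLE j'.D_le_O).op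
      exact congr($(this.symm).hom)
  haveI : IsLocalization.Away f Γ(pullback p g, j'.D) :=
    j.isAffineOpen_O.isLocalization_basicOpen f
  have hT := (pullSepOn_iff_tensorInj (pullback.fst p g) j.hV j'.isAffineOpen_D j'.D_le u).1
    (fun t ht => hsep j'.D t ht)
  exact exists_pow_smul_eq_zero_of_away (R := Γ(pullback p g, j.O))
    (S := Γ(pullback p g, j'.D)) f (fun i => ((ΓUF j.hV).map (u i)).hom)
    (fun x hx => hT x hx) y hy

end piece

section main

variable {X : Scheme.{u}} (A : CommRingCat.{u}) (p : X ⟶ Spec A) (J : Ideal ↑A)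
  {F : X.Modules} [F.IsQuasicoherent] {ι : Type*} {G : ι → X.Modules}
  [∀ i, (G i).IsQuasicoherent]

/-- **separating modulo a nilpotent ideal with free graded pieces implies separating**, scheme form over an affine
base. -/
theorem sep_of_sep_baseChange_quotient_nilpotent (hJ : IsNilpotent J)
    (hfree : ∀ k : ℕ, Module.Free (↑A ⧸ J) ((↑A ⧸ J) ⊗[↑A] ↥(J ^ k)))
    (hG : ∀ i, FlatMod.IsFlatOver p (G i)) (u : ∀ i, F ⟶ G i)
    (h0 : Sep (fun i => (Scheme.Modules.pullback (pullback.fst p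
      (Spec.map (CommRingCat.ofHom (Ideal.Quotient.mk J))))).map (u i))) : Sep u := by
  refine sep_of_sepMaps_affine u fun V hV => ?_
  set φ : A ⟶ CommRingCat.of (↑A ⧸ J) := CommRingCat.ofHom (Ideal.Quotient.mk J) with hφ
  have hVU : V ≤ p ⁻¹ᵁ ⊤ := fun _ _ => trivial
  have hU'U : (⊤ : (Spec (CommRingCat.of (↑A ⧸ J))).Opens) ≤ (Spec.map φ) ⁻¹ᵁ ⊤ :=
    fun _ _ => trivial
  let j : Piece p (Spec.map φ) :=
    ⟨⊤, V, ⊤, isAffineOpen_top _, hV, isAffineOpen_top _, hVU, hU'U, 1⟩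
  letI algAB : Algebra ↑A Γ(X, V) :=
    ((Scheme.ΓSpecIso A).inv ≫ p.appLE ⊤ V hVU).hom.toAlgebra
  letI algBR : Algebra Γ(X, V) Γ(pullback p (Spec.map φ), j.O) :=
    ((pullback.fst p (Spec.map φ)).appLE V j.O inf_le_left).hom.toAlgebra
  letI algKR : Algebra (↑A ⧸ J) Γ(pullback p (Spec.map φ), j.O) :=
    ((Scheme.ΓSpecIso (CommRingCat.of (↑A ⧸ J))).inv ≫
      (pullback.snd p (Spec.map φ)).appLE ⊤ j.O inf_le_right).hom.toAlgebra
  letI algAR : Algebra ↑A Γ(pullback p (Spec.map φ), j.O) :=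
    ((algebraMap Γ(X, V) Γ(pullback p (Spec.map φ), j.O)).comp
      (algebraMap ↑A Γ(X, V))).toAlgebra
  haveI : IsScalarTower ↑A Γ(X, V) Γ(pullback p (Spec.map φ), j.O) := .of_algebraMap_eq' rfl
  have hpush := isPushout_appLE (IsPullback.of_hasPullback p (Spec.map φ))
    j.hU'U j.hVU j.hU j.hU' j.hV
  have hpush' : IsPushout (CommRingCat.ofHom (algebraMap ↑A Γ(X, V)))
      (CommRingCat.ofHom (algebraMap ↑A (↑A ⧸ J)))
      (CommRingCat.ofHom (algebraMap Γ(X, V) Γ(pullback p (Spec.map φ), j.O)))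
      (CommRingCat.ofHom (algebraMap (↑A ⧸ J) Γ(pullback p (Spec.map φ), j.O))) := by
    refine hpush.of_iso (Scheme.ΓSpecIso A) (Iso.refl _)
      (Scheme.ΓSpecIso (CommRingCat.of (↑A ⧸ J))) (Iso.refl _) ?_ ?_ ?_ ?_
    · show _ = (Scheme.ΓSpecIso A).hom ≫ ((Scheme.ΓSpecIso A).inv ≫ p.appLE ⊤ V hVU)
      simp
      rfl
    · show (Spec.map φ).appLE ⊤ ⊤ hU'U ≫ _ = (Scheme.ΓSpecIso A).hom ≫ φ
      rw [appLE_top_top]
      exact Scheme.ΓSpecIso_naturality φ
    · show _ = 𝟙 _ ≫ (pullback.fst p (Spec.map φ)).appLE V j.O inf_le_left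
      simp
      rfl
    · show _ = (Scheme.ΓSpecIso (CommRingCat.of (↑A ⧸ J))).hom ≫
        ((Scheme.ΓSpecIso (CommRingCat.of (↑A ⧸ J))).inv ≫
          (pullback.snd p (Spec.map φ)).appLE ⊤ j.O inf_le_right)
      simp
      rfl
  haveI : IsScalarTower ↑A (↑A ⧸ J) Γ(pullback p (Spec.map φ), j.O) :=
    .of_algebraMap_eq' <| congr($(hpush'.w).hom)
  have h1 : Algebra.IsPushout ↑A Γ(X, V) (↑A ⧸ J) Γ(pullback p (Spec.map φ), j.O) :=
    CommRingCat.isPushout_iff_isPushout.mp hpush'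
  -- the modules
  letI : Module ↑A ((ΓUF hV).obj F) := Module.compHom _ (algebraMap ↑A Γ(X, V))
  haveI : IsScalarTower ↑A Γ(X, V) ((ΓUF hV).obj F) :=
    IsScalarTower.of_algebraMap_smul fun _ _ => rfl
  letI : ∀ i, Module ↑A ((ΓUF hV).obj (G i)) := fun i =>
    Module.compHom _ (algebraMap ↑A Γ(X, V))
  haveI : ∀ i, IsScalarTower ↑A Γ(X, V) ((ΓUF hV).obj (G i)) := fun i =>
    IsScalarTower.of_algebraMap_smul fun _ _ => rfl
  haveI : ∀ i, Module.Flat ↑A ((ΓUF hV).obj (G i)) := by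
    intro i
    have hflat := (Groth.Agent.Lib.Helper2.FlatOver.isFlatOver_iff_forall_affine p (G i)).1 (hG i)
      V ⊤ hVU hV (isAffineOpen_top _)
    letI : Module Γ(Spec A, ⊤) Γ(G i, V) := Module.compHom _ (p.appLE ⊤ V hVU).hom
    haveI : Module.Flat Γ(Spec A, ⊤) Γ(G i, V) := hflat
    letI : Module Γ(Spec A, ⊤) ((ΓUF hV).obj (G i)) := Module.compHom _ (p.appLE ⊤ V hVU).hom
    let e : Γ(G i, V) ≃ₗ[Γ(Spec A, ⊤)] ((ΓUF hV).obj (G i)) :=
      { (ΓUEquiv hV (G i)).toAddEquiv with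
        map_smul' := fun a x => (ΓUEquiv hV (G i)).map_smul ((p.appLE ⊤ V hVU).hom a) x }
    haveI : Module.Flat Γ(Spec A, ⊤) ((ΓUF hV).obj (G i)) := Module.Flat.of_linearEquiv e.symm
    letI algA𝔸 : Algebra ↑A Γ(Spec A, ⊤) := (Scheme.ΓSpecIso A).inv.hom.toAlgebra
    haveI : Module.Flat ↑A Γ(Spec A, ⊤) :=
      RingHom.Flat.of_bijective (ConcreteCategory.bijective_of_isIso (Scheme.ΓSpecIso A).inv)
    haveI : IsScalarTower ↑A Γ(Spec A, ⊤) ((ΓUF hV).obj (G i)) :=
      IsScalarTower.of_algebraMap_smul fun _ _ => rfl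
    exact Module.Flat.trans ↑A Γ(Spec A, ⊤) ((ΓUF hV).obj (G i))
  refine sepMaps_of_sepMaps_quotient_nilpotent (A := ↑A) (B := Γ(X, V))
    (fun i => ((ΓUF hV).map (u i)).hom) J hfree hJ ?_
  exact sepMaps_baseChange_of_algEquiv
    (Algebra.IsPushout.equiv ↑A Γ(X, V) (↑A ⧸ J) Γ(pullback p (Spec.map φ), j.O)).symm
    (fun i => ((ΓUF hV).map (u i)).hom) (sepMaps_sections_of_sep u h0 j)

end main

end Groth.Agent.R2.H22.NilSch
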