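import Mathlib
import Groth.Agent.S4850
import Groth.Agent.S4851
import Groth.Agent.R2.H76StalkExact

/-!
# Openness of the locus where a sequence of global functions is fibrewise weakly regular (helper22)

Namespace `Groth.Agent.R2.H22.RegOpen`.

* `nonempty_quotSMulTop_equiv`: `π : N ↠ N'` with kernel `r N`: `(N/JN)/r ≃ N'/JN'`.
* `gsec g`: a global function as a `DerComp.GSec`; `stalkHom_smulEnd`: the stalk map of multiplication by `g` is
  multiplication by the germ of `g`.
* `isOpen_flat_weaklyRegular`: `f` lfp, `F` qcoh f.p.: `{x | F flat at x ∧ (g_i)_x weakly regular on F_x / m_y F_x}` is open.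
-/

set_option autoImplicit false
set_option linter.style.haveILetI false
universe u
open CategoryTheory CategoryTheory.Limits AlgebraicGeometry TopologicalSpace Opposite
open Groth.Agent.Lib.Helper4.NormDelta

namespace Groth.Agent.R2.H22.RegOpen

section alg
variable {R : Type*} [CommRing R] {N N' : Type*} [AddCommGroup N] [Module R N] [AddCommGroup N']
  [Module R N']

open Pointwise in
theorem nonempty_quotSMulTop_equiv (π : N →ₗ[R] N') (hπ : Function.Surjective π) (r : R)
    (hker : ∀ m, π m = 0 ↔ ∃ n, m = r • n) (J : Ideal R) :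
    Nonempty (QuotSMulTop r (N ⧸ (J • ⊤ : Submodule R N)) ≃ₗ[R] N' ⧸ (J • ⊤ : Submodule R N')) := by
  have hle : (J • ⊤ : Submodule R N) ≤ (J • ⊤ : Submodule R N').comap π := by
    rw [Submodule.smul_le]
    intro a ha n _
    rw [Submodule.mem_comap, map_smul]
    exact Submodule.smul_mem_smul ha Submodule.mem_top
  let ψ : (N ⧸ (J • ⊤ : Submodule R N)) →ₗ[R] N' ⧸ (J • ⊤ : Submodule R N') :=
    Submodule.mapQ _ _ π hle
  have hψ : Function.Surjective ψ := by
    intro y
    obtain ⟨n', rfl⟩ := Submodule.Quotient.mk_surjective _ y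
    obtain ⟨n, rfl⟩ := hπ n'
    exact ⟨Submodule.Quotient.mk n, rfl⟩
  have hmap : (J • ⊤ : Submodule R N') = (J • ⊤ : Submodule R N).map π := by
    rw [Submodule.map_smul'', Submodule.map_top, LinearMap.range_eq_top.2 hπ]
  have hkerψ : LinearMap.ker ψ = (r • ⊤ : Submodule R (N ⧸ (J • ⊤ : Submodule R N))) := by
    apply le_antisymm
    · intro y hy
      obtain ⟨m, rfl⟩ := Submodule.Quotient.mk_surjective _ y
      rw [LinearMap.mem_ker] at hy
      have h1 : π m ∈ (J • ⊤ : Submodule R N') := by
        rw [← Submodule.Quotient.mk_eq_zero]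
        exact hy
      rw [hmap] at h1
      obtain ⟨m', hm', hmm'⟩ := h1
      have h2 : π (m - m') = 0 := by rw [map_sub, hmm', sub_self]
      obtain ⟨n, hn⟩ := (hker _).1 h2
      have h3 : (Submodule.Quotient.mk m : N ⧸ (J • ⊤ : Submodule R N)) =
          r • Submodule.Quotient.mk n := by
        rw [← Submodule.Quotient.mk_smul, ← hn, Submodule.Quotient.mk_sub,
          (Submodule.Quotient.mk_eq_zero _).2 hm', sub_zero]
      rw [h3]
      exact Submodule.smul_mem_pointwise_smul _ _ _ Submodule.mem_top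
    · intro y hy
      obtain ⟨z, -, rfl⟩ := hy
      obtain ⟨n, rfl⟩ := Submodule.Quotient.mk_surjective _ z
      rw [LinearMap.mem_ker]
      change ψ (r • Submodule.Quotient.mk n) = 0
      rw [map_smul]
      change r • Submodule.Quotient.mk (π n) = 0
      rw [← Submodule.Quotient.mk_smul, ← map_smul, (hker (r • n)).2 ⟨n, rfl⟩,
        Submodule.Quotient.mk_zero]
  exact ⟨(Submodule.quotEquivOfEq _ _ hkerψ.symm).trans (ψ.quotKerEquivOfSurjective hψ)⟩

end alg

variable {X Y : Scheme.{u}}

/-- a global function as a compatible family of sections. -/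
noncomputable def gsec (g : Γ(X, ⊤)) : DerComp.GSec X.sheaf :=
  ⟨fun U => X.presheaf.map (homOfLE le_top).op g, fun U V i => by
    change (X.presheaf.map i.op).hom ((X.presheaf.map (homOfLE le_top).op).hom g) =
      (X.presheaf.map (homOfLE le_top).op).hom g
    rw [← CommRingCat.comp_apply, ← Functor.map_comp]
    rfl⟩

/-- multiplication by a global function on an `O_X`-module. -/
noncomputable def mulEnd (g : Γ(X, ⊤)) (F : X.Modules) : F ⟶ F := DerComp.smulEnd (gsec g) F

theorem mulEnd_app (g : Γ(X, ⊤)) (F : X.Modules) (U : X.Opens) (m : Γ(F, U)) :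
    (mulEnd g F).app U m = (X.presheaf.map (homOfLE le_top).op g : Γ(X, U)) • m := rfl

theorem stalkHom_mulEnd (g : Γ(X, ⊤)) (F : X.Modules) (x : X) (a : F.presheaf.stalk x) :
    stalkHom (mulEnd g F) x a = (X.presheaf.germ ⊤ x trivial g) • a := by
  obtain ⟨U, hxU, m, rfl⟩ := F.presheaf.exists_germ_eq a
  rw [stalkHom_germ, mulEnd_app, Groth.Agent.Lib.Helper2.QCoh.germ_smul]
  congr 1
  exact X.presheaf.germ_res_apply (homOfLE le_top) x hxU g

/-- fibrewise regularity of one global function, in terms of the stalk map of multiplication. -/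
theorem isSMulRegular_fibre_iff (f : X ⟶ Y) (g : Γ(X, ⊤)) (F : X.Modules) (x : X) :
    IsSMulRegular (↑(F.presheaf.stalk x) ⧸
        (Ideal.map (f.stalkMap x).hom (IsLocalRing.maximalIdeal ↑(Y.presheaf.stalk (f x))) •
          (⊤ : Submodule ↑(X.presheaf.stalk x) ↑(F.presheaf.stalk x))))
        (X.presheaf.germ ⊤ x trivial g) ↔
      ∀ m : ↑(F.presheaf.stalk x),
        (TopCat.Presheaf.stalkFunctor Ab x).map (Scheme.Modules.Hom.mapPresheaf (mulEnd g F)) m ∈
          (Ideal.map (f.stalkMap x).hom (IsLocalRing.maximalIdeal ↑(Y.presheaf.stalk (f x))) •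
            (⊤ : Submodule ↑(X.presheaf.stalk x) ↑(F.presheaf.stalk x))) →
        m ∈ (Ideal.map (f.stalkMap x).hom (IsLocalRing.maximalIdeal ↑(Y.presheaf.stalk (f x))) •
            (⊤ : Submodule ↑(X.presheaf.stalk x) ↑(F.presheaf.stalk x))) := by
  rw [isSMulRegular_iff_right_eq_zero_of_smul]
  constructor
  · intro h m hm
    have h1 := h (Submodule.Quotient.mk m) (by
      rw [← Submodule.Quotient.mk_smul, Submodule.Quotient.mk_eq_zero]
      have := stalkHom_mulEnd g F x m
      rw [← this]
      exact hm)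
    exact (Submodule.Quotient.mk_eq_zero _).1 h1
  · intro h y hy
    obtain ⟨m, rfl⟩ := Submodule.Quotient.mk_surjective _ y
    rw [← Submodule.Quotient.mk_smul, Submodule.Quotient.mk_eq_zero] at hy
    rw [Submodule.Quotient.mk_eq_zero]
    apply h
    have := stalkHom_mulEnd g F x m
    change stalkHom (mulEnd g F) x m ∈ _
    rw [this]
    exact hy

/-- the fibre module of the cokernel of multiplication by `g`. -/
theorem nonempty_fibre_cokernel_equiv (f : X ⟶ Y) (g : Γ(X, ⊤)) (F : X.Modules) (x : X) :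
    Nonempty (QuotSMulTop (X.presheaf.germ ⊤ x trivial g) (↑(F.presheaf.stalk x) ⧸
        (Ideal.map (f.stalkMap x).hom (IsLocalRing.maximalIdeal ↑(Y.presheaf.stalk (f x))) •
          (⊤ : Submodule ↑(X.presheaf.stalk x) ↑(F.presheaf.stalk x))))
      ≃ₗ[↑(X.presheaf.stalk x)]
      (↑((cokernel (mulEnd g F)).presheaf.stalk x) ⧸
        (Ideal.map (f.stalkMap x).hom (IsLocalRing.maximalIdeal ↑(Y.presheaf.stalk (f x))) •
          (⊤ : Submodule ↑(X.presheaf.stalk x) ↑((cokernel (mulEnd g F)).presheaf.stalk x))))) := by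
  have hex : Function.Exact (stalkLin (mulEnd g F) x) (stalkLin (cokernel.π (mulEnd g F)) x) :=
    Groth.Agent.R2.H76.StalkExact.stalkLin_exact_of_exact
      (ShortComplex.mk (mulEnd g F) (cokernel.π (mulEnd g F)) (cokernel.condition _))
      (ShortComplex.exact_cokernel _) x
  have hπ : Function.Surjective (stalkLin (cokernel.π (mulEnd g F)) x) :=
    stalkLin_surjective (cokernel.π (mulEnd g F)) x
  refine nonempty_quotSMulTop_equiv (stalkLin (cokernel.π (mulEnd g F)) x) hπ _ (fun m => ?_) _
  rw [hex m]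
  constructor
  · rintro ⟨n, rfl⟩
    exact ⟨n, stalkHom_mulEnd g F x n⟩
  · rintro ⟨n, rfl⟩
    exact ⟨n, stalkHom_mulEnd g F x n⟩

/-- **Openness of the locus of fibrewise weak regularity** (with flatness of `F` built into the locus). -/
theorem isOpen_flat_weaklyRegular (f : X ⟶ Y) [LocallyOfFinitePresentation f] (gs : List Γ(X, ⊤)) :
    ∀ (F : X.Modules) [F.IsQuasicoherent] (_ : CohB1.IsFP F),
    IsOpen {x : X | FlatMod.IsFlatOverAt f F x ∧ RingTheory.Sequence.IsWeaklyRegular
        (↑(F.presheaf.stalk x) ⧸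
          (Ideal.map (f.stalkMap x).hom (IsLocalRing.maximalIdeal ↑(Y.presheaf.stalk (f x))) •
          (⊤ : Submodule ↑(X.presheaf.stalk x) ↑(F.presheaf.stalk x))))
        (gs.map fun g => (X.presheaf.germ ⊤ x trivial) g)} := by
  induction gs with
  | nil =>
    intro F _ hF
    haveI : SheafOfModules.IsFinitePresentation (R := X.ringCatSheaf) F := hF
    have h := Groth.Agent.Lib.Helper2.FinPres.isOpen_setOf_isFlatOverAt f F
    have e : {x : X | FlatMod.IsFlatOverAt f F x ∧ RingTheory.Sequence.IsWeaklyRegular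
        (↑(F.presheaf.stalk x) ⧸
          (Ideal.map (f.stalkMap x).hom (IsLocalRing.maximalIdeal ↑(Y.presheaf.stalk (f x))) •
          (⊤ : Submodule ↑(X.presheaf.stalk x) ↑(F.presheaf.stalk x))))
        (([] : List Γ(X, ⊤)).map fun g => (X.presheaf.germ ⊤ x trivial) g)} =
        {x : X | FlatMod.IsFlatOverAt f F x} := by
      ext x
      simp only [Set.mem_ofPred_eq, List.map_nil, and_iff_left_iff_imp]
      intro _
      exact RingTheory.Sequence.IsWeaklyRegular.nil _ _
    rw [e]
    exact h
  | cons g gs ih =>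
    intro F _ hF
    haveI hFfp : SheafOfModules.IsFinitePresentation (R := X.ringCatSheaf) F := hF
    haveI : (cokernel (mulEnd g F)).IsQuasicoherent :=
      Groth.Agent.Lib.Helper23.QCohLocal.isQuasicoherent_cokernel _
    have hCfp : CohB1.IsFP (cokernel (mulEnd g F)) :=
      Groth.Agent.R2.H22.KerFG.isFP_cokernel hF hF (mulEnd g F)
    have h1 := Groth.Agent.Lib.Helper2.FinPres.isOpen_setOf_isFlatOverAt f F
    have h2 := Groth.Agent.S4851.result f F F hF hF (mulEnd g F)
    have h3 := ih (cokernel (mulEnd g F)) hCfp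
    have e : {x : X | FlatMod.IsFlatOverAt f F x ∧ RingTheory.Sequence.IsWeaklyRegular
        (↑(F.presheaf.stalk x) ⧸
          (Ideal.map (f.stalkMap x).hom (IsLocalRing.maximalIdeal ↑(Y.presheaf.stalk (f x))) •
          (⊤ : Submodule ↑(X.presheaf.stalk x) ↑(F.presheaf.stalk x))))
        ((g :: gs).map fun g => (X.presheaf.germ ⊤ x trivial) g)} =
        {x : X | FlatMod.IsFlatOverAt f F x} ∩
        ({x : X | Function.Injective ((TopCat.Presheaf.stalkFunctor Ab x).map
            (Scheme.Modules.Hom.mapPresheaf (mulEnd g F))) ∧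
          FlatMod.IsFlatOverAt f (cokernel (mulEnd g F)) x} ∩
        {x : X | FlatMod.IsFlatOverAt f (cokernel (mulEnd g F)) x ∧
          RingTheory.Sequence.IsWeaklyRegular
          (↑((cokernel (mulEnd g F)).presheaf.stalk x) ⧸
            (Ideal.map (f.stalkMap x).hom (IsLocalRing.maximalIdeal ↑(Y.presheaf.stalk (f x))) •
            (⊤ : Submodule ↑(X.presheaf.stalk x) ↑((cokernel (mulEnd g F)).presheaf.stalk x))))
          (gs.map fun g => (X.presheaf.germ ⊤ x trivial) g)}) := by
      ext x
      simp only [Set.mem_ofPred_eq, Set.mem_inter_iff, List.map_cons,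
        RingTheory.Sequence.isWeaklyRegular_cons_iff]
      obtain ⟨ε⟩ := nonempty_fibre_cokernel_equiv f g F x
      have hε := LinearEquiv.isWeaklyRegular_congr ε
        (gs.map fun g => (X.presheaf.germ ⊤ x trivial) g)
      constructor
      · rintro ⟨hfl, hreg, hrest⟩
        have hE := (Groth.Agent.S4850.result f F F hF hF (mulEnd g F) x hfl).2
          ((isSMulRegular_fibre_iff f g F x).1 hreg)
        exact ⟨hfl, hE, hE.2, hε.1 hrest⟩
      · rintro ⟨hfl, hE, -, hrest⟩
        refine ⟨hfl, (isSMulRegular_fibre_iff f g F x).2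
          ((Groth.Agent.S4850.result f F F hF hF (mulEnd g F) x hfl).1 hE), hε.2 hrest⟩
    rw [e]
    exact h1.inter (h2.inter h3)

end Groth.Agent.R2.H22.RegOpen
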