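import Mathlib
import Groth.Agent.R2.H22SepNoeth

/-!
# Separating families and flat base change over an Artinian ring (helper22)
-/

set_option autoImplicit false
set_option linter.style.haveILetI false
universe u

namespace Groth.Agent.R2.H22.SepArt

open TensorProduct Groth.Agent.R2.H22.SepCore Groth.Agent.R2.H22.SepNoeth
open Groth.Agent.Lib.Helper2.GenFree

theorem freeAway_one_of_free {R : Type*} [CommRing R] {Q : Type*} [AddCommGroup Q] [Module R Q]
    [Module.Free R Q] : FreeAway R (1 : R) Q := by
  let b := Module.Free.chooseBasis R Q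
  refine FreeAway.of_family b b.linearIndependent fun x => ⟨0, ?_⟩
  rw [b.span_eq]
  trivial

variable {A : Type u} [CommRing A] {B : Type u} [AddCommGroup B] [Module A B]
  {M : Type u} [AddCommGroup M] [Module A M] {ι : Type*}
  {N : ι → Type u} [∀ i, AddCommGroup (N i)] [∀ i, Module A (N i)]

/-- **Artinian case**: any flat base change preserves separating families. -/
theorem eq_zero_of_artinian [IsArtinianRing A] [Module.Flat A B]
    (u : ∀ i, M →ₗ[A] N i) (hu : SepMaps A u) (x : B ⊗[A] M)
    (hx : ∀ i, (u i).lTensor B x = 0) : x = 0 := by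
  refine eq_zero_of_noetherian (fun p hp => ⟨1, ?_, ?_⟩) u hu x hx
  · exact fun h => hp.ne_top ((Ideal.eq_top_iff_one p).2 h)
  · haveI : p.IsMaximal := IsArtinianRing.isMaximal_of_isPrime p
    letI : Field (A ⧸ p) := Ideal.Quotient.field p
    haveI : Module.Free (A ⧸ p) ((A ⧸ p) ⊗[A] B) := Module.Free.of_divisionRing _ _
    rw [map_one]
    exact freeAway_one_of_free

end Groth.Agent.R2.H22.SepArt
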