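import Mathlib

/-!
# Bases of affine opens adapted to a morphism (helper22)
-/

set_option autoImplicit false
universe u

namespace Groth.Agent.R2.H22.SepBasis

open CategoryTheory AlgebraicGeometry TopologicalSpace

/-- affine opens of `X'` lying over an affine open of `X` form a basis. -/
theorem isBasis_affine_over {X X' : Scheme.{u}} (g : X' ⟶ X) :
    Opens.IsBasis (Set.range (fun U : {V' : X'.Opens // IsAffineOpen V' ∧
      ∃ V : X.Opens, IsAffineOpen V ∧ V' ≤ g ⁻¹ᵁ V} => U.1)) := by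
  rw [Opens.isBasis_iff_nbhd]
  intro W x hxW
  obtain ⟨V, hV, hxV, -⟩ := exists_isAffineOpen_mem_and_subset (x := g x) (U := ⊤) trivial
  obtain ⟨V', hV', hxV', hle⟩ := exists_isAffineOpen_mem_and_subset (x := x) (U := W ⊓ g ⁻¹ᵁ V)
    ⟨hxW, hxV⟩
  exact ⟨V', ⟨⟨V', hV', V, hV, hle.trans inf_le_right⟩, rfl⟩, hxV', hle.trans inf_le_left⟩

end Groth.Agent.R2.H22.SepBasis
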