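import Mathlib

/-!
# Faithfully flat descent of vanishing (helper22)

`eq_zero_of_tmul_eq_zero`: if for every maximal ideal `p` of `A` there is a flat `A`-algebra `B` with a prime
over `p` such that `1 ⊗ t = 0` in `B ⊗ M`, then `t = 0`.
-/

set_option autoImplicit false
universe u

namespace Groth.Agent.R2.H22.SepDescent

open TensorProduct

theorem eq_zero_of_tmul_eq_zero {A : Type u} [CommRing A] {M : Type u} [AddCommGroup M]
    [Module A M] (t : M)
    (h : ∀ p : Ideal A, p.IsMaximal → ∃ (B : Type u) (_ : CommRing B) (_ : Algebra A B),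
      Module.Flat A B ∧ (∃ q : Ideal B, q.IsPrime ∧ q.comap (algebraMap A B) = p) ∧
        (1 : B) ⊗ₜ[A] t = 0) : t = 0 := by
  by_contra ht
  let I : Ideal A := LinearMap.ker (LinearMap.toSpanSingleton A M t)
  have hI : I ≠ ⊤ := by
    intro hI
    apply ht
    have h1 : (1 : A) ∈ I := hI ▸ Submodule.mem_top
    have h2 : LinearMap.toSpanSingleton A M t 1 = 0 := LinearMap.mem_ker.1 h1
    rwa [LinearMap.toSpanSingleton_apply, one_smul] at h2
  obtain ⟨p, hp, hIp⟩ := Ideal.exists_le_maximal I hI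
  obtain ⟨B, _, _, hflat, ⟨q, hq, hqp⟩, h0⟩ := h p hp
  let ι : A ⧸ I →ₗ[A] M := Submodule.liftQ I (LinearMap.toSpanSingleton A M t) le_rfl
  have hι : Function.Injective ι := by
    rw [← LinearMap.ker_eq_bot]
    exact Submodule.ker_liftQ_eq_bot _ _ _ le_rfl
  have hι1 : ι (Ideal.Quotient.mk I 1) = t := by
    show LinearMap.toSpanSingleton A M t 1 = t
    rw [LinearMap.toSpanSingleton_apply, one_smul]
  have h1 : (1 : B) ⊗ₜ[A] (Ideal.Quotient.mk I (1 : A)) = 0 := by
    apply Module.Flat.lTensor_preserves_injective_linearMap (M := B) ι hι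
    rw [LinearMap.lTensor_tmul, map_zero, hι1, h0]
  have h2 := congrArg (tensorQuotEquivQuotSMul B I) h1
  rw [tensorQuotEquivQuotSMul_tmul_mk, one_smul, map_zero, Submodule.Quotient.mk_eq_zero] at h2
  have h3 : (I • ⊤ : Submodule A B) ≤ q.restrictScalars A := by
    rw [Submodule.smul_le]
    intro a ha b _
    show a • b ∈ q
    rw [Algebra.smul_def]
    apply Ideal.mul_mem_right
    have : a ∈ q.comap (algebraMap A B) := hqp ▸ hIp ha
    exact this
  exact hq.ne_top ((Ideal.eq_top_iff_one q).2 (h3 h2))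

end Groth.Agent.R2.H22.SepDescent
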