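import Mathlib
import Groth.Agent.R2.H22LocGen
import Groth.Prelude.Def_FlatCA

/-!
# Universal injectivity of `N → S' ⊗ N` from the relative assassin (helper22)

`S` finitely presented over `R`, `N` a finitely presented `S`-module flat over `R`, `S'` a flat `S`-algebra whose
spectrum covers all relative associated primes of `N`.  Then `N → S' ⊗[S] N` is universally injective over `R`
(`univInj_mk`).  Ingredients: the kernel lemma for flat algebras (`exists_finset_of_tmul_eq_zero`), the separating
criterion by associated primes over a Noetherian ring (`sepMaps_of_associatedPrimes`), and the universal fibre criterion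
for families of localizations of `H22LocGen`, applied to the idealization `R ⊕ Q`.
-/

set_option autoImplicit false
set_option linter.style.haveILetI false
set_option linter.unusedSectionVars false
set_option linter.unusedVariables false
universe u

open TensorProduct
open Groth.Agent.R2.H22.SepCore Groth.Agent.R2.H22.SepTrans Groth.Agent.R2.H22.LocGen
  Groth.Agent.R2.H22.FibBC

namespace Groth.Agent.R2.H22.UnivInjFlat

/-- kernel of `P → S' ⊗ P` for a flat algebra: the annihilator of a kernel element generates the unit ideal of `S'`. -/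
theorem exists_finset_of_tmul_eq_zero {S S' P : Type*} [CommRing S] [CommRing S'] [Algebra S S']
    [Module.Flat S S'] [AddCommGroup P] [Module S P] (x : P) (hx : (1 : S') ⊗ₜ[S] x = 0) :
    ∃ t : Finset S, (∀ s ∈ t, s • x = 0) ∧ Ideal.span ((algebraMap S S') '' (t : Set S)) = ⊤ := by
  classical
  set I : Ideal S := Ideal.torsionOf S P x with hI
  let φ : (S ⧸ I) →ₗ[S] P := Submodule.liftQ I (LinearMap.toSpanSingleton S P x) (by
    intro s hs
    rw [LinearMap.mem_ker, LinearMap.toSpanSingleton_apply]
    exact (Ideal.mem_torsionOf_iff x s).mp hs)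
  have hφ : Function.Injective φ := by
    rw [← LinearMap.ker_eq_bot]
    apply Submodule.ker_liftQ_eq_bot
    intro s hs
    rw [LinearMap.mem_ker, LinearMap.toSpanSingleton_apply] at hs
    exact (Ideal.mem_torsionOf_iff x s).mpr hs
  have hφ' : Function.Injective (φ.lTensor S') :=
    Module.Flat.lTensor_preserves_injective_linearMap φ hφ
  have h1 : (1 : S') ⊗ₜ[S] (Submodule.Quotient.mk (1 : S) : S ⧸ I) = 0 := by
    apply hφ'
    rw [LinearMap.lTensor_tmul, map_zero]
    have : φ (Submodule.Quotient.mk (1 : S)) = x := by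
      change (Submodule.liftQ I (LinearMap.toSpanSingleton S P x) _) (Submodule.Quotient.mk 1) = x
      rw [Submodule.liftQ_apply, LinearMap.toSpanSingleton_apply, one_smul]
    rw [this, hx]
  have h2 : (1 : S') ∈ (I • ⊤ : Submodule S S') := by
    have := congrArg (TensorProduct.tensorQuotEquivQuotSMul S' I) h1
    rw [map_zero] at this
    have h3 := TensorProduct.tensorQuotEquivQuotSMul_tmul_mk (M := S') I (1 : S') (1 : S)
    rw [one_smul] at h3
    rw [← Submodule.Quotient.mk_eq_zero, ← h3]
    exact this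
  rw [Ideal.smul_top_eq_map, Submodule.restrictScalars_mem, Ideal.map] at h2
  obtain ⟨T, hT, h1T⟩ := Submodule.mem_span_finite_of_mem_span h2
  obtain ⟨t, ht, rfl⟩ := Finset.subset_set_image_iff.mp hT
  refine ⟨t, fun s hs => (Ideal.mem_torsionOf_iff x s).mp (ht hs), ?_⟩
  rw [Ideal.eq_top_iff_one]
  simpa using h1T

section SepAss

variable {T : Type*} [CommRing T] [IsNoetherianRing T] {P : Type*} [AddCommGroup P] [Module T P]
  {ι : Type*} [Finite ι] {Pι : ι → Type*} [∀ i, AddCommGroup (Pι i)] [∀ i, Module T (Pι i)]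
  (ε : ι → T) (w : ∀ i, P →ₗ[T] Pι i) [∀ i, IsLocalizedModule (Submonoid.powers (ε i)) (w i)]

/-- over a Noetherian ring, a finite family of localizations at elements is separating as soon as no associated
prime contains all the elements. -/
theorem sepMaps_of_associatedPrimes
    (hAss : ∀ Q ∈ associatedPrimes T P, ∃ i, ε i ∉ Q) : SepMaps T w := by
  classical
  haveI := Fintype.ofFinite ι
  intro f y hy
  choose n hn using hy
  by_contra hne
  simp only [not_exists] at hne
  set N := ∑ i, n i with hN
  have hy' : f ^ N • y ≠ 0 := hne N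
  obtain ⟨Q, hQ, hle⟩ := exists_le_isAssociatedPrime_of_isNoetherianRing T (f ^ N • y) hy'
  obtain ⟨i, hi⟩ := hAss Q hQ
  have h1 : w i (f ^ N • y) = 0 := by
    have hle' : n i ≤ N := Finset.single_le_sum (f := n) (fun _ _ => Nat.zero_le _) (Finset.mem_univ i)
    obtain ⟨d, hd⟩ := Nat.exists_eq_add_of_le hle'
    rw [map_smul, hd, pow_add, mul_comm, mul_smul, hn i, smul_zero]
  obtain ⟨⟨c, m, rfl⟩, hc⟩ := (IsLocalizedModule.eq_zero_iff (Submonoid.powers (ε i)) (w i)).mp h1
  have h2 : ε i ^ m ∈ Q := hle (Submodule.mem_colon_singleton.mpr (by rw [Submodule.mem_bot]; exact hc))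
  exact hi (hQ.isPrime.mem_of_pow_mem m h2)

end SepAss

section Fibre

attribute [local instance] Algebra.TensorProduct.rightAlgebra

variable {R S : Type u} [CommRing R] [CommRing S] [Algebra R S] (p : Ideal R) [p.IsPrime]

/-- a prime of the fibre ring is the extension of its contraction. -/
theorem fiberIdeal_comap (Q : Ideal (p.Fiber S)) [hQ : Q.IsPrime] :
    FlatCA.fiberIdeal p (Q.comap (Algebra.TensorProduct.includeRight (R := R)
      (A := p.ResidueField) (B := S)).toRingHom) = Q := by
  apply le_antisymm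
  · exact Ideal.map_comap_le
  · intro d hd
    obtain ⟨r, hr, s, e⟩ := Ideal.Fiber.exists_smul_eq_one_tmul p d
    have hunit : IsUnit (algebraMap R (p.Fiber S) r) := by
      rw [IsScalarTower.algebraMap_apply R p.ResidueField (p.Fiber S)]
      apply IsUnit.map
      rw [isUnit_iff_ne_zero, Ne, Ideal.algebraMap_residueField_eq_zero]
      exact hr
    have h1 : (1 : p.ResidueField) ⊗ₜ[R] s ∈ Q := by
      rw [← e, Algebra.smul_def]
      exact Q.mul_mem_left _ hd
    have h2 : (1 : p.ResidueField) ⊗ₜ[R] s ∈ FlatCA.fiberIdeal p (Q.comap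
        (Algebra.TensorProduct.includeRight (R := R) (A := p.ResidueField) (B := S)).toRingHom) :=
      Ideal.mem_map_of_mem _ (show s ∈ Q.comap _ from h1)
    rw [← e, Algebra.smul_def, Ideal.unit_mul_mem_iff_mem _ hunit] at h2
    exact h2

variable [Algebra.FiniteType R S] {N : Type u} [AddCommGroup N] [Module S N] [Module R N]
  [IsScalarTower R S N] {ι : Type*} [Finite ι] (e : ι → S) {Nι : ι → Type u}
  [∀ i, AddCommGroup (Nι i)] [∀ i, Module S (Nι i)] (u : ∀ i, N →ₗ[S] Nι i)
  [hu : ∀ i, IsLocalizedModule (Submonoid.powers (e i)) (u i)]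

/-- the fibrewise separating property from the hypothesis on relative associated primes. -/
theorem sepMaps_fiber_of_assoc (S' : Type u) [CommRing S'] [Algebra S S']
    (hspan : Ideal.span (Set.range fun i => algebraMap S S' (e i)) = ⊤)
    (h : ∀ (q : Ideal S) [q.IsPrime] [q.LiesOver p],
      FlatCA.fiberIdeal p q ∈ associatedPrimes (p.Fiber S) (FlatCA.fiberMod p S N) →
      ∃ q' : Ideal S', q'.IsPrime ∧ q'.comap (algebraMap S S') = q) :
    SepMaps (S ⊗[R] p.ResidueField) (M := (S ⊗[R] p.ResidueField) ⊗[S] N)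
      (N := fun i => (S ⊗[R] p.ResidueField) ⊗[S] Nι i)
      (fun i => (u i).baseChange (S ⊗[R] p.ResidueField)) := by
  haveI : IsNoetherianRing (p.Fiber S) :=
    Algebra.FiniteType.isNoetherianRing p.ResidueField (p.ResidueField ⊗[R] S)
  refine sepMaps_baseChange_of_algEquiv
    (Algebra.TensorProduct.commRight R S p.ResidueField).symm u ?_
  haveI : ∀ i, IsLocalizedModule (Submonoid.powers (algebraMap S (p.Fiber S) (e i)))
      ((u i).baseChange (p.Fiber S)) := fun i => by
    haveI := hu i
    exact isLocalizedModule_baseChange (p.Fiber S) (e i) (u i)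
  refine sepMaps_of_associatedPrimes (fun i => algebraMap S (p.Fiber S) (e i))
    (fun i => (u i).baseChange (p.Fiber S)) ?_
  intro Q hQ
  haveI hQp : Q.IsPrime := hQ.isPrime
  by_contra hall
  push Not at hall
  set q : Ideal S := Q.comap (Algebra.TensorProduct.includeRight (R := R)
      (A := p.ResidueField) (B := S)).toRingHom with hq
  haveI : q.IsPrime := Ideal.comap_isPrime _ _
  haveI : q.LiesOver p :=
    ((PrimeSpectrum.primesOverOrderIsoFiber R S p).symm ⟨Q, hQp⟩).2.2
  have hmem : FlatCA.fiberIdeal p q ∈ associatedPrimes (p.Fiber S) (FlatCA.fiberMod p S N) := by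
    rw [hq, fiberIdeal_comap p Q]
    exact hQ
  obtain ⟨q', hq'prime, hq'⟩ := h q hmem
  have hle : Ideal.span (Set.range fun i => algebraMap S S' (e i)) ≤ q' := by
    rw [Ideal.span_le]
    rintro _ ⟨i, rfl⟩
    have : e i ∈ q := hall i
    rw [← hq'] at this
    exact this
  rw [hspan] at hle
  exact hq'prime.ne_top (top_le_iff.mp hle)

end Fibre

section Main

attribute [local instance] Algebra.TensorProduct.rightAlgebra

variable {R S S' : Type u} [CommRing R] [CommRing S] [CommRing S'] [Algebra R S] [Algebra S S']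
  [Algebra R S'] [IsScalarTower R S S']
  [Algebra.FinitePresentation R S] [Module.Flat S S']
  (N : Type u) [AddCommGroup N] [Module S N] [Module R N] [IsScalarTower R S N]
  [Module.FinitePresentation S N] [Module.Flat R N]

/-- **universal injectivity of `N → S' ⊗ N`** when the image of `Spec S'` contains the relative assassin of `N`. -/
theorem injective_rTensor_mk
    (h : ∀ (p : Ideal R) (q : Ideal S) [p.IsPrime] [q.IsPrime] [q.LiesOver p],
      FlatCA.fiberIdeal p q ∈ associatedPrimes (p.Fiber S) (FlatCA.fiberMod p S N) →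
      ∃ q' : Ideal S', q'.IsPrime ∧ q'.comap (algebraMap S S') = q)
    (Q : Type u) [AddCommGroup Q] [Module R Q] :
    Function.Injective (((TensorProduct.mk S S' N 1).restrictScalars R).rTensor Q) := by
  classical
  rw [injective_iff_map_eq_zero]
  intro z hz
  -- the kernel element is killed by `1 ⊗ -` over `S`
  have h1 : (1 : S') ⊗ₜ[S] z = 0 := by
    have key : ∀ z : N ⊗[R] Q, TensorProduct.AlgebraTensorModule.assoc R S S' S' N Q
        ((((TensorProduct.mk S S' N 1).restrictScalars R).rTensor Q) z) = (1 : S') ⊗ₜ[S] z := by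
      intro z
      induction z using TensorProduct.induction_on with
      | zero => simp
      | tmul n q => rfl
      | add z₁ z₂ h₁ h₂ => rw [map_add, map_add, h₁, h₂, tmul_add]
    rw [← key, hz, map_zero]
  obtain ⟨t, ht0, htspan⟩ := exists_finset_of_tmul_eq_zero (S := S) (S' := S') z h1
  -- the family of localizations
  let ι := {s : S // s ∈ t}
  let e : ι → S := fun i => i.1
  let u : ∀ i : ι, N →ₗ[S] LocalizedModule (Submonoid.powers (e i)) N :=
    fun i => LocalizedModule.mkLinearMap (Submonoid.powers (e i)) N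
  have hspan : Ideal.span (Set.range fun i : ι => algebraMap S S' (e i)) = ⊤ := by
    rw [← htspan]
    congr 1
    ext x
    simp [e, ι]
  have hfib : FibHyp (A := R) u := fun 𝔭 h𝔭 => by
    haveI := h𝔭
    exact ⟨𝔭.ResidueField, inferInstance, inferInstance, Ideal.ker_algebraMap_residueField 𝔭,
      sepMaps_fiber_of_assoc 𝔭 e u S' hspan (fun q _ _ => h 𝔭 q)⟩
  -- idealization
  letI : Module Rᵐᵒᵖ Q := Module.compHom Q ((RingHom.id R).fromOpposite (fun _ _ => mul_comm _ _))
  haveI : IsCentralScalar R Q := ⟨fun r q => rfl⟩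
  let A' := TrivSqZeroExt R Q
  have hsep := sepMaps_baseChange_of_fibHyp_localizations e u (fun i => inferInstance) hfib A'
  -- the embedding
  let j₁ : N ⊗[R] Q →ₗ[S] N ⊗[R] A' :=
    TensorProduct.AlgebraTensorModule.lTensor S N (TrivSqZeroExt.inrHom R Q)
  let r₁ : N ⊗[R] A' →ₗ[S] N ⊗[R] Q :=
    TensorProduct.AlgebraTensorModule.lTensor S N (TrivSqZeroExt.sndHom R Q)
  have hr₁ : ∀ y, r₁ (j₁ y) = y := by
    intro y
    induction y using TensorProduct.induction_on with
    | zero => simp
    | tmul n q =>
      simp only [j₁, r₁, TensorProduct.AlgebraTensorModule.lTensor_tmul]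
      congr 1
    | add z₁ z₂ h₁ h₂ => rw [map_add, map_add, h₁, h₂]
  let j₂ : N ⊗[R] A' ≃ₗ[S] (S ⊗[R] A') ⊗[S] N :=
    (TensorProduct.AlgebraTensorModule.cancelBaseChange R S S N A').symm ≪≫ₗ
      TensorProduct.comm S N (S ⊗[R] A')
  set x'' : (S ⊗[R] A') ⊗[S] N := j₂ (j₁ z) with hx''
  have hkill : ∀ i : ι, e i • x'' = 0 := by
    intro i
    rw [hx'', ← map_smul, ← map_smul, ht0 i.1 i.2, map_zero, map_zero]
  have hw : ∀ i : ι, ∃ n : ℕ, (1 : S ⊗[R] A') ^ n • (u i).baseChange (S ⊗[R] A') x'' = 0 := by
    intro i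
    refine ⟨0, ?_⟩
    rw [pow_zero, one_smul]
    apply eq_zero_of_isUnit_smul_baseChange (S ⊗[R] A') (e i)
      (IsLocalizedModule.map_units (u i) ⟨e i, Submonoid.mem_powers _⟩)
    rw [← map_smul, algebraMap_smul, hkill i, map_zero]
  obtain ⟨n, hn⟩ := hsep 1 x'' hw
  rw [one_pow, one_smul] at hn
  have : j₁ z = 0 := by
    have := congrArg j₂.symm hn
    rwa [hx'', LinearEquiv.symm_apply_apply, map_zero] at this
  rw [← hr₁ z, this, map_zero]

/-- universal injectivity in the `lTensor` form. -/
theorem univInj_mk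
    (h : ∀ (p : Ideal R) (q : Ideal S) [p.IsPrime] [q.IsPrime] [q.LiesOver p],
      FlatCA.fiberIdeal p q ∈ associatedPrimes (p.Fiber S) (FlatCA.fiberMod p S N) →
      ∃ q' : Ideal S', q'.IsPrime ∧ q'.comap (algebraMap S S') = q) :
    FlatCA.UnivInj R ((TensorProduct.mk S S' N 1).restrictScalars R) := by
  intro Q _ _
  exact (LinearMap.lTensor_inj_iff_rTensor_inj _ _).mpr (injective_rTensor_mk N h Q)

end Main

end Groth.Agent.R2.H22.UnivInjFlat
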