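import Mathlib
import Groth.Prelude.Def_SGA3b
import Groth.Agent.Lib.Helper25MultRigid
import Groth.Agent.Lib.Helper25Torsion
import Groth.Agent.Lib.Helper25FrobSplit2

/-!
# H23TorsHopf (helper23, round 2)

* `isCocomm_of_isMultType`: a Hopf algebra of multiplicative type is cocommutative.
* `powB`: the `n`-th power map of a commutative cocommutative Hopf algebra as a bialgebra map.
* `isHopfIdeal_torsionIdeal`: the `n`-torsion ideal is a Hopf ideal.
* `iInf_torsionIdeal_eq_bot`: schematic density of the torsion subgroups in a group of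
  multiplicative type and of finite type.
-/

set_option autoImplicit false
set_option linter.style.haveILetI false
universe u v w

namespace Groth.Agent.R2.H23.TorsHopf

open TensorProduct Coalgebra SGA3b WithConv
open Groth.Agent.Lib.Helper25

section Cocomm

variable {R : Type u} [CommRing R] (S : Type v) [CommRing S] [Algebra R S]
  (A : Type w) [CommRing A] [Bialgebra R A]

/-- left inverse (up to `1 ⊗ -`) of `bcMap2` -/
noncomputable def unBC : (S ⊗[R] A) ⊗[S] (S ⊗[R] A) →ₗ[R] S ⊗[R] (A ⊗[R] A) :=
  (LinearMap.rTensor (A ⊗[R] A) ((TensorProduct.lid S S).toLinearMap.restrictScalars R)) ∘ₗ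
    ((AlgebraTensorModule.tensorTensorTensorComm R S R S S S A A).symm.toLinearMap.restrictScalars R)

theorem unBC_bcMap2 (z : A ⊗[R] A) : unBC S A (bcMap2 S A z) = (1 : S) ⊗ₜ[R] z := by
  induction z using TensorProduct.induction_on with
  | zero => simp
  | add x y hx hy => simp only [map_add, hx, hy, TensorProduct.tmul_add]
  | tmul x y =>
    rw [bcMap2_tmul]
    unfold unBC
    simp

theorem bcMap2_comm (z : A ⊗[R] A) :
    bcMap2 S A (TensorProduct.comm R A A z) =
      TensorProduct.comm S (S ⊗[R] A) (S ⊗[R] A) (bcMap2 S A z) := by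
  induction z using TensorProduct.induction_on with
  | zero => simp
  | add x y hx hy => simp only [map_add, hx, hy]
  | tmul x y => simp only [TensorProduct.comm_tmul, bcMap2_tmul]

/-- the defect of cocommutativity dies after a base change to a cocommutative bialgebra -/
theorem one_tmul_comm_comul_sub [IsCocomm S (S ⊗[R] A)] (a : A) :
    (1 : S) ⊗ₜ[R] (TensorProduct.comm R A A (comul (R := R) a) - comul (R := R) a) = 0 := by
  rw [← unBC_bcMap2, map_sub, bcMap2_comm, ← comul_one_tmul, Coalgebra.comm_comul, sub_self,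
    map_zero]

theorem isCocomm_of_faithfullyFlat [Module.FaithfullyFlat R S] [IsCocomm S (S ⊗[R] A)] :
    IsCocomm R A := by
  constructor
  apply LinearMap.ext
  intro a
  rw [LinearMap.comp_apply, ← sub_eq_zero]
  apply Module.FaithfullyFlat.tensorProduct_mk_injective (A := R) (B := S) (A ⊗[R] A)
  rw [map_zero]
  exact one_tmul_comm_comul_sub S A a

variable {A} in
theorem isCocomm_of_bialgEquiv {B : Type*} [CommRing B] [Bialgebra R B] (e : A ≃ₐc[R] B)
    [IsCocomm R B] : IsCocomm R A := by
  constructor
  apply LinearMap.ext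
  intro a
  rw [LinearMap.comp_apply, LinearEquiv.coe_coe]
  have hinj : Function.Injective (TensorProduct.map (e : A →ₗ[R] B) (e : A →ₗ[R] B)) := by
    have : TensorProduct.map (e : A →ₗ[R] B) (e : A →ₗ[R] B) =
        (TensorProduct.congr e.toLinearEquiv e.toLinearEquiv).toLinearMap := rfl
    rw [this]
    exact (TensorProduct.congr e.toLinearEquiv e.toLinearEquiv).injective
  apply hinj
  have h1 : TensorProduct.map (e : A →ₗ[R] B) (e : A →ₗ[R] B) (comul (R := R) a) =
      comul (R := R) (e a) := CoalgHomClass.map_comp_comul_apply e a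
  rw [h1]
  have h2 : ∀ z : A ⊗[R] A, TensorProduct.map (e : A →ₗ[R] B) (e : A →ₗ[R] B)
      (TensorProduct.comm R A A z) =
      TensorProduct.comm R B B (TensorProduct.map (e : A →ₗ[R] B) (e : A →ₗ[R] B) z) := by
    intro z
    induction z using TensorProduct.induction_on with
    | zero => simp
    | add x y hx hy => simp only [map_add, hx, hy]
    | tmul x y => simp
  rw [h2, h1, Coalgebra.comm_comul]

theorem isCocomm_of_span (s : Set R) (hs : Ideal.span s = ⊤)
    (h : ∀ f ∈ s, IsCocomm (Localization.Away f) (Localization.Away f ⊗[R] A)) :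
    IsCocomm R A := by
  constructor
  apply LinearMap.ext
  intro a
  rw [LinearMap.comp_apply, ← sub_eq_zero]
  haveI : ∀ r : s, IsLocalizedModule.Away r.1
      (TensorProduct.mk R (Localization.Away r.1) (A ⊗[R] A) 1) := fun r =>
    (isLocalizedModule_iff_isBaseChange (S := Submonoid.powers r.1)
      (A := Localization.Away r.1) _).mpr (TensorProduct.isBaseChange R (A ⊗[R] A) _)
  refine Module.eq_zero_of_isLocalized_span s hs
    (fun r : s => Localization.Away r.1 ⊗[R] (A ⊗[R] A))
    (fun r : s => TensorProduct.mk R (Localization.Away r.1) (A ⊗[R] A) 1) _ ?_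
  intro r
  haveI := h r.1 r.2
  exact one_tmul_comm_comul_sub (Localization.Away r.1) A a

end Cocomm

section MultTypeCocomm

variable {R : Type u} [CommRing R] {A : Type u} [CommRing A] [HopfAlgebra R A]

theorem isCocomm_of_isDiag (h : IsDiag R A) : IsCocomm R A := by
  obtain ⟨M, _, ⟨e⟩⟩ := h
  exact isCocomm_of_bialgEquiv e

theorem isCocomm_of_isMultTypeConst (h : IsMultTypeConst R A) : IsCocomm R A := by
  obtain ⟨R', _, _, hff, hd⟩ := h
  haveI := hff
  haveI := isCocomm_of_isDiag hd
  exact isCocomm_of_faithfullyFlat R' A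

theorem isCocomm_of_isMultType (h : IsMultType R A) : IsCocomm R A := by
  obtain ⟨s, hs, hf⟩ := h
  exact isCocomm_of_span A s hs (fun f hfs => isCocomm_of_isMultTypeConst (hf f hfs))

end MultTypeCocomm

section PowB

variable {R : Type u} [CommRing R] {A : Type u} [CommRing A] [HopfAlgebra R A] [IsCocomm R A]

/-- The `n`-th power map of a commutative cocommutative Hopf algebra, as a bialgebra map. -/
noncomputable def powB (n : ℕ) : A →ₐc[R] A :=
  WithConv.ofConv ((WithConv.toConv (BialgHom.id R A)) ^ n)

theorem powB_apply (n : ℕ) (a : A) : (powB n : A →ₐc[R] A) a = powConv R A n a := by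
  have h := BialgHom.toAlgHom_convPow (WithConv.toConv (BialgHom.id R A)) n
  have h2 := congrArg WithConv.ofConv h
  rw [WithConv.ofConv_toConv] at h2
  have h3 := AlgHom.congr_fun h2 a
  exact h3

theorem counit_powConv (n : ℕ) (a : A) : counit (R := R) (powConv R A n a) = counit (R := R) a := by
  rw [← powB_apply]
  exact CoalgHomClass.counit_comp_apply (powB n : A →ₐc[R] A) a

theorem comul_powConv (n : ℕ) (a : A) :
    comul (R := R) (powConv R A n a) =
      TensorProduct.map (powConv R A n).toLinearMap (powConv R A n).toLinearMap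
        (comul (R := R) a) := by
  rw [← powB_apply]
  have h := (CoalgHomClass.map_comp_comul_apply (powB n : A →ₐc[R] A) a).symm
  rw [h]
  congr 2 <;> (ext x; exact powB_apply n x)

theorem antipode_powConv (n : ℕ) (a : A) :
    HopfAlgebra.antipode R (powConv R A n a) = powConv R A n (HopfAlgebra.antipode R a) := by
  have h := LinearMap.congr_fun
    (Groth.Agent.Lib.Helper25.FrobSplit.antipode_comp_bialgHom (powB n : A →ₐc[R] A)) a
  simp only [LinearMap.comp_apply] at h
  rw [← powB_apply, ← powB_apply]
  exact h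

omit [IsCocomm R A] in
theorem counit_sub_mem (a : A) :
    a - algebraMap R A (counit (R := R) a) ∈ RingHom.ker (Bialgebra.counitAlgHom R A) := by
  rw [RingHom.mem_ker, map_sub, AlgHom.commutes]
  change counit (R := R) a - algebraMap R R (counit (R := R) a) = 0
  simp

/-- modulo the torsion ideal, the `n`-th power map is trivial -/
theorem mk_powConv (n : ℕ) (a : A) :
    Ideal.Quotient.mk (torsionIdeal R A n) (powConv R A n a) =
      algebraMap R (A ⧸ torsionIdeal R A n) (counit (R := R) a) := by
  have h4 : powConv R A n (a - algebraMap R A (counit (R := R) a)) ∈ torsionIdeal R A n :=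
    Ideal.mem_map_of_mem _ (counit_sub_mem a)
  rw [map_sub, AlgHom.commutes] at h4
  rw [← Ideal.Quotient.eq] at h4
  rw [h4]
  rfl

theorem torsionIdeal_le_ker_counit (n : ℕ) :
    torsionIdeal R A n ≤ RingHom.ker (Bialgebra.counitAlgHom R A) := by
  unfold torsionIdeal
  rw [Ideal.map_le_iff_le_comap]
  intro y hy
  rw [Ideal.mem_comap, RingHom.mem_ker] at *
  change counit (R := R) (powConv R A n y) = 0
  rw [counit_powConv]
  exact hy

theorem torsionIdeal_le_ker_comul (n : ℕ) :
    torsionIdeal R A n ≤ RingHom.ker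
      ((Algebra.TensorProduct.map (Ideal.Quotient.mkₐ R (torsionIdeal R A n))
        (Ideal.Quotient.mkₐ R (torsionIdeal R A n))).comp (Bialgebra.comulAlgHom R A)) := by
  set T := torsionIdeal R A n with hT
  set Φ := (Algebra.TensorProduct.map (Ideal.Quotient.mkₐ R T)
        (Ideal.Quotient.mkₐ R T)).comp (Bialgebra.comulAlgHom R A) with hΦ
  have hgen : ∀ y ∈ RingHom.ker (Bialgebra.counitAlgHom R A), Φ (powConv R A n y) = 0 := by
    intro y hy
    have hy' : counit (R := R) y = 0 := hy
    change (TensorProduct.map (Ideal.Quotient.mkₐ R T).toLinearMap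
      (Ideal.Quotient.mkₐ R T).toLinearMap) (comul (R := R) (powConv R A n y)) = 0
    rw [comul_powConv, ← LinearMap.comp_apply, ← TensorProduct.map_comp]
    have hcomp : (Ideal.Quotient.mkₐ R T).toLinearMap ∘ₗ (powConv R A n).toLinearMap =
        Algebra.linearMap R (A ⧸ T) ∘ₗ (counit (R := R) (A := A)) := by
      ext a
      exact mk_powConv n a
    rw [hcomp]
    have : TensorProduct.map (Algebra.linearMap R (A ⧸ T) ∘ₗ (counit (R := R) (A := A)))
        (Algebra.linearMap R (A ⧸ T) ∘ₗ (counit (R := R) (A := A))) =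
        TensorProduct.map (Algebra.linearMap R (A ⧸ T))
          (Algebra.linearMap R (A ⧸ T) ∘ₗ (counit (R := R) (A := A))) ∘ₗ
          (counit (R := R) (A := A)).rTensor A := by
      rw [LinearMap.rTensor, ← TensorProduct.map_comp, LinearMap.comp_id]
    rw [this, LinearMap.comp_apply, Coalgebra.rTensor_counit_comul, TensorProduct.map_tmul,
      LinearMap.comp_apply, hy', map_zero, TensorProduct.tmul_zero]
  have hle : Ideal.map (powConv R A n) (RingHom.ker (Bialgebra.counitAlgHom R A)) ≤
      RingHom.ker Φ := by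
    rw [Ideal.map_le_iff_le_comap]
    intro y hy
    rw [Ideal.mem_comap, RingHom.mem_ker]
    exact hgen y hy
  exact hle

instance isCoideal_torsionIdeal (n : ℕ) :
    ((torsionIdeal R A n).restrictScalars R).IsCoideal where
  counit_eq_zero := by
    intro x hx
    exact torsionIdeal_le_ker_counit n hx
  map_mkQ_comul_eq_zero := by
    intro x hx
    exact torsionIdeal_le_ker_comul n hx

instance isHopfIdeal_torsionIdeal (n : ℕ) : (torsionIdeal R A n).IsHopfIdeal R where
  antipode_mem := by
    intro x hx
    have hle : torsionIdeal R A n ≤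
        (torsionIdeal R A n).comap (HopfAlgebra.antipodeAlgHom R A) := by
      unfold torsionIdeal
      rw [Ideal.map_le_iff_le_comap]
      intro y hy
      rw [Ideal.mem_comap, Ideal.mem_comap]
      change HopfAlgebra.antipode R (powConv R A n y) ∈ _
      rw [antipode_powConv]
      apply Ideal.mem_map_of_mem
      rw [RingHom.mem_ker] at hy ⊢
      change counit (R := R) (HopfAlgebra.antipode R y) = 0
      rw [HopfAlgebra.counit_antipode]
      exact hy
    exact hle hx

end PowB

section Density

variable {R : Type u} [CommRing R] {A : Type u} [CommRing A] [HopfAlgebra R A]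

open Groth.Agent.Lib.Helper25.Tors

/-- density for groups of multiplicative type with constant type -/
theorem eq_zero_of_forall_mem_torsionIdeal_of_isMultTypeConst (hft : Algebra.FiniteType R A)
    (h : IsMultTypeConst R A) (x : A) (hx : ∀ n : ℕ, 0 < n → x ∈ torsionIdeal R A n) : x = 0 := by
  obtain ⟨R', _, _, hff, M, _, ⟨e⟩⟩ := h
  haveI := hff
  apply Module.FaithfullyFlat.tensorProduct_mk_injective (A := R) (B := R') A
  rw [map_zero]
  change (1 : R') ⊗ₜ[R] x = 0
  by_cases hR' : Nontrivial R'
  · haveI h1 : Algebra.FiniteType R' (R' ⊗[R] A) := inferInstance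
    haveI h2 : Algebra.FiniteType R' (MonoidAlgebra R' M) :=
      Algebra.FiniteType.equiv h1 e.toAlgEquiv
    haveI : Group.FG M := MonoidAlgebra.finiteType_iff_group_fg.mp h2
    have hbot := iInf_torsionIdeal_monoidAlgebra_eq_bot R' M (p := 0) (Or.inl rfl)
      (fun h => absurd rfl h)
    have hmem : e ((1 : R') ⊗ₜ[R] x) ∈
        ⨅ n : {n : ℕ // 0 < n ∧ ¬ 0 ∣ n}, torsionIdeal R' (MonoidAlgebra R' M) n.1 := by
      rw [Ideal.mem_iInf]
      intro n
      exact map_mem_torsionIdeal (e : (R' ⊗[R] A) →ₐc[R'] MonoidAlgebra R' M) n.1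
        (one_tmul_mem_torsionIdeal R' n.1 (hx n.1 n.2.1))
    rw [hbot, Ideal.mem_bot] at hmem
    exact e.injective (hmem.trans (map_zero e).symm)
  · rw [not_nontrivial_iff_subsingleton] at hR'
    haveI : Subsingleton (R' ⊗[R] A) := Module.subsingleton R' _
    exact Subsingleton.elim _ _

/-- Schematic density of the torsion subgroups in a group of multiplicative type and of
finite type. -/
theorem eq_zero_of_forall_mem_torsionIdeal (hft : Algebra.FiniteType R A) (h : IsMultType R A)
    (x : A) (hx : ∀ n : ℕ, 0 < n → x ∈ torsionIdeal R A n) : x = 0 := by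
  obtain ⟨s, hs, hmt⟩ := h
  haveI : ∀ r : s, IsLocalizedModule.Away r.1
      (TensorProduct.mk R (Localization.Away r.1) A 1) := fun r =>
    (isLocalizedModule_iff_isBaseChange (S := Submonoid.powers r.1)
      (A := Localization.Away r.1) _).mpr (TensorProduct.isBaseChange R A _)
  refine Module.eq_zero_of_isLocalized_span s hs
    (fun r : s => Localization.Away r.1 ⊗[R] A)
    (fun r : s => TensorProduct.mk R (Localization.Away r.1) A 1) _ ?_
  intro r
  exact eq_zero_of_forall_mem_torsionIdeal_of_isMultTypeConst inferInstance (hmt r.1 r.2) _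
    (fun n hn => one_tmul_mem_torsionIdeal (Localization.Away r.1) n (hx n hn))

theorem iInf_torsionIdeal_eq_bot (hft : Algebra.FiniteType R A) (h : IsMultType R A) :
    ⨅ n : {n : ℕ // 0 < n}, torsionIdeal R A n.1 = ⊥ := by
  rw [eq_bot_iff]
  intro x hx
  rw [Ideal.mem_bot]
  rw [Ideal.mem_iInf] at hx
  exact eq_zero_of_forall_mem_torsionIdeal hft h x (fun n hn => hx ⟨n, hn⟩)

end Density

end Groth.Agent.R2.H23.TorsHopf
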