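import Mathlib
import Groth.Prelude.Def_SGA3b
import Groth.Agent.Lib.Helper25MultRigid
import Groth.Agent.Lib.Helper25MultBC
import Groth.Agent.Lib.Helper25SubDiag
import Groth.Agent.Lib.Helper25TorsQuot
import Groth.Agent.R2.H23TorsHopf

/-!
# H23LocalRigid (helper23, round 2): rigidity over a local base

* `delta_mem_mul`: if a bialgebra map `φ : C → A` into a bialgebra without primitives modulo ideals
  is trivial modulo `K`, it is trivial modulo `K * K`.
* `exists_local_isDiag`: a group of multiplicative type over a local ring is diagonalised by a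
  faithfully flat local algebra.
* `trivial_of_noetherian`, `trivial_of_finiteType`: a homomorphism from a group of multiplicative
  type and of finite type over a local ring which is trivial on the closed fibre is trivial.
-/

set_option autoImplicit false
set_option linter.style.haveILetI false
universe u v w

namespace Groth.Agent.R2.H23.LocalRigid

open TensorProduct Coalgebra SGA3b
open Groth.Agent.Lib.Helper25

section Doubling

variable {R : Type u} [CommRing R] {A : Type v} [CommRing A] [Bialgebra R A]
  {C : Type w} [CommRing C] [Bialgebra R C]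

/-- One doubling step of the rigidity argument. -/
theorem delta_mem_mul (hP : NoPrimMod R A) (K : Ideal R) (φ : C →ₐc[R] A)
    (h0 : ∀ c : C, φ c - algebraMap R A (counit (R := R) c) ∈ K • (⊤ : Submodule R A)) :
    ∀ c : C, φ c - algebraMap R A (counit (R := R) c) ∈ (K * K) • (⊤ : Submodule R A) := by
  intro c
  apply hP
  rw [primDefect_sub_counit]
  exact map_mem_smul_top_of_forall K K _ _ h0 h0 (comul (R := R) c)

/-- Trivial modulo `K` implies trivial modulo every power of `K`. -/
theorem delta_mem_pow (hP : NoPrimMod R A) (K : Ideal R) (φ : C →ₐc[R] A)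
    (h0 : ∀ c : C, φ c - algebraMap R A (counit (R := R) c) ∈ K • (⊤ : Submodule R A)) :
    ∀ (m : ℕ) (c : C),
      φ c - algebraMap R A (counit (R := R) c) ∈ (K ^ (m + 1)) • (⊤ : Submodule R A) := by
  intro m
  induction m with
  | zero =>
    intro c
    rw [zero_add, pow_one]
    exact h0 c
  | succ m ih =>
    intro c
    have h1 := delta_mem_mul hP (K ^ (m + 1)) φ ih c
    have hle : K ^ (m + 1) * K ^ (m + 1) ≤ K ^ (m + 1 + 1) := by
      rw [← pow_add]
      exact Ideal.pow_le_pow_right (by omega)
    exact Submodule.smul_mono hle le_rfl h1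

end Doubling

section LocalDiag

variable {R : Type u} [CommRing R] [IsLocalRing R] {A : Type u} [CommRing A] [HopfAlgebra R A]

open Groth.Agent.Lib.Helper25.SubDiag in
/-- A group of multiplicative type over a local ring is diagonalised by a faithfully flat local
algebra. -/
theorem exists_local_isDiag (h : IsMultType R A) :
    ∃ (T : Type u) (_ : CommRing T) (_ : IsLocalRing T) (_ : Algebra R T),
      Module.FaithfullyFlat R T ∧ IsDiag T (T ⊗[R] A) := by
  obtain ⟨s, hs, hc⟩ := hasDiagCover_of_isMultType h
  have hex : ∃ f ∈ s, IsUnit f := by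
    by_contra hcon
    simp only [not_exists, not_and] at hcon
    have hle : Ideal.span s ≤ IsLocalRing.maximalIdeal R := by
      rw [Ideal.span_le]
      intro f hf
      exact (IsLocalRing.mem_maximalIdeal f).mpr (hcon f hf)
    rw [hs] at hle
    exact (IsLocalRing.maximalIdeal.isMaximal R).ne_top (top_le_iff.mp hle)
  obtain ⟨f, hfs, hfu⟩ := hex
  obtain ⟨S, _, _, _, _, hff, hD⟩ := hc f hfs
  haveI := hff
  -- the maximal ideal of `R` extends to a prime of `R_f`
  have hdisj : Disjoint (Submonoid.powers f : Set R) (IsLocalRing.maximalIdeal R : Set R) := by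
    rw [Set.disjoint_left]
    rintro x ⟨k, rfl⟩ hx
    exact (IsLocalRing.mem_maximalIdeal _).mp hx (hfu.pow k)
  haveI hprime : ((IsLocalRing.maximalIdeal R).map
      (algebraMap R (Localization.Away f))).IsPrime :=
    IsLocalization.isPrime_of_isPrime_disjoint (Submonoid.powers f) _ _
      (IsLocalRing.maximalIdeal.isMaximal R).isPrime hdisj
  have hcomap : ((IsLocalRing.maximalIdeal R).map
      (algebraMap R (Localization.Away f))).comap (algebraMap R (Localization.Away f)) =
      IsLocalRing.maximalIdeal R :=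
    IsLocalization.comap_map_of_isPrime_disjoint (Submonoid.powers f) _
      (IsLocalRing.maximalIdeal.isMaximal R).isPrime hdisj
  obtain ⟨q, hq, hlies⟩ := Ideal.exists_isPrime_liesOver_of_faithfullyFlat (B := S)
    ((IsLocalRing.maximalIdeal R).map (algebraMap R (Localization.Away f)))
  haveI := hq
  have hqR : q.comap (algebraMap R S) = IsLocalRing.maximalIdeal R := by
    have hover : q.comap (algebraMap (Localization.Away f) S) =
        (IsLocalRing.maximalIdeal R).map (algebraMap R (Localization.Away f)) := hlies.over.symm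
    rw [IsScalarTower.algebraMap_eq R (Localization.Away f) S, ← Ideal.comap_comap,
      hover, hcomap]
  haveI : Module.Flat R S := Module.Flat.trans R (Localization.Away f) S
  haveI : Module.Flat R (Localization.AtPrime q) := Module.Flat.trans R S (Localization.AtPrime q)
  haveI : IsLocalHom (algebraMap R (Localization.AtPrime q)) := by
    constructor
    intro a ha
    by_contra hna
    have h1 : a ∈ IsLocalRing.maximalIdeal R := (IsLocalRing.mem_maximalIdeal a).mpr hna
    rw [← hqR, Ideal.mem_comap] at h1
    have h2 : algebraMap S (Localization.AtPrime q) (algebraMap R S a) ∈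
        IsLocalRing.maximalIdeal (Localization.AtPrime q) :=
      (IsLocalization.AtPrime.to_map_mem_maximal_iff (Localization.AtPrime q) q _).mpr h1
    rw [← IsScalarTower.algebraMap_apply] at h2
    exact (IsLocalRing.mem_maximalIdeal _).mp h2 ha
  exact ⟨Localization.AtPrime q, inferInstance, inferInstance, inferInstance,
    Module.FaithfullyFlat.of_flat_of_isLocalHom,
    BCB.isDiag_baseChange_of_tower R A S (Localization.AtPrime q) hD⟩

end LocalDiag

section Noeth

variable {R : Type u} [CommRing R] [IsLocalRing R] {A : Type u} [CommRing A] [HopfAlgebra R A]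
  {C : Type u} [CommRing C] [HopfAlgebra R C]

open Groth.Agent.R2.H23.TorsHopf in
/-- Over a Noetherian local ring, a homomorphism from a group of multiplicative type and of finite
type which is trivial on the closed fibre is trivial. -/
theorem trivial_of_noetherian [IsNoetherianRing R] (hft : Algebra.FiniteType R A)
    (hH : IsMultType R A) (φ : C →ₐc[R] A)
    (hs : ∀ c : C, φ c - algebraMap R A (counit (R := R) c) ∈
      (IsLocalRing.maximalIdeal R) • (⊤ : Submodule R A)) :
    ∀ c : C, φ c = algebraMap R A (counit (R := R) c) := by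
  have hP := noPrimMod_of_isMultType R A hH
  haveI := isCocomm_of_isMultType hH
  intro c
  rw [← sub_eq_zero]
  apply eq_zero_of_forall_mem_torsionIdeal hft hH
  intro n hn
  haveI hfin : Module.Finite R (A ⧸ torsionIdeal R A n) :=
    (Groth.Agent.Lib.Helper25.TorsQuot.torsion_quotient hft hH n hn _ rfl).2
  have hkrull := Ideal.iInf_pow_smul_eq_bot_of_isLocalRing (R := R)
    (M := A ⧸ torsionIdeal R A n) (I := IsLocalRing.maximalIdeal R)
    (IsLocalRing.maximalIdeal.isMaximal R).ne_top
  have hmem : (Ideal.Quotient.mkₐ R (torsionIdeal R A n)).toLinearMap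
      (φ c - algebraMap R A (counit (R := R) c)) ∈
      (⨅ i : ℕ, (IsLocalRing.maximalIdeal R) ^ i • ⊤ :
        Submodule R (A ⧸ torsionIdeal R A n)) := by
    rw [Submodule.mem_iInf]
    intro i
    cases i with
    | zero =>
      rw [pow_zero, Ideal.one_eq_top, Submodule.top_smul]
      exact Submodule.mem_top
    | succ i =>
      exact map_mem_smul_top _ _ (delta_mem_pow hP _ φ hs i c)
  rw [hkrull, Submodule.mem_bot] at hmem
  exact Ideal.Quotient.eq_zero_iff_mem.mp hmem

end Noeth

section Coeff

variable {T : Type u} [CommRing T] {M : Type v} [CommGroup M]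

theorem mem_smul_top_of_coeff_mem (K : Ideal T) (x : MonoidAlgebra T M)
    (h : ∀ m, x.coeff m ∈ K) : x ∈ K • (⊤ : Submodule T (MonoidAlgebra T M)) := by
  classical
  have hsum : x = ∑ m ∈ x.coeff.support, x.coeff m • MonoidAlgebra.single m (1 : T) := by
    conv_lhs => rw [← MonoidAlgebra.sum_coeff_single x]
    rw [Finsupp.sum]
    refine Finset.sum_congr rfl (fun m _ => ?_)
    rw [MonoidAlgebra.smul_single, smul_eq_mul, mul_one]
  rw [hsum]
  exact Submodule.sum_mem _ (fun m _ => Submodule.smul_mem_smul (h m) Submodule.mem_top)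

theorem coeff_mem_of_mem_smul_top (K : Ideal T) (x : MonoidAlgebra T M)
    (h : x ∈ K • (⊤ : Submodule T (MonoidAlgebra T M))) (m : M) : x.coeff m ∈ K := by
  have := functional_mem_of_mem_smul_top
    (Finsupp.lapply m ∘ₗ (MonoidAlgebra.coeffLinearEquiv T).toLinearMap) K h
  exact this

end Coeff

section FiniteType

variable {R : Type u} [CommRing R] [IsLocalRing R] {A : Type u} [CommRing A] [HopfAlgebra R A]
  {C : Type u} [CommRing C] [HopfAlgebra R C]

/-- Over a local ring, a homomorphism from a group of multiplicative type to an affine group of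
finite type which is trivial on the closed fibre is trivial. -/
theorem trivial_of_finiteType (hH : IsMultType R A) (hC : Algebra.FiniteType R C)
    (φ : C →ₐc[R] A)
    (hs : ∀ c : C, φ c - algebraMap R A (counit (R := R) c) ∈
      (IsLocalRing.maximalIdeal R) • (⊤ : Submodule R A)) :
    ∀ c : C, φ c = algebraMap R A (counit (R := R) c) := by
  classical
  obtain ⟨T, _, _, _, hff, M, _, ⟨e⟩⟩ := exists_local_isDiag hH
  haveI := hff
  -- base change of `φ`
  let φT : T ⊗[R] C →ₐc[T] T ⊗[R] A := Bialgebra.TensorProduct.map (BialgHom.id T T) φ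
  let ψ : T ⊗[R] C →ₐc[T] MonoidAlgebra T M :=
    (e : T ⊗[R] A →ₐc[T] MonoidAlgebra T M).comp φT
  have hψ1 : ∀ c : C, ψ ((1 : T) ⊗ₜ[R] c) = e ((1 : T) ⊗ₜ[R] φ c) := fun c => rfl
  -- the deviation from the trivial map on elements `1 ⊗ c`
  have hδ1 : ∀ c : C, ψ ((1 : T) ⊗ₜ[R] c) -
      algebraMap T (MonoidAlgebra T M) (counit (R := T) ((1 : T) ⊗ₜ[R] c)) =
      e ((1 : T) ⊗ₜ[R] (φ c - algebraMap R A (counit (R := R) c))) := by
    intro c
    rw [hψ1, TensorProduct.tmul_sub, map_sub]
    congr 1
    have hc1 : counit (R := T) ((1 : T) ⊗ₜ[R] c) = algebraMap R T (counit (R := R) c) := by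
      rw [TensorProduct.counit_tmul, CommSemiring.counit_apply, Algebra.algebraMap_eq_smul_one]
    have h2 : (1 : T) ⊗ₜ[R] algebraMap R A (counit (R := R) c) =
        algebraMap T (T ⊗[R] A) (algebraMap R T (counit (R := R) c)) := by
      rw [Algebra.TensorProduct.algebraMap_apply, Algebra.algebraMap_self, RingHom.id_apply,
        Algebra.algebraMap_eq_smul_one (counit (R := R) c),
        Algebra.algebraMap_eq_smul_one (counit (R := R) c), TensorProduct.tmul_smul,
        TensorProduct.smul_tmul']
    rw [hc1, h2]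
    exact (AlgHomClass.commutes e (algebraMap R T (counit (R := R) c))).symm
  obtain ⟨t, ht⟩ := hC.out
  -- the ideal of coefficients
  let F : Finset T := t.biUnion (fun c =>
    (ψ ((1 : T) ⊗ₜ[R] c) - algebraMap T (MonoidAlgebra T M)
      (counit (R := T) ((1 : T) ⊗ₜ[R] c))).coeff.support.image
    (ψ ((1 : T) ⊗ₜ[R] c) - algebraMap T (MonoidAlgebra T M)
      (counit (R := T) ((1 : T) ⊗ₜ[R] c))).coeff)
  let I : Ideal T := Ideal.span (F : Set T)
  have hIfg : I.FG := ⟨F, rfl⟩
  have hcoeffI : ∀ c ∈ t, ∀ m : M, (ψ ((1 : T) ⊗ₜ[R] c) - algebraMap T (MonoidAlgebra T M)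
      (counit (R := T) ((1 : T) ⊗ₜ[R] c))).coeff m ∈ I := by
    intro c hc m
    by_cases hm : m ∈ (ψ ((1 : T) ⊗ₜ[R] c) - algebraMap T (MonoidAlgebra T M)
      (counit (R := T) ((1 : T) ⊗ₜ[R] c))).coeff.support
    · apply Ideal.subset_span
      rw [Finset.mem_coe, Finset.mem_biUnion]
      exact ⟨c, hc, Finset.mem_image_of_mem _ hm⟩
    · rw [Finsupp.notMem_support_iff] at hm
      rw [hm]
      exact I.zero_mem
  -- `I` lies in the maximal ideal
  have hImax : I ≤ IsLocalRing.maximalIdeal T := by
    rw [Ideal.span_le]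
    intro x hx
    rw [Finset.mem_coe, Finset.mem_biUnion] at hx
    obtain ⟨c, hc, hx⟩ := hx
    rw [Finset.mem_image] at hx
    obtain ⟨m, -, rfl⟩ := hx
    rw [hδ1]
    -- an `R`-linear functional
    let L : A →ₗ[R] T :=
      ((Finsupp.lapply m ∘ₗ (MonoidAlgebra.coeffLinearEquiv T).toLinearMap ∘ₗ
        (e : T ⊗[R] A →ₗ[T] MonoidAlgebra T M)).restrictScalars R) ∘ₗ
        (TensorProduct.mk R T A 1)
    have h1 : L (φ c - algebraMap R A (counit (R := R) c)) ∈
        (IsLocalRing.maximalIdeal R) • (⊤ : Submodule R T) :=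
      map_mem_smul_top L _ (hs c)
    have h2 : ((IsLocalRing.maximalIdeal R) • (⊤ : Submodule R T)) ≤
        (IsLocalRing.maximalIdeal T).restrictScalars R := by
      rw [Ideal.smul_top_eq_map]
      intro y hy
      have hloc : IsLocalHom (algebraMap R T) := inferInstance
      have hle : (IsLocalRing.maximalIdeal R).map (algebraMap R T) ≤ IsLocalRing.maximalIdeal T :=
        ((IsLocalRing.local_hom_TFAE (algebraMap R T)).out 0 2).mp hloc
      exact hle hy
    exact h2 h1
  -- triviality modulo `I`
  have hmodI : ∀ z : T ⊗[R] C, ψ z - algebraMap T (MonoidAlgebra T M) (counit (R := T) z) ∈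
      I • (⊤ : Submodule T (MonoidAlgebra T M)) := by
    set J : Ideal (MonoidAlgebra T M) := I.map (algebraMap T (MonoidAlgebra T M)) with hJ
    let f₁ : T ⊗[R] C →ₐ[T] (MonoidAlgebra T M ⧸ J) :=
      (Ideal.Quotient.mkₐ T J).comp (ψ : T ⊗[R] C →ₐ[T] MonoidAlgebra T M)
    let f₂ : T ⊗[R] C →ₐ[T] (MonoidAlgebra T M ⧸ J) :=
      (Ideal.Quotient.mkₐ T J).comp ((Algebra.ofId T (MonoidAlgebra T M)).comp
        (Bialgebra.counitAlgHom T (T ⊗[R] C)))
    have hf : f₁ = f₂ := by
      apply Algebra.TensorProduct.ext
      · apply AlgHom.ext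
        intro x
        simp only [AlgHom.comp_apply, Algebra.TensorProduct.includeLeft_apply]
        have : x ⊗ₜ[R] (1 : C) = algebraMap T (T ⊗[R] C) x := rfl
        rw [this, AlgHom.commutes, AlgHom.commutes]
      · apply AlgHom.ext_of_adjoin_eq_top ht
        intro c hc
        simp only [AlgHom.comp_apply, AlgHom.restrictScalars_apply,
          Algebra.TensorProduct.includeRight_apply]
        change Ideal.Quotient.mk J (ψ ((1 : T) ⊗ₜ[R] c)) =
          Ideal.Quotient.mk J (algebraMap T (MonoidAlgebra T M)
            (counit (R := T) ((1 : T) ⊗ₜ[R] c)))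
        rw [Ideal.Quotient.eq]
        have h1 := mem_smul_top_of_coeff_mem I _ (hcoeffI c hc)
        rw [Ideal.smul_top_eq_map] at h1
        exact h1
    intro z
    have h1 := AlgHom.congr_fun hf z
    change Ideal.Quotient.mk J (ψ z) = Ideal.Quotient.mk J (algebraMap T (MonoidAlgebra T M)
      (counit (R := T) z)) at h1
    rw [Ideal.Quotient.eq] at h1
    rw [Ideal.smul_top_eq_map]
    exact h1
  -- doubling
  have hmodII := delta_mem_mul (noPrimMod_monoidAlgebra T M) I ψ hmodI
  have hII : I ≤ I • I := by
    rw [Ideal.span_le]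
    intro x hx
    rw [Finset.mem_coe, Finset.mem_biUnion] at hx
    obtain ⟨c, hc, hx⟩ := hx
    rw [Finset.mem_image] at hx
    obtain ⟨m, -, rfl⟩ := hx
    exact coeff_mem_of_mem_smul_top (I * I) _ (hmodII _) m
  have hI0 : I = ⊥ := Submodule.eq_bot_of_le_smul_of_le_jacobson_bot I I hIfg hII
    (hImax.trans (IsLocalRing.maximalIdeal_le_jacobson _))
  intro c
  rw [← sub_eq_zero]
  apply Module.FaithfullyFlat.tensorProduct_mk_injective (A := R) (B := T) A
  rw [map_zero]
  change (1 : T) ⊗ₜ[R] (φ c - algebraMap R A (counit (R := R) c)) = 0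
  have h1 := hmodI ((1 : T) ⊗ₜ[R] c)
  rw [hI0, Submodule.bot_smul, Submodule.mem_bot, hδ1] at h1
  exact e.injective (h1.trans (map_zero e).symm)

end FiniteType

end Groth.Agent.R2.H23.LocalRigid
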