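import Mathlib
import Groth.Prelude.Def_SGA3b
import Groth.Agent.Lib.Helper25TrigUnip
import Groth.Agent.R2.H23LocalRigid

/-!
# H23ClosedSub (helper23, round 2): closed subgroups of groups of multiplicative type over a
local base with trivial closed fibre

`B` is a quotient Hopf algebra of `A` (surjective bialgebra map `π : A → B`), finitely presented
over the local ring `R`, `A` of multiplicative type and of finite type. If the closed fibre of `B`
is trivial then `B` is trivial (`trivial_of_isMultType`).
-/

set_option autoImplicit false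
set_option linter.style.haveILetI false
universe u v w

namespace Groth.Agent.R2.H23.ClosedSub

open TensorProduct Coalgebra SGA3b
open Groth.Agent.Lib.Helper25 Groth.Agent.R2.H23.TorsHopf Groth.Agent.R2.H23.LocalRigid

section Aug

variable {R : Type u} [CommRing R] {P : Type v} [CommRing P] [Algebra R P]

/-- The projection `p ↦ p - ε(p)·1` onto the augmentation ideal of an augmented algebra. -/
noncomputable def augP (ε : P →ₐ[R] R) : P →ₗ[R] P :=
  LinearMap.id - Algebra.linearMap R P ∘ₗ ε.toLinearMap

variable (ε : P →ₐ[R] R)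

theorem augP_apply (p : P) : augP ε p = p - algebraMap R P (ε p) := rfl

theorem eps_augP (p : P) : ε (augP ε p) = 0 := by
  rw [augP_apply, map_sub, AlgHom.commutes, Algebra.algebraMap_self, RingHom.id_apply, sub_self]

theorem augP_augP (p : P) : augP ε (augP ε p) = augP ε p := by
  rw [augP_apply ε (augP ε p), eps_augP, map_zero, sub_zero]

theorem augP_eq_self {p : P} (h : ε p = 0) : augP ε p = p := by
  rw [augP_apply, h, map_zero, sub_zero]

theorem augP_mem_ker (p : P) : augP ε p ∈ RingHom.ker ε := by
  rw [RingHom.mem_ker]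
  exact eps_augP ε p

theorem augP_one : augP ε 1 = 0 := by
  rw [augP_apply, map_one, map_one, sub_self]

/-- If the augmentation ideal is contained in `K P`, it is contained in `K •` itself. -/
theorem augP_mem_smul_range (K : Ideal R)
    (h : ∀ p : P, augP ε p ∈ K • (⊤ : Submodule R P)) (p : P) :
    augP ε p ∈ K • LinearMap.range (augP ε) := by
  have h1 := h p
  have h2 : (K • (⊤ : Submodule R P)).map (augP ε) ≤ K • LinearMap.range (augP ε) := by
    rw [Submodule.map_smul'', Submodule.map_top]
  have h3 := h2 ⟨_, h1, rfl⟩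
  rwa [augP_augP] at h3

/-- Nakayama: a finite augmented algebra over a local ring with trivial closed fibre is trivial. -/
theorem augP_eq_zero_of_finite [IsLocalRing R] [Module.Finite R P]
    (h : ∀ p : P, augP ε p ∈ (IsLocalRing.maximalIdeal R) • (⊤ : Submodule R P)) (p : P) :
    augP ε p = 0 := by
  have hfg : (LinearMap.range (augP ε)).FG := by
    rw [LinearMap.range_eq_map]
    exact Submodule.FG.map _ Module.Finite.fg_top
  have hle : LinearMap.range (augP ε) ≤
      (IsLocalRing.maximalIdeal R) • LinearMap.range (augP ε) := by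
    rintro _ ⟨q, rfl⟩
    exact augP_mem_smul_range ε _ h q
  have hbot := Submodule.eq_bot_of_le_smul_of_le_jacobson_bot _ _ hfg hle
    (IsLocalRing.maximalIdeal_le_jacobson ⊥)
  have : augP ε p ∈ LinearMap.range (augP ε) := ⟨p, rfl⟩
  rw [hbot, Submodule.mem_bot] at this
  exact this

end Aug

section FibreCrit

variable {R : Type u} [CommRing R] {B : Type u} [CommRing B] [Algebra R B]

/-- the multiplication-like map `b' ⊗ b ↦ b' * augP b` -/
noncomputable def mulAug (ε : B →ₐ[R] R) : B ⊗[R] B →ₗ[R] B :=
  LinearMap.mul' R B ∘ₗ LinearMap.lTensor B (augP ε)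

theorem mulAug_tmul (ε : B →ₐ[R] R) (b' b : B) : mulAug ε (b' ⊗ₜ[R] b) = b' * augP ε b := by
  simp [mulAug]

theorem mulAug_mem (ε : B →ₐ[R] R) (Q : Ideal B) (z : B ⊗[R] B)
    (hz : z ∈ Q.map (algebraMap B (B ⊗[R] B))) :
    mulAug ε z ∈ Q * RingHom.ker ε := by
  have key : ∀ z ∈ Q.map (algebraMap B (B ⊗[R] B)), ∀ w : B ⊗[R] B,
      mulAug ε (w * z) ∈ Q * RingHom.ker ε := by
    intro z hz
    unfold Ideal.map at hz
    induction hz using Submodule.span_induction with
    | mem z hz =>
      obtain ⟨q, hq, rfl⟩ := hz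
      intro w
      induction w using TensorProduct.induction_on with
      | zero => simp
      | tmul b' b =>
        rw [Algebra.TensorProduct.algebraMap_apply, Algebra.TensorProduct.tmul_mul_tmul,
          mulAug_tmul, mul_one, Algebra.algebraMap_self, RingHom.id_apply, mul_comm b' q,
          mul_assoc]
        exact Ideal.mul_mem_mul hq (Ideal.mul_mem_left _ _ (augP_mem_ker ε b))
      | add x y hx hy =>
        rw [add_mul, map_add]
        exact Ideal.add_mem _ hx hy
    | zero =>
      intro w
      simp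
    | add x y _ _ hx hy =>
      intro w
      rw [mul_add, map_add]
      exact Ideal.add_mem _ (hx w) (hy w)
    | smul a x _ hx =>
      intro w
      rw [smul_eq_mul, ← mul_assoc]
      exact hx (w * a)
  have := key z hz 1
  rwa [one_mul] at this

/-- A finitely presented augmented algebra all of whose fibres (at the residue fields of its own
maximal ideals) are trivial is trivial. -/
theorem ker_eq_bot_of_fibres (ε : B →ₐ[R] R) [Algebra.FinitePresentation R B]
    (h : ∀ (Q : Ideal B) [Q.IsMaximal] (x : B), x ∈ RingHom.ker ε →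
      (1 : B ⧸ Q) ⊗ₜ[R] x = 0) :
    RingHom.ker ε = ⊥ := by
  set N : Ideal B := RingHom.ker ε with hN
  have hsurj : Function.Surjective ε := fun r => ⟨algebraMap R B r, by simp⟩
  have hfg : N.FG := Algebra.FinitePresentation.ker_fG_of_surjective ε hsurj
  have hann : Submodule.annihilator N = ⊤ := by
    by_contra hne
    obtain ⟨Q, hQmax, hQ⟩ := Ideal.exists_le_maximal _ hne
    haveI := hQmax
    have hle : N ≤ Q • N := by
      intro x hx
      have h1 := h Q x hx
      have h2 := congrArg (Algebra.TensorProduct.quotientTensorEquiv (R := R) R B B Q) h1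
      rw [map_zero] at h2
      have h3 : Algebra.TensorProduct.quotientTensorEquiv (R := R) R B B Q
          ((1 : B ⧸ Q) ⊗ₜ[R] x) = Ideal.Quotient.mk _ ((1 : B) ⊗ₜ[R] x) := rfl
      rw [h3, Ideal.Quotient.eq_zero_iff_mem] at h2
      have h4 := mulAug_mem ε Q _ h2
      rw [mulAug_tmul, one_mul, augP_eq_self ε hx] at h4
      exact h4
    obtain ⟨r, hr1, hr2⟩ :=
      Submodule.exists_sub_one_mem_and_smul_eq_zero_of_fg_of_le_smul Q N hfg hle
    have hrann : r ∈ Submodule.annihilator N := Submodule.mem_annihilator.mpr hr2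
    have hrQ : r ∈ Q := hQ hrann
    have h1 : (1 : B) ∈ Q := by
      have := Q.sub_mem hrQ hr1
      simpa using this
    exact hQmax.ne_top ((Ideal.eq_top_iff_one Q).mpr h1)
  rw [eq_bot_iff]
  intro x hx
  have h1 : (1 : B) ∈ Submodule.annihilator N := by
    rw [hann]
    exact Submodule.mem_top
  have := Submodule.mem_annihilator.mp h1 x hx
  simpa using this

end FibreCrit

section DiagQuot

variable {L : Type u} [Field L] {M : Type u} [CommGroup M] {H : Type u} [CommRing H]
  [HopfAlgebra L H]

/-- Over a field, a quotient Hopf algebra of a group algebra is diagonalisable. -/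
theorem isDiag_of_surjective_monoidAlgebra (φ : MonoidAlgebra L M →ₐc[L] H)
    (hφ : Function.Surjective φ) : IsDiag L H := by
  refine ⟨GroupLike L H, inferInstance, ⟨(BialgEquiv.ofBijective
    (MonoidAlgebra.liftGroupLikeBialgHom : MonoidAlgebra L (GroupLike L H) →ₐc[L] H)
    ⟨liftGroupLike_injective, ?_⟩).symm⟩⟩
  intro y
  obtain ⟨x, rfl⟩ := hφ y
  induction x using MonoidAlgebra.induction_linear with
  | zero => exact ⟨0, by rw [map_zero, map_zero]⟩
  | add f g hf hg =>
    obtain ⟨f', hf'⟩ := hf
    obtain ⟨g', hg'⟩ := hg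
    exact ⟨f' + g', by rw [map_add, map_add, hf', hg']⟩
  | single m r =>
    have hgl : IsGroupLikeElem L (φ (MonoidAlgebra.of L M m)) :=
      IsGroupLikeElem.map φ (MonoidAlgebra.isGroupLikeElem_of m)
    refine ⟨MonoidAlgebra.single (⟨_, hgl⟩ : GroupLike L H) r, ?_⟩
    rw [MonoidAlgebra.liftGroupLikeBialgHom_apply, MonoidAlgebra.lift_single]
    have h1 : MonoidAlgebra.single m r = r • MonoidAlgebra.of L M m := by
      rw [MonoidAlgebra.of_apply, MonoidAlgebra.smul_single, smul_eq_mul, mul_one]
    rw [h1, map_smul]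
    rfl

end DiagQuot

section MT

variable {R : Type u} [CommRing R] {A : Type u} [CommRing A] [HopfAlgebra R A]

theorem isMultType_of_isDiag (h : IsDiag R A) : IsMultType R A :=
  BCB.isMultType_of_isMultTypeConst R A
    ⟨R, inferInstance, inferInstance, Module.FaithfullyFlat.self R, BCB.isDiag_baseChange R h⟩

end MT

section CocommQuot

variable {R : Type u} [CommRing R] {A : Type v} [CommRing A] [Bialgebra R A]
  {B : Type w} [CommRing B] [Bialgebra R B]

theorem isCocomm_of_surjective [IsCocomm R A] (π : A →ₐc[R] B) (hπ : Function.Surjective π) :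
    IsCocomm R B := by
  constructor
  apply LinearMap.ext
  intro b
  obtain ⟨a, rfl⟩ := hπ b
  rw [LinearMap.comp_apply, LinearEquiv.coe_coe]
  have h1 : comul (R := R) (π a) =
      TensorProduct.map (π : A →ₗ[R] B) (π : A →ₗ[R] B) (comul (R := R) a) :=
    (CoalgHomClass.map_comp_comul_apply π a).symm
  rw [h1]
  have h2 : ∀ z : A ⊗[R] A, TensorProduct.comm R B B
      (TensorProduct.map (π : A →ₗ[R] B) (π : A →ₗ[R] B) z) =
      TensorProduct.map (π : A →ₗ[R] B) (π : A →ₗ[R] B) (TensorProduct.comm R A A z) := by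
    intro z
    induction z using TensorProduct.induction_on with
    | zero => simp
    | add x y hx hy => simp only [map_add, hx, hy]
    | tmul x y => simp
  rw [h2, Coalgebra.comm_comul]

end CocommQuot

section Main

variable {R : Type u} [CommRing R] {A : Type u} [CommRing A] [HopfAlgebra R A]
  {B : Type u} [CommRing B] [HopfAlgebra R B]

/-- base change of a surjective bialgebra map is surjective -/
theorem baseChange_surjective (T : Type u) [CommRing T] [Algebra R T] (π : A →ₐc[R] B)
    (hπ : Function.Surjective π) :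
    Function.Surjective
      (Bialgebra.TensorProduct.map (BialgHom.id T T) π : T ⊗[R] A →ₐc[T] T ⊗[R] B) := by
  intro y
  induction y using TensorProduct.induction_on with
  | zero => exact ⟨0, map_zero _⟩
  | tmul c b =>
    obtain ⟨a, rfl⟩ := hπ b
    exact ⟨c ⊗ₜ[R] a, rfl⟩
  | add x y hx hy =>
    obtain ⟨x', rfl⟩ := hx
    obtain ⟨y', rfl⟩ := hy
    exact ⟨x' + y', map_add _ _ _⟩

/-- Step A: the torsion subgroups of `B` are trivial. -/
theorem augP_mem_torsionIdeal [IsLocalRing R] (hft : Algebra.FiniteType R A)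
    (hH : IsMultType R A) (π : A →ₐc[R] B) (hπ : Function.Surjective π)
    (hs : ∀ b : B, augP (Bialgebra.counitAlgHom R B) b ∈
      (IsLocalRing.maximalIdeal R) • (⊤ : Submodule R B))
    (n : ℕ) (hn : 0 < n) (b : B) :
    augP (Bialgebra.counitAlgHom R B) b ∈ torsionIdeal R B n := by
  haveI := isCocomm_of_isMultType hH
  haveI : IsCocomm R B := isCocomm_of_surjective π hπ
  set T := torsionIdeal R B n with hT
  haveI hfinA : Module.Finite R (A ⧸ torsionIdeal R A n) :=
    (Groth.Agent.Lib.Helper25.TorsQuot.torsion_quotient hft hH n hn _ rfl).2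
  let f : A →ₐ[R] B ⧸ T := (Ideal.Quotient.mkₐ R T).comp (π : A →ₐ[R] B)
  have hf : ∀ a ∈ torsionIdeal R A n, f a = 0 := by
    intro a ha
    exact Ideal.Quotient.eq_zero_iff_mem.mpr (Tors.map_mem_torsionIdeal π n ha)
  let f' : A ⧸ torsionIdeal R A n →ₐ[R] B ⧸ T := Ideal.Quotient.liftₐ _ f hf
  have hf' : Function.Surjective f' := by
    intro y
    obtain ⟨b, rfl⟩ := Ideal.Quotient.mk_surjective y
    obtain ⟨a, rfl⟩ := hπ b
    exact ⟨Ideal.Quotient.mk _ a, rfl⟩
  haveI : Module.Finite R (B ⧸ T) := Module.Finite.of_surjective f'.toLinearMap hf'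
  let ε' : B ⧸ T →ₐ[R] R := Ideal.Quotient.liftₐ T (Bialgebra.counitAlgHom R B)
    (fun t ht => torsionIdeal_le_ker_counit n ht)
  have hmk : ∀ b : B, augP ε' (Ideal.Quotient.mk T b) =
      Ideal.Quotient.mk T (augP (Bialgebra.counitAlgHom R B) b) := by
    intro b
    rw [augP_apply, augP_apply, map_sub]
    rfl
  have h0 := augP_eq_zero_of_finite ε' (by
    intro p
    obtain ⟨b, rfl⟩ := Ideal.Quotient.mk_surjective p
    rw [hmk]
    exact map_mem_smul_top (Ideal.Quotient.mkₐ R T).toLinearMap _ (hs b)) (Ideal.Quotient.mk T b)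
  rw [hmk] at h0
  exact Ideal.Quotient.eq_zero_iff_mem.mp h0

/-- Step B: the fibres of `B` at all fields are trivial. -/
theorem one_tmul_augP_eq_zero (hD : IsDiag R A) (π : A →ₐc[R] B) (hπ : Function.Surjective π)
    [hftB : Algebra.FiniteType R B]
    (htors : ∀ n : ℕ, 0 < n → ∀ b : B,
      augP (Bialgebra.counitAlgHom R B) b ∈ torsionIdeal R B n)
    (L : Type u) [Field L] [Algebra R L] (b : B) :
    (1 : L) ⊗ₜ[R] augP (Bialgebra.counitAlgHom R B) b = 0 := by
  obtain ⟨M, _, ⟨e⟩⟩ := BCB.isDiag_baseChange L hD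
  let πL : L ⊗[R] A →ₐc[L] L ⊗[R] B := Bialgebra.TensorProduct.map (BialgHom.id L L) π
  have hπL : Function.Surjective πL := baseChange_surjective L π hπ
  let ψ : MonoidAlgebra L M →ₐc[L] L ⊗[R] B :=
    πL.comp (e.symm : MonoidAlgebra L M →ₐc[L] L ⊗[R] A)
  have hψ : Function.Surjective ψ := hπL.comp e.symm.surjective
  have hDB : IsDiag L (L ⊗[R] B) := isDiag_of_surjective_monoidAlgebra ψ hψ
  have hft : Algebra.FiniteType L (L ⊗[R] B) := inferInstance
  apply eq_zero_of_forall_mem_torsionIdeal hft (isMultType_of_isDiag hDB)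
  intro n hn
  exact Tors.one_tmul_mem_torsionIdeal L n (htors n hn b)

/-- Part I: the diagonalisable case. -/
theorem trivial_of_isDiag [IsLocalRing R] (hft : Algebra.FiniteType R A) (hD : IsDiag R A)
    (π : A →ₐc[R] B) (hπ : Function.Surjective π) [Algebra.FinitePresentation R B]
    (hs : ∀ b : B, augP (Bialgebra.counitAlgHom R B) b ∈
      (IsLocalRing.maximalIdeal R) • (⊤ : Submodule R B)) :
    RingHom.ker (Bialgebra.counitAlgHom R B) = ⊥ := by
  have htors := augP_mem_torsionIdeal hft (isMultType_of_isDiag hD) π hπ hs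
  apply ker_eq_bot_of_fibres
  intro Q hQ x hx
  letI : Field (B ⧸ Q) := Ideal.Quotient.field Q
  have := one_tmul_augP_eq_zero hD π hπ htors (B ⧸ Q) x
  rwa [augP_eq_self _ hx] at this

end Main

section Descent

variable {R : Type u} [CommRing R] [IsLocalRing R] {A : Type u} [CommRing A] [HopfAlgebra R A]
  {B : Type u} [CommRing B] [HopfAlgebra R B]

theorem tmul_mem_maximalIdeal_smul_top (T : Type u) [CommRing T] [IsLocalRing T] [Algebra R T]
    [IsLocalHom (algebraMap R T)] (t : T) {z : B}
    (hz : z ∈ (IsLocalRing.maximalIdeal R) • (⊤ : Submodule R B)) :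
    t ⊗ₜ[R] z ∈ (IsLocalRing.maximalIdeal T) • (⊤ : Submodule T (T ⊗[R] B)) := by
  refine Submodule.smul_induction_on hz ?_ ?_
  · intro r hr n _
    rw [TensorProduct.tmul_smul, ← algebraMap_smul T r]
    exact Submodule.smul_mem_smul (map_nonunit (algebraMap R T) r hr) Submodule.mem_top
  · intro x y hx hy
    rw [TensorProduct.tmul_add]
    exact Submodule.add_mem _ hx hy

omit [IsLocalRing R] in
theorem augP_tmul (T : Type u) [CommRing T] [Algebra R T] (t : T) (b : B) :
    augP (Bialgebra.counitAlgHom T (T ⊗[R] B)) (t ⊗ₜ[R] b) =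
      t ⊗ₜ[R] augP (Bialgebra.counitAlgHom R B) b := by
  rw [augP_apply, augP_apply, TensorProduct.tmul_sub]
  congr 1
  change algebraMap T (T ⊗[R] B) (counit (R := T) (t ⊗ₜ[R] b)) = _
  rw [TensorProduct.counit_tmul, CommSemiring.counit_apply,
    Algebra.TensorProduct.algebraMap_apply, Algebra.algebraMap_self, RingHom.id_apply]
  change (counit (R := R) b • t) ⊗ₜ[R] (1 : B) = t ⊗ₜ[R] algebraMap R B (counit (R := R) b)
  rw [Algebra.algebraMap_eq_smul_one, TensorProduct.tmul_smul, TensorProduct.smul_tmul']

/-- Part II: a closed subgroup of a group of multiplicative type and of finite type over a local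
ring, of finite presentation and with trivial closed fibre, is trivial. -/
theorem trivial_of_isMultType (hft : Algebra.FiniteType R A) (hH : IsMultType R A)
    (π : A →ₐc[R] B) (hπ : Function.Surjective π) [Algebra.FinitePresentation R B]
    (hs : ∀ b : B, augP (Bialgebra.counitAlgHom R B) b ∈
      (IsLocalRing.maximalIdeal R) • (⊤ : Submodule R B)) :
    RingHom.ker (Bialgebra.counitAlgHom R B) = ⊥ := by
  obtain ⟨T, _, _, _, hff, hD⟩ := exists_local_isDiag hH
  haveI := hff
  haveI : IsLocalHom (algebraMap R T) := Module.FaithfullyFlat.isLocalHom R T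
  haveI := hft
  let πT : T ⊗[R] A →ₐc[T] T ⊗[R] B := Bialgebra.TensorProduct.map (BialgHom.id T T) π
  have hπT : Function.Surjective πT := baseChange_surjective T π hπ
  have hsT : ∀ y : T ⊗[R] B, augP (Bialgebra.counitAlgHom T (T ⊗[R] B)) y ∈
      (IsLocalRing.maximalIdeal T) • (⊤ : Submodule T (T ⊗[R] B)) := by
    intro y
    induction y using TensorProduct.induction_on with
    | zero =>
      rw [map_zero]
      exact Submodule.zero_mem _
    | add x y hx hy =>
      rw [map_add]
      exact Submodule.add_mem _ hx hy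
    | tmul t b =>
      rw [augP_tmul]
      exact tmul_mem_maximalIdeal_smul_top T t (hs b)
  have hftT : Algebra.FiniteType T (T ⊗[R] A) := inferInstance
  have hker := trivial_of_isDiag hftT hD πT hπT hsT
  rw [eq_bot_iff]
  intro x hx
  rw [Ideal.mem_bot]
  apply Module.FaithfullyFlat.tensorProduct_mk_injective (A := R) (B := T) B
  rw [map_zero]
  change (1 : T) ⊗ₜ[R] x = 0
  have h1 : (1 : T) ⊗ₜ[R] x ∈ RingHom.ker (Bialgebra.counitAlgHom T (T ⊗[R] B)) := by
    have h2 := augP_mem_ker (Bialgebra.counitAlgHom T (T ⊗[R] B)) ((1 : T) ⊗ₜ[R] x)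
    rwa [augP_tmul, augP_eq_self _ hx] at h2
  rw [hker] at h1
  exact h1

end Descent

end Groth.Agent.R2.H23.ClosedSub
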