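import Mathlib
import Groth.Prelude.Def_EssEt
import Groth.Agent.Lib.Helper3HenselL
import Groth.Agent.Lib.Helper3HenselLF
import Groth.Agent.Lib.Helper3HenselM
import Groth.Agent.S0505

/-!
# Essentially étale local algebras over a complete local ring with a henselian coefficient ring
(helper23)

Namespace `Groth.Agent.R2.H23.EssEtComplete`.
-/

set_option autoImplicit false
universe u
open Polynomial IsLocalRing TensorProduct

namespace Groth.Agent.R2.H23.EssEtComplete

open Groth.Agent.Lib.Helper3.Hensel

/-- a complete local ring is henselian. -/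
lemma henselianLocalRing_of_isAdicComplete (A : Type*) [CommRing A] [IsLocalRing A]
    [IsAdicComplete (maximalIdeal A) A] : HenselianLocalRing A where
  is_henselian f hf a₀ h₁ h₂ :=
    HenselianRing.is_henselian (I := maximalIdeal A) f hf a₀ h₁ (h₂.map _)

/-- `A[X]/(f)` is local when `A` is local, `f` monic with irreducible reduction. -/
lemma isLocalRing_adjoinRoot {A : Type*} [CommRing A] [IsLocalRing A] (f : A[X]) (hf : f.Monic)
    (hirr : Irreducible (f.map (residue A))) : IsLocalRing (AdjoinRoot f) := by
  have : Module.Finite A (AdjoinRoot f) := hf.finite_adjoinRoot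
  have : Algebra.IsIntegral A (AdjoinRoot f) := Algebra.IsIntegral.of_finite A _
  set I : Ideal (AdjoinRoot f) := (maximalIdeal A).map (AdjoinRoot.of f) with hI
  have hspan : (Ideal.span ({f.map (residue A)} : Set (ResidueField A)[X])).IsMaximal :=
    PrincipalIdealRing.isMaximal_of_irreducible hirr
  have hfield' : IsField ((ResidueField A)[X] ⧸
      (Ideal.span ({f.map (residue A)} : Set (ResidueField A)[X]))) :=
    (Ideal.Quotient.maximal_ideal_iff_isField_quotient _).1 hspan
  have hfield : IsField (AdjoinRoot f ⧸ I) :=
    (AdjoinRoot.quotAdjoinRootEquivQuotPolynomialQuot (maximalIdeal A) f).toMulEquiv.isField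
      hfield'
  have hImax : I.IsMaximal := (Ideal.Quotient.maximal_ideal_iff_isField_quotient _).2 hfield
  refine IsLocalRing.of_unique_max_ideal ⟨I, hImax, fun M hM => ?_⟩
  have := hM
  have hc : (M.comap (algebraMap A (AdjoinRoot f))).IsMaximal :=
    Ideal.isMaximal_comap_of_isIntegral_of_isMaximal M
  have hle : I ≤ M := by
    rw [hI, Ideal.map_le_iff_le_comap]
    exact (IsLocalRing.eq_maximalIdeal hc).ge
  exact (hImax.eq_of_le hM.ne_top hle).symm

/-- an essentially étale local algebra over a noetherian henselian local ring is finite étale. -/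
lemma finite_etale_of_isEssentiallyEtale (A E : Type u) [CommRing A] [HenselianLocalRing A]
    [IsNoetherianRing A] [CommRing E] [Algebra A E] (hE : EGA4loc.IsEssentiallyEtale A E) :
    Module.Finite A E ∧ Algebra.Etale A E := by
  obtain ⟨C, _, _, q, _, hCet, hq, ⟨e0⟩⟩ := hE
  have : q.LiesOver (maximalIdeal A) := ⟨hq.symm⟩
  have : Module.Finite A (Localization.AtPrime q) := finite_localization_of_quasiFiniteAt q
  have hfin : Module.Finite A E := Module.Finite.equiv e0.symm.toLinearEquiv
  refine ⟨hfin, ?_⟩
  have : Algebra.FormallyEtale C (Localization.AtPrime q) :=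
    Algebra.FormallyEtale.of_isLocalization q.primeCompl
  have : Algebra.FormallyEtale A (Localization.AtPrime q) :=
    Algebra.FormallyEtale.comp A C (Localization.AtPrime q)
  have : Algebra.FormallyEtale A E := Algebra.FormallyEtale.of_equiv e0.symm
  have : Algebra.FinitePresentation A E := Algebra.FinitePresentation.of_finiteType.mp inferInstance
  exact ⟨inferInstance, inferInstance⟩

/-- two étale `A`-algebras which are henselian local rings and have `A`-isomorphic residue fields
are isomorphic. -/
lemma nonempty_algEquiv_of_residue {A : Type*} [CommRing A] {T E : Type*} [CommRing T] [CommRing E]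
    [HenselianLocalRing T] [HenselianLocalRing E] [Algebra A T] [Algebra A E]
    [Algebra.Etale A T] [Algebra.Etale A E] (χ : T →ₐ[A] ResidueField E)
    (hχ : Function.Surjective χ) : Nonempty (E ≃ₐ[A] T) := by
  have hker : RingHom.ker χ.toRingHom = maximalIdeal T :=
    IsLocalRing.eq_maximalIdeal (RingHom.ker_isMaximal_of_surjective χ.toRingHom hχ)
  -- the induced isomorphism of residue fields
  let ι : (T ⧸ maximalIdeal T) ≃ₐ[A] ResidueField E :=
    (Ideal.quotientEquivAlgOfEq A hker.symm).trans (Ideal.quotientKerAlgEquivOfSurjective hχ)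
  have hι : ∀ t : T, ι (Ideal.Quotient.mk (maximalIdeal T) t) = χ t := fun t => rfl
  let resE : E →ₐ[A] ResidueField E := IsScalarTower.toAlgHom A E (ResidueField E)
  let resT : T →ₐ[A] ResidueField T := IsScalarTower.toAlgHom A T (ResidueField T)
  let χ' : E →ₐ[A] ResidueField T := (ι.symm : ResidueField E →ₐ[A] (T ⧸ maximalIdeal T)).comp resE
  obtain ⟨φ, hφ, -⟩ := existsUnique_algHom_residue (R := A) (S := E) (A := T) χ
  obtain ⟨ψ, hψ, -⟩ := existsUnique_algHom_residue (R := A) (S := T) (A := E) χ'
  obtain ⟨fT, _, huT⟩ := existsUnique_algHom_residue (R := A) (S := T) (A := T) resT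
  obtain ⟨fE, _, huE⟩ := existsUnique_algHom_residue (R := A) (S := E) (A := E) resE
  have h1 : ψ.comp φ = AlgHom.id A T := by
    rw [huT (ψ.comp φ) ?_, huT (AlgHom.id A T) (fun _ => rfl)]
    intro t
    rw [AlgHom.comp_apply, hψ]
    change ι.symm (residue E (φ t)) = _
    rw [hφ, ← hι, AlgEquiv.symm_apply_apply]
    rfl
  have h2 : φ.comp ψ = AlgHom.id A E := by
    rw [huE (φ.comp ψ) ?_, huE (AlgHom.id A E) (fun _ => rfl)]
    intro e
    rw [AlgHom.comp_apply, hφ]
    have : χ (ψ e) = ι (residue T (ψ e)) := (hι _).symm
    rw [this, hψ]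
    change ι (ι.symm (residue E e)) = _
    rw [AlgEquiv.apply_symm_apply]
    rfl
  exact ⟨AlgEquiv.ofAlgHom ψ φ h1 h2⟩

set_option maxHeartbeats 1000000 in
/-- **EGA IV 18.8.x-type statement**: essentially étale local algebras over a complete noetherian
local ring come from finite étale local algebras over a henselian coefficient ring. -/
theorem main
    (R A E : Type u) [CommRing R] [HenselianLocalRing R] [IsNoetherianRing R]
    [CommRing A] [IsLocalRing A] [IsNoetherianRing A] [IsAdicComplete (maximalIdeal A) A]
    [Algebra R A] [IsLocalHom (algebraMap R A)]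
    (hres : Function.Bijective (ResidueField.map (algebraMap R A)))
    [CommRing E] [IsLocalRing E] [Algebra A E] [IsLocalHom (algebraMap A E)]
    (hE : EGA4loc.IsEssentiallyEtale A E) :
    ∃ (S : Type u) (_ : CommRing S) (_ : IsLocalRing S) (_ : Algebra R S),
      Module.Finite R S ∧ Algebra.Etale R S ∧ Nonempty (E ≃ₐ[A] A ⊗[R] S) := by
  haveI : HenselianLocalRing A := henselianLocalRing_of_isAdicComplete A
  obtain ⟨hfinE, hetE⟩ := finite_etale_of_isEssentiallyEtale A E hE
  haveI : HenselianLocalRing E := Groth.Agent.S0505.result A E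
  letI : Algebra R E := ((algebraMap A E).comp (algebraMap R A)).toAlgebra
  haveI : IsScalarTower R A E := IsScalarTower.of_algebraMap_eq (fun _ => rfl)
  haveI : IsLocalHom (algebraMap R E) := by
    show IsLocalHom ((algebraMap A E).comp (algebraMap R A)); infer_instance
  -- residue fields
  have hbij : Function.Bijective (algebraMap (ResidueField R) (ResidueField A)) := by
    have : algebraMap (ResidueField R) (ResidueField A) = ResidueField.map (algebraMap R A) := by
      ext x
      obtain ⟨x, rfl⟩ := residue_surjective x
      rfl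
    rw [this]; exact hres
  haveI : Module.Finite (ResidueField R) (ResidueField A) :=
    Module.Finite.of_surjective (Algebra.linearMap (ResidueField R) (ResidueField A)) hbij.2
  haveI : Module.Finite (ResidueField R) (ResidueField E) :=
    Module.Finite.trans (ResidueField A) (ResidueField E)
  haveI : Algebra.FormallyUnramified (ResidueField R) (ResidueField A) :=
    Algebra.FormallyUnramified.of_surjective (Algebra.ofId (ResidueField R) (ResidueField A)) hbij.2
  haveI : Algebra.FormallyUnramified A (ResidueField E) :=
    Algebra.FormallyUnramified.of_surjective (IsScalarTower.toAlgHom A E (ResidueField E))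
      residue_surjective
  haveI : Algebra.FormallyUnramified (ResidueField A) (ResidueField E) :=
    Algebra.FormallyUnramified.of_restrictScalars A (ResidueField A) (ResidueField E)
  haveI : Algebra.FormallyUnramified (ResidueField R) (ResidueField E) :=
    Algebra.FormallyUnramified.comp (ResidueField R) (ResidueField A) (ResidueField E)
  haveI : Algebra.IsSeparable (ResidueField R) (ResidueField E) :=
    Algebra.FormallyUnramified.isSeparable (ResidueField R) (ResidueField E)
  obtain ⟨α, hα⟩ := Field.exists_primitive_element (ResidueField R) (ResidueField E)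
  have hint : IsIntegral (ResidueField R) α := Algebra.IsIntegral.isIntegral α
  have hmonic := minpoly.monic hint
  have hsep : (minpoly (ResidueField R) α).Separable :=
    Algebra.IsSeparable.isSeparable (ResidueField R) α
  have hirr : Irreducible (minpoly (ResidueField R) α) := minpoly.irreducible hint
  obtain ⟨p, hpmap, -, hpmonic⟩ := lifts_and_natDegree_eq_and_monic
    ((mem_lifts (minpoly (ResidueField R) α)).mpr
      (map_surjective (residue R) residue_surjective _)) hmonic
  -- the finite étale local `R`-algebra `S`
  haveI : Algebra.Etale R (AdjoinRoot p) := etale_adjoinRoot p hpmonic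
    (isUnit_mk_derivative p hpmonic (by rw [hpmap]; exact hsep))
  haveI : IsLocalRing (AdjoinRoot p) := isLocalRing_adjoinRoot p hpmonic (by rw [hpmap]; exact hirr)
  haveI : Module.Finite R (AdjoinRoot p) := hpmonic.finite_adjoinRoot
  refine ⟨AdjoinRoot p, inferInstance, inferInstance, inferInstance, inferInstance, inferInstance, ?_⟩
  -- its base change, in the form `A[X]/(p)`
  set pA : A[X] := p.map (algebraMap R A) with hpA
  have hpAmonic : pA.Monic := hpmonic.map _
  have hpAres : pA.map (residue A) =
      (minpoly (ResidueField R) α).map (algebraMap (ResidueField R) (ResidueField A)) := by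
    rw [← hpmap, hpA, Polynomial.map_map, Polynomial.map_map]
    rfl
  have hsepA : (pA.map (residue A)).Separable := by rw [hpAres]; exact hsep.map
  have hirrA : Irreducible (pA.map (residue A)) := by
    rw [hpAres]
    let ε : ResidueField R ≃+* ResidueField A := RingEquiv.ofBijective _ hbij
    have h := (MulEquiv.irreducible_iff (f := (Polynomial.mapEquiv ε))
      (x := minpoly (ResidueField R) α)).2 hirr
    exact h
  haveI : Algebra.Etale A (AdjoinRoot pA) := etale_adjoinRoot pA hpAmonic
    (isUnit_mk_derivative pA hpAmonic hsepA)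
  haveI : IsLocalRing (AdjoinRoot pA) := isLocalRing_adjoinRoot pA hpAmonic hirrA
  haveI : Module.Finite A (AdjoinRoot pA) := hpAmonic.finite_adjoinRoot
  haveI : HenselianLocalRing (AdjoinRoot pA) := Groth.Agent.S0505.result A (AdjoinRoot pA)
  -- the map to the residue field of `E`
  have hcomp : ∀ G : R[X], (G.map (algebraMap R A)).eval₂ (algebraMap A (ResidueField E)) α =
      Polynomial.aeval α (G.map (residue R)) := by
    intro G
    rw [Polynomial.eval₂_map, Polynomial.aeval_def, Polynomial.eval₂_map]
    rfl
  have hroot : pA.eval₂ (Algebra.ofId A (ResidueField E)) α = 0 := by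
    change pA.eval₂ (algebraMap A (ResidueField E)) α = 0
    rw [hpA, hcomp, hpmap, minpoly.aeval]
  let χ : AdjoinRoot pA →ₐ[A] ResidueField E :=
    AdjoinRoot.liftAlgHom pA (Algebra.ofId A (ResidueField E)) α hroot
  have hχ : Function.Surjective χ := by
    intro y
    have hy : y ∈ (⊤ : IntermediateField (ResidueField R) (ResidueField E)) := trivial
    rw [← hα] at hy
    have hy' : y ∈ Algebra.adjoin (ResidueField R) {α} := by
      rw [← IntermediateField.adjoin_simple_toSubalgebra_of_isAlgebraic hint.isAlgebraic]
      exact hy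
    rw [Algebra.adjoin_singleton_eq_range_aeval] at hy'
    obtain ⟨g, rfl⟩ := hy'
    obtain ⟨G, rfl⟩ := map_surjective (residue R) residue_surjective g
    refine ⟨AdjoinRoot.mk pA (G.map (algebraMap R A)), ?_⟩
    change AdjoinRoot.liftAlgHom pA _ α hroot (AdjoinRoot.mk pA _) = _
    rw [AdjoinRoot.liftAlgHom_mk]  -- may need adjusting
    exact hcomp G
  obtain ⟨e⟩ := nonempty_algEquiv_of_residue χ hχ
  -- identify `A ⊗[R] R[X]/(p)` with `A[X]/(p)`
  let q : (A ⊗[R] R)[X] :=
    p.map (Algebra.TensorProduct.includeRight (R := R) (A := A) (B := R)).toRingHom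
  let e1 : A ⊗[R] AdjoinRoot p ≃ₐ[A] AdjoinRoot q :=
    AdjoinRoot.tensorAlgEquiv (R := R) (S := R) (T := A) p q rfl
  have hq : q.map (Algebra.TensorProduct.rid R A A : A ⊗[R] R →+* A) = pA := by
    rw [hpA, Polynomial.map_map]
    congr 1
    ext r
    simp only [RingHom.coe_comp, Function.comp_apply]
    change (Algebra.TensorProduct.rid R A A) ((1 : A) ⊗ₜ[R] r) = algebraMap R A r
    rw [Algebra.TensorProduct.rid_tmul, Algebra.smul_def, mul_one]
  let e2 : AdjoinRoot q ≃ₐ[A] AdjoinRoot pA :=
    AdjoinRoot.mapAlgEquiv (Algebra.TensorProduct.rid R A A) q pA (by rw [hq])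
  exact ⟨e.trans (e1.trans e2).symm⟩

end Groth.Agent.R2.H23.EssEtComplete
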