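import Mathlib

/-!
# H23EtNormal (helper23, round 2): finite étale algebras over a normal domain and integral
closures in quotient fields

For `R` an integrally closed domain with fraction field `K`, `S` a finite étale `R`-algebra and
`ψ : S → F` an `R`-algebra map to a field generated by `R` and `ψ(S)`: the integral closure of `R`
in `F` is `ψ(S)`, and it is étale over `R`.
-/

set_option autoImplicit false
set_option linter.style.haveILetI false
universe u

namespace Groth.Agent.R2.H23.EtNormal

open TensorProduct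

section Core

variable {R : Type u} [CommRing R] [IsDomain R] [IsIntegrallyClosed R]
  {K : Type u} [Field K] [Algebra R K] [IsFractionRing R K]
  {S : Type u} [CommRing S] [Algebra R S] [Algebra.Etale R S]

/-- elements of `S ⊗ integralClosure R K` are of the form `s ⊗ 1` -/
theorem exists_tmul_one (t : S ⊗[R] ↥(integralClosure R K)) :
    ∃ s : S, (Algebra.TensorProduct.map (AlgHom.id S S) (integralClosure R K).val) t =
      s ⊗ₜ[R] (1 : K) := by
  induction t using TensorProduct.induction_on with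
  | zero => exact ⟨0, by simp⟩
  | tmul s k =>
    obtain ⟨k, hk⟩ := k
    have hk' : k ∈ (⊥ : Subalgebra R K) := by
      rw [← (IsIntegrallyClosed.integralClosure_eq_bot_iff K).mpr inferInstance]
      exact hk
    obtain ⟨r, rfl⟩ := Algebra.mem_bot.mp hk'
    refine ⟨r • s, ?_⟩
    simp only [Algebra.TensorProduct.map_tmul, AlgHom.coe_id, id_eq, Subalgebra.coe_val]
    rw [Algebra.algebraMap_eq_smul_one, TensorProduct.smul_tmul]
  | add x y hx hy =>
    obtain ⟨s₁, h₁⟩ := hx
    obtain ⟨s₂, h₂⟩ := hy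
    exact ⟨s₁ + s₂, by rw [map_add, h₁, h₂, TensorProduct.add_tmul]⟩

/-- `S` is integrally closed in `K ⊗ S`. -/
theorem exists_eq_includeRight_of_isIntegral (w : K ⊗[R] S) (hw : IsIntegral R w) :
    ∃ s : S, (1 : K) ⊗ₜ[R] s = w := by
  haveI : Algebra.Smooth R S := (Algebra.Etale.iff_formallyUnramified_and_smooth.mp inferInstance).2
  let c : K ⊗[R] S ≃ₐ[R] S ⊗[R] K := Algebra.TensorProduct.comm R K S
  have h1 : IsIntegral R (c w) := hw.map c
  have h2 : IsIntegral S (c w) := h1.tower_top
  obtain ⟨t, ht⟩ := (TensorProduct.toIntegralClosure_bijective_of_smooth (R := R) (S := S)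
    (B := K)).2 ⟨c w, h2⟩
  obtain ⟨s, hs⟩ := exists_tmul_one (R := R) (K := K) (S := S) t
  refine ⟨s, ?_⟩
  have h3 : c w = s ⊗ₜ[R] (1 : K) := by
    rw [← hs]
    exact (congrArg Subtype.val ht).symm
  have h4 : c ((1 : K) ⊗ₜ[R] s) = s ⊗ₜ[R] (1 : K) := by
    simp [c]
  exact c.injective (h4.trans h3.symm)

end Core

section Semisimple

variable {T : Type u} [CommRing T]

/-- In a semisimple commutative ring every ideal is cut out by an idempotent. -/
theorem exists_idempotent [IsSemisimpleRing T] (I : Ideal T) :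
    ∃ f : T, IsIdempotentElem f ∧ 1 - f ∈ I ∧ ∀ x ∈ I, x * f = 0 := by
  obtain ⟨J, hJ⟩ := exists_isCompl (α := Submodule T T) I
  have h1 : (1 : T) ∈ (I ⊔ J : Submodule T T) := by
    rw [hJ.sup_eq_top]
    trivial
  obtain ⟨e, he, f, hf, hef⟩ := Submodule.mem_sup.mp h1
  have hzero : ∀ x ∈ I, x * f = 0 := by
    intro x hx
    have h2 : x * f ∈ (I ⊓ J : Submodule T T) :=
      ⟨Ideal.mul_mem_right f I hx, Ideal.mul_mem_left J x hf⟩
    rw [hJ.inf_eq_bot] at h2
    exact (Submodule.mem_bot T).mp h2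
  refine ⟨f, ?_, ?_, hzero⟩
  · have h3 : f = (e + f) * f := by rw [hef, one_mul]
    rw [add_mul, hzero e he, zero_add] at h3
    exact h3.symm
  · rw [← hef, add_sub_cancel_right]
    exact he

end Semisimple

section Main

variable {R : Type u} [CommRing R] [IsDomain R] [IsIntegrallyClosed R]
  (K : Type u) [Field K] [Algebra R K] [IsFractionRing R K]
  {S : Type u} [CommRing S] [Algebra R S] [Algebra.Etale R S] [Module.Finite R S]
  {F : Type u} [Field F] [Algebra R F] [Algebra K F] [IsScalarTower R K F]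
  (ψ : S →ₐ[R] F)

/-- `K ⊗ S → F` -/
noncomputable def psiT : K ⊗[R] S →ₐ[K] F :=
  Algebra.TensorProduct.productLeftAlgHom (Algebra.ofId K F) ψ

theorem psiT_tmul (k : K) (s : S) : psiT K ψ (k ⊗ₜ s) = algebraMap K F k * ψ s := by
  simp [psiT, Algebra.ofId_apply]

theorem psiT_one_tmul (s : S) : psiT K ψ ((1 : K) ⊗ₜ s) = ψ s := by
  rw [psiT_tmul, map_one, one_mul]

theorem psiT_surjective
    (hgen : Subfield.closure (Set.range (algebraMap R F) ∪ Set.range ψ) = ⊤) :
    Function.Surjective (psiT K ψ) := by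
  let E : Subalgebra K F := (psiT K ψ).range
  haveI : Module.Finite K ↥E :=
    Module.Finite.of_surjective (psiT K ψ).rangeRestrict.toLinearMap
      (AlgHom.rangeRestrict_surjective _)
  haveI : IsArtinianRing ↥E := IsArtinianRing.of_finite K ↥E
  have hfield : IsField ↥E := IsArtinianRing.isField_of_isDomain ↥E
  have hinv : ∀ x ∈ E, x⁻¹ ∈ E := by
    intro x hx
    by_cases hx0 : x = 0
    · rw [hx0, inv_zero]
      exact E.zero_mem
    · have hx0' : (⟨x, hx⟩ : ↥E) ≠ 0 := by
        intro h
        exact hx0 (congrArg Subtype.val h)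
      obtain ⟨y, hy⟩ := hfield.mul_inv_cancel hx0'
      have h1 : x * (y : F) = 1 := congrArg Subtype.val hy
      rw [← eq_inv_of_mul_eq_one_right h1]
      exact y.2
  let E' : Subfield F := { E.toSubring with inv_mem' := hinv }
  have hle : Subfield.closure (Set.range (algebraMap R F) ∪ Set.range ψ) ≤ E' := by
    rw [Subfield.closure_le]
    rintro z (⟨r, rfl⟩ | ⟨s, rfl⟩)
    · change algebraMap R F r ∈ E
      rw [IsScalarTower.algebraMap_apply R K F]
      exact E.algebraMap_mem _
    · change ψ s ∈ E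
      exact ⟨(1 : K) ⊗ₜ s, psiT_one_tmul K ψ s⟩
  rw [hgen] at hle
  intro z
  have hz : z ∈ E' := hle (Subfield.mem_top z)
  exact hz

theorem isIntegral_of_isIdempotentElem {T : Type u} [CommRing T] [Algebra R T] {f : T}
    (hf : IsIdempotentElem f) : IsIntegral R f := by
  refine ⟨Polynomial.X ^ 2 - Polynomial.X, ?_, ?_⟩
  · exact Polynomial.monic_X_pow_sub (by simp)
  · simp [pow_two, hf.eq]

include K in
theorem main (hgen : Subfield.closure (Set.range (algebraMap R F) ∪ Set.range ψ) = ⊤) :
    integralClosure R F = ψ.range ∧ Algebra.Etale R ↥(integralClosure R F) := by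
  haveI : Algebra.Smooth R S :=
    (Algebra.Etale.iff_formallyUnramified_and_smooth.mp inferInstance).2
  have hRK : Function.Injective (algebraMap R K) := IsFractionRing.injective R K
  have hι : Function.Injective
      (Algebra.TensorProduct.includeRight : S →ₐ[R] K ⊗[R] S) :=
    Algebra.TensorProduct.includeRight_injective hRK
  haveI : IsReduced (K ⊗[R] S) := Algebra.FormallyUnramified.isReduced_of_field K (K ⊗[R] S)
  haveI : IsArtinianRing (K ⊗[R] S) := IsArtinianRing.of_finite K (K ⊗[R] S)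
  haveI : IsSemisimpleRing (K ⊗[R] S) := IsArtinianRing.isSemisimpleRing_of_isReduced _
  have hsurj := psiT_surjective K ψ hgen
  obtain ⟨f, hf, h1f, hfz⟩ := exists_idempotent (RingHom.ker (psiT K ψ))
  have hψf : psiT K ψ f = 1 := by
    have h1 : psiT K ψ (1 - f) = 0 := (RingHom.mem_ker).mp h1f
    rw [map_sub, map_one, sub_eq_zero] at h1
    exact h1.symm
  -- every integral element of `F` is in the image of `ψ`
  have claim1 : ∀ z : F, IsIntegral R z → ∃ s : S, ψ s = z := by
    intro z hz
    obtain ⟨w₀, hw₀⟩ := hsurj z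
    obtain ⟨p, hpm, hpz⟩ := hz
    have hw : IsIntegral R (w₀ * f) := by
      refine ⟨Polynomial.X * p, Polynomial.monic_X.mul hpm, ?_⟩
      rw [← Polynomial.aeval_def] at hpz ⊢
      have h2 : Polynomial.aeval (w₀ * f) p ∈ RingHom.ker (psiT K ψ) := by
        rw [RingHom.mem_ker]
        have h3 := Polynomial.aeval_algHom_apply ((psiT K ψ).restrictScalars R) (w₀ * f) p
        change Polynomial.aeval (psiT K ψ (w₀ * f)) p = psiT K ψ (Polynomial.aeval (w₀ * f) p)
          at h3
        rw [← h3, map_mul, hψf, mul_one, hw₀, hpz]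
      have h4 := hfz _ h2
      rw [map_mul, Polynomial.aeval_X, mul_assoc, mul_comm f, h4, mul_zero]
    obtain ⟨s, hs⟩ := exists_eq_includeRight_of_isIntegral (R := R) (K := K) (S := S) _ hw
    refine ⟨s, ?_⟩
    rw [← psiT_one_tmul K ψ s, hs, map_mul, hψf, mul_one, hw₀]
  have hi : integralClosure R F = ψ.range := by
    ext z
    constructor
    · intro hz
      exact claim1 z hz
    · rintro ⟨s, rfl⟩
      exact (Algebra.IsIntegral.isIntegral s).map ψ
  refine ⟨hi, ?_⟩
  -- the idempotent descends to `S`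
  obtain ⟨f', hf'⟩ := exists_eq_includeRight_of_isIntegral (R := R) (K := K) (S := S) f
    (isIntegral_of_isIdempotentElem hf)
  have hf'i : IsIdempotentElem f' := by
    apply hι
    change (1 : K) ⊗ₜ[R] (f' * f') = (1 : K) ⊗ₜ[R] f'
    have : (1 : K) ⊗ₜ[R] (f' * f') = ((1 : K) ⊗ₜ[R] f') * ((1 : K) ⊗ₜ[R] f') := by
      rw [Algebra.TensorProduct.tmul_mul_tmul, one_mul]
    rw [this, hf', hf.eq]
  have hker : RingHom.ker ψ = Ideal.span {1 - f'} := by
    apply le_antisymm
    · intro s hs
      have h1 : (1 : K) ⊗ₜ[R] s ∈ RingHom.ker (psiT K ψ) := by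
        rw [RingHom.mem_ker, psiT_one_tmul]
        exact hs
      have h2 := hfz _ h1
      rw [← hf', Algebra.TensorProduct.tmul_mul_tmul, one_mul] at h2
      have h3 : s * f' = 0 := by
        apply hι
        change (1 : K) ⊗ₜ[R] (s * f') = (1 : K) ⊗ₜ[R] (0 : S)
        rw [h2, TensorProduct.tmul_zero]
      rw [Ideal.mem_span_singleton']
      exact ⟨s, by rw [mul_sub, mul_one, h3, sub_zero]⟩
    · rw [Ideal.span_singleton_le_iff_mem, RingHom.mem_ker, ← psiT_one_tmul K ψ,
        TensorProduct.tmul_sub, hf', map_sub, hψf]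
      have : psiT K ψ ((1 : K) ⊗ₜ[R] (1 : S)) = 1 := map_one _
      rw [this, sub_self]
  haveI : IsLocalization.Away f' (S ⧸ Ideal.span {1 - f'}) :=
    IsLocalization.Away.quotient_of_isIdempotentElem hf'i
  haveI : Algebra.Etale S (S ⧸ Ideal.span {1 - f'}) := Algebra.Etale.of_isLocalizationAway f'
  haveI : Algebra.Etale R (S ⧸ Ideal.span {1 - f'}) := Algebra.Etale.comp R S _
  let e1 : (S ⧸ Ideal.span {1 - f'}) ≃ₐ[R] (S ⧸ RingHom.ker ψ) :=
    Ideal.quotientEquivAlgOfEq R hker.symm
  let e2 : (S ⧸ RingHom.ker ψ) ≃ₐ[R] ψ.range := Ideal.quotientKerEquivRange ψ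
  let e3 : ψ.range ≃ₐ[R] ↥(integralClosure R F) := Subalgebra.equivOfEq _ _ hi.symm
  exact Algebra.Etale.of_equiv ((e1.trans e2).trans e3)

end Main

section Compositum

theorem compositum (A A' L L₁ : Type u) [CommRing A] [IsDomain A]
    [IsIntegrallyClosed A] [CommRing A'] [IsDomain A'] [IsIntegrallyClosed A'] [Algebra A A']
    [Field L] [Algebra A L] [Algebra.IsAlgebraic A L] (hinj : Function.Injective (algebraMap A L))
    [Algebra.Etale A ↥(integralClosure A L)]
    [Field L₁] [Algebra A' L₁] [Algebra L L₁] [Algebra A L₁] [IsScalarTower A A' L₁]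
    [IsScalarTower A L L₁]
    (hinj' : Function.Injective (algebraMap A' L₁))
    (hgen : Subfield.closure (Set.range (algebraMap A' L₁) ∪ Set.range (algebraMap L L₁)) = ⊤) :
    Algebra.Etale A' ↥(integralClosure A' L₁) ∧
      integralClosure A' L₁ =
        Algebra.adjoin A' ((algebraMap L L₁) '' {x : L | IsIntegral A x}) := by
  classical
  let C : Subalgebra A L := integralClosure A L
  haveI : Module.Finite A ↥C := Algebra.IsIntegral.finite
  let K := FractionRing A'
  letI : Algebra K L₁ := (IsFractionRing.lift hinj').toAlgebra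
  haveI : IsScalarTower A' K L₁ :=
    IsScalarTower.of_algebraMap_eq (fun x => (IsFractionRing.lift_algebraMap hinj' x).symm)
  let g : ↥C →ₐ[A] L₁ := (IsScalarTower.toAlgHom A L L₁).comp C.val
  let ψ : A' ⊗[A] ↥C →ₐ[A'] L₁ :=
    Algebra.TensorProduct.productLeftAlgHom (Algebra.ofId A' L₁) g
  have hψ : ∀ (a' : A') (c : ↥C), ψ (a' ⊗ₜ c) = algebraMap A' L₁ a' * algebraMap L L₁ (c : L) := by
    intro a' c
    simp [ψ, g, Algebra.ofId_apply]
  have hgen' : Subfield.closure (Set.range (algebraMap A' L₁) ∪ Set.range ψ) = ⊤ := by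
    rw [eq_top_iff, ← hgen, Subfield.closure_le]
    rintro z (⟨a', rfl⟩ | ⟨x, rfl⟩)
    · exact Subfield.subset_closure (Or.inl ⟨a', rfl⟩)
    · obtain ⟨a, ha0, hax⟩ := (Algebra.IsAlgebraic.isAlgebraic (R := A) x).exists_integral_multiple
      have haL : algebraMap A L a ≠ 0 := fun h => ha0 (hinj (h.trans (map_zero _).symm))
      have h1 : algebraMap L L₁ x =
          algebraMap L L₁ (a • x) * (algebraMap A' L₁ (algebraMap A A' a))⁻¹ := by
        rw [← IsScalarTower.algebraMap_apply A A' L₁, IsScalarTower.algebraMap_apply A L L₁,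
          Algebra.smul_def, map_mul]
        have h2 : algebraMap L L₁ (algebraMap A L a) ≠ 0 := by
          rw [Ne, map_eq_zero]
          exact haL
        field_simp
      rw [h1]
      apply Subfield.mul_mem
      · apply Subfield.subset_closure
        right
        exact ⟨(1 : A') ⊗ₜ (⟨a • x, hax⟩ : ↥C), by rw [hψ, map_one, one_mul]⟩
      · apply Subfield.inv_mem
        exact Subfield.subset_closure (Or.inl ⟨_, rfl⟩)
  obtain ⟨hi, het⟩ := Groth.Agent.R2.H23.EtNormal.main (R := A') K ψ hgen'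
  refine ⟨het, ?_⟩
  rw [hi]
  apply le_antisymm
  · rintro _ ⟨t, rfl⟩
    induction t using TensorProduct.induction_on with
    | zero => rw [map_zero]; exact Subalgebra.zero_mem _
    | tmul a' c =>
      change ψ (a' ⊗ₜ c) ∈ _
      rw [hψ, ← Algebra.smul_def]
      have hc : algebraMap L L₁ (c : L) ∈ (algebraMap L L₁) '' {x : L | IsIntegral A x} :=
        ⟨(c : L), c.2, rfl⟩
      exact Subalgebra.smul_mem _ (Algebra.subset_adjoin hc) a'
    | add x y hx hy =>
      change ψ (x + y) ∈ _
      rw [map_add]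
      exact Subalgebra.add_mem _ hx hy
  · rw [Algebra.adjoin_le_iff]
    rintro _ ⟨x, hx, rfl⟩
    exact ⟨(1 : A') ⊗ₜ (⟨x, hx⟩ : ↥C), by
      change ψ _ = _
      rw [hψ, map_one, one_mul]⟩

end Compositum

end Groth.Agent.R2.H23.EtNormal
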