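import Mathlib

/-!
# helper23: idempotents on fibres of proper morphisms lift (S0979), Mathlib-only part

`Sep f s`: every decomposition of the fibre `f ⁻¹' {s}` into two disjoint relatively closed pieces
`Z0`, `Z1` is cut out by a section `r` of `O_X` over a neighbourhood `f ⁻¹ V` of the fibre:
`r = 1` on `Z1`, `r = 0` on `Z0` (values in residue fields).

* `qexpr`, `qexpr_eq`: polynomial correction of a lift of an idempotent modulo nilpotents.
* `main_core`, `main_of_sep`: `Sep f s` implies the statement of S0979.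
* `Sep.of_closed`, `Sep.of_restrict`, `Sep.comp_openImmersion`: transfer lemmas.
* `top_push`, `alg_sep`, `sep_of_affine_factor`: `Sep` for `X ⟶ Spec B ⟶ Spec A` with the first map
  closed, surjective with connected fibres.
* `iInter_range_subset`, `exists_stage_fibre_subset`: cofiltered limits of closed immersions.
-/

set_option autoImplicit false
set_option linter.style.haveILetI false
universe u

open CategoryTheory CategoryTheory.Limits AlgebraicGeometry TopologicalSpace Opposite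

namespace Groth.Agent.R2.H23.FibreIdem

section Alg

variable {R : Type*} [CommRing R]

/-- the correcting expression `t^N * Σ_{k<N} (1 - t^N - (1-t)^N)^k` -/
def qexpr (N : ℕ) (t : R) : R :=
  t ^ N * ∑ k ∈ Finset.range N, (1 - t ^ N - (1 - t) ^ N) ^ k

theorem map_qexpr {R' : Type*} [CommRing R'] (φ : R →+* R') (N : ℕ) (t : R) :
    φ (qexpr N t) = qexpr N (φ t) := by
  simp [qexpr, map_sum]

/-- If `t - e` is nilpotent of order `N` and `e` is idempotent then `qexpr N t = e`. -/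
theorem qexpr_eq {e t : R} (he : IsIdempotentElem e) {N : ℕ} (hN : 0 < N)
    (hn : (t - e) ^ N = 0) : qexpr N t = e := by
  set u := t ^ N with hu
  set v := (1 - t) ^ N with hv
  have hne : N ≠ 0 := hN.ne'
  have he' : e * e = e := he
  have h1e : (1 - e) * (1 - e) = 1 - e := he.one_sub
  -- `u * (1 - e) = 0`
  have hu0 : u * (1 - e) = 0 := by
    have h1 : (1 - e) ^ N = 1 - e := he.one_sub.pow_succ_eq (N - 1) |> fun h => by
      rwa [Nat.sub_add_cancel hN] at h
    have : u * (1 - e) = ((t - e) * (1 - e)) ^ N := by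
      rw [mul_pow, h1, hu]
      have h2 : t * (1 - e) = (t - e) * (1 - e) := by
        have : e * (1 - e) = 0 := by rw [mul_sub, mul_one, he', sub_self]
        rw [sub_mul, this, sub_zero]
      calc t ^ N * (1 - e) = t ^ N * (1 - e) ^ N := by rw [h1]
        _ = (t * (1 - e)) ^ N := (mul_pow _ _ _).symm
        _ = ((t - e) * (1 - e)) ^ N := by rw [h2]
        _ = (t - e) ^ N * (1 - e) := by rw [mul_pow, h1]
    rw [this, mul_pow, hn, zero_mul]
  -- `v * e = 0`
  have hv0 : v * e = 0 := by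
    have h1 : e ^ N = e := he.pow_succ_eq (N - 1) |> fun h => by
      rwa [Nat.sub_add_cancel hN] at h
    have h2 : (1 - t) * e = -(t - e) * e := by
      rw [neg_mul, sub_mul, sub_mul, he', one_mul]; ring
    calc v * e = (1 - t) ^ N * e ^ N := by rw [h1]
      _ = ((1 - t) * e) ^ N := (mul_pow _ _ _).symm
      _ = (-(t - e) * e) ^ N := by rw [h2]
      _ = 0 := by rw [mul_pow, neg_pow, hn, mul_zero, zero_mul]
  -- `(u + v) * e = u`
  have huv : (u + v) * e = u := by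
    have : u * e = u := by
      have := hu0; rw [mul_sub, mul_one, sub_eq_zero] at this; exact this.symm
    rw [add_mul, hv0, add_zero, this]
  -- `(1 - u - v)^N = 0`
  have hm : (1 - u - v) ^ N = 0 := by
    have hmem : (1 - u - v) ∈ Ideal.span ({t - e} : Set R) := by
      rw [← Ideal.Quotient.eq_zero_iff_mem]
      have hte : (Ideal.Quotient.mk (Ideal.span ({t - e} : Set R))) t =
          (Ideal.Quotient.mk (Ideal.span ({t - e} : Set R))) e := by
        rw [Ideal.Quotient.eq]; exact Ideal.subset_span rfl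
      set π := Ideal.Quotient.mk (Ideal.span ({t - e} : Set R))
      have heq : IsIdempotentElem (π e) := he.map π
      have h1 : (π e) ^ N = π e := heq.pow_succ_eq (N - 1) |> fun h => by
        rwa [Nat.sub_add_cancel hN] at h
      have h2 : (1 - π e) ^ N = 1 - π e := heq.one_sub.pow_succ_eq (N - 1) |> fun h => by
        rwa [Nat.sub_add_cancel hN] at h
      simp only [hu, hv, map_sub, map_one, map_pow, hte, h1, h2]
      ring
    obtain ⟨c, hc⟩ := Ideal.mem_span_singleton'.mp hmem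
    rw [← hc, mul_pow, hn, mul_zero]
  -- geometric sum
  have hgeom : (∑ k ∈ Finset.range N, (1 - u - v) ^ k) * (u + v) = 1 := by
    have := geom_sum_mul (1 - u - v) N
    rw [hm] at this
    have h3 : (1 - u - v) - 1 = -(u + v) := by ring
    rw [h3, mul_neg, zero_sub, neg_inj] at this
    exact this
  unfold qexpr
  rw [← hu, ← hv]
  calc u * ∑ k ∈ Finset.range N, (1 - u - v) ^ k
      = ((u + v) * e) * ∑ k ∈ Finset.range N, (1 - u - v) ^ k := by rw [huv]
    _ = e * ((∑ k ∈ Finset.range N, (1 - u - v) ^ k) * (u + v)) := by ring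
    _ = e := by rw [hgeom, mul_one]

end Alg


section Sep

variable {X S : Scheme.{u}}

theorem not_mem_basicOpen_sub {U : X.Opens} (a b : Γ(X, U)) (x : X)
    (ha : x ∉ X.basicOpen a) (hb : x ∉ X.basicOpen b) : x ∉ X.basicOpen (a - b) := by
  intro h
  have h1 : X.basicOpen (a - b) ≤ X.basicOpen a ⊔ X.basicOpen (-b) := by
    rw [sub_eq_add_neg]; exact X.basicOpen_add_le a (-b)
  have h2 : X.basicOpen (-b) = X.basicOpen b := by
    have : -b = (-1 : Γ(X, U)) * b := by ring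
    rw [this, Scheme.basicOpen_mul, X.basicOpen_of_isUnit isUnit_one.neg]
    exact inf_eq_right.mpr (X.basicOpen_le b)
  rw [h2] at h1
  rcases h1 h with h3 | h3
  · exact ha h3
  · exact hb h3

/-- pointwise separation property of `f` at `s` -/
def Sep (f : X ⟶ S) (s : S) : Prop :=
  ∀ Z0 Z1 C0 C1 : Set X, IsClosed C0 → IsClosed C1 → Z0 = C0 ∩ f ⁻¹' {s} → Z1 = C1 ∩ f ⁻¹' {s} →
    Disjoint Z0 Z1 → Z0 ∪ Z1 = f ⁻¹' {s} →
    ∃ (V : S.Opens) (U : X.Opens) (r : Γ(X, U)), s ∈ V ∧ f ⁻¹ᵁ V ≤ U ∧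
      (∀ x ∈ Z1, x ∉ X.basicOpen (1 - r)) ∧ (∀ x ∈ Z0, x ∉ X.basicOpen r)

theorem main_core {F : Scheme.{u}} (ι : F ⟶ X) (f : X ⟶ S) (s : S)
    (hemb : Topology.IsEmbedding ι) (hrange : Set.range ι = f ⁻¹' {s}) [CompactSpace F]
    (h : Sep f s) (e : Γ(F, ⊤)) (he : IsIdempotentElem e) :
    ∃ (V : S.Opens) (_ : s ∈ V) (t : Γ(X, f ⁻¹ᵁ V)),
      (ι.app (f ⁻¹ᵁ V)).hom t =
        (F.presheaf.map (homOfLE (le_top : ι ⁻¹ᵁ (f ⁻¹ᵁ V) ≤ ⊤)).op).hom e := by
  -- the two clopen pieces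
  have hmul : e * (1 - e) = 0 := by rw [mul_sub, mul_one, he.eq, sub_self]
  have hcov : ∀ x : F, x ∈ F.basicOpen e ∨ x ∈ F.basicOpen (1 - e) := by
    intro x
    have h1 : F.basicOpen (e + (1 - e)) ≤ F.basicOpen e ⊔ F.basicOpen (1 - e) :=
      F.basicOpen_add_le e (1 - e)
    have h2 : e + (1 - e) = 1 := by ring
    rw [h2, Scheme.basicOpen_one] at h1
    exact h1 (show x ∈ (⊤ : F.Opens) from trivial)
  have hdis : ∀ x : F, x ∈ F.basicOpen e → x ∈ F.basicOpen (1 - e) → False := by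
    intro x h1 h2
    have : x ∈ F.basicOpen (e * (1 - e)) := by
      rw [Scheme.basicOpen_mul]; exact ⟨h1, h2⟩
    rw [hmul, Scheme.basicOpen_zero] at this
    exact this
  let K1 : Set F := (F.basicOpen (1 - e) : Set F)ᶜ
  let K0 : Set F := (F.basicOpen e : Set F)ᶜ
  have hK1 : IsClosed K1 := (F.basicOpen (1 - e)).isOpen.isClosed_compl
  have hK0 : IsClosed K0 := (F.basicOpen e).isOpen.isClosed_compl
  obtain ⟨C1, hC1, hC1'⟩ := hemb.isInducing.isClosed_iff.mp hK1
  obtain ⟨C0, hC0, hC0'⟩ := hemb.isInducing.isClosed_iff.mp hK0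
  have hZ1 : ι '' K1 = C1 ∩ f ⁻¹' {s} := by
    rw [← hrange, ← hC1', Set.image_preimage_eq_inter_range]
  have hZ0 : ι '' K0 = C0 ∩ f ⁻¹' {s} := by
    rw [← hrange, ← hC0', Set.image_preimage_eq_inter_range]
  have hdisj : Disjoint (ι '' K0) (ι '' K1) := by
    rw [Set.disjoint_image_iff hemb.injective]
    rw [Set.disjoint_left]
    intro x hx0 hx1
    rcases hcov x with h1 | h1
    · exact hx0 h1
    · exact hx1 h1
  have hunion : ι '' K0 ∪ ι '' K1 = f ⁻¹' {s} := by
    rw [← Set.image_union, ← hrange, ← Set.image_univ]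
    congr 1
    ext x
    simp only [Set.mem_union, Set.mem_univ, iff_true]
    by_cases hx : x ∈ F.basicOpen e
    · right; exact fun h2 => hdis x hx h2
    · left; exact hx
  obtain ⟨V, U, r, hsV, hle, hr1, hr0⟩ := h _ _ C0 C1 hC0 hC1 hZ0 hZ1 hdisj hunion
  refine ⟨V, hsV, ?_⟩
  let r1 : Γ(X, f ⁻¹ᵁ V) := (X.presheaf.map (homOfLE hle).op).hom r
  set W : F.Opens := ι ⁻¹ᵁ (f ⁻¹ᵁ V) with hW
  have hWtop : ∀ x : F, x ∈ W := by
    intro x
    change f (ι x) ∈ V
    have : ι x ∈ f ⁻¹' {s} := hrange ▸ Set.mem_range_self x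
    rw [Set.mem_preimage, Set.mem_singleton_iff] at this
    rw [this]; exact hsV
  let φ : Γ(X, f ⁻¹ᵁ V) →+* Γ(F, W) := (ι.app (f ⁻¹ᵁ V)).hom
  let ψ : Γ(F, ⊤) →+* Γ(F, W) := (F.presheaf.map (homOfLE (le_top : W ≤ ⊤)).op).hom
  have hbo_φ : ∀ g : Γ(X, f ⁻¹ᵁ V), F.basicOpen (φ g) = ι ⁻¹ᵁ X.basicOpen g := fun g =>
    (Scheme.preimage_basicOpen ι g).symm
  have hbo_ψ : ∀ g : Γ(F, ⊤), F.basicOpen (ψ g) = W ⊓ F.basicOpen g := fun g =>
    Scheme.basicOpen_res _ _ _
  have hbo_r1 : ∀ g : Γ(X, U), X.basicOpen ((X.presheaf.map (homOfLE hle).op).hom g) =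
      f ⁻¹ᵁ V ⊓ X.basicOpen g := fun g => Scheme.basicOpen_res _ _ _
  have hbot : F.basicOpen (φ r1 - ψ e) = ⊥ := by
    rw [eq_bot_iff]
    intro x hx
    exfalso
    by_cases hxe : x ∈ F.basicOpen e
    · -- `x ∈ K1`
      have hx1 : x ∈ K1 := fun h2 => hdis x hxe h2
      have h3 : ι x ∉ X.basicOpen (1 - r) := hr1 _ ⟨x, hx1, rfl⟩
      have h4 : x ∉ F.basicOpen (1 - ψ e) := by
        have : (1 : Γ(F, W)) - ψ e = ψ (1 - e) := by rw [map_sub, map_one]
        rw [this, hbo_ψ]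
        exact fun h5 => hx1 h5.2
      have h5 : x ∉ F.basicOpen (1 - φ r1) := by
        have : (1 : Γ(F, W)) - φ r1 = φ ((X.presheaf.map (homOfLE hle).op).hom (1 - r)) := by
          rw [map_sub, map_sub, map_one, map_one]
        rw [this, hbo_φ, hbo_r1]
        exact fun h6 => h3 h6.2
      have h6 : φ r1 - ψ e = (1 - ψ e) - (1 - φ r1) := by ring
      rw [h6] at hx
      exact not_mem_basicOpen_sub _ _ x h4 h5 hx
    · have hx0 : x ∈ K0 := hxe
      have h3 : ι x ∉ X.basicOpen r := hr0 _ ⟨x, hx0, rfl⟩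
      have h4 : x ∉ F.basicOpen (ψ e) := by
        rw [hbo_ψ]; exact fun h5 => hxe h5.2
      have h5 : x ∉ F.basicOpen (φ r1) := by
        rw [hbo_φ, hbo_r1]; exact fun h6 => h3 h6.2
      exact not_mem_basicOpen_sub _ _ x h5 h4 hx
  have hWc : IsCompact (W : Set F) := by
    have : (W : Set F) = Set.univ := Set.eq_univ_of_forall hWtop
    rw [this]; exact isCompact_univ
  obtain ⟨N, hN⟩ := (Scheme.isNilpotent_iff_basicOpen_eq_bot_of_isCompact hWc _).mpr hbot
  have hN' : (φ r1 - ψ e) ^ (N + 1) = 0 := by rw [pow_succ, hN, zero_mul]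
  have hq := qexpr_eq (he.map ψ) (Nat.succ_pos N) hN'
  refine ⟨qexpr (N + 1) r1, ?_⟩
  change φ (qexpr (N + 1) r1) = ψ e
  rw [map_qexpr, hq]

theorem main_of_sep (f : X ⟶ S) [QuasiCompact f] (s : S) (h : Sep f s)
    (e : Γ(f.fiber s, ⊤)) (he : IsIdempotentElem e) :
    ∃ (V : S.Opens) (_ : s ∈ V) (t : Γ(X, f ⁻¹ᵁ V)),
      ((f.fiberι s).app (f ⁻¹ᵁ V)).hom t =
        ((f.fiber s).presheaf.map (homOfLE (le_top : (f.fiberι s) ⁻¹ᵁ (f ⁻¹ᵁ V) ≤ ⊤)).op).hom e :=
  main_core (f.fiberι s) f s (f.fiberι s).isEmbedding (f.range_fiberι s) h e he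


/-- transfer along a closed, injective map over `S` which is surjective on the fibre -/
theorem Sep.of_closed {X' : Scheme.{u}} (a : X ⟶ X') (f : X ⟶ S) (f' : X' ⟶ S)
    (hf : a ≫ f' = f) (s : S) (hcl : IsClosedMap a) (hinj : Function.Injective a)
    (hsurj : f' ⁻¹' {s} ⊆ Set.range a) (h : Sep f' s) : Sep f s := by
  intro Z0 Z1 C0 C1 hC0 hC1 hZ0 hZ1 hdisj hcov
  have hpre : a ⁻¹' (f' ⁻¹' {s}) = f ⁻¹' {s} := by
    ext x
    simp only [Set.mem_preimage, Set.mem_singleton_iff, ← hf, Scheme.Hom.comp_apply]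
  have h0 : a '' Z0 = a '' C0 ∩ f' ⁻¹' {s} := by
    rw [hZ0, ← hpre, Set.image_inter_preimage]
  have h1 : a '' Z1 = a '' C1 ∩ f' ⁻¹' {s} := by
    rw [hZ1, ← hpre, Set.image_inter_preimage]
  have hd : Disjoint (a '' Z0) (a '' Z1) := (Set.disjoint_image_iff hinj).mpr hdisj
  have hc : a '' Z0 ∪ a '' Z1 = f' ⁻¹' {s} := by
    rw [← Set.image_union, hcov, ← hpre, Set.image_preimage_eq_inter_range,
      Set.inter_eq_left.mpr hsurj]
  obtain ⟨V, U', r', hsV, hle, hr1, hr0⟩ :=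
    h _ _ (a '' C0) (a '' C1) (hcl _ hC0) (hcl _ hC1) h0 h1 hd hc
  refine ⟨V, a ⁻¹ᵁ U', (a.app U').hom r', hsV, ?_, ?_, ?_⟩
  · rw [← hf, Scheme.Hom.comp_preimage]
    exact (Opens.map a.base).monotone hle
  · intro x hx hx'
    have : (1 : Γ(X, a ⁻¹ᵁ U')) - (a.app U').hom r' = (a.app U').hom (1 - r') := by
      rw [map_sub, map_one]
    rw [this] at hx'
    have h2 : x ∈ a ⁻¹ᵁ X'.basicOpen (1 - r') := by
      rw [Scheme.preimage_basicOpen]; exact hx'
    exact hr1 _ ⟨x, hx, rfl⟩ h2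
  · intro x hx hx'
    have h2 : x ∈ a ⁻¹ᵁ X'.basicOpen r' := by
      rw [Scheme.preimage_basicOpen]; exact hx'
    exact hr0 _ ⟨x, hx, rfl⟩ h2

/-- restriction to an open neighbourhood of `s` -/
theorem Sep.of_restrict (f : X ⟶ S) (U : S.Opens) (s : S) (hs : s ∈ U)
    (h : Sep (f ∣_ U) ⟨s, hs⟩) : Sep f s := by
  intro Z0 Z1 C0 C1 hC0 hC1 hZ0 hZ1 hdisj hcov
  let j : (f ⁻¹ᵁ U : X.Opens).toScheme ⟶ X := (f ⁻¹ᵁ U).ι
  have hjinj : Function.Injective j := (f ⁻¹ᵁ U).ι.isOpenEmbedding.injective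
  have hpre : j ⁻¹' (f ⁻¹' {s}) = (f ∣_ U) ⁻¹' {⟨s, hs⟩} := by
    ext x
    simp only [Set.mem_preimage, Set.mem_singleton_iff]
    constructor
    · intro hx
      exact Subtype.ext ((morphismRestrict_base_coe f U x).trans hx)
    · intro hx
      exact (morphismRestrict_base_coe f U x).symm.trans (congrArg Subtype.val hx)
  have h0 : j ⁻¹' Z0 = j ⁻¹' C0 ∩ (f ∣_ U) ⁻¹' {⟨s, hs⟩} := by
    rw [hZ0, Set.preimage_inter, hpre]
  have h1 : j ⁻¹' Z1 = j ⁻¹' C1 ∩ (f ∣_ U) ⁻¹' {⟨s, hs⟩} := by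
    rw [hZ1, Set.preimage_inter, hpre]
  have hd : Disjoint (j ⁻¹' Z0) (j ⁻¹' Z1) := hdisj.preimage j
  have hc : j ⁻¹' Z0 ∪ j ⁻¹' Z1 = (f ∣_ U) ⁻¹' {⟨s, hs⟩} := by
    rw [← Set.preimage_union, hcov, hpre]
  obtain ⟨V', U', r', hsV, hle, hr1, hr0⟩ :=
    h _ _ (j ⁻¹' C0) (j ⁻¹' C1) (hC0.preimage j.continuous) (hC1.preimage j.continuous)
      h0 h1 hd hc
  have hrange : ∀ x, f x = s → ∃ x' : (f ⁻¹ᵁ U : X.Opens).toScheme, j x' = x := by
    intro x hx
    have hxU : x ∈ f ⁻¹ᵁ U := by change f x ∈ U; rw [hx]; exact hs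
    exact ⟨⟨x, hxU⟩, rfl⟩
  refine ⟨U.ι ''ᵁ V', j ''ᵁ U', ((j.appIso U').inv).hom r', ⟨⟨s, hs⟩, hsV, rfl⟩, ?_, ?_, ?_⟩
  · rw [← image_morphismRestrict_preimage]
    exact (Scheme.Hom.opensFunctor j).monotone hle
  · intro x hx hx'
    have hxs : f x = s := by
      have : x ∈ f ⁻¹' {s} := hcov ▸ Or.inr hx
      exact this
    obtain ⟨x', rfl⟩ := hrange x hxs
    have : (1 : Γ(X, j ''ᵁ U')) - ((j.appIso U').inv).hom r' = ((j.appIso U').inv).hom (1 - r') := by
      rw [map_sub, map_one]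
    rw [this, ← Scheme.image_basicOpen] at hx'
    obtain ⟨y, hy, hyx⟩ := hx'
    have := hjinj hyx
    subst this
    exact hr1 y hx hy
  · intro x hx hx'
    have hxs : f x = s := by
      have : x ∈ f ⁻¹' {s} := hcov ▸ Or.inl hx
      exact this
    obtain ⟨x', rfl⟩ := hrange x hxs
    rw [← Scheme.image_basicOpen] at hx'
    obtain ⟨y, hy, hyx⟩ := hx'
    have := hjinj hyx
    subst this
    exact hr0 y hx hy

/-- composing with an open immersion on the base -/
theorem Sep.comp_openImmersion {S' : Scheme.{u}} (f : X ⟶ S) (b : S ⟶ S') [IsOpenImmersion b]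
    (s : S) (h : Sep f s) : Sep (f ≫ b) (b s) := by
  intro Z0 Z1 C0 C1 hC0 hC1 hZ0 hZ1 hdisj hcov
  have hbinj : Function.Injective b := b.isOpenEmbedding.injective
  have hpre : (f ≫ b) ⁻¹' {b s} = f ⁻¹' {s} := by
    ext x
    simp only [Set.mem_preimage, Set.mem_singleton_iff, Scheme.Hom.comp_apply]
    exact hbinj.eq_iff
  rw [hpre] at hZ0 hZ1 hcov
  obtain ⟨V, U, r, hsV, hle, hr1, hr0⟩ := h Z0 Z1 C0 C1 hC0 hC1 hZ0 hZ1 hdisj hcov
  refine ⟨b ''ᵁ V, U, r, ⟨s, hsV, rfl⟩, ?_, hr1, hr0⟩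
  rw [Scheme.Hom.comp_preimage, b.preimage_image_eq]
  exact hle


end Sep

section Top

/-- pushing a clopen decomposition of `g ⁻¹' F` forward along a closed surjection with connected
fibres -/
theorem top_push {X T : Type*} [TopologicalSpace X] [TopologicalSpace T] (g : X → T)
    (hg : IsClosedMap g) (hsurj : Function.Surjective g)
    (hconn : ∀ t, IsPreconnected (g ⁻¹' {t})) (F : Set T)
    (Z0 Z1 C0 C1 : Set X) (hC0 : IsClosed C0) (hC1 : IsClosed C1)
    (hZ0 : Z0 = C0 ∩ g ⁻¹' F) (hZ1 : Z1 = C1 ∩ g ⁻¹' F)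
    (hdisj : Disjoint Z0 Z1) (hcov : Z0 ∪ Z1 = g ⁻¹' F) :
    IsClosed (g '' C0) ∧ IsClosed (g '' C1) ∧ g '' Z0 = g '' C0 ∩ F ∧ g '' Z1 = g '' C1 ∩ F ∧
      Disjoint (g '' Z0) (g '' Z1) ∧ g '' Z0 ∪ g '' Z1 = F := by
  refine ⟨hg _ hC0, hg _ hC1, ?_, ?_, ?_, ?_⟩
  · rw [hZ0, Set.image_inter_preimage]
  · rw [hZ1, Set.image_inter_preimage]
  · rw [Set.disjoint_left]
    rintro t ⟨x0, hx0, rfl⟩ ⟨x1, hx1, hx10⟩
    have hF : g x0 ∈ F := by
      have : x0 ∈ g ⁻¹' F := hcov ▸ Or.inl hx0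
      exact this
    have hsub : g ⁻¹' {g x0} ⊆ C0 ∪ C1 := by
      intro y hy
      have hyF : y ∈ g ⁻¹' F := by
        rw [Set.mem_preimage, Set.mem_singleton_iff] at hy
        rw [Set.mem_preimage, hy]; exact hF
      rw [← hcov, hZ0, hZ1] at hyF
      rcases hyF with h | h
      · exact Or.inl h.1
      · exact Or.inr h.1
    have h0 : (g ⁻¹' {g x0} ∩ C0).Nonempty := ⟨x0, rfl, by rw [hZ0] at hx0; exact hx0.1⟩
    have h1 : (g ⁻¹' {g x0} ∩ C1).Nonempty := ⟨x1, hx10, by rw [hZ1] at hx1; exact hx1.1⟩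
    obtain ⟨y, hy, hy0, hy1⟩ :=
      (isPreconnected_closed_iff.mp (hconn (g x0))) C0 C1 hC0 hC1 hsub h0 h1
    have hyF : y ∈ g ⁻¹' F := by
      rw [Set.mem_preimage, Set.mem_singleton_iff] at hy
      rw [Set.mem_preimage, hy]; exact hF
    have hyZ0 : y ∈ Z0 := by rw [hZ0]; exact ⟨hy0, hyF⟩
    have hyZ1 : y ∈ Z1 := by rw [hZ1]; exact ⟨hy1, hyF⟩
    exact Set.disjoint_left.mp hdisj hyZ0 hyZ1
  · rw [← Set.image_union, hcov, Set.image_preimage_eq _ hsurj]

end Top

section AlgSep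

open PrimeSpectrum

/-- a clopen decomposition of the fibre of `Spec B → Spec A` over `p` is cut out by a fraction -/
theorem alg_sep {A B : Type u} [CommRing A] [CommRing B] [Algebra A B] (p : PrimeSpectrum A)
    (W0 W1 C0 C1 : Set (PrimeSpectrum B)) (hC0 : IsClosed C0) (hC1 : IsClosed C1)
    (h0 : W0 = C0 ∩ comap (algebraMap A B) ⁻¹' {p}) (h1 : W1 = C1 ∩ comap (algebraMap A B) ⁻¹' {p})
    (hdisj : Disjoint W0 W1) (hcov : W0 ∪ W1 = comap (algebraMap A B) ⁻¹' {p}) :
    ∃ a : A, a ∉ p.asIdeal ∧ ∃ b : B, (∀ q ∈ W1, algebraMap A B a - b ∈ q.asIdeal) ∧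
      (∀ q ∈ W0, b ∈ q.asIdeal) := by
  let e := PrimeSpectrum.preimageHomeomorphFiber A B p
  let v : PrimeSpectrum (p.asIdeal.Fiber B) → PrimeSpectrum B := fun q' => (e.symm q').1
  have hv : Continuous v := continuous_subtype_val.comp e.symm.continuous
  have hvmem : ∀ q', v q' ∈ comap (algebraMap A B) ⁻¹' {p} := fun q' => (e.symm q').2
  have hvcomap : ∀ q', v q' = comap Algebra.TensorProduct.includeRight.toRingHom q' := fun q' => rfl
  have hvsurj : ∀ q ∈ comap (algebraMap A B) ⁻¹' {p}, ∃ q', v q' = q := fun q hq =>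
    ⟨e ⟨q, hq⟩, by simp [v]⟩
  have hs1 : v ⁻¹' W1 = v ⁻¹' C1 := by
    ext q'; rw [h1]; exact ⟨fun h => h.1, fun h => ⟨h, hvmem q'⟩⟩
  have hs0 : v ⁻¹' W0 = v ⁻¹' C0 := by
    ext q'; rw [h0]; exact ⟨fun h => h.1, fun h => ⟨h, hvmem q'⟩⟩
  have hcompl : v ⁻¹' W1 = (v ⁻¹' W0)ᶜ := by
    ext q'
    simp only [Set.mem_preimage, Set.mem_compl_iff]
    constructor
    · intro h1' h0'; exact Set.disjoint_left.mp hdisj h0' h1'
    · intro h0'
      have : v q' ∈ W0 ∪ W1 := hcov ▸ hvmem q'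
      rcases this with h | h
      · exact absurd h h0'
      · exact h
  have hclopen : IsClopen (v ⁻¹' W1) := by
    refine ⟨hs1 ▸ hC1.preimage hv, ?_⟩
    rw [hcompl, hs0]
    exact (hC0.preimage hv).isOpen_compl
  obtain ⟨ε, φ', hmul, hadd, hε, hφ⟩ :=
    PrimeSpectrum.exists_mul_eq_zero_add_eq_one_basicOpen_eq_of_isClopen hclopen
  obtain ⟨r, hr, b, hb⟩ := Ideal.Fiber.exists_smul_eq_one_tmul p.asIdeal ε
  refine ⟨r, hr, b, ?_, ?_⟩
  · intro q hq
    have hqp : q ∈ comap (algebraMap A B) ⁻¹' {p} := hcov ▸ Or.inr hq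
    obtain ⟨q', rfl⟩ := hvsurj q hqp
    have hq' : q' ∈ v ⁻¹' W1 := hq
    rw [hε] at hq'
    have hεq : ε ∉ q'.asIdeal := hq'
    have hφq : φ' ∈ q'.asIdeal := by
      have : ε * φ' ∈ q'.asIdeal := by rw [hmul]; exact q'.asIdeal.zero_mem
      exact (q'.isPrime.mem_or_mem this).resolve_left hεq
    rw [hvcomap]
    change Algebra.TensorProduct.includeRight.toRingHom (algebraMap A B r - b) ∈ q'.asIdeal
    have h3 : Algebra.TensorProduct.includeRight.toRingHom (algebraMap A B r - b) =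
        r • φ' := by
      have hφ' : φ' = 1 - ε := by rw [← hadd]; ring
      rw [hφ', smul_sub, hb]
      simp only [AlgHom.toRingHom_eq_coe, RingHom.coe_coe, map_sub,
        Algebra.TensorProduct.includeRight_apply]
      congr 1
      rw [Algebra.algebraMap_eq_smul_one, Algebra.TensorProduct.one_def]
      exact TensorProduct.tmul_smul r _ _
    rw [h3, Algebra.smul_def]
    exact q'.asIdeal.mul_mem_left _ hφq
  · intro q hq
    have hqp : q ∈ comap (algebraMap A B) ⁻¹' {p} := hcov ▸ Or.inl hq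
    obtain ⟨q', rfl⟩ := hvsurj q hqp
    have hq' : q' ∈ (v ⁻¹' W1)ᶜ := by rw [hcompl, compl_compl]; exact hq
    rw [hφ] at hq'
    have hφq : φ' ∉ q'.asIdeal := hq'
    have hεq : ε ∈ q'.asIdeal := by
      have : ε * φ' ∈ q'.asIdeal := by rw [hmul]; exact q'.asIdeal.zero_mem
      exact (q'.isPrime.mem_or_mem this).resolve_right hφq
    rw [hvcomap]
    change Algebra.TensorProduct.includeRight.toRingHom b ∈ q'.asIdeal
    have h3 : Algebra.TensorProduct.includeRight.toRingHom b = r • ε := by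
      rw [hb]; rfl
    rw [h3, Algebra.smul_def]
    exact q'.asIdeal.mul_mem_left _ hεq

end AlgSep


section Geo

variable {X : Scheme.{u}}

/-- separation for a morphism factoring through a closed surjection with connected fibres onto an
affine scheme over an affine base -/
theorem sep_of_affine_factor {A B : CommRingCat.{u}} (φ : A ⟶ B) (g : X ⟶ Spec B)
    (hg : IsClosedMap g) (hsurj : Function.Surjective g)
    (hconn : ∀ t, _root_.IsPreconnected (g ⁻¹' {t})) (s : Spec A) : Sep (g ≫ Spec.map φ) s := by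
  intro Z0 Z1 C0 C1 hC0 hC1 hZ0 hZ1 hdisj hcov
  letI : Algebra A B := φ.hom.toAlgebra
  have hF : (g ≫ Spec.map φ) ⁻¹' {s} = g ⁻¹' (PrimeSpectrum.comap (algebraMap A B) ⁻¹' {s}) := by
    ext x
    simp only [Set.mem_preimage, Set.mem_singleton_iff, Scheme.Hom.comp_apply]
    rfl
  rw [hF] at hZ0 hZ1 hcov
  obtain ⟨hc0, hc1, hW0, hW1, hWd, hWc⟩ := top_push g hg hsurj hconn
    (PrimeSpectrum.comap (algebraMap A B) ⁻¹' {s}) Z0 Z1 C0 C1 hC0 hC1 hZ0 hZ1 hdisj hcov
  obtain ⟨a, ha, b, hb1, hb0⟩ := alg_sep (A := A) (B := B) s (g '' Z0) (g '' Z1) (g '' C0)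
    (g '' C1) hc0 hc1 hW0 hW1 hWd hWc
  -- sections
  let a' : Γ(X, ⊤) := (g ≫ Spec.map φ).appTop ((Scheme.ΓSpecIso A).inv a)
  let b' : Γ(X, ⊤) := g.appTop ((Scheme.ΓSpecIso B).inv b)
  have ha' : a' = g.appTop ((Scheme.ΓSpecIso B).inv (φ a)) := by
    change (g ≫ Spec.map φ).appTop ((Scheme.ΓSpecIso A).inv a) = _
    rw [Scheme.Hom.comp_appTop, CommRingCat.comp_apply, ← CommRingCat.comp_apply
      (Scheme.ΓSpecIso A).inv, ← Scheme.ΓSpecIso_inv_naturality, CommRingCat.comp_apply]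
  let U : X.Opens := X.basicOpen a'
  have hUV : (g ≫ Spec.map φ) ⁻¹ᵁ (PrimeSpectrum.basicOpen a) = U := by
    rw [← basicOpen_eq_of_affine, Scheme.preimage_basicOpen_top]
  let ρ : Γ(X, ⊤) →+* Γ(X, U) := (X.presheaf.map (homOfLE (le_top : U ≤ ⊤)).op).hom
  have hunit : IsUnit (ρ a') := X.toRingedSpace.isUnit_res_basicOpen a'
  obtain ⟨c, hc⟩ := isUnit_iff_exists_inv.mp hunit
  have hbo_ρ : ∀ c : Γ(X, ⊤), X.basicOpen (ρ c) = U ⊓ X.basicOpen c := fun c =>
    Scheme.basicOpen_res _ _ _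
  have hbo_g : ∀ c : B, ∀ x : X, c ∈ (g x).asIdeal →
      x ∉ X.basicOpen (g.appTop ((Scheme.ΓSpecIso B).inv c)) := by
    intro c x hc hx
    rw [← Scheme.preimage_basicOpen_top, basicOpen_eq_of_affine] at hx
    exact hx hc
  refine ⟨PrimeSpectrum.basicOpen a, U, ρ b' * c, ha, hUV.le, ?_, ?_⟩
  · intro x hx hx'
    have h1 : algebraMap A B a - b ∈ (g x).asIdeal := hb1 _ ⟨x, hx, rfl⟩
    have h2 := hbo_g _ x h1
    have h3 : g.appTop ((Scheme.ΓSpecIso B).inv (algebraMap A B a - b)) = a' - b' := by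
      rw [map_sub, map_sub, ha']; rfl
    rw [h3] at h2
    have h4 : (1 - ρ b' * c) * ρ a' = ρ (a' - b') := by
      rw [map_sub, sub_mul, one_mul, mul_assoc, mul_comm c, hc, mul_one]
    have h5 : x ∈ X.basicOpen ((1 - ρ b' * c) * ρ a') := by
      rw [Scheme.basicOpen_mul]
      refine ⟨hx', ?_⟩
      rw [X.basicOpen_of_isUnit hunit]
      exact X.basicOpen_le _ hx'
    rw [h4, hbo_ρ] at h5
    exact h2 h5.2
  · intro x hx hx'
    have h1 : b ∈ (g x).asIdeal := hb0 _ ⟨x, hx, rfl⟩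
    have h2 := hbo_g _ x h1
    rw [Scheme.basicOpen_mul] at hx'
    have h3 := hx'.1
    rw [hbo_ρ] at h3
    exact h2 h3.2


end Geo

section LimitRange

variable {S : Scheme.{u}} {I : Type u} [SmallCategory I] [IsCofiltered I] (D : I ⥤ Over S)
  (c : Cone D) (hc : IsLimit c)
  (hD : ∀ (i j : I) (a : i ⟶ j), IsClosedImmersion (D.map a).left)

include hc hD in
/-- in a cofiltered limit of closed immersions, the image of the limit in a stage is the
intersection of the images of the later stages -/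
theorem iInter_range_subset (i0 : I) :
    (⋂ (a : Over i0), Set.range (D.map a.hom).left) ⊆ Set.range (c.π.app i0).left := by
  haveI := hD
  let Y : Scheme.{u} := (D.obj i0).left
  let J : Y.IdealSheafData := ⨆ a : Over i0, (D.map a.hom).left.ker
  have hker : ∀ a : Over i0, (D.map a.hom).left.ker ≤ J.subschemeι.ker := fun a => by
    rw [J.ker_subschemeι]
    exact le_iSup (fun a : Over i0 => (D.map a.hom).left.ker) a
  let lft : ∀ a : Over i0, J.subscheme ⟶ (D.obj a.left).left := fun a =>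
    IsClosedImmersion.lift (D.map a.hom).left J.subschemeι (hker a)
  have hlft : ∀ a : Over i0, lft a ≫ (D.map a.hom).left = J.subschemeι := fun a =>
    IsClosedImmersion.lift_fac _ _ _
  have key : ∀ (a a' : Over i0) (m : a ⟶ a'), lft a ≫ (D.map m.left).left = lft a' := by
    intro a a' m
    haveI : Mono (D.map a'.hom).left := inferInstance
    rw [← cancel_mono (D.map a'.hom).left]
    have hm : m.left ≫ a'.hom = a.hom := Over.w m
    rw [Category.assoc, hlft a', ← Over.comp_left, ← D.map_comp, hm, hlft a]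
  let s : Cone (Over.forget i0 ⋙ D) :=
    { pt := Over.mk (J.subschemeι ≫ (D.obj i0).hom)
      π :=
        { app := fun a => Over.homMk (lft a) (by
            have h1 : (D.map a.hom).left ≫ (D.obj i0).hom = (D.obj a.left).hom := Over.w (D.map a.hom)
            change lft a ≫ (D.obj a.left).hom = J.subschemeι ≫ (D.obj i0).hom
            rw [← h1, ← Category.assoc, hlft])
          naturality := fun a a' m => by
            apply Over.OverMorphism.ext
            simp only [Functor.const_obj_obj, Functor.const_obj_map, Category.id_comp,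
              Functor.comp_obj, Functor.comp_map, Over.forget_map, Over.comp_left,
              Over.homMk_left]
            exact (key a a' m).symm } }
  have hc' : IsLimit (c.whisker (Over.forget i0)) :=
    (Functor.Initial.isLimitWhiskerEquiv (Over.forget i0) c).symm hc
  have hfac : hc'.lift s ≫ c.π.app i0 = s.π.app (Over.mk (𝟙 i0)) := hc'.fac s (Over.mk (𝟙 i0))
  have h1 : (hc'.lift s).left ≫ (c.π.app i0).left = J.subschemeι := by
    have h2 : (hc'.lift s).left ≫ (c.π.app i0).left = (s.π.app (Over.mk (𝟙 i0))).left := by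
      rw [← Over.comp_left, hfac]
    rw [h2]
    change lft (Over.mk (𝟙 i0)) = _
    have h3 := hlft (Over.mk (𝟙 i0))
    have h4 : (D.map (Over.mk (𝟙 i0)).hom).left = 𝟙 _ := by
      change (D.map (𝟙 i0)).left = 𝟙 _
      rw [D.map_id]; rfl
    rw [h4, Category.comp_id] at h3
    exact h3
  intro y hy
  have hyJ : y ∈ (J.support : Set Y) := by
    have h5 : (J.support : Set Y) = ⋂ a : Over i0, ((D.map a.hom).left.ker.support : Set Y) := by
      change ((⨆ a : Over i0, (D.map a.hom).left.ker).support : Set Y) = _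
      rw [Scheme.IdealSheafData.support_iSup, Closeds.coe_iInf]
    rw [h5]
    refine Set.mem_iInter.mpr fun a => ?_
    rw [Scheme.Hom.support_ker]
    exact subset_closure (Set.mem_iInter.mp hy a)
  rw [← Scheme.IdealSheafData.range_subschemeι] at hyJ
  obtain ⟨z, rfl⟩ := hyJ
  refine ⟨(hc'.lift s).left z, ?_⟩
  rw [← Scheme.Hom.comp_apply, h1]

include hc hD in
/-- topological stabilisation on a Noetherian fibre: some stage has the same fibre over `s`
as the limit -/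
theorem exists_stage_fibre_subset (i0 : I) (s : S)
    (hN : NoetherianSpace ((D.obj i0).hom ⁻¹' {s})) :
    ∃ i1 : I, (D.obj i1).hom ⁻¹' {s} ⊆ Set.range (c.π.app i1).left := by
  haveI := hD
  let Y : Scheme.{u} := (D.obj i0).left
  let Fs : Set Y := (D.obj i0).hom ⁻¹' {s}
  let K : Over i0 → Closeds Fs := fun a =>
    ⟨Subtype.val ⁻¹' Set.range (D.map a.hom).left,
      ((D.map a.hom).left.isClosedEmbedding.isClosed_range).preimage continuous_subtype_val⟩
  have hwf : WellFoundedLT (Closeds Fs) := ((noetherianSpace_TFAE Fs).out 0 1).mp hN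
  obtain ⟨_, ⟨a1, rfl⟩, hmin⟩ := hwf.wf.has_min (Set.range K) ⟨_, ⟨Over.mk (𝟙 i0), rfl⟩⟩
  have hmono : ∀ {a a' : Over i0} (m : a ⟶ a'), K a ≤ K a' := by
    intro a a' m y hy
    obtain ⟨x, hx⟩ := hy
    refine ⟨(D.map m.left).left x, ?_⟩
    have hm : m.left ≫ a'.hom = a.hom := Over.w m
    rw [← Scheme.Hom.comp_apply, ← Over.comp_left, ← D.map_comp, hm]
    exact hx
  refine ⟨a1.left, ?_⟩
  intro x1 hx1
  have hx1s : (D.obj a1.left).hom x1 = s := hx1
  let y : Y := (D.map a1.hom).left x1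
  have hys : y ∈ Fs := by
    change (D.obj i0).hom ((D.map a1.hom).left x1) = s
    rw [← Scheme.Hom.comp_apply, Over.w (D.map a1.hom)]
    exact hx1s
  have hyall : y ∈ ⋂ (a : Over i0), Set.range (D.map a.hom).left := by
    refine Set.mem_iInter.mpr fun a => ?_
    let a2 : Over i0 := IsCofiltered.min a a1
    have h2 : K a2 = K a1 := by
      by_contra hne
      exact hmin (K a2) ⟨a2, rfl⟩ (lt_of_le_of_ne (hmono (IsCofiltered.minToRight a a1)) hne)
    have hy1 : (⟨y, hys⟩ : Fs) ∈ K a1 := ⟨x1, rfl⟩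
    rw [← h2] at hy1
    exact hmono (IsCofiltered.minToLeft a a1) hy1
  obtain ⟨x, hx⟩ := iInter_range_subset D c hc hD i0 hyall
  refine ⟨x, ?_⟩
  have hnat : c.π.app a1.left ≫ D.map a1.hom = c.π.app i0 := c.w a1.hom
  have h3 : (D.map a1.hom).left ((c.π.app a1.left).left x) = (D.map a1.hom).left x1 := by
    rw [← Scheme.Hom.comp_apply, ← Over.comp_left, hnat]
    exact hx
  exact (D.map a1.hom).left.isClosedEmbedding.injective h3

end LimitRange

/-- the fibre of a morphism of finite type is a Noetherian space -/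
theorem noetherianSpace_preimage_singleton {X S : Scheme.{u}} (f : X ⟶ S) [LocallyOfFiniteType f]
    [QuasiCompact f] (s : S) : NoetherianSpace (f ⁻¹' {s}) := by
  haveI : LocallyOfFiniteType (f.fiberToSpecResidueField s) :=
    MorphismProperty.pullback_snd _ _ inferInstance
  haveI : IsLocallyNoetherian (f.fiber s) :=
    LocallyOfFiniteType.isLocallyNoetherian (f.fiberToSpecResidueField s)
  haveI : IsNoetherian (f.fiber s) := { }
  exact (noetherianSpace_iff_of_homeomorph (f.fiberHomeo s)).mp inferInstance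


end Groth.Agent.R2.H23.FibreIdem
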