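import Mathlib

/-!
# Galois algebras à la Chase–Harrison–Rosenberg (helper23)

Namespace `Groth.Agent.R2.H23.GaloisAlg`.

A finite group `G` acts on a commutative ring `B`, `A → B` is injective with image the invariants,
and no `g ≠ 1` acts trivially modulo a maximal ideal (`IsFreeAct`).  Then there is
`e = ∑ xᵢ ⊗ yᵢ ∈ B ⊗[A] B` with `∑ xᵢ g(yᵢ) = δ_{g,1}`, and consequently
* `⋂_g ker (b ⊗ c ↦ b g(c)) = 0` (`eq_zero_of_mu_eq_zero`);
* `B` is a finitely generated projective `A`-module (`projective`, `moduleFinite`);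
* `B` is formally unramified over `A` (`formallyUnramified`);
* two ring homomorphisms `B → K` into a domain which agree on `A` differ by an element of `G`
  (`exists_smul_eq_of_ringHom`).
-/

set_option autoImplicit false
open TensorProduct

namespace Groth.Agent.R2.H23.GaloisAlg

variable {A B : Type*} [CommRing A] [CommRing B] [Algebra A B]
  {G : Type*} [Group G] [MulSemiringAction G B] [SMulCommClass G A B]

/-- `G` acts freely on the (closed) geometric points of `Spec B`: no `g ≠ 1` acts trivially modulo a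
maximal ideal. -/
def IsFreeAct (G B : Type*) [Group G] [CommRing B] [MulSemiringAction G B] : Prop :=
  ∀ g : G, g ≠ 1 → ∀ q : Ideal B, q.IsMaximal → ∃ b : B, g • b - b ∉ q

variable (A) in
/-- `b ⊗ c ↦ b * g • c`. -/
noncomputable def mu (g : G) : B ⊗[A] B →ₐ[A] B :=
  Algebra.TensorProduct.productMap (AlgHom.id A B) (MulSemiringAction.toAlgHom A B g)

@[simp] theorem mu_tmul (g : G) (b c : B) : mu A g (b ⊗ₜ[A] c) = b * g • c := by
  simp [mu]

theorem mu_one_eq : (mu A (1 : G) : B ⊗[A] B →ₐ[A] B) = Algebra.TensorProduct.lmul' A := by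
  apply Algebra.TensorProduct.ext'
  intro b c
  simp

theorem mu_surjective (g : G) : Function.Surjective (mu A g : B ⊗[A] B → B) := fun b =>
  ⟨b ⊗ₜ 1, by simp⟩

theorem exists_mu_eq_zero_of_ne_one (hfree : IsFreeAct G B) (g : G) (hg : g ≠ 1) :
    ∃ t : B ⊗[A] B, mu A g t = 0 ∧ mu A (1 : G) t = 1 := by
  set J : Ideal B := Ideal.map (mu A (1 : G)) (RingHom.ker (mu A g)) with hJ
  have hmem : ∀ b : B, g • b - b ∈ J := by
    intro b
    have h1 : ((g • b) ⊗ₜ[A] (1 : B) - (1 : B) ⊗ₜ[A] b) ∈ RingHom.ker (mu A g) := by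
      rw [RingHom.mem_ker]
      simp
    have h2 := Ideal.mem_map_of_mem (mu A (1 : G)) h1
    simpa using h2
  have hJtop : J = ⊤ := by
    by_contra hne
    obtain ⟨q, hq, hJq⟩ := Ideal.exists_le_maximal J hne
    obtain ⟨b, hb⟩ := hfree g hg q hq
    exact hb (hJq (hmem b))
  have h1 : (1 : B) ∈ J := hJtop ▸ Submodule.mem_top
  rw [hJ, Ideal.mem_map_iff_of_surjective _ (mu_surjective (A := A) (1 : G))] at h1
  obtain ⟨t, ht, ht1⟩ := h1
  exact ⟨t, by simpa [RingHom.mem_ker] using ht, ht1⟩

theorem exists_delta [Finite G] [DecidableEq G] (hfree : IsFreeAct G B) :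
    ∃ e : B ⊗[A] B, ∀ g : G, mu A g e = if g = 1 then 1 else 0 := by
  cases nonempty_fintype G
  choose t ht0 ht1 using exists_mu_eq_zero_of_ne_one (A := A) hfree
  let t' : G → B ⊗[A] B := fun g => if h : g = 1 then 1 else t g h
  refine ⟨∏ g, t' g, fun h => ?_⟩
  rw [map_prod]
  split_ifs with hh
  · subst hh
    apply Finset.prod_eq_one
    intro g _
    by_cases hg : g = 1
    · simp [t', hg]
    · simp [t', hg, ht1 g hg]
  · apply Finset.prod_eq_zero (Finset.mem_univ h)
    simp [t', hh, ht0 h hh]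

section trace

variable [Finite G] [Algebra.IsInvariant A B G]

omit [SMulCommClass G A B] in
theorem exists_trace (b : B) : ∃ a : A, algebraMap A B a = ∑ᶠ g : G, g • b := by
  cases nonempty_fintype G
  apply Algebra.IsInvariant.isInvariant (G := G)
  intro h
  rw [finsum_eq_sum_of_fintype, Finset.smul_sum]
  simp_rw [smul_smul]
  exact Fintype.sum_bijective (h * ·) (Group.mulLeft_bijective h) _ _ (fun _ => rfl)

variable (A G) in
/-- the trace `b ↦ ∑ g • b`, with values in `A`. -/
noncomputable def tr (hinj : Function.Injective (algebraMap A B)) : B →ₗ[A] A where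
  toFun b := (exists_trace (A := A) (G := G) b).choose
  map_add' b c := by
    cases nonempty_fintype G
    apply hinj
    rw [map_add, (exists_trace (A := A) (G := G) b).choose_spec,
      (exists_trace (A := A) (G := G) c).choose_spec,
      (exists_trace (A := A) (G := G) (b + c)).choose_spec]
    simp only [finsum_eq_sum_of_fintype, smul_add, Finset.sum_add_distrib]
  map_smul' a b := by
    cases nonempty_fintype G
    apply hinj
    rw [RingHom.id_apply, smul_eq_mul, map_mul, (exists_trace (A := A) (G := G) b).choose_spec,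
      (exists_trace (A := A) (G := G) (a • b)).choose_spec]
    simp only [finsum_eq_sum_of_fintype, Finset.mul_sum]
    refine Finset.sum_congr rfl fun g _ => ?_
    rw [smul_comm, Algebra.smul_def]

theorem algebraMap_tr [Fintype G] (hinj : Function.Injective (algebraMap A B)) (b : B) :
    algebraMap A B (tr A G hinj b) = ∑ g : G, g • b := by
  exact (exists_trace (A := A) (G := G) b).choose_spec.trans (finsum_eq_sum_of_fintype _)

end trace

section main

variable [Finite G] [Algebra.IsInvariant A B G]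

omit [Finite G] [Algebra.IsInvariant A B G] in
/-- the dual basis data -/
theorem exists_dual [DecidableEq G] (e : B ⊗[A] B)
    (he : ∀ g : G, mu A g e = if g = 1 then 1 else 0) :
    ∃ S : Finset (B × B), ∀ g : G, ∑ i ∈ S, i.1 * g • i.2 = if g = 1 then 1 else 0 := by
  obtain ⟨S, rfl⟩ := TensorProduct.exists_finset e
  refine ⟨S, fun g => ?_⟩
  rw [← he g, map_sum]
  simp

omit [Finite G] [Algebra.IsInvariant A B G] [SMulCommClass G A B] in
theorem sum_smul_mul_eq [DecidableEq G] {S : Finset (B × B)}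
    (hS : ∀ g : G, ∑ i ∈ S, i.1 * g • i.2 = if g = 1 then 1 else 0) (g : G) :
    ∑ i ∈ S, g • i.1 * i.2 = if g = 1 then 1 else 0 := by
  have h1 : ∑ i ∈ S, g • i.1 * i.2 = g • ∑ i ∈ S, i.1 * g⁻¹ • i.2 := by
    rw [Finset.smul_sum]
    refine Finset.sum_congr rfl fun i _ => ?_
    rw [smul_mul', smul_smul, mul_inv_cancel, one_smul]
  rw [h1, hS g⁻¹]
  by_cases hg : g = 1
  · subst hg; simp
  · have : g⁻¹ ≠ 1 := fun h => hg (inv_eq_one.mp h)
    simp [hg, this]

theorem dual_basis [Fintype G] [DecidableEq G] (hinj : Function.Injective (algebraMap A B))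
    {S : Finset (B × B)}
    (hS : ∀ g : G, ∑ i ∈ S, i.1 * g • i.2 = if g = 1 then 1 else 0) (c : B) :
    ∑ i ∈ S, tr A G hinj (c * i.1) • i.2 = c := by
  simp_rw [Algebra.smul_def, algebraMap_tr, Finset.sum_mul]
  rw [Finset.sum_comm]
  have : ∀ g : G, ∑ i ∈ S, g • (c * i.1) * i.2 = g • c * (if g = 1 then 1 else 0) := by
    intro g
    rw [← sum_smul_mul_eq hS g, Finset.mul_sum]
    refine Finset.sum_congr rfl fun i _ => ?_
    rw [smul_mul', mul_assoc]
  simp_rw [this]
  simp

/-- the key identity -/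
theorem key_identity [Fintype G] [DecidableEq G] (hinj : Function.Injective (algebraMap A B))
    {S : Finset (B × B)}
    (hS : ∀ g : G, ∑ i ∈ S, i.1 * g • i.2 = if g = 1 then 1 else 0) (z : B ⊗[A] B) :
    z = ∑ g : G, (mu A g z ⊗ₜ[A] (1 : B)) * ∑ i ∈ S, (g • i.1) ⊗ₜ[A] i.2 := by
  induction z using TensorProduct.induction_on with
  | zero => simp
  | add x y hx hy =>
    conv_lhs => rw [hx, hy]
    rw [← Finset.sum_add_distrib]
    refine Finset.sum_congr rfl fun g _ => ?_
    rw [map_add, TensorProduct.add_tmul, add_mul]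
  | tmul b c =>
    have h1 : ∀ g : G, (mu A g (b ⊗ₜ[A] c) ⊗ₜ[A] (1 : B)) * ∑ i ∈ S, (g • i.1) ⊗ₜ[A] i.2 =
        ∑ i ∈ S, (b * (g • (c * i.1))) ⊗ₜ[A] i.2 := by
      intro g
      rw [Finset.mul_sum]
      refine Finset.sum_congr rfl fun i _ => ?_
      rw [mu_tmul, Algebra.TensorProduct.tmul_mul_tmul, one_mul, smul_mul', mul_assoc]
    simp_rw [h1]
    rw [Finset.sum_comm]
    have h2 : ∀ i ∈ S, ∑ g : G, (b * (g • (c * i.1))) ⊗ₜ[A] i.2 =
        b ⊗ₜ[A] (tr A G hinj (c * i.1) • i.2) := by
      intro i _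
      rw [← TensorProduct.sum_tmul, ← Finset.mul_sum, ← algebraMap_tr hinj, mul_comm b,
        ← Algebra.smul_def, TensorProduct.smul_tmul]
    rw [Finset.sum_congr rfl h2, ← TensorProduct.tmul_sum, dual_basis hinj hS]

theorem eq_zero_of_mu_eq_zero (hfree : IsFreeAct G B)
    (hinj : Function.Injective (algebraMap A B)) (z : B ⊗[A] B) (hz : ∀ g : G, mu A g z = 0) :
    z = 0 := by
  classical
  cases nonempty_fintype G
  obtain ⟨e, he⟩ := exists_delta (A := A) hfree
  obtain ⟨S, hS⟩ := exists_dual e he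
  rw [key_identity hinj hS z]
  simp [hz]

theorem projective (hfree : IsFreeAct G B) (hinj : Function.Injective (algebraMap A B)) :
    Module.Projective A B ∧ Module.Finite A B := by
  classical
  cases nonempty_fintype G
  obtain ⟨e, he⟩ := exists_delta (A := A) hfree
  obtain ⟨S, hS⟩ := exists_dual e he
  let i : B →ₗ[A] (S → A) := LinearMap.pi fun j => (tr A G hinj).comp (LinearMap.mulRight A j.1.1)
  let s : (S → A) →ₗ[A] B := Fintype.linearCombination A (fun j : S => j.1.2)
  have hsi : s.comp i = LinearMap.id := by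
    ext c
    simp only [LinearMap.comp_apply, LinearMap.id_apply, s, i, Fintype.linearCombination_apply,
      LinearMap.pi_apply, LinearMap.mulRight_apply]
    rw [Finset.sum_coe_sort S (fun j => tr A G hinj (c * j.1) • j.2)]
    exact dual_basis hinj hS c
  refine ⟨Module.Projective.of_split i s hsi, ?_⟩
  apply Module.Finite.of_surjective s
  intro c
  exact ⟨i c, LinearMap.congr_fun hsi c⟩

theorem formallyUnramified (hfree : IsFreeAct G B) (hinj : Function.Injective (algebraMap A B)) :
    Algebra.FormallyUnramified A B := by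
  classical
  obtain ⟨e, he⟩ := exists_delta (A := A) hfree
  refine ⟨(Ideal.cotangent_subsingleton_iff _).mpr ?_⟩
  have hker : KaehlerDifferential.ideal A B = RingHom.ker (mu A (1 : G)) := by
    rw [mu_one_eq]
  rw [hker]
  refine le_antisymm Ideal.mul_le_right ?_
  intro t ht
  rw [RingHom.mem_ker] at ht
  have hte : t * e = 0 := by
    apply eq_zero_of_mu_eq_zero hfree hinj
    intro g
    rw [map_mul, he g]
    by_cases hg : g = 1
    · subst hg
      have : mu A (1 : G) t = 0 := ht
      rw [this, zero_mul]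
    · simp [hg]
  have h1e : (1 - e) ∈ RingHom.ker (mu A (1 : G)) := by
    rw [RingHom.mem_ker]
    have : mu A (1 : G) e = 1 := by simpa using he 1
    change mu A (1 : G) (1 - e) = 0
    rw [map_sub, map_one, this, sub_self]
  have : t = t * (1 - e) := by rw [mul_sub, mul_one, hte, sub_zero]
  rw [this]
  exact Ideal.mul_mem_mul ht h1e

theorem exists_smul_eq_of_ringHom (hfree : IsFreeAct G B)
    (hinj : Function.Injective (algebraMap A B)) {K : Type*} [CommRing K] [IsDomain K]
    (a₁ a₂ : B →+* K) (h : ∀ a : A, a₁ (algebraMap A B a) = a₂ (algebraMap A B a)) :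
    ∃ g : G, ∀ b : B, a₂ b = a₁ (g • b) := by
  classical
  cases nonempty_fintype G
  by_contra hcon
  push Not at hcon
  choose c hc using hcon
  letI : Algebra A K := (a₁.comp (algebraMap A B)).toAlgebra
  let a₁' : B →ₐ[A] K := { a₁ with commutes' := fun _ => rfl }
  let a₂' : B →ₐ[A] K := { a₂ with commutes' := fun a => (h a).symm }
  let θ : B ⊗[A] B →ₐ[A] K := Algebra.TensorProduct.productMap a₁' a₂'
  have hθ : ∀ b c : B, θ (b ⊗ₜ c) = a₁ b * a₂ c := fun b c => by
    simp [θ, a₁', a₂']
  let w : B ⊗[A] B := ∏ g : G, ((1 : B) ⊗ₜ[A] c g - (g • c g) ⊗ₜ[A] (1 : B))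
  have hw0 : w = 0 := by
    apply eq_zero_of_mu_eq_zero hfree hinj
    intro k
    rw [map_prod]
    apply Finset.prod_eq_zero (Finset.mem_univ k)
    simp
  have hw1 : θ w ≠ 0 := by
    rw [map_prod, Finset.prod_ne_zero_iff]
    intro g _
    rw [map_sub, hθ, hθ, map_one, map_one, one_mul, mul_one]
    exact sub_ne_zero.mpr (hc g)
  exact hw1 (by rw [hw0, map_zero])

end main

end Groth.Agent.R2.H23.GaloisAlg
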