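import Mathlib
import Groth.Prelude.Def_SGA1
import Groth.Agent.Lib.Helper20Quot
import Groth.Agent.Lib.Helper20QuotTop
import Groth.Agent.Lib.Helper20QuotRestrict
import Groth.Agent.R2.H23GaloisAlg

/-!
# Quotients by free actions of finite groups are Galois (SGA 1 V 2.6) (helper23)

Namespace `Groth.Agent.R2.H23.FreeQuot`.
-/

set_option autoImplicit false
universe u
open CategoryTheory CategoryTheory.Limits AlgebraicGeometry

namespace Groth.Agent.R2.H23.FreeQuot

open SGA1 Groth.Agent.Lib.Helper20 Groth.Agent.R2.H23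

/-! ### general scheme lemmas -/

theorem isOpenImmersion_of_section {X Y : Scheme.{u}} (q : X ⟶ Y)
    [IsOpenImmersion (pullback.diagonal q)] (s : Y ⟶ X) (hs : s ≫ q = 𝟙 Y) :
    IsOpenImmersion s := by
  have : (@IsOpenImmersion).HasOfPostcompProperty (MorphismProperty.diagonal @IsOpenImmersion) :=
    MorphismProperty.hasOfPostcompProperty_iff_le_diagonal.mpr le_rfl
  exact MorphismProperty.of_postcomp (W := @IsOpenImmersion)
    (W' := MorphismProperty.diagonal @IsOpenImmersion) s q ‹_› (by rw [hs]; infer_instance)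

theorem isIso_sigmaDesc_of {σ : Type u} {X : σ → Scheme.{u}} {S : Scheme.{u}}
    (f : ∀ i, X i ⟶ S) [∀ i, IsOpenImmersion (f i)]
    (hcov : ∀ z : S, ∃ i, z ∈ Set.range (f i))
    (hdisj : ∀ i j, i ≠ j → Disjoint (Set.range (f i)) (Set.range (f j))) :
    IsIso (Sigma.desc f) := by
  have h := nonempty_isColimit_cofanMk_of f (by
    rw [eq_top_iff]
    intro z _
    obtain ⟨i, hi⟩ := hcov z
    exact TopologicalSpace.Opens.mem_iSup.mpr ⟨i, hi⟩) (by
    intro i j hij
    have := hdisj i j hij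
    rw [Function.onFun, ← TopologicalSpace.Opens.coe_disjoint]
    exact this)
  exact (Cofan.nonempty_isColimit_iff_isIso_sigmaDesc (Cofan.mk S f)).mp h

/-- a property given by a local ring hom property holds for an affine morphism as soon as it
holds for the maps on sections over preimages of affine opens. -/
theorem of_app_of_isAffineHom {P : MorphismProperty Scheme.{u}}
    {Q : ∀ {R S : Type u} [CommRing R] [CommRing S], (R →+* S) → Prop}
    [HasRingHomProperty P Q] {X Y : Scheme.{u}} (p : X ⟶ Y) [IsAffineHom p]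
    (h : ∀ U : Y.Opens, IsAffineOpen U → Q (p.app U).hom) : P p := by
  rw [IsZariskiLocalAtTarget.iff_of_iSup_eq_top (P := P) _ (iSup_affineOpens_eq_top Y)]
  intro U
  haveI : IsAffine (p ⁻¹ᵁ U.1) := U.2.preimage p
  haveI : IsAffine U.1 := U.2
  rw [HasRingHomProperty.iff_of_isAffine (P := P)]
  have e₁ : U.1.ι ''ᵁ ⊤ = U.1 := by simp
  have e₂ : (p ⁻¹ᵁ U.1).ι ''ᵁ (p ∣_ U.1) ⁻¹ᵁ ⊤ = p ⁻¹ᵁ U.1 := by simp
  have key : Q (p.appLE (U.1.ι ''ᵁ ⊤) ((p ⁻¹ᵁ U.1).ι ''ᵁ (p ∣_ U.1) ⁻¹ᵁ ⊤)
      (image_morphismRestrict_preimage p U.1 ⊤).le).hom :=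
    (p.appLE_congr _ e₁ e₂ (fun f => Q f.hom)).mpr (by
      rw [← Scheme.Hom.app_eq_appLE]; exact h U.1 U.2)
  rw [Scheme.Hom.appTop, morphismRestrict_app']
  exact key

/-- the geometric point over `x`. -/
noncomputable def geomPt {X : Scheme.{u}} (x : X) :
    Spec (CommRingCat.of (AlgebraicClosure (X.residueField x))) ⟶ X :=
  Spec.map (CommRingCat.ofHom (algebraMap (X.residueField x) (AlgebraicClosure (X.residueField x))))
    ≫ X.fromSpecResidueField x

theorem geomPt_apply {X : Scheme.{u}} (x : X) (t) : geomPt x t = x := by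
  have : geomPt x t ∈ Set.range (X.fromSpecResidueField x) := ⟨_, rfl⟩
  rw [Scheme.range_fromSpecResidueField] at this
  exact this

theorem range_geomPt_comp {X Z : Scheme.{u}} (x : X) (f : X ⟶ Z) :
    Set.range (geomPt x ≫ f) ⊆ {f x} := by
  rintro _ ⟨t, rfl⟩
  rw [Scheme.Hom.comp_apply, geomPt_apply]
  rfl

section

variable {X Y : Scheme.{u}} {G : Type u} [Group G] [Finite G] {ρ : G →* Aut X} {p : X ⟶ Y}

/-! ### the local algebra -/

omit [Finite G] in
theorem isFreeAct (hp : IsQuot ρ p)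
    (hfree : ∀ (K : Type u) [Field K] [IsAlgClosed K] (ξ : Spec (CommRingCat.of K) ⟶ X) (g : G),
      ξ ≫ (ρ g).hom = ξ → g = 1) (U : Y.Opens) (hU : IsAffineOpen U) :
    letI := sectionAction ρ p hp.inv U
    GaloisAlg.IsFreeAct G Γ(X, p ⁻¹ᵁ U) := by
  letI := sectionAction ρ p hp.inv U
  intro g hg q hq
  by_contra hcon
  push Not at hcon
  haveI := hp.affine
  have hV : IsAffineOpen (p ⁻¹ᵁ U) := hU.preimage p
  letI := Ideal.Quotient.field q
  let K := AlgebraicClosure (Γ(X, p ⁻¹ᵁ U) ⧸ q)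
  let φ : Γ(X, p ⁻¹ᵁ U) →+* K := (algebraMap (Γ(X, p ⁻¹ᵁ U) ⧸ q) K).comp (Ideal.Quotient.mk q)
  have hφ : ∀ b, φ (g • b) = φ b := by
    intro b
    have h1 : Ideal.Quotient.mk q (g • b - b) = 0 := Ideal.Quotient.eq_zero_iff_mem.mpr (hcon b)
    have h2 : φ (g • b - b) = 0 := by
      change algebraMap _ K (Ideal.Quotient.mk q (g • b - b)) = 0
      rw [h1, map_zero]
    rw [map_sub, sub_eq_zero] at h2
    exact h2
  let ξ : Spec (CommRingCat.of K) ⟶ X := Spec.map (CommRingCat.ofHom φ) ≫ hV.fromSpec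
  have key : ξ ≫ (ρ g⁻¹).hom = ξ := by
    change (Spec.map (CommRingCat.ofHom φ) ≫ hV.fromSpec) ≫ (ρ g⁻¹).hom = _
    rw [Category.assoc, ← IsAffineOpen.SpecMap_appLE_fromSpec (ρ g⁻¹).hom hV hV
      (preimage_le_of_inv ρ p hp.inv g⁻¹ U), ← Spec.map_comp_assoc]
    congr 2
    ext b
    exact hφ b
  have := hfree K ξ g⁻¹ key
  exact hg (inv_eq_one.mp this)

theorem formallyUnramified_app (hp : IsQuot ρ p)
    (hfree : ∀ (K : Type u) [Field K] [IsAlgClosed K] (ξ : Spec (CommRingCat.of K) ⟶ X) (g : G),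
      ξ ≫ (ρ g).hom = ξ → g = 1) (U : Y.Opens) (hU : IsAffineOpen U) :
    (p.app U).hom.FormallyUnramified := by
  letI := (p.app U).hom.toAlgebra
  letI := sectionAction ρ p hp.inv U
  haveI := isInvariant hp U
  haveI := smulCommClass hp U
  exact GaloisAlg.formallyUnramified (G := G) (isFreeAct hp hfree U hU) (hp.injective U)

theorem flat_app (hp : IsQuot ρ p)
    (hfree : ∀ (K : Type u) [Field K] [IsAlgClosed K] (ξ : Spec (CommRingCat.of K) ⟶ X) (g : G),
      ξ ≫ (ρ g).hom = ξ → g = 1) (U : Y.Opens) (hU : IsAffineOpen U) :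
    (p.app U).hom.Flat := by
  letI := (p.app U).hom.toAlgebra
  letI := sectionAction ρ p hp.inv U
  haveI := isInvariant hp U
  haveI := smulCommClass hp U
  haveI := (GaloisAlg.projective (G := G) (isFreeAct hp hfree U hU) (hp.injective U)).1
  change Module.Flat Γ(Y, U) Γ(X, p ⁻¹ᵁ U)
  infer_instance

theorem exists_act_eq (hp : IsQuot ρ p)
    (hfree : ∀ (K : Type u) [Field K] [IsAlgClosed K] (ξ : Spec (CommRingCat.of K) ⟶ X) (g : G),
      ξ ≫ (ρ g).hom = ξ → g = 1) (U : Y.Opens) (hU : IsAffineOpen U)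
    {K : CommRingCat.{u}} [IsDomain K] (a₁ a₂ : Γ(X, p ⁻¹ᵁ U) ⟶ K)
    (h : p.app U ≫ a₁ = p.app U ≫ a₂) :
    ∃ g : G, a₂ = (ρ g).hom.appLE (p ⁻¹ᵁ U) (p ⁻¹ᵁ U) (preimage_le_of_inv ρ p hp.inv g U) ≫ a₁ := by
  letI := (p.app U).hom.toAlgebra
  letI := sectionAction ρ p hp.inv U
  haveI := isInvariant hp U
  haveI := smulCommClass hp U
  obtain ⟨g, hg⟩ := GaloisAlg.exists_smul_eq_of_ringHom (G := G) (isFreeAct hp hfree U hU)
    (hp.injective U) a₁.hom a₂.hom (fun a => by
      have := congrArg (fun f => f.hom a) h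
      exact this)
  refine ⟨g⁻¹, ?_⟩
  ext b
  exact hg b

/-! ### global consequences -/

theorem formallyUnramified (hp : IsQuot ρ p)
    (hfree : ∀ (K : Type u) [Field K] [IsAlgClosed K] (ξ : Spec (CommRingCat.of K) ⟶ X) (g : G),
      ξ ≫ (ρ g).hom = ξ → g = 1) : FormallyUnramified p := by
  haveI := hp.affine
  exact of_app_of_isAffineHom (P := @FormallyUnramified) p (formallyUnramified_app hp hfree)

theorem flat (hp : IsQuot ρ p)
    (hfree : ∀ (K : Type u) [Field K] [IsAlgClosed K] (ξ : Spec (CommRingCat.of K) ⟶ X) (g : G),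
      ξ ≫ (ρ g).hom = ξ → g = 1) : Flat p := by
  haveI := hp.affine
  exact of_app_of_isAffineHom (P := @Flat) p (flat_app hp hfree)

omit [Finite G] in
theorem rho_comp_inv (ρ : G →* Aut X) (h : G) : (ρ h).hom ≫ (ρ h⁻¹).hom = 𝟙 X := by
  rw [← rho_mul_hom, inv_mul_cancel, rho_one_hom]

omit [Finite G] in
/-- a geometric point fixed by `ρ g` up to `ρ h` forces `g = h`. -/
theorem eq_of_geomPt_comp_eq
    (hfree : ∀ (K : Type u) [Field K] [IsAlgClosed K] (ξ : Spec (CommRingCat.of K) ⟶ X) (g : G),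
      ξ ≫ (ρ g).hom = ξ → g = 1) {K : Type u} [Field K] [IsAlgClosed K]
    (ξ : Spec (CommRingCat.of K) ⟶ X) (g h : G) (e : ξ ≫ (ρ g).hom = ξ ≫ (ρ h).hom) : g = h := by
  have h1 : ξ ≫ (ρ (h⁻¹ * g)).hom = ξ := by
    rw [rho_mul_hom, ← Category.assoc, e, Category.assoc, rho_comp_inv, Category.comp_id]
  have := hfree K ξ (h⁻¹ * g) h1
  exact (inv_mul_eq_one.mp this).symm

/-- SGA 1 V 2.6 (i) ⇒ (iii). -/
theorem main_pseudoTorsor (hp : IsQuot ρ p) [IsFinite p]
    (hfree : ∀ (K : Type u) [Field K] [IsAlgClosed K] (ξ : Spec (CommRingCat.of K) ⟶ X) (g : G),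
      ξ ≫ (ρ g).hom = ξ → g = 1) :
    IsIso (Sigma.desc (fun g : G => pullback.lift (𝟙 X) (ρ g).hom
      ((Category.id_comp p).trans (hp.inv g).symm)) : (∐ fun _ : G => X) ⟶ pullback p p) ∧
      Flat p ∧ Surjective p := by
  haveI := hp.affine
  haveI hunr : FormallyUnramified p := formallyUnramified hp hfree
  refine ⟨?_, flat hp hfree, ⟨surjective_of_isQuot hp⟩⟩
  let f : G → (X ⟶ pullback p p) := fun g => pullback.lift (𝟙 X) (ρ g).hom
      ((Category.id_comp p).trans (hp.inv g).symm)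
  have hf1 : ∀ g, f g ≫ pullback.fst p p = 𝟙 X := fun g => pullback.lift_fst _ _ _
  have hf2 : ∀ g, f g ≫ pullback.snd p p = (ρ g).hom := fun g => pullback.lift_snd _ _ _
  haveI : FormallyUnramified (pullback.fst p p) := MorphismProperty.pullback_fst _ _ hunr
  haveI hopen : ∀ g, IsOpenImmersion (f g) := fun g =>
    isOpenImmersion_of_section (pullback.fst p p) (f g) (hf1 g)
  change IsIso (Sigma.desc f)
  apply isIso_sigmaDesc_of f
  · -- covering
    intro z
    let Z := pullback p p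
    let ζ := Z.fromSpecResidueField z
    obtain ⟨U, hU, hyU⟩ := exists_affine_nhd Y ((pullback.fst p p ≫ p) z)
    have hV : IsAffineOpen (p ⁻¹ᵁ U) := hU.preimage p
    have hr1 : Set.range (ζ ≫ pullback.fst p p) ⊆ Set.range hV.fromSpec := by
      rw [hV.range_fromSpec]
      rintro _ ⟨t, rfl⟩
      have ht : ζ t = z := by
        have : ζ t ∈ Set.range (Z.fromSpecResidueField z) := ⟨t, rfl⟩
        rw [Scheme.range_fromSpecResidueField] at this
        exact this
      rw [Scheme.Hom.comp_apply, ht]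
      exact hyU
    have hr2 : Set.range (ζ ≫ pullback.snd p p) ⊆ Set.range hV.fromSpec := by
      rw [hV.range_fromSpec]
      rintro _ ⟨t, rfl⟩
      have ht : ζ t = z := by
        have : ζ t ∈ Set.range (Z.fromSpecResidueField z) := ⟨t, rfl⟩
        rw [Scheme.range_fromSpecResidueField] at this
        exact this
      rw [Scheme.Hom.comp_apply, ht]
      change (pullback.snd p p ≫ p) z ∈ U
      rw [← pullback.condition]
      exact hyU
    let l₁ := IsOpenImmersion.lift hV.fromSpec (ζ ≫ pullback.fst p p) hr1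
    let l₂ := IsOpenImmersion.lift hV.fromSpec (ζ ≫ pullback.snd p p) hr2
    have hl₁ : Spec.map (Spec.preimage l₁) ≫ hV.fromSpec = ζ ≫ pullback.fst p p := by
      rw [Spec.map_preimage]; exact IsOpenImmersion.lift_fac _ _ _
    have hl₂ : Spec.map (Spec.preimage l₂) ≫ hV.fromSpec = ζ ≫ pullback.snd p p := by
      rw [Spec.map_preimage]; exact IsOpenImmersion.lift_fac _ _ _
    have hagree : p.app U ≫ Spec.preimage l₁ = p.app U ≫ Spec.preimage l₂ := by
      apply Spec.map_injective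
      rw [← cancel_mono hU.fromSpec]
      have hsq : Spec.map (p.app U) ≫ hU.fromSpec = hV.fromSpec ≫ p := by
        rw [Scheme.Hom.app_eq_appLE]
        exact IsAffineOpen.SpecMap_appLE_fromSpec p hU hV le_rfl
      rw [Spec.map_comp, Spec.map_comp, Category.assoc, Category.assoc, hsq, reassoc_of% hl₁,
        reassoc_of% hl₂, pullback.condition]
    haveI : IsDomain (CommRingCat.of (Z.residueField z)) :=
      inferInstanceAs (IsDomain (Z.residueField z))
    obtain ⟨g, hg⟩ := exists_act_eq hp hfree U hU (Spec.preimage l₁) (Spec.preimage l₂) hagree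
    refine ⟨g, ?_⟩
    have h2 : ζ ≫ pullback.snd p p = (ζ ≫ pullback.fst p p) ≫ (ρ g).hom := by
      rw [← hl₂, hg, Spec.map_comp, Category.assoc,
        IsAffineOpen.SpecMap_appLE_fromSpec (ρ g).hom hV hV, reassoc_of% hl₁, Category.assoc]
    have hζ : ζ = (ζ ≫ pullback.fst p p) ≫ f g := by
      apply pullback.hom_ext
      · rw [Category.assoc, hf1, Category.comp_id]
      · rw [Category.assoc, hf2, h2]
    have hz : z ∈ Set.range ζ := by
      rw [Scheme.range_fromSpecResidueField]; rfl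
    obtain ⟨t, ht⟩ := hz
    refine ⟨(ζ ≫ pullback.fst p p) t, ?_⟩
    rw [← Scheme.Hom.comp_apply, ← hζ, ht]
  · -- disjointness
    intro g h hgh
    rw [Set.disjoint_iff]
    rintro z ⟨⟨x, rfl⟩, ⟨x', hx'⟩⟩
    apply hgh
    have hxx' : x' = x := by
      have := congrArg (pullback.fst p p) hx'
      rw [← Scheme.Hom.comp_apply, ← Scheme.Hom.comp_apply, hf1, hf1] at this
      exact this
    subst hxx'
    let ξ := geomPt x'
    have hr : Set.range (ξ ≫ f g) ⊆ Set.range (f h) := by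
      refine (range_geomPt_comp x' (f g)).trans ?_
      rintro _ rfl
      exact ⟨x', hx'⟩
    let η := IsOpenImmersion.lift (f h) (ξ ≫ f g) hr
    have hη : η ≫ f h = ξ ≫ f g := IsOpenImmersion.lift_fac _ _ _
    have hηξ : η = ξ := by
      have := congrArg (· ≫ pullback.fst p p) hη
      simpa only [Category.assoc, hf1, Category.comp_id] using this
    have := congrArg (· ≫ pullback.snd p p) hη
    simp only [Category.assoc, hf2, hηξ] at this
    exact (eq_of_geomPt_comp_eq hfree ξ h g this).symm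

/-- SGA 1 V 2.6: a quotient by a free action with a section is trivial. -/
theorem main_trivial (hp : IsQuot ρ p) [IsFinite p]
    (hfree : ∀ (K : Type u) [Field K] [IsAlgClosed K] (ξ : Spec (CommRingCat.of K) ⟶ X) (g : G),
      ξ ≫ (ρ g).hom = ξ → g = 1) (s : Y ⟶ X) (hs : s ≫ p = 𝟙 Y) :
    IsIso (Sigma.desc (fun g : G => s ≫ (ρ g).hom) : (∐ fun _ : G => Y) ⟶ X) := by
  haveI := hp.affine
  haveI hunr : FormallyUnramified p := formallyUnramified hp hfree
  haveI : IsOpenImmersion s := isOpenImmersion_of_section p s hs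
  apply isIso_sigmaDesc_of (fun g : G => s ≫ (ρ g).hom)
  · intro x
    have h1 : p (s (p x)) = p x := by
      rw [← Scheme.Hom.comp_apply, hs]; rfl
    obtain ⟨g, hg⟩ := (fibre_iff_orbit hp (s (p x)) x).mp h1
    exact ⟨g, p x, by rw [Scheme.Hom.comp_apply]; exact hg⟩
  · intro g h hgh
    rw [Set.disjoint_iff]
    rintro x ⟨⟨y, rfl⟩, ⟨y', hy'⟩⟩
    apply hgh
    have hyy' : y' = y := by
      have := congrArg p hy'
      rw [← Scheme.Hom.comp_apply, ← Scheme.Hom.comp_apply, Category.assoc, Category.assoc,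
        hp.inv, hp.inv, hs] at this
      exact this
    subst hyy'
    let ξ := geomPt y'
    have hr : Set.range ((ξ ≫ s) ≫ (ρ g).hom ≫ (ρ h⁻¹).hom) ⊆ Set.range s := by
      rw [← Category.assoc, Category.assoc ξ]
      refine (range_geomPt_comp y' ((s ≫ (ρ g).hom) ≫ (ρ h⁻¹).hom)).trans ?_
      rintro _ rfl
      refine ⟨y', ?_⟩
      rw [Scheme.Hom.comp_apply, ← hy', ← Scheme.Hom.comp_apply, Category.assoc, rho_comp_inv,
        Category.comp_id]
    let η := IsOpenImmersion.lift s _ hr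
    have hη : η ≫ s = (ξ ≫ s) ≫ (ρ g).hom ≫ (ρ h⁻¹).hom := IsOpenImmersion.lift_fac _ _ _
    have hηξ : η = ξ := by
      have := congrArg (· ≫ p) hη
      simpa only [Category.assoc, hp.inv, hs, Category.comp_id] using this
    rw [hηξ] at hη
    have h3 : (ξ ≫ s) ≫ (ρ g).hom = (ξ ≫ s) ≫ (ρ h).hom := by
      have := congrArg (· ≫ (ρ h).hom) hη
      simp only [Category.assoc] at this
      rw [← rho_mul_hom ρ h h⁻¹, mul_inv_cancel, rho_one_hom, Category.comp_id] at this
      simpa only [Category.assoc] using this.symm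
    exact eq_of_geomPt_comp_eq hfree (ξ ≫ s) g h h3

end

end Groth.Agent.R2.H23.FreeQuot
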