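import Groth.Agent.Lib.Helper16Glue
import Groth.Agent.Lib.Helper16BL
import Groth.Agent.Lib.Helper16Flat
import Groth.Agent.Lib.Helper16FP
import Groth.Agent.Lib.Helper13BCTor
import Groth.Agent.S2004
import Mathlib.RingTheory.RingHom.Flat
import Mathlib.RingTheory.RingHom.FinitePresentation
import Mathlib.RingTheory.RingHom.Etale
import Mathlib.RingTheory.RingHom.Unramified
import Mathlib.RingTheory.Localization.Algebra

/-!
Helper library (helper23): for a pair `(R → R', f)` with `R/fⁿ ≅ R'/fⁿ` and a glueable
`R`-algebra `A`, `(A → R' ⊗[R] A, f)` is again a glueing pair (`isGlueingPair_tensor`).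
Consequences for an `R`-algebra map `φ : A → B`: flatness (`ringHom_flat_of_loc_of_tensor`),
finite presentation for flat maps (`ringHom_fp_of_loc_of_tensor`), formal unramifiedness
(`ringHom_formallyUnramified_of_loc_of_tensor`) and étaleness (`ringHom_etale_of_loc_of_tensor`)
can be checked after inverting `f` and after base change to `R'`.
-/

namespace Groth.Agent.R2.H23.GluePair

open TensorProduct

universe u

attribute [local instance] Algebra.TensorProduct.rightAlgebra

section Pair

variable {R R' : Type u} [CommRing R] [CommRing R'] [Algebra R R'] {f : R}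
variable {A : Type u} [CommRing A] [Algebra R A]

theorem algebraMap_mul_eq_smul (r : R) (x : R' ⊗[R] A) :
    algebraMap A (R' ⊗[R] A) (algebraMap R A r) * x = r • x := by
  rw [Algebra.TensorProduct.right_algebraMap_apply, Algebra.algebraMap_eq_smul_one,
    TensorProduct.tmul_smul, smul_mul_assoc, ← Algebra.TensorProduct.one_def, one_mul]

theorem pow_smul_tensor_eq_zero {M : Type u} [AddCommGroup M] [Module R M] (r : R)
    (hM : ∀ m : M, r • m = 0) (z : R' ⊗[R] M) : r • z = 0 := by
  induction z using TensorProduct.induction_on with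
  | zero => simp
  | tmul r' m => rw [TensorProduct.smul_tmul', TensorProduct.smul_tmul, hM, TensorProduct.tmul_zero]
  | add x y hx hy => rw [smul_add, hx, hy, add_zero]

theorem quotPowBijective_tensor (hq : EtGlue.QuotPowBijective R R' f) :
    EtGlue.QuotPowBijective A (R' ⊗[R] A) (algebraMap R A f) := by
  intro n hn
  constructor
  · rw [injective_iff_map_eq_zero]
    intro x hx
    obtain ⟨a, rfl⟩ := Ideal.Quotient.mk_surjective x
    rw [Ideal.quotientMap_mk, Ideal.Quotient.eq_zero_iff_mem, Ideal.map_span, Set.image_singleton,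
      Ideal.mem_span_singleton'] at hx
    obtain ⟨y, hy⟩ := hx
    rw [← map_pow, mul_comm, algebraMap_mul_eq_smul] at hy
    -- torsion module
    set I : Ideal A := Ideal.span {algebraMap R A f ^ n} with hI
    have hM : ∀ m : A ⧸ I, ∃ k : ℕ, f ^ k • m = 0 := by
      intro m
      obtain ⟨b, rfl⟩ := Ideal.Quotient.mk_surjective m
      refine ⟨n, ?_⟩
      rw [← Ideal.Quotient.mk_eq_mk, ← Submodule.Quotient.mk_smul, Ideal.Quotient.mk_eq_mk,
        Ideal.Quotient.eq_zero_iff_mem, hI, Ideal.mem_span_singleton', Algebra.smul_def, map_pow]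
      exact ⟨b, mul_comm _ _⟩
    have hM' : ∀ m : A ⧸ I, f ^ n • m = 0 := by
      intro m
      obtain ⟨b, rfl⟩ := Ideal.Quotient.mk_surjective m
      rw [← Ideal.Quotient.mk_eq_mk, ← Submodule.Quotient.mk_smul, Ideal.Quotient.mk_eq_mk,
        Ideal.Quotient.eq_zero_iff_mem, hI, Ideal.mem_span_singleton', Algebra.smul_def, map_pow]
      exact ⟨b, mul_comm _ _⟩
    have hinj := Groth.Agent.Lib.Helper16.mk_one_injective_of_torsion hq hM
    apply hinj
    rw [map_zero]
    let q : A →ₗ[R] A ⧸ I := (Submodule.mkQ I).restrictScalars R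
    have : TensorProduct.mk R R' (A ⧸ I) 1 (Ideal.Quotient.mk I a) = q.lTensor R' (1 ⊗ₜ[R] a) := rfl
    rw [this, ← Algebra.TensorProduct.right_algebraMap_apply, ← hy, map_smul]
    exact pow_smul_tensor_eq_zero _ hM' _
  · intro x
    obtain ⟨x, rfl⟩ := Ideal.Quotient.mk_surjective x
    induction x using TensorProduct.induction_on with
    | zero => exact ⟨0, by simp⟩
    | tmul r' a0 =>
      obtain ⟨r, s', e⟩ := Groth.Agent.Lib.Helper16.quotPow_surj hq hn r'
      refine ⟨Ideal.Quotient.mk _ (r • a0), ?_⟩
      rw [Ideal.quotientMap_mk, Ideal.Quotient.eq, Ideal.map_span, Set.image_singleton,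
        Ideal.mem_span_singleton']
      refine ⟨-(s' ⊗ₜ[R] a0), ?_⟩
      rw [← map_pow, mul_comm, algebraMap_mul_eq_smul, Algebra.TensorProduct.right_algebraMap_apply, e,
        TensorProduct.add_tmul, TensorProduct.tmul_smul, smul_neg, TensorProduct.smul_tmul',
        TensorProduct.smul_tmul']
      simp only [Algebra.smul_def, map_pow, mul_one]
      abel
    | add x y hx hy =>
      obtain ⟨a, ha⟩ := hx
      obtain ⟨b, hb⟩ := hy
      exact ⟨a + b, by rw [map_add, ha, hb, map_add]⟩

theorem isGlueingPair_tensor (hq : EtGlue.QuotPowBijective R R' f)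
    (hA : EtGlue.IsGlueable R R' f A) :
    EtGlue.IsGlueingPair A (R' ⊗[R] A) (algebraMap R A f) := by
  rw [Groth.Agent.S2004.result A (R' ⊗[R] A) (algebraMap R A f) (quotPowBijective_tensor hq)]
  obtain ⟨h1, h2⟩ := Groth.Agent.Lib.Helper16.torsion_of_isGlueable hA
  constructor
  · rintro x ⟨n, hn⟩ hx
    refine h1 x ⟨n, ?_⟩ hx
    rw [Algebra.smul_def, map_pow]; exact hn
  · rintro x' ⟨n, hn⟩
    rw [← map_pow, ← map_pow, algebraMap_mul_eq_smul] at hn
    obtain ⟨m, ⟨k, hk⟩, hm⟩ := h2 x' ⟨n, hn⟩
    refine ⟨m, ⟨k, ?_⟩, hm⟩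
    rw [← map_pow, ← Algebra.smul_def]; exact hk

end Pair

section Flat

variable {R R' : Type u} [CommRing R] [CommRing R'] [Algebra R R'] {f : R}
variable {A B : Type u} [CommRing A] [CommRing B] [Algebra R A] [Algebra R B]

theorem ringHom_flat_of_loc_of_tensor (hq : EtGlue.QuotPowBijective R R' f)
    (hA : EtGlue.IsGlueable R R' f A) (φ : A →ₐ[R] B)
    (h1 : (Localization.awayMap φ.toRingHom (algebraMap R A f)).Flat)
    (h2 : (Algebra.TensorProduct.map (AlgHom.id R R') φ).toRingHom.Flat) :
    φ.toRingHom.Flat := by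
  have hpair := isGlueingPair_tensor hq hA
  let _ : Algebra A B := φ.toRingHom.toAlgebra
  have : IsScalarTower R A B := IsScalarTower.of_algebraMap_eq' (by
    ext r
    simp [RingHom.algebraMap_toAlgebra])
  set a : A := algebraMap R A f with ha
  -- localization side
  let _ : Algebra (Localization.Away a) (Localization.Away (φ.toRingHom a)) :=
    (Localization.awayMap φ.toRingHom a).toAlgebra
  have : IsScalarTower A (Localization.Away a) (Localization.Away (φ.toRingHom a)) :=
    IsScalarTower.of_algebraMap_eq'
      (IsLocalization.map_comp (Submonoid.powers a).le_comap_map).symm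
  have : IsLocalization (Algebra.algebraMapSubmonoid B (Submonoid.powers a))
      (Localization.Away (φ.toRingHom a)) := by
    rw [Algebra.algebraMapSubmonoid, Submonoid.map_powers]
    exact Localization.isLocalization
  have hloc : IsLocalizedModule (Submonoid.powers a)
      (IsScalarTower.toAlgHom A B (Localization.Away (φ.toRingHom a))).toLinearMap :=
    isLocalizedModule_iff_isLocalization.mpr this
  have hflat1 : Module.Flat (Localization.Away a) (Localization.Away (φ.toRingHom a)) := h1
  let e1 : LocalizedModule (Submonoid.powers a) B ≃ₗ[A] Localization.Away (φ.toRingHom a) :=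
    IsLocalizedModule.linearEquiv (Submonoid.powers a)
      (LocalizedModule.mkLinearMap (Submonoid.powers a) B)
      (IsScalarTower.toAlgHom A B (Localization.Away (φ.toRingHom a))).toLinearMap
  let e1' : LocalizedModule (Submonoid.powers a) B ≃ₗ[Localization.Away a]
      Localization.Away (φ.toRingHom a) :=
    LinearEquiv.extendScalarsOfIsLocalization (Submonoid.powers a) (Localization.Away a) e1
  have : Module.Flat (Localization.Away a) (LocalizedModule (Submonoid.powers a) B) :=
    Module.Flat.of_linearEquiv e1'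
  -- tensor side
  let _ : Algebra (R' ⊗[R] A) (R' ⊗[R] B) :=
    (Algebra.TensorProduct.map (AlgHom.id R R') φ).toRingHom.toAlgebra
  let _ : Algebra A (R' ⊗[R] B) := ((algebraMap B (R' ⊗[R] B)).comp (algebraMap A B)).toAlgebra
  have : IsScalarTower A B (R' ⊗[R] B) := IsScalarTower.of_algebraMap_eq' rfl
  have : IsScalarTower A (R' ⊗[R] A) (R' ⊗[R] B) := IsScalarTower.of_algebraMap_eq' (by
    ext x
    simp [RingHom.algebraMap_toAlgebra])
  have : IsScalarTower R (R' ⊗[R] A) (R' ⊗[R] B) := IsScalarTower.of_algebraMap_eq' (by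
    ext r
    simp [RingHom.algebraMap_toAlgebra])
  have : IsScalarTower R' (R' ⊗[R] A) (R' ⊗[R] B) := IsScalarTower.of_algebraMap_eq' (by
    ext r
    simp [RingHom.algebraMap_toAlgebra])
  have hpo : Algebra.IsPushout A B (R' ⊗[R] A) (R' ⊗[R] B) :=
    (Algebra.IsPushout.comp_iff R A R' (R' ⊗[R] A) (T := B) (T' := R' ⊗[R] B)).mp inferInstance
  have hpo' : Algebra.IsPushout A (R' ⊗[R] A) B (R' ⊗[R] B) := hpo.symm
  have hflat2 : Module.Flat (R' ⊗[R] A) (R' ⊗[R] B) := h2
  have : Module.Flat (R' ⊗[R] A) ((R' ⊗[R] A) ⊗[A] B) :=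
    Module.Flat.of_linearEquiv (Algebra.IsPushout.equiv A (R' ⊗[R] A) B (R' ⊗[R] B)).toLinearEquiv
  exact Groth.Agent.Lib.Helper16.flat_of_glueingPair (R := A) (R' := R' ⊗[R] A) (f := a) (M := B) hpair

end Flat

section FPloc

theorem exists_finset_ker_loc {A B : Type u} [CommRing A] [CommRing B] [Algebra A B] (a : A)
    (h1 : (Localization.awayMap (algebraMap A B) a).FinitePresentation)
    {n : ℕ} (π : MvPolynomial (Fin n) A →ₐ[A] B) (hπ : Function.Surjective π) :
    ∃ s : Finset (RingHom.ker π.toRingHom), ∀ x : RingHom.ker π.toRingHom, ∃ k : ℕ,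
      (algebraMap A (MvPolynomial (Fin n) A) a) ^ k • x ∈
        Submodule.span (MvPolynomial (Fin n) A) (s : Set (RingHom.ker π.toRingHom)) := by
  classical
  set P := MvPolynomial (Fin n) A with hP
  set p : P := algebraMap A P a with hp
  set b : B := algebraMap A B a with hb
  have hpb : π.toRingHom p = b := π.commutes a
  let _ : Algebra (Localization.Away a) (Localization.Away p) :=
    (Localization.awayMap (algebraMap A P) a).toAlgebra
  let _ : Algebra (Localization.Away a) (Localization.Away b) :=
    (Localization.awayMap (algebraMap A B) a).toAlgebra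
  have hfpP : Algebra.FinitePresentation (Localization.Away a) (Localization.Away p) :=
    RingHom.finitePresentation_localizationPreserves.away (algebraMap A P) a _ _
      (RingHom.finitePresentation_algebraMap.mpr inferInstance)
  have hfpB : Algebra.FinitePresentation (Localization.Away a) (Localization.Away b) := h1
  have hloc : IsLocalization ((Submonoid.powers p).map π.toRingHom) (Localization.Away b) := by
    rw [Submonoid.map_powers, hpb]; exact Localization.isLocalization
  let πf : Localization.Away p →+* Localization.Away b :=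
    IsLocalization.map (Localization.Away b) π.toRingHom (Submonoid.powers p).le_comap_map
  have hπf : Function.Surjective πf :=
    IsLocalization.map_surjective_of_surjective (Submonoid.powers p) (Localization.Away p)
      (Localization.Away b) hπ
  have hcomm : πf.comp (Localization.awayMap (algebraMap A P) a) =
      Localization.awayMap (algebraMap A B) a := by
    apply IsLocalization.ringHom_ext (Submonoid.powers a)
    ext x
    have e1 : Localization.awayMap (algebraMap A P) a (algebraMap A (Localization.Away a) x) =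
        algebraMap P (Localization.Away p) (algebraMap A P x) :=
      IsLocalization.map_eq (M := Submonoid.powers a) (S := Localization.Away a)
        (T := Submonoid.powers p) (Q := Localization.Away p) _ x
    have e2 : Localization.awayMap (algebraMap A B) a (algebraMap A (Localization.Away a) x) =
        algebraMap B (Localization.Away b) (algebraMap A B x) :=
      IsLocalization.map_eq (M := Submonoid.powers a) (S := Localization.Away a)
        (T := Submonoid.powers b) (Q := Localization.Away b) _ x
    have e3 : πf (algebraMap P (Localization.Away p) (algebraMap A P x)) =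
        algebraMap B (Localization.Away b) (π.toRingHom (algebraMap A P x)) :=
      IsLocalization.map_eq _ _
    rw [RingHom.comp_apply, RingHom.comp_apply, e1, RingHom.comp_apply, e2, e3]
    exact congrArg _ (π.commutes x)
  let πfA : Localization.Away p →ₐ[Localization.Away a] Localization.Away b :=
    { πf with commutes' := fun r => congrArg (fun g => g r) hcomm }
  have hker : (RingHom.ker πf).FG :=
    Algebra.FinitePresentation.ker_fG_of_surjective πfA hπf
  have : Module.Finite (Localization.Away p) (RingHom.ker πf) := Module.Finite.iff_fg.mpr hker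
  have := RingHom.toKerIsLocalization_isLocalizedModule (S := Localization.Away p)
    (M := Submonoid.powers p) (Localization.Away b) π.toRingHom rfl
  exact Groth.Agent.Lib.Helper16.exists_finset_pow_smul_mem_span p (Aₚ := Localization.Away p)
    (RingHom.toKerIsLocalization (Localization.Away p) (Localization.Away b) π.toRingHom
      (Submonoid.powers p).le_comap_map)

end FPloc

section FP

variable {R R' : Type u} [CommRing R] [CommRing R'] [Algebra R R'] {f : R}

theorem mul_mem_image {P : Type u} [CommRing P] [Algebra R P] (I : Ideal P) (J : Submodule P I)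
    (c : R' ⊗[R] P) (w : R' ⊗[R] (J.restrictScalars R)) :
    ∃ w' : R' ⊗[R] (J.restrictScalars R),
      c * ((I.subtype.restrictScalars R).lTensor R' ((J.restrictScalars R).subtype.lTensor R' w)) =
        (I.subtype.restrictScalars R).lTensor R' ((J.restrictScalars R).subtype.lTensor R' w') := by
  induction c using TensorProduct.induction_on with
  | zero => exact ⟨0, by simp⟩
  | add c₁ c₂ h₁ h₂ =>
    obtain ⟨w₁, hw₁⟩ := h₁
    obtain ⟨w₂, hw₂⟩ := h₂
    exact ⟨w₁ + w₂, by rw [add_mul, hw₁, hw₂, map_add, map_add]⟩
  | tmul r' q =>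
    induction w using TensorProduct.induction_on with
    | zero => exact ⟨0, by simp⟩
    | add y₁ y₂ h₁ h₂ =>
      obtain ⟨w₁, hw₁⟩ := h₁
      obtain ⟨w₂, hw₂⟩ := h₂
      exact ⟨w₁ + w₂, by simp only [map_add, mul_add, hw₁, hw₂]⟩
    | tmul r'' j =>
      refine ⟨(r' * r'') ⊗ₜ[R] ⟨q • (j : I), J.smul_mem q j.2⟩, ?_⟩
      simp

variable {A B : Type u} [CommRing A] [CommRing B] [Algebra R A] [Algebra R B]

theorem ringHom_fp_of_loc_of_tensor (hq : EtGlue.QuotPowBijective R R' f) (φ : A →ₐ[R] B)
    (hflat : φ.toRingHom.Flat)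
    (h1 : (Localization.awayMap φ.toRingHom (algebraMap R A f)).FinitePresentation)
    (h2 : (Algebra.TensorProduct.map (AlgHom.id R R') φ).toRingHom.FinitePresentation) :
    φ.toRingHom.FinitePresentation := by
  classical
  have hft : φ.toRingHom.FiniteType :=
    Groth.Agent.Lib.Helper16.ringHom_finiteType_of_loc_of_tensor hq φ
      (RingHom.FiniteType.of_finitePresentation h1) (RingHom.FiniteType.of_finitePresentation h2)
  let _ : Algebra A B := φ.toRingHom.toAlgebra
  have : IsScalarTower R A B := IsScalarTower.of_algebraMap_eq' (by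
    ext r
    simp [RingHom.algebraMap_toAlgebra])
  have hftA : Algebra.FiniteType A B := hft
  have hflatA : Module.Flat A B := hflat
  obtain ⟨n, π, hπ⟩ := Algebra.FiniteType.iff_quotient_mvPolynomial''.mp hftA
  set a : A := algebraMap R A f with ha
  obtain ⟨s₁, hs₁⟩ := exists_finset_ker_loc a h1 π hπ
  -- tensor side
  let P := MvPolynomial (Fin n) A
  let I : Ideal P := RingHom.ker π.toRingHom
  let φP : A →ₐ[R] P := IsScalarTower.toAlgHom R A P
  let πR : P →ₐ[R] B := π.restrictScalars R
  have hπφ : πR.comp φP = φ := by ext x; exact π.commutes x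
  let _ : Algebra (R' ⊗[R] A) (R' ⊗[R] P) :=
    (Algebra.TensorProduct.map (AlgHom.id R R') φP).toRingHom.toAlgebra
  let _ : Algebra (R' ⊗[R] A) (R' ⊗[R] B) :=
    (Algebra.TensorProduct.map (AlgHom.id R R') φ).toRingHom.toAlgebra
  have hfpP' : Algebra.FinitePresentation (R' ⊗[R] A) (R' ⊗[R] P) :=
    Groth.Agent.Lib.Helper16.tensorMap_of_isStableUnderBaseChange
      RingHom.finitePresentation_isStableUnderBaseChange R' φP
      (RingHom.finitePresentation_algebraMap.mpr inferInstance)
  have hfpB' : Algebra.FinitePresentation (R' ⊗[R] A) (R' ⊗[R] B) := h2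
  let πT : R' ⊗[R] P →ₐ[R] R' ⊗[R] B := Algebra.TensorProduct.map (AlgHom.id R R') πR
  have hπTl : ∀ x, πT x = πR.toLinearMap.lTensor R' x := by
    intro x
    induction x using TensorProduct.induction_on with
    | zero => simp
    | tmul r q => rfl
    | add x y hx hy => rw [map_add, map_add, hx, hy]
  have hπT : Function.Surjective πT := by
    intro y
    obtain ⟨x, hx⟩ := LinearMap.lTensor_surjective R' (g := πR.toLinearMap) hπ y
    exact ⟨x, by rw [hπTl, hx]⟩
  have hcomm : πT.comp (Algebra.TensorProduct.map (AlgHom.id R R') φP) =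
      Algebra.TensorProduct.map (AlgHom.id R R') φ := by
    rw [← Algebra.TensorProduct.map_id_comp, hπφ]
  let πTA : R' ⊗[R] P →ₐ[R' ⊗[R] A] R' ⊗[R] B :=
    { πT.toRingHom with commutes' := fun r => congrArg (fun g => g r) hcomm }
  have hK : (RingHom.ker πT.toRingHom).FG :=
    Algebra.FinitePresentation.ker_fG_of_surjective πTA hπT
  obtain ⟨T, hT⟩ := hK
  -- exactness
  let ι : I →ₗ[R] P := I.subtype.restrictScalars R
  have hιinj : Function.Injective (ι.lTensor R') :=
    Groth.Agent.Helper13BCTor.lTensor_injective_of_flat_cokernel (R := R) (Rb := A)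
      (I.subtype.restrictScalars A) π.toLinearMap Subtype.val_injective hπ (by
        intro x
        constructor
        · intro hx
          exact ⟨⟨x, hx⟩, rfl⟩
        · rintro ⟨y, rfl⟩
          exact y.2) R'
  have hex : Function.Exact (ι.lTensor R') (πR.toLinearMap.lTensor R') :=
    lTensor_exact R' (by
        intro x
        constructor
        · intro hx
          exact ⟨⟨x, hx⟩, rfl⟩
        · rintro ⟨y, rfl⟩
          exact y.2) hπ
  have hTker : ∀ t ∈ T, ∃ u : R' ⊗[R] I, ι.lTensor R' u = t := by
    intro t ht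
    have h0 : t ∈ RingHom.ker πT.toRingHom := by rw [← hT]; exact Ideal.subset_span ht
    have h0' : πR.toLinearMap.lTensor R' t = 0 := by rw [← hπTl]; exact h0
    exact (hex t).1 h0'
  choose! u hu using hTker
  obtain ⟨N₀, hN₀fin, hN₀⟩ := TensorProduct.exists_finite_submodule_right_of_setFinite
    (u '' (T : Set (R' ⊗[R] P))) (T.finite_toSet.image u)
  obtain ⟨s₂, hs₂⟩ := Module.Finite.iff_fg.mp hN₀fin
  set J : Submodule P I := Submodule.span P ((s₁ ∪ s₂ : Finset I) : Set I) with hJ
  have hle1 : Submodule.span P (s₁ : Set I) ≤ J :=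
    Submodule.span_mono (by simp only [Finset.coe_union]; exact Set.subset_union_left)
  have hle2 : N₀ ≤ J.restrictScalars R := by
    rw [← hs₂, Submodule.span_le]
    intro x hx
    exact Submodule.subset_span (by simp [hx])
  have key : J.restrictScalars R = ⊤ := by
    refine Groth.Agent.Lib.Helper16.submodule_eq_top_of_loc_of_tensor hq _ (fun m => ?_) ?_
    · obtain ⟨k, hk⟩ := hs₁ m
      refine ⟨k, ?_⟩
      have : f ^ k • m = (algebraMap A P a) ^ k • m := by
        rw [ha, ← map_pow, ← map_pow, ← IsScalarTower.algebraMap_apply, algebraMap_smul]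
      rw [this]
      exact hle1 hk
    · have hall : ∀ z ∈ Ideal.span (T : Set (R' ⊗[R] P)),
          ∃ w : R' ⊗[R] (J.restrictScalars R),
            z = ι.lTensor R' ((J.restrictScalars R).subtype.lTensor R' w) := by
        intro z hz
        induction hz using Submodule.span_induction with
        | mem z hz =>
          obtain ⟨y, hy⟩ := hN₀ ⟨z, hz, rfl⟩
          refine ⟨(Submodule.inclusion hle2).lTensor R' y, ?_⟩
          rw [← hu z hz, ← hy, ← LinearMap.comp_apply (f := (J.restrictScalars R).subtype.lTensor R'),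
            ← LinearMap.lTensor_comp]
          rfl
        | zero => exact ⟨0, by simp⟩
        | add x y _ _ hx hy =>
          obtain ⟨w₁, rfl⟩ := hx
          obtain ⟨w₂, rfl⟩ := hy
          exact ⟨w₁ + w₂, by simp⟩
        | smul c x _ hx =>
          obtain ⟨w, rfl⟩ := hx
          obtain ⟨w', hw'⟩ := mul_mem_image I J c w
          exact ⟨w', hw'⟩
      intro y
      have hy : ι.lTensor R' y ∈ Ideal.span (T : Set (R' ⊗[R] P)) := by
        rw [hT]
        change πT (ι.lTensor R' y) = 0
        rw [hπTl]
        exact (hex _).2 ⟨y, rfl⟩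
      obtain ⟨w, hw⟩ := hall _ hy
      exact ⟨w, (hιinj hw).symm⟩
  have hfin : (⊤ : Submodule P I).FG := by
    refine ⟨s₁ ∪ s₂, ?_⟩
    rw [eq_top_iff]
    intro x _
    have : x ∈ J.restrictScalars R := by rw [key]; trivial
    exact this
  exact ⟨n, π, hπ, (Submodule.fg_top I).mp hfin⟩

end FP


section Unram

attribute [local instance] Algebra.TensorProduct.rightAlgebra

variable {R R' : Type u} [CommRing R] [CommRing R'] [Algebra R R'] {f : R}
variable {A B : Type u} [CommRing A] [CommRing B] [Algebra R A] [Algebra R B]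

theorem ringHom_formallyUnramified_of_loc_of_tensor (hq : EtGlue.QuotPowBijective R R' f)
    (φ : A →ₐ[R] B)
    (h1 : (Localization.awayMap φ.toRingHom (algebraMap R A f)).FormallyUnramified)
    (h2 : (Algebra.TensorProduct.map (AlgHom.id R R') φ).toRingHom.FormallyUnramified) :
    φ.toRingHom.FormallyUnramified := by
  let _ : Algebra A B := φ.toRingHom.toAlgebra
  have : IsScalarTower R A B := IsScalarTower.of_algebraMap_eq' (by
    ext r
    simp [RingHom.algebraMap_toAlgebra])
  set a : A := algebraMap R A f with ha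
  set b : B := φ.toRingHom a with hb
  have hbf : algebraMap R B f = b := (φ.commutes f).symm
  have hqB : EtGlue.QuotPowBijective B (R' ⊗[R] B) b := by
    rw [← hbf]; exact quotPowBijective_tensor hq
  -- torsion
  have hAa : (algebraMap A (Localization.Away a)).FormallyUnramified :=
    RingHom.formallyUnramified_algebraMap.mpr
      (Algebra.FormallyUnramified.of_isLocalization (Submonoid.powers a))
  have hcomp : algebraMap A (Localization.Away b) =
      (Localization.awayMap φ.toRingHom a).comp (algebraMap A (Localization.Away a)) := by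
    rw [Localization.awayMap, IsLocalization.Away.map, IsLocalization.map_comp,
      IsScalarTower.algebraMap_eq A B (Localization.Away b)]
    rfl
  have hAb : Algebra.FormallyUnramified A (Localization.Away b) := by
    rw [← RingHom.formallyUnramified_algebraMap, hcomp]
    exact RingHom.FormallyUnramified.comp hAa h1
  have htors : ∀ m : Ω[B⁄A], ∃ k : ℕ, b ^ k • m = 0 := by
    intro m
    have h0 : KaehlerDifferential.map A A B (Localization.Away b) m =
        KaehlerDifferential.map A A B (Localization.Away b) 0 := Subsingleton.elim _ _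
    obtain ⟨⟨_, k, rfl⟩, hk⟩ := IsLocalizedModule.exists_of_eq (S := Submonoid.powers b) h0
    exact ⟨k, by simpa [Submonoid.smul_def] using hk⟩
  -- tensor side
  let _ : Algebra (R' ⊗[R] A) (R' ⊗[R] B) :=
    (Algebra.TensorProduct.map (AlgHom.id R R') φ).toRingHom.toAlgebra
  let _ : Algebra A (R' ⊗[R] B) := ((algebraMap B (R' ⊗[R] B)).comp (algebraMap A B)).toAlgebra
  have : IsScalarTower A B (R' ⊗[R] B) := IsScalarTower.of_algebraMap_eq' rfl
  have : IsScalarTower A (R' ⊗[R] A) (R' ⊗[R] B) := IsScalarTower.of_algebraMap_eq' (by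
    ext x
    simp [RingHom.algebraMap_toAlgebra])
  have : IsScalarTower R (R' ⊗[R] A) (R' ⊗[R] B) := IsScalarTower.of_algebraMap_eq' (by
    ext r
    simp [RingHom.algebraMap_toAlgebra])
  have : IsScalarTower R' (R' ⊗[R] A) (R' ⊗[R] B) := IsScalarTower.of_algebraMap_eq' (by
    ext r
    simp [RingHom.algebraMap_toAlgebra])
  have hpo : Algebra.IsPushout A B (R' ⊗[R] A) (R' ⊗[R] B) :=
    (Algebra.IsPushout.comp_iff R A R' (R' ⊗[R] A) (T := B) (T' := R' ⊗[R] B)).mp inferInstance
  have hpo' : Algebra.IsPushout A (R' ⊗[R] A) B (R' ⊗[R] B) := hpo.symm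
  have hunr : Algebra.FormallyUnramified (R' ⊗[R] A) (R' ⊗[R] B) := h2
  have : Subsingleton ((R' ⊗[R] B) ⊗[B] Ω[B⁄A]) :=
    (KaehlerDifferential.tensorKaehlerEquiv A (R' ⊗[R] A) B (R' ⊗[R] B)).toEquiv.subsingleton
  have : Subsingleton Ω[B⁄A] :=
    Groth.Agent.Lib.Helper16.subsingleton_of_torsion_of_tensor hqB htors
  exact ⟨this⟩

theorem ringHom_etale_of_loc_of_tensor (hq : EtGlue.QuotPowBijective R R' f)
    (hA : EtGlue.IsGlueable R R' f A) (φ : A →ₐ[R] B)
    (h1 : (Localization.awayMap φ.toRingHom (algebraMap R A f)).Etale)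
    (h2 : (Algebra.TensorProduct.map (AlgHom.id R R') φ).toRingHom.Etale) :
    φ.toRingHom.Etale := by
  rw [RingHom.Etale.iff_flat_and_formallyUnramified] at h1 h2 ⊢
  have hflat := ringHom_flat_of_loc_of_tensor hq hA φ h1.1 h2.1
  exact ⟨hflat, ringHom_formallyUnramified_of_loc_of_tensor hq φ h1.2.1 h2.2.1,
    ringHom_fp_of_loc_of_tensor hq φ hflat h1.2.2 h2.2.2⟩

end Unram

end Groth.Agent.R2.H23.GluePair
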