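import Mathlib
import Groth.Prelude.Def_ega3
import Groth.Agent.Lib.Helper21ConeLES2
import Groth.Agent.Lib.Helper21KoszulDepth

/-!
Helper library (helper23): vanishing of `colim_n H^i(f^n; M)` (`CohIII.koszulHLim`) for `i > 0`
and `M` an injective module over a Noetherian ring.
* `exists_div`: for `x` killed by `gs^n` there are `m ≥ n`, `y` killed by `gs^m` with
  `f^m y = f^(m-n) x` (Artin–Rees + stabilisation of `ann f^k` + injectivity).
* `coneδ_naturality`: naturality of the connecting map of the cone long exact sequence.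
* `bot`: the bottom Koszul cohomology as the submodule `{x | ∀ g ∈ gs, g • x = 0}` of `M`
  (`bot_injective`, `mem_range_bot`, `bot_trans`).
* `Dies`, `all_die`, `koszulHLim_subsingleton`.
-/

namespace Groth.Agent.R2.H23.KoszulLim

open CategoryTheory CategoryTheory.Limits CochainComplex HomComplex HomotopyCategory
open Groth.Agent.Lib.Helper21

universe v u

section Algebra

variable {A : Type u} [CommRing A] [IsNoetherianRing A] {M : Type u} [AddCommGroup M] [Module A M]

/-- the key divisibility statement for injective modules over a Noetherian ring -/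
theorem exists_div (hM : Module.Injective A M) (gs : List A) (f : A) (n : ℕ) (x : M)
    (hx : ∀ g ∈ gs, g ^ n • x = 0) :
    ∃ m, n ≤ m ∧ ∃ y : M, (∀ g ∈ gs, g ^ m • y = 0) ∧ f ^ m • y = f ^ (m - n) • x := by
  classical
  set I : Ideal A := Ideal.span {g | g ∈ gs} with hI
  set Jn : Ideal A := Ideal.span {a | ∃ g ∈ gs, a = g ^ n} with hJn
  have hJx : ∀ a ∈ Jn, a • x = 0 := by
    intro a ha
    induction ha using Submodule.span_induction with
    | mem a ha => obtain ⟨g, hg, rfl⟩ := ha; exact hx g hg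
    | zero => simp
    | add a b _ _ ha hb => rw [add_smul, ha, hb, add_zero]
    | smul c a _ ha => rw [smul_eq_mul, mul_smul, ha, smul_zero]
  have hIrad : I ≤ Jn.radical := by
    rw [hI, Ideal.span_le]
    intro g hg
    exact ⟨n, Ideal.subset_span ⟨g, hg, rfl⟩⟩
  obtain ⟨c, hc⟩ := Ideal.exists_pow_le_of_le_radical_of_fg hIrad (IsNoetherian.noetherian I)
  have hIx : ∀ a ∈ I ^ c, a • x = 0 := fun a ha => hJx a (hc ha)
  -- stabilisation of the annihilators of `f ^ k`
  let annf : ℕ →o Submodule A A :=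
    ⟨fun k => LinearMap.ker (LinearMap.mulRight A (f ^ k)), monotone_nat_of_le_succ (by
      intro k a ha
      rw [LinearMap.mem_ker, LinearMap.mulRight_apply] at ha ⊢
      rw [pow_succ, ← mul_assoc, ha, zero_mul])⟩
  obtain ⟨k, hk⟩ := monotone_stabilizes_iff_noetherian.mpr (inferInstance : IsNoetherian A A) annf
  have hann : ∀ a : A, a * f ^ (k + n) = 0 → a * f ^ k = 0 := by
    intro a ha
    have h1 : a ∈ annf (k + n) := by
      change a ∈ LinearMap.ker (LinearMap.mulRight A (f ^ (k + n)))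
      rw [LinearMap.mem_ker, LinearMap.mulRight_apply]; exact ha
    rw [← hk (k + n) (Nat.le_add_right k n)] at h1
    change a ∈ LinearMap.ker (LinearMap.mulRight A (f ^ k)) at h1
    rwa [LinearMap.mem_ker, LinearMap.mulRight_apply] at h1
  -- Artin-Rees
  set 𝔟 : Ideal A := Ideal.span {f ^ (k + n)} with h𝔟
  obtain ⟨k₀, hk₀⟩ := Ideal.exists_pow_inf_eq_pow_smul I (𝔟 : Submodule A A)
  set K := k₀ + c with hK
  have hAR : I ^ K ⊓ 𝔟 ≤ I ^ c * 𝔟 := by
    have h := hk₀ K (Nat.le_add_right k₀ c)
    rw [hK, Nat.add_sub_cancel_left] at h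
    have e1 : (I ^ (k₀ + c) • (⊤ : Submodule A A) : Submodule A A) = I ^ (k₀ + c) := by
      rw [Ideal.smul_eq_mul, Ideal.mul_top]
    rw [e1] at h
    rw [hK, h, Ideal.smul_eq_mul]
    exact Ideal.mul_mono_right inf_le_right
  have key : ∀ a : A, a * f ^ (k + n) ∈ I ^ K → (a * f ^ k) • x = 0 := by
    intro a ha
    have h1 : a * f ^ (k + n) ∈ I ^ c * 𝔟 :=
      hAR ⟨ha, Ideal.mul_mem_left _ _ (Ideal.subset_span rfl)⟩
    rw [h𝔟, Ideal.mem_mul_span_singleton] at h1
    obtain ⟨c₀, hc₀, hc₀'⟩ := h1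
    have h2 : (a - c₀) * f ^ k = 0 := hann _ (by rw [sub_mul, hc₀', sub_self])
    have h3 : a * f ^ k = c₀ * f ^ k := by rw [sub_mul, sub_eq_zero] at h2; exact h2
    rw [h3, mul_comm, mul_smul, hIx c₀ hc₀, smul_zero]
  -- the extension
  let v : A ⧸ I ^ K := Submodule.Quotient.mk (f ^ (k + n))
  let t₁ : A →ₗ[A] A ⧸ I ^ K := LinearMap.toSpanSingleton A (A ⧸ I ^ K) v
  let t₂ : A →ₗ[A] M := LinearMap.toSpanSingleton A M (f ^ k • x)
  have hle : LinearMap.ker t₁ ≤ LinearMap.ker t₂ := by
    intro a ha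
    rw [LinearMap.mem_ker, LinearMap.toSpanSingleton_apply] at ha ⊢
    have h1 : a * f ^ (k + n) ∈ I ^ K := by
      have : (Submodule.Quotient.mk (a • f ^ (k + n)) : A ⧸ I ^ K) = 0 := ha
      rw [Submodule.Quotient.mk_eq_zero] at this
      exact this
    rw [smul_smul]
    exact key a h1
  let ι : (A ⧸ LinearMap.ker t₁) →ₗ[A] A ⧸ I ^ K := (LinearMap.ker t₁).liftQ t₁ le_rfl
  have hι : Function.Injective ι := by
    rw [← LinearMap.ker_eq_bot]
    exact Submodule.ker_liftQ_eq_bot _ _ _ le_rfl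
  let g₀ : (A ⧸ LinearMap.ker t₁) →ₗ[A] M := (LinearMap.ker t₁).liftQ t₂ hle
  obtain ⟨ψ, hψ⟩ := hM.out ι hι g₀
  set y : M := ψ (Submodule.Quotient.mk 1) with hy
  have hy1 : f ^ (k + n) • y = f ^ k • x := by
    have h1 := hψ (Submodule.Quotient.mk 1)
    have e1 : ι (Submodule.Quotient.mk 1) = f ^ (k + n) • (Submodule.Quotient.mk 1 : A ⧸ I ^ K) := by
      change t₁ 1 = _
      rw [LinearMap.toSpanSingleton_apply, one_smul, ← Submodule.Quotient.mk_smul, smul_eq_mul,
        mul_one]
    have e2 : g₀ (Submodule.Quotient.mk 1) = f ^ k • x := by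
      change t₂ 1 = _
      rw [LinearMap.toSpanSingleton_apply, one_smul]
    rw [e1, e2, map_smul] at h1
    exact h1
  have hy2 : ∀ a ∈ I ^ K, a • y = 0 := by
    intro a ha
    rw [hy, ← map_smul, ← Submodule.Quotient.mk_smul, smul_eq_mul, mul_one,
      (Submodule.Quotient.mk_eq_zero _).mpr ha, map_zero]
  refine ⟨k + n + K, by omega, y, ?_, ?_⟩
  · intro g hg
    have hgI : g ∈ I := Ideal.subset_span hg
    have h1 : g ^ K ∈ I ^ K := Ideal.pow_mem_pow hgI K
    rw [pow_add, mul_smul, hy2 _ h1, smul_zero]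
  · have e : k + n + K - n = K + k := by omega
    rw [e, pow_add, mul_comm, mul_smul, hy1, smul_smul, ← pow_add]

end Algebra

section Nat

lemma aux_nat {D : Type*} [Category D] {X X' Y Y' Z Z' W W' : D} (m : X ⟶ X') (i : X ⟶ Y)
    (i' : X' ⟶ Y') (s : Y ⟶ Y') (d : Y ⟶ Z) (d' : Y' ⟶ Z') (t : Z ⟶ Z') (j : Z ⟶ W)
    (j' : Z' ⟶ W') (a : W ⟶ W') (h0 : m ≫ i' = i ≫ s) (hδ : s ≫ d' = d ≫ t)
    (h1 : t ≫ j' = j ≫ a) : m ≫ (i' ≫ d' ≫ j') = (i ≫ d ≫ j) ≫ a := by
  simp only [Category.assoc]
  rw [reassoc_of% h0, reassoc_of% hδ, h1]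

variable {C : Type u} [Category.{v} C] [Abelian C]
variable {F₁ G₁ F₂ G₂ : CochainComplex C ℤ} (φ₁ : F₁ ⟶ G₁) (φ₂ : F₂ ⟶ G₂) (a : F₁ ⟶ F₂)
  (b : G₁ ⟶ G₂) (comm : φ₁ ≫ b = a ≫ φ₂)

theorem coneδ_naturality (n₀ n₁ : ℤ) (h : n₀ + 1 = n₁) :
    HomologicalComplex.homologyMap (mappingCone.map φ₁ φ₂ a b comm) n₀ ≫ coneδ φ₂ n₀ n₁ h =
      coneδ φ₁ n₀ n₁ h ≫ HomologicalComplex.homologyMap a n₁ := by
  unfold coneδ
  have nat0 := (homologyFunctorFactors C (ComplexShape.up ℤ) n₀).inv.naturality
    (mappingCone.map φ₁ φ₂ a b comm)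
  have nat1 := (homologyFunctorFactors C (ComplexShape.up ℤ) n₁).hom.naturality a
  have hδ := (HomotopyCategory.homologyFunctor C (ComplexShape.up ℤ) 0).homologySequenceδ_naturality
    (mappingCone.triangleh φ₁) (mappingCone.triangleh φ₂)
    (mappingCone.trianglehMapOfHomotopy (Homotopy.ofEq comm)) n₀ n₁ h
  rw [mappingCone.trianglehMapOfHomotopy_hom₃, mappingCone.trianglehMapOfHomotopy_hom₁,
    ← mappingCone.map_eq_mapOfHomotopy] at hδ
  exact aux_nat _ _ _ _ _ _ _ _ _ _ nat0 hδ nat1

theorem inr_map_homology (n : ℤ) :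
    HomologicalComplex.homologyMap (mappingCone.inr φ₁) n ≫
      HomologicalComplex.homologyMap (mappingCone.map φ₁ φ₂ a b comm) n =
    HomologicalComplex.homologyMap b n ≫ HomologicalComplex.homologyMap (mappingCone.inr φ₂) n := by
  rw [← HomologicalComplex.homologyMap_comp, ← HomologicalComplex.homologyMap_comp]
  congr 1
  exact (mappingCone.triangleMap φ₁ φ₂ a b comm).comm₂

end Nat

section Bot

open CohIII

variable {A : Type u} [CommRing A] (M : ModuleCat.{u} A)

/-- the connecting map of the Koszul cone -/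
noncomputable abbrev kδ (g : A) (gs : List A) (j : ℤ) :
    (koszulCx M (g :: gs)).homology j ⟶ (koszulCx M gs).homology (j + 1) :=
  coneδ (g • 𝟙 (koszulCx M gs)) j (j + 1) rfl

/-- the bottom Koszul cohomology as a submodule of `M` -/
noncomputable def bot : ∀ (gs : List A) (j : ℤ), j = -(gs.length : ℤ) →
    ((koszulCx M gs).homology j →ₗ[A] M)
  | [], j, hj => by
      have hj0 : j = 0 := by simpa using hj
      subst hj0
      exact (HomologicalComplex.singleObjHomologySelfIso (ComplexShape.up ℤ) 0 M).hom.hom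
  | g :: gs, j, hj =>
      (bot gs (j + 1) (by simp only [List.length_cons, Nat.cast_add, Nat.cast_one] at hj; omega)) ∘ₗ
        (kδ M g gs j).hom

theorem bot_nil (hj : (0 : ℤ) = -(([] : List A).length : ℤ)) :
    bot M [] 0 hj =
      (HomologicalComplex.singleObjHomologySelfIso (ComplexShape.up ℤ) 0 M).hom.hom := rfl

theorem bot_cons (g : A) (gs : List A) (j : ℤ) (hj : j = -((g :: gs).length : ℤ))
    (z : (koszulCx M (g :: gs)).homology j) :
    bot M (g :: gs) j hj z = bot M gs (j + 1)
      (by simp only [List.length_cons, Nat.cast_add, Nat.cast_one] at hj; omega)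
      ((kδ M g gs j).hom z) := rfl

theorem kδ_injective (g : A) (gs : List A) (j : ℤ) (hj : j = -((g :: gs).length : ℤ)) :
    Function.Injective (kδ M g gs j).hom := by
  have h3 := cone_homology_exact₃ (g • 𝟙 (koszulCx M gs)) j (j + 1) rfl
  have hG : IsZero ((koszulCx M gs).homology j) :=
    isZero_homology_of_isZero_X _ _ (isZero_koszulCx_X_neg M gs j (by
      simp only [List.length_cons, Nat.cast_add, Nat.cast_one] at hj; omega))
  have hmono : Mono (kδ M g gs j) := h3.mono_g_iff.mpr (hG.eq_of_src _ _)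
  exact (ModuleCat.mono_iff_injective _).mp hmono

theorem range_kδ (g : A) (gs : List A) (j : ℤ) (y : (koszulCx M gs).homology (j + 1)) :
    y ∈ LinearMap.range (kδ M g gs j).hom ↔ g • y = 0 := by
  have h1 := cone_homology_exact₁ (g • 𝟙 (koszulCx M gs)) j (j + 1) rfl
  have hr := h1.moduleCat_range_eq_ker
  have e : (HomologicalComplex.homologyMap (g • 𝟙 (koszulCx M gs)) (j + 1)).hom y = g • y := by
    rw [homologyMap_smul', HomologicalComplex.homologyMap_id]
    rfl
  change y ∈ LinearMap.range (coneδ (g • 𝟙 (koszulCx M gs)) j (j + 1) rfl).hom ↔ _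
  rw [show LinearMap.range (coneδ (g • 𝟙 (koszulCx M gs)) j (j + 1) rfl).hom = _ from hr,
    LinearMap.mem_ker]
  exact e ▸ Iff.rfl

theorem bot_injective : ∀ (gs : List A) (j : ℤ) (hj : j = -(gs.length : ℤ)),
    Function.Injective (bot M gs j hj)
  | [], j, hj => by
      have hj0 : j = 0 := by simpa using hj
      subst hj0
      rw [bot_nil]
      exact (ConcreteCategory.bijective_of_isIso
        (HomologicalComplex.singleObjHomologySelfIso (ComplexShape.up ℤ) 0 M).hom).1
  | g :: gs, j, hj => by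
      intro z₁ z₂ h
      rw [bot_cons, bot_cons] at h
      exact kδ_injective M g gs j hj (bot_injective gs (j + 1) _ h)

theorem mem_range_bot : ∀ (gs : List A) (j : ℤ) (hj : j = -(gs.length : ℤ)) (x : M),
    x ∈ LinearMap.range (bot M gs j hj) ↔ ∀ g ∈ gs, g • x = 0
  | [], j, hj, x => by
      have hj0 : j = 0 := by simpa using hj
      subst hj0
      rw [bot_nil]
      simp only [List.not_mem_nil, false_imp_iff, implies_true, iff_true]
      exact (ConcreteCategory.bijective_of_isIso
        (HomologicalComplex.singleObjHomologySelfIso (ComplexShape.up ℤ) 0 M).hom).2 x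
  | g :: gs, j, hj, x => by
      have hj' : j + 1 = -(gs.length : ℤ) := by
        simp only [List.length_cons, Nat.cast_add, Nat.cast_one] at hj; omega
      have ih := mem_range_bot gs (j + 1) hj' x
      constructor
      · rintro ⟨z, rfl⟩
        rw [bot_cons]
        intro g' hg'
        rcases List.mem_cons.mp hg' with rfl | hg'
        · rw [← map_smul, (range_kδ M g' gs j _).mp ⟨z, rfl⟩, map_zero]
        · exact ih.mp ⟨_, rfl⟩ g' hg'
      · intro hx
        obtain ⟨y, rfl⟩ := ih.mpr (fun g' hg' => hx g' (List.mem_cons_of_mem _ hg'))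
        have hy : g • y = 0 := by
          apply bot_injective M gs (j + 1) hj'
          rw [map_smul, map_zero]
          exact hx g List.mem_cons_self
        obtain ⟨z, rfl⟩ := (range_kδ M g gs j y).mpr hy
        exact ⟨z, bot_cons M g gs j hj z⟩

theorem bot_trans (n m : ℕ) (h : n ≤ m) : ∀ (fs : List A) (j : ℤ)
    (hn : j = -((fs.map (· ^ n)).length : ℤ)) (hm : j = -((fs.map (· ^ m)).length : ℤ))
    (z : (koszulCx M (fs.map (· ^ n))).homology j),
    bot M (fs.map (· ^ m)) j hm
        ((HomologicalComplex.homologyMap (koszulTrans M n m h fs) j).hom z) =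
      bot M (fs.map (· ^ n)) j hn z
  | [], j, hn, hm, z => by
      have e : koszulTrans M n m h ([] : List A) = 𝟙 _ := rfl
      rw [e, HomologicalComplex.homologyMap_id]
      rfl
  | f :: fs, j, hn, hm, z => by
      have hn' : j + 1 = -((fs.map (· ^ n)).length : ℤ) := by
        simp only [List.map_cons, List.length_cons, Nat.cast_add, Nat.cast_one] at hn; omega
      have hm' : j + 1 = -((fs.map (· ^ m)).length : ℤ) := by
        simp only [List.map_cons, List.length_cons, Nat.cast_add, Nat.cast_one] at hm; omega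
      have ih := bot_trans n m h fs (j + 1) hn' hm'
      change bot M (f ^ m :: fs.map (· ^ m)) j hm _ = bot M (f ^ n :: fs.map (· ^ n)) j hn z
      rw [bot_cons, bot_cons, ← ih]
      congr 1
      have nat := coneδ_naturality (f ^ n • 𝟙 (koszulCx M (fs.map (· ^ n))))
        (f ^ m • 𝟙 (koszulCx M (fs.map (· ^ m)))) (koszulTrans M n m h fs)
        (f ^ (m - n) • koszulTrans M n m h fs) (by
          simp only [Linear.smul_comp, Linear.comp_smul, Category.id_comp, Category.comp_id,
            smul_smul, ← pow_add, Nat.sub_add_cancel h]) j (j + 1) rfl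
      exact congrArg (fun φ => φ.hom z) nat

end Bot

section Main

open CohIII

variable {A : Type u} [CommRing A] (M : ModuleCat.{u} A)

/-- Koszul cohomology of the `n`-th powers -/
noncomputable abbrev HK (fs : List A) (j : ℤ) (n : ℕ) : ModuleCat.{u} A :=
  (koszulCx M (fs.map (· ^ n))).homology j

/-- the transition maps -/
noncomputable abbrev TK (fs : List A) (j : ℤ) (n m : ℕ) (h : n ≤ m) :
    HK M fs j n →ₗ[A] HK M fs j m :=
  (HomologicalComplex.homologyMap (koszulTrans M n m h fs) j).hom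

/-- `H(K_n(fs)) → H(K_n(f :: fs))` -/
noncomputable abbrev inrK (f : A) (fs : List A) (j : ℤ) (n : ℕ) :
    HK M fs j n →ₗ[A] HK M (f :: fs) j n :=
  (HomologicalComplex.homologyMap
    (mappingCone.inr (f ^ n • 𝟙 (koszulCx M (fs.map (· ^ n))))) j).hom

/-- `H^j(K_n(f :: fs)) → H^{j+1}(K_n(fs))` -/
noncomputable abbrev δK (f : A) (fs : List A) (j : ℤ) (n : ℕ) :
    HK M (f :: fs) j n →ₗ[A] HK M fs (j + 1) n :=
  (kδ M (f ^ n) (fs.map (· ^ n)) j).hom

/-- an element dies in the colimit -/
inductive Dies (fs : List A) (j : ℤ) : ∀ n : ℕ, HK M fs j n → Prop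
  | zero (n : ℕ) : Dies fs j n 0
  | step (n m : ℕ) (h : n ≤ m) (z : HK M fs j n) :
      Dies fs j m (TK M fs j n m h z) → Dies fs j n z

theorem TK_inrK (f : A) (fs : List A) (j : ℤ) (n m : ℕ) (h : n ≤ m) (w : HK M fs j n) :
    TK M (f :: fs) j n m h (inrK M f fs j n w) =
      inrK M f fs j m (f ^ (m - n) • TK M fs j n m h w) := by
  have nat := inr_map_homology (f ^ n • 𝟙 (koszulCx M (fs.map (· ^ n))))
    (f ^ m • 𝟙 (koszulCx M (fs.map (· ^ m)))) (koszulTrans M n m h fs)
    (f ^ (m - n) • koszulTrans M n m h fs) (by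
      simp only [Linear.smul_comp, Linear.comp_smul, Category.id_comp, Category.comp_id,
        smul_smul, ← pow_add, Nat.sub_add_cancel h]) j
  rw [homologyMap_smul'] at nat
  have := congrArg (fun φ => φ.hom w) nat
  simp only [ModuleCat.hom_comp, LinearMap.comp_apply, ModuleCat.hom_smul,
    LinearMap.smul_apply] at this
  exact this

theorem δK_TK (f : A) (fs : List A) (j : ℤ) (n m : ℕ) (h : n ≤ m) (z : HK M (f :: fs) j n) :
    δK M f fs j m (TK M (f :: fs) j n m h z) = TK M fs (j + 1) n m h (δK M f fs j n z) := by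
  have nat := coneδ_naturality (f ^ n • 𝟙 (koszulCx M (fs.map (· ^ n))))
    (f ^ m • 𝟙 (koszulCx M (fs.map (· ^ m)))) (koszulTrans M n m h fs)
    (f ^ (m - n) • koszulTrans M n m h fs) (by
      simp only [Linear.smul_comp, Linear.comp_smul, Category.id_comp, Category.comp_id,
        smul_smul, ← pow_add, Nat.sub_add_cancel h]) j (j + 1) rfl
  exact congrArg (fun φ => φ.hom z) nat

theorem dies_inrK_smul (f : A) (fs : List A) (j : ℤ) (n : ℕ) (w : HK M fs j n)
    (hw : Dies M fs j n w) : ∀ c : A, Dies M (f :: fs) j n (inrK M f fs j n (c • w)) := by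
  induction hw with
  | zero n =>
    intro c
    rw [smul_zero, map_zero]
    exact Dies.zero n
  | step n m h w _ ih =>
    intro c
    refine Dies.step n m h _ ?_
    rw [TK_inrK, (TK M fs j n m h).map_smul c w, smul_smul]
    exact ih (f ^ (m - n) * c)

theorem dies_of_δK (f : A) (fs : List A) (j : ℤ)
    (H0 : ∀ n w, Dies M (f :: fs) j n (inrK M f fs j n w))
    (n : ℕ) (y : HK M fs (j + 1) n) (hy : Dies M fs (j + 1) n y) :
    ∀ z : HK M (f :: fs) j n, δK M f fs j n z = y → Dies M (f :: fs) j n z := by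
  induction hy with
  | zero n =>
    intro z hz
    have h3 := cone_homology_exact₃ (f ^ n • 𝟙 (koszulCx M (fs.map (· ^ n)))) j (j + 1) rfl
    rw [ShortComplex.ShortExact.moduleCat_exact_iff_function_exact] at h3
    obtain ⟨w, rfl⟩ := (h3 z).mp hz
    exact H0 n w
  | step n m h y _ ih =>
    intro z hz
    refine Dies.step n m h z (ih _ ?_)
    rw [δK_TK, hz]

theorem dies_inrK_bot [IsNoetherianRing A] (hM : Module.Injective A M) (f : A) (fs : List A)
    (j : ℤ) (hj : j = -(fs.length : ℤ)) (n : ℕ) (w : HK M fs j n) :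
    Dies M (f :: fs) j n (inrK M f fs j n w) := by
  have hjn : ∀ k : ℕ, j = -((fs.map (· ^ k)).length : ℤ) := fun k => by rw [List.length_map]; exact hj
  set x : M := bot M (fs.map (· ^ n)) j (hjn n) w with hx
  have hx1 : ∀ g ∈ fs, g ^ n • x = 0 := by
    intro g hg
    exact (mem_range_bot M (fs.map (· ^ n)) j (hjn n) x).mp ⟨w, rfl⟩ (g ^ n)
      (List.mem_map.mpr ⟨g, hg, rfl⟩)
  obtain ⟨m, hnm, y, hy1, hy2⟩ := exists_div hM fs f n x hx1
  obtain ⟨v, hv⟩ := (mem_range_bot M (fs.map (· ^ m)) j (hjn m) y).mpr (by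
    intro g hg
    obtain ⟨g', hg', rfl⟩ := List.mem_map.mp hg
    exact hy1 g' hg')
  have hkey : f ^ m • v = f ^ (m - n) • TK M fs j n m hnm w := by
    apply bot_injective M (fs.map (· ^ m)) j (hjn m)
    rw [map_smul, map_smul, hv, hy2, bot_trans M n m hnm fs j (hjn n) (hjn m) w]
  refine Dies.step n m hnm _ ?_
  rw [TK_inrK, ← hkey]
  have h0 := cone_homologyMap_comp (f ^ m • 𝟙 (koszulCx M (fs.map (· ^ m)))) j
  rw [homologyMap_smul', HomologicalComplex.homologyMap_id] at h0
  have h1 := congrArg (fun φ => φ.hom v) h0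
  simp only [ModuleCat.hom_comp, LinearMap.comp_apply, ModuleCat.hom_smul,
    LinearMap.smul_apply, ModuleCat.hom_id, LinearMap.id_apply, ModuleCat.hom_zero,
    LinearMap.zero_apply] at h1
  change Dies M (f :: fs) j m ((HomologicalComplex.homologyMap
    (mappingCone.inr (f ^ m • 𝟙 (koszulCx M (fs.map (· ^ m))))) j).hom (f ^ m • v))
  rw [h1]
  exact Dies.zero m

theorem all_die [IsNoetherianRing A] (hM : Module.Injective A M) :
    ∀ (fs : List A) (j : ℤ), -(fs.length : ℤ) < j → ∀ (n : ℕ) (z : HK M fs j n), Dies M fs j n z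
  | [], j, hj, n, z => by
      have hj0 : 0 < j := by simpa using hj
      have hz : IsZero (HK M ([] : List A) j n) :=
        isZero_homology_of_isZero_X _ _ (isZero_koszulCx_X_pos M _ j hj0)
      have : z = 0 := by
        have := (ModuleCat.isZero_iff_subsingleton.mp hz)
        exact Subsingleton.elim _ _
      rw [this]
      exact Dies.zero n
  | f :: fs, j, hj, n, z => by
      have hj' : -(fs.length : ℤ) < j + 1 := by
        simp only [List.length_cons, Nat.cast_add, Nat.cast_one] at hj; omega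
      have H0 : ∀ n w, Dies M (f :: fs) j n (inrK M f fs j n w) := by
        intro n w
        by_cases hjb : j = -(fs.length : ℤ)
        · exact dies_inrK_bot M hM f fs j hjb n w
        · have hj'' : -(fs.length : ℤ) < j := by
            simp only [List.length_cons, Nat.cast_add, Nat.cast_one] at hj; omega
          have := dies_inrK_smul M f fs j n w (all_die hM fs j hj'' n w) 1
          rwa [one_smul] at this
      exact dies_of_δK M f fs j H0 n _ (all_die hM fs (j + 1) hj' n _) z rfl

theorem of_eq_zero_of_dies (fs : List A) (j : ℤ) (n : ℕ) (z : HK M fs j n)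
    (h : Dies M fs j n z) :
    Module.DirectLimit.of A ℕ (fun n : ℕ => (HK M fs j n : Type u))
      (fun n m h => TK M fs j n m h) n z = 0 := by
  induction h with
  | zero n => exact map_zero _
  | step n m h z _ ih => rw [← Module.DirectLimit.of_f (hij := h), ih]

theorem koszulHLim_subsingleton [IsNoetherianRing A] (hM : Module.Injective A M) (fs : List A)
    (i : ℕ) (hi : 0 < i) : Subsingleton (CohIII.koszulHLim fs M i) := by
  refine ⟨fun a b => ?_⟩
  have key : ∀ c : CohIII.koszulHLim fs M i, c = 0 := by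
    intro c
    obtain ⟨n, z, rfl⟩ := Module.DirectLimit.exists_of (R := A) (ι := ℕ)
      (G := fun n : ℕ => (HK M fs ((i : ℤ) - fs.length) n : Type u))
      (f := fun n m h => TK M fs ((i : ℤ) - fs.length) n m h) c
    exact of_eq_zero_of_dies M fs _ n z (all_die M hM fs _ (by omega) n z)
  rw [key a, key b]

end Main

end Groth.Agent.R2.H23.KoszulLim
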