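import Mathlib
import Groth.Prelude.Def_SGA3b
import Groth.Agent.Lib.Helper25MultRigid2
import Groth.Agent.R2.H23LocalRigid

/-!
# H23LocalRigid2 (helper23, round 2): rigidity over a local base for pairs of homomorphisms

Two homomorphisms from a group of multiplicative type to a commutative affine group of finite type
over a local ring which agree on the closed fibre are equal (`eq_of_finiteType`).
-/

set_option autoImplicit false
set_option linter.style.haveILetI false
universe u v w

namespace Groth.Agent.R2.H23.LocalRigid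

open TensorProduct Coalgebra SGA3b WithConv
open Groth.Agent.Lib.Helper25

section TwoMaps

variable {R : Type u} [CommRing R] [IsLocalRing R] {A : Type u} [CommRing A] [HopfAlgebra R A]
  {C : Type u} [CommRing C] [HopfAlgebra R C] [Coalgebra.IsCocomm R C]

/-- Over a local ring, two homomorphisms from a group of multiplicative type to a commutative
affine group of finite type which agree on the closed fibre are equal. -/
theorem eq_of_finiteType (hH : IsMultType R A) (hC : Algebra.FiniteType R C)
    (φ ψ : C →ₐc[R] A)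
    (h0 : ∀ c : C, φ c - ψ c ∈ (IsLocalRing.maximalIdeal R) • (⊤ : Submodule R A)) : φ = ψ := by
  set ψ' : C →ₐc[R] A := ψ.comp antipodeBialgHom with hψ'
  set θ : C →ₐc[R] A := (toConv φ * toConv ψ').ofConv with hθ
  have hθa : toConv (θ : C →ₐ[R] A) =
      toConv (φ : C →ₐ[R] A) * (toConv (ψ : C →ₐ[R] A))⁻¹ := rfl
  have hinv : toConv (ψ : C →ₐ[R] A) * (toConv (ψ : C →ₐ[R] A))⁻¹ = 1 := mul_inv_cancel _
  have e1 : ∀ c, θ c = LinearMap.mul' R A (TensorProduct.map (φ : C →ₗ[R] A) (ψ' : C →ₗ[R] A)
      (CoalgebraStruct.comul (R := R) c)) := fun c => rfl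
  have e2 : ∀ c, algebraMap R A (CoalgebraStruct.counit (R := R) c) =
      LinearMap.mul' R A (TensorProduct.map (ψ : C →ₗ[R] A) (ψ' : C →ₗ[R] A)
      (CoalgebraStruct.comul (R := R) c)) := by
    intro c
    have := congrArg (fun f : WithConv (C →ₐ[R] A) => f.ofConv c) hinv
    exact this.symm
  have hθ1 : ∀ c, θ c = algebraMap R A (CoalgebraStruct.counit (R := R) c) := by
    apply trivial_of_finiteType hH hC θ
    intro c
    have hsplit : TensorProduct.map (φ : C →ₗ[R] A) (ψ' : C →ₗ[R] A) =
        TensorProduct.map ((φ : C →ₗ[R] A) - (ψ : C →ₗ[R] A)) (ψ' : C →ₗ[R] A) +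
          TensorProduct.map (ψ : C →ₗ[R] A) (ψ' : C →ₗ[R] A) := by
      rw [← TensorProduct.map_add_left, sub_add_cancel]
    rw [e1, e2, hsplit, LinearMap.add_apply, map_add, add_sub_cancel_right]
    have h1 := map_mem_smul_top_of_forall (IsLocalRing.maximalIdeal R) ⊤
      ((φ : C →ₗ[R] A) - (ψ : C →ₗ[R] A))
      (ψ' : C →ₗ[R] A) (fun p => h0 p) (fun p => by
        rw [Submodule.top_smul]; exact Submodule.mem_top)
      (CoalgebraStruct.comul (R := R) c)
    rw [Ideal.mul_top] at h1
    exact map_mem_smul_top (LinearMap.mul' R A) _ h1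
  have h3 : toConv (φ : C →ₐ[R] A) * (toConv (ψ : C →ₐ[R] A))⁻¹ = 1 := by
    rw [← hθa]
    apply WithConv.ofConv_injective
    apply AlgHom.ext
    intro c
    exact hθ1 c
  have h4 : toConv (φ : C →ₐ[R] A) = toConv (ψ : C →ₐ[R] A) := mul_inv_eq_one.mp h3
  have h5 : (φ : C →ₐ[R] A) = (ψ : C →ₐ[R] A) := WithConv.toConv_injective h4
  ext c
  exact congrArg (fun f : C →ₐ[R] A => f c) h5

end TwoMaps

end Groth.Agent.R2.H23.LocalRigid
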