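import Mathlib
import Groth.Prelude.Def_RegImm
import Groth.Agent.S5802
import Groth.Agent.Lib.Helper22FlatExact

/-!
# H23TransReg (helper23, round 2): flatness of `J^n/J^m` for `J` generated by a transversally
regular sequence

* `flat_of_isLocalizedModule`: localising a `B`-module at a submonoid of `B` preserves flatness
  over a base ring `A` (equational criterion).
* `evQ`, `evQ_surjective`, `ker_evQ`: the graded pieces `J^n/J^(n+1)` of a quasi-regular ideal are
  the reductions of the modules of homogeneous polynomials.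
* `flat_gr`, `flat_quot_pow`, `flat_pow_quot`, `flat_pow`.
-/

set_option autoImplicit false
set_option linter.style.haveILetI false
universe u v w

namespace Groth.Agent.R2.H23.TransReg

open TensorProduct

section Loc

variable {A : Type u} {B : Type v} [CommRing A] [CommRing B] [Algebra A B]
  (S : Submonoid B) {M : Type w} {N : Type*} [AddCommGroup M] [AddCommGroup N]
  [Module B M] [Module B N] [Module A M] [Module A N] [IsScalarTower A B M] [IsScalarTower A B N]

/-- Localising a `B`-module at a submonoid of `B` preserves flatness over `A`. -/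
theorem flat_of_isLocalizedModule (g : M →ₗ[B] N) [IsLocalizedModule S g] [Module.Flat A M] :
    Module.Flat A N := by
  classical
  apply Module.Flat.of_forall_isTrivialRelation
  intro l f x hfx
  choose ms hms using fun i => IsLocalizedModule.surj S g (x i)
  -- common denominator
  let s : S := ∏ i, (ms i).2
  let s' : Fin l → S := fun i => ∏ j ∈ Finset.univ.erase i, (ms j).2
  have hs' : ∀ i, s = s' i * (ms i).2 := by
    intro i
    exact (Finset.prod_erase_mul Finset.univ (fun j => (ms j).2) (Finset.mem_univ i)).symm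
  let m' : Fin l → M := fun i => (s' i : B) • (ms i).1
  have hm' : ∀ i, (s : B) • x i = g (m' i) := by
    intro i
    rw [hs' i, Submonoid.coe_mul, mul_smul, map_smul]
    congr 1
    exact hms i
  -- the relation in `M` after multiplying by some `t`
  have h0 : g (∑ i, f i • m' i) = 0 := by
    rw [map_sum]
    have : ∀ i, g (f i • m' i) = (s : B) • (f i • x i) := by
      intro i
      rw [← algebraMap_smul B (f i) (m' i), map_smul, ← hm' i, algebraMap_smul,
        smul_comm]
    rw [Finset.sum_congr rfl (fun i _ => this i), ← Finset.smul_sum, hfx, smul_zero]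
  obtain ⟨t, ht⟩ := (IsLocalizedModule.eq_zero_iff S g).mp h0
  have h1 : ∑ i, f i • ((t : B) • m' i) = 0 := by
    rw [← ht, Finset.smul_sum]
    exact Finset.sum_congr rfl (fun i _ => smul_comm _ _ _)
  obtain ⟨k, a, y, hy1, hy2⟩ := Module.Flat.isTrivialRelation_of_sum_smul_eq_zero h1
  -- invert `t * s` on `N`
  obtain ⟨u, hu⟩ := IsLocalizedModule.map_units g (t * s)
  have hu1 : ∀ n : N, (↑u⁻¹ : Module.End B N) (((t * s : S) : B) • n) = n := by
    intro n
    have h2 : (↑u⁻¹ : Module.End B N) * (algebraMap B (Module.End B N) ((t * s : S) : B)) = 1 := by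
      rw [← hu]
      exact u.inv_mul
    have h3 := LinearMap.congr_fun h2 n
    rw [Module.End.mul_apply, Module.algebraMap_end_apply, Module.End.one_apply] at h3
    exact h3
  refine ⟨k, a, fun j => (↑u⁻¹ : Module.End B N) (g (y j)), ?_, hy2⟩
  intro i
  have h3 : ((t * s : S) : B) • x i = g (∑ j, a i j • y j) := by
    rw [← hy1 i]
    change ((t * s : S) : B) • x i = g ((t : B) • m' i)
    rw [Submonoid.coe_mul, mul_smul, hm' i, ← map_smul]
  have h4 := hu1 (x i)
  rw [h3, map_sum, map_sum] at h4
  rw [← h4]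
  refine Finset.sum_congr rfl (fun j _ => ?_)
  rw [← algebraMap_smul B (a i j) (y j), map_smul, map_smul, algebraMap_smul]

end Loc

section Gr

variable {B : Type u} [CommRing B] {c : ℕ} (f : Fin c → B)

/-- The module of homogeneous polynomials of degree `n`. -/
noncomputable abbrev Hn (n : ℕ) : Submodule B (MvPolynomial (Fin c) B) :=
  MvPolynomial.homogeneousSubmodule (Fin c) B n

/-- evaluation of homogeneous polynomials of degree `n` at `f`, with values in `J^n` -/
noncomputable def evH (n : ℕ) : ↥(Hn (B := B) (c := c) n) →ₗ[B] ↥(Ideal.span (Set.range f) ^ n) :=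
  LinearMap.codRestrict (Ideal.span (Set.range f) ^ n)
    ((MvPolynomial.aeval f).toLinearMap ∘ₗ (Hn (B := B) (c := c) n).subtype)
    (by
      intro P
      rw [Ideal.span_pow_eq_map_homogeneousSubmodule]
      exact ⟨P.1, P.2, rfl⟩)

theorem evH_coe (n : ℕ) (P : ↥(Hn (B := B) (c := c) n)) :
    ((evH f n P : ↥(Ideal.span (Set.range f) ^ n)) : B) = MvPolynomial.eval f P.1 := rfl

theorem evH_surjective (n : ℕ) : Function.Surjective (evH f n) := by
  intro y
  have hy : (y : B) ∈ Submodule.map (MvPolynomial.aeval f).toLinearMap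
      (MvPolynomial.homogeneousSubmodule (Fin c) B n) := by
    rw [← Ideal.span_pow_eq_map_homogeneousSubmodule]
    exact y.2
  obtain ⟨P, hP, hPy⟩ := hy
  refine ⟨⟨P, hP⟩, ?_⟩
  apply Subtype.ext
  rw [evH_coe, ← hPy]
  rfl

/-- The graded piece `J^n / J^(n+1)`, as in the statement. -/
abbrev GrPiece (n : ℕ) : Type u :=
  ↥(Ideal.span (Set.range f) ^ n) ⧸
    (Submodule.comap (Ideal.span (Set.range f) ^ n).subtype (Ideal.span (Set.range f) ^ (n + 1)))

/-- the map from homogeneous polynomials to the graded piece -/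
noncomputable def evQ (n : ℕ) : ↥(Hn (B := B) (c := c) n) →ₗ[B] GrPiece f n :=
  (Submodule.mkQ _) ∘ₗ evH f n

theorem evQ_surjective (n : ℕ) : Function.Surjective (evQ f n) :=
  (Submodule.mkQ_surjective _).comp (evH_surjective f n)

theorem mem_ker_evQ_iff (n : ℕ) (P : ↥(Hn (B := B) (c := c) n)) :
    P ∈ LinearMap.ker (evQ f n) ↔
      MvPolynomial.eval f P.1 ∈ Ideal.span (Set.range f) ^ (n + 1) := by
  rw [LinearMap.mem_ker]
  unfold evQ
  rw [LinearMap.comp_apply, Submodule.mkQ_apply, Submodule.Quotient.mk_eq_zero,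
    Submodule.mem_comap, Submodule.subtype_apply, evH_coe]

/-- the monomial `X^d` as a homogeneous polynomial of degree `n` (zero if the degree is wrong) -/
noncomputable def mono (n : ℕ) (d : Fin c →₀ ℕ) : ↥(Hn (B := B) (c := c) n) :=
  if h : d.degree = n then
    ⟨MvPolynomial.monomial d 1, by
      rw [MvPolynomial.mem_homogeneousSubmodule]
      exact MvPolynomial.isHomogeneous_monomial 1 h⟩
  else 0

theorem mono_coe {n : ℕ} {d : Fin c →₀ ℕ} (h : d.degree = n) :
    ((mono (B := B) n d : ↥(Hn (B := B) (c := c) n)) : MvPolynomial (Fin c) B) =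
      MvPolynomial.monomial d 1 := by
  unfold mono
  rw [dif_pos h]

theorem eq_sum_mono (n : ℕ) (P : ↥(Hn (B := B) (c := c) n)) :
    P = ∑ d ∈ P.1.support, (MvPolynomial.coeff d P.1) • mono (B := B) n d := by
  apply Subtype.ext
  rw [Submodule.coe_sum]
  conv_lhs => rw [← MvPolynomial.support_sum_monomial_coeff P.1]
  refine Finset.sum_congr rfl (fun d hd => ?_)
  have hhom := (MvPolynomial.mem_homogeneousSubmodule n P.1).mp P.2
  have hdeg : d.degree = n := by
    rw [Finsupp.degree_eq_weight_one]
    exact hhom (MvPolynomial.mem_support_iff.mp hd)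
  rw [Submodule.coe_smul, mono_coe hdeg, MvPolynomial.smul_monomial, smul_eq_mul, mul_one]

theorem ker_evQ (hqr : CAlgX.IsQuasiRegular f) (n : ℕ) :
    LinearMap.ker (evQ f n) =
      (Ideal.span (Set.range f)) • (⊤ : Submodule B ↥(Hn (B := B) (c := c) n)) := by
  classical
  apply le_antisymm
  · intro P hP
    rw [mem_ker_evQ_iff] at hP
    have hcoeff := hqr n P.1 ((MvPolynomial.mem_homogeneousSubmodule n P.1).mp P.2) hP
    rw [eq_sum_mono n P]
    exact Submodule.sum_mem _ (fun d _ => Submodule.smul_mem_smul (hcoeff d) Submodule.mem_top)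
  · rw [Submodule.smul_le]
    intro j hj P _
    rw [mem_ker_evQ_iff]
    change MvPolynomial.eval f (j • P.1) ∈ _
    rw [MvPolynomial.smul_eval, pow_succ']
    refine Ideal.mul_mem_mul hj ?_
    have := (evH f n P).2
    rwa [evH_coe] at this

end Gr

section GrFlat

variable {A : Type u} [CommRing A] {B : Type u} [CommRing B] [Algebra A B] {c : ℕ} (f : Fin c → B)

instance flat_Hn (n : ℕ) : Module.Flat B ↥(Hn (B := B) (c := c) n) := by
  let r : MvPolynomial (Fin c) B →ₗ[B] ↥(Hn (B := B) (c := c) n) :=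
    LinearMap.codRestrict _ (MvPolynomial.homogeneousComponent n)
      (fun p => MvPolynomial.homogeneousComponent_mem n p)
  apply Module.Flat.of_retract (Hn (B := B) (c := c) n).subtype r
  apply LinearMap.ext
  intro P
  apply Subtype.ext
  change MvPolynomial.homogeneousComponent n P.1 = P.1
  exact MvPolynomial.homogeneousComponent_of_mem P.2 |>.trans (if_pos rfl)

/-- the graded piece is the reduction of the module of homogeneous polynomials -/
noncomputable def grEquiv (hqr : CAlgX.IsQuasiRegular f) (n : ℕ) :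
    ((B ⧸ Ideal.span (Set.range f)) ⊗[B] ↥(Hn (B := B) (c := c) n)) ≃ₗ[B] GrPiece f n :=
  (TensorProduct.quotTensorEquivQuotSMul ↥(Hn (B := B) (c := c) n) (Ideal.span (Set.range f))).trans
    ((Submodule.quotEquivOfEq _ _ (ker_evQ f hqr n).symm).trans
      ((evQ f n).quotKerEquivOfSurjective (evQ_surjective f n)))

theorem flat_gr (hqr : CAlgX.IsQuasiRegular f) [Module.Flat A (B ⧸ Ideal.span (Set.range f))]
    (n : ℕ) : Module.Flat A (GrPiece f n) := by
  haveI : Module.Flat (B ⧸ Ideal.span (Set.range f))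
      ((B ⧸ Ideal.span (Set.range f)) ⊗[B] ↥(Hn (B := B) (c := c) n)) := inferInstance
  haveI : Module.Flat A ((B ⧸ Ideal.span (Set.range f)) ⊗[B] ↥(Hn (B := B) (c := c) n)) :=
    Module.Flat.trans A (B ⧸ Ideal.span (Set.range f)) _
  exact Module.Flat.of_linearEquiv ((grEquiv f hqr n).restrictScalars A).symm

end GrFlat

section Seq

variable {A : Type u} [CommRing A] {B : Type u} [CommRing B] [Algebra A B]

/-- `K₁/K₂`, in the form of the statement. -/
abbrev SubQuot (K₁ K₂ : Ideal B) : Type u :=
  ↥K₁ ⧸ (Submodule.comap K₁.subtype K₂)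

/-- the inclusion `K₁/K₂ → B/K₂` -/
noncomputable def incl (K₁ K₂ : Ideal B) : SubQuot K₁ K₂ →ₗ[B] B ⧸ K₂ :=
  Submodule.mapQ _ _ K₁.subtype le_rfl

/-- the projection `B/K₂ → B/K₁` -/
noncomputable def proj (K₁ K₂ : Ideal B) (h : K₂ ≤ K₁) : B ⧸ K₂ →ₗ[B] B ⧸ K₁ :=
  Submodule.mapQ K₂ K₁ LinearMap.id (by simpa using h)

theorem incl_mk (K₁ K₂ : Ideal B) (a : ↥K₁) :
    incl K₁ K₂ (Submodule.Quotient.mk a) = Submodule.Quotient.mk (a : B) := rfl

theorem proj_mk (K₁ K₂ : Ideal B) (h : K₂ ≤ K₁) (b : B) :
    proj K₁ K₂ h (Submodule.Quotient.mk b) = Submodule.Quotient.mk b := rfl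

theorem incl_injective (K₁ K₂ : Ideal B) : Function.Injective (incl K₁ K₂) := by
  rw [injective_iff_map_eq_zero]
  intro x hx
  obtain ⟨a, rfl⟩ := Submodule.Quotient.mk_surjective _ x
  rw [incl_mk, Submodule.Quotient.mk_eq_zero] at hx
  rw [Submodule.Quotient.mk_eq_zero]
  exact hx

theorem proj_surjective (K₁ K₂ : Ideal B) (h : K₂ ≤ K₁) : Function.Surjective (proj K₁ K₂ h) := by
  intro y
  obtain ⟨b, rfl⟩ := Submodule.Quotient.mk_surjective _ y
  exact ⟨Submodule.Quotient.mk b, rfl⟩

theorem exact_incl_proj (K₁ K₂ : Ideal B) (h : K₂ ≤ K₁) :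
    Function.Exact (incl K₁ K₂) (proj K₁ K₂ h) := by
  intro y
  obtain ⟨b, rfl⟩ := Submodule.Quotient.mk_surjective _ y
  rw [proj_mk, Submodule.Quotient.mk_eq_zero]
  constructor
  · intro hb
    exact ⟨Submodule.Quotient.mk ⟨b, hb⟩, rfl⟩
  · rintro ⟨x, hx⟩
    obtain ⟨a, rfl⟩ := Submodule.Quotient.mk_surjective _ x
    rw [incl_mk] at hx
    have h1 : (a : B) - b ∈ K₂ := (Submodule.Quotient.eq K₂).mp hx
    have h2 : (a : B) - b ∈ K₁ := h h1
    have h3 : b = (a : B) - ((a : B) - b) := by ring
    rw [h3]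
    exact K₁.sub_mem a.2 h2

theorem flat_subQuot (K₁ K₂ : Ideal B) (h : K₂ ≤ K₁) [Module.Flat A (B ⧸ K₂)]
    [Module.Flat A (B ⧸ K₁)] : Module.Flat A (SubQuot K₁ K₂) :=
  Groth.Agent.Lib.Helper22.flat_of_exact_of_flat_flat
    ((incl K₁ K₂).restrictScalars A) ((proj K₁ K₂ h).restrictScalars A)
    (incl_injective K₁ K₂) (proj_surjective K₁ K₂ h) (exact_incl_proj K₁ K₂ h)

theorem flat_quot_of_subQuot (K₁ K₂ : Ideal B) (h : K₂ ≤ K₁) [Module.Flat A (SubQuot K₁ K₂)]
    [Module.Flat A (B ⧸ K₁)] : Module.Flat A (B ⧸ K₂) :=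
  Groth.Agent.Lib.Helper22.flat_of_exact_of_flat_flat'
    ((incl K₁ K₂).restrictScalars A) ((proj K₁ K₂ h).restrictScalars A)
    (incl_injective K₁ K₂) (proj_surjective K₁ K₂ h) (exact_incl_proj K₁ K₂ h)

theorem flat_ideal (K : Ideal B) [Module.Flat A B] [Module.Flat A (B ⧸ K)] :
    Module.Flat A ↥K :=
  Groth.Agent.Lib.Helper22.flat_of_exact_of_flat_flat
    (K.subtype.restrictScalars A) ((Submodule.mkQ K).restrictScalars A)
    (Submodule.subtype_injective K) (Submodule.mkQ_surjective K)
    (LinearMap.exact_subtype_mkQ K)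

end Seq

section Main

variable {A : Type u} [CommRing A] {B : Type u} [CommRing B] [Algebra A B] {c : ℕ} (f : Fin c → B)

theorem flat_quot_pow (hqr : CAlgX.IsQuasiRegular f)
    [Module.Flat A (B ⧸ Ideal.span (Set.range f))] (m : ℕ) :
    Module.Flat A (B ⧸ Ideal.span (Set.range f) ^ m) := by
  induction m with
  | zero =>
    haveI : Subsingleton (B ⧸ Ideal.span (Set.range f) ^ 0) := by
      rw [pow_zero, Ideal.one_eq_top]
      exact Submodule.Quotient.subsingleton_iff.mpr rfl
    infer_instance
  | succ m ih =>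
    haveI := ih
    haveI : Module.Flat A (SubQuot (Ideal.span (Set.range f) ^ m)
        (Ideal.span (Set.range f) ^ (m + 1))) := flat_gr f hqr m
    exact flat_quot_of_subQuot (Ideal.span (Set.range f) ^ m) (Ideal.span (Set.range f) ^ (m + 1))
      (Ideal.pow_le_pow_right (Nat.le_succ m))

theorem flat_pow_quot (hqr : CAlgX.IsQuasiRegular f)
    [Module.Flat A (B ⧸ Ideal.span (Set.range f))] (n m : ℕ) (hnm : n ≤ m) :
    Module.Flat A (SubQuot (Ideal.span (Set.range f) ^ n) (Ideal.span (Set.range f) ^ m)) := by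
  haveI := flat_quot_pow (A := A) f hqr n
  haveI := flat_quot_pow (A := A) f hqr m
  exact flat_subQuot _ _ (Ideal.pow_le_pow_right hnm)

theorem flat_pow (hqr : CAlgX.IsQuasiRegular f) [Module.Flat A B]
    [Module.Flat A (B ⧸ Ideal.span (Set.range f))] (n : ℕ) :
    Module.Flat A ↥(Ideal.span (Set.range f) ^ n) := by
  haveI := flat_quot_pow (A := A) f hqr n
  exact flat_ideal _

end Main

section Restrict

variable (A : Type u) [CommRing A] (B : Type v) [CommRing B] [Algebra A B]
  (X : Type w) [AddCommGroup X] [Module B X] [Module A X] [IsScalarTower A B X]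

/-- `RestrictScalars A B X` is `X` as an `A`-module. -/
noncomputable def restrictScalarsEquiv : RestrictScalars A B X ≃ₗ[A] X :=
  { RestrictScalars.addEquiv A B X with
    map_smul' := fun a x => by
      change RestrictScalars.addEquiv A B X (a • x) = a • RestrictScalars.addEquiv A B X x
      rw [RestrictScalars.addEquiv_map_smul, algebraMap_smul] }

theorem flat_restrictScalars [Module.Flat A X] : Module.Flat A (RestrictScalars A B X) :=
  Module.Flat.of_linearEquiv (restrictScalarsEquiv A B X)

end Restrict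

section RestrictLoc

variable (A : Type u) [CommRing A] (B : Type v) [CommRing B] [Algebra A B]
  (S : Submonoid B) {M : Type w} [AddCommGroup M] [Module B M] [Module A M] [IsScalarTower A B M]
  {N : Type*} [AddCommGroup N] [Module B N]

theorem flat_restrictScalars_of_isLocalizedModule (g : M →ₗ[B] N) [IsLocalizedModule S g]
    [Module.Flat A M] : Module.Flat A (RestrictScalars A B N) := by
  letI : Module A N := Module.compHom N (algebraMap A B)
  haveI : IsScalarTower A B N :=
    ⟨fun a b x => by
      change (a • b) • x = algebraMap A B a • (b • x)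
      rw [Algebra.smul_def, mul_smul]⟩
  haveI : Module.Flat A N := flat_of_isLocalizedModule S g
  exact flat_restrictScalars A B N

theorem flat_restrictScalars_localizedModule (M : Type w) [AddCommGroup M] [Module B M]
    [Module A M] [IsScalarTower A B M] [Module.Flat A M] :
    Module.Flat A (RestrictScalars A B (LocalizedModule S M)) :=
  flat_restrictScalars_of_isLocalizedModule A B S (LocalizedModule.mkLinearMap S M)

end RestrictLoc

end Groth.Agent.R2.H23.TransReg
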