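import Mathlib
import Groth.Agent.R2.H23TransReg

/-!
# H23NormFlat (helper23, round 2): weakly regular sequences along a normally flat ideal

* `isWeaklyRegular_of_exact`: a sequence weakly regular on the two ends of a short exact sequence
  is weakly regular on the middle term.
* `isWeaklyRegular_of_forall_quot`: Krull intersection: over a Noetherian local ring, a sequence
  which is weakly regular on all `M / J^l M` is weakly regular on the finite module `M`.
-/

set_option autoImplicit false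
set_option linter.style.haveILetI false
universe u v w

namespace Groth.Agent.R2.H23.NormFlat

open RingTheory.Sequence Function

section SES

variable {R : Type u} [CommRing R]

theorem isSMulRegular_of_exact {M' M M'' : Type v} [AddCommGroup M'] [AddCommGroup M]
    [AddCommGroup M''] [Module R M'] [Module R M] [Module R M''] (ι : M' →ₗ[R] M)
    (π : M →ₗ[R] M'') (hι : Injective ι) (hex : Exact ι π) (r : R)
    (h' : IsSMulRegular M' r) (h'' : IsSMulRegular M'' r) : IsSMulRegular M r := by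
  rw [isSMulRegular_iff_right_eq_zero_of_smul] at *
  intro x hx
  have h1 : π x = 0 := h'' _ (by rw [← map_smul, hx, map_zero])
  obtain ⟨y, rfl⟩ := (hex x).mp h1
  have h2 : y = 0 := h' y (hι (by rw [map_smul, hx, map_zero]))
  rw [h2, map_zero]

theorem isWeaklyRegular_of_exact {M' M M'' : Type v} [AddCommGroup M'] [AddCommGroup M]
    [AddCommGroup M''] [Module R M'] [Module R M] [Module R M''] (ι : M' →ₗ[R] M)
    (π : M →ₗ[R] M'') (hι : Injective ι) (hπ : Surjective π) (hex : Exact ι π) {rs : List R}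
    (h' : IsWeaklyRegular M' rs) (h'' : IsWeaklyRegular M'' rs) : IsWeaklyRegular M rs := by
  induction rs generalizing M' M M'' with
  | nil => exact IsWeaklyRegular.nil R M
  | cons r rs ih =>
    rw [isWeaklyRegular_cons_iff] at h' h'' ⊢
    refine ⟨isSMulRegular_of_exact ι π hι hex r h'.1 h''.1, ?_⟩
    refine ih (QuotSMulTop.map r ι) (QuotSMulTop.map r π) ?_ (QuotSMulTop.map_surjective r hπ)
      (QuotSMulTop.map_exact r hex hπ) h'.2 h''.2
    have hz : Exact (0 : PUnit.{v + 1} →ₗ[R] M') ι := by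
      intro y
      constructor
      · intro hy
        exact ⟨PUnit.unit, (hι (hy.trans (map_zero ι).symm)).symm⟩
      · rintro ⟨_, rfl⟩
        simp
    have h4 := QuotSMulTop.map_first_exact_on_four_term_exact_of_isSMulRegular_last
      (r := r) hz hex h''.1
    rw [injective_iff_map_eq_zero]
    intro z hzz
    obtain ⟨w, hw⟩ := (h4 z).mp hzz
    rw [← hw, map_zero, LinearMap.zero_apply]

end SES

section Krull

variable {A : Type u} [CommRing A] [IsLocalRing A] [IsNoetherianRing A]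

/-- Krull intersection: over a Noetherian local ring, a sequence which is weakly regular on all
`M / J^l M` (`J` a proper ideal) is weakly regular on the finite module `M`. -/
theorem isWeaklyRegular_of_forall_quot (J : Ideal A) (hJ : J ≠ ⊤) (M : Type v) [AddCommGroup M]
    [Module A M] [Module.Finite A M] (fs : List A)
    (h : ∀ l : ℕ, IsWeaklyRegular (M ⧸ (J ^ l • (⊤ : Submodule A M))) fs) :
    IsWeaklyRegular M fs := by
  rw [isWeaklyRegular_iff_Fin]
  intro i
  rw [isSMulRegular_quotient_iff_mem_of_smul_mem]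
  intro x hx
  set I := Ideal.ofList (List.take (↑i) fs) with hI
  -- the class of `x` in `M / I M` lies in all `J^l (M / I M)`
  have hkrull := Ideal.iInf_pow_smul_eq_bot_of_isLocalRing (R := A)
    (M := M ⧸ (I • (⊤ : Submodule A M))) J hJ
  have hmem : (Submodule.mkQ (I • (⊤ : Submodule A M))) x ∈
      (⨅ l : ℕ, J ^ l • ⊤ : Submodule A (M ⧸ (I • (⊤ : Submodule A M)))) := by
    rw [Submodule.mem_iInf]
    intro l
    have hl := (isWeaklyRegular_iff_Fin _ fs).mp (h l) i
    rw [isSMulRegular_quotient_iff_mem_of_smul_mem] at hl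
    have h1 : fs[i] • (Submodule.mkQ (J ^ l • (⊤ : Submodule A M))) x ∈
        I • (⊤ : Submodule A (M ⧸ (J ^ l • (⊤ : Submodule A M)))) := by
      rw [← map_smul]
      have : (I • (⊤ : Submodule A M)).map (Submodule.mkQ (J ^ l • (⊤ : Submodule A M))) =
          I • (⊤ : Submodule A (M ⧸ (J ^ l • (⊤ : Submodule A M)))) := by
        rw [Submodule.map_smul'', Submodule.map_top, Submodule.range_mkQ]
      rw [← this]
      exact Submodule.mem_map_of_mem hx
    have h2 := hl _ h1
    have h3 : (I • (⊤ : Submodule A M)).map (Submodule.mkQ (J ^ l • (⊤ : Submodule A M))) =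
        I • (⊤ : Submodule A (M ⧸ (J ^ l • (⊤ : Submodule A M)))) := by
      rw [Submodule.map_smul'', Submodule.map_top, Submodule.range_mkQ]
    rw [← h3] at h2
    obtain ⟨y, hy, hyx⟩ := h2
    have h4 : x - y ∈ J ^ l • (⊤ : Submodule A M) := by
      have := (Submodule.Quotient.eq _).mp hyx.symm
      exact this
    have h5 : (Submodule.mkQ (I • (⊤ : Submodule A M))) x =
        (Submodule.mkQ (I • (⊤ : Submodule A M))) (x - y) := by
      rw [map_sub, sub_eq_self.mpr]
      exact (Submodule.Quotient.mk_eq_zero _).mpr hy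
    rw [h5]
    have h6 : (J ^ l • (⊤ : Submodule A M)).map (Submodule.mkQ (I • (⊤ : Submodule A M))) =
        J ^ l • (⊤ : Submodule A (M ⧸ (I • (⊤ : Submodule A M)))) := by
      rw [Submodule.map_smul'', Submodule.map_top, Submodule.range_mkQ]
    rw [← h6]
    exact Submodule.mem_map_of_mem h4
  rw [hkrull, Submodule.mem_bot] at hmem
  exact (Submodule.Quotient.mk_eq_zero _).mp hmem

end Krull

section ThreeIdeals

open Groth.Agent.R2.H23.TransReg

variable {A : Type u} [CommRing A]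

/-- `K₂/K₃ → K₁/K₃` -/
noncomputable def incl3 (K₁ K₂ K₃ : Ideal A) (h₂₁ : K₂ ≤ K₁) : SubQuot K₂ K₃ →ₗ[A] SubQuot K₁ K₃ :=
  Submodule.mapQ _ _ (Submodule.inclusion h₂₁) (by
    intro x hx
    exact hx)

/-- `K₁/K₃ → K₁/K₂` -/
noncomputable def proj3 (K₁ K₂ K₃ : Ideal A) (h₃₂ : K₃ ≤ K₂) : SubQuot K₁ K₃ →ₗ[A] SubQuot K₁ K₂ :=
  Submodule.mapQ _ _ LinearMap.id (by
    intro x hx
    exact h₃₂ hx)

theorem incl3_mk (K₁ K₂ K₃ : Ideal A) (h₂₁ : K₂ ≤ K₁) (a : ↥K₂) :
    incl3 K₁ K₂ K₃ h₂₁ (Submodule.Quotient.mk a) =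
      Submodule.Quotient.mk (Submodule.inclusion h₂₁ a) := rfl

theorem proj3_mk (K₁ K₂ K₃ : Ideal A) (h₃₂ : K₃ ≤ K₂) (a : ↥K₁) :
    proj3 K₁ K₂ K₃ h₃₂ (Submodule.Quotient.mk a) = Submodule.Quotient.mk a := rfl

theorem incl3_injective (K₁ K₂ K₃ : Ideal A) (h₂₁ : K₂ ≤ K₁) :
    Injective (incl3 K₁ K₂ K₃ h₂₁) := by
  rw [injective_iff_map_eq_zero]
  intro x hx
  obtain ⟨a, rfl⟩ := Submodule.Quotient.mk_surjective _ x
  rw [incl3_mk, Submodule.Quotient.mk_eq_zero] at hx
  rw [Submodule.Quotient.mk_eq_zero]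
  exact hx

theorem proj3_surjective (K₁ K₂ K₃ : Ideal A) (h₃₂ : K₃ ≤ K₂) :
    Surjective (proj3 K₁ K₂ K₃ h₃₂) := by
  intro y
  obtain ⟨b, rfl⟩ := Submodule.Quotient.mk_surjective _ y
  exact ⟨Submodule.Quotient.mk b, rfl⟩

theorem exact_incl3_proj3 (K₁ K₂ K₃ : Ideal A) (h₂₁ : K₂ ≤ K₁) (h₃₂ : K₃ ≤ K₂) :
    Exact (incl3 K₁ K₂ K₃ h₂₁) (proj3 K₁ K₂ K₃ h₃₂) := by
  intro y
  obtain ⟨b, rfl⟩ := Submodule.Quotient.mk_surjective _ y
  rw [proj3_mk, Submodule.Quotient.mk_eq_zero]
  constructor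
  · intro hb
    exact ⟨Submodule.Quotient.mk ⟨(b : A), hb⟩, rfl⟩
  · rintro ⟨x, hx⟩
    obtain ⟨a, rfl⟩ := Submodule.Quotient.mk_surjective _ x
    rw [incl3_mk] at hx
    have h1 : Submodule.inclusion h₂₁ a - b ∈ Submodule.comap K₁.subtype K₃ :=
      (Submodule.Quotient.eq _).mp hx
    have h2 : ((a : A) - (b : A)) ∈ K₃ := h1
    have h3 : (b : A) = (a : A) - ((a : A) - (b : A)) := by ring
    change (b : A) ∈ K₂
    rw [h3]
    exact K₂.sub_mem a.2 (h₃₂ h2)

/-- `I • ⊤ ⊆ K` is the preimage of `I * K`. -/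
theorem smul_top_eq_comap (K I : Ideal A) :
    I • (⊤ : Submodule A ↥K) = Submodule.comap K.subtype (I * K) := by
  have h1 : (I • (⊤ : Submodule A ↥K)).map K.subtype = I * K := by
    rw [Submodule.map_smul'', Submodule.map_top, Submodule.range_subtype]
    rfl
  rw [← h1, Submodule.comap_map_eq_of_injective (Submodule.subtype_injective K)]

end ThreeIdeals

section Main

open Groth.Agent.R2.H23.TransReg TensorProduct

variable {A : Type u} [CommRing A]

/-- A sequence weakly regular on `A/J` is weakly regular on any flat `A/J`-module. -/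
theorem isWeaklyRegular_of_flat_quot (J : Ideal A) (G : Type v) [AddCommGroup G] [Module A G]
    [Module (A ⧸ J) G] [IsScalarTower A (A ⧸ J) G] [Module.Flat (A ⧸ J) G] (fs : List A)
    (hreg : IsWeaklyRegular (A ⧸ J) fs) : IsWeaklyRegular G fs := by
  have h1 : IsWeaklyRegular (A ⧸ J) (fs.map (algebraMap A (A ⧸ J))) :=
    (isWeaklyRegular_map_algebraMap_iff (A ⧸ J) (A ⧸ J) fs).mpr hreg
  have h2 := h1.isWeaklyRegular_rTensor (M₂ := G)
  have h3 := (LinearEquiv.isWeaklyRegular_congr (TensorProduct.lid (A ⧸ J) G) _).mp h2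
  exact (isWeaklyRegular_map_algebraMap_iff (A ⧸ J) G fs).mp h3

/-- `K/(I K) ≃ K/(I * K)` in `SubQuot` form. -/
noncomputable def quotSMulTopEquivSubQuot (K I : Ideal A) :
    (↥K ⧸ (I • (⊤ : Submodule A ↥K))) ≃ₗ[A] SubQuot K (I * K) :=
  Submodule.quotEquivOfEq _ _ (smul_top_eq_comap K I)

theorem isWeaklyRegular_of_subsingleton (M : Type v) [AddCommGroup M] [Module A M]
    [Subsingleton M] (fs : List A) : IsWeaklyRegular M fs := by
  rw [isWeaklyRegular_iff_Fin]
  intro i
  exact Function.injective_of_subsingleton _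

theorem isWeaklyRegular_subQuot_pow (J : Ideal A) (fs : List A)
    (hG : ∀ n : ℕ, IsWeaklyRegular (SubQuot (J ^ n) (J ^ (n + 1))) fs) (k l : ℕ) :
    IsWeaklyRegular (SubQuot (J ^ k) (J ^ (k + l))) fs := by
  induction l with
  | zero =>
    haveI : Subsingleton (SubQuot (J ^ k) (J ^ (k + 0))) := by
      rw [Submodule.Quotient.subsingleton_iff, eq_top_iff]
      intro x _
      exact x.2
    exact isWeaklyRegular_of_subsingleton _ fs
  | succ l ih =>
    have h₂₁ : J ^ (k + l) ≤ J ^ k := Ideal.pow_le_pow_right (Nat.le_add_right k l)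
    have h₃₂ : J ^ (k + (l + 1)) ≤ J ^ (k + l) := Ideal.pow_le_pow_right (by omega)
    exact isWeaklyRegular_of_exact (incl3 (J ^ k) (J ^ (k + l)) (J ^ (k + (l + 1))) h₂₁)
      (proj3 (J ^ k) (J ^ (k + l)) (J ^ (k + (l + 1))) h₃₂) (incl3_injective _ _ _ _)
      (proj3_surjective _ _ _ _) (exact_incl3_proj3 _ _ _ _ _) (hG (k + l)) ih

/-- Main theorem: normal flatness along `J` propagates weak regularity from `A/J` to all `J^k`
and `J^k/J^(k+1)`. -/
theorem weaklyRegular_on_powers [IsLocalRing A] [IsNoetherianRing A] (J : Ideal A) (hJ : J ≠ ⊤)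
    (hflat : ∀ k : ℕ, Module.Flat (A ⧸ J) (↥(J ^ k) ⧸ (J • (⊤ : Submodule A ↥(J ^ k)))))
    (fs : List A) (hreg : IsWeaklyRegular (A ⧸ J) fs) (k : ℕ) :
    IsWeaklyRegular (↥(J ^ k)) fs ∧
      IsWeaklyRegular (↥(J ^ k) ⧸ (J • (⊤ : Submodule A ↥(J ^ k)))) fs := by
  have hb : ∀ n : ℕ, IsWeaklyRegular (↥(J ^ n) ⧸ (J • (⊤ : Submodule A ↥(J ^ n)))) fs := by
    intro n
    haveI := hflat n
    exact isWeaklyRegular_of_flat_quot J _ fs hreg
  refine ⟨?_, hb k⟩
  have hG : ∀ n : ℕ, IsWeaklyRegular (SubQuot (J ^ n) (J ^ (n + 1))) fs := by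
    intro n
    have e := quotSMulTopEquivSubQuot (J ^ n) J
    rw [← pow_succ'] at e
    exact (LinearEquiv.isWeaklyRegular_congr e fs).mp (hb n)
  apply isWeaklyRegular_of_forall_quot J hJ
  intro l
  have e := quotSMulTopEquivSubQuot (J ^ k) (J ^ l)
  rw [← pow_add, add_comm] at e
  exact (LinearEquiv.isWeaklyRegular_congr e fs).mpr (isWeaklyRegular_subQuot_pow J fs hG k l)

end Main

end Groth.Agent.R2.H23.NormFlat
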