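import Mathlib
import Groth.Prelude.Def_SGA1
import Groth.Agent.Lib.Helper20Quot
import Groth.Agent.Lib.Helper20QuotAff

/-!
# `Proj B → Proj B^G` is a quotient by the finite group `G` (helper23)

Namespace `Groth.Agent.R2.H23.ProjQuot`.
-/

set_option autoImplicit false
universe u
open CategoryTheory CategoryTheory.Limits AlgebraicGeometry

namespace Groth.Agent.R2.H23.ProjQuot

open SGA1 Groth.Agent.Lib.Helper20

/-! ### The quotient conditions can be checked on a basis stable under intersections -/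

section basis

variable {X Y : Scheme.{u}} {ι : Type u} {σ : ι → (X ⟶ X)} {p : X ⟶ Y}

theorem quotAt_of_basis (hσ : ∀ i, σ i ≫ p = p) (ℬ : Set Y.Opens)
    (hB : TopologicalSpace.Opens.IsBasis ℬ) (hinf : ∀ V ∈ ℬ, ∀ W ∈ ℬ, V ⊓ W ∈ ℬ)
    (hbasic : ∀ V ∈ ℬ, QuotAt σ p V (p ⁻¹ᵁ V)) (U : Y.Opens) :
    QuotAt σ p U (p ⁻¹ᵁ U) := by
  have eσ : ∀ (W : Y.Opens) (i : ι), p ⁻¹ᵁ W ≤ σ i ⁻¹ᵁ (p ⁻¹ᵁ W) := by
    intro W i
    rw [← Scheme.Hom.comp_preimage, hσ i]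
  let J := {V : Y.Opens // V ∈ ℬ ∧ V ≤ U}
  let V : J → Y.Opens := fun j => j.1
  have hcover : U ≤ iSup V := by
    intro y hy
    obtain ⟨W, hW, hyW, hWU⟩ := TopologicalSpace.Opens.isBasis_iff_nbhd.mp hB hy
    exact TopologicalSpace.Opens.mem_iSup.mpr ⟨⟨W, hW, hWU⟩, hyW⟩
  have hcover' : p ⁻¹ᵁ U ≤ iSup (fun j : J => p ⁻¹ᵁ V j) := by
    intro x hx
    obtain ⟨j, hj⟩ := TopologicalSpace.Opens.mem_iSup.mp (hcover (show p.base x ∈ U from hx))
    exact TopologicalSpace.Opens.mem_iSup.mpr ⟨j, hj⟩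
  have hb : ∀ j : J, QuotAt σ p (V j) (p ⁻¹ᵁ V j) := fun j => hbasic j.1 j.2.1
  have hbb : ∀ j k : J, QuotAt σ p (V j ⊓ V k) (p ⁻¹ᵁ (V j ⊓ V k)) := fun j k =>
    hbasic _ (hinf _ j.2.1 _ k.2.1)
  have hres : ∀ (W W' : Y.Opens) (hWW' : W' ≤ W) (a : Γ(Y, W)),
      (p.app W').hom ((Y.presheaf.map (homOfLE hWW').op).hom a) =
        (X.presheaf.map (homOfLE (p.preimage_mono hWW')).op).hom ((p.app W).hom a) := by
    intro W W' hWW' a
    exact congrArg (fun f => f.hom a) (p.naturality (homOfLE hWW').op)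
  have hresσ : ∀ (W W' : Y.Opens) (hWW' : W' ≤ W) (i : ι) (t : Γ(X, p ⁻¹ᵁ W)),
      ((σ i).appLE _ _ (eσ W' i)).hom ((X.presheaf.map (homOfLE (p.preimage_mono hWW')).op).hom t) =
        (X.presheaf.map (homOfLE (p.preimage_mono hWW')).op).hom
          (((σ i).appLE _ _ (eσ W i)).hom t) := by
    intro W W' hWW' i t
    have h1 : X.presheaf.map (homOfLE (p.preimage_mono hWW')).op ≫ (σ i).appLE _ _ (eσ W' i) =
        (σ i).appLE _ _ (eσ W i) ≫ X.presheaf.map (homOfLE (p.preimage_mono hWW')).op := by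
      rw [Scheme.Hom.map_appLE, Scheme.Hom.appLE_map]
    exact congrArg (fun f => f.hom t) h1
  have happ : ∀ (W : Y.Opens) (hW : QuotAt σ p W (p ⁻¹ᵁ W)),
      Function.Injective (p.app W).hom ∧ ∀ s : Γ(X, p ⁻¹ᵁ W),
        (∀ i, ((σ i).appLE _ _ (eσ W i)).hom s = s) → s ∈ Set.range (p.app W).hom := by
    rintro W ⟨e, eσ', hinj, hrange⟩
    rw [Scheme.Hom.app_eq_appLE]
    exact ⟨hinj, hrange⟩
  refine ⟨le_rfl, eσ U, ?_, ?_⟩
  · rw [Scheme.Hom.appLE_eq_app, injective_iff_map_eq_zero]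
    intro s hs
    fapply Y.sheaf.eq_of_locally_eq' V U (fun j => homOfLE j.2.2) hcover
    intro j
    change (Y.presheaf.map (homOfLE j.2.2).op).hom s = (Y.presheaf.map (homOfLE j.2.2).op).hom 0
    rw [map_zero]
    apply (happ _ (hb j)).1
    rw [map_zero, hres U (V j) j.2.2 s, hs, map_zero]
  · intro t ht
    rw [Scheme.Hom.appLE_eq_app]
    have h1 : ∀ j : J, ∃ s : Γ(Y, V j), (p.app (V j)).hom s =
        (X.presheaf.map (homOfLE (p.preimage_mono j.2.2)).op).hom t := by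
      intro j
      apply (happ _ (hb j)).2
      intro i
      rw [hresσ U (V j) j.2.2 i t, ht i]
    choose sf hsf using h1
    have hcompat : TopCat.Presheaf.IsCompatible Y.presheaf V sf := by
      intro j k
      apply (happ _ (hbb j k)).1
      change (p.app (V j ⊓ V k)).hom ((Y.presheaf.map (homOfLE inf_le_left).op).hom (sf j)) =
        (p.app (V j ⊓ V k)).hom ((Y.presheaf.map (homOfLE inf_le_right).op).hom (sf k))
      rw [hres (V j) (V j ⊓ V k) inf_le_left, hres (V k) (V j ⊓ V k) inf_le_right, hsf, hsf]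
      change (X.presheaf.map _ ≫ X.presheaf.map _).hom t = (X.presheaf.map _ ≫ X.presheaf.map _).hom t
      rw [← X.presheaf.map_comp, ← X.presheaf.map_comp]
      rfl
    obtain ⟨s, hs, -⟩ := Y.sheaf.existsUnique_gluing' V U (fun j => homOfLE j.2.2) hcover sf hcompat
    refine ⟨s, ?_⟩
    fapply X.sheaf.eq_of_locally_eq' (fun j : J => p ⁻¹ᵁ V j) (p ⁻¹ᵁ U)
      (fun j => homOfLE (p.preimage_mono j.2.2)) hcover'
    intro j
    change (X.presheaf.map (homOfLE (p.preimage_mono j.2.2)).op).hom ((p.app U).hom s) =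
      (X.presheaf.map (homOfLE (p.preimage_mono j.2.2)).op).hom t
    rw [← hres U (V j) j.2.2 s, ← hsf j]
    congr 1
    exact hs j

/-- The quotient conditions over all opens imply `IsQuot`. -/
theorem isQuot_of_quotAt {G : Type u} [Group G] (ρ : G →* Aut X)
    (haff : IsAffineHom p) (hinv : ∀ g : G, (ρ g).hom ≫ p = p)
    (hall : ∀ U : Y.Opens, QuotAt (fun g : G => (ρ g).hom) p U (p ⁻¹ᵁ U)) : IsQuot ρ p := by
  refine ⟨haff, hinv, fun U => ?_, fun U s => ⟨?_, ?_⟩⟩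
  · obtain ⟨e, eσ, hinj, -⟩ := hall U
    rw [Scheme.Hom.appLE_eq_app] at hinj
    exact hinj
  · rintro ⟨a, rfl⟩ g
    have := appLE_invariant (σ := fun g : G => (ρ g).hom) hinv U (p ⁻¹ᵁ U) le_rfl g
      (preimage_le_of_inv ρ p hinv g U) a
    rw [Scheme.Hom.appLE_eq_app] at this
    exact this
  · intro hs
    obtain ⟨e, eσ, -, hrange⟩ := hall U
    have := hrange s hs
    rw [Scheme.Hom.appLE_eq_app] at this
    exact this

end basis

/-! ### The quotient conditions on an affine chart -/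

section chart

theorem isIso_appLE_of_eq {Z W : Scheme.{u}} (j : Z ⟶ W) [IsOpenImmersion j] (V : W.Opens)
    (hV : V = j.opensRange) (e : (⊤ : Z.Opens) ≤ j ⁻¹ᵁ V) : IsIso (j.appLE V ⊤ e) := by
  rw [Scheme.Hom.appLE]
  have : IsIso (j.app V) := j.isIso_app V hV.le
  have h2 : IsIso (homOfLE e) := ⟨⟨homOfLE le_top, Subsingleton.elim _ _, Subsingleton.elim _ _⟩⟩
  infer_instance

theorem quotAt_of_chart {X Y : Scheme.{u}} {ι : Type u} {σ : ι → (X ⟶ X)} {p : X ⟶ Y}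
    {R S : CommRingCat.{u}} (j : Spec R ⟶ Y) (j' : Spec S ⟶ X)
    [IsOpenImmersion j] [IsOpenImmersion j']
    (φ : R ⟶ S) (hφ : j' ≫ p = Spec.map φ ≫ j) (hrange : j'.opensRange = p ⁻¹ᵁ j.opensRange)
    (ψ : ι → (S ⟶ S)) (hψ : ∀ i, j' ≫ σ i = Spec.map (ψ i) ≫ j')
    (hinj : Function.Injective φ.hom)
    (hinv : ∀ s : S, (∀ i, (ψ i).hom s = s) → s ∈ Set.range φ.hom) :
    QuotAt σ p j.opensRange (p ⁻¹ᵁ j.opensRange) := by
  have eσ : ∀ i, p ⁻¹ᵁ j.opensRange ≤ σ i ⁻¹ᵁ (p ⁻¹ᵁ j.opensRange) := by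
    intro i
    rw [← hrange]
    rintro x ⟨z, rfl⟩
    change (σ i).base (j'.base z) ∈ j'.opensRange
    have h1 : (σ i).base (j'.base z) = j'.base ((Spec.map (ψ i)).base z) := by
      have := congrArg (fun f : Spec S ⟶ X => f.base z) (hψ i)
      simpa using this
    rw [h1]
    exact ⟨_, rfl⟩
  have eV : (⊤ : (Spec R).Opens) ≤ j ⁻¹ᵁ j.opensRange := fun z _ => ⟨z, rfl⟩
  have eT : (⊤ : (Spec S).Opens) ≤ j' ⁻¹ᵁ (p ⁻¹ᵁ j.opensRange) := by
    rw [← hrange]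
    exact fun z _ => ⟨z, rfl⟩
  have ha := isIso_appLE_of_eq j j.opensRange rfl eV
  have ha' := isIso_appLE_of_eq j' (p ⁻¹ᵁ j.opensRange) hrange.symm eT
  have hA := ConcreteCategory.bijective_of_isIso (j.appLE j.opensRange ⊤ eV)
  have hA' := ConcreteCategory.bijective_of_isIso (j'.appLE (p ⁻¹ᵁ j.opensRange) ⊤ eT)
  have hgR := ConcreteCategory.bijective_of_isIso (Scheme.ΓSpecIso R).hom
  have hgS := ConcreteCategory.bijective_of_isIso (Scheme.ΓSpecIso S).hom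
  -- the key identities
  have K1 : ∀ t : Γ(Y, j.opensRange),
      (Scheme.ΓSpecIso S).hom.hom ((j'.appLE (p ⁻¹ᵁ j.opensRange) ⊤ eT).hom
        ((p.appLE j.opensRange (p ⁻¹ᵁ j.opensRange) le_rfl).hom t)) =
      φ.hom ((Scheme.ΓSpecIso R).hom.hom ((j.appLE j.opensRange ⊤ eV).hom t)) := by
    intro t
    have h1 : p.appLE j.opensRange (p ⁻¹ᵁ j.opensRange) le_rfl ≫
        j'.appLE (p ⁻¹ᵁ j.opensRange) ⊤ eT ≫ (Scheme.ΓSpecIso S).hom =
        j.appLE j.opensRange ⊤ eV ≫ (Scheme.ΓSpecIso R).hom ≫ φ := by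
      rw [← Scheme.ΓSpecIso_naturality, ← Category.assoc, ← Category.assoc,
        Scheme.Hom.appLE_comp_appLE, ← appLE_top_top (Spec.map φ) le_top,
        Scheme.Hom.appLE_comp_appLE]
      congr 1
      exact appLE_congr_hom hφ _ _ _
    exact congrArg (fun f => f.hom t) h1
  have K2 : ∀ (i : ι) (s : Γ(X, p ⁻¹ᵁ j.opensRange)),
      (Scheme.ΓSpecIso S).hom.hom ((j'.appLE (p ⁻¹ᵁ j.opensRange) ⊤ eT).hom
        (((σ i).appLE (p ⁻¹ᵁ j.opensRange) (p ⁻¹ᵁ j.opensRange) (eσ i)).hom s)) =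
      (ψ i).hom ((Scheme.ΓSpecIso S).hom.hom ((j'.appLE (p ⁻¹ᵁ j.opensRange) ⊤ eT).hom s)) := by
    intro i s
    have h1 : (σ i).appLE (p ⁻¹ᵁ j.opensRange) (p ⁻¹ᵁ j.opensRange) (eσ i) ≫
        j'.appLE (p ⁻¹ᵁ j.opensRange) ⊤ eT ≫ (Scheme.ΓSpecIso S).hom =
        j'.appLE (p ⁻¹ᵁ j.opensRange) ⊤ eT ≫ (Scheme.ΓSpecIso S).hom ≫ ψ i := by
      rw [← Scheme.ΓSpecIso_naturality, ← Category.assoc, ← Category.assoc,
        Scheme.Hom.appLE_comp_appLE, ← appLE_top_top (Spec.map (ψ i)) le_top,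
        Scheme.Hom.appLE_comp_appLE]
      congr 1
      exact appLE_congr_hom (hψ i) _ _ _
    exact congrArg (fun f => f.hom s) h1
  refine ⟨le_rfl, eσ, ?_, ?_⟩
  · intro t t' htt'
    have h1 := K1 t
    rw [htt', K1 t'] at h1
    exact hA.1 (hgR.1 (hinj h1.symm))
  · intro s hs
    obtain ⟨r, hr⟩ := hinv ((Scheme.ΓSpecIso S).hom.hom
      ((j'.appLE (p ⁻¹ᵁ j.opensRange) ⊤ eT).hom s)) (fun i => by rw [← K2 i s, hs i])
    obtain ⟨r', rfl⟩ := hgR.2 r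
    obtain ⟨t, rfl⟩ := hA.2 r'
    refine ⟨t, ?_⟩
    apply hA'.1
    apply hgS.1
    rw [K1 t, hr]

end chart

/-! ### Graded algebra: invariants of homogeneous localisations -/

section algebra

open HomogeneousLocalization

theorem val_map {ι A B σ τ : Type*} [CommRing A] [SetLike σ A] [AddSubgroupClass σ A]
    [AddCommMonoid ι] [DecidableEq ι] {𝒜 : ι → σ} [GradedRing 𝒜] [CommRing B] [SetLike τ B]
    [AddSubgroupClass τ B] {ℬ : ι → τ} [GradedRing ℬ] {P : Submonoid A} {Q : Submonoid B}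
    (g : 𝒜 →+*ᵍ ℬ) (comap_le : P ≤ Q.comap g) (x : HomogeneousLocalization 𝒜 P) :
    (HomogeneousLocalization.map g comap_le x).val =
      IsLocalization.map (Localization Q) g.toRingHom comap_le x.val := by
  obtain ⟨c, rfl⟩ := x.mk_surjective
  rw [HomogeneousLocalization.map_mk, HomogeneousLocalization.val_mk,
    HomogeneousLocalization.val_mk]
  simp only [Localization.mk_eq_mk', IsLocalization.map_mk']
  rfl

variable {R A : Type u} [CommRing R] [CommRing A] [Algebra R A] (𝒜 : ℕ → Submodule R A)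
  [GradedAlgebra 𝒜] {G : Type u} [Group G] [MulSemiringAction G A]
  (hGdeg : ∀ (σ : G) (i : ℕ) (a : A), a ∈ 𝒜 i → σ • a ∈ 𝒜 i)
  {C : Type u} [CommRing C] [Algebra R C] (𝒞 : ℕ → Submodule R C) [GradedAlgebra 𝒞]
  (ι : C →ₐ[R] A)
  (hιdeg : ∀ (i : ℕ) (a : A), a ∈ (𝒞 i).map ι.toLinearMap ↔ (a ∈ 𝒜 i ∧ ∀ σ : G, σ • a = a))

/-- the graded ring endomorphism given by a group element -/
def sgr (σ : G) : 𝒜 →+*ᵍ 𝒜 where
  toRingHom := MulSemiringAction.toRingHom G A σ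
  map_mem := fun hx => hGdeg σ _ _ hx

@[simp] theorem sgr_apply (σ : G) (a : A) : sgr 𝒜 hGdeg σ a = σ • a := rfl

/-- the graded ring homomorphism given by the inclusion of invariants -/
def igr : 𝒞 →+*ᵍ 𝒜 where
  toRingHom := ι.toRingHom
  map_mem := fun hx => ((hιdeg _ _).mp (Submodule.mem_map_of_mem hx)).1

@[simp] theorem igr_apply (c : C) : igr 𝒜 𝒞 ι hιdeg c = ι c := rfl

include hιdeg in
theorem smul_ι (g : G) (c : C) : g • ι c = ι c := by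
  classical
  rw [← DirectSum.sum_support_decompose 𝒞 c, map_sum, Finset.smul_sum]
  refine Finset.sum_congr rfl fun i _ => ?_
  exact ((hιdeg i _).mp (Submodule.mem_map_of_mem (SetLike.coe_mem _))).2 g

theorem powers_le_comap (f : A) (hf : ∀ g : G, g • f = f) (g : G) :
    Submonoid.powers f ≤ (Submonoid.powers f).comap (sgr 𝒜 hGdeg g) := by
  rintro _ ⟨k, rfl⟩
  exact ⟨k, by simp [smul_pow', hf g]⟩

/-- the action of `G` on the degree zero localisation at an invariant element -/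
def actAway (f : A) (hf : ∀ g : G, g • f = f) (g : G) : Away 𝒜 f →+* Away 𝒜 f :=
  HomogeneousLocalization.map (sgr 𝒜 hGdeg g) (powers_le_comap 𝒜 hGdeg f hf g)

theorem val_actAway_mk {f : A} (hf : ∀ g : G, g • f = f) (g : G) {n : ℕ} (hfn : f ∈ 𝒜 n)
    (k : ℕ) (a : A) (ha : a ∈ 𝒜 (k • n)) :
    (actAway 𝒜 hGdeg f hf g (Away.mk 𝒜 hfn k a ha)).val =
      Localization.mk (g • a) (⟨f ^ k, k, rfl⟩ : Submonoid.powers f) := by
  rw [actAway, Away.mk, HomogeneousLocalization.map_mk, HomogeneousLocalization.val_mk]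
  congr 1
  exact Subtype.ext (by simp [smul_pow', hf g])

variable (φ : 𝒞 →+*ᵍ 𝒜) (hφfix : ∀ (g : G) (c : C), g • φ c = φ c)

theorem chart_injective (hφ : Function.Injective φ) {n : ℕ} {c : C} (hc : c ∈ 𝒞 n) :
    Function.Injective (Away.map φ c) := by
  intro x y hxy
  obtain ⟨k, a, ha, rfl⟩ := Away.mk_surjective 𝒞 hc x
  obtain ⟨l, b, hb, rfl⟩ := Away.mk_surjective 𝒞 hc y
  rw [Away.map_mk, Away.map_mk, HomogeneousLocalization.ext_iff_val, Away.val_mk, Away.val_mk,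
    Localization.mk_eq_mk_iff, Localization.r_iff_exists] at hxy
  obtain ⟨⟨_, m, rfl⟩, hm⟩ := hxy
  rw [HomogeneousLocalization.ext_iff_val, Away.val_mk, Away.val_mk,
    Localization.mk_eq_mk_iff, Localization.r_iff_exists]
  refine ⟨⟨c ^ m, m, rfl⟩, ?_⟩
  apply hφ
  simpa using hm

theorem act_chart {n : ℕ} {c : C} (hc : c ∈ 𝒞 n) (g : G) (x : Away 𝒞 c) :
    actAway 𝒜 hGdeg (φ c) (fun g => hφfix g c) g (Away.map φ c x) = Away.map φ c x := by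
  obtain ⟨k, a, ha, rfl⟩ := Away.mk_surjective 𝒞 hc x
  rw [Away.map_mk, HomogeneousLocalization.ext_iff_val,
    val_actAway_mk 𝒜 hGdeg (fun g => hφfix g c) g, Away.val_mk, hφfix]

theorem chart_invariants [Finite G]
    (hφsurj : ∀ (i : ℕ) (a : A), a ∈ 𝒜 i → (∀ σ : G, σ • a = a) → ∃ c ∈ 𝒞 i, φ c = a)
    {n : ℕ} {c : C} (hc : c ∈ 𝒞 n) (z : Away 𝒜 (φ c))
    (hz : ∀ g : G, actAway 𝒜 hGdeg (φ c) (fun g => hφfix g c) g z = z) :
    z ∈ Set.range (Away.map φ c) := by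
  have hf : φ c ∈ 𝒜 n := Graded.map_mem φ hc
  have hfix : ∀ g : G, g • φ c = φ c := fun g => hφfix g c
  obtain ⟨k, a, ha, rfl⟩ := Away.mk_surjective 𝒜 hf z
  have h1 : ∀ g : G, ∃ m : ℕ, φ c ^ m * (φ c ^ k * (g • a)) = φ c ^ m * (φ c ^ k * a) := by
    intro g
    have := hz g
    rw [HomogeneousLocalization.ext_iff_val, val_actAway_mk 𝒜 hGdeg hfix g hf, Away.val_mk,
      Localization.mk_eq_mk_iff, Localization.r_iff_exists] at this
    obtain ⟨⟨_, m, rfl⟩, hm⟩ := this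
    exact ⟨m, hm⟩
  choose m hm using h1
  obtain ⟨M, hM⟩ := (Set.finite_range m).bddAbove
  have h2 : ∀ g : G, φ c ^ M * (φ c ^ k * (g • a)) = φ c ^ M * (φ c ^ k * a) := by
    intro g
    have hle : m g ≤ M := hM ⟨g, rfl⟩
    obtain ⟨d, rfl⟩ := Nat.exists_eq_add_of_le hle
    rw [pow_add, mul_comm (φ c ^ m g), mul_assoc, mul_assoc, hm g]
  have ha' : φ c ^ (M + k) * a ∈ 𝒜 ((M + k + k) • n) := by
    rw [add_smul (M + k) k n]
    exact SetLike.mul_mem_graded (SetLike.pow_mem_graded _ hf) ha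
  have hinv' : ∀ g : G, g • (φ c ^ (M + k) * a) = φ c ^ (M + k) * a := by
    intro g
    rw [smul_mul', smul_pow', hfix g, pow_add, mul_assoc, mul_assoc, h2 g]
  obtain ⟨c', hc', hcc'⟩ := hφsurj _ _ ha' hinv'
  refine ⟨Away.mk 𝒞 hc (M + k + k) c' hc', ?_⟩
  rw [Away.map_mk, HomogeneousLocalization.ext_iff_val, Away.val_mk, Away.val_mk,
    Localization.mk_eq_mk_iff, Localization.r_iff_exists]
  refine ⟨1, ?_⟩
  simp only [OneMemClass.coe_one, one_mul]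
  rw [hcc']
  ring

include hGdeg in
theorem mem_of_forall_invariant_mem [Finite G]
    (hφsurj : ∀ (i : ℕ) (a : A), a ∈ 𝒜 i → (∀ σ : G, σ • a = a) → ∃ c ∈ 𝒞 i, φ c = a)
    (𝔭 : Ideal A) [𝔭.IsPrime]
    (h : ∀ n, 0 < n → ∀ c ∈ 𝒞 n, φ c ∈ 𝔭) {m : ℕ} (hm : 0 < m) {a : A} (ha : a ∈ 𝒜 m) :
    a ∈ 𝔭 := by
  classical
  cases nonempty_fintype G
  set P := MulSemiringAction.charpoly G a with hPdef
  set N := P.natDegree with hN
  have hP : P.eval a = 0 := MulSemiringAction.eval_charpoly G a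
  have hmonic : P.Monic := MulSemiringAction.monic_charpoly G a
  have h0 : ∑ k ∈ Finset.range (N + 1), P.coeff k * a ^ k = 0 := by
    rw [← Polynomial.eval_eq_sum_range, hP]
  have h3 : ∀ k ∈ Finset.range (N + 1), GradedRing.proj 𝒜 (N * m) (P.coeff k * a ^ k) =
      (DirectSum.decompose 𝒜 (P.coeff k) ((N - k) * m) : A) * a ^ k := by
    intro k hk
    have hk' : k ≤ N := Nat.lt_succ_iff.mp (Finset.mem_range.mp hk)
    have hak : a ^ k ∈ 𝒜 (k * m) := by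
      have := SetLike.pow_mem_graded k ha
      rwa [smul_eq_mul] at this
    rw [GradedRing.proj_apply,
      DirectSum.coe_decompose_mul_of_right_mem_of_le 𝒜 hak (Nat.mul_le_mul_right m hk'),
      ← Nat.sub_mul]
  have h4 : ∑ k ∈ Finset.range (N + 1),
      (DirectSum.decompose 𝒜 (P.coeff k) ((N - k) * m) : A) * a ^ k = 0 := by
    rw [← Finset.sum_congr rfl h3, ← map_sum, h0, map_zero]
  rw [Finset.sum_range_succ, Nat.sub_self, zero_mul, hmonic.coeff_natDegree,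
    DirectSum.decompose_of_mem_same 𝒜 (SetLike.GradedOne.one_mem), one_mul] at h4
  have h5 : a ^ N ∈ 𝔭 := by
    rw [eq_neg_of_add_eq_zero_right h4]
    apply neg_mem
    apply Ideal.sum_mem
    intro k hk
    apply Ideal.mul_mem_right
    have hk' : k < N := Finset.mem_range.mp hk
    have hfix : ∀ σ : G, σ • (DirectSum.decompose 𝒜 (P.coeff k) ((N - k) * m) : A) =
        (DirectSum.decompose 𝒜 (P.coeff k) ((N - k) * m) : A) := by
      intro σ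
      have := GradedRingHom.map_directSumDecompose 𝒜 𝒜 (sgr 𝒜 hGdeg σ) (x := P.coeff k)
        (i := (N - k) * m)
      rw [sgr_apply, sgr_apply, MulSemiringAction.smul_coeff_charpoly] at this
      exact this
    obtain ⟨c', hc', hcc'⟩ := hφsurj ((N - k) * m)
      (DirectSum.decompose 𝒜 (P.coeff k) ((N - k) * m) : A) (SetLike.coe_mem _) hfix
    rw [← hcc']
    exact h _ (Nat.mul_pos (Nat.sub_pos_of_lt hk') hm) c' hc'
  exact Ideal.IsPrime.mem_of_pow_mem inferInstance N h5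

end algebra

/-! ### Geometry of `Proj` -/

section proj

open HomogeneousLocalization

variable {R A : Type u} [CommRing R] [CommRing A] [Algebra R A] (𝒜 : ℕ → Submodule R A)
  [GradedAlgebra 𝒜] {G : Type u} [Group G] [MulSemiringAction G A]
  (hGdeg : ∀ (σ : G) (i : ℕ) (a : A), a ∈ 𝒜 i → σ • a ∈ 𝒜 i)
  {C : Type u} [CommRing C] [Algebra R C] (𝒞 : ℕ → Submodule R C) [GradedAlgebra 𝒞]
  (φ : 𝒞 →+*ᵍ 𝒜) (hφ : Function.Injective φ) (hφfix : ∀ (g : G) (c : C), g • φ c = φ c)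
  (hφsurj : ∀ (i : ℕ) (a : A), a ∈ 𝒜 i → (∀ σ : G, σ • a = a) → ∃ c ∈ 𝒞 i, φ c = a)
  (ρ : G →* Aut (Proj 𝒜))
  (hρ : ∀ (σ : G) (n : ℕ) (f : A) (hn : 0 < n) (hf : f ∈ 𝒜 n)
      (θ : CommRingCat.of (Away 𝒜 f) ⟶ CommRingCat.of (Away 𝒜 (σ • f))),
      (algebraMap (Away 𝒜 (σ • f)) (Localization.Away (σ • f))).comp θ.hom =
        (Localization.awayMap (MulSemiringAction.toRingHom G A σ) f).comp
          (algebraMap (Away 𝒜 f) (Localization.Away f)) →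
      Proj.awayι 𝒜 (σ • f) (hGdeg σ n f hf) hn ≫ (ρ σ).inv = Spec.map θ ≫ Proj.awayι 𝒜 f hf hn)
  (π : Proj 𝒜 ⟶ Proj 𝒞)
  (hπ : ∀ (n : ℕ) (c : C) (hn : 0 < n) (hc : c ∈ 𝒞 n)
      (θ : CommRingCat.of (Away 𝒞 c) ⟶ CommRingCat.of (Away 𝒜 (φ c))),
      (algebraMap (Away 𝒜 (φ c)) (Localization.Away (φ c))).comp θ.hom =
        (Localization.awayMap φ.toRingHom c).comp (algebraMap (Away 𝒞 c) (Localization.Away c)) →
      Proj.awayι 𝒜 (φ c) (Graded.map_mem φ hc) hn ≫ π = Spec.map θ ≫ Proj.awayι 𝒞 c hc hn)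

include hπ in
theorem chart_π {n : ℕ} {c : C} (hn : 0 < n) (hc : c ∈ 𝒞 n) :
    Proj.awayι 𝒜 (φ c) (Graded.map_mem φ hc) hn ≫ π =
      Spec.map (CommRingCat.ofHom (Away.map φ c)) ≫ Proj.awayι 𝒞 c hc hn := by
  refine hπ n c hn hc _ ?_
  ext x
  exact val_map φ (P := Submonoid.powers c) (Q := Submonoid.powers (φ c))
    (by rintro _ ⟨k, rfl⟩; exact ⟨k, by simp⟩) x

include hρ in
theorem chart_ρ_gen (σ : G) {n : ℕ} (hn : 0 < n) {f f' : A} (hf : f ∈ 𝒜 n) (hf' : f' ∈ 𝒜 n)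
    (h : σ • f = f')
    (hle : Submonoid.powers f ≤ (Submonoid.powers f').comap (sgr 𝒜 hGdeg σ)) :
    Proj.awayι 𝒜 f' hf' hn ≫ (ρ σ).inv =
      Spec.map (CommRingCat.ofHom (HomogeneousLocalization.map (sgr 𝒜 hGdeg σ) hle)) ≫
        Proj.awayι 𝒜 f hf hn := by
  subst h
  refine hρ σ n f hn hf _ ?_
  ext x
  exact val_map (sgr 𝒜 hGdeg σ) hle x

include hρ in
theorem chart_ρ (g : G) {n : ℕ} (hn : 0 < n) {f : A} (hf : f ∈ 𝒜 n) (hfix : ∀ g : G, g • f = f) :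
    Proj.awayι 𝒜 f hf hn ≫ (ρ g).hom =
      Spec.map (CommRingCat.ofHom (actAway 𝒜 hGdeg f hfix g⁻¹)) ≫ Proj.awayι 𝒜 f hf hn := by
  have h1 : (ρ g).hom = (ρ g⁻¹).inv := by
    rw [map_inv]
    rfl
  rw [h1]
  exact chart_ρ_gen 𝒜 hGdeg ρ hρ g⁻¹ hn hf hf (hfix g⁻¹) _

theorem exists_basicOpen (y : Proj 𝒞) :
    ∃ n, 0 < n ∧ ∃ c ∈ 𝒞 n, y ∈ Proj.basicOpen 𝒞 c := by
  classical
  by_contra hcon
  push Not at hcon
  apply y.not_irrelevant_le
  intro z hz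
  change z ∈ y.asHomogeneousIdeal.toIdeal
  rw [← DirectSum.sum_support_decompose 𝒞 z]
  refine Ideal.sum_mem _ fun i _ => ?_
  by_cases hi0 : i = 0
  · subst hi0
    have := (HomogeneousIdeal.mem_irrelevant_iff 𝒞 z).mp hz
    rw [GradedRing.proj_apply] at this
    rw [this]
    exact zero_mem _
  · have := hcon i (Nat.pos_of_ne_zero hi0) _ (SetLike.coe_mem (DirectSum.decompose 𝒞 z i))
    simpa using this

include hGdeg hφsurj in
theorem exists_invariant_basicOpen [Finite G] (x : Proj 𝒜) :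
    ∃ n, 0 < n ∧ ∃ c ∈ 𝒞 n, x ∈ Proj.basicOpen 𝒜 (φ c) := by
  classical
  by_contra hcon
  push Not at hcon
  apply x.not_irrelevant_le
  intro z hz
  change z ∈ x.asHomogeneousIdeal.toIdeal
  rw [← DirectSum.sum_support_decompose 𝒜 z]
  refine Ideal.sum_mem _ fun i _ => ?_
  by_cases hi0 : i = 0
  · subst hi0
    have := (HomogeneousIdeal.mem_irrelevant_iff 𝒜 z).mp hz
    rw [GradedRing.proj_apply] at this
    rw [this]
    exact zero_mem _
  · have : x.asHomogeneousIdeal.toIdeal.IsPrime := x.isPrime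
    exact mem_of_forall_invariant_mem 𝒜 hGdeg 𝒞 φ hφsurj x.asHomogeneousIdeal.toIdeal
      (fun n hn c hc => by simpa using hcon n hn c hc) (Nat.pos_of_ne_zero hi0)
      (SetLike.coe_mem (DirectSum.decompose 𝒜 z i))

include hGdeg hφsurj hπ in
theorem preimage_basicOpen [Finite G] {n : ℕ} {c : C} (hn : 0 < n) (hc : c ∈ 𝒞 n) :
    π ⁻¹ᵁ Proj.basicOpen 𝒞 c = Proj.basicOpen 𝒜 (φ c) := by
  ext x
  obtain ⟨n', hn', c', hc', hx⟩ := exists_invariant_basicOpen 𝒜 hGdeg 𝒞 φ hφsurj x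
  have hf' : φ c' ∈ 𝒜 n' := Graded.map_mem φ hc'
  have hf : φ c ∈ 𝒜 n := Graded.map_mem φ hc
  rw [← Proj.opensRange_awayι 𝒜 (φ c') hf' hn'] at hx
  obtain ⟨x₀, rfl⟩ := hx
  have h1 : (Proj.awayι 𝒜 (φ c') hf' hn') ⁻¹ᵁ (π ⁻¹ᵁ Proj.basicOpen 𝒞 c) =
      (Proj.awayι 𝒜 (φ c') hf' hn') ⁻¹ᵁ (Proj.basicOpen 𝒜 (φ c)) := by
    rw [← Scheme.Hom.comp_preimage, chart_π 𝒜 𝒞 φ π hπ hn' hc', Scheme.Hom.comp_preimage,
      Proj.awayι_preimage_basicOpen 𝒞 hc' hn' hc hn,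
      Proj.awayι_preimage_basicOpen 𝒜 hf' hn' hf hn]
    have h2 : Away.map φ c' (Away.isLocalizationElem hc' hc) = Away.isLocalizationElem hf' hf := by
      rw [Away.isLocalizationElem, Away.map_mk]
      simp only [map_pow]
    rw [← h2]
    rfl
  exact (SetLike.ext_iff.mp h1 x₀)

include hGdeg hφsurj hπ in
theorem isAffineHom_π [Finite G] : IsAffineHom π := by
  apply isAffineHom_of_forall_exists_isAffineOpen
  intro y
  obtain ⟨n, hn, c, hc, hy⟩ := exists_basicOpen 𝒞 y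
  refine ⟨Proj.basicOpen 𝒞 c, hy, Proj.isAffineOpen_basicOpen 𝒞 c hc hn, ?_⟩
  rw [preimage_basicOpen 𝒜 hGdeg 𝒞 φ hφsurj π hπ hn hc]
  exact Proj.isAffineOpen_basicOpen 𝒜 (φ c) (Graded.map_mem φ hc) hn

include hGdeg hφsurj hπ hρ hφfix in
theorem inv_π [Finite G] (g : G) : (ρ g).hom ≫ π = π := by
  apply Scheme.hom_ext_of_forall
  intro x
  obtain ⟨n, hn, c, hc, hx⟩ := exists_invariant_basicOpen 𝒜 hGdeg 𝒞 φ hφsurj x
  have hf : φ c ∈ 𝒜 n := Graded.map_mem φ hc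
  refine ⟨Proj.basicOpen 𝒜 (φ c), hx, ?_⟩
  rw [← cancel_epi (Proj.basicOpenIsoSpec 𝒜 (φ c) hf hn).inv]
  rw [Proj.basicOpenIsoSpec_inv_ι_assoc, Proj.basicOpenIsoSpec_inv_ι_assoc,
    ← Category.assoc, chart_ρ 𝒜 hGdeg ρ hρ g hn hf (fun g => hφfix g c), Category.assoc,
    chart_π 𝒜 𝒞 φ π hπ hn hc, ← Category.assoc, ← Spec.map_comp]
  congr 2
  exact CommRingCat.hom_ext (RingHom.ext fun z => act_chart 𝒜 hGdeg 𝒞 φ hφfix hc g⁻¹ z)

include hGdeg hφsurj hπ hρ hφfix hφ in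
theorem quotAt_basicOpen [Finite G] {n : ℕ} {c : C} (hn : 0 < n) (hc : c ∈ 𝒞 n) :
    QuotAt (fun g : G => (ρ g).hom) π (Proj.basicOpen 𝒞 c) (π ⁻¹ᵁ Proj.basicOpen 𝒞 c) := by
  have hf : φ c ∈ 𝒜 n := Graded.map_mem φ hc
  have := quotAt_of_chart (σ := fun g : G => (ρ g).hom) (p := π)
    (Proj.awayι 𝒞 c hc hn) (Proj.awayι 𝒜 (φ c) hf hn)
    (CommRingCat.ofHom (Away.map φ c)) (chart_π 𝒜 𝒞 φ π hπ hn hc)
    (by rw [Proj.opensRange_awayι, Proj.opensRange_awayι,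
      preimage_basicOpen 𝒜 hGdeg 𝒞 φ hφsurj π hπ hn hc])
    (fun g => CommRingCat.ofHom (actAway 𝒜 hGdeg (φ c) (fun g => hφfix g c) g⁻¹))
    (fun g => chart_ρ 𝒜 hGdeg ρ hρ g hn hf (fun g => hφfix g c))
    (chart_injective 𝒜 𝒞 φ hφ hc)
    (fun s hs => chart_invariants 𝒜 hGdeg 𝒞 φ hφfix hφsurj hc s
      (fun g => by simpa using hs g⁻¹))
  rwa [Proj.opensRange_awayι] at this

theorem isBasis_basicOpen_pos :
    TopologicalSpace.Opens.IsBasis
      {V : (Proj 𝒞).Opens | ∃ n, 0 < n ∧ ∃ c ∈ 𝒞 n, V = Proj.basicOpen 𝒞 c} := by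
  rw [TopologicalSpace.Opens.isBasis_iff_nbhd]
  intro U y hy
  obtain ⟨_, ⟨f, rfl⟩, hyf, hfU⟩ :=
    TopologicalSpace.Opens.isBasis_iff_nbhd.mp (Proj.isBasis_basicOpen 𝒞) hy
  rw [Proj.basicOpen_eq_iSup_proj] at hyf
  obtain ⟨i, hi⟩ := TopologicalSpace.Opens.mem_iSup.mp hyf
  obtain ⟨n, hn, c, hc, hyc⟩ := exists_basicOpen 𝒞 y
  refine ⟨Proj.basicOpen 𝒞 (GradedRing.proj 𝒞 i f * c),
    ⟨i + n, by omega, _, SetLike.mul_mem_graded (SetLike.coe_mem (DirectSum.decompose 𝒞 f i)) hc,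
      rfl⟩, ?_, ?_⟩
  · rw [Proj.basicOpen_mul]
    exact ⟨hi, hyc⟩
  · rw [Proj.basicOpen_mul]
    refine inf_le_left.trans (le_trans ?_ hfU)
    rw [Proj.basicOpen_eq_iSup_proj 𝒞 f]
    exact le_iSup (fun i => Proj.basicOpen 𝒞 (GradedRing.proj 𝒞 i f)) i

include hGdeg hφsurj hπ hρ hφfix hφ in
theorem isQuot_π [Finite G] : IsQuot ρ π := by
  have hinv := inv_π 𝒜 hGdeg 𝒞 φ hφfix hφsurj ρ hρ π hπ
  refine isQuot_of_quotAt ρ (isAffineHom_π 𝒜 hGdeg 𝒞 φ hφsurj π hπ) hinv ?_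
  refine quotAt_of_basis hinv _ (isBasis_basicOpen_pos 𝒞) ?_ ?_
  · rintro _ ⟨n, hn, c, hc, rfl⟩ _ ⟨n', hn', c', hc', rfl⟩
    exact ⟨n + n', by omega, c * c', SetLike.mul_mem_graded hc hc', (Proj.basicOpen_mul 𝒞 c c').symm⟩
  · rintro _ ⟨n, hn, c, hc, rfl⟩
    exact quotAt_basicOpen 𝒜 hGdeg 𝒞 φ hφ hφfix hφsurj ρ hρ π hπ hn hc

end proj

/-- **`Proj B → Proj B^G` is a quotient by `G`**, with `ρ` and `π` characterised chartwise. -/
theorem main {R A : Type u} [CommRing R] [CommRing A] [Algebra R A] (𝒜 : ℕ → Submodule R A)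
    [GradedAlgebra 𝒜]
    {G : Type u} [Group G] [Finite G] [MulSemiringAction G A]
    (hGdeg : ∀ (σ : G) (i : ℕ) (a : A), a ∈ 𝒜 i → σ • a ∈ 𝒜 i)
    {C : Type u} [CommRing C] [Algebra R C] (𝒞 : ℕ → Submodule R C) [GradedAlgebra 𝒞]
    (ι : C →ₐ[R] A) (hι : Function.Injective ι)
    (hιdeg : ∀ (i : ℕ) (a : A), a ∈ (𝒞 i).map ι.toLinearMap ↔ (a ∈ 𝒜 i ∧ ∀ σ : G, σ • a = a))
    (ρ : G →* Aut (Proj 𝒜))
    (hρ : ∀ (σ : G) (n : ℕ) (f : A) (hn : 0 < n) (hf : f ∈ 𝒜 n)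
      (θ : CommRingCat.of (HomogeneousLocalization.Away 𝒜 f) ⟶
        CommRingCat.of (HomogeneousLocalization.Away 𝒜 (σ • f))),
      (algebraMap (HomogeneousLocalization.Away 𝒜 (σ • f)) (Localization.Away (σ • f))).comp θ.hom =
        (Localization.awayMap (MulSemiringAction.toRingHom G A σ) f).comp
          (algebraMap (HomogeneousLocalization.Away 𝒜 f) (Localization.Away f)) →
      Proj.awayι 𝒜 (σ • f) (hGdeg σ n f hf) hn ≫ (ρ σ).inv = Spec.map θ ≫ Proj.awayι 𝒜 f hf hn)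
    (π : Proj 𝒜 ⟶ Proj 𝒞)
    (hπ : ∀ (n : ℕ) (c : C) (hn : 0 < n) (hc : c ∈ 𝒞 n)
      (θ : CommRingCat.of (HomogeneousLocalization.Away 𝒞 c) ⟶
        CommRingCat.of (HomogeneousLocalization.Away 𝒜 (ι c))),
      (algebraMap (HomogeneousLocalization.Away 𝒜 (ι c)) (Localization.Away (ι c))).comp θ.hom =
        (Localization.awayMap ι.toRingHom c).comp
          (algebraMap (HomogeneousLocalization.Away 𝒞 c) (Localization.Away c)) →
      Proj.awayι 𝒜 (ι c) ((hιdeg n (ι c)).mp (Submodule.mem_map_of_mem hc)).1 hn ≫ π =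
        Spec.map θ ≫ Proj.awayι 𝒞 c hc hn) :
    SGA1.IsQuot ρ π :=
  isQuot_π 𝒜 hGdeg 𝒞 (igr 𝒜 𝒞 ι hιdeg) hι (fun g c => smul_ι 𝒜 𝒞 ι hιdeg g c)
    (fun i a ha hinv => by
      obtain ⟨c, hc, hcc⟩ := (hιdeg i a).mpr ⟨ha, hinv⟩
      exact ⟨c, hc, hcc⟩) ρ hρ π
    (fun n c hn hc θ h => hπ n c hn hc θ h)

end Groth.Agent.R2.H23.ProjQuot
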