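import Mathlib
import Groth.Prelude.Def_AlgSpModX
import Groth.Agent.Lib.Helper12MonoFactor
import Groth.Agent.S9928
import Groth.Agent.S9885
import Groth.Agent.Lib.Helper9ShfGrp

/-!
# Closed subspaces cut out by ideal sheaves: factorization criteria (helper43)

Namespace `Groth.Agent.R2.H43.CutOut`.

* `ofArrows_mem_J`: a jointly surjective family of flat lfp morphisms over `S` is a covering sieve of `AlgSp.J S`.
* `exists_factor_of_cover`: factorizations through a monomorphism of sheaves glue along a covering family.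
* `idealOfRep_le_of_factor`: `k ≫ f = f'` implies `idealOfRep f ≤ idealOfRep f'`.
* `exists_lift_of_ker_le`: lifting through a closed immersion into an affine scheme from kernel inclusion.
* `exists_factor_of_le`: a map from a scheme to an algebraic space factors through the closed subspace
  as soon as the ideal is contained in the kernel family of the map.
-/

set_option autoImplicit false
universe u
open CategoryTheory CategoryTheory.Limits AlgebraicGeometry Opposite
open AlgSp

set_option backward.isDefEq.respectTransparency false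

namespace Groth.Agent.R2.H43.CutOut

open Groth.Agent.S13210 Groth.Agent.Lib.Helper12.ZarGlue

variable {S : Scheme.{u}}

/-- a jointly surjective family of flat, locally finitely presented morphisms is a covering sieve. -/
lemma ofArrows_mem_J {W : Over S} {κ : Type u} (Y : κ → Over S) (f : ∀ k, Y k ⟶ W)
    (hf : ∀ k, Flat (f k).left ∧ LocallyOfFinitePresentation (f k).left)
    (hs : ∀ w : W.left, ∃ k, w ∈ Set.range (f k).left) :
    Sieve.ofArrows Y f ∈ AlgSp.J S W := by
  rw [GrothendieckTopology.mem_over_iff, Sieve.overEquiv_ofArrows]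
  apply Precoverage.generate_mem_toGrothendieck
  rw [Scheme.fppfPrecoverage, Scheme.ofArrows_mem_precoverage_iff]
  exact ⟨hs, fun k => ⟨(hf k).1, (hf k).2⟩⟩

/-- factorizations through a monomorphism of sheaves glue along covering families of the source. -/
theorem exists_factor_of_cover {G H : AlgSp.Sp S} (i : G ⟶ H) [Mono i] {W : Over S}
    (φ : (AlgSp.yon S).obj W ⟶ H) {κ : Type u} (Y : κ → Over S) (f : ∀ k, Y k ⟶ W)
    (hmem : Sieve.ofArrows Y f ∈ AlgSp.J S W)
    (h : ∀ k, ∃ d : (AlgSp.yon S).obj (Y k) ⟶ G, d ≫ i = (AlgSp.yon S).map (f k) ≫ φ) :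
    ∃ d : (AlgSp.yon S).obj W ⟶ G, d ≫ i = φ := by
  choose d hd using h
  have hshG : Presieve.IsSheaf (AlgSp.J S) G.obj := (isSheaf_iff_isSheaf_of_type _ _).1 G.property
  have hshH : Presieve.IsSheaf (AlgSp.J S) H.obj := (isSheaf_iff_isSheaf_of_type _ _).1 H.property
  have h1 := hshG.isSheafFor _ hmem
  rw [Presieve.isSheafFor_arrows_iff] at h1
  obtain ⟨t, ht, -⟩ := h1 (fun w => yEquiv _ G (d w)) (by
    intro w w' Z gi gj hg
    rw [map_yEquiv, map_yEquiv]
    congr 1
    rw [← cancel_mono i, Category.assoc, Category.assoc, hd, hd, ← Functor.map_comp_assoc,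
      ← Functor.map_comp_assoc, hg])
  refine ⟨(yEquiv _ G).symm t, ?_⟩
  apply (yEquiv _ H).injective
  refine (hshH.isSheafFor _ hmem).isSeparatedFor.ext ?_
  intro Y' f' hf'
  obtain ⟨w⟩ := hf'
  rw [map_yEquiv, map_yEquiv, ← hd, ← Category.assoc]
  congr 2
  apply (yEquiv _ G).injective
  rw [← map_yEquiv, Equiv.apply_symm_apply]
  exact ht w

variable {X : AlgSp.Sp S}

/-- if `f'` factors through `f`, the kernel family of `f` is contained in that of `f'`. -/
theorem idealOfRep_le_of_factor {F F' : AlgSp.Sp S} {f : F ⟶ X} {f' : F' ⟶ X}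
    (hf : AlgSp.Representable f) (hf' : AlgSp.Representable f') (k : F' ⟶ F) (hk : k ≫ f = f') :
    AlgSp.idealOfRep hf ≤ AlgSp.idealOfRep hf' := by
  intro E hE a ha
  rw [AlgSp.mem_idealOfRep_iff] at ha ⊢
  have hcomm : (hf'.fst E.obj.hom ≫ k) ≫ f = (AlgSp.yon S).map (hf'.snd E.obj.hom) ≫ E.obj.hom := by
    rw [Category.assoc, hk, hf'.w]
  let l : hf'.pullback E.obj.hom ⟶ hf.pullback E.obj.hom :=
    hf.lift (hf'.fst E.obj.hom ≫ k) (hf'.snd E.obj.hom) hcomm
  have hl : l ≫ hf.snd E.obj.hom = hf'.snd E.obj.hom := hf.lift_snd _ _ _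
  have h1 : (AlgSp.EtOver.bcπ hf' E).left = l.left ≫ (AlgSp.EtOver.bcπ hf E).left := by
    rw [← Over.comp_left]
    exact congrArg CommaMorphism.left hl.symm
  rw [h1, Scheme.Hom.comp_appTop, CommRingCat.hom_comp, RingHom.comp_apply]
  exact (congrArg _ ha).trans (map_zero _)

/-- lifting through a closed immersion into an affine scheme from an inclusion of kernels of global sections. -/
lemma exists_lift_of_ker_le {W U T : Scheme.{u}} [IsAffine U] (c : W ⟶ U) [IsClosedImmersion c]
    (t : T ⟶ U) (h : RingHom.ker c.appTop.hom ≤ RingHom.ker t.appTop.hom) :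
    ∃ l : T ⟶ W, l ≫ c = t := by
  have hle : c.ker ≤ t.ker := by
    rw [Scheme.ker_of_isAffine c, Scheme.ker_of_isAffine t]
    exact (map_le_map_iff (Scheme.IdealSheafData.equivOfIsAffine (X := U)).symm).2 h
  exact ⟨IsClosedImmersion.lift c t hle, IsClosedImmersion.lift_fac c t hle⟩

/-- a map from a scheme to an algebraic space factors through a closed subspace as soon as the ideal of the
closed subspace is contained in the kernel family of the map. -/
theorem exists_factor_of_le (hX : AlgSp.IsAlgSpace X) {Z : AlgSp.Sp S} {i : Z ⟶ X}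
    (hi : AlgSp.RepWith @IsClosedImmersion i) {T : Over S} (h : (AlgSp.yon S).obj T ⟶ X)
    (hh : AlgSp.Representable h) (hle : AlgSp.idealOfRep hi.1 ≤ AlgSp.idealOfRep hh) :
    ∃ k : (AlgSp.yon S).obj T ⟶ Z, k ≫ i = h := by
  haveI : Mono i := Groth.Agent.S9928.mono_of_repWith @IsClosedImmersion (fun X Y g hg => by
    haveI : IsClosedImmersion g := hg
    infer_instance) i hi
  obtain ⟨U₀, p, hpe, hps⟩ := hX.atlas
  let 𝒰 := U₀.left.affineCover
  let O : 𝒰.I₀ → Over S := fun k => Over.mk (𝒰.f k ≫ U₀.hom)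
  let j : ∀ k, O k ⟶ U₀ := fun k => Over.homMk (𝒰.f k) rfl
  have hje : ∀ k, AlgSp.RepWith @Etale ((AlgSp.yon S).map (j k) ≫ p) := fun k =>
    (AlgSp.RepWith @Etale).comp_mem _ _
      ((AlgSp.repWith_yon_map_iff _ _).2 (inferInstance : Etale (𝒰.f k))) hpe
  let E : 𝒰.I₀ → AlgSp.EtOver X := fun k => AlgSp.EtOver.mk ((AlgSp.yon S).map (j k) ≫ p) (hje k)
  let E₀ : AlgSp.EtOver X := AlgSp.EtOver.mk p hpe
  let g : ∀ k, E k ⟶ E₀ := fun k => AlgSp.EtOver.homMk (j k) rfl
  let Tk : 𝒰.I₀ → Over S := fun k => hh.pullback (E k).obj.hom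
  let πk : ∀ k, Tk k ⟶ T := fun k => hh.fst' (E k).obj.hom
  have hsqk : ∀ k, IsPullback ((AlgSp.yon S).map (hh.snd (E k).obj.hom)) ((AlgSp.yon S).map (πk k))
      (E k).obj.hom h := fun k => (hh.isPullback' (E k).obj.hom).flip
  refine exists_factor_of_cover i h Tk πk ?_ ?_
  · refine ofArrows_mem_J Tk πk (fun k => ?_) (fun x => ?_)
    · haveI : Etale (πk k).left := (E k).property.2 h _ (πk k) (hsqk k)
      exact ⟨inferInstance, inferInstance⟩
    · -- surjectivity of the atlas pulled back to `T`
      have hsq0 : IsPullback ((AlgSp.yon S).map (hh.snd p)) ((AlgSp.yon S).map (hh.fst' p)) p h :=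
        (hh.isPullback' p).flip
      haveI : Surjective (hh.fst' p).left := hps.2 h _ (hh.fst' p) hsq0
      obtain ⟨x₀, hx₀⟩ := (hh.fst' p).left.surjective x
      obtain ⟨o, ho⟩ := 𝒰.covers ((hh.snd p).left x₀)
      have hpb := AlgSp.EtOver.isPullback_bcMap_left hh (g (𝒰.idx ((hh.snd p).left x₀)))
      obtain ⟨a, ha1, -⟩ := Groth.Agent.Lib.Helper12.exists_preimage_of_isPullback hpb
        x₀ o ho.symm
      refine ⟨𝒰.idx ((hh.snd p).left x₀), a, ?_⟩
      have hfac : (AlgSp.EtOver.bcMap hh (g (𝒰.idx ((hh.snd p).left x₀)))).hom.left ≫ hh.fst' p =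
          πk (𝒰.idx ((hh.snd p).left x₀)) := by
        apply (AlgSp.yon S).map_injective
        rw [Functor.map_comp, hh.map_fst', hh.map_fst']
        exact AlgSp.EtOver.map_bcMap_fst hh (g (𝒰.idx ((hh.snd p).left x₀)))
      rw [← hfac, Over.comp_left, Scheme.Hom.comp_apply]
      exact (congrArg (fun z => (hh.fst' p).left z) ha1).trans hx₀
  · intro k
    haveI : IsAffine (E k).obj.left.left := (inferInstance : IsAffine (𝒰.X k))
    haveI hc : IsClosedImmersion (AlgSp.EtOver.bcπ hi.1 (E k)).left :=
      hi.2 _ _ _ (hi.1.isPullback (E k).obj.hom)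
    obtain ⟨l, hl⟩ := exists_lift_of_ker_le (AlgSp.EtOver.bcπ hi.1 (E k)).left
      (AlgSp.EtOver.bcπ hh (E k)).left (hle (E k) inferInstance)
    let l' : Tk k ⟶ hi.1.pullback (E k).obj.hom := Over.homMk l (by
      have h1 := Over.w (AlgSp.EtOver.bcπ hi.1 (E k))
      have h2 := Over.w (AlgSp.EtOver.bcπ hh (E k))
      calc l ≫ (hi.1.pullback (E k).obj.hom).hom
          = l ≫ ((AlgSp.EtOver.bcπ hi.1 (E k)).left ≫ (E k).obj.left.hom) :=
            congrArg (fun z => l ≫ z) h1.symm
        _ = (l ≫ (AlgSp.EtOver.bcπ hi.1 (E k)).left) ≫ (E k).obj.left.hom :=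
            (Category.assoc _ _ _).symm
        _ = (AlgSp.EtOver.bcπ hh (E k)).left ≫ (E k).obj.left.hom :=
            congrArg (fun z => z ≫ (E k).obj.left.hom) hl
        _ = _ := h2)
    have hl' : l' ≫ hi.1.snd (E k).obj.hom = hh.snd (E k).obj.hom := by
      apply Over.OverMorphism.ext
      exact hl
    refine ⟨(AlgSp.yon S).map l' ≫ hi.1.fst (E k).obj.hom, ?_⟩
    rw [Category.assoc, hi.1.w, ← Functor.map_comp_assoc, hl']
    exact (hsqk k).w

/-- a representable etale surjective map is an epimorphism of sheaves. -/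
lemma epi_of_repWith_etale_surjective {F G : AlgSp.Sp S} (q : F ⟶ G) (hqe : AlgSp.RepWith @Etale q)
    (hqs : AlgSp.RepWith @Surjective q) : Epi q := by
  have h1 : AlgSp.RepWith @Flat q := ⟨hqe.1, fun U V g fst snd sq => by
    haveI : Etale snd.left := hqe.2 g fst snd sq
    exact (inferInstance : Flat snd.left)⟩
  have h2 : AlgSp.RepWith @LocallyOfFinitePresentation q := ⟨hqe.1, fun U V g fst snd sq => by
    haveI : Etale snd.left := hqe.2 g fst snd sq
    exact (inferInstance : LocallyOfFinitePresentation snd.left)⟩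
  haveI := Groth.Agent.S9885.result S F G q h1 h2 hqs
  exact (Sheaf.isLocallySurjective_iff_epi q).1 inferInstance

/-- a representable map from an algebraic space to an algebraic space factors through a closed subspace as soon
as the ideal of the closed subspace is contained in the kernel family of the map. -/
theorem exists_factor_of_le' (hX : AlgSp.IsAlgSpace X) {Z Z' : AlgSp.Sp S} (hZ' : AlgSp.IsAlgSpace Z')
    {i : Z ⟶ X} (hi : AlgSp.RepWith @IsClosedImmersion i) (i' : Z' ⟶ X)
    (hi' : AlgSp.Representable i') (hle : AlgSp.idealOfRep hi.1 ≤ AlgSp.idealOfRep hi') :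
    ∃ k : Z' ⟶ Z, k ≫ i = i' := by
  haveI : Mono i := Groth.Agent.S9928.mono_of_repWith @IsClosedImmersion (fun X Y g hg => by
    haveI : IsClosedImmersion g := hg
    infer_instance) i hi
  obtain ⟨T, q, hqe, hqs⟩ := hZ'.atlas
  have hh : AlgSp.Representable (q ≫ i') := hX.representable_from_yon _
  have hle2 : AlgSp.idealOfRep hi.1 ≤ AlgSp.idealOfRep hh := fun E hE =>
    (hle E hE).trans (idealOfRep_le_of_factor hi' hh q rfl E hE)
  obtain ⟨kT, hkT⟩ := exists_factor_of_le hX hi (q ≫ i') hh hle2
  have hq : Epi q := epi_of_repWith_etale_surjective q hqe hqs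
  obtain ⟨k, hk⟩ := Groth.Agent.Lib.Helper9.ToposLike.exists_desc_of_epi q hq kT (by
    intro W a₁ a₂ ha
    rw [← cancel_mono i, Category.assoc, Category.assoc, hkT, ← Category.assoc, ← Category.assoc, ha])
  refine ⟨k, ?_⟩
  rw [← cancel_epi q, ← Category.assoc, hk, hkT]

/-- the kernel of a surjective ring map of finite presentation is finitely generated. -/
lemma ker_fg_of_fp_surj {A B : Type*} [CommRing A] [CommRing B] (f : A →+* B)
    (hf : f.FinitePresentation) (hs : Function.Surjective f) : (RingHom.ker f).FG := by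
  algebraize [f]
  have := Algebra.FinitePresentation.ker_fG_of_surjective (Algebra.ofId A B) hs
  exact this

/-- a closed immersion into an affine scheme with finitely generated kernel is locally of finite presentation. -/
lemma lfp_of_fg {W U : Scheme.{u}} [IsAffine U] (c : W ⟶ U) [IsClosedImmersion c]
    (h : (RingHom.ker c.appTop.hom).FG) : LocallyOfFinitePresentation c := by
  obtain ⟨h1, h2⟩ := IsClosedImmersion.isAffine_surjective_of_isAffine c
  haveI := h1
  rw [HasRingHomProperty.iff_of_isAffine (P := @LocallyOfFinitePresentation)]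
  exact RingHom.FinitePresentation.of_surjective _ h2 h

/-- a closed immersion of finite presentation into an affine scheme has finitely generated kernel. -/
lemma fg_of_lfp {W U : Scheme.{u}} [IsAffine U] (c : W ⟶ U) [IsClosedImmersion c]
    [LocallyOfFinitePresentation c] : (RingHom.ker c.appTop.hom).FG := by
  obtain ⟨h1, h2⟩ := IsClosedImmersion.isAffine_surjective_of_isAffine c
  haveI := h1
  have h3 := (HasRingHomProperty.iff_of_isAffine (P := @LocallyOfFinitePresentation) (f := c)).1
    inferInstance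
  exact ker_fg_of_fp_surj _ h3 h2

end Groth.Agent.R2.H43.CutOut
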