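import Mathlib
import Groth.Prelude.Def_AlgSp3

/-!
# Descent of isomorphisms / monomorphisms of sheaves of sets along locally surjective maps (helper44)

Namespace `Groth.Agent.R2.H44.Descent`.

For a cartesian square of sheaves of sets `P = F ×_G X` with `q : F ⟶ G` locally surjective:
* `isLocallyInjective_of_isPullback` / `mono_of_isPullback`: if `fst : P ⟶ F` is a mono then so is `g : X ⟶ G`;
* `isIso_of_isPullback`: if `fst` is an iso then so is `g`.
-/

set_option autoImplicit false
set_option backward.isDefEq.respectTransparency false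
universe v₁ u₁ w

open CategoryTheory CategoryTheory.Limits Opposite

namespace Groth.Agent.R2.H44.Descent

variable {C : Type u₁} [Category.{v₁} C] {J : GrothendieckTopology C}

/-- sections of a pullback of sheaves of sets form a pullback of sets -/
theorem isPullback_app {F G X P : Sheaf J (Type w)} {fst : P ⟶ F} {snd : P ⟶ X} {q : F ⟶ G}
    {g : X ⟶ G} (sq : IsPullback fst snd q g) (T : Cᵒᵖ) :
    IsPullback (fst.hom.app T) (snd.hom.app T) (q.hom.app T) (g.hom.app T) :=
  (sq.map (sheafToPresheaf J (Type w))).map ((evaluation _ _).obj T)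

theorem isLocallyInjective_of_isPullback {F G X P : Sheaf J (Type w)} {fst : P ⟶ F} {snd : P ⟶ X}
    {q : F ⟶ G} {g : X ⟶ G} (sq : IsPullback fst snd q g) [Sheaf.IsLocallySurjective q]
    [Sheaf.IsLocallyInjective fst] : Sheaf.IsLocallyInjective g := by
  have hinj := (Sheaf.isLocallyInjective_iff_injective fst).1 inferInstance
  constructor
  intro T x y h
  refine J.superset_covering ?_ (Presheaf.imageSieve_mem J q.hom (g.hom.app T x))
  rintro T' f ⟨z, hz⟩
  have sqT := (Types.isPullback_iff _ _ _ _).1 (isPullback_app sq (op T'))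
  have e1 : q.hom.app (op T') z = g.hom.app (op T') (X.obj.map f.op x) :=
    hz.trans (NatTrans.naturality_apply g.hom f.op x).symm
  have e2 : q.hom.app (op T') z = g.hom.app (op T') (X.obj.map f.op y) := by
    rw [h] at hz
    exact hz.trans (NatTrans.naturality_apply g.hom f.op y).symm
  obtain ⟨p₁, hp₁, hp₁'⟩ := sqT.2.2 z _ e1
  obtain ⟨p₂, hp₂, hp₂'⟩ := sqT.2.2 z _ e2
  have hp : p₁ = p₂ := hinj _ (hp₁.trans hp₂.symm)
  change X.obj.map f.op x = X.obj.map f.op y
  rw [← hp₁', ← hp₂', hp]

theorem mono_of_isPullback {F G X P : Sheaf J (Type w)} {fst : P ⟶ F} {snd : P ⟶ X}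
    {q : F ⟶ G} {g : X ⟶ G} (sq : IsPullback fst snd q g) [Sheaf.IsLocallySurjective q]
    [Mono fst] : Mono g := by
  have : Sheaf.IsLocallyInjective fst := by
    rw [Sheaf.isLocallyInjective_iff_injective]
    intro T
    have : Mono ((sheafToPresheaf J (Type w)).map fst) := inferInstance
    have : Mono (((sheafToPresheaf J (Type w)).map fst).app T) := inferInstance
    exact (mono_iff_injective _).1 this
  have := isLocallyInjective_of_isPullback sq
  exact Sheaf.mono_of_isLocallyInjective g

theorem isIso_of_isPullback {F G X P : Sheaf J (Type w)} {fst : P ⟶ F} {snd : P ⟶ X}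
    {q : F ⟶ G} {g : X ⟶ G} (sq : IsPullback fst snd q g) [Sheaf.IsLocallySurjective q]
    [IsIso fst] : IsIso g := by
  have h1 := isLocallyInjective_of_isPullback sq
  have h2 : Sheaf.IsLocallySurjective g := by
    have e : (inv fst ≫ snd) ≫ g = q := by
      rw [Category.assoc, ← sq.w, IsIso.inv_hom_id_assoc]
    have : Presheaf.IsLocallySurjective J ((inv fst ≫ snd).hom ≫ g.hom) := by
      change Sheaf.IsLocallySurjective ((inv fst ≫ snd) ≫ g)
      rw [e]; infer_instance
    exact Presheaf.isLocallySurjective_of_isLocallySurjective J (inv fst ≫ snd).hom g.hom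
  exact (Sheaf.isLocallyBijective_iff_isIso g).1 ⟨h1, h2⟩

end Groth.Agent.R2.H44.Descent
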