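import Mathlib

/-!
# Descent of ideals along flat ring maps (helper48)

Namespace `Groth.Agent.R2.H48.ClosedDescRing`.

* `le_map_contraction`: for a finite family of flat `A`-algebras `B k` with ideals `I k` such that
  `I k · (B k ⊗ B l) ≤ I l · (B k ⊗ B l)` for all `k l`, every `I k` is the extension of the common
  contraction `⨅ l, (I l) ∩ A`.
-/

set_option autoImplicit false
universe u v
open TensorProduct

namespace Groth.Agent.R2.H48.ClosedDescRing

variable (A : Type u) [CommRing A] {ι : Type v}
  (B : ι → Type u) [∀ k, CommRing (B k)] [∀ k, Algebra A (B k)]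
  (I : ∀ k, Ideal (B k))

/-- the common contraction of the ideals `I l` to `A`. -/
def contraction : Ideal A := ⨅ l, (I l).comap (algebraMap A (B l))

lemma mem_contraction {a : A} : a ∈ contraction A B I ↔ ∀ l, algebraMap A (B l) a ∈ I l := by
  simp [contraction]

lemma map_contraction_le (k : ι) : (contraction A B I).map (algebraMap A (B k)) ≤ I k := by
  rw [Ideal.map_le_iff_le_comap]
  intro a ha
  exact (mem_contraction A B I).1 ha k

/-- the map `A → ∏ B l / I l`. -/
noncomputable def toPi : A →ₗ[A] ∀ l, B l ⧸ I l :=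
  LinearMap.pi fun l => (Ideal.Quotient.mkₐ A (I l)).toLinearMap ∘ₗ Algebra.linearMap A (B l)

lemma toPi_apply (a : A) (l : ι) : toPi A B I a l = Ideal.Quotient.mk (I l) (algebraMap A (B l) a) := rfl

lemma ker_toPi : LinearMap.ker (toPi A B I) = contraction A B I := by
  ext a
  rw [LinearMap.mem_ker, mem_contraction]
  constructor
  · intro h l
    have := congrFun h l
    rw [toPi_apply] at this
    exact Ideal.Quotient.eq_zero_iff_mem.1 this
  · intro h
    funext l
    rw [toPi_apply]
    exact Ideal.Quotient.eq_zero_iff_mem.2 (h l)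

/-- the injection `A / J → ∏ B l / I l`. -/
noncomputable def quotToPi : (A ⧸ contraction A B I) →ₗ[A] ∀ l, B l ⧸ I l :=
  (contraction A B I).liftQ (toPi A B I) (ker_toPi A B I).ge

lemma quotToPi_injective : Function.Injective (quotToPi A B I) := by
  rw [← LinearMap.ker_eq_bot]
  exact Submodule.ker_liftQ_eq_bot _ _ _ (ker_toPi A B I).le

lemma quotToPi_mk (a : A) (l : ι) :
    quotToPi A B I (Submodule.Quotient.mk a) l = Ideal.Quotient.mk (I l) (algebraMap A (B l) a) := rfl

variable [Finite ι] [∀ k, Module.Flat A (B k)]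

theorem le_map_contraction
    (h : ∀ k l, (I k).map (Algebra.TensorProduct.includeLeft : B k →ₐ[A] B k ⊗[A] B l) ≤
      (I l).map (Algebra.TensorProduct.includeRight : B l →ₐ[A] B k ⊗[A] B l)) (k : ι) :
    I k ≤ (contraction A B I).map (algebraMap A (B k)) := by
  classical
  haveI := Fintype.ofFinite ι
  intro x hx
  -- the element `x ⊗ 1` of `B k ⊗ A/J`
  set z : B k ⊗[A] (A ⧸ contraction A B I) := x ⊗ₜ (Submodule.Quotient.mk 1) with hz
  have hinj := Module.Flat.lTensor_preserves_injective_linearMap (M := B k) (quotToPi A B I)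
    (quotToPi_injective A B I)
  have hz0 : z = 0 := by
    apply hinj
    rw [map_zero]
    apply (TensorProduct.piRight A A (B k) (fun l => B l ⧸ I l)).injective
    rw [map_zero]
    funext l
    rw [hz, LinearMap.lTensor_tmul, TensorProduct.piRight_apply, TensorProduct.piRightHom_tmul]
    change x ⊗ₜ[A] (quotToPi A B I (Submodule.Quotient.mk 1) l) = 0
    rw [quotToPi_mk, map_one, map_one]
    -- `x ⊗ 1 = 0` in `B k ⊗ B l / I l`
    let g : B k ⊗[A] B l →ₐ[A] B k ⊗[A] (B l ⧸ I l) :=
      Algebra.TensorProduct.map (AlgHom.id A (B k)) (Ideal.Quotient.mkₐ A (I l))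
    have hker : (I l).map (Algebra.TensorProduct.includeRight : B l →ₐ[A] B k ⊗[A] B l) ≤
        RingHom.ker g.toRingHom := by
      rw [Ideal.map_le_iff_le_comap]
      intro y hy
      rw [Ideal.mem_comap, RingHom.mem_ker]
      change g ((1 : B k) ⊗ₜ y) = 0
      rw [Algebra.TensorProduct.map_tmul]
      have : (Ideal.Quotient.mkₐ A (I l)) y = 0 := Ideal.Quotient.eq_zero_iff_mem.2 hy
      rw [this, TensorProduct.tmul_zero]
    have hmem : (Algebra.TensorProduct.includeLeft : B k →ₐ[A] B k ⊗[A] B l) x ∈
        (I k).map (Algebra.TensorProduct.includeLeft : B k →ₐ[A] B k ⊗[A] B l) :=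
      Ideal.mem_map_of_mem _ hx
    have h0 := hker (h k l hmem)
    rw [RingHom.mem_ker] at h0
    change g (x ⊗ₜ (1 : B l)) = 0 at h0
    rw [Algebra.TensorProduct.map_tmul, AlgHom.id_apply, map_one] at h0
    exact h0
  have h2 := congrArg (TensorProduct.tensorQuotEquivQuotSMul (B k) (contraction A B I)) hz0
  rw [map_zero, hz] at h2
  have h3 : TensorProduct.tensorQuotEquivQuotSMul (B k) (contraction A B I)
      (x ⊗ₜ (Submodule.Quotient.mk 1)) = Submodule.Quotient.mk x := by
    simp [TensorProduct.tensorQuotEquivQuotSMul]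
  rw [h3, Submodule.Quotient.mk_eq_zero, Ideal.smul_top_eq_map] at h2
  exact h2

/-- extension of the contraction recovers `I k`. -/
theorem map_contraction_eq
    (h : ∀ k l, (I k).map (Algebra.TensorProduct.includeLeft : B k →ₐ[A] B k ⊗[A] B l) ≤
      (I l).map (Algebra.TensorProduct.includeRight : B l →ₐ[A] B k ⊗[A] B l)) (k : ι) :
    (contraction A B I).map (algebraMap A (B k)) = I k :=
  le_antisymm (map_contraction_le A B I k) (le_map_contraction A B I h k)

end Groth.Agent.R2.H48.ClosedDescRing
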