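import Mathlib
import Groth.Agent.R2.H48ClosedDescRing

/-!
# Effective fppf descent of closed subschemes, in functor-of-points form (helper48)

Namespace `Groth.Agent.R2.H48.ClosedDescSch`.

A "subfunctor" of `h_T` is a predicate `K` on morphisms into `T`.  `CutOut K I` says that `K g` holds
exactly when `g` factors through the closed subscheme of the ideal sheaf `I` (`I ≤ g.ker`).

* `exists_cutOut`: if `K` is stable under precomposition and fppf local on the source, and there is a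
  jointly surjective family of flat lfp morphisms `t i : Y i ⟶ T` such that every pullback of `K` to `Y i`
  is cut out by an ideal sheaf, then `K` is cut out by an ideal sheaf on `T`.
-/

set_option autoImplicit false
universe u
open CategoryTheory CategoryTheory.Limits AlgebraicGeometry Opposite TensorProduct

namespace Groth.Agent.R2.H48.ClosedDescSch

/-- predicates on morphisms into `T`. -/
abbrev Pred (T : Scheme.{u}) : Type (u + 1) := ∀ ⦃T' : Scheme.{u}⦄, (T' ⟶ T) → Prop

/-- pullback of a predicate along `j`. -/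
def Pred.pull {T T₁ : Scheme.{u}} (K : Pred T) (j : T₁ ⟶ T) : Pred T₁ := fun _ g => K (g ≫ j)

lemma Pred.pull_apply {T T₁ T' : Scheme.{u}} (K : Pred T) (j : T₁ ⟶ T) (g : T' ⟶ T₁) :
    K.pull j g ↔ K (g ≫ j) := Iff.rfl

/-- stability under precomposition and fppf locality on the source. -/
structure IsFppfLocal {T : Scheme.{u}} (K : Pred T) : Prop where
  comp : ∀ ⦃T' T'' : Scheme.{u}⦄ (f : T'' ⟶ T') (g : T' ⟶ T), K g → K (f ≫ g)
  loc : ∀ ⦃T' : Scheme.{u}⦄ (g : T' ⟶ T) {κ : Type u} (Y : κ → Scheme.{u}) (f : ∀ k, Y k ⟶ T'),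
    (∀ k, Flat (f k) ∧ LocallyOfFinitePresentation (f k)) → (∀ w : T', ∃ k, w ∈ Set.range (f k)) →
    (∀ k, K (f k ≫ g)) → K g

lemma IsFppfLocal.pull {T T₁ : Scheme.{u}} {K : Pred T} (hK : IsFppfLocal K) (j : T₁ ⟶ T) :
    IsFppfLocal (K.pull j) where
  comp T' T'' f g hg := by
    rw [Pred.pull_apply, Category.assoc]
    exact hK.comp f _ hg
  loc T' g κ Y f hf hs h := by
    rw [Pred.pull_apply]
    refine hK.loc _ Y f hf hs (fun k => ?_)
    rw [← Category.assoc]
    exact h k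

/-- `K` is cut out by the ideal sheaf `I`. -/
def CutOut {T : Scheme.{u}} (K : Pred T) (I : T.IdealSheafData) : Prop :=
  ∀ ⦃T' : Scheme.{u}⦄ (g : T' ⟶ T), K g ↔ I ≤ g.ker

lemma CutOut.pull {T T₁ : Scheme.{u}} {K : Pred T} {I : T.IdealSheafData} (h : CutOut K I)
    (j : T₁ ⟶ T) : CutOut (K.pull j) (I.comap j) := by
  intro T' g
  rw [Pred.pull_apply, h, ← Scheme.IdealSheafData.map_ker, Scheme.IdealSheafData.le_map_iff_comap_le]

lemma CutOut.unique {T : Scheme.{u}} {K : Pred T} {I I' : T.IdealSheafData} (h : CutOut K I)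
    (h' : CutOut K I') : I = I' := by
  apply le_antisymm
  · have := (h I'.subschemeι).1 ((h' I'.subschemeι).2 (by rw [Scheme.IdealSheafData.ker_subschemeι]))
    rwa [Scheme.IdealSheafData.ker_subschemeι] at this
  · have := (h' I.subschemeι).1 ((h I.subschemeι).2 (by rw [Scheme.IdealSheafData.ker_subschemeι]))
    rwa [Scheme.IdealSheafData.ker_subschemeι] at this

/-- for an affine target, `I ≤ g.ker` is a condition on global sections. -/
lemma le_ker_iff_of_isAffine {T T' : Scheme.{u}} [IsAffine T] (I : T.IdealSheafData) (g : T' ⟶ T) :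
    I ≤ g.ker ↔ I.ideal ⟨⊤, isAffineOpen_top T⟩ ≤ RingHom.ker g.appTop.hom := by
  rw [Scheme.ker_of_isAffine g]
  constructor
  · intro h
    have := h ⟨⊤, isAffineOpen_top T⟩
    simpa using this
  · intro h
    apply Scheme.IdealSheafData.le_of_isAffine
    simpa using h

/-- sections vanishing on a jointly surjective flat family vanish. -/
lemma eq_zero_of_flat_cover {X : Scheme.{u}} (s : Γ(X, ⊤)) {κ : Type*} (Y : κ → Scheme.{u})
    (f : ∀ k, Y k ⟶ X) (hf : ∀ k, Flat (f k)) (hs : ∀ x : X, ∃ k, x ∈ Set.range (f k))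
    (h : ∀ k, (f k).appTop s = 0) : s = 0 := by
  refine TopCat.Presheaf.section_ext X.sheaf ⊤ s 0 (fun x hx => ?_)
  obtain ⟨k, y, rfl⟩ := hs x
  haveI := hf k
  have hinj : Function.Injective ((f k).stalkMap y) := by
    algebraize [((f k).stalkMap y).hom]
    have : Module.FaithfullyFlat (X.presheaf.stalk ((f k) y)) ((Y k).presheaf.stalk y) :=
      @Module.FaithfullyFlat.of_flat_of_isLocalHom _ _ _ _ _ _ _
        (Flat.stalkMap (f k) y) ((f k).toLRSHom.prop y)
    exact ‹RingHom.FaithfullyFlat _›.injective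
  apply hinj
  have h1 := Scheme.Hom.germ_stalkMap_apply (f k) ⊤ y hx s
  have h2 := Scheme.Hom.germ_stalkMap_apply (f k) ⊤ y hx 0
  rw [map_zero] at h2
  change (f k).stalkMap y (X.presheaf.germ ⊤ ((f k) y) hx s) =
    (f k).stalkMap y (X.presheaf.germ ⊤ ((f k) y) hx 0)
  rw [h1, map_zero, map_zero]
  have : (f k).app ⊤ s = 0 := h k
  rw [this, map_zero]


section SpecTo

/-- the morphism `Spec C ⟶ X` into an affine scheme attached to a ring map `Γ(X, ⊤) ⟶ C`. -/
noncomputable def specTo (X : Scheme.{u}) [IsAffine X] {C : CommRingCat.{u}} (ψ : Γ(X, ⊤) ⟶ C) :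
    Spec C ⟶ X :=
  Spec.map ψ ≫ X.isoSpec.inv

lemma isoSpec_inv_appTop (X : Scheme.{u}) [IsAffine X] :
    X.isoSpec.inv.appTop = (Scheme.ΓSpecIso Γ(X, ⊤)).inv := by
  have h : X.isoSpec.hom.appTop ≫ X.isoSpec.inv.appTop = 𝟙 _ := by
    rw [← Scheme.Hom.comp_appTop, Iso.inv_hom_id]
    rfl
  have h2 : X.isoSpec.hom.appTop = (Scheme.ΓSpecIso Γ(X, ⊤)).hom := Scheme.toSpecΓ_appTop X
  rw [h2] at h
  rw [← cancel_epi (Scheme.ΓSpecIso Γ(X, ⊤)).hom, h, Iso.hom_inv_id]

lemma specTo_appTop (X : Scheme.{u}) [IsAffine X] {C : CommRingCat.{u}} (ψ : Γ(X, ⊤) ⟶ C) :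
    (specTo X ψ).appTop = ψ ≫ (Scheme.ΓSpecIso C).inv := by
  rw [specTo, Scheme.Hom.comp_appTop, isoSpec_inv_appTop, Scheme.ΓSpecIso_inv_naturality]

lemma ker_specTo_appTop (X : Scheme.{u}) [IsAffine X] {C : CommRingCat.{u}} (ψ : Γ(X, ⊤) ⟶ C) :
    RingHom.ker (specTo X ψ).appTop.hom = RingHom.ker ψ.hom := by
  ext x
  rw [RingHom.mem_ker, RingHom.mem_ker, specTo_appTop]
  have hinj : Function.Injective (Scheme.ΓSpecIso C).inv.hom :=
    (ConcreteCategory.bijective_of_isIso (Scheme.ΓSpecIso C).inv).1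
  constructor
  · intro h
    apply hinj
    rw [map_zero]
    exact h
  · intro h
    change (Scheme.ΓSpecIso C).inv.hom (ψ.hom x) = 0
    rw [h, map_zero]

lemma specTo_comp {Y T : Scheme.{u}} [IsAffine Y] [IsAffine T] (t : Y ⟶ T) {C : CommRingCat.{u}}
    (ψ : Γ(Y, ⊤) ⟶ C) : specTo Y ψ ≫ t = specTo T (t.appTop ≫ ψ) := by
  apply ext_of_isAffine
  rw [Scheme.Hom.comp_appTop, specTo_appTop, specTo_appTop, Category.assoc]

end SpecTo

/-- the affine core: descent of ideals along a finite flat affine cover of an affine scheme. -/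
theorem exists_cutOut_of_affine_cover {T : Scheme.{u}} [IsAffine T] (K : Pred T) (hK : IsFppfLocal K)
    {κ : Type u} [Finite κ] (Y : κ → Scheme.{u}) [∀ k, IsAffine (Y k)] (t : ∀ k, Y k ⟶ T)
    (ht : ∀ k, Flat (t k) ∧ LocallyOfFinitePresentation (t k))
    (hs : ∀ x : T, ∃ k, x ∈ Set.range (t k))
    (I : ∀ k, (Y k).IdealSheafData) (hI : ∀ k, CutOut (K.pull (t k)) (I k)) :
    ∃ I₀ : T.IdealSheafData, CutOut K I₀ := by
  let A : Type u := Γ(T, ⊤)
  let B : κ → Type u := fun k => Γ(Y k, ⊤)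
  letI : ∀ k, Algebra A (B k) := fun k => (t k).appTop.hom.toAlgebra
  have halg : ∀ k (a : A), algebraMap A (B k) a = (t k).appTop.hom a := fun k a => rfl
  haveI : ∀ k, Module.Flat A (B k) := fun k => by
    haveI := (ht k).1
    exact Scheme.Hom.flat_appTop (t k)
  let Ik : ∀ k, Ideal (B k) := fun k => (I k).ideal ⟨⊤, isAffineOpen_top _⟩
  -- the descent condition
  have hdesc : ∀ k l, (Ik k).map (Algebra.TensorProduct.includeLeft : B k →ₐ[A] B k ⊗[A] B l) ≤
      (Ik l).map (Algebra.TensorProduct.includeRight : B l →ₐ[A] B k ⊗[A] B l) := by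
    intro k l
    let Q : Ideal (B k ⊗[A] B l) :=
      (Ik l).map (Algebra.TensorProduct.includeRight : B l →ₐ[A] B k ⊗[A] B l)
    let ψ : B k ⊗[A] B l →+* (B k ⊗[A] B l) ⧸ Q := Ideal.Quotient.mk Q
    let ψk : Γ(Y k, ⊤) ⟶ CommRingCat.of ((B k ⊗[A] B l) ⧸ Q) := CommRingCat.ofHom
      (ψ.comp (Algebra.TensorProduct.includeLeft : B k →ₐ[A] B k ⊗[A] B l).toRingHom)
    let ψl : Γ(Y l, ⊤) ⟶ CommRingCat.of ((B k ⊗[A] B l) ⧸ Q) := CommRingCat.ofHom
      (ψ.comp (Algebra.TensorProduct.includeRight : B l →ₐ[A] B k ⊗[A] B l).toRingHom)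
    have hcomm : specTo (Y k) ψk ≫ t k = specTo (Y l) ψl ≫ t l := by
      rw [specTo_comp, specTo_comp]
      congr 1
      ext a
      change ψ ((Algebra.TensorProduct.includeLeft : B k →ₐ[A] B k ⊗[A] B l)
        (algebraMap A (B k) a)) = ψ ((Algebra.TensorProduct.includeRight : B l →ₐ[A] B k ⊗[A] B l)
        (algebraMap A (B l) a))
      rw [AlgHom.commutes, AlgHom.commutes]
    have hl : K.pull (t l) (specTo (Y l) ψl) := by
      rw [hI l, le_ker_iff_of_isAffine, ker_specTo_appTop]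
      intro y hy
      rw [RingHom.mem_ker]
      change ψ ((Algebra.TensorProduct.includeRight : B l →ₐ[A] B k ⊗[A] B l) y) = 0
      exact Ideal.Quotient.eq_zero_iff_mem.2 (Ideal.mem_map_of_mem _ hy)
    have hk : K.pull (t k) (specTo (Y k) ψk) := by
      rw [Pred.pull_apply, hcomm]
      exact hl
    rw [hI k, le_ker_iff_of_isAffine, ker_specTo_appTop] at hk
    rw [Ideal.map_le_iff_le_comap]
    intro x hx
    have h0 := hk hx
    rw [RingHom.mem_ker] at h0
    have h1 : ψ ((Algebra.TensorProduct.includeLeft : B k →ₐ[A] B k ⊗[A] B l) x) = 0 := h0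
    rw [Ideal.mem_comap]
    exact Ideal.Quotient.eq_zero_iff_mem.1 h1
  have hmap := ClosedDescRing.map_contraction_eq A B Ik hdesc
  refine ⟨Scheme.IdealSheafData.ofIdealTop (ClosedDescRing.contraction A B Ik), ?_⟩
  intro T' g
  have htop : (Scheme.IdealSheafData.ofIdealTop (ClosedDescRing.contraction A B Ik)).ideal
      ⟨⊤, isAffineOpen_top T⟩ = ClosedDescRing.contraction A B Ik := by simp
  rw [le_ker_iff_of_isAffine, htop]
  -- the cover of `T'`
  have hcov1 : ∀ k, Flat (pullback.fst g (t k)) ∧ LocallyOfFinitePresentation (pullback.fst g (t k)) := by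
    intro k
    haveI := (ht k).1
    haveI := (ht k).2
    exact ⟨inferInstance, inferInstance⟩
  have hcov2 : ∀ w : T', ∃ k, w ∈ Set.range (pullback.fst g (t k)) := by
    intro w
    obtain ⟨k, y, hy⟩ := hs (g w)
    obtain ⟨z, hz, -⟩ := Scheme.Pullback.exists_preimage_pullback (f := g) (g := t k) w y hy.symm
    exact ⟨k, z, hz⟩
  have hcomp : ∀ k (a : A), (pullback.snd g (t k)).appTop.hom (algebraMap A (B k) a) =
      (pullback.fst g (t k)).appTop.hom (g.appTop.hom a) := by
    intro k a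
    rw [halg]
    have h1 : (pullback.snd g (t k) ≫ t k).appTop = (pullback.fst g (t k) ≫ g).appTop := by
      rw [pullback.condition]
    rw [Scheme.Hom.comp_appTop, Scheme.Hom.comp_appTop] at h1
    have := congrArg (fun φ => φ.hom a) h1
    simpa using this
  constructor
  · intro hKg a ha
    rw [RingHom.mem_ker]
    refine eq_zero_of_flat_cover _ (fun k => pullback g (t k)) (fun k => pullback.fst g (t k))
      (fun k => (hcov1 k).1) hcov2 (fun k => ?_)
    change (pullback.fst g (t k)).appTop.hom (g.appTop.hom a) = 0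
    rw [← hcomp]
    have h1 : K.pull (t k) (pullback.snd g (t k)) := by
      rw [Pred.pull_apply, ← pullback.condition]
      exact hK.comp _ _ hKg
    rw [hI k, le_ker_iff_of_isAffine] at h1
    have h2 : algebraMap A (B k) a ∈ Ik k := (ClosedDescRing.mem_contraction A B Ik).1 ha k
    exact RingHom.mem_ker.1 (h1 h2)
  · intro hJ
    refine hK.loc g (fun k => pullback g (t k)) (fun k => pullback.fst g (t k)) hcov1 hcov2 (fun k => ?_)
    rw [pullback.condition]
    change K.pull (t k) (pullback.snd g (t k))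
    rw [hI k, le_ker_iff_of_isAffine]
    change Ik k ≤ _
    rw [← hmap k, Ideal.map_le_iff_le_comap]
    intro a ha
    rw [Ideal.mem_comap, RingHom.mem_ker, hcomp, RingHom.mem_ker.1 (hJ ha), map_zero]


lemma Pred.pull_pull {T T₁ T₂ : Scheme.{u}} (K : Pred T) (j : T₁ ⟶ T) (j' : T₂ ⟶ T₁) :
    (K.pull j).pull j' = K.pull (j' ≫ j) := by
  funext T' g
  simp only [Pred.pull, Category.assoc]

/-- descent of ideals along an arbitrary fppf covering family of an affine scheme. -/
theorem exists_cutOut_of_isAffine {T : Scheme.{u}} [IsAffine T] (K : Pred T) (hK : IsFppfLocal K)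
    {κ : Type u} (Y : κ → Scheme.{u}) (t : ∀ i, Y i ⟶ T)
    (ht : ∀ i, Flat (t i) ∧ LocallyOfFinitePresentation (t i))
    (hs : ∀ x : T, ∃ i, x ∈ Set.range (t i))
    (I : ∀ i, (Y i).IdealSheafData) (hI : ∀ i, CutOut (K.pull (t i)) (I i)) :
    ∃ I₀ : T.IdealSheafData, CutOut K I₀ := by
  choose i y hy using hs
  have hV : ∀ x : T, ∃ W : (Y (i x)).Opens, IsAffineOpen W ∧ y x ∈ W := fun x => by
    obtain ⟨W, hW, hxW, -⟩ := exists_isAffineOpen_mem_and_subset
      (X := Y (i x)) (x := y x) (U := ⊤) trivial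
    exact ⟨W, hW, hxW⟩
  choose V hVaff hyV using hV
  have hopen : ∀ x : T, IsOpen ((t (i x)) '' (V x : Set (Y (i x)))) := fun x => by
    haveI := (ht (i x)).1
    haveI := (ht (i x)).2
    exact (t (i x)).isOpenMap _ (V x).2
  have hcov : (Set.univ : Set T) ⊆ ⋃ x : T, (t (i x)) '' (V x : Set (Y (i x))) := by
    intro x _
    exact Set.mem_iUnion.2 ⟨x, y x, hyV x, hy x⟩
  obtain ⟨s, hs⟩ := isCompact_univ.elim_finite_subcover _ hopen hcov
  haveI : ∀ k : {x // x ∈ s}, IsAffine ((V k.1 : (Y (i k.1)).Opens) : Scheme.{u}) := fun k => hVaff k.1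
  refine exists_cutOut_of_affine_cover K hK (κ := {x // x ∈ s})
    (fun k => ((V k.1 : (Y (i k.1)).Opens) : Scheme.{u}))
    (fun k => (V k.1).ι ≫ t (i k.1)) (fun k => ?_) (fun x => ?_)
    (fun k => (I (i k.1)).comap (V k.1).ι) (fun k => ?_)
  · haveI := (ht (i k.1)).1
    haveI := (ht (i k.1)).2
    exact ⟨inferInstance, inferInstance⟩
  · have hx := hs (Set.mem_univ x)
    simp only [Set.mem_iUnion] at hx
    obtain ⟨x', hx's, v, hv, hvx⟩ := hx
    refine ⟨⟨x', hx's⟩, ⟨v, hv⟩, ?_⟩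
    exact hvx
  · rw [← Pred.pull_pull]
    exact (hI (i k.1)).pull _


/-- sections over an open vanishing on a jointly surjective flat family vanish. -/
lemma eq_zero_of_flat_cover_app {X : Scheme.{u}} (V : X.Opens) (s : Γ(X, V)) {κ : Type*}
    (Y : κ → Scheme.{u}) (f : ∀ k, Y k ⟶ X) (hf : ∀ k, Flat (f k))
    (hs : ∀ x : X, ∃ k, x ∈ Set.range (f k)) (h : ∀ k, (f k).app V s = 0) : s = 0 := by
  refine TopCat.Presheaf.section_ext X.sheaf V s 0 (fun x hx => ?_)
  obtain ⟨k, y, rfl⟩ := hs x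
  haveI := hf k
  have hinj : Function.Injective ((f k).stalkMap y) := by
    algebraize [((f k).stalkMap y).hom]
    have : Module.FaithfullyFlat (X.presheaf.stalk ((f k) y)) ((Y k).presheaf.stalk y) :=
      @Module.FaithfullyFlat.of_flat_of_isLocalHom _ _ _ _ _ _ _
        (Flat.stalkMap (f k) y) ((f k).toLRSHom.prop y)
    exact ‹RingHom.FaithfullyFlat _›.injective
  apply hinj
  have h1 := Scheme.Hom.germ_stalkMap_apply (f k) V y hx s
  change (f k).stalkMap y (X.presheaf.germ V ((f k) y) hx s) =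
    (f k).stalkMap y (X.presheaf.germ V ((f k) y) hx 0)
  rw [h1, map_zero, map_zero, h k, map_zero]

/-- factoring through a closed subscheme is fppf local on the source. -/
lemma isFppfLocal_le_ker {T : Scheme.{u}} (I : T.IdealSheafData) :
    IsFppfLocal (fun T' (g : T' ⟶ T) => I ≤ g.ker) where
  comp T' T'' f g hg := hg.trans (Scheme.Hom.le_ker_comp f g)
  loc T' g κ Y f hf hs h := by
    change I ≤ Scheme.IdealSheafData.ofIdeals _
    rw [Scheme.IdealSheafData.le_ofIdeals_iff]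
    intro U s hs'
    rw [RingHom.mem_ker]
    refine eq_zero_of_flat_cover_app (g ⁻¹ᵁ U.1) _ Y f (fun k => (hf k).1) hs (fun k => ?_)
    have h1 := Scheme.Hom.ideal_ker_le (f k ≫ g) U (h k U hs')
    rw [RingHom.mem_ker, Scheme.Hom.comp_app] at h1
    exact h1

/-- a subfamily of an fppf covering presieve indexed by the points of the target. -/
lemma exists_small_subfamily {T : Scheme.{u}} {R : Presieve T} (hR : R ∈ Scheme.fppfPrecoverage T) :
    ∃ (Y : T → Scheme.{u}) (t : ∀ x, Y x ⟶ T), (∀ x, R (t x)) ∧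
      (∀ x, Flat (t x) ∧ LocallyOfFinitePresentation (t x)) ∧ ∀ x, x ∈ Set.range (t x) := by
  obtain ⟨ι, U, t, rfl⟩ := R.exists_eq_ofArrows
  rw [Scheme.fppfPrecoverage, Scheme.ofArrows_mem_precoverage_iff] at hR
  obtain ⟨hsurj, hP⟩ := hR
  choose ix hix using hsurj
  exact ⟨fun x => U (ix x), fun x => t (ix x), fun x => ⟨ix x⟩, fun x => hP (ix x), hix⟩

end Groth.Agent.R2.H48.ClosedDescSch
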