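import Mathlib
import Groth.Prelude.Def_AlgSpSub
import Groth.Agent.R2.H48ClosedDescSch
import Groth.Agent.R2.H43CutOut
import Groth.Agent.R2.H44Descent
import Groth.Agent.S9884
import Groth.Agent.Lib.Helper12ZarGlue

/-!
# Effective descent of closed immersions for fppf sheaves (helper48)

Namespace `Groth.Agent.R2.H48.ClosedDescSp`.

* `repWith_isClosedImmersion_of_locallySurjective`: let `a : F ⟶ G` be a map of fppf sheaves and
  `b : H ⟶ G` a locally surjective map such that the base change `a' : F ×_G H ⟶ H` is representable by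
  closed immersions.  Then `a` is representable by closed immersions.
-/

set_option autoImplicit false
universe u
open CategoryTheory CategoryTheory.Limits AlgebraicGeometry Opposite
open AlgSp

set_option backward.isDefEq.respectTransparency false

namespace Groth.Agent.R2.H48.ClosedDescSp

open Groth.Agent.S13210 Groth.Agent.R2.H48.ClosedDescSch

variable {S : Scheme.{u}} {F G H Q : AlgSp.Sp S}

/-- the predicate on `g' : T' ⟶ Z.left`: the restriction of `g` along `g'` lifts to `F`. -/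
def liftPred (a : F ⟶ G) {Z : Over S} (g : (AlgSp.yon S).obj Z ⟶ G) : Pred Z.left :=
  fun T' g' => ∃ d : (AlgSp.yon S).obj (Over.mk (g' ≫ Z.hom)) ⟶ F,
    d ≫ a = (AlgSp.yon S).map (Over.homMk g' rfl : Over.mk (g' ≫ Z.hom) ⟶ Z) ≫ g

lemma liftPred_iff (a : F ⟶ G) {Z : Over S} (g : (AlgSp.yon S).obj Z ⟶ G) {T' : Over S}
    (g' : T' ⟶ Z) : liftPred a g g'.left ↔
      ∃ d : (AlgSp.yon S).obj T' ⟶ F, d ≫ a = (AlgSp.yon S).map g' ≫ g := by
  let e : Over.mk (g'.left ≫ Z.hom) ≅ T' := Over.isoMk (Iso.refl _) (by simp)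
  have he : e.hom ≫ g' = (Over.homMk g'.left rfl : Over.mk (g'.left ≫ Z.hom) ⟶ Z) := by
    ext
    simp [e]
  constructor
  · rintro ⟨d, hd⟩
    refine ⟨(AlgSp.yon S).map e.inv ≫ d, ?_⟩
    rw [Category.assoc, hd, ← he, ← Functor.map_comp_assoc, Iso.inv_hom_id_assoc]
  · rintro ⟨d, hd⟩
    refine ⟨(AlgSp.yon S).map e.hom ≫ d, ?_⟩
    rw [Category.assoc, hd, ← he, Functor.map_comp, Category.assoc]

lemma isFppfLocal_liftPred (a : F ⟶ G) [Mono a] {Z : Over S} (g : (AlgSp.yon S).obj Z ⟶ G) :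
    IsFppfLocal (liftPred a g) where
  comp T' T'' f g' hg' := by
    let g'o : Over.mk (g' ≫ Z.hom) ⟶ Z := Over.homMk g' rfl
    let fo : Over.mk (f ≫ g' ≫ Z.hom) ⟶ Over.mk (g' ≫ Z.hom) := Over.homMk f rfl
    have h1 : (fo ≫ g'o).left = f ≫ g' := rfl
    rw [← h1, liftPred_iff]
    obtain ⟨d, hd⟩ := (liftPred_iff a g g'o).1 hg'
    refine ⟨(AlgSp.yon S).map fo ≫ d, ?_⟩
    rw [Category.assoc, hd, Functor.map_comp, Category.assoc]
  loc T' g' κ Y f hf hs h := by
    let g'o : Over.mk (g' ≫ Z.hom) ⟶ Z := Over.homMk g' rfl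
    let Yo : κ → Over S := fun k => Over.mk (f k ≫ g' ≫ Z.hom)
    let fo : ∀ k, Yo k ⟶ Over.mk (g' ≫ Z.hom) := fun k => Over.homMk (f k) rfl
    have hmem := Groth.Agent.R2.H43.CutOut.ofArrows_mem_J Yo fo hf hs
    have hk : ∀ k, ∃ d : (AlgSp.yon S).obj (Yo k) ⟶ F,
        d ≫ a = (AlgSp.yon S).map (fo k) ≫ (AlgSp.yon S).map g'o ≫ g := by
      intro k
      have h1 : (fo k ≫ g'o).left = f k ≫ g' := rfl
      have h2 := h k
      rw [← h1, liftPred_iff] at h2
      obtain ⟨d, hd⟩ := h2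
      exact ⟨d, by rw [hd, Functor.map_comp, Category.assoc]⟩
    obtain ⟨d, hd⟩ := Groth.Agent.R2.H43.CutOut.exists_factor_of_cover a
      ((AlgSp.yon S).map g'o ≫ g) Yo fo hmem hk
    exact (liftPred_iff a g g'o).2 ⟨d, hd⟩

/-- the affine case of the descent theorem. -/
theorem exists_rep_of_isAffine (a : F ⟶ G) (b : H ⟶ G) [Sheaf.IsLocallySurjective b] (b' : Q ⟶ F)
    (a' : Q ⟶ H) (sq : IsPullback b' a' a b) (h : AlgSp.RepWith @IsClosedImmersion a')
    (Z : Over S) (hZ : IsAffine Z.left) (g : (AlgSp.yon S).obj Z ⟶ G) :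
    ∃ (W : Over S) (i : W ⟶ Z) (fst : (AlgSp.yon S).obj W ⟶ F),
      IsPullback fst ((AlgSp.yon S).map i) a g ∧ IsClosedImmersion i.left := by
  haveI : Mono a' := Groth.Agent.S9928.mono_of_repWith @IsClosedImmersion (fun X Y g hg => by
    haveI : IsClosedImmersion g := hg
    infer_instance) a' h
  haveI : Mono a := Groth.Agent.R2.H44.Descent.mono_of_isPullback sq.flip
  obtain ⟨R, hR, hlift⟩ := Groth.Agent.S9884.exists_fppf_lift b g
  obtain ⟨ι, U, t, rfl⟩ := R.exists_eq_ofArrows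
  rw [Scheme.fppfPrecoverage, Scheme.ofArrows_mem_precoverage_iff] at hR
  obtain ⟨hsurj, hP⟩ := hR
  choose ix hix using hsurj
  -- the family indexed by the points of `Z.left`
  let Y : Z.left → Scheme.{u} := fun x => U (ix x)
  let ty : ∀ x, Y x ⟶ Z.left := fun x => t (ix x)
  have hty : ∀ x, Flat (ty x) ∧ LocallyOfFinitePresentation (ty x) := fun x => hP (ix x)
  have hlift' : ∀ x, ∃ d : (AlgSp.yon S).obj (Over.mk (ty x ≫ Z.hom)) ⟶ H,
      d ≫ b = (AlgSp.yon S).map (Over.homMk (ty x) : Over.mk (ty x ≫ Z.hom) ⟶ Z) ≫ g :=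
    fun x => hlift (ty x) ⟨ix x⟩
  choose d hd using hlift'
  -- the closed subschemes of the `Y x`
  let To : Z.left → Over S := fun x => Over.mk (ty x ≫ Z.hom)
  let tov : ∀ x, To x ⟶ Z := fun x => Over.homMk (ty x) rfl
  let w : ∀ x, h.rep.pullback (d x) ⟶ To x := fun x => h.rep.snd (d x)
  haveI hw : ∀ x, IsClosedImmersion (w x).left := fun x => h.property_snd (d x)
  have hcut : ∀ x, CutOut ((liftPred a g).pull (ty x)) ((w x).left.ker) := by
    intro x T'' g''
    rw [Pred.pull_apply]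
    let g''o : Over.mk (g'' ≫ (To x).hom) ⟶ To x := Over.homMk g'' rfl
    have h1 : (g''o ≫ tov x).left = g'' ≫ ty x := rfl
    rw [← h1, liftPred_iff]
    constructor
    · rintro ⟨e, he⟩
      -- the point of `Q`
      have hcomm : e ≫ a = ((AlgSp.yon S).map g''o ≫ d x) ≫ b := by
        rw [he, Category.assoc, hd x, Functor.map_comp, Category.assoc]
      have hq2 : sq.lift e ((AlgSp.yon S).map g''o ≫ d x) hcomm ≫ a' =
          (AlgSp.yon S).map g''o ≫ d x := sq.lift_snd _ _ _
      let l : Over.mk (g'' ≫ (To x).hom) ⟶ h.rep.pullback (d x) :=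
        h.rep.lift (sq.lift e ((AlgSp.yon S).map g''o ≫ d x) hcomm) g''o hq2
      have hl : l ≫ w x = g''o := h.rep.lift_snd _ _ _
      have hl' : l.left ≫ (w x).left = g'' := congrArg CommaMorphism.left hl
      rw [← hl']
      exact Scheme.Hom.le_ker_comp _ _
    · intro hle
      let l : T'' ⟶ (h.rep.pullback (d x)).left := IsClosedImmersion.lift (w x).left g'' hle
      have hl : l ≫ (w x).left = g'' := IsClosedImmersion.lift_fac _ _ _
      let lo : Over.mk (g'' ≫ (To x).hom) ⟶ h.rep.pullback (d x) := Over.homMk l (by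
        change l ≫ (h.rep.pullback (d x)).hom = g'' ≫ (To x).hom
        rw [← hl, Category.assoc, Over.w (w x)])
      have hlo : lo ≫ w x = g''o := by
        ext
        exact hl
      refine ⟨(AlgSp.yon S).map lo ≫ h.rep.fst (d x) ≫ b', ?_⟩
      rw [Category.assoc, Category.assoc, sq.w, ← Category.assoc (h.rep.fst (d x)),
        (h.rep.isPullback (d x)).w, Category.assoc, hd x, ← Functor.map_comp_assoc,
        ← Functor.map_comp_assoc]
      congr 2
      change (lo ≫ w x) ≫ tov x = g''o ≫ tov x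
      rw [hlo]
  obtain ⟨I₀, hI₀⟩ := exists_cutOut_of_isAffine (liftPred a g) (isFppfLocal_liftPred a g) Y ty hty
    (fun x => ⟨x, hix x⟩) (fun x => (w x).left.ker) hcut
  -- the closed subscheme
  let W : Over S := Over.mk (I₀.subschemeι ≫ Z.hom)
  let i : W ⟶ Z := Over.homMk I₀.subschemeι rfl
  have hKi : liftPred a g i.left := (hI₀ I₀.subschemeι).2 (by rw [Scheme.IdealSheafData.ker_subschemeι])
  obtain ⟨fst, hfst⟩ := (liftPred_iff a g i).1 hKi
  refine ⟨W, i, fst, ?_, inferInstanceAs (IsClosedImmersion I₀.subschemeι)⟩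
  refine isPullback_of_yon hfst (fun T p q hpq => ?_)
  obtain ⟨q', rfl⟩ := (AlgSp.yon S).map_surjective q
  have hK : liftPred a g q'.left := (liftPred_iff a g q').2 ⟨p, hpq⟩
  have hle := (hI₀ q'.left).1 hK
  have hle' : (I₀.subschemeι).ker ≤ q'.left.ker := by rwa [Scheme.IdealSheafData.ker_subschemeι]
  let l : T.left ⟶ W.left := IsClosedImmersion.lift I₀.subschemeι q'.left hle'
  have hl : l ≫ I₀.subschemeι = q'.left := IsClosedImmersion.lift_fac _ _ _
  let lo : T ⟶ W := Over.homMk l (by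
    change l ≫ I₀.subschemeι ≫ Z.hom = T.hom
    rw [← Category.assoc, hl, Over.w q'])
  have hlo : lo ≫ i = q' := by
    ext
    exact hl
  haveI : Mono i := by
    haveI : Mono i.left := inferInstanceAs (Mono I₀.subschemeι)
    exact Over.mono_of_mono_left i
  refine ⟨(AlgSp.yon S).map lo, ⟨?_, ?_⟩, ?_⟩
  · rw [← cancel_mono a, Category.assoc, hfst, ← Functor.map_comp_assoc, hlo, hpq]
  · rw [← Functor.map_comp, hlo]
  · rintro m ⟨-, hm2⟩
    obtain ⟨m', rfl⟩ := (AlgSp.yon S).map_surjective m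
    rw [← Functor.map_comp] at hm2
    have := (AlgSp.yon S).map_injective hm2
    congr 1
    rw [← cancel_mono i, this, hlo]

/-- **Effective descent of closed immersions along locally surjective maps of fppf sheaves.** -/
theorem repWith_isClosedImmersion_of_locallySurjective (a : F ⟶ G) (b : H ⟶ G)
    [Sheaf.IsLocallySurjective b] (b' : Q ⟶ F) (a' : Q ⟶ H) (sq : IsPullback b' a' a b)
    (h : AlgSp.RepWith @IsClosedImmersion a') : AlgSp.RepWith @IsClosedImmersion a :=
  Groth.Agent.Lib.Helper12.ZarGlue.repWith_of_affine @IsClosedImmersion a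
    (fun Z hZ g => exists_rep_of_isAffine a b b' a' sq h Z hZ g)

end Groth.Agent.R2.H48.ClosedDescSp
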