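import Mathlib
import Groth.Prelude.Def_AlgSpSub

/-!
# helper48: chart toolkit for closed subspaces of algebraic spaces cut out by ideal sheaves on charts
-/

set_option autoImplicit false
universe u
open CategoryTheory CategoryTheory.Limits AlgebraicGeometry

namespace Groth.Agent.R2.H48.Chart

variable {S : Scheme.{u}}

/-- The closed subscheme of an ideal sheaf on a scheme over `S`, as a scheme over `S`. -/
noncomputable abbrev subOver {V : Over S} (I : V.left.IdealSheafData) : Over S :=
  Over.mk (I.subschemeι ≫ V.hom)

/-- The inclusion of the closed subscheme, over `S`. -/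
noncomputable abbrev subι {V : Over S} (I : V.left.IdealSheafData) : subOver I ⟶ V :=
  Over.homMk I.subschemeι rfl

/-- scheme level: the subscheme of the inverse image ideal is the fibre product. -/
theorem isPullback_comap_scheme {X Y : Scheme.{u}} (f : X ⟶ Y) (I : Y.IdealSheafData) :
    IsPullback (Scheme.IdealSheafData.subschemeMap (I.comap f) I f (I.le_map_comap f))
      (I.comap f).subschemeι I.subschemeι f := by
  have h : IsPullback (I.comap f).subschemeι
      (Scheme.IdealSheafData.subschemeMap (I.comap f) I f (I.le_map_comap f)) f I.subschemeι :=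
    IsPullback.of_iso_pullback ⟨by simp⟩ (I.comapIso f) (by simp) (by simp)
  exact h.flip

/-- The map between the closed subschemes induced by a morphism over `S`. -/
noncomputable def comapSubMap {U V : Over S} (α : U ⟶ V) (I : V.left.IdealSheafData) :
    subOver (I.comap α.left) ⟶ subOver I :=
  Over.homMk (Scheme.IdealSheafData.subschemeMap (I.comap α.left) I α.left (I.le_map_comap α.left)) (by
    show _ ≫ I.subschemeι ≫ V.hom = (I.comap α.left).subschemeι ≫ U.hom
    rw [← Category.assoc, Scheme.IdealSheafData.subschemeMap_subschemeι, Category.assoc, Over.w α])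

theorem comapSubMap_subι {U V : Over S} (α : U ⟶ V) (I : V.left.IdealSheafData) :
    comapSubMap α I ≫ subι I = subι (I.comap α.left) ≫ α := by
  ext
  simp [comapSubMap]

/-- over `S`: the subscheme of the inverse image ideal is the fibre product. -/
theorem isPullback_comap_over {U V : Over S} (α : U ⟶ V) (I : V.left.IdealSheafData) :
    IsPullback (comapSubMap α I) (subι (I.comap α.left)) (subι I) α :=
  IsPullback.of_map (Over.forget S) (comapSubMap_subι α I) (isPullback_comap_scheme α.left I)

/-- as sheaves: the subscheme of the inverse image ideal is the fibre product. -/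
theorem isPullback_comap_yon {U V : Over S} (α : U ⟶ V) (I : V.left.IdealSheafData) :
    IsPullback ((AlgSp.yon S).map (comapSubMap α I)) ((AlgSp.yon S).map (subι (I.comap α.left)))
      ((AlgSp.yon S).map (subι I)) ((AlgSp.yon S).map α) :=
  (isPullback_comap_over α I).map (AlgSp.yon S)

/-- Chart change: if `V(I) ⊂ V` is the inverse image of `i : D ⟶ Y` under `φ : h_V ⟶ Y`, then for `α : U ⟶ V` the
closed subscheme of the inverse image ideal is the inverse image of `D` under `h_α ≫ φ`. -/
theorem isPullback_chart_comap {D Y : AlgSp.Sp S} {i : D ⟶ Y} {V : Over S} {φ : (AlgSp.yon S).obj V ⟶ Y}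
    {I : V.left.IdealSheafData} {fst₀ : (AlgSp.yon S).obj (subOver I) ⟶ D}
    (h : IsPullback fst₀ ((AlgSp.yon S).map (subι I)) i φ) {U : Over S} (α : U ⟶ V) :
    IsPullback ((AlgSp.yon S).map (comapSubMap α I) ≫ fst₀) ((AlgSp.yon S).map (subι (I.comap α.left))) i
      ((AlgSp.yon S).map α ≫ φ) :=
  (isPullback_comap_yon α I).paste_horiz h

/-- Transfer of a chart of a closed subspace to a base change of it. -/
theorem exists_isPullback_baseChange {D X Y P : AlgSp.Sp S} {i : D ⟶ Y} {f : X ⟶ Y} {fst : P ⟶ D} {snd : P ⟶ X}
    (hP : IsPullback fst snd i f) {U Z : Over S} {p : (AlgSp.yon S).obj U ⟶ X} {ι : Z ⟶ U}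
    {g : (AlgSp.yon S).obj Z ⟶ D} (h : IsPullback g ((AlgSp.yon S).map ι) i (p ≫ f)) :
    ∃ g' : (AlgSp.yon S).obj Z ⟶ P, g' ≫ fst = g ∧ IsPullback g' ((AlgSp.yon S).map ι) snd p := by
  exact ⟨_, hP.lift_fst _ _ _, IsPullback.of_right' h hP⟩

end Groth.Agent.R2.H48.Chart
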