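import Mathlib
import Groth.Agent.R2.H48Chart
import Groth.Agent.S10176
import Groth.Agent.Lib.Helper12AffineDescent
import Groth.Prelude.Def_CurvBase
import Groth.Prelude.Def_CInt
import Groth.Prelude.Def_BlowUp2
import Groth.Agent.Lib.Helper20EffCartier

/-!
# helper48: open complements of closed subspaces on charts

* `mem_range_iff_of_isPullback`: points of the inverse image of a subspace in a chart.
* `exists_open_chart`: the inverse image of an open subspace in a chart is an open subscheme.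
* `isAffineHom_cmpl_ι`: the complement of a locally principal closed subscheme is affine over the scheme.
* `isSchematicallyDense_cmpl`: the complement of an effective Cartier divisor is schematically dense.
-/

set_option autoImplicit false
set_option backward.isDefEq.respectTransparency false
universe u
open CategoryTheory CategoryTheory.Limits AlgebraicGeometry
open AlgSp

namespace Groth.Agent.R2.H48.OpenCompl

open Groth.Agent.R2.H48.Chart

variable {S : Scheme.{u}}

/-- points of the inverse image of a subspace in a chart. -/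
theorem mem_range_iff_of_isPullback {G X : AlgSp.Sp S} {k : G ⟶ X} {T V : Over S} {ι : T ⟶ V}
    {φ : (AlgSp.yon S).obj V ⟶ X} {fst : (AlgSp.yon S).obj T ⟶ G}
    (sq : IsPullback fst ((AlgSp.yon S).map ι) k φ) (v : ↥V.left) :
    v ∈ Set.range ι.left ↔ AlgSp.Points.ofPt φ v ∈ Set.range (AlgSp.Points.map k) := by
  constructor
  · rintro ⟨t, rfl⟩
    refine ⟨AlgSp.Points.ofPt fst t, ?_⟩
    rw [AlgSp.Points.map_ofPt, sq.w, Groth.Agent.S10176.ofPt_map_comp]
  · rintro ⟨g, hg⟩
    have e : AlgSp.Points.map k g = AlgSp.Points.map φ (AlgSp.Points.ofScheme V v) := by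
      rw [hg, AlgSp.Points.ofPt_eq_map_ofScheme]
    obtain ⟨p, -, hp⟩ := Groth.Agent.S10175.exists_point_of_isPullback sq g _ e
    obtain ⟨t, rfl⟩ := (AlgSp.Points.schemeHomeo T).surjective p
    refine ⟨t, ?_⟩
    apply (AlgSp.Points.schemeHomeo V).injective
    rw [← AlgSp.Points.map_yon_map_apply]
    exact hp

/-- the inverse image of an open subspace in a chart is an open subscheme. -/
theorem exists_open_chart {U X : AlgSp.Sp S} {j : U ⟶ X} (hj : AlgSp.RepWith @IsOpenImmersion j)
    {V : Over S} (φ : (AlgSp.yon S).obj V ⟶ X) :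
    ∃ (W : V.left.Opens) (fst : (AlgSp.yon S).obj (Over.mk (W.ι ≫ V.hom)) ⟶ U),
      IsPullback fst ((AlgSp.yon S).map (Over.homMk W.ι rfl : Over.mk (W.ι ≫ V.hom) ⟶ V)) j φ ∧
      ∀ v : ↥V.left, v ∈ W ↔ AlgSp.Points.ofPt φ v ∈ Set.range (AlgSp.Points.map j) := by
  obtain ⟨T, ι, fst', sq⟩ := hj.1 φ
  haveI : IsOpenImmersion ι.left := hj.2 _ _ ι sq
  let W : V.left.Opens := ι.left.opensRange
  let e₀ : T.left ≅ W.toScheme := IsOpenImmersion.isoOfRangeEq ι.left W.ι (by simp [W])
  have he₀ : e₀.hom ≫ W.ι = ι.left := IsOpenImmersion.isoOfRangeEq_hom_fac _ _ _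
  let e : T ⟶ Over.mk (W.ι ≫ V.hom) := Over.homMk e₀.hom (by
    show e₀.hom ≫ W.ι ≫ V.hom = T.hom
    rw [← Category.assoc, he₀]
    exact Over.w ι)
  haveI : IsIso ((Over.forget S).map e) := inferInstanceAs (IsIso e₀.hom)
  haveI : IsIso e := isIso_of_reflects_iso e (Over.forget S)
  have he : e ≫ (Over.homMk W.ι rfl : Over.mk (W.ι ≫ V.hom) ⟶ V) = ι := by
    ext
    exact he₀
  refine ⟨W, (AlgSp.yon S).map (inv e) ≫ fst', ?_, ?_⟩
  · have hι : (AlgSp.yon S).map (Over.homMk W.ι rfl : Over.mk (W.ι ≫ V.hom) ⟶ V) =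
        (AlgSp.yon S).map (inv e) ≫ (AlgSp.yon S).map ι := by
      rw [← Functor.map_comp, ← he, IsIso.inv_hom_id_assoc]
    rw [hι]
    exact IsPullback.of_iso sq ((AlgSp.yon S).mapIso (asIso e)) (Iso.refl _) (Iso.refl _) (Iso.refl _)
      (by simp) (by simp) (by simp) (by simp)
  · intro v
    rw [← mem_range_iff_of_isPullback sq v]
    rfl

section Scheme

variable {X : Scheme.{u}} (E : X.IdealSheafData)

/-- the open complement of the support of `E`. -/
def cmpl : X.Opens := E.support.compl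

theorem mem_cmpl_iff (x : X) : x ∈ cmpl E ↔ x ∉ E.support := Iff.rfl

theorem cmpl_inf_eq_basicOpen (V : X.affineOpens) (a : Γ(X, V.1))
    (ha : E.ideal V = Ideal.span {a}) : cmpl E ⊓ V.1 = X.basicOpen a := by
  ext x
  constructor
  · rintro ⟨hx, hxV⟩
    have hx' : x ∉ E.support := hx
    rw [Scheme.IdealSheafData.mem_support_iff_of_mem (U := V) hxV, ha, Scheme.zeroLocus_span,
      Scheme.zeroLocus_singleton] at hx'
    simpa using hx'
  · intro hx
    have hxV : x ∈ V.1 := X.basicOpen_le a hx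
    refine ⟨?_, hxV⟩
    show x ∉ E.support
    rw [Scheme.IdealSheafData.mem_support_iff_of_mem (U := V) hxV, ha, Scheme.zeroLocus_span,
      Scheme.zeroLocus_singleton]
    simpa using hx

theorem ι_image_preimage (D V : X.Opens) : D.ι ''ᵁ (D.ι ⁻¹ᵁ V) = D ⊓ V := by
  rw [Scheme.Hom.image_preimage_eq_opensRange_inf, Scheme.Opens.opensRange_ι]

/-- the complement of a locally principal closed subscheme is affine over the scheme. -/
theorem isAffineHom_cmpl_ι (hE : Curv2.IsLocPrincipal E) : IsAffineHom (cmpl E).ι := by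
  have hex : ∀ x : X, ∃ V : X.affineOpens, x ∈ V.1 ∧ IsAffineOpen (cmpl E ⊓ V.1) := by
    intro x
    by_cases hx : x ∈ E.support
    · obtain ⟨V, hxV, a, ha⟩ := hE x hx
      exact ⟨V, hxV, by rw [cmpl_inf_eq_basicOpen E V a ha]; exact V.2.basicOpen a⟩
    · obtain ⟨_, ⟨V, hV, rfl⟩, hxV, hVle⟩ := X.isBasis_affineOpens.exists_subset_of_mem_open
        (show x ∈ (cmpl E : Set X) from hx) (cmpl E).isOpen
      refine ⟨⟨V, hV⟩, hxV, ?_⟩
      have : cmpl E ⊓ V = V := inf_eq_right.mpr hVle
      rw [this]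
      exact hV
  choose V hxV hV using hex
  have hcov : ⨆ x : X, ((V x : X.affineOpens) : X.Opens) = ⊤ := by
    rw [eq_top_iff]
    intro x _
    exact TopologicalSpace.Opens.mem_iSup.mpr ⟨x, hxV x⟩
  apply IsZariskiLocalAtTarget.of_iSup_eq_top (P := @IsAffineHom) (fun x => (V x).1) hcov
  intro x
  have : IsAffine ((V x).1 : Scheme.{u}) := (V x).2
  rw [HasAffineProperty.iff_of_isAffine (P := @IsAffineHom)]
  have h1 : IsAffineOpen ((cmpl E).ι ⁻¹ᵁ (V x).1) := by
    rw [← Scheme.Hom.isAffineOpen_iff_of_isOpenImmersion (cmpl E).ι, ι_image_preimage]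
    exact hV x
  exact h1

/-- the complement of an effective Cartier divisor is schematically dense. -/
theorem isSchematicallyDense_cmpl (hE : BlowUp.IsEffCartierIdeal E) :
    CInt.IsSchematicallyDense (cmpl E) := by
  intro V'
  rw [injective_iff_map_eq_zero]
  intro s hs
  refine TopCat.Presheaf.section_ext X.sheaf V' s 0 (fun x hx => ?_)
  obtain ⟨Vx, hVx, hxVx, hle, a, ha, hIa⟩ :=
    Groth.Agent.Lib.Helper20.EffCartier.exists_le_of_isEffCartierIdeal hE x V' hx
  -- the restriction of `s` to `Vx` vanishes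
  have ht : (X.presheaf.map (homOfLE hle).op).hom s = 0 := by
    have hbo : X.basicOpen a = cmpl E ⊓ Vx := (cmpl_inf_eq_basicOpen E ⟨Vx, hVx⟩ a hIa).symm
    have hle2 : X.basicOpen a ≤ V' ⊓ cmpl E := by
      rw [hbo]
      exact le_inf (inf_le_right.trans hle) inf_le_left
    have h0 : (X.presheaf.map (homOfLE (X.basicOpen_le a)).op).hom
        ((X.presheaf.map (homOfLE hle).op).hom s) = 0 := by
      have h1 : (X.presheaf.map (homOfLE (X.basicOpen_le a)).op).hom
          ((X.presheaf.map (homOfLE hle).op).hom s) =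
          (X.presheaf.map (homOfLE hle2).op).hom
            ((X.presheaf.map (homOfLE (inf_le_left : V' ⊓ cmpl E ≤ V')).op).hom s) := by
        rw [← CommRingCat.comp_apply, ← CommRingCat.comp_apply, ← Functor.map_comp,
          ← Functor.map_comp]
        rfl
      rw [h1, hs, map_zero]
    have inst := hVx.isLocalization_basicOpen a
    have h2 : algebraMap Γ(X, Vx) Γ(X, X.basicOpen a) ((X.presheaf.map (homOfLE hle).op).hom s) = 0 := h0
    rw [IsLocalization.map_eq_zero_iff (Submonoid.powers a)] at h2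
    obtain ⟨⟨_, n, rfl⟩, hn⟩ := h2
    have han : a ^ n ∈ nonZeroDivisors Γ(X, Vx) := pow_mem ha n
    exact (mem_nonZeroDivisors_iff.mp han).1 _ hn
  have hg : X.presheaf.germ V' x hx s =
      X.presheaf.germ Vx x hxVx ((X.presheaf.map (homOfLE hle).op).hom s) :=
    (TopCat.Presheaf.germ_res_apply X.presheaf (homOfLE hle) x hxVx s).symm
  rw [map_zero]
  show X.presheaf.germ V' x hx s = 0
  rw [hg, ht, map_zero]

end Scheme

/-- an open subspace whose inverse image in one étale surjective chart is affine over the chart is affine over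
the space. -/
theorem isAffineMor_of_chart {X U : AlgSp.Sp S} {j : U ⟶ X} (hj : AlgSp.RepWith @IsOpenImmersion j)
    {V : Over S} {φ : (AlgSp.yon S).obj V ⟶ X} (hφe : AlgSp.RepWith @Etale φ)
    (hφs : AlgSp.RepWith @Surjective φ) (W : V.left.Opens)
    (hW : ∀ v : ↥V.left, v ∈ W ↔ AlgSp.Points.ofPt φ v ∈ Set.range (AlgSp.Points.map j))
    (haff : IsAffineHom W.ι) : AlgSp.IsAffineMor j := by
  intro Z hZ g
  obtain ⟨W_Z, ι_Z, fst_Z, sq_Z⟩ := hj.1 g
  haveI : IsOpenImmersion ι_Z.left := hj.2 _ _ ι_Z sq_Z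
  obtain ⟨Z', z, g', sq'⟩ := hφe.1 g
  obtain ⟨γ, rfl⟩ := (AlgSp.yon S).map_surjective g'
  haveI : Etale z.left := hφe.2 _ _ z sq'
  haveI : Surjective z.left := hφs.2 _ _ z sq'
  have hrange : Set.range (pullback.snd ι_Z.left z.left) = Set.range (pullback.snd W.ι γ.left) := by
    rw [Scheme.Pullback.range_snd, Scheme.Pullback.range_snd]
    ext z'
    simp only [Set.mem_preimage]
    rw [mem_range_iff_of_isPullback sq_Z, Scheme.Opens.range_ι, SetLike.mem_coe, hW,
      ← Groth.Agent.S10176.ofPt_map_comp, ← Groth.Agent.S10176.ofPt_map_comp, sq'.w]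
  let e : pullback ι_Z.left z.left ≅ pullback W.ι γ.left :=
    IsOpenImmersion.isoOfRangeEq (pullback.snd ι_Z.left z.left) (pullback.snd W.ι γ.left) hrange
  have he : e.hom ≫ pullback.snd W.ι γ.left = pullback.snd ι_Z.left z.left :=
    IsOpenImmersion.isoOfRangeEq_hom_fac _ _ _
  haveI : IsAffineHom (pullback.snd W.ι γ.left) := MorphismProperty.pullback_snd _ _ haff
  have h1 : IsAffineHom (pullback.snd ι_Z.left z.left) := by
    rw [← he]
    infer_instance
  haveI := Groth.Agent.Lib.Helper12.descendsAlong_isAffineHom.{u}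
  have h2 : IsAffineHom ι_Z.left :=
    MorphismProperty.of_isPullback_of_descendsAlong (P := @IsAffineHom)
      (Q := (@Surjective ⊓ @Flat ⊓ @LocallyOfFinitePresentation : MorphismProperty Scheme.{u}))
      (IsPullback.of_hasPullback ι_Z.left z.left).flip
      ⟨⟨inferInstance, inferInstance⟩, inferInstance⟩ h1
  haveI : IsAffine Z.left := hZ
  exact ⟨W_Z, ι_Z, fst_Z, sq_Z, isAffine_of_isAffineHom ι_Z.left⟩

end Groth.Agent.R2.H48.OpenCompl
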