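import Mathlib
import Groth.Prelude.Def_AlgSpSub
import Groth.Agent.R2.H48ClosedDescSp
import Groth.Agent.R2.H48OpenCompl
import Groth.Agent.Lib.Helper12OpenSub
import Groth.Agent.S9885

/-!
# Closed subspaces of a sheaf from invariant closed subschemes of a chart (helper48)

Namespace `Groth.Agent.R2.H48.ClosedSub`.

Let `p : h_U ⟶ X` be a map of fppf sheaves and `I` an ideal sheaf on `U` which is invariant
(`Invariant p I`: for two `T`-points `b₁ b₂` of `U` with the same image in `X`, `b₁` factors through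
`V(I)` iff `b₂` does).  We construct the subsheaf `obj p I ⊂ X` of sections whose pullback to `U` factors
through `V(I)`, show that `V(I) = U ×_X obj p I`, and (for `p` representable etale surjective) that the
inclusion is representable by closed immersions.
-/

set_option autoImplicit false
universe u
open CategoryTheory CategoryTheory.Limits AlgebraicGeometry Opposite
open AlgSp

set_option backward.isDefEq.respectTransparency false

namespace Groth.Agent.R2.H48.ClosedSub

open Groth.Agent.S13210 Groth.Agent.R2.H48.ClosedDescSch Groth.Agent.Lib.Helper12.OpenSub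

variable {S : Scheme.{u}} {X : AlgSp.Sp S} {U₀ : Over S} (p : (AlgSp.yon S).obj U₀ ⟶ X)
  (I : U₀.left.IdealSheafData)

/-- invariance of the closed subscheme `V(I)` under the relation `U ×_X U`. -/
def Invariant : Prop :=
  ∀ (T : Over S) (b₁ b₂ : T ⟶ U₀), (AlgSp.yon S).map b₁ ≫ p = (AlgSp.yon S).map b₂ ≫ p →
    I ≤ b₁.left.ker → I ≤ b₂.left.ker

/-- the subfunctor of sections whose pullback to the chart factors through `V(I)`. -/
def sub : Subfunctor X.obj where
  obj T := {ξ | ∀ (T' : Over S) (a : T' ⟶ T.unop) (b : T' ⟶ U₀),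
    (AlgSp.yon S).map a ≫ (yEquiv T.unop X).symm ξ = (AlgSp.yon S).map b ≫ p → I ≤ b.left.ker}
  map := by
    intro T T₁ g ξ hξ T' a b hab
    have h : X.obj.map g ξ = X.obj.map g.unop.op ξ := rfl
    rw [h, yEquiv_symm_map, ← Functor.map_comp_assoc] at hab
    exact hξ T' (a ≫ g.unop) b hab

lemma mem_sub_iff {T : Over S} (a : (AlgSp.yon S).obj T ⟶ X) :
    yEquiv T X a ∈ (sub p I).obj (op T) ↔ ∀ (T' : Over S) (c : T' ⟶ T) (b : T' ⟶ U₀),
      (AlgSp.yon S).map c ≫ a = (AlgSp.yon S).map b ≫ p → I ≤ b.left.ker := by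
  change (∀ (T' : Over S) (c : T' ⟶ T) (b : T' ⟶ U₀),
      (AlgSp.yon S).map c ≫ (yEquiv T X).symm (yEquiv T X a) = (AlgSp.yon S).map b ≫ p →
      I ≤ b.left.ker) ↔ _
  rw [Equiv.symm_apply_apply]

lemma sub_isSheaf : Presheaf.IsSheaf (AlgSp.J S) (sub p I).toFunctor := by
  have hsh : Presieve.IsSheaf (AlgSp.J S) X.obj := (isSheaf_iff_isSheaf_of_type _ _).1 X.property
  rw [isSheaf_iff_isSheaf_of_type, Subfunctor.isSheaf_iff _ hsh]
  rintro ⟨T⟩ s hmem T' c b hcb
  rw [GrothendieckTopology.mem_over_iff,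
    Precoverage.mem_toGrothendieck_iff_of_isStableUnderComposition] at hmem
  obtain ⟨R, hR, hle⟩ := hmem
  obtain ⟨Y, t, hRt, ht, hsurj⟩ := exists_small_subfamily hR
  -- the cover of `T'` by the pullbacks
  refine (isFppfLocal_le_ker I).loc b.left (fun x : T.left => pullback c.left (t x))
    (fun x => pullback.fst c.left (t x)) (fun x => ?_) (fun w => ?_) (fun x => ?_)
  · haveI := (ht x).1
    haveI := (ht x).2
    exact ⟨inferInstance, inferInstance⟩
  · obtain ⟨y, hy⟩ := hsurj (c.left w)
    obtain ⟨z, hz, -⟩ := Scheme.Pullback.exists_preimage_pullback (f := c.left) (g := t (c.left w))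
      w y hy.symm
    exact ⟨c.left w, z, hz⟩
  · have h1 := hle _ _ (hRt x)
    rw [Sieve.overEquiv_iff] at h1
    have h2 : X.obj.map (Over.homMk (t x) : Over.mk (t x ≫ T.hom) ⟶ T).op s ∈
        (sub p I).obj (op (Over.mk (t x ≫ T.hom))) := h1
    let T'' : Over S := Over.mk (pullback.fst c.left (t x) ≫ T'.hom)
    let a'' : T'' ⟶ Over.mk (t x ≫ T.hom) := Over.homMk (pullback.snd c.left (t x)) (by
      change pullback.snd c.left (t x) ≫ t x ≫ T.hom = pullback.fst c.left (t x) ≫ T'.hom
      rw [← pullback.condition_assoc, Over.w c])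
    let f'' : T'' ⟶ T' := Over.homMk (pullback.fst c.left (t x)) rfl
    have hcomm : a'' ≫ (Over.homMk (t x) : Over.mk (t x ≫ T.hom) ⟶ T) = f'' ≫ c := by
      ext
      exact pullback.condition.symm
    have h3 := h2 T'' a'' (f'' ≫ b) (by
      rw [yEquiv_symm_map, ← Functor.map_comp_assoc, hcomm, Functor.map_comp, Category.assoc, hcb,
        Functor.map_comp, Category.assoc])
    exact h3

/-- the closed subsheaf. -/
noncomputable def obj : AlgSp.Sp S := ⟨(sub p I).toFunctor, sub_isSheaf p I⟩

/-- the inclusion. -/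
noncomputable def incl : obj p I ⟶ X := ObjectProperty.homMk (sub p I).ι

instance : Mono (incl p I) := by
  haveI : Mono (incl p I).hom := inferInstanceAs (Mono (sub p I).ι)
  exact Sheaf.Hom.mono_of_presheaf_mono _ _ _

lemma factor_iff {T : Over S} (a : (AlgSp.yon S).obj T ⟶ X) :
    (∃ a' : (AlgSp.yon S).obj T ⟶ obj p I, a' ≫ incl p I = a) ↔
      ∀ (T' : Over S) (c : T' ⟶ T) (b : T' ⟶ U₀),
        (AlgSp.yon S).map c ≫ a = (AlgSp.yon S).map b ≫ p → I ≤ b.left.ker := by
  rw [← mem_sub_iff]
  constructor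
  · rintro ⟨a', rfl⟩
    rw [yEquiv_comp]
    exact (yEquiv T (obj p I) a').2
  · intro h
    refine ⟨(yEquiv T (obj p I)).symm ⟨yEquiv T X a, h⟩, ?_⟩
    rw [yEquiv_symm_comp]
    apply (yEquiv T X).injective
    rw [Equiv.apply_symm_apply]
    rfl

/-- the closed subscheme of the chart, over `S`. -/
noncomputable def ZU : Over S := Over.mk (I.subschemeι ≫ U₀.hom)

/-- the inclusion of the closed subscheme of the chart. -/
noncomputable def ιU : ZU I ⟶ U₀ := Over.homMk I.subschemeι rfl

instance : IsClosedImmersion (ιU I).left := inferInstanceAs (IsClosedImmersion I.subschemeι)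

instance : Mono (ιU I) := by
  haveI : Mono (ιU I).left := inferInstanceAs (Mono I.subschemeι)
  exact Over.mono_of_mono_left _

variable {p I}

lemma exists_chart (hinv : Invariant p I) :
    ∃ zU : (AlgSp.yon S).obj (ZU I) ⟶ obj p I, zU ≫ incl p I = (AlgSp.yon S).map (ιU I) ≫ p := by
  rw [factor_iff]
  intro T' c b hcb
  rw [← Functor.map_comp_assoc] at hcb
  refine hinv T' (c ≫ ιU I) b hcb ?_
  have : (c ≫ ιU I).left = c.left ≫ I.subschemeι := rfl
  rw [this]
  have h1 := Scheme.Hom.le_ker_comp c.left I.subschemeι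
  rwa [Scheme.IdealSheafData.ker_subschemeι] at h1

/-- the closed subscheme of the chart is the inverse image of the closed subsheaf. -/
lemma isPullback_chart {zU : (AlgSp.yon S).obj (ZU I) ⟶ obj p I}
    (hzU : zU ≫ incl p I = (AlgSp.yon S).map (ιU I) ≫ p) :
    IsPullback zU ((AlgSp.yon S).map (ιU I)) (incl p I) p := by
  refine isPullback_of_yon hzU (fun T f g hfg => ?_)
  obtain ⟨g₀, rfl⟩ := (AlgSp.yon S).map_surjective g
  have h1 := (factor_iff p I (f ≫ incl p I)).1 ⟨f, rfl⟩ T (𝟙 T) g₀ (by
    rw [CategoryTheory.Functor.map_id, Category.id_comp, hfg])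
  have hle : I.subschemeι.ker ≤ g₀.left.ker := by rwa [Scheme.IdealSheafData.ker_subschemeι]
  let l : T.left ⟶ (ZU I).left := IsClosedImmersion.lift I.subschemeι g₀.left hle
  have hl : l ≫ I.subschemeι = g₀.left := IsClosedImmersion.lift_fac _ _ _
  let lo : T ⟶ ZU I := Over.homMk l (by
    change l ≫ I.subschemeι ≫ U₀.hom = T.hom
    rw [← Category.assoc, hl, Over.w g₀])
  have hlo : lo ≫ ιU I = g₀ := by
    ext
    exact hl
  refine ⟨(AlgSp.yon S).map lo, ⟨?_, ?_⟩, ?_⟩
  · rw [← cancel_mono (incl p I), Category.assoc, hzU, ← Functor.map_comp_assoc, hlo, hfg]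
  · rw [← Functor.map_comp, hlo]
  · rintro m ⟨-, hm2⟩
    obtain ⟨m', rfl⟩ := (AlgSp.yon S).map_surjective m
    rw [← Functor.map_comp] at hm2
    have := (AlgSp.yon S).map_injective hm2
    congr 1
    rw [← cancel_mono (ιU I), this, hlo]

/-- a representable etale surjective map is locally surjective. -/
lemma isLocallySurjective_of_chart (hpe : AlgSp.RepWith @Etale p) (hps : AlgSp.RepWith @Surjective p) :
    Sheaf.IsLocallySurjective p := by
  have h1 : AlgSp.RepWith @Flat p := ⟨hpe.1, fun U V g fst snd sq => by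
    haveI : Etale snd.left := hpe.2 g fst snd sq
    exact (inferInstance : Flat snd.left)⟩
  have h2 : AlgSp.RepWith @LocallyOfFinitePresentation p := ⟨hpe.1, fun U V g fst snd sq => by
    haveI : Etale snd.left := hpe.2 g fst snd sq
    exact (inferInstance : LocallyOfFinitePresentation snd.left)⟩
  exact Groth.Agent.S9885.result S _ X p h1 h2 hps

/-- the inclusion of the closed subsheaf is representable by closed immersions. -/
theorem repWith_incl (hinv : Invariant p I) (hpe : AlgSp.RepWith @Etale p)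
    (hps : AlgSp.RepWith @Surjective p) : AlgSp.RepWith @IsClosedImmersion (incl p I) := by
  haveI := isLocallySurjective_of_chart hpe hps
  obtain ⟨zU, hzU⟩ := exists_chart hinv
  exact Groth.Agent.R2.H48.ClosedDescSp.repWith_isClosedImmersion_of_locallySurjective (incl p I) p zU
    ((AlgSp.yon S).map (ιU I)) (isPullback_chart hzU)
    ((AlgSp.repWith_yon_map_iff @IsClosedImmersion (ιU I)).2 inferInstance)

theorem isAlgSpace_obj (hX : AlgSp.IsAlgSpace X) (hinv : Invariant p I)
    (hpe : AlgSp.RepWith @Etale p) (hps : AlgSp.RepWith @Surjective p) :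
    AlgSp.IsAlgSpace (obj p I) := by
  rw [← AlgSp.isAlgSpaceP_obj_iff]
  refine Groth.Agent.S9876.result S ⟨X, hX⟩ (obj p I).obj (incl p I).hom ?_
  intro U ξ
  obtain ⟨b, snd, fst, sq⟩ :=
    (repWith_incl hinv hpe hps).1 (ObjectProperty.homMk ξ : (AlgSp.yon S).obj U ⟶ X)
  exact ⟨b, snd, fst.hom, sq.map (sheafToPresheaf _ _)⟩

/-- the points of the closed subsheaf. -/
theorem range_map_incl (hinv : Invariant p I) (hps : AlgSp.RepWith @Surjective p) :
    Set.range (AlgSp.Points.map (incl p I)) = AlgSp.Points.ofPt p '' (I.support : Set U₀.left) := by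
  obtain ⟨zU, hzU⟩ := exists_chart hinv
  have sq := isPullback_chart hzU
  ext x
  obtain ⟨u, rfl⟩ := Groth.Agent.S10177.surjective_ofPt p hps x
  rw [← Groth.Agent.R2.H48.OpenCompl.mem_range_iff_of_isPullback sq u]
  have hr : Set.range (ιU I).left = (I.support : Set U₀.left) := I.range_subschemeι
  rw [hr]
  constructor
  · intro hu
    exact ⟨u, hu, rfl⟩
  · rintro ⟨u', hu', hu'u⟩
    -- `u` and `u'` have the same image, so `u ∈ support` by invariance: use the pullback again
    have h2 : AlgSp.Points.ofPt p u' ∈ Set.range (AlgSp.Points.map (incl p I)) := by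
      rw [← Groth.Agent.R2.H48.OpenCompl.mem_range_iff_of_isPullback sq u', hr]
      exact hu'
    rw [hu'u, ← Groth.Agent.R2.H48.OpenCompl.mem_range_iff_of_isPullback sq u, hr] at h2
    exact h2

end Groth.Agent.R2.H48.ClosedSub
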