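import Mathlib
import Groth.Prelude.Def_AlgSpSub
import Groth.Agent.R2.H48ClosedSub
import Groth.Agent.Lib.Helper11RedCl
import Groth.Agent.Lib.Helper12Reduced

/-!
# The reduced induced closed subspace structure on a closed subset of an algebraic space (helper48)

Namespace `Groth.Agent.R2.H48.RedInduced`.
-/

set_option autoImplicit false
universe u
open CategoryTheory CategoryTheory.Limits AlgebraicGeometry Opposite TopologicalSpace
open AlgSp

set_option backward.isDefEq.respectTransparency false

namespace Groth.Agent.R2.H48.RedInduced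

open Groth.Agent.S13210 Groth.Agent.R2.H48.ClosedSub

variable {S : Scheme.{u}} {X : AlgSp.Sp S} {U₀ : Over S} (p : (AlgSp.yon S).obj U₀ ⟶ X)

/-- the inverse image of a closed subset of the points in a chart. -/
def preimageCloseds (T : Set (AlgSp.Points X)) (hT : IsClosed T) : Closeds U₀.left :=
  ⟨AlgSp.Points.ofPt p ⁻¹' T, hT.preimage (AlgSp.Points.continuous_ofPt p)⟩

/-- the vanishing ideal of the inverse image of a closed subset of the points is invariant. -/
theorem invariant_vanishingIdeal (hpe : AlgSp.RepWith @Etale p) (T : Set (AlgSp.Points X))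
    (hT : IsClosed T) :
    Invariant p (Scheme.IdealSheafData.vanishingIdeal (preimageCloseds p T hT)) := by
  intro T' b₁ b₂ hb hle
  set I := Scheme.IdealSheafData.vanishingIdeal (preimageCloseds p T hT) with hI
  obtain ⟨R, s, t', sqR⟩ := hpe.1 p
  obtain ⟨t, rfl⟩ := (AlgSp.yon S).map_surjective t'
  haveI : Etale s.left := hpe.2 _ _ s sqR
  haveI : Etale t.left := hpe.2 _ _ t sqR.flip
  obtain ⟨c, hc⟩ := (AlgSp.yon S).map_surjective (sqR.lift _ _ hb)
  have hc1 : c ≫ t = b₁ := by
    apply (AlgSp.yon S).map_injective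
    rw [Functor.map_comp, hc]
    exact sqR.lift_fst _ _ _
  have hc2 : c ≫ s = b₂ := by
    apply (AlgSp.yon S).map_injective
    rw [Functor.map_comp, hc]
    exact sqR.lift_snd _ _ _
  -- the pullback of the closed subscheme along `t`
  haveI : IsReduced I.subscheme :=
    Groth.Agent.Lib.Helper11RedCl.isReduced_subscheme_vanishingIdeal _
  haveI : IsReduced (pullback t.left I.subschemeι) :=
    Groth.Agent.Lib.Helper12.Reduced.isReduced_of_smooth (pullback.snd t.left I.subschemeι)
  -- `b₁` factors through the closed subscheme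
  have hle' : I.subschemeι.ker ≤ b₁.left.ker := by rwa [Scheme.IdealSheafData.ker_subschemeι]
  let l₁ : T'.left ⟶ I.subscheme := IsClosedImmersion.lift I.subschemeι b₁.left hle'
  have hl₁ : l₁ ≫ I.subschemeι = b₁.left := IsClosedImmersion.lift_fac _ _ _
  let c₁ : T'.left ⟶ pullback t.left I.subschemeι := pullback.lift c.left l₁ (by
    rw [hl₁, ← hc1]
    rfl)
  have hc₁ : c₁ ≫ pullback.fst t.left I.subschemeι = c.left := pullback.lift_fst _ _ _
  -- the map from the reduced pullback to the chart through `s`
  let m : pullback t.left I.subschemeι ⟶ U₀.left := pullback.fst t.left I.subschemeι ≫ s.left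
  have hm : Set.range m ⊆ ((preimageCloseds p T hT : Closeds U₀.left) : Set U₀.left) := by
    rintro _ ⟨z, rfl⟩
    change AlgSp.Points.ofPt p (m z) ∈ T
    have h1 : AlgSp.Points.ofPt p (s.left (pullback.fst t.left I.subschemeι z)) =
        AlgSp.Points.ofPt p (t.left (pullback.fst t.left I.subschemeι z)) := by
      rw [← Groth.Agent.S10509.ofPt_yon_map_comp, ← Groth.Agent.S10509.ofPt_yon_map_comp, sqR.w]
    have h2 : t.left (pullback.fst t.left I.subschemeι z) =
        I.subschemeι (pullback.snd t.left I.subschemeι z) := by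
      rw [← Scheme.Hom.comp_apply, ← Scheme.Hom.comp_apply, pullback.condition]
    have h3 : I.subschemeι (pullback.snd t.left I.subschemeι z) ∈
        ((preimageCloseds p T hT : Closeds U₀.left) : Set U₀.left) := by
      have := Groth.Agent.Lib.Helper11RedCl.range_subschemeι_vanishingIdeal (preimageCloseds p T hT)
      rw [← this]
      exact ⟨_, rfl⟩
    change AlgSp.Points.ofPt p ((pullback.fst t.left I.subschemeι ≫ s.left) z) ∈ T
    rw [Scheme.Hom.comp_apply, h1, h2]
    exact h3
  obtain ⟨l, hl⟩ := Groth.Agent.Lib.Helper11RedCl.exists_lift_of_range_subset m _ hm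
  have h4 : I ≤ m.ker := by
    have := Scheme.Hom.le_ker_comp l I.subschemeι
    rwa [hl, Scheme.IdealSheafData.ker_subschemeι] at this
  have h5 : b₂.left = c₁ ≫ m := by
    rw [← hc2]
    change c.left ≫ s.left = c₁ ≫ pullback.fst t.left I.subschemeι ≫ s.left
    rw [← Category.assoc, hc₁]
  rw [h5]
  exact h4.trans (Scheme.Hom.le_ker_comp c₁ m)

/-- **existence of the reduced induced closed subspace structure.** -/
theorem exists_isRedInduced (hX : AlgSp.IsAlgSpace X) (T : Set (AlgSp.Points X)) (hT : IsClosed T) :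
    ∃ (Z : AlgSp.Sp S) (i : Z ⟶ X), AlgSp.IsAlgSpace Z ∧ AlgSp.IsRedInduced T i := by
  obtain ⟨U₀, p, hpe, hps⟩ := hX.atlas
  have hinv := invariant_vanishingIdeal p hpe T hT
  set I := Scheme.IdealSheafData.vanishingIdeal (preimageCloseds p T hT) with hI
  refine ⟨obj p I, incl p I, isAlgSpace_obj hX hinv hpe hps, repWith_incl hinv hpe hps, ?_, ?_⟩
  · rw [range_map_incl hinv hps]
    have : (I.support : Set U₀.left) = AlgSp.Points.ofPt p ⁻¹' T :=
      Scheme.IdealSheafData.coe_support_vanishingIdeal _
    rw [this, Set.image_preimage_eq T (Groth.Agent.S10177.surjective_ofPt p hps)]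
  · obtain ⟨zU, hzU⟩ := exists_chart hinv
    have sq := isPullback_chart hzU
    refine ⟨ZU I, zU, ?_, ?_, ?_⟩
    · exact MorphismProperty.of_isPullback (P := AlgSp.RepWith @Etale) sq.flip hpe
    · exact MorphismProperty.of_isPullback (P := AlgSp.RepWith @Surjective) sq.flip hps
    · exact Groth.Agent.Lib.Helper11RedCl.isReduced_subscheme_vanishingIdeal _

end Groth.Agent.R2.H48.RedInduced
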