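import Mathlib
import Groth.Prelude.Def_AlgSpSub
import Groth.Agent.Lib.Helper12Proper
import Groth.Agent.S9874
import Groth.Agent.S9915
import Groth.Agent.S9917
import Groth.Agent.S9926
import Groth.Agent.S10175
import Groth.Agent.S10174
import Groth.Agent.S10278
import Groth.Agent.S10280
import Groth.Agent.R2.H48RedInduced

/-!
# Closed subspaces proper over a base: images and finite unions (helper23)

Namespace `Groth.Agent.R2.H23.ProperImage`.
-/

set_option autoImplicit false
universe u
open CategoryTheory CategoryTheory.Limits AlgebraicGeometry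
open AlgSp

namespace Groth.Agent.R2.H23.ProperImage

open Groth.Agent.Lib.Helper12.Proper

variable {S : Scheme.{u}}

/-- a universally closed morphism to an algebraic space is closed on points. -/
lemma isClosedMap_of_isUnivClosedMor {X Y : AlgSp.Sp S} (hY : AlgSp.IsAlgSpace Y) (f : X ⟶ Y)
    (hf : AlgSp.IsUnivClosedMor f) : IsClosedMap (AlgSp.Points.map f) :=
  hf hY (𝟙 Y) (𝟙 X) f (IsPullback.id_horiz f)

lemma range_map_comp {X Y Z : AlgSp.Sp S} (f : X ⟶ Y) (g : Y ⟶ Z) :
    Set.range (AlgSp.Points.map (f ≫ g)) =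
      AlgSp.Points.map g '' Set.range (AlgSp.Points.map f) := by
  have : AlgSp.Points.map (f ≫ g) = AlgSp.Points.map g ∘ AlgSp.Points.map f :=
    funext (AlgSp.Points.map_comp _ _)
  rw [this, Set.range_comp]

/-- **Key lemma.** Let `g : Z ⟶ Y` be universally closed with `Z ⟶ B` proper, `b : Y ⟶ B` locally of
finite type, and let `i' : Z' ⟶ Y` be a closed subspace whose points lie in the image of `g`.  Then
`Z' ⟶ B` is proper. -/
theorem isProperMor_closedSubspace_of_subset_range {Z Y B Z' : AlgSp.Space S}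
    (g : Z ⟶ Y) (b : Y ⟶ B) (hb : AlgSp.LocP @LocallyOfFiniteType b.hom)
    (hgc : AlgSp.IsUnivClosedMor g.hom) (hgb : AlgSp.IsProperMor (g ≫ b).hom)
    (i' : Z' ⟶ Y) (hi' : AlgSp.RepWith @IsClosedImmersion i'.hom)
    (hsub : Set.range (AlgSp.Points.map i'.hom) ⊆ Set.range (AlgSp.Points.map g.hom)) :
    AlgSp.IsProperMor (i' ≫ b).hom := by
  have sqW := IsPullback.of_hasPullback g.hom i'.hom
  have hW : AlgSp.IsAlgSpace (pullback g.hom i'.hom) :=
    Groth.Agent.S9874.isAlgSpace_of_isPullback Y.property.diag Z.property Z'.property sqW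
  have hw1 : AlgSp.RepWith @IsClosedImmersion (pullback.fst g.hom i'.hom) :=
    MorphismProperty.of_isPullback (P := AlgSp.RepWith @IsClosedImmersion) sqW.flip hi'
  have hw2 : AlgSp.IsUnivClosedMor (pullback.snd g.hom i'.hom) :=
    isUnivClosedMor_baseChange sqW hgc
  have hsurj : Function.Surjective (AlgSp.Points.map (pullback.snd g.hom i'.hom)) := by
    intro z'
    obtain ⟨z, hz⟩ := hsub ⟨z', rfl⟩
    obtain ⟨w, -, hw⟩ := Groth.Agent.S10175.exists_point_of_isPullback sqW z z' hz
    exact ⟨w, hw⟩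
  have hcond : pullback.fst g.hom i'.hom ≫ (g ≫ b).hom =
      pullback.snd g.hom i'.hom ≫ (i' ≫ b).hom := by
    show pullback.fst g.hom i'.hom ≫ g.hom ≫ b.hom = pullback.snd g.hom i'.hom ≫ i'.hom ≫ b.hom
    rw [← Category.assoc, pullback.condition, Category.assoc]
  have hprop : AlgSp.IsProperMor (pullback.snd g.hom i'.hom ≫ (i' ≫ b).hom) := by
    rw [← hcond]
    exact isProperMor_comp Z.property B.property _ _
      (isProperMor_of_isClosedImmersion Z.property _ hw1) hgb
  have hsep : AlgSp.IsSeparatedMor (i' ≫ b).hom :=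
    (Groth.Agent.S9926.result (X := ⟨pullback g.hom i'.hom, hW⟩) (Y := Z') (B := B)
      (ObjectProperty.homMk (pullback.snd g.hom i'.hom))
      (ObjectProperty.homMk (pullback.snd g.hom i'.hom ≫ (i' ≫ b).hom)) (i' ≫ b) rfl hsurj
      hw2).2 hprop.1
  refine ⟨hsep, ⟨?_, ?_⟩, ?_⟩
  · exact locP_lft_comp Y.property B.property i'.hom b.hom
      (locP_lft_of_isClosedImmersion Y.property i'.hom hi') hb
  · exact Groth.Agent.S9915.isQuasiCompactMor_of_surjective_triangle Z'.property B.property
      (pullback.snd g.hom i'.hom) (i' ≫ b).hom hsurj hprop.2.1.2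
  · exact Groth.Agent.S9926.isUnivClosedMor_of_surjective_comp Z'.property B.property
      (pullback.snd g.hom i'.hom) (i' ≫ b).hom hsurj hprop.2.2

/-- the image of a universally closed morphism `g : Z ⟶ Y` with `Z ⟶ B` proper underlies a closed
subspace of `Y` proper over `B`. -/
theorem exists_closedSubspace_range {Z Y B : AlgSp.Space S}
    (g : Z ⟶ Y) (b : Y ⟶ B) (hb : AlgSp.LocP @LocallyOfFiniteType b.hom)
    (hgc : AlgSp.IsUnivClosedMor g.hom) (hgb : AlgSp.IsProperMor (g ≫ b).hom) :
    IsClosed (Set.range (AlgSp.Points.map g.hom)) ∧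
      ∃ (Z' : AlgSp.Space S) (i' : Z' ⟶ Y), AlgSp.RepWith @IsClosedImmersion i'.hom ∧
        Set.range (AlgSp.Points.map i'.hom) = Set.range (AlgSp.Points.map g.hom) ∧
        AlgSp.IsProperMor (i' ≫ b).hom := by
  have hcl : IsClosed (Set.range (AlgSp.Points.map g.hom)) := by
    rw [← Set.image_univ]
    exact isClosedMap_of_isUnivClosedMor Y.property g.hom hgc _ isClosed_univ
  refine ⟨hcl, ?_⟩
  obtain ⟨Z', i', hZ', hi', hrange, -⟩ :=
    Groth.Agent.R2.H48.RedInduced.exists_isRedInduced Y.property _ hcl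
  refine ⟨⟨Z', hZ'⟩, ObjectProperty.homMk i', hi', hrange, ?_⟩
  exact isProperMor_closedSubspace_of_subset_range (Z' := ⟨Z', hZ'⟩) g b hb hgc hgb
    (ObjectProperty.homMk i') hi' hrange.le

/-! ### finite jointly surjective families -/

/-- universal closedness can be cancelled on the left by a finite jointly surjective family. -/
lemma isUnivClosedMor_of_jointly_surjective {ι : Type*} [Finite ι] {X : ι → AlgSp.Sp S}
    {Y W : AlgSp.Sp S} (f : ∀ k, X k ⟶ Y) (g : Y ⟶ W)
    (hf : ∀ y : AlgSp.Points Y, ∃ (k : ι) (x : AlgSp.Points (X k)), AlgSp.Points.map (f k) x = y)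
    (h : ∀ k, AlgSp.IsUnivClosedMor (f k ≫ g)) : AlgSp.IsUnivClosedMor g := by
  intro Z Z' hZ c fst snd sq
  intro C hC
  have key : AlgSp.Points.map snd '' C =
      ⋃ k, AlgSp.Points.map (pullback.snd (f k) fst ≫ snd) ''
        (AlgSp.Points.map (pullback.snd (f k) fst) ⁻¹' C) := by
    ext z
    simp only [Set.mem_image, Set.mem_iUnion, Set.mem_preimage]
    constructor
    · rintro ⟨y', hy', rfl⟩
      obtain ⟨k, x, hx⟩ := hf (AlgSp.Points.map fst y')
      obtain ⟨w, hw1, -⟩ := Groth.Agent.S10175.exists_point_of_isPullback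
        (IsPullback.of_hasPullback (f k) fst).flip y' x hx.symm
      refine ⟨k, w, ?_, ?_⟩
      · rw [hw1]; exact hy'
      · rw [AlgSp.Points.map_comp, hw1]
    · rintro ⟨k, w, hw, rfl⟩
      exact ⟨_, hw, (AlgSp.Points.map_comp _ _ _).symm⟩
  rw [key]
  refine isClosed_iUnion_of_finite fun k => ?_
  exact (h k) hZ c (pullback.fst (f k) fst) (pullback.snd (f k) fst ≫ snd)
    ((IsPullback.of_hasPullback (f k) fst).paste_vert sq) _
    (hC.preimage (AlgSp.Points.continuous_map _))

/-- quasi-compactness can be cancelled on the left by a finite jointly surjective family. -/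
lemma isQuasiCompactMor_of_jointly_surjective {ι : Type*} [Finite ι] {X : ι → AlgSp.Sp S}
    {Y Z : AlgSp.Sp S} (hY : AlgSp.IsAlgSpace Y) (hZ : AlgSp.IsAlgSpace Z)
    (f : ∀ k, X k ⟶ Y) (q : Y ⟶ Z)
    (hf : ∀ y : AlgSp.Points Y, ∃ (k : ι) (x : AlgSp.Points (X k)), AlgSp.Points.map (f k) x = y)
    (hp : ∀ k, AlgSp.IsQuasiCompactMor (f k ≫ q)) : AlgSp.IsQuasiCompactMor q := by
  intro W W' hW hWc g fst snd sq
  have hW' : AlgSp.IsAlgSpace W' := Groth.Agent.S9874.isAlgSpace_of_isPullback hZ.diag hY hW sq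
  rw [Groth.Agent.S10174.isQuasiCompactSp_iff hW']
  have hcomp : ∀ k, IsCompact (Set.range (AlgSp.Points.map (pullback.snd (f k) fst))) := by
    intro k
    have big : IsPullback (pullback.fst (f k) fst) (pullback.snd (f k) fst ≫ snd) (f k ≫ q) g :=
      (IsPullback.of_hasPullback (f k) fst).paste_vert sq
    haveI : CompactSpace (AlgSp.Points (pullback (f k) fst)) :=
      Groth.Agent.S9917.compactSpace_points_of_isQuasiCompactSp (hp k hW hWc g _ _ big)
    exact isCompact_range (AlgSp.Points.continuous_map _)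
  have huniv : (Set.univ : Set (AlgSp.Points W')) =
      ⋃ k, Set.range (AlgSp.Points.map (pullback.snd (f k) fst)) := by
    symm
    rw [Set.eq_univ_iff_forall]
    intro w'
    obtain ⟨k, x, hx⟩ := hf (AlgSp.Points.map fst w')
    obtain ⟨p, hp1, -⟩ := Groth.Agent.S10175.exists_point_of_isPullback
      (IsPullback.of_hasPullback (f k) fst).flip w' x hx.symm
    exact Set.mem_iUnion.2 ⟨k, p, hp1⟩
  refine ⟨?_⟩
  rw [huniv]
  exact isCompact_iUnion hcomp

/-- for `f : X ⟶ Y` universally closed over `B` with `X ⟶ B` separated, the composite of `f` with the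
diagonal of `Y ⟶ B` is universally closed (extracted from the proof of S9926). -/
lemma isUnivClosedMor_comp_diagonal {X Y B : AlgSp.Space S} (f : X ⟶ Y) (p : X ⟶ B)
    (q : Y ⟶ B) (comm : f ≫ q = p) (hc : AlgSp.IsUnivClosedMor f.hom)
    (hsep : AlgSp.IsSeparatedMor p.hom) :
    AlgSp.IsUnivClosedMor (f.hom ≫ pullback.diagonal q.hom) := by
  have hcomm : f.hom ≫ q.hom = p.hom := by rw [← comm]; rfl
  have hXX : AlgSp.IsAlgSpace (pullback p.hom p.hom) :=
    Groth.Agent.S9874.isAlgSpace_of_isPullback B.property.diag X.property X.property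
      (IsPullback.of_hasPullback _ _)
  have hYX : AlgSp.IsAlgSpace (pullback q.hom p.hom) :=
    Groth.Agent.S9874.isAlgSpace_of_isPullback B.property.diag Y.property X.property
      (IsPullback.of_hasPullback _ _)
  have hYY : AlgSp.IsAlgSpace (pullback q.hom q.hom) :=
    Groth.Agent.S9874.isAlgSpace_of_isPullback B.property.diag Y.property Y.property
      (IsPullback.of_hasPullback _ _)
  have wa : (pullback.fst p.hom p.hom ≫ f.hom) ≫ q.hom = pullback.snd p.hom p.hom ≫ p.hom := by
    rw [Category.assoc, hcomm, pullback.condition]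
  have wb : pullback.fst q.hom p.hom ≫ q.hom = (pullback.snd q.hom p.hom ≫ f.hom) ≫ q.hom := by
    rw [Category.assoc, hcomm, pullback.condition]
  obtain ⟨a, ha1, ha2⟩ : ∃ a : pullback p.hom p.hom ⟶ pullback q.hom p.hom,
      a ≫ pullback.fst q.hom p.hom = pullback.fst p.hom p.hom ≫ f.hom ∧
      a ≫ pullback.snd q.hom p.hom = pullback.snd p.hom p.hom :=
    ⟨pullback.lift _ _ wa, pullback.lift_fst _ _ _, pullback.lift_snd _ _ _⟩
  obtain ⟨b, hb1, hb2⟩ : ∃ b : pullback q.hom p.hom ⟶ pullback q.hom q.hom,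
      b ≫ pullback.fst q.hom q.hom = pullback.fst q.hom p.hom ∧
      b ≫ pullback.snd q.hom q.hom = pullback.snd q.hom p.hom ≫ f.hom :=
    ⟨pullback.lift _ _ wb, pullback.lift_fst _ _ _, pullback.lift_snd _ _ _⟩
  have sq1 : IsPullback a (pullback.fst p.hom p.hom) (pullback.fst q.hom p.hom) f.hom := by
    refine IsPullback.of_right ?_ ha1 (IsPullback.of_hasPullback q.hom p.hom).flip
    rw [ha2, hcomm]
    exact (IsPullback.of_hasPullback p.hom p.hom).flip
  have sq2 : IsPullback b (pullback.snd q.hom p.hom) (pullback.snd q.hom q.hom) f.hom := by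
    refine IsPullback.of_right ?_ hb2 (IsPullback.of_hasPullback q.hom q.hom)
    rw [hb1, hcomm]
    exact IsPullback.of_hasPullback q.hom p.hom
  have hua : AlgSp.IsUnivClosedMor a := isUnivClosedMor_baseChange sq1.flip hc
  have hub : AlgSp.IsUnivClosedMor b := isUnivClosedMor_baseChange sq2.flip hc
  have hab : AlgSp.IsUnivClosedMor (a ≫ b) := isUnivClosedMor_comp hYX hYY a b hua hub
  have hΔ : f.hom ≫ pullback.diagonal q.hom = pullback.diagonal p.hom ≫ a ≫ b := by
    apply pullback.hom_ext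
    · rw [Category.assoc, pullback.diagonal_fst, Category.comp_id, Category.assoc, Category.assoc,
        hb1, ha1, ← Category.assoc, pullback.diagonal_fst, Category.id_comp]
    · rw [Category.assoc, pullback.diagonal_snd, Category.comp_id, Category.assoc, Category.assoc,
        hb2, ← Category.assoc a, ha2, ← Category.assoc, pullback.diagonal_snd, Category.id_comp]
  have hΔp : AlgSp.IsUnivClosedMor (pullback.diagonal p.hom) :=
    isUnivClosedMor_of_isClosedImmersion _ hsep
  rw [hΔ]
  exact isUnivClosedMor_comp hXX hYY _ _ hΔp hab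

/-- separatedness over `B` descends along a finite jointly surjective family of universally closed
morphisms. -/
lemma isSeparatedMor_of_jointly_surjective {ι : Type*} [Finite ι] {X : ι → AlgSp.Space S}
    {Y B : AlgSp.Space S} (f : ∀ k, X k ⟶ Y) (q : Y ⟶ B)
    (hf : ∀ y : AlgSp.Points Y.obj, ∃ (k : ι) (x : AlgSp.Points (X k).obj),
      AlgSp.Points.map (f k).hom x = y)
    (hc : ∀ k, AlgSp.IsUnivClosedMor (f k).hom)
    (hsep : ∀ k, AlgSp.IsSeparatedMor (f k ≫ q).hom) : AlgSp.IsSeparatedMor q.hom := by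
  apply Groth.Agent.S10280.isSeparatedMor_of_isUnivClosedMor_diagonal q
  exact isUnivClosedMor_of_jointly_surjective (fun k => (f k).hom) (pullback.diagonal q.hom) hf
    (fun k => isUnivClosedMor_comp_diagonal (f k) (f k ≫ q) q rfl (hc k) (hsep k))

/-- **finite unions.** a closed subspace `j : W ⟶ X` whose points are covered by finitely many closed
subspaces `Z k ⟶ X` proper over `Y` is proper over `Y`. -/
theorem isProperMor_closedSubspace_of_subset_iUnion {ι : Type*} [Finite ι] {X Y W : AlgSp.Space S}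
    (f : X ⟶ Y) (hf : AlgSp.LocP @LocallyOfFiniteType f.hom)
    (Z : ι → AlgSp.Space S) (i : ∀ k, Z k ⟶ X)
    (hi : ∀ k, AlgSp.RepWith @IsClosedImmersion (i k).hom)
    (hZ : ∀ k, AlgSp.IsProperMor (i k ≫ f).hom)
    (j : W ⟶ X) (hj : AlgSp.RepWith @IsClosedImmersion j.hom)
    (hsub : Set.range (AlgSp.Points.map j.hom) ⊆ ⋃ k, Set.range (AlgSp.Points.map (i k).hom)) :
    AlgSp.IsProperMor (j ≫ f).hom := by
  have sqP : ∀ k, IsPullback (pullback.fst (i k).hom j.hom) (pullback.snd (i k).hom j.hom)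
      (i k).hom j.hom := fun k => IsPullback.of_hasPullback _ _
  have hP : ∀ k, AlgSp.IsAlgSpace (pullback (i k).hom j.hom) := fun k =>
    Groth.Agent.S9874.isAlgSpace_of_isPullback X.property.diag (Z k).property W.property (sqP k)
  let P : ι → AlgSp.Space S := fun k => ⟨pullback (i k).hom j.hom, hP k⟩
  let s : ∀ k, P k ⟶ W := fun k => ObjectProperty.homMk (pullback.snd (i k).hom j.hom)
  have hs : ∀ k, AlgSp.RepWith @IsClosedImmersion (s k).hom := fun k =>
    MorphismProperty.of_isPullback (P := AlgSp.RepWith @IsClosedImmersion) (sqP k) (hi k)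
  have ht : ∀ k, AlgSp.RepWith @IsClosedImmersion (pullback.fst (i k).hom j.hom) := fun k =>
    MorphismProperty.of_isPullback (P := AlgSp.RepWith @IsClosedImmersion) (sqP k).flip hj
  have hsurj : ∀ y : AlgSp.Points W.obj, ∃ (k : ι) (x : AlgSp.Points (P k).obj),
      AlgSp.Points.map (s k).hom x = y := by
    intro w
    obtain ⟨k, z, hz⟩ := Set.mem_iUnion.1 (hsub ⟨w, rfl⟩)
    obtain ⟨x, -, hx⟩ := Groth.Agent.S10175.exists_point_of_isPullback (sqP k) z w hz
    exact ⟨k, x, hx⟩
  have hcond : ∀ k, (s k ≫ (j ≫ f)).hom = pullback.fst (i k).hom j.hom ≫ (i k ≫ f).hom := by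
    intro k
    show pullback.snd (i k).hom j.hom ≫ j.hom ≫ f.hom =
      pullback.fst (i k).hom j.hom ≫ (i k).hom ≫ f.hom
    rw [← Category.assoc, ← pullback.condition, Category.assoc]
  have hprop : ∀ k, AlgSp.IsProperMor (s k ≫ (j ≫ f)).hom := by
    intro k
    rw [hcond k]
    exact isProperMor_comp (Z k).property Y.property _ _
      (isProperMor_of_isClosedImmersion (Z k).property _ (ht k)) (hZ k)
  refine ⟨?_, ⟨?_, ?_⟩, ?_⟩
  · exact isSeparatedMor_of_jointly_surjective s (j ≫ f) hsurj
      (fun k => isUnivClosedMor_of_isClosedImmersion _ (hs k)) (fun k => (hprop k).1)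
  · exact locP_lft_comp X.property Y.property j.hom f.hom
      (locP_lft_of_isClosedImmersion X.property j.hom hj) hf
  · exact isQuasiCompactMor_of_jointly_surjective W.property Y.property (fun k => (s k).hom)
      (j ≫ f).hom hsurj (fun k => (hprop k).2.1.2)
  · exact isUnivClosedMor_of_jointly_surjective (fun k => (s k).hom) (j ≫ f).hom hsurj
      (fun k => (hprop k).2.2)

/-- a finite union of closed subsets proper over `Y` is proper over `Y`. -/
theorem exists_closedSubspace_iUnion {ι : Type*} [Finite ι] {X Y : AlgSp.Space S}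
    (f : X ⟶ Y) (hf : AlgSp.LocP @LocallyOfFiniteType f.hom)
    (Z : ι → AlgSp.Space S) (i : ∀ k, Z k ⟶ X)
    (hi : ∀ k, AlgSp.RepWith @IsClosedImmersion (i k).hom)
    (hZ : ∀ k, AlgSp.IsProperMor (i k ≫ f).hom) :
    ∃ (W : AlgSp.Space S) (j : W ⟶ X), AlgSp.RepWith @IsClosedImmersion j.hom ∧
      Set.range (AlgSp.Points.map j.hom) = ⋃ k, Set.range (AlgSp.Points.map (i k).hom) ∧
      AlgSp.IsProperMor (j ≫ f).hom := by
  have hcl : IsClosed (⋃ k, Set.range (AlgSp.Points.map (i k).hom)) := by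
    refine isClosed_iUnion_of_finite fun k => ?_
    rw [← Set.image_univ]
    exact isClosedMap_of_repWith_isClosedImmersion _ (hi k) _ isClosed_univ
  obtain ⟨W, j, hW, hj, hrange, -⟩ :=
    Groth.Agent.R2.H48.RedInduced.exists_isRedInduced X.property _ hcl
  refine ⟨⟨W, hW⟩, ObjectProperty.homMk j, hj, hrange, ?_⟩
  exact isProperMor_closedSubspace_of_subset_iUnion (W := ⟨W, hW⟩) f hf Z i hi hZ
    (ObjectProperty.homMk j) hj hrange.le

end Groth.Agent.R2.H23.ProperImage
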