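import Mathlib
import Groth.Agent.R2.H23GaloisAlg

/-!
# Invariants of a finite group acting on an unramified algebra (helper23)

Namespace `Groth.Agent.R2.H23.QuotEtaleAlg`.

`B` is a formally unramified `R`-algebra essentially of finite type, a finite group `G` acts on `B`
by `R`-algebra automorphisms, and `A → B` is injective with image the invariants.  Then `B` is a
finitely generated projective `A`-module (`projective`).  (SGA 1 V 2.2/2.3 without strict
henselization: the separability idempotent `t = ∑ xⱼ ⊗ yⱼ` gives idempotents `e_g = ∑ xⱼ g(yⱼ)` on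
whose loci `g` acts trivially; on each piece of the induced decomposition `B = ∏_I B ε_I`, a trace
over the cosets of the inertia group produces a dual basis.)
-/

set_option autoImplicit false
open TensorProduct Algebra.FormallyUnramified

namespace Groth.Agent.R2.H23.QuotEtaleAlg

open GaloisAlg

section idem

variable (R : Type*) (B : Type*) [CommRing R] [CommRing B] [Algebra R B]
  [Algebra.FormallyUnramified R B] [Algebra.EssFiniteType R B]
  {G : Type*} [Group G] [MulSemiringAction G B] [SMulCommClass G R B]

/-- the idempotent of `B` on whose locus `g` acts trivially. -/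
noncomputable def eg (g : G) : B := mu R g (elem R B)

omit [Group G] [MulSemiringAction G B] [SMulCommClass G R B] in
theorem ker_mul_elem (x : B ⊗[R] B) (hx : x ∈ KaehlerDifferential.ideal R B) :
    x * elem R B = 0 := by
  rw [← KaehlerDifferential.span_range_eq_ideal] at hx
  induction hx using Submodule.span_induction with
  | mem x h => obtain ⟨s, rfl⟩ := h; exact one_tmul_sub_tmul_one_mul_elem s
  | zero => simp
  | add x y _ _ hx hy => rw [add_mul, hx, hy, add_zero]
  | smul a x _ hx => rw [smul_eq_mul, mul_assoc, hx, mul_zero]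

omit [Group G] [MulSemiringAction G B] [SMulCommClass G R B] in
theorem elem_idem : elem R B * elem R B = elem R B := by
  have h1 : (1 - elem R B) ∈ KaehlerDifferential.ideal R B := by
    change Algebra.TensorProduct.lmul' R (1 - elem R B) = 0
    rw [map_sub, map_one, lmul_elem, sub_self]
  have := ker_mul_elem R B _ h1
  rw [sub_mul, one_mul, sub_eq_zero] at this
  exact this.symm

theorem eg_idem (g : G) : eg R B g * eg R B g = eg R B g := by
  rw [eg, ← map_mul, elem_idem]

theorem eg_one : eg R B (1 : G) = 1 := by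
  rw [eg, mu_one_eq]; exact lmul_elem

variable {B} in
theorem sub_smul_mul_eg (g : G) (b : B) : (b - g • b) * eg R B g = 0 := by
  have h : mu R g ((1 ⊗ₜ[R] b - b ⊗ₜ[R] 1) * elem R B) = 0 := by
    rw [one_tmul_sub_tmul_one_mul_elem, map_zero]
  rw [map_mul, map_sub, mu_tmul, mu_tmul] at h
  have h2 : (b - g • b) * eg R B g = -((1 * g • b - b * g • (1 : B)) * mu R g (elem R B)) := by
    rw [eg, smul_one]; ring
  rw [h2, h, neg_zero]

variable {B} in
theorem eg_notMem_iff (g : G) (q : Ideal B) [q.IsPrime] :
    eg R B g ∉ q ↔ ∀ b : B, g • b - b ∈ q := by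
  constructor
  · intro h b
    have h1 : (b - g • b) * eg R B g ∈ q := by rw [sub_smul_mul_eg]; exact q.zero_mem
    rcases Ideal.IsPrime.mem_or_mem ‹_› h1 with h2 | h2
    · rw [← neg_sub]; exact q.neg_mem h2
    · exact absurd h2 h
  · intro h
    have key : ∀ x : B ⊗[R] B, mu R g x - mu R (1 : G) x ∈ q := by
      intro x
      induction x using TensorProduct.induction_on with
      | zero => simp
      | tmul b c =>
        rw [mu_tmul, mu_tmul, one_smul, ← mul_sub]
        exact q.mul_mem_left _ (h c)
      | add x y hx hy =>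
        rw [map_add, map_add, add_sub_add_comm]
        exact q.add_mem hx hy
    intro hmem
    have h1 := key (elem R B)
    rw [mu_one_eq, lmul_elem] at h1
    have : (1 : B) ∈ q := by
      have := q.sub_mem hmem h1
      rwa [eg, sub_sub_cancel] at this
    exact (Ideal.IsPrime.ne_top ‹_›) ((Ideal.eq_top_iff_one q).mpr this)

variable [Fintype G] [DecidableEq G]

/-- the idempotent of the locus where the inertia is exactly `I`. -/
noncomputable def eps (I : Finset G) : B :=
  (∏ g ∈ I, eg R B g) * ∏ g ∈ Finset.univ \ I, (1 - eg R B g)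

theorem sum_eps : ∑ I : Finset G, eps R B I = 1 := by
  have h := Finset.prod_add (fun g : G => eg R B g) (fun g : G => (1 : B) - eg R B g) Finset.univ
  simp only [add_sub_cancel, Finset.prod_const_one, Finset.powerset_univ] at h
  exact h.symm

theorem eps_mul_eg_of_mem {I : Finset G} {h : G} (hh : h ∈ I) :
    eps R B I * eg R B h = eps R B I := by
  unfold eps
  rw [mul_right_comm, ← Finset.prod_erase_mul _ _ hh, mul_assoc (∏ g ∈ I.erase h, eg R B g),
    eg_idem]

theorem eps_mul_eg_of_notMem {I : Finset G} {h : G} (hh : h ∉ I) :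
    eps R B I * eg R B h = 0 := by
  have hh' : h ∈ Finset.univ \ I := by simp [hh]
  unfold eps
  rw [mul_assoc, ← Finset.prod_erase_mul _ _ hh', mul_assoc, sub_mul, one_mul, eg_idem, sub_self,
    mul_zero, mul_zero]

variable {B} in
theorem eps_notMem {I : Finset G} (q : Ideal B) [q.IsPrime] (hq : eps R B I ∉ q) (g : G) :
    g ∈ I ↔ eg R B g ∉ q := by
  constructor
  · intro hg hmem
    apply hq
    rw [← eps_mul_eg_of_mem R B hg]
    exact q.mul_mem_left _ hmem
  · intro hg
    by_contra hgI
    have := eps_mul_eg_of_notMem R B hgI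
    have h0 : eps R B I * eg R B g ∈ q := by rw [this]; exact q.zero_mem
    rcases Ideal.IsPrime.mem_or_mem ‹_› h0 with h1 | h1
    · exact hq h1
    · exact hg h1

end idem

section trace

variable (R : Type*) {A : Type*} (B : Type*) [CommRing R] [CommRing A] [CommRing B] [Algebra R B]
  [Algebra.FormallyUnramified R B] [Algebra.EssFiniteType R B] [Algebra A B]
  {G : Type*} [Group G] [MulSemiringAction G B] [SMulCommClass G R B] [SMulCommClass G A B]
  [Algebra.IsInvariant A B G]

/-- the data: an idempotent `ε` and a subgroup `H` such that `ε e_h = ε` for `h ∈ H` and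
`ε e_h = 0` otherwise. -/
structure IsInertiaIdem (ε : B) (H : Subgroup G) : Prop where
  mul_of_mem : ∀ h ∈ H, ε * eg R B h = ε
  mul_of_notMem : ∀ h ∉ H, ε * eg R B h = 0

variable {R B}

omit [Algebra A B] [SMulCommClass G A B] [Algebra.IsInvariant A B G] in
theorem IsInertiaIdem.smul_mul {ε : B} {H : Subgroup G} (hε : IsInertiaIdem R B ε H)
    {h : G} (hh : h ∈ H) (b : B) : (h • b) * ε = b * ε := by
  have h1 : (b - h • b) * ε = 0 := by
    rw [← hε.mul_of_mem h hh, ← mul_assoc, mul_right_comm, sub_smul_mul_eg, zero_mul]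
  rw [sub_mul, sub_eq_zero] at h1
  exact h1.symm

omit [Algebra A B] [SMulCommClass G A B] [Algebra.IsInvariant A B G] in
theorem IsInertiaIdem.smul_eq {ε : B} {H : Subgroup G} (hε : IsInertiaIdem R B ε H)
    (hidem : ε * ε = ε) {h : G} (hh : h ∈ H) : h • ε = ε := by
  have h1 : (h • ε) * ε = ε := by rw [hε.smul_mul hh, hidem]
  have h2 : (h⁻¹ • ε) * ε = ε := by rw [hε.smul_mul (H.inv_mem hh), hidem]
  have h3 : ε * (h • ε) = h • ε := by
    have := congrArg (h • ·) h2
    simpa [smul_mul'] using this
  rw [← h3, mul_comm, h1]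

omit [Algebra A B] [SMulCommClass G A B] [Algebra.IsInvariant A B G] in
theorem IsInertiaIdem.smul_mul_eps {ε : B} {H : Subgroup G} (hε : IsInertiaIdem R B ε H)
    (hidem : ε * ε = ε) {h : G} (hh : h ∈ H) (b : B) : h • (b * ε) = b * ε := by
  rw [smul_mul', hε.smul_eq hidem hh, hε.smul_mul hh]

variable [Finite G]

omit [Algebra A B] [SMulCommClass G A B] [Algebra.IsInvariant A B G] [Finite G] in
/-- the coset sum is invariant -/
theorem IsInertiaIdem.smul_cosetSum {ε : B} {H : Subgroup G} (hε : IsInertiaIdem R B ε H)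
    (hidem : ε * ε = ε) [Fintype (G ⧸ H)] (g : G) (b : B) :
    g • ∑ c : G ⧸ H, c.out • (b * ε) = ∑ c : G ⧸ H, c.out • (b * ε) := by
  rw [Finset.smul_sum]
  have h1 : ∀ c : G ⧸ H, g • c.out • (b * ε) = (g • c).out • (b * ε) := by
    intro c
    obtain ⟨h, hh⟩ := QuotientGroup.mk_out_eq_mul H (g * c.out)
    have hc : (QuotientGroup.mk (g * c.out) : G ⧸ H) = g • c := by
      conv_rhs => rw [← QuotientGroup.out_eq' c]
      exact (MulAction.Quotient.smul_mk H g c.out).symm
    rw [hc] at hh
    rw [hh, mul_smul, hε.smul_mul_eps hidem h.2, mul_smul]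
  simp_rw [h1]
  exact Fintype.sum_bijective (g • ·) (MulAction.bijective g) _ _ (fun _ => rfl)

omit [SMulCommClass G A B] [Finite G] in
theorem IsInertiaIdem.exists_trace {ε : B} {H : Subgroup G} (hε : IsInertiaIdem R B ε H)
    (hidem : ε * ε = ε) [Fintype (G ⧸ H)] (b : B) :
    ∃ a : A, algebraMap A B a = ∑ c : G ⧸ H, c.out • (b * ε) :=
  Algebra.IsInvariant.isInvariant (G := G) _ (fun g => hε.smul_cosetSum hidem g b)

/-- the coset trace, with values in `A`. -/
noncomputable def IsInertiaIdem.tr {ε : B} {H : Subgroup G} (hε : IsInertiaIdem R B ε H)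
    (hidem : ε * ε = ε) [Fintype (G ⧸ H)] (hinj : Function.Injective (algebraMap A B)) :
    B →ₗ[A] A where
  toFun b := (hε.exists_trace (A := A) hidem b).choose
  map_add' b c := by
    apply hinj
    rw [map_add, (hε.exists_trace (A := A) hidem b).choose_spec,
      (hε.exists_trace (A := A) hidem c).choose_spec,
      (hε.exists_trace (A := A) hidem (b + c)).choose_spec]
    simp only [add_mul, smul_add, Finset.sum_add_distrib]
  map_smul' a b := by
    apply hinj
    rw [RingHom.id_apply, smul_eq_mul, map_mul, (hε.exists_trace (A := A) hidem b).choose_spec,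
      (hε.exists_trace (A := A) hidem (a • b)).choose_spec, Finset.mul_sum]
    refine Finset.sum_congr rfl fun c _ => ?_
    rw [smul_mul_assoc, smul_comm, Algebra.smul_def]

omit [Finite G] in
theorem IsInertiaIdem.algebraMap_tr {ε : B} {H : Subgroup G} (hε : IsInertiaIdem R B ε H)
    (hidem : ε * ε = ε) [Fintype (G ⧸ H)] (hinj : Function.Injective (algebraMap A B)) (b : B) :
    algebraMap A B (hε.tr hidem hinj b) = ∑ c : G ⧸ H, c.out • (b * ε) :=
  (hε.exists_trace (A := A) hidem b).choose_spec

omit [Finite G] in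
/-- the dual basis identity on `B ε`. -/
theorem IsInertiaIdem.dual_basis {ε : B} {H : Subgroup G} (hε : IsInertiaIdem R B ε H)
    (hidem : ε * ε = ε) [Fintype (G ⧸ H)] (hinj : Function.Injective (algebraMap A B))
    {J : Finset (B × B)} (hJ : ∀ g : G, ∑ j ∈ J, j.1 * g • j.2 = eg R B g) (c : B) :
    ∑ j ∈ J, hε.tr hidem hinj (c * j.2) • (j.1 * ε) = c * ε := by
  classical
  simp_rw [Algebra.smul_def, hε.algebraMap_tr, Finset.sum_mul]
  rw [Finset.sum_comm]
  have h1 : ∀ k : G ⧸ H, ∑ j ∈ J, k.out • (c * j.2 * ε) * (j.1 * ε) =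
      (k.out • c) * (k.out • ε) * (ε * eg R B k.out) := by
    intro k
    rw [← hJ k.out, Finset.mul_sum, Finset.mul_sum]
    refine Finset.sum_congr rfl fun j _ => ?_
    rw [smul_mul', smul_mul']
    ring
  simp_rw [h1]
  rw [Finset.sum_eq_single (QuotientGroup.mk 1 : G ⧸ H)]
  · have hmem : (QuotientGroup.mk 1 : G ⧸ H).out ∈ H := by
      have := QuotientGroup.out_eq' (QuotientGroup.mk 1 : G ⧸ H)
      rw [QuotientGroup.eq] at this
      simpa using H.inv_mem this
    rw [hε.mul_of_mem _ hmem, hε.smul_eq hidem hmem, mul_assoc, hidem, hε.smul_mul hmem]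
  · intro k _ hk
    have hnot : k.out ∉ H := by
      intro hmem
      apply hk
      rw [← QuotientGroup.out_eq' k, QuotientGroup.eq]
      simpa using H.inv_mem hmem
    rw [hε.mul_of_notMem _ hnot, mul_zero]
  · intro h; exact absurd (Finset.mem_univ _) h

end trace

section main

variable (R : Type*) {A : Type*} (B : Type*) [CommRing R] [CommRing A] [CommRing B]
  [Algebra R B]
  [Algebra.FormallyUnramified R B] [Algebra.EssFiniteType R B] [Algebra A B]
  {G : Type*} [Group G] [Finite G] [MulSemiringAction G B] [SMulCommClass G R B]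
  [SMulCommClass G A B] [Algebra.IsInvariant A B G]

theorem exists_tr_eps [Fintype G] [DecidableEq G]
    (hinj : Function.Injective (algebraMap A B)) {J : Finset (B × B)}
    (hJ : ∀ g : G, ∑ j ∈ J, j.1 * g • j.2 = eg R B g) (I : Finset G) :
    ∃ T : B →ₗ[A] A, ∀ c : B, ∑ j ∈ J, T (c * j.2) • (j.1 * eps R B I) = c * eps R B I := by
  classical
  by_cases h0 : eps R B I = 0
  · exact ⟨0, fun c => by simp [h0]⟩
  -- a maximal ideal not containing `eps`
  have hidem : eps R B I * eps R B I = eps R B I := by
    unfold eps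
    rw [mul_mul_mul_comm, ← Finset.prod_mul_distrib, ← Finset.prod_mul_distrib]
    congr 1
    · exact Finset.prod_congr rfl fun g _ => eg_idem R B g
    · refine Finset.prod_congr rfl fun g _ => ?_
      rw [mul_sub, mul_one, sub_mul, one_mul, eg_idem, sub_self, sub_zero]
  have hne : Ideal.span {1 - eps R B I} ≠ (⊤ : Ideal B) := by
    intro htop
    rw [Ideal.eq_top_iff_one, Ideal.mem_span_singleton'] at htop
    obtain ⟨b, hb⟩ := htop
    apply h0
    have := congrArg (· * eps R B I) hb
    simp only [one_mul] at this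
    rw [← this, mul_assoc, sub_mul, one_mul, hidem, sub_self, mul_zero]
  obtain ⟨m, hm, hle⟩ := Ideal.exists_le_maximal _ hne
  have hεm : eps R B I ∉ m := by
    intro hmem
    have h1 : (1 - eps R B I) ∈ m := hle (Ideal.mem_span_singleton_self _)
    have : (1 : B) ∈ m := by
      have := m.add_mem h1 hmem
      rwa [sub_add_cancel] at this
    exact hm.ne_top ((Ideal.eq_top_iff_one m).mpr this)
  haveI := hm.isPrime
  let H : Subgroup G := m.inertia G
  have hH : ∀ g : G, g ∈ H ↔ g ∈ I := by
    intro g
    rw [eps_notMem R m hεm g, eg_notMem_iff R g m]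
    rfl
  have hε : IsInertiaIdem R B (eps R B I) H :=
    ⟨fun h hh => eps_mul_eg_of_mem R B ((hH h).mp hh),
      fun h hh => eps_mul_eg_of_notMem R B (fun hI => hh ((hH h).mpr hI))⟩
  haveI : Fintype (G ⧸ H) := Fintype.ofFinite _
  exact ⟨hε.tr hidem hinj, fun c => hε.dual_basis hidem hinj hJ c⟩

variable (G) in
include R G in
/-- **Main theorem.** `B` is finitely generated projective over the ring of invariants. -/
theorem projective (hinj : Function.Injective (algebraMap A B)) :
    Module.Projective A B ∧ Module.Finite A B := by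
  classical
  cases nonempty_fintype G
  obtain ⟨J, hJ⟩ := TensorProduct.exists_finset (elem R B)
  have hJ' : ∀ g : G, ∑ j ∈ J, j.1 * g • j.2 = eg R B g := by
    intro g
    rw [eg, hJ, map_sum]
    simp
  choose T hT using exists_tr_eps R B (A := A) hinj hJ'
  let i : B →ₗ[A] (Finset G × J → A) :=
    LinearMap.pi fun k => (T k.1).comp (LinearMap.mulRight A k.2.1.2)
  let s : (Finset G × J → A) →ₗ[A] B :=
    Fintype.linearCombination A (fun k : Finset G × J => k.2.1.1 * eps R B k.1)
  have hsi : s.comp i = LinearMap.id := by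
    ext c
    simp only [LinearMap.comp_apply, LinearMap.id_apply, s, i, Fintype.linearCombination_apply,
      LinearMap.pi_apply, LinearMap.mulRight_apply]
    rw [Fintype.sum_prod_type]
    have : ∀ I : Finset G, ∑ j : J, T I (c * j.1.2) • (j.1.1 * eps R B I) = c * eps R B I := by
      intro I
      rw [Finset.sum_coe_sort J (fun j => T I (c * j.2) • (j.1 * eps R B I))]
      exact hT I c
    simp_rw [this]
    rw [← Finset.mul_sum, sum_eps R B, mul_one]
  refine ⟨Module.Projective.of_split i s hsi, ?_⟩
  apply Module.Finite.of_surjective s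
  intro c
  exact ⟨i c, LinearMap.congr_fun hsi c⟩

end main

end Groth.Agent.R2.H23.QuotEtaleAlg
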