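import Mathlib
import Groth.Prelude.Def_SGA1
import Groth.Agent.Lib.Helper20Quot
import Groth.Agent.Lib.Helper20QuotAff
import Groth.Agent.Lib.Helper12Flat
import Groth.Agent.S2909
import Groth.Agent.R2.H23QuotEtaleAlg

/-!
# The quotient of an étale separated scheme by a finite group is étale (SGA 1 V 2.3) (helper23)

Namespace `Groth.Agent.R2.H23.QuotEtale`.
-/

set_option autoImplicit false
universe u
open CategoryTheory CategoryTheory.Limits AlgebraicGeometry TensorProduct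

namespace Groth.Agent.R2.H23.QuotEtale

open SGA1 Groth.Agent.Lib.Helper20 Groth.Agent.R2.H23

/-- a property given by a local ring hom property holds for an affine morphism as soon as it
holds for the maps on sections over preimages of a covering family of affine opens. -/
theorem of_app_of_isAffineHom' {P : MorphismProperty Scheme.{u}}
    {Q : ∀ {R S : Type u} [CommRing R] [CommRing S], (R →+* S) → Prop}
    [HasRingHomProperty P Q] {X Y : Scheme.{u}} (p : X ⟶ Y) [IsAffineHom p]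
    {ι : Type*} (𝒰 : ι → Y.Opens) (h𝒰 : iSup 𝒰 = ⊤) (haff : ∀ i, IsAffineOpen (𝒰 i))
    (h : ∀ i, Q (p.app (𝒰 i)).hom) : P p := by
  rw [IsZariskiLocalAtTarget.iff_of_iSup_eq_top (P := P) 𝒰 h𝒰]
  intro i
  haveI : IsAffine (p ⁻¹ᵁ 𝒰 i) := (haff i).preimage p
  haveI : IsAffine (𝒰 i) := haff i
  rw [HasRingHomProperty.iff_of_isAffine (P := P)]
  have e₁ : (𝒰 i).ι ''ᵁ ⊤ = 𝒰 i := by simp
  have e₂ : (p ⁻¹ᵁ 𝒰 i).ι ''ᵁ (p ∣_ 𝒰 i) ⁻¹ᵁ ⊤ = p ⁻¹ᵁ 𝒰 i := by simp
  have key : Q (p.appLE ((𝒰 i).ι ''ᵁ ⊤) ((p ⁻¹ᵁ 𝒰 i).ι ''ᵁ (p ∣_ 𝒰 i) ⁻¹ᵁ ⊤)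
      (image_morphismRestrict_preimage p (𝒰 i) ⊤).le).hom :=
    (p.appLE_congr _ e₁ e₂ (fun f => Q f.hom)).mpr (by
      rw [← Scheme.Hom.app_eq_appLE]; exact h i)
  rw [Scheme.Hom.appTop, morphismRestrict_app']
  exact key

/-! ### algebra: descent of unramifiedness along a faithfully flat étale map -/

theorem formallyUnramified_of_faithfullyFlat_etale (R A B : Type*) [CommRing R] [CommRing A]
    [CommRing B] [Algebra R A] [Algebra A B] [Algebra R B] [IsScalarTower R A B]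
    [Algebra.FormallyEtale A B] [Module.FaithfullyFlat A B] [Algebra.FormallyUnramified R B] :
    Algebra.FormallyUnramified R A := by
  refine ⟨?_⟩
  have e := KaehlerDifferential.tensorKaehlerEquivOfFormallyEtale R A B
  haveI : Subsingleton (B ⊗[A] Ω[A⁄R]) := e.toEquiv.subsingleton
  exact Module.FaithfullyFlat.lTensor_reflects_triviality A B _

section

variable {X X' Y : Scheme.{u}} {G : Type u} [Group G] [Finite G] {ρ : G →* Aut X} {p : X ⟶ X'}

theorem preimage_le_comp (q : X' ⟶ Y) {U' : X'.Opens} {W : Y.Opens} (hle : U' ≤ q ⁻¹ᵁ W) :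
    p ⁻¹ᵁ U' ≤ (p ≫ q) ⁻¹ᵁ W := by
  rw [Scheme.Hom.comp_preimage]
  exact p.preimage_mono hle

/-- the key local flatness statement -/
theorem flat_app (hp : IsQuot ρ p) (q : X' ⟶ Y)
    [FormallyUnramified (p ≫ q)] [LocallyOfFiniteType (p ≫ q)]
    (hρ : ∀ g : G, (ρ g).hom ≫ p ≫ q = p ≫ q)
    (U' : X'.Opens) (hU' : IsAffineOpen U') (W : Y.Opens) (hW : IsAffineOpen W)
    (hle : U' ≤ q ⁻¹ᵁ W) : (p.app U').hom.Flat := by
  haveI := hp.affine
  have hV : IsAffineOpen (p ⁻¹ᵁ U') := hU'.preimage p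
  have hVW : p ⁻¹ᵁ U' ≤ (p ≫ q) ⁻¹ᵁ W := preimage_le_comp q hle
  letI : Algebra Γ(Y, W) Γ(X, p ⁻¹ᵁ U') := ((p ≫ q).appLE W (p ⁻¹ᵁ U') hVW).hom.toAlgebra
  haveI : Algebra.FormallyUnramified Γ(Y, W) Γ(X, p ⁻¹ᵁ U') :=
    HasRingHomProperty.appLE (P := @FormallyUnramified) (p ≫ q) inferInstance ⟨W, hW⟩
      ⟨_, hV⟩ hVW
  haveI : Algebra.FiniteType Γ(Y, W) Γ(X, p ⁻¹ᵁ U') := (p ≫ q).finiteType_appLE hW hV hVW
  letI := (p.app U').hom.toAlgebra
  letI := sectionAction ρ p hp.inv U'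
  haveI := isInvariant hp U'
  haveI := smulCommClass hp U'
  haveI : SMulCommClass G Γ(Y, W) Γ(X, p ⁻¹ᵁ U') := ⟨fun g r b => by
    rw [Algebra.smul_def, Algebra.smul_def, smul_mul']
    congr 1
    exact appLE_invariant (σ := fun g : G => (ρ g).hom) (p := p ≫ q) hρ W (p ⁻¹ᵁ U') hVW g⁻¹
      (preimage_le_of_inv ρ p hp.inv g⁻¹ U') r⟩
  haveI := (QuotEtaleAlg.projective Γ(Y, W) Γ(X, p ⁻¹ᵁ U') G (A := Γ(X', U'))
    (hp.injective U')).1
  change Module.Flat Γ(X', U') Γ(X, p ⁻¹ᵁ U')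
  infer_instance

/-- the indexing family of small affine opens of `X'`. -/
def SmallAffine (q : X' ⟶ Y) : Type u :=
  {U' : X'.Opens // IsAffineOpen U' ∧ ∃ W : Y.Opens, IsAffineOpen W ∧ U' ≤ q ⁻¹ᵁ W}

theorem iSup_smallAffine (q : X' ⟶ Y) : ⨆ i : SmallAffine q, i.1 = ⊤ := by
  rw [eq_top_iff]
  intro x' _
  obtain ⟨_, ⟨W, hW, rfl⟩, hyW, -⟩ :=
    Y.isBasis_affineOpens.exists_subset_of_mem_open (Set.mem_univ (q x')) isOpen_univ
  obtain ⟨_, ⟨U', hU', rfl⟩, hxU', hU'W⟩ :=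
    X'.isBasis_affineOpens.exists_subset_of_mem_open (show x' ∈ (q ⁻¹ᵁ W : Set X') from hyW)
      (q ⁻¹ᵁ W).2
  exact TopologicalSpace.Opens.mem_iSup.mpr ⟨⟨U', hU', W, hW, hU'W⟩, hxU'⟩

theorem flat (hp : IsQuot ρ p) (q : X' ⟶ Y)
    [FormallyUnramified (p ≫ q)] [LocallyOfFiniteType (p ≫ q)]
    (hρ : ∀ g : G, (ρ g).hom ≫ p ≫ q = p ≫ q) : Flat p := by
  haveI := hp.affine
  refine of_app_of_isAffineHom' (P := @Flat) p (fun i : SmallAffine q => i.1) (iSup_smallAffine q)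
    (fun i => i.2.1) (fun i => ?_)
  obtain ⟨W, hW, hle⟩ := i.2.2
  exact flat_app hp q hρ i.1 i.2.1 W hW hle

/-- SGA 1 V 2.3. -/
theorem main [IsLocallyNoetherian Y] (f : X ⟶ Y) [Etale f] [IsSeparated f] [QuasiCompact f]
    (hρ : ∀ g : G, (ρ g).hom ≫ f = f) (hp : IsQuot ρ p) (q : X' ⟶ Y) (hq : p ≫ q = f) :
    Etale p ∧ Etale q ∧ (IsFinite f → IsFinite q) := by
  subst hq
  haveI := hp.affine
  obtain ⟨haffiff, -, hfin, hqft⟩ := Groth.Agent.S2909.result ρ p hp (p ≫ q) q rfl hρ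
  haveI : IsFinite p := hfin inferInstance
  obtain ⟨hq1, hq2⟩ := hqft inferInstance inferInstance inferInstance
  haveI : LocallyOfFiniteType q := hq1
  haveI : QuasiCompact q := hq2
  haveI : IsLocallyNoetherian X' := LocallyOfFiniteType.isLocallyNoetherian q
  haveI : Flat p := flat hp q hρ
  haveI : FormallyUnramified p := FormallyUnramified.of_comp p q
  haveI hpet : Etale p := Etale.of_formallyUnramified_of_flat p
  have hsurj : Function.Surjective p.base := surjective_of_isQuot hp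
  refine ⟨hpet, ?_, ?_⟩
  · -- `q` is étale
    have key : ∀ x' : X', ∃ (W : Y.affineOpens) (U' : X'.affineOpens) (_ : x' ∈ U'.1)
        (e : U'.1 ≤ q ⁻¹ᵁ W.1), (q.appLE W U' e).hom.Flat ∧
          (q.appLE W U' e).hom.FormallyUnramified := by
      intro x'
      obtain ⟨_, ⟨W, hW, rfl⟩, hyW, -⟩ :=
        Y.isBasis_affineOpens.exists_subset_of_mem_open (Set.mem_univ (q x')) isOpen_univ
      obtain ⟨_, ⟨U', hU', rfl⟩, hxU', hU'W⟩ :=
        X'.isBasis_affineOpens.exists_subset_of_mem_open (show x' ∈ (q ⁻¹ᵁ W : Set X') from hyW)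
          (q ⁻¹ᵁ W).2
      refine ⟨⟨W, hW⟩, ⟨U', hU'⟩, hxU', hU'W, ?_⟩
      have hV : IsAffineOpen (p ⁻¹ᵁ U') := hU'.preimage p
      have hVW : p ⁻¹ᵁ U' ≤ (p ≫ q) ⁻¹ᵁ W := preimage_le_comp q hU'W
      letI : Algebra Γ(Y, W) Γ(X', U') := (q.appLE W U' hU'W).hom.toAlgebra
      letI : Algebra Γ(X', U') Γ(X, p ⁻¹ᵁ U') := (p.appLE U' (p ⁻¹ᵁ U') le_rfl).hom.toAlgebra
      letI : Algebra Γ(Y, W) Γ(X, p ⁻¹ᵁ U') := ((p ≫ q).appLE W (p ⁻¹ᵁ U') hVW).hom.toAlgebra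
      haveI : IsScalarTower Γ(Y, W) Γ(X', U') Γ(X, p ⁻¹ᵁ U') := by
        refine IsScalarTower.of_algebraMap_eq' ?_
        have := Scheme.Hom.appLE_comp_appLE p q W U' (p ⁻¹ᵁ U') hU'W le_rfl
        exact congrArg CommRingCat.Hom.hom this.symm
      haveI hBet : Algebra.Etale Γ(X', U') Γ(X, p ⁻¹ᵁ U') :=
        HasRingHomProperty.appLE (P := @Etale) p hpet ⟨U', hU'⟩ ⟨_, hV⟩ le_rfl
      haveI : Module.Flat Γ(X', U') Γ(X, p ⁻¹ᵁ U') := inferInstance
      haveI : Module.FaithfullyFlat Γ(X', U') Γ(X, p ⁻¹ᵁ U') := by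
        apply Module.FaithfullyFlat.of_comap_surjective
        have hint : (p.appLE U' (p ⁻¹ᵁ U') le_rfl).hom.IsIntegral := by
          rw [← Scheme.Hom.app_eq_appLE]; exact isIntegral_app hp U'
        have hinj : Function.Injective (p.appLE U' (p ⁻¹ᵁ U') le_rfl).hom := by
          rw [← Scheme.Hom.app_eq_appLE]; exact hp.injective U'
        exact hint.comap_surjective hinj
      haveI : Algebra.FormallyUnramified Γ(Y, W) Γ(X, p ⁻¹ᵁ U') :=
        HasRingHomProperty.appLE (P := @FormallyUnramified) (p ≫ q) inferInstance ⟨W, hW⟩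
          ⟨_, hV⟩ hVW
      haveI : Module.Flat Γ(Y, W) Γ(X, p ⁻¹ᵁ U') :=
        HasRingHomProperty.appLE (P := @Flat) (p ≫ q) inferInstance ⟨W, hW⟩ ⟨_, hV⟩ hVW
      exact ⟨Groth.Agent.Lib.Helper12.flat_of_faithfullyFlat_of_flat_comp Γ(Y, W) Γ(X', U')
          Γ(X, p ⁻¹ᵁ U'),
        formallyUnramified_of_faithfullyFlat_etale Γ(Y, W) Γ(X', U') Γ(X, p ⁻¹ᵁ U')⟩
    haveI : Flat q := by
      rw [HasRingHomProperty.iff_exists_appLE (P := @Flat)
        (RingHom.Flat.stableUnderComposition.stableUnderCompositionWithLocalizationAway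
          RingHom.Flat.holdsForLocalizationAway).1]
      intro x'
      obtain ⟨W, U', hx, e, h1, -⟩ := key x'
      exact ⟨W, U', hx, e, h1⟩
    haveI : FormallyUnramified q := by
      rw [HasRingHomProperty.iff_exists_appLE (P := @FormallyUnramified)
        (RingHom.FormallyUnramified.stableUnderComposition.stableUnderCompositionWithLocalizationAway
          RingHom.FormallyUnramified.holdsForLocalizationAway).1]
      intro x'
      obtain ⟨W, U', hx, e, -, h2⟩ := key x'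
      exact ⟨W, U', hx, e, h2⟩
    exact Etale.of_formallyUnramified_of_flat q
  · -- finiteness
    intro hf
    haveI : IsAffineHom q := haffiff.mp inferInstance
    rw [IsFinite.iff_isIntegralHom_and_locallyOfFiniteType]
    refine ⟨⟨fun W hW => ?_⟩, inferInstance⟩
    have h1 : ((p ≫ q).app W).hom.IsIntegral := (p ≫ q).isIntegral_app W hW
    exact RingHom.IsIntegral.tower_bot (f := (q.app W).hom) (g := (p.app (q ⁻¹ᵁ W)).hom)
      (hp.injective _) h1

end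

end Groth.Agent.R2.H23.QuotEtale
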