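import Mathlib
import Groth.Prelude.Def_EssEt
import Groth.Prelude.Def_Hensel
import Groth.Agent.Lib.Helper3HzP
import Groth.Agent.Lib.Helper28FibreTrans

/-!
# Unramified local subalgebras of a strict henselization are essentially étale (helper23)

Namespace `Groth.Agent.R2.H23.ShUnramified`.
-/

set_option autoImplicit false
universe u
open IsLocalRing TensorProduct

namespace Groth.Agent.R2.H23.ShUnramified

/-- A local `A`-algebra `D`, essentially of finite presentation (localization `M⁻¹P` of a finitely
presented `P`), flat and formally unramified over the local ring `A` with local structure map, is a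
localization of an étale `A`-algebra at a prime over the maximal ideal. -/
theorem isEssentiallyEtale_of_flat_of_formallyUnramified
    (A D : Type u) [CommRing A] [IsLocalRing A] [CommRing D] [IsLocalRing D] [Algebra A D]
    [IsLocalHom (algebraMap A D)] [Module.Flat A D] [Algebra.FormallyUnramified A D]
    (P : Type u) [CommRing P] [Algebra A P] [Algebra P D] [IsScalarTower A P D]
    [Algebra.FinitePresentation A P] (M : Submonoid P) [IsLocalization M D] :
    EGA4loc.IsEssentiallyEtale A D := by
  -- formal smoothness from the fibre
  haveI : Algebra.EssFiniteType P D := .of_isLocalization D M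
  haveI : Algebra.EssFiniteType A D := .comp A P D
  haveI : Algebra.FormallyEtale (ResidueField A) (ResidueField A ⊗[A] D) :=
    Algebra.FormallyEtale.of_formallyUnramified_of_field _ _
  haveI : Algebra.FormallySmooth A D :=
    Algebra.FormallySmooth.of_formallySmooth_residueField_tensor (R := A) (S := D) (P := P) M
  haveI : Algebra.FormallyEtale A D :=
    Algebra.FormallyEtale.iff_formallyUnramified_and_formallySmooth.2 ⟨inferInstance, inferInstance⟩
  -- `D` is the localization of `P` at a prime
  set q₀ : Ideal P := (maximalIdeal D).comap (algebraMap P D) with hq₀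
  haveI : q₀.IsPrime := Ideal.comap_isPrime _ _
  have hunit : ∀ r ∈ q₀.primeCompl, IsUnit (algebraMap P D r) := by
    intro r hr
    by_contra h
    exact hr ((IsLocalRing.mem_maximalIdeal _).2 h)
  have hMle : M ≤ q₀.primeCompl := by
    intro m hm hmq
    exact ((IsLocalRing.mem_maximalIdeal _).1 hmq) (IsLocalization.map_units D ⟨m, hm⟩)
  haveI : IsLocalization.AtPrime D q₀ := IsLocalization.of_le M q₀.primeCompl hMle hunit
  haveI : Algebra.IsEtaleAt A q₀ :=
    Algebra.FormallyEtale.of_equiv
      ((IsLocalization.algEquiv q₀.primeCompl D (Localization.AtPrime q₀)).restrictScalars A)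
  obtain ⟨f, hf, hfet⟩ := Algebra.exists_etale_of_isEtaleAt (R := A) q₀
  -- the étale algebra `C = P[1/f]` and its map to `D`
  have hfu : IsUnit (algebraMap P D f) := hunit f hf
  letI : Algebra (Localization.Away f) D := (IsLocalization.Away.lift f hfu).toAlgebra
  haveI : IsScalarTower P (Localization.Away f) D :=
    IsScalarTower.of_algebraMap_eq fun x => (IsLocalization.Away.lift_eq f hfu x).symm
  haveI : IsScalarTower A (Localization.Away f) D := by
    refine IsScalarTower.of_algebraMap_eq fun a => ?_
    rw [IsScalarTower.algebraMap_apply A P (Localization.Away f),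
      ← IsScalarTower.algebraMap_apply P (Localization.Away f) D,
      ← IsScalarTower.algebraMap_apply A P D]
  set q : Ideal (Localization.Away f) := (maximalIdeal D).comap (algebraMap (Localization.Away f) D)
    with hq
  haveI : q.IsPrime := Ideal.comap_isPrime _ _
  have hpow : Submonoid.powers f ≤ q₀.primeCompl := by
    rw [Submonoid.powers_le]; exact hf
  haveI : IsLocalization (q₀.primeCompl.map (algebraMap P (Localization.Away f))) D :=
    IsLocalization.isLocalization_of_submonoid_le (Localization.Away f) D (Submonoid.powers f)
      q₀.primeCompl hpow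
  have hle : q₀.primeCompl.map (algebraMap P (Localization.Away f)) ≤ q.primeCompl := by
    rintro _ ⟨r, hr, rfl⟩ hmem
    apply hr
    change algebraMap P D r ∈ maximalIdeal D
    rw [IsScalarTower.algebraMap_apply P (Localization.Away f) D]
    exact hmem
  have hunit' : ∀ c ∈ q.primeCompl, IsUnit (algebraMap (Localization.Away f) D c) := by
    intro c hc
    by_contra h
    exact hc ((IsLocalRing.mem_maximalIdeal _).2 h)
  haveI : IsLocalization.AtPrime D q := IsLocalization.of_le _ q.primeCompl hle hunit'
  refine ⟨Localization.Away f, inferInstance, inferInstance, q, inferInstance, hfet, ?_, ⟨?_⟩⟩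
  · rw [hq, Ideal.comap_comap, ← IsScalarTower.algebraMap_eq]
    exact ((IsLocalRing.local_hom_TFAE (algebraMap A D)).out 0 4).1
      (inferInstance : IsLocalHom (algebraMap A D))
  · exact (IsLocalization.algEquiv q.primeCompl D (Localization.AtPrime q)).restrictScalars A

/-- **EGA IV 18.8-type statement**: an essentially finite type local `A`-subalgebra `D` of the strict
henselization `S` of a noetherian local ring `A`, dominated by `S` and with `𝔪_A D = 𝔪_D`, is an
essentially étale local `A`-algebra. -/
theorem main
    (A S : Type u) [CommRing A] [IsLocalRing A] [IsNoetherianRing A]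
    [CommRing S] [IsLocalRing S] [Algebra A S] [IsLocalHom (algebraMap A S)]
    [Hensel.IsStrictHenselization A S] (D : Subalgebra A S) [IsLocalRing D]
    [IsLocalHom (algebraMap D S)] [Algebra.EssFiniteType A D]
    (hm : Ideal.map (algebraMap A D) (maximalIdeal A) = maximalIdeal D) :
    EGA4loc.IsEssentiallyEtale A D := by
  haveI : IsLocalHom (algebraMap A D) := by
    haveI : IsLocalHom ((algebraMap D S).comp (algebraMap A D)) := by
      rw [← IsScalarTower.algebraMap_eq]; infer_instance
    exact isLocalHom_of_comp (algebraMap A D) (algebraMap D S)
  -- the residue field of `D` is separable over that of `A`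
  haveI : Algebra.IsSeparable (ResidueField A) (ResidueField S) :=
    (Hensel.IsStrictHenselization.isSepClosure (R := A) (S := S)).separable
  haveI : Algebra.IsSeparable (ResidueField A) (ResidueField D) :=
    Algebra.isSeparable_tower_bot_of_isSeparable (ResidueField A) (ResidueField D) (ResidueField S)
  haveI : Algebra.FormallyUnramified A D := Algebra.FormallyUnramified.of_map_maximalIdeal hm
  -- flatness: `S` is flat over the unramified `D`, hence faithfully flat, and flat over `A`
  haveI : Module.FaithfullyFlat A S := Groth.Agent.Lib.Helper3.HzP.sh_faithfullyFlat A S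
  haveI : Module.Flat D S := Algebra.FormallyUnramified.flat_of_restrictScalars A D S
  haveI : Module.FaithfullyFlat D S := Module.FaithfullyFlat.of_flat_of_isLocalHom
  haveI : Module.Flat A D := Groth.Agent.Lib.Helper28.flat_of_faithfullyFlat_of_flat_comp A D S
  haveI : Algebra.FinitePresentation A (Algebra.EssFiniteType.subalgebra A D) :=
    Algebra.FinitePresentation.of_finiteType.mp inferInstance
  exact isEssentiallyEtale_of_flat_of_formallyUnramified A D (Algebra.EssFiniteType.subalgebra A D)
    (Algebra.EssFiniteType.submonoid A D)

end Groth.Agent.R2.H23.ShUnramified
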