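import Mathlib
import Groth.Agent.Lib.Helper3GrpFlat
import Groth.Agent.Lib.Helper5FibMorLoci
import Groth.Agent.Lib.Helper3FibSmSchB

/-!
# Loci of a homomorphism of group schemes (helper24)

For a homomorphism `u : G ⟶ H` of `S`-group schemes, the loci of `G` where `u` is smooth,
resp. unramified, are unions of fibres of `G ⟶ S`, and the corresponding conditions on the fibre
homomorphisms `u_s` are detected at the unit point over `s`.
-/

set_option autoImplicit false
set_option linter.unusedVariables false
set_option linter.unusedSectionVars false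
set_option linter.style.haveILetI false

open CategoryTheory CategoryTheory.Limits MonoidalCategory CartesianMonoidalCategory MonObj GrpObj
  AlgebraicGeometry TopologicalSpace Topology

universe u

namespace Groth.Agent.R2.H24.GrpHomLoci

open Groth.Agent.Lib.Helper3.GrpFibDim Groth.Agent.Lib.Helper3.GrpHomQF
  Groth.Agent.Lib.Helper3.GrpFlat Groth.Agent.Lib.Helper20.FlatDesc
  Groth.Agent.Lib.Helper20.EtLocal Groth.Agent.Lib.Helper5.FibMorLoci
  Groth.Agent.Lib.Helper5.FibSmConstr

section general

/-- unramifiedness at a point is invariant under arbitrary base change. -/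
theorem formallyUnramified_stalkMap_iff_of_isPullback {P X Y Y' : Scheme.{u}} {fst' : P ⟶ X}
    {snd' : P ⟶ Y'} {f : X ⟶ Y} {g : Y' ⟶ Y} (sq : IsPullback fst' snd' f g)
    [LocallyOfFiniteType f] (p : P) :
    (snd'.stalkMap p).hom.FormallyUnramified ↔ (f.stalkMap (fst' p)).hom.FormallyUnramified := by
  constructor
  · exact formallyUnramified_stalkMap_of_isPullback sq p
  · intro H
    obtain ⟨U, hxU, hU⟩ := exists_formallyUnramified_nbhd f _ H
    haveI : FormallyUnramified ((fst' ⁻¹ᵁ U).ι ≫ snd') :=
      MorphismProperty.of_isPullback (P := @FormallyUnramified)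
        ((isPullback_morphismRestrict fst' U).paste_vert sq) hU
    exact formallyUnramified_stalkMap_of_nbhd snd' p (fst' ⁻¹ᵁ U) hxU

/-- membership in the unramified locus in terms of an open neighbourhood. -/
theorem mem_unramLocus_iff_exists_nbhd {X Y : Scheme.{u}} (f : X ⟶ Y) [LocallyOfFiniteType f]
    (x : X) : x ∈ unramLocus f ↔ ∃ W : X.Opens, x ∈ W ∧ FormallyUnramified (W.ι ≫ f) := by
  constructor
  · intro hx
    exact exists_formallyUnramified_nbhd f x hx
  · rintro ⟨W, hxW, hW⟩
    exact formallyUnramified_stalkMap_of_nbhd f x W hxW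

/-- membership in the smooth locus in terms of an open neighbourhood. -/
theorem mem_smoothLocus_iff_exists_nbhd {X Y : Scheme.{u}} (f : X ⟶ Y)
    [LocallyOfFinitePresentation f] (x : X) :
    x ∈ f.smoothLocus ↔ ∃ W : X.Opens, x ∈ W ∧ Smooth (W.ι ≫ f) := by
  constructor
  · intro hx
    refine ⟨f.smoothLocus, hx, ?_⟩
    rw [← Scheme.Hom.smoothLocus_eq_top_iff, ← Scheme.Hom.preimage_smoothLocus_eq, ← top_le_iff]
    rintro z -
    exact z.2
  · rintro ⟨W, hxW, hW⟩
    have h1 : (W.ι ≫ f).smoothLocus = ⊤ := Scheme.Hom.smoothLocus_eq_top_iff.mpr hW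
    rw [← Scheme.Hom.preimage_smoothLocus_eq] at h1
    have h2 : (⟨x, hxW⟩ : W) ∈ W.ι ⁻¹ᵁ f.smoothLocus := by rw [h1]; trivial
    exact h2

/-- a morphism locally of finite type is formally unramified iff all its stalk maps are. -/
theorem formallyUnramified_iff_forall_stalkMap {X Y : Scheme.{u}} (f : X ⟶ Y)
    [LocallyOfFiniteType f] :
    FormallyUnramified f ↔ ∀ x : X, (f.stalkMap x).hom.FormallyUnramified := by
  constructor
  · intro h x
    exact FormallyUnramified.stalkMap f x
  · intro h
    exact of_forall_exists_nbhd (P := @FormallyUnramified) _ fun x =>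
      exists_formallyUnramified_nbhd f x (h x)

/-- étale iff smooth and unramified at every point. -/
theorem etale_iff_forall_stalkMap {X Y : Scheme.{u}} (f : X ⟶ Y)
    [LocallyOfFinitePresentation f] :
    Etale f ↔ ∀ x : X, (f.stalkMap x).hom.FormallySmooth ∧
      (f.stalkMap x).hom.FormallyUnramified := by
  rw [etale_iff_smooth_and_unram, formallyUnramified_iff_forall_stalkMap,
    ← Scheme.Hom.smoothLocus_eq_top_iff, eq_top_iff]
  constructor
  · rintro ⟨h1, h2⟩ x
    exact ⟨h1 (show x ∈ (⊤ : X.Opens) from trivial), h2 x⟩
  · intro h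
    exact ⟨fun x _ => (h x).1, fun x => (h x).2⟩

/-- étale near a point iff in the smooth locus and in the unramified locus. -/
theorem exists_etale_nbhd_iff {X Y : Scheme.{u}} (f : X ⟶ Y) [LocallyOfFinitePresentation f]
    (x : X) :
    (∃ W : X.Opens, x ∈ W ∧ Etale (W.ι ≫ f)) ↔ x ∈ f.smoothLocus ∧ x ∈ unramLocus f := by
  constructor
  · rintro ⟨W, hxW, hW⟩
    have h := (etale_iff_smooth_and_unram (W.ι ≫ f)).mp hW
    exact ⟨(mem_smoothLocus_iff_exists_nbhd f x).mpr ⟨W, hxW, h.1⟩,
      (mem_unramLocus_iff_exists_nbhd f x).mpr ⟨W, hxW, h.2⟩⟩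
  · rintro ⟨h1, h2⟩
    refine ⟨f.smoothLocus ⊓ unramLocus f, ⟨h1, h2⟩, ?_⟩
    rw [etale_iff_forall_stalkMap]
    intro z
    exact ⟨(stalkMap_ι_comp_iff RingHom.FormallySmooth.respectsIso f _ z).mpr z.2.1,
      (stalkMap_ι_comp_iff RingHom.FormallyUnramified.respectsIso f _ z).mpr z.2.2⟩

/-- a universally injective étale morphism is an open immersion. -/
theorem isOpenImmersion_of_etale_of_universallyInjective {X Y : Scheme.{u}} (f : X ⟶ Y)
    [Etale f] [UniversallyInjective f] : IsOpenImmersion f := by
  haveI : IsOpenImmersion (pullback.diagonal f) := inferInstance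
  haveI : Surjective (pullback.diagonal f) := (UniversallyInjective.iff_diagonal f).mp ‹_›
  haveI : IsIso (pullback.diagonal f) :=
    (isIso_iff_isOpenImmersion_and_surjective _).mpr ⟨inferInstance, inferInstance⟩
  haveI : Mono f := (pullback.isIso_diagonal_iff f).mp inferInstance
  exact IsOpenImmersion.of_flat_of_mono f

end general

section homogeneity

variable {S : Scheme.{u}} (G H : Over S) [GrpObj G] [GrpObj H] (u : G ⟶ H) [IsMonHom u]

/-- generic homogeneity: a property of stalk maps, invariant under isomorphisms and under the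
base change `u ▷ G` of `u`, holds at `a · b` iff it holds at `a`. -/
theorem stalk_hom_mul {Q : ∀ {R S : Type u} [CommRing R] [CommRing S], (R →+* S) → Prop}
    (hQ : RingHom.RespectsIso Q)
    (hA : ∀ w : ↥(G ⊗ G).left, Q ((u ▷ G).left.stalkMap w).hom ↔
      Q (u.left.stalkMap ((fst G G).left w)).hom)
    (z : ↥(G ⊗ G).left) :
    Q (u.left.stalkMap (μ[G].left z)).hom ↔ Q (u.left.stalkMap ((fst G G).left z)).hom := by
  have hc := congrArg (fun f => f.left) (shear_comm u)
  simp only [Over.comp_left] at hc
  haveI : IsIso (shearIso' G).hom.left := inferInstance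
  haveI : IsIso (shearHom u).hom.left := inferInstance
  have e1 : Q ((u ▷ G).left.stalkMap ((shearIso' G).hom.left z)).hom ↔
      Q ((u ▷ G).left.stalkMap z).hom := by
    rw [← stalkMap_comp_iff_left hQ (shearIso' G).hom.left (u ▷ G).left z,
      stalkMap_congr_iff (Q := Q) hc z,
      stalkMap_comp_iff_right hQ (u ▷ G).left (shearHom u).hom.left z]
  rw [hA, hA] at e1
  have hpt : (fst G G).left ((shearIso' G).hom.left z) = μ[G].left z := by
    rw [← Scheme.Hom.comp_apply, ← Over.comp_left]
    congr 2
    simp [shearIso', fst_mul_snd]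
  rw [hpt] at e1
  exact e1

/-- generic homogeneity, unit section form. -/
theorem stalk_hom_iff_unitSec {Q : ∀ {R S : Type u} [CommRing R] [CommRing S], (R →+* S) → Prop}
    (hQ : RingHom.RespectsIso Q)
    (hA : ∀ w : ↥(G ⊗ G).left, Q ((u ▷ G).left.stalkMap w).hom ↔
      Q (u.left.stalkMap ((fst G G).left w)).hom)
    (x : G.left) :
    Q (u.left.stalkMap x).hom ↔ Q (u.left.stalkMap (unitSec G (G.hom x))).hom := by
  have h := stalk_hom_mul G H u hQ hA ((lift (toUnit G ≫ η[G]) (𝟙 G)).left x)
  have hp1 : μ[G].left ((lift (toUnit G ≫ η[G]) (𝟙 G)).left x) = x := by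
    rw [← Scheme.Hom.comp_apply, ← Over.comp_left, lift_comp_one_left]
    rfl
  have hp2 : (fst G G).left ((lift (toUnit G ≫ η[G]) (𝟙 G)).left x) = unitSec G (G.hom x) := by
    rw [← Scheme.Hom.comp_apply, ← Over.comp_left, lift_fst, Over.comp_left,
      Scheme.Hom.comp_apply]
    rfl
  rw [hp1, hp2] at h
  exact h

/-- **the unramified locus of a homomorphism of group schemes is a union of fibres of `G → S`.** -/
theorem unram_hom_iff_unitSec [LocallyOfFiniteType u.left] (x : G.left) :
    (u.left.stalkMap x).hom.FormallyUnramified ↔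
      (u.left.stalkMap (unitSec G (G.hom x))).hom.FormallyUnramified := by
  refine stalk_hom_iff_unitSec (Q := fun φ => RingHom.FormallyUnramified φ) G H u
    RingHom.FormallyUnramified.respectsIso (fun w => ?_) x
  exact formallyUnramified_stalkMap_iff_of_isPullback (isPullback_whiskerRight G H u) w

/-- **the smooth locus of a homomorphism of group schemes is a union of fibres of `G → S`**
(`G` flat over `S`). -/
theorem smooth_hom_iff_unitSec [LocallyOfFinitePresentation u.left] [Flat G.hom] (x : G.left) :
    (u.left.stalkMap x).hom.FormallySmooth ↔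
      (u.left.stalkMap (unitSec G (G.hom x))).hom.FormallySmooth := by
  haveI : Flat (fst H G).left := inferInstanceAs (Flat (pullback.fst H.hom G.hom))
  refine stalk_hom_iff_unitSec (Q := fun φ => RingHom.FormallySmooth φ) G H u
    RingHom.FormallySmooth.respectsIso (fun w => ?_) x
  exact formallySmooth_stalkMap_iff_of_isPullback (isPullback_whiskerRight G H u) w

end homogeneity

section fibres

variable {S : Scheme.{u}} (G H : Over S) [GrpObj G] [GrpObj H] (u : G ⟶ H) [IsMonHom u]

omit [GrpObj G] [GrpObj H] [IsMonHom u] in
/-- points of `G` over `s` come from the fibre. -/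
theorem exists_fibre_point (s : S) (x : G.left) (hx : G.hom x = s) :
    ∃ x' : ↥(pullback G.hom (S.fromSpecResidueField s)),
      pullback.fst G.hom (S.fromSpecResidueField s) x' = x := by
  let pt : Spec (S.residueField s) := IsLocalRing.closedPoint (S.residueField s)
  have hpt : S.fromSpecResidueField s pt = s := Scheme.fromSpecResidueField_apply _ _
  obtain ⟨x', hx1, -⟩ := Scheme.Pullback.exists_preimage_pullback (f := G.hom)
    (g := S.fromSpecResidueField s) x pt (by rw [hx, hpt])
  exact ⟨x', hx1⟩

omit [GrpObj G] [GrpObj H] [IsMonHom u] in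
theorem hom_fst_fibre (s : S) (x' : ↥(pullback G.hom (S.fromSpecResidueField s))) :
    G.hom (pullback.fst G.hom (S.fromSpecResidueField s) x') = s := by
  rw [← Scheme.Hom.comp_apply, pullback.condition, Scheme.Hom.comp_apply]
  exact Scheme.fromSpecResidueField_apply _ _

/-- `u_s` is unramified iff `u` is unramified at the unit point over `s`. -/
theorem formallyUnramified_fibre_iff [LocallyOfFiniteType u.left] (s : S) :
    FormallyUnramified ((Over.pullback (S.fromSpecResidueField s)).map u).left ↔
      (u.left.stalkMap (unitSec G s)).hom.FormallyUnramified := by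
  have hpb := isPullback_overPullback_map G H u (S.fromSpecResidueField s)
  haveI : LocallyOfFiniteType ((Over.pullback (S.fromSpecResidueField s)).map u).left :=
    MorphismProperty.of_isPullback hpb ‹_›
  constructor
  · intro h
    obtain ⟨x', hx'⟩ := exists_fibre_point G s (unitSec G s) (hom_unitSec' G s)
    have := formallyUnramified_stalkMap_of_isPullback hpb x'
      (FormallyUnramified.stalkMap ((Over.pullback (S.fromSpecResidueField s)).map u).left x')
    rw [hx'] at this
    exact this
  · intro h
    refine of_forall_exists_nbhd (P := @FormallyUnramified) _ fun x' => ?_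
    have h1 : (u.left.stalkMap (pullback.fst G.hom (S.fromSpecResidueField s) x')).hom.FormallyUnramified := by
      rw [unram_hom_iff_unitSec G H u, hom_fst_fibre G s x']
      exact h
    have h2 := (formallyUnramified_stalkMap_iff_of_isPullback hpb x').mpr h1
    exact exists_formallyUnramified_nbhd _ x' h2

/-- `u_s` is smooth iff `u` is smooth at the unit point over `s` (`G` flat and locally of finite
presentation, `H` locally of finite type over `S`). -/
theorem smooth_fibre_iff [Flat G.hom] [LocallyOfFinitePresentation G.hom]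
    [LocallyOfFiniteType H.hom] [LocallyOfFinitePresentation u.left] (s : S) :
    Smooth ((Over.pullback (S.fromSpecResidueField s)).map u).left ↔
      (u.left.stalkMap (unitSec G s)).hom.FormallySmooth := by
  have hpb := isPullback_overPullback_map G H u (S.fromSpecResidueField s)
  haveI : LocallyOfFinitePresentation ((Over.pullback (S.fromSpecResidueField s)).map u).left :=
    MorphismProperty.of_isPullback (P := @LocallyOfFinitePresentation) hpb ‹_›
  have hfm : CohIII.fiberMapOver u.left G.hom H.hom (Over.w u) s =
      ((Over.pullback (S.fromSpecResidueField s)).map u).left := by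
    apply pullback.hom_ext
    · simp only [CohIII.fiberMapOver, pullback.map, Over.pullback_map_left]
      exact (pullback.lift_fst _ _ _).trans (pullback.lift_fst _ _ _).symm
    · simp only [CohIII.fiberMapOver, pullback.map, Over.pullback_map_left]
      exact (pullback.lift_snd _ _ _).trans
        ((Category.comp_id _).trans (pullback.lift_snd _ _ _).symm)
  constructor
  · intro h
    -- fibre criterion
    have := Groth.Agent.Lib.Helper3.FibSmSch.formallySmooth_stalkMap_of_flat_of_fibre' u.left H.hom
      G.hom (Over.w u) (unitSec G s) s (hom_unitSec' G s) (Flat.stalkMap G.hom _) ⊤ trivial (by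
        rw [hfm]
        exact MorphismProperty.comp_mem (W := @Smooth) _ _
          (inferInstance : Smooth (Scheme.Opens.ι _)) h)
    exact this
  · intro h
    rw [← Scheme.Hom.smoothLocus_eq_top_iff, eq_top_iff]
    intro x' _
    have h1 : (u.left.stalkMap (pullback.fst G.hom (S.fromSpecResidueField s) x')).hom.FormallySmooth := by
      rw [smooth_hom_iff_unitSec G H u, hom_fst_fibre G s x']
      exact h
    exact formallySmooth_stalkMap_of_isPullback hpb x' h1

/-- `u_s` is étale iff `u` is smooth and unramified at the unit point over `s`. -/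
theorem etale_fibre_iff [Flat G.hom] [LocallyOfFinitePresentation G.hom]
    [LocallyOfFiniteType H.hom] [LocallyOfFinitePresentation u.left] (s : S) :
    Etale ((Over.pullback (S.fromSpecResidueField s)).map u).left ↔
      (u.left.stalkMap (unitSec G s)).hom.FormallySmooth ∧
        (u.left.stalkMap (unitSec G s)).hom.FormallyUnramified := by
  rw [etale_iff_smooth_and_unram, smooth_fibre_iff G H u s, formallyUnramified_fibre_iff G H u s]

end fibres

end Groth.Agent.R2.H24.GrpHomLoci
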