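import Mathlib

/-!
# Largest open on which a homomorphism of group schemes is universally open (helper24)
-/

set_option autoImplicit false
set_option linter.unusedVariables false
set_option linter.unusedSectionVars false
set_option linter.style.haveILetI false

open CategoryTheory CategoryTheory.Limits MonoidalCategory CartesianMonoidalCategory MonObj GrpObj
  AlgebraicGeometry

universe u

namespace Groth.Agent.R2.H24.MaxOpen

set_option backward.isDefEq.respectTransparency.types false in
/-- if `f ≫ g` is universally open and `f` is surjective then `g` is universally open. -/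
theorem universallyOpen_of_comp_surjective {X Y Z : Scheme.{u}} (f : X ⟶ Y) (g : Y ⟶ Z)
    [UniversallyOpen (f ≫ g)] [Surjective f] : UniversallyOpen g := by
  constructor
  intro X' Y' i₁ i₂ f' H
  have := UniversallyOpen.universally_isOpenMap _ _ _
    ((IsPullback.of_hasPullback i₁ f).paste_horiz H)
  exact IsOpenMap.of_comp (Scheme.Hom.continuous _)
    (MorphismProperty.pullback_fst (P := @Surjective) _ _ ‹_›).1 this

section

variable {S : Scheme.{u}}

/-- `(x, h) ↦ φ x * h`. -/
noncomputable def act {X H : Over S} [GrpObj H] (φ : X ⟶ H) : X ⊗ H ⟶ H :=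
  (fst X H ≫ φ) * snd X H

/-- the shearing automorphism `(x, h) ↦ (x, φ x * h)`. -/
noncomputable def actIso {X H : Over S} [GrpObj H] (φ : X ⟶ H) : X ⊗ H ≅ X ⊗ H where
  hom := lift (fst X H) ((fst X H ≫ φ) * snd X H)
  inv := lift (fst X H) ((fst X H ≫ φ)⁻¹ * snd X H)
  hom_inv_id := by
    apply CartesianMonoidalCategory.hom_ext
    · simp
    · rw [Category.assoc, lift_snd, MonObj.comp_mul, GrpObj.comp_inv, lift_fst_assoc, lift_snd,
        Category.id_comp, inv_mul_cancel_left]
  inv_hom_id := by
    apply CartesianMonoidalCategory.hom_ext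
    · simp
    · rw [Category.assoc, lift_snd, MonObj.comp_mul, lift_fst_assoc, lift_snd,
        Category.id_comp, mul_inv_cancel_left]

theorem actIso_hom_snd {X H : Over S} [GrpObj H] (φ : X ⟶ H) :
    (actIso φ).hom ≫ snd X H = act φ := by
  simp [actIso, act]

/-- `act φ` has any property (stable under base change, respecting isomorphisms) that the
structure morphism of `X` has. -/
theorem act_left_mem (P : MorphismProperty Scheme.{u}) [P.IsStableUnderBaseChange] [P.RespectsIso]
    {X H : Over S} [GrpObj H] (φ : X ⟶ H) (hX : P X.hom) : P (act φ).left := by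
  rw [← actIso_hom_snd, Over.comp_left]
  haveI : IsIso (actIso φ).hom.left := inferInstance
  rw [P.cancel_left_of_respectsIso]
  exact MorphismProperty.pullback_snd (P := P) X.hom H.hom hX

/-- `R ◁ f` is a base change of `f`. -/
theorem isPullback_whiskerLeft (R : Over S) {X Y : Over S} (f : X ⟶ Y) :
    IsPullback (R ◁ f).left (snd R X).left (snd R Y).left f.left := by
  have hr : IsPullback (fst R Y).left (snd R Y).left R.hom Y.hom :=
    IsPullback.of_hasPullback R.hom Y.hom
  have h1 : (R ◁ f).left ≫ (fst R Y).left = (fst R X).left := by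
    rw [← Over.comp_left, whiskerLeft_fst]
  have h2 : (R ◁ f).left ≫ (snd R Y).left = (snd R X).left ≫ f.left := by
    rw [← Over.comp_left, whiskerLeft_snd, Over.comp_left]
  have ho : IsPullback ((R ◁ f).left ≫ (fst R Y).left) (snd R X).left R.hom
      (f.left ≫ Y.hom) := by
    rw [h1, Over.w f]
    exact IsPullback.of_hasPullback R.hom X.hom
  exact IsPullback.of_right ho h2 hr

theorem whiskerLeft_left_mem (P : MorphismProperty Scheme.{u}) [P.IsStableUnderBaseChange]
    (R : Over S) {X Y : Over S} (f : X ⟶ Y) (hf : P f.left) : P (R ◁ f).left :=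
  P.of_isPullback (isPullback_whiskerLeft R f).flip hf

theorem universallyOpen_act {X H : Over S} [GrpObj H] (φ : X ⟶ H) [UniversallyOpen X.hom] :
    UniversallyOpen (act φ).left :=
  act_left_mem @UniversallyOpen φ ‹_›

theorem universallyOpen_whiskerLeft (R : Over S) {X Y : Over S} (f : X ⟶ Y)
    [UniversallyOpen f.left] : UniversallyOpen (R ◁ f).left :=
  whiskerLeft_left_mem @UniversallyOpen R f ‹_›

/-- the multiplication map `X ⊗ X ⟶ G` induced by `c : X ⟶ G`. -/
noncomputable def mulOf {X G : Over S} [GrpObj G] (c : X ⟶ G) : X ⊗ X ⟶ G :=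
  (fst X X ≫ c) * (snd X X ≫ c)

theorem mulOf_eq {X G : Over S} [GrpObj G] (c : X ⟶ G) : mulOf c = (c ⊗ₘ c) ≫ μ[G] := by
  rw [mulOf, MonObj.mul_eq_mul, MonObj.comp_mul, tensorHom_fst, tensorHom_snd]

theorem mulOf_comp {X G H : Over S} [GrpObj G] [GrpObj H] (c : X ⟶ G) (u : G ⟶ H) [IsMonHom u] :
    mulOf c ≫ u = (X ◁ (c ≫ u)) ≫ act (c ≫ u) := by
  rw [mulOf, act, MonObj.mul_comp, MonObj.comp_mul, whiskerLeft_fst_assoc, whiskerLeft_snd,
    Category.assoc, Category.assoc]

theorem universallyOpen_mulOf_comp {X G H : Over S} [GrpObj G] [GrpObj H] (c : X ⟶ G) (u : G ⟶ H)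
    [IsMonHom u] [UniversallyOpen X.hom] [UniversallyOpen (c ≫ u).left] :
    UniversallyOpen (mulOf c ≫ u).left := by
  rw [mulOf_comp, Over.comp_left]
  haveI := universallyOpen_whiskerLeft X (c ≫ u)
  haveI := universallyOpen_act (c ≫ u)
  infer_instance

end

end Groth.Agent.R2.H24.MaxOpen
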