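import Mathlib
import Groth.Prelude.Def_Red
import Groth.Agent.R2.H24GrpHomLoci
import Groth.Agent.R2.H24MaxOpen
import Groth.Agent.Lib.Helper6LfpComp
import Groth.Agent.Lib.Helper3GrpHomQF

/-!
# Homomorphisms of group schemes over a one-point base: properties holding on a nonempty open
hold everywhere (helper24)
-/

set_option autoImplicit false
set_option linter.unusedVariables false
set_option linter.unusedSectionVars false
set_option linter.style.haveILetI false

open CategoryTheory CategoryTheory.Limits MonoidalCategory CartesianMonoidalCategory MonObj GrpObj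
  AlgebraicGeometry

universe u

namespace Groth.Agent.R2.H24.AtPoint

open Groth.Agent.R2.H24.MaxOpen Groth.Agent.R2.H24.GrpHomLoci
  Groth.Agent.Lib.Helper3.GrpFibDim Groth.Agent.Lib.Helper3.GrpHomQF
  Groth.Agent.Lib.Helper20.FlatDesc Groth.Agent.Lib.Helper20.EtLocal
  Groth.Agent.Lib.Helper5.FibMorLoci

section lfp

variable {T : Scheme.{u}}

/-- if `c : X ⟶ G` with `X` locally of finite type over `T` having a section, and `c ≫ u` is
locally of finite presentation, then so is the homomorphism `u` (`G` locally of finite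
presentation over `T`). -/
theorem lfp_of_section (G H : Over T) [GrpObj G] [GrpObj H] (u : G ⟶ H) [IsMonHom u]
    (X : Over T) (c : X ⟶ G) (w : 𝟙_ (Over T) ⟶ X)
    [LocallyOfFinitePresentation G.hom] [LocallyOfFiniteType X.hom]
    (hcu : LocallyOfFinitePresentation (c ≫ u).left) : LocallyOfFinitePresentation u.left := by
  obtain ⟨g₀, hg₀⟩ : ∃ g₀ : G ⟶ G, g₀ = toUnit G ≫ w ≫ c := ⟨_, rfl⟩
  have hconst : ∀ f : G ⟶ G, f ≫ g₀ = g₀ := fun f => by
    rw [hg₀, ← Category.assoc, comp_toUnit]
  obtain ⟨τ, hτ⟩ : ∃ τ : G ⟶ G, τ = 𝟙 G * g₀⁻¹ := ⟨_, rfl⟩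
  have hτiso : IsIso τ := by
    refine ⟨⟨𝟙 G * g₀, ?_, ?_⟩⟩
    · rw [MonObj.comp_mul, Category.comp_id, hconst, hτ, inv_mul_cancel_right]
    · rw [hτ, MonObj.comp_mul, Category.comp_id, GrpObj.comp_inv, hconst, mul_inv_cancel_right]
  obtain ⟨j, hj⟩ : ∃ j : G ⟶ G ⊗ X, j = lift τ (toUnit G ≫ w) := ⟨_, rfl⟩
  have hu : u = j ≫ (G ◁ (c ≫ u)) ≫ act u := by
    have e : (toUnit G ≫ w) ≫ c ≫ u = g₀ ≫ u := by
      rw [hg₀]
      simp only [Category.assoc]
    rw [hj, lift_whiskerLeft_assoc, act, MonObj.comp_mul, lift_fst_assoc, lift_snd, e, hτ,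
      MonObj.mul_comp, Category.id_comp, GrpObj.inv_comp, inv_mul_cancel_right]
  have hjl : LocallyOfFinitePresentation j.left := by
    refine Groth.Agent.Lib.Helper6.locallyOfFinitePresentation_of_comp (g := (fst G X).left) ?_ ?_
    · exact inferInstanceAs (LocallyOfFiniteType (pullback.fst G.hom X.hom))
    · rw [← Over.comp_left, hj, lift_fst]
      haveI : IsIso τ.left := inferInstanceAs (IsIso ((Over.forget T).map τ))
      infer_instance
  have h2 : LocallyOfFinitePresentation (G ◁ (c ≫ u)).left :=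
    whiskerLeft_left_mem @LocallyOfFinitePresentation G (c ≫ u) hcu
  have h3 : LocallyOfFinitePresentation (act u).left :=
    act_left_mem @LocallyOfFinitePresentation u ‹_›
  rw [hu, Over.comp_left, Over.comp_left]
  infer_instance

end lfp

section onepoint

variable {S : Scheme.{u}} (G H : Over S) [GrpObj G] [GrpObj H] (u : G ⟶ H) [IsMonHom u]

/-- over a one-point base, a homomorphism from a flat group scheme locally of finite presentation
which is locally of finite presentation on a nonempty open subscheme is locally of finite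
presentation. -/
theorem lfp_hom_of_open (hS : ∀ s t : S, s = t) [Flat G.hom] [LocallyOfFinitePresentation G.hom]
    (W : G.left.Opens) (hW : (W : Set G.left).Nonempty)
    (hWu : LocallyOfFinitePresentation (W.ι ≫ u.left)) : LocallyOfFinitePresentation u.left := by
  obtain ⟨t, ht⟩ : ∃ t : (W : Scheme.{u}) ⟶ S, t = W.ι ≫ G.hom := ⟨_, rfl⟩
  haveI : Flat t := by rw [ht]; infer_instance
  haveI : LocallyOfFinitePresentation t := by rw [ht]; infer_instance
  haveI : Surjective t := by
    refine ⟨fun s => ?_⟩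
    obtain ⟨x, hx⟩ := hW
    exact ⟨⟨x, hx⟩, hS _ _⟩
  obtain ⟨Wo, hWo⟩ : ∃ Wo : Over S, Wo = Over.mk t := ⟨_, rfl⟩
  obtain ⟨c, hc⟩ : ∃ c : Over.mk t ⟶ G, c.left = W.ι := ⟨Over.homMk W.ι ht.symm, rfl⟩
  haveI : LocallyOfFinitePresentation (Red.bc t G).hom :=
    inferInstanceAs (LocallyOfFinitePresentation (pullback.snd G.hom t))
  haveI : LocallyOfFiniteType (Red.bc t (Over.mk t)).hom :=
    inferInstanceAs (LocallyOfFiniteType (pullback.snd t t))
  have hcu : LocallyOfFinitePresentation ((Over.pullback t).map c ≫ (Over.pullback t).map u).left := by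
    rw [← Functor.map_comp]
    refine MorphismProperty.overPullbackMap (P := @LocallyOfFinitePresentation) t (c ≫ u) ?_
    rw [Over.comp_left, hc]
    exact hWu
  let w : 𝟙_ (Over (W : Scheme.{u})) ⟶ Red.bc t (Over.mk t) :=
    Over.homMk (pullback.lift (𝟙 _) (𝟙 _) rfl) (by
      show pullback.lift (𝟙 _) (𝟙 _) rfl ≫ pullback.snd t t = 𝟙 _
      exact pullback.lift_snd _ _ _)
  have h1 : LocallyOfFinitePresentation ((Over.pullback t).map u).left :=
    lfp_of_section (Red.bc t G) (Red.bc t H) ((Over.pullback t).map u) (Red.bc t (Over.mk t))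
      ((Over.pullback t).map c) w hcu
  have hpb := isPullback_overPullback_map G H u t
  refine MorphismProperty.of_isPullback_of_descendsAlong (P := @LocallyOfFinitePresentation)
    (Q := @Surjective ⊓ @Flat ⊓ @LocallyOfFinitePresentation) hpb.flip ⟨⟨?_, ?_⟩, ?_⟩ h1
  · exact MorphismProperty.pullback_fst (P := @Surjective) H.hom t ‹_›
  · exact MorphismProperty.pullback_fst (P := @Flat) H.hom t ‹_›
  · exact MorphismProperty.pullback_fst (P := @LocallyOfFinitePresentation) H.hom t ‹_›

/-- over a one-point base all points of `G` lie over the same point. -/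
theorem unitSec_hom_eq (hS : ∀ s t : S, s = t) (x y : G.left) :
    unitSec G (G.hom x) = unitSec G (G.hom y) := by
  rw [hS (G.hom x) (G.hom y)]

theorem unram_of_open (hS : ∀ s t : S, s = t) [LocallyOfFiniteType u.left]
    (W : G.left.Opens) (hW : (W : Set G.left).Nonempty)
    (hWu : FormallyUnramified (W.ι ≫ u.left)) : FormallyUnramified u.left := by
  obtain ⟨x, hx⟩ := hW
  have h0 : (u.left.stalkMap x).hom.FormallyUnramified :=
    (stalkMap_ι_comp_iff RingHom.FormallyUnramified.respectsIso u.left W ⟨x, hx⟩).mp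
      (FormallyUnramified.stalkMap (W.ι ≫ u.left) ⟨x, hx⟩)
  rw [formallyUnramified_iff_forall_stalkMap]
  intro y
  rw [unram_hom_iff_unitSec G H u, unitSec_hom_eq G hS y x, ← unram_hom_iff_unitSec G H u]
  exact h0

theorem smooth_of_open (hS : ∀ s t : S, s = t) [Flat G.hom] [LocallyOfFinitePresentation G.hom]
    (W : G.left.Opens) (hW : (W : Set G.left).Nonempty)
    (hWu : Smooth (W.ι ≫ u.left)) : Smooth u.left := by
  haveI : LocallyOfFinitePresentation u.left :=
    lfp_hom_of_open G H u hS W hW inferInstance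
  obtain ⟨x, hx⟩ := hW
  have h0 : (u.left.stalkMap x).hom.FormallySmooth := by
    have : x ∈ u.left.smoothLocus :=
      (mem_smoothLocus_iff_exists_nbhd u.left x).mpr ⟨W, hx, hWu⟩
    exact this
  rw [← Scheme.Hom.smoothLocus_eq_top_iff, eq_top_iff]
  intro y _
  show (u.left.stalkMap y).hom.FormallySmooth
  rw [smooth_hom_iff_unitSec G H u, unitSec_hom_eq G hS y x, ← smooth_hom_iff_unitSec G H u]
  exact h0

theorem etale_of_open (hS : ∀ s t : S, s = t) [Flat G.hom] [LocallyOfFinitePresentation G.hom]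
    (W : G.left.Opens) (hW : (W : Set G.left).Nonempty)
    (hWu : Etale (W.ι ≫ u.left)) : Etale u.left := by
  haveI : LocallyOfFinitePresentation u.left :=
    lfp_hom_of_open G H u hS W hW inferInstance
  have h := (etale_iff_smooth_and_unram (W.ι ≫ u.left)).mp hWu
  rw [etale_iff_smooth_and_unram]
  exact ⟨smooth_of_open G H u hS W hW h.1, unram_of_open G H u hS W hW h.2⟩

theorem lqf_of_open (hS : ∀ s t : S, s = t) [LocallyOfFiniteType u.left]
    (W : G.left.Opens) (hW : (W : Set G.left).Nonempty)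
    (hWu : LocallyQuasiFinite (W.ι ≫ u.left)) : LocallyQuasiFinite u.left := by
  obtain ⟨x, hx⟩ := hW
  have h0 : u.left.QuasiFiniteAt x := by
    have := (W.ι ≫ u.left).quasiFiniteAt ⟨x, hx⟩
    rwa [Scheme.Hom.quasiFiniteAt_comp_iff_of_isOpenImmersion] at this
  rw [quasiFiniteAt_iff_fibreDimAt_le_zero] at h0
  rw [locallyQuasiFinite_iff_forall_fibreDimAt_le_zero]
  intro y
  rw [fibreDimAt_hom_eq_unitSec G H u, unitSec_hom_eq G hS y x, ← fibreDimAt_hom_eq_unitSec G H u]
  exact h0

end onepoint

end Groth.Agent.R2.H24.AtPoint
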