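import Mathlib
import Groth.Prelude.Def_Red

/-!
# Compatibility of the group structure of a base change with the projection (helper24)

For `f : S' ⟶ S` and an `S`-group `G`, the projection `π : G ×_S S' ⟶ G` is compatible with
multiplication, inverse and unit.  Pointwise consequences for the "pointwise product" of subsets.
-/

set_option autoImplicit false
set_option linter.unusedVariables false
set_option linter.unusedSectionVars false

open CategoryTheory CategoryTheory.Limits MonoidalCategory CartesianMonoidalCategory MonObj GrpObj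
  AlgebraicGeometry

universe u

namespace Groth.Agent.R2.H24.BcGrp

section proj

variable {S S' : Scheme.{u}} (f : S' ⟶ S)

/-- the projection `X ×_S S' ⟶ X`. -/
noncomputable abbrev proj (X : Over S) : (Red.bc f X).left ⟶ X.left := pullback.fst X.hom f

lemma map_left_proj {X Y : Over S} (g : X ⟶ Y) :
    ((Over.pullback f).map g).left ≫ proj f Y = proj f X ≫ g.left := by
  simp only [Over.pullback_map_left]
  exact pullback.lift_fst _ _ _

lemma proj_hom (X : Over S) : proj f X ≫ X.hom = (Red.bc f X).hom ≫ f := pullback.condition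

/-- the comparison `(X' ⊗ Y') ⟶ X ⊗ Y` on underlying schemes. -/
noncomputable def tensorProj (X Y : Over S) :
    (Red.bc f X ⊗ Red.bc f Y).left ⟶ (X ⊗ Y).left :=
  (Functor.LaxMonoidal.μ (Over.pullback f) X Y).left ≫ proj f (X ⊗ Y)

lemma tensorProj_fst (X Y : Over S) :
    tensorProj f X Y ≫ (fst X Y).left = (fst (Red.bc f X) (Red.bc f Y)).left ≫ proj f X := by
  unfold tensorProj
  rw [Category.assoc, ← map_left_proj, ← Category.assoc, ← Over.comp_left,
    Functor.Monoidal.μ_fst]

lemma tensorProj_snd (X Y : Over S) :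
    tensorProj f X Y ≫ (snd X Y).left = (snd (Red.bc f X) (Red.bc f Y)).left ≫ proj f Y := by
  unfold tensorProj
  rw [Category.assoc, ← map_left_proj, ← Category.assoc, ← Over.comp_left,
    Functor.Monoidal.μ_snd]

variable (G : Over S) [GrpObj G]

lemma mul_left_proj :
    μ[Red.bc f G].left ≫ proj f G = tensorProj f G G ≫ μ[G].left := by
  have h : μ[Red.bc f G] =
      Functor.LaxMonoidal.μ (Over.pullback f) G G ≫ (Over.pullback f).map μ[G] := rfl
  rw [h, Over.comp_left, Category.assoc, map_left_proj]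
  rfl

lemma inv_left_proj : ι[Red.bc f G].left ≫ proj f G = proj f G ≫ ι[G].left := by
  have h : ι[Red.bc f G] = (Over.pullback f).map ι[G] := rfl
  rw [h, map_left_proj]

lemma one_left_proj : η[Red.bc f G].left ≫ proj f G = f ≫ η[G].left := by
  have h1 : η[Red.bc f G] =
      Functor.LaxMonoidal.ε (Over.pullback f) ≫ (Over.pullback f).map η[G] := rfl
  rw [h1, Over.comp_left, Category.assoc, map_left_proj]
  have h2 := Over.w (Functor.LaxMonoidal.ε (Over.pullback f))
  have h3 : (Functor.LaxMonoidal.ε (Over.pullback f)).left ≫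
      pullback.fst (𝟙_ (Over S)).hom f = f := by
    have hc := pullback.condition (f := (𝟙_ (Over S)).hom) (g := f)
    have h4 : pullback.fst (𝟙_ (Over S)).hom f = pullback.snd (𝟙_ (Over S)).hom f ≫ f := by
      rw [← hc]
      exact (Category.comp_id _).symm
    rw [h4, ← Category.assoc]
    have h5 : (Functor.LaxMonoidal.ε (Over.pullback f)).left ≫
        pullback.snd (𝟙_ (Over S)).hom f = 𝟙 _ := h2
    rw [h5, Category.id_comp]
  rw [← Category.assoc, h3]

end proj

section pmul

variable {S : Scheme.{u}}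

/-- pointwise product of two subsets of an `S`-group scheme. -/
def pmul (G : Over S) [GrpObj G] (A B : Set G.left) : Set G.left :=
  μ[G].left '' ((fst G G).left ⁻¹' A ∩ (snd G G).left ⁻¹' B)

lemma pmul_mono {G : Over S} [GrpObj G] {A A' B B' : Set G.left} (hA : A ⊆ A') (hB : B ⊆ B') :
    pmul G A B ⊆ pmul G A' B' :=
  Set.image_mono (Set.inter_subset_inter (Set.preimage_mono hA) (Set.preimage_mono hB))

lemma hom_mul_left_apply (G : Over S) [GrpObj G] (z : ↥(G ⊗ G).left) :
    G.hom (μ[G].left z) = G.hom ((fst G G).left z) := by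
  rw [← Scheme.Hom.comp_apply, ← Scheme.Hom.comp_apply, Over.w μ[G], Over.w (fst G G)]

variable {S' : Scheme.{u}} (f : S' ⟶ S) (G : Over S) [GrpObj G]

/-- the projection maps pointwise products into pointwise products. -/
lemma proj_image_pmul_subset (A' B' : Set (Red.bc f G).left) :
    proj f G '' pmul (Red.bc f G) A' B' ⊆ pmul G (proj f G '' A') (proj f G '' B') := by
  rintro _ ⟨_, ⟨z', ⟨hA, hB⟩, rfl⟩, rfl⟩
  refine ⟨tensorProj f G G z', ⟨?_, ?_⟩, ?_⟩
  · rw [Set.mem_preimage, ← Scheme.Hom.comp_apply, tensorProj_fst]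
    exact ⟨_, hA, rfl⟩
  · rw [Set.mem_preimage, ← Scheme.Hom.comp_apply, tensorProj_snd]
    exact ⟨_, hB, rfl⟩
  · rw [← Scheme.Hom.comp_apply, ← mul_left_proj]
    rfl

lemma proj_inv_apply (x' : (Red.bc f G).left) :
    proj f G (ι[Red.bc f G].left x') = ι[G].left (proj f G x') := by
  rw [← Scheme.Hom.comp_apply, inv_left_proj]
  rfl

lemma proj_image_inv_image (A' : Set (Red.bc f G).left) :
    proj f G '' (ι[Red.bc f G].left '' A') = ι[G].left '' (proj f G '' A') := by
  ext x
  constructor
  · rintro ⟨_, ⟨a, ha, rfl⟩, rfl⟩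
    exact ⟨proj f G a, ⟨a, ha, rfl⟩, (proj_inv_apply f G a).symm⟩
  · rintro ⟨_, ⟨a, ha, rfl⟩, rfl⟩
    exact ⟨_, ⟨a, ha, rfl⟩, proj_inv_apply f G a⟩

end pmul

end Groth.Agent.R2.H24.BcGrp
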