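import Mathlib
import Groth.Prelude.Def_SGA3x
import Groth.Agent.R2.H24BcGrp
import Groth.Agent.Lib.Helper25LocFTDiv

/-!
# The union of the neutral components of the fibres of a group scheme (helper24)

* over a field `k`, the neutral component of a `k`-group `G` is contained in `U · U⁻¹` for every open
  neighbourhood `U` of the unit point;
* for an `S`-group `G`, `SGA3x.neutralSet G` is described through the fibres `G_s`;
* for an open `U` of `G` containing the unit points over `V ⊆ S`, the part of the neutral set over `V`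
  is contained in `U · U⁻¹`.
-/

set_option autoImplicit false
set_option linter.unusedVariables false
set_option linter.unusedSectionVars false

open CategoryTheory CategoryTheory.Limits MonoidalCategory CartesianMonoidalCategory MonObj GrpObj
  AlgebraicGeometry

universe u

namespace Groth.Agent.R2.H24.NeutralSet

open Groth.Agent.R2.H24.BcGrp Groth.Agent.Lib.Helper25.IdComp Groth.Agent.Lib.Helper25.LocFT
  Groth.Agent.Lib.Helper25.TopGrp

section topology

variable {X Y : Type*} [TopologicalSpace X] [TopologicalSpace Y]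

/-- connected components inside the range of an embedding. -/
lemma connectedComponentIn_range_of_isEmbedding {e : X → Y} (he : Topology.IsEmbedding e)
    (x : X) : connectedComponentIn (Set.range e) (e x) = e '' connectedComponent x := by
  apply le_antisymm
  · intro y hy
    have hCsub : connectedComponentIn (Set.range e) (e x) ⊆ Set.range e :=
      connectedComponentIn_subset _ _
    have hpre : IsPreconnected (e ⁻¹' connectedComponentIn (Set.range e) (e x)) := by
      rw [← he.isInducing.isPreconnected_image, Set.image_preimage_eq_inter_range,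
        Set.inter_eq_left.mpr hCsub]
      exact isPreconnected_connectedComponentIn
    have hx : x ∈ e ⁻¹' connectedComponentIn (Set.range e) (e x) :=
      mem_connectedComponentIn (Set.mem_range_self x)
    obtain ⟨z, rfl⟩ := hCsub hy
    exact ⟨z, hpre.subset_connectedComponent hx hy, rfl⟩
  · apply IsPreconnected.subset_connectedComponentIn
    · exact isPreconnected_connectedComponent.image _ he.continuous.continuousOn
    · exact ⟨x, mem_connectedComponent, rfl⟩
    · rintro _ ⟨z, -, rfl⟩
      exact Set.mem_range_self z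

end topology

section field

variable {k : Type u} [Field k] (G : Over (Spec (CommRingCat.of k))) [GrpObj G]

/-- over a field, the neutral component is contained in `U · U⁻¹` for every open neighbourhood `U`
of the unit point. -/
theorem connectedComponent_ePt_subset_pmul (U : Set G.left) (hU : IsOpen U) (he : ePt G ∈ U) :
    connectedComponent (ePt G) ⊆ BcGrp.pmul G U (ι[G].left '' U) := by
  rw [connectedComponent_ePt_eq_image]
  let Ub : Set (bc G).left := bcProj G ⁻¹' U
  have hUb : IsOpen Ub := hU.preimage (bcProj G).continuous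
  have heUb : ePt (bc G) ∈ Ub := by
    show bcProj G (ePt (bc G)) ∈ U
    rw [bcProj_ePt]; exact he
  let V : Set (bc G).left := Ub ∩ ι[bc G].left ⁻¹' Ub
  have hV : IsOpen V := hUb.inter (hUb.preimage ι[bc G].left.continuous)
  have heV : ePt (bc G) ∈ V := by
    refine ⟨heUb, ?_⟩
    show ι[bc G].left (ePt (bc G)) ∈ Ub
    rw [inv_left_ePt]; exact heUb
  have h3 := idComp_subset_pmul_inter V hV ⟨ePt (bc G), heV, ePt_mem_idComp _⟩
  rintro _ ⟨w, hw, rfl⟩
  have h4 : w ∈ BcGrp.pmul (bc G) (V ∩ idComp (bc G)) (V ∩ idComp (bc G)) := h3 hw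
  have h5 : w ∈ BcGrp.pmul (bc G) Ub (ι[bc G].left '' Ub) := by
    refine BcGrp.pmul_mono (fun x hx => hx.1.1) ?_ h4
    rintro x ⟨⟨-, hx⟩, -⟩
    exact ⟨ι[bc G].left x, hx, inv_left_inv_left x⟩
  have h6 : bcProj G w ∈ BcGrp.pmul G (bcProj G '' Ub) (bcProj G '' (ι[bc G].left '' Ub)) :=
    BcGrp.proj_image_pmul_subset (bcMap k) G _ _ ⟨w, h5, rfl⟩
  refine BcGrp.pmul_mono ?_ ?_ h6
  · rintro _ ⟨a, ha, rfl⟩; exact ha
  · have := BcGrp.proj_image_inv_image (bcMap k) G Ub
    rw [show bcProj G '' (ι[bc G].left '' Ub) = ι[G].left '' (bcProj G '' Ub) from this]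
    rintro _ ⟨_, ⟨a, ha, rfl⟩, rfl⟩
    exact ⟨_, ha, rfl⟩

end field

section base

variable {S : Scheme.{u}} (G : Over S) [GrpObj G]

/-- the unit section on points. -/
noncomputable abbrev unit : S ⟶ G.left := η[G].left

lemma unit_hom : unit G ≫ G.hom = 𝟙 S := Over.w η[G]

lemma hom_unit (s : S) : G.hom (unit G s) = s := by
  rw [← Scheme.Hom.comp_apply, unit_hom]; rfl

/-- membership in the neutral set. -/
lemma mem_neutralSet_iff (x : G.left) :
    x ∈ SGA3x.neutralSet G ↔
      x ∈ connectedComponentIn (G.hom ⁻¹' {G.hom x}) (unit G (G.hom x)) := by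
  simp only [SGA3x.neutralSet, Set.mem_iUnion]
  constructor
  · rintro ⟨p, hp⟩
    have hx : x ∈ G.hom ⁻¹' {(𝟙_ (Over S)).hom p} := connectedComponentIn_subset _ _ hp
    have hx' : G.hom x = p := hx
    rw [hx']
    exact hp
  · intro h
    exact ⟨G.hom x, h⟩

/-- the fibre of `G` at `s`, a group scheme over `κ(s)`. -/
noncomputable abbrev fib (s : S) : Over (Spec (CommRingCat.of (S.residueField s))) :=
  Red.bc (S.fromSpecResidueField s) G

/-- the inclusion of the fibre. -/
noncomputable abbrev fibι (s : S) : (fib G s).left ⟶ G.left :=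
  BcGrp.proj (S.fromSpecResidueField s) G

lemma range_fibι (s : S) : Set.range (fibι G s) = G.hom ⁻¹' {s} :=
  Scheme.Hom.range_fiberι G.hom s

lemma isEmbedding_fibι (s : S) : Topology.IsEmbedding (fibι G s) :=
  (G.hom.fiberι s).isEmbedding

lemma fibι_ePt (s : S) : fibι G s (ePt (fib G s)) = unit G s := by
  have h := BcGrp.one_left_proj (S.fromSpecResidueField s) G
  have h2 := congrArg (fun φ => φ (IsLocalRing.closedPoint (S.residueField s))) h
  simp only [Scheme.Hom.comp_apply] at h2
  rw [Scheme.fromSpecResidueField_apply] at h2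
  exact h2

/-- the neutral component of the fibre over `s`, inside `G`. -/
lemma connectedComponentIn_fibre (s : S) :
    connectedComponentIn (G.hom ⁻¹' {s}) (unit G s) =
      fibι G s '' connectedComponent (ePt (fib G s)) := by
  rw [← range_fibι, ← fibι_ePt]
  exact connectedComponentIn_range_of_isEmbedding (isEmbedding_fibι G s) _

/-- **`G⁰ ⊆ U · U⁻¹`** over the locus where `U` contains the unit section. -/
theorem neutralSet_inter_subset_pmul (V : Set S) (U : Set G.left) (hU : IsOpen U)
    (hV : ∀ s ∈ V, unit G s ∈ U) :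
    SGA3x.neutralSet G ∩ G.hom ⁻¹' V ⊆ BcGrp.pmul G U (ι[G].left '' U) := by
  rintro x ⟨hx, hxV⟩
  rw [mem_neutralSet_iff] at hx
  have hxV' : G.hom x ∈ V := hxV
  generalize hs : G.hom x = s at hx hxV'
  rw [connectedComponentIn_fibre] at hx
  obtain ⟨x', hx', rfl⟩ := hx
  let Us : Set (fib G s).left := fibι G s ⁻¹' U
  have hUs : IsOpen Us := hU.preimage (fibι G s).continuous
  have he : ePt (fib G s) ∈ Us := by
    show fibι G s (ePt (fib G s)) ∈ U
    rw [fibι_ePt]
    exact hV s hxV'
  have h1 := connectedComponent_ePt_subset_pmul (fib G s) Us hUs he hx'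
  have h2 := BcGrp.proj_image_pmul_subset (S.fromSpecResidueField s) G _ _ ⟨x', h1, rfl⟩
  refine BcGrp.pmul_mono ?_ ?_ h2
  · rintro _ ⟨a, ha, rfl⟩; exact ha
  · rw [BcGrp.proj_image_inv_image]
    rintro _ ⟨_, ⟨a, ha, rfl⟩, rfl⟩
    exact ⟨_, ha, rfl⟩

/-- the inverse is an involution on points. -/
lemma inv_inv_apply (x : G.left) : ι[G].left (ι[G].left x) = x := by
  rw [← Scheme.Hom.comp_apply, ← Over.comp_left, GrpObj.inv_comp_inv]
  rfl

lemma image_inv_eq_preimage (U : Set G.left) : ι[G].left '' U = ι[G].left ⁻¹' U := by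
  ext x
  constructor
  · rintro ⟨a, ha, rfl⟩
    show ι[G].left (ι[G].left a) ∈ U
    rw [inv_inv_apply]; exact ha
  · intro hx
    exact ⟨ι[G].left x, hx, inv_inv_apply G x⟩

lemma hom_inv_apply (x : G.left) : G.hom (ι[G].left x) = G.hom x := by
  rw [← Scheme.Hom.comp_apply, Over.w ι[G]]

/-- `A ×_S B` is compact for compact opens `A`, `B` of `G` lying over a quasi-separated open of
the base. -/
lemma isCompact_fst_preimage_inter_snd_preimage' (V : S.Opens) [QuasiSeparatedSpace V]
    (A B : G.left.Opens) (hAV : (A : Set G.left) ⊆ G.hom ⁻¹' V) (hBV : (B : Set G.left) ⊆ G.hom ⁻¹' V)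
    (hA : IsCompact (A : Set G.left)) (hB : IsCompact (B : Set G.left)) :
    IsCompact ((fst G G).left ⁻¹' (A : Set G.left) ∩ (snd G G).left ⁻¹' (B : Set G.left)) := by
  have hrA : Set.range (A.ι ≫ G.hom) ⊆ Set.range V.ι := by
    rintro _ ⟨a, rfl⟩
    rw [Scheme.Opens.range_ι]
    exact hAV a.2
  have hrB : Set.range (B.ι ≫ G.hom) ⊆ Set.range V.ι := by
    rintro _ ⟨b, rfl⟩
    rw [Scheme.Opens.range_ι]
    exact hBV b.2
  let a : (A : Scheme.{u}) ⟶ V := IsOpenImmersion.lift V.ι (A.ι ≫ G.hom) hrA
  let b : (B : Scheme.{u}) ⟶ V := IsOpenImmersion.lift V.ι (B.ι ≫ G.hom) hrB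
  have ha : a ≫ V.ι = A.ι ≫ G.hom := IsOpenImmersion.lift_fac _ _ _
  have hb : b ≫ V.ι = B.ι ≫ G.hom := IsOpenImmersion.lift_fac _ _ _
  have hrange := Scheme.Pullback.range_map a b G.hom G.hom A.ι B.ι V.ι ha hb
  have : CompactSpace A := isCompact_iff_compactSpace.mp hA
  have : CompactSpace B := isCompact_iff_compactSpace.mp hB
  have : QuasiCompact b := inferInstance
  have : CompactSpace ↑(pullback a b) := inferInstance
  rw [Scheme.Opens.range_ι, Scheme.Opens.range_ι] at hrange
  rw [Over.fst_left, Over.snd_left, ← hrange]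
  exact isCompact_range (Scheme.Hom.continuous _)

/-- a compact open of `G`, lying over the quasi-separated open `V` of the base, containing the part
of the neutral set lying over a compact subset `K` of `V`. -/
theorem exists_isCompact_opens_supset (V : S.Opens) [QuasiSeparatedSpace V] (K : Set S)
    (hK : IsCompact K) (hKV : K ⊆ V) :
    ∃ U : G.left.Opens, IsCompact (U : Set G.left) ∧ (U : Set G.left) ⊆ G.hom ⁻¹' V ∧
      SGA3x.neutralSet G ∩ G.hom ⁻¹' K ⊆ U := by
  have hO : IsOpen (G.hom ⁻¹' (V : Set S)) := V.isOpen.preimage G.hom.continuous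
  have hKc : IsCompact (unit G '' K) := hK.image (unit G).continuous
  have hKO : unit G '' K ⊆ G.hom ⁻¹' (V : Set S) := by
    rintro _ ⟨s, hs, rfl⟩
    show G.hom (unit G s) ∈ V
    rw [hom_unit]
    exact hKV hs
  obtain ⟨U₀, hU₀c, hKU₀, hU₀V⟩ := exists_isCompact_opens_between (unit G '' K) _ hKc hO hKO
  let U₁ : G.left.Opens := ι[G].left ⁻¹ᵁ U₀
  have hU₁ : (U₁ : Set G.left) = ι[G].left '' (U₀ : Set G.left) :=
    (image_inv_eq_preimage G _).symm
  have hU₁c : IsCompact (U₁ : Set G.left) := by
    rw [hU₁]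
    exact hU₀c.image ι[G].left.continuous
  have hU₁V : (U₁ : Set G.left) ⊆ G.hom ⁻¹' V := by
    intro x hx
    have h1 : ι[G].left x ∈ (U₀ : Set G.left) := hx
    have h2 := hU₀V h1
    show G.hom x ∈ V
    rw [← hom_inv_apply]
    exact h2
  have hA := isCompact_fst_preimage_inter_snd_preimage' G V U₀ U₁ hU₀V hU₁V hU₀c hU₁c
  have hM : IsCompact (BcGrp.pmul G (U₀ : Set G.left) (U₁ : Set G.left)) :=
    hA.image μ[G].left.continuous
  have hMV : BcGrp.pmul G (U₀ : Set G.left) (U₁ : Set G.left) ⊆ G.hom ⁻¹' (V : Set S) := by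
    rintro _ ⟨z, ⟨hz1, -⟩, rfl⟩
    show G.hom (μ[G].left z) ∈ V
    rw [BcGrp.hom_mul_left_apply]
    exact hU₀V hz1
  obtain ⟨U, hUc, hMU, hUV⟩ := exists_isCompact_opens_between _ _ hM hO hMV
  refine ⟨U, hUc, hUV, ?_⟩
  have := neutralSet_inter_subset_pmul G K (U₀ : Set G.left) U₀.isOpen
    (fun s hs => hKU₀ ⟨s, hs, rfl⟩)
  rw [← hU₁] at this
  exact this.trans hMU

/-- if the fibre over `s` is connected, it lies in the neutral set. -/
lemma fibre_subset_neutralSet (s : S) (hconn : _root_.IsPreconnected (G.hom ⁻¹' {s})) :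
    G.hom ⁻¹' {s} ⊆ SGA3x.neutralSet G := by
  intro x hx
  have hx' : G.hom x = s := hx
  rw [mem_neutralSet_iff, hx', hconn.connectedComponentIn (show unit G s ∈ G.hom ⁻¹' {s} from hom_unit G s)]
  exact hx

end base

end Groth.Agent.R2.H24.NeutralSet
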