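import Mathlib
import Groth.Agent.Lib.Helper19ComplFlatLocal

/-!
# helper24: a local homomorphism between abstractly isomorphic Noetherian local rings which is
"unramified with trivial residue extension" is flat

(the inverse function theorem for complete Noetherian local rings, via the fact that a surjective
ring endomorphism of a Noetherian ring is injective)
-/

set_option autoImplicit false
set_option linter.style.haveILetI false
set_option linter.unusedSectionVars false

universe u

open IsLocalRing

namespace Groth.Agent.R2.H24.ComplEndo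

open Groth.Agent.Lib.Helper19

/-- a surjective ring endomorphism of a Noetherian ring is injective. -/
theorem injective_of_surjective_ringEnd {S : Type*} [CommRing S] [IsNoetherianRing S]
    (θ : S →+* S) (h : Function.Surjective θ) : Function.Injective θ := by
  let f : ℕ →o Ideal S :=
    ⟨fun n => RingHom.ker (θ ^ n), by
      refine monotone_nat_of_le_succ (fun n x hx => ?_)
      rw [RingHom.mem_ker] at hx ⊢
      rw [pow_succ', RingHom.mul_def, RingHom.comp_apply, hx, map_zero]⟩
  obtain ⟨N, hN⟩ := monotone_stabilizes_iff_noetherian.mpr (inferInstance : IsNoetherian S S) f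
  rw [injective_iff_map_eq_zero]
  intro x hx
  have hsurj : Function.Surjective (θ ^ N) := by
    rw [RingHom.coe_pow]
    exact h.iterate N
  obtain ⟨y, rfl⟩ := hsurj x
  have h1 : y ∈ RingHom.ker (θ ^ (N + 1)) := by
    rw [RingHom.mem_ker, pow_succ', RingHom.mul_def, RingHom.comp_apply, hx]
  have h2 : y ∈ RingHom.ker (θ ^ N) := by
    have := hN (N + 1) (Nat.le_succ N)
    change RingHom.ker (θ ^ N) = RingHom.ker (θ ^ (N + 1)) at this
    rw [this]; exact h1
  exact h2

section

variable (A B : Type u) [CommRing A] [CommRing B] [IsLocalRing A] [IsLocalRing B]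
  [IsNoetherianRing A] [IsNoetherianRing B]

/-- compatibility of the completed map with the canonical maps. -/
theorem complMap_algebraMap (f : A →+* B) (h : (maximalIdeal A).map f ≤ maximalIdeal B) (a : A) :
    FSch.complMap (maximalIdeal A) (maximalIdeal B) f h
        (algebraMap A (AdicCompletion (maximalIdeal A) A) a) =
      algebraMap B (AdicCompletion (maximalIdeal B) B) (f a) := by
  apply AdicCompletion.ext_evalₐ
  intro n
  rw [evalₐ_complMap, AdicCompletion.algebraMap_apply, AdicCompletion.evalₐ_of,
    AdicCompletion.algebraMap_apply, AdicCompletion.evalₐ_of, Ideal.quotientMap_mk]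
  rfl

/-- the completed map of a local homomorphism with `𝔪_A B = 𝔪_B` and surjective residue field map
is surjective. -/
theorem complMap_surjective (f : A →+* B)
    (hm : (maximalIdeal A).map f = maximalIdeal B)
    (hk : ∀ b : B, ∃ a : A, b - f a ∈ maximalIdeal B) :
    Function.Surjective (FSch.complMap (maximalIdeal A) (maximalIdeal B) f hm.le) := by
  set ψ := FSch.complMap (maximalIdeal A) (maximalIdeal B) f hm.le with hψdef
  have hψ' : ∀ a : A, ψ (algebraMap A (AdicCompletion (maximalIdeal A) A) a) =
      algebraMap B (AdicCompletion (maximalIdeal B) B) (f a) :=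
    fun a => complMap_algebraMap A B f hm.le a
  set IA : Ideal (AdicCompletion (maximalIdeal A) A) :=
    (maximalIdeal A).map (algebraMap A (AdicCompletion (maximalIdeal A) A)) with hIA
  set IB : Ideal (AdicCompletion (maximalIdeal B) B) :=
    (maximalIdeal B).map (algebraMap B (AdicCompletion (maximalIdeal B) B)) with hIB
  have hcomp : ψ.comp (algebraMap A (AdicCompletion (maximalIdeal A) A)) =
      (algebraMap B (AdicCompletion (maximalIdeal B) B)).comp f :=
    RingHom.ext hψ'
  have hmap : IA.map ψ = IB := by
    rw [hIA, Ideal.map_map, hcomp, ← Ideal.map_map, hm]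
  haveI : IsAdicComplete (maximalIdeal A) (AdicCompletion (maximalIdeal A) A) :=
    AdicCompletion.isAdicComplete (IsNoetherian.noetherian _)
  haveI : IsAdicComplete IA (AdicCompletion (maximalIdeal A) A) :=
    (IsAdicComplete.map_algebraMap_iff (maximalIdeal A)
      (AdicCompletion (maximalIdeal A) A)).mpr inferInstance
  haveI : IsAdicComplete (maximalIdeal B) (AdicCompletion (maximalIdeal B) B) :=
    AdicCompletion.isAdicComplete (IsNoetherian.noetherian _)
  haveI : IsAdicComplete IB (AdicCompletion (maximalIdeal B) B) :=
    (IsAdicComplete.map_algebraMap_iff (maximalIdeal B)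
      (AdicCompletion (maximalIdeal B) B)).mpr inferInstance
  haveI : IsHausdorff (IA.map ψ) (AdicCompletion (maximalIdeal B) B) := by
    rw [hmap]; infer_instance
  apply surjective_of_mk_map_comp_surjective (I := IA) ψ
  intro y
  obtain ⟨y', rfl⟩ := Ideal.Quotient.mk_surjective y
  obtain ⟨b, hb⟩ := exists_sub_of_mem_map_pow (maximalIdeal B) (IsNoetherian.noetherian _) 1 y'
  rw [pow_one] at hb
  obtain ⟨a, hba⟩ := hk b
  refine ⟨algebraMap A (AdicCompletion (maximalIdeal A) A) a, ?_⟩
  change Ideal.Quotient.mk _ (ψ (algebraMap A (AdicCompletion (maximalIdeal A) A) a)) =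
    Ideal.Quotient.mk _ y'
  rw [Ideal.Quotient.eq, hmap, hψ']
  have h1 : algebraMap B (AdicCompletion (maximalIdeal B) B) (f a) - y' =
      -((y' - algebraMap B (AdicCompletion (maximalIdeal B) B) b) +
        algebraMap B (AdicCompletion (maximalIdeal B) B) (b - f a)) := by
    rw [map_sub]; ring
  rw [h1]
  exact IB.neg_mem (IB.add_mem hb (Ideal.mem_map_of_mem _ hba))

/-- the completed map of a ring isomorphism is injective. -/
theorem complMap_injective_of_equiv (σ : A ≃+* B)
    (hm : (maximalIdeal A).map (σ : A →+* B) = maximalIdeal B) :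
    Function.Injective (FSch.complMap (maximalIdeal A) (maximalIdeal B) (σ : A →+* B) hm.le) := by
  rw [injective_iff_map_eq_zero]
  intro x hx
  apply AdicCompletion.ext_evalₐ
  intro n
  have h1 := evalₐ_complMap (maximalIdeal A) (maximalIdeal B) (σ : A →+* B) hm.le n x
  rw [hx, map_zero] at h1
  rw [map_zero]
  have hinj : Function.Injective (Ideal.quotientMap (maximalIdeal B ^ n) (σ : A →+* B)
      (FSch.pow_le_comap_pow_of_map_le (maximalIdeal A) (maximalIdeal B) (σ : A →+* B) hm.le n)) := by
    apply Ideal.quotientMap_injective'
    rw [← hm, ← Ideal.map_pow]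
    exact (Ideal.comap_map_of_bijective (σ : A →+* B) σ.bijective).le
  apply hinj
  rw [map_zero]
  exact h1.symm

/-- a ring isomorphism of local rings maps the maximal ideal onto the maximal ideal. -/
theorem map_maximalIdeal_of_ringEquiv {A B : Type*} [CommRing A] [CommRing B] [IsLocalRing A]
    [IsLocalRing B] (σ : A ≃+* B) :
    (maximalIdeal A).map (σ : A →+* B) = maximalIdeal B := by
  apply le_antisymm
  · rw [Ideal.map_le_iff_le_comap]
    intro a ha
    rw [Ideal.mem_comap, IsLocalRing.mem_maximalIdeal, mem_nonunits_iff] at *
    intro hu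
    apply ha
    have := hu.map (σ.symm : B →+* A)
    simpa using this
  · intro b hb
    have hb' : σ.symm b ∈ maximalIdeal A := by
      rw [IsLocalRing.mem_maximalIdeal, mem_nonunits_iff] at *
      intro hu
      apply hb
      have := hu.map (σ : A →+* B)
      simpa using this
    have := Ideal.mem_map_of_mem (σ : A →+* B) hb'
    simpa using this

variable [Algebra A B] [IsLocalHom (algebraMap A B)]

/-- **inverse function theorem**: a local homomorphism `A → B` of Noetherian local rings with
`𝔪_A B = 𝔪_B` and trivial residue field extension is flat as soon as `A` and `B` are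
abstractly isomorphic rings. -/
theorem flat_of_ringEquiv (σ : A ≃+* B)
    (hm : (maximalIdeal A).map (algebraMap A B) = maximalIdeal B)
    (hk : ∀ b : B, ∃ a : A, b - algebraMap A B a ∈ maximalIdeal B) :
    Module.Flat A B := by
  haveI : IsNoetherianRing (AdicCompletion (maximalIdeal A) A) := isNoetherianRing_adicCompletion _
  set ψ := FSch.complMap (maximalIdeal A) (maximalIdeal B) (algebraMap A B) hm.le with hψdef
  have hψ : ψ.comp (algebraMap A (AdicCompletion (maximalIdeal A) A)) =
      (algebraMap B (AdicCompletion (maximalIdeal B) B)).comp (algebraMap A B) :=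
    RingHom.ext (complMap_algebraMap A B (algebraMap A B) hm.le)
  have hψsurj : Function.Surjective ψ := complMap_surjective A B (algebraMap A B) hm hk
  -- the completed isomorphism
  have hmσ : (maximalIdeal A).map (σ : A →+* B) = maximalIdeal B :=
    map_maximalIdeal_of_ringEquiv σ
  set σc := FSch.complMap (maximalIdeal A) (maximalIdeal B) (σ : A →+* B) hmσ.le with hσc
  have hσinj : Function.Injective σc := complMap_injective_of_equiv A B σ hmσ
  have hσsurj : Function.Surjective σc := by
    apply complMap_surjective A B (σ : A →+* B) hmσ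
    intro b
    exact ⟨σ.symm b, by simp⟩
  let e : AdicCompletion (maximalIdeal A) A ≃+* AdicCompletion (maximalIdeal B) B :=
    RingEquiv.ofBijective σc ⟨hσinj, hσsurj⟩
  let θ : AdicCompletion (maximalIdeal A) A →+* AdicCompletion (maximalIdeal A) A :=
    (e.symm : _ →+* _).comp ψ
  have hθsurj : Function.Surjective θ := e.symm.surjective.comp hψsurj
  have hθinj : Function.Injective θ := injective_of_surjective_ringEnd θ hθsurj
  have hψinj : Function.Injective ψ := by
    intro x y hxy
    apply hθinj
    change e.symm (ψ x) = e.symm (ψ y)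
    rw [hxy]
  have hflat : ψ.Flat := RingHom.Flat.of_bijective ⟨hψinj, hψsurj⟩
  exact RingHom.flat_algebraMap_iff.mp ((completion_map_flat_iff_flat A B ψ hψ).mp hflat)

end

/-- ring homomorphism form of `flat_of_ringEquiv`. -/
theorem flat_of_ringEquiv' (A B : Type u) [CommRing A] [CommRing B] [IsLocalRing A] [IsLocalRing B]
    [IsNoetherianRing A] [IsNoetherianRing B] (f : A →+* B) [IsLocalHom f] (σ : A ≃+* B)
    (hm : (maximalIdeal A).map f = maximalIdeal B)
    (hk : ∀ b : B, ∃ a : A, b - f a ∈ maximalIdeal B) : f.Flat := by
  letI := f.toAlgebra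
  haveI : IsLocalHom (algebraMap A B) := ‹IsLocalHom f›
  exact flat_of_ringEquiv A B σ hm hk

end Groth.Agent.R2.H24.ComplEndo
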