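import Mathlib
import Groth.Agent.R2.H24ComplEndo
import Groth.Agent.Lib.Helper3GrpFlat

/-!
# helper24: a local homomorphism inducing an isomorphism of completions is flat; application to
monomorphic homomorphisms of group schemes over a field
-/

set_option autoImplicit false
set_option linter.style.haveILetI false

universe u

open IsLocalRing

namespace Groth.Agent.R2.H24.ComplIso

open Groth.Agent.Lib.Helper19 Groth.Agent.R2.H24.ComplEndo

/-- a local homomorphism of Noetherian local rings inducing isomorphisms `A/𝔪_A^{n+1} ≅ B/𝔪_B^{n+1}`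
for all `n` is flat. -/
theorem flat_of_levelwise_iso (A B : Type u) [CommRing A] [CommRing B] [IsLocalRing A]
    [IsLocalRing B] [IsNoetherianRing A] [IsNoetherianRing B] (f : A →+* B) [IsLocalHom f]
    (h : ∀ n : ℕ, Function.Surjective ((Ideal.Quotient.mk (maximalIdeal B ^ (n + 1))).comp f) ∧
      ∀ a : A, f a ∈ maximalIdeal B ^ (n + 1) ↔ a ∈ maximalIdeal A ^ (n + 1)) : f.Flat := by
  have hle : (maximalIdeal A).map f ≤ maximalIdeal B :=
    ((IsLocalRing.local_hom_TFAE f).out 0 2 rfl rfl).mp ‹_›
  have hm : (maximalIdeal A).map f = maximalIdeal B := by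
    apply le_antisymm hle
    refine Submodule.le_of_le_smul_of_le_jacobson_bot (I := maximalIdeal B)
      (IsNoetherian.noetherian _) (IsLocalRing.maximalIdeal_le_jacobson ⊥) ?_
    intro b hb
    obtain ⟨a, ha⟩ := (h 1).1 (Ideal.Quotient.mk _ b)
    rw [RingHom.comp_apply, Ideal.Quotient.eq] at ha
    have hfa : f a ∈ maximalIdeal B := by
      have h1 : f a - b ∈ maximalIdeal B := Ideal.pow_le_self (by norm_num) ha
      have : f a = (f a - b) + b := by ring
      rw [this]; exact add_mem h1 hb
    have haA : a ∈ maximalIdeal A := by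
      have := (h 0).2 a
      rw [zero_add, pow_one, pow_one] at this
      exact this.mp hfa
    have hb2 : b = f a - (f a - b) := by ring
    rw [hb2]
    refine Submodule.sub_mem _ (Submodule.mem_sup_left (Ideal.mem_map_of_mem f haA))
      (Submodule.mem_sup_right ?_)
    rw [smul_eq_mul, ← pow_two]
    exact ha
  have hk : ∀ b : B, ∃ a : A, b - f a ∈ maximalIdeal B := by
    intro b
    obtain ⟨a, ha⟩ := (h 0).1 (Ideal.Quotient.mk _ b)
    rw [RingHom.comp_apply, Ideal.Quotient.eq, zero_add, pow_one] at ha
    refine ⟨a, ?_⟩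
    have : b - f a = -(f a - b) := by ring
    rw [this]; exact neg_mem ha
  set ψ := FSch.complMap (maximalIdeal A) (maximalIdeal B) f hm.le with hψdef
  have hψsurj : Function.Surjective ψ := complMap_surjective A B f hm hk
  have hψinj : Function.Injective ψ := by
    rw [injective_iff_map_eq_zero]
    intro x hx
    apply AdicCompletion.ext_evalₐ
    intro n
    rw [map_zero]
    cases n with
    | zero =>
      have : (maximalIdeal A) ^ 0 = ⊤ := by rw [pow_zero, Ideal.one_eq_top]
      obtain ⟨a, ha⟩ := Ideal.Quotient.mk_surjective (AdicCompletion.evalₐ (maximalIdeal A) 0 x)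
      rw [← ha, Ideal.Quotient.eq_zero_iff_mem, this]
      trivial
    | succ m =>
      have h1 := evalₐ_complMap (maximalIdeal A) (maximalIdeal B) f hm.le (m + 1) x
      rw [hx, map_zero] at h1
      obtain ⟨a, ha⟩ := Ideal.Quotient.mk_surjective
        (AdicCompletion.evalₐ (maximalIdeal A) (m + 1) x)
      rw [← ha, Ideal.quotientMap_mk, eq_comm, Ideal.Quotient.eq_zero_iff_mem] at h1
      rw [← ha, Ideal.Quotient.eq_zero_iff_mem]
      exact ((h m).2 a).mp h1
  have hflat : ψ.Flat := RingHom.Flat.of_bijective ⟨hψinj, hψsurj⟩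
  letI := f.toAlgebra
  haveI : IsLocalHom (algebraMap A B) := ‹IsLocalHom f›
  have hψ : ψ.comp (algebraMap A (AdicCompletion (maximalIdeal A) A)) =
      (algebraMap B (AdicCompletion (maximalIdeal B) B)).comp (algebraMap A B) :=
    RingHom.ext (complMap_algebraMap A B f hm.le)
  exact (completion_map_flat_iff_flat A B ψ hψ).mp hflat

section grp

open CategoryTheory CategoryTheory.Limits MonoidalCategory CartesianMonoidalCategory MonObj GrpObj
  AlgebraicGeometry

/-- a monomorphic homomorphism of group schemes locally of finite type over a field which is flat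
at the unit point is an open immersion. -/
theorem isOpenImmersion_of_mono_of_flat_at_unit (k : Type u) [Field k]
    (H G : Over (Spec (CommRingCat.of k))) [GrpObj H] [GrpObj G]
    [LocallyOfFiniteType H.hom] [LocallyOfFiniteType G.hom] (f : H ⟶ G) [IsMonHom f] [Mono f.left]
    (pt : ↥(Spec (CommRingCat.of k)))
    (hfl : (f.left.stalkMap (η[H].left pt)).hom.Flat) : IsOpenImmersion f.left := by
  haveI : IsLocallyNoetherian G.left := LocallyOfFiniteType.isLocallyNoetherian G.hom
  haveI : LocallyOfFiniteType f.left := by
    haveI : LocallyOfFiniteType (f.left ≫ G.hom) := by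
      rw [Over.w f]; infer_instance
    exact locallyOfFiniteType_of_comp f.left G.hom
  haveI : LocallyOfFinitePresentation f.left := inferInstance
  haveI : Flat H.hom := inferInstance
  haveI : Flat f.left := by
    apply Flat.of_stalkMap
    intro x
    rw [Groth.Agent.Lib.Helper3.GrpFlat.flat_hom_iff_unitSec H G f x]
    have hx : H.hom x = pt := Subsingleton.elim _ _
    rw [hx]
    exact hfl
  exact IsOpenImmersion.of_flat_of_mono f.left

end grp

end Groth.Agent.R2.H24.ComplIso
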