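import Mathlib
import Groth.Agent.Lib.Helper14LocNoeth

/-!
# Locally noetherian schemes are locally connected (helper24)
-/

set_option autoImplicit false

open CategoryTheory AlgebraicGeometry

universe u

namespace Groth.Agent.R2.H24.LocConn

/-- a locally noetherian scheme is locally connected. -/
theorem locallyConnectedSpace_of_isLocallyNoetherian (X : Scheme.{u}) [IsLocallyNoetherian X] :
    LocallyConnectedSpace X := by
  apply Groth.Agent.Lib.Helper14.locallyConnectedSpace_of_locally_noetherian
  intro x
  obtain ⟨_, ⟨W, hW, rfl⟩, hxW, -⟩ := X.isBasis_affineOpens.exists_subset_of_mem_open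
    (Set.mem_univ x) isOpen_univ
  replace hW : IsAffineOpen W := hW
  haveI : IsNoetherianRing Γ(X, W) := IsLocallyNoetherian.component_noetherian ⟨W, hW⟩
  exact ⟨W, W.isOpen.mem_nhds hxW, noetherianSpace_of_isAffineOpen W hW⟩

end Groth.Agent.R2.H24.LocConn
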