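import Mathlib
import Groth.Agent.R2.H24NeutralSet
import Groth.Agent.Lib.Helper25IdCompScheme
import Groth.Agent.R2.H24LocConn
import Groth.Agent.Lib.Helper3GrpFlat
import Groth.Agent.Lib.Helper6LfpComp

/-!
# Flat homomorphisms and neutral components (helper24)

* over a field, a flat homomorphism locally of finite presentation `u : G ⟶ H` from a group locally of
  finite type satisfies `u(G⁰) = H⁰`;
* globally: `u '' neutralSet G = neutralSet H` for flat `u`;
* conversely, if `G` is flat over `S`, the fibres of `H` are reduced and `H⁰ ⊆ u(G)`, then `u` is flat.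
-/

set_option autoImplicit false
set_option linter.unusedVariables false
set_option linter.unusedSectionVars false
set_option linter.style.haveILetI false

open CategoryTheory CategoryTheory.Limits MonoidalCategory CartesianMonoidalCategory MonObj GrpObj
  AlgebraicGeometry

universe u

namespace Groth.Agent.R2.H24.FlatNeutral

open Groth.Agent.R2.H24.BcGrp Groth.Agent.R2.H24.NeutralSet Groth.Agent.Lib.Helper25.IdComp
  Groth.Agent.Lib.Helper25.IdComp0 Groth.Agent.Lib.Helper25.TopGrp

section field

variable {k : Type u} [Field k] (G H : Over (Spec (CommRingCat.of k))) [GrpObj G] [GrpObj H]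
  (u : G ⟶ H) [IsMonHom u]

lemma hom_ePt : u.left (ePt G) = ePt H := by
  show (η[G].left ≫ u.left) _ = η[H].left _
  rw [← Over.comp_left, IsMonHom.one_hom]

omit [GrpObj H] in
lemma pmul_connectedComponent_subset :
    Groth.Agent.Lib.Helper25.IdComp.pmul G (connectedComponent (ePt G))
      (connectedComponent (ePt G)) ⊆ connectedComponent (ePt G) := by
  have h := range_mul_subset G
  rw [← pmul_range_range, range_G0incl_left] at h
  exact h

omit [GrpObj H] in
lemma inv_image_connectedComponent_subset :
    ι[G].left '' connectedComponent (ePt G) ⊆ connectedComponent (ePt G) := by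
  apply IsPreconnected.subset_connectedComponent
  · exact isPreconnected_connectedComponent.image _ ι[G].left.continuous.continuousOn
  · exact ⟨ePt G, mem_connectedComponent, inv_left_ePt' G⟩

/-- the image of `G⁰` under a homomorphism is stable under products. -/
lemma pmul_image_subset :
    Groth.Agent.Lib.Helper25.IdComp.pmul H (u.left '' connectedComponent (ePt G))
      (u.left '' connectedComponent (ePt G)) ⊆ u.left '' connectedComponent (ePt G) := by
  have hv : Set.range (G0incl G ≫ u).left = u.left '' connectedComponent (ePt G) := by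
    rw [← range_G0incl_left G, ← Set.range_comp]
    rfl
  have e : ((G0incl G ≫ u) ⊗ₘ (G0incl G ≫ u)) ≫ μ[H] =
      ((G0incl G ⊗ₘ G0incl G) ≫ μ[G]) ≫ u := by
    rw [Category.assoc, IsMonHom.mul_hom, ← Category.assoc, tensorHom_comp_tensorHom]
  intro z hz
  rw [← hv, pmul_range_range, e] at hz
  obtain ⟨w, rfl⟩ := hz
  exact ⟨((G0incl G ⊗ₘ G0incl G) ≫ μ[G]).left w, range_mul_subset G ⟨w, rfl⟩, rfl⟩

/-- **over a field, a flat homomorphism maps `G⁰` onto `H⁰`.** -/
theorem image_connectedComponent_eq_of_flat [LocallyOfFiniteType G.hom] [Flat u.left]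
    [LocallyOfFinitePresentation u.left] :
    u.left '' connectedComponent (ePt G) = connectedComponent (ePt H) := by
  haveI : IsLocallyNoetherian G.left := LocallyOfFiniteType.isLocallyNoetherian G.hom
  haveI : LocallyConnectedSpace G.left := Groth.Agent.R2.H24.LocConn.locallyConnectedSpace_of_isLocallyNoetherian G.left
  have hopen : IsOpen (connectedComponent (ePt G)) := isOpen_connectedComponent
  have hIopen : IsOpen (u.left '' connectedComponent (ePt G)) := u.left.isOpenMap _ hopen
  have he : ePt H ∈ u.left '' connectedComponent (ePt G) :=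
    ⟨ePt G, mem_connectedComponent, hom_ePt G H u⟩
  apply le_antisymm
  · exact (isPreconnected_connectedComponent.image _
      u.left.continuous.continuousOn).subset_connectedComponent he
  · have h1 := connectedComponent_ePt_subset_pmul H _ hIopen he
    have h2 : ι[H].left '' (u.left '' connectedComponent (ePt G)) ⊆
        u.left '' connectedComponent (ePt G) := by
      rintro _ ⟨_, ⟨a, ha, rfl⟩, rfl⟩
      refine ⟨ι[G].left a, inv_image_connectedComponent_subset G ⟨a, ha, rfl⟩, ?_⟩
      rw [← Scheme.Hom.comp_apply, ← Scheme.Hom.comp_apply, ← Over.comp_left, ← Over.comp_left,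
        GrpObj.inv_hom]
    exact h1.trans ((BcGrp.pmul_mono subset_rfl h2).trans (pmul_image_subset G H u))

end field

section base

variable {S : Scheme.{u}} (G H : Over S) [GrpObj G] [GrpObj H] (u : G ⟶ H) [IsMonHom u]

omit [GrpObj H] [IsMonHom u] in
/-- the neutral set as the union of the neutral components of the fibres. -/
lemma mem_neutralSet_iff_exists (x : G.left) :
    x ∈ SGA3x.neutralSet G ↔ ∃ (s : S) (x' : (fib G s).left),
      x' ∈ connectedComponent (ePt (fib G s)) ∧ fibι G s x' = x := by
  constructor
  · intro hx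
    rw [mem_neutralSet_iff, connectedComponentIn_fibre] at hx
    obtain ⟨x', hx', h⟩ := hx
    exact ⟨G.hom x, x', hx', h⟩
  · rintro ⟨s, x', hx', rfl⟩
    have hs : G.hom (fibι G s x') = s := by
      have : fibι G s x' ∈ Set.range (fibι G s) := ⟨x', rfl⟩
      rw [range_fibι] at this
      exact this
    rw [mem_neutralSet_iff, hs, connectedComponentIn_fibre]
    exact ⟨x', hx', rfl⟩

/-- the fibre homomorphism. -/
noncomputable abbrev fibMap (s : S) : fib G s ⟶ fib H s :=
  (Over.pullback (S.fromSpecResidueField s)).map u

omit [GrpObj G] [GrpObj H] [IsMonHom u] in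
lemma fibι_fibMap (s : S) (x' : (fib G s).left) :
    fibι H s ((fibMap G H u s).left x') = u.left (fibι G s x') := by
  have := BcGrp.map_left_proj (S.fromSpecResidueField s) u
  rw [← Scheme.Hom.comp_apply, ← Scheme.Hom.comp_apply]
  exact congrArg (fun φ => φ x') this

/-- **a flat homomorphism maps `G⁰` onto `H⁰`.** -/
theorem image_neutralSet_eq_of_flat [LocallyOfFiniteType G.hom]
    [LocallyOfFinitePresentation u.left] [Flat u.left] :
    u.left '' SGA3x.neutralSet G = SGA3x.neutralSet H := by
  have key : ∀ s : S, (fibMap G H u s).left '' connectedComponent (ePt (fib G s)) =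
      connectedComponent (ePt (fib H s)) := by
    intro s
    haveI : IsMonHom (fibMap G H u s) :=
      inferInstanceAs (IsMonHom ((Over.pullback (S.fromSpecResidueField s)).map u))
    haveI : LocallyOfFiniteType (fib G s).hom :=
      inferInstanceAs (LocallyOfFiniteType (pullback.snd G.hom (S.fromSpecResidueField s)))
    haveI : Flat (fibMap G H u s).left :=
      MorphismProperty.overPullbackMap (P := @Flat) _ u ‹_›
    haveI : LocallyOfFinitePresentation (fibMap G H u s).left :=
      MorphismProperty.overPullbackMap (P := @LocallyOfFinitePresentation) _ u ‹_›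
    exact image_connectedComponent_eq_of_flat (fib G s) (fib H s) (fibMap G H u s)
  ext y
  constructor
  · rintro ⟨x, hx, rfl⟩
    rw [mem_neutralSet_iff_exists] at hx ⊢
    obtain ⟨s, x', hx', rfl⟩ := hx
    refine ⟨s, (fibMap G H u s).left x', ?_, fibι_fibMap G H u s x'⟩
    rw [← key s]
    exact ⟨x', hx', rfl⟩
  · intro hy
    rw [mem_neutralSet_iff_exists] at hy
    obtain ⟨s, y', hy', rfl⟩ := hy
    rw [← key s] at hy'
    obtain ⟨x', hx', rfl⟩ := hy'
    refine ⟨fibι G s x', ?_, (fibι_fibMap G H u s x').symm⟩
    rw [mem_neutralSet_iff_exists]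
    exact ⟨s, x', hx', rfl⟩

/-- **converse**: if `G` is flat over `S`, the fibres of `H` are reduced and `H⁰ ⊆ u(G)`, then `u`
is flat. -/
theorem flat_of_neutralSet_subset_range [LocallyOfFinitePresentation G.hom]
    [LocallyOfFiniteType H.hom] [Flat G.hom]
    (hred : ∀ s : S, IsReduced (H.hom.fiber s))
    (hsub : SGA3x.neutralSet H ⊆ Set.range u.left) : Flat u.left := by
  have hw : u.left ≫ H.hom = G.hom := Over.w u
  haveI : LocallyOfFinitePresentation (u.left ≫ H.hom) := by rw [hw]; infer_instance
  haveI : LocallyOfFinitePresentation u.left :=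
    Groth.Agent.Lib.Helper6.locallyOfFinitePresentation_of_comp (g := H.hom) inferInstance
      inferInstance
  apply Flat.of_stalkMap
  intro x
  obtain ⟨s, hs⟩ : ∃ s, s = G.hom x := ⟨_, rfl⟩
  -- generic point of the neutral component of `H_s`
  have hirr : IsIrreducible (connectedComponent (ePt (fib H s))) :=
    isIrreducible_connectedComponent_ePt (fib H s)
  have hclosed : IsClosed (connectedComponent (ePt (fib H s))) := isClosed_connectedComponent
  let ξ : (fib H s).left := hirr.genericPoint
  have hcl : closure {ξ} = connectedComponent (ePt (fib H s)) :=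
    hirr.closure_genericPoint hclosed
  have hξmem : ξ ∈ connectedComponent (ePt (fib H s)) := by
    rw [← hcl]; exact subset_closure rfl
  haveI : IsReduced (fib H s).left := hred s
  have hfield : IsField ((fib H s).left.presheaf.stalk ξ) :=
    isField_stalk_of_closure_mem_irreducibleComponents _ ξ (by
      rw [hcl]
      exact connectedComponent_mem_irreducibleComponents (fib H s))
  -- a point of `G` over it
  have hmem : fibι H s ξ ∈ SGA3x.neutralSet H :=
    (mem_neutralSet_iff_exists H _).mpr ⟨s, ξ, hξmem, rfl⟩
  obtain ⟨x₀, hx₀⟩ := hsub hmem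
  have hpb : IsPullback ((u.left ≫ H.hom).fiberι s) (MoreMor.fiberMap u.left H.hom s) u.left
      (H.hom.fiberι s) :=
    Groth.Agent.Lib.Helper3.BaseMap.isPullback_baseMap u.left H.hom (S.fromSpecResidueField s)
  obtain ⟨w, hw1, hw2⟩ := Scheme.Pullback.exists_preimage_pullback (f := u.left)
    (g := H.hom.fiberι s) x₀ ξ hx₀
  let z₀ := hpb.isoPullback.inv w
  have hz1 : (u.left ≫ H.hom).fiberι s z₀ = x₀ := by
    rw [← hw1, ← Scheme.Hom.comp_apply, IsPullback.isoPullback_inv_fst]
  have hz2 : MoreMor.fiberMap u.left H.hom s z₀ = ξ := by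
    rw [← hw2, ← Scheme.Hom.comp_apply, IsPullback.isoPullback_inv_snd]
  have hfib : ((MoreMor.fiberMap u.left H.hom s).stalkMap z₀).hom.Flat := by
    apply RingHom.Flat.of_isField
    rw [hz2]
    exact hfield
  haveI : Flat (u.left ≫ H.hom) := by rw [hw]; infer_instance
  have h0 := Groth.Agent.Lib.Helper3.GrpFlat.flat_stalkMap_of_flat_of_fiberMap' u.left H.hom s z₀
    (Flat.stalkMap (u.left ≫ H.hom) _) hfib
  rw [hz1] at h0
  have hx₀s : G.hom x₀ = s := by
    rw [← hw, Scheme.Hom.comp_apply, hx₀]
    have : fibι H s ξ ∈ Set.range (fibι H s) := ⟨ξ, rfl⟩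
    rw [range_fibι] at this
    exact this
  exact (Groth.Agent.Lib.Helper3.GrpFlat.flat_hom_iff_of_base_eq G H u x x₀
    (by rw [← hs, hx₀s])).mpr h0

end base

end Groth.Agent.R2.H24.FlatNeutral
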