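import Mathlib
import Groth.Prelude.Def_ActBC
import Groth.Agent.Lib.Helper25IdCompScheme
import Groth.Agent.Lib.Helper25IdCompGeom
import Groth.Agent.Lib.Helper25OrbitLC
import Groth.Agent.Lib.Helper11Orbit
import Groth.Agent.Lib.Helper2SpecClosure
import Groth.Agent.R2.H24BcGrp
import Groth.Agent.R2.H24MaxOpen

/-!
# Homogeneous spaces over a field without finiteness hypotheses (SGA3 VI_A 2.6)

`orb a A B` is the set `A · B ⊆ X` for an action `a` of `G` on `X`.  Over a field, with
`N = connectedComponent (ePt G)` the neutral component, the main theorem is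
`specializes_mem_orb`: if `G × X → X × X` is surjective and `u ⤳ y` in `X` then `u ∈ N · y`.
-/

set_option autoImplicit false

universe u

open CategoryTheory CategoryTheory.Limits MonoidalCategory CartesianMonoidalCategory MonObj GrpObj
  AlgebraicGeometry

namespace Groth.Agent.R2.H24.Homog

open Groth.Agent.Lib.Helper25.TopGrp Groth.Agent.Lib.Helper25.IdComp
  Groth.Agent.Lib.Helper25.IdComp0 Groth.Agent.Lib.Helper25.OrbitLC AlgGrp AlgGrp.Action

section orb

variable {S : Scheme.{u}} {G X : Over S} [GrpObj G] (a : AlgGrp.Action G X)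

/-- the set `A · B` of points of `X` of the form `g · x` with `g` over `A` and `x` over `B`. -/
def orb (A : Set G.left) (B : Set X.left) : Set X.left :=
  a.act.left '' ((fst G X).left ⁻¹' A ∩ (snd G X).left ⁻¹' B)

variable {a}

lemma mem_orb_iff {A : Set G.left} {B : Set X.left} {y : X.left} :
    y ∈ orb a A B ↔ ∃ (T : Over S) (g : T ⟶ G) (x : T ⟶ X) (t : T.left),
      g.left t ∈ A ∧ x.left t ∈ B ∧ (lift g x ≫ a.act).left t = y := by
  constructor
  · rintro ⟨w, ⟨h1, h2⟩, rfl⟩
    refine ⟨G ⊗ X, fst G X, snd G X, w, h1, h2, ?_⟩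
    rw [lift_fst_snd, Category.id_comp]
  · rintro ⟨T, g, x, t, h1, h2, rfl⟩
    refine ⟨(lift g x).left t, ⟨?_, ?_⟩, ?_⟩
    · change ((lift g x).left ≫ (fst G X).left) t ∈ A
      rw [← Over.comp_left, lift_fst]; exact h1
    · change ((lift g x).left ≫ (snd G X).left) t ∈ B
      rw [← Over.comp_left, lift_snd]; exact h2
    · rfl

lemma orb_mono {A A' : Set G.left} {B B' : Set X.left} (hA : A ⊆ A') (hB : B ⊆ B') :
    orb a A B ⊆ orb a A' B' :=
  Set.image_mono (Set.inter_subset_inter (Set.preimage_mono hA) (Set.preimage_mono hB))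

lemma orb_eq_iUnion (A : Set G.left) (B : Set X.left) :
    orb a A B = ⋃ b ∈ B, orb a A {b} := by
  ext y
  simp only [Set.mem_iUnion]
  constructor
  · rintro ⟨w, ⟨h1, h2⟩, rfl⟩
    exact ⟨(snd G X).left w, h2, w, ⟨h1, rfl⟩, rfl⟩
  · rintro ⟨b, hb, w, ⟨h1, h2⟩, rfl⟩
    refine ⟨w, ⟨h1, ?_⟩, rfl⟩
    rw [Set.mem_preimage, Set.mem_singleton_iff.mp h2]; exact hb

/-- `orb` through a morphism `i : H ⟶ G` with range `A`. -/
lemma orb_range_eq {H : Over S} (i : H ⟶ G) (B : Set X.left) :
    orb a (Set.range i.left) B = ((i ▷ X) ≫ a.act).left '' ((snd H X).left ⁻¹' B) := by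
  ext y
  constructor
  · rintro ⟨w, ⟨h1, h2⟩, rfl⟩
    have hw : w ∈ Set.range (i ⊗ₘ 𝟙 X).left := by
      rw [range_tensorHom]
      refine ⟨h1, ?_⟩
      rw [Over.id_left]
      exact ⟨(snd G X).left w, rfl⟩
    obtain ⟨v, rfl⟩ := hw
    refine ⟨v, ?_, ?_⟩
    · rw [Set.mem_preimage] at h2 ⊢
      have : ((i ⊗ₘ 𝟙 X) ≫ snd G X).left v = (snd H X).left v := by
        rw [tensorHom_snd, Category.comp_id]
      rw [← this]; exact h2
    · rw [← tensorHom_id]; rfl
  · rintro ⟨v, hv, rfl⟩
    refine ⟨(i ▷ X).left v, ⟨?_, ?_⟩, rfl⟩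
    · change ((i ▷ X) ≫ fst G X).left v ∈ Set.range i.left
      rw [whiskerRight_fst]; exact ⟨_, rfl⟩
    · change ((i ▷ X) ≫ snd G X).left v ∈ B
      rw [whiskerRight_snd]; exact hv

lemma orb_range_range {H Y : Over S} (i : H ⟶ G) (j : Y ⟶ X) :
    orb a (Set.range i.left) (Set.range j.left) = Set.range ((i ⊗ₘ j) ≫ a.act).left := by
  rw [orb, ← range_tensorHom, Over.comp_left, Scheme.Hom.comp_base, TopCat.coe_comp,
    Set.range_comp]

end orb

section field

variable {k : Type u} [Field k] {G X : Over (Spec (CommRingCat.of k))} [GrpObj G]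
  (a : AlgGrp.Action G X)

variable (G) in
/-- the neutral component of `G` as a set. -/
abbrev N : Set G.left := connectedComponent (ePt G)

lemma N_eq_range : N G = Set.range (G0incl G).left := (range_G0incl_left G).symm

lemma ePt_mem_N : ePt G ∈ N G := mem_connectedComponent

lemma inv_mem_N {T : Over (Spec (CommRingCat.of k))} (g : T ⟶ G) (t : T.left)
    (hg : g.left t ∈ N G) : (g⁻¹).left t ∈ N G := by
  rw [N_eq_range] at hg
  obtain ⟨v, hv⟩ := hg
  apply range_inv_subset G
  refine ⟨v, ?_⟩
  rw [Over.comp_left, Scheme.Hom.comp_apply, hv, Hom.inv_def, Over.comp_left,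
    Scheme.Hom.comp_apply]

lemma mul_mem_N {T : Over (Spec (CommRingCat.of k))} (g h : T ⟶ G) (t : T.left)
    (hg : g.left t ∈ N G) (hh : h.left t ∈ N G) : (g * h).left t ∈ N G := by
  have h1 := mul_left_apply_mem_pmul g h t hg hh
  rw [N_eq_range, pmul_range_range] at h1
  exact range_mul_subset G h1

variable {a}

lemma self_mem_orb (y : X.left) : y ∈ orb a (N G) {y} := by
  refine mem_orb_iff.mpr ⟨X, 1, 𝟙 X, y, ?_, rfl, ?_⟩
  · rw [one_left_apply]; exact ePt_mem_N
  · rw [lift_one_act]; rfl

lemma mem_orb_symm {u y : X.left} (h : u ∈ orb a (N G) {y}) : y ∈ orb a (N G) {u} := by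
  obtain ⟨T, g, x, t, h1, h2, h3⟩ := mem_orb_iff.mp h
  refine mem_orb_iff.mpr ⟨T, g⁻¹, lift g x ≫ a.act, t, inv_mem_N g t h1, h3, ?_⟩
  rw [← lift_mul_act, inv_mul_cancel, lift_one_act]
  exact h2

lemma mem_orb_trans {v u y : X.left} (h1 : v ∈ orb a (N G) {u}) (h2 : u ∈ orb a (N G) {y}) :
    v ∈ orb a (N G) {y} := by
  obtain ⟨T₁, g₁, x₁, t₁, ha1, hb1, hc1⟩ := mem_orb_iff.mp h1
  obtain ⟨T₂, g₂, x₂, t₂, ha2, hb2, hc2⟩ := mem_orb_iff.mp h2
  obtain ⟨T, f₁, f₂, t, rfl, rfl, hf⟩ := exists_refinement x₁ (lift g₂ x₂ ≫ a.act) t₁ t₂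
    (by rw [hc2]; exact hb1)
  refine mem_orb_iff.mpr ⟨T, (f₁ ≫ g₁) * (f₂ ≫ g₂), f₂ ≫ x₂, t, ?_, ?_, ?_⟩
  · apply mul_mem_N
    · rw [Over.comp_left, Scheme.Hom.comp_apply]; exact ha1
    · rw [Over.comp_left, Scheme.Hom.comp_apply]; exact ha2
  · rw [Over.comp_left, Scheme.Hom.comp_apply]; exact hb2
  · rw [lift_mul_act, ← comp_lift_assoc, ← hf, ← comp_lift_assoc, Over.comp_left,
      Scheme.Hom.comp_apply]
    exact hc1

lemma isIrreducible_orb_singleton (y : X.left) : IsIrreducible (orb a (N G) {y}) := by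
  rw [N_eq_range, ← range_ptHom y, orb_range_range]
  have hirr : IrreducibleSpace (G0 G ⊗ ptObj y).left := by
    have : UniversallyOpen (G0 G).hom := inferInstance
    exact inferInstanceAs (IrreducibleSpace ↥(pullback (G0 G).hom (ptObj y).hom))
  rw [← Set.image_univ]
  exact (IrreducibleSpace.isIrreducible_univ _).image _
    ((G0incl G ⊗ₘ ptHom y) ≫ a.act).left.continuous.continuousOn

lemma isOpen_orb (U : Set X.left) (hU : IsOpen U) : IsOpen (orb a (N G) U) := by
  rw [N_eq_range, orb_range_eq]
  have e : (G0incl G ▷ X) ≫ a.act = Groth.Agent.Lib.Helper25.OrbitLC.trans a (G0incl G) := by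
    rw [Groth.Agent.Lib.Helper25.OrbitLC.trans]
    congr 1
  rw [e]
  exact isOpenMap_trans a (G0incl G) _ (hU.preimage (snd (G0 G) X).left.continuous)

end field

section classes

variable {Ω : Type u} [Field Ω] [IsAlgClosed Ω] {H : Over (Spec (CommRingCat.of Ω))} [GrpObj H]

lemma inv_left_apply' {S : Scheme.{u}} {H : Over S} [GrpObj H] {T : Over S} (v : T ⟶ H)
    (t : T.left) : (v⁻¹).left t = ι[H].left (v.left t) := by
  rw [Hom.inv_def, Over.comp_left, Scheme.Hom.comp_apply]

/-- over an algebraically closed field, a generization `g'` of `g` is of the form `z · g` with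
`z` in the identity component. -/
lemma exists_mul_of_specializes {g' g : H.left} (h : g' ⤳ g) :
    ∃ (T : Over (Spec (CommRingCat.of Ω))) (z u : T ⟶ H) (t : T.left),
      z.left t ∈ idComp H ∧ u.left t = g ∧ (z * u).left t = g' := by
  have h' : ι[H].left g' ⤳ ι[H].left g := h.map ι[H].left.continuous
  obtain ⟨M, hM, hsub⟩ := exists_mem_irreducibleComponents_subset_of_isIrreducible _
    (isIrreducible_singleton (x := ι[H].left g')).closure
  have hg'M : ι[H].left g' ∈ M := hsub (subset_closure rfl)
  have hgM : ι[H].left g ∈ M := hsub h'.mem_closure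
  have hs := sat_singleton_eq hM hgM
  have hmem : ι[H].left g' ∈ sat ({ι[H].left g} : Set H.left) := hs ▸ hg'M
  obtain ⟨T, u, z, t, h1, h2, h3⟩ := mem_sat_iff.mp hmem
  rw [Set.mem_singleton_iff] at h1
  refine ⟨T, z⁻¹, u⁻¹, t, ?_, ?_, ?_⟩
  · exact mem_ptSubgroup.mp (inv_mem h2)
  · have e : ((u⁻¹)⁻¹).left t = u.left t := by rw [_root_.inv_inv]
    rw [inv_left_apply', inv_left_apply', h1] at e
    have e2 : ((ptHom g)⁻¹⁻¹).left = (ptHom g).left := by rw [_root_.inv_inv]
    obtain ⟨p₀⟩ : Nonempty (ptObj g).left := inferInstance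
    have e3 := congrArg (fun φ : (ptObj g).left ⟶ H.left => φ p₀) e2
    simp only [inv_left_apply', ptHom_left_apply] at e3
    rw [inv_left_apply', h1]
    exact e3
  · have e1 : z⁻¹ * u⁻¹ = (u * z)⁻¹ := by rw [_root_.mul_inv_rev]
    rw [e1, inv_left_apply', h3]
    have e2 : ((ptHom g')⁻¹⁻¹).left = (ptHom g').left := by rw [_root_.inv_inv]
    obtain ⟨p₀⟩ : Nonempty (ptObj g').left := inferInstance
    have e3 := congrArg (fun φ : (ptObj g').left ⟶ H.left => φ p₀) e2
    simp only [inv_left_apply', ptHom_left_apply] at e3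
    exact e3

end classes

section geompt

open Groth.Agent.Lib.Helper11SchImage Groth.Agent.Lib.Helper11Orbit Groth.Agent.Lib.Helper11Homog

variable {k : Type u} [Field k] {G X : Over (Spec (CommRingCat.of k))} [GrpObj G]
  (a : AlgGrp.Action G X)

lemma exists_act_eq (hΦ : Surjective (lift a.act (snd G X)).left) (y ξ : X.left) :
    ∃ z : (G ⊗ X).left, a.act.left z = y ∧ (snd G X).left z = ξ := by
  obtain ⟨w, hw1, hw2⟩ := exists_tensor_point X X y ξ
  obtain ⟨z, hz⟩ := hΦ.surj w
  refine ⟨z, ?_, ?_⟩
  · have e : a.act.left z = ((lift a.act (snd G X)) ≫ fst X X).left z := by rw [lift_fst]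
    rw [e, Over.comp_left, Scheme.Hom.comp_apply, hz, hw1]
  · have e : (snd G X).left z = ((lift a.act (snd G X)) ≫ snd X X).left z := by rw [lift_snd]
    rw [e, Over.comp_left, Scheme.Hom.comp_apply, hz, hw2]

variable (ξ : X.left)

/-- the algebraic closure of the residue field at `ξ`. -/
abbrev Om : Type u := AlgebraicClosure (X.left.residueField ξ)

/-- the geometric point over `ξ`. -/
noncomputable def geomPt : Spec (CommRingCat.of (Om ξ)) ⟶ X.left :=
  Spec.map (CommRingCat.ofHom (algebraMap (X.left.residueField ξ) (Om ξ))) ≫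
    X.left.fromSpecResidueField ξ

lemma geomPt_apply (p : Spec (CommRingCat.of (Om ξ))) : geomPt ξ p = ξ := by
  rw [geomPt, Scheme.Hom.comp_apply]
  exact Scheme.fromSpecResidueField_apply _ _

/-- the structure morphism of the geometric point. -/
noncomputable def sΩ : Spec (CommRingCat.of (Om ξ)) ⟶ Spec (CommRingCat.of k) :=
  geomPt ξ ≫ X.hom

/-- the geometric point as an object over `k`. -/
noncomputable def PΩ : Over (Spec (CommRingCat.of k)) := Over.mk (sΩ ξ)

/-- the geometric point as a morphism over `k`. -/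
noncomputable def pΩ : PΩ ξ ⟶ X := Over.homMk (geomPt ξ) rfl

/-- the geometric point maps to the point. -/
noncomputable def rΩ : PΩ ξ ⟶ ptObj ξ :=
  Over.homMk (Spec.map (CommRingCat.ofHom (algebraMap (X.left.residueField ξ) (Om ξ))))
    (Category.assoc _ _ _).symm

lemma rΩ_ptHom : rΩ ξ ≫ ptHom ξ = pΩ ξ := by
  ext
  rfl

lemma range_pΩ : Set.range (pΩ ξ).left = {ξ} := by
  ext x
  constructor
  · rintro ⟨p, rfl⟩
    exact geomPt_apply ξ p
  · intro hx
    rw [Set.mem_singleton_iff] at hx
    obtain ⟨p⟩ : Nonempty (Spec (CommRingCat.of (Om ξ))) := inferInstance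
    exact ⟨p, (geomPt_apply ξ p).trans hx.symm⟩

instance : Flat (rΩ ξ).left := by
  change Flat (Spec.map (CommRingCat.ofHom (algebraMap (X.left.residueField ξ) (Om ξ))))
  rw [Flat.SpecMap_iff]
  exact flat_of_isField_source _ (Field.toIsField _)

/-- the orbit map of the geometric point over a maximal point is generalizing. -/
lemma exists_specializes_orbit (hξ : IsMaxPt ξ) (t : (G ⊗ PΩ ξ).left) (x' : X.left)
    (h : x' ⤳ ((G ◁ pΩ ξ) ≫ a.act).left t) :
    ∃ t' : (G ⊗ PΩ ξ).left, t' ⤳ t ∧ ((G ◁ pΩ ξ) ≫ a.act).left t' = x' := by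
  have hGflat : Flat G.hom := inferInstance
  have hflat : Flat a.act.left := flat_act_left a
  have hgen := Flat.generalizingMap a.act.left
  obtain ⟨w', hw', hw'a⟩ := hgen (a := (G ◁ pΩ ξ).left t) (b := x') h
  have hsw : (snd G X).left ((G ◁ pΩ ξ).left t) = ξ := by
    have e : (snd G X).left ((G ◁ pΩ ξ).left t) = ((G ◁ pΩ ξ) ≫ snd G X).left t := rfl
    rw [e, whiskerLeft_snd, Over.comp_left, Scheme.Hom.comp_apply]
    exact geomPt_apply ξ _
  have hsw' : (snd G X).left w' = ξ :=
    hξ _ (hsw ▸ hw'.map (snd G X).left.continuous)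
  have hw'r : w' ∈ Set.range (G ◁ ptHom ξ).left := by
    rw [range_whiskerLeft, range_ptHom]; exact hsw'
  obtain ⟨s', rfl⟩ := hw'r
  have hpre : IsPreimmersion (G ◁ ptHom ξ).left :=
    Groth.Agent.R2.H24.MaxOpen.whiskerLeft_left_mem @IsPreimmersion G (ptHom ξ)
      (inferInstanceAs (IsPreimmersion (X.left.fromSpecResidueField ξ)))
  have hw : (G ◁ pΩ ξ).left t = (G ◁ ptHom ξ).left ((G ◁ rΩ ξ).left t) := by
    rw [← Scheme.Hom.comp_apply, ← Over.comp_left, ← MonoidalCategory.whiskerLeft_comp, rΩ_ptHom]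
  rw [hw] at hw'
  have hs' : s' ⤳ (G ◁ rΩ ξ).left t :=
    ((G ◁ ptHom ξ).left.isEmbedding.isInducing.specializes_iff).mp hw'
  have hflat2 : Flat (G ◁ rΩ ξ).left := flat_whiskerLeft_left G (rΩ ξ)
  obtain ⟨t', ht', ht's⟩ := Flat.generalizingMap (G ◁ rΩ ξ).left hs'
  refine ⟨t', ht', ?_⟩
  rw [Over.comp_left, Scheme.Hom.comp_apply, ← hw'a]
  congr 1
  rw [← ht's, ← Scheme.Hom.comp_apply, ← Over.comp_left, ← MonoidalCategory.whiskerLeft_comp,
    rΩ_ptHom]

open Groth.Agent.R2.H24.BcGrp in
lemma proj_image_idComp_subset {Ω : Type u} [Field Ω] [IsAlgClosed Ω]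
    (f : Spec (CommRingCat.of Ω) ⟶ Spec (CommRingCat.of k)) :
    proj f G '' idComp (Red.bc f G) ⊆ N G := by
  apply IsPreconnected.subset_connectedComponent
  · exact (isIrreducible_idComp (Red.bc f G)).2.isPreconnected.image _
      (proj f G).continuous.continuousOn
  · refine ⟨ePt (Red.bc f G), ePt_mem_idComp _, ?_⟩
    rw [ePt, ← Scheme.Hom.comp_apply, one_left_proj, Scheme.Hom.comp_apply, ePt]
    congr 1
    exact Subsingleton.elim (α := Spec (CommRingCat.of k)) _ _

open Groth.Agent.R2.H24.BcGrp in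
/-- **Key theorem.** For a homogeneous space `X` under a group scheme `G` over a field (no
finiteness hypotheses): if `u ⤳ y` in `X` then `u` lies in the orbit of `y` under the neutral
component. -/
theorem specializes_mem_orb (hΦ : Surjective (lift a.act (snd G X)).left) {u y : X.left}
    (h : u ⤳ y) : u ∈ orb a (N G) {y} := by
  obtain ⟨ξ, hξ, -⟩ := exists_isMaxPt_specializes X.left y
  obtain ⟨w, hw1, hw2⟩ := exists_act_eq a hΦ y ξ
  have hw : w ∈ Set.range (G ◁ pΩ ξ).left := by
    rw [range_whiskerLeft, range_pΩ]; exact hw2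
  obtain ⟨t, rfl⟩ := hw
  have hρt : ((G ◁ pΩ ξ) ≫ a.act).left t = y := hw1
  obtain ⟨t', ht', hρt'⟩ := exists_specializes_orbit a ξ hξ t u (by rw [hρt]; exact h)
  -- the group over the algebraic closure
  obtain ⟨T, z, v, τ, hzN, hv, hzv⟩ :=
    exists_mul_of_specializes (H := Red.bc (sΩ ξ) G) (g' := t') (g := t) ht'
  let adj := (Over.mapPullbackAdj (sΩ ξ)).homEquiv T G
  let z' : (Over.map (sΩ ξ)).obj T ⟶ G := adj.symm z
  let v' : (Over.map (sΩ ξ)).obj T ⟶ G := adj.symm v
  let π : (Over.map (sΩ ξ)).obj T ⟶ PΩ ξ := Over.homMk T.hom rfl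
  have hmul : z' * v' = adj.symm (z * v) := by
    rw [Equiv.eq_symm_apply]
    simp only [adj, z', v']
    rw [AlgGrp.Action.homEquiv_mul, Equiv.apply_symm_apply, Equiv.apply_symm_apply]
  have key : ∀ (q : T ⟶ Red.bc (sΩ ξ) G), (lift (adj.symm q) π).left = q.left := by
    intro q
    apply pullback.hom_ext
    · have e1 : (lift (adj.symm q) π).left ≫ pullback.fst G.hom (PΩ ξ).hom =
          (lift (adj.symm q) π ≫ fst G (PΩ ξ)).left := rfl
      rw [e1, lift_fst]
      rfl
    · have e1 : (lift (adj.symm q) π).left ≫ pullback.snd G.hom (PΩ ξ).hom =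
          (lift (adj.symm q) π ≫ snd G (PΩ ξ)).left := rfl
      rw [e1, lift_snd]
      exact (Over.w q).symm
  have hy : (lift v' (π ≫ pΩ ξ) ≫ a.act).left τ = y := by
    have e : lift v' (π ≫ pΩ ξ) ≫ a.act = lift v' π ≫ (G ◁ pΩ ξ) ≫ a.act := by
      rw [lift_whiskerLeft_assoc]
    rw [e, Over.comp_left, Scheme.Hom.comp_apply, key v]
    exact (congrArg (fun s => ((G ◁ pΩ ξ) ≫ a.act).left s) hv).trans hρt
  have hu : (lift z' (lift v' (π ≫ pΩ ξ) ≫ a.act) ≫ a.act).left τ = u := by
    rw [← lift_mul_act, hmul]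
    have e : lift (adj.symm (z * v)) (π ≫ pΩ ξ) ≫ a.act =
        lift (adj.symm (z * v)) π ≫ (G ◁ pΩ ξ) ≫ a.act := by
      rw [lift_whiskerLeft_assoc]
    rw [e, Over.comp_left, Scheme.Hom.comp_apply, key (z * v)]
    exact (congrArg (fun s => ((G ◁ pΩ ξ) ≫ a.act).left s) hzv).trans hρt'
  refine mem_orb_iff.mpr ⟨_, z', lift v' (π ≫ pΩ ξ) ≫ a.act, τ, ?_, hy, hu⟩
  apply proj_image_idComp_subset (sΩ ξ)
  exact ⟨z.left τ, hzN, rfl⟩

end geompt

section main

variable {k : Type u} [Field k] {G X : Over (Spec (CommRingCat.of k))} [GrpObj G]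
  {a : AlgGrp.Action G X}

/-- an irreducible component of `G` through the unit point is the neutral component. -/
lemma eq_N_of_mem_irreducibleComponents {C0 : Set G.left}
    (hC0 : C0 ∈ irreducibleComponents ↥G.left)
    (pt : ↥(𝟙_ (Over (Spec (CommRingCat.of k)))).left) (he : η[G].left.base pt ∈ C0) :
    C0 = N G := by
  apply eq_connectedComponent_of_mem_irreducibleComponents hC0
  have : ePt G = η[G].left.base pt := by
    rw [ePt]
    congr 1
    exact Subsingleton.elim (α := Spec (CommRingCat.of k)) _ _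
  rw [this]; exact he

lemma orb_singleton_subset_of_mem {Z : Set X.left} (hZ : Z ∈ irreducibleComponents ↥X.left)
    (hΦ : Surjective (lift a.act (snd G X)).left) {y : X.left} (hy : y ∈ Z) :
    orb a (N G) {y} ⊆ Z := by
  -- the generic point of `Z` lies in the orbit, so the closure of the orbit contains `Z`
  have hZcl := isClosed_of_mem_irreducibleComponents _ hZ
  have hξ : IsGenericPoint hZ.1.genericPoint Z := hZ.1.isGenericPoint_genericPoint hZcl
  have hξy : hZ.1.genericPoint ⤳ y := hξ.specializes hy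
  have hmem := specializes_mem_orb a hΦ hξy
  have hirr : IsIrreducible (closure (orb a (N G) {y})) := (isIrreducible_orb_singleton y).closure
  have hsub : Z ⊆ closure (orb a (N G) {y}) := by
    rw [← hξ.def]
    exact closure_mono (Set.singleton_subset_iff.mpr hmem)
  have := hZ.2 hirr hsub
  exact subset_closure.trans this

/-- every point of a homogeneous space lies on a unique irreducible component. -/
theorem irreducibleComponent_unique (hΦ : Surjective (lift a.act (snd G X)).left)
    {Z₁ Z₂ : Set X.left} (h₁ : Z₁ ∈ irreducibleComponents ↥X.left)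
    (h₂ : Z₂ ∈ irreducibleComponents ↥X.left) {y : X.left} (hy₁ : y ∈ Z₁) (hy₂ : y ∈ Z₂) :
    Z₁ = Z₂ := by
  have key : ∀ {Z : Set X.left} (hZ : Z ∈ irreducibleComponents ↥X.left), y ∈ Z →
      Z = closure (orb a (N G) {y}) := by
    intro Z hZ hy
    have hZcl := isClosed_of_mem_irreducibleComponents _ hZ
    have hξ : IsGenericPoint hZ.1.genericPoint Z := hZ.1.isGenericPoint_genericPoint hZcl
    have hmem := specializes_mem_orb a hΦ (hξ.specializes hy)
    have hirr : IsIrreducible (closure (orb a (N G) {y})) :=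
      (isIrreducible_orb_singleton y).closure
    have hsub : Z ⊆ closure (orb a (N G) {y}) := by
      rw [← hξ.def]
      exact closure_mono (Set.singleton_subset_iff.mpr hmem)
    exact le_antisymm hsub (hZ.2 hirr hsub)
  rw [key h₁ hy₁, key h₂ hy₂]

/-- SGA3 VI_A 2.6.x (i): `G⁰ · U` is the union of the irreducible components of `X` whose generic
point lies in `U`. -/
theorem orb_eq_sUnion (hΦ : Surjective (lift a.act (snd G X)).left) (U : Set X.left)
    (hU : IsOpen U) :
    orb a (N G) U = ⋃₀ {Z : Set X.left | Z ∈ irreducibleComponents ↥X.left ∧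
      ∃ ξ ∈ U, closure {ξ} = Z} := by
  apply le_antisymm
  · intro y hy
    rw [orb_eq_iUnion] at hy
    simp only [Set.mem_iUnion] at hy
    obtain ⟨u, huU, hyu⟩ := hy
    obtain ⟨Z, hZ, hsub⟩ := exists_mem_irreducibleComponents_subset_of_isIrreducible _
      (isIrreducible_orb_singleton (a := a) u)
    have hZcl := isClosed_of_mem_irreducibleComponents _ hZ
    have hξ : IsGenericPoint hZ.1.genericPoint Z := hZ.1.isGenericPoint_genericPoint hZcl
    refine ⟨Z, ⟨hZ, hZ.1.genericPoint, ?_, hξ.def⟩, hsub hyu⟩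
    exact (hξ.mem_open_set_iff hU).mpr ⟨u, hsub (self_mem_orb u), huU⟩
  · rintro y ⟨Z, ⟨hZ, ξ, hξU, rfl⟩, hy⟩
    have hsp : ξ ⤳ y := specializes_iff_mem_closure.mpr hy
    have h1 := mem_orb_symm (specializes_mem_orb a hΦ hsp)
    exact orb_mono subset_rfl (Set.singleton_subset_iff.mpr hξU) h1

lemma orb_subset_closure (U : Set X.left) (hU : IsOpen U) : orb a (N G) U ⊆ closure U := by
  intro y hy
  rw [orb_eq_iUnion] at hy
  simp only [Set.mem_iUnion] at hy
  obtain ⟨u, huU, hyu⟩ := hy
  rw [mem_closure_iff]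
  intro W hW hyW
  obtain ⟨x, hxO, hxW, hxU⟩ := (isIrreducible_orb_singleton (a := a) u).2 W U hW hU
    ⟨y, hyu, hyW⟩ ⟨u, self_mem_orb u, huU⟩
  exact ⟨x, hxW, hxU⟩

/-- SGA3 VI_A 2.6.x (ii): for `U` retrocompact open, `G⁰ · U` is the closure of `U`. -/
theorem orb_eq_closure (hΦ : Surjective (lift a.act (snd G X)).left) (U : X.left.Opens)
    (hr : IsRetrocompact (U : Set X.left)) : orb a (N G) (U : Set X.left) = closure U := by
  apply le_antisymm (orb_subset_closure _ U.isOpen)
  intro y hy
  have hqc : QuasiCompact U.ι :=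
    quasiCompact_iff_isSpectralMap.mpr (IsRetrocompact_iff_isSpectralMap_subtypeVal.mp hr)
  have hy' : y ∈ closure (Set.range U.ι) := by rwa [Scheme.Opens.range_ι]
  obtain ⟨x, hx⟩ := Groth.Agent.Lib.Helper2.SpecClosure.exists_specializes_of_mem_closure_range U.ι y hy'
  have h1 := mem_orb_symm (specializes_mem_orb a hΦ hx)
  exact orb_mono subset_rfl (Set.singleton_subset_iff.mpr x.2) h1

/-- the orbit of a point under the neutral component is quasi-compact. -/
lemma isCompact_orb_singleton (y : X.left) : IsCompact (orb a (N G) {y}) := by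
  rw [N_eq_range, ← range_ptHom y, orb_range_range]
  have hqc : QuasiCompact (G0 G).hom := inferInstance
  have hc : CompactSpace (G0 G ⊗ ptObj y).left :=
    inferInstanceAs (CompactSpace ↥(pullback (G0 G).hom (ptObj y).hom))
  rw [← Set.image_univ]
  exact isCompact_univ.image ((G0incl G ⊗ₘ ptHom y) ≫ a.act).left.continuous

/-- an irreducible homogeneous space is the orbit of its generic point under the neutral
component; in particular it is quasi-compact. -/
theorem compactSpace_of_irreducibleSpace (hΦ : Surjective (lift a.act (snd G X)).left)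
    [IrreducibleSpace X.left] : CompactSpace X.left := by
  have hξ : IsGenericPoint (genericPoint X.left) (Set.univ : Set X.left) := genericPoint_spec _
  have huniv : (Set.univ : Set X.left) = orb a (N G) {genericPoint X.left} := by
    apply le_antisymm _ (Set.subset_univ _)
    intro y _
    exact mem_orb_symm (specializes_mem_orb a hΦ (hξ.specializes (Set.mem_univ y)))
  rw [← isCompact_univ_iff, huniv]
  exact isCompact_orb_singleton _

/-- the irreducible component of a point of a homogeneous space is its orbit under the neutral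
component. -/
theorem irreducibleComponent_eq_orb (hΦ : Surjective (lift a.act (snd G X)).left) (y : X.left) :
    irreducibleComponent y = orb a (N G) {y} := by
  have hM := irreducibleComponent_mem_irreducibleComponents y
  apply le_antisymm _ (orb_singleton_subset_of_mem hM hΦ mem_irreducibleComponent)
  intro z hz
  have hξ : IsGenericPoint hM.1.genericPoint (irreducibleComponent y) :=
    hM.1.isGenericPoint_genericPoint isClosed_irreducibleComponent
  have h1 := mem_orb_symm (specializes_mem_orb a hΦ (hξ.specializes hz))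
  have h2 := specializes_mem_orb a hΦ (hξ.specializes mem_irreducibleComponent)
  exact mem_orb_trans h1 h2

/-- SGA3 VI_A 2.6.x: in a quasi-separated homogeneous space the connected components are
irreducible. -/
theorem connectedComponent_eq_irreducibleComponent
    (hΦ : Surjective (lift a.act (snd G X)).left) [QuasiSeparatedSpace X.left] (x : X.left) :
    connectedComponent x = irreducibleComponent x := by
  apply le_antisymm
  · intro y hy
    by_contra hyM
    have hM := irreducibleComponent_mem_irreducibleComponents x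
    have hM' := irreducibleComponent_mem_irreducibleComponents y
    have hξ : IsGenericPoint hM.1.genericPoint (irreducibleComponent x) :=
      hM.1.isGenericPoint_genericPoint isClosed_irreducibleComponent
    set ξ := hM.1.genericPoint with hξdef
    have hξM : ξ ∈ irreducibleComponent x := hξ.mem
    have hξM' : ξ ∉ irreducibleComponent y := by
      intro h
      have := irreducibleComponent_unique hΦ hM hM' hξM h
      exact hyM (this ▸ mem_irreducibleComponent)
    obtain ⟨_, ⟨(U : X.left.Opens), hU, rfl⟩, hξU, hUsub⟩ :=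
      (X.left.isBasis_affineOpens).exists_subset_of_mem_open
        (show ξ ∈ (irreducibleComponent y)ᶜ from hξM') isClosed_irreducibleComponent.isOpen_compl
    have hU : IsAffineOpen U := hU
    have hr : IsRetrocompact (U : Set X.left) := fun V hVc hVo =>
      QuasiSeparatedSpace.inter_isCompact _ _ U.isOpen hU.isCompact hVo hVc
    have hW := orb_eq_closure hΦ U hr
    have hclopen : IsClopen (orb a (N G) (U : Set X.left)) :=
      ⟨hW ▸ isClosed_closure, isOpen_orb _ U.isOpen⟩
    have hxW : x ∈ orb a (N G) (U : Set X.left) := by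
      rw [hW]
      have : irreducibleComponent x ⊆ closure (U : Set X.left) := by
        rw [← hξ.def]
        exact closure_mono (Set.singleton_subset_iff.mpr hξU)
      exact this mem_irreducibleComponent
    have hyW := hclopen.connectedComponent_subset hxW hy
    rw [orb_eq_sUnion hΦ _ U.isOpen] at hyW
    obtain ⟨Z, ⟨hZ, ξ', hξ'U, rfl⟩, hyZ⟩ := hyW
    have hZM' := irreducibleComponent_unique hΦ hZ hM' hyZ mem_irreducibleComponent
    exact hUsub hξ'U (hZM' ▸ subset_closure rfl)
  · exact isIrreducible_irreducibleComponent.2.isPreconnected.subset_connectedComponent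
      mem_irreducibleComponent

lemma whiskerLeft_act_eq (x : 𝟙_ (Over (Spec (CommRingCat.of k))) ⟶ X) :
    (G ◁ x) ≫ a.act = fst G (𝟙_ _) ≫ a.orbitMap x := by
  rw [comp_orbitMap]
  congr 1
  apply CartesianMonoidalCategory.hom_ext
  · rw [whiskerLeft_fst, lift_fst]
  · rw [whiskerLeft_snd, lift_snd]
    congr 1
    exact toUnit_unique _ _

/-- the image of the neutral component under the orbit map of a rational point is the orbit. -/
lemma image_orbitMap_N (x : 𝟙_ (Over (Spec (CommRingCat.of k))) ⟶ X)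
    (pt : ↥(𝟙_ (Over (Spec (CommRingCat.of k)))).left) :
    (a.orbitMap x).left '' N G = orb a (N G) {x.left pt} := by
  have hr : Set.range x.left = {x.left pt} := by
    ext z
    constructor
    · rintro ⟨q, rfl⟩
      rw [Set.mem_singleton_iff]
      congr 1
      exact Subsingleton.elim (α := Spec (CommRingCat.of k)) _ _
    · intro hz
      exact ⟨pt, (Set.mem_singleton_iff.mp hz).symm⟩
  ext y
  constructor
  · rintro ⟨g, hg, rfl⟩
    refine mem_orb_iff.mpr ⟨G, 𝟙 G, toUnit G ≫ x, g, hg, ?_, rfl⟩
    rw [Over.comp_left, Scheme.Hom.comp_apply, Set.mem_singleton_iff]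
    congr 1
    exact Subsingleton.elim (α := Spec (CommRingCat.of k)) _ _
  · rintro ⟨w, ⟨h1, h2⟩, rfl⟩
    have hw : w ∈ Set.range (G ◁ x).left := by
      rw [range_whiskerLeft, hr]; exact h2
    obtain ⟨v, rfl⟩ := hw
    refine ⟨(fst G (𝟙_ _)).left v, ?_, ?_⟩
    · have e : (fst G (𝟙_ _)).left v = ((G ◁ x) ≫ fst G X).left v := by rw [whiskerLeft_fst]
      rw [e]; exact h1
    · have e : a.act.left ((G ◁ x).left v) = ((G ◁ x) ≫ a.act).left v := rfl
      rw [e, whiskerLeft_act_eq]
      rfl

/-- geometric irreducibility of the orbit of a rational point under the neutral component. -/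
theorem isIrreducible_preimage_orb (x : 𝟙_ (Over (Spec (CommRingCat.of k))) ⟶ X)
    (pt : ↥(𝟙_ (Over (Spec (CommRingCat.of k)))).left) {S' : Scheme.{u}} [IrreducibleSpace S']
    (f : S' ⟶ Spec (CommRingCat.of k)) :
    IsIrreducible ((pullback.fst X.hom f) ⁻¹' orb a (N G) {x.left pt}) := by
  rw [← image_orbitMap_N x pt, N_eq_range, ← Set.range_comp]
  let φ : G0 G ⟶ X := G0incl G ≫ a.orbitMap x
  have hφ : Set.range ((a.orbitMap x).left ∘ (G0incl G).left) = Set.range φ.left := by
    simp only [φ, Over.comp_left, Scheme.Hom.comp_base, TopCat.coe_comp]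
  rw [hφ]
  have h := Scheme.Pullback.range_map (G0 G).hom f X.hom f φ.left (𝟙 _) (𝟙 _)
    (by simp) (by simp)
  have e : (pullback.fst X.hom f) ⁻¹' Set.range φ.left =
      Set.range (pullback.map (G0 G).hom f X.hom f φ.left (𝟙 _) (𝟙 _) (by simp) (by simp)) := by
    rw [h]
    simp
  rw [e]
  have hirr : IrreducibleSpace ↥(pullback (G0 G).hom f) := by
    have : UniversallyOpen (G0 G).hom := inferInstance
    infer_instance
  rw [← Set.image_univ]
  exact (IrreducibleSpace.isIrreducible_univ _).image _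
    (Scheme.Hom.continuous _).continuousOn

end main

section basechange

variable {S S' : Scheme.{u}} (f : S' ⟶ S) {G X : Over S} [GrpObj G] (a : AlgGrp.Action G X)

omit [GrpObj G] in
/-- the base change of `u` is the base change of `u` along the projection. -/
theorem isPullback_overPullback_map' {H : Over S} (u : G ⟶ H) :
    IsPullback (pullback.fst G.hom f) ((Over.pullback f).map u).left u.left
      (pullback.fst H.hom f) := by
  have hr : IsPullback (pullback.snd H.hom f) (pullback.fst H.hom f) f H.hom :=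
    (IsPullback.of_hasPullback H.hom f).flip
  have h1 : ((Over.pullback f).map u).left ≫ pullback.snd H.hom f = pullback.snd G.hom f := by
    simp only [Over.pullback_map_left]
    exact pullback.lift_snd _ _ _
  have h2 : ((Over.pullback f).map u).left ≫ pullback.fst H.hom f =
      pullback.fst G.hom f ≫ u.left := by
    simp only [Over.pullback_map_left]
    exact pullback.lift_fst _ _ _
  have ho : IsPullback (((Over.pullback f).map u).left ≫ pullback.snd H.hom f)
      (pullback.fst G.hom f) f (u.left ≫ H.hom) := by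
    rw [h1, Over.w u]
    exact (IsPullback.of_hasPullback G.hom f).flip
  exact (IsPullback.of_right ho h2 hr).flip

/-- homogeneity is stable under base change. -/
theorem surjective_bc (hΦ : Surjective (lift a.act (snd G X)).left) :
    Surjective (lift (a.bc f).act (snd (Red.bc f G) (Red.bc f X))).left := by
  have key : lift (a.bc f).act (snd (Red.bc f G) (Red.bc f X)) ≫
        Functor.LaxMonoidal.μ (Over.pullback f) X X =
      Functor.LaxMonoidal.μ (Over.pullback f) G X ≫
        (Over.pullback f).map (lift a.act (snd G X)) := by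
    rw [← Functor.Monoidal.lift_μ, comp_lift_assoc, Functor.Monoidal.μ_snd]
    rfl
  have h1 : Surjective ((Over.pullback f).map (lift a.act (snd G X))).left :=
    MorphismProperty.of_isPullback (P := @Surjective)
      (isPullback_overPullback_map' f (lift a.act (snd G X))) hΦ
  have hiso1 : IsIso (Functor.LaxMonoidal.μ (Over.pullback f) G X).left :=
    inferInstanceAs (IsIso ((Over.forget _).map (Functor.LaxMonoidal.μ (Over.pullback f) G X)))
  have hiso2 : IsIso (Functor.LaxMonoidal.μ (Over.pullback f) X X).left :=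
    inferInstanceAs (IsIso ((Over.forget _).map (Functor.LaxMonoidal.μ (Over.pullback f) X X)))
  have h2 : Surjective (Functor.LaxMonoidal.μ (Over.pullback f) G X ≫
      (Over.pullback f).map (lift a.act (snd G X))).left := by
    rw [Over.comp_left]
    infer_instance
  rw [← key, Over.comp_left] at h2
  exact (MorphismProperty.cancel_right_of_respectsIso @Surjective _
    (Functor.LaxMonoidal.μ (Over.pullback f) X X).left).mp h2

end basechange

end Groth.Agent.R2.H24.Homog
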