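import Mathlib
import Groth.Prelude.Def_ChGrp
import Groth.Agent.Lib.Helper25IdCompGeom
import Groth.Agent.Lib.Helper25IdCompScheme
import Groth.Agent.R2.H24NeutralSet
import Groth.Agent.R2.H24MaxOpen

/-!
# Separatedness of homogeneous spaces (SGA3 VI_B 5.x) by a topological argument

`X ⟶ S` is separated iff the range of the diagonal is closed in `X ×_S X`.  For an action of `G`
on `X`, a universally open `T ⟶ S` and a point `g : T ⟶ G`, the open
`Q_U = {(t, x₁, x₂) | g(t)⁻¹ x₁ ∈ U, g(t)⁻¹ x₂ ∈ U}` of `T × X × X` (for `U` open in `X`, separated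
over `S`) meets the preimage of the closure of the diagonal only in the preimage of the diagonal
(`SepKey.mem_range_diag`).
-/

set_option autoImplicit false

universe u

open CategoryTheory CategoryTheory.Limits MonoidalCategory CartesianMonoidalCategory MonObj GrpObj
  AlgebraicGeometry

namespace Groth.Agent.R2.H24.HomogSep

open Groth.Agent.Lib.Helper25.TopGrp AlgGrp AlgGrp.Action

section diag

variable {S : Scheme.{u}} (X : Over S)

/-- the diagonal of `X` in `Over S`. -/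
noncomputable abbrev diag : X ⟶ X ⊗ X := lift (𝟙 X) (𝟙 X)

lemma diag_left : (diag X).left = pullback.diagonal X.hom := by
  apply pullback.hom_ext
  · have h1 : (diag X).left ≫ pullback.fst X.hom X.hom = (diag X ≫ fst X X).left := rfl
    rw [h1, lift_fst, pullback.diagonal_fst]; rfl
  · have h1 : (diag X).left ≫ pullback.snd X.hom X.hom = (diag X ≫ snd X X).left := rfl
    rw [h1, lift_snd, pullback.diagonal_snd]; rfl

theorem isSeparated_of_isClosed_range (h : IsClosed (Set.range (diag X).left)) :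
    IsSeparated X.hom := by
  rw [diag_left] at h
  exact ⟨IsClosedImmersion.of_isPreimmersion _ h⟩

theorem isClosed_range_diag [IsSeparated X.hom] : IsClosed (Set.range (diag X).left) := by
  rw [diag_left]
  exact (pullback.diagonal X.hom).isClosedMap.isClosed_range

lemma mem_range_diag_of_eq {T : Over S} (x₁ x₂ : T ⟶ X) (h : x₁ = x₂) (t : T.left) :
    (lift x₁ x₂).left t ∈ Set.range (diag X).left := by
  subst h
  refine ⟨x₁.left t, ?_⟩
  have : lift x₁ x₁ = x₁ ≫ diag X := by rw [comp_lift, Category.comp_id]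
  rw [this]; rfl

end diag

section sep

variable {S : Scheme.{u}} {G X : Over S} [GrpObj G] (a : AlgGrp.Action G X)

lemma tensorHom_left_eq_map {H G' H' G'' : Over S} (i : H ⟶ G') (j : H' ⟶ G'') :
    (i ⊗ₘ j).left = pullback.map H.hom H'.hom G'.hom G''.hom i.left j.left (𝟙 _)
      (by simp) (by simp) := by
  apply pullback.hom_ext
  · simp only [pullback.map]
    rw [pullback.lift_fst]
    simp
  · simp only [pullback.map]
    rw [pullback.lift_snd]
    simp

/-- for `U` open in `X` and separated over `S`, the diagonal is closed in `U ×_S U`. -/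
lemma exists_isClosed_inter (U : X.left.Opens) [IsSeparated (U.ι ≫ X.hom)] :
    ∃ C : Set (X ⊗ X).left, IsClosed C ∧
      ∀ p : (X ⊗ X).left, (fst X X).left p ∈ U → (snd X X).left p ∈ U →
        (p ∈ C ↔ p ∈ Set.range (diag X).left) := by
  let Uo : Over S := Over.mk (U.ι ≫ X.hom)
  let jU : Uo ⟶ X := Over.homMk U.ι rfl
  have hsep : IsSeparated Uo.hom := ‹IsSeparated (U.ι ≫ X.hom)›
  have hE : IsClosed (Set.range (diag Uo).left) := isClosed_range_diag Uo
  have hoi : IsOpenImmersion (jU ⊗ₘ jU).left := by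
    rw [tensorHom_left_eq_map]
    have : IsOpenImmersion jU.left := inferInstanceAs (IsOpenImmersion U.ι)
    infer_instance
  have hemb : Topology.IsEmbedding (jU ⊗ₘ jU).left := (jU ⊗ₘ jU).left.isEmbedding
  have hcomm : diag Uo ≫ (jU ⊗ₘ jU) = jU ≫ diag X := by
    rw [lift_map, comp_lift, Category.id_comp, Category.comp_id]
  have hrj : Set.range jU.left = (U : Set X.left) := Scheme.Opens.range_ι U
  refine ⟨closure ((jU ⊗ₘ jU).left '' Set.range (diag Uo).left), isClosed_closure, ?_⟩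
  intro p hp1 hp2
  have hp : p ∈ Set.range (jU ⊗ₘ jU).left := by
    rw [range_tensorHom, hrj]; exact ⟨hp1, hp2⟩
  obtain ⟨w, rfl⟩ := hp
  constructor
  · intro hw
    have hw' : w ∈ closure (Set.range (diag Uo).left) := by
      rw [hemb.closure_eq_preimage_closure_image]; exact hw
    rw [hE.closure_eq] at hw'
    obtain ⟨v, rfl⟩ := hw'
    refine ⟨jU.left v, ?_⟩
    change (jU ≫ diag X).left v = (diag Uo ≫ (jU ⊗ₘ jU)).left v
    rw [hcomm]
  · rintro ⟨x, hx⟩
    apply subset_closure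
    have hxU : x ∈ (U : Set X.left) := by
      have h1 : (fst X X).left ((diag X).left x) = x := by
        change (diag X ≫ fst X X).left x = x
        rw [lift_fst]; rfl
      rw [hx] at h1
      rw [← h1]; exact hp1
    rw [← hrj] at hxU
    obtain ⟨v, rfl⟩ := hxU
    refine ⟨(diag Uo).left v, ⟨v, rfl⟩, ?_⟩
    have h2 : (jU ⊗ₘ jU).left ((diag Uo).left v) = (diag X).left (jU.left v) := by
      change (diag Uo ≫ (jU ⊗ₘ jU)).left v = (jU ≫ diag X).left v
      rw [hcomm]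
    rw [h2, hx]

variable {T : Over S} (g : T ⟶ G)

/-- `(t, x₁, x₂) ↦ (g(t) x₁, g(t) x₂)`. -/
noncomputable def tw : T ⊗ (X ⊗ X) ⟶ X ⊗ X :=
  lift (lift (fst T (X ⊗ X) ≫ g) (snd T (X ⊗ X) ≫ fst X X) ≫ a.act)
    (lift (fst T (X ⊗ X) ≫ g) (snd T (X ⊗ X) ≫ snd X X) ≫ a.act)

/-- `(t, x₁, x₂) ↦ (t, g(t) x₁, g(t) x₂)`. -/
noncomputable def Tw : T ⊗ (X ⊗ X) ⟶ T ⊗ (X ⊗ X) := lift (fst T (X ⊗ X)) (tw a g)

lemma lift_tw {R : Over S} (t : R ⟶ T) (x₁ x₂ : R ⟶ X) :
    lift t (lift x₁ x₂) ≫ tw a g = lift (lift (t ≫ g) x₁ ≫ a.act) (lift (t ≫ g) x₂ ≫ a.act) := by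
  rw [tw, comp_lift]
  congr 1
  · rw [← Category.assoc, comp_lift, lift_fst_assoc, lift_snd_assoc, lift_fst]
  · rw [← Category.assoc, comp_lift, lift_fst_assoc, lift_snd_assoc, lift_snd]

lemma tw_one : tw a (1 : T ⟶ G) = snd T (X ⊗ X) := by
  apply hom_ext_lift₂
  intro R t p
  have hp : p = lift (p ≫ fst X X) (p ≫ snd X X) := by
    rw [← comp_lift, lift_fst_snd, Category.comp_id]
  rw [hp, lift_tw, lift_snd, MonObj.comp_one, lift_one_act, lift_one_act]

lemma Tw_tw (h : T ⟶ G) : Tw a g ≫ tw a h = tw a (h * g) := by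
  apply hom_ext_lift₂
  intro R t p
  have hp : p = lift (p ≫ fst X X) (p ≫ snd X X) := by
    rw [← comp_lift, lift_fst_snd, Category.comp_id]
  rw [hp, lift_tw, Tw, ← Category.assoc, comp_lift, lift_fst, lift_tw, lift_tw, MonObj.comp_mul,
    lift_mul_act, lift_mul_act]

/-- the twist preserves the diagonal. -/
lemma tw_mem_range_diag (q : (T ⊗ (X ⊗ X)).left)
    (hq : (snd T (X ⊗ X)).left q ∈ Set.range (diag X).left) :
    (tw a g).left q ∈ Set.range (diag X).left := by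
  have hq' : q ∈ Set.range (𝟙 T ⊗ₘ diag X).left := by
    rw [range_tensorHom]
    refine ⟨?_, hq⟩
    rw [Over.id_left]
    exact ⟨(fst T (X ⊗ X)).left q, rfl⟩
  obtain ⟨v, rfl⟩ := hq'
  have key : (𝟙 T ⊗ₘ diag X) ≫ tw a g = (lift (fst T X ≫ g) (snd T X) ≫ a.act) ≫ diag X := by
    apply hom_ext_lift₂
    intro R t x
    have h1 : lift t x ≫ lift (fst T X ≫ g) (snd T X) = lift (t ≫ g) x := by
      rw [comp_lift, lift_fst_assoc, lift_snd]
    rw [lift_map_assoc, Category.comp_id, comp_lift, Category.comp_id, lift_tw, Category.assoc,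
      reassoc_of% h1, ← Category.assoc, comp_lift, Category.comp_id]
  refine ⟨(lift (fst T X ≫ g) (snd T X) ≫ a.act).left v, ?_⟩
  change ((lift (fst T X ≫ g) (snd T X) ≫ a.act) ≫ diag X).left v = ((𝟙 T ⊗ₘ diag X) ≫ tw a g).left v
  rw [key]

lemma tw_inv_mem_range_diag_iff (q : (T ⊗ (X ⊗ X)).left) :
    (tw a g⁻¹).left q ∈ Set.range (diag X).left ↔
      (snd T (X ⊗ X)).left q ∈ Set.range (diag X).left := by
  refine ⟨fun h => ?_, tw_mem_range_diag a g⁻¹ q⟩
  have h1 : (snd T (X ⊗ X)).left ((Tw a g⁻¹).left q) ∈ Set.range (diag X).left := by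
    change (Tw a g⁻¹ ≫ snd T (X ⊗ X)).left q ∈ _
    rw [Tw, lift_snd]; exact h
  have h2 := tw_mem_range_diag a g _ h1
  change (Tw a g⁻¹ ≫ tw a g).left q ∈ _ at h2
  rwa [Tw_tw, mul_inv_cancel, tw_one] at h2

/-- **Key lemma.**  Let `T ⟶ S` be universally open, `g : T ⟶ G` and `U ⊆ X` open, separated over
`S`.  A point `q = (t, x₁, x₂)` of `T × X × X` with `g(t)⁻¹ x₁, g(t)⁻¹ x₂ ∈ U` whose image in
`X × X` lies in the closure of the diagonal has image in the diagonal. -/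
theorem mem_range_diag [UniversallyOpen T.hom] (U : X.left.Opens) [IsSeparated (U.ι ≫ X.hom)]
    (q : (T ⊗ (X ⊗ X)).left)
    (h1 : (tw a g⁻¹ ≫ fst X X).left q ∈ U) (h2 : (tw a g⁻¹ ≫ snd X X).left q ∈ U)
    (hq : (snd T (X ⊗ X)).left q ∈ closure (Set.range (diag X).left)) :
    (snd T (X ⊗ X)).left q ∈ Set.range (diag X).left := by
  obtain ⟨C, hC, hCU⟩ := exists_isClosed_inter U
  have hπ : IsOpenMap (snd T (X ⊗ X)).left := by
    have : UniversallyOpen (snd T (X ⊗ X)).left :=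
      inferInstanceAs (UniversallyOpen (pullback.snd T.hom (X ⊗ X).hom))
    exact (snd T (X ⊗ X)).left.isOpenMap
  let QU : Set (T ⊗ (X ⊗ X)).left :=
    {q' | (tw a g⁻¹ ≫ fst X X).left q' ∈ U ∧ (tw a g⁻¹ ≫ snd X X).left q' ∈ U}
  have hQU : IsOpen QU :=
    (U.isOpen.preimage (tw a g⁻¹ ≫ fst X X).left.continuous).inter
      (U.isOpen.preimage (tw a g⁻¹ ≫ snd X X).left.continuous)
  have hkey : ∀ q' ∈ QU, ((tw a g⁻¹).left q' ∈ C ↔
      (snd T (X ⊗ X)).left q' ∈ Set.range (diag X).left) := fun q' hq' =>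
    (hCU _ hq'.1 hq'.2).trans (tw_inv_mem_range_diag_iff a g q')
  have hcl : q ∈ closure ((snd T (X ⊗ X)).left ⁻¹' Set.range (diag X).left) :=
    hπ.preimage_closure_subset_closure_preimage hq
  have hcl2 : q ∈ closure (QU ∩ (snd T (X ⊗ X)).left ⁻¹' Set.range (diag X).left) :=
    hQU.inter_closure ⟨⟨h1, h2⟩, hcl⟩
  have hsub : QU ∩ (snd T (X ⊗ X)).left ⁻¹' Set.range (diag X).left ⊆ (tw a g⁻¹).left ⁻¹' C :=
    fun q' hq' => (hkey q' hq'.1).mpr hq'.2
  have hC' : IsClosed ((tw a g⁻¹).left ⁻¹' C) := hC.preimage (tw a g⁻¹).left.continuous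
  exact (hkey q ⟨h1, h2⟩).mp (closure_minimal hsub hC' hcl2)

end sep

section geomIrr

open Groth.Agent.Lib.Helper25.IdComp Groth.Agent.R2.H24.NeutralSet

variable {S : Scheme.{u}} (G : Over S) [GrpObj G]

/-- a group scheme with connected fibres is geometrically irreducible over the base. -/
theorem geometricallyIrreducible_of_connected_fibres
    (hconn : ∀ s : S, _root_.IsConnected (G.hom ⁻¹' {s})) : GeometricallyIrreducible G.hom := by
  rw [GeometricallyIrreducible.iff_geometricallyIrreducible_fiber]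
  intro s
  have hc : ConnectedSpace (fib G s).left := by
    have h1 : ConnectedSpace (Set.range (fibι G s)) := by
      rw [← isConnected_iff_connectedSpace, range_fibι]; exact hconn s
    let e := (isEmbedding_fibι G s).toHomeomorph
    exact e.symm.surjective.connectedSpace e.symm.continuous
  have hirr : IrreducibleSpace (fib G s).left := irreducibleSpace_of_connectedSpace (fib G s)
  have h := geometricallyIrreducible_component_through_unit (G := fib G s) (fib G s).left (𝟙 _)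
    (by
      rw [irreducibleComponents_eq_singleton, Set.mem_singleton_iff]
      ext x
      simp)
    ⟨ePt (fib G s), rfl⟩
  rw [Category.id_comp] at h
  exact h

end geomIrr

section irr

open Groth.Agent.Lib.Helper25.IdComp Groth.Agent.Lib.Helper25.IdComp0
  Groth.Agent.R2.H24.NeutralSet

theorem isPullback_of_comp_mono {C : Type*} [Category C] {P A B Y X : C} {fst : P ⟶ A}
    {snd : P ⟶ B} {u : A ⟶ Y} {v : B ⟶ Y} (f : Y ⟶ X) [Mono f]
    (h : IsPullback fst snd (u ≫ f) (v ≫ f)) : IsPullback fst snd u v := by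
  refine ⟨⟨by rw [← cancel_mono f, Category.assoc, Category.assoc, h.w]⟩,
    ⟨PullbackCone.IsLimit.mk _ (fun s => h.lift s.fst s.snd (by
      rw [← Category.assoc, s.condition, Category.assoc])) ?_ ?_ ?_⟩⟩
  · intro s; exact h.lift_fst _ _ _
  · intro s; exact h.lift_snd _ _ _
  · intro s m h1 h2
    apply h.hom_ext
    · rw [h1, h.lift_fst]
    · rw [h2, h.lift_snd]

variable {S : Scheme.{u}} (G : Over S) [GrpObj G]

/-- the neutral component of the fibre `G_s`, as a geometrically irreducible `κ(s)`-scheme mapping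
to `G`. -/
theorem exists_geomIrr_neutral (s : S) :
    ∃ (H : Scheme.{u}) (h : H ⟶ Spec (S.residueField s)) (c : H ⟶ G.left),
      GeometricallyIrreducible h ∧ c ≫ G.hom = h ≫ S.fromSpecResidueField s ∧
      Set.range c = connectedComponentIn (G.hom ⁻¹' {s}) (unit G s) := by
  refine ⟨G0Scheme (fib G s), G0ι (fib G s) ≫ (fib G s).hom, G0ι (fib G s) ≫ fibι G s, ?_, ?_, ?_⟩
  · exact geometricallyIrreducible_component_through_unit _ (G0ι _)
      (by rw [range_G0ι]; exact connectedComponent_mem_irreducibleComponents (fib G s))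
      (by rw [range_G0ι]; exact mem_connectedComponent)
  · rw [Category.assoc, Category.assoc]
    congr 1
    exact BcGrp.proj_hom _ G
  · rw [Scheme.Hom.comp_base, TopCat.coe_comp, Set.range_comp, range_G0ι,
      connectedComponentIn_fibre]

/-- the part of the fibre of `G ×_S P ⟶ P` over `z` lying over the neutral component is
irreducible. -/
theorem isIrreducible_fibre_neutral {P : Scheme.{u}} (p : P ⟶ S) (z : P) :
    IsIrreducible {b : ↥(pullback G.hom p) | pullback.snd G.hom p b = z ∧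
      pullback.fst G.hom p b ∈ SGA3x.neutralSet G} := by
  obtain ⟨H, h, c, hirr, hc, hrc⟩ := exists_geomIrr_neutral G (p z)
  let ζ := P.fromSpecResidueField z
  let ρ := Spec.map (p.residueFieldMap z)
  have hρ : ρ ≫ S.fromSpecResidueField (p z) = ζ ≫ p :=
    Scheme.Hom.SpecMap_residueFieldMap_fromSpecResidueField p z
  have hpb0 : IsPullback (pullback.fst (c ≫ G.hom) (ζ ≫ p)) (pullback.snd (c ≫ G.hom) (ζ ≫ p))
      (h ≫ S.fromSpecResidueField (p z)) (ρ ≫ S.fromSpecResidueField (p z)) := by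
    rw [← hc, hρ]; exact IsPullback.of_hasPullback _ _
  have hpb : IsPullback (pullback.fst (c ≫ G.hom) (ζ ≫ p)) (pullback.snd (c ≫ G.hom) (ζ ≫ p))
      h ρ := isPullback_of_comp_mono (S.fromSpecResidueField (p z)) hpb0
  have hY : IrreducibleSpace ↥(pullback (c ≫ G.hom) (ζ ≫ p)) :=
    GeometricallyIrreducible.geometrically_irreducibleSpace ρ _ _ hpb
  let m := pullback.map (c ≫ G.hom) (ζ ≫ p) G.hom p c ζ (𝟙 S) (by simp) (by simp)
  have hrm : Set.range m = pullback.fst G.hom p ⁻¹' Set.range c ∩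
      pullback.snd G.hom p ⁻¹' Set.range ζ := Scheme.Pullback.range_map _ _ _ _ _ _ _ _ _
  have hset : {b : ↥(pullback G.hom p) | pullback.snd G.hom p b = z ∧
      pullback.fst G.hom p b ∈ SGA3x.neutralSet G} = Set.range m := by
    rw [hrm, Scheme.range_fromSpecResidueField, hrc]
    ext b
    simp only [Set.mem_ofPred_eq, Set.mem_inter_iff, Set.mem_preimage, Set.mem_singleton_iff]
    have hcond : ∀ b : ↥(pullback G.hom p), G.hom (pullback.fst G.hom p b) =
        p (pullback.snd G.hom p b) := fun b => by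
      rw [← Scheme.Hom.comp_apply, ← Scheme.Hom.comp_apply, pullback.condition]
    constructor
    · rintro ⟨h1, h2⟩
      refine ⟨?_, h1⟩
      rwa [NeutralSet.mem_neutralSet_iff, hcond, h1] at h2
    · rintro ⟨h1, h2⟩
      refine ⟨h2, ?_⟩
      rwa [NeutralSet.mem_neutralSet_iff, hcond, h2]
  rw [hset, ← Set.image_univ]
  exact (IrreducibleSpace.isIrreducible_univ _).image m m.continuous.continuousOn

/-- `isIrreducible_fibre_neutral` in `Over S`. -/
theorem isIrreducible_fibre_neutral' (P : Over S) (z : P.left) :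
    IsIrreducible {b : (G ⊗ P).left | (snd G P).left b = z ∧
      (fst G P).left b ∈ SGA3x.neutralSet G} :=
  isIrreducible_fibre_neutral G P.hom z

end irr

section assembly

variable {S : Scheme.{u}} {G X : Over S} [GrpObj G] (a : AlgGrp.Action G X)

/-- `(g, x₁, x₂) ↦ g⁻¹ x₁`. -/
noncomputable abbrev αG : G ⊗ (X ⊗ X) ⟶ X := tw a (𝟙 G)⁻¹ ≫ fst X X

/-- `(g, x₁, x₂) ↦ g⁻¹ x₂`. -/
noncomputable abbrev βG : G ⊗ (X ⊗ X) ⟶ X := tw a (𝟙 G)⁻¹ ≫ snd X X

lemma whiskerRight_tw {T : Over S} (g : T ⟶ G) :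
    (g ▷ (X ⊗ X)) ≫ tw a (𝟙 G)⁻¹ = tw a g⁻¹ := by
  apply hom_ext_lift₂
  intro R t p
  have hp : p = lift (p ≫ fst X X) (p ≫ snd X X) := by
    rw [← comp_lift, lift_fst_snd, Category.comp_id]
  rw [lift_whiskerRight_assoc, hp, lift_tw, lift_tw, GrpObj.comp_inv, GrpObj.comp_inv,
    Category.comp_id]

lemma lift_one_αG : lift (1 : X ⊗ X ⟶ G) (𝟙 (X ⊗ X)) ≫ αG a = fst X X := by
  have hp : 𝟙 (X ⊗ X) = lift (fst X X) (snd X X) := lift_fst_snd.symm
  rw [hp, ← Category.assoc, lift_tw, lift_fst, GrpObj.comp_inv, Category.comp_id, inv_one,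
    AlgGrp.Action.lift_one_act]

/-- **Assembly.**  `X ⟶ S` is separated as soon as, for every point `z = (x, y)` of the closure of
the diagonal, there are an open `U ⊆ X` separated over `S` and points `g₁, g₂` of the neutral
component of the fibre of `G` over `z` with `g₁⁻¹ x ∈ U` and `g₂⁻¹ y ∈ U`; `G` need only be
universally open over `S` on an open neighbourhood `W` of the unit section. -/
theorem isSeparated_of_forall_exists (W : G.left.Opens)
    (hW1 : ∀ p : ↥(𝟙_ (Over S)).left, η[G].left p ∈ W) (hWo : UniversallyOpen (W.ι ≫ G.hom))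
    (H : ∀ z : (X ⊗ X).left, z ∈ closure (Set.range (diag X).left) →
      ∃ U : X.left.Opens, IsSeparated (U.ι ≫ X.hom) ∧
        (∃ b : (G ⊗ (X ⊗ X)).left, (snd G (X ⊗ X)).left b = z ∧
          (fst G (X ⊗ X)).left b ∈ SGA3x.neutralSet G ∧ (αG a).left b ∈ U) ∧
        (∃ b : (G ⊗ (X ⊗ X)).left, (snd G (X ⊗ X)).left b = z ∧
          (fst G (X ⊗ X)).left b ∈ SGA3x.neutralSet G ∧ (βG a).left b ∈ U)) :
    IsSeparated X.hom := by
  apply isSeparated_of_isClosed_range
  rw [← closure_subset_iff_isClosed]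
  intro z hz
  obtain ⟨U, hsep, ⟨b1, hb1z, hb1n, hb1U⟩, ⟨b2, hb2z, hb2n, hb2U⟩⟩ := H z hz
  have hI := isIrreducible_fibre_neutral' G (X ⊗ X) z
  have hO2 : IsOpen ((αG a).left ⁻¹' (U : Set X.left)) := U.isOpen.preimage (αG a).left.continuous
  have hO3 : IsOpen ((βG a).left ⁻¹' (U : Set X.left)) := U.isOpen.preimage (βG a).left.continuous
  have hO1 : IsOpen ((fst G (X ⊗ X)).left ⁻¹' (W : Set G.left)) :=
    W.isOpen.preimage (fst G (X ⊗ X)).left.continuous
  obtain ⟨q1, hq1I, hq1a, hq1b⟩ := hI.isPreirreducible _ _ hO2 hO3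
    ⟨b1, ⟨hb1z, hb1n⟩, hb1U⟩ ⟨b2, ⟨hb2z, hb2n⟩, hb2U⟩
  -- the unit point over `z`
  have hez : (lift (1 : X ⊗ X ⟶ G) (𝟙 (X ⊗ X))).left z ∈
      {b : (G ⊗ (X ⊗ X)).left | (snd G (X ⊗ X)).left b = z ∧
        (fst G (X ⊗ X)).left b ∈ SGA3x.neutralSet G} ∩
      (fst G (X ⊗ X)).left ⁻¹' (W : Set G.left) := by
    have h1 : (fst G (X ⊗ X)).left ((lift (1 : X ⊗ X ⟶ G) (𝟙 (X ⊗ X))).left z) =
        η[G].left ((X ⊗ X).hom z) := by
      change (lift (1 : X ⊗ X ⟶ G) (𝟙 (X ⊗ X)) ≫ fst G (X ⊗ X)).left z = _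
      rw [lift_fst, Hom.one_def]; rfl
    refine ⟨⟨?_, ?_⟩, ?_⟩
    · change (lift (1 : X ⊗ X ⟶ G) (𝟙 (X ⊗ X)) ≫ snd G (X ⊗ X)).left z = z
      rw [lift_snd]; rfl
    · rw [h1, NeutralSet.mem_neutralSet_iff, NeutralSet.hom_unit]
      exact mem_connectedComponentIn (NeutralSet.hom_unit G _)
    · rw [Set.mem_preimage, h1]; exact hW1 _
  obtain ⟨q0, hq0I, hq0W, hq0a, hq0b⟩ := hI.isPreirreducible _ _ hO1 (hO2.inter hO3)
    ⟨_, hez⟩ ⟨q1, hq1I, hq1a, hq1b⟩
  -- lift to `W × X × X`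
  let Wo : Over S := Over.mk (W.ι ≫ G.hom)
  let jW : Wo ⟶ G := Over.homMk W.ι rfl
  have hWo' : UniversallyOpen Wo.hom := hWo
  have hrj : Set.range jW.left = (W : Set G.left) := Scheme.Opens.range_ι W
  have hq0r : q0 ∈ Set.range (jW ⊗ₘ 𝟙 (X ⊗ X)).left := by
    rw [range_tensorHom, hrj]
    refine ⟨hq0W, ?_⟩
    rw [Over.id_left]
    exact ⟨(snd G (X ⊗ X)).left q0, rfl⟩
  obtain ⟨q, rfl⟩ := hq0r
  have hsnd : (snd Wo (X ⊗ X)).left q = z := by
    have : (snd G (X ⊗ X)).left ((jW ⊗ₘ 𝟙 (X ⊗ X)).left q) = (snd Wo (X ⊗ X)).left q := by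
      change ((jW ⊗ₘ 𝟙 (X ⊗ X)) ≫ snd G (X ⊗ X)).left q = _
      rw [tensorHom_snd, Category.comp_id]
    rw [← this]; exact hq0I.1
  have htw : (jW ⊗ₘ 𝟙 (X ⊗ X)) ≫ tw a (𝟙 G)⁻¹ = tw a jW⁻¹ := by
    rw [tensorHom_id]; exact whiskerRight_tw a jW
  have h1 : (tw a jW⁻¹ ≫ fst X X).left q ∈ U := by
    rw [← htw, Category.assoc]; exact hq0a
  have h2 : (tw a jW⁻¹ ≫ snd X X).left q ∈ U := by
    rw [← htw, Category.assoc]; exact hq0b
  have := mem_range_diag a jW U q h1 h2 (by rw [hsnd]; exact hz)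
  rwa [hsnd] at this

theorem exists_of_isPullback {P A B Z : Scheme.{u}} {fst : P ⟶ A} {snd : P ⟶ B} {f : A ⟶ Z}
    {g : B ⟶ Z} (h : IsPullback fst snd f g) (x : A) (y : B) (e : f x = g y) :
    ∃ p : P, fst p = x ∧ snd p = y := by
  obtain ⟨z, hz1, hz2⟩ := Scheme.Pullback.exists_preimage_pullback x y e
  refine ⟨h.isoPullback.inv z, ?_, ?_⟩
  · rw [← Scheme.Hom.comp_apply, h.isoPullback_inv_fst, hz1]
  · rw [← Scheme.Hom.comp_apply, h.isoPullback_inv_snd, hz2]

/-- `(g, x) ↦ g⁻¹ x`. -/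
noncomputable abbrev invAct : G ⊗ X ⟶ X := lift (fst G X)⁻¹ (snd G X) ≫ a.act

lemma whiskerLeft_fst_invAct : (G ◁ fst X X) ≫ invAct a = αG a := by
  apply hom_ext_lift₂
  intro R t p
  obtain ⟨x1, x2, rfl⟩ : ∃ x1 x2, p = lift x1 x2 :=
    ⟨p ≫ fst X X, p ≫ snd X X, by rw [← comp_lift, lift_fst_snd, Category.comp_id]⟩
  have hL : lift t (lift x1 x2) ≫ (G ◁ fst X X) ≫ invAct a = lift t⁻¹ x1 ≫ a.act := by
    rw [lift_whiskerLeft_assoc, lift_fst, ← Category.assoc, comp_lift, GrpObj.comp_inv, lift_fst,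
      lift_snd]
  have hR : lift t (lift x1 x2) ≫ tw a (𝟙 G)⁻¹ ≫ fst X X = lift t⁻¹ x1 ≫ a.act := by
    rw [← Category.assoc, lift_tw, lift_fst, GrpObj.comp_inv, Category.comp_id]
  rw [hL, hR]

lemma whiskerLeft_snd_invAct : (G ◁ snd X X) ≫ invAct a = βG a := by
  apply hom_ext_lift₂
  intro R t p
  obtain ⟨x1, x2, rfl⟩ : ∃ x1 x2, p = lift x1 x2 :=
    ⟨p ≫ fst X X, p ≫ snd X X, by rw [← comp_lift, lift_fst_snd, Category.comp_id]⟩
  have hL : lift t (lift x1 x2) ≫ (G ◁ snd X X) ≫ invAct a = lift t⁻¹ x2 ≫ a.act := by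
    rw [lift_whiskerLeft_assoc, lift_snd, ← Category.assoc, comp_lift, GrpObj.comp_inv, lift_fst,
      lift_snd]
  have hR : lift t (lift x1 x2) ≫ tw a (𝟙 G)⁻¹ ≫ snd X X = lift t⁻¹ x2 ≫ a.act := by
    rw [← Category.assoc, lift_tw, lift_snd, GrpObj.comp_inv, Category.comp_id]
  rw [hL, hR]

lemma lift_fst_act_invAct : lift (fst G X) a.act ≫ invAct a = snd G X := by
  rw [← Category.assoc, comp_lift, lift_snd, GrpObj.comp_inv, lift_fst]
  have h := AlgGrp.Action.lift_mul_act a (fst G X)⁻¹ (fst G X) (snd G X)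
  rw [lift_fst_snd, Category.id_comp] at h
  rw [← h, inv_mul_cancel, AlgGrp.Action.lift_one_act]

/-- a point `w₀ = (h, u)` of `G × X` with `h u = x` gives the point `(h, x, y)` over `z = (x, y)`,
and `h⁻¹ x = u`. -/
theorem exists_point_over_fst (z : (X ⊗ X).left) (w₀ : (G ⊗ X).left)
    (hw : a.act.left w₀ = (fst X X).left z) :
    ∃ b : (G ⊗ (X ⊗ X)).left, (snd G (X ⊗ X)).left b = z ∧
      (fst G (X ⊗ X)).left b = (fst G X).left w₀ ∧ (αG a).left b = (snd G X).left w₀ := by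
  have hpb := MaxOpen.isPullback_whiskerLeft G (fst X X)
  obtain ⟨b, hb1, hb2⟩ := exists_of_isPullback hpb ((lift (fst G X) a.act).left w₀) z (by
    change (lift (fst G X) a.act ≫ snd G X).left w₀ = _
    rw [lift_snd]; exact hw)
  refine ⟨b, hb2, ?_, ?_⟩
  · have h1 : (fst G (X ⊗ X)).left b = (fst G X).left ((G ◁ fst X X).left b) := by
      change _ = ((G ◁ fst X X) ≫ fst G X).left b
      rw [whiskerLeft_fst]
    rw [h1, hb1]
    change (lift (fst G X) a.act ≫ fst G X).left w₀ = _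
    rw [lift_fst]
  · rw [← whiskerLeft_fst_invAct, Over.comp_left, Scheme.Hom.comp_apply, hb1]
    change (lift (fst G X) a.act ≫ invAct a).left w₀ = _
    rw [lift_fst_act_invAct]

theorem exists_point_over_snd (z : (X ⊗ X).left) (w₀ : (G ⊗ X).left)
    (hw : a.act.left w₀ = (snd X X).left z) :
    ∃ b : (G ⊗ (X ⊗ X)).left, (snd G (X ⊗ X)).left b = z ∧
      (fst G (X ⊗ X)).left b = (fst G X).left w₀ ∧ (βG a).left b = (snd G X).left w₀ := by
  have hpb := MaxOpen.isPullback_whiskerLeft G (snd X X)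
  obtain ⟨b, hb1, hb2⟩ := exists_of_isPullback hpb ((lift (fst G X) a.act).left w₀) z (by
    change (lift (fst G X) a.act ≫ snd G X).left w₀ = _
    rw [lift_snd]; exact hw)
  refine ⟨b, hb2, ?_, ?_⟩
  · have h1 : (fst G (X ⊗ X)).left b = (fst G X).left ((G ◁ snd X X).left b) := by
      change _ = ((G ◁ snd X X) ≫ fst G X).left b
      rw [whiskerLeft_fst]
    rw [h1, hb1]
    change (lift (fst G X) a.act ≫ fst G X).left w₀ = _
    rw [lift_fst]
  · rw [← whiskerLeft_snd_invAct, Over.comp_left, Scheme.Hom.comp_apply, hb1]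
    change (lift (fst G X) a.act ≫ invAct a).left w₀ = _
    rw [lift_fst_act_invAct]

/-- **Assembly, second form**: it suffices that every point of `X` over `s` lies in `G⁰ · U` for a
suitable open `U` (depending on `s`) separated over `S`. -/
theorem isSeparated_of_forall_mem_orb (W : G.left.Opens)
    (hW1 : ∀ p : ↥(𝟙_ (Over S)).left, η[G].left p ∈ W) (hWo : UniversallyOpen (W.ι ≫ G.hom))
    (H : ∀ s : S, ∃ U : X.left.Opens, IsSeparated (U.ι ≫ X.hom) ∧
      ∀ y : X.left, X.hom y = s → ∃ w₀ : (G ⊗ X).left, a.act.left w₀ = y ∧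
        (fst G X).left w₀ ∈ SGA3x.neutralSet G ∧ (snd G X).left w₀ ∈ U) :
    IsSeparated X.hom := by
  apply isSeparated_of_forall_exists a W hW1 hWo
  intro z _
  obtain ⟨U, hsep, hU⟩ := H ((X ⊗ X).hom z)
  have hx : X.hom ((fst X X).left z) = (X ⊗ X).hom z := by
    rw [← Scheme.Hom.comp_apply, Over.w (fst X X)]
  have hy : X.hom ((snd X X).left z) = (X ⊗ X).hom z := by
    rw [← Scheme.Hom.comp_apply, Over.w (snd X X)]
  obtain ⟨w1, hw1a, hw1n, hw1U⟩ := hU _ hx
  obtain ⟨w2, hw2a, hw2n, hw2U⟩ := hU _ hy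
  obtain ⟨b1, hb1z, hb1f, hb1U⟩ := exists_point_over_fst a z w1 hw1a
  obtain ⟨b2, hb2z, hb2f, hb2U⟩ := exists_point_over_snd a z w2 hw2a
  exact ⟨U, hsep, ⟨b1, hb1z, by rw [hb1f]; exact hw1n, by rw [hb1U]; exact hw1U⟩,
    ⟨b2, hb2z, by rw [hb2f]; exact hw2n, by rw [hb2U]; exact hw2U⟩⟩

end assembly

end Groth.Agent.R2.H24.HomogSep
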