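import Mathlib
import Groth.Agent.R2.H24HomogSep
import Groth.Agent.R2.H24Homog

/-!
# Fibrewise input for the separatedness of homogeneous spaces

For an action `a` of `G` on `X` over `S` and `s : S`, orbits of the neutral component of `G_s` in
the fibre `X_s` (computed with `R2/H24Homog` over the field `κ(s)`) produce points of `G × X` with
first coordinate in `SGA3x.neutralSet G`.
-/

set_option autoImplicit false

universe u

open CategoryTheory CategoryTheory.Limits MonoidalCategory CartesianMonoidalCategory MonObj GrpObj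
  AlgebraicGeometry

namespace Groth.Agent.R2.H24.HomogSepFib

open Groth.Agent.Lib.Helper25.TopGrp Groth.Agent.Lib.Helper25.IdComp AlgGrp AlgGrp.Action
  Groth.Agent.R2.H24.NeutralSet Groth.Agent.R2.H24.BcGrp Groth.Agent.R2.H24.Homog

section fibre

variable {S : Scheme.{u}} {G X : Over S} [GrpObj G] (a : AlgGrp.Action G X) (s : S)

variable (X) in
/-- the fibre `X_s` as a `κ(s)`-scheme. -/
noncomputable abbrev fibX : Over (Spec (CommRingCat.of (S.residueField s))) :=
  Red.bc (S.fromSpecResidueField s) X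

variable (X) in
/-- the inclusion of the fibre. -/
noncomputable abbrev fibXι : (fibX X s).left ⟶ X.left := proj (S.fromSpecResidueField s) X

variable (X) in
lemma range_fibXι : Set.range (fibXι X s) = X.hom ⁻¹' {s} := Scheme.Hom.range_fiberι X.hom s

variable (X) in
lemma isEmbedding_fibXι : Topology.IsEmbedding (fibXι X s) := (X.hom.fiberι s).isEmbedding

/-- the action of `G_s` on `X_s`. -/
noncomputable abbrev fibAct : AlgGrp.Action (fib G s) (fibX X s) :=
  a.bc (S.fromSpecResidueField s)

lemma act_left_proj :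
    (fibAct a s).act.left ≫ fibXι X s =
      tensorProj (S.fromSpecResidueField s) G X ≫ a.act.left := by
  have h : (fibAct a s).act = Functor.LaxMonoidal.μ (Over.pullback (S.fromSpecResidueField s)) G X ≫
      (Over.pullback (S.fromSpecResidueField s)).map a.act := rfl
  rw [h, Over.comp_left, Category.assoc, map_left_proj]
  rfl

/-- points of the orbit `G_s⁰ · U_s` come from points of `G × X` over the neutral set. -/
theorem exists_of_mem_orb (U : Set X.left) (y' : (fibX X s).left)
    (h : y' ∈ orb (fibAct a s) (N (fib G s)) (fibXι X s ⁻¹' U)) :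
    ∃ w₀ : (G ⊗ X).left, a.act.left w₀ = fibXι X s y' ∧
      (fst G X).left w₀ ∈ SGA3x.neutralSet G ∧ (snd G X).left w₀ ∈ U := by
  obtain ⟨v, ⟨hv1, hv2⟩, rfl⟩ := h
  refine ⟨tensorProj (S.fromSpecResidueField s) G X v, ?_, ?_, ?_⟩
  · rw [← Scheme.Hom.comp_apply, ← act_left_proj, Scheme.Hom.comp_apply]
  · rw [← Scheme.Hom.comp_apply, tensorProj_fst, Scheme.Hom.comp_apply]
    have h1 : fibι G s ((fst (fib G s) (fibX X s)).left v) ∈
        connectedComponentIn (G.hom ⁻¹' {s}) (NeutralSet.unit G s) := by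
      rw [connectedComponentIn_fibre]
      exact ⟨_, hv1, rfl⟩
    have h2 : G.hom (fibι G s ((fst (fib G s) (fibX X s)).left v)) = s := by
      have h3 : fibι G s ((fst (fib G s) (fibX X s)).left v) ∈ G.hom ⁻¹' {s} :=
        connectedComponentIn_subset _ _ h1
      exact h3
    rw [NeutralSet.mem_neutralSet_iff]
    rw [h2]
    exact h1
  · rw [← Scheme.Hom.comp_apply, tensorProj_snd, Scheme.Hom.comp_apply]
    exact hv2

/-- connected quasi-separated fibre: any two points of `X_s` are related by the neutral component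
of `G_s`. -/
theorem exists_of_connected_fibre (hΦ : Surjective (lift a.act (snd G X)).left)
    (hqs : QuasiSeparatedSpace ↥(X.hom ⁻¹' {s})) (hconn : _root_.IsPreconnected (X.hom ⁻¹' {s}))
    (x y : X.left) (hx : X.hom x = s) (hy : X.hom y = s) :
    ∃ w₀ : (G ⊗ X).left, a.act.left w₀ = y ∧ (fst G X).left w₀ ∈ SGA3x.neutralSet G ∧
      (snd G X).left w₀ = x := by
  have hΦs := surjective_bc (S.fromSpecResidueField s) a hΦ
  obtain ⟨x', rfl⟩ : x ∈ Set.range (fibXι X s) := by rw [range_fibXι]; exact hx
  obtain ⟨y', rfl⟩ : y ∈ Set.range (fibXι X s) := by rw [range_fibXι]; exact hy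
  let e : (fibX X s).left ≃ₜ ↥(X.hom ⁻¹' {s}) :=
    (isEmbedding_fibXι X s).toHomeomorph.trans (Homeomorph.setCongr (range_fibXι X s))
  have hqs' : QuasiSeparatedSpace (fibX X s).left := (quasiSeparatedSpace_congr e).mpr hqs
  have hpc : PreconnectedSpace (fibX X s).left := by
    refine ⟨(isEmbedding_fibXι X s).isInducing.isPreconnected_image.mp ?_⟩
    rw [Set.image_univ, range_fibXι]; exact hconn
  have hy' : y' ∈ orb (fibAct a s) (N (fib G s)) {x'} := by
    have h1 := irreducibleComponent_eq_orb (k := S.residueField s) (G := fib G s)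
      (X := fibX X s) (a := fibAct a s) hΦs x'
    have h2 := connectedComponent_eq_irreducibleComponent (k := S.residueField s) (G := fib G s)
      (X := fibX X s) (a := fibAct a s) hΦs x'
    rw [← h1, ← h2, PreconnectedSpace.connectedComponent_eq_univ x']
    trivial
  obtain ⟨w₀, h1, h2, h3⟩ := exists_of_mem_orb a s {fibXι X s x'} y'
    (orb_mono subset_rfl (by rw [Set.singleton_subset_iff]; rfl) hy')
  exact ⟨w₀, h1, h2, h3⟩

/-- fibre locally of finite type with `U_s` dense in `X_s`: every point of `X_s` lies in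
`G_s⁰ · U_s`. -/
theorem exists_of_dense_fibre (hΦ : Surjective (lift a.act (snd G X)).left)
    (hft : LocallyOfFiniteType (X.hom.fiberToSpecResidueField s)) (U : X.left.Opens)
    (hU : X.hom ⁻¹' {s} ⊆ closure ((U : Set X.left) ∩ X.hom ⁻¹' {s}))
    (y : X.left) (hy : X.hom y = s) :
    ∃ w₀ : (G ⊗ X).left, a.act.left w₀ = y ∧ (fst G X).left w₀ ∈ SGA3x.neutralSet G ∧
      (snd G X).left w₀ ∈ U := by
  have hΦs := surjective_bc (S.fromSpecResidueField s) a hΦ
  obtain ⟨y', rfl⟩ : y ∈ Set.range (fibXι X s) := by rw [range_fibXι]; exact hy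
  have hlft : LocallyOfFiniteType (fibX X s).hom := hft
  have hnoeth : IsLocallyNoetherian (fibX X s).left :=
    LocallyOfFiniteType.isLocallyNoetherian (fibX X s).hom
  let Us : (fibX X s).left.Opens := fibXι X s ⁻¹ᵁ U
  have hr : IsRetrocompact (Us : Set (fibX X s).left) :=
    IsRetrocompact_iff_isSpectralMap_subtypeVal.mpr Us.ι.isSpectralMap
  have heq := orb_eq_closure (k := S.residueField s) (G := fib G s) (X := fibX X s)
    (a := fibAct a s) hΦs Us hr
  have hcl : closure (Us : Set (fibX X s).left) = Set.univ := by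
    rw [(isEmbedding_fibXι X s).closure_eq_preimage_closure_image]
    have h1 : fibXι X s '' (Us : Set (fibX X s).left) = (U : Set X.left) ∩ X.hom ⁻¹' {s} := by
      change fibXι X s '' (fibXι X s ⁻¹' (U : Set X.left)) = _
      rw [Set.image_preimage_eq_inter_range, range_fibXι]
    rw [h1, Set.eq_univ_iff_forall]
    intro v
    apply hU
    rw [← range_fibXι]
    exact ⟨v, rfl⟩
  have hy' : y' ∈ orb (fibAct a s) (N (fib G s)) (fibXι X s ⁻¹' (U : Set X.left)) := by
    have : y' ∈ orb (fibAct a s) (N (fib G s)) (Us : Set (fibX X s).left) := by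
      rw [heq, hcl]; trivial
    exact this
  exact exists_of_mem_orb a s U y' hy'

end fibre

section compact

variable {S : Scheme.{u}}

/-- `A ×_S B` is compact for compact opens `A ⊆ Y`, `B ⊆ Z` lying over a quasi-separated open of
the base. -/
lemma isCompact_fst_preimage_inter_snd_preimage {Y Z : Over S} (V : S.Opens)
    [QuasiSeparatedSpace V] (A : Y.left.Opens) (B : Z.left.Opens)
    (hAV : (A : Set Y.left) ⊆ Y.hom ⁻¹' V) (hBV : (B : Set Z.left) ⊆ Z.hom ⁻¹' V)
    (hA : IsCompact (A : Set Y.left)) (hB : IsCompact (B : Set Z.left)) :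
    IsCompact ((fst Y Z).left ⁻¹' (A : Set Y.left) ∩ (snd Y Z).left ⁻¹' (B : Set Z.left)) := by
  have hrA : Set.range (A.ι ≫ Y.hom) ⊆ Set.range V.ι := by
    rintro _ ⟨a, rfl⟩
    rw [Scheme.Opens.range_ι]
    exact hAV a.2
  have hrB : Set.range (B.ι ≫ Z.hom) ⊆ Set.range V.ι := by
    rintro _ ⟨b, rfl⟩
    rw [Scheme.Opens.range_ι]
    exact hBV b.2
  let a : (A : Scheme.{u}) ⟶ V := IsOpenImmersion.lift V.ι (A.ι ≫ Y.hom) hrA
  let b : (B : Scheme.{u}) ⟶ V := IsOpenImmersion.lift V.ι (B.ι ≫ Z.hom) hrB
  have ha : a ≫ V.ι = A.ι ≫ Y.hom := IsOpenImmersion.lift_fac _ _ _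
  have hb : b ≫ V.ι = B.ι ≫ Z.hom := IsOpenImmersion.lift_fac _ _ _
  have hrange := Scheme.Pullback.range_map a b Y.hom Z.hom A.ι B.ι V.ι ha hb
  have : CompactSpace A := isCompact_iff_compactSpace.mp hA
  have : CompactSpace B := isCompact_iff_compactSpace.mp hB
  have : QuasiCompact b := inferInstance
  have : CompactSpace ↑(pullback a b) := inferInstance
  rw [Scheme.Opens.range_ι, Scheme.Opens.range_ι] at hrange
  rw [Over.fst_left, Over.snd_left, ← hrange]
  exact isCompact_range (Scheme.Hom.continuous _)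

end compact

end Groth.Agent.R2.H24.HomogSepFib
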