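import Groth.Agent.R2.H24LftDescRing
import Groth.Agent.Lib.Helper25TopGrp

/-!
# Local fpqc descent of "locally of finite type" over a base all of whose morphisms are
universally open (`BaseUO`), scheme level.
-/

set_option autoImplicit false
universe u

open CategoryTheory CategoryTheory.Limits AlgebraicGeometry TensorProduct

namespace Groth.Agent.R2.H24.LftDesc

open Groth.Agent.Lib.Helper25.TopGrp Groth.Agent.R2.H24.LftDescRing

/-- `Spec (R' ⊗[A] P) → Spec P` is open when everything over `Spec A` is universally open. -/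
lemma isOpenMap_comap_includeRight (A R' P : Type u) [CommRing A] [CommRing R'] [CommRing P]
    [Algebra A R'] [Algebra A P] [BaseUO (Spec (CommRingCat.of A))] :
    IsOpenMap (PrimeSpectrum.comap
      (Algebra.TensorProduct.includeRight (R := A) (A := R') (B := P)).toRingHom) := by
  have huo : UniversallyOpen (Spec.map (CommRingCat.ofHom (algebraMap A R'))) := BaseUO.uo _
  have h2 : UniversallyOpen (Spec.map (CommRingCat.ofHom
      (Algebra.TensorProduct.includeRight (R := A) (A := R') (B := P)).toRingHom)) := by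
    have := pullbackSpecIso_inv_snd A R' P
    rw [AlgHom.toRingHom_eq_coe, ← this]
    infer_instance
  exact (Spec.map (CommRingCat.ofHom
      (Algebra.TensorProduct.includeRight (R := A) (A := R') (B := P)).toRingHom)).isOpenMap

set_option maxHeartbeats 1600000 in
/-- **Local fpqc descent of locally of finite type.** -/
theorem exists_lft_nbhd {A : CommRingCat.{u}} [BaseUO (Spec A)] {X T Ω : Scheme.{u}}
    (f : X ⟶ Spec A) (g : T ⟶ Spec A) [Flat g]
    (j : Ω ⟶ pullback g f) [IsOpenImmersion j]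
    [LocallyOfFiniteType (j ≫ pullback.fst g f)] (z : Ω) :
    ∃ (U : Scheme.{u}) (k : U ⟶ X), IsOpenImmersion k ∧
      (j ≫ pullback.snd g f) z ∈ Set.range k ∧ LocallyOfFiniteType (k ≫ f) := by
  obtain ⟨w, hw⟩ : ∃ w, w = j z := ⟨_, rfl⟩
  obtain ⟨x, hx⟩ : ∃ x, x = pullback.snd g f w := ⟨_, rfl⟩
  obtain ⟨t, ht⟩ : ∃ t, t = pullback.fst g f w := ⟨_, rfl⟩
  obtain ⟨B, ιX, hιX, hxr, -⟩ :=
    Scheme.exists_affine_mem_range_and_range_subset (X := X) (x := x) (U := ⊤) trivial
  obtain ⟨R', ιT, hιT, htr, -⟩ :=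
    Scheme.exists_affine_mem_range_and_range_subset (X := T) (x := t) (U := ⊤) trivial
  obtain ⟨φB, hφB⟩ : ∃ φB : A ⟶ B, Spec.map φB = ιX ≫ f := ⟨_, Spec.map_preimage _⟩
  obtain ⟨φR, hφR⟩ : ∃ φR : A ⟶ R', Spec.map φR = ιT ≫ g := ⟨_, Spec.map_preimage _⟩
  let _ : Algebra A R' := φR.hom.toAlgebra
  let _ : Algebra A B := φB.hom.toAlgebra
  have hflat : Module.Flat A R' := by
    have : Flat (Spec.map φR) := by rw [hφR]; infer_instance
    exact Flat.SpecMap_iff.mp this
  have hφR' : Spec.map (CommRingCat.ofHom (algebraMap A R')) = ιT ≫ g := hφR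
  have hφB' : Spec.map (CommRingCat.ofHom (algebraMap A B)) = ιX ≫ f := hφB
  let c : pullback (Spec.map (CommRingCat.ofHom (algebraMap A R')))
      (Spec.map (CommRingCat.ofHom (algebraMap A B))) ⟶ pullback g f :=
    pullback.map _ _ _ _ ιT ιX (𝟙 _) (by rw [hφR', Category.comp_id])
      (by rw [hφB', Category.comp_id])
  have hrange : Set.range c =
      pullback.fst g f ⁻¹' Set.range ιT ∩ pullback.snd g f ⁻¹' Set.range ιX :=
    Scheme.Pullback.range_map ..
  have hwc : w ∈ Set.range c := by
    rw [hrange]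
    refine ⟨?_, ?_⟩
    · show pullback.fst g f w ∈ Set.range ιT
      rw [← ht]; exact htr
    · show pullback.snd g f w ∈ Set.range ιX
      rw [← hx]; exact hxr
  let e := pullbackSpecIso A R' B
  let c' : Spec (CommRingCat.of (R' ⊗[A] B)) ⟶ pullback g f := e.inv ≫ c
  have hc'fst : c' ≫ pullback.fst g f =
      Spec.map (CommRingCat.ofHom (Algebra.TensorProduct.includeLeftRingHom :
        R' →+* R' ⊗[A] B)) ≫ ιT := by
    simp only [c', c, e, Category.assoc, pullback.map, pullback.lift_fst,
      pullbackSpecIso_inv_fst_assoc]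
  have hc'snd : c' ≫ pullback.snd g f =
      Spec.map (CommRingCat.ofHom (Algebra.TensorProduct.includeRight (R := A) (A := R')
        (B := B)).toRingHom) ≫ ιX := by
    simp only [c', c, e, Category.assoc, pullback.map, pullback.lift_snd,
      pullbackSpecIso_inv_snd_assoc, AlgHom.toRingHom_eq_coe]
  obtain ⟨w'', hw''⟩ : ∃ w'' : Spec (CommRingCat.of (R' ⊗[A] B)), c' w'' = w := by
    obtain ⟨w', hw'⟩ := hwc
    refine ⟨e.hom w', ?_⟩
    simp only [c']
    rw [← Scheme.Hom.comp_apply, Iso.hom_inv_id_assoc, hw']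
  have hc'oi : IsOpenImmersion c' := by
    simp only [c']; infer_instance
  -- the open subset of `Spec (R' ⊗ B)` mapping into `Ω`
  let V : (Spec (CommRingCat.of (R' ⊗[A] B))).Opens := c' ⁻¹ᵁ j.opensRange
  have hw''V : w'' ∈ V := by
    show c' w'' ∈ Set.range j
    rw [hw'', hw]; exact ⟨z, rfl⟩
  obtain ⟨_, ⟨b', rfl⟩, hb', hsub⟩ :=
    PrimeSpectrum.isTopologicalBasis_basic_opens.exists_subset_of_mem_open
      (a := (w'' : PrimeSpectrum (R' ⊗[A] B))) hw''V V.isOpen
  let E' := Localization.Away b'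
  let ψ : CommRingCat.of (R' ⊗[A] B) ⟶ CommRingCat.of E' :=
    CommRingCat.ofHom (algebraMap (R' ⊗[A] B) E')
  have hψr : (Spec.map ψ).opensRange = PrimeSpectrum.basicOpen b' :=
    Scheme.Hom.opensRange_localizationAway (R := CommRingCat.of (R' ⊗[A] B)) b'
  have hlr : Set.range (Spec.map ψ ≫ c') ⊆ Set.range j := by
    rintro _ ⟨y, rfl⟩
    have h1 : Spec.map ψ y ∈ (Spec.map ψ).opensRange := ⟨y, rfl⟩
    rw [hψr] at h1
    exact hsub h1
  let l : Spec (CommRingCat.of E') ⟶ Ω := IsOpenImmersion.lift j (Spec.map ψ ≫ c') hlr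
  have hl : l ≫ j = Spec.map ψ ≫ c' := IsOpenImmersion.lift_fac _ _ _
  have : IsOpenImmersion l := by
    have : IsOpenImmersion (l ≫ j) := by rw [hl]; infer_instance
    exact IsOpenImmersion.of_comp l j
  -- `R' → E'` is of finite type
  have h1 : LocallyOfFiniteType (l ≫ j ≫ pullback.fst g f) := inferInstance
  have h2 : l ≫ j ≫ pullback.fst g f =
      Spec.map (CommRingCat.ofHom (algebraMap R' E')) ≫ ιT := by
    rw [← Category.assoc, hl, Category.assoc, hc'fst, ← Category.assoc, ← Spec.map_comp]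
    rfl
  have h3 : LocallyOfFiniteType (Spec.map (CommRingCat.ofHom (algebraMap R' E'))) := by
    rw [h2] at h1
    exact locallyOfFiniteType_of_comp _ ιT
  have h4 : Algebra.FiniteType R' E' := by
    have := (HasRingHomProperty.Spec_iff (P := @LocallyOfFiniteType)).mp h3
    exact RingHom.finiteType_algebraMap.mp this
  have hopen : ∀ (P : Type u) [CommRing P] [Algebra A P], IsOpenMap (PrimeSpectrum.comap
      (Algebra.TensorProduct.includeRight (R := A) (A := R') (B := P)).toRingHom) :=
    fun P _ _ => isOpenMap_comap_includeRight A R' P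
  obtain ⟨tB, htB, hft⟩ := exists_finiteType_away A R' B hopen b' E' w'' hb'
  let Bt := Localization.Away tB
  refine ⟨Spec (CommRingCat.of Bt), Spec.map (CommRingCat.ofHom (algebraMap B Bt)) ≫ ιX,
    inferInstance, ?_, ?_⟩
  · have hx' : x = ιX (Spec.map (CommRingCat.ofHom (Algebra.TensorProduct.includeRight (R := A)
        (A := R') (B := B)).toRingHom) w'') := by
      rw [hx, ← hw'', ← Scheme.Hom.comp_apply, hc'snd, Scheme.Hom.comp_apply]
    have hzx : (j ≫ pullback.snd g f) z = x := by rw [hx, hw, Scheme.Hom.comp_apply]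
    rw [hzx, hx', Scheme.Hom.comp_base, TopCat.coe_comp, Set.range_comp]
    refine ⟨_, ?_, rfl⟩
    have hr : (Spec.map (CommRingCat.ofHom (algebraMap B Bt))).opensRange =
        PrimeSpectrum.basicOpen tB :=
      Scheme.Hom.opensRange_localizationAway (R := B) tB
    show _ ∈ (Spec.map (CommRingCat.ofHom (algebraMap B Bt))).opensRange
    rw [hr]
    exact htB
  · rw [Category.assoc, ← hφB', ← Spec.map_comp,
      HasRingHomProperty.Spec_iff (P := @LocallyOfFiniteType)]
    have : algebraMap A Bt = (algebraMap B Bt).comp (algebraMap A B) :=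
      IsScalarTower.algebraMap_eq A B Bt
    show RingHom.FiniteType ((algebraMap B Bt).comp (algebraMap A B))
    rw [← this]
    exact RingHom.finiteType_algebraMap.mpr hft

end Groth.Agent.R2.H24.LftDesc
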