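import Mathlib

/-!
# Local faithfully flat descent of finite type (ring level)

`A → R'` flat, `B` an `A`-algebra, `b' ∈ R' ⊗[A] B` with `(R' ⊗[A] B)[1/b']` of finite type over
`R'`.  If `Spec (R' ⊗[A] P) → Spec P` is open for all `A`-algebras `P`, then every prime `𝔮` of
`R' ⊗[A] B` with `b' ∉ 𝔮` has `t ∈ B`, `1 ⊗ t ∉ 𝔮`, with `B[1/t]` of finite type over `A`.
-/

set_option autoImplicit false
universe u

namespace Groth.Agent.R2.H24.LftDescRing

open TensorProduct

section Core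

variable {A R' P B : Type u} [CommRing A] [CommRing R'] [CommRing P] [CommRing B]
  [Algebra A R'] [Algebra A P] [Algebra A B] (f : P →ₐ[A] B)

/-- the base change of `f` to `R'`. -/
noncomputable abbrev bc : R' ⊗[A] P →ₐ[R'] R' ⊗[A] B :=
  Algebra.TensorProduct.map (AlgHom.id R' R') f

/-- the conductor ideal `{s | f s * b ∈ range f}`. -/
def cond (b : B) : Ideal P where
  carrier := {s | f s * b ∈ f.range}
  add_mem' := by
    intro x y hx hy
    simp only [Set.mem_ofPred_eq, map_add, add_mul] at hx hy ⊢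
    exact add_mem hx hy
  zero_mem' := by
    show f 0 * b ∈ f.range
    rw [map_zero, zero_mul]; exact zero_mem _
  smul_mem' := by
    intro c x hx
    simp only [Set.mem_ofPred_eq, smul_eq_mul, map_mul, mul_assoc] at hx ⊢
    exact mul_mem ⟨c, rfl⟩ hx

lemma mem_cond {b : B} {s : P} : s ∈ cond f b ↔ f s * b ∈ f.range := Iff.rfl

variable [Module.Flat A R']

/-- key step: if `q₀ ^ N • (1 ⊗ b)` lies in the range of the base change of `f`, then the
conductor of `b` is not contained in the contraction of any prime avoiding `q₀`. -/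
theorem exists_mem_cond_notMem (b : B) (q₀ : R' ⊗[A] P) (N : ℕ)
    (hN : (bc (R' := R') f q₀) ^ N * ((1 : R') ⊗ₜ[A] b) ∈ (bc (R' := R') f).range)
    (𝔮 : Ideal (R' ⊗[A] P)) [𝔮.IsPrime] (hq : q₀ ∉ 𝔮) :
    ∃ s ∈ cond f b, ((1 : R') ⊗ₜ[A] s) ∉ 𝔮 := by
  by_contra hcon
  push Not at hcon
  let π : B →ₗ[A] (B ⧸ LinearMap.range f.toLinearMap) := Submodule.mkQ _
  let g : P →ₗ[A] (B ⧸ LinearMap.range f.toLinearMap) :=
    π ∘ₗ (LinearMap.mulRight A b) ∘ₗ f.toLinearMap
  have hker : ∀ s : P, s ∈ LinearMap.ker g ↔ s ∈ cond f b := by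
    intro s
    simp only [LinearMap.mem_ker, g, π, LinearMap.coe_comp, Function.comp_apply,
      Submodule.mkQ_apply, Submodule.Quotient.mk_eq_zero, LinearMap.mulRight_apply, mem_cond]
    constructor
    · rintro ⟨y, hy⟩; exact ⟨y, hy⟩
    · rintro ⟨y, hy⟩; exact ⟨y, hy⟩
  have hex : Function.Exact (LinearMap.lTensor R' (LinearMap.ker g).subtype)
      (LinearMap.lTensor R' g) :=
    Module.Flat.lTensor_exact R' (LinearMap.exact_subtype_ker_map g)
  have h1 : ∀ q : R' ⊗[A] P, LinearMap.lTensor R' g q =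
      LinearMap.lTensor R' π (bc (R' := R') f q * ((1 : R') ⊗ₜ[A] b)) := by
    intro q
    induction q using TensorProduct.induction_on with
    | zero => simp
    | tmul r s =>
      simp [g, Algebra.TensorProduct.tmul_mul_tmul]
    | add x y hx hy => simp only [map_add, add_mul, hx, hy]
  have h2 : ∀ e ∈ (bc (R' := R') f).range, LinearMap.lTensor R' π e = 0 := by
    rintro _ ⟨q, rfl⟩
    induction q using TensorProduct.induction_on with
    | zero => simp
    | tmul r s =>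
      have : π (f s) = 0 := by
        simp only [π, Submodule.mkQ_apply, Submodule.Quotient.mk_eq_zero]
        exact ⟨s, rfl⟩
      simp [this]
    | add x y hx hy =>
      rw [map_add, map_add, hx, hy, add_zero]
  have h3 : LinearMap.lTensor R' g (q₀ ^ N) = 0 := by
    rw [h1, map_pow]; exact h2 _ hN
  obtain ⟨y, hy⟩ := (hex (q₀ ^ N)).mp h3
  have h4 : ∀ y : R' ⊗[A] (LinearMap.ker g),
      LinearMap.lTensor R' (LinearMap.ker g).subtype y ∈ 𝔮 := by
    intro y
    induction y using TensorProduct.induction_on with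
    | zero => simp
    | tmul r s =>
      have hs : ((1 : R') ⊗ₜ[A] (s : P)) ∈ 𝔮 := hcon _ ((hker _).mp s.2)
      have : LinearMap.lTensor R' (LinearMap.ker g).subtype (r ⊗ₜ[A] s) =
          (r ⊗ₜ[A] (1 : P)) * ((1 : R') ⊗ₜ[A] (s : P)) := by
        simp [Algebra.TensorProduct.tmul_mul_tmul]
      rw [this]
      exact 𝔮.mul_mem_left _ hs
    | add x y hx hy => rw [map_add]; exact 𝔮.add_mem hx hy
  have h5 : q₀ ^ N ∈ 𝔮 := hy ▸ h4 y
  exact hq (Ideal.IsPrime.mem_of_pow_mem inferInstance N h5)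

/-- using openness of `Spec (R' ⊗[A] P) → Spec P`. -/
theorem exists_pow_mul_mem_range
    (hopen : IsOpenMap (PrimeSpectrum.comap
      (Algebra.TensorProduct.includeRight (R := A) (A := R') (B := P)).toRingHom))
    (q₀ : R' ⊗[A] P) (𝔮₀ : PrimeSpectrum (R' ⊗[A] P)) (hq₀ : q₀ ∉ 𝔮₀.asIdeal)
    (H : ∀ b : B, ∃ N, (bc (R' := R') f q₀) ^ N * ((1 : R') ⊗ₜ[A] b) ∈ (bc (R' := R') f).range) :
    ∃ s₀ : P, ((1 : R') ⊗ₜ[A] s₀) ∉ 𝔮₀.asIdeal ∧ ∀ b : B, ∃ n, f s₀ ^ n * b ∈ f.range := by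
  set c := PrimeSpectrum.comap
      (Algebra.TensorProduct.includeRight (R := A) (A := R') (B := P)).toRingHom with hc
  have hO : IsOpen (c '' (PrimeSpectrum.basicOpen q₀ : Set (PrimeSpectrum (R' ⊗[A] P)))) :=
    hopen _ (PrimeSpectrum.basicOpen q₀).isOpen
  have hmem : c 𝔮₀ ∈ c '' (PrimeSpectrum.basicOpen q₀ : Set (PrimeSpectrum (R' ⊗[A] P))) :=
    ⟨𝔮₀, hq₀, rfl⟩
  obtain ⟨_, ⟨s₀, rfl⟩, hs₀, hsub⟩ :=
    PrimeSpectrum.isTopologicalBasis_basic_opens.exists_subset_of_mem_open hmem hO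
  refine ⟨s₀, ?_, ?_⟩
  · intro h
    apply hs₀
    exact h
  · intro b
    by_contra hcon
    push Not at hcon
    have hdisj : Disjoint (cond f b : Set P) (Submonoid.powers s₀ : Set P) := by
      rw [Set.disjoint_left]
      rintro _ hx ⟨n, rfl⟩
      have hx' : f (s₀ ^ n) * b ∈ f.range := hx
      rw [map_pow] at hx'
      exact hcon n hx'
    obtain ⟨𝔭, h𝔭, hle, hdis⟩ := Ideal.exists_le_prime_disjoint (cond f b) (Submonoid.powers s₀) hdisj
    have hs₀𝔭 : s₀ ∉ 𝔭 := fun h =>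
      Set.disjoint_left.mp hdis h (Submonoid.mem_powers s₀)
    obtain ⟨𝔮', h𝔮', hc𝔮'⟩ := hsub (show (⟨𝔭, h𝔭⟩ : PrimeSpectrum P) ∈ _ from hs₀𝔭)
    obtain ⟨N, hN⟩ := H b
    obtain ⟨s, hs, hs'⟩ := exists_mem_cond_notMem f b q₀ N hN 𝔮'.asIdeal h𝔮'
    apply hs'
    have : s ∈ (c 𝔮').asIdeal := by rw [hc𝔮']; exact hle hs
    exact this

end Core

section Choose

variable {A R' B : Type u} [CommRing A] [CommRing R'] [CommRing B] [Algebra A R'] [Algebra A B]

lemma baseChange_mono {C₁ C₂ : Subalgebra A B} (h : C₁ ≤ C₂) :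
    C₁.baseChange R' ≤ C₂.baseChange R' := by
  rintro _ ⟨y, rfl⟩
  induction y using TensorProduct.induction_on with
  | zero => simp
  | tmul r s =>
    exact ⟨r ⊗ₜ[A] (Subalgebra.inclusion h s), rfl⟩
  | add x y hx hy =>
    rw [map_add]; exact add_mem hx hy

lemma exists_fg_finset (t : Finset (R' ⊗[A] B)) :
    ∃ C : Subalgebra A B, C.FG ∧ ∀ x ∈ t, x ∈ C.baseChange R' := by
  classical
  induction t using Finset.induction_on with
  | empty => exact ⟨⊥, Subalgebra.fg_bot, by simp⟩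
  | insert a t _ ih =>
    obtain ⟨C₁, h1, h1'⟩ := ih
    obtain ⟨C₂, h2, h2'⟩ := exists_fg_and_mem_baseChange (A := R') a
    refine ⟨C₁ ⊔ C₂, h1.sup h2, ?_⟩
    intro x hx
    rw [Finset.mem_insert] at hx
    rcases hx with rfl | hx
    · exact baseChange_mono le_sup_right h2'
    · exact baseChange_mono le_sup_left (h1' x hx)

/-- choose a finitely generated subalgebra `C ⊆ B` such that `(R' ⊗ C)[1/b'] → (R' ⊗ B)[1/b']`
is surjective. -/
theorem exists_fg_subalgebra (b' : R' ⊗[A] B) (E' : Type u) [CommRing E']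
    [Algebra (R' ⊗[A] B) E'] [Algebra R' E'] [IsScalarTower R' (R' ⊗[A] B) E']
    [IsLocalization.Away b' E'] [Algebra.FiniteType R' E'] :
    ∃ C : Subalgebra A B, C.FG ∧ b' ∈ C.baseChange R' ∧
      ∀ e : R' ⊗[A] B, ∃ N, b' ^ N * e ∈ C.baseChange R' := by
  classical
  obtain ⟨s, hs⟩ := Algebra.FiniteType.out (R := R') (A := E')
  have hsurj := fun x : E' => IsLocalization.Away.surj b' x
  choose n a ha using hsurj
  obtain ⟨C, hC, hCt⟩ := exists_fg_finset (R' := R') (A := A) (B := B) (insert b' (s.image a))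
  have hb' : b' ∈ C.baseChange R' := hCt _ (Finset.mem_insert_self _ _)
  refine ⟨C, hC, hb', ?_⟩
  have key : ∀ y : E', ∃ N e₀, e₀ ∈ C.baseChange R' ∧
      y * algebraMap (R' ⊗[A] B) E' b' ^ N = algebraMap (R' ⊗[A] B) E' e₀ := by
    intro y
    have hy : y ∈ Algebra.adjoin R' (s : Set E') := by rw [hs]; trivial
    induction hy using Algebra.adjoin_induction with
    | mem x hx =>
      exact ⟨n x, a x, hCt _ (Finset.mem_insert_of_mem (Finset.mem_image_of_mem _ hx)), ha x⟩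
    | algebraMap r =>
      refine ⟨0, algebraMap R' (R' ⊗[A] B) r, Subalgebra.algebraMap_mem _ r, ?_⟩
      rw [pow_zero, mul_one, ← IsScalarTower.algebraMap_apply]
    | add x y _ _ hx hy =>
      obtain ⟨N₁, e₁, he₁, h₁⟩ := hx
      obtain ⟨N₂, e₂, he₂, h₂⟩ := hy
      refine ⟨N₁ + N₂, e₁ * b' ^ N₂ + e₂ * b' ^ N₁,
        add_mem (mul_mem he₁ (pow_mem hb' _)) (mul_mem he₂ (pow_mem hb' _)), ?_⟩
      rw [map_add, map_mul, map_mul, ← h₁, ← h₂, map_pow, map_pow, pow_add]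
      ring
    | mul x y _ _ hx hy =>
      obtain ⟨N₁, e₁, he₁, h₁⟩ := hx
      obtain ⟨N₂, e₂, he₂, h₂⟩ := hy
      refine ⟨N₁ + N₂, e₁ * e₂, mul_mem he₁ he₂, ?_⟩
      rw [map_mul, ← h₁, ← h₂, pow_add]
      ring
  intro e
  obtain ⟨N, e₀, he₀, h⟩ := key (algebraMap _ E' e)
  rw [← map_pow, ← map_mul] at h
  obtain ⟨M, hM⟩ := IsLocalization.Away.exists_of_eq b' h
  refine ⟨M + N, ?_⟩
  have : b' ^ (M + N) * e = b' ^ M * e₀ := by
    rw [← hM, pow_add]; ring
  rw [this]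
  exact mul_mem (pow_mem hb' _) he₀

end Choose

section Conclude

variable {A B : Type u} [CommRing A] [CommRing B] [Algebra A B]

/-- if `C ⊆ B` is a finitely generated subalgebra, `t ∈ C` and `C[1/t] → B[1/t]` is surjective,
then `B[1/t]` is of finite type. -/
theorem finiteType_away (C : Subalgebra A B) (hC : C.FG) (t : B) (_ht : t ∈ C)
    (H : ∀ b : B, ∃ n, t ^ n * b ∈ C) (Bt : Type u) [CommRing Bt] [Algebra B Bt]
    [IsLocalization.Away t Bt] [Algebra A Bt] [IsScalarTower A B Bt] :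
    Algebra.FiniteType A Bt := by
  classical
  obtain ⟨s, hs⟩ := hC
  let φ : B →ₐ[A] Bt := IsScalarTower.toAlgHom A B Bt
  refine ⟨⟨s.image φ ∪ {IsLocalization.Away.invSelf t}, ?_⟩⟩
  rw [eq_top_iff]
  rintro y -
  set T := Algebra.adjoin A ((s.image φ ∪ {IsLocalization.Away.invSelf t} : Finset Bt) : Set Bt)
    with hT
  have hinv : IsLocalization.Away.invSelf t ∈ T :=
    Algebra.subset_adjoin (by simp)
  have hCT : ∀ c ∈ C, φ c ∈ T := by
    intro c hc
    have h1 : φ c ∈ (Algebra.adjoin A (s : Set B)).map φ := ⟨c, hs ▸ hc, rfl⟩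
    rw [AlgHom.map_adjoin] at h1
    refine Algebra.adjoin_mono ?_ h1
    intro z hz
    simp only [Finset.coe_union, Finset.coe_image, Set.mem_union]
    exact Or.inl hz
  obtain ⟨n, b, hb⟩ := IsLocalization.Away.surj t y
  obtain ⟨m, hm⟩ := H b
  have hunit : algebraMap B Bt t * IsLocalization.Away.invSelf t = 1 :=
    IsLocalization.Away.mul_invSelf t
  have : y = φ (t ^ m * b) * IsLocalization.Away.invSelf t ^ (m + n) := by
    have h1 : φ (t ^ m * b) = algebraMap B Bt t ^ m * (y * algebraMap B Bt t ^ n) := by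
      rw [hb]; simp [φ]
    rw [h1]
    have h2 : (algebraMap B Bt t * IsLocalization.Away.invSelf t) ^ (m + n) = 1 := by
      rw [hunit, one_pow]
    calc y = y * (algebraMap B Bt t * IsLocalization.Away.invSelf t) ^ (m + n) := by
          rw [h2, mul_one]
      _ = _ := by rw [mul_pow, pow_add]; ring
  rw [this]
  exact mul_mem (hCT _ hm) (pow_mem hinv _)

end Conclude

section Main

variable (A R' B : Type u) [CommRing A] [CommRing R'] [CommRing B] [Algebra A R'] [Algebra A B]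
  [Module.Flat A R']

/-- **Local faithfully flat descent of finite type.** -/
theorem exists_finiteType_away
    (hopen : ∀ (P : Type u) [CommRing P] [Algebra A P], IsOpenMap (PrimeSpectrum.comap
      (Algebra.TensorProduct.includeRight (R := A) (A := R') (B := P)).toRingHom))
    (b' : R' ⊗[A] B) (E' : Type u) [CommRing E']
    [Algebra (R' ⊗[A] B) E'] [Algebra R' E'] [IsScalarTower R' (R' ⊗[A] B) E']
    [IsLocalization.Away b' E'] [Algebra.FiniteType R' E']
    (𝔮 : PrimeSpectrum (R' ⊗[A] B)) (h𝔮 : b' ∉ 𝔮.asIdeal) :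
    ∃ t : B, ((1 : R') ⊗ₜ[A] t) ∉ 𝔮.asIdeal ∧
      Algebra.FiniteType A (Localization.Away t) := by
  obtain ⟨C, hC, hb', H⟩ := exists_fg_subalgebra (A := A) b' E'
  obtain ⟨q₀, hq₀⟩ := hb'
  let F := bc (R' := R') C.val
  have hF : F q₀ = b' := hq₀
  let 𝔮₀ : PrimeSpectrum (R' ⊗[A] C) := PrimeSpectrum.comap F.toRingHom 𝔮
  have h𝔮₀ : q₀ ∉ 𝔮₀.asIdeal := by
    intro h
    apply h𝔮
    rw [← hF]
    exact h
  obtain ⟨s₀, hs₀, hs₀'⟩ := exists_pow_mul_mem_range (R' := R') C.val (hopen C) q₀ 𝔮₀ h𝔮₀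
    (fun b => by
      obtain ⟨N, hN⟩ := H ((1 : R') ⊗ₜ[A] b)
      exact ⟨N, by rw [hF]; exact hN⟩)
  refine ⟨(s₀ : B), ?_, ?_⟩
  · intro h
    apply hs₀
    show F ((1 : R') ⊗ₜ[A] s₀) ∈ 𝔮.asIdeal
    simpa [F] using h
  · refine finiteType_away C hC (s₀ : B) s₀.2 (fun b => ?_) _
    obtain ⟨n, hn⟩ := hs₀' b
    refine ⟨n, ?_⟩
    obtain ⟨c, hc⟩ := hn
    rw [← show C.val s₀ = (s₀ : B) from rfl, ← hc]
    exact c.2

end Main

end Groth.Agent.R2.H24.LftDescRing
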