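import Groth.Agent.R2.H24LftDesc
import Groth.Agent.R2.H24MaxOpen

/-!
# A flat group scheme over a one-point base (with `BaseUO`) which is locally of finite type on a
nonempty open subscheme is locally of finite type (helper24)
-/

set_option autoImplicit false
set_option linter.unusedVariables false
set_option linter.unusedSectionVars false
set_option linter.style.haveILetI false

open CategoryTheory CategoryTheory.Limits MonoidalCategory CartesianMonoidalCategory MonObj GrpObj
  AlgebraicGeometry

universe u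

namespace Groth.Agent.R2.H24.LftGrp

open Groth.Agent.R2.H24.MaxOpen Groth.Agent.R2.H24.LftDesc Groth.Agent.Lib.Helper25.TopGrp

variable {A : CommRingCat.{u}}

set_option maxHeartbeats 1600000 in
/-- every point of `G` has an open neighbourhood locally of finite type over the base. -/
theorem exists_lft_nbhd_of_open [BaseUO (Spec A)] (hS : ∀ s t : Spec A, s = t)
    (G : Over (Spec A)) [GrpObj G] [Flat G.hom] (W : G.left.Opens)
    (hW : (W : Set G.left).Nonempty) [LocallyOfFiniteType (W.ι ≫ G.hom)] (x : G.left) :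
    ∃ (U : Scheme.{u}) (k : U ⟶ G.left), IsOpenImmersion k ∧ x ∈ Set.range k ∧
      LocallyOfFiniteType (k ≫ G.hom) := by
  obtain ⟨w₀, hw₀⟩ := hW
  let W' : Over (Spec A) := Over.mk (W.ι ≫ G.hom)
  let ιW : W' ⟶ G := Over.homMk W.ι rfl
  haveI : IsOpenImmersion ιW.left := by simp only [ιW, Over.homMk_left]; infer_instance
  haveI : LocallyOfFiniteType W'.hom := by simp only [W', Over.mk_hom]; infer_instance
  let σ := actIso (𝟙 G)
  let jj : G ⊗ W' ⟶ G ⊗ G := (G ◁ ιW) ≫ σ.hom
  let m : G ⊗ W' ⟶ G := (fst G W') * (snd G W' ≫ ιW)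
  have hjfst : jj ≫ fst G G = fst G W' := by
    simp [jj, σ, actIso]
  have hjsnd : jj ≫ snd G G = m := by
    simp only [jj, σ, actIso, m, Category.assoc, lift_snd, Category.comp_id]
    rw [MonObj.comp_mul, whiskerLeft_fst, whiskerLeft_snd]
  haveI : IsOpenImmersion jj.left := by
    simp only [jj, Over.comp_left]
    haveI := whiskerLeft_left_mem @IsOpenImmersion G ιW inferInstance
    haveI : IsIso σ.hom.left := inferInstanceAs (IsIso ((Over.forget _).map σ.hom))
    infer_instance
  let j : (G ⊗ W').left ⟶ pullback G.hom G.hom := jj.left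
  haveI : IsOpenImmersion j := ‹IsOpenImmersion jj.left›
  have hj1 : j ≫ pullback.fst G.hom G.hom = pullback.fst G.hom W'.hom := by
    have := congrArg (fun φ => φ.left) hjfst
    simpa using this
  have hj2 : j ≫ pullback.snd G.hom G.hom = m.left := by
    have := congrArg (fun φ => φ.left) hjsnd
    simpa using this
  haveI : LocallyOfFiniteType (j ≫ pullback.fst G.hom G.hom) := by
    rw [hj1]; infer_instance
  -- the point
  let ψ : G ⊗ W' ⟶ G ⊗ W' := lift ((fst G W') * (snd G W' ≫ ιW)⁻¹) (snd G W')
  have hψm : ψ ≫ m = fst G W' := by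
    simp only [ψ, m]
    rw [MonObj.comp_mul, lift_fst, lift_snd_assoc, inv_mul_cancel_right]
  obtain ⟨z₀, hz₀, -⟩ := Scheme.Pullback.exists_preimage_pullback (f := G.hom) (g := W'.hom)
    x ⟨w₀, hw₀⟩ (hS _ _)
  obtain ⟨U, k, hk, hxk, hlft⟩ := exists_lft_nbhd G.hom G.hom j (ψ.left z₀)
  refine ⟨U, k, hk, ?_, hlft⟩
  have : (j ≫ pullback.snd G.hom G.hom) (ψ.left z₀) = x := by
    rw [hj2, ← Scheme.Hom.comp_apply, ← Over.comp_left, hψm]
    exact hz₀
  rwa [this] at hxk

/-- **(L)** a flat group scheme over a one-point base with `BaseUO`, locally of finite type on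
a nonempty open subscheme, is locally of finite type. -/
theorem locallyOfFiniteType_of_open [BaseUO (Spec A)] (hS : ∀ s t : Spec A, s = t)
    (G : Over (Spec A)) [GrpObj G] [Flat G.hom] (W : G.left.Opens)
    (hW : (W : Set G.left).Nonempty) [LocallyOfFiniteType (W.ι ≫ G.hom)] :
    LocallyOfFiniteType G.hom := by
  choose U k hk hxk hlft using exists_lft_nbhd_of_open hS G W hW
  let 𝒰 : G.left.OpenCover := Scheme.Cover.mkOfCovers G.left U k (fun x => ⟨x, hxk x⟩) hk
  exact IsZariskiLocalAtSource.of_openCover 𝒰 (fun x => hlft x)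

end Groth.Agent.R2.H24.LftGrp
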