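import Groth.Agent.S5338

/-!
# Locally of finite type can be checked modulo a nilpotent ideal of the (affine) base (helper24)
-/

set_option autoImplicit false
set_option linter.style.haveILetI false
universe u

open CategoryTheory CategoryTheory.Limits AlgebraicGeometry TensorProduct

namespace Groth.Agent.R2.H24.NilpLft

/-- a Zariski-local-at-source property holds if it holds on all affine charts. -/
theorem of_forall_affine_chart (P : MorphismProperty Scheme.{u}) [IsZariskiLocalAtSource P]
    {X Y : Scheme.{u}} (f : X ⟶ Y)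
    (h : ∀ (C : CommRingCat.{u}) (ι : Spec C ⟶ X), IsOpenImmersion ι → P (ι ≫ f)) : P f := by
  have hx := fun x : X =>
    Scheme.exists_affine_mem_range_and_range_subset (X := X) (x := x) (U := ⊤) trivial
  choose C ι hoi hxι _ using hx
  let 𝒰 : X.OpenCover :=
    Scheme.Cover.mkOfCovers X (fun x => Spec (C x)) ι (fun x => ⟨x, hxι x⟩) hoi
  exact IsZariskiLocalAtSource.of_openCover 𝒰 (fun x => h _ _ (hoi x))

/-- if `I ⊆ A` is nilpotent and `X ×_A (A/I) → Spec (A/I)` is locally of finite type, then so is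
`X → Spec A`. -/
theorem locallyOfFiniteType_of_nilpotent {A : Type u} [CommRing A] (I : Ideal A)
    (hI : IsNilpotent I) {X : Scheme.{u}} (f : X ⟶ Spec (CommRingCat.of A))
    [LocallyOfFiniteType
      (pullback.fst (Spec.map (CommRingCat.ofHom (algebraMap A (A ⧸ I)))) f)] :
    LocallyOfFiniteType f := by
  refine of_forall_affine_chart @LocallyOfFiniteType f fun C ι hoi => ?_
  obtain ⟨φ, hφ⟩ : ∃ φ : CommRingCat.of A ⟶ C, Spec.map φ = ι ≫ f :=
    ⟨_, Spec.map_preimage _⟩
  obtain ⟨r, hr⟩ : ∃ r : Spec (CommRingCat.of (A ⧸ I)) ⟶ Spec (CommRingCat.of A),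
      r = Spec.map (CommRingCat.ofHom (algebraMap A (A ⧸ I))) := ⟨_, rfl⟩
  have h0 : LocallyOfFiniteType (pullback.fst r f) := by rw [hr]; infer_instance
  have h1 : LocallyOfFiniteType (pullback.fst r (ι ≫ f)) := by
    have : pullback.fst r (ι ≫ f) =
        pullback.map r (ι ≫ f) r f (𝟙 _) ι (𝟙 _) (by simp) (by simp) ≫ pullback.fst r f :=
      (pullback.lift_fst _ _ _).symm
    rw [this]
    infer_instance
  rw [← hφ] at h1 ⊢
  rw [HasRingHomProperty.Spec_iff (P := @LocallyOfFiniteType)]
  let _ : Algebra A C := φ.hom.toAlgebra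
  show (algebraMap A C).FiniteType
  rw [RingHom.finiteType_algebraMap]
  refine Groth.Agent.S5338.finiteType_of_quotient_nilpotent A C I hI ?_
  refine Algebra.FiniteType.equiv ?_ (Algebra.TensorProduct.quotIdealMapEquivQuotTensor C I).symm
  have h2 : LocallyOfFiniteType
      (Spec.map (CommRingCat.ofHom (algebraMap (A ⧸ I) ((A ⧸ I) ⊗[A] C)))) := by
    rw [← pullbackSpecIso_inv_fst' A (A ⧸ I) C]
    have : LocallyOfFiniteType (pullback.fst (Spec.map (CommRingCat.ofHom (algebraMap A (A ⧸ I))))
        (Spec.map (CommRingCat.ofHom (algebraMap A C)))) := hr ▸ h1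
    infer_instance
  exact RingHom.finiteType_algebraMap.mp
    ((HasRingHomProperty.Spec_iff (P := @LocallyOfFiniteType)).mp h2)

end Groth.Agent.R2.H24.NilpLft
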