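import Mathlib
import Groth.Agent.S0114
import Groth.Agent.Lib.Helper20CompDescSch
import Groth.Agent.R2.H24GrpHomLoci

/-!
# helper24: loci where a morphism has a property `P`, and fppf descent of such loci

`HasPAt P f x`: `f` has `P` on some open neighbourhood of `x`.  Stability under base change, and
descent along flat locally finitely presented base change of the target for
`P ∈ {flat + lfp, smooth, étale}`.
-/

set_option autoImplicit false

universe u

open CategoryTheory CategoryTheory.Limits AlgebraicGeometry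

namespace Groth.Agent.R2.H24.PLoci

variable {P : MorphismProperty Scheme.{u}}

/-- `f` has `P` on an open neighbourhood of `x`. -/
def HasPAt (P : MorphismProperty Scheme.{u}) {X Y : Scheme.{u}} (f : X ⟶ Y) (x : X) : Prop :=
  ∃ (U : Scheme.{u}) (i : U ⟶ X), IsOpenImmersion i ∧ x ∈ Set.range i ∧ P (i ≫ f)

theorem hasPAt_of_opens {X Y : Scheme.{u}} {f : X ⟶ Y} {x : X} (W : X.Opens) (hx : x ∈ W)
    (h : P (W.ι ≫ f)) : HasPAt P f x :=
  ⟨W, W.ι, inferInstance, by rw [Scheme.Opens.range_ι]; exact hx, h⟩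

theorem HasPAt.exists_opens [P.RespectsIso] {X Y : Scheme.{u}} {f : X ⟶ Y} {x : X}
    (h : HasPAt P f x) : ∃ W : X.Opens, x ∈ W ∧ P (W.ι ≫ f) := by
  obtain ⟨U, i, hi, hx, hP⟩ := h
  refine ⟨i.opensRange, hx, ?_⟩
  have e : i.opensRange.ι = (IsOpenImmersion.isoOfRangeEq i.opensRange.ι i (by simp)).hom ≫ i := by
    simp
  rw [e, Category.assoc]
  exact (P.cancel_left_of_respectsIso _ _).mpr hP

theorem HasPAt.mono {Q : MorphismProperty Scheme.{u}} (hPQ : P ≤ Q) {X Y : Scheme.{u}}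
    {f : X ⟶ Y} {x : X} (h : HasPAt P f x) : HasPAt Q f x := by
  obtain ⟨U, i, hi, hx, hP⟩ := h
  exact ⟨U, i, hi, hx, hPQ _ hP⟩

/-- base change stability. -/
theorem HasPAt.of_isPullback [P.IsStableUnderBaseChange] {A Z T T' : Scheme.{u}} {p : A ⟶ Z}
    {q' : A ⟶ T'} {q : Z ⟶ T} {g0 : T' ⟶ T} (hsq : IsPullback p q' q g0) (w : A)
    (h : HasPAt P q (p w)) : HasPAt P q' w := by
  obtain ⟨U, i, hi, ⟨u₀, hu₀⟩, hP⟩ := h
  obtain ⟨w', hw'1, hw'2⟩ := Scheme.Pullback.exists_preimage_pullback u₀ w hu₀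
  refine ⟨pullback i p, pullback.snd i p, inferInstance, ⟨w', hw'2⟩, ?_⟩
  exact P.of_isPullback ((IsPullback.of_hasPullback i p).paste_vert hsq) hP

/-- the class of properties whose loci descend along flat lfp base change of the target. -/
def Desc (P : MorphismProperty Scheme.{u}) : Prop :=
  ∀ {A Z T T' : Scheme.{u}} {p : A ⟶ Z} {q' : A ⟶ T'} {q : Z ⟶ T} {g0 : T' ⟶ T},
    IsPullback p q' q g0 → Flat g0 → LocallyOfFinitePresentation g0 → ∀ w : A,
      HasPAt P q' w → HasPAt P q (p w)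

/-- flat and locally of finite presentation. -/
abbrev FL : MorphismProperty Scheme.{u} := @Flat ⊓ @LocallyOfFinitePresentation

/-- descent on the source of flatness. -/
theorem flat_of_comp_surjective {X Y Z : Scheme.{u}} (a : X ⟶ Y) (r : Y ⟶ Z) [Surjective a]
    [Flat a] [Flat (a ≫ r)] : Flat r := by
  rw [Flat.iff_flat_stalkMap]
  intro y
  obtain ⟨x, rfl⟩ := a.surjective y
  exact Groth.Agent.Lib.Helper20.FlatDesc.flat_stalkMap_of_flat_comp r a x (Flat.stalkMap a x)
    (Flat.stalkMap (a ≫ r) x)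

/-- key step: a flat lfp map `q'` on an open of the base change descends to a flat lfp map on the
(open) image. -/
theorem exists_opens_FL {A Z T T' : Scheme.{u}} {p : A ⟶ Z} {q' : A ⟶ T'} {q : Z ⟶ T}
    {g0 : T' ⟶ T} (hsq : IsPullback p q' q g0) [Flat g0] [LocallyOfFinitePresentation g0]
    {U : Scheme.{u}} (i : U ⟶ A) [IsOpenImmersion i] (hfl : Flat (i ≫ q'))
    (hfp : LocallyOfFinitePresentation (i ≫ q')) :
    ∃ W : Z.Opens, (W : Set Z) = Set.range (i ≫ p) ∧ Flat (W.ι ≫ q) ∧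
      LocallyOfFinitePresentation (W.ι ≫ q) := by
  have hpfl : Flat p := MorphismProperty.of_isPullback (P := @Flat) hsq.flip ‹_›
  have hpfp : LocallyOfFinitePresentation p :=
    MorphismProperty.of_isPullback (P := @LocallyOfFinitePresentation) hsq.flip ‹_›
  let a : U ⟶ Z := i ≫ p
  have hafl : Flat a := inferInstance
  have hafp : LocallyOfFinitePresentation a := inferInstance
  have hopen : IsOpen (Set.range a) := a.isOpenMap.isOpen_range
  let W : Z.Opens := ⟨Set.range a, hopen⟩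
  have hsub : Set.range a ⊆ Set.range W.ι := by
    rw [Scheme.Opens.range_ι]; exact subset_rfl
  let a' : U ⟶ W := IsOpenImmersion.lift W.ι a hsub
  have ha' : a' ≫ W.ι = a := IsOpenImmersion.lift_fac _ _ _
  have ha'fl : Flat a' := by
    apply MorphismProperty.of_postcomp (W := @Flat) (W' := @IsOpenImmersion) a' W.ι inferInstance
    rw [ha']; exact hafl
  have ha'fp : LocallyOfFinitePresentation a' := by
    apply MorphismProperty.of_postcomp (W := @LocallyOfFinitePresentation)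
      (W' := @IsOpenImmersion) a' W.ι inferInstance
    rw [ha']; exact hafp
  have ha'surj : Surjective a' := by
    constructor
    rintro ⟨z, ⟨u₀, hu₀⟩⟩
    refine ⟨u₀, ?_⟩
    apply W.ι.isEmbedding.injective
    rw [← Scheme.Hom.comp_apply, ha']
    exact hu₀
  have hcomp : a' ≫ W.ι ≫ q = (i ≫ q') ≫ g0 := by
    rw [← Category.assoc, ha', Category.assoc, Category.assoc, hsq.w]
  have hcfl : Flat (a' ≫ W.ι ≫ q) := by rw [hcomp]; infer_instance
  have hcfp : LocallyOfFinitePresentation (a' ≫ W.ι ≫ q) := by rw [hcomp]; infer_instance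
  exact ⟨W, rfl, flat_of_comp_surjective a' (W.ι ≫ q), Groth.Agent.S0114.result a' (W.ι ≫ q)⟩

theorem desc_FL : Desc (FL.{u}) := by
  intro A Z T T' p q' q g0 hsq hfl hfp w h
  obtain ⟨U, i, hi, ⟨u₀, hu₀⟩, h1, h2⟩ := h
  obtain ⟨W, hW, hWfl, hWfp⟩ := exists_opens_FL hsq i h1 h2
  refine hasPAt_of_opens W ?_ ⟨hWfl, hWfp⟩
  change p w ∈ (W : Set Z)
  rw [hW]
  exact ⟨u₀, by rw [Scheme.Hom.comp_apply, hu₀]⟩

/-- descent for properties `P ≤ FL` whose locus, for locally finitely presented morphisms, is cut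
out by a pointwise condition `Q` on stalk maps which descends along flat base change. -/
theorem desc_of_pointwise
    (Q : ∀ {R S : Type u} [CommRing R] [CommRing S], (R →+* S) → Prop)
    (hPFL : P ≤ FL.{u})
    (h1 : ∀ {X Y : Scheme.{u}} (f : X ⟶ Y) [LocallyOfFinitePresentation f] (x : X),
      HasPAt P f x ↔ Q (f.stalkMap x).hom)
    (h3 : ∀ {A Z T T' : Scheme.{u}} {p : A ⟶ Z} {q' : A ⟶ T'} {q : Z ⟶ T} {g0 : T' ⟶ T}
      (_ : IsPullback p q' q g0) [LocallyOfFinitePresentation q] [Flat g0] (w : A),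
      Q (q'.stalkMap w).hom → Q (q.stalkMap (p w)).hom) :
    Desc P := by
  intro A Z T T' p q' q g0 hsq hfl hfp w h
  obtain ⟨U, i, hi, ⟨u₀, hu₀⟩, hP⟩ := h
  obtain ⟨hflat, hlfp⟩ := hPFL _ hP
  obtain ⟨W, hW, hWfl, hWfp⟩ := exists_opens_FL hsq i hflat hlfp
  have hsq₁ : IsPullback (pullback.fst W.ι p) (pullback.snd W.ι p ≫ q') (W.ι ≫ q) g0 :=
    (IsPullback.of_hasPullback W.ι p).paste_vert hsq
  have hlfp₁ : LocallyOfFinitePresentation (pullback.snd W.ι p ≫ q') :=
    MorphismProperty.of_isPullback (P := @LocallyOfFinitePresentation) hsq₁ hWfp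
  have hrange : Set.range i ⊆ Set.range (pullback.snd W.ι p) := by
    rw [Scheme.Pullback.range_snd, Scheme.Opens.range_ι]
    rintro _ ⟨u, rfl⟩
    change p (i u) ∈ (W : Set Z)
    rw [hW]
    exact ⟨u, by rw [Scheme.Hom.comp_apply]⟩
  let i₁ : U ⟶ pullback W.ι p := IsOpenImmersion.lift (pullback.snd W.ι p) i hrange
  have hi₁ : i₁ ≫ pullback.snd W.ι p = i := IsOpenImmersion.lift_fac _ _ _
  have hi₁o : IsOpenImmersion i₁ := by
    have : IsOpenImmersion (i₁ ≫ pullback.snd W.ι p) := by rw [hi₁]; exact hi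
    exact IsOpenImmersion.of_comp i₁ (pullback.snd W.ι p)
  have hw₁ : pullback.snd W.ι p (i₁ u₀) = w := by
    rw [← Scheme.Hom.comp_apply, hi₁, hu₀]
  have hP₁ : HasPAt P (pullback.snd W.ι p ≫ q') (i₁ u₀) :=
    ⟨U, i₁, hi₁o, ⟨u₀, rfl⟩, by rw [← Category.assoc, hi₁]; exact hP⟩
  have hQ₁ := (h1 (pullback.snd W.ι p ≫ q') (i₁ u₀)).mp hP₁
  have hQ₂ := h3 hsq₁ (i₁ u₀) hQ₁
  obtain ⟨U₂, i₂, hi₂, ⟨u₂, hu₂⟩, hP₂⟩ := (h1 (W.ι ≫ q) _).mpr hQ₂
  refine ⟨U₂, i₂ ≫ W.ι, inferInstance, ⟨u₂, ?_⟩, by rw [Category.assoc]; exact hP₂⟩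
  rw [Scheme.Hom.comp_apply, hu₂, ← Scheme.Hom.comp_apply, pullback.condition,
    Scheme.Hom.comp_apply, hw₁]

open Groth.Agent.R2.H24.GrpHomLoci Groth.Agent.Lib.Helper5.FibSmConstr
  Groth.Agent.Lib.Helper5.FibMorLoci in
theorem desc_smooth : Desc (@Smooth.{u}) := by
  refine desc_of_pointwise (fun φ => RingHom.FormallySmooth φ) ?_ ?_ ?_
  · intro X Y f hf
    exact ⟨inferInstance, inferInstance⟩
  · intro X Y f _ x
    rw [← Scheme.Hom.mem_smoothLocus, mem_smoothLocus_iff_exists_nbhd]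
    constructor
    · intro h; exact h.exists_opens
    · rintro ⟨W, hx, hW⟩; exact hasPAt_of_opens W hx hW
  · intro A Z T T' p q' q g0 hsq _ _ w h
    exact (formallySmooth_stalkMap_iff_of_isPullback hsq w).mp h

open Groth.Agent.R2.H24.GrpHomLoci Groth.Agent.Lib.Helper5.FibSmConstr
  Groth.Agent.Lib.Helper5.FibMorLoci in
theorem desc_etale : Desc (@Etale.{u}) := by
  refine desc_of_pointwise
    (fun φ => RingHom.FormallySmooth φ ∧ RingHom.FormallyUnramified φ) ?_ ?_ ?_
  · intro X Y f hf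
    exact ⟨inferInstance, inferInstance⟩
  · intro X Y f _ x
    have := exists_etale_nbhd_iff f x
    constructor
    · intro h
      exact this.mp h.exists_opens
    · intro h
      obtain ⟨W, hx, hW⟩ := this.mpr h
      exact hasPAt_of_opens W hx hW
  · intro A Z T T' p q' q g0 hsq _ _ w h
    exact ⟨(formallySmooth_stalkMap_iff_of_isPullback hsq w).mp h.1,
      (formallyUnramified_stalkMap_iff_of_isPullback hsq w).mp h.2⟩

end Groth.Agent.R2.H24.PLoci
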