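import Mathlib
import Groth.Agent.R2.H24PLoci
import Groth.Agent.R2.H24MaxOpen
import Groth.Agent.R2.H24HomogSep
import Groth.Agent.Lib.Helper3GrpHomQF

/-!
# helper24: the `P`-locus of a homomorphism of group schemes is stable under translation by
points with values in flat lfp `S`-schemes
-/

set_option autoImplicit false

universe u

open CategoryTheory CategoryTheory.Limits MonoidalCategory CartesianMonoidalCategory MonObj GrpObj
  AlgebraicGeometry

namespace Groth.Agent.R2.H24.PLociGrp

open Groth.Agent.R2.H24.PLoci Groth.Agent.Lib.Helper3.GrpHomQF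

variable {S : Scheme.{u}} (G H : Over S) (u : G ⟶ H)

/-- `u × id_T` is the base change of `u` along the first projection. -/
theorem isPullback_whiskerRight (T : Over S) :
    IsPullback (fst G T).left (u ▷ T).left u.left (fst H T).left := by
  have hr : IsPullback (snd H T).left (fst H T).left T.hom H.hom :=
    (IsPullback.of_hasPullback H.hom T.hom).flip
  have h1 : (u ▷ T).left ≫ (snd H T).left = (snd G T).left := by
    rw [← Over.comp_left, whiskerRight_snd]
  have h2 : (u ▷ T).left ≫ (fst H T).left = (fst G T).left ≫ u.left := by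
    rw [← Over.comp_left, whiskerRight_fst, Over.comp_left]
  have ho : IsPullback ((u ▷ T).left ≫ (snd H T).left) (fst G T).left T.hom (u.left ≫ H.hom) := by
    rw [h1, Over.w u]
    exact (IsPullback.of_hasPullback G.hom T.hom).flip
  exact (IsPullback.of_right ho h2 hr).flip

variable [GrpObj G] [GrpObj H] [IsMonHom u]

lemma shear_comm' {T : Over S} (t : T ⟶ G) :
    (shearHom t).hom ≫ (u ▷ T) = (u ▷ T) ≫ (shearHom (t ≫ u)).hom := by
  apply CartesianMonoidalCategory.hom_ext
  · simp [shearHom, MonObj.comp_mul, MonObj.mul_comp]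
  · simp [shearHom]

variable {P : MorphismProperty Scheme.{u}}

/-- right translation by a point with values in a flat lfp `S`-scheme preserves the `P`-locus. -/
theorem hasPAt_mul [P.IsStableUnderBaseChange] (hdesc : Desc P) {T : Over S} [Flat T.hom]
    [LocallyOfFinitePresentation T.hom] (t : T ⟶ G) (z : (G ⊗ T).left)
    (h : HasPAt P u.left ((fst G T).left z)) :
    HasPAt P u.left ((fst G T * (snd G T ≫ t)).left z) := by
  have hsq := isPullback_whiskerRight G H u T
  have step1 : HasPAt P (u ▷ T).left z := HasPAt.of_isPullback hsq z h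
  have hcomm := shear_comm' G H u t
  have hcomm' : (shearHom t).inv ≫ (u ▷ T) = (u ▷ T) ≫ (shearHom (t ≫ u)).inv := by
    rw [Iso.inv_comp_eq, ← Category.assoc, hcomm, Category.assoc, Iso.hom_inv_id, Category.comp_id]
  haveI : IsIso (shearHom t).inv.left := inferInstance
  haveI : IsIso (shearHom (t ≫ u)).inv.left := inferInstance
  have hiso : IsPullback (shearHom t).inv.left (u ▷ T).left (u ▷ T).left
      (shearHom (t ≫ u)).inv.left :=
    IsPullback.of_horiz_isIso ⟨by rw [← Over.comp_left, ← Over.comp_left, hcomm']⟩
  have step2 : HasPAt P (u ▷ T).left ((shearHom t).hom.left z) := by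
    apply HasPAt.of_isPullback hiso
    have : (shearHom t).inv.left ((shearHom t).hom.left z) = z := by
      rw [← Scheme.Hom.comp_apply, ← Over.comp_left, Iso.hom_inv_id]; rfl
    rw [this]; exact step1
  haveI : Flat (fst H T).left := inferInstanceAs (Flat (pullback.fst H.hom T.hom))
  haveI : LocallyOfFinitePresentation (fst H T).left :=
    inferInstanceAs (LocallyOfFinitePresentation (pullback.fst H.hom T.hom))
  have step3 := hdesc hsq inferInstance inferInstance _ step2
  have hpt : (fst G T).left ((shearHom t).hom.left z) = (fst G T * (snd G T ≫ t)).left z := by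
    rw [← Scheme.Hom.comp_apply, ← Over.comp_left]
    congr 2
    simp [shearHom]
  rw [hpt] at step3
  exact step3

/-- the `P`-locus is stable under inversion. -/
theorem hasPAt_inv [P.IsStableUnderBaseChange] (g : G.left) (h : HasPAt P u.left g) :
    HasPAt P u.left (ι[G].left g) := by
  let eG : G ≅ G := ⟨ι[G], ι[G], by simp, by simp⟩
  let eH : H ≅ H := ⟨ι[H], ι[H], by simp, by simp⟩
  haveI : IsIso (ι[G] : G ⟶ G).left :=
    inferInstanceAs (IsIso ((Over.forget S).mapIso eG).hom)
  haveI : IsIso (ι[H] : H ⟶ H).left :=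
    inferInstanceAs (IsIso ((Over.forget S).mapIso eH).hom)
  have hiso : IsPullback (ι[G] : G ⟶ G).left u.left u.left (ι[H] : H ⟶ H).left :=
    IsPullback.of_horiz_isIso ⟨by rw [← Over.comp_left, ← Over.comp_left, GrpObj.inv_hom]⟩
  apply HasPAt.of_isPullback hiso
  have : (ι[G] : G ⟶ G).left ((ι[G] : G ⟶ G).left g) = g := by
    rw [← Scheme.Hom.comp_apply, ← Over.comp_left]
    have : (ι[G] : G ⟶ G) ≫ ι[G] = 𝟙 G := by simp
    rw [this]; rfl
  rw [this]; exact h

end Groth.Agent.R2.H24.PLociGrp
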