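import Mathlib
import Groth.Prelude.Def_ChGrp
import Groth.Prelude.Def_AGF
import Groth.Agent.Lib.Helper6LfpComp
import Groth.Agent.R2.H24HomogSep
import Groth.Agent.R2.H24MaxOpen
import Groth.Agent.R2.H24PLociGrp

/-!
# helper24: the closure of a `G`-orbit is `G · closure (H-orbit)` when `G/H` is proper
-/

set_option autoImplicit false

universe u

open CategoryTheory CategoryTheory.Limits MonoidalCategory CartesianMonoidalCategory MonObj GrpObj
  AlgebraicGeometry

namespace Groth.Agent.R2.H24.OrbitClosure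

open Groth.Agent.R2.H24.HomogSep AlgGrp AlgGrp.Action

variable {S : Scheme.{u}} {G H X : Over S} [GrpObj G] [GrpObj H] (a : AlgGrp.Action G X)
  (i : H ⟶ G) [IsMonHom i] (x : 𝟙_ (Over S) ⟶ X)

/-- `g · (h · x) = (g h) · x`. -/
lemma whiskerLeft_orbit_act :
    (G ◁ (i ≫ a.orbitMap x)) ≫ a.act = ((G ◁ i) ≫ μ[G]) ≫ a.orbitMap x := by
  apply hom_ext_lift₂
  intro T g h
  rw [lift_whiskerLeft_assoc, ← Category.assoc h, comp_orbitMap, ← lift_mul_act]
  rw [Category.assoc, lift_whiskerLeft_assoc, ← Category.assoc, ← Hom.mul_def, comp_orbitMap]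

/-- `h₁ · (h₂ · x) = (h₁ h₂) · x` for the restricted action. -/
lemma whiskerLeft_orbit_act' :
    (H ◁ (i ≫ a.orbitMap x)) ≫ (i ▷ X) ≫ a.act = μ[H] ≫ i ≫ a.orbitMap x := by
  apply hom_ext_lift₂
  intro T h₁ h₂
  rw [lift_whiskerLeft_assoc, lift_whiskerRight_assoc, ← Category.assoc h₂, comp_orbitMap,
    ← lift_mul_act, ← Category.assoc, ← Hom.mul_def, ← Category.assoc, MonObj.mul_comp,
    comp_orbitMap]

/-- `g · (g⁻¹ · y) = y`. -/
lemma lift_fst_invAct_act : lift (fst G X) (invAct a) ≫ a.act = snd G X := by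
  apply hom_ext_lift₂
  intro T g y
  have h1 : lift g y ≫ invAct a = lift g⁻¹ y ≫ a.act := by
    rw [← Category.assoc, comp_lift, GrpObj.comp_inv, lift_fst, lift_snd]
  rw [← Category.assoc, comp_lift, lift_fst, h1, ← lift_mul_act, mul_inv_cancel, lift_one_act,
    lift_snd]

/-- the orbit map sends the unit to `x`. -/
lemma one_orbitMap : η[G] ≫ a.orbitMap x = x := by
  rw [comp_orbitMap]
  have h1 : (η[G] : 𝟙_ (Over S) ⟶ G) = 1 := by
    rw [Hom.one_def, toUnit_unique (toUnit (𝟙_ (Over S))) (𝟙 _), Category.id_comp]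
  rw [h1, toUnit_unique (toUnit (𝟙_ (Over S))) (𝟙 _), Category.id_comp, lift_one_act]

/-- the orbit of `x` lies in `G · Z` as soon as `x ∈ Z`. -/
lemma range_orbitMap_subset (Z : Set X.left) (hZ : Set.range x.left ⊆ Z) :
    Set.range (a.orbitMap x).left ⊆ a.act.left '' ((snd G X).left ⁻¹' Z) := by
  rintro _ ⟨g, rfl⟩
  refine ⟨(lift (𝟙 G) (toUnit G ≫ x)).left g, ?_, rfl⟩
  change (lift (𝟙 G) (toUnit G ≫ x) ≫ snd G X).left g ∈ Z
  rw [lift_snd]
  exact hZ ⟨(toUnit G).left g, rfl⟩

/-- `G · (H · x) ⊆ G · x`. -/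
lemma act_image_subset :
    a.act.left '' ((snd G X).left ⁻¹' Set.range (i ≫ a.orbitMap x).left) ⊆
      Set.range (a.orbitMap x).left := by
  rintro _ ⟨w, ⟨h', hh'⟩, rfl⟩
  have hpb := MaxOpen.isPullback_whiskerLeft G (i ≫ a.orbitMap x)
  obtain ⟨w', hw'1, -⟩ := exists_of_isPullback hpb w h' hh'.symm
  refine ⟨((G ◁ i) ≫ μ[G]).left w', ?_⟩
  rw [← hw'1, ← Scheme.Hom.comp_apply, ← Scheme.Hom.comp_apply, ← Over.comp_left,
    ← Over.comp_left, whiskerLeft_orbit_act]

/-- `H · (H · x) ⊆ H · x`. -/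
lemma act_image_subset' :
    ((i ▷ X) ≫ a.act).left '' ((snd H X).left ⁻¹' Set.range (i ≫ a.orbitMap x).left) ⊆
      Set.range (i ≫ a.orbitMap x).left := by
  rintro _ ⟨w, ⟨h', hh'⟩, rfl⟩
  have hpb := MaxOpen.isPullback_whiskerLeft H (i ≫ a.orbitMap x)
  obtain ⟨w', hw'1, -⟩ := exists_of_isPullback hpb w h' hh'.symm
  refine ⟨μ[H].left w', ?_⟩
  rw [← hw'1, ← Scheme.Hom.comp_apply, ← Scheme.Hom.comp_apply, ← Over.comp_left,
    ← Over.comp_left, whiskerLeft_orbit_act']

/-- for an action morphism whose projection is open, the image of the preimage of a closure lies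
in the closure of the image of the preimage. -/
lemma image_preimage_closure_subset {A B C : Type*} [TopologicalSpace A] [TopologicalSpace B]
    [TopologicalSpace C] (p : A → B) (m : A → C) (hp : IsOpenMap p) (hm : Continuous m)
    (R : Set B) (D : Set C) (h : m '' (p ⁻¹' R) ⊆ D) :
    m '' (p ⁻¹' closure R) ⊆ closure D := by
  calc m '' (p ⁻¹' closure R) ⊆ m '' closure (p ⁻¹' R) :=
        Set.image_mono hp.preimage_closure_subset_closure_preimage
    _ ⊆ closure (m '' (p ⁻¹' R)) := image_closure_subset_closure_image hm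
    _ ⊆ closure D := closure_mono h

section main

variable {K : Type u} [Field K]

open Groth.Agent.R2.H24.PLociGrp in
theorem closure_orbit_eq (G H Y X : Over (Spec (CommRingCat.of K))) [GrpObj G] [GrpObj H]
    (i : H ⟶ G) [IsMonHom i] (b : AlgGrp.Action G Y)
    (o' : 𝟙_ (Over (Spec (CommRingCat.of K))) ⟶ Y) (hY : AGF.IsQuotient i Y b o')
    [IsProper Y.hom] [LocallyOfFinitePresentation G.hom]
    (a : AlgGrp.Action G X) (x : 𝟙_ (Over (Spec (CommRingCat.of K))) ⟶ X) :
    closure (Set.range (a.orbitMap x).left) =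
      a.act.left '' ((snd G X).left ⁻¹' closure (Set.range (i ≫ a.orbitMap x).left)) := by
  obtain ⟨hYlft, hπfl, hπsurj, hpb⟩ := hY
  set π := b.orbitMap o' with hπ
  set ω := a.orbitMap x with hω
  set R := Set.range (i ≫ ω).left with hR
  set Z := closure R with hZ
  -- `x ∈ R`
  have hxR : Set.range x.left ⊆ R := by
    rintro _ ⟨s, rfl⟩
    refine ⟨η[H].left s, ?_⟩
    rw [← Scheme.Hom.comp_apply, ← Over.comp_left, ← Category.assoc, IsMonHom.one_hom,
      one_orbitMap]
  have hA : Set.range ω.left ⊆ a.act.left '' ((snd G X).left ⁻¹' Z) :=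
    range_orbitMap_subset a x Z (hxR.trans subset_closure)
  have huoG : UniversallyOpen (snd G X).left := by
    rw [Over.snd_left]; infer_instance
  have huoH : UniversallyOpen (snd H X).left := by
    rw [Over.snd_left]; infer_instance
  have hB : a.act.left '' ((snd G X).left ⁻¹' Z) ⊆ closure (Set.range ω.left) :=
    image_preimage_closure_subset _ _ (snd G X).left.isOpenMap a.act.left.continuous R _
      (act_image_subset a i x)
  -- `Z` is stable under `H`
  have hHstab : ((i ▷ X) ≫ a.act).left '' ((snd H X).left ⁻¹' Z) ⊆ Z :=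
    image_preimage_closure_subset _ _ (snd H X).left.isOpenMap
      ((i ▷ X) ≫ a.act).left.continuous R _ (act_image_subset' a i x)
  -- closedness
  let M : Set (G ⊗ X).left := (invAct a).left ⁻¹' Z
  have hM : IsClosed M := isClosed_closure.preimage (invAct a).left.continuous
  have hGZ : a.act.left '' ((snd G X).left ⁻¹' Z) = (snd G X).left '' M := by
    ext y
    constructor
    · rintro ⟨w, hw, rfl⟩
      refine ⟨(lift (fst G X) a.act).left w, ?_, ?_⟩
      · change (lift (fst G X) a.act ≫ invAct a).left w ∈ Z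
        rw [lift_fst_act_invAct]; exact hw
      · change (lift (fst G X) a.act ≫ snd G X).left w = _
        rw [lift_snd]
    · rintro ⟨w', hw', rfl⟩
      refine ⟨(lift (fst G X) (invAct a)).left w', ?_, ?_⟩
      · change (lift (fst G X) (invAct a) ≫ snd G X).left w' ∈ Z
        rw [lift_snd]; exact hw'
      · change (lift (fst G X) (invAct a) ≫ a.act).left w' = _
        rw [lift_fst_invAct_act]
  -- the quotient map `q = π × id`
  let q : G ⊗ X ⟶ Y ⊗ X := π ▷ X
  have hqsq := isPullback_whiskerRight G Y π X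
  have hπfp : LocallyOfFinitePresentation π.left := by
    apply Groth.Agent.Lib.Helper6.locallyOfFinitePresentation_of_comp (g := Y.hom) hYlft
    rw [Over.w π]; infer_instance
  have hqfl : Flat q.left := MorphismProperty.of_isPullback (P := @Flat) hqsq hπfl
  have hqfp : LocallyOfFinitePresentation q.left :=
    MorphismProperty.of_isPullback (P := @LocallyOfFinitePresentation) hqsq hπfp
  have hqsurj : Surjective q.left :=
    MorphismProperty.of_isPullback (P := @Surjective) hqsq hπsurj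
  have hquo : UniversallyOpen q.left := UniversallyOpen.of_flat _
  -- saturation
  have hsat : ∀ w₁ w₂ : (G ⊗ X).left, q.left w₁ = q.left w₂ → w₁ ∈ M → w₂ ∈ M := by
    intro w₁ w₂ hq hw₁
    obtain ⟨t, ht1, ht2⟩ := Scheme.Pullback.exists_preimage_pullback w₁ w₂ hq
    let T : Over (Spec (CommRingCat.of K)) :=
      Over.mk (pullback.fst q.left q.left ≫ (G ⊗ X).hom)
    let τ₁ : T ⟶ G ⊗ X := Over.homMk (pullback.fst q.left q.left) rfl
    let τ₂ : T ⟶ G ⊗ X := Over.homMk (pullback.snd q.left q.left) (by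
      change pullback.snd q.left q.left ≫ (G ⊗ X).hom = pullback.fst q.left q.left ≫ (G ⊗ X).hom
      rw [← Over.w q, ← Category.assoc, ← pullback.condition, Category.assoc])
    have hτ : τ₁ ≫ q = τ₂ ≫ q := by
      apply Over.OverMorphism.ext
      exact (pullback.condition (f := q.left) (g := q.left))
    have hx : τ₁ ≫ snd G X = τ₂ ≫ snd G X := by
      have := congrArg (· ≫ snd Y X) hτ
      simpa only [Category.assoc, q, whiskerRight_snd] using this
    have hg : (τ₁ ≫ fst G X) ≫ π = (τ₂ ≫ fst G X) ≫ π := by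
      have := congrArg (· ≫ fst Y X) hτ
      simpa only [Category.assoc, q, whiskerRight_fst] using this
    let l : T ⟶ G ⊗ H := hpb.lift (τ₁ ≫ fst G X) (τ₂ ≫ fst G X) hg
    have hl1 : l ≫ fst G H = τ₁ ≫ fst G X := hpb.lift_fst _ _ _
    have hl2 : l ≫ (G ◁ i) ≫ μ[G] = τ₂ ≫ fst G X := hpb.lift_snd _ _ _
    let h : T ⟶ H := l ≫ snd G H
    have hg₂ : τ₂ ≫ fst G X = (τ₁ ≫ fst G X) * (h ≫ i) := by
      rw [← hl2, ← hl1, Hom.mul_def, ← Category.assoc]
      congr 1
      apply CartesianMonoidalCategory.hom_ext <;> simp [h]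
    have e₁ : τ₁ ≫ invAct a = lift (τ₁ ≫ fst G X)⁻¹ (τ₁ ≫ snd G X) ≫ a.act := by
      rw [← Category.assoc, comp_lift, GrpObj.comp_inv]
    have e₂ : τ₂ ≫ invAct a = lift (τ₂ ≫ fst G X)⁻¹ (τ₂ ≫ snd G X) ≫ a.act := by
      rw [← Category.assoc, comp_lift, GrpObj.comp_inv]
    have key : τ₂ ≫ invAct a = lift h⁻¹ (τ₁ ≫ invAct a) ≫ (i ▷ X) ≫ a.act := by
      rw [e₂, e₁, hg₂, _root_.mul_inv_rev, lift_mul_act, lift_whiskerRight_assoc, ← hx,
        GrpObj.inv_comp]
    have hpt : (invAct a).left w₂ = ((i ▷ X) ≫ a.act).left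
        ((lift h⁻¹ (τ₁ ≫ invAct a)).left t) := by
      rw [← ht2]
      change (τ₂ ≫ invAct a).left t = (lift h⁻¹ (τ₁ ≫ invAct a) ≫ (i ▷ X) ≫ a.act).left t
      rw [key]
    change (invAct a).left w₂ ∈ Z
    rw [hpt]
    apply hHstab
    refine ⟨_, ?_, rfl⟩
    change (lift h⁻¹ (τ₁ ≫ invAct a) ≫ snd H X).left t ∈ Z
    rw [lift_snd]
    change (invAct a).left (pullback.fst q.left q.left t) ∈ Z
    rw [ht1]; exact hw₁
  -- `q '' M` is closed
  have hqM : IsClosed (q.left '' M) := by
    have hcompl : (q.left '' M)ᶜ = q.left '' Mᶜ := by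
      ext y
      constructor
      · intro hy
        obtain ⟨w, rfl⟩ := q.left.surjective y
        exact ⟨w, fun hw => hy ⟨w, hw, rfl⟩, rfl⟩
      · rintro ⟨w, hw, rfl⟩ ⟨w', hw', hww'⟩
        exact hw (hsat w' w hww' hw')
    rw [← isOpen_compl_iff, hcompl]
    exact q.left.isOpenMap _ hM.isOpen_compl
  have hprop : IsProper (snd Y X).left := by
    rw [Over.snd_left]; infer_instance
  have hfinal : (snd G X).left '' M = (snd Y X).left '' (q.left '' M) := by
    rw [← Set.image_comp]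
    congr 1
    funext w
    change _ = (q ≫ snd Y X).left w
    rw [whiskerRight_snd]
  have hC : IsClosed (a.act.left '' ((snd G X).left ⁻¹' Z)) := by
    rw [hGZ, hfinal]
    exact (snd Y X).left.isClosedMap _ hqM
  exact Set.Subset.antisymm (closure_minimal hA hC) hB

end main

end Groth.Agent.R2.H24.OrbitClosure
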