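import Mathlib
import Groth.Agent.Lib.Helper22Thick

/-!
# helper24: maps of local rings induced by pointed morphisms of schemes
-/

set_option autoImplicit false
set_option linter.style.haveILetI false

universe u

open CategoryTheory CategoryTheory.Limits AlgebraicGeometry TopologicalSpace Opposite

namespace Groth.Agent.R2.H24.PStalk

variable {X Y Z : Scheme.{u}}

/-- the map of local rings induced by a pointed morphism. -/
noncomputable def pstalk (f : X ⟶ Y) (x : X) (y : Y) (h : f x = y) :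
    Y.presheaf.stalk y ⟶ X.presheaf.stalk x :=
  (Y.presheaf.stalkCongr (.of_eq h.symm)).hom ≫ f.stalkMap x

lemma pstalk_rfl (f : X ⟶ Y) (x : X) : pstalk f x (f x) rfl = f.stalkMap x := by
  simp [pstalk]

lemma pstalk_id (x : X) (h : (𝟙 X : X ⟶ X) x = x) : pstalk (𝟙 X) x x h = 𝟙 _ := by
  simp [pstalk]

lemma pstalk_comp (f : X ⟶ Y) (g : Y ⟶ Z) (x : X) (y : Y) (z : Z) (hf : f x = y) (hg : g y = z)
    (hfg : (f ≫ g) x = z) :
    pstalk (f ≫ g) x z hfg = pstalk g y z hg ≫ pstalk f x y hf := by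
  subst hf hg
  simp [pstalk, Scheme.Hom.stalkMap_comp]

lemma pstalk_congr {f f' : X ⟶ Y} (e : f = f') (x : X) (y : Y) (h : f x = y) (h' : f' x = y) :
    pstalk f x y h = pstalk f' x y h' := by
  subst e; rfl

instance (f : X ⟶ Y) (x : X) (y : Y) (h : f x = y) : IsLocalHom (pstalk f x y h).hom := by
  subst h
  rw [pstalk_rfl]
  infer_instance

lemma germ_pstalk (f : X ⟶ Y) (x : X) (y : Y) (h : f x = y) (U : Y.Opens) (hy : y ∈ U)
    (hx : x ∈ f ⁻¹ᵁ U) :
    Y.presheaf.germ U y hy ≫ pstalk f x y h = f.app U ≫ X.presheaf.germ (f ⁻¹ᵁ U) x hx := by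
  subst h
  rw [pstalk_rfl]
  exact Scheme.Hom.germ_stalkMap f U x hy

lemma germ_pstalk_apply (f : X ⟶ Y) (x : X) (y : Y) (h : f x = y) (U : Y.Opens) (hy : y ∈ U)
    (hx : x ∈ f ⁻¹ᵁ U) (s : Γ(Y, U)) :
    (pstalk f x y h).hom (Y.presheaf.germ U y hy s) =
      X.presheaf.germ (f ⁻¹ᵁ U) x hx ((f.app U).hom s) :=
  congrArg (fun φ => φ.hom s) (germ_pstalk f x y h U hy hx)

lemma germ_pstalk_appLE_apply (f : X ⟶ Y) (x : X) (y : Y) (h : f x = y) (U : Y.Opens) (V : X.Opens)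
    (e : V ≤ f ⁻¹ᵁ U) (hy : y ∈ U) (hx : x ∈ V) (s : Γ(Y, U)) :
    (pstalk f x y h).hom (Y.presheaf.germ U y hy s) =
      X.presheaf.germ V x hx ((f.appLE U V e).hom s) := by
  rw [germ_pstalk_apply f x y h U hy (e hx), Scheme.Hom.appLE, CommRingCat.hom_comp,
    RingHom.comp_apply]
  exact (X.presheaf.germ_res_apply (homOfLE e) x hx _).symm

/-- **the kernel of a base-changed closed immersion at the level of local rings**: in a cartesian
square over a closed immersion `i`, the kernel of `𝒪_{X,x} → 𝒪_{X₀,x₀}` is generated by the image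
of the kernel of `𝒪_{Y,y} → 𝒪_{Y₀,y₀}`. -/
theorem ker_pstalk_le {X₀ Y₀ X Y : Scheme.{u}} {i' : X₀ ⟶ X} {g₀ : X₀ ⟶ Y₀} {g : X ⟶ Y}
    {i : Y₀ ⟶ Y} (sq : IsPullback i' g₀ g i) [IsClosedImmersion i] (x₀ : X₀) (x : X) (y₀ : Y₀)
    (y : Y) (hx : i' x₀ = x) (hy : i y₀ = y) (hg : g x = y) :
    RingHom.ker (pstalk i' x₀ x hx).hom ≤
      (RingHom.ker (pstalk i y₀ y hy).hom).map (pstalk g x y hg).hom := by
  haveI : IsClosedImmersion i' := MorphismProperty.of_isPullback sq.flip ‹_›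
  intro b hb
  rw [RingHom.mem_ker] at hb
  -- an affine neighbourhood of `y`
  obtain ⟨U, hU, hyU, -⟩ := exists_isAffineOpen_mem_and_subset (x := y) (U := ⊤) trivial
  have hxgU : x ∈ g ⁻¹ᵁ U := by
    change g x ∈ U; rw [hg]; exact hyU
  -- represent `b` by a section
  obtain ⟨V₀, hV₀U, hxV₀, s₀, hs₀⟩ := X.presheaf.exists_le_germ_eq b hxgU
  have hx₀ : x₀ ∈ i' ⁻¹ᵁ V₀ := by
    change i' x₀ ∈ V₀; rw [hx]; exact hxV₀
  have h0 : X₀.presheaf.germ (i' ⁻¹ᵁ V₀) x₀ hx₀ ((i'.app V₀).hom s₀) = 0 := by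
    rw [← germ_pstalk_apply i' x₀ x hx V₀ hxV₀ hx₀, hs₀, hb]
  obtain ⟨N, iN, hxN, hN⟩ := X₀.toRingedSpace.exists_res_eq_zero_of_germ_eq_zero (i' ⁻¹ᵁ V₀)
    ((i'.app V₀).hom s₀) ⟨x₀, hx₀⟩ h0
  -- `N` is the preimage of an open of `X`
  obtain ⟨W, hWopen, hWN⟩ := (i'.isEmbedding.isInducing.isOpen_iff).mp N.2
  let W' : X.Opens := ⟨W, hWopen⟩
  have hxW' : x ∈ W' := by
    have : x₀ ∈ (i' ⁻¹' W : Set X₀) := by rw [hWN]; exact hxN
    rw [← hx]; exact this
  obtain ⟨V, hV, hxV, hVsub⟩ := exists_isAffineOpen_mem_and_subset (x := x) (U := V₀ ⊓ W')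
    ⟨hxV₀, hxW'⟩
  have hVV₀ : V ≤ V₀ := fun z hz => (hVsub hz).1
  have hVW' : V ≤ W' := fun z hz => (hVsub hz).2
  have hVU : V ≤ g ⁻¹ᵁ U := hVV₀.trans hV₀U
  set s : Γ(X, V) := (X.presheaf.map (homOfLE hVV₀).op).hom s₀ with hs
  have hbs : X.presheaf.germ V x hxV s = b := by
    rw [hs, X.presheaf.germ_res_apply (homOfLE hVV₀) x hxV s₀, hs₀]
  -- `s` dies on `i'⁻¹ V`
  have hpreN : i' ⁻¹ᵁ V ≤ N := by
    intro z hz
    have : z ∈ (i' ⁻¹' W : Set X₀) := hVW' hz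
    rw [hWN] at this
    exact this
  have hker : s ∈ RingHom.ker (i'.app V).hom := by
    rw [RingHom.mem_ker, hs]
    have hnat := congrArg (fun φ => φ.hom s₀) (i'.naturality (homOfLE hVV₀).op)
    simp only [CommRingCat.hom_comp, RingHom.comp_apply] at hnat
    rw [hnat]
    have hfac : (X₀.presheaf.map (i'.preimage_mono hVV₀).hom.op) =
        X₀.presheaf.map iN.op ≫ X₀.presheaf.map (homOfLE hpreN).op := by
      rw [← Functor.map_comp]; rfl
    change (X₀.presheaf.map (i'.preimage_mono hVV₀).hom.op).hom ((i'.app V₀).hom s₀) = 0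
    rw [hfac, CommRingCat.hom_comp, RingHom.comp_apply]
    erw [hN]
    rw [map_zero]
  have hmem := Groth.Agent.Lib.Helper22.Thick.ker_app_le sq hU hV hVU hker
  -- pass to germs
  rw [← hbs]
  have hle : (RingHom.ker (i.app U).hom).map (g.appLE U V hVU).hom ≤
      ((RingHom.ker (pstalk i y₀ y hy).hom).map (pstalk g x y hg).hom).comap
        (X.presheaf.germ V x hxV).hom := by
    rw [Ideal.map_le_iff_le_comap]
    intro a ha
    rw [RingHom.mem_ker] at ha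
    rw [Ideal.mem_comap, Ideal.mem_comap,
      ← germ_pstalk_appLE_apply g x y hg U V hVU hyU hxV a]
    apply Ideal.mem_map_of_mem
    rw [RingHom.mem_ker]
    have hy₀ : y₀ ∈ i ⁻¹ᵁ U := by
      change i y₀ ∈ U; rw [hy]; exact hyU
    rw [germ_pstalk_apply i y₀ y hy U hyU hy₀, ha, map_zero]
  exact hle hmem

end Groth.Agent.R2.H24.PStalk
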