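import Mathlib
import Groth.Agent.Lib.Helper11RigidAntiE

/-!
# helper24: words in a morphism `f : X ⟶ G` and rational points (SGA3 VI_B 7.x)
-/

set_option autoImplicit false

universe u

open CategoryTheory CategoryTheory.Limits MonoidalCategory CartesianMonoidalCategory MonObj GrpObj
  AlgebraicGeometry

namespace Groth.Agent.R2.H24.Words

section general

variable {S : Scheme.{u}} (X : Over S)

/-- the `n`-fold power of `X` over `S`. -/
noncomputable def Pn : ℕ → Over S
  | 0 => 𝟙_ (Over S)
  | n + 1 => X ⊗ Pn n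

/-- the projections of the `n`-fold power. -/
noncomputable def proj : (n : ℕ) → Fin n → (Pn X n ⟶ X)
  | 0, j => Fin.elim0 j
  | n + 1, j => Fin.cases (fst X (Pn X n)) (fun j' => snd X (Pn X n) ≫ proj n j') j

variable {X}

/-- the point of the `n`-fold power given by an `n`-tuple of points. -/
noncomputable def tup {T : Over S} : (n : ℕ) → (Fin n → (T ⟶ X)) → (T ⟶ Pn X n)
  | 0, _ => toUnit T
  | n + 1, x => lift (x 0) (tup n (fun j => x j.succ))

lemma tup_proj {T : Over S} : ∀ (n : ℕ) (x : Fin n → (T ⟶ X)) (j : Fin n),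
    tup n x ≫ proj X n j = x j
  | 0, _, j => Fin.elim0 j
  | n + 1, x, j => by
    refine Fin.cases ?_ (fun j' => ?_) j
    · change lift (x 0) (tup n (fun j => x j.succ)) ≫ fst X (Pn X n) = x 0
      rw [lift_fst]
    · change lift (x 0) (tup n (fun j => x j.succ)) ≫ snd X (Pn X n) ≫ proj X n j' = x j'.succ
      rw [lift_snd_assoc, tup_proj n]

lemma locallyOfFiniteType_Pn [LocallyOfFiniteType X.hom]
    (h1 : LocallyOfFiniteType (𝟙_ (Over S)).hom) :
    ∀ n : ℕ, LocallyOfFiniteType (Pn X n).hom
  | 0 => h1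
  | n + 1 => by
    have := locallyOfFiniteType_Pn h1 n
    change LocallyOfFiniteType (X ⊗ Pn X n).hom
    rw [Over.tensorObj_hom]
    infer_instance

variable {G : Over S} [GrpObj G]

/-- precomposition as a monoid homomorphism. -/
@[simps]
def precomp {T P : Over S} (t : T ⟶ P) : (P ⟶ G) →* (T ⟶ G) where
  toFun a := t ≫ a
  map_one' := MonObj.comp_one t
  map_mul' a b := MonObj.comp_mul t a b

variable (f : X ⟶ G)

/-- the word in `f` attached to a tuple of points and signs. -/
noncomputable def word {T : Over S} (n : ℕ) (x : Fin n → (T ⟶ X)) (ε : Fin n → Bool) : T ⟶ G :=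
  (List.ofFn fun j : Fin n => if ε j then x j ≫ f else (x j ≫ f)⁻¹).prod

lemma comp_word {T P : Over S} (t : T ⟶ P) (n : ℕ) (x : Fin n → (P ⟶ X)) (ε : Fin n → Bool) :
    t ≫ word f n x ε = word f n (fun j => t ≫ x j) ε := by
  change precomp t (word f n x ε) = _
  rw [word, map_list_prod, List.map_ofFn, word]
  congr 2
  funext j
  simp only [Function.comp, precomp_apply]
  split_ifs
  · rw [Category.assoc]
  · rw [GrpObj.comp_inv, Category.assoc]

/-- words lie in the subgroup generated by the `x ≫ f`. -/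
lemma word_mem_closure {T : Over S} (n : ℕ) (x : Fin n → (T ⟶ X)) (ε : Fin n → Bool) :
    word f n x ε ∈ Subgroup.closure {a : T ⟶ G | ∃ y : T ⟶ X, a = y ≫ f} := by
  apply Subgroup.list_prod_mem
  intro a ha
  rw [List.mem_ofFn] at ha
  obtain ⟨j, rfl⟩ := ha
  split_ifs
  · exact Subgroup.subset_closure ⟨x j, rfl⟩
  · exact Subgroup.inv_mem _ (Subgroup.subset_closure ⟨x j, rfl⟩)

/-- conversely every element of that subgroup is a word. -/
lemma exists_word_of_mem_closure {T : Over S} (w : T ⟶ G)
    (hw : w ∈ Subgroup.closure {a : T ⟶ G | ∃ y : T ⟶ X, a = y ≫ f}) :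
    ∃ (n : ℕ) (x : Fin n → (T ⟶ X)) (ε : Fin n → Bool), word f n x ε = w := by
  have hw' : w ∈ (Subgroup.closure {a : T ⟶ G | ∃ y : T ⟶ X, a = y ≫ f}).toSubmonoid := hw
  rw [Subgroup.closure_toSubmonoid] at hw'
  obtain ⟨l, hl, rfl⟩ := Submonoid.exists_list_of_mem_closure hw'
  clear hw hw'
  induction l with
  | nil => exact ⟨0, Fin.elim0, Fin.elim0, by simp [word]⟩
  | cons a l ih =>
    obtain ⟨n, x, ε, hx⟩ := ih (fun y hy => hl y (List.mem_cons_of_mem _ hy))
    rcases hl a List.mem_cons_self with ⟨y, hy⟩ | ⟨y, hy⟩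
    · refine ⟨n + 1, Fin.cons y x, Fin.cons true ε, ?_⟩
      rw [word, List.ofFn_succ, List.prod_cons]
      simp only [Fin.cons_zero, Fin.cons_succ, if_true]
      rw [← hy, List.prod_cons]
      congr 1
    · refine ⟨n + 1, Fin.cons y x, Fin.cons false ε, ?_⟩
      rw [word, List.ofFn_succ, List.prod_cons]
      simp only [Fin.cons_zero, Fin.cons_succ]
      have hy' : a = (y ≫ f)⁻¹ := by
        rw [← hy]; exact (inv_inv a).symm
      rw [hy', List.prod_cons]
      congr 1

end general

section field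

variable {k : Type u} [Field k] [IsAlgClosed k]

/-- a point of `P` over a rational point `g` of `G` can be replaced by a rational point. -/
theorem exists_section_of_point (P G : Over (Spec (CommRingCat.of k)))
    [LocallyOfFiniteType P.hom] (m : P ⟶ G)
    (g : 𝟙_ (Over (Spec (CommRingCat.of k))) ⟶ G) (q : P.left)
    (p₀ : (𝟙_ (Over (Spec (CommRingCat.of k)))).left) (h : m.left q = g.left p₀) :
    ∃ y' : 𝟙_ (Over (Spec (CommRingCat.of k))) ⟶ P, y' ≫ m = g := by
  let S := Spec (CommRingCat.of k)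
  obtain ⟨z₀, hz1, hz2⟩ := Scheme.Pullback.exists_preimage_pullback q p₀ h
  have hglft : LocallyOfFiniteType g.left := by
    have : LocallyOfFiniteType (g.left ≫ G.hom) := by
      rw [Over.w g]
      exact inferInstanceAs (LocallyOfFiniteType (𝟙 (Spec (CommRingCat.of k))))
    exact locallyOfFiniteType_of_comp g.left G.hom
  let Z : Over S := Over.mk (pullback.fst m.left g.left ≫ P.hom)
  have hZ : LocallyOfFiniteType Z.hom := by
    change LocallyOfFiniteType (pullback.fst m.left g.left ≫ P.hom)
    infer_instance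
  have hne : Nonempty Z.left := ⟨z₀⟩
  obtain ⟨z⟩ := Groth.Agent.Lib.Helper11RigidAntiE.exists_pt_of_isAlgClosed Z
  let c : Z ⟶ P := Over.homMk (pullback.fst m.left g.left) rfl
  refine ⟨z ≫ c, ?_⟩
  apply Over.OverMorphism.ext
  change (z.left ≫ pullback.fst m.left g.left) ≫ m.left = g.left
  rw [Category.assoc, pullback.condition, ← Category.assoc]
  have h1 : z.left ≫ pullback.snd m.left g.left = 𝟙 _ := by
    have e0 : z.left ≫ (pullback.fst m.left g.left ≫ P.hom) = (𝟙_ (Over S)).hom := Over.w z
    have e3 : g.left ≫ G.hom = (𝟙_ (Over S)).hom := Over.w g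
    have e4 : m.left ≫ G.hom = P.hom := Over.w m
    have e1 : (z.left ≫ pullback.snd m.left g.left) ≫ (𝟙_ (Over S)).hom = (𝟙_ (Over S)).hom := by
      rw [← e3, Category.assoc, ← Category.assoc (pullback.snd _ _), ← pullback.condition,
        Category.assoc, e4, e3]
      exact e0
    have e2 : (𝟙_ (Over S)).hom = 𝟙 S := rfl
    rw [e2] at e1
    exact (Category.comp_id _).symm.trans e1
  rw [h1, Category.id_comp]

end field

end Groth.Agent.R2.H24.Words
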