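import Mathlib
import Groth.Agent.R2.H24Words
import Groth.Agent.R2.H24PLoci
import Groth.Agent.R2.H24PLociGrp
import Groth.Agent.Lib.Helper3FibCritSch
import Groth.Agent.Lib.Helper11Homog
import Groth.Agent.Lib.Helper6LfpComp

/-!
# helper24: words in `f : X ⟶ H` which are flat at a point (SGA3 VI_B 7.x, (iii) ⟹ (iv))

* fibre part: a point of `Y` whose image in its fibre has a field as local ring; an `S`-morphism
  from a flat lfp `S`-scheme is flat at every point over it (critère de platitude par fibres).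
* `Good f h`: `h` is the image of a point `q` of a flat lfp `S`-scheme `P` under a word in `f`
  which is flat near `q`.  Good points have open neighbourhoods of points under words of the same
  length; goodness propagates along the fibres of `H → S` by translation.
-/

set_option autoImplicit false

universe u

open CategoryTheory CategoryTheory.Limits MonoidalCategory CartesianMonoidalCategory MonObj GrpObj
  AlgebraicGeometry

namespace Groth.Agent.R2.H24.WordsFlat

open Groth.Agent.R2.H24.Words Groth.Agent.R2.H24.PLoci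

section fibre

theorem apply_fiberι {Y S : Scheme.{u}} (g : Y ⟶ S) (s : S) (ξ : g.fiber s) :
    g (g.fiberι s ξ) = s := by
  have h : g.fiberι s ξ ∈ Set.range (g.fiberι s) := ⟨ξ, rfl⟩
  rw [g.range_fiberι s] at h
  exact h

theorem isField_stalk_aux {Y S : Scheme.{u}} (g : Y ⟶ S) (s : S) (ξ : g.fiber s)
    (hξ : IsField ((g.fiber s).presheaf.stalk ξ)) (s' : S) (e : s' = s) (ζ : g.fiber s')
    (hζ : g.fiberι s' ζ = g.fiberι s ξ) : IsField ((g.fiber s').presheaf.stalk ζ) := by
  subst e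
  have h : ζ = ξ := (g.fiberι s').isEmbedding.injective hζ
  rw [h]
  exact hξ

/-- in every fibre of a morphism with reduced fibres there is a point at which the fibre has a
field as local ring. -/
theorem exists_field_point {Y S : Scheme.{u}} (g : Y ⟶ S) (hred : ∀ s, IsReduced (g.fiber s))
    (y : Y) :
    ∃ y₁ : Y, g y₁ = g y ∧ IsField ((g.fiber (g y₁)).presheaf.stalk (g.asFiber y₁)) := by
  haveI := hred (g y)
  obtain ⟨ξ, hξ, -⟩ :=
    Groth.Agent.Lib.Helper11SchImage.exists_isMaxPt_specializes (g.fiber (g y)) (g.asFiber y)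
  have hF := Groth.Agent.Lib.Helper11Homog.isField_stalk_of_isMaxPt (g.fiber (g y)) ξ hξ
  refine ⟨g.fiberι _ ξ, apply_fiberι g _ ξ, ?_⟩
  exact isField_stalk_aux g (g y) ξ hF _ (apply_fiberι g _ ξ) _ (g.fiberι_asFiber _)

/-- a morphism of `S`-schemes with flat lfp source is flat at the points over a point whose fibre
local ring is a field. -/
theorem flat_stalkMap_of_isField {X Y S : Scheme.{u}} (f : X ⟶ Y) (g : Y ⟶ S)
    [LocallyOfFinitePresentation (f ≫ g)] [LocallyOfFiniteType g] (x : X)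
    (hflat : ((f ≫ g).stalkMap x).hom.Flat)
    (hfld : IsField ((g.fiber (g (f x))).presheaf.stalk (g.asFiber (f x)))) :
    (f.stalkMap x).hom.Flat := by
  apply Groth.Agent.Lib.Helper3.FibCritSch.flat_stalkMap_of_flat_of_fiberMap f g x hflat
  have hpt : MoreMor.fiberMap f g (g (f x)) ((f ≫ g).asFiber x) = g.asFiber (f x) := by
    apply (g.fiberι _).isEmbedding.injective
    rw [Scheme.Hom.fiberι_asFiber]
    have h1 : MoreMor.fiberMap f g (g (f x)) ≫ g.fiberι _ = (f ≫ g).fiberι _ ≫ f :=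
      pullback.lift_fst _ _ _
    rw [← Scheme.Hom.comp_apply, h1, Scheme.Hom.comp_apply]
    congr 1
    exact (f ≫ g).fiberι_asFiber x
  rw [← hpt] at hfld
  exact Groth.Agent.Lib.Helper11Homog.flat_of_isField_source _ hfld

theorem hasPAt_flat_of_stalkMap {X Y : Scheme.{u}} (f : X ⟶ Y) [LocallyOfFinitePresentation f]
    (x : X) (h : (f.stalkMap x).hom.Flat) : HasPAt @Flat f x := by
  let U : X.Opens := ⟨{x | (f.stalkMap x).hom.Flat}, Groth.Agent.S0386.result f⟩
  refine hasPAt_of_opens U h ?_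
  exact Flat.of_stalkMap _
    (fun x => (Groth.Agent.Lib.Helper3.FibCritSch.flat_stalkMap_ι_comp_iff f U x).mpr x.2)

end fibre

section words

variable {S : Scheme.{u}} {X H : Over S} [GrpObj H] (f : X ⟶ H)

lemma flat_Pn [Flat X.hom] : ∀ n : ℕ, Flat (Pn X n).hom
  | 0 => inferInstanceAs (Flat (𝟙 S))
  | n + 1 => by
    have := flat_Pn n
    change Flat (X ⊗ Pn X n).hom
    rw [Over.tensorObj_hom]
    infer_instance

lemma lfp_Pn [LocallyOfFinitePresentation X.hom] :
    ∀ n : ℕ, LocallyOfFinitePresentation (Pn X n).hom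
  | 0 => inferInstanceAs (LocallyOfFinitePresentation (𝟙 S))
  | n + 1 => by
    have := lfp_Pn n
    change LocallyOfFinitePresentation (X ⊗ Pn X n).hom
    rw [Over.tensorObj_hom]
    infer_instance

lemma word_append {T : Over S} (n₁ n₂ : ℕ) (a : Fin n₁ → (T ⟶ X)) (b : Fin n₂ → (T ⟶ X))
    (ε₁ : Fin n₁ → Bool) (ε₂ : Fin n₂ → Bool) :
    word f (n₁ + n₂) (Fin.append a b) (Fin.append ε₁ ε₂) = word f n₁ a ε₁ * word f n₂ b ε₂ := by
  unfold word
  rw [← List.prod_append, ← List.ofFn_fin_append]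
  congr 2
  funext j
  refine Fin.addCases (fun i => ?_) (fun i => ?_) j
  · simp only [Fin.append_left]
  · simp only [Fin.append_right]

/-- the universal form of a point under a word. -/
lemma exists_universal {h : H.left} {n : ℕ} {T : Over S} (p : T.left) (x : Fin n → (T ⟶ X))
    (ε : Fin n → Bool) (hp : (word f n x ε).left p = h) :
    ∃ q : (Pn X n).left, (word f n (proj X n) ε).left q = h := by
  refine ⟨(tup n x).left p, ?_⟩
  have hw : tup n x ≫ word f n (proj X n) ε = word f n x ε := by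
    rw [comp_word]
    congr 1
    funext j
    exact tup_proj n x j
  rw [← hp, ← hw]
  rfl

/-- `h` is the image under a word in `f` of a point of a flat lfp `S`-scheme near which the word
is flat. -/
def Good (h : H.left) : Prop :=
  ∃ (P : Over S) (_ : Flat P.hom) (_ : LocallyOfFinitePresentation P.hom) (n : ℕ)
    (x : Fin n → (P ⟶ X)) (ε : Fin n → Bool) (q : P.left),
    (word f n x ε).left q = h ∧ HasPAt @Flat (word f n x ε).left q

/-- a good point has an open neighbourhood of points under words of one fixed length. -/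
theorem Good.exists_opens [LocallyOfFinitePresentation H.hom] {h : H.left} (hg : Good f h) :
    ∃ (n : ℕ) (U : H.left.Opens), h ∈ U ∧ ∀ h' ∈ U, ∃ (T : Over S) (p : T.left)
      (x : Fin n → (T ⟶ X)) (ε : Fin n → Bool), (word f n x ε).left p = h' := by
  obtain ⟨P, hPfl, hPfp, n, x, ε, q, hq, hfl⟩ := hg
  obtain ⟨W, hqW, hWfl⟩ := hfl.exists_opens
  have hwfp : LocallyOfFinitePresentation (word f n x ε).left := by
    refine Groth.Agent.Lib.Helper6.locallyOfFinitePresentation_of_comp (g := H.hom)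
      inferInstance ?_
    rw [Over.w]
    exact hPfp
  have hopen : IsOpen (Set.range (W.ι ≫ (word f n x ε).left)) :=
    (W.ι ≫ (word f n x ε).left).isOpenMap.isOpen_range
  refine ⟨n, ⟨_, hopen⟩, ⟨⟨q, hqW⟩, ?_⟩, ?_⟩
  · rw [Scheme.Hom.comp_apply]
    exact hq
  · rintro h' ⟨p', rfl⟩
    exact ⟨P, W.ι p', x, ε, (Scheme.Hom.comp_apply _ _ _).symm⟩

variable (hsurj : ∀ h : H.left, ∃ (n : ℕ) (T : Over S) (p : T.left) (x : Fin n → (T ⟶ X))
  (ε : Fin n → Bool), (word f n x ε).left p = h)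

include hsurj in
/-- points whose fibre local ring is a field are good. -/
theorem good_of_isField [Flat X.hom] [LocallyOfFinitePresentation X.hom]
    [LocallyOfFinitePresentation H.hom] (y₁ : H.left)
    (hfld : IsField ((H.hom.fiber (H.hom y₁)).presheaf.stalk (H.hom.asFiber y₁))) :
    Good f y₁ := by
  obtain ⟨n, T, p, x, ε, hp⟩ := hsurj y₁
  obtain ⟨q, hq⟩ := exists_universal f p x ε hp
  have hPfl := flat_Pn (X := X) n
  have hPfp := lfp_Pn (X := X) n
  refine ⟨Pn X n, hPfl, hPfp, n, proj X n, ε, q, hq, ?_⟩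
  have hw : (word f n (proj X n) ε).left ≫ H.hom = (Pn X n).hom := Over.w _
  have hwfp : LocallyOfFinitePresentation (word f n (proj X n) ε).left := by
    refine Groth.Agent.Lib.Helper6.locallyOfFinitePresentation_of_comp (g := H.hom)
      inferInstance ?_
    rw [hw]
    exact hPfp
  haveI : LocallyOfFinitePresentation ((word f n (proj X n) ε).left ≫ H.hom) := by
    rw [hw]; exact hPfp
  haveI : Flat ((word f n (proj X n) ε).left ≫ H.hom) := by
    rw [hw]; exact hPfl
  apply hasPAt_flat_of_stalkMap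
  apply flat_stalkMap_of_isField _ H.hom q (Flat.stalkMap _ q)
  rw [hq]
  exact hfld

include hsurj in
/-- goodness propagates along the fibres of `H → S`. -/
theorem good_of_good [Flat X.hom] [LocallyOfFinitePresentation X.hom] (y₁ h : H.left)
    (hy : H.hom y₁ = H.hom h) (hg : Good f y₁) : Good f h := by
  obtain ⟨P₁, hP₁fl, hP₁fp, n₁, x₁, ε₁, q₁, hq₁, hfl₁⟩ := hg
  set w₁ := word f n₁ x₁ ε₁ with hw₁
  -- the point `(q₁, h)` of `P₁ ⊗ H`
  have hq₁h : P₁.hom q₁ = H.hom h := by
    rw [← hy, ← hq₁, ← Over.w w₁]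
    rfl
  obtain ⟨z, hz1, hz2⟩ := Scheme.Pullback.exists_preimage_pullback q₁ h hq₁h
  let ψ : P₁ ⊗ H ⟶ H := (fst P₁ H ≫ w₁)⁻¹ * snd P₁ H
  obtain ⟨n₂, T₂, p₂, x₂', ε₂, hp₂⟩ := hsurj (ψ.left z)
  obtain ⟨q₂, hq₂⟩ := exists_universal f p₂ x₂' ε₂ hp₂
  set w₂ := word f n₂ (proj X n₂) ε₂ with hw₂
  have hP₂fl := flat_Pn (X := X) n₂
  have hP₂fp := lfp_Pn (X := X) n₂
  obtain ⟨z', hz'1, hz'2⟩ := Scheme.Pullback.exists_preimage_pullback z q₂ hq₂.symm
  -- the fibre product of `ψ` and `w₂` as an object over `S`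
  let Q : Over S := Over.mk (pullback.fst ψ.left w₂.left ≫ (P₁ ⊗ H).hom)
  let pr₁ : Q ⟶ P₁ ⊗ H := Over.homMk (pullback.fst ψ.left w₂.left) rfl
  let pr₂ : Q ⟶ Pn X n₂ := Over.homMk (pullback.snd ψ.left w₂.left) (by
    change pullback.snd ψ.left w₂.left ≫ (Pn X n₂).hom = pullback.fst ψ.left w₂.left ≫ (P₁ ⊗ H).hom
    rw [← Over.w w₂, ← Over.w ψ, ← Category.assoc, ← Category.assoc, pullback.condition])
  have hcond : pr₁ ≫ ψ = pr₂ ≫ w₂ := by
    apply Over.OverMorphism.ext
    exact pullback.condition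
  let c : Q ⟶ P₁ ⊗ Pn X n₂ := lift (pr₁ ≫ fst P₁ H) pr₂
  -- the concatenated word
  let xx : Fin (n₁ + n₂) → (P₁ ⊗ Pn X n₂ ⟶ X) :=
    Fin.append (fun j => fst P₁ (Pn X n₂) ≫ x₁ j) (fun j => snd P₁ (Pn X n₂) ≫ proj X n₂ j)
  have hW : word f (n₁ + n₂) xx (Fin.append ε₁ ε₂) =
      (fst P₁ (Pn X n₂) ≫ w₁) * (snd P₁ (Pn X n₂) ≫ w₂) := by
    rw [word_append, comp_word, comp_word]
  have hPfl : Flat (P₁ ⊗ Pn X n₂).hom := by
    rw [Over.tensorObj_hom]; infer_instance
  have hPfp : LocallyOfFinitePresentation (P₁ ⊗ Pn X n₂).hom := by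
    rw [Over.tensorObj_hom]; infer_instance
  refine ⟨P₁ ⊗ Pn X n₂, hPfl, hPfp, n₁ + n₂, xx, Fin.append ε₁ ε₂, c.left z', ?_, ?_⟩
  · -- the value
    rw [hW]
    have hc : c ≫ ((fst P₁ (Pn X n₂) ≫ w₁) * (snd P₁ (Pn X n₂) ≫ w₂)) = pr₁ ≫ snd P₁ H := by
      rw [MonObj.comp_mul, lift_fst_assoc, lift_snd_assoc, ← hcond, Category.assoc,
        ← MonObj.comp_mul]
      congr 1
      change (fst P₁ H ≫ w₁) * ((fst P₁ H ≫ w₁)⁻¹ * snd P₁ H) = snd P₁ H
      rw [mul_inv_cancel_left]
    rw [← Scheme.Hom.comp_apply, ← Over.comp_left, hc, Over.comp_left, Scheme.Hom.comp_apply]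
    change (snd P₁ H).left (pullback.fst ψ.left w₂.left z') = h
    rw [hz'1]
    exact hz2
  · -- flatness
    rw [hW]
    have hfac : (fst P₁ (Pn X n₂) ≫ w₁) * (snd P₁ (Pn X n₂) ≫ w₂) =
        (w₁ ▷ Pn X n₂) ≫ (Groth.Agent.Lib.Helper3.GrpHomQF.shearHom w₂).hom ≫ fst H (Pn X n₂) := by
      simp only [Groth.Agent.Lib.Helper3.GrpHomQF.shearHom, lift_fst, MonObj.comp_mul,
        whiskerRight_fst, whiskerRight_snd_assoc]
    rw [hfac]
    have hfst : (fst P₁ (Pn X n₂)).left (c.left z') = q₁ := by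
      rw [← Scheme.Hom.comp_apply, ← Over.comp_left, lift_fst, Over.comp_left,
        Scheme.Hom.comp_apply]
      change (fst P₁ H).left (pullback.fst ψ.left w₂.left z') = q₁
      rw [hz'1]
      exact hz1
    have step1 : HasPAt @Flat (w₁ ▷ Pn X n₂).left (c.left z') :=
      HasPAt.of_isPullback (Groth.Agent.R2.H24.PLociGrp.isPullback_whiskerRight P₁ H w₁ (Pn X n₂))
        (c.left z') (by rw [hfst]; exact hfl₁)
    obtain ⟨W, hzW, hWfl⟩ := step1.exists_opens
    refine hasPAt_of_opens W hzW ?_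
    haveI : IsIso (Groth.Agent.Lib.Helper3.GrpHomQF.shearHom w₂).hom.left :=
      inferInstanceAs (IsIso ((Over.forget S).mapIso
        (Groth.Agent.Lib.Helper3.GrpHomQF.shearHom w₂)).hom)
    haveI : Flat (fst H (Pn X n₂)).left := by
      change Flat (pullback.fst H.hom (Pn X n₂).hom)
      infer_instance
    rw [Over.comp_left, Over.comp_left, ← Category.assoc]
    infer_instance

end words

end Groth.Agent.R2.H24.WordsFlat
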