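import Mathlib
import Groth.Agent.R2.H24PStalk
import Groth.Agent.R2.H24ComplEndo
import Groth.Agent.R2.H24WordsFlat
import Groth.Agent.Lib.Helper20EtLocalSch
import Groth.Agent.R2.H24AtPoint

/-!
# helper24: the `n`-th power map of a group scheme over a field induces multiplication by `n`
on the cotangent space at the unit
-/

set_option autoImplicit false
set_option linter.style.haveILetI false

universe u

open CategoryTheory CategoryTheory.Limits MonoidalCategory CartesianMonoidalCategory MonObj GrpObj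
  AlgebraicGeometry

namespace Groth.Agent.R2.H24.PowEtale

open Groth.Agent.R2.H24.PStalk

section pointed

variable {S : Scheme.{u}} (pt : S)

/-- the local ring of `X` at the image of `pt` under the section `x`. -/
noncomputable abbrev OO {X : Over S} (x : 𝟙_ (Over S) ⟶ X) : CommRingCat.{u} :=
  X.left.presheaf.stalk (x.left pt)

/-- the map of local rings induced by a morphism of pointed `S`-schemes. -/
noncomputable def sh {X Y : Over S} (f : X ⟶ Y) (x : 𝟙_ (Over S) ⟶ X) (y : 𝟙_ (Over S) ⟶ Y)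
    (h : x ≫ f = y) : OO pt y ⟶ OO pt x :=
  pstalk f.left (x.left pt) (y.left pt) (by rw [← h]; rfl)

lemma sh_comp {X Y Z : Over S} (f : X ⟶ Y) (g : Y ⟶ Z) (x : 𝟙_ (Over S) ⟶ X)
    (y : 𝟙_ (Over S) ⟶ Y) (z : 𝟙_ (Over S) ⟶ Z) (hf : x ≫ f = y) (hg : y ≫ g = z)
    (hfg : x ≫ f ≫ g = z) :
    sh pt (f ≫ g) x z hfg = sh pt g y z hg ≫ sh pt f x y hf := by
  unfold sh
  exact pstalk_comp f.left g.left _ _ _ _ _ _

lemma sh_id {X : Over S} (x : 𝟙_ (Over S) ⟶ X) (h : x ≫ 𝟙 X = x) :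
    sh pt (𝟙 X) x x h = 𝟙 _ := by
  unfold sh
  exact pstalk_id _ _

lemma sh_congr {X Y : Over S} {f f' : X ⟶ Y} (e : f = f') (x : 𝟙_ (Over S) ⟶ X)
    (y : 𝟙_ (Over S) ⟶ Y) (h : x ≫ f = y) (h' : x ≫ f' = y) :
    sh pt f x y h = sh pt f' x y h' := by
  subst e; rfl

instance {X Y : Over S} (f : X ⟶ Y) (x : 𝟙_ (Over S) ⟶ X) (y : 𝟙_ (Over S) ⟶ Y)
    (h : x ≫ f = y) : IsLocalHom (sh pt f x y h).hom := by
  unfold sh; infer_instance

/-- the augmentation of the local ring at a section. -/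
noncomputable def aug {X : Over S} (x : 𝟙_ (Over S) ⟶ X) :
    OO pt x ⟶ OO pt (𝟙 (𝟙_ (Over S))) :=
  sh pt x (𝟙 _) x (Category.id_comp x)

instance {X : Over S} (x : 𝟙_ (Over S) ⟶ X) : IsLocalHom (aug pt x).hom := by
  unfold aug; infer_instance

lemma sh_aug {X Y : Over S} (f : X ⟶ Y) (x : 𝟙_ (Over S) ⟶ X) (y : 𝟙_ (Over S) ⟶ Y)
    (h : x ≫ f = y) : sh pt f x y h ≫ aug pt x = aug pt y := by
  unfold aug
  rw [← sh_comp pt x f (𝟙 _) x y (Category.id_comp x) h (by rw [Category.id_comp, h])]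
  exact sh_congr pt h _ _ _ _

/-- the augmentation ideal. -/
noncomputable def augIdeal {X : Over S} (x : 𝟙_ (Over S) ⟶ X) : Ideal (OO pt x) :=
  RingHom.ker (aug pt x).hom

lemma sh_mem_augIdeal {X Y : Over S} (f : X ⟶ Y) (x : 𝟙_ (Over S) ⟶ X) (y : 𝟙_ (Over S) ⟶ Y)
    (h : x ≫ f = y) {a : OO pt y} (ha : a ∈ augIdeal pt y) :
    (sh pt f x y h).hom a ∈ augIdeal pt x := by
  unfold augIdeal at ha ⊢
  rw [RingHom.mem_ker] at ha ⊢
  have := congrArg (fun φ => φ.hom a) (sh_aug pt f x y h)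
  simp only [CommRingCat.hom_comp, RingHom.comp_apply] at this
  rw [this, ha]

lemma map_augIdeal_le {X Y : Over S} (f : X ⟶ Y) (x : 𝟙_ (Over S) ⟶ X) (y : 𝟙_ (Over S) ⟶ Y)
    (h : x ≫ f = y) : (augIdeal pt y).map (sh pt f x y h).hom ≤ augIdeal pt x := by
  rw [Ideal.map_le_iff_le_comap]
  intro a ha
  exact sh_mem_augIdeal pt f x y h ha

lemma sh_comp_eq {X Y Z : Over S} {f : X ⟶ Y} {g : Y ⟶ Z} {k : X ⟶ Z} (e : f ≫ g = k)
    (x : 𝟙_ (Over S) ⟶ X) (y : 𝟙_ (Over S) ⟶ Y) (z : 𝟙_ (Over S) ⟶ Z) (hf : x ≫ f = y)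
    (hg : y ≫ g = z) (hk : x ≫ k = z) :
    sh pt g y z hg ≫ sh pt f x y hf = sh pt k x z hk := by
  rw [← sh_comp pt f g x y z hf hg (by rw [e]; exact hk)]
  exact sh_congr pt e _ _ _ _

lemma sh_comp_eq_apply {X Y Z : Over S} {f : X ⟶ Y} {g : Y ⟶ Z} {k : X ⟶ Z} (e : f ≫ g = k)
    (x : 𝟙_ (Over S) ⟶ X) (y : 𝟙_ (Over S) ⟶ Y) (z : 𝟙_ (Over S) ⟶ Z) (hf : x ≫ f = y)
    (hg : y ≫ g = z) (hk : x ≫ k = z) (a : OO pt z) :
    (sh pt f x y hf).hom ((sh pt g y z hg).hom a) = (sh pt k x z hk).hom a := by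
  rw [← sh_comp_eq pt e x y z hf hg hk]
  rfl

lemma sh_id_apply {X : Over S} (x : 𝟙_ (Over S) ⟶ X) (h : x ≫ 𝟙 X = x) (a : OO pt x) :
    (sh pt (𝟙 X) x x h).hom a = a := by
  rw [sh_id]; rfl

/-- a morphism which factors through the base point kills the augmentation ideal. -/
lemma sh_const_apply {X Y : Over S} (y : 𝟙_ (Over S) ⟶ Y) (x : 𝟙_ (Over S) ⟶ X)
    (h : x ≫ toUnit X ≫ y = y) {a : OO pt y} (ha : a ∈ augIdeal pt y) :
    (sh pt (toUnit X ≫ y) x y h).hom a = 0 := by
  have hx : x ≫ toUnit X = 𝟙 _ := toUnit_unique _ _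
  rw [sh_comp pt (toUnit X) y x (𝟙 _) y hx (Category.id_comp y) h]
  unfold augIdeal aug at ha
  rw [RingHom.mem_ker] at ha
  rw [CommRingCat.hom_comp, RingHom.comp_apply, ha, map_zero]

end pointed

section grp

variable {S : Scheme.{u}} (pt : S) (G : Over S) [GrpObj G]

/-- `g ↦ (g, e)`. -/
noncomputable def i1 : G ⟶ G ⊗ G := lift (𝟙 G) (toUnit G ≫ η[G])

/-- `g ↦ (e, g)`. -/
noncomputable def i2 : G ⟶ G ⊗ G := lift (toUnit G ≫ η[G]) (𝟙 G)

lemma eta_toUnit : η[G] ≫ toUnit G = 𝟙 _ := toUnit_unique _ _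

lemma eta_i1 : η[G] ≫ i1 G = lift η[G] η[G] := by
  unfold i1
  rw [comp_lift, Category.comp_id, ← Category.assoc, eta_toUnit, Category.id_comp]

lemma eta_i2 : η[G] ≫ i2 G = lift η[G] η[G] := by
  unfold i2
  rw [comp_lift, Category.comp_id, ← Category.assoc, eta_toUnit, Category.id_comp]

lemma i1_fst : i1 G ≫ fst G G = 𝟙 G := by unfold i1; simp
lemma i1_snd : i1 G ≫ snd G G = toUnit G ≫ η[G] := by unfold i1; simp
lemma i2_fst : i2 G ≫ fst G G = toUnit G ≫ η[G] := by unfold i2; simp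
lemma i2_snd : i2 G ≫ snd G G = 𝟙 G := by unfold i2; simp
lemma i1_mul : i1 G ≫ μ[G] = 𝟙 G := by unfold i1; simp
lemma i2_mul : i2 G ≫ μ[G] = 𝟙 G := by unfold i2; simp

lemma e2_mul : lift η[G] η[G] ≫ μ[G] = η[G] := by
  have := congrArg (fun f => η[G] ≫ f) (i1_mul G)
  simp only [Category.comp_id] at this
  rw [← Category.assoc, eta_i1] at this
  exact this

/-- `g ↦ (g, e)` is the base change of the unit section along the second projection. -/
theorem isPullback_i1 :
    IsPullback (i1 G).left G.hom (snd G G).left η[G].left := by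
  have hr : IsPullback (fst G G).left (snd G G).left G.hom G.hom :=
    IsPullback.of_hasPullback G.hom G.hom
  have h1 : (i1 G).left ≫ (snd G G).left = G.hom ≫ η[G].left := by
    rw [← Over.comp_left, i1_snd, Over.comp_left]
    rfl
  have h2 : (i1 G).left ≫ (fst G G).left = 𝟙 _ := by
    rw [← Over.comp_left, i1_fst]; rfl
  have h3 : η[G].left ≫ G.hom = 𝟙 S := Over.w η[G]
  have ho : IsPullback ((i1 G).left ≫ (fst G G).left) G.hom G.hom (η[G].left ≫ G.hom) := by
    rw [h2, h3]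
    exact IsPullback.id_horiz G.hom
  exact IsPullback.of_right ho h1 hr

/-- the kernel of `𝒪_{G×G,(e,e)} → 𝒪_{G,e}` induced by `g ↦ (g, e)` is generated by the second
projection of the augmentation ideal. -/
lemma ker_j1_le [IsClosedImmersion η[G].left] :
    RingHom.ker (sh pt (i1 G) η[G] (lift η[G] η[G]) (eta_i1 G)).hom ≤
      (augIdeal pt η[G]).map (sh pt (snd G G) (lift η[G] η[G]) η[G] (lift_snd _ _)).hom := by
  have := ker_pstalk_le (isPullback_i1 G) (η[G].left pt) ((lift η[G] η[G]).left pt) pt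
    (η[G].left pt)
    (congrArg (fun f : 𝟙_ (Over S) ⟶ G ⊗ G => f.left pt) (eta_i1 G)) rfl
    (congrArg (fun f : 𝟙_ (Over S) ⟶ G => f.left pt)
      (lift_snd η[G] η[G] : lift η[G] η[G] ≫ snd G G = η[G]))
  exact this

/-- **the multiplication is additive on the cotangent space at the unit**: for `a` in the
augmentation ideal of `𝒪_{G,e}`, `μ^♯ a ≡ pr₁^♯ a + pr₂^♯ a` modulo the square of the augmentation
ideal of `𝒪_{G×G,(e,e)}`. -/
theorem key [IsClosedImmersion η[G].left] {a : OO pt η[G]} (ha : a ∈ augIdeal pt η[G]) :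
    (sh pt μ[G] (lift η[G] η[G]) η[G] (e2_mul G)).hom a
      - (sh pt (fst G G) (lift η[G] η[G]) η[G] (lift_fst _ _)).hom a
      - (sh pt (snd G G) (lift η[G] η[G]) η[G] (lift_snd _ _)).hom a
      ∈ (augIdeal pt (lift η[G] η[G])) ^ 2 := by
  set e2 := lift η[G] η[G] with he2
  set m' := sh pt μ[G] e2 η[G] (e2_mul G) with hm'
  set p1 := sh pt (fst G G) e2 η[G] (lift_fst _ _) with hp1
  set p2 := sh pt (snd G G) e2 η[G] (lift_snd _ _) with hp2
  set j1 := sh pt (i1 G) η[G] e2 (eta_i1 G) with hj1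
  set j2 := sh pt (i2 G) η[G] e2 (eta_i2 G) with hj2
  set 𝔟 := augIdeal pt e2 with h𝔟
  have hid : η[G] ≫ 𝟙 G = η[G] := Category.comp_id _
  have hconst : η[G] ≫ toUnit G ≫ η[G] = η[G] := by
    rw [← Category.assoc, eta_toUnit, Category.id_comp]
  have r1 : ∀ c, j1.hom (p1.hom c) = c := fun c => by
    rw [hj1, hp1, sh_comp_eq_apply pt (i1_fst G) η[G] e2 η[G] _ _ hid]
    exact sh_id_apply pt _ _ c
  have r2 : ∀ c, j1.hom (m'.hom c) = c := fun c => by
    rw [hj1, hm', sh_comp_eq_apply pt (i1_mul G) η[G] e2 η[G] _ _ hid]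
    exact sh_id_apply pt _ _ c
  have r3 : ∀ c ∈ augIdeal pt η[G], j1.hom (p2.hom c) = 0 := fun c hc => by
    rw [hj1, hp2, sh_comp_eq_apply pt (i1_snd G) η[G] e2 η[G] _ _ hconst]
    exact sh_const_apply pt η[G] η[G] hconst hc
  have r4 : ∀ c, j2.hom (p2.hom c) = c := fun c => by
    rw [hj2, hp2, sh_comp_eq_apply pt (i2_snd G) η[G] e2 η[G] _ _ hid]
    exact sh_id_apply pt _ _ c
  have r5 : ∀ c, j2.hom (m'.hom c) = c := fun c => by
    rw [hj2, hm', sh_comp_eq_apply pt (i2_mul G) η[G] e2 η[G] _ _ hid]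
    exact sh_id_apply pt _ _ c
  have r6 : ∀ c ∈ augIdeal pt η[G], j2.hom (p1.hom c) = 0 := fun c hc => by
    rw [hj2, hp1, sh_comp_eq_apply pt (i2_fst G) η[G] e2 η[G] _ _ hconst]
    exact sh_const_apply pt η[G] η[G] hconst hc
  set b := m'.hom a - p1.hom a - p2.hom a with hb
  have hb1 : j1.hom b = 0 := by
    rw [hb, map_sub, map_sub, r1, r2, r3 a ha]; ring
  have hb2 : j2.hom b = 0 := by
    rw [hb, map_sub, map_sub, r4, r5, r6 a ha]; ring
  have hbI : b ∈ (augIdeal pt η[G]).map p2.hom :=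
    ker_j1_le pt G ((RingHom.mem_ker).mpr hb1)
  have hker2 : RingHom.ker j2.hom ≤ 𝔟 := by
    intro x hx
    rw [RingHom.mem_ker] at hx
    rw [h𝔟]
    unfold augIdeal
    rw [RingHom.mem_ker, ← sh_aug pt (i2 G) η[G] e2 (eta_i2 G), CommRingCat.hom_comp,
      RingHom.comp_apply]
    change (aug pt η[G]).hom (j2.hom x) = 0
    rw [hx, map_zero]
  have hI𝔟 : (augIdeal pt η[G]).map p2.hom ≤ 𝔟 := map_augIdeal_le pt (snd G G) e2 η[G] _
  have claim : ∀ x ∈ (augIdeal pt η[G]).map p2.hom, x - p2.hom (j2.hom x) ∈ 𝔟 ^ 2 := by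
    intro x hx
    refine Submodule.span_induction
      (p := fun x _ => x - p2.hom (j2.hom x) ∈ 𝔟 ^ 2) ?_ ?_ ?_ ?_ hx
    · rintro _ ⟨c, hc, rfl⟩
      rw [r4, sub_self]; exact zero_mem _
    · rw [map_zero, map_zero, sub_zero]; exact zero_mem _
    · intro x y _ _ hx hy
      have : x + y - p2.hom (j2.hom (x + y)) =
          (x - p2.hom (j2.hom x)) + (y - p2.hom (j2.hom y)) := by
        rw [map_add, map_add]; ring
      rw [this]; exact add_mem hx hy
    · intro q x hxI hx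
      have hxI' : x ∈ (augIdeal pt η[G]).map p2.hom := hxI
      have : q • x - p2.hom (j2.hom (q • x)) =
          (q - p2.hom (j2.hom q)) * x + p2.hom (j2.hom q) * (x - p2.hom (j2.hom x)) := by
        rw [smul_eq_mul, map_mul, map_mul]; ring
      rw [this]
      refine add_mem ?_ (Ideal.mul_mem_left _ _ hx)
      rw [pow_two]
      refine Ideal.mul_mem_mul (hker2 ?_) (hI𝔟 hxI')
      rw [RingHom.mem_ker, map_sub, r4, sub_self]
  have := claim b hbI
  rwa [hb2, map_zero, sub_zero] at this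

/-- the `n`-th power map. -/
noncomputable def pw (n : ℕ) : G ⟶ G := (𝟙 G : G ⟶ G) ^ n

lemma eta_pw (n : ℕ) : η[G] ≫ pw G n = η[G] := by
  unfold pw
  rw [MonObj.comp_pow, Category.comp_id, MonObj.one_eq_one, one_pow]

/-- `g ↦ (gⁿ, g)`. -/
noncomputable def dl (n : ℕ) : G ⟶ G ⊗ G := lift (pw G n) (𝟙 G)

lemma eta_dl (n : ℕ) : η[G] ≫ dl G n = lift η[G] η[G] := by
  unfold dl
  rw [comp_lift, eta_pw, Category.comp_id]

lemma dl_mul (n : ℕ) : dl G n ≫ μ[G] = pw G (n + 1) := by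
  unfold dl pw
  rw [pow_succ, Hom.mul_def]

lemma dl_fst (n : ℕ) : dl G n ≫ fst G G = pw G n := by unfold dl; simp
lemma dl_snd (n : ℕ) : dl G n ≫ snd G G = 𝟙 G := by unfold dl; simp

/-- **the `n`-th power map is multiplication by `n` on the cotangent space at the unit.** -/
theorem pow_cotangent [IsClosedImmersion η[G].left] (n : ℕ) {a : OO pt η[G]}
    (ha : a ∈ augIdeal pt η[G]) :
    (sh pt (pw G n) η[G] η[G] (eta_pw G n)).hom a - n • a ∈ (augIdeal pt η[G]) ^ 2 := by
  have hid : η[G] ≫ 𝟙 G = η[G] := Category.comp_id _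
  induction n with
  | zero =>
    have hconst : η[G] ≫ toUnit G ≫ η[G] = η[G] := by
      rw [← Category.assoc, eta_toUnit, Category.id_comp]
    have h0 : pw G 0 = toUnit G ≫ η[G] := by
      unfold pw; rw [pow_zero, Hom.one_def]
    rw [sh_congr pt h0 η[G] η[G] (eta_pw G 0) hconst, sh_const_apply pt η[G] η[G] hconst ha,
      zero_smul, sub_zero]
    exact zero_mem _
  | succ n ih =>
    have hk := key pt G ha
    set e2 := lift η[G] η[G] with he2
    set d := sh pt (dl G n) η[G] e2 (eta_dl G n) with hd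
    have h1 : d.hom ((sh pt μ[G] e2 η[G] (e2_mul G)).hom a) =
        (sh pt (pw G (n + 1)) η[G] η[G] (eta_pw G (n + 1))).hom a :=
      sh_comp_eq_apply pt (dl_mul G n) η[G] e2 η[G] _ _ _ a
    have h2 : d.hom ((sh pt (fst G G) e2 η[G] (lift_fst _ _)).hom a) =
        (sh pt (pw G n) η[G] η[G] (eta_pw G n)).hom a :=
      sh_comp_eq_apply pt (dl_fst G n) η[G] e2 η[G] _ _ _ a
    have h3 : d.hom ((sh pt (snd G G) e2 η[G] (lift_snd _ _)).hom a) = a := by
      rw [hd, sh_comp_eq_apply pt (dl_snd G n) η[G] e2 η[G] _ _ hid a]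
      exact sh_id_apply pt _ _ a
    have hdb : d.hom ((sh pt μ[G] e2 η[G] (e2_mul G)).hom a
        - (sh pt (fst G G) e2 η[G] (lift_fst _ _)).hom a
        - (sh pt (snd G G) e2 η[G] (lift_snd _ _)).hom a) ∈ (augIdeal pt η[G]) ^ 2 := by
      have := Ideal.mem_map_of_mem d.hom hk
      rw [Ideal.map_pow] at this
      exact Ideal.pow_right_mono (map_augIdeal_le pt (dl G n) η[G] e2 (eta_dl G n)) 2 this
    rw [map_sub, map_sub, h1, h2, h3] at hdb
    have : (sh pt (pw G (n + 1)) η[G] η[G] (eta_pw G (n + 1))).hom a - (n + 1) • a =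
        ((sh pt (pw G n) η[G] η[G] (eta_pw G n)).hom a - n • a) +
        ((sh pt (pw G (n + 1)) η[G] η[G] (eta_pw G (n + 1))).hom a -
          (sh pt (pw G n) η[G] η[G] (eta_pw G n)).hom a - a) := by
      rw [succ_nsmul]; ring
    rw [this]
    exact add_mem ih hdb

end grp

section algebra

open IsLocalRing

/-- Nakayama: a local endomorphism of a Noetherian local ring inducing multiplication by a unit
on the cotangent space generates the maximal ideal. -/
lemma map_maximalIdeal_eq_of_cotangent (R : Type*) [CommRing R] [IsLocalRing R]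
    [IsNoetherianRing R] (ψ : R →+* R) [IsLocalHom ψ] (n : ℕ) (hn : IsUnit (n : R))
    (h : ∀ a ∈ maximalIdeal R, ψ a - n • a ∈ maximalIdeal R ^ 2) :
    (maximalIdeal R).map ψ = maximalIdeal R := by
  apply le_antisymm
  · exact ((IsLocalRing.local_hom_TFAE ψ).out 0 2 rfl rfl).mp ‹_›
  · refine Submodule.le_of_le_smul_of_le_jacobson_bot (I := maximalIdeal R)
      (IsNoetherian.noetherian _) (IsLocalRing.maximalIdeal_le_jacobson ⊥) ?_
    intro a ha
    obtain ⟨u, hu⟩ := hn
    have h1 := h a ha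
    have h2 : a = (↑u⁻¹ : R) * ψ a - (↑u⁻¹ : R) * (ψ a - n • a) := by
      rw [nsmul_eq_mul, ← hu]
      have : (↑u⁻¹ : R) * ((u : R) * a) = a := by
        rw [← _root_.mul_assoc, Units.inv_mul, _root_.one_mul]
      rw [mul_sub, sub_sub_cancel, this]
    rw [h2]
    refine Submodule.sub_mem _ (Submodule.mem_sup_left ?_) (Submodule.mem_sup_right ?_)
    · exact Ideal.mul_mem_left _ _ (Ideal.mem_map_of_mem ψ ha)
    · rw [smul_eq_mul, ← pow_two]
      exact Ideal.mul_mem_left _ _ h1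

lemma finite_and_separable_of_surjective {K L : Type*} [Field K] [Field L] [Algebra K L]
    (h : Function.Surjective (algebraMap K L)) :
    Module.Finite K L ∧ Algebra.IsSeparable K L := by
  refine ⟨Module.Finite.of_surjective (Algebra.linearMap K L) h, ⟨fun x => ?_⟩⟩
  obtain ⟨y, rfl⟩ := h x
  exact isSeparable_algebraMap y

end algebra

section field

open IsLocalRing

variable (k : Type u) [Field k] (G : Over (Spec (CommRingCat.of k))) [GrpObj G]

/-- the point of `Spec k`. -/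
noncomputable abbrev pt0 : ↥(Spec (CommRingCat.of k)) := default

lemma isField_K :
    IsField (OO (pt0 k) (𝟙 (𝟙_ (Over (Spec (CommRingCat.of k)))))) := by
  have hpt : (Over.Hom.left (𝟙 (𝟙_ (Over (Spec (CommRingCat.of k))))) (pt0 k)) =
      genericPoint (Spec (CommRingCat.of k)) :=
    @Subsingleton.elim (↥(Spec (CommRingCat.of k))) _ _ _
  unfold OO
  rw [hpt]
  exact Field.toIsField (Spec (CommRingCat.of k)).functionField

lemma augIdeal_eq :
    augIdeal (pt0 k) η[G] = maximalIdeal (OO (pt0 k) η[G]) := by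
  have hK := isField_K k
  ext a
  unfold augIdeal
  rw [RingHom.mem_ker, IsLocalRing.mem_maximalIdeal, mem_nonunits_iff]
  constructor
  · intro h hu
    have := hu.map (aug (pt0 k) η[G]).hom
    rw [h] at this
    exact not_isUnit_zero this
  · intro h
    by_contra hne
    apply h
    obtain ⟨b, hb⟩ := hK.mul_inv_cancel hne
    have hu : IsUnit ((aug (pt0 k) η[G]).hom a) := IsUnit.of_mul_eq_one _ hb
    exact (isUnit_map_iff (aug (pt0 k) η[G]).hom a).mp hu

variable [LocallyOfFiniteType G.hom]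

/-- **the stalk map of the `n`-th power map at the unit is flat and unramified when `n` is
invertible in `k`.** -/
theorem stalkMap_pw (n : ℕ) (hn : (n : k) ≠ 0) :
    ((pw G n).left.stalkMap (η[G].left (pt0 k))).hom.Flat ∧
      ((pw G n).left.stalkMap (η[G].left (pt0 k))).hom.FormallyUnramified := by
  set pt := pt0 k with hpt
  set e := η[G].left pt with he
  set φ := (pw G n).left with hφ
  have hφe : φ e = e :=
    congrArg (fun f : 𝟙_ (Over (Spec (CommRingCat.of k))) ⟶ G => f.left pt) (eta_pw G n)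
  haveI : IsLocallyNoetherian G.left := LocallyOfFiniteType.isLocallyNoetherian G.hom
  haveI : IsClosedImmersion η[G].left :=
    isClosedImmersion_of_comp_eq_id G.hom η[G].left (Over.w η[G])
  haveI : LocallyOfFiniteType φ := by
    haveI : LocallyOfFiniteType (φ ≫ G.hom) := by
      rw [hφ, Over.w (pw G n)]; infer_instance
    exact locallyOfFiniteType_of_comp φ G.hom
  -- ring-level data
  let R : CommRingCat.{u} := G.left.presheaf.stalk e
  let ψc : R ⟶ R := sh pt (pw G n) η[G] η[G] (eta_pw G n)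
  let ψ : R →+* R := ψc.hom
  haveI : IsLocalHom ψ := inferInstanceAs (IsLocalHom (sh pt (pw G n) η[G] η[G] (eta_pw G n)).hom)
  have hm : maximalIdeal R = augIdeal pt η[G] := (augIdeal_eq k G).symm
  have hunit : IsUnit ((n : ℕ) : R) := by
    let ρ : k →+* R := ((Scheme.ΓSpecIso (CommRingCat.of k)).inv ≫ G.hom.appTop ≫
      G.left.presheaf.germ ⊤ e trivial).hom
    have : IsUnit (ρ (n : k)) := (IsUnit.mk0 _ hn).map ρ
    rwa [map_natCast] at this
  have hcot : ∀ a ∈ maximalIdeal R, ψ a - n • a ∈ maximalIdeal R ^ 2 := by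
    intro a ha
    rw [hm] at ha ⊢
    exact pow_cotangent pt G n ha
  have hmap : (maximalIdeal R).map ψ = maximalIdeal R :=
    map_maximalIdeal_eq_of_cotangent R ψ n hunit hcot
  have hres : ∀ b : R, b - ψ b ∈ maximalIdeal R := by
    intro b
    rw [hm]
    unfold augIdeal
    rw [RingHom.mem_ker, map_sub, sub_eq_zero]
    have := congrArg (fun f => f.hom b) (sh_aug pt (pw G n) η[G] η[G] (eta_pw G n))
    exact this.symm
  -- transfer to the stalk map
  let A : CommRingCat.{u} := G.left.presheaf.stalk (φ e)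
  let σ : A ≅ R := (G.left.presheaf.stalkCongr (.of_eq hφe.symm)).symm
  have hfac : φ.stalkMap e = σ.hom ≫ ψc := by
    change φ.stalkMap e = (G.left.presheaf.stalkCongr (.of_eq hφe.symm)).inv ≫
      (G.left.presheaf.stalkCongr (.of_eq hφe.symm)).hom ≫ φ.stalkMap e
    rw [Iso.inv_hom_id_assoc]
  let σe : A ≃+* R := σ.commRingCatIsoToRingEquiv
  have hf : (φ.stalkMap e).hom = ψ.comp (σe : A →+* R) := by
    rw [hfac]; rfl
  have hm_f : (maximalIdeal A).map (φ.stalkMap e).hom = maximalIdeal R := by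
    rw [hf, ← Ideal.map_map, Groth.Agent.R2.H24.ComplEndo.map_maximalIdeal_of_ringEquiv σe, hmap]
  have hk_f : ∀ b : R, ∃ a : A, b - (φ.stalkMap e).hom a ∈ maximalIdeal R := by
    intro b
    refine ⟨σe.symm b, ?_⟩
    rw [hf, RingHom.comp_apply]
    change b - ψ (σe (σe.symm b)) ∈ _
    rw [RingEquiv.apply_symm_apply]
    exact hres b
  refine ⟨Groth.Agent.R2.H24.ComplEndo.flat_of_ringEquiv' A R (φ.stalkMap e).hom σe hm_f hk_f, ?_⟩
  rw [Groth.Agent.Lib.Helper20.EtLocal.formallyUnramified_stalkMap_iff_local φ e]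
  refine ⟨hm_f, ?_⟩
  letI := (φ.residueFieldMap e).hom.toAlgebra
  have hsurj : Function.Surjective
      (algebraMap (G.left.residueField (φ e)) (G.left.residueField e)) := by
    intro x
    obtain ⟨b, rfl⟩ := IsLocalRing.residue_surjective x
    obtain ⟨a, ha⟩ := hk_f b
    refine ⟨IsLocalRing.residue _ a, ?_⟩
    change IsLocalRing.ResidueField.map (φ.stalkMap e).hom (IsLocalRing.residue _ a) = _
    rw [IsLocalRing.ResidueField.map_residue]
    symm
    rw [← sub_eq_zero, ← map_sub]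
    exact (IsLocalRing.residue_eq_zero_iff _).mpr ha
  exact finite_and_separable_of_surjective hsurj

/-- **the `n`-th power map is étale near the unit when `n` is invertible in `k`.** -/
theorem exists_etale_nbhd (n : ℕ) (hn : (n : k) ≠ 0) :
    ∃ U : G.left.Opens, η[G].left (pt0 k) ∈ U ∧ Etale (U.ι ≫ (pw G n).left) := by
  obtain ⟨hfl, hunr⟩ := stalkMap_pw k G n hn
  set e := η[G].left (pt0 k) with he
  set φ := (pw G n).left with hφ
  haveI : IsLocallyNoetherian G.left := LocallyOfFiniteType.isLocallyNoetherian G.hom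
  haveI : LocallyOfFiniteType φ := by
    haveI : LocallyOfFiniteType (φ ≫ G.hom) := by
      rw [hφ, Over.w (pw G n)]; infer_instance
    exact locallyOfFiniteType_of_comp φ G.hom
  haveI : LocallyOfFinitePresentation φ := inferInstance
  obtain ⟨U₁, heU₁, hU₁⟩ :=
    (Groth.Agent.R2.H24.WordsFlat.hasPAt_flat_of_stalkMap φ e hfl).exists_opens
  obtain ⟨U₂, heU₂, hU₂⟩ :=
    Groth.Agent.Lib.Helper20.EtLocal.exists_formallyUnramified_nbhd φ e hunr
  refine ⟨U₁ ⊓ U₂, ⟨heU₁, heU₂⟩, ?_⟩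
  have e1 : (U₁ ⊓ U₂).ι = G.left.homOfLE (inf_le_left : U₁ ⊓ U₂ ≤ U₁) ≫ U₁.ι := by simp
  have e2 : (U₁ ⊓ U₂).ι = G.left.homOfLE (inf_le_right : U₁ ⊓ U₂ ≤ U₂) ≫ U₂.ι := by simp
  haveI : Flat ((U₁ ⊓ U₂).ι ≫ φ) := by
    rw [e1, Category.assoc]
    haveI := hU₁
    infer_instance
  haveI : FormallyUnramified ((U₁ ⊓ U₂).ι ≫ φ) := by
    rw [e2, Category.assoc]
    haveI : FormallyUnramified (G.left.homOfLE (inf_le_right : U₁ ⊓ U₂ ≤ U₂)) := inferInstance
    exact MorphismProperty.comp_mem _ _ _ this hU₂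
  exact Etale.of_formallyUnramified_of_flat _

end field

section comm

variable {S : Scheme.{u}} (G : Over S) [GrpObj G] [IsCommMonObj G]

/-- on a commutative group scheme the `n`-th power map is a homomorphism. -/
instance isMonHom_pw (n : ℕ) : IsMonHom (pw G n) where
  one_hom := eta_pw G n
  mul_hom := by
    have h1 : μ[G] ≫ pw G n = fst G G ^ n * snd G G ^ n := by
      unfold pw
      rw [MonObj.comp_pow, Category.comp_id, MonObj.mul_eq_mul, mul_pow]
    have h2 : (pw G n ⊗ₘ pw G n) ≫ μ[G] = fst G G ^ n * snd G G ^ n := by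
      rw [MonObj.mul_eq_mul, MonObj.comp_mul, tensorHom_fst, tensorHom_snd]
      unfold pw
      rw [MonObj.comp_pow, MonObj.comp_pow, Category.comp_id, Category.comp_id]
    rw [h1, h2]

end comm

/-- **on a commutative group scheme locally of finite type over a field, the `n`-th power map is
étale when `n` is invertible in `k`.** -/
theorem etale_pw_of_comm (k : Type u) [Field k] (G : Over (Spec (CommRingCat.of k))) [GrpObj G]
    [IsCommMonObj G] [LocallyOfFiniteType G.hom] (n : ℕ) (hn : (n : k) ≠ 0) :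
    Etale (pw G n).left := by
  obtain ⟨U, hU, hEt⟩ := exists_etale_nbhd k G n hn
  haveI : Flat G.hom := inferInstance
  haveI : LocallyOfFinitePresentation G.hom := inferInstance
  exact Groth.Agent.R2.H24.AtPoint.etale_of_open G G (pw G n)
    (fun s t => @Subsingleton.elim (↥(Spec (CommRingCat.of k))) _ s t) U ⟨_, hU⟩ hEt

end Groth.Agent.R2.H24.PowEtale
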