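import Mathlib
import Groth.Agent.R2.H24PowEtale

/-!
# helper24: the `n`-th power map of a group scheme over a field is étale near a central rational
point (translate of the statement at the unit)
-/

set_option autoImplicit false
set_option linter.style.haveILetI false

universe u

open CategoryTheory CategoryTheory.Limits MonoidalCategory CartesianMonoidalCategory MonObj GrpObj
  AlgebraicGeometry

namespace Groth.Agent.R2.H24.PowCentral

open Groth.Agent.R2.H24.PowEtale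

section general

variable {C : Type*} [Category C] [CartesianMonoidalCategory C] (G : C) [GrpObj G]

/-- left translation by a global point. -/
noncomputable def tr (c : 𝟙_ C ⟶ G) : G ⟶ G := (toUnit G ≫ c) * 𝟙 G

lemma tr_comp (c c' : 𝟙_ C ⟶ G) : tr G c ≫ tr G c' = tr G (c' * c) := by
  unfold tr
  rw [MonObj.comp_mul, ← Category.assoc, toUnit_unique (_ ≫ toUnit G) (toUnit G), Category.comp_id,
    ← _root_.mul_assoc, ← MonObj.comp_mul]

lemma tr_one : tr G (1 : 𝟙_ C ⟶ G) = 𝟙 G := by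
  unfold tr
  rw [MonObj.comp_one, _root_.one_mul]

/-- translation as an isomorphism. -/
noncomputable def trIso (c : 𝟙_ C ⟶ G) : G ≅ G where
  hom := tr G c
  inv := tr G c⁻¹
  hom_inv_id := by rw [tr_comp, inv_mul_cancel, tr_one]
  inv_hom_id := by rw [tr_comp, mul_inv_cancel, tr_one]

lemma comp_tr (c c' : 𝟙_ C ⟶ G) : c ≫ tr G c' = c' * c := by
  unfold tr
  rw [MonObj.comp_mul, ← Category.assoc, toUnit_unique (c ≫ toUnit G) (𝟙 _), Category.id_comp,
    Category.comp_id]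

/-- for a central point `c`, `(c x)ⁿ = cⁿ xⁿ`. -/
lemma tr_pow (c : 𝟙_ C ⟶ G) (hc : (toUnit G ≫ c) * 𝟙 G = 𝟙 G * (toUnit G ≫ c)) (n : ℕ) :
    tr G c ≫ ((𝟙 G : G ⟶ G) ^ n) = ((𝟙 G : G ⟶ G) ^ n) ≫ tr G (c ^ n) := by
  have h1 : tr G c ≫ ((𝟙 G : G ⟶ G) ^ n) = (tr G c) ^ n := by
    rw [MonObj.comp_pow, Category.comp_id]
  have h2 : (tr G c) ^ n = (toUnit G ≫ c) ^ n * (𝟙 G : G ⟶ G) ^ n := by
    unfold tr
    exact (show Commute (toUnit G ≫ c) (𝟙 G) from hc).mul_pow n
  have h3 : ((𝟙 G : G ⟶ G) ^ n) ≫ tr G (c ^ n) = (toUnit G ≫ c) ^ n * (𝟙 G : G ⟶ G) ^ n := by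
    unfold tr
    rw [MonObj.comp_mul, ← Category.assoc, toUnit_unique (_ ≫ toUnit G) (toUnit G),
      Category.comp_id, MonObj.comp_pow]
  rw [h1, h2, h3]

end general

/-- **the `n`-th power map is étale near a central rational point when `n` is invertible.** -/
theorem exists_etale_nbhd_central (k : Type u) [Field k]
    (G : Over (Spec (CommRingCat.of k))) [GrpObj G] [LocallyOfFiniteType G.hom] (n : ℕ)
    (hn : (n : k) ≠ 0) (g : 𝟙_ (Over (Spec (CommRingCat.of k))) ⟶ G)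
    (hg : (toUnit G ≫ g) * 𝟙 G = 𝟙 G * (toUnit G ≫ g)) :
    ∃ U : G.left.Opens, Set.range g.left.base ⊆ (U : Set ↥G.left) ∧
      Etale (U.ι ≫ ((𝟙 G : G ⟶ G) ^ n).left) := by
  obtain ⟨U, hU, hEt⟩ := exists_etale_nbhd k G n hn
  let T := trIso G g
  have hT : IsIso T.inv.left := inferInstance
  refine ⟨T.inv.left ⁻¹ᵁ U, ?_, ?_⟩
  · rintro _ ⟨p, rfl⟩
    have hp : p = pt0 k := @Subsingleton.elim (↥(Spec (CommRingCat.of k))) _ _ _
    subst hp
    show T.inv.left (g.left (pt0 k)) ∈ U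
    rw [← Scheme.Hom.comp_apply, ← Over.comp_left]
    have : g ≫ T.inv = η[G] := by
      show g ≫ tr G g⁻¹ = η[G]
      rw [comp_tr, inv_mul_cancel, one_eq_one]
    rw [this]
    exact hU
  · have hpw : ((𝟙 G : G ⟶ G) ^ n) = T.inv ≫ ((𝟙 G : G ⟶ G) ^ n) ≫ tr G (g ^ n) := by
      rw [← tr_pow G g hg n, ← Category.assoc]
      show _ = (T.inv ≫ T.hom) ≫ _
      rw [T.inv_hom_id, Category.id_comp]
    have e1 : (T.inv.left ⁻¹ᵁ U).ι ≫ ((𝟙 G : G ⟶ G) ^ n).left =
        (T.inv.left ∣_ U) ≫ (U.ι ≫ (pw G n).left) ≫ (tr G (g ^ n)).left := by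
      conv_lhs => rw [hpw]
      rw [Over.comp_left, Over.comp_left, ← Category.assoc, ← morphismRestrict_ι]
      simp only [Category.assoc]
      rfl
    rw [e1]
    haveI : IsIso (tr G (g ^ n)).left :=
      inferInstanceAs (IsIso (trIso G (g ^ n)).hom.left)
    haveI := hEt
    infer_instance

end Groth.Agent.R2.H24.PowCentral
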