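import Mathlib
import Groth.Agent.S0114
import Groth.Agent.R2.H24PLociGrp
import Groth.Agent.Lib.Helper3GrpFibDim

/-!
# helper24: the quotient of a group scheme over a field by a surjective subgroup scheme is
the spectrum of a finite local algebra
-/

set_option autoImplicit false

universe u

open CategoryTheory CategoryTheory.Limits MonoidalCategory CartesianMonoidalCategory MonObj GrpObj
  AlgebraicGeometry

namespace Groth.Agent.R2.H24.QuotRed

open Groth.Agent.R2.H24.PLociGrp Groth.Agent.Lib.Helper3.GrpFibDim

section onepoint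

variable {S : Scheme.{u}} {F G : Over S} [GrpObj G] (u : F ⟶ G) [Surjective u.left]
  {X : Over S} (p : G ⟶ X) (hw : ((u ▷ G) ≫ μ[G]) ≫ p = snd F G ≫ p)

include hw in
/-- if `(f, g) ↦ (u f · g, g)` equalises `p` and `u` is surjective, then `p` is constant on the
fibres of `G → S`. -/
theorem p_const (x y : G.left) (hxy : G.hom x = G.hom y) : p.left x = p.left y := by
  obtain ⟨z, hz1, hz2⟩ := Scheme.Pullback.exists_preimage_pullback x y hxy
  have hsurj : Surjective (u ▷ G).left :=
    MorphismProperty.of_isPullback (P := @Surjective) (isPullback_whiskerRight F G u G)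
      inferInstance
  obtain ⟨w, hw'⟩ := hsurj.surj ((shearIso' G).inv.left z)
  have h3 : (shearIso' G).hom ≫ fst G G = μ[G] := by
    simp [shearIso', fst_mul_snd]
  have h4 : (shearIso' G).hom ≫ snd G G = snd G G := by
    simp [shearIso']
  have hz : (shearIso' G).hom.left ((u ▷ G).left w) = z := by
    rw [hw', ← Scheme.Hom.comp_apply, ← Over.comp_left, Iso.inv_hom_id]
    rfl
  have ha : ((u ▷ G) ≫ μ[G]).left w = x := by
    rw [← h3, ← hz1, ← hz]
    simp only [Over.comp_left, Scheme.Hom.comp_apply]
    rfl
  have hb : (snd F G).left w = y := by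
    rw [← whiskerRight_snd u G, ← h4, ← hz2, ← hz]
    simp only [Over.comp_left, Scheme.Hom.comp_apply]
    rfl
  have := congrArg (fun f => f.left w) hw
  simp only [Over.comp_left, Scheme.Hom.comp_apply] at this
  rw [← ha, ← hb]
  simpa only [Over.comp_left, Scheme.Hom.comp_apply] using this

end onepoint

section field

variable (k : Type u) [Field k] {F G : Over (Spec (CommRingCat.of k))} [GrpObj G]
  [LocallyOfFiniteType G.hom] (u : F ⟶ G) [Surjective u.left]
  (X : Over (Spec (CommRingCat.of k))) (p : G ⟶ X) [Flat p.left] [Surjective p.left]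
  [LocallyOfFinitePresentation p.left]
  (hw : ((u ▷ G) ≫ μ[G]) ≫ p = snd F G ≫ p)

lemma krullDimLE_zero_of_subsingleton (A : Type*) [CommRing A] [Subsingleton (PrimeSpectrum A)] :
    Ring.KrullDimLE 0 A := by
  rw [Ring.krullDimLE_zero_iff]
  intro I hI
  obtain ⟨M, hM, hIM⟩ := Ideal.exists_le_maximal I hI.ne_top
  have : (⟨I, hI⟩ : PrimeSpectrum A) = ⟨M, hM.isPrime⟩ := Subsingleton.elim _ _
  have h2 : I = M := congrArg PrimeSpectrum.asIdeal this
  rw [h2]
  exact hM

include hw in
/-- **a flat lfp surjective `F`-invariant morphism `G → X` with `F → G` surjective has target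
the spectrum of a finite local `k`-algebra with residue field `k`.** -/
theorem main :
    IsAffine X.left ∧
      (∃ x : X.left, (Set.univ : Set X.left) = {x} ∧ IsIso (X.hom.residueFieldMap x)) ∧
      ((Scheme.ΓSpecIso (CommRingCat.of k)).inv ≫ X.hom.appTop).hom.Finite := by
  let pt : Spec (CommRingCat.of k) := default
  let s : Spec (CommRingCat.of k) ⟶ X.left := (η[G] ≫ p).left
  have hs : s ≫ X.hom = 𝟙 _ := Over.w (η[G] ≫ p)
  have hall : ∀ y : X.left, y = s pt := by
    intro y
    obtain ⟨g, rfl⟩ := p.left.surjective y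
    exact p_const u p hw g (η[G].left pt) (Subsingleton.elim _ _)
  have hlfp : LocallyOfFinitePresentation X.hom := by
    haveI : LocallyOfFinitePresentation (p.left ≫ X.hom) := by
      rw [Over.w p]; infer_instance
    exact Groth.Agent.S0114.result p.left X.hom
  have haff : IsAffine X.left := by
    obtain ⟨W, hW, hxW, -⟩ := exists_isAffineOpen_mem_and_subset
      (TopologicalSpace.Opens.mem_top (s pt))
    have hWtop : W = ⊤ := by
      ext y
      simp only [TopologicalSpace.Opens.coe_top, Set.mem_univ, iff_true]
      rw [hall y]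
      exact hxW
    subst hWtop
    haveI : IsAffine (⊤ : X.left.Opens).toScheme := hW
    exact IsAffine.of_isIso X.left.topIso.inv
  refine ⟨haff, ⟨s pt, ?_, ?_⟩, ?_⟩
  · ext y
    simp only [Set.mem_univ, Set.mem_singleton_iff, true_iff]
    exact hall y
  · have h1 := Scheme.Hom.residueFieldMap_congr hs pt
    rw [Scheme.residueFieldMap_comp] at h1
    have hiso : IsIso (X.hom.residueFieldMap (s pt) ≫ s.residueFieldMap pt) := by
      rw [h1]
      have i1 : IsIso (Scheme.Hom.residueFieldMap (𝟙 (Spec (CommRingCat.of k))) pt) :=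
        inferInstance
      exact IsIso.comp_isIso' inferInstance i1
    have hbij : Function.Bijective (s.residueFieldMap pt).hom := by
      refine ⟨(s.residueFieldMap pt).hom.injective, ?_⟩
      have hb := (ConcreteCategory.isIso_iff_bijective _).mp hiso
      intro b
      obtain ⟨a, ha⟩ := hb.2 b
      exact ⟨X.hom.residueFieldMap (s pt) a, ha⟩
    have : IsIso (s.residueFieldMap pt) := (ConcreteCategory.isIso_iff_bijective _).mpr hbij
    exact IsIso.of_isIso_comp_right _ (s.residueFieldMap pt)
  · have hft : RingHom.FiniteType X.hom.appTop.hom :=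
      (HasRingHomProperty.iff_of_isAffine (P := @LocallyOfFiniteType)).mp inferInstance
    have hft2 : RingHom.FiniteType
        ((Scheme.ΓSpecIso (CommRingCat.of k)).inv ≫ X.hom.appTop).hom := by
      rw [CommRingCat.hom_comp]
      refine hft.comp (RingHom.FiniteType.of_surjective _ ?_)
      exact ((ConcreteCategory.isIso_iff_bijective _).mp inferInstance).2
    set φ := ((Scheme.ΓSpecIso (CommRingCat.of k)).inv ≫ X.hom.appTop).hom with hφ
    algebraize [φ]
    have : Subsingleton (PrimeSpectrum Γ(X.left, ⊤)) := by
      have e : X.left ≃ₜ Spec Γ(X.left, ⊤) := X.left.isoSpec.hom.homeomorph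
      have : Subsingleton X.left := ⟨fun a b => (hall a).trans (hall b).symm⟩
      exact e.symm.toEquiv.subsingleton
    have := krullDimLE_zero_of_subsingleton Γ(X.left, ⊤)
    exact (Module.finite_iff_krullDimLE_zero (R := k) (A := Γ(X.left, ⊤))).mpr inferInstance

end field

end Groth.Agent.R2.H24.QuotRed
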