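import Mathlib
import Groth.Agent.R2.H24QuotRed
import Groth.Agent.R2.H24FlatNeutral
import Groth.Agent.R2.H24WordsFlat
import Groth.Agent.Lib.Helper3GrpFlat
import Groth.Agent.Lib.Helper6LfpComp

/-!
# helper24: flatness of a homomorphism of group schemes over a field via the quotients by the
reduced subgroups
-/

set_option autoImplicit false
set_option linter.style.haveILetI false

universe u

open CategoryTheory CategoryTheory.Limits MonoidalCategory CartesianMonoidalCategory MonObj GrpObj
  AlgebraicGeometry

namespace Groth.Agent.R2.H24.QuotRedFlat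

section torsor

variable {S : Scheme.{u}} {G' G Y : Over S} [GrpObj G] (b : G' ⟶ G) (q : G ⟶ Y)

/-- `x ↦ (x, e)` is the base change of the unit section along the second projection. -/
theorem isPullback_sec (X : Over S) :
    IsPullback (lift (𝟙 X) (toUnit X ≫ η[G])).left X.hom (snd X G).left η[G].left := by
  have hr : IsPullback (fst X G).left (snd X G).left X.hom G.hom :=
    IsPullback.of_hasPullback X.hom G.hom
  have h1 : (lift (𝟙 X) (toUnit X ≫ η[G])).left ≫ (snd X G).left = X.hom ≫ η[G].left := by
    rw [← Over.comp_left, lift_snd, Over.comp_left]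
    rfl
  have h2 : (lift (𝟙 X) (toUnit X ≫ η[G])).left ≫ (fst X G).left = 𝟙 _ := by
    rw [← Over.comp_left, lift_fst]; rfl
  have h3 : η[G].left ≫ G.hom = 𝟙 S := Over.w η[G]
  have ho : IsPullback ((lift (𝟙 X) (toUnit X ≫ η[G])).left ≫ (fst X G).left) X.hom X.hom
      (η[G].left ≫ G.hom) := by
    rw [h2, h3]
    exact IsPullback.id_horiz X.hom
  exact IsPullback.of_right ho h1 hr

/-- the fibre of a torsor-like quotient `q` through the unit: if `(g', g) ↦ (b g' · g, g)` identifies
`G' × G` with `G ×_Y G`, then `b : G' → G` is the base change of the point `q(e)` of `Y`. -/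
theorem isPullback_fibre_unit (hq : IsPullback ((b ▷ G) ≫ μ[G]) (snd G' G) q q) :
    IsPullback b.left G'.hom q.left (η[G] ≫ q).left := by
  have hq' := hq.map (Over.forget S)
  have h1 := isPullback_sec (G := G) G'
  have hpaste := h1.paste_horiz hq'
  have e1 : (lift (𝟙 G') (toUnit G' ≫ η[G])).left ≫ (Over.forget S).map ((b ▷ G) ≫ μ[G]) =
      b.left := by
    change (lift (𝟙 G') (toUnit G' ≫ η[G])).left ≫ ((b ▷ G) ≫ μ[G]).left = b.left
    rw [← Over.comp_left]
    congr 1
    rw [← Category.assoc, lift_whiskerRight, Category.id_comp, lift_comp_one_right]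
  have e2 : η[G].left ≫ (Over.forget S).map q = (η[G] ≫ q).left := rfl
  rw [e1, e2] at hpaste
  exact hpaste

end torsor

section reducedFibre

variable (k : Type u) [Field k] {G' G Y : Over (Spec (CommRingCat.of k))} [GrpObj G]
  (b : G' ⟶ G) [Surjective b.left] [IsReduced G'.left] (q : G ⟶ Y) [Surjective q.left]
  (hq : IsPullback ((b ▷ G) ≫ μ[G]) (snd G' G) q q)

include hq in
/-- the fibres of the quotient of `G` by a reduced surjective subgroup are reduced (the quotient
has a single point, rational over `k`, with fibre the subgroup). -/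
theorem isReduced_fiber (y : Y.left) : IsReduced (q.left.fiber y) := by
  let cp : Spec (CommRingCat.of k) := IsLocalRing.closedPoint k
  let s : Spec (CommRingCat.of k) ⟶ Y.left := (η[G] ≫ q).left
  have hs : s ≫ Y.hom = 𝟙 _ := Over.w (η[G] ≫ q)
  have hy : y = s cp := by
    obtain ⟨g, rfl⟩ := q.left.surjective y
    exact QuotRed.p_const b q hq.w g (η[G].left cp)
      (@Subsingleton.elim (↥(Spec (CommRingCat.of k))) _ _ _)
  subst hy
  let φ : Y.left.residueField (s cp) ⟶ CommRingCat.of k :=
    Y.left.descResidueField (Scheme.stalkClosedPointTo s)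
  have hφ : Spec.map φ ≫ Y.left.fromSpecResidueField (s cp) = s :=
    Scheme.descResidueField_stalkClosedPointTo_fromSpecResidueField k Y.left s
  let ψ : CommRingCat.of k ⟶ Y.left.residueField (s cp) :=
    Spec.preimage (Y.left.fromSpecResidueField (s cp) ≫ Y.hom)
  have hψ : Spec.map ψ = Y.left.fromSpecResidueField (s cp) ≫ Y.hom := Spec.map_preimage _
  have hψφ : ψ ≫ φ = 𝟙 _ := by
    apply Spec.map_injective
    rw [Spec.map_comp, hψ, ← Category.assoc, hφ, hs, Spec.map_id]
  have hbij : Function.Bijective φ.hom := by
    refine ⟨φ.hom.injective, fun c => ⟨ψ.hom c, ?_⟩⟩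
    have := congrArg (fun f => f.hom c) hψφ
    simpa using this
  haveI : IsIso φ := (ConcreteCategory.isIso_iff_bijective φ).mpr hbij
  have hpb : IsPullback b.left G'.hom q.left s := isPullback_fibre_unit b q hq
  have hpb2 : IsPullback b.left (G'.hom ≫ Spec.map φ) q.left
      (Y.left.fromSpecResidueField (s cp)) := by
    refine hpb.of_iso (Iso.refl _) (Iso.refl _) (asIso (Spec.map φ)) (Iso.refl _) ?_ ?_ ?_ ?_
    · simp
    · simp
    · simp
    · simp [hφ]
  haveI : IsReduced (pullback q.left (Y.left.fromSpecResidueField (s cp))) :=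
    isReduced_of_isOpenImmersion hpb2.isoPullback.inv
  exact inferInstanceAs (IsReduced (pullback q.left (Y.left.fromSpecResidueField (s cp))))

end reducedFibre

section main

open Groth.Agent.Lib.Helper25.IdComp Groth.Agent.Lib.Helper11SchImage

variable {k : Type u} [Field k] (F G : Over (Spec (CommRingCat.of k))) [GrpObj F] [GrpObj G]
  [LocallyOfFiniteType F.hom] [LocallyOfFiniteType G.hom] (u : F ⟶ G) [IsMonHom u]

/-- if `u(F⁰)` is dense in `G⁰`, the image of the generic point of `F⁰` is a maximal point
of `G`. -/
theorem exists_isMaxPt_image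
    (hdom : connectedComponent (ePt G) ⊆ closure (u.left '' connectedComponent (ePt F))) :
    ∃ ζ : F.left, IsMaxPt (u.left ζ) := by
  haveI : IsLocallyNoetherian G.left := LocallyOfFiniteType.isLocallyNoetherian G.hom
  haveI : LocallyConnectedSpace G.left :=
    Groth.Agent.R2.H24.LocConn.locallyConnectedSpace_of_isLocallyNoetherian G.left
  have hopen : IsOpen (connectedComponent (ePt G)) := isOpen_connectedComponent
  obtain ⟨ζ, hζ⟩ := QuasiSober.sober (isIrreducible_connectedComponent_ePt F)
    isClosed_connectedComponent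
  refine ⟨ζ, ?_⟩
  have hζmem : ζ ∈ connectedComponent (ePt F) := hζ.mem
  have hξmem : u.left ζ ∈ connectedComponent (ePt G) := by
    have h1 : u.left '' connectedComponent (ePt F) ⊆ connectedComponent (ePt G) :=
      (isPreconnected_connectedComponent.image _
        u.left.continuous.continuousOn).subset_connectedComponent
        ⟨ePt F, mem_connectedComponent, FlatNeutral.hom_ePt F G u⟩
    exact h1 ⟨ζ, hζmem, rfl⟩
  have hcl : connectedComponent (ePt G) ⊆ closure {u.left ζ} := by
    have h1 : closure (u.left '' connectedComponent (ePt F)) = closure {u.left ζ} := by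
      rw [← hζ.def, closure_image_closure u.left.continuous, Set.image_singleton]
    rw [← h1]
    exact hdom
  intro y hy
  have hymem : y ∈ connectedComponent (ePt G) := hy.mem_open hopen hξmem
  have h2 : u.left ζ ⤳ y := specializes_iff_mem_closure.mpr (hcl hymem)
  exact (hy.antisymm h2).eq

/-- **flatness of a homomorphism from density of the image of the neutral component and flatness
after composing with a morphism with reduced fibres.** -/
theorem flat_of_dominant {Y : Over (Spec (CommRingCat.of k))} (q : G ⟶ Y)
    [LocallyOfFinitePresentation q.left] [Flat (u.left ≫ q.left)]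
    (hred : ∀ y : Y.left, IsReduced (q.left.fiber y))
    (hdom : connectedComponent (ePt G) ⊆ closure (u.left '' connectedComponent (ePt F))) :
    Flat u.left := by
  haveI : LocallyOfFinitePresentation F.hom := inferInstance
  haveI : Flat F.hom := inferInstance
  haveI : LocallyOfFinitePresentation u.left := by
    have hw : u.left ≫ G.hom = F.hom := Over.w u
    haveI : LocallyOfFinitePresentation (u.left ≫ G.hom) := by rw [hw]; infer_instance
    exact Groth.Agent.Lib.Helper6.locallyOfFinitePresentation_of_comp (g := G.hom) inferInstance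
      inferInstance
  obtain ⟨ζ, hζ⟩ := exists_isMaxPt_image F G u hdom
  haveI := hred (q.left (u.left ζ))
  have hz : IsMaxPt (q.left.asFiber (u.left ζ)) := by
    intro z' hz'
    have h1 : q.left.fiberι _ z' ⤳ q.left.fiberι _ (q.left.asFiber (u.left ζ)) :=
      hz'.map (q.left.fiberι _).continuous
    rw [Scheme.Hom.fiberι_asFiber] at h1
    have h2 := hζ _ h1
    apply (q.left.fiberι _).isEmbedding.injective
    rw [h2, Scheme.Hom.fiberι_asFiber]
  have hfld := Groth.Agent.Lib.Helper11Homog.isField_stalk_of_isMaxPt _ _ hz
  have h1 : (u.left.stalkMap ζ).hom.Flat :=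
    Groth.Agent.R2.H24.WordsFlat.flat_stalkMap_of_isField u.left q.left ζ
      (Flat.stalkMap (u.left ≫ q.left) ζ) hfld
  apply Flat.of_stalkMap
  intro x
  exact (Groth.Agent.Lib.Helper3.GrpFlat.flat_hom_iff_of_base_eq F G u x ζ
    (@Subsingleton.elim (↥(Spec (CommRingCat.of k))) _ _ _)).mpr h1

end main

end Groth.Agent.R2.H24.QuotRedFlat
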