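import Mathlib
import Groth.Prelude.Def_CInt

/-!
# Schematically dense opens (helper24)

* a closed immersion through which a schematically dense open factors is an isomorphism;
* schematic density is invariant under isomorphisms.
-/

set_option autoImplicit false
set_option linter.unusedVariables false
set_option linter.unusedSectionVars false

open CategoryTheory CategoryTheory.Limits AlgebraicGeometry

universe u

namespace Groth.Agent.R2.H24.SchDense

/-- restriction to `W = V ⊓ U` is injective. -/
lemma injective_map_of_eq {X : Scheme.{u}} (U : X.Opens) (hU : CInt.IsSchematicallyDense U)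
    (V W : X.Opens) (h : W ≤ V) (hW : W = V ⊓ U) :
    Function.Injective (X.presheaf.map (homOfLE h).op) := by
  subst hW
  exact hU V

/-- **a closed immersion through which a schematically dense open factors is an isomorphism.** -/
theorem isIso_of_isClosedImmersion {E X : Scheme.{u}} (i : E ⟶ X) [IsClosedImmersion i]
    (U : X.Opens) (hU : CInt.IsSchematicallyDense U) (j : (U : Scheme.{u}) ⟶ E)
    (hj : j ≫ i = U.ι) : IsIso i := by
  rw [IsClosedImmersion.isIso_iff_ker_eq_bot]
  ext V : 2
  rw [Scheme.Hom.ker_apply]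
  show RingHom.ker (i.app V.1).hom = (⊥ : Ideal _)
  rw [← RingHom.injective_iff_ker_eq_bot]
  intro a b hab
  have h1 : (U.ι.app V.1).hom a = (U.ι.app V.1).hom b := by
    have h0 : ∀ {A B C : CommRingCat.{u}} (f : A ⟶ B) (g : B ⟶ C) (x : A),
        (f ≫ g).hom x = g.hom (f.hom x) := fun _ _ _ => rfl
    rw [Scheme.Hom.congr_app hj.symm V.1, Scheme.Hom.comp_app, h0]
    exact congrArg _ (congrArg (CommRingCat.Hom.hom (Scheme.Hom.app j (i ⁻¹ᵁ V.1))) hab)
  rw [Scheme.Opens.ι_app] at h1
  refine injective_map_of_eq U hU V.1 _ _ ?_ h1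
  rw [Scheme.Hom.image_preimage_eq_opensRange_inf, Scheme.Opens.opensRange_ι, inf_comm]

/-- schematic density is invariant under isomorphisms. -/
theorem isSchematicallyDense_of_isIso {X' X : Scheme.{u}} (φ : X' ⟶ X) [IsIso φ] (U : X.Opens)
    (hU : CInt.IsSchematicallyDense (φ ⁻¹ᵁ U)) : CInt.IsSchematicallyDense U := by
  intro V a b hab
  have h1 : Function.Injective (X'.presheaf.map
      ((TopologicalSpace.Opens.map φ.base).map (homOfLE (inf_le_left : V ⊓ U ≤ V))).op) := hU (φ ⁻¹ᵁ V)
  have hinj : Function.Injective (φ.app V).hom :=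
    (ConcreteCategory.bijective_of_isIso (φ.app V)).1
  apply hinj
  apply h1
  have key : ∀ c, (X'.presheaf.map
      ((TopologicalSpace.Opens.map φ.base).map (homOfLE (inf_le_left : V ⊓ U ≤ V))).op).hom ((φ.app V).hom c) =
      (φ.app (V ⊓ U)).hom ((X.presheaf.map (homOfLE (inf_le_left : V ⊓ U ≤ V)).op).hom c) := by
    intro c
    have := congrArg (fun ψ => ψ.hom c) (φ.naturality (homOfLE (inf_le_left : V ⊓ U ≤ V)).op)
    exact this.symm
  exact (key a).trans ((congrArg _ hab).trans (key b).symm)

end Groth.Agent.R2.H24.SchDense
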