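import Mathlib
import Groth.Prelude.Def_CInt
import Groth.Agent.R2.H24SchDense

/-!
# Relatively schematically dense opens and equalizers (helper24)
-/

set_option autoImplicit false
set_option linter.unusedVariables false
set_option linter.unusedSectionVars false
set_option linter.style.haveILetI false

open CategoryTheory CategoryTheory.Limits AlgebraicGeometry

universe u

namespace Groth.Agent.R2.H24.RelDense

open Groth.Agent.R2.H24.SchDense

/-- two morphisms to a separated scheme which agree on a schematically dense open are equal. -/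
theorem ext_of_isSeparated {T : Scheme.{u}} {X Y : Over T} [IsSeparated Y.hom] (f g : X ⟶ Y)
    (U : X.left.Opens) (hU : CInt.IsSchematicallyDense U)
    (h : U.ι ≫ f.left = U.ι ≫ g.left) : f = g := by
  let Uo : Over T := Over.mk (U.ι ≫ X.hom)
  let ι' : Uo ⟶ X := Over.homMk U.ι rfl
  have hι : ι' ≫ f = ι' ≫ g := by
    ext1
    exact h
  have hj : (equalizer.lift ι' hι).left ≫ (equalizer.ι f g).left = U.ι := by
    rw [← Over.comp_left, equalizer.lift_ι]
    rfl
  haveI : IsIso (equalizer.ι f g).left :=
    isIso_of_isClosedImmersion (equalizer.ι f g).left U hU (equalizer.lift ι' hι).left hj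
  ext1
  rw [← cancel_epi (equalizer.ι f g).left]
  exact congr($(equalizer.condition f g).left)

/-- points of `X` over `s` come from the fibre. -/
theorem exists_fibre_point {S : Scheme.{u}} (X : Over S) (x : X.left) :
    ∃ x' : ↥(pullback X.hom (S.fromSpecResidueField (X.hom x))),
      pullback.fst X.hom (S.fromSpecResidueField (X.hom x)) x' = x := by
  let pt : Spec (S.residueField (X.hom x)) := IsLocalRing.closedPoint (S.residueField (X.hom x))
  have hpt : S.fromSpecResidueField (X.hom x) pt = X.hom x := Scheme.fromSpecResidueField_apply _ _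
  obtain ⟨x', hx1, -⟩ := Scheme.Pullback.exists_preimage_pullback (f := X.hom)
    (g := S.fromSpecResidueField (X.hom x)) x pt (by rw [hpt])
  exact ⟨x', hx1⟩

/-- restriction of a base-changed morphism to the preimage of `U`. -/
theorem preimage_ι_comp_map {S T : Scheme.{u}} (t : T ⟶ S) {X Y : Over S} (f g : X ⟶ Y)
    (U : X.left.Opens) (h : U.ι ≫ f.left = U.ι ≫ g.left) :
    ((pullback.fst X.hom t) ⁻¹ᵁ U).ι ≫ ((Over.pullback t).map f).left =
      ((pullback.fst X.hom t) ⁻¹ᵁ U).ι ≫ ((Over.pullback t).map g).left := by
  have hf : ∀ φ : X ⟶ Y, ((Over.pullback t).map φ).left ≫ pullback.fst Y.hom t =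
      pullback.fst X.hom t ≫ φ.left := fun φ => by
    simp only [Over.pullback_map_left]
    exact pullback.lift_fst _ _ _
  have hs : ∀ φ : X ⟶ Y, ((Over.pullback t).map φ).left ≫ pullback.snd Y.hom t =
      pullback.snd X.hom t := fun φ => by
    simp only [Over.pullback_map_left]
    exact pullback.lift_snd _ _ _
  apply pullback.hom_ext
  · rw [Category.assoc, Category.assoc, hf, hf, ← Category.assoc, ← Category.assoc,
      ← morphismRestrict_ι, Category.assoc, Category.assoc, h]
  · rw [Category.assoc, Category.assoc, hs, hs]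

/-- **two `S`-morphisms `X ⟶ Y` which agree on a relatively schematically dense open are equal, if
the fibres of `Y` are separated.** -/
theorem ext_of_fibres_separated {S : Scheme.{u}} (X Y : Over S) (U : X.left.Opens)
    (hU : ∀ (S' : Scheme.{u}) (g : S' ⟶ S),
      CInt.IsSchematicallyDense ((pullback.fst X.hom g) ⁻¹ᵁ U))
    (hY : ∀ s : S, IsSeparated (pullback.snd Y.hom (S.fromSpecResidueField s)))
    (f g : X ⟶ Y) (h : U.ι ≫ f.left = U.ι ≫ g.left) : f = g := by
  -- equality on fibres
  have hfib : ∀ s : S, pullback.fst X.hom (S.fromSpecResidueField s) ≫ f.left =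
      pullback.fst X.hom (S.fromSpecResidueField s) ≫ g.left := by
    intro s
    let t := S.fromSpecResidueField s
    haveI : IsSeparated ((Over.pullback t).obj Y).hom := hY s
    have e := ext_of_isSeparated ((Over.pullback t).map f) ((Over.pullback t).map g)
      ((pullback.fst X.hom t) ⁻¹ᵁ U) (hU _ t) (preimage_ι_comp_map t f g U h)
    have hf : ∀ φ : X ⟶ Y, ((Over.pullback t).map φ).left ≫ pullback.fst Y.hom t =
        pullback.fst X.hom t ≫ φ.left := fun φ => by
      simp only [Over.pullback_map_left]
      exact pullback.lift_fst _ _ _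
    rw [← hf f, ← hf g, e]
  -- the equalizer is surjective
  let e := equalizer.ι f.left g.left
  have hsurj : Function.Surjective e := by
    intro x
    obtain ⟨x', hx'⟩ := exists_fibre_point X x
    refine ⟨equalizer.lift _ (hfib (X.hom x)) x', ?_⟩
    rw [← Scheme.Hom.comp_apply, equalizer.lift_ι]
    exact hx'
  haveI : IsClosedImmersion e :=
    IsClosedImmersion.of_isPreimmersion e (by
      rw [hsurj.range_eq]
      exact isClosed_univ)
  have hUd : CInt.IsSchematicallyDense U :=
    isSchematicallyDense_of_isIso (pullback.fst X.hom (𝟙 S)) U (hU S (𝟙 S))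
  haveI : IsIso e := isIso_of_isClosedImmersion e U hUd (equalizer.lift U.ι h)
    (equalizer.lift_ι _ _)
  ext1
  rw [← cancel_epi e]
  exact equalizer.condition f.left g.left

end Groth.Agent.R2.H24.RelDense
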