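import Mathlib
import Groth.Prelude.Def_Red
import Groth.Agent.R2.H24RelDense
import Groth.Agent.Lib.Helper25TopGrp
import Groth.Agent.Lib.Helper25SubGrp

/-!
# Homomorphisms of group schemes agreeing on a relatively schematically dense open (helper24)
-/

set_option autoImplicit false
set_option linter.unusedVariables false
set_option linter.unusedSectionVars false
set_option linter.style.haveILetI false

open CategoryTheory CategoryTheory.Limits MonoidalCategory CartesianMonoidalCategory MonObj GrpObj
  AlgebraicGeometry

universe u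

namespace Groth.Agent.R2.H24.RelDenseGrp

open Groth.Agent.R2.H24.SchDense Groth.Agent.R2.H24.RelDense Groth.Agent.Lib.Helper25.TopGrp
  Groth.Agent.Lib.Helper25.SubGrp
open scoped Obj

/-- over a base over which everything is universally open (a field, a local artinian ring), two
homomorphisms of group schemes which agree on a schematically dense open are equal: their equalizer
is a subgroup scheme, hence closed. -/
theorem hom_ext_of_baseUO {T : Scheme.{u}} [BaseUO T] {G H : Over T} [GrpObj G] [GrpObj H]
    (f g : G ⟶ H) [IsMonHom f] [IsMonHom g] (U : G.left.Opens)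
    (hU : CInt.IsSchematicallyDense U) (h : U.ι ≫ f.left = U.ι ≫ g.left) : f = g := by
  let jE := equalizer.ι f.left g.left
  let Eo : Over T := Over.mk (jE ≫ G.hom)
  let io : Eo ⟶ G := Over.homMk jE rfl
  haveI : Mono io.left := inferInstanceAs (Mono (equalizer.ι f.left g.left))
  haveI : Mono io := Over.mono_of_mono_left io
  have hio : io ≫ f = io ≫ g := by
    ext1
    exact equalizer.condition f.left g.left
  have hlift : ∀ {Z : Over T} (φ : Z ⟶ G), φ ≫ f = φ ≫ g → ∃ φ' : Z ⟶ Eo, φ' ≫ io = φ := by
    intro Z φ hφ
    have hφ' : φ.left ≫ f.left = φ.left ≫ g.left := congr($(hφ).left)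
    refine ⟨Over.homMk (equalizer.lift φ.left hφ') ?_, ?_⟩
    · show equalizer.lift φ.left hφ' ≫ jE ≫ G.hom = Z.hom
      rw [← Category.assoc, equalizer.lift_ι, Over.w φ]
    · ext1
      exact equalizer.lift_ι _ _
  obtain ⟨e, he⟩ := hlift η[G] (by rw [IsMonHom.one_hom, IsMonHom.one_hom])
  obtain ⟨m, hm⟩ := hlift ((io ⊗ₘ io) ≫ μ[G]) (by
    rw [Category.assoc, Category.assoc, IsMonHom.mul_hom, IsMonHom.mul_hom, ← Category.assoc,
      ← Category.assoc, tensorHom_comp_tensorHom, tensorHom_comp_tensorHom, hio])
  obtain ⟨w, hw⟩ := hlift (io ≫ ι[G]) (by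
    rw [Category.assoc, Category.assoc, GrpObj.inv_hom, GrpObj.inv_hom, ← Category.assoc,
      ← Category.assoc, hio])
  letI : GrpObj Eo := grpObjOfMono io e he m hm w hw
  haveI : IsMonHom io := isMonHom_of_grpObjOfMono io e he m hm w hw
  haveI : IsImmersion io.left := inferInstanceAs (IsImmersion (equalizer.ι f.left g.left))
  haveI : IsClosedImmersion jE := isClosedImmersion_of_isImmersion io
  haveI : IsIso jE := isIso_of_isClosedImmersion jE U hU (equalizer.lift U.ι h)
    (equalizer.lift_ι _ _)
  ext1
  rw [← cancel_epi jE]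
  exact equalizer.condition f.left g.left

/-- **two homomorphisms `G ⟶ H` of `S`-group schemes which agree on a relatively schematically
dense open of `G` are equal** (no separatedness of `H`). -/
theorem hom_ext_of_relSchDense {S : Scheme.{u}} (G H : Over S) [GrpObj G] [GrpObj H]
    (U : G.left.Opens)
    (hU : ∀ (S' : Scheme.{u}) (g : S' ⟶ S),
      CInt.IsSchematicallyDense ((pullback.fst G.hom g) ⁻¹ᵁ U))
    (f g : G ⟶ H) [IsMonHom f] [IsMonHom g] (h : U.ι ≫ f.left = U.ι ≫ g.left) : f = g := by
  have hfib : ∀ s : S, pullback.fst G.hom (S.fromSpecResidueField s) ≫ f.left =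
      pullback.fst G.hom (S.fromSpecResidueField s) ≫ g.left := by
    intro s
    let t := S.fromSpecResidueField s
    haveI : BaseUO (Spec (S.residueField s)) :=
      inferInstanceAs (BaseUO (Spec (CommRingCat.of (S.residueField s))))
    haveI : IsMonHom ((Over.pullback t).map f) := inferInstance
    haveI : IsMonHom ((Over.pullback t).map g) := inferInstance
    have e := hom_ext_of_baseUO (G := Red.bc t G) (H := Red.bc t H) ((Over.pullback t).map f)
      ((Over.pullback t).map g) ((pullback.fst G.hom t) ⁻¹ᵁ U) (hU _ t)
      (preimage_ι_comp_map t f g U h)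
    have hf : ∀ φ : G ⟶ H, ((Over.pullback t).map φ).left ≫ pullback.fst H.hom t =
        pullback.fst G.hom t ≫ φ.left := fun φ => by
      simp only [Over.pullback_map_left]
      exact pullback.lift_fst _ _ _
    rw [← hf f, ← hf g, e]
  let e := equalizer.ι f.left g.left
  have hsurj : Function.Surjective e := by
    intro x
    obtain ⟨x', hx'⟩ := exists_fibre_point G x
    refine ⟨equalizer.lift _ (hfib (G.hom x)) x', ?_⟩
    rw [← Scheme.Hom.comp_apply, equalizer.lift_ι]
    exact hx'
  haveI : IsClosedImmersion e :=
    IsClosedImmersion.of_isPreimmersion e (by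
      rw [hsurj.range_eq]
      exact isClosed_univ)
  have hUd : CInt.IsSchematicallyDense U :=
    isSchematicallyDense_of_isIso (pullback.fst G.hom (𝟙 S)) U (hU S (𝟙 S))
  haveI : IsIso e := isIso_of_isClosedImmersion e U hUd (equalizer.lift U.ι h)
    (equalizer.lift_ι _ _)
  ext1
  rw [← cancel_epi e]
  exact equalizer.condition f.left g.left

end Groth.Agent.R2.H24.RelDenseGrp
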