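import Mathlib

/-!
# helper24: global functions of a proper connected reduced scheme with a rational point
-/

set_option autoImplicit false

universe u

open CategoryTheory CategoryTheory.Limits AlgebraicGeometry Polynomial

namespace Groth.Agent.R2.H24.RigidAlg

/-- In a reduced algebra over a field with only trivial idempotents, an integral element killed by
an algebra retraction onto the field is zero. -/
theorem eq_zero_of_isIntegral {F A : Type*} [Field F] [CommRing A] [Algebra F A] [IsReduced A]
    (hidem : ∀ e : A, IsIdempotentElem e → e = 0 ∨ e = 1) (ev : A →ₐ[F] F) (a : A)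
    (ha : IsIntegral F a) (h0 : ev a = 0) : a = 0 := by
  obtain ⟨P, hPm, hPa⟩ := ha
  have hPa' : aeval a P = 0 := by rwa [aeval_def]
  have hP0 : P ≠ 0 := hPm.ne_zero
  obtain ⟨Q, hPQ, hQ⟩ := Polynomial.exists_eq_pow_rootMultiplicity_mul_and_not_dvd P hP0 (0 : F)
  set r := P.rootMultiplicity 0 with hr
  rw [C_0, sub_zero] at hPQ hQ
  have hcop : IsCoprime (X ^ r : F[X]) Q :=
    IsCoprime.pow_left ((Polynomial.irreducible_X).coprime_iff_not_dvd.mpr hQ)
  obtain ⟨u, v, huv⟩ := hcop
  have h1 : aeval a u * a ^ r + aeval a v * aeval a Q = 1 := by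
    have := congrArg (aeval a) huv
    simpa using this
  have h2 : a ^ r * aeval a Q = 0 := by
    have := congrArg (aeval a) hPQ
    rw [hPa'] at this
    simpa using this.symm
  have hev : ∀ R : F[X], ev (aeval a R) = R.eval 0 := by
    intro R
    rw [← Polynomial.aeval_algHom_apply, h0]
    simp [Polynomial.coe_aeval_eq_eval]
  have hr1 : r ≠ 0 := by
    intro hr0
    have h3 : ev (aeval a P) = 0 := by rw [hPa', map_zero]
    rw [hev, hPQ, hr0, pow_zero, one_mul] at h3
    apply hQ
    rw [Polynomial.X_dvd_iff, Polynomial.coeff_zero_eq_eval_zero]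
    exact h3
  set e := aeval a v * aeval a Q with he
  have hidemp : IsIdempotentElem e := by
    change e * e = e
    have h4 : e = 1 - aeval a u * a ^ r := by rw [he]; linear_combination h1
    calc e * e = e * (1 - aeval a u * a ^ r) := by rw [← h4]
      _ = e - aeval a v * aeval a u * (a ^ r * aeval a Q) := by rw [he]; ring
      _ = e := by rw [h2]; ring
  have hev_e : ev e = 1 := by
    have h5 := congrArg ev h1
    rw [map_add, map_mul, map_pow, h0, zero_pow hr1, mul_zero, zero_add, map_one] at h5
    exact h5
  rcases hidem e hidemp with h | h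
  · rw [h, map_zero] at hev_e
    exact absurd hev_e zero_ne_one
  · have h6 : a ^ r = 0 := by
      calc a ^ r = a ^ r * e := by rw [h, mul_one]
        _ = aeval a v * (a ^ r * aeval a Q) := by rw [he]; ring
        _ = 0 := by rw [h2, mul_zero]
    exact IsReduced.eq_zero _ ⟨r, h6⟩

/-- On a connected reduced scheme the only idempotent global functions are `0` and `1`. -/
theorem idem_trivial (W : Scheme.{u}) [IsReduced W] [ConnectedSpace W] (e : Γ(W, ⊤))
    (he : IsIdempotentElem e) : e = 0 ∨ e = 1 := by
  have hdisj : W.basicOpen e ⊓ W.basicOpen (1 - e) = ⊥ := by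
    rw [← Scheme.basicOpen_mul]
    have : e * (1 - e) = 0 := by rw [mul_sub, mul_one, he.eq, sub_self]
    rw [this, Scheme.basicOpen_zero]
  have hcov : ∀ x : W, x ∈ W.basicOpen e ∨ x ∈ W.basicOpen (1 - e) := by
    intro x
    rw [Scheme.mem_basicOpen _ _ _ (Set.mem_univ x), Scheme.mem_basicOpen _ _ _ (Set.mem_univ x)]
    apply IsLocalRing.isUnit_or_isUnit_of_add_one
    rw [← map_add]
    simp
  have hclopen : IsClopen (W.basicOpen e : Set W) := by
    refine ⟨?_, (W.basicOpen e).2⟩
    have : (W.basicOpen e : Set W)ᶜ = (W.basicOpen (1 - e) : Set W) := by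
      ext x
      constructor
      · intro hx
        rcases hcov x with h | h
        · exact absurd h hx
        · exact h
      · intro hx hx'
        have : x ∈ W.basicOpen e ⊓ W.basicOpen (1 - e) := ⟨hx', hx⟩
        rw [hdisj] at this
        exact this
    rw [← isOpen_compl_iff, this]
    exact (W.basicOpen (1 - e)).2
  rcases isClopen_iff.mp hclopen with h | h
  · left
    have : W.basicOpen e = ⊥ := by
      ext x
      simp only [TopologicalSpace.Opens.coe_bot]
      rw [h]
    exact (AlgebraicGeometry.basicOpen_eq_bot_iff e).mp this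
  · right
    have : W.basicOpen (1 - e) = ⊥ := by
      rw [← hdisj]
      apply le_antisymm
      · refine le_inf ?_ le_rfl
        intro x _
        change x ∈ (W.basicOpen e : Set W)
        rw [h]; trivial
      · exact inf_le_right
    have := (AlgebraicGeometry.basicOpen_eq_bot_iff (1 - e)).mp this
    exact (sub_eq_zero.mp this).symm

variable {K : Type u} [Field K]

/-- A proper, connected, reduced scheme over a field with a rational point has only the constant
global functions. -/
theorem isIso_appTop (W : Scheme.{u}) (p : W ⟶ Spec (CommRingCat.of K)) [UniversallyClosed p]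
    [IsReduced W] [ConnectedSpace W] (w₀ : Spec (CommRingCat.of K) ⟶ W) (hw₀ : w₀ ≫ p = 𝟙 _) :
    IsIso p.appTop := by
  have hcomp : p.appTop ≫ w₀.appTop = 𝟙 _ := by
    rw [← Scheme.Hom.comp_appTop, hw₀]; rfl
  have hint : p.appTop.hom.IsIntegral := isIntegral_appTop_of_universallyClosed p
  let := ((Scheme.ΓSpecIso (.of K)).commRingCatIsoToRingEquiv.toMulEquiv.isField
    (Field.toIsField K)).toField
  algebraize [p.appTop.hom]
  have hred : IsReduced Γ(W, ⊤) := inferInstance
  let ev : Γ(W, ⊤) →ₐ[Γ(Spec (CommRingCat.of K), ⊤)] Γ(Spec (CommRingCat.of K), ⊤) :=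
    { w₀.appTop.hom with
      commutes' := by
        intro r
        change (p.appTop ≫ w₀.appTop).hom r = r
        rw [hcomp]; rfl }
  have hinj : Function.Injective w₀.appTop.hom := by
    rw [injective_iff_map_eq_zero]
    intro a ha
    exact eq_zero_of_isIntegral (idem_trivial W) ev a (hint a) ha
  have hbij : Function.Bijective p.appTop.hom := by
    constructor
    · intro a b hab
      have := congrArg w₀.appTop.hom hab
      change (p.appTop ≫ w₀.appTop).hom a = (p.appTop ≫ w₀.appTop).hom b at this
      rwa [hcomp] at this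
    · intro a
      refine ⟨w₀.appTop.hom a, hinj ?_⟩
      change (p.appTop ≫ w₀.appTop).hom (w₀.appTop.hom a) = _
      rw [hcomp]; rfl
  exact (ConcreteCategory.isIso_iff_bijective p.appTop).mpr hbij

end Groth.Agent.R2.H24.RigidAlg
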