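import Mathlib
import Groth.Agent.Lib.Helper11Rigidity
import Groth.Agent.R2.H60SteinBC
import Groth.Agent.R2.H24RigidAlg
import Groth.Agent.R2.H24HomogSep
import Groth.Agent.R2.H24MaxOpen

/-!
# helper24: a set-theoretic rigidity lemma

`W` proper over a field `K` with `Γ(W) = K`, `V` irreducible, `Y` separated over `K`,
`φ : W × V ⟶ Y` contracting one slice `W × {v₀}` to a point.  Then on points `φ` factors through
the projection to `V`.
-/

set_option autoImplicit false

universe u

open CategoryTheory CategoryTheory.Limits MonoidalCategory CartesianMonoidalCategory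
  AlgebraicGeometry

namespace Groth.Agent.R2.H24.Rigid

open Groth.Agent.Lib.Helper11Rigidity Groth.Agent.R2.H24.HomogSep

variable {K : Type u} [Field K]

theorem rigid_pt (W V Y : Over (Spec (CommRingCat.of K))) [IsProper W.hom]
    (hΓ : IsIso W.hom.appTop) [IrreducibleSpace V.left] [IsSeparated Y.hom] (φ : W ⊗ V ⟶ Y)
    (w₀ : 𝟙_ (Over (Spec (CommRingCat.of K))) ⟶ W)
    (v₀ : 𝟙_ (Over (Spec (CommRingCat.of K))) ⟶ V) (y₀ : Y.left)
    (hconst : ∀ w : W.left, (slice W v₀ ≫ φ).left w = y₀) (z : (W ⊗ V).left) :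
    φ.left z = (snd W V ≫ lift (toUnit V ≫ w₀) (𝟙 V) ≫ φ).left z := by
  let S := Spec (CommRingCat.of K)
  let pt : S := IsLocalRing.closedPoint K
  set ψ : W ⊗ V ⟶ Y := snd W V ≫ lift (toUnit V ≫ w₀) (𝟙 V) ≫ φ with hψ
  obtain ⟨_, ⟨U, hU, rfl⟩, hyU, -⟩ := Y.left.isBasis_affineOpens.exists_subset_of_mem_open
    (Set.mem_univ y₀) isOpen_univ
  let B : Set (W ⊗ V).left := φ.left ⁻¹' ((U : Set Y.left)ᶜ)
  have hB : IsClosed B := (U.2.isClosed_compl).preimage φ.left.continuous
  have hprop : IsProper (snd W V).left := by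
    rw [Over.snd_left]; infer_instance
  let Z : Set V.left := (snd W V).left '' B
  have hZ : IsClosed Z := (snd W V).left.isClosedMap _ hB
  have hv₀ : v₀.left pt ∉ Z := by
    rintro ⟨b, hb, hbv⟩
    have hb' : b ∈ Set.range (slice W v₀).left := by
      rw [range_slice]; exact ⟨pt, hbv.symm⟩
    obtain ⟨w, rfl⟩ := hb'
    apply hb
    change (slice W v₀ ≫ φ).left w ∈ U
    rw [hconst w]
    exact hyU
  have hopen : IsOpen (Zᶜ) := hZ.isOpen_compl
  have hdense : Dense (Zᶜ) := hopen.dense ⟨_, hv₀⟩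
  have huo : UniversallyOpen (snd W V).left := by
    rw [Over.snd_left]; infer_instance
  have hD : Dense ((snd W V).left ⁻¹' Zᶜ) := hdense.preimage (snd W V).left.isOpenMap
  let T : Set (W ⊗ V).left := (lift φ ψ).left ⁻¹' Set.range (HomogSep.diag Y).left
  have hT : IsClosed T := (isClosed_range_diag Y).preimage (lift φ ψ).left.continuous
  have hsub : (snd W V).left ⁻¹' Zᶜ ⊆ T := by
    intro z hz
    obtain ⟨_, ⟨V₁', hV₁, rfl⟩, hzV₁, hV₁Z⟩ := V.left.isBasis_affineOpens.exists_subset_of_mem_open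
      hz hopen
    let V₁ : V.left.Opens := V₁'
    let Vo : Over S := Over.mk (V₁.ι ≫ V.hom)
    let j : Vo ⟶ V := Over.homMk V₁.ι rfl
    have hpb := MaxOpen.isPullback_whiskerLeft W j
    obtain ⟨z', hz'1, hz'2⟩ := exists_of_isPullback hpb z (⟨(snd W V).left z, hzV₁⟩ : V₁) rfl
    let s : Vo ⟶ W ⊗ Vo := lift (toUnit Vo ≫ w₀) (𝟙 Vo)
    have hs : s.left ≫ (snd W Vo).left = 𝟙 _ := by
      rw [← Over.comp_left, lift_snd]; rfl
    have haff : IsAffine Vo.left := hV₁
    have hiso : IsIso (snd W Vo).left.appTop := by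
      rw [Over.snd_left]
      exact Groth.Agent.R2.H60.SteinBC.isIso_snd_appTop W.hom Vo.hom hΓ
    have hbij : Function.Bijective (snd W Vo).left.appTop :=
      (ConcreteCategory.isIso_iff_bijective _).mp hiso
    have hrange : Set.range ((W ◁ j) ≫ φ).left ⊆ U := by
      rintro _ ⟨q, rfl⟩
      by_contra hq
      have hqB : (W ◁ j).left q ∈ B := hq
      have : (snd W V).left ((W ◁ j).left q) ∈ Z := ⟨_, hqB, rfl⟩
      have h2 : (snd W V).left ((W ◁ j).left q) = j.left ((snd W Vo).left q) := by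
        rw [← Scheme.Hom.comp_apply, ← Scheme.Hom.comp_apply, hpb.w]
      rw [h2] at this
      exact hV₁Z ((snd W Vo).left q).2 this
    have key := eq_comp_of_appTop_bijective (snd W Vo).left s.left hs hbij
      ((W ◁ j) ≫ φ).left U hU hrange
    have key' : (W ◁ j) ≫ φ = snd W Vo ≫ s ≫ (W ◁ j) ≫ φ := by
      ext1
      simpa using key
    have heq : (W ◁ j) ≫ φ = (W ◁ j) ≫ ψ := by
      rw [key', hψ, whiskerLeft_snd_assoc]
      congr 1
      rw [← Category.assoc, ← Category.assoc]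
      congr 1
      rw [comp_lift]
      change lift (toUnit Vo ≫ w₀) (𝟙 Vo) ≫ W ◁ j = _
      rw [lift_whiskerLeft]
      congr 1
    change (lift φ ψ).left z ∈ Set.range (HomogSep.diag Y).left
    rw [← hz'1, ← Scheme.Hom.comp_apply, ← Over.comp_left, comp_lift]
    exact mem_range_diag_of_eq Y _ _ heq z'
  have hall : z ∈ T := by
    have : closure ((snd W V).left ⁻¹' Zᶜ) ⊆ T := closure_minimal hsub hT
    exact this (hD z)
  obtain ⟨y, hy⟩ := hall
  have h1 : φ.left z = y := by
    have : φ.left z = (fst Y Y).left ((lift φ ψ).left z) := by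
      rw [← Scheme.Hom.comp_apply, ← Over.comp_left, lift_fst]
    rw [this, ← hy, ← Scheme.Hom.comp_apply, ← Over.comp_left, lift_fst]
    rfl
  have h2 : ψ.left z = y := by
    have : ψ.left z = (snd Y Y).left ((lift φ ψ).left z) := by
      rw [← Scheme.Hom.comp_apply, ← Over.comp_left, lift_snd]
    rw [this, ← hy, ← Scheme.Hom.comp_apply, ← Over.comp_left, lift_snd]
    rfl
  rw [h1, h2]

end Groth.Agent.R2.H24.Rigid
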