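import Mathlib
import Groth.Agent.Lib.Helper11RedCl
import Groth.Agent.R2.H24Rigid

/-!
# helper24: rigidity for translates of a closed connected subset of a proper group scheme
-/

set_option autoImplicit false

universe u

open CategoryTheory CategoryTheory.Limits MonoidalCategory CartesianMonoidalCategory MonObj GrpObj
  AlgebraicGeometry

namespace Groth.Agent.R2.H24.RigidGrp

open Groth.Agent.Lib.Helper11Rigidity Groth.Agent.R2.H24.Rigid

variable {K : Type u} [Field K]

/-- left translation by a rational point. -/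
noncomputable abbrev tr {X : Over (Spec (CommRingCat.of K))} [GrpObj X]
    (v : 𝟙_ (Over (Spec (CommRingCat.of K))) ⟶ X) : X ⟶ X :=
  lift (toUnit X ≫ v) (𝟙 X) ≫ μ[X]

theorem translate_const (X : Over (Spec (CommRingCat.of K))) [GrpObj X] [IsProper X.hom]
    [IrreducibleSpace X.left] (Y : Over (Spec (CommRingCat.of K))) [IsSeparated Y.hom]
    (f : X ⟶ Y) (C : Set X.left) (hC : IsClosed C) (hconn : _root_.IsPreconnected C)
    (he : η[X].left (IsLocalRing.closedPoint K) ∈ C)
    (v₀ : 𝟙_ (Over (Spec (CommRingCat.of K))) ⟶ X) (y₀ : Y.left)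
    (hconst : ∀ b ∈ C, (tr v₀ ≫ f).left b = y₀)
    (v : 𝟙_ (Over (Spec (CommRingCat.of K))) ⟶ X) (b : X.left) (hb : b ∈ C) :
    (tr v ≫ f).left b = f.left (v.left (IsLocalRing.closedPoint K)) := by
  let S := Spec (CommRingCat.of K)
  let pt : S := IsLocalRing.closedPoint K
  let Cc : TopologicalSpace.Closeds X.left := ⟨C, hC⟩
  let I := Scheme.IdealSheafData.vanishingIdeal Cc
  let inc : I.subscheme ⟶ X.left := I.subschemeι
  have hrange : Set.range inc = C :=
    Groth.Agent.Lib.Helper11RedCl.range_subschemeι_vanishingIdeal Cc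
  have hred : IsReduced I.subscheme :=
    Groth.Agent.Lib.Helper11RedCl.isReduced_subscheme_vanishingIdeal Cc
  let W : Over S := Over.mk (inc ≫ X.hom)
  let inco : W ⟶ X := Over.homMk inc rfl
  have hprop : IsProper W.hom := by
    change IsProper (inc ≫ X.hom); infer_instance
  -- the unit section lifts to `W`
  have hredS : IsReduced (𝟙_ (Over S)).left := by
    change IsReduced (Spec (CommRingCat.of K)); infer_instance
  have hsubS : Subsingleton (𝟙_ (Over S)).left := by
    change Subsingleton (Spec (CommRingCat.of K)); infer_instance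
  obtain ⟨l, hl⟩ := Groth.Agent.Lib.Helper11RedCl.exists_lift_of_range_subset η[X].left Cc (by
    rintro _ ⟨s, rfl⟩
    have : s = pt := Subsingleton.elim _ _
    rw [this]; exact he)
  let w₀ : 𝟙_ (Over S) ⟶ W := Over.homMk l (by
    change l ≫ inc ≫ X.hom = _
    rw [← Category.assoc, hl]; exact Over.w η[X])
  have hw₀ : w₀ ≫ inco = η[X] := by
    ext1; exact hl
  -- connectedness
  have hne : Nonempty I.subscheme := ⟨l pt⟩
  have hconnW : ConnectedSpace I.subscheme := by
    have hpre : PreconnectedSpace I.subscheme := by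
      refine ⟨?_⟩
      rw [← inc.isEmbedding.isInducing.isPreconnected_image, Set.image_univ, hrange]
      exact hconn
    exact { toPreconnectedSpace := hpre, toNonempty := hne }
  have hΓ : IsIso W.hom.appTop :=
    Groth.Agent.R2.H24.RigidAlg.isIso_appTop I.subscheme W.hom w₀.left (Over.w w₀)
  let φ : W ⊗ X ⟶ Y := lift (snd W X) (fst W X ≫ inco) ≫ μ[X] ≫ f
  have hslice : ∀ u : 𝟙_ (Over S) ⟶ X, slice W u ≫ φ = inco ≫ tr u ≫ f := by
    intro u
    change lift (𝟙 W) (toUnit W ≫ u) ≫ lift (snd W X) (fst W X ≫ inco) ≫ μ[X] ≫ f =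
      inco ≫ (lift (toUnit X ≫ u) (𝟙 X) ≫ μ[X]) ≫ f
    rw [← Category.assoc, comp_lift, lift_snd, lift_fst_assoc, Category.id_comp]
    rw [Category.assoc, ← Category.assoc inco, comp_lift, Category.comp_id, ← Category.assoc inco,
      toUnit_unique (inco ≫ toUnit X) (toUnit W)]
  have hsec : lift (toUnit X ≫ w₀) (𝟙 X) ≫ φ = f := by
    change lift (toUnit X ≫ w₀) (𝟙 X) ≫ lift (snd W X) (fst W X ≫ inco) ≫ μ[X] ≫ f = f
    rw [← Category.assoc, comp_lift, lift_snd, lift_fst_assoc, Category.assoc, hw₀,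
      ← Category.assoc, MonObj.lift_comp_one_right, Category.id_comp]
  have hconst' : ∀ w : W.left, (slice W v₀ ≫ φ).left w = y₀ := by
    intro w
    rw [hslice v₀]
    change (tr v₀ ≫ f).left (inc w) = y₀
    apply hconst
    rw [← hrange]; exact ⟨w, rfl⟩
  have key := rigid_pt W X Y hΓ φ w₀ v₀ y₀ hconst'
  obtain ⟨w, rfl⟩ : b ∈ Set.range inc := by rw [hrange]; exact hb
  have h1 := key ((slice W v).left w)
  rw [hsec] at h1
  have h2 : φ.left ((slice W v).left w) = (tr v ≫ f).left (inc w) := by
    rw [← Scheme.Hom.comp_apply, ← Over.comp_left, hslice v]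
    rfl
  rw [← h2, h1]
  change f.left ((slice W v ≫ snd W X).left w) = _
  rw [lift_snd]
  change f.left (v.left ((toUnit W).left w)) = _
  congr 2
  exact Subsingleton.elim _ _

end Groth.Agent.R2.H24.RigidGrp
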