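import Mathlib
import Groth.Agent.R2.H24Words
import Groth.Agent.Lib.Helper11SepPts
import Groth.Agent.Lib.Helper8Grp

/-!
# helper24: universal iterated-commutator words (derived and lower central series of `G(T)`)

* `commutator_closure_le`: `⁅closure A, closure B⁆ ≤ normalClosure {⁅a, b⁆}`.
* `WordData G`: an `S`-scheme `P` with a morphism `c : P ⟶ G` whose set of values on `T`-points is
  stable under conjugation; `WordData.comm` is the commutator of two such words.
* `derivedW n`, `lcsW n`: the universal words for the derived and lower central series;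
  `derivedSeries_le`, `lcs_le`: the `n`-th term of the series of `G(T)` lies in the normal closure
  of the values; `vals_subset_derivedSeries`, `vals_subset_lcs`.
-/

set_option autoImplicit false

universe u

open CategoryTheory CategoryTheory.Limits MonoidalCategory CartesianMonoidalCategory MonObj GrpObj
  AlgebraicGeometry

namespace Groth.Agent.R2.H24.SeriesWords

open scoped commutatorElement

open Groth.Agent.R2.H24.Words

section grp

variable {Γ : Type*} [Group Γ]

lemma commutator_closure_le (A B : Set Γ) :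
    ⁅Subgroup.closure A, Subgroup.closure B⁆ ≤
      Subgroup.normalClosure {c | ∃ a ∈ A, ∃ b ∈ B, ⁅a, b⁆ = c} := by
  set N := Subgroup.normalClosure {c | ∃ a ∈ A, ∃ b ∈ B, ⁅a, b⁆ = c} with hN
  have hker : ∀ g : Γ, (QuotientGroup.mk' N) g = 1 ↔ g ∈ N := fun g => QuotientGroup.eq_one_iff g
  rw [Subgroup.commutator_le]
  intro g₁ hg₁ g₂ hg₂
  rw [← hker, map_commutatorElement]
  have hcomm : ∀ a ∈ A, ∀ b ∈ B, Commute ((QuotientGroup.mk' N) a) ((QuotientGroup.mk' N) b) := by
    intro a ha b hb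
    rw [← commutatorElement_eq_one_iff_commute, ← map_commutatorElement, hker]
    exact Subgroup.subset_normalClosure ⟨a, ha, b, hb, rfl⟩
  rw [commutatorElement_eq_one_iff_commute]
  induction hg₁ using Subgroup.closure_induction with
  | mem a ha =>
    induction hg₂ using Subgroup.closure_induction with
    | mem b hb => exact hcomm a ha b hb
    | one => rw [map_one]; exact Commute.one_right _
    | mul x y _ _ hx hy => rw [map_mul]; exact hx.mul_right hy
    | inv x _ hx => rw [map_inv]; exact hx.inv_right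
  | one => rw [map_one]; exact Commute.one_left _
  | mul x y _ _ hx hy => rw [map_mul]; exact hx.mul_left hy
  | inv x _ hx => rw [map_inv]; exact hx.inv_left

/-- for conjugation-stable sets, the normal closure is the closure. -/
lemma normalClosure_eq_closure (A : Set Γ) (hA : ∀ g : Γ, ∀ a ∈ A, g * a * g⁻¹ ∈ A) :
    Subgroup.normalClosure A = Subgroup.closure A := by
  have h : Group.conjugatesOfSet A = A := by
    apply le_antisymm
    · intro x hx
      rw [Group.mem_conjugatesOfSet_iff] at hx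
      obtain ⟨a, ha, hconj⟩ := hx
      rw [isConj_iff] at hconj
      obtain ⟨c, rfl⟩ := hconj
      exact hA c a ha
    · exact Group.subset_conjugatesOfSet
  rw [Subgroup.normalClosure, h]

end grp

section words

variable {S : Scheme.{u}} (G : Over S) [GrpObj G]

/-- a word morphism with conjugation-stable values. -/
structure WordData where
  /-- the parameter scheme -/
  P : Over S
  /-- the word -/
  c : P ⟶ G
  conj : ∀ (T : Over S) (t : T ⟶ P) (g : T ⟶ G), ∃ t' : T ⟶ P, t' ≫ c = g * (t ≫ c) * g⁻¹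

variable {G}

/-- the values of a word on `T`-points. -/
def WordData.vals (W : WordData G) (T : Over S) : Set (T ⟶ G) :=
  Set.range (fun t : T ⟶ W.P => t ≫ W.c)

lemma WordData.vals_conj (W : WordData G) (T : Over S) (g : T ⟶ G) (a : T ⟶ G)
    (ha : a ∈ W.vals T) : g * a * g⁻¹ ∈ W.vals T := by
  obtain ⟨t, rfl⟩ := ha
  obtain ⟨t', ht'⟩ := W.conj T t g
  exact ⟨t', ht'⟩

lemma comp_commutator {T P : Over S} (t : T ⟶ P) (a b : P ⟶ G) :
    t ≫ ⁅a, b⁆ = ⁅t ≫ a, t ≫ b⁆ :=
  map_commutatorElement (precomp t) a b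

variable (G) in
/-- the identity word. -/
noncomputable def WordData.id : WordData G where
  P := G
  c := 𝟙 G
  conj T t g := ⟨g * t * g⁻¹, by rw [Category.comp_id, Category.comp_id]⟩

/-- the commutator of two words. -/
noncomputable def WordData.comm (W₁ W₂ : WordData G) : WordData G where
  P := W₁.P ⊗ W₂.P
  c := ⁅fst W₁.P W₂.P ≫ W₁.c, snd W₁.P W₂.P ≫ W₂.c⁆
  conj T t g := by
    obtain ⟨t₁, ht₁⟩ := W₁.conj T (t ≫ fst _ _) g
    obtain ⟨t₂, ht₂⟩ := W₂.conj T (t ≫ snd _ _) g
    refine ⟨lift t₁ t₂, ?_⟩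
    rw [comp_commutator, comp_commutator, lift_fst_assoc, lift_snd_assoc, ht₁, ht₂,
      conjugate_commutatorElement, Category.assoc, Category.assoc]

lemma WordData.mem_comm_vals_iff (W₁ W₂ : WordData G) (T : Over S) (a : T ⟶ G) :
    a ∈ (W₁.comm W₂).vals T ↔ ∃ t : T ⟶ W₁.P ⊗ W₂.P,
      t ≫ (⁅fst W₁.P W₂.P ≫ W₁.c, snd W₁.P W₂.P ≫ W₂.c⁆ : W₁.P ⊗ W₂.P ⟶ G) = a := Iff.rfl

lemma WordData.comm_vals (W₁ W₂ : WordData G) (T : Over S) :
    {c | ∃ a ∈ W₁.vals T, ∃ b ∈ W₂.vals T, ⁅a, b⁆ = c} ⊆ (W₁.comm W₂).vals T := by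
  rintro _ ⟨_, ⟨t₁, rfl⟩, _, ⟨t₂, rfl⟩, rfl⟩
  refine ⟨lift t₁ t₂, ?_⟩
  change lift t₁ t₂ ≫ ⁅fst W₁.P W₂.P ≫ W₁.c, snd W₁.P W₂.P ≫ W₂.c⁆ = _
  rw [comp_commutator, lift_fst_assoc, lift_snd_assoc]

/-- the key step: commutators of subgroups in the normal closures of the values. -/
lemma WordData.commutator_le (W₁ W₂ : WordData G) (T : Over S) (H₁ H₂ : Subgroup (T ⟶ G))
    (h₁ : H₁ ≤ Subgroup.normalClosure (W₁.vals T)) (h₂ : H₂ ≤ Subgroup.normalClosure (W₂.vals T)) :
    ⁅H₁, H₂⁆ ≤ Subgroup.normalClosure ((W₁.comm W₂).vals T) := by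
  rw [normalClosure_eq_closure _ (fun g a ha => W₁.vals_conj T g a ha)] at h₁
  rw [normalClosure_eq_closure _ (fun g a ha => W₂.vals_conj T g a ha)] at h₂
  exact (Subgroup.commutator_mono h₁ h₂).trans
    ((commutator_closure_le _ _).trans (Subgroup.normalClosure_mono (W₁.comm_vals W₂ T)))

lemma WordData.comm_mem (W₁ W₂ : WordData G) (T : Over S) (H₁ H₂ : Subgroup (T ⟶ G))
    (h₁ : W₁.vals T ⊆ H₁) (h₂ : W₂.vals T ⊆ H₂) :
    (W₁.comm W₂).vals T ⊆ ((⁅H₁, H₂⁆ : Subgroup (T ⟶ G)) : Set (T ⟶ G)) := by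
  intro a ha
  obtain ⟨t, rfl⟩ := (W₁.mem_comm_vals_iff W₂ T a).mp ha
  change t ≫ (⁅fst W₁.P W₂.P ≫ W₁.c, snd W₁.P W₂.P ≫ W₂.c⁆ : W₁.P ⊗ W₂.P ⟶ G) ∈ ⁅H₁, H₂⁆
  rw [comp_commutator]
  refine Subgroup.commutator_mem_commutator (h₁ ⟨t ≫ fst _ _, ?_⟩) (h₂ ⟨t ≫ snd _ _, ?_⟩)
  · exact Category.assoc _ _ _
  · exact Category.assoc _ _ _

lemma WordData.smooth_comm (W₁ W₂ : WordData G) [Smooth W₁.P.hom] [Smooth W₂.P.hom] :
    Smooth (W₁.comm W₂).P.hom := by
  change Smooth (W₁.P ⊗ W₂.P).hom
  rw [Over.tensorObj_hom]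
  infer_instance

variable (G)

/-- the universal word for the `n`-th term of the derived series. -/
noncomputable def derivedW : ℕ → WordData G
  | 0 => WordData.id G
  | n + 1 => (derivedW n).comm (derivedW n)

/-- the universal word for the `n`-th term of the lower central series. -/
noncomputable def lcsW : ℕ → WordData G
  | 0 => WordData.id G
  | n + 1 => (lcsW n).comm (WordData.id G)

lemma smooth_derivedW [Smooth G.hom] : ∀ n, Smooth (derivedW G n).P.hom
  | 0 => inferInstanceAs (Smooth G.hom)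
  | n + 1 => by
    have := smooth_derivedW n
    exact WordData.smooth_comm _ _

lemma smooth_lcsW [Smooth G.hom] : ∀ n, Smooth (lcsW G n).P.hom
  | 0 => inferInstanceAs (Smooth G.hom)
  | n + 1 => by
    have := smooth_lcsW n
    have h2 : Smooth (WordData.id G).P.hom := inferInstanceAs (Smooth G.hom)
    exact WordData.smooth_comm _ _

lemma vals_id (T : Over S) : (WordData.id G).vals T = Set.univ := by
  ext a
  simp only [Set.mem_univ, iff_true]
  exact ⟨a, Category.comp_id _⟩

theorem derivedSeries_le (T : Over S) :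
    ∀ n, derivedSeries (T ⟶ G) n ≤ Subgroup.normalClosure ((derivedW G n).vals T)
  | 0 => by
    change _ ≤ Subgroup.normalClosure ((WordData.id G).vals T)
    rw [vals_id]
    intro a _
    exact Subgroup.subset_normalClosure (Set.mem_univ a)
  | n + 1 => by
    rw [derivedSeries_succ]
    exact WordData.commutator_le _ _ T _ _ (derivedSeries_le T n) (derivedSeries_le T n)

theorem vals_subset_derivedSeries (T : Over S) :
    ∀ n, (derivedW G n).vals T ⊆ derivedSeries (T ⟶ G) n
  | 0 => by
    rw [derivedSeries_zero]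
    exact fun a _ => Subgroup.mem_top a
  | n + 1 => by
    rw [derivedSeries_succ]
    exact WordData.comm_mem _ _ T _ _ (vals_subset_derivedSeries T n)
      (vals_subset_derivedSeries T n)

theorem lcs_le (T : Over S) :
    ∀ n, Subgroup.lowerCentralSeries (⊤ : Subgroup (T ⟶ G)) n ≤
      Subgroup.normalClosure ((lcsW G n).vals T)
  | 0 => by
    change _ ≤ Subgroup.normalClosure ((WordData.id G).vals T)
    rw [vals_id]
    intro a _
    exact Subgroup.subset_normalClosure (Set.mem_univ a)
  | n + 1 => by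
    rw [Subgroup.lowerCentralSeries_succ]
    refine WordData.commutator_le _ _ T _ _ (lcs_le T n) ?_
    rw [vals_id]
    intro a _
    exact Subgroup.subset_normalClosure (Set.mem_univ a)

theorem vals_subset_lcs (T : Over S) :
    ∀ n, (lcsW G n).vals T ⊆ Subgroup.lowerCentralSeries (⊤ : Subgroup (T ⟶ G)) n
  | 0 => by
    rw [Subgroup.lowerCentralSeries_zero]
    exact fun a _ => Subgroup.mem_top a
  | n + 1 => by
    rw [Subgroup.lowerCentralSeries_succ]
    exact WordData.comm_mem _ _ T _ _ (vals_subset_lcs T n) (fun a _ => Subgroup.mem_top a)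

/-- if the word is trivial, so is the normal closure of its values. -/
lemma normalClosure_vals_eq_bot (W : WordData G) (hW : W.c = 1) (T : Over S) :
    Subgroup.normalClosure (W.vals T) = ⊥ := by
  rw [Subgroup.normalClosure_eq_bot_iff]
  rintro _ ⟨t, rfl⟩
  change t ≫ W.c = 1
  rw [hW]
  exact MonObj.comp_one t

end words

end Groth.Agent.R2.H24.SeriesWords
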