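import Groth.Agent.R2.H24LftGrp
import Groth.Agent.R2.H24GrpHomLoci
import Groth.Agent.Lib.Helper8Grp
import Groth.Agent.Lib.Helper3FibUnr

/-!
# Unit section of a group scheme is an open immersion iff unramified (helper24)
-/

set_option autoImplicit false
set_option linter.unusedVariables false
set_option linter.unusedSectionVars false
set_option linter.style.haveILetI false

open CategoryTheory CategoryTheory.Limits MonoidalCategory CartesianMonoidalCategory MonObj GrpObj
  AlgebraicGeometry

universe u

namespace Groth.Agent.R2.H24.UnitSec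

open Groth.Agent.R2.H24.MaxOpen Groth.Agent.R2.H24.LftGrp Groth.Agent.R2.H24.GrpHomLoci
  Groth.Agent.Lib.Helper25.TopGrp

/-- a section of a formally unramified morphism locally of finite type is an open immersion. -/
theorem isOpenImmersion_of_section {X Y : Scheme.{u}} (f : Y ⟶ X) (g : X ⟶ Y)
    [FormallyUnramified g] [LocallyOfFiniteType g] (h : f ≫ g = 𝟙 Y) : IsOpenImmersion f := by
  let gr : Y ⟶ pullback (f ≫ g) g := pullback.lift (𝟙 Y) f (by simp)
  have h1 : f = gr ≫ pullback.snd _ _ := (pullback.lift_snd _ _ _).symm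
  have h2 : IsOpenImmersion gr :=
    MorphismProperty.of_isPullback (P := @IsOpenImmersion)
      (pullback_lift_diagonal_isPullback f g) (inferInstance : IsOpenImmersion (pullback.diagonal g))
  have h3 : IsOpenImmersion (pullback.snd (f ≫ g) g) := by
    haveI : IsOpenImmersion (f ≫ g) := by rw [h]; infer_instance
    infer_instance
  rw [h1]
  infer_instance

/-- a morphism which is locally of finite type on an open `W` and whose fibres are formally
unramified is formally unramified on `W`. -/
theorem formallyUnramified_of_fibres {X S : Scheme.{u}} (f : X ⟶ S) (W : X.Opens)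
    [LocallyOfFiniteType (W.ι ≫ f)]
    (hfib : ∀ s : S, FormallyUnramified (f.fiberToSpecResidueField s)) :
    FormallyUnramified (W.ι ≫ f) := by
  rw [formallyUnramified_iff_forall_stalkMap]
  intro x
  obtain ⟨s, hs⟩ : ∃ s, s = ((W.ι ≫ f) ≫ 𝟙 S) x := ⟨_, rfl⟩
  refine Groth.Agent.Lib.Helper3.FibUnr.formallyUnramified_stalkMap_of_fibre (W.ι ≫ f) (𝟙 S)
    x s hs.symm ⊤ trivial ?_
  haveI := hfib s
  -- the map of fibres `W_s ⟶ S_s`
  let j := pullback.map ((W.ι ≫ f) ≫ 𝟙 S) (S.fromSpecResidueField s) f (S.fromSpecResidueField s)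
        W.ι (𝟙 _) (𝟙 _) (by simp) (by simp)
  haveI hj : IsOpenImmersion j := Scheme.pullback_map_isOpenImmersion ..
  haveI hj' : FormallyUnramified j := inferInstance
  have hcomp : CohIII.fiberMapOver (W.ι ≫ f) ((W.ι ≫ f) ≫ 𝟙 S) (𝟙 S) rfl s ≫
      pullback.snd (𝟙 S) (S.fromSpecResidueField s) = j ≫ f.fiberToSpecResidueField s := by
    exact (pullback.lift_snd _ _ _).trans (pullback.lift_snd _ _ _).symm
  haveI h1 : FormallyUnramified (CohIII.fiberMapOver (W.ι ≫ f) ((W.ι ≫ f) ≫ 𝟙 S) (𝟙 S) rfl s ≫
      pullback.snd (𝟙 S) (S.fromSpecResidueField s)) := by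
    rw [hcomp]
    exact MorphismProperty.comp_mem @FormallyUnramified _ _ hj' (hfib s)
  haveI h2 : FormallyUnramified (CohIII.fiberMapOver (W.ι ≫ f) ((W.ι ≫ f) ≫ 𝟙 S) (𝟙 S) rfl s) :=
    FormallyUnramified.of_comp _ (pullback.snd (𝟙 S) (S.fromSpecResidueField s))
  haveI h3 : FormallyUnramified
      ((Scheme.Hom.fiberι ((W.ι ≫ f) ≫ 𝟙 S) s ⁻¹ᵁ (⊤ : (W : Scheme.{u}).Opens)).ι) := inferInstance
  exact MorphismProperty.comp_mem @FormallyUnramified _ _ h3 h2

variable {S : Scheme.{u}} (G : Over S) [GrpObj G]

/-- if the unit section is an open immersion, so is the diagonal. -/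
theorem isOpenImmersion_diagonal_of_unit [IsOpenImmersion η[G].left] :
    IsOpenImmersion (pullback.diagonal G.hom) := by
  rw [← Groth.Agent.Lib.Helper8.diag_left, Groth.Agent.Lib.Helper8.diag_eq]
  simp only [Over.comp_left]
  have h1 : IsIso (ρ_ G).inv.left := inferInstanceAs (IsIso ((Over.forget S).map (ρ_ G).inv))
  have h2 : IsIso (Groth.Agent.Lib.Helper8.shearIso G).hom.left :=
    inferInstanceAs (IsIso ((Over.forget S).map (Groth.Agent.Lib.Helper8.shearIso G).hom))
  have h3 : IsOpenImmersion (G ◁ η[G]).left :=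
    whiskerLeft_left_mem @IsOpenImmersion G η[G] inferInstance
  infer_instance

theorem formallyUnramified_of_unit [IsOpenImmersion η[G].left] : FormallyUnramified G.hom := by
  haveI := isOpenImmersion_diagonal_of_unit G
  infer_instance

set_option maxHeartbeats 1600000 in
/-- if the unit section is an open immersion, the fibres are locally of finite presentation. -/
theorem lfp_fibre_of_unit [IsOpenImmersion η[G].left] (s : S) :
    LocallyOfFinitePresentation (G.hom.fiberToSpecResidueField s) := by
  let r := S.fromSpecResidueField s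
  let Gs : Over (Spec (S.residueField s)) := Red.bc r G
  have hSs : ∀ a b : Spec (S.residueField s), a = b := fun a b => Subsingleton.elim _ _
  haveI : BaseUO (Spec (S.residueField s)) :=
    inferInstanceAs (BaseUO (Spec (CommRingCat.of (S.residueField s))))
  haveI : Flat Gs.hom := inferInstance
  let π : Gs.left ⟶ G.left := pullback.fst G.hom r
  let W : G.left.Opens := η[G].left.opensRange
  let Ws : Gs.left.Opens := π ⁻¹ᵁ W
  have hWs : (Ws : Set Gs.left).Nonempty := by
    obtain ⟨x', hx'⟩ := exists_fibre_point G s (η[G].left s) (by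
      rw [← Scheme.Hom.comp_apply, Over.w η[G]]; rfl)
    exact ⟨x', show π x' ∈ W from hx' ▸ ⟨s, rfl⟩⟩
  haveI hWlft : LocallyOfFiniteType (W.ι ≫ G.hom) := by
    have h1 : W.ι ≫ G.hom = η[G].left.isoOpensRange.inv := by
      rw [← Scheme.Hom.isoOpensRange_inv_comp, Category.assoc, Over.w η[G]]
      exact Category.comp_id _
    rw [h1]
    infer_instance
  haveI : LocallyOfFiniteType (Ws.ι ≫ Gs.hom) := by
    have h1 : IsPullback (π ∣_ W) Ws.ι W.ι π := isPullback_morphismRestrict π W
    have h2 : IsPullback π (pullback.snd G.hom r) G.hom r := IsPullback.of_hasPullback G.hom r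
    have h3 := h1.paste_vert h2
    exact MorphismProperty.of_isPullback (P := @LocallyOfFiniteType) h3 inferInstance
  have hk : LocallyOfFiniteType Gs.hom :=
    locallyOfFiniteType_of_open (A := S.residueField s) hSs Gs Ws hWs
  have hk' : LocallyOfFinitePresentation Gs.hom := inferInstance
  exact hk'

end Groth.Agent.R2.H24.UnitSec
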