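import Mathlib
import Groth.Agent.R2.H24PLoci
import Groth.Agent.R2.H24PLociGrp
import Groth.Agent.R2.H24WordsFlat
import Groth.Agent.Lib.Helper11Homog
import Groth.Agent.Lib.Helper6Reduced

/-!
# helper24: the locus where a homomorphism of group schemes is universally open

* `univOpen_of_comp_surjective`: `a ≫ r` universally open and `a` surjective ⇒ `r` universally open.
* `univOpen_of_surjective_isClosedImmersion`.
* `hasUOAt_of_comp`, `descUO`: descent of the universally-open locus along universally open maps.
* `hasUOAt_mul`: translation stability for homomorphisms of group schemes.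
* `univOpen_of_artinianLocal`: every morphism to the spectrum of an artinian local ring is
  universally open.
* `exists_hasUOAt`: a locally finite type morphism with open image to a locally noetherian scheme
  is universally open near some point.
-/

set_option autoImplicit false
set_option linter.style.haveILetI false

universe u

open CategoryTheory CategoryTheory.Limits MonoidalCategory CartesianMonoidalCategory MonObj GrpObj
  AlgebraicGeometry

namespace Groth.Agent.R2.H24.UnivOpenGrp

open Groth.Agent.R2.H24.PLoci Groth.Agent.Lib.Helper3.GrpHomQF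

section general

theorem univOpen_of_comp_surjective {X Y Z : Scheme.{u}} (a : X ⟶ Y) (r : Y ⟶ Z) [Surjective a]
    [UniversallyOpen (a ≫ r)] : UniversallyOpen r := by
  rw [UniversallyOpen.eq]
  intro Y' Z' i₁ i₂ r' hsq
  have hsq2 : IsPullback (pullback.snd a i₁) (pullback.fst a i₁) i₁ a :=
    (IsPullback.of_hasPullback a i₁).flip
  have hbig : IsPullback (pullback.snd a i₁ ≫ r') (pullback.fst a i₁) i₂ (a ≫ r) :=
    hsq2.paste_horiz hsq
  have hopen : IsOpenMap (pullback.snd a i₁ ≫ r') :=
    UniversallyOpen.universally_isOpenMap _ _ _ hbig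
  have hsurj : Function.Surjective (pullback.snd a i₁) := (pullback.snd a i₁).surjective
  intro V hV
  have hV' : IsOpen ((pullback.snd a i₁) ⁻¹' V) := hV.preimage (pullback.snd a i₁).continuous
  have h := hopen _ hV'
  have e : (pullback.snd a i₁ ≫ r') '' ((pullback.snd a i₁) ⁻¹' V) = r' '' V := by
    ext z
    constructor
    · rintro ⟨t, ht, rfl⟩
      exact ⟨pullback.snd a i₁ t, ht, (Scheme.Hom.comp_apply _ _ _).symm⟩
    · rintro ⟨v, hv, rfl⟩
      obtain ⟨t, rfl⟩ := hsurj v
      exact ⟨t, hv, Scheme.Hom.comp_apply _ _ _⟩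
  rw [e] at h
  exact h

theorem univOpen_of_surjective_isClosedImmersion {X Y : Scheme.{u}} (i : X ⟶ Y)
    [IsClosedImmersion i] [Surjective i] : UniversallyOpen i := by
  rw [UniversallyOpen.eq]
  intro X' Y' i₁ i₂ f' hsq
  have h1 : IsClosedImmersion f' :=
    MorphismProperty.of_isPullback (P := @IsClosedImmersion) hsq.flip inferInstance
  have h2 : Surjective f' :=
    MorphismProperty.of_isPullback (P := @Surjective) hsq.flip inferInstance
  have hh : IsHomeomorph f' :=
    isHomeomorph_iff_isEmbedding_surjective.mpr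
      ⟨f'.isClosedEmbedding.isEmbedding, f'.surjective⟩
  exact hh.isOpenMap

/-- descent of the universally-open locus along a universally open map. -/
theorem hasUOAt_of_comp {A Z T : Scheme.{u}} (p : A ⟶ Z) (q : Z ⟶ T) [UniversallyOpen p] (w : A)
    (h : HasPAt @UniversallyOpen (p ≫ q) w) : HasPAt @UniversallyOpen q (p w) := by
  obtain ⟨U, i, hi, ⟨u₀, hu₀⟩, hP⟩ := h
  let a : U ⟶ Z := i ≫ p
  have hopen : IsOpen (Set.range a) := a.isOpenMap.isOpen_range
  let W : Z.Opens := ⟨Set.range a, hopen⟩
  have hsub : Set.range a ⊆ Set.range W.ι := by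
    rw [Scheme.Opens.range_ι]; exact subset_rfl
  let a' : U ⟶ W := IsOpenImmersion.lift W.ι a hsub
  have ha' : a' ≫ W.ι = a := IsOpenImmersion.lift_fac _ _ _
  have ha'surj : Surjective a' := by
    constructor
    rintro ⟨z, ⟨u₁, hu₁⟩⟩
    refine ⟨u₁, ?_⟩
    apply W.ι.isEmbedding.injective
    rw [← Scheme.Hom.comp_apply, ha']
    exact hu₁
  have hcomp : a' ≫ W.ι ≫ q = i ≫ p ≫ q := by
    rw [← Category.assoc, ha', Category.assoc]
  haveI : UniversallyOpen (a' ≫ W.ι ≫ q) := by rw [hcomp]; exact hP
  refine hasPAt_of_opens W ?_ (univOpen_of_comp_surjective a' (W.ι ≫ q))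
  exact ⟨u₀, by rw [Scheme.Hom.comp_apply, hu₀]⟩

theorem descUO {A Z T T' : Scheme.{u}} {p : A ⟶ Z} {q' : A ⟶ T'} {q : Z ⟶ T} {g0 : T' ⟶ T}
    (hsq : IsPullback p q' q g0) [UniversallyOpen g0] (w : A)
    (h : HasPAt @UniversallyOpen q' w) : HasPAt @UniversallyOpen q (p w) := by
  haveI : UniversallyOpen p :=
    MorphismProperty.of_isPullback (P := @UniversallyOpen) hsq.flip ‹_›
  apply hasUOAt_of_comp
  rw [hsq.w]
  obtain ⟨U, i, hi, hu, hP⟩ := h
  haveI : UniversallyOpen (i ≫ q') := hP
  exact ⟨U, i, hi, hu, by rw [← Category.assoc]; infer_instance⟩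

end general

section grp

variable {S : Scheme.{u}} (G H : Over S) (u : G ⟶ H) [GrpObj G] [GrpObj H] [IsMonHom u]

open Groth.Agent.R2.H24.PLociGrp in
/-- right translation by a point with values in a universally open `S`-scheme preserves the
universally-open locus of a homomorphism. -/
theorem hasUOAt_mul {T : Over S} [UniversallyOpen T.hom] (t : T ⟶ G) (z : (G ⊗ T).left)
    (h : HasPAt @UniversallyOpen u.left ((fst G T).left z)) :
    HasPAt @UniversallyOpen u.left ((fst G T * (snd G T ≫ t)).left z) := by
  have hsq := isPullback_whiskerRight G H u T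
  have step1 : HasPAt @UniversallyOpen (u ▷ T).left z := HasPAt.of_isPullback hsq z h
  have hcomm := shear_comm' G H u t
  have hcomm' : (shearHom t).inv ≫ (u ▷ T) = (u ▷ T) ≫ (shearHom (t ≫ u)).inv := by
    rw [Iso.inv_comp_eq, ← Category.assoc, hcomm, Category.assoc, Iso.hom_inv_id, Category.comp_id]
  haveI : IsIso (shearHom t).inv.left := inferInstance
  haveI : IsIso (shearHom (t ≫ u)).inv.left := inferInstance
  have hiso : IsPullback (shearHom t).inv.left (u ▷ T).left (u ▷ T).left
      (shearHom (t ≫ u)).inv.left :=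
    IsPullback.of_horiz_isIso ⟨by rw [← Over.comp_left, ← Over.comp_left, hcomm']⟩
  have step2 : HasPAt @UniversallyOpen (u ▷ T).left ((shearHom t).hom.left z) := by
    apply HasPAt.of_isPullback hiso
    have : (shearHom t).inv.left ((shearHom t).hom.left z) = z := by
      rw [← Scheme.Hom.comp_apply, ← Over.comp_left, Iso.hom_inv_id]; rfl
    rw [this]; exact step1
  haveI : UniversallyOpen (fst H T).left :=
    inferInstanceAs (UniversallyOpen (pullback.fst H.hom T.hom))
  have step3 := descUO hsq _ step2
  have hpt : (fst G T).left ((shearHom t).hom.left z) = (fst G T * (snd G T ≫ t)).left z := by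
    rw [← Scheme.Hom.comp_apply, ← Over.comp_left]
    congr 2
    simp [shearHom]
  rw [hpt] at step3
  exact step3

end grp

section artin

theorem univOpen_of_artinianLocal (A : Type u) [CommRing A] [IsArtinianRing A] [IsLocalRing A]
    {X : Scheme.{u}} (f : X ⟶ Spec (CommRingCat.of A)) : UniversallyOpen f := by
  let j : Spec (CommRingCat.of (IsLocalRing.ResidueField A)) ⟶ Spec (CommRingCat.of A) :=
    Spec.map (CommRingCat.ofHom (IsLocalRing.residue A))
  haveI : IsClosedImmersion j :=
    IsClosedImmersion.spec_of_surjective _ IsLocalRing.residue_surjective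
  haveI : Surjective j := by
    constructor
    intro y
    exact ⟨IsLocalRing.closedPoint _,
      Groth.Agent.Lib.Helper11Homog.spec_subsingleton_of_artinian_local A _ _⟩
  haveI : UniversallyOpen j := univOpen_of_surjective_isClosedImmersion j
  haveI : UniversallyOpen (pullback.snd f j) := inferInstance
  haveI : UniversallyOpen (pullback.fst f j ≫ f) := by
    rw [pullback.condition]; infer_instance
  exact univOpen_of_comp_surjective (pullback.fst f j) f

end artin

section good

/-- a locally finite type morphism with open image to a locally noetherian scheme is universally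
open near some point. -/
theorem exists_hasUOAt {X Y : Scheme.{u}} (u : X ⟶ Y) [LocallyOfFiniteType u]
    [IsLocallyNoetherian Y] (hu : IsOpen (Set.range u)) (x₀ : X) :
    ∃ x, HasPAt @UniversallyOpen u x := by
  let jr := Y.nilradical.subschemeι
  haveI : Surjective jr := by
    constructor
    rw [← Set.range_eq_univ]
    exact Groth.Agent.Lib.Helper6.range_nilradical_subschemeι Y
  haveI : UniversallyOpen jr := univOpen_of_surjective_isClosedImmersion jr
  obtain ⟨y₀', hy₀'⟩ := jr.surjective (u x₀)
  obtain ⟨ξ, hξ, hspec⟩ :=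
    Groth.Agent.Lib.Helper11SchImage.exists_isMaxPt_specializes Y.nilradical.subscheme y₀'
  have hξmem : jr ξ ∈ Set.range u := by
    have hopen : IsOpen (jr ⁻¹' Set.range u) := hu.preimage jr.continuous
    exact hspec.mem_open hopen (by
      change jr y₀' ∈ Set.range u
      rw [hy₀']; exact ⟨x₀, rfl⟩)
  obtain ⟨x₁, hx₁⟩ := hξmem
  obtain ⟨x₁', h1, h2⟩ := Scheme.Pullback.exists_preimage_pullback x₁ ξ hx₁
  haveI : IsLocallyNoetherian Y.nilradical.subscheme :=
    LocallyOfFiniteType.isLocallyNoetherian jr
  have hfld := Groth.Agent.Lib.Helper11Homog.isField_stalk_of_isMaxPt Y.nilradical.subscheme ξ hξ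
  have hflat : ((pullback.snd u jr).stalkMap x₁').hom.Flat := by
    apply Groth.Agent.Lib.Helper11Homog.flat_of_isField_source
    rw [h2]
    exact hfld
  have hP := Groth.Agent.R2.H24.WordsFlat.hasPAt_flat_of_stalkMap (pullback.snd u jr) x₁' hflat
  have hUO : HasPAt @UniversallyOpen (pullback.snd u jr) x₁' := by
    obtain ⟨U, i, hi, hx, hfl⟩ := hP
    haveI : Flat (i ≫ pullback.snd u jr) := hfl
    exact ⟨U, i, hi, hx, inferInstance⟩
  have hUO2 : HasPAt @UniversallyOpen (pullback.fst u jr ≫ u) x₁' := by
    rw [pullback.condition]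
    obtain ⟨U, i, hi, hx, h⟩ := hUO
    haveI : UniversallyOpen (i ≫ pullback.snd u jr) := h
    exact ⟨U, i, hi, hx, by rw [← Category.assoc]; infer_instance⟩
  exact ⟨_, hasUOAt_of_comp (pullback.fst u jr) u x₁' hUO2⟩

end good

end Groth.Agent.R2.H24.UnivOpenGrp
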