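import Mathlib
import Groth.Agent.Lib.Helper3HenselC

/-!
# Lifting idempotents in finite (not necessarily commutative) algebras over henselian local rings (helper25)

Namespace `Groth.Agent.R2.H25.IdemLift`.

* `exists_idem_pi` : in a finite product of commutative local rings, for every ring hom `ρ` out of the
  product and every `x` with `ρ x` idempotent there is an idempotent `ε` with `ρ ε = ρ x`.
* `exists_idem_lift` : `R` henselian local, `D` a module-finite `R`-algebra (any ring), `π : D →+* Q` any ring
  hom, `c : D` with `π c` idempotent. Then there is an idempotent `e ∈ R[c]` with `π e = π c`.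
-/

set_option autoImplicit false
set_option linter.style.haveILetI false
universe u v w

namespace Groth.Agent.R2.H25.IdemLift

open scoped IsMulCommutative

theorem exists_idem_pi {ι : Type v} [Fintype ι] {A : ι → Type w} [∀ i, CommRing (A i)]
    [∀ i, IsLocalRing (A i)] {Q : Type*} [Ring Q] (ρ : (∀ i, A i) →+* Q) (x : ∀ i, A i)
    (hx : ρ x * ρ x = ρ x) :
    ∃ ε : ∀ i, A i, ε * ε = ε ∧ ρ ε = ρ x := by
  classical
  refine ⟨fun i => if IsUnit (x i) then 1 else 0, ?_, ?_⟩
  · funext i
    by_cases h : IsUnit (x i) <;> simp [h]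
  · set ε : ∀ i, A i := fun i => if IsUnit (x i) then 1 else 0 with hεdef
    have key : ∀ i, ρ (Pi.single i (ε i)) = ρ (Pi.single i (x i)) := by
      intro i
      by_cases h : IsUnit (x i)
      · obtain ⟨u, hu⟩ := h
        have h1 : (Pi.single i (1 : A i) : ∀ i, A i) = Pi.single i (↑u⁻¹ : A i) * x := by
          rw [← Pi.single_mul_left, ← hu, Units.inv_mul]
        have h2 : (Pi.single i (x i) : ∀ i, A i) = Pi.single i (1 : A i) * x := by
          rw [← Pi.single_mul_left, one_mul]
        have hi : ε i = 1 := if_pos ⟨u, hu⟩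
        rw [hi, h2, map_mul, h1, map_mul, mul_assoc, hx]
      · have hv : IsUnit (1 - x i) := by
          rcases IsLocalRing.isUnit_or_isUnit_one_sub_self (x i) with h' | h'
          · exact absurd h' h
          · exact h'
        obtain ⟨v, hv⟩ := hv
        have h1 : (Pi.single i (x i) : ∀ i, A i) = Pi.single i (↑v⁻¹ : A i) * (x * (1 - x)) := by
          rw [← Pi.single_mul_left]
          congr 1
          show x i = ↑v⁻¹ * (x i * (1 - x i))
          rw [← hv, mul_comm (x i), ← mul_assoc, Units.inv_mul, one_mul]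
        have hi : ε i = 0 := if_neg h
        rw [hi, Pi.single_zero, map_zero, h1, map_mul, map_mul, map_sub, map_one, mul_sub, mul_one, hx,
          sub_self, mul_zero]
    calc ρ ε = ρ (∑ i, Pi.single i (ε i)) := by rw [Finset.univ_sum_single]
      _ = ∑ i, ρ (Pi.single i (ε i)) := map_sum _ _ _
      _ = ∑ i, ρ (Pi.single i (x i)) := Finset.sum_congr rfl fun i _ => key i
      _ = ρ (∑ i, Pi.single i (x i)) := (map_sum _ _ _).symm
      _ = ρ x := by rw [Finset.univ_sum_single]

theorem exists_idem_lift (R : Type u) [CommRing R] [HenselianLocalRing R] (D : Type u) [Ring D]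
    [Algebra R D] [Module.Finite R D] {Q : Type*} [Ring Q] (π : D →+* Q) (c : D)
    (hc : π c * π c = π c) :
    ∃ e : D, e * e = e ∧ π e = π c ∧ e ∈ Algebra.adjoin R ({c} : Set D) := by
  have hcomm : ∀ a ∈ ({c} : Set D), ∀ b ∈ ({c} : Set D), a * b = b * a := by
    intro a ha b hb
    rw [Set.mem_singleton_iff] at ha hb
    rw [ha, hb]
  haveI := Algebra.isMulCommutative_adjoin R hcomm
  haveI : Module.Finite R (Algebra.adjoin R ({c} : Set D)) :=
    Algebra.finite_adjoin_simple_of_isIntegral (IsIntegral.of_finite R c)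
  obtain ⟨ι, _, A, _, hloc, ⟨f⟩⟩ :=
    Groth.Agent.Lib.Helper3.Hensel.exists_pi_isLocalRing_of_finite R (Algebra.adjoin R ({c} : Set D))
  haveI := hloc
  let ρ : (∀ i, A i) →+* Q :=
    (π.comp (Algebra.adjoin R ({c} : Set D)).val.toRingHom).comp f.symm.toRingHom
  let c' : Algebra.adjoin R ({c} : Set D) := ⟨c, Algebra.subset_adjoin (Set.mem_singleton c)⟩
  have hρ : ρ (f c') = π c := by
    show π ((f.symm (f c') : Algebra.adjoin R ({c} : Set D)) : D) = π c
    rw [RingEquiv.symm_apply_apply]
  obtain ⟨ε, hε, hρε⟩ := exists_idem_pi ρ (f c') (by rw [hρ, hc])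
  refine ⟨((f.symm ε : Algebra.adjoin R ({c} : Set D)) : D), ?_, ?_, (f.symm ε).2⟩
  · rw [← Subalgebra.coe_mul, ← map_mul, hε]
  · have : ρ ε = π ((f.symm ε : Algebra.adjoin R ({c} : Set D)) : D) := rfl
    rw [← this, hρε, hρ]

end Groth.Agent.R2.H25.IdemLift
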