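import Mathlib
import Groth.Agent.R2.H25IdemLift
import Groth.Agent.Lib.LeadLocalInner
import Groth.Agent.Lib.LeadAzumayaLocal

/-!
# Lifting isomorphisms of Azumaya algebras over a henselian local ring (helper25)

Namespace `Groth.Agent.R2.H25.AzLift`.

* `mem_smul_top_of_one_tmul_eq_zero`: `1 ⊗ x = 0` in `k ⊗ M` implies `x ∈ 𝔪 M`.
* `injective_of_surjective_of_ker_le`: a surjection from a finite module onto a projective module
  over a local ring with kernel inside `𝔪 M` is injective.
* `Theta p q : A ⊗ Bᵐᵒᵖ →ₐ[R] End_k V`, `a ⊗ op b ↦ (x ↦ p a * x * q b)`.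
* `exists_algEquiv_lift`: abstract form (two surjections `p : A → V`, `q : B → V` onto an Azumaya
  `k`-algebra with kernels `𝔪 A`, `𝔪 B`, `A`, `B` finite free of rank `dim V` over a henselian local
  ring) `∃ φ : B ≃ₐ[R] A, p ∘ φ = q`.
* `azumaya_algEquiv_lift`: the statement of S5703.
-/

set_option autoImplicit false
set_option linter.style.haveILetI false
universe u

open TensorProduct MulOpposite IsLocalRing

namespace Groth.Agent.R2.H25.AzLift

section Nakayama

variable {R : Type*} [CommRing R] [IsLocalRing R]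

/-- `1 ⊗ x = 0` in `k ⊗ M` implies `x ∈ 𝔪 M`. -/
theorem mem_smul_top_of_one_tmul_eq_zero {M : Type*} [AddCommGroup M] [Module R M] (x : M)
    (h : (1 : ResidueField R) ⊗ₜ[R] x = 0) : x ∈ maximalIdeal R • (⊤ : Submodule R M) := by
  have h' : (1 : R ⧸ maximalIdeal R) ⊗ₜ[R] x = 0 := h
  have := congrArg (TensorProduct.quotTensorEquivQuotSMul M (maximalIdeal R)) h'
  rw [TensorProduct.quotTensorEquivQuotSMul_mk_one_tmul, map_zero] at this
  exact (Submodule.Quotient.mk_eq_zero _).1 this

/-- a surjection from a finite module onto a projective module whose kernel lies in `𝔪 M` is injective -/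
theorem injective_of_surjective_of_ker_le {M P : Type*} [AddCommGroup M] [Module R M] [Module.Finite R M]
    [AddCommGroup P] [Module R P] [Module.Projective R P] (α : M →ₗ[R] P)
    (hsurj : Function.Surjective α) (hker : LinearMap.ker α ≤ maximalIdeal R • (⊤ : Submodule R M)) :
    Function.Injective α := by
  obtain ⟨s, hs⟩ := Module.projective_lifting_property α LinearMap.id hsurj
  have hs' : ∀ p, α (s p) = p := fun p => by
    have := congrArg (fun g => g p) hs
    simpa using this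
  let q : M →ₗ[R] M := LinearMap.id - s ∘ₗ α
  have hq1 : ∀ y, α (q y) = 0 := fun y => by simp [q, hs']
  have hq2 : ∀ x, α x = 0 → q x = x := fun x hx => by simp [q, hx]
  rw [← LinearMap.ker_eq_bot]
  have hfg : (LinearMap.ker α).FG := by
    have : LinearMap.ker α = LinearMap.range q := by
      ext x
      constructor
      · intro hx
        exact ⟨x, hq2 x hx⟩
      · rintro ⟨y, rfl⟩
        exact hq1 y
    rw [this, LinearMap.range_eq_map]
    exact Submodule.FG.map _ Module.Finite.fg_top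
  refine Submodule.eq_bot_of_le_smul_of_le_jacobson_bot (maximalIdeal R) _ hfg ?_
    (by rw [IsLocalRing.jacobson_eq_maximalIdeal ⊥ bot_ne_top])
  intro x hx
  have hxm := hker hx
  rw [← hq2 x hx]
  have h2 := Submodule.mem_map_of_mem (f := q) hxm
  rw [Submodule.map_smul''] at h2
  refine Submodule.smul_mono le_rfl ?_ h2
  rintro _ ⟨y, -, rfl⟩
  exact hq1 y

end Nakayama

section Core

variable {R : Type u} [CommRing R] [IsLocalRing R]
  {A B : Type u} [Ring A] [Algebra R A] 
  [Ring B] [Algebra R B] 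
  {V : Type u} [Ring V] [Algebra R V] [Algebra (ResidueField R) V]
  [IsScalarTower R (ResidueField R) V]

/-- `Θ (a ⊗ op b) = (x ↦ p a * x * q b)` -/
noncomputable def Theta (p : A →ₐ[R] V) (q : B →ₐ[R] V) :
    A ⊗[R] Bᵐᵒᵖ →ₐ[R] Module.End (ResidueField R) V :=
  Algebra.TensorProduct.lift
    (((Algebra.lmul (ResidueField R) V).restrictScalars R).comp p)
    ((((AlgHom.mulLeftRight (ResidueField R) V).comp
      Algebra.TensorProduct.includeRight).restrictScalars R).comp (AlgHom.op q))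
    (fun a b => by
      refine LinearMap.ext fun x => ?_
      simp [AlgHom.mulLeftRight_apply, mul_assoc])

theorem Theta_tmul (p : A →ₐ[R] V) (q : B →ₐ[R] V) (a : A) (b : Bᵐᵒᵖ) (x : V) :
    Theta p q (a ⊗ₜ b) x = p a * x * q b.unop := by
  simp [Theta, AlgHom.mulLeftRight_apply, mul_assoc]

theorem Theta_surjective [IsAzumaya (ResidueField R) V] (p : A →ₐ[R] V) (q : B →ₐ[R] V)
    (hp : Function.Surjective p) (hq : Function.Surjective q) :
    Function.Surjective (Theta p q) := by
  intro f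
  obtain ⟨t, rfl⟩ := (IsAzumaya.bij (R := ResidueField R) (A := V)).2 f
  induction t using TensorProduct.induction_on with
  | zero => exact ⟨0, by simp⟩
  | tmul x y =>
    obtain ⟨a, rfl⟩ := hp x
    obtain ⟨b, hb⟩ := hq y.unop
    refine ⟨a ⊗ₜ op b, ?_⟩
    ext v
    simp [Theta_tmul, AlgHom.mulLeftRight_apply, hb]
  | add t₁ t₂ h₁ h₂ =>
    obtain ⟨d₁, h₁⟩ := h₁
    obtain ⟨d₂, h₂⟩ := h₂
    exact ⟨d₁ + d₂, by rw [map_add, h₁, h₂, map_add]⟩

theorem mem_smul_top_of_Theta_eq_zero [Module.Finite R A] [Module.Free R A] [Module.Finite R B]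
    [Module.Free R B] [IsAzumaya (ResidueField R) V] (p : A →ₐ[R] V) (q : B →ₐ[R] V)
    (hp : Function.Surjective p) (hq : Function.Surjective q)
    (hA : Module.finrank R A = Module.finrank (ResidueField R) V)
    (hB : Module.finrank R B = Module.finrank (ResidueField R) V) (d : A ⊗[R] Bᵐᵒᵖ)
    (hd : Theta p q d = 0) :
    d ∈ maximalIdeal R • (⊤ : Submodule R (A ⊗[R] Bᵐᵒᵖ)) := by
  let Θ' : ResidueField R ⊗[R] (A ⊗[R] Bᵐᵒᵖ) →ₗ[ResidueField R] Module.End (ResidueField R) V :=
    LinearMap.liftBaseChange (ResidueField R) (Theta p q).toLinearMap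
  have hsurj : Function.Surjective Θ' := by
    intro f
    obtain ⟨d, rfl⟩ := Theta_surjective p q hp hq f
    exact ⟨1 ⊗ₜ d, by simp [Θ']⟩
  have hrank : Module.finrank (ResidueField R) (ResidueField R ⊗[R] (A ⊗[R] Bᵐᵒᵖ)) =
      Module.finrank (ResidueField R) (Module.End (ResidueField R) V) := by
    rw [Module.finrank_baseChange, Module.finrank_tensorProduct, Module.finrank_linearMap, hA, ← hB]
    congr 1
    exact (MulOpposite.opLinearEquiv R : B ≃ₗ[R] Bᵐᵒᵖ).symm.finrank_eq
  have hinj : Function.Injective Θ' :=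
    (LinearMap.injective_iff_surjective_of_finrank_eq_finrank hrank).2 hsurj
  apply mem_smul_top_of_one_tmul_eq_zero
  apply hinj
  simp [Θ', hd]


end Core

section Main

variable {R : Type u} [CommRing R] [HenselianLocalRing R]
  {A B : Type u} [Ring A] [Algebra R A] [Module.Finite R A] [Module.Free R A]
  [Ring B] [Algebra R B] [Module.Finite R B] [Module.Free R B]
  {V : Type u} [Ring V] [Algebra R V] [Algebra (ResidueField R) V]
  [IsScalarTower R (ResidueField R) V] [IsAzumaya (ResidueField R) V]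

theorem exists_algEquiv_lift (p : A →ₐ[R] V) (q : B →ₐ[R] V)
    (hp : Function.Surjective p) (hq : Function.Surjective q)
    (hpk : ∀ a, p a = 0 → a ∈ maximalIdeal R • (⊤ : Submodule R A))
    (hqk : ∀ b, q b = 0 → b ∈ maximalIdeal R • (⊤ : Submodule R B))
    (hA : Module.finrank R A = Module.finrank (ResidueField R) V)
    (hB : Module.finrank R B = Module.finrank (ResidueField R) V) :
    ∃ φ : B ≃ₐ[R] A, ∀ b, p (φ b) = q b := by
  have hΘker := mem_smul_top_of_Theta_eq_zero p q hp hq hA hB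
  have hjac : maximalIdeal R ≤ Ideal.jacobson ⊥ := by
    rw [IsLocalRing.jacobson_eq_maximalIdeal ⊥ bot_ne_top]
  -- a functional with `ℓ 1 = 1`
  haveI : Nontrivial V := by
    by_contra hV
    rw [not_nontrivial_iff_subsingleton] at hV
    have : (0 : ResidueField R) = 1 := FaithfulSMul.eq_of_smul_eq_smul (α := V)
      fun x => Subsingleton.elim _ _
    exact zero_ne_one this
  obtain ⟨ℓ, hℓ⟩ : ∃ ℓ : V →ₗ[ResidueField R] ResidueField R, ℓ 1 = 1 := by
    have h1 : ¬ ∀ φ : Module.Dual (ResidueField R) V, φ 1 = 0 := by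
      rw [Module.forall_dual_apply_eq_zero_iff]
      exact one_ne_zero
    push Not at h1
    obtain ⟨φ, hφ⟩ := h1
    exact ⟨(φ 1)⁻¹ • φ, by simp [hφ]⟩
  -- the rank one idempotent of `End V`
  let e₀ : Module.End (ResidueField R) V := ℓ.smulRight (1 : V)
  have he₀ : e₀ * e₀ = e₀ := by
    refine LinearMap.ext fun x => ?_
    simp [e₀, hℓ]
  obtain ⟨c, hc⟩ := Theta_surjective p q hp hq e₀
  obtain ⟨e, hee, hπe, -⟩ := Groth.Agent.R2.H25.IdemLift.exists_idem_lift R (A ⊗[R] Bᵐᵒᵖ) (Theta p q).toRingHom c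
    (by simp only [AlgHom.toRingHom_eq_coe, RingHom.coe_coe]; rw [hc, he₀])
  have hΘe : Theta p q e = e₀ := by
    simp only [AlgHom.toRingHom_eq_coe, RingHom.coe_coe] at hπe
    rw [hπe, hc]
  -- key facts
  have F3 : ∀ (d : A ⊗[R] Bᵐᵒᵖ) (x : V), Theta p q (d * e) x = ℓ x • Theta p q d 1 := by
    intro d x
    rw [map_mul, hΘe]
    simp [e₀]
  have F1 : ∀ d : A ⊗[R] Bᵐᵒᵖ, Theta p q (d * e) 1 = Theta p q d 1 := by
    intro d
    rw [F3, hℓ, one_smul]
  -- the module `P = D e`
  let m : A ⊗[R] Bᵐᵒᵖ →ₗ[R] A ⊗[R] Bᵐᵒᵖ := LinearMap.mulRight R e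
  let P : Submodule R (A ⊗[R] Bᵐᵒᵖ) := LinearMap.range m
  let m' : A ⊗[R] Bᵐᵒᵖ →ₗ[R] P := m.rangeRestrict
  have hm'P : ∀ x : P, m' x = x := by
    rintro ⟨_, d, rfl⟩
    apply Subtype.ext
    simp [m', m, mul_assoc, hee]
  haveI : Module.Projective R P :=
    Module.Projective.of_split P.subtype m' (LinearMap.ext fun x => by simpa using hm'P x)
  let α : A →ₗ[R] A ⊗[R] Bᵐᵒᵖ := m ∘ₗ Algebra.TensorProduct.includeLeft.toLinearMap
  have hα : ∀ a, α a = (a ⊗ₜ 1) * e := fun a => rfl
  have F2 : ∀ a, Theta p q (α a) 1 = p a := by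
    intro a
    rw [hα, F1, Theta_tmul]
    simp
  -- `P ≤ range α`
  have hPle : P ≤ LinearMap.range α := by
    have hPfg : P.FG := by
      rw [show P = Submodule.map m ⊤ from (LinearMap.range_eq_map m)]
      exact Submodule.FG.map _ Module.Finite.fg_top
    refine Submodule.le_of_le_smul_of_le_jacobson_bot hPfg hjac ?_
    rintro _ ⟨d, rfl⟩
    obtain ⟨a, ha⟩ := hp (Theta p q d 1)
    have hd' : Theta p q (d * e - α a) = 0 := by
      refine LinearMap.ext fun x => ?_
      rw [map_sub, hα, LinearMap.sub_apply, F3, F3, Theta_tmul]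
      simp [ha]
    have hmem := hΘker _ hd'
    have hfix : (d * e - α a) * e = d * e - α a := by
      rw [sub_mul, hα, mul_assoc, mul_assoc, hee]
    have h2 : d * e - α a ∈ maximalIdeal R • P := by
      have := Submodule.mem_map_of_mem (f := m) hmem
      rw [Submodule.map_smul'', Submodule.map_top] at this
      simpa [m, hfix] using this
    have : m d = α a + (d * e - α a) := by simp [m]
    rw [this]
    exact Submodule.add_mem_sup ⟨a, rfl⟩ h2
  let α' : A →ₗ[R] P := m' ∘ₗ Algebra.TensorProduct.includeLeft.toLinearMap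
  have hα' : ∀ a, (α' a : A ⊗[R] Bᵐᵒᵖ) = α a := fun a => rfl
  have hα'surj : Function.Surjective α' := by
    rintro ⟨x, hx⟩
    obtain ⟨a, ha⟩ := hPle hx
    exact ⟨a, Subtype.ext ha⟩
  have hα'inj : Function.Injective α' := by
    refine injective_of_surjective_of_ker_le (R := R) (M := A) (P := P) α' hα'surj ?_
    intro a ha
    apply hpk
    have ha0 : α a = 0 := by
      rw [← hα', (LinearMap.mem_ker.1 ha)]
      rfl
    rw [← F2, ha0, map_zero, LinearMap.zero_apply]
  let αe : A ≃ₗ[R] P := LinearEquiv.ofBijective α' ⟨hα'inj, hα'surj⟩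
  let β : B →ₗ[R] P := m' ∘ₗ Algebra.TensorProduct.includeRight.toLinearMap ∘ₗ
    (MulOpposite.opLinearEquiv R : B ≃ₗ[R] Bᵐᵒᵖ).toLinearMap
  let φl : B →ₗ[R] A := αe.symm.toLinearMap ∘ₗ β
  have hφl : ∀ b, ((φl b) ⊗ₜ 1) * e = ((1 : A) ⊗ₜ[R] op b) * e := by
    intro b
    have h1 : αe (φl b) = β b := by simp [φl]
    have h2 := congrArg (Subtype.val) h1
    exact h2
  have hαinj : ∀ a a' : A, (a ⊗ₜ[R] (1 : Bᵐᵒᵖ)) * e = (a' ⊗ₜ 1) * e → a = a' := by
    intro a a' h
    apply hα'inj
    apply Subtype.ext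
    exact h
  have hpφ : ∀ b, p (φl b) = q b := by
    intro b
    rw [← F2, hα, hφl, F1, Theta_tmul]
    simp
  let φ : B →ₐ[R] A := AlgHom.ofLinearMap φl
    (by
      apply hαinj
      rw [hφl]
      simp)
    (by
      intro b b'
      apply hαinj
      rw [hφl]
      have h1 : ((φl b * φl b') ⊗ₜ[R] (1 : Bᵐᵒᵖ)) * e
          = (φl b ⊗ₜ[R] (1 : Bᵐᵒᵖ)) * ((φl b' ⊗ₜ[R] (1 : Bᵐᵒᵖ)) * e) := by
        rw [← mul_assoc, Algebra.TensorProduct.tmul_mul_tmul, mul_one]
      rw [h1, hφl, ← mul_assoc, Algebra.TensorProduct.tmul_mul_tmul, mul_one, one_mul]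
      have h2 : (φl b ⊗ₜ[R] op b') = ((1 : A) ⊗ₜ[R] op b') * (φl b ⊗ₜ[R] (1 : Bᵐᵒᵖ)) := by
        rw [Algebra.TensorProduct.tmul_mul_tmul, mul_one, one_mul]
      rw [h2, mul_assoc, hφl, ← mul_assoc, Algebra.TensorProduct.tmul_mul_tmul, mul_one,
        ← MulOpposite.op_mul])
  have hφ : ∀ b, φ b = φl b := fun b => rfl
  have hφsurj : Function.Surjective φ := by
    have : (⊤ : Submodule R A) ≤ LinearMap.range φl := by
      refine Submodule.le_of_le_smul_of_le_jacobson_bot Module.Finite.fg_top hjac ?_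
      intro a _
      obtain ⟨b, hb⟩ := hq (p a)
      have h1 : a - φl b ∈ maximalIdeal R • (⊤ : Submodule R A) := by
        apply hpk
        rw [map_sub, hpφ, hb, sub_self]
      have : a = φl b + (a - φl b) := by abel
      rw [this]
      exact Submodule.add_mem_sup ⟨b, rfl⟩ h1
    intro a
    obtain ⟨b, hb⟩ := this (Submodule.mem_top (x := a))
    exact ⟨b, hb⟩
  have hφinj : Function.Injective φ := by
    refine injective_of_surjective_of_ker_le φl hφsurj ?_
    intro b hb
    apply hqk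
    rw [← hpφ, LinearMap.mem_ker.1 hb, map_zero]
  exact ⟨AlgEquiv.ofBijective φ ⟨hφinj, hφsurj⟩, fun b => hpφ b⟩

end Main


section Final

/-- **Lifting isomorphisms of Azumaya algebras over a henselian local ring.** -/
theorem azumaya_algEquiv_lift (R : Type u) [CommRing R] [HenselianLocalRing R] (A : Type u) [Ring A]
    [Algebra R A] [IsAzumaya R A] (B : Type u) [Ring B] [Algebra R B] [IsAzumaya R B]
    (e₀ : (ResidueField R ⊗[R] A) ≃ₐ[ResidueField R] (ResidueField R ⊗[R] B)) :
    ∃ e : A ≃ₐ[R] B, ∀ a : A, e₀ ((1 : ResidueField R) ⊗ₜ[R] a) =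
      (1 : ResidueField R) ⊗ₜ[R] (e a) := by
  haveI : IsAzumaya (ResidueField R) (ResidueField R ⊗[R] A) :=
    Groth.Agent.Lib.LeadAzumaya.isAzumaya_baseChange (ResidueField R) A
  let p : A →ₐ[R] ResidueField R ⊗[R] A := Algebra.TensorProduct.includeRight
  let q : B →ₐ[R] ResidueField R ⊗[R] A :=
    (e₀.symm.toAlgHom.restrictScalars R).comp Algebra.TensorProduct.includeRight
  have hp1 : ∀ a, p a = 1 ⊗ₜ a := fun a => rfl
  have hq1 : ∀ b, q b = e₀.symm (1 ⊗ₜ b) := fun b => rfl
  have hp : Function.Surjective p := fun z => by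
    obtain ⟨a, rfl⟩ := TensorProduct.mk_surjective R A (ResidueField R)
      Ideal.Quotient.mk_surjective z
    exact ⟨a, rfl⟩
  have hq : Function.Surjective q := fun z => by
    obtain ⟨b, hb⟩ := TensorProduct.mk_surjective R B (ResidueField R)
      Ideal.Quotient.mk_surjective (e₀ z)
    refine ⟨b, ?_⟩
    rw [hq1]
    apply e₀.injective
    rw [AlgEquiv.apply_symm_apply, ← hb]
    rfl
  have hA : Module.finrank R A = Module.finrank (ResidueField R) (ResidueField R ⊗[R] A) :=
    (Module.finrank_baseChange (R := ResidueField R) (S := R) (M' := A)).symm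
  have hB : Module.finrank R B = Module.finrank (ResidueField R) (ResidueField R ⊗[R] A) := by
    rw [e₀.toLinearEquiv.finrank_eq]
    exact (Module.finrank_baseChange (R := ResidueField R) (S := R) (M' := B)).symm
  obtain ⟨φ, hφ⟩ := exists_algEquiv_lift p q hp hq
    (fun a ha => mem_smul_top_of_one_tmul_eq_zero a ha)
    (fun b hb => mem_smul_top_of_one_tmul_eq_zero b (by
      rw [hq1] at hb
      have := congrArg e₀ hb
      rwa [AlgEquiv.apply_symm_apply, map_zero] at this)) hA hB
  refine ⟨φ.symm, fun a => ?_⟩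
  have h := hφ (φ.symm a)
  rw [AlgEquiv.apply_symm_apply, hp1, hq1] at h
  rw [h, AlgEquiv.apply_symm_apply]

end Final

end Groth.Agent.R2.H25.AzLift
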