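import Mathlib

/-!
# Monomorphisms from reduced schemes onto discrete sets of closed points are closed immersions
(helper25; Mathlib only)

* `isClosedImmersion_of_mono_of_subsingleton`: `f : W ⟶ O` mono, `W` reduced with at most one point,
  the image point closed: `f` is a closed immersion.
* `isClosedImmersion_of_mono_of_locally_single`: `f : W ⟶ U` mono, `W` reduced, and every point of
  `U` has an open neighbourhood meeting the image of `f` in at most that point, which is then closed:
  `f` is a closed immersion.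
-/

set_option autoImplicit false
universe u
open CategoryTheory CategoryTheory.Limits AlgebraicGeometry

namespace Groth.Agent.R2.H25.ClosedImm

/-- a monomorphism from a reduced scheme with at most one point whose image is a closed point is a
closed immersion. -/
lemma isClosedImmersion_of_mono_of_subsingleton {W O : Scheme.{u}} (f : W ⟶ O) [Mono f]
    [IsReduced W] [Subsingleton ↥W] (h : ∀ y : W, IsClosed ({f y} : Set ↥O)) :
    IsClosedImmersion f := by
  by_cases hW : IsEmpty ↥W
  · infer_instance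
  rw [not_isEmpty_iff] at hW
  obtain ⟨w₀⟩ := hW
  haveI hZ : IsClosedImmersion (O.fromSpecResidueField (f w₀)) :=
    isClosed_singleton_iff_isClosedImmersion.mp (h w₀)
  set ιZ := O.fromSpecResidueField (f w₀) with hιZ
  -- the pullback
  have hcond : pullback.fst f ιZ ≫ f = pullback.snd f ιZ ≫ ιZ := pullback.condition
  obtain ⟨z₀⟩ : Nonempty ↥(Spec (O.residueField (f w₀))) := inferInstance
  have hz₀ : f w₀ = ιZ z₀ := by
    rw [hιZ, Scheme.fromSpecResidueField_apply]
  obtain ⟨p₀, hp1, hp2⟩ := Scheme.Pullback.exists_preimage_pullback w₀ z₀ hz₀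
  haveI : Surjective (pullback.fst f ιZ) :=
    ⟨fun w => ⟨p₀, by rw [hp1]; exact Subsingleton.elim _ _⟩⟩
  haveI : IsIso (pullback.fst f ιZ) := isIso_of_isClosedImmersion_of_surjective _
  haveI : Subsingleton ↥(pullback f ιZ) :=
    (pullback.fst f ιZ).homeomorph.injective.subsingleton
  haveI : Surjective (pullback.snd f ιZ) :=
    ⟨fun z => ⟨p₀, Subsingleton.elim _ _⟩⟩
  haveI : QuasiCompact (pullback.snd f ιZ) :=
    ⟨fun V _ _ => (Set.subsingleton_of_subsingleton).isCompact⟩
  haveI : IsIntegral (Spec (O.residueField (f w₀))) := inferInstance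
  haveI : Flat (pullback.snd f ιZ) := inferInstance
  haveI : IsIso (pullback.snd f ιZ) := Flat.isIso_of_surjective_of_mono _
  have hf : f = inv (pullback.fst f ιZ) ≫ pullback.snd f ιZ ≫ ιZ := by
    rw [IsIso.eq_inv_comp]; exact hcond
  rw [hf]
  infer_instance

/-- a monomorphism from a reduced scheme whose image is, locally on the target, at most one closed
point, is a closed immersion. -/
lemma isClosedImmersion_of_mono_of_locally_single {W U : Scheme.{u}} (f : W ⟶ U) [Mono f]
    [IsReduced W]
    (h : ∀ u₀ : U, ∃ O : U.Opens, u₀ ∈ O ∧ ∀ y : W, f y ∈ O → f y = u₀ ∧ IsClosed ({u₀} : Set ↥U)) :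
    IsClosedImmersion f := by
  choose O hO1 hO2 using h
  have hsup : iSup O = ⊤ := by
    rw [eq_top_iff]
    intro u _
    exact TopologicalSpace.Opens.mem_iSup.2 ⟨u, hO1 u⟩
  rw [IsZariskiLocalAtTarget.iff_of_iSup_eq_top (P := @IsClosedImmersion) O hsup]
  intro u₀
  haveI : Mono (f ∣_ O u₀) := by
    have sq := isPullback_morphismRestrict f (O u₀)
    exact sq.mono_fst_of_mono
  have hpt : ∀ y : ↥(f ⁻¹ᵁ O u₀).toScheme, (f ∣_ O u₀) y = ⟨u₀, hO1 u₀⟩ := by
    intro y
    have h1 : (O u₀).ι ((f ∣_ O u₀) y) = f ((f ⁻¹ᵁ O u₀).ι y) := by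
      rw [← Scheme.Hom.comp_apply, ← Scheme.Hom.comp_apply, morphismRestrict_ι]
    have h2 : f ((f ⁻¹ᵁ O u₀).ι y) ∈ O u₀ := y.2
    have h3 := (hO2 u₀ _ h2).1
    apply (O u₀).ι.isOpenEmbedding.injective
    rw [h1, h3]
    rfl
  haveI : Subsingleton ↥(f ⁻¹ᵁ O u₀).toScheme := by
    refine ⟨fun y y' => ?_⟩
    apply (f ∣_ O u₀).injective
    rw [hpt, hpt]
  refine isClosedImmersion_of_mono_of_subsingleton (f ∣_ O u₀) (fun y => ?_)
  rw [hpt y]
  have h2 : f ((f ⁻¹ᵁ O u₀).ι y) ∈ O u₀ := y.2
  have hcl := (hO2 u₀ _ h2).2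
  have := hcl.preimage (O u₀).ι.continuous
  convert this using 1
  ext z
  simp only [Set.mem_singleton_iff, Set.mem_preimage]
  constructor
  · intro hz; rw [hz]; rfl
  · intro hz
    apply (O u₀).ι.isOpenEmbedding.injective
    rw [hz]; rfl

end Groth.Agent.R2.H25.ClosedImm
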