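import Mathlib
import Groth.Agent.S10338
import Groth.Agent.Lib.Helper10FibClosed

/-!
# Closed points of decent algebraic spaces (helper25)

* `isClosed_singleton_of_isIntegral`: scheme-level: a point of a chart lying over a closed point
  of the base with algebraic residue field extension is closed.
* `isClosed_fibre_of_isDecent`: on a decent space, if every point in the fibre of an atlas over `x`
  is closed, then `{x}` is closed.
-/

set_option autoImplicit false
universe u
open CategoryTheory CategoryTheory.Limits AlgebraicGeometry Topology TopologicalSpace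

namespace Groth.Agent.R2.H25.ClosedPt

variable {S : Scheme.{u}}

/-- a point of `U` over a closed point of `S` with integral residue field extension is closed. -/
lemma isClosed_singleton_of_residue_isIntegral {U : Scheme.{u}} (f : U ⟶ S) (u : U)
    (hs : IsClosed ({f.base u} : Set ↥S)) (hint : (f.residueFieldMap u).hom.IsIntegral) :
    IsClosed ({u} : Set ↥U) := by
  refine Groth.Agent.Lib.Helper10.FibClosed.isClosed_singleton_of_isClosed_asFiber f u ?_ hs
  refine Groth.Agent.Lib.Helper10.FibClosed.isClosed_asFiber_of_isAlgebraic f u ?_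
  letI := (f.residueFieldMap u).hom.toAlgebra
  haveI : Algebra.IsIntegral (S.residueField (f.base u)) (U.residueField u) := ⟨fun y => hint y⟩
  exact Algebra.IsIntegral.isAlgebraic

/-- in a decent space, a point all of whose preimages in an atlas are closed points is closed. -/
lemma isClosed_singleton_of_forall_isClosed {X : AlgSp.Sp S} (hX : AlgSp.IsDecent X)
    {U : Over S} (a : (AlgSp.yon S).obj U ⟶ X) (hae : AlgSp.RepWith @Etale a)
    (has : AlgSp.RepWith @Surjective a) (x : AlgSp.Points X)
    (hpt : ∀ u : ↥U.left, AlgSp.Points.ofPt a u = x → IsClosed ({u} : Set ↥U.left)) :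
    IsClosed ({x} : Set (AlgSp.Points X)) := by
  have hq := Groth.Agent.S10177.isQuotientMap_ofPt a hae has
  rw [← hq.isClosed_preimage]
  have hcov : IsOpenCover (fun i : U.left.affineOpens => (i : U.left.Opens)) :=
    iSup_affineOpens_eq_top U.left
  rw [hcov.isClosed_iff_coe_preimage]
  intro V
  let V' : Over S := Over.mk ((V : U.left.Opens).ι ≫ U.hom)
  let j : V' ⟶ U := Over.homMk (V : U.left.Opens).ι rfl
  have hb : AlgSp.RepWith @Etale ((AlgSp.yon S).map j ≫ a) :=
    (AlgSp.RepWith @Etale).comp_mem _ _
      ((AlgSp.repWith_yon_map_iff _ _).2 (inferInstance : Etale (V : U.left.Opens).ι)) hae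
  have hV : IsAffine V'.left := V.2
  have hfin := Groth.Agent.S10338.finite_fibre_of_isDecent hX x V' _ hV hb
  have hkey : ∀ v : ↥V'.left, AlgSp.Points.ofPt ((AlgSp.yon S).map j ≫ a) v =
      AlgSp.Points.ofPt a (j.left v) := fun v => Groth.Agent.S10176.ofPt_map_comp j a v
  suffices hcl2 : IsClosed (AlgSp.Points.ofPt ((AlgSp.yon S).map j ≫ a) ⁻¹' {x}) by
    have heq : (Subtype.val ⁻¹' (AlgSp.Points.ofPt a ⁻¹' {x}) :
        Set ((V : U.left.Opens) : Set ↥U.left)) =
        AlgSp.Points.ofPt ((AlgSp.yon S).map j ≫ a) ⁻¹' {x} := by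
      refine Set.ext fun v => ?_
      show AlgSp.Points.ofPt a v.1 = x ↔ AlgSp.Points.ofPt ((AlgSp.yon S).map j ≫ a) v = x
      rw [hkey]
      rfl
    exact heq ▸ hcl2
  have hcl : ∀ v ∈ AlgSp.Points.ofPt ((AlgSp.yon S).map j ≫ a) ⁻¹' {x},
      IsClosed ({v} : Set ↥V'.left) := by
    intro v hv
    have hv' : AlgSp.Points.ofPt a (j.left v) = x := by
      rw [← Groth.Agent.S10176.ofPt_map_comp]; exact hv
    have h1 := (hpt _ hv').preimage j.left.continuous
    have h2 : (j.left ⁻¹' {j.left v} : Set ↥V'.left) = {v} := by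
      ext v'
      simp only [Set.mem_preimage, Set.mem_singleton_iff]
      exact ⟨fun h => (V : U.left.Opens).ι.isOpenEmbedding.injective h, fun h => by rw [h]⟩
    rwa [h2] at h1
  have := hfin.isClosed_biUnion hcl
  rwa [Set.biUnion_of_singleton] at this

/-- a point of an etale chart that maps to the class of a field point `Spec k ⟶ X` lying over a closed
point `s` of `S` with `k` integral over `κ(s)` is a closed point of the chart. -/
lemma isClosed_singleton_of_chart {X : AlgSp.Sp S} {U : Over S} (a : (AlgSp.yon S).obj U ⟶ X)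
    (hae : AlgSp.RepWith @Etale a) (s : ↥S) (hs : IsClosed ({s} : Set ↥S)) (k : Type u) [Field k]
    (φ : S.residueField s ⟶ CommRingCat.of k) (hφ : φ.hom.IsIntegral)
    (p : (AlgSp.yon S).obj (Over.mk (Spec.map φ ≫ S.fromSpecResidueField s)) ⟶ X)
    (t : ↥(Spec (CommRingCat.of k))) (u : ↥U.left)
    (hu : AlgSp.Points.ofPt a u = AlgSp.Points.ofPt p t) : IsClosed ({u} : Set ↥U.left) := by
  obtain ⟨W, w, pr', sq⟩ := hae.1 p
  obtain ⟨pr, rfl⟩ := (AlgSp.yon S).map_surjective pr'
  haveI : Etale w.left := hae.2 p _ w sq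
  obtain ⟨y, hy1, hy2⟩ := Groth.Agent.S10176.exists_point_of_isPullback_yon sq u t hu
  subst hy1
  have hW1 : pr.left ≫ U.hom = W.hom := Over.w pr
  have hW2 : w.left ≫ (Spec.map φ ≫ S.fromSpecResidueField s) = W.hom := Over.w w
  haveI h1 : IsIntegralHom (Spec.map (w.left.residueFieldMap y)) := by
    rw [IsIntegralHom.SpecMap_iff]
    letI := (w.left.residueFieldMap y).hom.toAlgebra
    have hsep : Algebra.IsSeparable
        ((Over.mk (Spec.map φ ≫ S.fromSpecResidueField s)).left.residueField (w.left y))
        (W.left.residueField y) := inferInstance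
    exact fun z => Algebra.IsIntegral.isIntegral z
  haveI h2 : IsClosedImmersion ((Over.mk (Spec.map φ ≫ S.fromSpecResidueField s)).left.fromSpecResidueField
      (w.left y)) := by
    refine isClosed_singleton_iff_isClosedImmersion.mp ?_
    haveI : Subsingleton ↥(Over.mk (Spec.map φ ≫ S.fromSpecResidueField s)).left :=
      (inferInstance : Subsingleton (PrimeSpectrum k))
    have huniv : ({w.left y} : Set ↥(Over.mk (Spec.map φ ≫ S.fromSpecResidueField s)).left) =
        Set.univ := Set.eq_univ_of_forall fun z => Subsingleton.elim _ _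
    rw [huniv]
    exact isClosed_univ
  haveI h3 : IsIntegralHom (W.left.fromSpecResidueField y ≫ w.left) := by
    rw [← Scheme.Hom.SpecMap_residueFieldMap_fromSpecResidueField]; infer_instance
  haveI h4 : IsIntegralHom (Spec.map φ) := IsIntegralHom.SpecMap_iff.mpr hφ
  have hpt : U.hom (pr.left y) = s := by
    have h : (pr.left ≫ U.hom) y = (w.left ≫ (Spec.map φ ≫ S.fromSpecResidueField s)) y := by
      rw [hW1, hW2]
    rw [Scheme.Hom.comp_apply, Scheme.Hom.comp_apply, Scheme.Hom.comp_apply,
      Scheme.fromSpecResidueField_apply] at h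
    exact h
  have e1 : Spec.map (U.hom.residueFieldMap (pr.left y) ≫ pr.left.residueFieldMap y) ≫
      S.fromSpecResidueField _ = W.left.fromSpecResidueField y ≫ W.hom := by
    rw [Spec.map_comp, Category.assoc, Scheme.Hom.SpecMap_residueFieldMap_fromSpecResidueField,
      Scheme.Hom.SpecMap_residueFieldMap_fromSpecResidueField_assoc, hW1]
  have e2 : W.left.fromSpecResidueField y ≫ W.hom =
      ((W.left.fromSpecResidueField y ≫ w.left) ≫ Spec.map φ ≫
        Spec.map (S.residueFieldCongr hpt).hom) ≫ S.fromSpecResidueField (U.hom (pr.left y)) := by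
    simp only [Category.assoc]
    rw [Scheme.residueFieldCongr_fromSpecResidueField, hW2]
  have e3 := (cancel_mono (S.fromSpecResidueField (U.hom (pr.left y)))).1 (e1.trans e2)
  have h5 : IsIntegralHom (Spec.map (U.hom.residueFieldMap (pr.left y) ≫ pr.left.residueFieldMap y)) := by
    rw [e3]; infer_instance
  rw [IsIntegralHom.SpecMap_iff, CommRingCat.hom_comp] at h5
  refine isClosed_singleton_of_residue_isIntegral U.hom (pr.left y) (by rw [hpt]; exact hs) ?_
  exact RingHom.IsIntegral.tower_bot _ _ (pr.left.residueFieldMap y).hom.injective h5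

end Groth.Agent.R2.H25.ClosedPt
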