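import Mathlib
import Groth.Agent.R2.H25ClosedPt
import Groth.Agent.R2.H25ClosedImm
import Groth.Agent.S10340
import Groth.Agent.S9948
import Groth.Agent.Lib.Helper12Descent
import Groth.Agent.Lib.Helper12Reduced

/-!
# Closed points of decent spaces are closed immersions (helper25)

* `repWith_of_atlas`: a representable morphism to an algebraic space has `RepWith P` as soon as its
  base change to one atlas has `P` (for `P` fppf local on the target).
* `finite_fibre_inter_affine`, `isClosed_singleton_of_mem_fibre`, `exists_open_single`.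
* `repWith_isClosedImmersion_of_isClosed`: on a decent space a quasi-compact monomorphism from the
  spectrum of a field onto a closed point is a closed immersion.
-/

set_option autoImplicit false
universe u
open CategoryTheory CategoryTheory.Limits AlgebraicGeometry Topology TopologicalSpace

namespace Groth.Agent.R2.H25.DecentClosed

open Opposite MorphismProperty

variable {S : Scheme.{u}}

/-- a representable morphism to an algebraic space has `RepWith P` as soon as its base change to an
atlas has `P`. -/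
lemma repWith_of_atlas (P : MorphismProperty Scheme.{u}) [P.IsStableUnderBaseChange]
    [P.DescendsAlong (@Surjective ⊓ @Flat ⊓ @LocallyOfFinitePresentation)]
    {X Y : AlgSp.Sp S} (f : X ⟶ Y) (hf : AlgSp.Representable f)
    {V : Over S} (q : (AlgSp.yon S).obj V ⟶ Y) (hq : AlgSp.RepWith @Etale q)
    (hqs : AlgSp.RepWith @Surjective q) {XV : Over S} (ι : XV ⟶ V)
    (b'' : (AlgSp.yon S).obj XV ⟶ X) (sqXV : IsPullback b'' ((AlgSp.yon S).map ι) f q)
    (hι : P ι.left) : AlgSp.RepWith P f := by
  refine ⟨hf, fun T W g pr w sq => ?_⟩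
  obtain ⟨TV, t, tV', sqT⟩ := hq.1 g
  obtain ⟨tV, rfl⟩ := (AlgSp.yon S).map_surjective tV'
  haveI : Etale t.left := hq.2 _ _ t sqT
  haveI : Surjective t.left := hqs.2 _ _ t sqT
  have sqW : IsPullback ((AlgSp.yon S).map (pullback.fst w t))
      ((AlgSp.yon S).map (pullback.snd w t)) ((AlgSp.yon S).map w) ((AlgSp.yon S).map t) :=
    (IsPullback.of_hasPullback w t).map (AlgSp.yon S)
  have big1 := sqW.paste_horiz sq
  rw [← sqT.w] at big1
  obtain ⟨m, hm⟩ : ∃ m : (AlgSp.yon S).obj (pullback w t) ⟶ (AlgSp.yon S).obj XV,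
      m = sqXV.lift ((AlgSp.yon S).map (pullback.fst w t) ≫ pr)
        ((AlgSp.yon S).map (pullback.snd w t) ≫ (AlgSp.yon S).map tV) big1.w := ⟨_, rfl⟩
  have hm1 : m ≫ b'' = (AlgSp.yon S).map (pullback.fst w t) ≫ pr := by rw [hm, sqXV.lift_fst]
  have hm2 : m ≫ (AlgSp.yon S).map ι =
      (AlgSp.yon S).map (pullback.snd w t) ≫ (AlgSp.yon S).map tV := by
    rw [hm, sqXV.lift_snd]
  have left : IsPullback m ((AlgSp.yon S).map (pullback.snd w t)) ((AlgSp.yon S).map ι)
      ((AlgSp.yon S).map tV) := by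
    refine IsPullback.of_right ?_ hm2 sqXV
    rw [hm1]
    exact big1
  have h1 : P (pullback.snd w t).left :=
    (AlgSp.repWith_yon_map_iff P _).1
      (MorphismProperty.of_isPullback (P := AlgSp.RepWith P) left
        ((AlgSp.repWith_yon_map_iff P _).2 hι))
  have hsq : IsPullback (pullback.fst w t).left (pullback.snd w t).left w.left t.left :=
    (IsPullback.of_hasPullback w t).map (Over.forget S)
  have htQ : (@Surjective ⊓ @Flat ⊓ @LocallyOfFinitePresentation : MorphismProperty Scheme.{u})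
      t.left := ⟨⟨inferInstance, inferInstance⟩, inferInstance⟩
  exact MorphismProperty.of_isPullback_of_descendsAlong (P := P)
    (Q := @Surjective ⊓ @Flat ⊓ @LocallyOfFinitePresentation) hsq.flip htQ h1

/-- the fibre of an etale chart of a decent space over a point meets every affine open in a finite
set. -/
lemma finite_fibre_inter_affine {X : AlgSp.Sp S} (hX : AlgSp.IsDecent X) {U : Over S}
    (a : (AlgSp.yon S).obj U ⟶ X) (hae : AlgSp.RepWith @Etale a) (x : AlgSp.Points X)
    (V : U.left.Opens) (hV : IsAffineOpen V) :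
    ((AlgSp.Points.ofPt a ⁻¹' {x}) ∩ (V : Set ↥U.left)).Finite := by
  let V' : Over S := Over.mk (V.ι ≫ U.hom)
  let j : V' ⟶ U := Over.homMk V.ι rfl
  have hb : AlgSp.RepWith @Etale ((AlgSp.yon S).map j ≫ a) :=
    (AlgSp.RepWith @Etale).comp_mem _ _
      ((AlgSp.repWith_yon_map_iff _ _).2 (inferInstance : Etale V.ι)) hae
  have hVa : IsAffine V'.left := hV
  have hfin := Groth.Agent.S10338.finite_fibre_of_isDecent hX x V' _ hVa hb
  refine (hfin.image j.left).subset ?_
  rintro u ⟨hu1, hu2⟩
  refine ⟨⟨u, hu2⟩, ?_, rfl⟩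
  show AlgSp.Points.ofPt ((AlgSp.yon S).map j ≫ a) ⟨u, hu2⟩ = x
  rw [Groth.Agent.S10176.ofPt_map_comp]
  exact hu1

/-- on a decent space, the points of an etale chart over a closed point are closed. -/
lemma isClosed_singleton_of_mem_fibre (X : AlgSp.Space S) (hX : AlgSp.IsDecent X.obj) {U : Over S}
    (a : (AlgSp.yon S).obj U ⟶ X.obj) (hae : AlgSp.RepWith @Etale a) (x : AlgSp.Points X.obj)
    (hx : IsClosed ({x} : Set (AlgSp.Points X.obj))) (u : ↥U.left)
    (hu : AlgSp.Points.ofPt a u = x) : IsClosed ({u} : Set ↥U.left) := by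
  have hF : IsClosed (AlgSp.Points.ofPt a ⁻¹' {x}) := hx.preimage (AlgSp.Points.continuous_ofPt a)
  rw [← closure_eq_iff_isClosed]
  refine Set.Subset.antisymm (fun u' hu' => ?_) subset_closure
  have hsub : ({u} : Set ↥U.left) ⊆ AlgSp.Points.ofPt a ⁻¹' {x} := by
    intro v hv
    rw [Set.mem_singleton_iff] at hv
    rw [hv]
    exact hu
  have h1 : u' ∈ AlgSp.Points.ofPt a ⁻¹' {x} := (closure_minimal hsub hF) hu'
  have h2 : u ⤳ u' := specializes_iff_mem_closure.2 hu'
  have := Groth.Agent.S10340.result X hX a hae u' u (h1.trans hu.symm) h2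
  rw [Set.mem_singleton_iff]
  exact this

/-- on a decent space, every point of an etale chart has an open neighbourhood meeting the fibre over
a closed point at most in that point. -/
lemma exists_open_single (X : AlgSp.Space S) (hX : AlgSp.IsDecent X.obj) {U : Over S}
    (a : (AlgSp.yon S).obj U ⟶ X.obj) (hae : AlgSp.RepWith @Etale a) (x : AlgSp.Points X.obj)
    (hx : IsClosed ({x} : Set (AlgSp.Points X.obj))) (u₀ : ↥U.left) :
    ∃ O : U.left.Opens, u₀ ∈ O ∧ ∀ u : ↥U.left, AlgSp.Points.ofPt a u = x → u ∈ O → u = u₀ := by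
  obtain ⟨V, hV, hu₀V, -⟩ : ∃ V : U.left.Opens, V ∈ U.left.affineOpens ∧ u₀ ∈ V ∧ V ≤ ⊤ :=
    TopologicalSpace.Opens.isBasis_iff_nbhd.1 U.left.isBasis_affineOpens
      (TopologicalSpace.Opens.mem_top u₀)
  have hfin := finite_fibre_inter_affine hX a hae x V hV
  have hfin' : (((AlgSp.Points.ofPt a ⁻¹' {x}) ∩ (V : Set ↥U.left)) \ {u₀}).Finite :=
    hfin.subset Set.sdiff_subset
  have hcl : IsClosed (((AlgSp.Points.ofPt a ⁻¹' {x}) ∩ (V : Set ↥U.left)) \ {u₀}) := by
    have := hfin'.isClosed_biUnion (fun u hu =>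
      isClosed_singleton_of_mem_fibre X hX a hae x hx u hu.1.1)
    rwa [Set.biUnion_of_singleton] at this
  refine ⟨V ⊓ ⟨_, hcl.isOpen_compl⟩, ⟨hu₀V, fun h => h.2 rfl⟩, fun u hu huO => ?_⟩
  by_contra hne
  exact huO.2 ⟨⟨hu, huO.1⟩, hne⟩

/-- on a decent space a quasi-compact monomorphism from the spectrum of a field onto a closed point is
a closed immersion. -/
theorem repWith_isClosedImmersion_of_isClosed (X : AlgSp.Space S) (hX : AlgSp.IsDecent X.obj)
    (p : AlgSp.FieldPt X.obj) (hm : Mono p.toHom)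
    (hx : IsClosed ({AlgSp.Points.mk p} : Set (AlgSp.Points X.obj))) :
    AlgSp.RepWith @IsClosedImmersion p.toHom := by
  haveI := hm
  obtain ⟨U, a, hae, has⟩ := X.property.atlas
  have hrep := X.property.representable_from_yon p.toHom
  obtain ⟨W, w, pr', sq⟩ := hrep a
  obtain ⟨pr, rfl⟩ := (AlgSp.yon S).map_surjective pr'
  haveI := Groth.Agent.Lib.Helper12.descendsAlong_isClosedImmersion.{u}
  refine repWith_of_atlas @IsClosedImmersion p.toHom hrep a hae has w _ sq ?_
  haveI : Mono ((AlgSp.yon S).map w) := sq.mono_snd_of_mono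
  haveI : Mono w := (AlgSp.yon S).mono_of_mono_map inferInstance
  haveI : Mono w.left := inferInstance
  haveI : Etale pr.left := hae.2 _ _ pr sq.flip
  haveI : IsReduced p.pt.left := (inferInstance : IsReduced (Spec (CommRingCat.of p.K)))
  haveI : IsReduced W.left := Groth.Agent.Lib.Helper12.Reduced.isReduced_of_smooth pr.left
  have hfib : ∀ y : ↥W.left, AlgSp.Points.ofPt a (w.left y) = AlgSp.Points.mk p := by
    intro y
    rw [← Groth.Agent.S10176.ofPt_map_comp, ← sq.w, Groth.Agent.S10176.ofPt_map_comp,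
      AlgSp.Points.ofPt_toHom]
  show IsClosedImmersion w.left
  refine Groth.Agent.R2.H25.ClosedImm.isClosedImmersion_of_mono_of_locally_single w.left
    (fun u₀ => ?_)
  obtain ⟨O, hu₀, hO⟩ := exists_open_single X hX a hae _ hx u₀
  refine ⟨O, hu₀, fun y hy => ?_⟩
  have h1 := hO _ (hfib y) hy
  refine ⟨h1, ?_⟩
  rw [← h1]
  exact isClosed_singleton_of_mem_fibre X hX a hae _ hx _ (hfib y)

end Groth.Agent.R2.H25.DecentClosed
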