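import Mathlib
import Groth.Agent.R2.H25DecentClosed
import Groth.Agent.S10363
import Groth.Agent.Lib.Helper12LargestOpen

/-!
# Quasi-compactness of monomorphic field points from finite fibres (helper25)

* `repWith_quasiCompact_of_finite_fibres`: a monomorphism `Spec k ⟶ X` to an algebraic space is
  representable quasi-compact as soon as the fibres over its point of all affine etale charts are
  finite.
* `isDecent_of_isZarCover`: Zariski coverings by decent spaces.
-/

set_option autoImplicit false
universe u
open CategoryTheory CategoryTheory.Limits AlgebraicGeometry Topology TopologicalSpace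

namespace Groth.Agent.R2.H25.DecentQc

open Opposite MorphismProperty

variable {S : Scheme.{u}}

/-- the fibre of an etale chart over `x` meets every affine open in a finite set, provided the
fibres of all affine etale charts over `x` are finite. -/
lemma finite_fibre_inter_affine {X : AlgSp.Sp S} (x : AlgSp.Points X)
    (H : ∀ (V : Over S) (b : (AlgSp.yon S).obj V ⟶ X), IsAffine V.left → AlgSp.RepWith @Etale b →
      (AlgSp.Points.ofPt b ⁻¹' {x}).Finite)
    {U : Over S} (a : (AlgSp.yon S).obj U ⟶ X) (hae : AlgSp.RepWith @Etale a)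
    (V : U.left.Opens) (hV : IsAffineOpen V) :
    ((AlgSp.Points.ofPt a ⁻¹' {x}) ∩ (V : Set ↥U.left)).Finite := by
  let V' : Over S := Over.mk (V.ι ≫ U.hom)
  let j : V' ⟶ U := Over.homMk V.ι rfl
  have hb : AlgSp.RepWith @Etale ((AlgSp.yon S).map j ≫ a) :=
    (AlgSp.RepWith @Etale).comp_mem _ _
      ((AlgSp.repWith_yon_map_iff _ _).2 (inferInstance : Etale V.ι)) hae
  have hVa : IsAffine V'.left := hV
  have hfin := H V' _ hVa hb
  refine (hfin.image j.left).subset ?_
  rintro u ⟨hu1, hu2⟩
  refine ⟨⟨u, hu2⟩, ?_, rfl⟩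
  show AlgSp.Points.ofPt ((AlgSp.yon S).map j ≫ a) ⟨u, hu2⟩ = x
  rw [Groth.Agent.S10176.ofPt_map_comp]
  exact hu1

/-- a monomorphism from the spectrum of a field to an algebraic space is representable quasi-compact
as soon as all affine etale charts have finite fibres over its point. -/
theorem repWith_quasiCompact_of_finite_fibres (X : AlgSp.Space S) (p : AlgSp.FieldPt X.obj)
    (hm : Mono p.toHom)
    (H : ∀ (V : Over S) (b : (AlgSp.yon S).obj V ⟶ X.obj), IsAffine V.left →
      AlgSp.RepWith @Etale b → (AlgSp.Points.ofPt b ⁻¹' {AlgSp.Points.mk p}).Finite) :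
    AlgSp.RepWith @QuasiCompact p.toHom := by
  haveI := hm
  obtain ⟨U, a, hae, has⟩ := X.property.atlas
  have hrep := X.property.representable_from_yon p.toHom
  obtain ⟨W, w, pr', sq⟩ := hrep a
  obtain ⟨pr, rfl⟩ := (AlgSp.yon S).map_surjective pr'
  haveI := Groth.Agent.Lib.Helper12.descendsAlong_quasiCompact.{u}
  refine Groth.Agent.R2.H25.DecentClosed.repWith_of_atlas @QuasiCompact p.toHom hrep a hae has w _
    sq ?_
  haveI : Mono ((AlgSp.yon S).map w) := sq.mono_snd_of_mono
  haveI : Mono w := (AlgSp.yon S).mono_of_mono_map inferInstance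
  haveI : Mono w.left := inferInstance
  have hfib : ∀ y : ↥W.left, AlgSp.Points.ofPt a (w.left y) = AlgSp.Points.mk p := by
    intro y
    rw [← Groth.Agent.S10176.ofPt_map_comp, ← sq.w, Groth.Agent.S10176.ofPt_map_comp,
      AlgSp.Points.ofPt_toHom]
  show QuasiCompact w.left
  rw [quasiCompact_iff_forall_isAffineOpen]
  intro V hV
  have hfin := finite_fibre_inter_affine (AlgSp.Points.mk p) H a hae V hV
  have h2 : ((w.left ⁻¹ᵁ V : W.left.Opens) : Set ↥W.left).Finite := by
    refine (hfin.preimage (w.left.injective.injOn)).subset ?_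
    intro y hy
    exact ⟨hfib y, hy⟩
  exact h2.isCompact

end Groth.Agent.R2.H25.DecentQc
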