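import Mathlib

/-!
# Finite equivalence relations on the spectrum of a field (helper25; Mathlib only)

Let `L` be a field, `B` a commutative ring and `s t : L →+* B` ("source" and "target" of an
equivalence relation `Spec B ⇉ Spec L`).  Assume transitivity (a composition law, on `D`-valued
points for every ring `D`).  Then (Artin's argument for groupoids) `t` maps families that are linearly
independent over the equalizer subfield `k' = {a | s a = t a}` to families linearly independent over
`L` (acting on `B` through `s`).  Consequently, if `B` is finite over `L` through `s`, then `L` is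
finite over `k'`; and if moreover `(s, t)` is jointly epimorphic, `B = L ⊗[k'] L`.
-/

set_option autoImplicit false
universe u
open TensorProduct

namespace Groth.Agent.R2.H25.FieldEqvRel

variable {L : Type u} [Field L] {B : Type u} [CommRing B]

/-- a copy of `B` carrying the `L`-algebra structure given by `f`. -/
def Via (_f : L →+* B) : Type u := B

namespace Via

instance (f : L →+* B) : CommRing (Via f) := inferInstanceAs (CommRing B)

instance (f : L →+* B) : Algebra L (Via f) := RingHom.toAlgebra (f : L →+* B)

/-- the identity `B → Via f`. -/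
def mk (f : L →+* B) : B →+* Via f := RingHom.id B

/-- the identity `Via f → B`. -/
def out (f : L →+* B) : Via f →+* B := RingHom.id B

@[simp] lemma out_mk (f : L →+* B) (b : B) : out f (mk f b) = b := rfl
@[simp] lemma mk_out (f : L →+* B) (b : Via f) : mk f (out f b) = b := rfl

lemma algebraMap_eq (f : L →+* B) (a : L) : algebraMap L (Via f) a = mk f (f a) := rfl

lemma smul_eq (f : L →+* B) (a : L) (b : Via f) : a • b = mk f (f a * out f b) := rfl

end Via

/-- the equalizer of `s` and `t`, a subfield of `L`. -/
def eqField (s t : L →+* B) : Subfield L :=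
  { RingHom.eqLocus s t with
    inv_mem' := by
      intro a ha
      change s a = t a at ha
      change s a⁻¹ = t a⁻¹
      by_cases h0 : a = 0
      · rw [h0, inv_zero, map_zero, map_zero]
      · have h1 : s a⁻¹ * s a = 1 := by rw [← map_mul, inv_mul_cancel₀ h0, map_one]
        have h2 : s a * t a⁻¹ = 1 := by rw [ha, ← map_mul, mul_inv_cancel₀ h0, map_one]
        calc s a⁻¹ = s a⁻¹ * (s a * t a⁻¹) := by rw [h2, mul_one]
          _ = (s a⁻¹ * s a) * t a⁻¹ := by ring
          _ = t a⁻¹ := by rw [h1, one_mul] }

lemma mem_eqField {s t : L →+* B} {a : L} : a ∈ eqField s t ↔ s a = t a := Iff.rfl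

/-- transitivity of the relation `(s, t)` on `D`-valued points. -/
def Trans (s t : L →+* B) : Prop :=
  ∀ (D : Type u) [CommRing D] (α β : B →+* D), α.comp t = β.comp s →
    ∃ γ : B →+* D, γ.comp s = α.comp s ∧ γ.comp t = β.comp t

section Artin

variable (s t : L →+* B)

/-- the ring of composable pairs. -/
abbrev Comp : Type u := Via t ⊗[L] Via s

/-- first arrow. -/
noncomputable def α : B →+* Comp s t :=
  (Algebra.TensorProduct.includeLeftRingHom).comp (Via.mk t)

/-- second arrow. -/
noncomputable def β : B →+* Comp s t :=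
  ((Algebra.TensorProduct.includeRight : Via s →ₐ[L] Comp s t) : Via s →+* Comp s t).comp (Via.mk s)

lemma α_apply (b : B) : α s t b = (Via.mk t b) ⊗ₜ[L] (1 : Via s) := rfl

lemma β_apply (b : B) : β s t b = (1 : Via t) ⊗ₜ[L] (Via.mk s b) := rfl

lemma α_comp_t : (α s t).comp t = (β s t).comp s := by
  ext a
  simp only [RingHom.comp_apply, α_apply, β_apply]
  have h1 : Via.mk t (t a) = a • (1 : Via t) := by
    rw [Algebra.smul_def, mul_one]; rfl
  have h2 : Via.mk s (s a) = a • (1 : Via s) := by
    rw [Algebra.smul_def, mul_one]; rfl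
  rw [h1, h2, TensorProduct.smul_tmul]

/-- the key step: a relation `t a₀ = ∑ s (x k) * v k` with `v k = t (a k)` linearly independent over
`L` has coefficients in the equalizer. -/
lemma coeff_mem_eqField (htr : Trans s t) {κ : Type*} [Fintype κ] (a : κ → L) (x : κ → L) (a₀ : L)
    (hli : LinearIndependent L (fun k => (Via.mk s (t (a k)) : Via s)))
    (hrel : t a₀ = ∑ k, s (x k) * t (a k)) (k : κ) : s (x k) = t (x k) := by
  obtain ⟨γ, hγs, hγt⟩ := htr (Comp s t) (α s t) (β s t) (α_comp_t s t)
  have hs : ∀ y : L, γ (s y) = α s t (s y) := fun y => RingHom.congr_fun hγs y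
  have ht : ∀ y : L, γ (t y) = β s t (t y) := fun y => RingHom.congr_fun hγt y
  have hβs : ∀ y : L, β s t (s y) = α s t (t y) := fun y =>
    (RingHom.congr_fun (α_comp_t s t) y).symm
  have e1 : β s t (t a₀) = ∑ k, α s t (t (x k)) * β s t (t (a k)) := by
    rw [hrel, map_sum]
    refine Finset.sum_congr rfl fun k _ => ?_
    rw [map_mul, hβs]
  have e2 : β s t (t a₀) = ∑ k, α s t (s (x k)) * β s t (t (a k)) := by
    rw [← ht, hrel, map_sum]
    refine Finset.sum_congr rfl fun k _ => ?_
    rw [map_mul, hs, ht]
  have e3 : ∑ k, (Via.mk t (t (x k) - s (x k))) • ((1 : Via t) ⊗ₜ[L] (Via.mk s (t (a k)) : Via s)) = 0 := by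
    have : ∀ k, (Via.mk t (t (x k) - s (x k))) • ((1 : Via t) ⊗ₜ[L] (Via.mk s (t (a k)) : Via s)) =
        α s t (t (x k)) * β s t (t (a k)) - α s t (s (x k)) * β s t (t (a k)) := by
      intro k
      rw [α_apply, α_apply, β_apply, Algebra.TensorProduct.tmul_mul_tmul,
        Algebra.TensorProduct.tmul_mul_tmul, TensorProduct.smul_tmul', smul_eq_mul, mul_one, mul_one,
        one_mul, ← TensorProduct.sub_tmul, map_sub]
      simp only [mul_one]
    simp_rw [this]
    rw [Finset.sum_sub_distrib, ← e1, ← e2, sub_self]
  have hli' := Module.Flat.linearIndependent_one_tmul (S := Via t) hli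
  have := linearIndependent_iff'.1 hli' Finset.univ (fun k => Via.mk t (t (x k) - s (x k))) e3 k
    (Finset.mem_univ k)
  have h0 : t (x k) - s (x k) = 0 := this
  exact (sub_eq_zero.1 h0).symm

end Artin

section Indep

variable (s t : L →+* B)

/-- Artin's lemma for equivalence relations: `t` maps families linearly independent over the
equalizer subfield to families linearly independent over `L` acting through `s`. -/
theorem linearIndepOn_t (htr : Trans s t) [Nontrivial B] (T : Finset L) :
    LinearIndepOn (eqField s t) id (T : Set L) →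
      LinearIndepOn L (fun a : L => (Via.mk s (t a) : Via s)) (T : Set L) := by
  classical
  refine Finset.induction_on T (fun _ => ?_) (fun a₀ T ha₀ ih hs => ?_)
  · rw [Finset.coe_empty]; exact linearIndepOn_empty _ _
  rw [Finset.coe_insert] at hs ⊢
  rw [linearIndepOn_id_insert (mt Finset.mem_coe.1 ha₀)] at hs
  rw [linearIndepOn_insert (mt Finset.mem_coe.1 ha₀)]
  refine ⟨ih hs.1, fun ha => ?_⟩
  rw [Finsupp.mem_span_image_iff_linearCombination] at ha
  obtain ⟨l, hl, hla⟩ := ha
  rw [Finsupp.linearCombination_apply_of_mem_supported L hl] at hla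
  -- the relation in `B`
  have hrel : t a₀ = ∑ k : ↥T, s (l k.1) * t k.1 := by
    have h1 : (∑ i ∈ T, l i • (Via.mk s (t i) : Via s)) = Via.mk s (t a₀) := hla
    have h2 : Via.out s (∑ i ∈ T, l i • (Via.mk s (t i) : Via s)) = t a₀ := by rw [h1]; rfl
    rw [← h2, map_sum, ← Finset.sum_coe_sort T]
    rfl
  have hmem : ∀ k : ↥T, l k.1 ∈ eqField s t := fun k =>
    coeff_mem_eqField s t htr (fun k : ↥T => k.1) (fun k : ↥T => l k.1) a₀ (ih hs.1) hrel k
  have hinj : Function.Injective t := RingHom.injective t
  have ha₀' : a₀ = ∑ k : ↥T, l k.1 * k.1 := by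
    apply hinj
    rw [hrel, map_sum]
    refine Finset.sum_congr rfl fun k _ => ?_
    rw [map_mul, ← (hmem k : s (l k.1) = t (l k.1))]
  apply hs.2
  rw [ha₀']
  refine Submodule.sum_mem _ fun k _ => ?_
  have : l k.1 * k.1 = (⟨l k.1, hmem k⟩ : eqField s t) • (k.1 : L) := rfl
  rw [this]
  exact Submodule.smul_mem _ _ (Submodule.subset_span k.2)

variable [Module.Finite L (Via s)]

/-- `L` has finite dimension over the equalizer subfield, at most the dimension of `B` over `L`. -/
theorem rank_le (htr : Trans s t) [Nontrivial B] :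
    Module.rank (eqField s t) L ≤ Module.finrank L (Via s) := by
  refine _root_.rank_le fun T hT => ?_
  have h1 : LinearIndepOn (eqField s t) id (T : Set L) := hT
  have h2 := linearIndepOn_t s t htr T h1
  have h3 := LinearIndependent.fintype_card_le_finrank h2
  simpa using h3

theorem finite_eqField (htr : Trans s t) [Nontrivial B] : Module.Finite (eqField s t) L := by
  rw [← Module.rank_lt_aleph0_iff]
  exact lt_of_le_of_lt (rank_le s t htr) (Cardinal.natCast_lt_aleph0)

theorem finrank_le (htr : Trans s t) [Nontrivial B] :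
    Module.finrank (eqField s t) L ≤ Module.finrank L (Via s) := by
  haveI := finite_eqField s t htr
  have h := rank_le s t htr
  rw [← Module.finrank_eq_rank] at h
  exact_mod_cast h

end Indep

section Pushout

variable (s t : L →+* B)

/-- joint epimorphy of `(s, t)`. -/
def JointlyEpi (s t : L →+* B) : Prop :=
  ∀ (D : Type u) [CommRing D] (γ₁ γ₂ : B →+* D), γ₁.comp s = γ₂.comp s → γ₁.comp t = γ₂.comp t →
    γ₁ = γ₂

/-- `B` as an algebra over the equalizer subfield. -/
noncomputable abbrev algEq : Algebra (eqField s t) B := (s.comp (eqField s t).subtype).toAlgebra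

/-- `s` as an algebra map over the equalizer subfield. -/
noncomputable def sA : letI := algEq s t; L →ₐ[eqField s t] B :=
  letI := algEq s t
  { s with commutes' := fun _ => rfl }

/-- `t` as an algebra map over the equalizer subfield. -/
noncomputable def tA : letI := algEq s t; L →ₐ[eqField s t] B :=
  letI := algEq s t
  { t with commutes' := fun a => (a.2 : s a = t a).symm }

/-- the comparison map `L ⊗[k'] L → B`. -/
noncomputable def Φ : letI := algEq s t; L ⊗[eqField s t] L →ₐ[eqField s t] B :=
  letI := algEq s t
  Algebra.TensorProduct.productMap (sA s t) (tA s t)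

lemma Φ_tmul (a b : L) : letI := algEq s t; Φ s t (a ⊗ₜ b) = s a * t b := by
  letI := algEq s t
  rfl

theorem Φ_surjective (hfin : s.Finite) (hepi : JointlyEpi s t) :
    letI := algEq s t; Function.Surjective (Φ s t) := by
  letI := algEq s t
  let f : CommRingCat.of (L ⊗[eqField s t] L) ⟶ CommRingCat.of B :=
    CommRingCat.ofHom (Φ s t : L ⊗[eqField s t] L →+* B)
  haveI : CategoryTheory.Epi f := by
    refine ⟨fun {D} g h e => ?_⟩
    apply CommRingCat.hom_ext
    refine hepi D g.hom h.hom ?_ ?_
    · ext a
      have := congrArg (fun k => k.hom (a ⊗ₜ[eqField s t] (1 : L))) e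
      simpa [f, Φ_tmul] using this
    · ext a
      have := congrArg (fun k => k.hom ((1 : L) ⊗ₜ[eqField s t] a)) e
      simpa [f, Φ_tmul] using this
  have hf : f.hom.Finite := by
    refine RingHom.Finite.of_comp_finite
      (f := (Algebra.TensorProduct.includeLeftRingHom : L →+* L ⊗[eqField s t] L)) ?_
    have : f.hom.comp (Algebra.TensorProduct.includeLeftRingHom : L →+* L ⊗[eqField s t] L) = s := by
      ext a
      simp [f, Φ_tmul]
    rw [this]
    exact hfin
  exact RingHom.surjective_of_epi_of_finite f hf

end Pushout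

section Iso

variable (s t : L →+* B)

/-- the comparison map as an `L`-linear map (left factor, resp. `s`). -/
noncomputable def ΦL : letI := algEq s t; L ⊗[eqField s t] L →ₗ[L] Via s :=
  letI := algEq s t
  { toFun := fun x => Via.mk s (Φ s t x)
    map_add' := fun x y => by rw [map_add, map_add]
    map_smul' := fun a x => by
      have h1 : a • x = (a ⊗ₜ[eqField s t] (1 : L)) * x := by
        induction x using TensorProduct.induction_on with
        | zero => simp
        | tmul b c =>
          rw [TensorProduct.smul_tmul', Algebra.TensorProduct.tmul_mul_tmul, one_mul, smul_eq_mul]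
        | add x y hx hy => rw [smul_add, hx, hy, mul_add]
      rw [h1, map_mul, Φ_tmul, map_one, mul_one, RingHom.id_apply, Via.smul_eq]
      rfl }

lemma ΦL_apply (x : letI := algEq s t; L ⊗[eqField s t] L) :
    letI := algEq s t; ΦL s t x = Via.mk s (Φ s t x) := rfl

theorem Φ_bijective (htr : Trans s t) [Nontrivial B] (hfin : s.Finite) (hepi : JointlyEpi s t) :
    letI := algEq s t; Function.Bijective (Φ s t) := by
  letI := algEq s t
  haveI : Module.Finite L (Via s) := hfin
  haveI := finite_eqField s t htr
  have hsurj := Φ_surjective s t hfin hepi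
  have hsurjL : Function.Surjective (ΦL s t) := hsurj
  have h1 : Module.finrank L (L ⊗[eqField s t] L) = Module.finrank (eqField s t) L :=
    Module.finrank_baseChange
  have h2 := finrank_le s t htr
  have h3 : Module.finrank L (Via s) ≤ Module.finrank L (L ⊗[eqField s t] L) := by
    have := LinearMap.finrank_range_le (ΦL s t)
    rwa [LinearMap.range_eq_top.2 hsurjL, finrank_top] at this
  have h4 : Module.finrank L (L ⊗[eqField s t] L) = Module.finrank L (Via s) := by omega
  have hinjL : Function.Injective (ΦL s t) :=
    (LinearMap.injective_iff_surjective_of_finrank_eq_finrank h4).2 hsurjL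
  exact ⟨hinjL, hsurj⟩

/-- the universal property: two ring maps out of `L` that agree on the equalizer subfield factor
through `(s, t)`. -/
theorem exists_factor (htr : Trans s t) [Nontrivial B] (hfin : s.Finite) (hepi : JointlyEpi s t)
    {D : Type u} [CommRing D] (g₁ g₂ : L →+* D) (h : ∀ a ∈ eqField s t, g₁ a = g₂ a) :
    ∃ γ : B →+* D, γ.comp s = g₁ ∧ γ.comp t = g₂ := by
  letI := algEq s t
  letI : Algebra (eqField s t) D := (g₁.comp (eqField s t).subtype).toAlgebra
  let g₁A : L →ₐ[eqField s t] D := { g₁ with commutes' := fun _ => rfl }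
  let g₂A : L →ₐ[eqField s t] D := { g₂ with commutes' := fun a => (h a a.2).symm }
  let e := RingEquiv.ofBijective (Φ s t : L ⊗[eqField s t] L →+* B) (Φ_bijective s t htr hfin hepi)
  refine ⟨((Algebra.TensorProduct.productMap g₁A g₂A : L ⊗[eqField s t] L →+* D)).comp
    (e.symm : B →+* L ⊗[eqField s t] L), ?_, ?_⟩
  · ext a
    have h1 : e.symm (s a) = a ⊗ₜ[eqField s t] (1 : L) := by
      rw [RingEquiv.symm_apply_eq]
      show s a = Φ s t (a ⊗ₜ 1)
      rw [Φ_tmul, map_one, mul_one]
    simp only [RingHom.comp_apply, RingHom.coe_coe, h1,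
      Algebra.TensorProduct.productMap_apply_tmul, map_one, mul_one]
    rfl
  · ext a
    have h1 : e.symm (t a) = (1 : L) ⊗ₜ[eqField s t] a := by
      rw [RingEquiv.symm_apply_eq]
      show t a = Φ s t (1 ⊗ₜ a)
      rw [Φ_tmul, map_one, one_mul]
    simp only [RingHom.comp_apply, RingHom.coe_coe, h1,
      Algebra.TensorProduct.productMap_apply_tmul, map_one, one_mul]
    rfl

end Iso

section IsPushout

open CategoryTheory

variable (s t : L →+* B)

/-- `B`, with `s` and `t`, is the pushout of `L` with itself over the equalizer subfield. -/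
theorem isPushout (htr : Trans s t) [Nontrivial B] (hfin : s.Finite) (hepi : JointlyEpi s t) :
    IsPushout (CommRingCat.ofHom ((eqField s t).subtype : eqField s t →+* L))
      (CommRingCat.ofHom ((eqField s t).subtype : eqField s t →+* L))
      (CommRingCat.ofHom s) (CommRingCat.ofHom t) := by
  letI := algEq s t
  have h := CommRingCat.isPushout_tensorProduct (eqField s t) L L
  let e := RingEquiv.ofBijective (Φ s t : L ⊗[eqField s t] L →+* B) (Φ_bijective s t htr hfin hepi)
  refine h.of_iso (Iso.refl _) (Iso.refl _) (Iso.refl _) e.toCommRingCatIso ?_ ?_ ?_ ?_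
  · rfl
  · rfl
  · ext a
    show Φ s t (a ⊗ₜ[eqField s t] (1 : L)) = s a
    rw [Φ_tmul, map_one, mul_one]
  · ext a
    show Φ s t ((1 : L) ⊗ₜ[eqField s t] a) = t a
    rw [Φ_tmul, map_one, one_mul]

end IsPushout

end Groth.Agent.R2.H25.FieldEqvRel
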