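import Mathlib
import Groth.Agent.R2.H25FieldEqvRel
import Groth.Agent.R2.H25DecentQc

/-!
# The residue field of a point with finite fibres (helper25)

Let `X` be an algebraic space and `q : Spec K ⟶ X` a field-valued point such that
`Spec K ×_X Spec K = Spec B` is affine and finite over `Spec K`.  Then the point of `q` is
represented by a monomorphism `Spec k' ⟶ X`, where `k' ⊆ K` is the equalizer of the two maps
`K ⇉ B`.
-/

set_option autoImplicit false
universe u
open CategoryTheory CategoryTheory.Limits AlgebraicGeometry Topology TopologicalSpace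

namespace Groth.Agent.R2.H25.DecentCore

open Opposite MorphismProperty Groth.Agent.R2.H25.FieldEqvRel

variable {S : Scheme.{u}}

section Affine

variable {X : AlgSp.Sp S} (q : AlgSp.FieldPt X) {Bc : CommRingCat.{u}}
  (sC tC : CommRingCat.of q.K ⟶ Bc) (hst : Spec.map tC ≫ q.str = Spec.map sC ≫ q.str)

/-- the relation scheme `Spec B` over `S`. -/
noncomputable abbrev Rel : Over S := Over.mk (Spec.map sC ≫ q.str)

/-- source map. -/
noncomputable abbrev srcMap : Rel q sC ⟶ q.pt := Over.homMk (Spec.map sC) rfl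

/-- target map. -/
noncomputable abbrev tgtMap : Rel q sC ⟶ q.pt := Over.homMk (Spec.map tC) hst

/-- a `D`-valued point of `Spec K` as a scheme over `S`. -/
noncomputable abbrev ptOver {D : CommRingCat.{u}} (σ : CommRingCat.of q.K ⟶ D) : Over S :=
  Over.mk (Spec.map σ ≫ q.str)

/-- the morphism to `Spec K` over `S` of a `D`-valued point. -/
noncomputable abbrev ptHom {D : CommRingCat.{u}} (σ τ : CommRingCat.of q.K ⟶ D)
    (h : Spec.map τ ≫ q.str = Spec.map σ ≫ q.str) : ptOver q σ ⟶ q.pt :=
  Over.homMk (Spec.map τ) h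

/-- the morphism to `Spec B` over `S` of a `D`-valued point. -/
noncomputable abbrev relHom {D : CommRingCat.{u}} (σ : CommRingCat.of q.K ⟶ D) (γ : Bc ⟶ D)
    (h : Spec.map γ ≫ Spec.map sC ≫ q.str = Spec.map σ ≫ q.str) : ptOver q σ ⟶ Rel q sC :=
  Over.homMk (Spec.map γ) h

variable (sq : IsPullback ((AlgSp.yon S).map (tgtMap q sC tC hst)) ((AlgSp.yon S).map (srcMap q sC))
  q.toHom q.toHom)

include sq

/-- every pair of `T`-valued points of `Spec K` with the same image in `X` comes from a unique
point of the relation. -/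
lemma exists_rel_lift {T : Over S} (a b : T ⟶ q.pt)
    (h : (AlgSp.yon S).map a ≫ q.toHom = (AlgSp.yon S).map b ≫ q.toHom) :
    ∃ r : T ⟶ Rel q sC, r ≫ tgtMap q sC tC hst = a ∧ r ≫ srcMap q sC = b := by
  obtain ⟨r, hr⟩ := (AlgSp.yon S).map_surjective (sq.lift _ _ h)
  refine ⟨r, ?_, ?_⟩
  · apply (AlgSp.yon S).map_injective
    rw [Functor.map_comp, hr, sq.lift_fst]
  · apply (AlgSp.yon S).map_injective
    rw [Functor.map_comp, hr, sq.lift_snd]

lemma rel_hom_ext {T : Over S} (r r' : T ⟶ Rel q sC)
    (h1 : r ≫ tgtMap q sC tC hst = r' ≫ tgtMap q sC tC hst)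
    (h2 : r ≫ srcMap q sC = r' ≫ srcMap q sC) : r = r' := by
  apply (AlgSp.yon S).map_injective
  apply sq.hom_ext
  · rw [← Functor.map_comp, ← Functor.map_comp, h1]
  · rw [← Functor.map_comp, ← Functor.map_comp, h2]

/-- transitivity. -/
lemma trans_of_isPullback : Trans sC.hom tC.hom := by
  intro D _ α β hαβ
  let αC : Bc ⟶ CommRingCat.of D := CommRingCat.ofHom α
  let βC : Bc ⟶ CommRingCat.of D := CommRingCat.ofHom β
  have hαβC : tC ≫ αC = sC ≫ βC := by
    apply CommRingCat.hom_ext
    exact hαβ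
  let σ : CommRingCat.of q.K ⟶ CommRingCat.of D := sC ≫ αC
  have hA : Spec.map αC ≫ Spec.map sC ≫ q.str = Spec.map σ ≫ q.str := by
    rw [← Category.assoc, ← Spec.map_comp]
  have hB : Spec.map βC ≫ Spec.map sC ≫ q.str = Spec.map σ ≫ q.str := by
    rw [← Category.assoc, ← Spec.map_comp, ← hαβC, Spec.map_comp, Category.assoc, hst,
      ← Category.assoc, ← Spec.map_comp]
  let A := relHom q sC σ αC hA
  let Bm := relHom q sC σ βC hB
  have hAB : Bm ≫ srcMap q sC = A ≫ tgtMap q sC tC hst := by
    apply Over.OverMorphism.ext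
    show Spec.map βC ≫ Spec.map sC = Spec.map αC ≫ Spec.map tC
    rw [← Spec.map_comp, ← Spec.map_comp, hαβC]
  have hw : (AlgSp.yon S).map (Bm ≫ tgtMap q sC tC hst) ≫ q.toHom =
      (AlgSp.yon S).map (A ≫ srcMap q sC) ≫ q.toHom := by
    rw [Functor.map_comp, Category.assoc, sq.w, ← Category.assoc, ← Functor.map_comp, hAB,
      Functor.map_comp, Category.assoc, sq.w, ← Category.assoc, ← Functor.map_comp]
  obtain ⟨g, hg1, hg2⟩ := exists_rel_lift q sC tC hst sq _ _ hw
  refine ⟨(Spec.preimage g.left).hom, ?_, ?_⟩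
  · have h := congrArg (fun m => m.left) hg2
    simp only [Over.comp_left, Over.homMk_left] at h
    have h' : Spec.map (sC ≫ Spec.preimage g.left) = Spec.map (sC ≫ αC) := by
      rw [Spec.map_comp, Spec.map_preimage, Spec.map_comp]; exact h
    have := Spec.map_injective h'
    exact congrArg CommRingCat.Hom.hom this
  · have h := congrArg (fun m => m.left) hg1
    simp only [Over.comp_left, Over.homMk_left] at h
    have h' : Spec.map (tC ≫ Spec.preimage g.left) = Spec.map (tC ≫ βC) := by
      rw [Spec.map_comp, Spec.map_preimage, Spec.map_comp]; exact h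
    have := Spec.map_injective h'
    exact congrArg CommRingCat.Hom.hom this

/-- joint epimorphy. -/
lemma jointlyEpi_of_isPullback : JointlyEpi sC.hom tC.hom := by
  intro D _ γ₁ γ₂ h1 h2
  let γ₁C : Bc ⟶ CommRingCat.of D := CommRingCat.ofHom γ₁
  let γ₂C : Bc ⟶ CommRingCat.of D := CommRingCat.ofHom γ₂
  have h1C : sC ≫ γ₁C = sC ≫ γ₂C := by apply CommRingCat.hom_ext; exact h1
  have h2C : tC ≫ γ₁C = tC ≫ γ₂C := by apply CommRingCat.hom_ext; exact h2
  let σ : CommRingCat.of q.K ⟶ CommRingCat.of D := sC ≫ γ₁C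
  have hA : Spec.map γ₁C ≫ Spec.map sC ≫ q.str = Spec.map σ ≫ q.str := by
    rw [← Category.assoc, ← Spec.map_comp]
  have hB : Spec.map γ₂C ≫ Spec.map sC ≫ q.str = Spec.map σ ≫ q.str := by
    rw [← Category.assoc, ← Spec.map_comp, ← h1C]
  have := rel_hom_ext q sC tC hst sq (relHom q sC σ γ₁C hA) (relHom q sC σ γ₂C hB)
    (by
      apply Over.OverMorphism.ext
      show Spec.map γ₁C ≫ Spec.map tC = Spec.map γ₂C ≫ Spec.map tC
      rw [← Spec.map_comp, ← Spec.map_comp, h2C])
    (by
      apply Over.OverMorphism.ext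
      show Spec.map γ₁C ≫ Spec.map sC = Spec.map γ₂C ≫ Spec.map sC
      rw [← Spec.map_comp, ← Spec.map_comp, h1C])
  have h3 : Spec.map γ₁C = Spec.map γ₂C := congrArg (fun m => m.left) this
  have h4 := Spec.map_injective h3
  exact congrArg CommRingCat.Hom.hom h4

/-- the relation is nonempty: the diagonal. -/
lemma nontrivial_of_isPullback : Nontrivial Bc := by
  obtain ⟨δ, hδ1, -⟩ := exists_rel_lift q sC tC hst sq (𝟙 q.pt) (𝟙 q.pt) rfl
  have e : Bc ⟶ CommRingCat.of q.K := Spec.preimage δ.left
  exact e.hom.domain_nontrivial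

end Affine

section Yoneda

variable {X : AlgSp.Sp S} (q : AlgSp.FieldPt X)

/-- two `T`-valued points of `Spec K` have the same image in `X` iff the pullbacks of `q.val` agree. -/
lemma map_val_eq_iff {T : Over S} (a b : T ⟶ q.pt) :
    X.obj.map a.op q.val = X.obj.map b.op q.val ↔
      (AlgSp.yon S).map a ≫ q.toHom = (AlgSp.yon S).map b ≫ q.toHom := by
  have key : ∀ c : T ⟶ q.pt, (AlgSp.J S).uliftYonedaEquiv ((AlgSp.yon S).map c ≫ q.toHom) =
      X.obj.map c.op q.val := by
    intro c
    rw [GrothendieckTopology.uliftYonedaEquiv_comp,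
      GrothendieckTopology.uliftYonedaEquiv_uliftYoneda_map]
    erw [AlgSp.FieldPt.toHom_app]
  rw [← (AlgSp.J S).uliftYonedaEquiv.apply_eq_iff_eq, key, key]

/-- composing `toHom` with a morphism of schemes over `S`. -/
lemma yon_map_comp_toHom_eq {p : AlgSp.FieldPt X} (c : q.pt ⟶ p.pt)
    (h : X.obj.map c.op p.val = q.val) : (AlgSp.yon S).map c ≫ p.toHom = q.toHom := by
  apply (AlgSp.J S).uliftYonedaEquiv.injective
  rw [GrothendieckTopology.uliftYonedaEquiv_comp,
    GrothendieckTopology.uliftYonedaEquiv_uliftYoneda_map, AlgSp.FieldPt.uliftYonedaEquiv_toHom]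
  erw [AlgSp.FieldPt.toHom_app]
  exact h

/-- `p.toHom` is a monomorphism as soon as it is injective on sections. -/
lemma mono_toHom_of_injective (p : AlgSp.FieldPt X)
    (h : ∀ (T : Over S) (α β : T ⟶ p.pt), X.obj.map α.op p.val = X.obj.map β.op p.val → α = β) :
    Mono p.toHom := by
  haveI : ∀ T, Mono (p.toHom.hom.app T) := by
    intro T
    rw [mono_iff_injective]
    rintro ⟨α⟩ ⟨β⟩ hαβ
    have h1 : p.toHom.hom.app (op T.unop) ⟨α⟩ = p.toHom.hom.app (op T.unop) ⟨β⟩ := hαβ
    rw [AlgSp.FieldPt.toHom_app, AlgSp.FieldPt.toHom_app] at h1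
    exact congrArg ULift.up (h _ α β h1)
  haveI : Mono p.toHom.hom := NatTrans.mono_of_mono_app _
  exact (ObjectProperty.ι _).mono_of_mono_map (inferInstanceAs (Mono p.toHom.hom))

end Yoneda

section Descent

variable {X : AlgSp.Sp S} (q : AlgSp.FieldPt X) {Bc : CommRingCat.{u}}
  (sC tC : CommRingCat.of q.K ⟶ Bc) (hst : Spec.map tC ≫ q.str = Spec.map sC ≫ q.str)

/-- the point of `q` is represented by a monomorphism from the spectrum of the equalizer subfield,
when `Spec K ×_X Spec K = Spec B` with `B` finite over `K`. -/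
theorem exists_mono_of_affine
    (sq : IsPullback ((AlgSp.yon S).map (tgtMap q sC tC hst)) ((AlgSp.yon S).map (srcMap q sC))
      q.toHom q.toHom) (hfin : sC.hom.Finite) :
    ∃ p : AlgSp.FieldPt X, AlgSp.Points.mk p = AlgSp.Points.mk q ∧ Mono p.toHom := by
  haveI := nontrivial_of_isPullback q sC tC hst sq
  have htr := trans_of_isPullback q sC tC hst sq
  have hepi := jointlyEpi_of_isPullback q sC tC hst sq
  -- the equalizer subfield and its inclusion
  let kf : Subfield q.K := eqField sC.hom tC.hom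
  let incl : CommRingCat.of kf ⟶ CommRingCat.of q.K := CommRingCat.ofHom kf.subtype
  haveI hfk : Module.Finite kf q.K := by
    haveI : Module.Finite q.K (Via sC.hom) := hfin
    exact finite_eqField sC.hom tC.hom htr
  have hpush := isPushout sC.hom tC.hom htr hfin hepi
  have hpb : IsPullback (Spec.map sC) (Spec.map tC) (Spec.map incl) (Spec.map incl) :=
    isPullback_SpecMap_of_isPushout _ _ _ _ hpush
  -- the structure map of `Spec k'`
  set s₀ := q.str (IsLocalRing.closedPoint q.K) with hs₀
  have hθ := Scheme.descResidueField_stalkClosedPointTo_fromSpecResidueField q.K S q.str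
  set θ := Scheme.descResidueField (Scheme.stalkClosedPointTo q.str) with hθdef
  have hθeq : θ ≫ sC = θ ≫ tC := by
    apply Spec.map_injective
    rw [← cancel_mono (S.fromSpecResidueField s₀), Spec.map_comp, Spec.map_comp, Category.assoc,
      Category.assoc, hθ, hst]
  let θ' : S.residueField s₀ ⟶ CommRingCat.of kf :=
    CommRingCat.ofHom (θ.hom.codRestrict kf (fun z => by
      show sC.hom (θ.hom z) = tC.hom (θ.hom z)
      exact congrArg (fun m => m.hom z) hθeq))
  have hθ' : θ' ≫ incl = θ := by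
    apply CommRingCat.hom_ext
    ext z
    rfl
  let str' : Spec (CommRingCat.of kf) ⟶ S := Spec.map θ' ≫ S.fromSpecResidueField s₀
  have hstr' : Spec.map incl ≫ str' = q.str := by
    rw [← Category.assoc, ← Spec.map_comp, hθ', hθ]
  let Pk : Over S := Over.mk str'
  let c : q.pt ⟶ Pk := Over.homMk (Spec.map incl) hstr'
  -- `c` is an fppf covering
  haveI : Flat (Spec.map incl) := by
    rw [Flat.SpecMap_iff]
    show (kf.subtype : kf →+* q.K).Flat
    rw [RingHom.Flat]
    infer_instance
  haveI : Surjective (Spec.map incl) := by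
    refine ⟨fun y => ⟨IsLocalRing.closedPoint q.K, ?_⟩⟩
    exact (inferInstance : Subsingleton (PrimeSpectrum kf)).elim _ _
  haveI : LocallyOfFinitePresentation (Spec.map incl) := by
    rw [HasRingHomProperty.Spec_iff (P := @LocallyOfFinitePresentation)]
    show (kf.subtype : kf →+* q.K).FinitePresentation
    have h1 : (algebraMap kf q.K).Finite := hfk
    exact RingHom.FinitePresentation.of_finiteType.1 h1.finiteType
  have hcov : Presieve.singleton c.left ∈ Scheme.fppfPrecoverage Pk.left :=
    Scheme.Hom.singleton_mem_fppfPrecoverage (Spec.map incl)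
  -- the equalizer coequalizes
  have hcoeq : srcMap q sC ≫ c = tgtMap q sC tC hst ≫ c := by
    apply Over.OverMorphism.ext
    show Spec.map sC ≫ Spec.map incl = Spec.map tC ≫ Spec.map incl
    exact hpb.w
  -- descent of the section
  have hsh : Presieve.IsSheafFor X.obj (Presieve.singleton c) := by
    rw [Presieve.isSheafFor_iff_generate]
    exact (isSheaf_iff_isSheaf_of_type _ _).1 X.property _
      (Groth.Agent.Lib.Helper12.QuotShLib.generate_singleton_mem_J Scheme.fppfPrecoverage c hcov)
  rw [Presieve.isSheafFor_singleton] at hsh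
  have hcompat : ∀ {Z : Over S} (p₁ p₂ : Z ⟶ q.pt), p₁ ≫ c = p₂ ≫ c →
      X.obj.map p₁.op q.val = X.obj.map p₂.op q.val := by
    intro Z p₁ p₂ h
    have h' : p₁.left ≫ Spec.map incl = p₂.left ≫ Spec.map incl :=
      congrArg (fun m => m.left) h
    let l := hpb.lift p₁.left p₂.left h'
    have hl1 : l ≫ Spec.map sC = p₁.left := hpb.lift_fst _ _ _
    have hl2 : l ≫ Spec.map tC = p₂.left := hpb.lift_snd _ _ _
    let l' : Z ⟶ Rel q sC := Over.homMk l (by
      show l ≫ Spec.map sC ≫ q.str = Z.hom
      rw [← Category.assoc, hl1]; exact Over.w p₁)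
    have e1 : p₁ = l' ≫ srcMap q sC := by
      apply Over.OverMorphism.ext; exact hl1.symm
    have e2 : p₂ = l' ≫ tgtMap q sC tC hst := by
      apply Over.OverMorphism.ext; exact hl2.symm
    rw [map_val_eq_iff, e1, e2, Functor.map_comp, Functor.map_comp, Category.assoc, Category.assoc,
      sq.w]
  obtain ⟨ξ, hξ, -⟩ := hsh q.val hcompat
  let p : AlgSp.FieldPt X := ⟨kf, str', ξ⟩
  have hcp : (AlgSp.yon S).map c ≫ p.toHom = q.toHom := yon_map_comp_toHom_eq q (p := p) c hξ
  refine ⟨p, ?_, ?_⟩
  · refine AlgSp.Points.sound ⟨q.K, inferInstance, q.str, c, 𝟙 _, ?_⟩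
    rw [op_id, Functor.map_id_apply]
    exact hξ
  · refine mono_toHom_of_injective p (fun T α β hαβ => ?_)
    -- lift `α`, `β` fppf locally to `Spec K`
    let π₁ := pullback.fst α c
    let a₁ := pullback.snd α c
    have hc1 : π₁ ≫ α = a₁ ≫ c := pullback.condition
    let π₂ := pullback.fst (π₁ ≫ β) c
    let b := pullback.snd (π₁ ≫ β) c
    have hc2 : π₂ ≫ π₁ ≫ β = b ≫ c := pullback.condition
    have hflat : ∀ {T' : Over S} (γ : T' ⟶ Pk),
        Flat (pullback.fst γ c).left ∧ Surjective (pullback.fst γ c).left := by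
      intro T' γ
      have hsq : IsPullback (pullback.fst γ c).left (pullback.snd γ c).left γ.left c.left :=
        (IsPullback.of_hasPullback γ c).map (Over.forget S)
      exact ⟨MorphismProperty.of_isPullback (P := @Flat) hsq.flip
          (inferInstanceAs (Flat (Spec.map incl))),
        MorphismProperty.of_isPullback (P := @Surjective) hsq.flip
          (inferInstanceAs (Surjective (Spec.map incl)))⟩
    haveI := (hflat α).1
    haveI := (hflat α).2
    haveI := (hflat (π₁ ≫ β)).1
    haveI := (hflat (π₁ ≫ β)).2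
    haveI : Epi π₁.left := Flat.epi_of_flat_of_surjective _
    haveI : Epi π₂.left := Flat.epi_of_flat_of_surjective _
    have hab : X.obj.map (π₂ ≫ a₁).op q.val = X.obj.map b.op q.val := by
      rw [← hξ]
      have e1 : ∀ {T' : Over S} (g : T' ⟶ q.pt),
          X.obj.map g.op (X.obj.map c.op ξ) = X.obj.map (g ≫ c).op ξ := by
        intro T' g
        rw [op_comp, Functor.map_comp]; rfl
      rw [e1, e1, Category.assoc, ← hc1, ← hc2]
      have e2 : ∀ (γ : T ⟶ Pk), X.obj.map (π₂ ≫ π₁ ≫ γ).op ξ =
          X.obj.map (π₂ ≫ π₁).op (X.obj.map γ.op ξ) := by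
        intro γ
        rw [← Category.assoc, op_comp, Functor.map_comp]; rfl
      rw [e2 α, e2 β]
      exact congrArg _ hαβ
    rw [map_val_eq_iff] at hab
    obtain ⟨r, hr1, hr2⟩ := exists_rel_lift q sC tC hst sq _ _ hab
    have h3 : (π₂ ≫ π₁) ≫ α = (π₂ ≫ π₁) ≫ β := by
      rw [Category.assoc, Category.assoc, hc1, hc2, ← Category.assoc, ← hr1, ← hr2, Category.assoc,
        Category.assoc, hcoeq]
    have h4 : (π₂.left ≫ π₁.left) ≫ α.left = (π₂.left ≫ π₁.left) ≫ β.left :=
      congrArg (fun m => m.left) h3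
    apply Over.OverMorphism.ext
    exact (cancel_epi (π₂.left ≫ π₁.left)).1 h4

end Descent

section General

variable {X : AlgSp.Sp S} (q : AlgSp.FieldPt X)

/-- the point of `q` is represented by a monomorphism from the spectrum of a field, when
`Spec K ×_X Spec K` is a quasi-compact scheme, locally quasi-finite over `Spec K`. -/
theorem exists_mono_of_isPullback {R : Over S} (s t : R ⟶ q.pt)
    (sq : IsPullback ((AlgSp.yon S).map t) ((AlgSp.yon S).map s) q.toHom q.toHom)
    [LocallyQuasiFinite s.left] [CompactSpace ↥R.left] :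
    ∃ p : AlgSp.FieldPt X, AlgSp.Points.mk p = AlgSp.Points.mk q ∧ Mono p.toHom := by
  haveI : IsAffine q.pt.left := (inferInstance : IsAffine (Spec (CommRingCat.of q.K)))
  haveI : QuasiSeparatedSpace ↥q.pt.left :=
    (inferInstance : QuasiSeparatedSpace ↥(Spec (CommRingCat.of q.K)))
  haveI : QuasiCompact s.left := quasiCompact_of_compactSpace _
  haveI : IsLocallyArtinian q.pt.left := by
    show IsLocallyArtinian (Spec (CommRingCat.of q.K))
    exact Scheme.isLocallyArtinianScheme_Spec.mpr inferInstance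
  haveI : IsFinite s.left := IsFinite.of_locallyQuasiFinite s.left
  haveI : IsAffine R.left := isAffine_of_isAffineHom s.left
  let e := R.left.isoSpec
  let sC : CommRingCat.of q.K ⟶ Γ(R.left, ⊤) := Spec.preimage (e.inv ≫ s.left)
  let tC : CommRingCat.of q.K ⟶ Γ(R.left, ⊤) := Spec.preimage (e.inv ≫ t.left)
  have hsC : Spec.map sC = e.inv ≫ s.left := Spec.map_preimage _
  have htC : Spec.map tC = e.inv ≫ t.left := Spec.map_preimage _
  have hws : s.left ≫ q.str = R.hom := Over.w s
  have hwt : t.left ≫ q.str = R.hom := Over.w t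
  have hst : Spec.map tC ≫ q.str = Spec.map sC ≫ q.str := by
    rw [hsC, htC, Category.assoc, Category.assoc, hws, hwt]
  let ε : Rel q sC ≅ R := Over.isoMk e.symm (by
    show e.inv ≫ R.hom = Spec.map sC ≫ q.str
    rw [hsC, Category.assoc, hws])
  have hεs : ε.hom ≫ s = srcMap q sC := by
    apply Over.OverMorphism.ext
    show e.inv ≫ s.left = Spec.map sC
    exact hsC.symm
  have hεt : ε.hom ≫ t = tgtMap q sC tC hst := by
    apply Over.OverMorphism.ext
    show e.inv ≫ t.left = Spec.map tC
    exact htC.symm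
  have sq' : IsPullback ((AlgSp.yon S).map (tgtMap q sC tC hst))
      ((AlgSp.yon S).map (srcMap q sC)) q.toHom q.toHom := by
    refine sq.of_iso' ((AlgSp.yon S).mapIso ε) (Iso.refl _) (Iso.refl _) (Iso.refl _) ?_ ?_ ?_ ?_
    · rw [Iso.refl_hom, Category.comp_id, Functor.mapIso_hom, ← Functor.map_comp, hεt]
    · rw [Iso.refl_hom, Category.comp_id, Functor.mapIso_hom, ← Functor.map_comp, hεs]
    · simp
    · simp
  have hfin : sC.hom.Finite := by
    have : IsFinite (Spec.map sC) := by rw [hsC]; infer_instance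
    exact (IsFinite.SpecMap_iff sC).1 this
  exact exists_mono_of_affine q sC tC hst sq' hfin

end General

/-- the point of an etale chart `(U, u)` of an algebraic space is represented by a monomorphism from
the spectrum of a field, when `Spec κ(u) ×_X Spec κ(u)` is quasi-compact. -/
theorem exists_mono_of_chart (X : AlgSp.Space S) {U : Over S} (a : (AlgSp.yon S).obj U ⟶ X.obj)
    (hae : AlgSp.RepWith @Etale a) (u : ↥U.left)
    (hc : ∀ (R : Over S) (s t : R ⟶ (AlgSp.FieldPt.ofPt a u).pt),
      IsPullback ((AlgSp.yon S).map t) ((AlgSp.yon S).map s) (AlgSp.FieldPt.ofPt a u).toHom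
        (AlgSp.FieldPt.ofPt a u).toHom → CompactSpace ↥R.left) :
    ∃ p : AlgSp.FieldPt X.obj, AlgSp.Points.mk p = AlgSp.Points.ofPt a u ∧ Mono p.toHom := by
  set q := AlgSp.FieldPt.ofPt a u with hq
  have hLQF : AlgSp.RepWith @LocallyQuasiFinite q.toHom := by
    rw [AlgSp.FieldPt.toHom_ofPt]
    refine (AlgSp.RepWith @LocallyQuasiFinite).comp_mem _ _
      ((AlgSp.repWith_yon_map_iff _ _).2 ?_)
      ⟨hae.1, fun _ _ g fst snd BC => by
        haveI : Etale snd.left := hae.2 g fst snd BC
        exact Groth.Agent.S10265.locallyQuasiFinite_of_unramified snd.left⟩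
    show LocallyQuasiFinite (U.left.fromSpecResidueField u)
    infer_instance
  obtain ⟨R, s, t', sq⟩ := hLQF.1 q.toHom
  obtain ⟨t, rfl⟩ := (AlgSp.yon S).map_surjective t'
  haveI : LocallyQuasiFinite s.left := hLQF.2 _ _ s sq
  haveI : CompactSpace ↥R.left := hc R s t sq
  exact exists_mono_of_isPullback q s t sq

end Groth.Agent.R2.H25.DecentCore
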