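import Mathlib
import Groth.Agent.R2.H25DecentCore
import Groth.Agent.S10177
import Groth.Agent.Lib.Helper12QcPoint

/-!
# Quasi-compactness of field points only depends on the point (helper25)

* `repWith_quasiCompact_of_comp_surjective`: representable quasi-compactness of `h_A ⟶ F` descends
  along a surjective morphism of schemes `A' ⟶ A`.
* `repWith_quasiCompact_of_rel`: if `Spec K ⟶ X` is representable quasi-compact then so is every
  equivalent field point `Spec K' ⟶ X`.
* `compactSpace_of_repWith_quasiCompact`: `Spec K ×_X Spec K` is quasi-compact when `Spec K ⟶ X` is.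
* `exists_mono_quasiCompact_of_quasiCompact`: (5) ⇒ (4).
-/

set_option autoImplicit false
universe u
open CategoryTheory CategoryTheory.Limits AlgebraicGeometry Topology TopologicalSpace

namespace Groth.Agent.R2.H25.DecentEquiv

open Opposite MorphismProperty

variable {S : Scheme.{u}}

/-- quasi-compactness descends along a surjective morphism on the source. -/
lemma quasiCompact_of_comp_surjective {A B C : Scheme.{u}} (g : A ⟶ B) (f : B ⟶ C)
    [QuasiCompact (g ≫ f)] [Surjective g] : QuasiCompact f := by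
  rw [quasiCompact_iff]
  intro U hU hUc
  have h1 : IsCompact ((g ≫ f).base ⁻¹' U) :=
    (quasiCompact_iff (g ≫ f)).mp inferInstance U hU hUc
  have h2 : f.base ⁻¹' U = g.base '' ((g ≫ f).base ⁻¹' U) := by
    rw [Scheme.Hom.comp_base, TopCat.coe_comp, Set.preimage_comp,
      Set.image_preimage_eq _ g.surjective]
  rw [h2]
  exact h1.image g.base.hom.continuous

/-- representable quasi-compactness of `h_A ⟶ F` descends along a surjective `A' ⟶ A`. -/
theorem repWith_quasiCompact_of_comp_surjective {F : AlgSp.Sp S} {A' A : Over S} (h : A' ⟶ A)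
    [Surjective h.left] (f : (AlgSp.yon S).obj A ⟶ F) (hrep : AlgSp.Representable f)
    (hq : AlgSp.RepWith @QuasiCompact ((AlgSp.yon S).map h ≫ f)) :
    AlgSp.RepWith @QuasiCompact f := by
  refine ⟨hrep, ?_⟩
  intro T W g pr' w sq
  obtain ⟨pr, rfl⟩ := (AlgSp.yon S).map_surjective pr'
  obtain ⟨W', w', pr'', sq'⟩ := hq.1 g
  obtain ⟨pr₂, rfl⟩ := (AlgSp.yon S).map_surjective pr''
  haveI : QuasiCompact w'.left := hq.2 g _ w' sq'
  -- the comparison morphism `W' ⟶ W`
  obtain ⟨l, hl⟩ := (AlgSp.yon S).map_surjective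
    (sq.lift ((AlgSp.yon S).map pr₂ ≫ (AlgSp.yon S).map h) ((AlgSp.yon S).map w')
      (by rw [Category.assoc]; exact sq'.w))
  have hl1 : (AlgSp.yon S).map l ≫ (AlgSp.yon S).map pr =
      (AlgSp.yon S).map pr₂ ≫ (AlgSp.yon S).map h := by rw [hl]; exact sq.lift_fst _ _ _
  have hl2 : (AlgSp.yon S).map l ≫ (AlgSp.yon S).map w = (AlgSp.yon S).map w' := by
    rw [hl]; exact sq.lift_snd _ _ _
  have hpb : IsPullback ((AlgSp.yon S).map l) ((AlgSp.yon S).map pr₂) ((AlgSp.yon S).map pr)
      ((AlgSp.yon S).map h) := by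
    refine IsPullback.of_right ?_ hl1 sq.flip
    rw [hl2]
    exact sq'.flip
  have hl1' : l ≫ pr = pr₂ ≫ h := by
    apply (AlgSp.yon S).map_injective
    rw [Functor.map_comp, Functor.map_comp, hl1]
  have hpb' : IsPullback l pr₂ pr h := IsPullback.of_map (AlgSp.yon S) hl1' hpb
  have hpb'' : IsPullback l.left pr₂.left pr.left h.left := hpb'.map (Over.forget S)
  haveI : Surjective l.left :=
    MorphismProperty.of_isPullback (P := @Surjective) hpb''.flip inferInstance
  have hl2' : l ≫ w = w' := by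
    apply (AlgSp.yon S).map_injective
    rw [Functor.map_comp, hl2]
  have hcomp : l.left ≫ w.left = w'.left := by rw [← Over.comp_left, hl2']
  haveI : QuasiCompact (l.left ≫ w.left) := by rw [hcomp]; infer_instance
  show QuasiCompact w.left
  exact quasiCompact_of_comp_surjective l.left w.left

/-- the section of `X` defined by `h_T ⟶ h_{Spec K} ⟶ X`. -/
lemma uliftYonedaEquiv_map_comp_toHom {X : AlgSp.Sp S} (q : AlgSp.FieldPt X) {T : Over S}
    (c : T ⟶ q.pt) :
    (AlgSp.J S).uliftYonedaEquiv ((AlgSp.yon S).map c ≫ q.toHom) = X.obj.map c.op q.val := by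
  rw [GrothendieckTopology.uliftYonedaEquiv_comp,
    GrothendieckTopology.uliftYonedaEquiv_uliftYoneda_map]
  erw [AlgSp.FieldPt.toHom_app]

/-- equivalent field points become equal over a common field extension. -/
lemma exists_common_of_rel {X : AlgSp.Sp S} {q q' : AlgSp.FieldPt X} (h : AlgSp.FieldPt.Rel q q') :
    ∃ (Ω : Type u) (_ : Field Ω) (w : Spec (CommRingCat.of Ω) ⟶ S) (a : Over.mk w ⟶ q.pt)
      (b : Over.mk w ⟶ q'.pt),
      (AlgSp.yon S).map a ≫ q.toHom = (AlgSp.yon S).map b ≫ q'.toHom := by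
  obtain ⟨Ω, _, w, a, b, hab⟩ := h
  refine ⟨Ω, inferInstance, w, a, b, ?_⟩
  apply (AlgSp.J S).uliftYonedaEquiv.injective
  rw [uliftYonedaEquiv_map_comp_toHom, uliftYonedaEquiv_map_comp_toHom]
  exact hab

/-- representable quasi-compactness of a field point only depends on its class. -/
theorem repWith_quasiCompact_of_rel (X : AlgSp.Space S) {q q' : AlgSp.FieldPt X.obj}
    (h : AlgSp.FieldPt.Rel q q') (hq : AlgSp.RepWith @QuasiCompact q.toHom) :
    AlgSp.RepWith @QuasiCompact q'.toHom := by
  obtain ⟨Ω, _, w, a, b, hab⟩ := exists_common_of_rel h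
  haveI : Surjective b.left := by
    refine ⟨fun y => ⟨(IsLocalRing.closedPoint Ω : PrimeSpectrum Ω), ?_⟩⟩
    exact (inferInstance : Subsingleton (PrimeSpectrum q'.K)).elim _ _
  have hqa : QuasiCompact a.left := by
    haveI : QuasiSeparatedSpace ↥q.pt.left :=
      (inferInstance : QuasiSeparatedSpace ↥(Spec (CommRingCat.of q.K)))
    haveI : CompactSpace ↥(Over.mk w).left :=
      (inferInstance : CompactSpace ↥(Spec (CommRingCat.of Ω)))
    exact quasiCompact_of_compactSpace _
  refine repWith_quasiCompact_of_comp_surjective b q'.toHom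
    (X.property.representable_from_yon q'.toHom) ?_
  rw [← hab]
  exact (AlgSp.RepWith @QuasiCompact).comp_mem _ _ ((AlgSp.repWith_yon_map_iff _ _).2 hqa) hq

/-- `Spec K ×_X Spec K` is quasi-compact when `Spec K ⟶ X` is representable quasi-compact. -/
lemma compactSpace_of_repWith_quasiCompact {X : AlgSp.Sp S} (q : AlgSp.FieldPt X)
    (hq : AlgSp.RepWith @QuasiCompact q.toHom) {R : Over S} (s t : R ⟶ q.pt)
    (sq : IsPullback ((AlgSp.yon S).map t) ((AlgSp.yon S).map s) q.toHom q.toHom) :
    CompactSpace ↥R.left := by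
  haveI : QuasiCompact s.left := hq.2 _ _ s sq
  haveI : CompactSpace ↥q.pt.left := (inferInstance : CompactSpace ↥(Spec (CommRingCat.of q.K)))
  exact QuasiCompact.compactSpace_of_compactSpace s.left

/-- (5) ⇒ (4): a point with a representable quasi-compact field-valued representative has a
monomorphic representable quasi-compact one. -/
theorem exists_mono_quasiCompact_of_quasiCompact (X : AlgSp.Space S) (q : AlgSp.FieldPt X.obj)
    (hq : AlgSp.RepWith @QuasiCompact q.toHom) :
    ∃ p : AlgSp.FieldPt X.obj, AlgSp.Points.mk p = AlgSp.Points.mk q ∧ Mono p.toHom ∧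
      AlgSp.RepWith @QuasiCompact p.toHom := by
  obtain ⟨U, a, hae, has⟩ := X.property.atlas
  obtain ⟨u, hu⟩ := Groth.Agent.S10177.surjective_ofPt a has (AlgSp.Points.mk q)
  have hrel : AlgSp.FieldPt.Rel q (AlgSp.FieldPt.ofPt a u) :=
    AlgSp.Points.mk_eq_mk_iff.1 hu.symm
  have hqu := repWith_quasiCompact_of_rel X hrel hq
  obtain ⟨p, hp, hm⟩ := Groth.Agent.R2.H25.DecentCore.exists_mono_of_chart X a hae u
    (fun R s t sq => compactSpace_of_repWith_quasiCompact _ hqu s t sq)
  have hpq : AlgSp.Points.mk p = AlgSp.Points.mk q := hp.trans hu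
  refine ⟨p, hpq, hm, ?_⟩
  refine Groth.Agent.R2.H25.DecentQc.repWith_quasiCompact_of_finite_fibres X p hm ?_
  intro V b hV hb
  haveI : IsAffine V.left := hV
  rw [hpq]
  exact Groth.Agent.Lib.Helper12.QcPoint.finite_fibre_of_quasiCompact q hq b hb

end Groth.Agent.R2.H25.DecentEquiv
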