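import Mathlib
import Groth.Agent.R2.H25DecentEquiv
import Groth.Agent.S10338

/-!
# Etale over decent is decent (helper25)
-/

set_option autoImplicit false
universe u
open CategoryTheory CategoryTheory.Limits AlgebraicGeometry Topology TopologicalSpace

namespace Groth.Agent.R2.H25.DecentEtale

open Opposite MorphismProperty

variable {S : Scheme.{u}}

/-- a quasi-compact scheme locally quasi-finite over the spectrum of a field is finite. -/
lemma finite_of_locallyQuasiFinite {K : Type u} [Field K] {T : Scheme.{u}}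
    (f : T ⟶ Spec (CommRingCat.of K)) [LocallyQuasiFinite f] [CompactSpace ↥T] : Finite ↥T := by
  haveI : QuasiCompact f := quasiCompact_of_compactSpace _
  have hfin : (Set.univ : Set ↥T).Finite := by
    have := f.finite_preimage_singleton ((⊥ : PrimeSpectrum K) : ↥(Spec (CommRingCat.of K)))
    refine this.subset (fun y _ => ?_)
    exact (inferInstance : Subsingleton (PrimeSpectrum K)).elim _ _
  exact Set.finite_univ_iff.1 hfin

/-- the field point of a point of an etale chart is representable locally quasi-finite. -/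
lemma repWith_locallyQuasiFinite_ofPt {X : AlgSp.Sp S} {U : Over S} (a : (AlgSp.yon S).obj U ⟶ X)
    (hae : AlgSp.RepWith @Etale a) (u : ↥U.left) :
    AlgSp.RepWith @LocallyQuasiFinite (AlgSp.FieldPt.ofPt a u).toHom := by
  rw [AlgSp.FieldPt.toHom_ofPt]
  refine (AlgSp.RepWith @LocallyQuasiFinite).comp_mem _ _
    ((AlgSp.repWith_yon_map_iff _ _).2 ?_)
    ⟨hae.1, fun _ _ g fst snd BC => by
      haveI : Etale snd.left := hae.2 g fst snd BC
      exact Groth.Agent.S10265.locallyQuasiFinite_of_unramified snd.left⟩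
  show LocallyQuasiFinite (U.left.fromSpecResidueField u)
  infer_instance

/-- the relation of `c : h_A ⟶ F` embeds into the relation of `c ≫ f`. -/
lemma exists_mono_of_isPullback_comp {F G : AlgSp.Sp S} (f : F ⟶ G) {A R R' : Over S}
    (c : (AlgSp.yon S).obj A ⟶ F) (s t : R ⟶ A)
    (sq : IsPullback ((AlgSp.yon S).map t) ((AlgSp.yon S).map s) c c) (s' t' : R' ⟶ A)
    (sq' : IsPullback ((AlgSp.yon S).map t') ((AlgSp.yon S).map s') (c ≫ f) (c ≫ f)) :
    ∃ ρ : R ⟶ R', Mono ρ := by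
  obtain ⟨ρ, hρ⟩ := (AlgSp.yon S).map_surjective
    (sq'.lift ((AlgSp.yon S).map t) ((AlgSp.yon S).map s)
      (by rw [← Category.assoc, ← Category.assoc, sq.w]))
  have hρt : ρ ≫ t' = t := by
    apply (AlgSp.yon S).map_injective
    rw [Functor.map_comp, hρ]; exact sq'.lift_fst _ _ _
  have hρs : ρ ≫ s' = s := by
    apply (AlgSp.yon S).map_injective
    rw [Functor.map_comp, hρ]; exact sq'.lift_snd _ _ _
  refine ⟨ρ, ⟨fun {Z} g h hgh => ?_⟩⟩
  have h1 : g ≫ t = h ≫ t := by rw [← hρt, ← Category.assoc, ← Category.assoc, hgh]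
  have h2 : g ≫ s = h ≫ s := by rw [← hρs, ← Category.assoc, ← Category.assoc, hgh]
  apply (AlgSp.yon S).map_injective
  apply sq.hom_ext
  · rw [← Functor.map_comp, ← Functor.map_comp, h1]
  · rw [← Functor.map_comp, ← Functor.map_comp, h2]

/-- etale over decent is decent. -/
theorem isDecent_of_isEtaleMor {X Y : AlgSp.Space S} (f : X ⟶ Y)
    (hf : AlgSp.IsEtaleMor f.hom) (hY : AlgSp.IsDecent Y.obj) : AlgSp.IsDecent X.obj := by
  intro x
  obtain ⟨U₀, a₀, hae, has⟩ := X.property.atlas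
  obtain ⟨u₀, hu₀⟩ := Groth.Agent.S10177.surjective_ofPt a₀ has x
  -- finite fibres of affine etale charts of `X`
  have H : ∀ (V : Over S) (b : (AlgSp.yon S).obj V ⟶ X.obj), IsAffine V.left →
      AlgSp.RepWith @Etale b → (AlgSp.Points.ofPt b ⁻¹' {x}).Finite := by
    intro V b hV hb
    have hfin := Groth.Agent.S10338.finite_fibre_of_isDecent hY (AlgSp.Points.map f.hom x) V
      (b ≫ f.hom) hV (hf b hb)
    refine hfin.subset ?_
    intro v hv
    show AlgSp.Points.ofPt (b ≫ f.hom) v = AlgSp.Points.map f.hom x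
    rw [← AlgSp.Points.map_ofPt]
    exact congrArg _ hv
  set q := AlgSp.FieldPt.ofPt a₀ u₀ with hqdef
  let q' := AlgSp.FieldPt.ofPt (a₀ ≫ f.hom) u₀
  have hae' : AlgSp.RepWith @Etale (a₀ ≫ f.hom) := hf a₀ hae
  have hto : q'.toHom = q.toHom ≫ f.hom := by
    rw [AlgSp.FieldPt.toHom_ofPt, AlgSp.FieldPt.toHom_ofPt, Category.assoc]
    rfl
  -- `q'` is quasi-compact since `Y` is decent
  obtain ⟨pY, hpY, -, hqY⟩ := hY (AlgSp.Points.mk q')
  have hq' : AlgSp.RepWith @QuasiCompact q'.toHom :=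
    Groth.Agent.R2.H25.DecentEquiv.repWith_quasiCompact_of_rel Y (AlgSp.Points.mk_eq_mk_iff.1 hpY) hqY
  have hLQF' := repWith_locallyQuasiFinite_ofPt (a₀ ≫ f.hom) hae' u₀
  obtain ⟨R', s', t'', sq'⟩ := hq'.1 q'.toHom
  obtain ⟨t', rfl⟩ := (AlgSp.yon S).map_surjective t''
  haveI : CompactSpace ↥R'.left :=
    Groth.Agent.R2.H25.DecentEquiv.compactSpace_of_repWith_quasiCompact q' hq' s' t' sq'
  haveI : LocallyQuasiFinite s'.left := hLQF'.2 _ _ s' sq'
  haveI : Finite ↥R'.left := finite_of_locallyQuasiFinite (K := q'.K) s'.left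
  have sq'' : IsPullback ((AlgSp.yon S).map (t' : R' ⟶ q.pt)) ((AlgSp.yon S).map (s' : R' ⟶ q.pt))
      (q.toHom ≫ f.hom) (q.toHom ≫ f.hom) := hto ▸ sq'
  have hc : ∀ (R : Over S) (s t : R ⟶ q.pt),
      IsPullback ((AlgSp.yon S).map t) ((AlgSp.yon S).map s) q.toHom q.toHom →
        CompactSpace ↥R.left := by
    intro R s t sq
    obtain ⟨ρ, hρm⟩ := exists_mono_of_isPullback_comp f.hom q.toHom s t sq (s' : R' ⟶ q.pt) t' sq''
    haveI := hρm
    haveI : Mono ρ.left := inferInstance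
    haveI : Finite ↥R.left := Finite.of_injective _ ρ.left.injective
    infer_instance
  obtain ⟨p, hp, hm⟩ := Groth.Agent.R2.H25.DecentCore.exists_mono_of_chart X a₀ hae u₀ hc
  have hpx : AlgSp.Points.mk p = x := hp.trans hu₀
  refine ⟨p, hpx, hm, ?_⟩
  refine Groth.Agent.R2.H25.DecentQc.repWith_quasiCompact_of_finite_fibres X p hm ?_
  rw [hpx]
  exact H

end Groth.Agent.R2.H25.DecentEtale
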