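import Mathlib
import Groth.Agent.R2.H25DecentEquiv

/-!
# (1) ⇔ (4) for points of algebraic spaces (helper25)

For a point `x` of an algebraic space `X`: the fibres over `x` of `|U| → |X|` and `|U ×_X U| → |X|`
are finite for every affine etale chart `U` iff `x` is represented by a quasi-compact monomorphism
`Spec k ⟶ X`.
-/

set_option autoImplicit false
universe u
open CategoryTheory CategoryTheory.Limits AlgebraicGeometry Topology TopologicalSpace

namespace Groth.Agent.R2.H25.DecentIff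

open Opposite MorphismProperty

variable {S : Scheme.{u}}

/-- the fibre product of a quasi-compact field point with an etale chart from a quasi-compact scheme
has finitely many points. -/
lemma finite_of_isPullback {X : AlgSp.Sp S} (q : AlgSp.FieldPt X)
    (hq : AlgSp.RepWith @QuasiCompact q.toHom) {V : Over S} [CompactSpace ↥V.left]
    (b : (AlgSp.yon S).obj V ⟶ X) (hb : AlgSp.RepWith @Etale b) {T : Over S} (pr : T ⟶ q.pt)
    (t : T ⟶ V) (sq : IsPullback ((AlgSp.yon S).map pr) ((AlgSp.yon S).map t) q.toHom b) :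
    Finite ↥T.left := by
  haveI : QuasiCompact t.left := hq.2 _ _ t sq
  haveI : Etale pr.left := hb.2 _ _ pr sq.flip
  haveI : CompactSpace ↥T.left := QuasiCompact.compactSpace_of_compactSpace t.left
  haveI : LocallyQuasiFinite pr.left := Groth.Agent.S10265.locallyQuasiFinite_of_unramified _
  haveI : QuasiSeparatedSpace ↥q.pt.left :=
    (inferInstance : QuasiSeparatedSpace ↥(Spec (CommRingCat.of q.K)))
  haveI : QuasiCompact pr.left := quasiCompact_of_compactSpace _
  have hfin : (Set.univ : Set ↥T.left).Finite := by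
    have := pr.left.finite_preimage_singleton ((⊥ : PrimeSpectrum q.K) : ↥q.pt.left)
    refine this.subset (fun y _ => ?_)
    exact (inferInstance : Subsingleton (PrimeSpectrum q.K)).elim _ _
  exact Set.finite_univ_iff.1 hfin

/-- the points of `R = U ×_X U` with first coordinate `u` are images of points of
`Spec κ(u) ×_X U`. -/
lemma fibre_subset_range {X : AlgSp.Sp S} {U R : Over S} (φ : (AlgSp.yon S).obj U ⟶ X)
    (s t : R ⟶ U) (sq : IsPullback ((AlgSp.yon S).map t) ((AlgSp.yon S).map s) φ φ) (u : ↥U.left)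
    {T : Over S} (pr : T ⟶ (AlgSp.FieldPt.ofPt φ u).pt) (w : T ⟶ U)
    (sqT : IsPullback ((AlgSp.yon S).map pr) ((AlgSp.yon S).map w) (AlgSp.FieldPt.ofPt φ u).toHom φ) :
    ∃ l : T ⟶ R, l ≫ s = w ∧ {r : ↥R.left | t.left r = u} ⊆ Set.range l.left := by
  let ι : (AlgSp.FieldPt.ofPt φ u).pt ⟶ U := Over.homMk (U.left.fromSpecResidueField u) rfl
  have hto : (AlgSp.FieldPt.ofPt φ u).toHom = (AlgSp.yon S).map ι ≫ φ := AlgSp.FieldPt.toHom_ofPt φ u
  obtain ⟨l, hl⟩ := (AlgSp.yon S).map_surjective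
    (sq.lift ((AlgSp.yon S).map pr ≫ (AlgSp.yon S).map ι) ((AlgSp.yon S).map w)
      (by rw [Category.assoc, ← hto]; exact sqT.w))
  have hl1 : (AlgSp.yon S).map l ≫ (AlgSp.yon S).map t =
      (AlgSp.yon S).map pr ≫ (AlgSp.yon S).map ι := by rw [hl]; exact sq.lift_fst _ _ _
  have hl2 : (AlgSp.yon S).map l ≫ (AlgSp.yon S).map s = (AlgSp.yon S).map w := by
    rw [hl]; exact sq.lift_snd _ _ _
  have hpb : IsPullback ((AlgSp.yon S).map l) ((AlgSp.yon S).map pr) ((AlgSp.yon S).map t)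
      ((AlgSp.yon S).map ι) := by
    refine IsPullback.of_right ?_ hl1 sq.flip
    rw [hl2, ← hto]
    exact sqT.flip
  refine ⟨l, ?_, ?_⟩
  · apply (AlgSp.yon S).map_injective
    rw [Functor.map_comp, hl2]
  · intro r hr
    have hr' : t.left r = u := hr
    let c : ↥(AlgSp.FieldPt.ofPt φ u).pt.left :=
      (IsLocalRing.closedPoint (U.left.residueField u) : PrimeSpectrum (U.left.residueField u))
    have hc : ι.left c = u := by
      show U.left.fromSpecResidueField u c = u
      exact Scheme.fromSpecResidueField_apply _ _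
    have e : AlgSp.Points.ofPt ((AlgSp.yon S).map t) r = AlgSp.Points.ofPt ((AlgSp.yon S).map ι) c := by
      have h1 := Groth.Agent.S10176.ofPt_map_comp t (𝟙 ((AlgSp.yon S).obj U)) r
      have h2 := Groth.Agent.S10176.ofPt_map_comp ι (𝟙 ((AlgSp.yon S).obj U)) c
      rw [Category.comp_id] at h1 h2
      rw [h1, h2, hr', hc]
    obtain ⟨y, hy1, -⟩ := Groth.Agent.S10176.exists_point_of_isPullback_yon hpb r c e
    exact ⟨y, hy1⟩

/-- (4) ⇒ (1): a quasi-compact (monomorphic) representative gives finite fibres in all affine etale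
charts and in their relations. -/
theorem finite_fibres_of_quasiCompact (X : AlgSp.Space S) (p : AlgSp.FieldPt X.obj)
    (hq : AlgSp.RepWith @QuasiCompact p.toHom) {U : Over S}
    (φ : (AlgSp.yon S).obj U ⟶ X.obj) (hU : IsAffine U.left) (hφ : AlgSp.RepWith @Etale φ)
    {R : Over S} (s t : R ⟶ U) (sq : IsPullback ((AlgSp.yon S).map t) ((AlgSp.yon S).map s) φ φ) :
    (AlgSp.Points.ofPt φ ⁻¹' {AlgSp.Points.mk p}).Finite ∧
      (AlgSp.Points.ofPt ((AlgSp.yon S).map t ≫ φ) ⁻¹' {AlgSp.Points.mk p}).Finite := by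
  haveI : IsAffine U.left := hU
  haveI : CompactSpace ↥U.left := inferInstance
  have hFU := Groth.Agent.Lib.Helper12.QcPoint.finite_fibre_of_quasiCompact p hq φ hφ
  refine ⟨hFU, ?_⟩
  have hsub : (AlgSp.Points.ofPt ((AlgSp.yon S).map t ≫ φ) ⁻¹' {AlgSp.Points.mk p}) ⊆
      ⋃ u ∈ (AlgSp.Points.ofPt φ ⁻¹' {AlgSp.Points.mk p}), {r : ↥R.left | t.left r = u} := by
    intro r hr
    have hr' : AlgSp.Points.ofPt φ (t.left r) = AlgSp.Points.mk p := by
      rw [← Groth.Agent.S10176.ofPt_map_comp]; exact hr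
    exact Set.mem_biUnion (x := t.left r) hr' rfl
  refine (hFU.biUnion ?_).subset hsub
  intro u hu
  have hrel : AlgSp.FieldPt.Rel p (AlgSp.FieldPt.ofPt φ u) :=
    AlgSp.Points.mk_eq_mk_iff.1 (Eq.symm hu)
  have hqu := Groth.Agent.R2.H25.DecentEquiv.repWith_quasiCompact_of_rel X hrel hq
  obtain ⟨T, w, pr', sqT⟩ := hqu.1 φ
  obtain ⟨pr, rfl⟩ := (AlgSp.yon S).map_surjective pr'
  haveI : Finite ↥T.left := finite_of_isPullback _ hqu φ hφ pr w sqT
  obtain ⟨l, -, hl⟩ := fibre_subset_range φ s t sq u pr w sqT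
  exact (Set.finite_range l.left).subset hl

/-- (1) ⇒ (4): finite fibres in affine etale charts and their relations give a quasi-compact
monomorphic representative. -/
theorem exists_mono_quasiCompact_of_finite_fibres (X : AlgSp.Space S) (x : AlgSp.Points X.obj)
    (H : ∀ (U : Over S) (φ : (AlgSp.yon S).obj U ⟶ X.obj), IsAffine U.left → AlgSp.RepWith @Etale φ →
        ∀ (R : Over S) (s t : R ⟶ U), IsPullback ((AlgSp.yon S).map t) ((AlgSp.yon S).map s) φ φ →
          (AlgSp.Points.ofPt φ ⁻¹' {x}).Finite ∧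
            (AlgSp.Points.ofPt ((AlgSp.yon S).map t ≫ φ) ⁻¹' {x}).Finite) :
    ∃ p : AlgSp.FieldPt X.obj, AlgSp.Points.mk p = x ∧ Mono p.toHom ∧
      AlgSp.RepWith @QuasiCompact p.toHom := by
  obtain ⟨U₀, a₀, hae, has⟩ := X.property.atlas
  obtain ⟨u₀, hu₀⟩ := Groth.Agent.S10177.surjective_ofPt a₀ has x
  obtain ⟨O, hO, huO, -⟩ : ∃ O : U₀.left.Opens, O ∈ U₀.left.affineOpens ∧ u₀ ∈ O ∧ O ≤ ⊤ :=
    TopologicalSpace.Opens.isBasis_iff_nbhd.1 U₀.left.isBasis_affineOpens
      (TopologicalSpace.Opens.mem_top u₀)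
  let V : Over S := Over.mk (O.ι ≫ U₀.hom)
  let jV : V ⟶ U₀ := Over.homMk O.ι rfl
  have hVa : IsAffine V.left := hO
  let φ : (AlgSp.yon S).obj V ⟶ X.obj := (AlgSp.yon S).map jV ≫ a₀
  have hφ : AlgSp.RepWith @Etale φ :=
    (AlgSp.RepWith @Etale).comp_mem _ _
      ((AlgSp.repWith_yon_map_iff _ _).2 (inferInstance : Etale O.ι)) hae
  let v : ↥V.left := ⟨u₀, huO⟩
  have hv : AlgSp.Points.ofPt φ v = x := by
    show AlgSp.Points.ofPt ((AlgSp.yon S).map jV ≫ a₀) v = x
    rw [Groth.Agent.S10176.ofPt_map_comp]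
    exact hu₀
  obtain ⟨R, s, t', sq⟩ := hφ.1 φ
  obtain ⟨t, rfl⟩ := (AlgSp.yon S).map_surjective t'
  have hFR := (H V φ hVa hφ R s t sq).2
  let ι : (AlgSp.FieldPt.ofPt φ v).pt ⟶ V := Over.homMk (V.left.fromSpecResidueField v) rfl
  have hto : (AlgSp.FieldPt.ofPt φ v).toHom = (AlgSp.yon S).map ι ≫ φ := AlgSp.FieldPt.toHom_ofPt φ v
  haveI hιm : Mono ι := by
    haveI : Mono ((Over.forget S).map ι) := by
      show Mono (V.left.fromSpecResidueField v)
      infer_instance
    exact (Over.forget S).mono_of_mono_map inferInstance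
  have hc : ∀ (R' : Over S) (s' t' : R' ⟶ (AlgSp.FieldPt.ofPt φ v).pt),
      IsPullback ((AlgSp.yon S).map t') ((AlgSp.yon S).map s') (AlgSp.FieldPt.ofPt φ v).toHom
        (AlgSp.FieldPt.ofPt φ v).toHom → CompactSpace ↥R'.left := by
    intro R' s' t' sq'
    obtain ⟨ρ, hρ⟩ := (AlgSp.yon S).map_surjective
      (sq.lift ((AlgSp.yon S).map t' ≫ (AlgSp.yon S).map ι) ((AlgSp.yon S).map s' ≫ (AlgSp.yon S).map ι)
        (by rw [Category.assoc, Category.assoc, ← hto]; exact sq'.w))
    have hρt : ρ ≫ t = t' ≫ ι := by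
      apply (AlgSp.yon S).map_injective
      rw [Functor.map_comp, Functor.map_comp, hρ]; exact sq.lift_fst _ _ _
    have hρs : ρ ≫ s = s' ≫ ι := by
      apply (AlgSp.yon S).map_injective
      rw [Functor.map_comp, Functor.map_comp, hρ]; exact sq.lift_snd _ _ _
    haveI : Mono ρ := by
      constructor
      intro Z g h hgh
      have h1 : g ≫ t' = h ≫ t' := by
        rw [← cancel_mono ι, Category.assoc, Category.assoc, ← hρt, ← Category.assoc,
          ← Category.assoc, hgh]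
      have h2 : g ≫ s' = h ≫ s' := by
        rw [← cancel_mono ι, Category.assoc, Category.assoc, ← hρs, ← Category.assoc,
          ← Category.assoc, hgh]
      apply (AlgSp.yon S).map_injective
      apply sq'.hom_ext
      · rw [← Functor.map_comp, ← Functor.map_comp, h1]
      · rw [← Functor.map_comp, ← Functor.map_comp, h2]
    haveI : Mono ρ.left := inferInstance
    have hmem : ∀ r' : ↥R'.left, ρ.left r' ∈
        (AlgSp.Points.ofPt ((AlgSp.yon S).map t ≫ φ) ⁻¹' {x}) := by
      intro r'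
      show AlgSp.Points.ofPt ((AlgSp.yon S).map t ≫ φ) (ρ.left r') = x
      rw [← Groth.Agent.S10176.ofPt_map_comp, ← Category.assoc, ← Functor.map_comp, hρt,
        Functor.map_comp, Category.assoc, ← hto, Groth.Agent.S10176.ofPt_map_comp,
        AlgSp.Points.ofPt_toHom]
      exact hv
    have hfin : (Set.univ : Set ↥R'.left).Finite :=
      (hFR.preimage (ρ.left.injective.injOn)).subset (fun r' _ => hmem r')
    haveI : Finite ↥R'.left := Set.finite_univ_iff.1 hfin
    infer_instance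
  obtain ⟨p, hp, hm⟩ := Groth.Agent.R2.H25.DecentCore.exists_mono_of_chart X φ hφ v hc
  have hpx : AlgSp.Points.mk p = x := hp.trans hv
  refine ⟨p, hpx, hm, ?_⟩
  refine Groth.Agent.R2.H25.DecentQc.repWith_quasiCompact_of_finite_fibres X p hm ?_
  intro V' b hV' hb
  rw [hpx]
  obtain ⟨R₁, s₁, t₁', sq₁⟩ := hb.1 b
  obtain ⟨t₁, rfl⟩ := (AlgSp.yon S).map_surjective t₁'
  exact (H V' b hV' hb R₁ s₁ t₁ sq₁).1

end Groth.Agent.R2.H25.DecentIff
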