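import Mathlib
import Groth.Agent.R2.H25DecentEtale
import Groth.Agent.R2.H25DecentIff
import Groth.Agent.S10215

/-!
# Fibre products of field points of algebraic spaces (helper25)

* `exists_lift_of_comp`: `A' ×_F T ⟶ A ×_F T` is the base change of `A' ⟶ A`.
* `compactSpace_of_rel`: quasi-compactness of `Spec K ×_X T` only depends on the class of the field
  point `Spec K ⟶ X`.
* `compactSpace_of_mono_rep`: if a point has a monomorphic representative `Spec k ⟶ X`, every
  fibre product `Spec K ×_X Spec L` with `Spec K ⟶ X` in the class of the point is quasi-compact.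
-/

set_option autoImplicit false
universe u
open CategoryTheory CategoryTheory.Limits AlgebraicGeometry Topology TopologicalSpace

namespace Groth.Agent.R2.H25.DecentPts

open Opposite MorphismProperty

/-- cancelling a monomorphism from a pullback square. -/
lemma isPullback_of_comp_mono {C : Type*} [Category C] {P A B Y Z : C} {fst : P ⟶ A} {snd : P ⟶ B}
    {f : A ⟶ Y} {g : B ⟶ Y} (i : Y ⟶ Z) [Mono i] (h : IsPullback fst snd (f ≫ i) (g ≫ i)) :
    IsPullback fst snd f g := by
  have hw : fst ≫ f = snd ≫ g := by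
    rw [← cancel_mono i, Category.assoc, Category.assoc]; exact h.w
  refine IsPullback.of_isLimit' ⟨hw⟩ (PullbackCone.IsLimit.mk _
    (fun s => h.lift s.fst s.snd (by rw [← Category.assoc, ← Category.assoc, s.condition]))
    (fun s => h.lift_fst _ _ _) (fun s => h.lift_snd _ _ _)
    (fun s m h1 h2 => h.hom_ext (by rw [h.lift_fst]; exact h1) (by rw [h.lift_snd]; exact h2)))

variable {S : Scheme.{u}}

/-- `A' ×_F T ⟶ A ×_F T` is the base change of `A' ⟶ A`. -/
lemma exists_lift_of_comp {F : AlgSp.Sp S} {A' A T W W' : Over S} (h : A' ⟶ A)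
    (f : (AlgSp.yon S).obj A ⟶ F) (g : (AlgSp.yon S).obj T ⟶ F) (pr : W ⟶ A) (w : W ⟶ T)
    (sq : IsPullback ((AlgSp.yon S).map pr) ((AlgSp.yon S).map w) f g) (pr₂ : W' ⟶ A') (w' : W' ⟶ T)
    (sq' : IsPullback ((AlgSp.yon S).map pr₂) ((AlgSp.yon S).map w') ((AlgSp.yon S).map h ≫ f) g) :
    ∃ l : W' ⟶ W, l ≫ w = w' ∧ IsPullback l.left pr₂.left pr.left h.left := by
  obtain ⟨l, hl⟩ := (AlgSp.yon S).map_surjective
    (sq.lift ((AlgSp.yon S).map pr₂ ≫ (AlgSp.yon S).map h) ((AlgSp.yon S).map w')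
      (by rw [Category.assoc]; exact sq'.w))
  have hl1 : (AlgSp.yon S).map l ≫ (AlgSp.yon S).map pr =
      (AlgSp.yon S).map pr₂ ≫ (AlgSp.yon S).map h := by rw [hl]; exact sq.lift_fst _ _ _
  have hl2 : (AlgSp.yon S).map l ≫ (AlgSp.yon S).map w = (AlgSp.yon S).map w' := by
    rw [hl]; exact sq.lift_snd _ _ _
  have hpb : IsPullback ((AlgSp.yon S).map l) ((AlgSp.yon S).map pr₂) ((AlgSp.yon S).map pr)
      ((AlgSp.yon S).map h) := by
    refine IsPullback.of_right ?_ hl1 sq.flip
    rw [hl2]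
    exact sq'.flip
  have hl1' : l ≫ pr = pr₂ ≫ h := by
    apply (AlgSp.yon S).map_injective
    rw [Functor.map_comp, Functor.map_comp, hl1]
  have hpb' : IsPullback l pr₂ pr h := IsPullback.of_map (AlgSp.yon S) hl1' hpb
  refine ⟨l, ?_, hpb'.map (Over.forget S)⟩
  apply (AlgSp.yon S).map_injective
  rw [Functor.map_comp, hl2]

/-- quasi-compactness of `Spec K ×_X T` only depends on the class of the field point. -/
theorem compactSpace_of_rel {X : AlgSp.Sp S} {q q' : AlgSp.FieldPt X} (hrel : AlgSp.FieldPt.Rel q q')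
    (hrep : AlgSp.Representable q.toHom)
    {T W W' : Over S} (g : (AlgSp.yon S).obj T ⟶ X) (pr : W ⟶ q.pt) (w : W ⟶ T)
    (sq : IsPullback ((AlgSp.yon S).map pr) ((AlgSp.yon S).map w) q.toHom g)
    (pr' : W' ⟶ q'.pt) (w' : W' ⟶ T)
    (sq' : IsPullback ((AlgSp.yon S).map pr') ((AlgSp.yon S).map w') q'.toHom g)
    [CompactSpace ↥W'.left] : CompactSpace ↥W.left := by
  obtain ⟨Ω, _, ω, a, b, hab⟩ := Groth.Agent.R2.H25.DecentEquiv.exists_common_of_rel hrel
  have hrepa : AlgSp.Representable ((AlgSp.yon S).map a ≫ q.toHom) :=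
    (inferInstance : (AlgSp.Representable (S := S)).IsStableUnderComposition).comp_mem _ _
      (AlgSp.representable_yon_map a) hrep
  obtain ⟨P, wP, prP', sqP⟩ := hrepa g
  obtain ⟨prP, rfl⟩ := (AlgSp.yon S).map_surjective prP'
  -- `P ⟶ W` is surjective
  obtain ⟨l, hl, hpb⟩ := exists_lift_of_comp a q.toHom g pr w sq prP wP sqP
  -- `P ⟶ W'` is quasi-compact
  have sqP' : IsPullback ((AlgSp.yon S).map prP) ((AlgSp.yon S).map wP)
      ((AlgSp.yon S).map b ≫ q'.toHom) g := hab ▸ sqP
  obtain ⟨l', hl', hpb'⟩ := exists_lift_of_comp b q'.toHom g pr' w' sq' prP wP sqP'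
  haveI : Surjective a.left := by
    refine ⟨fun y => ⟨(IsLocalRing.closedPoint Ω : PrimeSpectrum Ω), ?_⟩⟩
    exact (inferInstance : Subsingleton (PrimeSpectrum q.K)).elim _ _
  haveI : QuasiCompact b.left := by
    haveI : QuasiSeparatedSpace ↥q'.pt.left :=
      (inferInstance : QuasiSeparatedSpace ↥(Spec (CommRingCat.of q'.K)))
    haveI : CompactSpace ↥(Over.mk ω).left :=
      (inferInstance : CompactSpace ↥(Spec (CommRingCat.of Ω)))
    exact quasiCompact_of_compactSpace _
  haveI : QuasiCompact l'.left :=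
    MorphismProperty.of_isPullback (P := @QuasiCompact) hpb'.flip inferInstance
  haveI : CompactSpace ↥P.left := QuasiCompact.compactSpace_of_compactSpace l'.left
  haveI : Surjective l.left :=
    MorphismProperty.of_isPullback (P := @Surjective) hpb.flip inferInstance
  have hr : Set.range l.left = Set.univ := Set.range_eq_univ.2 l.left.surjective
  exact ⟨hr ▸ isCompact_range l.left.continuous⟩

/-- if a point has a monomorphic representative, every fibre product of a representative of the point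
with a field point is quasi-compact (it is empty or affine). -/
theorem compactSpace_of_mono_rep (X : AlgSp.Space S) (p : AlgSp.FieldPt X.obj) [Mono p.toHom]
    (q q' : AlgSp.FieldPt X.obj) (hq : AlgSp.Points.mk q = AlgSp.Points.mk p) {E : Over S}
    (e1 : E ⟶ q.pt) (e2 : E ⟶ q'.pt)
    (sq : IsPullback ((AlgSp.yon S).map e1) ((AlgSp.yon S).map e2) q.toHom q'.toHom) :
    CompactSpace ↥E.left := by
  by_cases hE : IsEmpty ↥E.left
  · infer_instance
  · rw [not_isEmpty_iff] at hE
    obtain ⟨e⟩ := hE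
    have hq' : AlgSp.Points.mk q' = AlgSp.Points.mk p := by
      rw [← hq, ← AlgSp.Points.ofPt_toHom q (e1.left e), ← AlgSp.Points.ofPt_toHom q' (e2.left e),
        ← Groth.Agent.S10176.ofPt_map_comp, ← Groth.Agent.S10176.ofPt_map_comp, sq.w]
    obtain ⟨c, hc, -⟩ := Groth.Agent.S10215.result X p q hq.symm
    obtain ⟨c', hc', -⟩ := Groth.Agent.S10215.result X p q' hq'.symm
    have sq1 : IsPullback ((AlgSp.yon S).map e1) ((AlgSp.yon S).map e2) ((AlgSp.yon S).map c)
        ((AlgSp.yon S).map c') := by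
      refine isPullback_of_comp_mono p.toHom ?_
      rw [hc, hc']
      exact sq
    have hw : e1 ≫ c = e2 ≫ c' := by
      apply (AlgSp.yon S).map_injective
      rw [Functor.map_comp, Functor.map_comp, sq1.w]
    have sq2 : IsPullback e1 e2 c c' := IsPullback.of_map (AlgSp.yon S) hw sq1
    have sq3 : IsPullback e1.left e2.left c.left c'.left := sq2.map (Over.forget S)
    haveI : IsAffine q.pt.left := (inferInstance : IsAffine (Spec (CommRingCat.of q.K)))
    haveI : IsAffine q'.pt.left := (inferInstance : IsAffine (Spec (CommRingCat.of q'.K)))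
    haveI : IsAffine p.pt.left := (inferInstance : IsAffine (Spec (CommRingCat.of p.K)))
    haveI : IsAffine E.left := .of_isIso sq3.isoPullback.hom
    infer_instance

/-- `Spec κ(u') ×_X Spec κ(u)` embeds into `R = U ×_X U`, with image in the fibre over `(u', u)`. -/
lemma exists_mono_to_rel {X : AlgSp.Sp S} {U R : Over S} (φ : (AlgSp.yon S).obj U ⟶ X)
    (s t : R ⟶ U) (sq : IsPullback ((AlgSp.yon S).map t) ((AlgSp.yon S).map s) φ φ) (u' u : ↥U.left)
    {E : Over S} (e1 : E ⟶ (AlgSp.FieldPt.ofPt φ u').pt) (e2 : E ⟶ (AlgSp.FieldPt.ofPt φ u).pt)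
    (sqE : IsPullback ((AlgSp.yon S).map e1) ((AlgSp.yon S).map e2) (AlgSp.FieldPt.ofPt φ u').toHom
      (AlgSp.FieldPt.ofPt φ u).toHom) :
    ∃ ρ : E ⟶ R, Mono ρ ∧ ∀ e : ↥E.left, t.left (ρ.left e) = u' ∧ s.left (ρ.left e) = u := by
  let ι' : (AlgSp.FieldPt.ofPt φ u').pt ⟶ U := Over.homMk (U.left.fromSpecResidueField u') rfl
  let ι : (AlgSp.FieldPt.ofPt φ u).pt ⟶ U := Over.homMk (U.left.fromSpecResidueField u) rfl
  have hto' : (AlgSp.FieldPt.ofPt φ u').toHom = (AlgSp.yon S).map ι' ≫ φ :=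
    AlgSp.FieldPt.toHom_ofPt φ u'
  have hto : (AlgSp.FieldPt.ofPt φ u).toHom = (AlgSp.yon S).map ι ≫ φ := AlgSp.FieldPt.toHom_ofPt φ u
  haveI hιm' : Mono ι' := by
    haveI : Mono ((Over.forget S).map ι') := by
      show Mono (U.left.fromSpecResidueField u')
      infer_instance
    exact (Over.forget S).mono_of_mono_map inferInstance
  haveI hιm : Mono ι := by
    haveI : Mono ((Over.forget S).map ι) := by
      show Mono (U.left.fromSpecResidueField u)
      infer_instance
    exact (Over.forget S).mono_of_mono_map inferInstance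
  obtain ⟨ρ, hρ⟩ := (AlgSp.yon S).map_surjective
    (sq.lift ((AlgSp.yon S).map e1 ≫ (AlgSp.yon S).map ι') ((AlgSp.yon S).map e2 ≫ (AlgSp.yon S).map ι)
      (by rw [Category.assoc, Category.assoc, ← hto, ← hto']; exact sqE.w))
  have hρt : ρ ≫ t = e1 ≫ ι' := by
    apply (AlgSp.yon S).map_injective
    rw [Functor.map_comp, Functor.map_comp, hρ]; exact sq.lift_fst _ _ _
  have hρs : ρ ≫ s = e2 ≫ ι := by
    apply (AlgSp.yon S).map_injective
    rw [Functor.map_comp, Functor.map_comp, hρ]; exact sq.lift_snd _ _ _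
  refine ⟨ρ, ⟨fun {Z} g h hgh => ?_⟩, fun e => ⟨?_, ?_⟩⟩
  · have h1 : g ≫ e1 = h ≫ e1 := by
      rw [← cancel_mono ι', Category.assoc, Category.assoc, ← hρt, ← Category.assoc,
        ← Category.assoc, hgh]
    have h2 : g ≫ e2 = h ≫ e2 := by
      rw [← cancel_mono ι, Category.assoc, Category.assoc, ← hρs, ← Category.assoc,
        ← Category.assoc, hgh]
    apply (AlgSp.yon S).map_injective
    apply sqE.hom_ext
    · rw [← Functor.map_comp, ← Functor.map_comp, h1]
    · rw [← Functor.map_comp, ← Functor.map_comp, h2]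
  · have h1 : t.left (ρ.left e) = (ρ ≫ t).left e := rfl
    rw [h1, hρt]
    show U.left.fromSpecResidueField u' (e1.left e) = u'
    exact Scheme.fromSpecResidueField_apply _ _
  · have h1 : s.left (ρ.left e) = (ρ ≫ s).left e := rfl
    rw [h1, hρs]
    show U.left.fromSpecResidueField u (e2.left e) = u
    exact Scheme.fromSpecResidueField_apply _ _

/-- (1) ⇒ (4), pointwise form: finiteness of the fibre of `|R| → |U| ×_{|X|} |U|` over one pair
`(u, u')` of points over `x` gives a monomorphic representative of `x`. -/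
theorem exists_mono_of_finite_rel_fibre (X : AlgSp.Space S) {U : Over S}
    (φ : (AlgSp.yon S).obj U ⟶ X.obj) (hφ : AlgSp.RepWith @Etale φ) (u u' : ↥U.left)
    (he : AlgSp.Points.ofPt φ u = AlgSp.Points.ofPt φ u')
    (hfin : ∀ (R : Over S) (s t : R ⟶ U), IsPullback ((AlgSp.yon S).map t) ((AlgSp.yon S).map s) φ φ →
          {r : ↥R.left | s.left r = u ∧ t.left r = u'}.Finite) :
    ∃ p : AlgSp.FieldPt X.obj, AlgSp.Points.mk p = AlgSp.Points.ofPt φ u ∧ Mono p.toHom := by
  refine Groth.Agent.R2.H25.DecentCore.exists_mono_of_chart X φ hφ u ?_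
  intro R₀ s₀ t₀ sq₀
  obtain ⟨R, s, t', sq⟩ := hφ.1 φ
  obtain ⟨t, rfl⟩ := (AlgSp.yon S).map_surjective t'
  obtain ⟨E, e2, e1', sqE⟩ := X.property.representable_from_yon (AlgSp.FieldPt.ofPt φ u').toHom
    (AlgSp.FieldPt.ofPt φ u).toHom
  obtain ⟨e1, rfl⟩ := (AlgSp.yon S).map_surjective e1'
  obtain ⟨ρ, hρm, hρ⟩ := exists_mono_to_rel φ s t sq u' u e1 e2 sqE
  haveI := hρm
  haveI : Mono ρ.left := inferInstance
  have hfinE : (Set.univ : Set ↥E.left).Finite :=
    ((hfin R s t sq).preimage (ρ.left.injective.injOn)).subset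
      (fun e _ => ⟨(hρ e).2, (hρ e).1⟩)
  haveI : Finite ↥E.left := Set.finite_univ_iff.1 hfinE
  haveI : CompactSpace ↥E.left := inferInstance
  have hrel : AlgSp.FieldPt.Rel (AlgSp.FieldPt.ofPt φ u) (AlgSp.FieldPt.ofPt φ u') :=
    AlgSp.Points.mk_eq_mk_iff.1 he
  exact compactSpace_of_rel hrel (X.property.representable_from_yon _) _ t₀ s₀ sq₀ e1 e2 sqE

end Groth.Agent.R2.H25.DecentPts
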