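import Mathlib
import Groth.Agent.R2.H25DecentEquiv
import Groth.Agent.S9920

/-!
# Quasi-separated algebraic spaces are decent (helper25)

* `quasiCompact_of_subsingleton`: every morphism from a scheme with at most one point is
  quasi-compact.
* `repWith_quasiCompact_of_isQuasiSeparatedSp`: over a space quasi-separated over `S`, every
  morphism `h_T ⟶ X` with `T ⟶ S` quasi-compact is representable quasi-compact.
* `isDecent_of_isQuasiSeparatedSp`.
-/

set_option autoImplicit false
universe u
open CategoryTheory CategoryTheory.Limits AlgebraicGeometry Topology TopologicalSpace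

namespace Groth.Agent.R2.H25.DecentQs

open Opposite MorphismProperty

variable {S : Scheme.{u}}

/-- every morphism from a scheme with finitely many points is quasi-compact. -/
lemma quasiCompact_of_finite {A B : Scheme.{u}} (f : A ⟶ B) [Finite ↥A] : QuasiCompact f := by
  rw [quasiCompact_iff]
  intro U _ _
  exact (Set.toFinite _).isCompact

/-- over a space quasi-separated over `S`, a morphism from a scheme quasi-compact over `S` is
representable quasi-compact. -/
theorem repWith_quasiCompact_of_isQuasiSeparatedSp {X : AlgSp.Sp S}
    (hX : AlgSp.IsQuasiSeparatedSp X) {A : Over S} [QuasiCompact A.hom]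
    (f : (AlgSp.yon S).obj A ⟶ X) (hrep : AlgSp.Representable f) :
    AlgSp.RepWith @QuasiCompact f := by
  refine ⟨hrep, ?_⟩
  intro T W g pr' w sq
  obtain ⟨pr, rfl⟩ := (AlgSp.yon S).map_surjective pr'
  haveI h1 : QuasiCompact (prod.lift pr w).left :=
    Groth.Agent.S9920.property_of_repWith_diag hX sq
  haveI h2 : QuasiCompact (prod.snd : A ⨯ T ⟶ T).left := by
    rw [← Over.prodLeftIsoPullback_hom_snd]
    infer_instance
  have h3 : (prod.lift pr w).left ≫ (prod.snd : A ⨯ T ⟶ T).left = w.left := by
    rw [← Over.comp_left, prod.lift_snd]
  show QuasiCompact w.left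
  rw [← h3]
  infer_instance

/-- every field point of a space quasi-separated over `S` is representable quasi-compact. -/
theorem repWith_quasiCompact_toHom (X : AlgSp.Space S) (hX : AlgSp.IsQuasiSeparatedSp X.obj)
    (q : AlgSp.FieldPt X.obj) : AlgSp.RepWith @QuasiCompact q.toHom := by
  haveI : Finite ↥q.pt.left := by
    show Finite ↥(Spec (CommRingCat.of q.K))
    haveI : Subsingleton ↥(Spec (CommRingCat.of q.K)) :=
      (inferInstance : Subsingleton (PrimeSpectrum q.K))
    infer_instance
  haveI : QuasiCompact q.pt.hom := quasiCompact_of_finite _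
  exact repWith_quasiCompact_of_isQuasiSeparatedSp hX q.toHom
    (X.property.representable_from_yon q.toHom)

/-- algebraic spaces quasi-separated over the base are decent. -/
theorem isDecent_of_isQuasiSeparatedSp (X : AlgSp.Space S) (hX : AlgSp.IsQuasiSeparatedSp X.obj) :
    AlgSp.IsDecent X.obj := by
  intro x
  induction x using AlgSp.Points.ind with | h q => ?_
  exact Groth.Agent.R2.H25.DecentEquiv.exists_mono_quasiCompact_of_quasiCompact X q
    (repWith_quasiCompact_toHom X hX q)

end Groth.Agent.R2.H25.DecentQs
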