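import Mathlib
import Groth.Agent.R2.H25DecentQs
import Groth.Agent.S10351
import Groth.Agent.S9874

/-!
# Representable and quasi-separated morphisms are decent (helper25)
-/

set_option autoImplicit false
universe u
open CategoryTheory CategoryTheory.Limits AlgebraicGeometry Topology TopologicalSpace

namespace Groth.Agent.R2.H25.DecentMor

open Opposite MorphismProperty

/-- the fibre product `A ×_F Z` as the base change of the diagonal of `F ⟶ B` to `A ×_B Z`. -/
lemma isPullback_diagonal_of_isPullback {C : Type*} [Category C] [HasPullbacks C]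
    {F B A Z W P₀ : C} (snd : F ⟶ B) (a : A ⟶ F) (b : Z ⟶ F) (pr : W ⟶ A) (w : W ⟶ Z)
    (sq : IsPullback pr w a b) (p1 : P₀ ⟶ A) (p2 : P₀ ⟶ Z)
    (sq₀ : IsPullback p1 p2 (a ≫ snd) (b ≫ snd)) (m : W ⟶ P₀) (hm1 : m ≫ p1 = pr)
    (hm2 : m ≫ p2 = w) :
    IsPullback (pr ≫ a) m (pullback.diagonal snd)
      (pullback.lift (p1 ≫ a) (p2 ≫ b) (by simpa only [Category.assoc] using sq₀.w)) := by
  have hw : (pr ≫ a) ≫ pullback.diagonal snd =
      m ≫ pullback.lift (p1 ≫ a) (p2 ≫ b) (by simpa only [Category.assoc] using sq₀.w) := by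
    apply pullback.hom_ext
    · simp only [Category.assoc, pullback.diagonal_fst, Category.comp_id, pullback.lift_fst]
      rw [← Category.assoc, hm1]
    · simp only [Category.assoc, pullback.diagonal_snd, Category.comp_id, pullback.lift_snd]
      rw [← Category.assoc, hm2, sq.w]
  have key : ∀ s : PullbackCone (pullback.diagonal snd)
      (pullback.lift (p1 ≫ a) (p2 ≫ b) (by simpa only [Category.assoc] using sq₀.w)),
      s.fst = s.snd ≫ p1 ≫ a ∧ s.fst = s.snd ≫ p2 ≫ b := by
    intro s
    have h1 := congrArg (fun z => z ≫ pullback.fst snd snd) s.condition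
    have h2 := congrArg (fun z => z ≫ pullback.snd snd snd) s.condition
    simp only [Category.assoc, pullback.diagonal_fst, pullback.diagonal_snd, Category.comp_id,
      pullback.lift_fst, pullback.lift_snd] at h1 h2
    exact ⟨h1, h2⟩
  have lift_exists : ∀ s : PullbackCone (pullback.diagonal snd)
      (pullback.lift (p1 ≫ a) (p2 ≫ b) (by simpa only [Category.assoc] using sq₀.w)),
      ∃ l : s.pt ⟶ W, l ≫ pr = s.snd ≫ p1 ∧ l ≫ w = s.snd ≫ p2 := by
    intro s
    have h12 : (s.snd ≫ p1) ≫ a = (s.snd ≫ p2) ≫ b := by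
      rw [Category.assoc s.snd p1 a, Category.assoc s.snd p2 b, ← (key s).1, ← (key s).2]
    exact ⟨sq.lift _ _ h12, sq.lift_fst _ _ _, sq.lift_snd _ _ _⟩
  choose L hL1 hL2 using lift_exists
  refine IsPullback.of_isLimit' ⟨hw⟩ (PullbackCone.IsLimit.mk _ L ?_ ?_ ?_)
  · intro s
    calc L s ≫ pr ≫ a = (L s ≫ pr) ≫ a := (Category.assoc _ _ _).symm
      _ = (s.snd ≫ p1) ≫ a := by rw [hL1 s]
      _ = s.snd ≫ p1 ≫ a := Category.assoc _ _ _
      _ = s.fst := (key s).1.symm
  · intro s
    apply sq₀.hom_ext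
    · calc (L s ≫ m) ≫ p1 = L s ≫ m ≫ p1 := Category.assoc _ _ _
        _ = L s ≫ pr := by rw [hm1]
        _ = s.snd ≫ p1 := hL1 s
    · calc (L s ≫ m) ≫ p2 = L s ≫ m ≫ p2 := Category.assoc _ _ _
        _ = L s ≫ w := by rw [hm2]
        _ = s.snd ≫ p2 := hL2 s
  · intro s l h1 h2
    apply sq.hom_ext
    · calc l ≫ pr = l ≫ m ≫ p1 := by rw [hm1]
        _ = (l ≫ m) ≫ p1 := (Category.assoc _ _ _).symm
        _ = s.snd ≫ p1 := by rw [h2]
        _ = L s ≫ pr := (hL1 s).symm
    · calc l ≫ w = l ≫ m ≫ p2 := by rw [hm2]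
        _ = (l ≫ m) ≫ p2 := (Category.assoc _ _ _).symm
        _ = s.snd ≫ p2 := by rw [h2]
        _ = L s ≫ w := (hL2 s).symm

variable {S : Scheme.{u}}

/-- over a sheaf quasi-separated over a scheme `T`, every morphism from a scheme quasi-compact over
`T` is representable quasi-compact. -/
theorem repWith_quasiCompact_of_isQuasiSeparatedMor {F : AlgSp.Sp S} {T : Over S}
    (snd : F ⟶ (AlgSp.yon S).obj T) (hqs : AlgSp.IsQuasiSeparatedMor snd) {A : Over S}
    (a : (AlgSp.yon S).obj A ⟶ F) (hrep : AlgSp.Representable a) (α : A ⟶ T)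
    (hα : a ≫ snd = (AlgSp.yon S).map α) [QuasiCompact α.left] : AlgSp.RepWith @QuasiCompact a := by
  refine ⟨hrep, ?_⟩
  intro Z W b pr' w sq
  obtain ⟨pr, rfl⟩ := (AlgSp.yon S).map_surjective pr'
  obtain ⟨β, hβ⟩ := (AlgSp.yon S).map_surjective (b ≫ snd)
  have sq₀ : IsPullback ((AlgSp.yon S).map (pullback.fst α β)) ((AlgSp.yon S).map (pullback.snd α β))
      (a ≫ snd) (b ≫ snd) := by
    rw [hα, ← hβ]
    exact (IsPullback.of_hasPullback α β).map (AlgSp.yon S)
  have hw : pr ≫ α = w ≫ β := by
    apply (AlgSp.yon S).map_injective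
    rw [Functor.map_comp, Functor.map_comp, ← hα, hβ, ← Category.assoc, ← Category.assoc, sq.w]
  let m : W ⟶ pullback α β := pullback.lift pr w hw
  have big := isPullback_diagonal_of_isPullback snd a b ((AlgSp.yon S).map pr) ((AlgSp.yon S).map w) sq
    _ _ sq₀ ((AlgSp.yon S).map m)
    (by rw [← Functor.map_comp, pullback.lift_fst]) (by rw [← Functor.map_comp, pullback.lift_snd])
  haveI h1 : QuasiCompact m.left := hqs.2 _ _ m big
  have sqL : IsPullback (pullback.fst α β).left (pullback.snd α β).left α.left β.left :=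
    (IsPullback.of_hasPullback α β).map (Over.forget S)
  haveI h2 : QuasiCompact (pullback.snd α β).left :=
    MorphismProperty.of_isPullback (P := @QuasiCompact) sqL inferInstance
  have h3 : m.left ≫ (pullback.snd α β).left = w.left := by
    rw [← Over.comp_left, pullback.lift_snd]
  show QuasiCompact w.left
  rw [← h3]
  infer_instance

/-- a sheaf (algebraic space) quasi-separated over a scheme is decent. -/
theorem isDecent_of_isQuasiSeparatedMor_to_yon {F : AlgSp.Sp S} (hF : AlgSp.IsAlgSpace F) {T : Over S}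
    (snd : F ⟶ (AlgSp.yon S).obj T) (hqs : AlgSp.IsQuasiSeparatedMor snd) : AlgSp.IsDecent F := by
  intro x
  induction x using AlgSp.Points.ind with | h q => ?_
  obtain ⟨α, hα⟩ := (AlgSp.yon S).map_surjective (q.toHom ≫ snd)
  haveI : Finite ↥q.pt.left := by
    show Finite ↥(Spec (CommRingCat.of q.K))
    haveI : Subsingleton ↥(Spec (CommRingCat.of q.K)) :=
      (inferInstance : Subsingleton (PrimeSpectrum q.K))
    infer_instance
  haveI : QuasiCompact α.left := Groth.Agent.R2.H25.DecentQs.quasiCompact_of_finite _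
  have hq : AlgSp.RepWith @QuasiCompact q.toHom :=
    repWith_quasiCompact_of_isQuasiSeparatedMor snd hqs q.toHom (hF.representable_from_yon _) α hα.symm
  exact Groth.Agent.R2.H25.DecentEquiv.exists_mono_quasiCompact_of_quasiCompact ⟨F, hF⟩ q hq

/-- representable schemes are decent. -/
theorem isDecent_yon (T : Over S) : AlgSp.IsDecent ((AlgSp.yon S).obj T) := by
  intro x
  obtain ⟨t, rfl⟩ := (AlgSp.Points.schemeHomeo T).surjective x
  refine ⟨AlgSp.FieldPt.ofPt (𝟙 _) t, rfl, ?_, ?_⟩
  · rw [AlgSp.FieldPt.toHom_ofPt, Category.comp_id]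
    have key : ∀ {A : Over S} (m : A ⟶ T), Mono m.left → Mono ((AlgSp.yon S).map m) := by
      intro A m hm
      haveI : Mono m := @Over.mono_of_mono_left _ _ _ _ _ m hm
      exact (AlgSp.yon S).map_mono m
    apply key
    exact (inferInstance : Mono (T.left.fromSpecResidueField t))
  · rw [AlgSp.FieldPt.toHom_ofPt, Category.comp_id]
    refine (AlgSp.repWith_yon_map_iff _ _).2 ?_
    change QuasiCompact (T.left.fromSpecResidueField t)
    haveI : Finite ↥(Spec (T.left.residueField t)) := inferInstance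
    exact Groth.Agent.R2.H25.DecentQs.quasiCompact_of_finite _

/-- representable morphisms and quasi-separated morphisms of algebraic spaces are decent. -/
theorem isDecentMor_of_representable_or_isQuasiSeparatedMor {X Y : AlgSp.Space S} (f : X ⟶ Y) :
    (AlgSp.Representable f.hom → AlgSp.IsDecentMor f.hom) ∧
      (AlgSp.IsQuasiSeparatedMor f.hom → AlgSp.IsDecentMor f.hom) := by
  constructor
  · intro hrep T F' g fst snd sq
    have hF' : AlgSp.IsAlgSpace F' :=
      Groth.Agent.S9874.isAlgSpace_of_isPullback Y.property.diag X.property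
        (AlgSp.IsAlgSpace.yon_obj T) sq
    have hsnd : AlgSp.Representable snd :=
      MorphismProperty.of_isPullback (P := AlgSp.Representable) sq hrep
    exact Groth.Agent.S10351.result (X := ⟨F', hF'⟩) (Y := ⟨_, AlgSp.IsAlgSpace.yon_obj T⟩)
      (ObjectProperty.homMk snd) hsnd (isDecent_yon T)
  · intro hqs T F' g fst snd sq
    have hF' : AlgSp.IsAlgSpace F' :=
      Groth.Agent.S9874.isAlgSpace_of_isPullback Y.property.diag X.property
        (AlgSp.IsAlgSpace.yon_obj T) sq
    have hsnd : AlgSp.IsQuasiSeparatedMor snd :=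
      MorphismProperty.of_isPullback (P := (AlgSp.RepWith (S := S) @QuasiCompact).diagonal) sq hqs
    exact isDecent_of_isQuasiSeparatedMor_to_yon hF' snd hsnd

end Groth.Agent.R2.H25.DecentMor
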