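import Mathlib
import Groth.Prelude.Def_AlgSp
import Groth.Prelude.Def_Grpd

/-!
# The groupoid scheme of the kernel pair of a chart `h_U ⟶ X` (helper25)
-/

set_option autoImplicit false
universe u
open CategoryTheory CategoryTheory.Limits AlgebraicGeometry Topology TopologicalSpace

namespace Groth.Agent.R2.H25.KerGrpd

variable {S : Scheme.{u}} {X : AlgSp.Sp S} {U R : Over S} (a : (AlgSp.yon S).obj U ⟶ X)
  (s t : R ⟶ U) (hR : IsPullback ((AlgSp.yon S).map t) ((AlgSp.yon S).map s) a a)

include hR

/-- lifting into `R`. -/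
lemma exists_lift {Z : Over S} (α β : Z ⟶ U)
    (h : (AlgSp.yon S).map α ≫ a = (AlgSp.yon S).map β ≫ a) :
    ∃ r : Z ⟶ R, r ≫ t = α ∧ r ≫ s = β := by
  obtain ⟨r, hr⟩ := (AlgSp.yon S).map_surjective (hR.lift _ _ h)
  refine ⟨r, ?_, ?_⟩
  · apply (AlgSp.yon S).map_injective
    rw [Functor.map_comp, hr, hR.lift_fst]
  · apply (AlgSp.yon S).map_injective
    rw [Functor.map_comp, hr, hR.lift_snd]

/-- `(t, s)` is jointly monic over `S`. -/
lemma over_ext {Z : Over S} (x x' : Z ⟶ R) (h1 : x ≫ t = x' ≫ t) (h2 : x ≫ s = x' ≫ s) : x = x' := by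
  apply (AlgSp.yon S).map_injective
  apply hR.hom_ext
  · rw [← Functor.map_comp, ← Functor.map_comp, h1]
  · rw [← Functor.map_comp, ← Functor.map_comp, h2]

/-- `(t, s)` is jointly monic on the underlying schemes. -/
lemma left_ext {Z : Scheme.{u}} (x x' : Z ⟶ R.left) (h1 : x ≫ t.left = x' ≫ t.left)
    (h2 : x ≫ s.left = x' ≫ s.left) : x = x' := by
  have hx' : x' ≫ R.hom = x ≫ R.hom := by
    rw [← CategoryTheory.Over.w t, ← Category.assoc, ← Category.assoc, h1]
  let y : Over.mk (x ≫ R.hom) ⟶ R := Over.homMk x rfl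
  let y' : Over.mk (x ≫ R.hom) ⟶ R := Over.homMk x' hx'
  have : y = y' := over_ext a s t hR y y' (Over.OverMorphism.ext h1) (Over.OverMorphism.ext h2)
  exact congrArg (fun k => k.left) this

omit hR in
/-- the structure identity `R.hom = t ≫ U.hom = s ≫ U.hom` for the second projection. -/
lemma snd_over : pullback.snd s.left t.left ≫ R.hom = pullback.fst s.left t.left ≫ R.hom := by
  calc pullback.snd s.left t.left ≫ R.hom
      = pullback.snd s.left t.left ≫ t.left ≫ U.hom := by rw [CategoryTheory.Over.w t]
    _ = pullback.fst s.left t.left ≫ s.left ≫ U.hom := by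
        rw [← Category.assoc, ← pullback.condition, Category.assoc]
    _ = pullback.fst s.left t.left ≫ R.hom := by rw [CategoryTheory.Over.w s]

/-- the identity section. -/
noncomputable def eO : U ⟶ R := (exists_lift a s t hR (𝟙 U) (𝟙 U) rfl).choose

lemma eO_t : eO a s t hR ≫ t = 𝟙 U := (exists_lift a s t hR (𝟙 U) (𝟙 U) rfl).choose_spec.1
lemma eO_s : eO a s t hR ≫ s = 𝟙 U := (exists_lift a s t hR (𝟙 U) (𝟙 U) rfl).choose_spec.2

/-- the inverse. -/
noncomputable def iO : R ⟶ R := (exists_lift a s t hR s t hR.w.symm).choose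

lemma iO_t : iO a s t hR ≫ t = s := (exists_lift a s t hR s t hR.w.symm).choose_spec.1
lemma iO_s : iO a s t hR ≫ s = t := (exists_lift a s t hR s t hR.w.symm).choose_spec.2

/-- composable pairs, over `S`. -/
noncomputable abbrev P : Over S := Over.mk (pullback.fst s.left t.left ≫ R.hom)

/-- first projection of composable pairs. -/
noncomputable abbrev π₁ : P s t ⟶ R := Over.homMk (pullback.fst s.left t.left) rfl

/-- second projection of composable pairs. -/
noncomputable abbrev π₂ : P s t ⟶ R := Over.homMk (pullback.snd s.left t.left) (snd_over s t)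

omit hR in
lemma π_cond : π₁ s t ≫ s = π₂ s t ≫ t := Over.OverMorphism.ext pullback.condition

lemma c_cond : (AlgSp.yon S).map (π₁ s t ≫ t) ≫ a = (AlgSp.yon S).map (π₂ s t ≫ s) ≫ a := by
  calc (AlgSp.yon S).map (π₁ s t ≫ t) ≫ a
      = (AlgSp.yon S).map (π₁ s t) ≫ (AlgSp.yon S).map t ≫ a := by
        rw [Functor.map_comp, Category.assoc]
    _ = (AlgSp.yon S).map (π₁ s t) ≫ (AlgSp.yon S).map s ≫ a := by rw [hR.w]
    _ = (AlgSp.yon S).map (π₂ s t) ≫ (AlgSp.yon S).map t ≫ a := by
        rw [← Category.assoc, ← Functor.map_comp, π_cond, Functor.map_comp, Category.assoc]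
    _ = (AlgSp.yon S).map (π₂ s t) ≫ (AlgSp.yon S).map s ≫ a := by rw [hR.w]
    _ = (AlgSp.yon S).map (π₂ s t ≫ s) ≫ a := by rw [Functor.map_comp, Category.assoc]

/-- the composition. -/
noncomputable def cO : P s t ⟶ R :=
  (exists_lift a s t hR (π₁ s t ≫ t) (π₂ s t ≫ s) (c_cond a s t hR)).choose

lemma cO_t : cO a s t hR ≫ t = π₁ s t ≫ t :=
  (exists_lift a s t hR (π₁ s t ≫ t) (π₂ s t ≫ s) (c_cond a s t hR)).choose_spec.1
lemma cO_s : cO a s t hR ≫ s = π₂ s t ≫ s :=
  (exists_lift a s t hR (π₁ s t ≫ t) (π₂ s t ≫ s) (c_cond a s t hR)).choose_spec.2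

lemma cO_left_t : (cO a s t hR).left ≫ t.left = pullback.fst s.left t.left ≫ t.left := by
  have := congrArg (fun k => k.left) (cO_t a s t hR)
  simpa only [Over.comp_left, Over.homMk_left] using this

lemma cO_left_s : (cO a s t hR).left ≫ s.left = pullback.snd s.left t.left ≫ s.left := by
  have := congrArg (fun k => k.left) (cO_s a s t hR)
  simpa only [Over.comp_left, Over.homMk_left] using this

lemma eO_left_t : (eO a s t hR).left ≫ t.left = 𝟙 U.left := by
  have := congrArg (fun k => k.left) (eO_t a s t hR)
  simpa only [Over.comp_left, Over.id_left] using this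

lemma eO_left_s : (eO a s t hR).left ≫ s.left = 𝟙 U.left := by
  have := congrArg (fun k => k.left) (eO_s a s t hR)
  simpa only [Over.comp_left, Over.id_left] using this

lemma iO_left_t : (iO a s t hR).left ≫ t.left = s.left := by
  have := congrArg (fun k => k.left) (iO_t a s t hR)
  simpa only [Over.comp_left] using this

lemma iO_left_s : (iO a s t hR).left ≫ s.left = t.left := by
  have := congrArg (fun k => k.left) (iO_s a s t hR)
  simpa only [Over.comp_left] using this

/-- the groupoid scheme `(U, R = U ×_X U)`. -/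
noncomputable def grpd : Grpd.GroupoidScheme S where
  U := U.left
  R := R.left
  pU := U.hom
  pR := R.hom
  s := s.left
  t := t.left
  e := (eO a s t hR).left
  i := (iO a s t hR).left
  c := (cO a s t hR).left
  s_over := CategoryTheory.Over.w s
  t_over := CategoryTheory.Over.w t
  comp_s := fun α β h => by
    rw [Category.assoc, cO_left_s, pullback.lift_snd_assoc]
  comp_t := fun α β h => by
    rw [Category.assoc, cO_left_t, pullback.lift_fst_assoc]
  assoc := fun α β γ h₁ h₂ => by
    apply left_ext a s t hR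
    · simp only [Category.assoc, cO_left_t, pullback.lift_fst_assoc]
    · simp only [Category.assoc, cO_left_s, pullback.lift_snd_assoc]
  e_s := eO_left_s a s t hR
  e_t := eO_left_t a s t hR
  comp_e := fun α => by
    apply left_ext a s t hR
    · simp only [Category.assoc, cO_left_t, pullback.lift_fst_assoc]
    · simp only [Category.assoc, cO_left_s, pullback.lift_snd_assoc, eO_left_s, Category.comp_id]
  e_comp := fun α => by
    apply left_ext a s t hR
    · simp only [Category.assoc, cO_left_t, pullback.lift_fst_assoc, eO_left_t, Category.comp_id]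
    · simp only [Category.assoc, cO_left_s, pullback.lift_snd_assoc]
  i_s := iO_left_s a s t hR
  i_t := iO_left_t a s t hR
  comp_i := fun α => by
    apply left_ext a s t hR
    · simp only [Category.assoc, cO_left_t, pullback.lift_fst_assoc, eO_left_t, Category.comp_id]
    · simp only [Category.assoc, cO_left_s, pullback.lift_snd_assoc, iO_left_s, eO_left_s,
        Category.comp_id]
  i_comp := fun α => by
    apply left_ext a s t hR
    · simp only [Category.assoc, cO_left_t, pullback.lift_fst_assoc, iO_left_t, eO_left_t,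
        Category.comp_id]
    · simp only [Category.assoc, cO_left_s, pullback.lift_snd_assoc, eO_left_s, Category.comp_id]

/-- `j = (t, s)` is a monomorphism. -/
instance mono_j : Mono (grpd a s t hR).j := by
  constructor
  intro Z x x' hxx
  apply left_ext a s t hR
  · have := congrArg (fun k => k ≫ pullback.fst _ _) hxx
    simp only [Category.assoc, Grpd.GroupoidScheme.j, pullback.lift_fst] at this
    exact this
  · have := congrArg (fun k => k ≫ pullback.snd _ _) hxx
    simp only [Category.assoc, Grpd.GroupoidScheme.j, pullback.lift_snd] at this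
    exact this

end Groth.Agent.R2.H25.KerGrpd
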