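import Mathlib
import Groth.Agent.R2.H25KerGrpd
import Groth.Agent.R2.H25DecentIff
import Groth.Agent.S1877
import Groth.Agent.S7488
import Groth.Agent.S9927
import Groth.Agent.S9906
import Groth.Agent.S10338
import Groth.Agent.R2.H33GrpdOrbit

/-!
# A decent algebraic space with one point is a scheme (helper25)
-/

set_option autoImplicit false
universe u
open CategoryTheory CategoryTheory.Limits AlgebraicGeometry Topology TopologicalSpace

namespace Groth.Agent.R2.H25.OnePoint

open Opposite MorphismProperty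

variable {S : Scheme.{u}}

/-- `DecentIff.fibre_subset_range` with the compatibility of the lift with the first projection. -/
lemma exists_lift_fibre {X : AlgSp.Sp S} {U R : Over S} (φ : (AlgSp.yon S).obj U ⟶ X)
    (s t : R ⟶ U) (sq : IsPullback ((AlgSp.yon S).map t) ((AlgSp.yon S).map s) φ φ) (u : ↥U.left)
    {T : Over S} (pr : T ⟶ (AlgSp.FieldPt.ofPt φ u).pt) (w : T ⟶ U)
    (sqT : IsPullback ((AlgSp.yon S).map pr) ((AlgSp.yon S).map w) (AlgSp.FieldPt.ofPt φ u).toHom φ) :
    ∃ l : T ⟶ R, l ≫ s = w ∧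
      l.left ≫ t.left = pr.left ≫ U.left.fromSpecResidueField u ∧
      {r : ↥R.left | t.left r = u} ⊆ Set.range l.left := by
  let ι : (AlgSp.FieldPt.ofPt φ u).pt ⟶ U := Over.homMk (U.left.fromSpecResidueField u) rfl
  have hto : (AlgSp.FieldPt.ofPt φ u).toHom = (AlgSp.yon S).map ι ≫ φ := AlgSp.FieldPt.toHom_ofPt φ u
  obtain ⟨l, hl⟩ := (AlgSp.yon S).map_surjective
    (sq.lift ((AlgSp.yon S).map pr ≫ (AlgSp.yon S).map ι) ((AlgSp.yon S).map w)
      (by rw [Category.assoc, ← hto]; exact sqT.w))
  have hl1 : (AlgSp.yon S).map l ≫ (AlgSp.yon S).map t =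
      (AlgSp.yon S).map pr ≫ (AlgSp.yon S).map ι := by rw [hl]; exact sq.lift_fst _ _ _
  have hl2 : (AlgSp.yon S).map l ≫ (AlgSp.yon S).map s = (AlgSp.yon S).map w := by
    rw [hl]; exact sq.lift_snd _ _ _
  have hpb : IsPullback ((AlgSp.yon S).map l) ((AlgSp.yon S).map pr) ((AlgSp.yon S).map t)
      ((AlgSp.yon S).map ι) := by
    refine IsPullback.of_right ?_ hl1 sq.flip
    rw [hl2, ← hto]
    exact sqT.flip
  have hlt : l ≫ t = pr ≫ ι := by
    apply (AlgSp.yon S).map_injective
    rw [Functor.map_comp, Functor.map_comp, hl1]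
  refine ⟨l, ?_, ?_, ?_⟩
  · apply (AlgSp.yon S).map_injective
    rw [Functor.map_comp, hl2]
  · have := congrArg (fun k => k.left) hlt
    simpa only [Over.comp_left, ι, Over.homMk_left] using this
  · intro r hr
    have hr' : t.left r = u := hr
    let c : ↥(AlgSp.FieldPt.ofPt φ u).pt.left :=
      (IsLocalRing.closedPoint (U.left.residueField u) : PrimeSpectrum (U.left.residueField u))
    have hc : ι.left c = u := by
      show U.left.fromSpecResidueField u c = u
      exact Scheme.fromSpecResidueField_apply _ _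
    have e : AlgSp.Points.ofPt ((AlgSp.yon S).map t) r =
        AlgSp.Points.ofPt ((AlgSp.yon S).map ι) c := by
      have h1 := Groth.Agent.S10176.ofPt_map_comp t (𝟙 ((AlgSp.yon S).obj U)) r
      have h2 := Groth.Agent.S10176.ofPt_map_comp ι (𝟙 ((AlgSp.yon S).obj U)) c
      rw [Category.comp_id] at h1 h2
      rw [h1, h2, hr', hc]
    obtain ⟨y, hy1, -⟩ := Groth.Agent.S10176.exists_point_of_isPullback_yon hpb r c e
    exact ⟨y, hy1⟩

/-- over a one-point affine etale chart of a decent space, the projection `U ×_X U ⟶ U` is finite. -/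
theorem isFinite_left (X : AlgSp.Space S) (hX : AlgSp.IsDecent X.obj) {U R : Over S}
    [IsAffine U.left] [Subsingleton ↥U.left] (u : ↥U.left)
    (a : (AlgSp.yon S).obj U ⟶ X.obj) (hae : AlgSp.RepWith @Etale a) (s t : R ⟶ U)
    (hR : IsPullback ((AlgSp.yon S).map t) ((AlgSp.yon S).map s) a a) : IsFinite t.left := by
  obtain ⟨q, hqx, -, hq⟩ := hX (AlgSp.Points.ofPt a u)
  have hrel : AlgSp.FieldPt.Rel q (AlgSp.FieldPt.ofPt a u) := AlgSp.Points.mk_eq_mk_iff.1 hqx
  have hqu := Groth.Agent.R2.H25.DecentEquiv.repWith_quasiCompact_of_rel X hrel hq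
  obtain ⟨T, w, pr', sqT⟩ := hqu.1 a
  obtain ⟨pr, rfl⟩ := (AlgSp.yon S).map_surjective pr'
  haveI : Finite ↥T.left := Groth.Agent.R2.H25.DecentIff.finite_of_isPullback _ hqu a hae pr w sqT
  obtain ⟨l, -, hlt, hrange⟩ := exists_lift_fibre a s t hR u pr w sqT
  haveI : Surjective l.left := ⟨fun r => hrange (Subsingleton.elim _ _ : t.left r = u)⟩
  haveI : Etale t.left := hae.2 _ _ t hR.flip
  -- `pr` is finite
  haveI : Etale pr.left := hae.2 _ _ pr sqT.flip
  haveI : IsLocallyArtinian (AlgSp.FieldPt.ofPt a u).pt.left :=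
    (Scheme.isLocallyArtinianScheme_Spec (R := CommRingCat.of (AlgSp.FieldPt.ofPt a u).K)).2
      inferInstance
  haveI : QuasiSeparatedSpace ↥(AlgSp.FieldPt.ofPt a u).pt.left :=
    (inferInstance : QuasiSeparatedSpace ↥(Spec (CommRingCat.of (AlgSp.FieldPt.ofPt a u).K)))
  haveI : QuasiCompact pr.left := quasiCompact_of_compactSpace _
  haveI : LocallyQuasiFinite pr.left := Groth.Agent.S10265.locallyQuasiFinite_of_unramified _
  haveI : IsFinite pr.left := IsFinite.of_locallyQuasiFinite pr.left
  -- the residue field point is a closed immersion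
  haveI : IsClosedImmersion (U.left.fromSpecResidueField u) := by
    refine IsClosedImmersion.of_isPreimmersion _ ?_
    rw [Scheme.range_fromSpecResidueField]
    exact (Set.subsingleton_univ.anti (Set.subset_univ _)).isClosed
  haveI : IsProper pr.left := inferInstance
  haveI h1 : UniversallyClosed pr.left := inferInstance
  haveI h2 : UniversallyClosed (U.left.fromSpecResidueField u) := inferInstance
  haveI : UniversallyClosed (l.left ≫ t.left) := by
    rw [hlt]
    exact @universallyClosedTypeComp _ _ _ pr.left (U.left.fromSpecResidueField u) h1 h2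
  haveI : UniversallyClosed t.left := UniversallyClosed.of_comp_surjective l.left t.left
  -- separatedness
  haveI : IsSeparated t.left := by
    haveI : Mono (prod.lift t s) := by
      constructor
      intro Z x x' hxx
      apply Groth.Agent.R2.H25.KerGrpd.over_ext a s t hR
      · have := congrArg (fun m => m ≫ prod.fst) hxx
        simpa only [Category.assoc, prod.lift_fst] using this
      · have := congrArg (fun m => m ≫ prod.snd) hxx
        simpa only [Category.assoc, prod.lift_snd] using this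
    have h1 : IsSeparated (prod.fst : U ⨯ U ⟶ U).left := by
      rw [← Over.prodLeftIsoPullback_hom_fst]
      infer_instance
    have h2 : (prod.lift t s).left ≫ (prod.fst : U ⨯ U ⟶ U).left = t.left := by
      rw [← Over.comp_left, prod.lift_fst]
    rw [← h2]
    infer_instance
  haveI : LocallyQuasiFinite t.left := Groth.Agent.S10265.locallyQuasiFinite_of_unramified _
  haveI : IsProper t.left := {}
  exact IsFinite.of_isProper_of_locallyQuasiFinite t.left

/-- fppf coverings of schemes give epimorphisms of sheaves. -/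
lemma epi_yon_map {U M : Over S} (q : U ⟶ M) [Flat q.left] [Surjective q.left]
    [LocallyOfFinitePresentation q.left] : Epi ((AlgSp.yon S).map q) := by
  haveI := Groth.Agent.S9885.isLocallySurjective_of_repWith ((AlgSp.yon S).map q)
    ((AlgSp.repWith_yon_map_iff _ _).2 (inferInstance : Flat q.left))
    ((AlgSp.repWith_yon_map_iff _ _).2 (inferInstance : LocallyOfFinitePresentation q.left))
    ((AlgSp.repWith_yon_map_iff _ _).2 (inferInstance : Surjective q.left))
  exact (Sheaf.isLocallySurjective_iff_epi ((AlgSp.yon S).map q)).1 inferInstance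

/-- two epimorphisms of sheaves with the same kernel pair have isomorphic targets. -/
lemma nonempty_iso_of_kernelPair {A X Y P : AlgSp.Sp S} (a : A ⟶ X) (b : A ⟶ Y) [Epi a] [Epi b]
    (z₁ z₂ : P ⟶ A) (ha : IsPullback z₁ z₂ a a) (hb : IsPullback z₁ z₂ b b) : Nonempty (Y ≅ X) := by
  obtain ⟨σ, hσ, -⟩ := Groth.Agent.Lib.Helper9.existsUnique_desc_of_kernelPair a inferInstance z₁ z₂
    ha b hb.w
  obtain ⟨τ, hτ, -⟩ := Groth.Agent.Lib.Helper9.existsUnique_desc_of_kernelPair b inferInstance z₁ z₂
    hb a ha.w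
  refine ⟨⟨τ, σ, ?_, ?_⟩⟩
  · rw [← cancel_epi b, ← Category.assoc, ← hτ, ← hσ, Category.comp_id]
  · rw [← cancel_epi a, ← Category.assoc, ← hσ, ← hτ, Category.comp_id]

/-- a decent algebraic space with exactly one point is a scheme. -/
theorem isRepresentable (X : AlgSp.Space S) (hX : AlgSp.IsDecent X.obj)
    [Nonempty (AlgSp.Points X.obj)] [Subsingleton (AlgSp.Points X.obj)] :
    X.obj.obj.IsRepresentable := by
  -- an affine etale chart with finitely many points
  obtain ⟨U₀, a₀, hae₀, has₀⟩ := X.property.atlas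
  obtain ⟨x⟩ := ‹Nonempty (AlgSp.Points X.obj)›
  obtain ⟨u₀, -⟩ := Groth.Agent.S10177.surjective_ofPt a₀ has₀ x
  obtain ⟨O, hO, hu₀O, -⟩ : ∃ O : U₀.left.Opens, O ∈ U₀.left.affineOpens ∧ u₀ ∈ O ∧ O ≤ ⊤ :=
    TopologicalSpace.Opens.isBasis_iff_nbhd.1 U₀.left.isBasis_affineOpens
      (TopologicalSpace.Opens.mem_top u₀)
  let V : Over S := Over.mk (O.ι ≫ U₀.hom)
  let jV : V ⟶ U₀ := Over.homMk O.ι rfl
  haveI : IsAffine V.left := hO
  have haV : AlgSp.RepWith @Etale ((AlgSp.yon S).map jV ≫ a₀) :=
    (AlgSp.repWith_isMultiplicative (S := S) @Etale).comp_mem _ _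
      ((AlgSp.repWith_yon_map_iff _ _).2 (inferInstance : Etale O.ι)) hae₀
  have hVfin : (Set.univ : Set ↥V.left).Finite := by
    refine (Groth.Agent.S10338.finite_fibre_of_isDecent hX x V _ inferInstance haV).subset ?_
    intro v _
    exact Subsingleton.elim _ _
  -- an open point
  obtain ⟨η, -, hη⟩ := exists_isOpen_singleton_of_isOpen_finite hVfin ⟨(⟨u₀, hu₀O⟩ : ↥O), trivial⟩
    isOpen_univ
  let O' : V.left.Opens := ⟨{η}, hη⟩
  have hO' : IsAffineOpen O' := by
    obtain ⟨W, hW, hηW, hWO'⟩ := TopologicalSpace.Opens.isBasis_iff_nbhd.1 V.left.isBasis_affineOpens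
      (show η ∈ O' from rfl)
    have : W = O' := le_antisymm hWO' (fun y hy => by
      have : y = η := hy
      rw [this]; exact hηW)
    rw [← this]; exact hW
  let U : Over S := Over.mk (O'.ι ≫ V.hom)
  let jU : U ⟶ V := Over.homMk O'.ι rfl
  haveI : IsAffine U.left := hO'
  haveI : Subsingleton ↥U.left := ⟨fun y y' => Subtype.ext ((y.2 : y.1 = η).trans (y'.2 : y'.1 = η).symm)⟩
  let u : ↥U.left := (⟨η, rfl⟩ : ↥O')
  let a : (AlgSp.yon S).obj U ⟶ X.obj := (AlgSp.yon S).map jU ≫ (AlgSp.yon S).map jV ≫ a₀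
  have hae : AlgSp.RepWith @Etale a :=
    (AlgSp.repWith_isMultiplicative (S := S) @Etale).comp_mem _ _
      ((AlgSp.repWith_yon_map_iff _ _).2 (inferInstance : Etale O'.ι)) haV
  have has : AlgSp.RepWith @Surjective a :=
    Groth.Agent.S9906.repWith_surjective_of_surjective_map a hae.1
      (fun x' => ⟨AlgSp.Points.ofScheme U u, Subsingleton.elim _ _⟩)
  haveI : Epi a := Groth.Agent.S9927.epi_of_repWith a hae has
  -- the relation
  obtain ⟨R, s, t', hR'⟩ := hae.1 a
  obtain ⟨t, rfl⟩ := (AlgSp.yon S).map_surjective t'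
  haveI : Etale t.left := hae.2 _ _ t hR'.flip
  haveI : Etale s.left := hae.2 _ _ s hR'
  haveI : IsFinite t.left := isFinite_left X hX u a hae s t hR'
  haveI : IsFinite s.left := isFinite_left X hX u a hae t s hR'.flip
  haveI : IsAffine R.left := isAffine_of_isAffineHom t.left
  -- the groupoid scheme and its quotient
  let G := Groth.Agent.R2.H25.KerGrpd.grpd a s t hR'
  haveI : IsAffine G.U := (inferInstance : IsAffine U.left)
  haveI : IsAffine G.R := (inferInstance : IsAffine R.left)
  haveI : IsFinite G.s := (inferInstance : IsFinite s.left)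
  haveI : Flat G.s := (inferInstance : Flat s.left)
  haveI : LocallyOfFinitePresentation G.s := (inferInstance : LocallyOfFinitePresentation s.left)
  haveI : IsFinite G.t := (inferInstance : IsFinite t.left)
  haveI : Flat G.t := (inferInstance : Flat t.left)
  haveI : LocallyOfFinitePresentation G.t := (inferInstance : LocallyOfFinitePresentation t.left)
  haveI : Mono G.j := Groth.Agent.R2.H25.KerGrpd.mono_j a s t hR'
  obtain ⟨⟨hfin, hflat, hlfp⟩, φ, hφ1, hφ2⟩ := Groth.Agent.S1877.result S G
  obtain ⟨m, ⟨hm, -⟩, -⟩ := Groth.Agent.S7488.result S G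
  have hsurj : Surjective G.toQuot := ⟨Groth.Agent.R2.H33.GrpdOrbit.toQuot_surjective G⟩
  let M : Over S := Over.mk m
  let q : U ⟶ M := Over.homMk G.toQuot hm
  haveI : Flat q.left := hflat
  haveI : Surjective q.left := hsurj
  haveI : LocallyOfFinitePresentation q.left := hlfp
  haveI : Epi ((AlgSp.yon S).map q) := epi_yon_map q
  -- `R` is the kernel pair of `q`
  have hw : t.left ≫ q.left = s.left ≫ q.left := Groth.Agent.R2.H33.GrpdOrbit.t_toQuot G
  have hsch : IsPullback t.left s.left q.left q.left := IsPullback.of_iso_pullback ⟨hw⟩ φ hφ1 hφ2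
  have hover : IsPullback t s q q :=
    IsPullback.of_map (Over.forget S) (Over.OverMorphism.ext hw) hsch
  have hK : IsPullback ((AlgSp.yon S).map t) ((AlgSp.yon S).map s) ((AlgSp.yon S).map q)
      ((AlgSp.yon S).map q) := hover.map (AlgSp.yon S)
  obtain ⟨e⟩ := nonempty_iso_of_kernelPair a ((AlgSp.yon S).map q) _ _ hR' hK
  exact ⟨M, ⟨AlgSp.representableByOfIso e⟩⟩

end Groth.Agent.R2.H25.OnePoint
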