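import Mathlib
import Groth.Agent.R2.H25OnePoint
import Groth.Agent.R2.H25DecentMor
import Groth.Agent.Lib.Helper12ZarGlue
import Groth.Agent.S9874
import Groth.Agent.S13210

/-!
# An algebraic space with a monomorphism to a discrete scheme is a scheme (helper25)
-/

set_option autoImplicit false
universe u
open CategoryTheory CategoryTheory.Limits AlgebraicGeometry Topology TopologicalSpace

namespace Groth.Agent.R2.H25.MonoDiscrete

open Opposite MorphismProperty

variable {S : Scheme.{u}}

/-- a monomorphism of sheaves is injective on sections. -/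
lemma app_injective_of_mono {F G : AlgSp.Sp S} (f : F ⟶ G) [Mono f] (T : Over S) :
    Function.Injective (f.hom.app (op T)) := by
  intro x y h
  apply (Groth.Agent.S13210.yEquiv T F).symm.injective
  rw [← cancel_mono f, Groth.Agent.S13210.yEquiv_symm_comp, Groth.Agent.S13210.yEquiv_symm_comp, h]

/-- a monomorphism of sheaves is injective on points. -/
theorem injective_map_of_mono {F G : AlgSp.Sp S} (f : F ⟶ G) [Mono f] :
    Function.Injective (AlgSp.Points.map f) := by
  intro x y
  induction x using AlgSp.Points.ind with | h p => ?_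
  induction y using AlgSp.Points.ind with | h q => ?_
  intro h
  rw [AlgSp.Points.map_mk, AlgSp.Points.map_mk, AlgSp.Points.mk_eq_mk_iff] at h
  obtain ⟨Ω, _, w, a, b, hab⟩ := h
  refine AlgSp.Points.sound ⟨Ω, inferInstance, w, a, b, ?_⟩
  apply app_injective_of_mono f
  have h1 := NatTrans.naturality_apply f.hom a.op p.val
  have h2 := NatTrans.naturality_apply f.hom b.op q.val
  exact h1.trans (hab.trans h2.symm)

/-- a sheaf without points is representable (by the empty scheme). -/
theorem exists_iso_of_isEmpty (X : AlgSp.Sp S) [IsEmpty (AlgSp.Points X)] :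
    ∃ W : Over S, Nonempty ((AlgSp.yon S).obj W ≅ X) := by
  have hf : ∀ i : PEmpty.{u + 1}, AlgSp.RepWith @IsOpenImmersion
      ((fun i => PEmpty.elim i : ∀ i : PEmpty.{u + 1},
        (AlgSp.yon S).obj ((fun i => PEmpty.elim i : PEmpty.{u + 1} → Over S) i) ⟶ X) i) :=
    fun i => PEmpty.elim i
  have hs : Groth.Agent.Lib.Helper12.ZarGlue.JointlySurjective hf := by
    intro T g t
    exact (IsEmpty.false (AlgSp.Points.ofPt g t)).elim
  obtain ⟨W, e, -, -, -⟩ := Groth.Agent.Lib.Helper12.ZarGlue.exists_iso hf hs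
  exact ⟨W, ⟨e⟩⟩

/-- an algebraic space with a monomorphism to a scheme with discrete underlying space is a scheme. -/
theorem isRepresentable_of_mono' (Y : Over S) [DiscreteTopology ↥Y.left] (X : AlgSp.Space S)
    (f : X.obj ⟶ (AlgSp.yon S).obj Y) [Mono f] : X.obj.obj.IsRepresentable := by
  -- `f` is a decent morphism
  have hqs : AlgSp.IsQuasiSeparatedMor f := by
    show AlgSp.RepWith @QuasiCompact (pullback.diagonal f)
    exact MorphismProperty.of_isIso (AlgSp.RepWith (S := S) @QuasiCompact) _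
  have hdec : AlgSp.IsDecentMor f :=
    (Groth.Agent.R2.H25.DecentMor.isDecentMor_of_representable_or_isQuasiSeparatedMor
      (X := X) (Y := ⟨(AlgSp.yon S).obj Y, AlgSp.IsAlgSpace.yon_obj Y⟩) (ObjectProperty.homMk f)).2 hqs
  -- the open cover of `Y` by its points
  let O : ↥Y.left → Y.left.Opens := fun y => ⟨{y}, isOpen_discrete _⟩
  let T : ↥Y.left → Over S := fun y => Over.mk ((O y).ι ≫ Y.hom)
  let j : ∀ y, T y ⟶ Y := fun y => Over.homMk (O y).ι rfl
  haveI : ∀ y, IsOpenImmersion (j y).left := fun y => (inferInstance : IsOpenImmersion (O y).ι)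
  have hj : ∀ t : ↥Y.left, ∃ y, t ∈ Set.range (j y).left := fun t => ⟨t, ⟨⟨t, rfl⟩, rfl⟩⟩
  -- each piece is representable
  have key : ∀ y, ∃ (W : Over S) (w : W ⟶ T y) (a : (AlgSp.yon S).obj W ⟶ X.obj),
      IsPullback a ((AlgSp.yon S).map w) f
        ((AlgSp.yon S).map (j y) ≫ 𝟙 ((AlgSp.yon S).obj Y)) := by
    intro y
    have sq : IsPullback (pullback.fst f ((AlgSp.yon S).map (j y)))
        (pullback.snd f ((AlgSp.yon S).map (j y))) f ((AlgSp.yon S).map (j y)) :=
      IsPullback.of_hasPullback _ _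
    have hF' : AlgSp.IsAlgSpace (pullback f ((AlgSp.yon S).map (j y))) :=
      Groth.Agent.S9874.isAlgSpace_of_isPullback (AlgSp.IsAlgSpace.yon_obj Y).diag X.property
        (AlgSp.IsAlgSpace.yon_obj (T y)) sq
    have hdecF : AlgSp.IsDecent (pullback f ((AlgSp.yon S).map (j y))) := hdec _ _ _ sq
    haveI : Mono (pullback.snd f ((AlgSp.yon S).map (j y))) := inferInstance
    have hinj := injective_map_of_mono (pullback.snd f ((AlgSp.yon S).map (j y)))
    haveI : Subsingleton ↥(T y).left :=
      ⟨fun p q => Subtype.ext ((p.2 : p.1 = y).trans (q.2 : q.1 = y).symm)⟩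
    haveI : Subsingleton (AlgSp.Points (pullback f ((AlgSp.yon S).map (j y)))) :=
      ⟨fun p q => hinj ((AlgSp.Points.schemeHomeo (T y)).symm.injective (Subsingleton.elim _ _))⟩
    obtain ⟨W, ⟨e⟩⟩ : ∃ W : Over S,
        Nonempty ((AlgSp.yon S).obj W ≅ pullback f ((AlgSp.yon S).map (j y))) := by
      by_cases hne : Nonempty (AlgSp.Points (pullback f ((AlgSp.yon S).map (j y))))
      · obtain ⟨W, ⟨r⟩⟩ := (Groth.Agent.R2.H25.OnePoint.isRepresentable
          (⟨pullback f ((AlgSp.yon S).map (j y)), hF'⟩ : AlgSp.Space S) hdecF).has_representation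
        exact ⟨W, ⟨AlgSp.isoOfRepresentableBy r⟩⟩
      · haveI := not_nonempty_iff.1 hne
        exact exists_iso_of_isEmpty _
    obtain ⟨w, hw⟩ := (AlgSp.yon S).map_surjective
      (e.hom ≫ pullback.snd f ((AlgSp.yon S).map (j y)))
    refine ⟨W, w, e.hom ≫ pullback.fst f ((AlgSp.yon S).map (j y)), ?_⟩
    rw [hw, Category.comp_id]
    exact IsPullback.of_iso sq e.symm (Iso.refl _) (Iso.refl _) (Iso.refl _) (by simp) (by simp)
      (by simp) (by simp)
  choose W w a sq using key
  obtain ⟨W₀, w₀, a₀, sq₀, -⟩ := Groth.Agent.Lib.Helper12.ZarGlue.exists_rep_of_openCover f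
    (𝟙 ((AlgSp.yon S).obj Y)) T j W w a sq hj
  haveI : IsIso a₀ := sq₀.isIso_fst_of_isIso
  exact ⟨W₀, ⟨AlgSp.representableByOfIso (asIso a₀)⟩⟩

theorem isRepresentable_of_mono (Y : Over S) [DiscreteTopology ↥Y.left] (X : AlgSp.Space S)
    (f : X ⟶ (AlgSp.ofScheme S).obj Y) [Mono f.hom] : X.obj.obj.IsRepresentable :=
  @isRepresentable_of_mono' S Y _ X f.hom ‹_›

end Groth.Agent.R2.H25.MonoDiscrete
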