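import Mathlib
import Groth.Agent.R2.H25OnePoint
import Groth.Agent.R2.H25MonoDiscrete
import Groth.Agent.Lib.Helper12OpenSub
import Groth.Agent.Lib.Helper12OpenSub2
import Groth.Agent.Lib.Helper12LargestOpen

/-!
# Quotients by finite locally free equivalence relations: invariant affine opens (helper25)

* `exists_iso_of_kernelPair`: a sheaf `X` with an epimorphism `h_U ⟶ X` from an affine scheme whose kernel
  pair `R ⇉ U` is finite locally free is representable by the affine scheme `U/R`.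
* `exists_iso_openSub`: for a finite locally free chart `a : h_U ⟶ X` with kernel pair `R` and an
  `R`-invariant affine open `W ⊆ U`, the open subsheaf of `X` with points `a(W)` is representable.
-/

set_option autoImplicit false
universe u
open CategoryTheory CategoryTheory.Limits AlgebraicGeometry Topology TopologicalSpace

namespace Groth.Agent.R2.H25.FinQuot

open Opposite MorphismProperty

variable {S : Scheme.{u}}

/-- two epimorphisms of sheaves with the same kernel pair have isomorphic targets, compatibly. -/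
lemma exists_iso_of_kernelPair' {A X Y P : AlgSp.Sp S} (a : A ⟶ X) (b : A ⟶ Y) [Epi a] [Epi b]
    (z₁ z₂ : P ⟶ A) (ha : IsPullback z₁ z₂ a a) (hb : IsPullback z₁ z₂ b b) :
    ∃ e : Y ≅ X, b ≫ e.hom = a := by
  obtain ⟨σ, hσ, -⟩ := Groth.Agent.Lib.Helper9.existsUnique_desc_of_kernelPair a inferInstance z₁ z₂
    ha b hb.w
  obtain ⟨τ, hτ, -⟩ := Groth.Agent.Lib.Helper9.existsUnique_desc_of_kernelPair b inferInstance z₁ z₂
    hb a ha.w
  refine ⟨⟨τ, σ, ?_, ?_⟩, hτ.symm⟩
  · rw [← cancel_epi b, ← Category.assoc, ← hτ, ← hσ, Category.comp_id]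
  · rw [← cancel_epi a, ← Category.assoc, ← hσ, ← hτ, Category.comp_id]

/-- a sheaf quotient of an affine scheme by a finite locally free equivalence relation is an affine
scheme. -/
theorem exists_iso_of_kernelPair {X : AlgSp.Sp S} {U R : Over S} [IsAffine U.left]
    (a : (AlgSp.yon S).obj U ⟶ X) [Epi a] (s t : R ⟶ U)
    (hR : IsPullback ((AlgSp.yon S).map t) ((AlgSp.yon S).map s) a a)
    [IsFinite s.left] [Flat s.left] [LocallyOfFinitePresentation s.left]
    [IsFinite t.left] [Flat t.left] [LocallyOfFinitePresentation t.left] :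
    ∃ (M : Over S) (q : U ⟶ M) (e : (AlgSp.yon S).obj M ≅ X), (AlgSp.yon S).map q ≫ e.hom = a ∧
      IsAffine M.left ∧ IsFinite q.left ∧ Flat q.left ∧ LocallyOfFinitePresentation q.left ∧
      Surjective q.left := by
  haveI : IsAffine R.left := isAffine_of_isAffineHom t.left
  let G := Groth.Agent.R2.H25.KerGrpd.grpd a s t hR
  haveI : IsAffine G.U := (inferInstance : IsAffine U.left)
  haveI : IsAffine G.R := (inferInstance : IsAffine R.left)
  haveI : IsFinite G.s := (inferInstance : IsFinite s.left)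
  haveI : Flat G.s := (inferInstance : Flat s.left)
  haveI : LocallyOfFinitePresentation G.s := (inferInstance : LocallyOfFinitePresentation s.left)
  haveI : IsFinite G.t := (inferInstance : IsFinite t.left)
  haveI : Flat G.t := (inferInstance : Flat t.left)
  haveI : LocallyOfFinitePresentation G.t := (inferInstance : LocallyOfFinitePresentation t.left)
  haveI : Mono G.j := Groth.Agent.R2.H25.KerGrpd.mono_j a s t hR
  obtain ⟨⟨hfin, hflat, hlfp⟩, φ, hφ1, hφ2⟩ := Groth.Agent.S1877.result S G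
  obtain ⟨m, ⟨hm, -⟩, -⟩ := Groth.Agent.S7488.result S G
  have hsurj : Surjective G.toQuot := ⟨Groth.Agent.R2.H33.GrpdOrbit.toQuot_surjective G⟩
  let M : Over S := Over.mk m
  let q : U ⟶ M := Over.homMk G.toQuot hm
  haveI : Flat q.left := hflat
  haveI : Surjective q.left := hsurj
  haveI : LocallyOfFinitePresentation q.left := hlfp
  haveI : Epi ((AlgSp.yon S).map q) := Groth.Agent.R2.H25.OnePoint.epi_yon_map q
  have hw : t.left ≫ q.left = s.left ≫ q.left := Groth.Agent.R2.H33.GrpdOrbit.t_toQuot G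
  have hsch : IsPullback t.left s.left q.left q.left := IsPullback.of_iso_pullback ⟨hw⟩ φ hφ1 hφ2
  have hover : IsPullback t s q q :=
    IsPullback.of_map (Over.forget S) (Over.OverMorphism.ext hw) hsch
  have hK : IsPullback ((AlgSp.yon S).map t) ((AlgSp.yon S).map s) ((AlgSp.yon S).map q)
      ((AlgSp.yon S).map q) := hover.map (AlgSp.yon S)
  obtain ⟨e, he⟩ := exists_iso_of_kernelPair' a ((AlgSp.yon S).map q) _ _ hR hK
  exact ⟨M, q, e, he, (inferInstance : IsAffine (Spec (CommRingCat.of G.invariants))), hfin, hflat,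
    hlfp, hsurj⟩

/-- a morphism from the preimage open to an open of the target, compatible with the inclusions,
inherits Zariski-local properties. -/
lemma prop_of_restrict (P : MorphismProperty Scheme.{u}) [IsZariskiLocalAtTarget P] {A B : Scheme.{u}}
    (f : A ⟶ B) (W : B.Opens) (O : A.Opens) (hO : O = f ⁻¹ᵁ W) (g : O.toScheme ⟶ W.toScheme)
    (hg : g ≫ W.ι = O.ι ≫ f) (hf : P f) : P g := by
  subst hO
  have : g = f ∣_ W := by rw [← cancel_mono W.ι, hg, morphismRestrict_ι]
  rw [this]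
  exact IsZariskiLocalAtTarget.restrict hf W

/-- lifting a morphism over `S` through an open subscheme. -/
lemma exists_lift_open {T U : Over S} (W : U.left.Opens) (b : T ⟶ U)
    (hb : ∀ x : ↥T.left, b.left x ∈ W) :
    ∃ d : T ⟶ Over.mk (W.ι ≫ U.hom),
      d ≫ (Over.homMk W.ι rfl : Over.mk (W.ι ≫ U.hom) ⟶ U) = b := by
  have hrange : Set.range b.left ⊆ Set.range W.ι := by
    rw [W.range_ι]; rintro _ ⟨x, rfl⟩; exact hb x
  let d₀ : T.left ⟶ W.toScheme := IsOpenImmersion.lift W.ι b.left hrange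
  have hd₀ : d₀ ≫ W.ι = b.left := IsOpenImmersion.lift_fac _ _ _
  refine ⟨Over.homMk d₀ (by
    show d₀ ≫ W.ι ≫ U.hom = T.hom
    rw [← Category.assoc, hd₀]; exact CategoryTheory.Over.w b), ?_⟩
  ext1; exact hd₀

instance mono_openι {U : Over S} (W : U.left.Opens) :
    Mono (Over.homMk W.ι rfl : Over.mk (W.ι ≫ U.hom) ⟶ U) :=
  @Over.mono_of_mono_left _ _ _ _ _ _ (inferInstance : Mono W.ι)

section Core

variable {X : AlgSp.Sp S} {U R : Over S} (a : (AlgSp.yon S).obj U ⟶ X)
  (s t : R ⟶ U) (hR : IsPullback ((AlgSp.yon S).map t) ((AlgSp.yon S).map s) a a)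
  (W : U.left.Opens) (hinv : s.left ⁻¹ᵁ W = t.left ⁻¹ᵁ W)

include hR hinv in
/-- an invariant open is saturated. -/
lemma mem_of_ofPt_mem (u : ↥U.left)
    (hu : AlgSp.Points.ofPt a u ∈ AlgSp.Points.ofPt a '' (W : Set ↥U.left)) : u ∈ W := by
  obtain ⟨w, hw, e⟩ := hu
  obtain ⟨r, hr1, hr2⟩ := Groth.Agent.S10176.exists_point_of_isPullback_yon hR u w e.symm
  have h1 : r ∈ s.left ⁻¹ᵁ W := by
    show s.left r ∈ W
    rw [hr2]; exact hw
  rw [hinv] at h1
  have h2 : t.left r ∈ W := h1
  rwa [hr1] at h2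

include hR hinv in
/-- **restriction of a chart to an invariant open.**  For an `R`-invariant open `W ⊆ U` the open
subsheaf `X_W` of `X` with points `a(W)` has the chart `a_W : h_W ⟶ X_W`, which is the base change of `a`
and whose kernel pair is `R_W = s⁻¹(W) ⇉ W`. -/
theorem restrict_chart :
    ∃ (aW : (AlgSp.yon S).obj (Over.mk (W.ι ≫ U.hom)) ⟶
        Groth.Agent.Lib.Helper12.OpenSub.obj X (AlgSp.Points.ofPt a '' (W : Set ↥U.left)))
      (sW tW : Over.mk ((s.left ⁻¹ᵁ W).ι ≫ R.hom) ⟶ Over.mk (W.ι ≫ U.hom)),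
      aW ≫ Groth.Agent.Lib.Helper12.OpenSub.incl X (AlgSp.Points.ofPt a '' (W : Set ↥U.left)) =
        (AlgSp.yon S).map (Over.homMk W.ι rfl : Over.mk (W.ι ≫ U.hom) ⟶ U) ≫ a ∧
      IsPullback ((AlgSp.yon S).map (Over.homMk W.ι rfl : Over.mk (W.ι ≫ U.hom) ⟶ U)) aW a
        (Groth.Agent.Lib.Helper12.OpenSub.incl X (AlgSp.Points.ofPt a '' (W : Set ↥U.left))) ∧
      sW ≫ (Over.homMk W.ι rfl : Over.mk (W.ι ≫ U.hom) ⟶ U) =
        (Over.homMk (s.left ⁻¹ᵁ W).ι rfl : Over.mk ((s.left ⁻¹ᵁ W).ι ≫ R.hom) ⟶ R) ≫ s ∧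
      tW ≫ (Over.homMk W.ι rfl : Over.mk (W.ι ≫ U.hom) ⟶ U) =
        (Over.homMk (s.left ⁻¹ᵁ W).ι rfl : Over.mk ((s.left ⁻¹ᵁ W).ι ≫ R.hom) ⟶ R) ≫ t ∧
      IsPullback ((AlgSp.yon S).map tW) ((AlgSp.yon S).map sW) aW aW ∧
      Function.Surjective (AlgSp.Points.ofPt aW) := by
  let A : Set (AlgSp.Points X) := AlgSp.Points.ofPt a '' (W : Set ↥U.left)
  let W' : Over S := Over.mk (W.ι ≫ U.hom)
  let ιW : W' ⟶ U := Over.homMk W.ι rfl
  -- the chart of the open subsheaf
  have hfac : ∀ w : ↥W'.left, AlgSp.Points.ofPt ((AlgSp.yon S).map ιW ≫ a) w ∈ A := fun w => by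
    rw [Groth.Agent.S10176.ofPt_map_comp]
    exact ⟨_, w.2, rfl⟩
  obtain ⟨aW, haW⟩ := (Groth.Agent.Lib.Helper12.OpenSub.factor_iff A _).2 hfac
  -- base change square
  have sqW : IsPullback ((AlgSp.yon S).map ιW) aW a (Groth.Agent.Lib.Helper12.OpenSub.incl X A) := by
    apply Groth.Agent.S13210.isPullback_of_yon haW.symm
    intro T b c hbc
    obtain ⟨b₀, rfl⟩ := (AlgSp.yon S).map_surjective b
    have hb : ∀ x : ↥T.left, b₀.left x ∈ W := by
      intro x
      apply mem_of_ofPt_mem a s t hR W hinv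
      rw [← Groth.Agent.S10176.ofPt_map_comp, hbc]
      exact (Groth.Agent.Lib.Helper12.OpenSub.factor_iff A
        (c ≫ Groth.Agent.Lib.Helper12.OpenSub.incl X A)).1 ⟨c, rfl⟩ x
    obtain ⟨d, hd⟩ := exists_lift_open W b₀ hb
    refine ⟨(AlgSp.yon S).map d, ⟨by rw [← Functor.map_comp, hd], ?_⟩, ?_⟩
    · rw [← cancel_mono (Groth.Agent.Lib.Helper12.OpenSub.incl X A), Category.assoc, haW,
        ← Category.assoc, ← Functor.map_comp, hd, hbc]
    · rintro d' ⟨hd'1, -⟩
      obtain ⟨d'₀, rfl⟩ := (AlgSp.yon S).map_surjective d'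
      rw [← Functor.map_comp] at hd'1
      have h3 := (AlgSp.yon S).map_injective hd'1
      congr 1
      rw [← cancel_mono ιW, h3, hd]
  -- the restricted relation
  let O : R.left.Opens := s.left ⁻¹ᵁ W
  let RW : Over S := Over.mk (O.ι ≫ R.hom)
  let ιO : RW ⟶ R := Over.homMk O.ι rfl
  obtain ⟨sW, hsW⟩ := exists_lift_open W (ιO ≫ s) (fun x => (x.2 : s.left x.1 ∈ W))
  obtain ⟨tW, htW⟩ := exists_lift_open W (ιO ≫ t) (fun x => by
    have h1 : x.1 ∈ s.left ⁻¹ᵁ W := x.2
    rw [hinv] at h1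
    exact h1)
  have hK : IsPullback ((AlgSp.yon S).map tW) ((AlgSp.yon S).map sW) aW aW := by
    refine Groth.Agent.S13210.isPullback_of_yon ?_ ?_
    · rw [← cancel_mono (Groth.Agent.Lib.Helper12.OpenSub.incl X A), Category.assoc, Category.assoc,
        haW, ← Category.assoc, ← Category.assoc, ← Functor.map_comp, ← Functor.map_comp, htW, hsW,
        Functor.map_comp, Functor.map_comp, Category.assoc, Category.assoc, hR.w]
    · intro T b c hbc
      obtain ⟨b₀, rfl⟩ := (AlgSp.yon S).map_surjective b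
      obtain ⟨c₀, rfl⟩ := (AlgSp.yon S).map_surjective c
      have h1 : (AlgSp.yon S).map (b₀ ≫ ιW) ≫ a = (AlgSp.yon S).map (c₀ ≫ ιW) ≫ a := by
        rw [Functor.map_comp, Functor.map_comp, Category.assoc, Category.assoc, ← haW,
          ← Category.assoc, ← Category.assoc, hbc]
      obtain ⟨l, hl1, hl2⟩ := Groth.Agent.R2.H25.KerGrpd.exists_lift a s t hR (b₀ ≫ ιW) (c₀ ≫ ιW) h1
      have hl : ∀ x : ↥T.left, l.left x ∈ O := fun x => by
        show s.left (l.left x) ∈ W
        have h2 : (l ≫ s).left x = (c₀ ≫ ιW).left x := by rw [hl2]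
        rw [Over.comp_left, Over.comp_left, Scheme.Hom.comp_apply, Scheme.Hom.comp_apply] at h2
        rw [h2]
        exact (c₀.left x).2
      obtain ⟨d, hd⟩ := exists_lift_open O l hl
      have hdt : d ≫ tW = b₀ := by
        rw [← cancel_mono ιW, Category.assoc, htW, ← Category.assoc, hd, hl1]
      have hds : d ≫ sW = c₀ := by
        rw [← cancel_mono ιW, Category.assoc, hsW, ← Category.assoc, hd, hl2]
      refine ⟨(AlgSp.yon S).map d, ⟨by rw [← Functor.map_comp, hdt], by rw [← Functor.map_comp, hds]⟩,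
        ?_⟩
      rintro d' ⟨h1', h2'⟩
      obtain ⟨d'₀, rfl⟩ := (AlgSp.yon S).map_surjective d'
      rw [← Functor.map_comp] at h1' h2'
      have e1 := (AlgSp.yon S).map_injective h1'
      have e2 := (AlgSp.yon S).map_injective h2'
      congr 1
      rw [← cancel_mono ιO]
      apply Groth.Agent.R2.H25.KerGrpd.over_ext a s t hR
      · rw [Category.assoc, Category.assoc, ← htW, ← Category.assoc, ← Category.assoc, e1, hdt]
      · rw [Category.assoc, Category.assoc, ← hsW, ← Category.assoc, ← Category.assoc, e2, hds]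
  refine ⟨aW, sW, tW, haW, sqW, hsW, htW, hK, ?_⟩
  intro x'
  have hx : AlgSp.Points.map (Groth.Agent.Lib.Helper12.OpenSub.incl X A) x' ∈ A :=
    (Groth.Agent.Lib.Helper12.OpenSub.range_map_incl A).le ⟨x', rfl⟩
  obtain ⟨u, hu, e⟩ := hx
  refine ⟨(⟨u, hu⟩ : ↥W), ?_⟩
  apply Groth.Agent.R2.H25.MonoDiscrete.injective_map_of_mono
    (Groth.Agent.Lib.Helper12.OpenSub.incl X A)
  rw [AlgSp.Points.map_ofPt, haW, Groth.Agent.S10176.ofPt_map_comp]
  exact e

include hR hinv in
/-- the open subsheaf over an invariant affine open is an affine scheme (finiteness is only needed for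
the two projections of the kernel pair). -/
theorem exists_iso_openSub' (hflat : AlgSp.RepWith @Flat a)
    (hlfp : AlgSp.RepWith @LocallyOfFinitePresentation a) [IsFinite s.left] [IsFinite t.left]
    (hW : IsAffineOpen W) :
    ∃ (M : Over S) (_ : (AlgSp.yon S).obj M ≅
      Groth.Agent.Lib.Helper12.OpenSub.obj X (AlgSp.Points.ofPt a '' (W : Set ↥U.left))),
      IsAffine M.left := by
  obtain ⟨aW, sW, tW, haW, sqW, hsW, htW, hK, hsurj⟩ := restrict_chart a s t hR W hinv
  haveI : IsAffine (Over.mk (W.ι ≫ U.hom)).left := hW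
  have hflatW : AlgSp.RepWith @Flat aW := MorphismProperty.of_isPullback sqW hflat
  have hlfpW : AlgSp.RepWith @LocallyOfFinitePresentation aW := MorphismProperty.of_isPullback sqW hlfp
  have hsurjW : AlgSp.RepWith @Surjective aW := by
    refine Groth.Agent.S9906.repWith_surjective_of_surjective_map aW hflatW.1 ?_
    intro x'
    obtain ⟨w, hw⟩ := hsurj x'
    exact ⟨AlgSp.Points.ofScheme _ w, by rw [← AlgSp.Points.ofPt_eq_map_ofScheme]; exact hw⟩
  haveI : Epi aW := by
    haveI := Groth.Agent.S9885.isLocallySurjective_of_repWith aW hflatW hlfpW hsurjW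
    exact (Sheaf.isLocallySurjective_iff_epi aW).1 inferInstance
  haveI : Flat s.left := hflat.2 _ _ s hR
  haveI : LocallyOfFinitePresentation s.left := hlfp.2 _ _ s hR
  haveI : Flat t.left := hflat.2 _ _ t hR.flip
  haveI : LocallyOfFinitePresentation t.left := hlfp.2 _ _ t hR.flip
  have hsW' : sW.left ≫ W.ι = (s.left ⁻¹ᵁ W).ι ≫ s.left := congrArg (fun m => m.left) hsW
  have htW' : tW.left ≫ W.ι = (s.left ⁻¹ᵁ W).ι ≫ t.left := congrArg (fun m => m.left) htW
  haveI : IsFinite sW.left := prop_of_restrict @IsFinite s.left W _ rfl sW.left hsW' inferInstance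
  haveI : Flat sW.left := prop_of_restrict @Flat s.left W _ rfl sW.left hsW' inferInstance
  haveI : LocallyOfFinitePresentation sW.left :=
    prop_of_restrict @LocallyOfFinitePresentation s.left W _ rfl sW.left hsW' inferInstance
  haveI : IsFinite tW.left := prop_of_restrict @IsFinite t.left W _ hinv tW.left htW' inferInstance
  haveI : Flat tW.left := prop_of_restrict @Flat t.left W _ hinv tW.left htW' inferInstance
  haveI : LocallyOfFinitePresentation tW.left :=
    prop_of_restrict @LocallyOfFinitePresentation t.left W _ hinv tW.left htW' inferInstance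
  obtain ⟨M, q, e, -, hM, -⟩ := exists_iso_of_kernelPair aW sW tW hK
  exact ⟨M, e, hM⟩

include hR hinv in
/-- **the open subsheaf over an invariant affine open is an affine scheme.** -/
theorem exists_iso_openSub (hfin : AlgSp.RepWith @IsFinite a) (hflat : AlgSp.RepWith @Flat a)
    (hlfp : AlgSp.RepWith @LocallyOfFinitePresentation a) (hW : IsAffineOpen W) :
    ∃ (M : Over S) (_ : (AlgSp.yon S).obj M ≅
      Groth.Agent.Lib.Helper12.OpenSub.obj X (AlgSp.Points.ofPt a '' (W : Set ↥U.left))),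
      IsAffine M.left := by
  haveI : IsFinite s.left := hfin.2 _ _ s hR
  haveI : IsFinite t.left := hfin.2 _ _ t hR.flip
  exact exists_iso_openSub' a s t hR W hinv hflat hlfp hW

end Core

end Groth.Agent.R2.H25.FinQuot
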