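import Mathlib
import Groth.Prelude.Def_Grpd
import Groth.Agent.Lib.Helper2Grpd

/-!
# helper33: shear maps of a groupoid scheme

For a groupoid scheme `(U, R, s, t, c)` and `P = R ×_{s,U,t} R`:
* `isPullback_fst_c`: the square `(fst, c ; t, t)` is cartesian (`(a, b) ↦ (a, a ∘ b)`);
* `invFst : P ⟶ P`, `(a, b) ↦ (a⁻¹, a ∘ b)`, with `invFst ≫ c = snd`;
* `sndInv : P ⟶ P`, `(a, b) ↦ (a ∘ b, b⁻¹)`, with `sndInv ≫ c = fst`;
* `idE : R ⟶ P`, `a ↦ (a, e (s a))`, with `idE ≫ c = 𝟙`.
-/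

set_option autoImplicit false
universe u

open CategoryTheory CategoryTheory.Limits AlgebraicGeometry
open Groth.Agent.Lib.Helper2.Grpd

namespace Groth.Agent.R2.H33.GrpdShear

variable {S : Scheme.{u}} (G : Grpd.GroupoidScheme S)

lemma c_eq_comp : G.c = comp G (pullback.fst G.s G.t) (pullback.snd G.s G.t) pullback.condition := by
  unfold comp
  have : pullback.lift (pullback.fst G.s G.t) (pullback.snd G.s G.t) pullback.condition = 𝟙 _ := by
    apply pullback.hom_ext <;> simp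
  rw [this, Category.id_comp]

lemma c_t : G.c ≫ G.t = pullback.fst G.s G.t ≫ G.t := by
  rw [c_eq_comp, comp_t]

lemma c_s : G.c ≫ G.s = pullback.snd G.s G.t ≫ G.s := by
  rw [c_eq_comp, comp_s]

/-- `(a, b) ↦ (a⁻¹, a ∘ b)`. -/
noncomputable def invFst : pullback G.s G.t ⟶ pullback G.s G.t :=
  pullback.lift (pullback.fst G.s G.t ≫ G.i) G.c (by
    rw [Category.assoc, G.i_s, c_t])

@[reassoc (attr := simp)]
lemma invFst_fst : invFst G ≫ pullback.fst G.s G.t = pullback.fst G.s G.t ≫ G.i :=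
  pullback.lift_fst _ _ _

@[reassoc (attr := simp)]
lemma invFst_snd : invFst G ≫ pullback.snd G.s G.t = G.c :=
  pullback.lift_snd _ _ _

lemma invFst_c : invFst G ≫ G.c = pullback.snd G.s G.t := by
  conv_lhs => rw [c_eq_comp, precomp_comp]
  have h1 : invFst G ≫ pullback.snd G.s G.t =
      comp G (pullback.fst G.s G.t) (pullback.snd G.s G.t) pullback.condition := by
    rw [invFst_snd, ← c_eq_comp]
  rw [comp_congr G _ (invFst_fst G) h1]
  exact i_comp_comp G _ _ _ _

/-- `(a, b) ↦ (a ∘ b, b⁻¹)`. -/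
noncomputable def sndInv : pullback G.s G.t ⟶ pullback G.s G.t :=
  pullback.lift G.c (pullback.snd G.s G.t ≫ G.i) (by
    rw [Category.assoc, G.i_t, c_s])

@[reassoc (attr := simp)]
lemma sndInv_fst : sndInv G ≫ pullback.fst G.s G.t = G.c :=
  pullback.lift_fst _ _ _

@[reassoc (attr := simp)]
lemma sndInv_snd : sndInv G ≫ pullback.snd G.s G.t = pullback.snd G.s G.t ≫ G.i :=
  pullback.lift_snd _ _ _

lemma sndInv_c : sndInv G ≫ G.c = pullback.fst G.s G.t := by
  conv_lhs => rw [c_eq_comp, precomp_comp]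
  have h1 : sndInv G ≫ pullback.fst G.s G.t =
      comp G (pullback.fst G.s G.t) (pullback.snd G.s G.t) pullback.condition := by
    rw [sndInv_fst, ← c_eq_comp]
  rw [comp_congr G _ h1 (sndInv_snd G)]
  exact comp_comp_i G _ _ _ _

/-- `a ↦ (a, e (s a))`. -/
noncomputable def idE : G.R ⟶ pullback G.s G.t :=
  pullback.lift (𝟙 G.R) (G.s ≫ G.e) (by
    rw [Category.id_comp, Category.assoc, G.e_t, Category.comp_id])

@[reassoc (attr := simp)]
lemma idE_fst : idE G ≫ pullback.fst G.s G.t = 𝟙 G.R := pullback.lift_fst _ _ _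

@[reassoc (attr := simp)]
lemma idE_snd : idE G ≫ pullback.snd G.s G.t = G.s ≫ G.e := pullback.lift_snd _ _ _

lemma idE_c : idE G ≫ G.c = 𝟙 G.R := by
  conv_lhs => rw [c_eq_comp, precomp_comp]
  rw [comp_congr G _ (idE_fst G) (idE_snd G)]
  exact comp_e G (𝟙 G.R) _ (by rw [Category.id_comp]) _

/-- `a ↦ (e (t a), a)`. -/
noncomputable def eId : G.R ⟶ pullback G.s G.t :=
  pullback.lift (G.t ≫ G.e) (𝟙 G.R) (by
    rw [Category.id_comp, Category.assoc, G.e_s, Category.comp_id])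

@[reassoc (attr := simp)]
lemma eId_fst : eId G ≫ pullback.fst G.s G.t = G.t ≫ G.e := pullback.lift_fst _ _ _

@[reassoc (attr := simp)]
lemma eId_snd : eId G ≫ pullback.snd G.s G.t = 𝟙 G.R := pullback.lift_snd _ _ _

lemma eId_c : eId G ≫ G.c = 𝟙 G.R := by
  conv_lhs => rw [c_eq_comp, precomp_comp]
  rw [comp_congr G _ (eId_fst G) (eId_snd G)]
  exact e_comp G (𝟙 G.R) _ (by rw [Category.id_comp]) _

/-- The square `(fst, c ; t, t)` is cartesian. -/
theorem isPullback_fst_c : IsPullback (pullback.fst G.s G.t) G.c G.t G.t := by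
  set p := pullback.fst G.s G.t with hp
  set q := pullback.snd G.s G.t with hq
  have hpq : p ≫ G.s = q ≫ G.t := pullback.condition
  have hc : G.c = comp G p q hpq := c_eq_comp G
  have w : p ≫ G.t = G.c ≫ G.t := (c_t G).symm
  have hlift : ∀ c : PullbackCone G.t G.t, (c.fst ≫ G.i) ≫ G.s = c.snd ≫ G.t := by
    intro c
    rw [Category.assoc, G.i_s]
    exact c.condition
  have hlift2 : ∀ c : PullbackCone G.t G.t,
      c.fst ≫ G.s = comp G (c.fst ≫ G.i) c.snd (hlift c) ≫ G.t := by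
    intro c
    rw [comp_t, Category.assoc, G.i_t]
  refine ⟨⟨w⟩, ⟨PullbackCone.IsLimit.mk w
    (fun c => pullback.lift c.fst (comp G (c.fst ≫ G.i) c.snd (hlift c)) (hlift2 c)) ?_ ?_ ?_⟩⟩
  · intro c
    exact pullback.lift_fst _ _ _
  · intro c
    rw [hc, precomp_comp]
    have e1 : pullback.lift c.fst (comp G (c.fst ≫ G.i) c.snd (hlift c)) (hlift2 c) ≫ p = c.fst :=
      pullback.lift_fst _ _ _
    have e2 : pullback.lift c.fst (comp G (c.fst ≫ G.i) c.snd (hlift c)) (hlift2 c) ≫ q =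
        comp G (c.fst ≫ G.i) c.snd (hlift c) := pullback.lift_snd _ _ _
    rw [comp_congr G _ e1 e2]
    exact comp_i_comp G c.fst c.snd (hlift c) _
  · intro c m hm1 hm2
    apply pullback.hom_ext
    · show m ≫ p = _ ≫ p
      rw [pullback.lift_fst]
      exact hm1
    · show m ≫ q = _ ≫ q
      rw [pullback.lift_snd]
      have h0 : (m ≫ p) ≫ G.s = (m ≫ q) ≫ G.t := by
        rw [Category.assoc, Category.assoc, hpq]
      have h1 : m ≫ G.c = comp G (m ≫ p) (m ≫ q) h0 := by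
        rw [hc, precomp_comp]
      have h2 := i_comp_comp G (m ≫ p) (m ≫ q) h0
        (by rw [comp_t]; simp only [Category.assoc, G.i_s])
      rw [← h2]
      exact comp_congr G _ (by rw [hm1]) (h1.symm.trans hm2)

end Groth.Agent.R2.H33.GrpdShear
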