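import Mathlib
import Groth.Agent.R2.H33RetNorm

/-!
# The norm `nrm` and primes (helper33)

`nrm_mem_prime_iff` : for `r : Ret A B n` and `b : B`, the norm `nrm r (lmul b)` lies in a prime `p` of `A`
iff some prime `P` of `B` over `p` contains `b`.
-/

set_option autoImplicit false
set_option linter.style.haveILetI false
set_option linter.unusedSectionVars false
universe u

open TensorProduct Polynomial
open Groth.Agent.Lib.Helper2.RetCharpoly Groth.Agent.R2.H33.RetNorm

namespace Groth.Agent.R2.H33.RetNormPrime

variable {A B : Type u} [CommRing A] [CommRing B] [Algebra A B] {n : ℕ} (r : Ret A B n)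

attribute [local instance] Algebra.TensorProduct.rightAlgebra in
/-- fibre data with a universal property for arbitrary targets -/
theorem fibre_data' {K : Type u} [CommRing K] (x : A →+* K) :
    ∃ (P : Type u) (_ : CommRing P) (_ : Algebra K P) (incl : B →+* P) (r' : Ret K P n),
      (∀ a, incl (algebraMap A B a) = algebraMap K P (x a)) ∧
      (∀ b, mat r' (Algebra.lmul K P (incl b)) = (mat r (Algebra.lmul A B b)).map x) ∧
      (∀ (L : Type u) [CommRing L] (g : K →+* L) (ρ : B →+* L),
        ρ.comp (algebraMap A B) = g.comp x → ∃ ρ' : P →+* L, ∀ b, ρ' (incl b) = ρ b) := by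
  letI : Algebra A K := x.toAlgebra
  refine ⟨K ⊗[A] B, inferInstance, inferInstance, algebraMap B (K ⊗[A] B),
    r.bc (T := K) (P := K ⊗[A] B), ?_, ?_, ?_⟩
  · intro a
    rw [← IsScalarTower.algebraMap_apply A B (K ⊗[A] B), IsScalarTower.algebraMap_apply A K (K ⊗[A] B)]
    rfl
  · intro b
    exact bc_mat r b
  · intro L _ g ρ hρ
    letI : Algebra A L := (g.comp x).toAlgebra
    let f' : K →ₐ[A] L := { g with commutes' := fun a => rfl }
    have hcomm : ∀ a : A, ρ (algebraMap A B a) = algebraMap A L a := fun a =>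
      congrArg (fun φ : A →+* L => φ a) hρ
    let g' : B →ₐ[A] L := { ρ with commutes' := hcomm }
    refine ⟨(Algebra.TensorProduct.productMap f' g').toRingHom, ?_⟩
    intro b
    rw [Algebra.TensorProduct.right_algebraMap_apply]
    change Algebra.TensorProduct.productMap f' g' (1 ⊗ₜ b) = ρ b
    rw [Algebra.TensorProduct.productMap_apply_tmul]
    simp [g']

theorem nrm_of_mat {K P : Type u} [CommRing K] [CommRing P] [Algebra K P] (x : A →+* K)
    (incl : B →+* P) (r' : Ret K P n)
    (hm : ∀ b, mat r' (Algebra.lmul K P (incl b)) = (mat r (Algebra.lmul A B b)).map x) (b : B) :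
    nrm r' (Algebra.lmul K P (incl b)) = x (nrm r (Algebra.lmul A B b)) := by
  rw [nrm_eq_det, nrm_eq_det, one_sub_lmul, one_sub_lmul]
  have h1 : (1 : P) - incl b = incl (1 - b) := by rw [map_sub, map_one]
  rw [h1, hm, RingHom.map_det, RingHom.mapMatrix_apply]
  congr 1
  ext i j
  simp [Matrix.map_apply, Matrix.one_apply]

theorem nrm_mem_prime_iff (b : B) (p : Ideal A) [p.IsPrime] :
    nrm r (Algebra.lmul A B b) ∈ p ↔
      ∃ P : Ideal B, P.IsPrime ∧ P.comap (algebraMap A B) = p ∧ b ∈ P := by
  let K := p.ResidueField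
  let x : A →+* K := algebraMap A K
  obtain ⟨P, _, _, incl, r', ha, hm, hu⟩ := fibre_data' r x
  have hnrm := nrm_of_mat r x incl r' hm b
  have h1 : nrm r (Algebra.lmul A B b) ∈ p ↔ ¬ IsUnit (incl b) := by
    rw [← isUnit_nrm_lmul_iff r', hnrm, isUnit_iff_ne_zero, not_not]
    exact Ideal.algebraMap_residueField_eq_zero.symm
  rw [h1]
  constructor
  · intro hb
    obtain ⟨M, hM, hbM⟩ := exists_max_ideal_of_mem_nonunits hb
    have hMp : M.IsPrime := hM.isPrime
    refine ⟨M.comap incl, Ideal.comap_isPrime _ _, ?_, hbM⟩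
    rw [Ideal.comap_comap]
    have h2 : incl.comp (algebraMap A B) = (algebraMap K P).comp x := by
      ext a
      exact ha a
    rw [h2, ← Ideal.comap_comap]
    have h3 : M.comap (algebraMap K P) = ⊥ := by
      have hprime : (M.comap (algebraMap K P)).IsPrime := Ideal.comap_isPrime _ _
      rcases @Ideal.eq_bot_or_top K _ (M.comap (algebraMap K P)) with h | h
      · exact h
      · exact absurd h hprime.ne_top
    rw [h3]
    ext a
    rw [Ideal.mem_comap, Ideal.mem_bot]
    exact Ideal.algebraMap_residueField_eq_zero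
  · rintro ⟨Q, hQ, hQp, hbQ⟩ hunit
    let L := Q.ResidueField
    obtain ⟨ρ', hρ'⟩ := hu L (Ideal.ResidueField.map p Q (algebraMap A B) hQp.symm)
      (algebraMap B L) (by
        ext a
        exact (Ideal.ResidueField.map_algebraMap p Q (algebraMap A B) hQp.symm a).symm)
    have h4 : ρ' (incl b) = 0 := by
      rw [hρ']
      exact Ideal.algebraMap_residueField_eq_zero.mpr hbQ
    have h5 := hunit.map ρ'
    rw [h4] at h5
    exact not_isUnit_zero h5

end Groth.Agent.R2.H33.RetNormPrime
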