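import Mathlib
import Groth.Prelude.Def_Grpd
import Groth.Agent.R2.H33RetNormPrime
import Groth.Agent.R2.H33GrpdShear

/-!
# Invariant affine opens for finite locally free groupoids (helper33)

* `sat G V` : the largest `R`-invariant subset of `V ⊆ U` (points whose whole orbit lies in `V`);
* `exists_norm_open` : for a finite locally free `f : Y ⟶ X`, an affine open `V ⊆ X` and a function `h` on
  `f⁻¹ V`, there is `N ∈ Γ(X, V)` whose non-vanishing locus is the set of `x ∈ V` such that `h` does not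
  vanish anywhere on the fibre `f⁻¹ x`;
* `exists_invariant_affine_open` : Stacks-style invariant affine neighbourhood.
-/

set_option autoImplicit false
set_option linter.style.haveILetI false
set_option linter.unusedSectionVars false
universe u

open CategoryTheory CategoryTheory.Limits AlgebraicGeometry
open Groth.Agent.Lib.Helper2.RetCharpoly Groth.Agent.R2.H33.RetNorm Groth.Agent.R2.H33.RetNormPrime
open Grpd

namespace Groth.Agent.R2.H33.GrpdInvOpen

section Pts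
variable {S : Scheme.{u}} (G : Grpd.GroupoidScheme S)

theorem s_e_pt (v : G.U) : G.s (G.e v) = v := by
  have := congrArg (fun φ : G.U ⟶ G.U => φ v) G.e_s
  simpa using this

theorem t_e_pt (v : G.U) : G.t (G.e v) = v := by
  have := congrArg (fun φ : G.U ⟶ G.U => φ v) G.e_t
  simpa using this

theorem s_i_pt (r : G.R) : G.s (G.i r) = G.t r := by
  have := congrArg (fun φ : G.R ⟶ G.U => φ r) G.i_s
  simpa using this

theorem t_i_pt (r : G.R) : G.t (G.i r) = G.s r := by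
  have := congrArg (fun φ : G.R ⟶ G.U => φ r) G.i_t
  simpa using this

/-- composition on points -/
theorem exists_comp_pt (r₁ r₂ : G.R) (h : G.s r₁ = G.t r₂) :
    ∃ r₃ : G.R, G.s r₃ = G.s r₂ ∧ G.t r₃ = G.t r₁ := by
  obtain ⟨z, hz1, hz2⟩ := Scheme.Pullback.exists_preimage_pullback (f := G.s) (g := G.t) r₁ r₂ h
  refine ⟨G.c z, ?_, ?_⟩
  · have := congrArg (fun φ : pullback G.s G.t ⟶ G.U => φ z) (Groth.Agent.R2.H33.GrpdShear.c_s G)
    simp only [Scheme.Hom.comp_apply] at this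
    rw [this, hz2]
  · have := congrArg (fun φ : pullback G.s G.t ⟶ G.U => φ z) (Groth.Agent.R2.H33.GrpdShear.c_t G)
    simp only [Scheme.Hom.comp_apply] at this
    rw [this, hz1]

/-- the largest invariant subset inside `V` -/
def sat (V : Set G.U) : Set G.U := {v | ∀ r : G.R, G.s r = v → G.t r ∈ V}

theorem sat_subset (V : Set G.U) : sat G V ⊆ V := by
  intro v hv
  have := hv (G.e v) (s_e_pt G v)
  rwa [t_e_pt] at this

theorem sat_s_imp_t (V : Set G.U) (r₀ : G.R) (h : G.s r₀ ∈ sat G V) : G.t r₀ ∈ sat G V := by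
  intro r hr
  obtain ⟨r₃, h3s, h3t⟩ := exists_comp_pt G r r₀ hr
  have := h r₃ h3s
  rwa [h3t] at this

theorem sat_invariant (V : Set G.U) : G.s ⁻¹' (sat G V) = G.t ⁻¹' (sat G V) := by
  ext r₀
  constructor
  · exact sat_s_imp_t G V r₀
  · intro h
    have h1 : G.s (G.i r₀) ∈ sat G V := by
      rw [s_i_pt]
      exact h
    have := sat_s_imp_t G V (G.i r₀) h1
    rwa [t_i_pt] at this

theorem sat_isOpen [UniversallyClosed G.s] (V : Set G.U) (hV : IsOpen V) : IsOpen (sat G V) := by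
  have h1 : (sat G V)ᶜ = G.s '' (G.t ⁻¹' Vᶜ) := by
    ext v
    simp only [sat, Set.mem_compl_iff, Set.mem_setOf_eq, Set.mem_image, Set.mem_preimage]
    push Not
    constructor
    · rintro ⟨r, hr, hrV⟩
      exact ⟨r, hrV, hr⟩
    · rintro ⟨r, hrV, hr⟩
      exact ⟨r, hr, hrV⟩
  rw [← isClosed_compl_iff, h1]
  exact G.s.isClosedMap _ ((isClosed_compl_iff.mpr hV).preimage G.t.continuous)

theorem orbit_subset_sat (V : Set G.U) (u : G.U) (h : ∀ r : G.R, G.s r = u → G.t r ∈ V)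
    (r : G.R) (hr : G.s r = u) : G.t r ∈ sat G V := by
  apply sat_s_imp_t
  rw [hr]
  exact h

end Pts

section Affine
variable {X Y : Scheme.{u}}

theorem fromSpec_mem_basicOpen_iff {U : X.Opens} (hU : IsAffineOpen U) (f : Γ(X, U))
    (p : PrimeSpectrum Γ(X, U)) : hU.fromSpec p ∈ X.basicOpen f ↔ f ∉ p.asIdeal := by
  have h1 : p ∈ hU.fromSpec ⁻¹ᵁ X.basicOpen f ↔ p ∈ PrimeSpectrum.basicOpen f := by
    rw [hU.fromSpec_preimage_basicOpen]
    exact Iff.rfl
  exact h1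

theorem fromSpec_injective {U : X.Opens} (hU : IsAffineOpen U) : Function.Injective hU.fromSpec :=
  hU.fromSpec.isOpenEmbedding.injective

theorem exists_fromSpec_eq {U : X.Opens} (hU : IsAffineOpen U) (x : X) (hx : x ∈ U) :
    ∃ p : PrimeSpectrum Γ(X, U), hU.fromSpec p = x :=
  ⟨hU.primeIdealOf ⟨x, hx⟩, hU.fromSpec_primeIdealOf ⟨x, hx⟩⟩

/-- In an affine open `V`, a finite set of points inside an open `W' ⊆ V` lies in a basic open
`D(f) ⊆ W'`. -/
theorem exists_basicOpen_of_finite {V : X.Opens} (hV : IsAffineOpen V) (W' : X.Opens)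
    (O : Set X) (hO : O.Finite) (hOW : O ⊆ W') (hOV : O ⊆ V) :
    ∃ f : Γ(X, V), O ⊆ X.basicOpen f ∧ X.basicOpen f ≤ W' := by
  classical
  let Z : Set (PrimeSpectrum Γ(X, V)) := (hV.fromSpec ⁻¹' (W' : Set X))ᶜ
  have hZ : IsClosed Z := (W'.isOpen.preimage hV.fromSpec.continuous).isClosed_compl
  let I : Ideal Γ(X, V) := PrimeSpectrum.vanishingIdeal Z
  have hZI : PrimeSpectrum.zeroLocus (I : Set Γ(X, V)) = Z := by
    rw [PrimeSpectrum.zeroLocus_vanishingIdeal_eq_closure, hZ.closure_eq]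
  -- the primes of the points of `O`
  let T : Set (PrimeSpectrum Γ(X, V)) := hV.fromSpec ⁻¹' O
  have hT : T.Finite := hO.preimage (fromSpec_injective hV).injOn
  have hTZ : ∀ p ∈ T, ¬ I ≤ p.asIdeal := by
    intro p hp hle
    have h1 : p ∈ PrimeSpectrum.zeroLocus (I : Set Γ(X, V)) := hle
    rw [hZI] at h1
    exact h1 (hOW hp)
  have hex : ∃ f ∈ I, ∀ p ∈ T, f ∉ p.asIdeal := by
    by_contra hcon
    push Not at hcon
    have hsub : (I : Set Γ(X, V)) ⊆ ⋃ p ∈ (↑hT.toFinset : Set (PrimeSpectrum Γ(X, V))),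
        (p.asIdeal : Set Γ(X, V)) := by
      intro f hf
      obtain ⟨p, hp, hfp⟩ := hcon f hf
      simp only [Set.mem_iUnion]
      exact ⟨p, by simpa using hp, hfp⟩
    by_cases hTe : hT.toFinset = ∅
    · rw [hTe] at hsub
      simp only [Finset.coe_empty, Set.mem_empty_iff_false, Set.iUnion_of_empty,
        Set.iUnion_empty] at hsub
      exact (hsub I.zero_mem).elim
    · obtain ⟨a, ha⟩ := Finset.nonempty_iff_ne_empty.mpr hTe
      obtain ⟨p, hp, hle⟩ := (Ideal.subset_union_prime (s := hT.toFinset)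
        (f := fun p : PrimeSpectrum Γ(X, V) => p.asIdeal) a a
        (fun p _ _ _ => p.isPrime)).mp hsub
      exact hTZ p (by simpa using hp) hle
  obtain ⟨f, hfI, hfT⟩ := hex
  refine ⟨f, ?_, ?_⟩
  · intro o ho
    obtain ⟨p, hp⟩ := exists_fromSpec_eq hV o (hOV ho)
    rw [← hp, SetLike.mem_coe, fromSpec_mem_basicOpen_iff]
    exact hfT p (by change hV.fromSpec p ∈ O; rw [hp]; exact ho)
  · intro x hx
    obtain ⟨p, hp⟩ := exists_fromSpec_eq hV x (X.basicOpen_le f hx)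
    rw [← hp, fromSpec_mem_basicOpen_iff] at hx
    by_contra hxW
    have h1 : p ∈ Z := by
      change p ∉ (hV.fromSpec ⁻¹' (W' : Set X))
      intro h2
      apply hxW
      rw [← hp]
      exact h2
    rw [← hZI] at h1
    exact hx (h1 hfI)

/-- For `f : Y ⟶ X` finite locally free, `V ⊆ X` affine open and `h` a function on `f⁻¹ V`, there is a
function `N` on `V` (the norm of `h`) that is nonzero at `x ∈ V` iff `h` vanishes nowhere on `f⁻¹ x`. -/
theorem exists_norm_open (f : Y ⟶ X) [IsFinite f] [Flat f] [LocallyOfFinitePresentation f]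
    {V : X.Opens} (hV : IsAffineOpen V) (h : Γ(Y, f ⁻¹ᵁ V)) :
    ∃ N : Γ(X, V), ∀ x ∈ V, x ∈ X.basicOpen N ↔ ∀ y : Y, f y = x → y ∈ Y.basicOpen h := by
  have hR : IsAffineOpen (f ⁻¹ᵁ V) := hV.preimage f
  letI : Algebra Γ(X, V) Γ(Y, f ⁻¹ᵁ V) := (f.app V).hom.toAlgebra
  have hfin : Module.Finite Γ(X, V) Γ(Y, f ⁻¹ᵁ V) := IsFinite.finite_app (f := f) V hV
  have happ : f.app V = f.appLE V (f ⁻¹ᵁ V) le_rfl := Scheme.Hom.app_eq_appLE f
  have hflat : Module.Flat Γ(X, V) Γ(Y, f ⁻¹ᵁ V) := by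
    have := HasRingHomProperty.appLE @Flat f inferInstance ⟨V, hV⟩ ⟨f ⁻¹ᵁ V, hR⟩ le_rfl
    rw [← happ] at this
    exact this
  have hfp : Algebra.FinitePresentation Γ(X, V) Γ(Y, f ⁻¹ᵁ V) := by
    have := HasRingHomProperty.appLE @LocallyOfFinitePresentation f inferInstance ⟨V, hV⟩
      ⟨f ⁻¹ᵁ V, hR⟩ le_rfl
    rw [← happ] at this
    exact this
  have : Module.FinitePresentation Γ(X, V) Γ(Y, f ⁻¹ᵁ V) :=
    Module.FinitePresentation.of_finite_of_finitePresentation _ _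
  have hproj : Module.Projective Γ(X, V) Γ(Y, f ⁻¹ᵁ V) :=
    Module.Flat.projective_of_finitePresentation
  obtain ⟨n, ⟨r⟩⟩ := exists_ret Γ(X, V) Γ(Y, f ⁻¹ᵁ V)
  refine ⟨nrm r (Algebra.lmul Γ(X, V) Γ(Y, f ⁻¹ᵁ V) h), ?_⟩
  intro x hxV
  obtain ⟨p, hp⟩ := exists_fromSpec_eq hV x hxV
  have hnat := IsAffineOpen.SpecMap_appLE_fromSpec f hV hR le_rfl
  rw [← happ] at hnat
  have hnat' : ∀ q : PrimeSpectrum Γ(Y, f ⁻¹ᵁ V),
      f (hR.fromSpec q) = hV.fromSpec (Spec.map (f.app V) q) := by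
    intro q
    have := congrArg (fun φ : Spec Γ(Y, f ⁻¹ᵁ V) ⟶ X => φ q) hnat
    exact this.symm
  rw [← hp, fromSpec_mem_basicOpen_iff, nrm_mem_prime_iff r h p.asIdeal]
  constructor
  · intro hno y hy
    have hyR : y ∈ f ⁻¹ᵁ V := by
      change f y ∈ V
      rw [hy, hp]
      exact hxV
    obtain ⟨q, hq⟩ := exists_fromSpec_eq hR y hyR
    rw [← hq, fromSpec_mem_basicOpen_iff]
    intro hhq
    apply hno
    refine ⟨q.asIdeal, q.isPrime, ?_, hhq⟩
    have h1 : hV.fromSpec (Spec.map (f.app V) q) = hV.fromSpec p := by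
      rw [← hnat', hq, hy]
    have h2 := fromSpec_injective hV h1
    exact congrArg PrimeSpectrum.asIdeal h2
  · intro hall
    rintro ⟨Q, hQ, hQp, hhQ⟩
    let q : PrimeSpectrum Γ(Y, f ⁻¹ᵁ V) := ⟨Q, hQ⟩
    have h1 : Spec.map (f.app V) q = p := by
      apply PrimeSpectrum.ext
      exact hQp
    have h2 : f (hR.fromSpec q) = hV.fromSpec p := by
      rw [hnat', h1]
    have h3 := hall (hR.fromSpec q) h2
    rw [fromSpec_mem_basicOpen_iff] at h3
    exact h3 hhQ

end Affine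

section Main
variable {S : Scheme.{u}} (G : Grpd.GroupoidScheme S)

theorem exists_invariant_affine_open [IsFinite G.s] [Flat G.s] [LocallyOfFinitePresentation G.s]
    (u : G.U) (V : G.U.Opens) (hV : IsAffineOpen V) (huV : ∀ r : G.R, G.s r = u → G.t r ∈ V) :
    ∃ W : G.U.Opens, IsAffineOpen W ∧ u ∈ W ∧ G.s ⁻¹ᵁ W = G.t ⁻¹ᵁ W := by
  -- the largest invariant open inside `V`
  let W' : G.U.Opens := ⟨sat G (V : Set G.U), sat_isOpen G _ V.isOpen⟩
  have hW'V : W' ≤ V := sat_subset G _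
  -- the orbit of `u`
  let O : Set G.U := G.t '' (G.s ⁻¹' {u})
  have hO : O.Finite := (G.s.finite_preimage_singleton u).image _
  have hOW' : O ⊆ W' := by
    rintro _ ⟨r, hr, rfl⟩
    exact orbit_subset_sat G _ u huV r hr
  obtain ⟨f, hOf, hfW'⟩ := exists_basicOpen_of_finite hV W' O hO hOW' (hOW'.trans hW'V)
  let V₁ : G.U.Opens := G.U.basicOpen f
  have hV₁ : IsAffineOpen V₁ := hV.basicOpen f
  have hle : G.s ⁻¹ᵁ V₁ ≤ G.t ⁻¹ᵁ V := by
    intro r hr
    have h1 : G.s r ∈ W' := hfW' hr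
    exact h1 r rfl
  let h : Γ(G.R, G.s ⁻¹ᵁ V₁) := G.t.appLE V (G.s ⁻¹ᵁ V₁) hle f
  have hbh : G.R.basicOpen h = G.s ⁻¹ᵁ V₁ ⊓ G.t ⁻¹ᵁ V₁ := Scheme.basicOpen_appLE _ _ _ _ _
  obtain ⟨N, hN⟩ := exists_norm_open G.s hV₁ h
  have hWV₁ : G.U.basicOpen N ≤ V₁ := G.U.basicOpen_le N
  -- `D(N)` is the largest invariant subset of `V₁`
  have hWsat : (G.U.basicOpen N : Set G.U) = sat G (V₁ : Set G.U) := by
    ext x
    constructor
    · intro hx r hr
      have h1 := (hN x (hWV₁ hx)).mp hx r hr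
      rw [hbh] at h1
      exact h1.2
    · intro hx
      have hxV₁ : x ∈ V₁ := sat_subset G _ hx
      rw [SetLike.mem_coe, hN x hxV₁]
      intro r hr
      rw [hbh]
      refine ⟨?_, hx r hr⟩
      change G.s r ∈ V₁
      rw [hr]
      exact hxV₁
  refine ⟨G.U.basicOpen N, hV₁.basicOpen N, ?_, ?_⟩
  · change u ∈ (G.U.basicOpen N : Set G.U)
    rw [hWsat]
    intro r hr
    exact hOf ⟨r, hr, rfl⟩
  · apply TopologicalSpace.Opens.ext
    change G.s ⁻¹' (G.U.basicOpen N : Set G.U) = G.t ⁻¹' (G.U.basicOpen N : Set G.U)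
    rw [hWsat]
    exact sat_invariant G _

end Main

end Groth.Agent.R2.H33.GrpdInvOpen
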