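import Mathlib
import Groth.Agent.R2.H25FinQuot
import Groth.Agent.S1881
import Groth.Agent.S9922
import Groth.Agent.S10175
import Groth.Agent.S10194

/-!
# The schematic locus of the target of a finite locally free cover (helper25)
-/

set_option autoImplicit false
universe u
open CategoryTheory CategoryTheory.Limits AlgebraicGeometry Topology TopologicalSpace

namespace Groth.Agent.R2.H25.SchLocus

open Opposite MorphismProperty

variable {S : Scheme.{u}}

/-- prime avoidance: a finite set of points of an open subset of an affine scheme lies in a basic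
open contained in that open. -/
lemma exists_basicOpen_of_finite {U : Scheme.{u}} [IsAffine U] (O : U.Opens) (F : Set ↥U)
    (hF : F.Finite) (hFO : F ⊆ (O : Set ↥U)) :
    ∃ g : Γ(U, ⊤), U.basicOpen g ≤ O ∧ F ⊆ (U.basicOpen g : Set ↥U) := by
  classical
  by_cases hne : F = ∅
  · refine ⟨0, ?_, ?_⟩
    · rw [Scheme.basicOpen_zero]; exact bot_le
    · rw [hne]; exact Set.empty_subset _
  obtain ⟨x₀, hx₀⟩ := Set.nonempty_iff_ne_empty.2 hne
  have hcl : IsClosed (U.toSpecΓ '' ((O : Set ↥U)ᶜ)) :=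
    U.toSpecΓ.homeomorph.isClosedMap _ O.isOpen.isClosed_compl
  obtain ⟨I, hI⟩ := (PrimeSpectrum.isClosed_iff_zeroLocus_ideal _).1 hcl
  have hav : ∃ g ∈ I, ∀ x ∈ F, g ∉ (U.toSpecΓ x).asIdeal := by
    by_contra hcon
    have hsub : (I : Set Γ(U, ⊤)) ⊆ ⋃ x ∈ (hF.toFinset : Set ↥U),
        (((fun x => (U.toSpecΓ x).asIdeal) x : Ideal Γ(U, ⊤)) : Set Γ(U, ⊤)) := by
      intro g hg
      by_contra hna
      apply hcon
      refine ⟨g, hg, fun x hx hgx => hna ?_⟩
      exact Set.mem_biUnion (Finset.mem_coe.2 (hF.mem_toFinset.2 hx)) hgx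
    rw [Ideal.subset_union_prime (f := fun x => (U.toSpecΓ x).asIdeal) x₀ x₀
      (fun x _ _ _ => (U.toSpecΓ x).isPrime)] at hsub
    obtain ⟨x, hx, hIx⟩ := hsub
    have h1 : U.toSpecΓ x ∈ PrimeSpectrum.zeroLocus (I : Set Γ(U, ⊤)) := hIx
    rw [← hI] at h1
    obtain ⟨x', hx', e⟩ := h1
    have h2 : x' = x := U.toSpecΓ.homeomorph.injective e
    rw [h2] at hx'
    exact hx' (hFO (hF.mem_toFinset.1 hx))
  obtain ⟨g, hgI, hg⟩ := hav
  refine ⟨g, ?_, ?_⟩
  · intro x hx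
    by_contra hxO
    have h1 : U.toSpecΓ x ∈ PrimeSpectrum.zeroLocus (I : Set Γ(U, ⊤)) := by
      rw [← hI]; exact ⟨x, hxO, rfl⟩
    have h2 : g ∈ (U.toSpecΓ x).asIdeal := h1 hgI
    rw [← Scheme.toSpecΓ_preimage_basicOpen] at hx
    exact hx h2
  · intro x hx
    rw [← Scheme.toSpecΓ_preimage_basicOpen]
    exact hg x hx

/-- a flat chart locally of finite presentation is open on points. -/
lemma isOpenMap_ofPt_of_flat {F : AlgSp.Sp S} {U : Over S} (a : (AlgSp.yon S).obj U ⟶ F)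
    (h1 : AlgSp.RepWith @Flat a) (h2 : AlgSp.RepWith @LocallyOfFinitePresentation a) :
    IsOpenMap (AlgSp.Points.ofPt a) := by
  intro V hV
  rw [AlgSp.Points.isOpen_iff]
  intro T g
  obtain ⟨W, w, pr', sq⟩ := h1.1 g
  obtain ⟨pr, rfl⟩ := (AlgSp.yon S).map_surjective pr'
  haveI : Flat w.left := h1.2 g _ w sq
  haveI : LocallyOfFinitePresentation w.left := h2.2 g _ w sq
  rw [Groth.Agent.S10176.preimage_ofPt_image sq V]
  exact w.left.isOpenMap _ (hV.preimage pr.left.continuous)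

/-- if the fibre of a finite locally free surjection over `y` lies in an affine open, `y` has an open
neighbourhood which is an affine scheme. -/
theorem exists_open_scheme_of_affine_fibre {X Y : AlgSp.Space S} (f : X ⟶ Y)
    (hf : AlgSp.IsFinLocFreeMor f.hom) (hs : AlgSp.RepWith @Surjective f.hom)
    (y : AlgSp.Points Y.obj) {U : Over S} (a : (AlgSp.yon S).obj U ⟶ X.obj) [IsAffine U.left]
    (ha : AlgSp.RepWith @IsOpenImmersion a)
    (hfib : AlgSp.Points.map f.hom ⁻¹' {y} ⊆ Set.range (AlgSp.Points.ofPt a)) :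
    ∃ (Y' : AlgSp.Space S) (j : Y' ⟶ Y), AlgSp.RepWith @IsOpenImmersion j.hom ∧
      Y'.obj.obj.IsRepresentable ∧ y ∈ Set.range (AlgSp.Points.map j.hom) := by
  have hfin : AlgSp.RepWith @IsFinite f.hom :=
    Groth.Agent.Lib.Helper12.OpenSub.repWith_mono (fun _ _ g hg => hg.1) hf
  have hflat : AlgSp.RepWith @Flat f.hom :=
    Groth.Agent.Lib.Helper12.OpenSub.repWith_mono (fun _ _ g hg => hg.2.1) hf
  have hlfp : AlgSp.RepWith @LocallyOfFinitePresentation f.hom :=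
    Groth.Agent.Lib.Helper12.OpenSub.repWith_mono (fun _ _ g hg => hg.2.2) hf
  have hcl : IsClosedMap (AlgSp.Points.map f.hom) :=
    Groth.Agent.S9922.isClosedMap_map_of_repWith f.hom
      (Groth.Agent.Lib.Helper12.OpenSub.repWith_mono
        (fun _ _ g hg => by haveI : IsFinite g := hg; infer_instance) hfin)
  have hopen : IsOpen (Set.range (AlgSp.Points.ofPt a)) := by
    rw [← Set.image_univ]
    exact Groth.Agent.S10176.isOpenMap_ofPt a
      (Groth.Agent.Lib.Helper12.OpenSub.repWith_mono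
        (fun _ _ g hg => by haveI : IsOpenImmersion g := hg; infer_instance) ha) _ isOpen_univ
  let Z : Set (AlgSp.Points X.obj) := (Set.range (AlgSp.Points.ofPt a))ᶜ
  let B : Set (AlgSp.Points Y.obj) := (AlgSp.Points.map f.hom '' Z)ᶜ
  have hB : IsOpen B := (hcl _ hopen.isClosed_compl).isOpen_compl
  have hyB : y ∈ B := by
    rintro ⟨x, hxZ, hxy⟩
    exact hxZ (hfib hxy)
  -- the open subspace `Y₁`
  have hj₁ : AlgSp.RepWith @IsOpenImmersion (Groth.Agent.Lib.Helper12.OpenSub.incl Y.obj B) :=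
    Groth.Agent.Lib.Helper12.OpenSub.repWith_incl hB
  have hY₁ : AlgSp.IsAlgSpace (Groth.Agent.Lib.Helper12.OpenSub.obj Y.obj B) :=
    Groth.Agent.Lib.Helper12.OpenSub.isAlgSpace_obj Y.property hB
  -- its preimage `U₁`
  let O₁ : U.left.Opens := ⟨AlgSp.Points.ofPt (a ≫ f.hom) ⁻¹' B,
    hB.preimage (AlgSp.Points.continuous_ofPt _)⟩
  let U₁ : Over S := Over.mk (O₁.ι ≫ U.hom)
  let ι₁ : U₁ ⟶ U := Over.homMk O₁.ι rfl
  have hfac : ∀ w : ↥U₁.left, AlgSp.Points.ofPt ((AlgSp.yon S).map ι₁ ≫ a ≫ f.hom) w ∈ B :=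
    fun w => by
      rw [Groth.Agent.S10176.ofPt_map_comp]
      exact w.2
  obtain ⟨b₁, hb₁⟩ := (Groth.Agent.Lib.Helper12.OpenSub.factor_iff B _).2 hfac
  haveI := Groth.Agent.Lib.Helper12.LargestOpen.mono_of_open a ha
  have sq₁ : IsPullback ((AlgSp.yon S).map ι₁ ≫ a) b₁ f.hom
      (Groth.Agent.Lib.Helper12.OpenSub.incl Y.obj B) := by
    apply Groth.Agent.S13210.isPullback_of_yon (by rw [Category.assoc]; exact hb₁.symm)
    intro T p c hpc
    have hp : Set.range (AlgSp.Points.map p) ⊆ Set.range (AlgSp.Points.map a) := by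
      rintro _ ⟨pt, rfl⟩
      by_contra hn
      have hZ : AlgSp.Points.map p pt ∈ Z := by
        rintro ⟨u, hu⟩
        apply hn
        refine ⟨AlgSp.Points.ofScheme U u, ?_⟩
        rw [← AlgSp.Points.ofPt_eq_map_ofScheme]; exact hu
      have h1 : AlgSp.Points.map f.hom (AlgSp.Points.map p pt) ∈ B := by
        rw [← AlgSp.Points.map_comp, hpc, AlgSp.Points.map_comp]
        exact (Groth.Agent.Lib.Helper12.OpenSub.range_map_incl B).le ⟨_, rfl⟩
      exact h1 ⟨_, hZ, rfl⟩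
    obtain ⟨g, hg⟩ := (Groth.Agent.S10194.exists_factor_iff a ha p).2 hp
    obtain ⟨g₀, rfl⟩ := (AlgSp.yon S).map_surjective g
    have hg₀ : ∀ x : ↥T.left, g₀.left x ∈ O₁ := fun x => by
      show AlgSp.Points.ofPt (a ≫ f.hom) (g₀.left x) ∈ B
      rw [← Groth.Agent.S10176.ofPt_map_comp, ← Category.assoc, hg, hpc]
      exact (Groth.Agent.Lib.Helper12.OpenSub.factor_iff B
        (c ≫ Groth.Agent.Lib.Helper12.OpenSub.incl Y.obj B)).1 ⟨c, rfl⟩ x
    obtain ⟨d, hd⟩ := Groth.Agent.R2.H25.FinQuot.exists_lift_open O₁ g₀ hg₀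
    refine ⟨(AlgSp.yon S).map d, ⟨?_, ?_⟩, ?_⟩
    · rw [← Category.assoc, ← Functor.map_comp, hd, hg]
    · rw [← cancel_mono (Groth.Agent.Lib.Helper12.OpenSub.incl Y.obj B), Category.assoc, hb₁,
        ← Category.assoc, ← Functor.map_comp, hd, ← Category.assoc, hg, hpc]
    · rintro d' ⟨h1, -⟩
      obtain ⟨d'₀, rfl⟩ := (AlgSp.yon S).map_surjective d'
      rw [← Category.assoc, ← Functor.map_comp] at h1
      have h2 := (AlgSp.yon S).map_injective ((cancel_mono a).1 (h1.trans hg.symm))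
      congr 1
      rw [← cancel_mono ι₁, h2, hd]
  have hb₁fin : AlgSp.RepWith @IsFinite b₁ := MorphismProperty.of_isPullback sq₁ hfin
  have hb₁flat : AlgSp.RepWith @Flat b₁ := MorphismProperty.of_isPullback sq₁ hflat
  have hb₁lfp : AlgSp.RepWith @LocallyOfFinitePresentation b₁ := MorphismProperty.of_isPullback sq₁ hlfp
  have hb₁surj : AlgSp.RepWith @Surjective b₁ := MorphismProperty.of_isPullback sq₁ hs
  -- the kernel pair
  obtain ⟨R₁, s₁, t', hR'⟩ := hb₁fin.1 b₁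
  obtain ⟨t₁, rfl⟩ := (AlgSp.yon S).map_surjective t'
  haveI : IsFinite s₁.left := hb₁fin.2 _ _ s₁ hR'
  haveI : Flat s₁.left := hb₁flat.2 _ _ s₁ hR'
  haveI : LocallyOfFinitePresentation s₁.left := hb₁lfp.2 _ _ s₁ hR'
  haveI : IsFinite t₁.left := hb₁fin.2 _ _ t₁ hR'.flip
  haveI : Flat t₁.left := hb₁flat.2 _ _ t₁ hR'.flip
  haveI : LocallyOfFinitePresentation t₁.left := hb₁lfp.2 _ _ t₁ hR'.flip
  -- a point over `y`
  obtain ⟨y₁, hy₁⟩ : ∃ y₁, AlgSp.Points.map (Groth.Agent.Lib.Helper12.OpenSub.incl Y.obj B) y₁ = y :=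
    (Groth.Agent.Lib.Helper12.OpenSub.range_map_incl B).ge hyB
  obtain ⟨u, hu⟩ := Groth.Agent.S10177.surjective_ofPt b₁ hb₁surj y₁
  -- its orbit lies in an affine open
  have hfinfib : (s₁.left ⁻¹' {u}).Finite := s₁.left.finite_preimage_singleton u
  let F : Set ↥U.left := (fun r => O₁.ι (t₁.left r)) '' (s₁.left ⁻¹' {u})
  obtain ⟨g, hgO, hFg⟩ := exists_basicOpen_of_finite O₁ F (hfinfib.image _) (by
    rintro _ ⟨r, -, rfl⟩
    exact (t₁.left r).2)
  let V : U₁.left.Opens := O₁.ι ⁻¹ᵁ (U.left.basicOpen g)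
  have hV : IsAffineOpen V :=
    ((isAffineOpen_top U.left).basicOpen g).preimage_of_isOpenImmersion O₁.ι (by
      rw [Scheme.Opens.opensRange_ι]; exact hgO)
  let G := Groth.Agent.R2.H25.KerGrpd.grpd b₁ s₁ t₁ hR'
  haveI : IsFinite G.s := (inferInstance : IsFinite s₁.left)
  haveI : Flat G.s := (inferInstance : Flat s₁.left)
  haveI : LocallyOfFinitePresentation G.s := (inferInstance : LocallyOfFinitePresentation s₁.left)
  haveI : IsFinite G.t := (inferInstance : IsFinite t₁.left)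
  haveI : Flat G.t := (inferInstance : Flat t₁.left)
  haveI : LocallyOfFinitePresentation G.t := (inferInstance : LocallyOfFinitePresentation t₁.left)
  obtain ⟨W, hWaff, huW, hWinv⟩ : ∃ W : U₁.left.Opens, IsAffineOpen W ∧ u ∈ W ∧
      s₁.left ⁻¹ᵁ W = t₁.left ⁻¹ᵁ W := Groth.Agent.S1881.result S G u V hV
    (fun r hr => hFg ⟨r, hr, rfl⟩)
  obtain ⟨M, e, -⟩ := Groth.Agent.R2.H25.FinQuot.exists_iso_openSub b₁ s₁ t₁ hR' W hWinv hb₁fin
    hb₁flat hb₁lfp hWaff
  have hA : IsOpen (AlgSp.Points.ofPt b₁ '' (W : Set ↥U₁.left)) :=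
    isOpenMap_ofPt_of_flat b₁ hb₁flat hb₁lfp _ W.isOpen
  refine ⟨⟨_, Groth.Agent.Lib.Helper12.OpenSub.isAlgSpace_obj hY₁ hA⟩,
    ObjectProperty.homMk (Groth.Agent.Lib.Helper12.OpenSub.incl _ _ ≫
      Groth.Agent.Lib.Helper12.OpenSub.incl Y.obj B),
    (AlgSp.repWith_isMultiplicative (S := S) @IsOpenImmersion).comp_mem _ _
      (Groth.Agent.Lib.Helper12.OpenSub.repWith_incl hA) hj₁,
    ⟨M, ⟨AlgSp.representableByOfIso e⟩⟩, ?_⟩
  obtain ⟨y₂, hy₂⟩ : ∃ y₂, AlgSp.Points.map (Groth.Agent.Lib.Helper12.OpenSub.incl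
      (Groth.Agent.Lib.Helper12.OpenSub.obj Y.obj B)
      (AlgSp.Points.ofPt b₁ '' (W : Set ↥U₁.left))) y₂ = y₁ :=
    (Groth.Agent.Lib.Helper12.OpenSub.range_map_incl _).ge ⟨u, huW, hu⟩
  refine ⟨y₂, ?_⟩
  show AlgSp.Points.map (Groth.Agent.Lib.Helper12.OpenSub.incl _ _ ≫
      Groth.Agent.Lib.Helper12.OpenSub.incl Y.obj B) y₂ = y
  rw [AlgSp.Points.map_comp, hy₂, hy₁]

/-- conversely, over a point of the schematic locus the fibre of a finite locally free morphism lies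
in an affine open. -/
theorem exists_affine_of_mem_open_scheme {X Y : AlgSp.Space S} (f : X ⟶ Y)
    (hf : AlgSp.IsFinLocFreeMor f.hom) (y : AlgSp.Points Y.obj) (Y' : AlgSp.Space S) (j : Y' ⟶ Y)
    (hj : AlgSp.RepWith @IsOpenImmersion j.hom) (hrep : Y'.obj.obj.IsRepresentable)
    (hy : y ∈ Set.range (AlgSp.Points.map j.hom)) :
    ∃ (U : Over S) (a : (AlgSp.yon S).obj U ⟶ X.obj), IsAffine U.left ∧
      AlgSp.RepWith @IsOpenImmersion a ∧
      AlgSp.Points.map f.hom ⁻¹' {y} ⊆ Set.range (AlgSp.Points.ofPt a) := by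
  obtain ⟨M, ⟨r⟩⟩ := hrep.has_representation
  let e : (AlgSp.yon S).obj M ≅ Y'.obj := AlgSp.isoOfRepresentableBy r
  obtain ⟨y', rfl⟩ := hy
  obtain ⟨m, hm⟩ := (AlgSp.Points.schemeHomeo M).surjective (AlgSp.Points.map e.inv y')
  obtain ⟨O, hO, hmO, -⟩ : ∃ O : M.left.Opens, O ∈ M.left.affineOpens ∧ m ∈ O ∧ O ≤ ⊤ :=
    TopologicalSpace.Opens.isBasis_iff_nbhd.1 M.left.isBasis_affineOpens
      (TopologicalSpace.Opens.mem_top m)
  let M₀ : Over S := Over.mk (O.ι ≫ M.hom)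
  let ι₀ : M₀ ⟶ M := Over.homMk O.ι rfl
  haveI : IsAffine M₀.left := hO
  let j₀ : (AlgSp.yon S).obj M₀ ⟶ Y.obj := (AlgSp.yon S).map ι₀ ≫ e.hom ≫ j.hom
  have hj₀ : AlgSp.RepWith @IsOpenImmersion j₀ :=
    (AlgSp.repWith_isMultiplicative (S := S) @IsOpenImmersion).comp_mem _ _
      ((AlgSp.repWith_yon_map_iff _ _).2 (inferInstance : IsOpenImmersion O.ι))
      ((AlgSp.repWith_isMultiplicative (S := S) @IsOpenImmersion).comp_mem _ _
        (MorphismProperty.of_isIso (AlgSp.RepWith (S := S) @IsOpenImmersion) e.hom) hj)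
  obtain ⟨U, w, pr, sq⟩ := hf.1 j₀
  haveI : IsFinite w.left := (hf.2 j₀ pr w sq).1
  haveI : IsAffine U.left := isAffine_of_isAffineHom w.left
  refine ⟨U, pr, inferInstance, MorphismProperty.of_isPullback sq.flip hj₀, ?_⟩
  intro x hx
  have hx' : AlgSp.Points.map f.hom x = AlgSp.Points.map j.hom y' := hx
  have e1 : AlgSp.Points.map f.hom x =
      AlgSp.Points.map j₀ (AlgSp.Points.ofScheme M₀ (⟨m, hmO⟩ : ↥O)) := by
    rw [hx', ← AlgSp.Points.ofPt_eq_map_ofScheme, Groth.Agent.S10176.ofPt_map_comp,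
      AlgSp.Points.ofPt_eq_map_ofScheme, AlgSp.Points.map_comp]
    have h1 : AlgSp.Points.ofScheme M (ι₀.left (⟨m, hmO⟩ : ↥O)) = AlgSp.Points.map e.inv y' := hm
    have h2 : AlgSp.Points.map e.hom (AlgSp.Points.map e.inv y') = y' := by
      rw [← AlgSp.Points.map_comp, e.inv_hom_id, AlgSp.Points.map_id]
    rw [h1, h2]
  obtain ⟨p, hp1, -⟩ := Groth.Agent.S10175.exists_point_of_isPullback sq x _ e1
  obtain ⟨u', rfl⟩ := (AlgSp.Points.schemeHomeo U).surjective p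
  exact ⟨u', by rw [AlgSp.Points.ofPt_eq_map_ofScheme]; exact hp1⟩

end Groth.Agent.R2.H25.SchLocus
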