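import Mathlib
import Groth.Agent.R2.H25SchLocus
import Groth.Agent.Lib.Helper12ZarGlue

/-!
# A dense open subscheme of an algebraic space with a finite etale cover by a quasi-separated
scheme (helper25)
-/

set_option autoImplicit false
universe u
open CategoryTheory CategoryTheory.Limits AlgebraicGeometry Topology TopologicalSpace

namespace Groth.Agent.R2.H25.DenseOpen

open Opposite MorphismProperty

/-- an element of a minimal prime is killed, up to a power, by an element outside the prime. -/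
lemma exists_mul_pow_eq_zero {A : Type*} [CommRing A] (p : Ideal A) [p.IsPrime]
    (hmin : ∀ q : Ideal A, q.IsPrime → q ≤ p → q = p) {f : A} (hf : f ∈ p) :
    ∃ g, g ∉ p ∧ ∃ n : ℕ, g * f ^ n = 0 := by
  by_contra hcon
  push Not at hcon
  have h0 : Disjoint ((⊥ : Ideal A) : Set A) ((p.primeCompl ⊔ Submonoid.powers f : Submonoid A) : Set A) := by
    rw [Set.disjoint_left]
    intro x hx hxT
    have hx0 : x = 0 := hx
    rw [hx0, SetLike.mem_coe, Submonoid.mem_sup] at hxT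
    obtain ⟨g, hg, y, ⟨n, rfl⟩, e⟩ := hxT
    exact hcon g hg n e
  obtain ⟨q, hq, -, hdisj⟩ := Ideal.exists_le_prime_disjoint ⊥ _ h0
  have hqp : q ≤ p := by
    intro x hx
    by_contra hxp
    exact Set.disjoint_left.1 hdisj hx (Submonoid.mem_sup_left (show x ∈ p.primeCompl from hxp))
  have hqeq := hmin q hq hqp
  rw [← hqeq] at hf
  exact Set.disjoint_left.1 hdisj hf (Submonoid.mem_sup_right (Submonoid.mem_powers f))

/-- a point with zero-dimensional local ring has no proper generization. -/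
lemma eq_of_specializes_of_dim_zero {U : Scheme.{u}} (x : ↥U)
    (hx : ringKrullDim ↥(U.presheaf.stalk x) = 0) (x' : ↥U) (h : x' ⤳ x) : x' = x := by
  rw [ringKrullDim_stalk_eq_coheight] at hx
  have h0 : Order.coheight x = 0 := by exact_mod_cast hx
  have hmax : IsMax x := Order.coheight_eq_zero.1 h0
  have h' : x ⤳ x' := Scheme.le_iff_specializes.1 (hmax (Scheme.le_iff_specializes.2 h))
  exact (h.antisymm h').eq

/-- every nonempty open subset of a scheme contains a point with zero-dimensional local ring. -/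
lemma exists_dim_zero_mem {U : Scheme.{u}} (O : U.Opens) (hO : (O : Set ↥U).Nonempty) :
    ∃ x : ↥U, x ∈ O ∧ ringKrullDim ↥(U.presheaf.stalk x) = 0 := by
  obtain ⟨x₀, hx₀⟩ := hO
  obtain ⟨V, hV, hx₀V, hVO⟩ : ∃ V : U.Opens, V ∈ U.affineOpens ∧ x₀ ∈ V ∧ V ≤ O :=
    TopologicalSpace.Opens.isBasis_iff_nbhd.1 U.isBasis_affineOpens hx₀
  have hV' : IsAffineOpen V := hV
  haveI : Nonempty ↥V := ⟨⟨x₀, hx₀V⟩⟩
  haveI : Nontrivial Γ(U, V) := by
    by_contra hn
    rw [not_nontrivial_iff_subsingleton] at hn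
    haveI : IsEmpty ↥(Spec Γ(U, V)) := (inferInstance : IsEmpty (PrimeSpectrum Γ(U, V)))
    exact (IsEmpty.false (hV'.isoSpec.hom (⟨x₀, hx₀V⟩ : ↥V)))
  obtain ⟨p, hp⟩ : ∃ p : Ideal Γ(U, V), p ∈ minimalPrimes Γ(U, V) := by
    obtain ⟨m, hm⟩ := Ideal.exists_maximal Γ(U, V)
    haveI : m.IsPrime := hm.isPrime
    obtain ⟨p, hp, -⟩ := Ideal.exists_minimalPrimes_le (I := (⊥ : Ideal Γ(U, V))) (J := m) bot_le
    exact ⟨p, hp⟩
  haveI : p.IsPrime := hp.1.1
  let y : ↥(Spec Γ(U, V)) := (⟨p, inferInstance⟩ : PrimeSpectrum Γ(U, V))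
  have hy : Order.coheight y = 0 := by
    rw [← idealHeight_eq_coheight]
    exact Ideal.height_eq_zero_iff.2 hp
  let z : ↥V.toScheme := hV'.isoSpec.inv y
  have hz : Order.coheight z = 0 := by
    rw [coheight_eq_of_isOpenImmersion hV'.isoSpec.inv]; exact hy
  have hu : Order.coheight (V.ι z) = 0 := by
    rw [coheight_eq_of_isOpenImmersion V.ι]; exact hz
  refine ⟨V.ι z, hVO z.2, ?_⟩
  rw [ringKrullDim_stalk_eq_coheight, hu]
  rfl

/-- membership in a basic open of an affine scheme through the prime of the point. -/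
lemma mem_basicOpen_iff {V : Scheme.{u}} (y : ↥V) (f : Γ(V, ⊤)) :
    y ∈ V.basicOpen f ↔ f ∉ (V.toSpecΓ y).asIdeal := by
  rw [← Scheme.toSpecΓ_preimage_basicOpen]
  exact Iff.rfl

/-- in an affine scheme, a point without proper generizations has a basic open neighbourhood disjoint
from a given quasi-compact open not containing it. -/
lemma exists_basicOpen_disjoint {V : Scheme.{u}} [IsAffine V] (x : ↥V)
    (hx : ∀ x' : ↥V, x' ⤳ x → x' = x) (K : V.Opens) (hK : IsCompact (K : Set ↥V)) (hxK : x ∉ K) :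
    ∃ g : Γ(V, ⊤), x ∈ V.basicOpen g ∧ Disjoint (V.basicOpen g) K := by
  classical
  obtain ⟨s, hsfin, hKs⟩ := (TopologicalSpace.Opens.IsBasis.isCompact_open_iff_eq_finite_iUnion
    (V.basicOpen : Γ(V, ⊤) → V.Opens) (isBasis_basicOpen V)
    (fun f => ((isAffineOpen_top V).basicOpen f).isCompact) (K : Set ↥V)).1 ⟨hK, K.isOpen⟩
  haveI hpp : (V.toSpecΓ x).asIdeal.IsPrime := (V.toSpecΓ x).isPrime
  have hmin : ∀ q : Ideal Γ(V, ⊤), q.IsPrime → q ≤ (V.toSpecΓ x).asIdeal →
      q = (V.toSpecΓ x).asIdeal := by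
    intro q hq hqp
    obtain ⟨x', hx'⟩ := V.toSpecΓ.homeomorph.surjective (⟨q, hq⟩ : PrimeSpectrum Γ(V, ⊤))
    have hx'' : V.toSpecΓ x' = (⟨q, hq⟩ : PrimeSpectrum Γ(V, ⊤)) := hx'
    have hsp : V.toSpecΓ x' ⤳ V.toSpecΓ x := by
      rw [hx'']
      exact (PrimeSpectrum.le_iff_specializes _ _).1 hqp
    have h1 : x' ⤳ x := V.toSpecΓ.homeomorph.isInducing.specializes_iff.1 hsp
    have h2 := hx x' h1
    rw [h2] at hx''
    rw [hx'']
  have key : ∀ s' : Set Γ(V, ⊤), s'.Finite → (∀ f ∈ s', f ∈ (V.toSpecΓ x).asIdeal) →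
      ∃ g, g ∉ (V.toSpecΓ x).asIdeal ∧ ∀ f ∈ s', ∀ y : ↥V, y ∈ V.basicOpen g → y ∉ V.basicOpen f := by
    intro s' hs'
    induction s', hs' using Set.Finite.induction_on with
    | empty =>
      intro _
      exact ⟨1, fun h => hpp.ne_top ((Ideal.eq_top_iff_one _).2 h), fun f hf => (hf : f ∈ (∅ : Set _)).elim⟩
    | @insert f₀ s'' hf₀ hs'' ih =>
      intro hall
      obtain ⟨g, hg, hgs⟩ := ih (fun f hf => hall f (Set.mem_insert_of_mem _ hf))
      obtain ⟨g₀, hg₀, n, e⟩ := exists_mul_pow_eq_zero _ hmin (hall f₀ (Set.mem_insert _ _))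
      refine ⟨g * g₀, fun h => (hpp.mem_or_mem h).elim hg hg₀, ?_⟩
      intro f hf y hy
      rw [mem_basicOpen_iff] at hy
      haveI hyp : (V.toSpecΓ y).asIdeal.IsPrime := (V.toSpecΓ y).isPrime
      rcases hf with rfl | hf
      · rw [mem_basicOpen_iff, not_not]
        by_contra hfy
        have h1 : g₀ ∉ (V.toSpecΓ y).asIdeal := fun h => hy (Ideal.mul_mem_left _ _ h)
        have h2 : f ^ n ∉ (V.toSpecΓ y).asIdeal := fun h => hfy (hyp.mem_of_pow_mem n h)
        have h3 : g₀ * f ^ n ∈ (V.toSpecΓ y).asIdeal := by rw [e]; exact Ideal.zero_mem _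
        exact (hyp.mem_or_mem h3).elim h1 h2
      · apply hgs f hf y
        rw [mem_basicOpen_iff]
        exact fun h => hy (Ideal.mul_mem_right _ _ h)
  have hsp : ∀ f ∈ s, f ∈ (V.toSpecΓ x).asIdeal := by
    intro f hf
    by_contra hfx
    apply hxK
    have h1 : x ∈ (K : Set ↥V) := by
      rw [hKs]
      exact Set.mem_biUnion hf ((mem_basicOpen_iff x f).2 hfx)
    exact h1
  obtain ⟨g, hg, hgs⟩ := key s hsfin hsp
  refine ⟨g, (mem_basicOpen_iff x g).2 hg, ?_⟩
  rw [disjoint_iff]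
  ext y
  constructor
  · rintro ⟨hy1, hy2⟩
    have hy2' : y ∈ (K : Set ↥V) := hy2
    rw [hKs] at hy2'
    obtain ⟨f, hf, hyf⟩ := Set.mem_iUnion₂.1 hy2'
    exact (hgs f hf y hy1 hyf).elim
  · intro h
    exact (h : y ∈ (∅ : Set ↥V)).elim

/-- in a quasi-separated scheme finitely many points without proper generizations lie in a common
affine open. -/
theorem exists_affineOpen_of_finite_maximal {U : Scheme.{u}} [QuasiSeparatedSpace ↥U] (F : Set ↥U)
    (hF : F.Finite) (hmax : ∀ x ∈ F, ∀ x' : ↥U, x' ⤳ x → x' = x) :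
    ∃ V : U.Opens, IsAffineOpen V ∧ F ⊆ (V : Set ↥U) := by
  induction F, hF using Set.Finite.induction_on with
  | empty => exact ⟨⊥, isAffineOpen_bot U, Set.empty_subset _⟩
  | @insert x F' hxF' hF' ih =>
    obtain ⟨V', hV', hFV'⟩ := ih (fun y hy => hmax y (Set.mem_insert_of_mem _ hy))
    by_cases hxV' : x ∈ V'
    · exact ⟨V', hV', Set.insert_subset hxV' hFV'⟩
    obtain ⟨V₁, hV₁, hxV₁, -⟩ : ∃ V₁ : U.Opens, V₁ ∈ U.affineOpens ∧ x ∈ V₁ ∧ V₁ ≤ ⊤ :=
      TopologicalSpace.Opens.isBasis_iff_nbhd.1 U.isBasis_affineOpens (TopologicalSpace.Opens.mem_top x)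
    have hV₁' : IsAffineOpen V₁ := hV₁
    haveI : IsAffine V₁.toScheme := hV₁'
    let K : V₁.toScheme.Opens := V₁.ι ⁻¹ᵁ V'
    have hK : IsCompact (K : Set ↥V₁.toScheme) := by
      have h1 : IsCompact ((V' : Set ↥U) ∩ (V₁ : Set ↥U)) :=
        QuasiSeparatedSpace.inter_isCompact _ _ V'.isOpen hV'.isCompact V₁.isOpen hV₁'.isCompact
      have h2 : (K : Set ↥V₁.toScheme) = V₁.ι ⁻¹' ((V' : Set ↥U) ∩ (V₁ : Set ↥U)) := by
        ext y
        constructor
        · intro hy; exact ⟨hy, y.2⟩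
        · intro hy; exact hy.1
      rw [h2]
      exact (V₁.ι.isOpenEmbedding.isInducing.isCompact_preimage_iff (by
        rw [V₁.range_ι]; exact Set.inter_subset_right)).2 h1
    have hx₁ : ∀ x' : ↥V₁.toScheme, x' ⤳ (⟨x, hxV₁⟩ : ↥V₁) → x' = (⟨x, hxV₁⟩ : ↥V₁) := by
      intro x' h
      have h1 := hmax x (Set.mem_insert _ _) (V₁.ι x') (h.map V₁.ι.continuous)
      exact Subtype.ext h1
    obtain ⟨g, hxg, hgK⟩ := exists_basicOpen_disjoint (⟨x, hxV₁⟩ : ↥V₁) hx₁ K hK hxV'
    have hO : IsAffineOpen (V₁.ι ''ᵁ (V₁.toScheme.basicOpen g)) :=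
      ((isAffineOpen_top _).basicOpen g).image_of_isOpenImmersion V₁.ι
    have hdisj : Disjoint V' (V₁.ι ''ᵁ (V₁.toScheme.basicOpen g)) := by
      rw [disjoint_iff]
      ext y
      constructor
      · rintro ⟨hyV', z, hz, rfl⟩
        have h3 : z ∈ V₁.toScheme.basicOpen g ⊓ K := ⟨hz, hyV'⟩
        rw [disjoint_iff.1 hgK] at h3
        exact (h3 : z ∈ (∅ : Set _)).elim
      · intro h
        exact (h : y ∈ (∅ : Set ↥U)).elim
    refine ⟨V' ⊔ V₁.ι ''ᵁ (V₁.toScheme.basicOpen g), hV'.sup_of_disjoint hO hdisj, ?_⟩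
    apply Set.insert_subset
    · exact Or.inr ⟨(⟨x, hxV₁⟩ : ↥V₁), hxg, rfl⟩
    · exact fun y hy => Or.inl (hFV' hy)

/-- no specializations inside a fibre of a locally quasi-finite morphism. -/
lemma eq_of_specializes_of_fibre {P V : Scheme.{u}} (τ : P ⟶ V) [LocallyQuasiFinite τ] (y y' : ↥P)
    (h : y' ⤳ y) (he : τ y' = τ y) : y' = y := by
  haveI : DiscreteTopology ↥(τ ⁻¹' {τ y}) :=
    isDiscrete_iff_discreteTopology.1 (τ.isDiscrete_preimage_singleton (τ y))
  have h1 : (⟨y', he⟩ : ↥(τ ⁻¹' {τ y})) ⤳ (⟨y, rfl⟩ : ↥(τ ⁻¹' {τ y})) :=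
    (subtype_specializes_iff _ _).2 h
  exact congrArg Subtype.val (specializes_iff_eq.1 h1)

variable {S : Scheme.{u}}

/-- points without proper generizations correspond through etale charts of a sheaf. -/
lemma maximal_of_etale_chart {X : AlgSp.Sp S} {U V : Over S} (a : (AlgSp.yon S).obj U ⟶ X)
    (b : (AlgSp.yon S).obj V ⟶ X) (ha : AlgSp.RepWith @Etale a) (hb : AlgSp.RepWith @Etale b)
    (u : ↥U.left) (v : ↥V.left) (e : AlgSp.Points.ofPt a u = AlgSp.Points.ofPt b v)
    (hv : ∀ v' : ↥V.left, v' ⤳ v → v' = v) (u' : ↥U.left) (hu' : u' ⤳ u) : u' = u := by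
  obtain ⟨P, τ, pr, sq⟩ := ha.1 b
  obtain ⟨p₁, rfl⟩ := (AlgSp.yon S).map_surjective pr
  haveI : Etale τ.left := ha.2 b _ τ sq
  haveI : Etale p₁.left := hb.2 a _ p₁ sq.flip
  haveI : LocallyQuasiFinite τ.left := Groth.Agent.S10265.locallyQuasiFinite_of_unramified _
  obtain ⟨y, hy1, hy2⟩ := Groth.Agent.S10176.exists_point_of_isPullback_yon sq u v e
  have hymax : ∀ y' : ↥P.left, y' ⤳ y → y' = y := by
    intro y' h
    have h1 : τ.left y' ⤳ v := by rw [← hy2]; exact h.map τ.left.continuous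
    have h2 : τ.left y' = τ.left y := by rw [hv _ h1, hy2]
    exact eq_of_specializes_of_fibre τ.left y y' h h2
  have hgen : GeneralizingMap p₁.left := Flat.generalizingMap p₁.left
  rw [← hy1] at hu'
  obtain ⟨y'', hy'', hy''u⟩ := hgen hu'
  rw [hymax y'' hy''] at hy''u
  rw [← hy''u, hy1]

/-- **an algebraic space with a finite etale cover by a quasi-separated scheme has a dense open
subscheme containing all points of codimension zero.** -/
theorem exists_dense_open_subscheme' (X : AlgSp.Space S) {U R : Over S}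
    (a : (AlgSp.yon S).obj U ⟶ X.obj) (he : AlgSp.RepWith @Etale a)
    (hs : AlgSp.RepWith @Surjective a) (s t : R ⟶ U)
    (hR' : IsPullback ((AlgSp.yon S).map t) ((AlgSp.yon S).map s) a a)
    [IsFinite s.left] [IsFinite t.left] [QuasiSeparatedSpace ↥U.left] :
    ∃ (X' : AlgSp.Space S) (j : X' ⟶ X), AlgSp.RepWith @IsOpenImmersion j.hom ∧
      X'.obj.obj.IsRepresentable ∧ Dense (Set.range (AlgSp.Points.map j.hom)) ∧
      ∀ x : AlgSp.Points X.obj,
        AlgSp.HasAt (fun U u => ringKrullDim ↥(U.presheaf.stalk u) = 0) X.obj x →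
          x ∈ Set.range (AlgSp.Points.map j.hom) := by
  have hflat : AlgSp.RepWith @Flat a := Groth.Agent.Lib.Helper12.OpenSub.repWith_mono
    (fun _ _ g hg => by haveI : Etale g := hg; infer_instance) he
  have hlfp : AlgSp.RepWith @LocallyOfFinitePresentation a :=
    Groth.Agent.Lib.Helper12.OpenSub.repWith_mono
      (fun _ _ g hg => by haveI : Etale g := hg; infer_instance) he
  haveI : Flat s.left := hflat.2 _ _ s hR'
  haveI : LocallyOfFinitePresentation s.left := hlfp.2 _ _ s hR'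
  haveI : Flat t.left := hflat.2 _ _ t hR'.flip
  haveI : LocallyOfFinitePresentation t.left := hlfp.2 _ _ t hR'.flip
  -- the invariant affine opens
  let 𝒲 : Type u := {W : U.left.Opens // IsAffineOpen W ∧ s.left ⁻¹ᵁ W = t.left ⁻¹ᵁ W}
  let Aof : 𝒲 → Set (AlgSp.Points X.obj) := fun W => AlgSp.Points.ofPt a '' (W.1 : Set ↥U.left)
  let A : Set (AlgSp.Points X.obj) := ⋃ W : 𝒲, Aof W
  have hAof : ∀ W, IsOpen (Aof W) := fun W => Groth.Agent.S10176.isOpenMap_ofPt a he _ W.1.isOpen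
  have hA : IsOpen A := isOpen_iUnion hAof
  have hjA : AlgSp.RepWith @IsOpenImmersion (Groth.Agent.Lib.Helper12.OpenSub.incl X.obj A) :=
    Groth.Agent.Lib.Helper12.OpenSub.repWith_incl hA
  -- the pieces
  have piece : ∀ W : 𝒲, ∃ (M : Over S)
      (fW : (AlgSp.yon S).obj M ⟶ Groth.Agent.Lib.Helper12.OpenSub.obj X.obj A),
      AlgSp.RepWith @IsOpenImmersion fW ∧ Set.range (AlgSp.Points.map fW) =
        AlgSp.Points.map (Groth.Agent.Lib.Helper12.OpenSub.incl X.obj A) ⁻¹' (Aof W) := by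
    intro W
    obtain ⟨M, e, -⟩ := Groth.Agent.R2.H25.FinQuot.exists_iso_openSub' a s t hR' W.1 W.2.2 hflat
      hlfp W.2.1
    obtain ⟨k, hk, hkopen⟩ := Groth.Agent.Lib.Helper12.LargestOpen.factor_open
      (Groth.Agent.Lib.Helper12.OpenSub.incl X.obj A) hjA
      (Groth.Agent.Lib.Helper12.OpenSub.incl X.obj (Aof W))
      (Groth.Agent.Lib.Helper12.OpenSub.repWith_incl (hAof W)) (by
        rw [Groth.Agent.Lib.Helper12.OpenSub.range_map_incl,
          Groth.Agent.Lib.Helper12.OpenSub.range_map_incl]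
        exact Set.subset_iUnion Aof W)
    refine ⟨M, e.hom ≫ k, (AlgSp.repWith_isMultiplicative (S := S) @IsOpenImmersion).comp_mem _ _
      (MorphismProperty.of_isIso (AlgSp.RepWith (S := S) @IsOpenImmersion) e.hom) hkopen, ?_⟩
    ext x'
    constructor
    · rintro ⟨m, rfl⟩
      show AlgSp.Points.map (Groth.Agent.Lib.Helper12.OpenSub.incl X.obj A)
        (AlgSp.Points.map (e.hom ≫ k) m) ∈ Aof W
      rw [← AlgSp.Points.map_comp, Category.assoc, hk, AlgSp.Points.map_comp]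
      exact (Groth.Agent.Lib.Helper12.OpenSub.range_map_incl (Aof W)).le ⟨_, rfl⟩
    · intro hx'
      obtain ⟨z, hz⟩ := (Groth.Agent.Lib.Helper12.OpenSub.range_map_incl (Aof W)).ge hx'
      refine ⟨AlgSp.Points.map e.inv z, ?_⟩
      apply Groth.Agent.R2.H25.MonoDiscrete.injective_map_of_mono
        (Groth.Agent.Lib.Helper12.OpenSub.incl X.obj A)
      rw [← AlgSp.Points.map_comp, ← AlgSp.Points.map_comp, Category.assoc, hk, ← Category.assoc,
        e.inv_hom_id, Category.id_comp]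
      exact hz
  choose M fW hfW hrange using piece
  -- joint surjectivity
  have hjs : Groth.Agent.Lib.Helper12.ZarGlue.JointlySurjective hfW := by
    intro T g t₀
    have hx : AlgSp.Points.map (Groth.Agent.Lib.Helper12.OpenSub.incl X.obj A)
        (AlgSp.Points.ofPt g t₀) ∈ A :=
      (Groth.Agent.Lib.Helper12.OpenSub.range_map_incl A).le ⟨_, rfl⟩
    obtain ⟨W, hW⟩ := Set.mem_iUnion.1 hx
    refine ⟨W, ?_⟩
    have h1 : AlgSp.Points.ofPt g t₀ ∈ Set.range (AlgSp.Points.map (fW W)) := by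
      rw [hrange W]; exact hW
    obtain ⟨m, hm⟩ := h1
    have sq := (hfW W).rep.isPullback g
    have e1 : AlgSp.Points.map (fW W) m = AlgSp.Points.map g (AlgSp.Points.ofScheme T t₀) := by
      rw [hm, AlgSp.Points.ofPt_eq_map_ofScheme]
    obtain ⟨p, -, hp2⟩ := Groth.Agent.S10175.exists_point_of_isPullback sq m _ e1
    obtain ⟨t', rfl⟩ := (AlgSp.Points.schemeHomeo _).surjective p
    refine ⟨t', ?_⟩
    apply (AlgSp.Points.schemeHomeo T).injective
    have h2 := AlgSp.Points.map_yon_map_apply ((hfW W).rep.snd g) t'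
    exact h2.symm.trans hp2
  obtain ⟨Wg, e, -, -, -⟩ := Groth.Agent.Lib.Helper12.ZarGlue.exists_iso hfW hjs
  -- points of codimension zero
  have hcodim : ∀ x : AlgSp.Points X.obj,
      AlgSp.HasAt (fun U u => ringKrullDim ↥(U.presheaf.stalk u) = 0) X.obj x → x ∈ A := by
    rintro x ⟨V, b, v, hb, hbv, hdim⟩
    obtain ⟨u, hu⟩ := Groth.Agent.S10177.surjective_ofPt a hs x
    have hFfin : (t.left '' (s.left ⁻¹' {u})).Finite := (s.left.finite_preimage_singleton u).image _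
    have hFmax : ∀ u₁ ∈ t.left '' (s.left ⁻¹' {u}), ∀ u' : ↥U.left, u' ⤳ u₁ → u' = u₁ := by
      rintro _ ⟨r, hr, rfl⟩ u' hu'
      have hr' : s.left r = u := hr
      have e1 : AlgSp.Points.ofPt a (t.left r) = AlgSp.Points.ofPt b v := by
        rw [← Groth.Agent.S10176.ofPt_map_comp, hR'.w, Groth.Agent.S10176.ofPt_map_comp, hr', hu, hbv]
      exact maximal_of_etale_chart a b he hb (t.left r) v e1
        (eq_of_specializes_of_dim_zero v hdim) u' hu'
    obtain ⟨V₀, hV₀, hFV₀⟩ := exists_affineOpen_of_finite_maximal _ hFfin hFmax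
    let G := Groth.Agent.R2.H25.KerGrpd.grpd a s t hR'
    haveI : IsFinite G.s := (inferInstance : IsFinite s.left)
    haveI : Flat G.s := (inferInstance : Flat s.left)
    haveI : LocallyOfFinitePresentation G.s := (inferInstance : LocallyOfFinitePresentation s.left)
    haveI : IsFinite G.t := (inferInstance : IsFinite t.left)
    haveI : Flat G.t := (inferInstance : Flat t.left)
    haveI : LocallyOfFinitePresentation G.t := (inferInstance : LocallyOfFinitePresentation t.left)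
    obtain ⟨W, hWaff, huW, hWinv⟩ : ∃ W : U.left.Opens, IsAffineOpen W ∧ u ∈ W ∧
        s.left ⁻¹ᵁ W = t.left ⁻¹ᵁ W := Groth.Agent.S1881.result S G u V₀ hV₀
      (fun r hr => hFV₀ ⟨r, hr, rfl⟩)
    exact Set.mem_iUnion.2 ⟨⟨W, hWaff, hWinv⟩, u, huW, hu⟩
  refine ⟨⟨_, Groth.Agent.Lib.Helper12.OpenSub.isAlgSpace_obj X.property hA⟩,
    ObjectProperty.homMk (Groth.Agent.Lib.Helper12.OpenSub.incl X.obj A), hjA,
    ⟨Wg, ⟨AlgSp.representableByOfIso e⟩⟩, ?_, ?_⟩
  · show Dense (Set.range (AlgSp.Points.map (Groth.Agent.Lib.Helper12.OpenSub.incl X.obj A)))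
    rw [Groth.Agent.Lib.Helper12.OpenSub.range_map_incl, dense_iff_inter_open]
    intro B hB hBne
    obtain ⟨x₀, hx₀⟩ := hBne
    obtain ⟨u₀, hu₀⟩ := Groth.Agent.S10177.surjective_ofPt a hs x₀
    obtain ⟨ξ, hξO, hξdim⟩ := exists_dim_zero_mem
      (⟨AlgSp.Points.ofPt a ⁻¹' B, hB.preimage (AlgSp.Points.continuous_ofPt a)⟩ : U.left.Opens)
      ⟨u₀, by show AlgSp.Points.ofPt a u₀ ∈ B; rw [hu₀]; exact hx₀⟩
    exact ⟨AlgSp.Points.ofPt a ξ, hξO, hcodim _ ⟨U, a, ξ, he, rfl, hξdim⟩⟩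
  · intro x hx
    show x ∈ Set.range (AlgSp.Points.map (Groth.Agent.Lib.Helper12.OpenSub.incl X.obj A))
    rw [Groth.Agent.Lib.Helper12.OpenSub.range_map_incl]
    exact hcodim x hx

/-- **an algebraic space with a finite etale cover by a quasi-separated scheme has a dense open
subscheme containing all points of codimension zero.** -/
theorem exists_dense_open_subscheme (X : AlgSp.Space S) {U : Over S}
    (a : (AlgSp.yon S).obj U ⟶ X.obj) (hf : AlgSp.RepWith @IsFinite a) (he : AlgSp.RepWith @Etale a)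
    (hs : AlgSp.RepWith @Surjective a) [QuasiSeparatedSpace ↥U.left] :
    ∃ (X' : AlgSp.Space S) (j : X' ⟶ X), AlgSp.RepWith @IsOpenImmersion j.hom ∧
      X'.obj.obj.IsRepresentable ∧ Dense (Set.range (AlgSp.Points.map j.hom)) ∧
      ∀ x : AlgSp.Points X.obj,
        AlgSp.HasAt (fun U u => ringKrullDim ↥(U.presheaf.stalk u) = 0) X.obj x →
          x ∈ Set.range (AlgSp.Points.map j.hom) := by
  obtain ⟨R, s, t', hR'⟩ := he.1 a
  obtain ⟨t, rfl⟩ := (AlgSp.yon S).map_surjective t'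
  haveI : IsFinite s.left := hf.2 _ _ s hR'
  haveI : IsFinite t.left := hf.2 _ _ t hR'.flip
  exact exists_dense_open_subscheme' X a he hs s t hR'

end Groth.Agent.R2.H25.DenseOpen
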