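import Mathlib
import Groth.Agent.R2.H25DenseOpen
import Groth.Agent.S2080
import Groth.Agent.S9920
import Groth.Agent.Lib.Helper14IrrComp
import Groth.Agent.Lib.Helper4GenFinite3
import Groth.Agent.R2.H25DecentPts

/-!
# Open subschemes around points of codimension zero of quasi-separated algebraic spaces (helper25)
-/

set_option autoImplicit false
universe u
open CategoryTheory CategoryTheory.Limits AlgebraicGeometry Topology TopologicalSpace

namespace Groth.Agent.R2.H25.CodimZero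

open Opposite MorphismProperty

/-- finiteness over an open passes to smaller opens. -/
lemma isFinite_restrict_of_le {X Y : Scheme.{u}} (f : X ⟶ Y) {O Q : Y.Opens}
    (h : IsFinite (f ∣_ O)) (hQO : Q ≤ O) : IsFinite (f ∣_ Q) := by
  have h1 : IsFinite (f ∣_ O ∣_ (O.ι ⁻¹ᵁ Q)) := IsZariskiLocalAtTarget.restrict h _
  have h2 : IsFinite (f ∣_ O.ι ''ᵁ (O.ι ⁻¹ᵁ Q)) :=
    (MorphismProperty.arrow_mk_iso_iff @IsFinite (morphismRestrictRestrict f O (O.ι ⁻¹ᵁ Q))).1 h1
  have h3 : O.ι ''ᵁ (O.ι ⁻¹ᵁ Q) = Q := by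
    rw [Scheme.Hom.image_preimage_eq_opensRange_inf, Scheme.Opens.opensRange_ι]
    exact inf_eq_right.2 hQO
  rw [h3] at h2
  exact h2

/-- a morphism from the preimage open to an open of the target, compatible with the inclusions, has
the properties of the restriction. -/
lemma prop_of_restrict' (P : MorphismProperty Scheme.{u}) {A B : Scheme.{u}}
    (f : A ⟶ B) (W : B.Opens) (O : A.Opens) (hO : O = f ⁻¹ᵁ W) (g : O.toScheme ⟶ W.toScheme)
    (hg : g ≫ W.ι = O.ι ≫ f) (hf : P (f ∣_ W)) : P g := by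
  subst hO
  have : g = f ∣_ W := by rw [← cancel_mono W.ι, hg, morphismRestrict_ι]
  rw [this]
  exact hf

/-- a point without proper generizations has zero-dimensional local ring. -/
lemma dim_zero_of_maximal {U : Scheme.{u}} (x : ↥U) (hx : ∀ x' : ↥U, x' ⤳ x → x' = x) :
    ringKrullDim ↥(U.presheaf.stalk x) = 0 := by
  rw [ringKrullDim_stalk_eq_coheight]
  have hmax : IsMax x := by
    intro y hy
    have h1 : y ⤳ x := Scheme.le_iff_specializes.1 hy
    rw [hx y h1]
  rw [Order.coheight_eq_zero.2 hmax]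
  rfl

variable {S : Scheme.{u}}

/-- **a point without proper generizations of an affine etale chart with quasi-compact kernel pair has an
open neighbourhood which is a scheme.** -/
theorem exists_open_scheme_nbhd (X : AlgSp.Space S) {V R : Over S} [IsAffine V.left]
    (b : (AlgSp.yon S).obj V ⟶ X.obj) (hb : AlgSp.RepWith @Etale b) (s t : R ⟶ V)
    (hR : IsPullback ((AlgSp.yon S).map t) ((AlgSp.yon S).map s) b b)
    [QuasiCompact s.left] [QuasiCompact t.left] (v : ↥V.left)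
    (hv : ∀ v' : ↥V.left, v' ⤳ v → v' = v) :
    ∃ (X' : AlgSp.Space S) (j : X' ⟶ X), AlgSp.RepWith @IsOpenImmersion j.hom ∧
      X'.obj.obj.IsRepresentable ∧ AlgSp.Points.ofPt b v ∈ Set.range (AlgSp.Points.map j.hom) := by
  haveI : Etale s.left := hb.2 _ _ s hR
  haveI : Etale t.left := hb.2 _ _ t hR.flip
  haveI : LocallyQuasiFinite s.left := Groth.Agent.S10265.locallyQuasiFinite_of_unramified _
  haveI : LocallyQuasiFinite t.left := Groth.Agent.S10265.locallyQuasiFinite_of_unramified _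
  -- separatedness
  have hsep : ∀ (s' t' : R ⟶ V), IsPullback ((AlgSp.yon S).map t') ((AlgSp.yon S).map s') b b →
      IsSeparated t'.left := by
    intro s' t' hR''
    haveI : Mono (prod.lift t' s') := by
      constructor
      intro Z x x' hxx
      apply Groth.Agent.R2.H25.KerGrpd.over_ext b s' t' hR''
      · have := congrArg (fun m => m ≫ prod.fst) hxx
        simpa only [Category.assoc, prod.lift_fst] using this
      · have := congrArg (fun m => m ≫ prod.snd) hxx
        simpa only [Category.assoc, prod.lift_snd] using this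
    have h1 : IsSeparated (prod.fst : V ⨯ V ⟶ V).left := by
      rw [← Over.prodLeftIsoPullback_hom_fst]
      infer_instance
    have h2 : (prod.lift t' s').left ≫ (prod.fst : V ⨯ V ⟶ V).left = t'.left := by
      rw [← Over.comp_left, prod.lift_fst]
    rw [← h2]
    infer_instance
  haveI : IsSeparated t.left := hsep s t hR
  haveI : IsSeparated s.left := hsep t s hR.flip
  -- the relation on points
  have hrel : ∀ u u' : ↥V.left, AlgSp.Points.ofPt b u = AlgSp.Points.ofPt b u' ↔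
      ∃ r : ↥R.left, t.left r = u ∧ s.left r = u' := by
    intro u u'
    constructor
    · intro e
      exact Groth.Agent.S10176.exists_point_of_isPullback_yon hR u u' e
    · rintro ⟨r, rfl, rfl⟩
      rw [← Groth.Agent.S10176.ofPt_map_comp, hR.w, Groth.Agent.S10176.ofPt_map_comp]
  -- the orbit of `v`
  have hFfin : {u : ↥V.left | AlgSp.Points.ofPt b u = AlgSp.Points.ofPt b v}.Finite := by
    refine ((s.left.finite_preimage_singleton v).image t.left).subset ?_
    intro u hu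
    obtain ⟨r, h1, h2⟩ := (hrel u v).1 hu
    exact ⟨r, h2, h1⟩
  have hFmax : ∀ u : ↥V.left, AlgSp.Points.ofPt b u = AlgSp.Points.ofPt b v →
      ∀ u' : ↥V.left, u' ⤳ u → u' = u :=
    fun u hu => Groth.Agent.R2.H25.DenseOpen.maximal_of_etale_chart b b hb hb u v hu hv
  -- finiteness near each orbit point
  have hloc : ∀ u : ↥V.left, AlgSp.Points.ofPt b u = AlgSp.Points.ofPt b v →
      ∃ O : V.left.Opens, u ∈ O ∧ IsFinite (s.left ∣_ O) ∧ IsFinite (t.left ∣_ O) := by
    intro u hu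
    have hcomp : closure ({u} : Set ↥V.left) ∈ irreducibleComponents ↥V.left :=
      (Groth.Agent.Lib.Helper14.closure_mem_irreducibleComponents_iff u).2 (hFmax u hu)
    obtain ⟨O₁, -, hu₁, hf₁⟩ := (Groth.Agent.S2080.result s.left u hcomp).1
      (s.left.finite_preimage_singleton u)
    obtain ⟨O₂, -, hu₂, hf₂⟩ := (Groth.Agent.S2080.result t.left u hcomp).1
      (t.left.finite_preimage_singleton u)
    exact ⟨O₁ ⊓ O₂, ⟨hu₁, hu₂⟩, isFinite_restrict_of_le _ hf₁ inf_le_left,
      isFinite_restrict_of_le _ hf₂ inf_le_right⟩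
  choose! Oof hOmem hOs hOt using hloc
  let O : V.left.Opens :=
    ⨆ u : {u : ↥V.left // AlgSp.Points.ofPt b u = AlgSp.Points.ofPt b v}, Oof u.1
  have hOs' : IsFinite (s.left ∣_ O) :=
    Groth.Agent.Lib.Helper4.GenFinite.isFinite_morphismRestrict_iSup s.left
      (fun u : {u : ↥V.left // AlgSp.Points.ofPt b u = AlgSp.Points.ofPt b v} => Oof u.1)
      (fun u => hOs u.1 u.2)
  have hOt' : IsFinite (t.left ∣_ O) :=
    Groth.Agent.Lib.Helper4.GenFinite.isFinite_morphismRestrict_iSup t.left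
      (fun u : {u : ↥V.left // AlgSp.Points.ofPt b u = AlgSp.Points.ofPt b v} => Oof u.1)
      (fun u => hOt u.1 u.2)
  have hFO : ∀ u : ↥V.left, AlgSp.Points.ofPt b u = AlgSp.Points.ofPt b v → u ∈ O :=
    fun u hu => TopologicalSpace.Opens.mem_iSup.2 ⟨⟨u, hu⟩, hOmem u hu⟩
  -- the saturated part of `O`
  have hWopen : IsOpen {u : ↥V.left | u ∈ O ∧
      ∀ u' : ↥V.left, AlgSp.Points.ofPt b u' = AlgSp.Points.ofPt b u → u' ∈ O} := by
    have hcl : IsClosedMap (t.left ∣_ O) := (t.left ∣_ O).isClosedMap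
    have hZ : IsClosed {r : ↥(t.left ⁻¹ᵁ O).toScheme | s.left r.1 ∉ O} :=
      (O.isOpen.preimage (s.left.continuous.comp continuous_subtype_val)).isClosed_compl
    have h1 := hcl _ hZ
    have h2 : {u : ↥V.left | u ∈ O ∧
        ∀ u' : ↥V.left, AlgSp.Points.ofPt b u' = AlgSp.Points.ofPt b u → u' ∈ O} =
        O.ι '' ((t.left ∣_ O) '' {r : ↥(t.left ⁻¹ᵁ O).toScheme | s.left r.1 ∉ O})ᶜ := by
      ext u
      constructor
      · rintro ⟨huO, hu⟩
        refine ⟨(⟨u, huO⟩ : ↥O), ?_, rfl⟩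
        rintro ⟨r, hr, hru⟩
        have h3 : t.left r.1 = u := by
          rw [← morphismRestrict_base_coe, hru]
        apply hr
        apply hu
        rw [← h3, ← Groth.Agent.S10176.ofPt_map_comp, ← Groth.Agent.S10176.ofPt_map_comp, hR.w]
      · rintro ⟨w, hw, rfl⟩
        refine ⟨w.2, fun u' hu' => ?_⟩
        by_contra hu'O
        obtain ⟨r, hr1, hr2⟩ := (hrel w.1 u').1 hu'.symm
        apply hw
        have hrO : r ∈ t.left ⁻¹ᵁ O := by
          show t.left r ∈ O
          rw [hr1]; exact w.2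
        refine ⟨(⟨r, hrO⟩ : ↥(t.left ⁻¹ᵁ O)), ?_, ?_⟩
        · show s.left r ∉ O
          rw [hr2]; exact hu'O
        · apply Subtype.ext
          rw [morphismRestrict_base_coe]
          exact hr1
    rw [h2]
    exact O.ι.isOpenEmbedding.isOpenMap _ h1.isOpen_compl
  let W : V.left.Opens := ⟨_, hWopen⟩
  have hWsat : ∀ u : ↥V.left, u ∈ W → ∀ u₁ : ↥V.left,
      AlgSp.Points.ofPt b u₁ = AlgSp.Points.ofPt b u → u₁ ∈ W := by
    rintro u ⟨huO, hu⟩ u₁ e
    exact ⟨hu u₁ e, fun u' e' => hu u' (e'.trans e)⟩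
  have hinv : s.left ⁻¹ᵁ W = t.left ⁻¹ᵁ W := by
    ext r
    constructor
    · intro hr
      exact hWsat _ hr _ (by
        rw [← Groth.Agent.S10176.ofPt_map_comp, hR.w, Groth.Agent.S10176.ofPt_map_comp])
    · intro hr
      exact hWsat _ hr _ (by
        rw [← Groth.Agent.S10176.ofPt_map_comp, ← hR.w, Groth.Agent.S10176.ofPt_map_comp])
  have hvW : v ∈ W := ⟨hFO v rfl, fun u' e => hFO u' e⟩
  have hWO : W ≤ O := fun u hu => hu.1
  -- restriction of the chart
  obtain ⟨bW, sW, tW, hbW, sqW, hsW, htW, hK, hsurj⟩ :=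
    Groth.Agent.R2.H25.FinQuot.restrict_chart b s t hR W hinv
  have hA : IsOpen (AlgSp.Points.ofPt b '' (W : Set ↥V.left)) :=
    Groth.Agent.S10176.isOpenMap_ofPt b hb _ W.isOpen
  have hXW : AlgSp.IsAlgSpace (Groth.Agent.Lib.Helper12.OpenSub.obj X.obj
      (AlgSp.Points.ofPt b '' (W : Set ↥V.left))) :=
    Groth.Agent.Lib.Helper12.OpenSub.isAlgSpace_obj X.property hA
  have hbWe : AlgSp.RepWith @Etale bW := MorphismProperty.of_isPullback sqW hb
  have hbWs : AlgSp.RepWith @Surjective bW := by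
    refine Groth.Agent.S9906.repWith_surjective_of_surjective_map bW hbWe.1 ?_
    intro x'
    obtain ⟨w, hw⟩ := hsurj x'
    exact ⟨AlgSp.Points.ofScheme _ w, by rw [← AlgSp.Points.ofPt_eq_map_ofScheme]; exact hw⟩
  have hsW' : sW.left ≫ W.ι = (s.left ⁻¹ᵁ W).ι ≫ s.left := congrArg (fun m => m.left) hsW
  have htW' : tW.left ≫ W.ι = (s.left ⁻¹ᵁ W).ι ≫ t.left := congrArg (fun m => m.left) htW
  haveI : IsFinite sW.left := prop_of_restrict' @IsFinite s.left W _ rfl sW.left hsW'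
    (isFinite_restrict_of_le _ hOs' hWO)
  haveI : IsFinite tW.left := prop_of_restrict' @IsFinite t.left W _ hinv tW.left htW'
    (isFinite_restrict_of_le _ hOt' hWO)
  haveI : QuasiSeparatedSpace ↥(Over.mk (W.ι ≫ V.hom)).left :=
    W.ι.isOpenEmbedding.quasiSeparatedSpace
  obtain ⟨X', j', hj', hrep, -, hcod⟩ :=
    Groth.Agent.R2.H25.DenseOpen.exists_dense_open_subscheme' (⟨_, hXW⟩ : AlgSp.Space S) bW hbWe hbWs
      sW tW hK
  -- the point
  have hvdim : ringKrullDim ↥(W.toScheme.presheaf.stalk (⟨v, hvW⟩ : ↥W)) = 0 := by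
    apply dim_zero_of_maximal
    intro x' h
    have h1 := hv (W.ι x') (h.map W.ι.continuous)
    exact Subtype.ext h1
  have hx : AlgSp.Points.ofPt bW (⟨v, hvW⟩ : ↥W) ∈ Set.range (AlgSp.Points.map j'.hom) :=
    hcod _ ⟨_, bW, (⟨v, hvW⟩ : ↥W), hbWe, rfl, hvdim⟩
  refine ⟨X', j' ≫ (ObjectProperty.homMk (Groth.Agent.Lib.Helper12.OpenSub.incl X.obj
      (AlgSp.Points.ofPt b '' (W : Set ↥V.left))) : (⟨_, hXW⟩ : AlgSp.Space S) ⟶ X),
    (AlgSp.repWith_isMultiplicative (S := S) @IsOpenImmersion).comp_mem _ _ hj'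
      (Groth.Agent.Lib.Helper12.OpenSub.repWith_incl hA), hrep, ?_⟩
  obtain ⟨z, hz⟩ := hx
  refine ⟨z, ?_⟩
  show AlgSp.Points.map (j'.hom ≫ Groth.Agent.Lib.Helper12.OpenSub.incl X.obj
      (AlgSp.Points.ofPt b '' (W : Set ↥V.left))) z = AlgSp.Points.ofPt b v
  rw [AlgSp.Points.map_comp, hz, AlgSp.Points.map_ofPt, hbW, Groth.Agent.S10176.ofPt_map_comp]
  rfl

/-- the self fibre product of an affine scheme over a base is affine as soon as the structure
morphism lands in an affine open of the base. -/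
lemma isAffine_pullback_of_mem {V B : Scheme.{u}} [IsAffine V] (f : V ⟶ B) (B₀ : B.Opens)
    (hB₀ : IsAffineOpen B₀) (hf : ∀ x : ↥V, f x ∈ B₀) : IsAffine (pullback f f) := by
  haveI : IsAffine B₀.toScheme := hB₀
  have hrange : Set.range f ⊆ Set.range B₀.ι := by
    rw [B₀.range_ι]; rintro _ ⟨x, rfl⟩; exact hf x
  let g : V ⟶ B₀.toScheme := IsOpenImmersion.lift B₀.ι f hrange
  have hg : g ≫ B₀.ι = f := IsOpenImmersion.lift_fac _ _ _
  have h1 : IsPullback (pullback.fst g g) (pullback.snd g g) f f := by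
    refine IsPullback.of_isLimit' ⟨by rw [← hg, ← Category.assoc, pullback.condition, Category.assoc]⟩
      (PullbackCone.IsLimit.mk _
        (fun c => pullback.lift c.fst c.snd (by
          rw [← cancel_mono B₀.ι, Category.assoc, Category.assoc, hg]; exact c.condition))
        (fun c => pullback.lift_fst _ _ _) (fun c => pullback.lift_snd _ _ _)
        (fun c m h1 h2 => pullback.hom_ext (by rw [pullback.lift_fst]; exact h1)
          (by rw [pullback.lift_snd]; exact h2)))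
  exact IsAffine.of_isIso h1.isoPullback.inv

/-- **gluing**: the union of a family of open subschemes of a sheaf is a scheme. -/
theorem exists_iso_openSub_iUnion {X : AlgSp.Sp S} {ι : Type u} (M : ι → Over S)
    (f : ∀ i, (AlgSp.yon S).obj (M i) ⟶ X) (hf : ∀ i, AlgSp.RepWith @IsOpenImmersion (f i)) :
    ∃ (W : Over S), Nonempty ((AlgSp.yon S).obj W ≅ Groth.Agent.Lib.Helper12.OpenSub.obj X
      (⋃ i, Set.range (AlgSp.Points.map (f i)))) := by
  have hAi : ∀ i, IsOpen (Set.range (AlgSp.Points.map (f i))) :=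
    fun i => Groth.Agent.Lib.Helper12.OpenSub.isOpen_range_of_open (f i) (hf i)
  have hA : IsOpen (⋃ i, Set.range (AlgSp.Points.map (f i))) := isOpen_iUnion hAi
  have hjA := Groth.Agent.Lib.Helper12.OpenSub.repWith_incl (X := X) hA
  have piece : ∀ i, ∃ g : (AlgSp.yon S).obj (M i) ⟶ Groth.Agent.Lib.Helper12.OpenSub.obj X
      (⋃ i, Set.range (AlgSp.Points.map (f i))),
      g ≫ Groth.Agent.Lib.Helper12.OpenSub.incl X (⋃ i, Set.range (AlgSp.Points.map (f i))) = f i ∧
        AlgSp.RepWith @IsOpenImmersion g := by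
    intro i
    exact Groth.Agent.Lib.Helper12.LargestOpen.factor_open _ hjA (f i) (hf i) (by
      rw [Groth.Agent.Lib.Helper12.OpenSub.range_map_incl]
      exact Set.subset_iUnion (fun i => Set.range (AlgSp.Points.map (f i))) i)
  choose g hg hgopen using piece
  have hjs : Groth.Agent.Lib.Helper12.ZarGlue.JointlySurjective hgopen := by
    intro T c t₀
    have hx : AlgSp.Points.map (Groth.Agent.Lib.Helper12.OpenSub.incl X
        (⋃ i, Set.range (AlgSp.Points.map (f i)))) (AlgSp.Points.ofPt c t₀) ∈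
        ⋃ i, Set.range (AlgSp.Points.map (f i)) :=
      (Groth.Agent.Lib.Helper12.OpenSub.range_map_incl _).le ⟨_, rfl⟩
    obtain ⟨i, m, hm⟩ := Set.mem_iUnion.1 hx
    refine ⟨i, ?_⟩
    have e1 : AlgSp.Points.map (g i) m = AlgSp.Points.map c (AlgSp.Points.ofScheme T t₀) := by
      apply Groth.Agent.R2.H25.MonoDiscrete.injective_map_of_mono
        (Groth.Agent.Lib.Helper12.OpenSub.incl X (⋃ i, Set.range (AlgSp.Points.map (f i))))
      rw [← AlgSp.Points.map_comp, hg i, hm, ← AlgSp.Points.ofPt_eq_map_ofScheme]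
    have sq := (hgopen i).rep.isPullback c
    obtain ⟨p, -, hp2⟩ := Groth.Agent.S10175.exists_point_of_isPullback sq m _ e1
    obtain ⟨t', rfl⟩ := (AlgSp.Points.schemeHomeo _).surjective p
    refine ⟨t', ?_⟩
    apply (AlgSp.Points.schemeHomeo T).injective
    have h2 := AlgSp.Points.map_yon_map_apply ((hgopen i).rep.snd c) t'
    exact h2.symm.trans hp2
  obtain ⟨Wg, e, -, -, -⟩ := Groth.Agent.Lib.Helper12.ZarGlue.exists_iso hgopen hjs
  exact ⟨Wg, ⟨e⟩⟩

/-- a point without proper generizations of an etale chart of a Zariski locally quasi-separated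
algebraic space has an open neighbourhood which is a scheme. -/
theorem exists_open_scheme_of_maximal (X : AlgSp.Space S)
    {ι : Type u} (Xi : ι → AlgSp.Space S) (j : ∀ i, Xi i ⟶ X)
    (hcov : AlgSp.IsZarCover (fun i => (Xi i).obj) (fun i => (j i).hom))
    (hqs : ∀ i, AlgSp.IsQuasiSeparatedSp (Xi i).obj) {U : Over S}
    (a : (AlgSp.yon S).obj U ⟶ X.obj) (hae : AlgSp.RepWith @Etale a) (u : ↥U.left)
    (hu : ∀ u' : ↥U.left, u' ⤳ u → u' = u) :
    ∃ (M : Over S) (f : (AlgSp.yon S).obj M ⟶ X.obj), AlgSp.RepWith @IsOpenImmersion f ∧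
      AlgSp.Points.ofPt a u ∈ Set.range (AlgSp.Points.map f) := by
  obtain ⟨hjopen, hjsurj⟩ := hcov
  obtain ⟨i, hxi⟩ := hjsurj (AlgSp.Points.ofPt a u)
  have hopen_i : IsOpen (Set.range (AlgSp.Points.map (j i).hom)) :=
    Groth.Agent.Lib.Helper12.OpenSub.isOpen_range_of_open _ (hjopen i)
  -- an affine open of `S` around the image of `u`
  obtain ⟨S₀, hS₀, huS₀, -⟩ : ∃ S₀ : S.Opens, S₀ ∈ S.affineOpens ∧ U.hom u ∈ S₀ ∧ S₀ ≤ ⊤ :=
    TopologicalSpace.Opens.isBasis_iff_nbhd.1 S.isBasis_affineOpens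
      (TopologicalSpace.Opens.mem_top (U.hom u))
  obtain ⟨O, hO, huO, hOO₂⟩ : ∃ O : U.left.Opens, O ∈ U.left.affineOpens ∧ u ∈ O ∧
      O ≤ (⟨AlgSp.Points.ofPt a ⁻¹' Set.range (AlgSp.Points.map (j i).hom),
        hopen_i.preimage (AlgSp.Points.continuous_ofPt a)⟩ : U.left.Opens) ⊓ U.hom ⁻¹ᵁ S₀ :=
    TopologicalSpace.Opens.isBasis_iff_nbhd.1 U.left.isBasis_affineOpens
      (show u ∈ (⟨AlgSp.Points.ofPt a ⁻¹' Set.range (AlgSp.Points.map (j i).hom),
        hopen_i.preimage (AlgSp.Points.continuous_ofPt a)⟩ : U.left.Opens) ⊓ U.hom ⁻¹ᵁ S₀ from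
        ⟨hxi, huS₀⟩)
  let V : Over S := Over.mk (O.ι ≫ U.hom)
  let ιV : V ⟶ U := Over.homMk O.ι rfl
  haveI : IsAffine V.left := hO
  have hb : AlgSp.RepWith @Etale ((AlgSp.yon S).map ιV ≫ a) :=
    (AlgSp.repWith_isMultiplicative (S := S) @Etale).comp_mem _ _
      ((AlgSp.repWith_yon_map_iff _ _).2 (inferInstance : Etale O.ι)) hae
  -- the chart factors through `X_i`
  have hfacb : Set.range (AlgSp.Points.map ((AlgSp.yon S).map ιV ≫ a)) ⊆
      Set.range (AlgSp.Points.map (j i).hom) := by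
    rintro _ ⟨p, rfl⟩
    obtain ⟨w, rfl⟩ := (AlgSp.Points.schemeHomeo V).surjective p
    have h1 : AlgSp.Points.map ((AlgSp.yon S).map ιV ≫ a) (AlgSp.Points.ofScheme V w) =
        AlgSp.Points.ofPt a (ιV.left w) := by
      rw [← AlgSp.Points.ofPt_eq_map_ofScheme, Groth.Agent.S10176.ofPt_map_comp]
    have h2 : AlgSp.Points.ofPt a (ιV.left w) ∈ Set.range (AlgSp.Points.map (j i).hom) :=
      (hOO₂ w.2).1
    exact h1 ▸ h2
  obtain ⟨bi, hbi⟩ := (Groth.Agent.S10194.exists_factor_iff (j i).hom (hjopen i) _).2 hfacb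
  -- the kernel pair
  obtain ⟨R, s, t', hR'⟩ := hb.1 ((AlgSp.yon S).map ιV ≫ a)
  obtain ⟨t, rfl⟩ := (AlgSp.yon S).map_surjective t'
  haveI := Groth.Agent.Lib.Helper12.LargestOpen.mono_of_open (j i).hom (hjopen i)
  have hRi : IsPullback ((AlgSp.yon S).map t) ((AlgSp.yon S).map s) bi bi := by
    apply Groth.Agent.R2.H25.DecentPts.isPullback_of_comp_mono (j i).hom
    rw [hbi]
    exact hR'
  -- quasi-compactness of the projections
  have hqc1 : QuasiCompact (prod.lift t s).left :=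
    Groth.Agent.S9920.property_of_repWith_diag (hqs i) hRi
  haveI haff : IsAffine (pullback V.hom V.hom) :=
    isAffine_pullback_of_mem V.hom S₀ hS₀ (fun x => (hOO₂ x.2).2)
  haveI : IsAffine (V ⨯ V).left := IsAffine.of_isIso (Over.prodLeftIsoPullback V V).hom
  haveI : QuasiCompact t.left := by
    have h2 : (prod.lift t s).left ≫ (prod.fst : V ⨯ V ⟶ V).left = t.left := by
      rw [← Over.comp_left, prod.lift_fst]
    rw [← h2]
    infer_instance
  haveI : QuasiCompact s.left := by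
    have h2 : (prod.lift t s).left ≫ (prod.snd : V ⨯ V ⟶ V).left = s.left := by
      rw [← Over.comp_left, prod.lift_snd]
    rw [← h2]
    infer_instance
  have hv : ∀ v' : ↥V.left, v' ⤳ (⟨u, huO⟩ : ↥O) → v' = (⟨u, huO⟩ : ↥O) := fun v' h =>
    Subtype.ext (hu _ (h.map O.ι.continuous))
  obtain ⟨X', j', hj', hrep, hmem⟩ := exists_open_scheme_nbhd X _ hb s t hR' (⟨u, huO⟩ : ↥O) hv
  obtain ⟨M, ⟨r⟩⟩ := hrep.has_representation
  refine ⟨M, (AlgSp.isoOfRepresentableBy r).hom ≫ j'.hom,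
    (AlgSp.repWith_isMultiplicative (S := S) @IsOpenImmersion).comp_mem _ _
      (MorphismProperty.of_isIso (AlgSp.RepWith (S := S) @IsOpenImmersion) _) hj', ?_⟩
  rw [Groth.Agent.S10176.ofPt_map_comp] at hmem
  obtain ⟨z, hz⟩ := hmem
  refine ⟨AlgSp.Points.map (AlgSp.isoOfRepresentableBy r).inv z, ?_⟩
  rw [← AlgSp.Points.map_comp, ← Category.assoc, Iso.inv_hom_id, Category.id_comp]
  exact hz

/-- **a Zariski locally quasi-separated algebraic space has a dense open subscheme containing all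
points of codimension zero.** -/
theorem exists_dense_open_subscheme_of_zariskiLocally (X : AlgSp.Space S)
    (hX : ∃ (ι : Type u) (Xi : ι → AlgSp.Space S) (j : ∀ i, Xi i ⟶ X),
      AlgSp.IsZarCover (fun i => (Xi i).obj) (fun i => (j i).hom) ∧
        ∀ i, AlgSp.IsQuasiSeparatedSp (Xi i).obj) :
    ∃ (X' : AlgSp.Space S) (j : X' ⟶ X), AlgSp.RepWith @IsOpenImmersion j.hom ∧
      X'.obj.obj.IsRepresentable ∧ Dense (Set.range (AlgSp.Points.map j.hom)) ∧
      ∀ x : AlgSp.Points X.obj,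
        AlgSp.HasAt (fun U u => ringKrullDim ↥(U.presheaf.stalk u) = 0) X.obj x →
          x ∈ Set.range (AlgSp.Points.map j.hom) := by
  obtain ⟨ι, Xi, j, hcov, hqs⟩ := hX
  obtain ⟨U, a, hae, has⟩ := X.property.atlas
  have key : ∀ u : {u : ↥U.left // ∀ u' : ↥U.left, u' ⤳ u → u' = u},
      ∃ (M : Over S) (f : (AlgSp.yon S).obj M ⟶ X.obj), AlgSp.RepWith @IsOpenImmersion f ∧
        AlgSp.Points.ofPt a u.1 ∈ Set.range (AlgSp.Points.map f) :=
    fun u => exists_open_scheme_of_maximal X Xi j hcov hqs a hae u.1 u.2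
  choose M f hf hmem using key
  obtain ⟨Wg, ⟨e⟩⟩ := exists_iso_openSub_iUnion M f hf
  have hA : IsOpen (⋃ i, Set.range (AlgSp.Points.map (f i))) :=
    isOpen_iUnion (fun i => Groth.Agent.Lib.Helper12.OpenSub.isOpen_range_of_open (f i) (hf i))
  have hcodim : ∀ x : AlgSp.Points X.obj,
      AlgSp.HasAt (fun U u => ringKrullDim ↥(U.presheaf.stalk u) = 0) X.obj x →
        x ∈ ⋃ i, Set.range (AlgSp.Points.map (f i)) := by
    rintro x ⟨V, b, v, hb, hbv, hdim⟩
    obtain ⟨u, hu⟩ := Groth.Agent.S10177.surjective_ofPt a has x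
    have humax : ∀ u' : ↥U.left, u' ⤳ u → u' = u :=
      Groth.Agent.R2.H25.DenseOpen.maximal_of_etale_chart a b hae hb u v (hu.trans hbv.symm)
        (Groth.Agent.R2.H25.DenseOpen.eq_of_specializes_of_dim_zero v hdim)
    have := hmem ⟨u, humax⟩
    rw [hu] at this
    exact Set.mem_iUnion.2 ⟨⟨u, humax⟩, this⟩
  refine ⟨⟨_, Groth.Agent.Lib.Helper12.OpenSub.isAlgSpace_obj X.property hA⟩,
    ObjectProperty.homMk (Groth.Agent.Lib.Helper12.OpenSub.incl X.obj _),
    Groth.Agent.Lib.Helper12.OpenSub.repWith_incl hA, ⟨Wg, ⟨AlgSp.representableByOfIso e⟩⟩, ?_, ?_⟩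
  · show Dense (Set.range (AlgSp.Points.map (Groth.Agent.Lib.Helper12.OpenSub.incl X.obj _)))
    rw [Groth.Agent.Lib.Helper12.OpenSub.range_map_incl, dense_iff_inter_open]
    intro B hB hBne
    obtain ⟨x₀, hx₀⟩ := hBne
    obtain ⟨u₀, hu₀⟩ := Groth.Agent.S10177.surjective_ofPt a has x₀
    obtain ⟨ξ, hξO, hξdim⟩ := Groth.Agent.R2.H25.DenseOpen.exists_dim_zero_mem
      (⟨AlgSp.Points.ofPt a ⁻¹' B, hB.preimage (AlgSp.Points.continuous_ofPt a)⟩ : U.left.Opens)
      ⟨u₀, by show AlgSp.Points.ofPt a u₀ ∈ B; rw [hu₀]; exact hx₀⟩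
    exact ⟨AlgSp.Points.ofPt a ξ, hξO, hcodim _ ⟨U, a, ξ, hae, rfl, hξdim⟩⟩
  · intro x hx
    show x ∈ Set.range (AlgSp.Points.map (Groth.Agent.Lib.Helper12.OpenSub.incl X.obj _))
    rw [Groth.Agent.Lib.Helper12.OpenSub.range_map_incl]
    exact hcodim x hx

end Groth.Agent.R2.H25.CodimZero
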