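import Mathlib
import Groth.Agent.Lib.Helper12QcPoint
import Groth.Agent.S10341
import Groth.Agent.S10175
import Groth.Agent.S10176
import Groth.Agent.S10177

set_option autoImplicit false
set_option linter.style.haveILetI false
universe u
open CategoryTheory CategoryTheory.Limits AlgebraicGeometry

namespace Groth.Agent.R2.H46.FiniteSpec

variable {S : Scheme.{u}}

/-- every point of an algebraic space lies in the image of an affine etale chart. -/
lemma exists_affine_chart (X : AlgSp.Space S) (x : AlgSp.Points X.obj) :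
    ∃ (V : Over S) (c : (AlgSp.yon S).obj V ⟶ X.obj) (v : ↥V.left), IsAffine V.left ∧
      AlgSp.RepWith @Etale c ∧ AlgSp.Points.ofPt c v = x := by
  obtain ⟨U, a, hae, has⟩ := X.property.atlas
  obtain ⟨u, hu⟩ := Groth.Agent.S10177.surjective_ofPt a has x
  obtain ⟨U₀, hU₀, huU, -⟩ : ∃ V : U.left.Opens, V ∈ U.left.affineOpens ∧ u ∈ V ∧ V ≤ ⊤ :=
    TopologicalSpace.Opens.isBasis_iff_nbhd.1 U.left.isBasis_affineOpens
      (TopologicalSpace.Opens.mem_top u)
  let V : Over S := Over.mk (U₀.ι ≫ U.hom)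
  let j : V ⟶ U := Over.homMk U₀.ι rfl
  refine ⟨V, (AlgSp.yon S).map j ≫ a, ⟨u, huU⟩, hU₀, ?_, ?_⟩
  · exact (AlgSp.RepWith @Etale).comp_mem _ _
      ((AlgSp.repWith_yon_map_iff _ _).2 (inferInstance : Etale U₀.ι)) hae
  · rw [Groth.Agent.S10176.ofPt_map_comp]; exact hu

/-- fibres of affine etale charts of a decent space are finite. -/
lemma finite_fibre_of_isDecent (X : AlgSp.Space S) (hX : AlgSp.IsDecent X.obj)
    (x : AlgSp.Points X.obj) :
    ∀ (V : Over S) (b : (AlgSp.yon S).obj V ⟶ X.obj), IsAffine V.left →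
      AlgSp.RepWith @Etale b → (AlgSp.Points.ofPt b ⁻¹' {x}).Finite := by
  intro V b hV hb
  obtain ⟨p, hp, -, hq⟩ := hX x
  haveI : CompactSpace ↥V.left := inferInstance
  rw [← hp]
  exact Groth.Agent.Lib.Helper12.QcPoint.finite_fibre_of_quasiCompact p hq b hb

/-- specializations lift along finite morphisms to decent spaces. -/
lemma exists_specialization_of_isFiniteMor {X Y : AlgSp.Space S} (f : Y ⟶ X)
    (hf : AlgSp.IsFiniteMor f.hom) (hX : AlgSp.IsDecent X.obj)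
    (a b : AlgSp.Points X.obj) (hab : a ⤳ b) (a' : AlgSp.Points Y.obj)
    (ha' : AlgSp.Points.map f.hom a' = a) :
    ∃ b' : AlgSp.Points Y.obj, a' ⤳ b' ∧ AlgSp.Points.map f.hom b' = b := by
  obtain ⟨V, c, vb, hV, hc, hvb⟩ := exists_affine_chart X b
  obtain ⟨p, hp, -, hq⟩ := hX a
  obtain ⟨va, hva, hvaa⟩ :=
    Groth.Agent.Lib.Helper12.QcPoint.exists_generization b a hab p hp hq c hc vb hvb
  obtain ⟨W, i, fstW, sqW, hW, hfin⟩ := hf hV c
  obtain ⟨q, hq1, hq2⟩ := Groth.Agent.S10175.exists_point_of_isPullback sqW a'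
    (AlgSp.Points.ofScheme V va) (by rw [ha', ← AlgSp.Points.ofPt_eq_map_ofScheme, hvaa])
  obtain ⟨wa, rfl⟩ := (AlgSp.Points.schemeHomeo W).surjective q
  have hwa : i.left wa = va := by
    apply (AlgSp.Points.schemeHomeo V).injective
    exact (AlgSp.Points.map_yon_map_apply i wa).symm.trans hq2
  haveI := hfin
  have hcl : IsClosedMap i.left := i.left.isClosedMap
  have hmem : vb ∈ i.left '' closure {wa} := by
    have h1 : IsClosed (i.left '' closure {wa}) := hcl _ isClosed_closure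
    have h2 : va ∈ i.left '' closure {wa} := ⟨wa, subset_closure rfl, hwa⟩
    exact (h1.closure_subset_iff.2 (Set.singleton_subset_iff.2 h2))
      (specializes_iff_mem_closure.1 hva)
  obtain ⟨wb, hwb, hwbv⟩ := hmem
  refine ⟨AlgSp.Points.ofPt fstW wb, ?_, ?_⟩
  · have h1 : wa ⤳ wb := specializes_iff_mem_closure.2 hwb
    have h2 := h1.map (AlgSp.Points.continuous_ofPt fstW)
    have h3 : AlgSp.Points.ofPt fstW wa = a' := by
      rw [AlgSp.Points.ofPt_eq_map_ofScheme]; exact hq1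
    rwa [h3] at h2
  · rw [AlgSp.Points.map_ofPt, sqW.w, Groth.Agent.S10176.ofPt_map_comp, hwbv, hvb]

/-- there are no nontrivial specializations in the fibres of a finite morphism of decent
spaces. -/
lemma eq_of_specializes_of_isFiniteMor {X Y : AlgSp.Space S} (f : Y ⟶ X)
    (hf : AlgSp.IsFiniteMor f.hom) (hX : AlgSp.IsDecent X.obj) (hY : AlgSp.IsDecent Y.obj)
    (y₁ y₂ : AlgSp.Points Y.obj) (h : y₁ ⤳ y₂)
    (hxy : AlgSp.Points.map f.hom y₁ = AlgSp.Points.map f.hom y₂) : y₁ = y₂ := by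
  obtain ⟨V, c, v, hV, hc, hv⟩ := exists_affine_chart X (AlgSp.Points.map f.hom y₂)
  obtain ⟨W, i, fstW, sqW, hW, hfin⟩ := hf hV c
  have hfstW : AlgSp.RepWith @Etale fstW :=
    MorphismProperty.of_isPullback (P := AlgSp.RepWith @Etale) sqW.flip hc
  obtain ⟨q, hq1, hq2⟩ := Groth.Agent.S10175.exists_point_of_isPullback sqW y₂
    (AlgSp.Points.ofScheme V v) (by rw [← AlgSp.Points.ofPt_eq_map_ofScheme, hv])
  obtain ⟨w₂, rfl⟩ := (AlgSp.Points.schemeHomeo W).surjective q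
  have hw₂v : i.left w₂ = v := by
    apply (AlgSp.Points.schemeHomeo V).injective
    exact (AlgSp.Points.map_yon_map_apply i w₂).symm.trans hq2
  have hw₂y : AlgSp.Points.ofPt fstW w₂ = y₂ := by
    rw [AlgSp.Points.ofPt_eq_map_ofScheme]; exact hq1
  obtain ⟨p, hp, -, hq⟩ := hY y₁
  obtain ⟨w₁, hw₁, hw₁y⟩ :=
    Groth.Agent.Lib.Helper12.QcPoint.exists_generization y₂ y₁ h p hp hq fstW hfstW w₂ hw₂y
  have hs : i.left w₁ ⤳ v := hw₂v ▸ hw₁.map i.left.continuous
  have hx1 : AlgSp.Points.ofPt c (i.left w₁) = AlgSp.Points.map f.hom y₂ := by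
    rw [← Groth.Agent.S10176.ofPt_map_comp, ← sqW.w, ← AlgSp.Points.map_ofPt, hw₁y, hxy]
  have heq : v = i.left w₁ := Groth.Agent.S10341.result X (AlgSp.Points.map f.hom y₂)
    (finite_fibre_of_isDecent X hX _) c hc v (i.left w₁) hv hx1 hs
  haveI := hfin
  have hdisc := i.left.isDiscrete_preimage_singleton v
  have hw₁mem : w₁ ∈ i.left ⁻¹' {v} := heq.symm
  have hw₂mem : w₂ ∈ i.left ⁻¹' {v} := hw₂v
  haveI : DiscreteTopology ↥(i.left ⁻¹' {v}) := hdisc.to_subtype
  have hsub : (⟨w₁, hw₁mem⟩ : ↥(i.left ⁻¹' {v})) ⤳ ⟨w₂, hw₂mem⟩ :=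
    (subtype_specializes_iff _ _).2 hw₁
  have h12 : w₁ = w₂ := congrArg Subtype.val hsub.eq
  rw [← hw₁y, ← hw₂y, h12]

end Groth.Agent.R2.H46.FiniteSpec
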