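import Mathlib
import Groth.Agent.Lib.Helper12QcPoint
import Groth.Agent.S10341
import Groth.Agent.S10176
import Groth.Agent.S10177
import Groth.Agent.S10265
import Groth.Agent.R2.H25DecentClosed
import Groth.Agent.R2.H46FiniteSpec

set_option autoImplicit false
set_option linter.style.haveILetI false
universe u
open CategoryTheory CategoryTheory.Limits AlgebraicGeometry

namespace Groth.Agent.R2.H46.Jacobson

variable {S : Scheme.{u}}

/-- if a point of an algebraic space has a closed lift in some etale chart, then all its lifts in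
a Jacobson etale chart are closed. -/
lemma isClosed_singleton_of_jacobson {X : AlgSp.Sp S} {U₁ U₂ : Over S}
    (a₁ : (AlgSp.yon S).obj U₁ ⟶ X) (ha₁ : AlgSp.RepWith @Etale a₁)
    (a₂ : (AlgSp.yon S).obj U₂ ⟶ X) (ha₂ : AlgSp.RepWith @Etale a₂)
    (u₁ : ↥U₁.left) (u₂ : ↥U₂.left) (h₁ : IsClosed ({u₁} : Set ↥U₁.left))
    (e : AlgSp.Points.ofPt a₁ u₁ = AlgSp.Points.ofPt a₂ u₂) [JacobsonSpace ↥U₂.left] :
    IsClosed ({u₂} : Set ↥U₂.left) := by
  obtain ⟨P, pr₂, pr₁', sq⟩ := ha₁.1 a₂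
  obtain ⟨pr₁, rfl⟩ := (AlgSp.yon S).map_surjective pr₁'
  haveI : Etale pr₂.left := ha₁.2 a₂ _ pr₂ sq
  haveI : Etale pr₁.left := ha₂.2 a₁ _ pr₁ sq.flip
  obtain ⟨ρ, hρ1, hρ2⟩ := Groth.Agent.S10176.exists_point_of_isPullback_yon sq u₁ u₂ e
  haveI : JacobsonSpace ↥P.left := LocallyOfFiniteType.jacobsonSpace pr₂.left
  haveI : LocallyQuasiFinite pr₁.left := Groth.Agent.S10265.locallyQuasiFinite_of_unramified _
  have hdisc := pr₁.left.isDiscrete_preimage_singleton u₁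
  have hfc : IsClosed (pr₁.left ⁻¹' {u₁}) := h₁.preimage pr₁.left.continuous
  have hρmem : ρ ∈ pr₁.left ⁻¹' {u₁} := hρ1
  haveI : DiscreteTopology ↥(pr₁.left ⁻¹' {u₁}) := hdisc.to_subtype
  have hopen : IsOpen ({⟨ρ, hρmem⟩} : Set ↥(pr₁.left ⁻¹' {u₁})) := isOpen_discrete _
  obtain ⟨O, hO, hOρ⟩ := isOpen_induced_iff.1 hopen
  have hlc : IsLocallyClosed ({ρ} : Set ↥P.left) := by
    have hEq : ({ρ} : Set ↥P.left) = O ∩ pr₁.left ⁻¹' {u₁} := by
      ext z
      constructor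
      · rintro rfl
        refine ⟨?_, hρmem⟩
        have : (⟨z, hρmem⟩ : ↥(pr₁.left ⁻¹' {u₁})) ∈ Subtype.val ⁻¹' O := by
          rw [hOρ]; rfl
        exact this
      · rintro ⟨hzO, hzf⟩
        have : (⟨z, hzf⟩ : ↥(pr₁.left ⁻¹' {u₁})) ∈ Subtype.val ⁻¹' O := hzO
        rw [hOρ] at this
        exact congrArg Subtype.val this
    rw [hEq]
    exact hO.isLocallyClosed.inter hfc.isLocallyClosed
  have hρcl : IsClosed ({ρ} : Set ↥P.left) := isClosed_singleton_of_isLocallyClosed_singleton hlc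
  have := pr₂.left.closePoints_subset_preimage_closedPoints hρcl
  rw [Set.mem_preimage, hρ2] at this
  exact this

end Groth.Agent.R2.H46.Jacobson
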