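import Mathlib
import Groth.Prelude.Def_Flat
import Groth.Agent.S10176
import Groth.Agent.S10177
import Groth.Agent.R2.H46Jacobson

set_option autoImplicit false
set_option linter.style.haveILetI false
universe u
open CategoryTheory CategoryTheory.Limits AlgebraicGeometry Topology TopologicalSpace

namespace Groth.Agent.R2.H46.LftField

section Top

variable {W : Type*} [TopologicalSpace W]

/-- in a Noetherian quasi-sober space, a point without proper generizations has an open
neighbourhood contained in its closure. -/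
lemma exists_open_subset_closure [NoetherianSpace W] [QuasiSober W] (η : W)
    (hg : ∀ w : W, w ⤳ η → w = η) :
    ∃ O : Set W, IsOpen O ∧ η ∈ O ∧ O ⊆ closure {η} := by
  have hfin : (irreducibleComponents W).Finite := NoetherianSpace.finite_irreducibleComponents
  let 𝒵 : Set (Set W) := {Z ∈ irreducibleComponents W | η ∉ Z}
  have h𝒵fin : 𝒵.Finite := hfin.subset (fun Z hZ => hZ.1)
  have hcl : IsClosed (⋃₀ 𝒵) := by
    rw [Set.sUnion_eq_biUnion]
    exact h𝒵fin.isClosed_biUnion (fun Z hZ => isClosed_of_mem_irreducibleComponents Z hZ.1)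
  refine ⟨(⋃₀ 𝒵)ᶜ, hcl.isOpen_compl, ?_, ?_⟩
  · rintro ⟨Z, hZ, hηZ⟩
    exact hZ.2 hηZ
  · intro w hw
    have hwZ : η ∈ irreducibleComponent w := by
      by_contra hη
      exact hw ⟨irreducibleComponent w, ⟨irreducibleComponent_mem_irreducibleComponents w, hη⟩,
        mem_irreducibleComponent⟩
    obtain ⟨η', hη'⟩ := QuasiSober.sober (isIrreducible_irreducibleComponent (x := w))
      isClosed_irreducibleComponent
    have h1 : η' ⤳ η := by
      rw [specializes_iff_mem_closure, hη'.def]; exact hwZ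
    have h2 := hg η' h1
    rw [← h2, hη'.def]
    exact mem_irreducibleComponent

/-- in a Noetherian quasi-sober space, a closed point without proper generizations is open. -/
lemma isOpen_singleton_of_noetherianSpace [NoetherianSpace W] [QuasiSober W] (u : W)
    (hc : IsClosed ({u} : Set W)) (hg : ∀ w : W, w ⤳ u → w = u) : IsOpen ({u} : Set W) := by
  obtain ⟨O, hO, huO, hOc⟩ := exists_open_subset_closure u hg
  rw [hc.closure_eq] at hOc
  have : O = {u} := Set.Subset.antisymm hOc (Set.singleton_subset_iff.2 huO)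
  rw [← this]; exact hO

/-- the local dimension at an open point is zero. -/
lemma localDim_eq_zero_of_isOpen_singleton (x : W) (h : IsOpen ({x} : Set W)) :
    FlatMor.localDim W x = 0 := by
  unfold FlatMor.localDim
  apply le_antisymm
  · refine iInf_le_of_le ⟨⟨{x}, h⟩, Set.mem_singleton x⟩ ?_
    haveI : Subsingleton ↥(({x} : Set W)) := (Set.subsingleton_coe _).2 Set.subsingleton_singleton
    have := topologicalKrullDim_zero_of_discreteTopology ↥(({x} : Set W))
    exact this
  · refine le_iInf fun V => ?_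
    haveI : Nonempty ↥((V.1 : Set W)) := ⟨⟨x, V.2⟩⟩
    haveI : Nonempty (IrreducibleCloseds ↥((V.1 : Set W))) :=
      ⟨⟨closure {⟨x, V.2⟩}, isIrreducible_singleton.closure, isClosed_closure⟩⟩
    exact Order.krullDim_nonneg

/-- if the local dimension at `x` is zero, some open neighbourhood has Krull dimension zero. -/
lemma exists_open_of_localDim_eq_zero (x : W) (h : FlatMor.localDim W x = 0) :
    ∃ V : Opens W, x ∈ V ∧ topologicalKrullDim ↥(V : Set W) = 0 := by
  unfold FlatMor.localDim at h
  haveI : Nonempty {U : Opens W // x ∈ U} := ⟨⟨⊤, trivial⟩⟩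
  obtain ⟨V, hV⟩ := ciInf_mem (fun U : {U : Opens W // x ∈ U} => topologicalKrullDim ↥(U.1 : Set W))
  refine ⟨V.1, V.2, ?_⟩
  have hV' : topologicalKrullDim ↥(V.1 : Set W) =
      ⨅ U : {U : Opens W // x ∈ U}, topologicalKrullDim ↥(U.1 : Set W) := hV
  rw [hV', h]

/-- in a T0 space of Krull dimension `≤ 0` there are no nontrivial specializations. -/
lemma eq_of_specializes_of_krullDim_le_zero [T0Space W] (h : topologicalKrullDim W ≤ 0)
    {a b : W} (hab : a ⤳ b) : a = b := by
  have hmax := Order.krullDim_nonpos_iff_forall_isMax.1 h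
  let Za : IrreducibleCloseds W := ⟨closure {a}, isIrreducible_singleton.closure, isClosed_closure⟩
  let Zb : IrreducibleCloseds W := ⟨closure {b}, isIrreducible_singleton.closure, isClosed_closure⟩
  have hle : Zb ≤ Za := by
    change closure {b} ⊆ closure {a}
    exact (specializes_iff_closure_subset).1 hab
  have hle' : Za ≤ Zb := hmax Zb hle
  have : b ⤳ a := by
    rw [specializes_iff_closure_subset]
    exact hle'
  exact (hab.antisymm this).eq

/-- a point of an open subset of Krull dimension `≤ 0` of a T0 space is closed in that open subset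
and has no proper generizations. -/
lemma forall_eq_of_krullDim_le_zero [T0Space W] (x : W) (V : Opens W) (hxV : x ∈ V)
    (hV : topologicalKrullDim ↥(V : Set W) ≤ 0) :
    (∀ w ∈ V, x ⤳ w → w = x) ∧ (∀ w : W, w ⤳ x → w = x) := by
  constructor
  · intro w hw hxw
    have h1 : (⟨x, hxV⟩ : ↥(V : Set W)) ⤳ ⟨w, hw⟩ := (subtype_specializes_iff _ _).2 hxw
    exact (congrArg Subtype.val (eq_of_specializes_of_krullDim_le_zero hV h1)).symm
  · intro w hwx
    have hw : w ∈ V := hwx.mem_open V.2 hxV
    have h1 : (⟨w, hw⟩ : ↥(V : Set W)) ⤳ ⟨x, hxV⟩ := (subtype_specializes_iff _ _).2 hwx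
    exact congrArg Subtype.val (eq_of_specializes_of_krullDim_le_zero hV h1)

/-- a point closed in an open neighbourhood is locally closed. -/
lemma isLocallyClosed_singleton_of_forall (x : W) (V : Opens W) (hxV : x ∈ V)
    (h : ∀ w ∈ V, x ⤳ w → w = x) : IsLocallyClosed ({x} : Set W) := by
  refine ⟨V, closure {x}, V.2, isClosed_closure, ?_⟩
  ext w
  constructor
  · rintro rfl; exact ⟨hxV, subset_closure rfl⟩
  · rintro ⟨hw, hwc⟩; exact h w hw (specializes_iff_mem_closure.2 hwc)

/-- a finite Jacobson space is discrete. -/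
lemma discreteTopology_of_finite_of_jacobsonSpace [Finite W] [JacobsonSpace W] :
    DiscreteTopology W := by
  have hcl : IsClosed (closedPoints W) := by
    have : closedPoints W = ⋃ x ∈ closedPoints W, {x} := (Set.biUnion_of_singleton _).symm
    rw [this]
    exact (Set.toFinite _).isClosed_biUnion (fun x hx => hx)
  have huniv : closedPoints W = Set.univ := by
    have := JacobsonSpace.closure_inter_closedPoints (X := W) isClosed_univ
    rw [Set.univ_inter, hcl.closure_eq] at this
    exact this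
  haveI : T1Space W := ⟨fun x => by
    have : x ∈ closedPoints W := by rw [huniv]; trivial
    exact this⟩
  infer_instance

end Top

section Sch

variable (U : Scheme.{u})

/-- in a locally Noetherian scheme, a point which is closed in an open neighbourhood and has no
proper generizations is open. -/
lemma isOpen_singleton_of_isLocallyNoetherian [IsLocallyNoetherian U] (O : Set ↥U) (hO : IsOpen O)
    (u : ↥U) (hu : u ∈ O) (hc : ∀ w ∈ O, u ⤳ w → w = u) (hg : ∀ w : ↥U, w ⤳ u → w = u) :
    IsOpen ({u} : Set ↥U) := by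
  obtain ⟨V, hV, huV, hVO⟩ : ∃ V : U.Opens, V ∈ U.affineOpens ∧ u ∈ V ∧ V ≤ ⟨O, hO⟩ :=
    TopologicalSpace.Opens.isBasis_iff_nbhd.1 U.isBasis_affineOpens (U := ⟨O, hO⟩) hu
  haveI : IsNoetherianRing Γ(U, V) := IsLocallyNoetherian.component_noetherian ⟨V, hV⟩
  haveI : NoetherianSpace ↥V := noetherianSpace_of_isAffineOpen V hV
  haveI : QuasiSober ↥V := V.isOpenEmbedding'.quasiSober
  have h1 : IsOpen ({⟨u, huV⟩} : Set ↥V) := by
    apply isOpen_singleton_of_noetherianSpace
    · rw [← closure_eq_iff_isClosed]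
      apply Set.Subset.antisymm _ subset_closure
      intro w hw
      have : (⟨u, huV⟩ : ↥V) ⤳ w := specializes_iff_mem_closure.2 hw
      rw [subtype_specializes_iff] at this
      exact Subtype.ext (hc w.1 (hVO w.2) this)
    · intro w hw
      rw [subtype_specializes_iff] at hw
      exact Subtype.ext (hg w.1 hw)
  have h2 := V.isOpenEmbedding'.isOpenMap _ h1
  rwa [Set.image_singleton] at h2

/-- in a locally Noetherian scheme, an open set all of whose points are open and closed is
closed. -/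
lemma isClosed_of_forall_isOpen_isClosed_singleton [IsLocallyNoetherian U] (F : Set ↥U)
    (hFo : ∀ u ∈ F, IsOpen ({u} : Set ↥U)) (hFc : ∀ u ∈ F, IsClosed ({u} : Set ↥U)) :
    IsClosed F := by
  rw [← closure_eq_iff_isClosed]
  apply Set.Subset.antisymm _ subset_closure
  intro w hw
  obtain ⟨V, hV, hwV, -⟩ : ∃ V : U.Opens, V ∈ U.affineOpens ∧ w ∈ V ∧ V ≤ ⊤ :=
    TopologicalSpace.Opens.isBasis_iff_nbhd.1 U.isBasis_affineOpens (TopologicalSpace.Opens.mem_top w)
  haveI : IsNoetherianRing Γ(U, V) := IsLocallyNoetherian.component_noetherian ⟨V, hV⟩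
  haveI : NoetherianSpace ↥V := noetherianSpace_of_isAffineOpen V hV
  -- `F ∩ V` is finite
  have hfin : (F ∩ V).Finite := by
    have hcomp : IsCompact (Subtype.val ⁻¹' F : Set ↥V) := NoetherianSpace.isCompact _
    have hdisc : ∀ z ∈ (Subtype.val ⁻¹' F : Set ↥V), IsOpen ({z} : Set ↥V) := by
      intro z hz
      have := (hFo z.1 hz).preimage (continuous_subtype_val (p := fun x => x ∈ V))
      have hEq : ({z} : Set ↥V) = Subtype.val ⁻¹' ({z.1} : Set ↥U) := by
        ext y
        constructor
        · intro hy; rw [Set.mem_singleton_iff] at hy; rw [hy]; rfl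
        · intro hy; exact Subtype.ext hy
      rw [hEq]; exact this
    have hfin' : (Subtype.val ⁻¹' F : Set ↥V).Finite := by
      obtain ⟨t, ht⟩ := hcomp.elim_finite_subcover_image (b := (Subtype.val ⁻¹' F : Set ↥V))
        (c := fun z => ({z} : Set ↥V)) hdisc (fun z hz => Set.mem_biUnion hz rfl)
      refine ht.2.1.subset ?_
      intro z hz
      obtain ⟨i, hi, hzi⟩ := Set.mem_iUnion₂.1 (ht.2.2 hz)
      rw [Set.mem_singleton_iff] at hzi
      rw [hzi]; exact hi
    have : F ∩ V = Subtype.val '' (Subtype.val ⁻¹' F : Set ↥V) := by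
      ext y
      constructor
      · rintro ⟨hy1, hy2⟩; exact ⟨⟨y, hy2⟩, hy1, rfl⟩
      · rintro ⟨z, hz, rfl⟩; exact ⟨hz, z.2⟩
    rw [this]
    exact hfin'.image _
  have hcl : IsClosed (F ∩ V) := by
    have : F ∩ V = ⋃ x ∈ F ∩ V, {x} := (Set.biUnion_of_singleton _).symm
    rw [this]
    exact hfin.isClosed_biUnion (fun x hx => hFc x hx.1)
  have hw' : w ∈ closure (F ∩ V) := by
    rw [mem_closure_iff]
    intro O hO hwO
    have h3 := mem_closure_iff.1 hw (O ∩ V) (hO.inter V.2) ⟨hwO, hwV⟩
    obtain ⟨y, ⟨hy1, hy2⟩, hy3⟩ := h3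
    exact ⟨y, hy1, hy3, hy2⟩
  rw [hcl.closure_eq] at hw'
  exact hw'.1

end Sch


section Sp

variable {S : Scheme.{u}}

/-- **Core lemma.** Let `a : h_U ⟶ X` be an etale chart with `U` Jacobson and locally Noetherian,
and `O ⊆ U` an open subset all of whose points map to the same point of `|X|`.  Then every point
of `O` is open in `U`. -/
lemma isOpen_singleton_of_forall_ofPt_eq {X : AlgSp.Sp S} {U : Over S}
    (a : (AlgSp.yon S).obj U ⟶ X) (ha : AlgSp.RepWith @Etale a)
    [JacobsonSpace ↥U.left] [IsLocallyNoetherian U.left] (O : U.left.Opens)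
    (x : AlgSp.Points X) (hO : ∀ w ∈ O, AlgSp.Points.ofPt a w = x) (u : ↥U.left) (hu : u ∈ O) :
    IsOpen ({u} : Set ↥U.left) := by
  let V : Over S := Over.mk (O.ι ≫ U.hom)
  let j : V ⟶ U := Over.homMk O.ι rfl
  have ha' : AlgSp.RepWith @Etale ((AlgSp.yon S).map j ≫ a) :=
    (AlgSp.RepWith @Etale).comp_mem _ _
      ((AlgSp.repWith_yon_map_iff _ _).2 (inferInstance : Etale O.ι)) ha
  haveI : JacobsonSpace ↥V.left := LocallyOfFiniteType.jacobsonSpace O.ι
  have hpt : ∀ z : ↥V.left, AlgSp.Points.ofPt ((AlgSp.yon S).map j ≫ a) z = x := by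
    intro z
    rw [Groth.Agent.S10176.ofPt_map_comp]
    exact hO _ z.2
  -- a closed point of `O`
  obtain ⟨z₀, hz₀⟩ : ∃ z₀ : ↥V.left, IsClosed ({z₀} : Set ↥V.left) := by
    have h1 := (jacobsonSpace_iff_locallyClosed (X := ↥V.left)).1 inferInstance Set.univ
      ⟨⟨u, hu⟩, trivial⟩ isClosed_univ.isLocallyClosed
    obtain ⟨z₀, -, hz₀⟩ := h1
    exact ⟨z₀, hz₀⟩
  -- all points of `O` are closed in `O`
  have hall : ∀ z : ↥V.left, IsClosed ({z} : Set ↥V.left) := fun z =>
    Groth.Agent.R2.H46.Jacobson.isClosed_singleton_of_jacobson _ ha' _ ha' z₀ z hz₀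
      ((hpt z₀).trans (hpt z).symm)
  refine isOpen_singleton_of_isLocallyNoetherian U.left O O.2 u hu ?_ ?_
  · intro w hw huw
    have h1 : (⟨u, hu⟩ : ↥O) ⤳ ⟨w, hw⟩ := (subtype_specializes_iff _ _).2 huw
    have h2 := specializes_iff_mem_closure.1 h1
    have h3 : (⟨w, hw⟩ : ↥O) = ⟨u, hu⟩ := (hall ⟨u, hu⟩).closure_subset h2
    exact congrArg Subtype.val h3
  · intro w hwu
    have hw : w ∈ O := hwu.mem_open O.2 hu
    have h1 : (⟨w, hw⟩ : ↥O) ⤳ ⟨u, hu⟩ := (subtype_specializes_iff _ _).2 hwu
    have h2 := specializes_iff_mem_closure.1 h1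
    have h3 : (⟨u, hu⟩ : ↥O) = ⟨w, hw⟩ := (hall ⟨w, hw⟩).closure_subset h2
    exact (congrArg Subtype.val h3).symm

/-- if `{x}` is open in `|X|`, every lift of `x` to a Jacobson locally Noetherian etale chart is an
open point of the chart. -/
lemma isOpen_singleton_chart_of_isOpen {X : AlgSp.Sp S} {U : Over S}
    (a : (AlgSp.yon S).obj U ⟶ X) (ha : AlgSp.RepWith @Etale a)
    [JacobsonSpace ↥U.left] [IsLocallyNoetherian U.left] (u : ↥U.left)
    (h : IsOpen ({AlgSp.Points.ofPt a u} : Set (AlgSp.Points X))) :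
    IsOpen ({u} : Set ↥U.left) :=
  isOpen_singleton_of_forall_ofPt_eq a ha
    ⟨AlgSp.Points.ofPt a ⁻¹' {AlgSp.Points.ofPt a u}, h.preimage (AlgSp.Points.continuous_ofPt a)⟩
    (AlgSp.Points.ofPt a u) (fun _ hw => hw) u rfl

/-- an open point of `|X|` is closed, if `X` has a Jacobson locally Noetherian atlas. -/
lemma isClosed_singleton_of_isOpen {X : AlgSp.Sp S} {U : Over S}
    (a : (AlgSp.yon S).obj U ⟶ X) (ha : AlgSp.RepWith @Etale a)
    (has : AlgSp.RepWith @Surjective a)
    [JacobsonSpace ↥U.left] [IsLocallyNoetherian U.left] (x : AlgSp.Points X)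
    (h : IsOpen ({x} : Set (AlgSp.Points X))) : IsClosed ({x} : Set (AlgSp.Points X)) := by
  rw [← (Groth.Agent.S10177.isQuotientMap_ofPt a ha has).isClosed_preimage]
  have hFo : ∀ u ∈ AlgSp.Points.ofPt a ⁻¹' {x}, IsOpen ({u} : Set ↥U.left) := by
    intro u hu
    have hu' : AlgSp.Points.ofPt a u = x := hu
    exact isOpen_singleton_chart_of_isOpen a ha u (by rw [hu']; exact h)
  exact isClosed_of_forall_isOpen_isClosed_singleton U.left _ hFo
    (fun u hu => isClosed_singleton_of_isLocallyClosed_singleton (hFo u hu).isLocallyClosed)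

/-- a locally closed point of `|X|` without proper generizations is open, if it lifts to a Jacobson
locally Noetherian etale chart. -/
lemma isOpen_singleton_of_isLocallyClosed {X : AlgSp.Sp S} {U : Over S}
    (a : (AlgSp.yon S).obj U ⟶ X) (ha : AlgSp.RepWith @Etale a)
    [JacobsonSpace ↥U.left] [IsLocallyNoetherian U.left] (u : ↥U.left)
    (hlc : IsLocallyClosed ({AlgSp.Points.ofPt a u} : Set (AlgSp.Points X)))
    (hg : ∀ x' : AlgSp.Points X, x' ⤳ AlgSp.Points.ofPt a u → x' = AlgSp.Points.ofPt a u) :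
    IsOpen ({u} : Set ↥U.left) := by
  -- a generic point `η` of an irreducible component through `u`
  obtain ⟨η, hη⟩ := QuasiSober.sober (isIrreducible_irreducibleComponent (x := u))
    isClosed_irreducibleComponent
  have hηu : η ⤳ u := by
    rw [specializes_iff_mem_closure, hη.def]; exact mem_irreducibleComponent
  have haη : AlgSp.Points.ofPt a η = AlgSp.Points.ofPt a u :=
    hg _ (hηu.map (AlgSp.Points.continuous_ofPt a))
  have hηg : ∀ w : ↥U.left, w ⤳ η → w = η := by
    intro w hw
    have h1 : irreducibleComponent u ⊆ closure {w} := by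
      rw [← hη.def]; exact (specializes_iff_closure_subset).1 hw
    have h2 := eq_irreducibleComponent (isIrreducible_singleton.closure.isPreirreducible) h1
    have h3 : η ⤳ w := by
      rw [specializes_iff_mem_closure, hη.def, ← h2]; exact subset_closure rfl
    exact (hw.antisymm h3).eq
  -- an open neighbourhood of `η` inside its closure
  obtain ⟨V, hV, hηV, -⟩ : ∃ V : U.left.Opens, V ∈ U.left.affineOpens ∧ η ∈ V ∧ V ≤ ⊤ :=
    TopologicalSpace.Opens.isBasis_iff_nbhd.1 U.left.isBasis_affineOpens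
      (TopologicalSpace.Opens.mem_top η)
  haveI : IsNoetherianRing Γ(U.left, V) := IsLocallyNoetherian.component_noetherian ⟨V, hV⟩
  haveI : NoetherianSpace ↥V := noetherianSpace_of_isAffineOpen V hV
  haveI : QuasiSober ↥V := V.isOpenEmbedding'.quasiSober
  obtain ⟨O', hO', hηO', hO'c⟩ := exists_open_subset_closure (⟨η, hηV⟩ : ↥V) (by
    intro w hw
    rw [subtype_specializes_iff] at hw
    exact Subtype.ext (hηg w.1 hw))
  obtain ⟨A, Z, hA, hZ, hAZ⟩ := hlc
  have hxA : AlgSp.Points.ofPt a u ∈ A := by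
    have : AlgSp.Points.ofPt a u ∈ ({AlgSp.Points.ofPt a u} : Set (AlgSp.Points X)) := rfl
    rw [hAZ] at this; exact this.1
  have hxZ : AlgSp.Points.ofPt a u ∈ Z := by
    have : AlgSp.Points.ofPt a u ∈ ({AlgSp.Points.ofPt a u} : Set (AlgSp.Points X)) := rfl
    rw [hAZ] at this; exact this.2
  have hO₁ : IsOpen (Subtype.val '' O' : Set ↥U.left) := V.isOpenEmbedding'.isOpenMap _ hO'
  let O : U.left.Opens := ⟨Subtype.val '' O' ∩ AlgSp.Points.ofPt a ⁻¹' A,
    hO₁.inter (hA.preimage (AlgSp.Points.continuous_ofPt a))⟩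
  have hηO : η ∈ O := ⟨⟨⟨η, hηV⟩, hηO', rfl⟩, by
    change AlgSp.Points.ofPt a η ∈ A; rw [haη]; exact hxA⟩
  have hOx : ∀ w ∈ O, AlgSp.Points.ofPt a w = AlgSp.Points.ofPt a u := by
    rintro w ⟨⟨w', hw', rfl⟩, hwA⟩
    have h1 : (⟨η, hηV⟩ : ↥V) ⤳ w' := specializes_iff_mem_closure.2 (hO'c hw')
    rw [subtype_specializes_iff] at h1
    have h2 := h1.map (AlgSp.Points.continuous_ofPt a)
    rw [haη] at h2
    have h3 : AlgSp.Points.ofPt a w'.1 ∈ Z := by
      have := specializes_iff_mem_closure.1 h2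
      exact (hZ.closure_subset_iff.2 (Set.singleton_subset_iff.2 hxZ)) this
    have h4 : AlgSp.Points.ofPt a w'.1 ∈ A ∩ Z := ⟨hwA, h3⟩
    rw [← hAZ] at h4
    exact h4
  have hηo : IsOpen ({η} : Set ↥U.left) :=
    isOpen_singleton_of_forall_ofPt_eq a ha O _ hOx η hηO
  have hηc : IsClosed ({η} : Set ↥U.left) :=
    isClosed_singleton_of_isLocallyClosed_singleton hηo.isLocallyClosed
  have : u = η := by
    have := specializes_iff_mem_closure.1 hηu
    rw [hηc.closure_eq] at this
    exact this
  rw [this]; exact hηo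

end Sp

end Groth.Agent.R2.H46.LftField
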