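import Mathlib
import Groth.Prelude
import Groth.Agent.R2.H25CodimZero
import Groth.Agent.R2.H46LftField
import Groth.Agent.R2.H46FiniteSpec
import Groth.Agent.Lib.Helper12OpenSub2
import Groth.Agent.Lib.Helper15MonoSep
import Groth.Agent.S10350
import Groth.Agent.S9957
import Groth.Agent.S2080
import Groth.Agent.S10175

/-!
# Generic finiteness for morphisms of algebraic spaces at a point of codimension `0`

Let `f : X ⟶ Y` be quasi-separated and locally of finite type with `Y` quasi-separated over a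
quasi-separated base and `y` a point of codimension `0` of `Y`.  The fibre `|f|⁻¹(y)` is finite iff
`f` restricts to a finite morphism between an open of `X` containing the fibre and an open of `Y`
through `y`.
-/

set_option autoImplicit false
universe u
open CategoryTheory CategoryTheory.Limits AlgebraicGeometry Topology TopologicalSpace

namespace Groth.Agent.R2.H25.GenFinSp

variable {S : Scheme.{u}}

/-- open immersions are etale. -/
lemma etale_of_open {F G : AlgSp.Sp S} {f : F ⟶ G} (hf : AlgSp.RepWith @IsOpenImmersion f) :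
    AlgSp.RepWith @Etale f :=
  Groth.Agent.Lib.Helper12.OpenSub.repWith_mono
    (fun _ _ g hg => by haveI : IsOpenImmersion g := hg; infer_instance) hf

/-- the restriction of a chart to an open subscheme. -/
noncomputable def restr {X : AlgSp.Sp S} {U : Over S} (a : (AlgSp.yon S).obj U ⟶ X)
    (O : U.left.Opens) : (AlgSp.yon S).obj (Over.mk (O.ι ≫ U.hom)) ⟶ X :=
  (AlgSp.yon S).map (Over.homMk O.ι rfl : Over.mk (O.ι ≫ U.hom) ⟶ U) ≫ a

lemma ofPt_restr {X : AlgSp.Sp S} {U : Over S} (a : (AlgSp.yon S).obj U ⟶ X)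
    (O : U.left.Opens) (w : ↥O) : AlgSp.Points.ofPt (restr a O) w = AlgSp.Points.ofPt a w.1 :=
  Groth.Agent.S10176.ofPt_map_comp (Over.homMk O.ι rfl : Over.mk (O.ι ≫ U.hom) ⟶ U) a w

lemma restr_open {X : AlgSp.Sp S} {U : Over S} {a : (AlgSp.yon S).obj U ⟶ X}
    (ha : AlgSp.RepWith @IsOpenImmersion a) (O : U.left.Opens) :
    AlgSp.RepWith @IsOpenImmersion (restr a O) :=
  (AlgSp.repWith_isMultiplicative (S := S) @IsOpenImmersion).comp_mem _ _
    ((AlgSp.repWith_yon_map_iff _ _).2 (inferInstance : IsOpenImmersion O.ι)) ha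

lemma restr_etale {X : AlgSp.Sp S} {U : Over S} {a : (AlgSp.yon S).obj U ⟶ X}
    (ha : AlgSp.RepWith @Etale a) (O : U.left.Opens) :
    AlgSp.RepWith @Etale (restr a O) :=
  (AlgSp.repWith_isMultiplicative (S := S) @Etale).comp_mem _ _
    ((AlgSp.repWith_yon_map_iff _ _).2 (inferInstance : Etale O.ι)) ha

/-- a chart whose points land in an open subspace factors through it. -/
lemma exists_factor {X Y : AlgSp.Sp S} {U V : Over S} (a : (AlgSp.yon S).obj U ⟶ X)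
    (g : X ⟶ Y) (b : (AlgSp.yon S).obj V ⟶ Y) (hb : AlgSp.RepWith @IsOpenImmersion b)
    (h : ∀ u : ↥U.left, AlgSp.Points.map g (AlgSp.Points.ofPt a u) ∈
      Set.range (AlgSp.Points.map b)) :
    ∃ φ : U ⟶ V, a ≫ g = (AlgSp.yon S).map φ ≫ b := by
  have hfac : Set.range (AlgSp.Points.map (a ≫ g)) ⊆ Set.range (AlgSp.Points.map b) := by
    rintro _ ⟨p, rfl⟩
    obtain ⟨w, rfl⟩ := (AlgSp.Points.schemeHomeo U).surjective p
    have h1 : AlgSp.Points.map (a ≫ g) (AlgSp.Points.ofScheme U w) =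
        AlgSp.Points.map g (AlgSp.Points.ofPt a w) := by
      rw [AlgSp.Points.map_comp, AlgSp.Points.ofPt_eq_map_ofScheme]
    exact h1 ▸ h w
  obtain ⟨c, hc⟩ := (Groth.Agent.S10194.exists_factor_iff b hb _).2 hfac
  obtain ⟨φ, rfl⟩ := (AlgSp.yon S).map_surjective c
  exact ⟨φ, hc.symm⟩

/-- the fibres of a morphism locally of finite type over a point are discrete as soon as they are
finite. -/
lemma eq_of_specializes_of_finite_fibre {A B : Scheme.{u}} (h : A ⟶ B) [LocallyOfFiniteType h]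
    (v : ↥B) (hfin : (h ⁻¹' {v}).Finite) (u u' : ↥A) (hu : h u = v) (hu' : h u' = v)
    (hs : u' ⤳ u) : u' = u := by
  haveI : Finite ↥(h ⁻¹' {v}) := hfin.to_subtype
  haveI : Finite ↥(h.fiber v) := Finite.of_equiv _ (h.fiberHomeo v).symm.toEquiv
  haveI : DiscreteTopology ↥(h.fiber v) :=
    Groth.Agent.R2.H46.LftField.discreteTopology_of_finite_of_jacobsonSpace
  haveI : DiscreteTopology ↥(h ⁻¹' {v}) := (h.fiberHomeo v).symm.isEmbedding.discreteTopology
  have h1 : (⟨u', hu'⟩ : ↥(h ⁻¹' {v})) ⤳ (⟨u, hu⟩ : ↥(h ⁻¹' {v})) :=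
    (subtype_specializes_iff _ _).2 hs
  exact congrArg Subtype.val (specializes_iff_eq.1 h1)

/-- the trivial Zariski covering. -/
lemma zarCover_self (X : AlgSp.Space S) (hqs : AlgSp.IsQuasiSeparatedSp X.obj) :
    ∃ (ι : Type u) (Xi : ι → AlgSp.Space S) (j : ∀ i, Xi i ⟶ X),
      AlgSp.IsZarCover (fun i => (Xi i).obj) (fun i => (j i).hom) ∧
        ∀ i, AlgSp.IsQuasiSeparatedSp (Xi i).obj :=
  ⟨PUnit.{u + 1}, fun _ => X, fun _ => 𝟙 X,
    ⟨fun _ => Groth.Agent.Lib.Helper15MonoSep.repWith_of_isIso @IsOpenImmersion _,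
      fun y => ⟨PUnit.unit, y, AlgSp.Points.map_id y⟩⟩,
    fun _ => hqs⟩

/-- a quasi-separated algebraic space has an open subscheme containing all its points of
codimension `0`. -/
lemma exists_open_subscheme (X : AlgSp.Space S) (hqs : AlgSp.IsQuasiSeparatedSp X.obj) :
    ∃ (M : Over S) (b₀ : (AlgSp.yon S).obj M ⟶ X.obj), AlgSp.RepWith @IsOpenImmersion b₀ ∧
      ∀ x : AlgSp.Points X.obj,
        AlgSp.HasAt (fun U u => ringKrullDim ↥(U.presheaf.stalk u) = 0) X.obj x →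
          ∃ m : ↥M.left, AlgSp.Points.ofPt b₀ m = x := by
  obtain ⟨X', j, hj, hrep, -, hcod⟩ :=
    Groth.Agent.R2.H25.CodimZero.exists_dense_open_subscheme_of_zariskiLocally X
      (zarCover_self X hqs)
  obtain ⟨M, ⟨r⟩⟩ := hrep.has_representation
  refine ⟨M, (AlgSp.isoOfRepresentableBy r).hom ≫ j.hom,
    (AlgSp.repWith_isMultiplicative (S := S) @IsOpenImmersion).comp_mem _ _
      (MorphismProperty.of_isIso (AlgSp.RepWith (S := S) @IsOpenImmersion) _) hj, ?_⟩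
  intro x hx
  obtain ⟨z, hz⟩ := hcod x hx
  obtain ⟨m, hm⟩ := (AlgSp.Points.schemeHomeo M).surjective
    (AlgSp.Points.map (AlgSp.isoOfRepresentableBy r).inv z)
  refine ⟨m, ?_⟩
  have hm' : AlgSp.Points.ofScheme M m = AlgSp.Points.map (AlgSp.isoOfRepresentableBy r).inv z :=
    hm
  rw [AlgSp.Points.ofPt_eq_map_ofScheme, hm', ← AlgSp.Points.map_comp, ← Category.assoc,
    Iso.inv_hom_id, Category.id_comp]
  exact hz

/-- a point of codimension `0` of a quasi-separated algebraic space has an affine open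
neighbourhood, in which it has no proper generization. -/
lemma exists_affine_open_nbhd (X : AlgSp.Space S) (hqs : AlgSp.IsQuasiSeparatedSp X.obj)
    (x : AlgSp.Points X.obj)
    (hx : AlgSp.HasAt (fun U u => ringKrullDim ↥(U.presheaf.stalk u) = 0) X.obj x) :
    ∃ (V : Over S) (b : (AlgSp.yon S).obj V ⟶ X.obj) (v : ↥V.left), IsAffine V.left ∧
      AlgSp.RepWith @IsOpenImmersion b ∧ AlgSp.Points.ofPt b v = x ∧
      ∀ v' : ↥V.left, v' ⤳ v → v' = v := by
  obtain ⟨M, b₀, hb₀, hall⟩ := exists_open_subscheme X hqs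
  obtain ⟨m, hm⟩ := hall x hx
  obtain ⟨O, hO, hmO, -⟩ : ∃ O : M.left.Opens, O ∈ M.left.affineOpens ∧ m ∈ O ∧ O ≤ ⊤ :=
    TopologicalSpace.Opens.isBasis_iff_nbhd.1 M.left.isBasis_affineOpens
      (TopologicalSpace.Opens.mem_top m)
  have hb := restr_open hb₀ O
  have hbv : AlgSp.Points.ofPt (restr b₀ O) (⟨m, hmO⟩ : ↥O) = x := by
    rw [ofPt_restr]; exact hm
  obtain ⟨U₀, a₀, u₀, ha₀, hau₀, hdim⟩ := hx
  refine ⟨Over.mk (O.ι ≫ M.hom), restr b₀ O, (⟨m, hmO⟩ : ↥O), hO, hb, hbv, ?_⟩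
  exact Groth.Agent.R2.H25.DenseOpen.maximal_of_etale_chart (restr b₀ O) a₀ (etale_of_open hb) ha₀
    (⟨m, hmO⟩ : ↥O) u₀ (hbv.trans hau₀.symm)
    (Groth.Agent.R2.H25.DenseOpen.eq_of_specializes_of_dim_zero u₀ hdim)

/-- an open immersion from a scheme is injective on points. -/
lemma ofPt_injective_of_open {Y : AlgSp.Sp S} {V : Over S} (b : (AlgSp.yon S).obj V ⟶ Y)
    (hb : AlgSp.RepWith @IsOpenImmersion b) : Function.Injective (AlgSp.Points.ofPt b) := by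
  intro v v' h
  rw [AlgSp.Points.ofPt_eq_map_ofScheme, AlgSp.Points.ofPt_eq_map_ofScheme b v'] at h
  exact (AlgSp.Points.schemeHomeo V).injective
    (Groth.Agent.Lib.Helper12.LargestOpen.injective_map_of_open b hb h)

/-- **points over a point of codimension `0` with finite fibre have codimension `0`** (for a
morphism locally of finite type with decent source). -/
lemma hasAt_of_finite_fibre {X Y : AlgSp.Space S} (f : X ⟶ Y) (hX : AlgSp.IsDecent X.obj)
    (hft : AlgSp.LocP @LocallyOfFiniteType f.hom) {V : Over S}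
    (b : (AlgSp.yon S).obj V ⟶ Y.obj) (hb : AlgSp.RepWith @IsOpenImmersion b) (v : ↥V.left)
    (hv : ∀ v' : ↥V.left, v' ⤳ v → v' = v)
    (hfin : (AlgSp.Points.map f.hom ⁻¹' {AlgSp.Points.ofPt b v}).Finite)
    (x : AlgSp.Points X.obj) (hx : AlgSp.Points.map f.hom x = AlgSp.Points.ofPt b v) :
    AlgSp.HasAt (fun U u => ringKrullDim ↥(U.presheaf.stalk u) = 0) X.obj x := by
  obtain ⟨U₁, a₁, hae₁, has₁⟩ := X.property.atlas
  obtain ⟨u₁, hu₁⟩ := Groth.Agent.S10177.surjective_ofPt a₁ has₁ x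
  have hopen : IsOpen (Set.range (AlgSp.Points.map b)) :=
    Groth.Agent.Lib.Helper12.OpenSub.isOpen_range_of_open b hb
  let O₁ : U₁.left.Opens :=
    ⟨(fun u => AlgSp.Points.map f.hom (AlgSp.Points.ofPt a₁ u)) ⁻¹' Set.range (AlgSp.Points.map b),
      hopen.preimage ((AlgSp.Points.continuous_map f.hom).comp (AlgSp.Points.continuous_ofPt a₁))⟩
  have hu₁O : u₁ ∈ O₁ := by
    show AlgSp.Points.map f.hom (AlgSp.Points.ofPt a₁ u₁) ∈ Set.range (AlgSp.Points.map b)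
    rw [hu₁, hx, AlgSp.Points.ofPt_eq_map_ofScheme]
    exact ⟨_, rfl⟩
  obtain ⟨O, hO, huO, hOO₁⟩ : ∃ O : U₁.left.Opens, O ∈ U₁.left.affineOpens ∧ u₁ ∈ O ∧ O ≤ O₁ :=
    TopologicalSpace.Opens.isBasis_iff_nbhd.1 U₁.left.isBasis_affineOpens hu₁O
  have hae := restr_etale hae₁ O
  obtain ⟨φ, hφ⟩ := exists_factor (restr a₁ O) f.hom b hb (fun w => by
    rw [ofPt_restr]; exact hOO₁ w.2)
  haveI : LocallyOfFiniteType φ.left := hft (restr a₁ O) b φ hae (etale_of_open hb) hφ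
  have hofPt : ∀ w : ↥O, AlgSp.Points.map f.hom (AlgSp.Points.ofPt (restr a₁ O) w) =
      AlgSp.Points.ofPt b (φ.left w) := by
    intro w
    rw [AlgSp.Points.map_ofPt, hφ, Groth.Agent.S10176.ofPt_map_comp]
  have hu : φ.left (⟨u₁, huO⟩ : ↥O) = v := by
    apply ofPt_injective_of_open b hb
    rw [← hofPt, ofPt_restr, hu₁, hx]
  -- the fibre of `φ` over `v` is finite
  have hΦ : (φ.left ⁻¹' {v}).Finite := by
    have h1 : (AlgSp.Points.ofPt (restr a₁ O) ⁻¹'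
        (AlgSp.Points.map f.hom ⁻¹' {AlgSp.Points.ofPt b v})).Finite :=
      Set.Finite.preimage' hfin (fun x' _ =>
        Groth.Agent.R2.H46.FiniteSpec.finite_fibre_of_isDecent X hX x' _ (restr a₁ O) hO hae)
    refine h1.subset ?_
    intro w hw
    show AlgSp.Points.map f.hom (AlgSp.Points.ofPt (restr a₁ O) w) = AlgSp.Points.ofPt b v
    rw [hofPt, hw]
  have hmax : ∀ u' : ↥O, u' ⤳ (⟨u₁, huO⟩ : ↥O) → u' = (⟨u₁, huO⟩ : ↥O) := by
    intro u' hs
    have h1 : φ.left u' ⤳ v := by rw [← hu]; exact hs.map φ.left.continuous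
    exact eq_of_specializes_of_finite_fibre φ.left v hΦ _ u' hu (hv _ h1) hs
  exact ⟨Over.mk (O.ι ≫ U₁.hom), restr a₁ O, (⟨u₁, huO⟩ : ↥O), hae,
    (ofPt_restr a₁ O _).trans hu₁,
    Groth.Agent.R2.H25.CodimZero.dim_zero_of_maximal (U := (O : Scheme.{u})) _ hmax⟩

/-- a finite set of points of a scheme lies in a quasi-compact open. -/
lemma exists_compact_open_of_finite (Z : Scheme.{u}) (Φ : Set ↥Z) (hΦ : Φ.Finite) :
    ∃ O : Z.Opens, IsCompact (O : Set ↥Z) ∧ Φ ⊆ (O : Set ↥Z) := by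
  induction Φ, hΦ using Set.Finite.induction_on with
  | empty => exact ⟨⊥, by simp, Set.empty_subset _⟩
  | @insert m Φ _ _ ih =>
    obtain ⟨O, hO, hΦO⟩ := ih
    obtain ⟨A, hA, hmA, -⟩ : ∃ A : Z.Opens, A ∈ Z.affineOpens ∧ m ∈ A ∧ A ≤ ⊤ :=
      TopologicalSpace.Opens.isBasis_iff_nbhd.1 Z.isBasis_affineOpens
        (TopologicalSpace.Opens.mem_top m)
    refine ⟨O ⊔ A, ?_, ?_⟩
    · rw [TopologicalSpace.Opens.coe_sup]
      exact hO.union hA.isCompact
    · intro z hz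
      rcases hz with rfl | hz
      · exact Or.inr hmA
      · exact Or.inl (hΦO hz)

/-- the scheme underlying an open subspace of an algebraic space quasi-separated over a
quasi-separated base is quasi-separated. -/
lemma quasiSeparatedSpace_of_open [QuasiSeparatedSpace ↥S] (X : AlgSp.Space S)
    (hqs : AlgSp.IsQuasiSeparatedSp X.obj) {M : Over S} (i : (AlgSp.yon S).obj M ⟶ X.obj)
    (hi : AlgSp.RepWith @IsOpenImmersion i) : QuasiSeparatedSpace ↥M.left := by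
  haveI := Groth.Agent.Lib.Helper12.LargestOpen.mono_of_open i hi
  have hmono : AlgSp.IsQuasiSeparatedMor i := by
    show AlgSp.RepWith @QuasiCompact (pullback.diagonal i)
    exact MorphismProperty.of_isIso (AlgSp.RepWith (S := S) @QuasiCompact) _
  have h2 : AlgSp.IsQuasiSeparatedSp ((AlgSp.yon S).obj M) :=
    Groth.Agent.S9957.isQuasiSeparatedSp_of_mor (AlgSp.IsAlgSpace.yon_obj M) X.property i hmono hqs
  have h3 : QuasiCompact (pullback.diagonal M.hom) :=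
    (AlgSp.repWith_diag_yon_iff @QuasiCompact M).1 h2
  haveI : QuasiSeparated M.hom := (quasiSeparated_iff _).2 h3
  exact quasiSeparatedSpace_of_quasiSeparated M.hom

/-- a representable finite morphism is finite. -/
lemma isFiniteMor_of_repWith {F G : AlgSp.Sp S} (a : F ⟶ G) (h : AlgSp.RepWith @IsFinite a) :
    AlgSp.IsFiniteMor a := fun Z hZ g => by
  obtain ⟨W, i, fst, sq⟩ := h.1 g
  haveI : IsFinite i.left := h.2 g fst i sq
  haveI := hZ
  exact ⟨W, i, fst, sq, isAffine_of_isAffineHom i.left, inferInstance⟩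

/-- **generic finiteness at a point of codimension `0`, existence of the finite restriction.** -/
theorem exists_finite_restriction [QuasiSeparatedSpace ↥S] {X Y : AlgSp.Space S} (f : X ⟶ Y)
    (hqs : AlgSp.IsQuasiSeparatedMor f.hom) (hft : AlgSp.LocP @LocallyOfFiniteType f.hom)
    (hY : AlgSp.IsQuasiSeparatedSp Y.obj) (y : AlgSp.Points Y.obj)
    (hy : AlgSp.HasAt (fun U u => ringKrullDim ↥(U.presheaf.stalk u) = 0) Y.obj y)
    (hfin : (AlgSp.Points.map f.hom ⁻¹' {y}).Finite) :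
    ∃ (X' Y' : AlgSp.Space S) (i : X' ⟶ X) (j : Y' ⟶ Y) (f' : X' ⟶ Y'),
      AlgSp.RepWith @IsOpenImmersion i.hom ∧ AlgSp.RepWith @IsOpenImmersion j.hom ∧
        f' ≫ j = i ≫ f ∧ y ∈ Set.range (AlgSp.Points.map j.hom) ∧
          AlgSp.Points.map f.hom ⁻¹' {y} ⊆ Set.range (AlgSp.Points.map i.hom) ∧
            AlgSp.IsFiniteMor f'.hom := by
  have hXqs : AlgSp.IsQuasiSeparatedSp X.obj :=
    Groth.Agent.S9957.isQuasiSeparatedSp_of_mor X.property Y.property f.hom hqs hY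
  have hXdec : AlgSp.IsDecent X.obj := Groth.Agent.S10350.result X hXqs
  obtain ⟨V, b, v, hV, hb, hbv, hvmax⟩ := exists_affine_open_nbhd Y hY y hy
  subst hbv
  haveI := hV
  have hcod := hasAt_of_finite_fibre f hXdec hft b hb v hvmax hfin
  obtain ⟨M₀, i₀, hi₀, hall⟩ := exists_open_subscheme X hXqs
  -- restrict to the preimage of `V`
  have hopen : IsOpen (Set.range (AlgSp.Points.map b)) :=
    Groth.Agent.Lib.Helper12.OpenSub.isOpen_range_of_open b hb
  let O₁ : M₀.left.Opens :=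
    ⟨(fun m => AlgSp.Points.map f.hom (AlgSp.Points.ofPt i₀ m)) ⁻¹' Set.range (AlgSp.Points.map b),
      hopen.preimage ((AlgSp.Points.continuous_map f.hom).comp (AlgSp.Points.continuous_ofPt i₀))⟩
  have hi₁ := restr_open hi₀ O₁
  obtain ⟨φ₁, hφ₁⟩ := exists_factor (restr i₀ O₁) f.hom b hb (fun w => by
    rw [ofPt_restr]; exact w.2)
  have hofPt₁ : ∀ w : ↥O₁, AlgSp.Points.map f.hom (AlgSp.Points.ofPt (restr i₀ O₁) w) =
      AlgSp.Points.ofPt b (φ₁.left w) := by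
    intro w
    rw [AlgSp.Points.map_ofPt, hφ₁, Groth.Agent.S10176.ofPt_map_comp]
  have hinj₁ := ofPt_injective_of_open (restr i₀ O₁) hi₁
  -- the fibre in `O₁`
  have hΦ₁ : (φ₁.left ⁻¹' {v}).Finite := by
    refine (Set.Finite.preimage (hinj₁.injOn) hfin).subset ?_
    intro w hw
    show AlgSp.Points.map f.hom (AlgSp.Points.ofPt (restr i₀ O₁) w) = AlgSp.Points.ofPt b v
    rw [hofPt₁, hw]
  obtain ⟨O₂, hO₂c, hΦO₂⟩ := exists_compact_open_of_finite _ (φ₁.left ⁻¹' {v}) hΦ₁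
  have hi₂ := restr_open hi₁ O₂
  let M₂ : Over S := Over.mk (O₂.ι ≫ (Over.mk (O₁.ι ≫ M₀.hom)).hom)
  let ι₂ : M₂ ⟶ Over.mk (O₁.ι ≫ M₀.hom) := Over.homMk O₂.ι rfl
  let φ₂ : M₂ ⟶ V := ι₂ ≫ φ₁
  have hφ₂ : restr (restr i₀ O₁) O₂ ≫ f.hom = (AlgSp.yon S).map φ₂ ≫ b := by
    show ((AlgSp.yon S).map ι₂ ≫ restr i₀ O₁) ≫ f.hom = (AlgSp.yon S).map (ι₂ ≫ φ₁) ≫ b
    rw [Category.assoc, hφ₁, Functor.map_comp, Category.assoc]
  haveI : LocallyOfFiniteType φ₂.left :=
    hft (restr (restr i₀ O₁) O₂) b φ₂ (etale_of_open hi₂) (etale_of_open hb) hφ₂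
  haveI : CompactSpace ↥M₂.left := isCompact_iff_compactSpace.1 hO₂c
  haveI : QuasiSeparatedSpace ↥M₂.left := quasiSeparatedSpace_of_open X hXqs _ hi₂
  have hΦ₂ : (φ₂.left ⁻¹' {v}).Finite := by
    refine (Set.Finite.preimage (O₂.ι.isOpenEmbedding.injective.injOn) hΦ₁).subset ?_
    intro w hw
    exact hw
  have hη : closure ({v} : Set ↥V.left) ∈ irreducibleComponents (V.left : Type u) :=
    (Groth.Agent.Lib.Helper14.closure_mem_irreducibleComponents_iff v).2 hvmax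
  obtain ⟨V', hV', hvV', hfinite⟩ := (Groth.Agent.S2080.result φ₂.left v hη).1 hΦ₂
  haveI := hfinite
  -- the restricted morphism
  let Y'o : Over S := Over.mk (V'.ι ≫ V.hom)
  let X'o : Over S := Over.mk ((φ₂.left ⁻¹ᵁ V').ι ≫ M₂.hom)
  have hw : (φ₂.left ∣_ V') ≫ Y'o.hom = X'o.hom := by
    show (φ₂.left ∣_ V') ≫ V'.ι ≫ V.hom = (φ₂.left ⁻¹ᵁ V').ι ≫ M₂.hom
    rw [← Category.assoc, morphismRestrict_ι, Category.assoc, Over.w φ₂]
  let ψ : X'o ⟶ Y'o := Over.homMk (φ₂.left ∣_ V') hw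
  have hψ : ψ ≫ (Over.homMk V'.ι rfl : Y'o ⟶ V) =
      (Over.homMk (φ₂.left ⁻¹ᵁ V').ι rfl : X'o ⟶ M₂) ≫ φ₂ := by
    ext
    simp only [Over.comp_left, Over.homMk_left, ψ]
    exact morphismRestrict_ι φ₂.left V'
  have hi' := restr_open hi₂ (φ₂.left ⁻¹ᵁ V')
  have hj' := restr_open hb V'
  have hcomm : (AlgSp.yon S).map ψ ≫ restr b V' =
      restr (restr (restr i₀ O₁) O₂) (φ₂.left ⁻¹ᵁ V') ≫ f.hom := by
    show (AlgSp.yon S).map ψ ≫ (AlgSp.yon S).map (Over.homMk V'.ι rfl : Y'o ⟶ V) ≫ b =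
      ((AlgSp.yon S).map (Over.homMk (φ₂.left ⁻¹ᵁ V').ι rfl : X'o ⟶ M₂) ≫
        restr (restr i₀ O₁) O₂) ≫ f.hom
    rw [← Category.assoc, ← Functor.map_comp, hψ, Functor.map_comp, Category.assoc,
      Category.assoc, hφ₂]
  refine ⟨⟨(AlgSp.yon S).obj X'o, AlgSp.IsAlgSpace.yon_obj X'o⟩,
    ⟨(AlgSp.yon S).obj Y'o, AlgSp.IsAlgSpace.yon_obj Y'o⟩,
    ObjectProperty.homMk (restr (restr (restr i₀ O₁) O₂) (φ₂.left ⁻¹ᵁ V')),
    ObjectProperty.homMk (restr b V'),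
    ObjectProperty.homMk ((AlgSp.yon S).map ψ), hi', hj', ?_, ?_, ?_, ?_⟩
  · exact ObjectProperty.hom_ext _ hcomm
  · refine ⟨AlgSp.Points.ofScheme Y'o (⟨v, hvV'⟩ : ↥V'), ?_⟩
    show AlgSp.Points.map (restr b V') (AlgSp.Points.ofScheme Y'o (⟨v, hvV'⟩ : ↥V')) = _
    rw [← AlgSp.Points.ofPt_eq_map_ofScheme, ofPt_restr]
  · intro x hx
    obtain ⟨m₀, hm₀⟩ := hall x (hcod x hx)
    have hm₀O₁ : m₀ ∈ O₁ := by
      show AlgSp.Points.map f.hom (AlgSp.Points.ofPt i₀ m₀) ∈ Set.range (AlgSp.Points.map b)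
      rw [hm₀, (hx : AlgSp.Points.map f.hom x = _), AlgSp.Points.ofPt_eq_map_ofScheme]
      exact ⟨_, rfl⟩
    have hφm : φ₁.left (⟨m₀, hm₀O₁⟩ : ↥O₁) = v := by
      apply ofPt_injective_of_open b hb
      rw [← hofPt₁, ofPt_restr, hm₀]
      exact hx
    have hm₁O₂ : (⟨m₀, hm₀O₁⟩ : ↥O₁) ∈ O₂ := hΦO₂ hφm
    have hm₂ : (⟨⟨m₀, hm₀O₁⟩, hm₁O₂⟩ : ↥O₂) ∈ φ₂.left ⁻¹ᵁ V' := by
      show φ₂.left (⟨⟨m₀, hm₀O₁⟩, hm₁O₂⟩ : ↥O₂) ∈ V'
      have : φ₂.left (⟨⟨m₀, hm₀O₁⟩, hm₁O₂⟩ : ↥O₂) = v := hφm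
      rw [this]; exact hvV'
    refine ⟨AlgSp.Points.ofScheme X'o (⟨⟨⟨m₀, hm₀O₁⟩, hm₁O₂⟩, hm₂⟩ : ↥(φ₂.left ⁻¹ᵁ V')), ?_⟩
    show AlgSp.Points.map (restr (restr (restr i₀ O₁) O₂) (φ₂.left ⁻¹ᵁ V'))
      (AlgSp.Points.ofScheme X'o _) = x
    rw [← AlgSp.Points.ofPt_eq_map_ofScheme, ofPt_restr, ofPt_restr, ofPt_restr]
    exact hm₀
  · exact isFiniteMor_of_repWith _ ((AlgSp.repWith_yon_map_iff @IsFinite ψ).2 hfinite)

/-- the fibres of a finite morphism of algebraic spaces are finite. -/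
lemma finite_fibre_of_isFiniteMor {X Y : AlgSp.Space S} (f : X ⟶ Y)
    (hf : AlgSp.IsFiniteMor f.hom) (y : AlgSp.Points Y.obj) :
    (AlgSp.Points.map f.hom ⁻¹' {y}).Finite := by
  obtain ⟨Z, c, z, hZ, hc, hcz⟩ := Groth.Agent.R2.H46.FiniteSpec.exists_affine_chart Y y
  obtain ⟨W, iW, fst, sq, hWaff, hWfin⟩ := hf hZ c
  haveI := hWfin
  refine ((iW.left.finite_preimage_singleton z).image (AlgSp.Points.ofPt fst)).subset ?_
  intro x hx
  have e : AlgSp.Points.map c (AlgSp.Points.ofScheme Z z) = AlgSp.Points.map f.hom x := by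
    rw [← AlgSp.Points.ofPt_eq_map_ofScheme, hcz]; exact hx.symm
  obtain ⟨p, hp1, hp2⟩ := Groth.Agent.S10175.exists_point_of_isPullback sq.flip _ _ e
  obtain ⟨w, rfl⟩ := (AlgSp.Points.schemeHomeo W).surjective p
  refine ⟨w, ?_, ?_⟩
  · have h1 : AlgSp.Points.map ((AlgSp.yon S).map iW) (AlgSp.Points.ofScheme W w) =
        AlgSp.Points.ofScheme Z (iW.left w) := AlgSp.Points.map_yon_map_apply iW w
    have h2 : AlgSp.Points.ofScheme Z (iW.left w) = AlgSp.Points.ofScheme Z z := h1.symm.trans hp1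
    exact (AlgSp.Points.schemeHomeo Z).injective h2
  · rw [AlgSp.Points.ofPt_eq_map_ofScheme]; exact hp2

/-- **generic finiteness at a point of codimension `0`.** -/
theorem finite_fibre_iff [QuasiSeparatedSpace ↥S] {X Y : AlgSp.Space S} (f : X ⟶ Y)
    (hqs : AlgSp.IsQuasiSeparatedMor f.hom) (hft : AlgSp.LocP @LocallyOfFiniteType f.hom)
    (hY : AlgSp.IsQuasiSeparatedSp Y.obj) (y : AlgSp.Points Y.obj)
    (hy : AlgSp.HasAt (fun U u => ringKrullDim ↥(U.presheaf.stalk u) = 0) Y.obj y) :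
    (AlgSp.Points.map f.hom ⁻¹' {y}).Finite ↔
      ∃ (X' Y' : AlgSp.Space S) (i : X' ⟶ X) (j : Y' ⟶ Y) (f' : X' ⟶ Y'),
        AlgSp.RepWith @IsOpenImmersion i.hom ∧ AlgSp.RepWith @IsOpenImmersion j.hom ∧
          f' ≫ j = i ≫ f ∧ y ∈ Set.range (AlgSp.Points.map j.hom) ∧
            AlgSp.Points.map f.hom ⁻¹' {y} ⊆ Set.range (AlgSp.Points.map i.hom) ∧
              AlgSp.IsFiniteMor f'.hom := by
  constructor
  · exact exists_finite_restriction f hqs hft hY y hy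
  · rintro ⟨X', Y', i, j, f', hi, hj, hcomm, ⟨y', hy'⟩, hsub, hfin⟩
    have hcomm' : f'.hom ≫ j.hom = i.hom ≫ f.hom := congrArg (fun k => k.hom) hcomm
    refine ((finite_fibre_of_isFiniteMor f' hfin y').image (AlgSp.Points.map i.hom)).subset ?_
    intro x hx
    obtain ⟨x', hx'⟩ := hsub hx
    refine ⟨x', ?_, hx'⟩
    apply Groth.Agent.Lib.Helper12.LargestOpen.injective_map_of_open j.hom hj
    rw [← AlgSp.Points.map_comp, hcomm', AlgSp.Points.map_comp, hx', hy']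
    exact hx

end Groth.Agent.R2.H25.GenFinSp
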