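import Mathlib
import Groth.Prelude.Def_AlgSpGpd
import Groth.Prelude.Def_AlgSpDec

/-!
# Translations on a group object of `Over B` (sheaves over a sheaf) (helper45)

For a group object `G` of `Over B` and a `T`-valued point `t : T ⟶ G` the translation by `t` is an
automorphism of `G ×_B T` over `T` which carries the unit section to the section defined by `t`.
-/

set_option autoImplicit false
set_option linter.style.haveILetI false
universe u
open CategoryTheory CategoryTheory.Limits AlgebraicGeometry MonoidalCategory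
  CartesianMonoidalCategory MonObj

namespace Groth.Agent.R2.H45.GrpTransl

variable {S : Scheme.{u}} {B : AlgSp.Sp S} (G : Over B) [GrpObj G]

/-- the unit section is a section of the structure map. -/
lemma unit_hom : (η[G]).left ≫ G.hom = 𝟙 B := by
  have h := Over.w η[G]
  simpa using h

variable {G} {T : AlgSp.Sp S} (t : T ⟶ G.left)

/-- `G ×_B T` as an object over `B`. -/
noncomputable abbrev Z : Over B := Over.mk (pullback.snd G.hom (t ≫ G.hom) ≫ t ≫ G.hom)

/-- the projection `G ×_B T ⟶ G` over `B`. -/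
noncomputable abbrev pr : Z t ⟶ G :=
  Over.homMk (pullback.fst G.hom (t ≫ G.hom)) pullback.condition

/-- a section `t' : T ⟶ G` pulled back to `G ×_B T`. -/
noncomputable abbrev sec (t' : T ⟶ G.left) (ht' : t' ≫ G.hom = t ≫ G.hom) : Z t ⟶ G :=
  Over.homMk (pullback.snd G.hom (t ≫ G.hom) ≫ t') (by simp [ht'])

/-- right translation by `m`. -/
noncomputable def trans (m : Z t ⟶ G) :
    pullback G.hom (t ≫ G.hom) ⟶ pullback G.hom (t ≫ G.hom) :=
  pullback.lift (pr t * m).left (pullback.snd G.hom (t ≫ G.hom)) (Over.w (pr t * m))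

@[reassoc (attr := simp)]
lemma trans_snd (m : Z t ⟶ G) :
    trans t m ≫ pullback.snd G.hom (t ≫ G.hom) = pullback.snd G.hom (t ≫ G.hom) :=
  pullback.lift_snd _ _ _

@[reassoc (attr := simp)]
lemma trans_fst (m : Z t ⟶ G) :
    trans t m ≫ pullback.fst G.hom (t ≫ G.hom) = (pr t * m).left :=
  pullback.lift_fst _ _ _

/-- right translation as a morphism over `B`. -/
noncomputable def transO (m : Z t ⟶ G) : Z t ⟶ Z t :=
  Over.homMk (trans t m) (by simp)

lemma transO_pr (m : Z t ⟶ G) : transO t m ≫ pr t = pr t * m := by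
  ext1
  simp [transO]

lemma transO_sec (m : Z t ⟶ G) (t' : T ⟶ G.left) (ht' : t' ≫ G.hom = t ≫ G.hom) :
    transO t m ≫ sec t t' ht' = sec t t' ht' := by
  ext1
  simp [transO]

lemma trans_trans_inv (t' : T ⟶ G.left) (ht' : t' ≫ G.hom = t ≫ G.hom) :
    trans t (sec t t' ht') ≫ trans t (sec t t' ht')⁻¹ = 𝟙 _ := by
  apply pullback.hom_ext
  · rw [Category.assoc, trans_fst, Category.id_comp]
    have h : transO t (sec t t' ht') ≫ (pr t * (sec t t' ht')⁻¹) = pr t := by
      rw [MonObj.comp_mul, GrpObj.comp_inv, transO_pr, transO_sec, mul_inv_cancel_right]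
    exact congrArg (fun k => k.left) h
  · simp

lemma trans_inv_trans (t' : T ⟶ G.left) (ht' : t' ≫ G.hom = t ≫ G.hom) :
    trans t (sec t t' ht')⁻¹ ≫ trans t (sec t t' ht') = 𝟙 _ := by
  apply pullback.hom_ext
  · rw [Category.assoc, trans_fst, Category.id_comp]
    have h : transO t (sec t t' ht')⁻¹ ≫ (pr t * (sec t t' ht')) = pr t := by
      have h2 : transO t (sec t t' ht')⁻¹ ≫ sec t t' ht' = sec t t' ht' := by
        ext1
        simp [transO]
      rw [MonObj.comp_mul, transO_pr, h2, inv_mul_cancel_right]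
    exact congrArg (fun k => k.left) h
  · simp

/-- the translation automorphism of `G ×_B T`. -/
noncomputable def transIso : pullback G.hom (t ≫ G.hom) ≅ pullback G.hom (t ≫ G.hom) where
  hom := trans t (sec t t rfl)
  inv := trans t (sec t t rfl)⁻¹
  hom_inv_id := trans_trans_inv t t rfl
  inv_hom_id := trans_inv_trans t t rfl

@[simp] lemma transIso_hom_snd :
    (transIso t).hom ≫ pullback.snd G.hom (t ≫ G.hom) = pullback.snd G.hom (t ≫ G.hom) :=
  trans_snd t _

/-- the unit section of `G ×_B T ⟶ T`. -/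
noncomputable def unitSec : T ⟶ pullback G.hom (t ≫ G.hom) :=
  pullback.lift ((t ≫ G.hom) ≫ (η[G]).left) (𝟙 T) (by rw [Category.assoc, unit_hom]; simp)

/-- the section of `G ×_B T ⟶ T` defined by `t`. -/
noncomputable def ptSec : T ⟶ pullback G.hom (t ≫ G.hom) :=
  pullback.lift t (𝟙 T) (by simp)

@[reassoc (attr := simp)] lemma unitSec_fst :
    unitSec t ≫ pullback.fst G.hom (t ≫ G.hom) = (t ≫ G.hom) ≫ (η[G]).left :=
  pullback.lift_fst _ _ _
@[reassoc (attr := simp)] lemma unitSec_snd :
    unitSec t ≫ pullback.snd G.hom (t ≫ G.hom) = 𝟙 T := pullback.lift_snd _ _ _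
@[reassoc (attr := simp)] lemma ptSec_fst :
    ptSec t ≫ pullback.fst G.hom (t ≫ G.hom) = t := pullback.lift_fst _ _ _
@[reassoc (attr := simp)] lemma ptSec_snd :
    ptSec t ≫ pullback.snd G.hom (t ≫ G.hom) = 𝟙 T := pullback.lift_snd _ _ _

/-- translation by `t` carries the unit section to the section defined by `t`. -/
lemma unitSec_transIso : unitSec t ≫ (transIso t).hom = ptSec t := by
  apply pullback.hom_ext
  · rw [Category.assoc]
    change unitSec t ≫ trans t (sec t t rfl) ≫ pullback.fst G.hom (t ≫ G.hom) = _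
    rw [trans_fst, ptSec_fst]
    -- work over `B`
    let uO : Over.mk (t ≫ G.hom) ⟶ Z t := Over.homMk (unitSec t) (by simp)
    have h1 : uO ≫ pr t = 1 := by
      rw [Hom.one_def]
      ext1
      simp [uO]
    have h2 : uO ≫ sec t t rfl = Over.homMk t rfl := by
      ext1
      simp [uO]
    have h : uO ≫ (pr t * sec t t rfl) = Over.homMk t rfl := by
      rw [MonObj.comp_mul, h1, h2, _root_.one_mul]
    exact congrArg (fun k => k.left) h
  · rw [Category.assoc, transIso_hom_snd]
    simp

end Groth.Agent.R2.H45.GrpTransl
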