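import Mathlib
import Groth.Prelude.Def_AlgSpDec
import Groth.Agent.S10176
import Groth.Agent.S10177

/-!
# Chart independence of étale-local properties of germs (helper45)
-/

set_option autoImplicit false
set_option linter.style.haveILetI false
universe u
open CategoryTheory CategoryTheory.Limits AlgebraicGeometry

namespace Groth.Agent.R2.H45.HasAt

variable {S : Scheme.{u}}

/-- two étale charts through one point of `|X|` have a common étale refinement through it. -/
theorem exists_common_point {X : AlgSp.Sp S} {U V : Over S}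
    (a : (AlgSp.yon S).obj U ⟶ X) (b : (AlgSp.yon S).obj V ⟶ X)
    (ha : AlgSp.RepWith @Etale a) (hb : AlgSp.RepWith @Etale b) (u : ↥U.left) (v : ↥V.left)
    (huv : AlgSp.Points.ofPt a u = AlgSp.Points.ofPt b v) :
    ∃ (W : Over S) (p : W ⟶ U) (q : W ⟶ V) (w : ↥W.left), Etale p.left ∧ Etale q.left ∧
      p.left w = u ∧ q.left w = v ∧ (AlgSp.yon S).map p ≫ a = (AlgSp.yon S).map q ≫ b ∧
      IsPullback ((AlgSp.yon S).map p) ((AlgSp.yon S).map q) a b := by
  have sq := ha.rep.isPullback' b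
  have h1 : Etale (ha.rep.snd b).left := ha.property_snd b
  have h2 : Etale (ha.rep.fst' b).left := hb.2 a _ _ sq.flip
  obtain ⟨y, hy1, hy2⟩ := Groth.Agent.S10176.exists_point_of_isPullback_yon sq u v huv
  exact ⟨_, ha.rep.fst' b, ha.rep.snd b, y, h2, h1, hy1, hy2, sq.w, sq⟩

/-- a property of germs of schemes is étale invariant. -/
def EtInv (Q : ∀ U : Scheme.{u}, ↥U → Prop) : Prop :=
  ∀ ⦃W U : Scheme.{u}⦄ (g : W ⟶ U) [Etale g] (w : ↥W), Q W w ↔ Q U (g w)

/-- for an étale invariant property, `HasAt` can be tested on any chart through the point. -/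
theorem hasAt_iff_of_chart {Q : ∀ U : Scheme.{u}, ↥U → Prop} (hQ : EtInv Q) {X : AlgSp.Sp S}
    {U : Over S} (a : (AlgSp.yon S).obj U ⟶ X) (ha : AlgSp.RepWith @Etale a) (u : ↥U.left) :
    AlgSp.HasAt Q X (AlgSp.Points.ofPt a u) ↔ Q U.left u := by
  constructor
  · rintro ⟨V, b, v, hb, hv, hQv⟩
    obtain ⟨W, p, q, w, hp, hq, hpw, hqw, -, -⟩ := exists_common_point a b ha hb u v hv.symm
    rw [← hpw, ← hQ p.left w, hQ q.left w, hqw]
    exact hQv
  · intro h
    exact ⟨U, a, u, ha, rfl, h⟩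

/-- for an étale invariant property, `HasAt` at `x` iff the property holds on all charts through
`x` (and at least one chart exists, which is automatic for algebraic spaces). -/
theorem hasAt_iff_forall_chart {Q : ∀ U : Scheme.{u}, ↥U → Prop} (hQ : EtInv Q)
    {X : AlgSp.Sp S} (hX : AlgSp.IsAlgSpace X) (x : AlgSp.Points X) :
    AlgSp.HasAt Q X x ↔
      ∀ (U : Over S) (a : (AlgSp.yon S).obj U ⟶ X) (u : ↥U.left),
        AlgSp.RepWith @Etale a → AlgSp.Points.ofPt a u = x → Q U.left u := by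
  constructor
  · intro h U a u ha hu
    subst hu
    exact (hasAt_iff_of_chart hQ a ha u).1 h
  · intro h
    obtain ⟨U, p, hp, hs⟩ := hX.atlas
    obtain ⟨u, rfl⟩ := Groth.Agent.S10177.surjective_ofPt p hs x
    exact ⟨U, p, u, hp, rfl, h U p u hp rfl⟩

/-- every point of an algebraic space lies on an étale chart. -/
theorem exists_chart {X : AlgSp.Sp S} (hX : AlgSp.IsAlgSpace X) (x : AlgSp.Points X) :
    ∃ (U : Over S) (a : (AlgSp.yon S).obj U ⟶ X) (u : ↥U.left),
      AlgSp.RepWith @Etale a ∧ AlgSp.RepWith @Surjective a ∧ AlgSp.Points.ofPt a u = x := by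
  obtain ⟨U, p, hp, hs⟩ := hX.atlas
  obtain ⟨u, rfl⟩ := Groth.Agent.S10177.surjective_ofPt p hs x
  exact ⟨U, p, u, hp, hs, rfl⟩

/-- a chart diagram of `f` through a given point of a chart of the source and a given point of a
chart of the target over its image. -/
theorem exists_diagram_through {X Y : AlgSp.Sp S} (f : X ⟶ Y) {U V : Over S}
    (a : (AlgSp.yon S).obj U ⟶ X) (b : (AlgSp.yon S).obj V ⟶ Y)
    (ha : AlgSp.RepWith @Etale a) (hb : AlgSp.RepWith @Etale b) (u : ↥U.left) (v : ↥V.left)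
    (huv : AlgSp.Points.map f (AlgSp.Points.ofPt a u) = AlgSp.Points.ofPt b v) :
    ∃ (W : Over S) (p : W ⟶ U) (h : W ⟶ V) (w : ↥W.left), Etale p.left ∧ p.left w = u ∧
      h.left w = v ∧ ((AlgSp.yon S).map p ≫ a) ≫ f = (AlgSp.yon S).map h ≫ b ∧
      AlgSp.RepWith @Etale ((AlgSp.yon S).map p ≫ a) ∧
      AlgSp.Points.ofPt ((AlgSp.yon S).map p ≫ a) w = AlgSp.Points.ofPt a u := by
  have sq := hb.rep.isPullback' (a ≫ f)
  have h1 : Etale (hb.rep.snd (a ≫ f)).left := hb.property_snd (a ≫ f)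
  rw [AlgSp.Points.map_ofPt] at huv
  obtain ⟨y, hy1, hy2⟩ := Groth.Agent.S10176.exists_point_of_isPullback_yon sq.flip u v huv
  refine ⟨_, hb.rep.snd (a ≫ f), hb.rep.fst' (a ≫ f), y, h1, hy1, hy2, ?_, ?_, ?_⟩
  · rw [Category.assoc]
    exact sq.w.symm
  · exact (AlgSp.repWith_isMultiplicative (S := S) @Etale).comp_mem _ _
      ((AlgSp.repWith_yon_map_iff _ _).2 h1) ha
  · rw [Groth.Agent.S10176.ofPt_map_comp, hy1]

end Groth.Agent.R2.H45.HasAt
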