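import Mathlib
import Groth.Prelude.Def_AlgSpDec
import Groth.Agent.R2.H45HasAt
import Groth.Agent.Lib.Helper3FibDimEt
import Groth.Agent.S9874
import Groth.Agent.Lib.Helper12NoethDescent
import Groth.Agent.R2.H45Dim

/-!
# Chart independence of étale-local properties of germs of morphisms (helper45)
-/

set_option autoImplicit false
set_option linter.style.haveILetI false
universe u
open CategoryTheory CategoryTheory.Limits AlgebraicGeometry

namespace Groth.Agent.R2.H45.HasAtMor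

open Groth.Agent.R2.H45.HasAt

variable {S : Scheme.{u}}

/-- a property of germs of morphisms of schemes that is étale local on the source-and-target. -/
def EtSqInv (Q : ∀ (U V : Scheme.{u}), (U ⟶ V) → ↥U → Prop) : Prop :=
  ∀ ⦃U U' V V' : Scheme.{u}⦄ (h : U ⟶ V) (h' : U' ⟶ V') (a : U' ⟶ U) (b : V' ⟶ V) [Etale a]
    [Etale b], h' ≫ b = a ≫ h → ∀ u' : ↥U', Q U' V' h' u' ↔ Q U V h (a u')

/-- two chart diagrams of `f` through the same point have a common refinement. -/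
theorem exists_common_diagram {X Y : AlgSp.Sp S} (f : X ⟶ Y) {U V U' V' : Over S}
    (a : (AlgSp.yon S).obj U ⟶ X) (b : (AlgSp.yon S).obj V ⟶ Y) (h : U ⟶ V)
    (a' : (AlgSp.yon S).obj U' ⟶ X) (b' : (AlgSp.yon S).obj V' ⟶ Y) (h' : U' ⟶ V')
    (ha : AlgSp.RepWith @Etale a) (hb : AlgSp.RepWith @Etale b)
    (ha' : AlgSp.RepWith @Etale a') (hb' : AlgSp.RepWith @Etale b')
    (comm : a ≫ f = (AlgSp.yon S).map h ≫ b) (comm' : a' ≫ f = (AlgSp.yon S).map h' ≫ b')
    (u : ↥U.left) (u' : ↥U'.left) (huu' : AlgSp.Points.ofPt a u = AlgSp.Points.ofPt a' u') :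
    ∃ (W Z : Over S) (p : W ⟶ U) (p' : W ⟶ U') (q : Z ⟶ V) (q' : Z ⟶ V') (k : W ⟶ Z) (w : ↥W.left),
      Etale p.left ∧ Etale p'.left ∧ Etale q.left ∧ Etale q'.left ∧ p.left w = u ∧ p'.left w = u' ∧
      k ≫ q = p ≫ h ∧ k ≫ q' = p' ≫ h' := by
  obtain ⟨W, p, p', w, hp, hp', hw, hw', hpp', -⟩ := exists_common_point a a' ha ha' u u' huu'
  have sq := hb.rep.isPullback' b'
  have h1 : Etale (hb.rep.snd b').left := hb.property_snd b'
  have h2 : Etale (hb.rep.fst' b').left := hb'.2 b _ _ sq.flip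
  have hcomm : ((AlgSp.yon S).map (p ≫ h)) ≫ b = ((AlgSp.yon S).map (p' ≫ h')) ≫ b' := by
    rw [Functor.map_comp, Functor.map_comp, Category.assoc, Category.assoc, ← comm, ← comm',
      ← Category.assoc, ← Category.assoc, hpp']
  obtain ⟨k, hk⟩ := (AlgSp.yon S).map_surjective (sq.lift _ _ hcomm)
  refine ⟨W, _, p, p', hb.rep.fst' b', hb.rep.snd b', k, w, hp, hp', h2, h1, hw, hw', ?_, ?_⟩
  · apply (AlgSp.yon S).map_injective
    rw [Functor.map_comp, hk, sq.lift_fst]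
  · apply (AlgSp.yon S).map_injective
    rw [Functor.map_comp, hk, sq.lift_snd]

/-- for a property étale local on the source-and-target, `HasAtMor` can be tested on any chart
diagram through the point. -/
theorem hasAtMor_iff_of_diagram {Q : ∀ (U V : Scheme.{u}), (U ⟶ V) → ↥U → Prop} (hQ : EtSqInv Q)
    {X Y : AlgSp.Sp S} (f : X ⟶ Y) {U V : Over S}
    (a : (AlgSp.yon S).obj U ⟶ X) (b : (AlgSp.yon S).obj V ⟶ Y) (h : U ⟶ V)
    (ha : AlgSp.RepWith @Etale a) (hb : AlgSp.RepWith @Etale b)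
    (comm : a ≫ f = (AlgSp.yon S).map h ≫ b) (u : ↥U.left) :
    AlgSp.HasAtMor Q f (AlgSp.Points.ofPt a u) ↔ Q U.left V.left h.left u := by
  constructor
  · rintro ⟨U', V', a', b', h', u', ha', hb', comm', hu', hQ'⟩
    obtain ⟨W, Z, p, p', q, q', k, w, hp, hp', hq, hq', hw, hw', hk, hk'⟩ :=
      exists_common_diagram f a b h a' b' h' ha hb ha' hb' comm comm' u u' hu'.symm
    have e1 := hQ h.left k.left p.left q.left (by rw [← Over.comp_left, hk, Over.comp_left]) w
    have e2 := hQ h'.left k.left p'.left q'.left (by rw [← Over.comp_left, hk', Over.comp_left]) w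
    rw [hw] at e1
    rw [hw'] at e2
    exact e1.1 (e2.2 hQ')
  · intro hq
    exact ⟨U, V, a, b, h, u, ha, hb, comm, rfl, hq⟩

/-- a property of germs of morphisms of schemes that is étale local on the source-and-target
among morphisms with property `P`. -/
def EtSqInvOn (P : MorphismProperty Scheme.{u})
    (Q : ∀ (U V : Scheme.{u}), (U ⟶ V) → ↥U → Prop) : Prop :=
  ∀ ⦃U U' V V' : Scheme.{u}⦄ (h : U ⟶ V) (h' : U' ⟶ V') (a : U' ⟶ U) (b : V' ⟶ V) [Etale a]
    [Etale b], h' ≫ b = a ≫ h → P h → P h' → ∀ u' : ↥U', Q U' V' h' u' ↔ Q U V h (a u')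

theorem EtSqInv.on {Q : ∀ (U V : Scheme.{u}), (U ⟶ V) → ↥U → Prop} (hQ : EtSqInv Q)
    (P : MorphismProperty Scheme.{u}) : EtSqInvOn P Q :=
  fun _ _ _ _ h h' a b _ _ comm _ _ u' => hQ h h' a b comm u'

/-- for a property étale local on the source-and-target among `P`-morphisms, and `f` with
`LocP P`, `HasAtMor` can be tested on any chart diagram through the point. -/
theorem hasAtMor_iff_of_diagram_on {P : MorphismProperty Scheme.{u}}
    {Q : ∀ (U V : Scheme.{u}), (U ⟶ V) → ↥U → Prop} (hQ : EtSqInvOn P Q)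
    {X Y : AlgSp.Sp S} (f : X ⟶ Y) (hf : AlgSp.LocP P f) {U V : Over S}
    (a : (AlgSp.yon S).obj U ⟶ X) (b : (AlgSp.yon S).obj V ⟶ Y) (h : U ⟶ V)
    (ha : AlgSp.RepWith @Etale a) (hb : AlgSp.RepWith @Etale b)
    (comm : a ≫ f = (AlgSp.yon S).map h ≫ b) (u : ↥U.left) :
    AlgSp.HasAtMor Q f (AlgSp.Points.ofPt a u) ↔ Q U.left V.left h.left u := by
  constructor
  · rintro ⟨U', V', a', b', h', u', ha', hb', comm', hu', hQ'⟩
    obtain ⟨W, Z, p, p', q, q', k, w, hp, hp', hq, hq', hw, hw', hk, hk'⟩ :=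
      exists_common_diagram f a b h a' b' h' ha hb ha' hb' comm comm' u u' hu'.symm
    have hPk : P k.left := by
      refine hf ((AlgSp.yon S).map p ≫ a) ((AlgSp.yon S).map q ≫ b) k
        ((AlgSp.repWith_isMultiplicative (S := S) @Etale).comp_mem _ _
          ((AlgSp.repWith_yon_map_iff _ _).2 hp) ha)
        ((AlgSp.repWith_isMultiplicative (S := S) @Etale).comp_mem _ _
          ((AlgSp.repWith_yon_map_iff _ _).2 hq) hb) ?_
      rw [Category.assoc, comm, ← Category.assoc, ← Functor.map_comp, ← hk, Functor.map_comp,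
        Category.assoc]
    have e1 := hQ h.left k.left p.left q.left (by rw [← Over.comp_left, hk, Over.comp_left])
      (hf a b h ha hb comm) hPk w
    have e2 := hQ h'.left k.left p'.left q'.left (by rw [← Over.comp_left, hk', Over.comp_left])
      (hf a' b' h' ha' hb' comm') hPk w
    rw [hw] at e1
    rw [hw'] at e2
    exact e1.1 (e2.2 hQ')
  · intro hq
    exact ⟨U, V, a, b, h, u, ha, hb, comm, rfl, hq⟩

/-- every point of the source of a morphism of algebraic spaces lies on a chart diagram. -/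
theorem exists_diagram {X Y : AlgSp.Sp S} (hX : AlgSp.IsAlgSpace X) (hY : AlgSp.IsAlgSpace Y)
    (f : X ⟶ Y) (x : AlgSp.Points X) :
    ∃ (U V : Over S) (a : (AlgSp.yon S).obj U ⟶ X) (b : (AlgSp.yon S).obj V ⟶ Y) (h : U ⟶ V)
      (u : ↥U.left), AlgSp.RepWith @Etale a ∧ AlgSp.RepWith @Etale b ∧
      a ≫ f = (AlgSp.yon S).map h ≫ b ∧ AlgSp.Points.ofPt a u = x := by
  obtain ⟨U0, a0, u0, ha0, -, hu0⟩ := exists_chart hX x
  obtain ⟨V, b, v, hb, -, hv⟩ := exists_chart hY (AlgSp.Points.map f x)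
  obtain ⟨W, p, h, w, hp, hw, hhw, comm, hpa, hpt⟩ :=
    exists_diagram_through f a0 b ha0 hb u0 v (by rw [hu0, hv])
  exact ⟨W, V, _, b, h, w, hpa, hb, comm, hpt.trans hu0⟩

/-- for a property étale local on the source-and-target, `HasAtMor` at `x` iff the property holds
on all chart diagrams through `x`. -/
theorem hasAtMor_iff_forall_diagram {Q : ∀ (U V : Scheme.{u}), (U ⟶ V) → ↥U → Prop}
    (hQ : EtSqInv Q) {X Y : AlgSp.Sp S} (hX : AlgSp.IsAlgSpace X) (hY : AlgSp.IsAlgSpace Y)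
    (f : X ⟶ Y) (x : AlgSp.Points X) :
    AlgSp.HasAtMor Q f x ↔
      ∀ (U V : Over S) (a : (AlgSp.yon S).obj U ⟶ X) (b : (AlgSp.yon S).obj V ⟶ Y) (h : U ⟶ V)
        (u : ↥U.left), AlgSp.RepWith @Etale a → AlgSp.RepWith @Etale b →
        a ≫ f = (AlgSp.yon S).map h ≫ b → AlgSp.Points.ofPt a u = x → Q U.left V.left h.left u := by
  constructor
  · intro hx U V a b h u ha hb comm hu
    subst hu
    exact (hasAtMor_iff_of_diagram hQ f a b h ha hb comm u).1 hx
  · intro H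
    obtain ⟨U, V, a, b, h, u, ha, hb, comm, hu⟩ := exists_diagram hX hY f x
    exact ⟨U, V, a, b, h, u, ha, hb, comm, hu, H U V a b h u ha hb comm hu⟩

/-- a morphism of algebraic spaces has a chart diagram with étale surjective charts. -/
theorem exists_surjective_diagram {X Y : AlgSp.Sp S} (hX : AlgSp.IsAlgSpace X)
    (hY : AlgSp.IsAlgSpace Y) (f : X ⟶ Y) :
    ∃ (U V : Over S) (a : (AlgSp.yon S).obj U ⟶ X) (b : (AlgSp.yon S).obj V ⟶ Y) (h : U ⟶ V),
      AlgSp.RepWith @Etale a ∧ AlgSp.RepWith @Surjective a ∧ AlgSp.RepWith @Etale b ∧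
      AlgSp.RepWith @Surjective b ∧ a ≫ f = (AlgSp.yon S).map h ≫ b := by
  obtain ⟨V, b, hbe, hbs⟩ := hY.atlas
  have hXV : AlgSp.IsAlgSpace (pullback f b) :=
    Groth.Agent.S9874.isAlgSpace_of_isPullback hY.diag hX (AlgSp.IsAlgSpace.yon_obj V)
      (IsPullback.of_hasPullback f b)
  obtain ⟨U, a, hae, has⟩ := hXV.atlas
  obtain ⟨h, hh⟩ := (AlgSp.yon S).map_surjective (a ≫ pullback.snd f b)
  have hpr1 : AlgSp.RepWith @Etale (pullback.fst f b) :=
    MorphismProperty.of_isPullback (P := AlgSp.RepWith @Etale)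
      (IsPullback.of_hasPullback f b).flip hbe
  have hpr1s : AlgSp.RepWith @Surjective (pullback.fst f b) :=
    MorphismProperty.of_isPullback (P := AlgSp.RepWith @Surjective)
      (IsPullback.of_hasPullback f b).flip hbs
  refine ⟨U, V, a ≫ pullback.fst f b, b, h,
    (AlgSp.repWith_isMultiplicative (S := S) @Etale).comp_mem _ _ hae hpr1,
    (AlgSp.repWith_isMultiplicative (S := S) @Surjective).comp_mem _ _ has hpr1s, hbe, hbs, ?_⟩
  rw [Category.assoc, pullback.condition, ← Category.assoc, ← hh]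

/-- a base change square of algebraic spaces has a chart diagram which is a base change square
of schemes, with étale surjective charts. -/
theorem exists_baseChange_diagram {X Y X' Y' : AlgSp.Sp S} (hX : AlgSp.IsAlgSpace X)
    (hY : AlgSp.IsAlgSpace Y) (hY' : AlgSp.IsAlgSpace Y') {f : X ⟶ Y} {g : Y' ⟶ Y} {g' : X' ⟶ X}
    {f' : X' ⟶ Y'} (sq : IsPullback g' f' f g) :
    ∃ (U V V' : Over S) (a : (AlgSp.yon S).obj U ⟶ X) (b : (AlgSp.yon S).obj V ⟶ Y)
      (b' : (AlgSp.yon S).obj V' ⟶ Y') (h : U ⟶ V) (κ : V' ⟶ V)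
      (a' : (AlgSp.yon S).obj (pullback h κ) ⟶ X'),
      AlgSp.RepWith @Etale a ∧ AlgSp.RepWith @Surjective a ∧
      AlgSp.RepWith @Etale b ∧ AlgSp.RepWith @Surjective b ∧
      AlgSp.RepWith @Etale b' ∧ AlgSp.RepWith @Surjective b' ∧
      AlgSp.RepWith @Etale a' ∧ AlgSp.RepWith @Surjective a' ∧
      a ≫ f = (AlgSp.yon S).map h ≫ b ∧ b' ≫ g = (AlgSp.yon S).map κ ≫ b ∧
      a' ≫ f' = (AlgSp.yon S).map (pullback.snd h κ) ≫ b' ∧
      a' ≫ g' = (AlgSp.yon S).map (pullback.fst h κ) ≫ a := by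
  obtain ⟨V, q, hqe, hqs⟩ := hY.atlas
  obtain ⟨V0, b0, hb0e, hb0s⟩ := hY'.atlas
  obtain ⟨V'', π, κ', sqV⟩ := hqe.1 (b0 ≫ g)
  obtain ⟨κ, rfl⟩ := (AlgSp.yon S).map_surjective κ'
  haveI : Etale π.left := hqe.2 _ _ π sqV
  haveI : Surjective π.left := hqs.2 _ _ π sqV
  have hpe : AlgSp.RepWith @Etale ((AlgSp.yon S).map π ≫ b0) :=
    (AlgSp.repWith_isMultiplicative (S := S) @Etale).comp_mem _ _
      ((AlgSp.repWith_yon_map_iff _ _).2 inferInstance) hb0e
  have hps : AlgSp.RepWith @Surjective ((AlgSp.yon S).map π ≫ b0) :=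
    (AlgSp.repWith_isMultiplicative (S := S) @Surjective).comp_mem _ _
      ((AlgSp.repWith_yon_map_iff _ _).2 inferInstance) hb0s
  -- the chart of `X ×_Y V`
  have hXV : AlgSp.IsAlgSpace (pullback f q) :=
    Groth.Agent.S9874.isAlgSpace_of_isPullback hY.diag hX (AlgSp.IsAlgSpace.yon_obj V)
      (IsPullback.of_hasPullback f q)
  obtain ⟨U, u, hue, hus⟩ := hXV.atlas
  obtain ⟨h, hh⟩ := (AlgSp.yon S).map_surjective (u ≫ pullback.snd f q)
  have hpr1 : AlgSp.RepWith @Etale (pullback.fst f q) :=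
    MorphismProperty.of_isPullback (P := AlgSp.RepWith @Etale)
      (IsPullback.of_hasPullback f q).flip hqe
  have hpr1s : AlgSp.RepWith @Surjective (pullback.fst f q) :=
    MorphismProperty.of_isPullback (P := AlgSp.RepWith @Surjective)
      (IsPullback.of_hasPullback f q).flip hqs
  -- the map `Q ⟶ X ×_Y V`
  have hw : (pullback.fst f' ((AlgSp.yon S).map π ≫ b0) ≫ g') ≫ f =
      (pullback.snd f' ((AlgSp.yon S).map π ≫ b0) ≫ (AlgSp.yon S).map κ) ≫ q := by
    rw [Category.assoc, sq.w, ← Category.assoc, pullback.condition, Category.assoc, Category.assoc,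
      Category.assoc, sqV.w]
  obtain ⟨ρ, hρ⟩ : ∃ ρ : pullback f' ((AlgSp.yon S).map π ≫ b0) ⟶ pullback f q,
      ρ = pullback.lift (pullback.fst f' ((AlgSp.yon S).map π ≫ b0) ≫ g')
        (pullback.snd f' ((AlgSp.yon S).map π ≫ b0) ≫ (AlgSp.yon S).map κ) hw := ⟨_, rfl⟩
  have hρ1 : ρ ≫ pullback.fst f q = pullback.fst f' ((AlgSp.yon S).map π ≫ b0) ≫ g' := by
    rw [hρ, pullback.lift_fst]
  have hρ2 : ρ ≫ pullback.snd f q =
      pullback.snd f' ((AlgSp.yon S).map π ≫ b0) ≫ (AlgSp.yon S).map κ := by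
    rw [hρ, pullback.lift_snd]
  have big : IsPullback (pullback.fst f' ((AlgSp.yon S).map π ≫ b0) ≫ g')
      (pullback.snd f' ((AlgSp.yon S).map π ≫ b0)) f (((AlgSp.yon S).map π ≫ b0) ≫ g) :=
    (IsPullback.of_hasPullback f' ((AlgSp.yon S).map π ≫ b0)).paste_horiz sq
  have sqρ : IsPullback ρ (pullback.snd f' ((AlgSp.yon S).map π ≫ b0)) (pullback.snd f q)
      ((AlgSp.yon S).map κ) := by
    refine IsPullback.of_right ?_ hρ2 (IsPullback.of_hasPullback f q)
    rw [hρ1, sqV.w, ← Category.assoc]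
    exact big
  -- the chart of `Q`
  have sqκ : IsPullback ((AlgSp.yon S).map (pullback.fst h κ))
      ((AlgSp.yon S).map (pullback.snd h κ)) ((AlgSp.yon S).map h) ((AlgSp.yon S).map κ) :=
    (IsPullback.of_hasPullback h κ).map (AlgSp.yon S)
  have hw' : ((AlgSp.yon S).map (pullback.fst h κ) ≫ u) ≫ pullback.snd f q =
      (AlgSp.yon S).map (pullback.snd h κ) ≫ (AlgSp.yon S).map κ := by
    rw [Category.assoc, ← hh, sqκ.w]
  obtain ⟨φ, hφ⟩ : ∃ φ : (AlgSp.yon S).obj (pullback h κ) ⟶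
      pullback f' ((AlgSp.yon S).map π ≫ b0),
      φ = sqρ.lift ((AlgSp.yon S).map (pullback.fst h κ) ≫ u)
        ((AlgSp.yon S).map (pullback.snd h κ)) hw' := ⟨_, rfl⟩
  have hφ1 : φ ≫ ρ = (AlgSp.yon S).map (pullback.fst h κ) ≫ u := by rw [hφ, sqρ.lift_fst]
  have hφ2 : φ ≫ pullback.snd f' ((AlgSp.yon S).map π ≫ b0) =
      (AlgSp.yon S).map (pullback.snd h κ) := by rw [hφ, sqρ.lift_snd]
  have left : IsPullback φ ((AlgSp.yon S).map (pullback.fst h κ)) ρ u := by
    refine IsPullback.of_right ?_ hφ1 sqρ.flip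
    rw [hφ2, ← hh]
    exact sqκ.flip
  have hφe : AlgSp.RepWith @Etale φ :=
    MorphismProperty.of_isPullback (P := AlgSp.RepWith @Etale) left.flip hue
  have hφs : AlgSp.RepWith @Surjective φ :=
    MorphismProperty.of_isPullback (P := AlgSp.RepWith @Surjective) left.flip hus
  have hpr1' : AlgSp.RepWith @Etale (pullback.fst f' ((AlgSp.yon S).map π ≫ b0)) :=
    MorphismProperty.of_isPullback (P := AlgSp.RepWith @Etale)
      (IsPullback.of_hasPullback f' ((AlgSp.yon S).map π ≫ b0)).flip hpe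
  have hpr1s' : AlgSp.RepWith @Surjective (pullback.fst f' ((AlgSp.yon S).map π ≫ b0)) :=
    MorphismProperty.of_isPullback (P := AlgSp.RepWith @Surjective)
      (IsPullback.of_hasPullback f' ((AlgSp.yon S).map π ≫ b0)).flip hps
  refine ⟨U, V, V'', u ≫ pullback.fst f q, q, (AlgSp.yon S).map π ≫ b0, h, κ,
    φ ≫ pullback.fst f' ((AlgSp.yon S).map π ≫ b0),
    (AlgSp.repWith_isMultiplicative (S := S) @Etale).comp_mem _ _ hue hpr1,
    (AlgSp.repWith_isMultiplicative (S := S) @Surjective).comp_mem _ _ hus hpr1s, hqe, hqs,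
    hpe, hps,
    (AlgSp.repWith_isMultiplicative (S := S) @Etale).comp_mem _ _ hφe hpr1',
    (AlgSp.repWith_isMultiplicative (S := S) @Surjective).comp_mem _ _ hφs hpr1s', ?_, ?_, ?_, ?_⟩
  · rw [Category.assoc, pullback.condition, ← Category.assoc, ← hh]
  · rw [Category.assoc, sqV.w]
  · rw [Category.assoc, pullback.condition, ← Category.assoc, hφ2]
  · rw [Category.assoc, ← hρ1, ← Category.assoc, hφ1, Category.assoc]

/-- a base change square of algebraic spaces has, through any point of the corner, a chart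
diagram which is a base change square of schemes. -/
theorem exists_baseChange_diagram_through {X Y X' Y' : AlgSp.Sp S} (hX : AlgSp.IsAlgSpace X)
    (hY : AlgSp.IsAlgSpace Y) (hY' : AlgSp.IsAlgSpace Y') {f : X ⟶ Y} {g : Y' ⟶ Y} {g' : X' ⟶ X}
    {f' : X' ⟶ Y'} (sq : IsPullback g' f' f g) (x' : AlgSp.Points X') :
    ∃ (U V V' W : Over S) (a : (AlgSp.yon S).obj U ⟶ X) (b : (AlgSp.yon S).obj V ⟶ Y)
      (b' : (AlgSp.yon S).obj V' ⟶ Y') (h : U ⟶ V) (κ : V' ⟶ V) (p1 : W ⟶ U) (p2 : W ⟶ V')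
      (a' : (AlgSp.yon S).obj W ⟶ X') (w : ↥W.left),
      AlgSp.RepWith @Etale a ∧ AlgSp.RepWith @Etale b ∧ AlgSp.RepWith @Etale b' ∧
      AlgSp.RepWith @Etale a' ∧
      a ≫ f = (AlgSp.yon S).map h ≫ b ∧ b' ≫ g = (AlgSp.yon S).map κ ≫ b ∧
      a' ≫ f' = (AlgSp.yon S).map p2 ≫ b' ∧ a' ≫ g' = (AlgSp.yon S).map p1 ≫ a ∧
      IsPullback p1.left p2.left h.left κ.left ∧
      AlgSp.Points.ofPt a' w = x' ∧ AlgSp.Points.ofPt a (p1.left w) = AlgSp.Points.map g' x' := by
  obtain ⟨U, V, V', a, b, b', h, κ, a', hae, -, hbe, -, hbe', -, hae', has', c1, c2, c3, c4⟩ :=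
    exists_baseChange_diagram hX hY hY' sq
  obtain ⟨w, hw⟩ := Groth.Agent.S10177.surjective_ofPt a' has' x'
  refine ⟨U, V, V', pullback h κ, a, b, b', h, κ, pullback.fst h κ, pullback.snd h κ, a', w,
    hae, hbe, hbe', hae', c1, c2, c3, c4,
    (IsPullback.of_hasPullback h κ).map (Over.forget S), hw, ?_⟩
  rw [← hw, AlgSp.Points.map_ofPt, c4, Groth.Agent.S10176.ofPt_map_comp]

/-- a composable pair of morphisms of algebraic spaces has a composable pair of chart diagrams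
through any point. -/
theorem exists_diagram_comp {X Y Z : AlgSp.Sp S} (hX : AlgSp.IsAlgSpace X)
    (hY : AlgSp.IsAlgSpace Y) (hZ : AlgSp.IsAlgSpace Z) (f : X ⟶ Y) (g : Y ⟶ Z)
    (x : AlgSp.Points X) :
    ∃ (U V W : Over S) (a : (AlgSp.yon S).obj U ⟶ X) (b : (AlgSp.yon S).obj V ⟶ Y)
      (c : (AlgSp.yon S).obj W ⟶ Z) (h : U ⟶ V) (k : V ⟶ W) (u : ↥U.left),
      AlgSp.RepWith @Etale a ∧ AlgSp.RepWith @Etale b ∧ AlgSp.RepWith @Etale c ∧
      a ≫ f = (AlgSp.yon S).map h ≫ b ∧ b ≫ g = (AlgSp.yon S).map k ≫ c ∧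
      a ≫ f ≫ g = (AlgSp.yon S).map (h ≫ k) ≫ c ∧
      AlgSp.Points.ofPt a u = x ∧ AlgSp.Points.ofPt b (h.left u) = AlgSp.Points.map f x := by
  obtain ⟨V, W, b, c, k, v, hb, hc, comm2, hv⟩ := exists_diagram hY hZ g (AlgSp.Points.map f x)
  obtain ⟨U0, a0, u0, ha0, -, hu0⟩ := exists_chart hX x
  obtain ⟨U, p, h, u, hp, hu, hhu, comm1, hpa, hpt⟩ :=
    exists_diagram_through f a0 b ha0 hb u0 v (by rw [hu0, hv])
  refine ⟨U, V, W, _, b, c, h, k, u, hpa, hb, hc, comm1, comm2, ?_, hpt.trans hu0, ?_⟩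
  · rw [← Category.assoc, comm1, Category.assoc, comm2, Functor.map_comp, Category.assoc]
  · rw [hhu, hv]

/-- every étale chart of a locally Noetherian algebraic space is locally Noetherian. -/
theorem isLocallyNoetherian_of_chart {X : AlgSp.Sp S} (hX : AlgSp.IsLocNoethSp X) {U : Over S}
    (a : (AlgSp.yon S).obj U ⟶ X) (ha : AlgSp.RepWith @Etale a) : IsLocallyNoetherian U.left := by
  obtain ⟨U0, p, hpe, hps, hU0⟩ := hX
  haveI : IsLocallyNoetherian U0.left := hU0
  obtain ⟨W, w1, w2', sq⟩ := hpe.1 a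
  obtain ⟨w2, rfl⟩ := (AlgSp.yon S).map_surjective w2'
  haveI : Etale w1.left := hpe.2 _ _ w1 sq
  haveI : Surjective w1.left := hps.2 _ _ w1 sq
  haveI : Etale w2.left := ha.2 _ _ w2 sq.flip
  haveI : IsLocallyNoetherian W.left := LocallyOfFiniteType.isLocallyNoetherian w2.left
  exact Groth.Agent.Lib.Helper12.NoethDescent.isLocallyNoetherian_of_flat_lfp_surjective w1.left

/-- the local dimension is étale invariant. -/
theorem etInv_localDim (P : WithBot ℕ∞ → Prop) :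
    EtInv (fun U u => P (FlatMor.localDim ↥U u)) := by
  intro W U g _ w
  change P (FlatMor.localDim ↥W w) ↔ P (FlatMor.localDim ↥U (g w))
  rw [Groth.Agent.R2.H45.Dim.localDim_eq_of_etale g w]

/-- the dimension of the local ring is étale invariant. -/
theorem etInv_ringKrullDim_stalk (P : WithBot ℕ∞ → Prop) :
    EtInv (fun U u => P (ringKrullDim ↥(U.presheaf.stalk u))) := by
  intro W U g _ w
  change P (ringKrullDim ↥(W.presheaf.stalk w)) ↔ P (ringKrullDim ↥(U.presheaf.stalk (g w)))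
  rw [Groth.Agent.R2.H45.Dim.ringKrullDim_stalk_eq_of_etale g w]

/-- any predicate of the local fibre dimension is étale local on the source-and-target. -/
theorem etSqInv_fibreDimAt (P : WithBot ℕ∞ → Prop) :
    EtSqInv (fun _ _ h u => P (FlatMor.fibreDimAt h u)) := by
  intro U U' V V' h h' a b _ _ comm u'
  change P (FlatMor.fibreDimAt h' u') ↔ P (FlatMor.fibreDimAt h (a u'))
  rw [Groth.Agent.Lib.Helper3.FibDimEt.fibreDimAt_eq_of_etale_square h h' a b comm u']

end Groth.Agent.R2.H45.HasAtMor
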