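import Mathlib
import Groth.Prelude.Def_AlgSpDec
import Groth.Agent.R2.H45HasAtMor
import Groth.Agent.Lib.Helper3LocDimBC
import Groth.Agent.Lib.Helper3GrpHomQF
import Groth.Agent.Lib.Helper4FibDimF
import Groth.Agent.Lib.Helper12OpenSub

/-!
# Relative dimension of morphisms of algebraic spaces: base change and the quasi-finite locus
(helper45)
-/

set_option autoImplicit false
set_option linter.style.haveILetI false
universe u
open CategoryTheory CategoryTheory.Limits AlgebraicGeometry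

namespace Groth.Agent.R2.H45.RelDim

open Groth.Agent.R2.H45.HasAtMor Groth.Agent.R2.H45.HasAt

variable {S : Scheme.{u}}

/-- any predicate of the relative dimension at a point is invariant under base change. -/
theorem hasAtMor_fibreDimAt_baseChange_iff (P : WithBot ℕ∞ → Prop) {X Y X' Y' : AlgSp.Sp S}
    (hX : AlgSp.IsAlgSpace X) (hY : AlgSp.IsAlgSpace Y) (hY' : AlgSp.IsAlgSpace Y')
    {f : X ⟶ Y} {g : Y' ⟶ Y} {g' : X' ⟶ X} {f' : X' ⟶ Y'} (sq : IsPullback g' f' f g)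
    (hf : AlgSp.LocP @LocallyOfFiniteType f) (x' : AlgSp.Points X') :
    AlgSp.HasAtMor (fun _ _ h u => P (FlatMor.fibreDimAt h u)) f' x' ↔
      AlgSp.HasAtMor (fun _ _ h u => P (FlatMor.fibreDimAt h u)) f (AlgSp.Points.map g' x') := by
  obtain ⟨U, V, V', W, a, b, b', h, κ, p1, p2, a', w, hae, hbe, hbe', hae', c1, c2, c3, c4, hpb,
    hw, hw'⟩ := exists_baseChange_diagram_through hX hY hY' sq x'
  haveI : LocallyOfFiniteType h.left := hf a b h hae hbe c1
  have e1 := hasAtMor_iff_of_diagram (etSqInv_fibreDimAt P) f a b h hae hbe c1 (p1.left w)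
  have e2 := hasAtMor_iff_of_diagram (etSqInv_fibreDimAt P) f' a' b' p2 hae' hbe' c3 w
  rw [hw'] at e1
  rw [hw] at e2
  rw [e1, e2]
  change P (FlatMor.fibreDimAt p2.left w) ↔ P (FlatMor.fibreDimAt h.left (p1.left w))
  rw [Groth.Agent.Lib.Helper3.LocDimBC.fibreDimAt_eq_of_isPullback h.left κ.left p1.left p2.left
    hpb w]

/-- the "quasi-finite at a point" predicate of `HasAtMor`. -/
def Qlqf : ∀ (U V : Scheme.{u}), (U ⟶ V) → ↥U → Prop := fun U _ h u =>
  ∃ W : U.Opens, u ∈ W ∧ LocallyQuasiFinite (W.ι ≫ h) ∧ LocallyOfFiniteType (W.ι ≫ h)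

/-- scheme level: quasi-finite on a neighbourhood iff the local fibre dimension vanishes. -/
theorem qlqf_iff_fibreDimAt_le_zero {U V : Scheme.{u}} (h : U ⟶ V) [LocallyOfFiniteType h]
    (u : ↥U) : Qlqf U V h u ↔ FlatMor.fibreDimAt h u ≤ 0 := by
  constructor
  · rintro ⟨W, huW, h1, h2⟩
    haveI := h1
    haveI := h2
    have := (Groth.Agent.Lib.Helper3.GrpHomQF.locallyQuasiFinite_iff_forall_fibreDimAt_le_zero
      (W.ι ≫ h)).1 inferInstance ⟨u, huW⟩
    rwa [Groth.Agent.Lib.Helper3.FibDimEt.fibreDimAt_comp_of_etale W.ι h ⟨u, huW⟩] at this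
  · intro hu
    have hopen : IsOpen {u' : ↥U | FlatMor.fibreDimAt h u' ≤ ((0 : ℕ) : WithBot ℕ∞)} :=
      Groth.Agent.Lib.Helper4.FibDim.isOpen_setOf_fibreDimAt_le h 0
    let W : U.Opens := ⟨_, hopen⟩
    refine ⟨W, by simpa [W] using hu, ?_, inferInstance⟩
    rw [Groth.Agent.Lib.Helper3.GrpHomQF.locallyQuasiFinite_iff_forall_fibreDimAt_le_zero]
    intro w
    rw [Groth.Agent.Lib.Helper3.FibDimEt.fibreDimAt_comp_of_etale W.ι h w]
    have := w.2
    change FlatMor.fibreDimAt h w.1 ≤ ((0 : ℕ) : WithBot ℕ∞) at this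
    simpa using this

/-- quasi-finite at a point iff relative dimension `≤ 0` at the point. -/
theorem hasAtMor_qlqf_iff {X Y : AlgSp.Sp S} (f : X ⟶ Y) (hf : AlgSp.LocP @LocallyOfFiniteType f) (x : AlgSp.Points X) :
    AlgSp.HasAtMor Qlqf f x ↔
      AlgSp.HasAtMor (fun _ _ h u => FlatMor.fibreDimAt h u ≤ 0) f x := by
  constructor
  · rintro ⟨U, V, a, b, h, u, ha, hb, comm, hu, hq⟩
    haveI : LocallyOfFiniteType h.left := hf a b h ha hb comm
    exact ⟨U, V, a, b, h, u, ha, hb, comm, hu, (qlqf_iff_fibreDimAt_le_zero h.left u).1 hq⟩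
  · rintro ⟨U, V, a, b, h, u, ha, hb, comm, hu, hq⟩
    haveI : LocallyOfFiniteType h.left := hf a b h ha hb comm
    exact ⟨U, V, a, b, h, u, ha, hb, comm, hu, (qlqf_iff_fibreDimAt_le_zero h.left u).2 hq⟩

/-- the locus of relative dimension `≤ 0`. -/
def lqfLocus {X Y : AlgSp.Sp S} (f : X ⟶ Y) : Set (AlgSp.Points X) :=
  {x | AlgSp.HasAtMor (fun _ _ h u => FlatMor.fibreDimAt h u ≤ 0) f x}

theorem isOpen_lqfLocus {X Y : AlgSp.Sp S} (hX : AlgSp.IsAlgSpace X) (hY : AlgSp.IsAlgSpace Y)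
    (f : X ⟶ Y) (hf : AlgSp.LocP @LocallyOfFiniteType f) : IsOpen (lqfLocus f) := by
  rw [isOpen_iff_forall_mem_open]
  intro x hx
  obtain ⟨U, V, a, b, h, u, ha, hb, comm, hu⟩ := exists_diagram hX hY f x
  have hQ := hasAtMor_iff_of_diagram (etSqInv_fibreDimAt (fun d => d ≤ 0)) f a b h ha hb comm u
  rw [hu] at hQ
  haveI : LocallyOfFiniteType h.left := hf a b h ha hb comm
  have hW : IsOpen {u' : ↥U.left | FlatMor.fibreDimAt h.left u' ≤ ((0 : ℕ) : WithBot ℕ∞)} :=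
    Groth.Agent.Lib.Helper4.FibDim.isOpen_setOf_fibreDimAt_le h.left 0
  refine ⟨AlgSp.Points.ofPt a '' {u' : ↥U.left | FlatMor.fibreDimAt h.left u' ≤ ((0 : ℕ) : WithBot ℕ∞)},
    ?_, Groth.Agent.S10176.isOpenMap_ofPt a ha _ hW, ⟨u, by simpa using hQ.1 hx, hu⟩⟩
  rintro _ ⟨u', hu', rfl⟩
  exact ⟨U, V, a, b, h, u', ha, hb, comm, rfl, by simpa using hu'⟩

theorem repWith_etale_of_isOpenImmersion {X' X : AlgSp.Sp S} {j : X' ⟶ X}
    (hj : AlgSp.RepWith @IsOpenImmersion j) : AlgSp.RepWith @Etale j :=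
  ⟨hj.1, fun _ _ g fst snd sq => by
    haveI : IsOpenImmersion snd.left := hj.2 g fst snd sq
    change Etale snd.left
    infer_instance⟩

/-- the restriction of `f` to an open subspace contained in the locus of relative dimension
`≤ 0` is locally quasi-finite. -/
theorem locP_lqf_of_range_subset {X Y X' : AlgSp.Sp S} (f : X ⟶ Y)
    (hf : AlgSp.LocP @LocallyOfFiniteType f) (j : X' ⟶ X)
    (hj : AlgSp.RepWith @IsOpenImmersion j)
    (hsub : Set.range (AlgSp.Points.map j) ⊆ lqfLocus f) :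
    AlgSp.LocP (@LocallyQuasiFinite ⊓ @LocallyOfFiniteType) (j ≫ f) := by
  intro U V a b h ha hb comm
  have ha' : AlgSp.RepWith @Etale (a ≫ j) :=
    (AlgSp.repWith_isMultiplicative (S := S) @Etale).comp_mem _ _ ha
      (repWith_etale_of_isOpenImmersion hj)
  have comm' : (a ≫ j) ≫ f = (AlgSp.yon S).map h ≫ b := by rw [Category.assoc, comm]
  haveI : LocallyOfFiniteType h.left := hf (a ≫ j) b h ha' hb comm'
  refine ⟨?_, inferInstance⟩
  rw [Groth.Agent.Lib.Helper3.GrpHomQF.locallyQuasiFinite_iff_forall_fibreDimAt_le_zero]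
  intro u
  have hmem : AlgSp.Points.ofPt (a ≫ j) u ∈ lqfLocus f := by
    apply hsub
    exact ⟨AlgSp.Points.ofPt a u, AlgSp.Points.map_ofPt a j u⟩
  exact (hasAtMor_iff_of_diagram (etSqInv_fibreDimAt (fun d => d ≤ 0)) f (a ≫ j) b h ha' hb comm'
    u).1 hmem

end Groth.Agent.R2.H45.RelDim
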