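import Mathlib
import Groth.Prelude.Def_AlgSpDec
import Groth.Agent.R2.H45HasAtMor
import Groth.Agent.S1180
import Groth.Agent.Lib.Helper20BCDescSch
import Groth.Agent.Lib.Helper6UnrLift

/-!
# Unramified at a point: étale locality and base change (helper45)
-/

set_option autoImplicit false
set_option linter.style.haveILetI false
universe u
open CategoryTheory CategoryTheory.Limits AlgebraicGeometry

namespace Groth.Agent.R2.H45.Unram

open Groth.Agent.R2.H45.HasAtMor

/-- the "unramified at a point" predicate of `HasAtMor`. -/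
def Qunr : ∀ (U V : Scheme.{u}), (U ⟶ V) → ↥U → Prop := fun U _ h u =>
  ∃ W : U.Opens, u ∈ W ∧ LocallyOfFiniteType (W.ι ≫ h) ∧ FormallyUnramified (W.ι ≫ h)

/-- an étale morphism restricts to an étale surjective morphism onto its (open) image. -/
theorem exists_factor_opens_of_etale {W' U : Scheme.{u}} (j : W' ⟶ U) [Etale j] :
    ∃ (W : U.Opens) (e : W' ⟶ (W : Scheme.{u})), e ≫ W.ι = j ∧ Etale e ∧ Surjective e ∧
      (W : Set ↥U) = Set.range j := by
  let W : U.Opens := ⟨Set.range j, j.isOpenMap.isOpen_range⟩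
  have hr : Set.range j ⊆ Set.range W.ι := by
    rw [Scheme.Opens.range_ι]
    exact le_rfl
  let e : W' ⟶ (W : Scheme.{u}) := IsOpenImmersion.lift W.ι j hr
  have he : e ≫ W.ι = j := IsOpenImmersion.lift_fac _ _ _
  haveI : Etale (e ≫ W.ι) := by rw [he]; infer_instance
  refine ⟨W, e, he, Etale.of_comp e W.ι, ⟨fun y => ?_⟩, rfl⟩
  obtain ⟨x, hx⟩ : y.1 ∈ Set.range j := y.2
  refine ⟨x, W.ι.isOpenEmbedding.injective ?_⟩
  rw [← Scheme.Hom.comp_apply, he, hx]
  rfl

theorem etSqInv_qunr : EtSqInv Qunr.{u} := by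
  intro U U' V V' h h' a b _ _ comm u'
  constructor
  · rintro ⟨W', hu', h1, h2⟩
    haveI := h1
    haveI := h2
    obtain ⟨W, e, he, hee, hes, hW⟩ := exists_factor_opens_of_etale (W'.ι ≫ a)
    haveI := hee
    haveI := hes
    have hcomp : e ≫ (W.ι ≫ h) = (W'.ι ≫ h') ≫ b := by
      rw [← Category.assoc, he, Category.assoc, ← comm, Category.assoc]
    haveI : LocallyOfFiniteType (e ≫ (W.ι ≫ h)) := by rw [hcomp]; infer_instance
    haveI : FormallyUnramified (e ≫ (W.ι ≫ h)) := by
      rw [hcomp]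
      exact MorphismProperty.comp_mem (@FormallyUnramified) _ _ inferInstance inferInstance
    have key := Groth.Agent.S1180.result e (W.ι ≫ h)
    refine ⟨W, ?_, key.2, key.1⟩
    change a u' ∈ (W : Set ↥U)
    rw [hW]
    exact ⟨⟨u', hu'⟩, rfl⟩
  · rintro ⟨W, hu, h1, h2⟩
    haveI := h1
    haveI := h2
    refine ⟨a ⁻¹ᵁ W, hu, ?_⟩
    have hcomp : ((a ⁻¹ᵁ W).ι ≫ h') ≫ b = (a ∣_ W) ≫ (W.ι ≫ h) := by
      rw [Category.assoc, comm, ← Category.assoc, ← morphismRestrict_ι, Category.assoc]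
    haveI : Etale (a ∣_ W) := IsZariskiLocalAtTarget.restrict ‹Etale a› W
    haveI : LocallyOfFiniteType (((a ⁻¹ᵁ W).ι ≫ h') ≫ b) := by rw [hcomp]; infer_instance
    haveI : FormallyUnramified (((a ⁻¹ᵁ W).ι ≫ h') ≫ b) := by
      rw [hcomp]
      exact MorphismProperty.comp_mem (@FormallyUnramified) _ _ inferInstance inferInstance
    exact ⟨locallyOfFiniteType_of_comp _ b, FormallyUnramified.of_comp _ b⟩

theorem fu_stalkMap_of_hom_eq {X Y : Scheme.{u}} {f g : X ⟶ Y} (e : f = g) (x : ↥X)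
    (H : (f.stalkMap x).hom.FormallyUnramified) : (g.stalkMap x).hom.FormallyUnramified := by
  subst e
  exact H

theorem fu_stalkMap_of_point_eq {X Y : Scheme.{u}} (f : X ⟶ Y) {x x' : ↥X} (e : x = x')
    (H : (f.stalkMap x).hom.FormallyUnramified) : (f.stalkMap x').hom.FormallyUnramified := by
  subst e
  exact H

/-- scheme level: unramified on a neighbourhood iff the stalk map is formally unramified. -/
theorem qunr_iff_stalkMap {U V : Scheme.{u}} (h : U ⟶ V) [LocallyOfFiniteType h] (u : ↥U) :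
    Qunr U V h u ↔ (h.stalkMap u).hom.FormallyUnramified := by
  constructor
  · rintro ⟨W, hu, h1, h2⟩
    haveI := h2
    have key := FormallyUnramified.stalkMap (W.ι ≫ h) ⟨u, hu⟩
    rw [Scheme.Hom.stalkMap_comp] at key
    exact (RingHom.FormallyUnramified.respectsIso.cancel_right_isIso
      (h.stalkMap (W.ι ⟨u, hu⟩)) (W.ι.stalkMap ⟨u, hu⟩)).1 key
  · intro H
    obtain ⟨W, hu, hW⟩ := Groth.Agent.Lib.Helper6.UnrLift.exists_open_formallyUnramified h u H
    exact ⟨W, hu, inferInstance, hW⟩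

/-- unramifiedness at a point commutes with arbitrary base change. -/
theorem qunr_iff_of_isPullback {U V V' W : Scheme.{u}} (h : U ⟶ V) [LocallyOfFiniteType h]
    (κ : V' ⟶ V) (p1 : W ⟶ U) (p2 : W ⟶ V') (hsq : IsPullback p1 p2 h κ) (w : ↥W) :
    Qunr W V' p2 w ↔ Qunr U V h (p1 w) := by
  constructor
  · intro H
    haveI : LocallyOfFiniteType p2 :=
      MorphismProperty.of_isPullback (P := @LocallyOfFiniteType) hsq inferInstance
    rw [qunr_iff_stalkMap] at H ⊢
    -- transport to the canonical pullback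
    let ι : W ≅ pullback h κ := hsq.isoPullback
    have h1 : ι.hom ≫ pullback.fst h κ = p1 := hsq.isoPullback_hom_fst
    have h2 : ι.hom ≫ pullback.snd h κ = p2 := hsq.isoPullback_hom_snd
    have H' : ((pullback.snd h κ).stalkMap (ι.hom w)).hom.FormallyUnramified := by
      have e := fu_stalkMap_of_hom_eq h2.symm w H
      rw [Scheme.Hom.stalkMap_comp] at e
      exact (RingHom.FormallyUnramified.respectsIso.cancel_right_isIso
        ((pullback.snd h κ).stalkMap (ι.hom w)) (ι.hom.stalkMap w)).1 e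
    have key := Groth.Agent.Lib.Helper20.FlatDesc.formallyUnramified_stalkMap_of_baseChange h κ
      (ι.hom w) H'
    have hpt : pullback.fst h κ (ι.hom w) = p1 w := by
      rw [← Scheme.Hom.comp_apply, h1]
    exact fu_stalkMap_of_point_eq h hpt key
  · rintro ⟨W0, hu, h1, h2⟩
    haveI := h1
    haveI := h2
    refine ⟨p1 ⁻¹ᵁ W0, hu, ?_⟩
    have sq' : IsPullback (p1 ∣_ W0) ((p1 ⁻¹ᵁ W0).ι ≫ p2) (W0.ι ≫ h) κ :=
      (isPullback_morphismRestrict p1 W0).paste_vert hsq
    exact ⟨MorphismProperty.of_isPullback (P := @LocallyOfFiniteType) sq' inferInstance,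
      MorphismProperty.of_isPullback (P := @FormallyUnramified) sq' inferInstance⟩

end Groth.Agent.R2.H45.Unram
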