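import Mathlib
import Groth.Agent.R2.H45GrpTransl
import Groth.Agent.R2.H45HasAtMor
import Groth.Agent.R2.H45Unram
import Groth.Agent.R2.H45RelDim
import Groth.Agent.Lib.Helper15Descent
import Groth.Agent.Lib.Helper12LocPCases
import Groth.Agent.Lib.Helper12OpenSub
import Groth.Agent.S10177
import Groth.Agent.S10194
import Groth.Agent.S9874
import Groth.Agent.S9876

/-!
# Pointwise properties of a group algebraic space are detected along the unit section (helper45)

For a group algebraic space `G` over `B`, locally of finite type, and a pointed property `Q` of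
morphisms of schemes that is étale local on the source-and-target and compatible with base
change, `G ⟶ B` has `Q` at a point `g` iff it has `Q` at `e(π(g))`.  Consequences: the largest
open subspace of `B` over which `G` is unramified / locally quasi-finite.
-/

set_option autoImplicit false
set_option linter.style.haveILetI false
universe u
open CategoryTheory CategoryTheory.Limits AlgebraicGeometry MonoidalCategory
  CartesianMonoidalCategory MonObj

namespace Groth.Agent.R2.H45.GrpLocus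

open Groth.Agent.R2.H45.HasAtMor Groth.Agent.R2.H45.HasAt Groth.Agent.R2.H45.Unram
  Groth.Agent.R2.H45.RelDim Groth.Agent.R2.H45.GrpTransl Groth.Agent.S13210

variable {S : Scheme.{u}}

/-- compatibility of a pointed property with base change (for morphisms locally of finite
type). -/
def BCInv (S : Scheme.{u}) (Q : ∀ (U V : Scheme.{u}), (U ⟶ V) → ↥U → Prop) : Prop :=
  ∀ ⦃X Y X' Y' : AlgSp.Sp S⦄, AlgSp.IsAlgSpace X → AlgSp.IsAlgSpace Y → AlgSp.IsAlgSpace Y' →
    ∀ ⦃f : X ⟶ Y⦄ ⦃g : Y' ⟶ Y⦄ ⦃g' : X' ⟶ X⦄ ⦃f' : X' ⟶ Y'⦄, IsPullback g' f' f g →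
      AlgSp.LocP @LocallyOfFiniteType f → ∀ x' : AlgSp.Points X',
        (AlgSp.HasAtMor Q f' x' ↔ AlgSp.HasAtMor Q f (AlgSp.Points.map g' x'))

theorem bcInv_qunr : BCInv S Qunr.{u} := by
  intro X Y X' Y' hX hY hY' f g g' f' sq hf x'
  obtain ⟨U, V, V', W, a', b', b'', h, κ, p1, p2, a'', w, hae, hbe, hbe', hae', c1, c2, c3, c4,
    hpb, hw, hw'⟩ := exists_baseChange_diagram_through hX hY hY' sq x'
  haveI : LocallyOfFiniteType h.left := hf a' b' h hae hbe c1
  have e1 := hasAtMor_iff_of_diagram etSqInv_qunr f a' b' h hae hbe c1 (p1.left w)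
  have e2 := hasAtMor_iff_of_diagram etSqInv_qunr f' a'' b'' p2 hae' hbe' c3 w
  rw [hw'] at e1
  rw [hw] at e2
  exact e2.trans ((qunr_iff_of_isPullback h.left κ.left p1.left p2.left hpb w).trans e1.symm)

theorem bcInv_qlqf : BCInv S Qlqf.{u} := by
  intro X Y X' Y' hX hY hY' f g g' f' sq hf x'
  have hf' : AlgSp.LocP @LocallyOfFiniteType f' :=
    Groth.Agent.Lib.Helper12.LocPCases.good_lft.locP_baseChange hX hY hY' sq hf
  rw [hasAtMor_qlqf_iff f' hf' x', hasAtMor_qlqf_iff f hf _]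
  exact hasAtMor_fibreDimAt_baseChange_iff (fun d => d ≤ 0) hX hY hY' sq hf x'

/-- the source of a representable morphism to an algebraic space is an algebraic space. -/
theorem isAlgSpace_of_repWith {P : MorphismProperty Scheme.{u}} {W B : AlgSp.Sp S}
    (hB : AlgSp.IsAlgSpace B) (w : W ⟶ B) (hw : AlgSp.RepWith P w) : AlgSp.IsAlgSpace W := by
  rw [← AlgSp.isAlgSpaceP_obj_iff]
  refine Groth.Agent.S9876.result S ⟨B, hB⟩ W.obj w.hom ?_
  intro U ξ
  obtain ⟨b, snd, fst, sq⟩ := hw.1 (ObjectProperty.homMk ξ : (AlgSp.yon S).obj U ⟶ B)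
  exact ⟨b, snd, fst.hom, sq.map (sheafToPresheaf _ _)⟩

/-- `HasAtMor` is invariant under automorphisms of the source over the target. -/
theorem hasAtMor_map_of_isIso {Q : ∀ (U V : Scheme.{u}), (U ⟶ V) → ↥U → Prop} {X Y : AlgSp.Sp S}
    (f : X ⟶ Y) (σ : X ⟶ X) [IsIso σ] (hσ : σ ≫ f = f) (y : AlgSp.Points X)
    (hy : AlgSp.HasAtMor Q f y) : AlgSp.HasAtMor Q f (AlgSp.Points.map σ y) := by
  obtain ⟨U, V, a, b, h, u, ha, hb, comm, hu, hq⟩ := hy
  refine ⟨U, V, a ≫ σ, b, h, u, ?_, hb, ?_, ?_, hq⟩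
  · exact (AlgSp.repWith_isMultiplicative (S := S) @Etale).comp_mem _ _ ha
      (Groth.Agent.Lib.Helper15Descent.repWith_etale_of_isIso σ)
  · rw [Category.assoc, hσ, comm]
  · rw [← AlgSp.Points.map_ofPt, hu]

theorem hasAtMor_map_iff_of_iso {Q : ∀ (U V : Scheme.{u}), (U ⟶ V) → ↥U → Prop}
    {X Y : AlgSp.Sp S} (f : X ⟶ Y) (σ : X ≅ X) (hσ : σ.hom ≫ f = f) (y : AlgSp.Points X) :
    AlgSp.HasAtMor Q f (AlgSp.Points.map σ.hom y) ↔ AlgSp.HasAtMor Q f y := by
  constructor
  · intro h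
    have hσ' : σ.inv ≫ f = f := by rw [Iso.inv_comp_eq, hσ]
    have := hasAtMor_map_of_isIso f σ.inv hσ' _ h
    rwa [← AlgSp.Points.map_comp, Iso.hom_inv_id, AlgSp.Points.map_id] at this
  · exact hasAtMor_map_of_isIso f σ.hom hσ y

section Group

variable {B : AlgSp.Sp S} (G : Over B) [GrpObj G]

/-- **Translation**: a base change compatible pointed property holds at `g` iff it holds at the
unit point `e(π(g))`. -/
theorem hasAtMor_iff_unit {Q : ∀ (U V : Scheme.{u}), (U ⟶ V) → ↥U → Prop} (hBC : BCInv S Q)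
    (hB : AlgSp.IsAlgSpace B) (hG : AlgSp.IsAlgSpace G.left)
    (hlft : AlgSp.LocP @LocallyOfFiniteType G.hom) (g : AlgSp.Points G.left) :
    AlgSp.HasAtMor Q G.hom g ↔
      AlgSp.HasAtMor Q G.hom (AlgSp.Points.map (η[G]).left (AlgSp.Points.map G.hom g)) := by
  induction g using AlgSp.Points.ind with | h p => ?_
  let t : (AlgSp.yon S).obj p.pt ⟶ G.left := (yEquiv p.pt G.left).symm p.val
  let c := IsLocalRing.closedPoint p.K
  have hp : AlgSp.Points.ofPt t c = AlgSp.Points.mk p := Groth.Agent.S10177.ofPt_closedPoint p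
  have hT : AlgSp.IsAlgSpace ((AlgSp.yon S).obj p.pt) := AlgSp.IsAlgSpace.yon_obj _
  have sq := IsPullback.of_hasPullback G.hom (t ≫ G.hom)
  have e1 := hBC hG hB hT sq hlft (AlgSp.Points.ofPt (ptSec t) c)
  have e2 := hBC hG hB hT sq hlft (AlgSp.Points.ofPt (unitSec t) c)
  have e3 := hasAtMor_map_iff_of_iso (Q := Q) (pullback.snd G.hom (t ≫ G.hom)) (transIso t)
    (transIso_hom_snd t) (AlgSp.Points.ofPt (unitSec t) c)
  rw [AlgSp.Points.map_ofPt, unitSec_transIso] at e3
  rw [AlgSp.Points.map_ofPt, ptSec_fst, hp] at e1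
  rw [AlgSp.Points.map_ofPt, unitSec_fst, ← AlgSp.Points.map_ofPt, ← AlgSp.Points.map_ofPt,
    hp] at e2
  exact e1.symm.trans (e3.trans e2)

end Group

/-- the pointed property `Q` detects the global property `P` (among morphisms locally of finite
type). -/
def Detects (Q : ∀ (U V : Scheme.{u}), (U ⟶ V) → ↥U → Prop) (P : MorphismProperty Scheme.{u}) :
    Prop :=
  ∀ ⦃U V : Scheme.{u}⦄ (h : U ⟶ V), LocallyOfFiniteType h → ((∀ u : ↥U, Q U V h u) ↔ P h)

theorem detects_qunr : Detects Qunr.{u} (@LocallyOfFiniteType ⊓ @FormallyUnramified) := by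
  intro U V h hlft
  constructor
  · intro H
    refine ⟨hlft, ?_⟩
    choose W hW h1 h2 using H
    refine IsZariskiLocalAtSource.of_iSup_eq_top (P := @FormallyUnramified) W ?_ h2
    rw [eq_top_iff]
    intro u _
    exact TopologicalSpace.Opens.mem_iSup.2 ⟨u, hW u⟩
  · rintro ⟨h1, h2⟩ u
    haveI : LocallyOfFiniteType h := h1
    exact ⟨⊤, trivial, inferInstance,
      IsZariskiLocalAtSource.comp (P := @FormallyUnramified) h2 _⟩

theorem detects_qlqf : Detects Qlqf.{u} (@LocallyQuasiFinite ⊓ @LocallyOfFiniteType) := by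
  intro U V h hlft
  constructor
  · intro H
    refine ⟨?_, hlft⟩
    choose W hW h1 h2 using H
    refine IsZariskiLocalAtSource.of_iSup_eq_top (P := @LocallyQuasiFinite) W ?_ h1
    rw [eq_top_iff]
    intro u _
    exact TopologicalSpace.Opens.mem_iSup.2 ⟨u, hW u⟩
  · rintro ⟨h1, h2⟩ u
    haveI : LocallyOfFiniteType h := h2
    haveI : LocallyQuasiFinite h := h1
    exact ⟨⊤, trivial, inferInstance, inferInstance⟩

theorem etSqInvOn_qlqf : EtSqInvOn @LocallyOfFiniteType Qlqf.{u} := by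
  intro U U' V V' h h' a b _ _ comm hh hh' u'
  haveI : LocallyOfFiniteType h := hh
  haveI : LocallyOfFiniteType h' := hh'
  rw [qlqf_iff_fibreDimAt_le_zero, qlqf_iff_fibreDimAt_le_zero]
  exact etSqInv_fibreDimAt (fun d => d ≤ 0) h h' a b comm u'

/-- a detected property holds iff the pointed property holds at every point. -/
theorem locP_iff_forall_hasAtMor {Q : ∀ (U V : Scheme.{u}), (U ⟶ V) → ↥U → Prop}
    {P : MorphismProperty Scheme.{u}} (hQ : EtSqInvOn @LocallyOfFiniteType Q)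
    (hQP : Detects Q P) {X Y : AlgSp.Sp S}
    (hX : AlgSp.IsAlgSpace X) (hY : AlgSp.IsAlgSpace Y) (f : X ⟶ Y)
    (hf : AlgSp.LocP @LocallyOfFiniteType f) :
    AlgSp.LocP P f ↔ ∀ x : AlgSp.Points X, AlgSp.HasAtMor Q f x := by
  constructor
  · intro H x
    obtain ⟨U, V, a, b, h, u, ha, hb, comm, hu⟩ := exists_diagram hX hY f x
    exact ⟨U, V, a, b, h, u, ha, hb, comm, hu,
      (hQP h.left (hf a b h ha hb comm)).2 (H a b h ha hb comm) u⟩
  · intro H U V a b h ha hb comm
    exact (hQP h.left (hf a b h ha hb comm)).1 fun u =>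
      (hasAtMor_iff_of_diagram_on hQ f hf a b h ha hb comm u).1 (H _)

theorem isOpen_qunr {X Y : AlgSp.Sp S} (hX : AlgSp.IsAlgSpace X) (hY : AlgSp.IsAlgSpace Y)
    (f : X ⟶ Y) (hf : AlgSp.LocP @LocallyOfFiniteType f) :
    IsOpen {x : AlgSp.Points X | AlgSp.HasAtMor Qunr f x} := by
  rw [isOpen_iff_forall_mem_open]
  rintro x ⟨U, V, a', b', h, u, ha', hb', c, hu, W, huW, h1, h2⟩
  refine ⟨AlgSp.Points.ofPt a' '' (W : Set ↥U.left), ?_,
    Groth.Agent.S10176.isOpenMap_ofPt a' ha' _ W.isOpen, ⟨u, huW, hu⟩⟩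
  rintro _ ⟨u', hu', rfl⟩
  exact ⟨U, V, a', b', h, u', ha', hb', c, rfl, W, hu', h1, h2⟩

theorem isOpen_qlqf {X Y : AlgSp.Sp S} (hX : AlgSp.IsAlgSpace X) (hY : AlgSp.IsAlgSpace Y)
    (f : X ⟶ Y) (hf : AlgSp.LocP @LocallyOfFiniteType f) :
    IsOpen {x : AlgSp.Points X | AlgSp.HasAtMor Qlqf f x} := by
  have h : {x : AlgSp.Points X | AlgSp.HasAtMor Qlqf f x} = lqfLocus f := by
    ext x
    exact hasAtMor_qlqf_iff f hf x
  rw [h]
  exact isOpen_lqfLocus hX hY f hf

section Group2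

variable {B : AlgSp.Sp S} (G : Over B) [GrpObj G]

/-- the set of points of the base over which the group has `Q` along the unit section. -/
def unitLocus (Q : ∀ (U V : Scheme.{u}), (U ⟶ V) → ↥U → Prop) : Set (AlgSp.Points B) :=
  {b | AlgSp.HasAtMor Q G.hom (AlgSp.Points.map (η[G]).left b)}

/-- `G ⟶ B` has `P` iff it has `Q` at all points of the unit section. -/
theorem locP_iff_forall_unit {Q : ∀ (U V : Scheme.{u}), (U ⟶ V) → ↥U → Prop}
    {P : MorphismProperty Scheme.{u}} (hQ : EtSqInvOn @LocallyOfFiniteType Q) (hBC : BCInv S Q)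
    (hQP : Detects Q P)
    (hB : AlgSp.IsAlgSpace B) (hG : AlgSp.IsAlgSpace G.left)
    (hlft : AlgSp.LocP @LocallyOfFiniteType G.hom) :
    AlgSp.LocP P G.hom ↔
      ∀ b : AlgSp.Points B, AlgSp.HasAtMor Q G.hom (AlgSp.Points.map (η[G]).left b) := by
  rw [locP_iff_forall_hasAtMor hQ hQP hG hB G.hom hlft]
  constructor
  · intro H b
    exact H _
  · intro H g
    exact (hasAtMor_iff_unit G hBC hB hG hlft g).2 (H _)

/-- a base change of `G ⟶ B` has `P` iff the base maps into the unit locus. -/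
theorem locP_baseChange_iff {Q : ∀ (U V : Scheme.{u}), (U ⟶ V) → ↥U → Prop}
    {P : MorphismProperty Scheme.{u}} (hQ : EtSqInvOn @LocallyOfFiniteType Q) (hBC : BCInv S Q)
    (hQP : Detects Q P)
    (hB : AlgSp.IsAlgSpace B) (hG : AlgSp.IsAlgSpace G.left)
    (hlft : AlgSp.LocP @LocallyOfFiniteType G.hom) {C X' : AlgSp.Sp S}
    (hC : AlgSp.IsAlgSpace C) {c : C ⟶ B} {g' : X' ⟶ G.left} {f' : X' ⟶ C}
    (sq : IsPullback g' f' G.hom c) :
    AlgSp.LocP P f' ↔ Set.range (AlgSp.Points.map c) ⊆ unitLocus G Q := by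
  have hX' : AlgSp.IsAlgSpace X' := Groth.Agent.S9874.isAlgSpace_of_isPullback hB.diag hG hC sq
  have hf' : AlgSp.LocP @LocallyOfFiniteType f' :=
    Groth.Agent.Lib.Helper12.LocPCases.good_lft.locP_baseChange hG hB hC sq hlft
  rw [locP_iff_forall_hasAtMor hQ hQP hX' hC f' hf']
  have key : ∀ x' : AlgSp.Points X', AlgSp.HasAtMor Q f' x' ↔
      AlgSp.Points.map c (AlgSp.Points.map f' x') ∈ unitLocus G Q := by
    intro x'
    rw [hBC hG hB hC sq hlft x', hasAtMor_iff_unit G hBC hB hG hlft]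
    change _ ↔ AlgSp.HasAtMor Q G.hom _
    rw [← AlgSp.Points.map_comp g' G.hom, sq.w, AlgSp.Points.map_comp]
  -- the unit section of the base change
  let s : C ⟶ X' := sq.lift (c ≫ (η[G]).left) (𝟙 C) (by
    rw [Category.assoc, unit_hom, Category.comp_id, Category.id_comp])
  have hs : s ≫ f' = 𝟙 C := sq.lift_snd _ _ _
  constructor
  · rintro H _ ⟨y, rfl⟩
    have := (key (AlgSp.Points.map s y)).1 (H _)
    rwa [← AlgSp.Points.map_comp s f', hs, AlgSp.Points.map_id] at this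
  · intro H x'
    exact (key x').2 (H ⟨_, rfl⟩)

/-- **The largest open of the base over which a group algebraic space has `P`**, compatible with
base change. -/
theorem exists_largest_open {Q : ∀ (U V : Scheme.{u}), (U ⟶ V) → ↥U → Prop}
    {P : MorphismProperty Scheme.{u}} (hQ : EtSqInvOn @LocallyOfFiniteType Q) (hBC : BCInv S Q)
    (hQP : Detects Q P)
    (hopen : IsOpen {x : AlgSp.Points G.left | AlgSp.HasAtMor Q G.hom x})
    (hB : AlgSp.IsAlgSpace B) (hG : AlgSp.IsAlgSpace G.left)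
    (hlft : AlgSp.LocP @LocallyOfFiniteType G.hom) :
    ∃ (W : AlgSp.Sp S) (w : W ⟶ B), AlgSp.RepWith @IsOpenImmersion w ∧
      (∀ (W' : AlgSp.Sp S) (w' : W' ⟶ B), AlgSp.RepWith @IsOpenImmersion w' →
        (AlgSp.LocP P (pullback.snd G.hom w') ↔ ∃ k : W' ⟶ W, k ≫ w = w')) ∧
      (∀ (B' : AlgSp.Sp S), AlgSp.IsAlgSpace B' → ∀ (f : B' ⟶ B) (W'' : AlgSp.Sp S)
        (w'' : W'' ⟶ B'), AlgSp.RepWith @IsOpenImmersion w'' →
        (AlgSp.LocP P (pullback.snd (pullback.snd G.hom f) w'') ↔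
          ∃ k : W'' ⟶ pullback w f, k ≫ pullback.snd w f = w'')) := by
  have hW₀ : IsOpen (unitLocus G Q) :=
    hopen.preimage (AlgSp.Points.continuous_map (η[G]).left)
  have hw := Groth.Agent.Lib.Helper12.OpenSub.repWith_incl hW₀
  have hrange := Groth.Agent.Lib.Helper12.OpenSub.range_map_incl (unitLocus G Q)
  refine ⟨Groth.Agent.Lib.Helper12.OpenSub.obj B (unitLocus G Q),
    Groth.Agent.Lib.Helper12.OpenSub.incl B (unitLocus G Q), hw, ?_, ?_⟩
  · intro W' w' hw'
    have hW' : AlgSp.IsAlgSpace W' := isAlgSpace_of_repWith hB w' hw'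
    rw [locP_baseChange_iff G hQ hBC hQP hB hG hlft hW' (IsPullback.of_hasPullback G.hom w'),
      Groth.Agent.S10194.exists_factor_iff _ hw w', hrange]
  · intro B' hB' f W'' w'' hw''
    have hW'' : AlgSp.IsAlgSpace W'' := isAlgSpace_of_repWith hB' w'' hw''
    have sq := (IsPullback.of_hasPullback (pullback.snd G.hom f) w'').paste_horiz
      (IsPullback.of_hasPullback G.hom f)
    have e : (∃ k₀ : W'' ⟶ Groth.Agent.Lib.Helper12.OpenSub.obj B (unitLocus G Q),
        k₀ ≫ Groth.Agent.Lib.Helper12.OpenSub.incl B (unitLocus G Q) = w'' ≫ f) ↔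
        Set.range (AlgSp.Points.map (w'' ≫ f)) ⊆ unitLocus G Q := by
      rw [Groth.Agent.S10194.exists_factor_iff _ hw (w'' ≫ f), hrange]
    rw [locP_baseChange_iff G hQ hBC hQP hB hG hlft hW'' sq, ← e]
    constructor
    · rintro ⟨k₀, hk₀⟩
      exact ⟨pullback.lift k₀ w'' hk₀, pullback.lift_snd _ _ _⟩
    · rintro ⟨k, hk⟩
      refine ⟨k ≫ pullback.fst _ f, ?_⟩
      rw [Category.assoc, pullback.condition, ← Category.assoc, hk]

end Group2

end Groth.Agent.R2.H45.GrpLocus
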