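import Mathlib
import Groth.Prelude.Def_AlgSpDec
import Groth.Prelude.Def_Dual3
import Groth.Agent.R2.H45HasAtMor
import Groth.Agent.R2.H45Dim
import Groth.Agent.Lib.Helper20ResMap
import Groth.Agent.Lib.Helper4DimFormulaAL

/-!
# Transcendence degree of residue field extensions (helper45)
-/

set_option autoImplicit false
set_option linter.style.haveILetI false
universe u
open CategoryTheory CategoryTheory.Limits AlgebraicGeometry

namespace Groth.Agent.R2.H45.ResTrdeg

open Groth.Agent.R2.H45.HasAtMor

/-- additivity of the transcendence degree of residue field extensions along a composition. -/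
theorem resTrdeg_comp {X Y Z : Scheme.{u}} (f : X ⟶ Y) (q : Y ⟶ Z) (x : ↥X) :
    Dual3.resTrdeg (f ≫ q) x = Dual3.resTrdeg q (f x) + Dual3.resTrdeg f x := by
  unfold Dual3.resTrdeg
  letI : Algebra (Z.residueField (q (f x))) (Y.residueField (f x)) :=
    (q.residueFieldMap (f x)).hom.toAlgebra
  letI : Algebra (Y.residueField (f x)) (X.residueField x) := (f.residueFieldMap x).hom.toAlgebra
  letI : Algebra (Z.residueField (q (f x))) (X.residueField x) :=
    ((f ≫ q).residueFieldMap x).hom.toAlgebra
  haveI : IsScalarTower (Z.residueField (q (f x))) (Y.residueField (f x))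
      (X.residueField x) :=
    IsScalarTower.of_algebraMap_eq fun c => by
      change ((f ≫ q).residueFieldMap x).hom c = _
      rw [Scheme.residueFieldMap_comp]
      rfl
  haveI : FaithfulSMul (Z.residueField (q (f x))) (Y.residueField (f x)) :=
    (faithfulSMul_iff_algebraMap_injective _ _).mpr (RingHom.injective _)
  haveI : FaithfulSMul (Y.residueField (f x)) (X.residueField x) :=
    (faithfulSMul_iff_algebraMap_injective _ _).mpr (RingHom.injective _)
  exact (trdeg_add_eq (Z.residueField (q (f x))) (Y.residueField (f x))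
    (A := X.residueField x)).symm

theorem resTrdeg_congr {X Y : Scheme.{u}} {f g : X ⟶ Y} (h : f = g) (x : ↥X) :
    Dual3.resTrdeg f x = Dual3.resTrdeg g x := by
  subst h
  rfl

/-- quasi-finite at a point ⇒ algebraic residue field extension. -/
theorem resTrdeg_eq_zero_of_quasiFiniteAt {X Y : Scheme.{u}} (f : X ⟶ Y) (x : ↥X)
    (hx : f.QuasiFiniteAt x) : Dual3.resTrdeg f x = 0 := by
  unfold Dual3.resTrdeg
  letI : Algebra (Y.residueField (f x)) (X.residueField x) := (f.residueFieldMap x).hom.toAlgebra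
  haveI : Module.Finite (Y.residueField (f x)) (X.residueField x) :=
    Groth.Agent.Lib.Helper20.ResFld.finite_residueFieldMap_of_quasiFiniteAt f x hx
  haveI : Algebra.IsAlgebraic (Y.residueField (f x)) (X.residueField x) :=
    Algebra.IsAlgebraic.of_finite _ _
  exact trdeg_eq_zero

theorem resTrdeg_eq_zero_of_locallyQuasiFinite {X Y : Scheme.{u}} (f : X ⟶ Y)
    [LocallyQuasiFinite f] (x : ↥X) : Dual3.resTrdeg f x = 0 :=
  resTrdeg_eq_zero_of_quasiFiniteAt f x (f.quasiFiniteAt x)

theorem resTrdeg_eq_zero_of_etale {X Y : Scheme.{u}} (f : X ⟶ Y) [Etale f] (x : ↥X) :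
    Dual3.resTrdeg f x = 0 := by
  haveI := Groth.Agent.R2.H45.Dim.locallyQuasiFinite_of_etale f
  exact resTrdeg_eq_zero_of_locallyQuasiFinite f x

/-- **The residue transcendence degree is étale local on source and target.** -/
theorem resTrdeg_eq_of_etale_square {U U' V V' : Scheme.{u}} (h : U ⟶ V) (h' : U' ⟶ V')
    (a : U' ⟶ U) (b : V' ⟶ V) [Etale a] [Etale b] (comm : h' ≫ b = a ≫ h) (u' : ↥U') :
    Dual3.resTrdeg h (a u') = Dual3.resTrdeg h' u' := by
  have h1 := resTrdeg_comp h' b u'
  have h2 := resTrdeg_comp a h u'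
  rw [resTrdeg_eq_zero_of_etale b, zero_add] at h1
  rw [resTrdeg_eq_zero_of_etale a, add_zero] at h2
  rw [← h1, ← h2]
  exact (resTrdeg_congr comm u').symm

theorem etSqInv_resTrdeg (P : Cardinal.{u} → Prop) :
    EtSqInv (fun _ _ h u => P (Dual3.resTrdeg h u)) := by
  intro U U' V V' h h' a b _ _ comm u'
  change P (Dual3.resTrdeg h' u') ↔ P (Dual3.resTrdeg h (a u'))
  rw [resTrdeg_eq_of_etale_square h h' a b comm u']

theorem resTrdeg_eq_ptTrdeg {X Y : Scheme.{u}} (f : X ⟶ Y) [LocallyOfFiniteType f] (x : ↥X) :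
    Dual3.resTrdeg f x = (Groth.Agent.Lib.Helper4.DimFormula.ptTrdeg f x : Cardinal.{u}) :=
  Groth.Agent.Lib.Helper4.DimFormula.trdeg_eq_ptTrdeg f x

end Groth.Agent.R2.H45.ResTrdeg
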