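import Mathlib
import Groth.Prelude.Def_AlgSpMor5
import Groth.Agent.R2.H45GrpLocus
import Groth.Agent.R2.H45ResTrdeg
import Groth.Agent.Lib.Helper4DimFormulaAQ
import Groth.Agent.S10190

/-!
# helper45: quasi-finiteness over points of codimension at most one

* `fibreDimAt_le_zero_of_generic`: scheme level: over a point of codimension `≤ 1` of a locally Noetherian
  scheme, a morphism locally of finite type is quasi-finite at `u` as soon as it is quasi-finite at the
  generic points of the irreducible components through `u`.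
* `hasAtMor_qlqf_of_generic`: the same for algebraic spaces, tested on chart diagrams.
* `mem_of_dense_of_maximal`: a dense open subset of a locally Noetherian scheme contains all maximal
  points.
-/

set_option autoImplicit false
set_option linter.style.haveILetI false
universe u

namespace Groth.Agent.R2.H45.CodimOne

open AlgebraicGeometry CategoryTheory CategoryTheory.Limits Opposite AlgSp TopologicalSpace
open Groth.Agent.R2.H45.HasAtMor Groth.Agent.R2.H45.HasAt Groth.Agent.R2.H45.RelDim
  Groth.Agent.R2.H45.GrpLocus Groth.Agent.Lib.Helper4.DimFormula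

/-- the local ring at a maximal point (for specialization) has dimension zero. -/
theorem ringKrullDim_stalk_eq_zero_of_maximal {U : Scheme.{u}} (η : ↥U)
    (hmax : ∀ τ : ↥U, τ ⤳ η → τ = η) : ringKrullDim ↥(U.presheaf.stalk η) = 0 :=
  Groth.Agent.S10190.ringKrullDim_stalk_eq_zero_of_mem_genericPoints η
    (mem_irreducibleComponents_of_forall_specializes η hmax)

/-- scheme level core. -/
theorem fibreDimAt_le_zero_of_generic {U V : Scheme.{u}} (h : U ⟶ V) [LocallyOfFiniteType h]
    [IsLocallyNoetherian V] (u : ↥U) (hdim : ringKrullDim ↥(V.presheaf.stalk (h u)) ≤ 1)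
    (hgen : ∀ η : ↥U, (∀ τ : ↥U, τ ⤳ η → τ = η) → η ⤳ u → FlatMor.fibreDimAt h η ≤ 0) :
    FlatMor.fibreDimAt h u ≤ 0 := by
  have key := fibreDimAt_eq_of_generic_LN h u 0 hdim (fun η hmax hηu => by
    refine le_antisymm (hgen η hmax hηu) ?_
    refine le_trans ?_ (ptTrdeg_le_fibreDimAt h η)
    exact_mod_cast Nat.zero_le _)
  rw [key]
  rfl

variable {S : Scheme.{u}}

/-- algebraic space level: quasi-finiteness at a point over a point of codimension `≤ 1`, tested at the
maximal points of chart diagrams. -/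
theorem hasAtMor_qlqf_of_generic {X Y : AlgSp.Sp S} (hX : AlgSp.IsAlgSpace X)
    (hY : AlgSp.IsAlgSpace Y) (f : X ⟶ Y) (hf : AlgSp.LocP @LocallyOfFiniteType f)
    (hYN : AlgSp.IsLocNoethSp Y) (x : AlgSp.Points X)
    (hy : AlgSp.HasAt (fun U u => ringKrullDim ↥(U.presheaf.stalk u) ≤ 1) Y (AlgSp.Points.map f x))
    (H : ∀ (U V : Over S) (a : (AlgSp.yon S).obj U ⟶ X) (b : (AlgSp.yon S).obj V ⟶ Y) (h : U ⟶ V),
      AlgSp.RepWith @Etale a → AlgSp.RepWith @Etale b → a ≫ f = (AlgSp.yon S).map h ≫ b →
      LocallyOfFiniteType h.left → IsLocallyNoetherian U.left →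
      ∀ η : ↥U.left, (∀ τ : ↥U.left, τ ⤳ η → τ = η) → AlgSp.Points.ofPt a η ⤳ x →
        Qlqf U.left V.left h.left η) :
    AlgSp.HasAtMor Qlqf f x := by
  obtain ⟨U, V, a, b, h, u, ha, hb, comm, rfl⟩ := exists_diagram hX hY f x
  haveI hlft : LocallyOfFiniteType h.left := hf a b h ha hb comm
  haveI : IsLocallyNoetherian V.left := isLocallyNoetherian_of_chart hYN b hb
  haveI : IsLocallyNoetherian U.left := LocallyOfFiniteType.isLocallyNoetherian h.left
  have hpt : AlgSp.Points.map f (AlgSp.Points.ofPt a u) = AlgSp.Points.ofPt b (h.left u) := by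
    rw [AlgSp.Points.map_ofPt, comm, Groth.Agent.S10176.ofPt_map_comp]
  rw [hpt, hasAt_iff_of_chart (etInv_ringKrullDim_stalk (fun d => d ≤ 1)) b hb] at hy
  rw [hasAtMor_iff_of_diagram_on etSqInvOn_qlqf f hf a b h ha hb comm u,
    qlqf_iff_fibreDimAt_le_zero]
  refine fibreDimAt_le_zero_of_generic h.left u hy (fun η hmax hηu => ?_)
  rw [← qlqf_iff_fibreDimAt_le_zero]
  exact H U V a b h ha hb comm hlft inferInstance η hmax
    (hηu.map (AlgSp.Points.continuous_ofPt a))

/-- a dense open subset of a locally Noetherian scheme contains every maximal point. -/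
theorem mem_of_dense_of_maximal {U : Scheme.{u}} [IsLocallyNoetherian U] (D : Set ↥U)
    (hDo : IsOpen D) (hDd : Dense D) (η : ↥U) (hmax : ∀ τ : ↥U, τ ⤳ η → τ = η) : η ∈ D := by
  obtain ⟨_, ⟨W, hW : IsAffineOpen W, rfl⟩, hηW, -⟩ :=
    (U.isBasis_affineOpens).exists_subset_of_mem_open (Set.mem_univ η) isOpen_univ
  haveI : IsNoetherianRing Γ(U, W) := IsLocallyNoetherian.component_noetherian ⟨W, hW⟩
  haveI : NoetherianSpace ↥W := noetherianSpace_of_isAffineOpen W hW
  have hemb : Topology.IsOpenEmbedding (Subtype.val : ↥W → ↥U) := W.isOpen.isOpenEmbedding_subtypeVal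
  let η' : ↥W := ⟨η, hηW⟩
  have hmax' : ∀ τ : ↥W, τ ⤳ η' → τ = η' := by
    intro τ hτ
    apply Subtype.ext
    exact hmax τ.1 (hτ.map continuous_subtype_val)
  haveI : QuasiSober ↥W := (inferInstance : QuasiSober ↥(W : Scheme.{u}))
  have hZ := mem_irreducibleComponents_of_forall_specializes η' hmax'
  obtain ⟨o, ho, hone, hoZ⟩ :=
    NoetherianSpace.exists_isOpen_nonempty_subset_irreducibleComponent _ hZ
  have ho' : IsOpen (Subtype.val '' o) := hemb.isOpenMap o ho
  obtain ⟨t, ⟨t', ht'o, rfl⟩, htD⟩ := hDd.inter_open_nonempty _ ho' (hone.image _)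
  have hsp : η' ⤳ t' := specializes_iff_mem_closure.2 (hoZ ht'o)
  exact (hsp.map continuous_subtype_val).mem_open hDo htD

end Groth.Agent.R2.H45.CodimOne
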