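import Mathlib
import Groth.Agent.R2.H45Dim
import Groth.Agent.R2.H45CodimOne

/-!
# Codimension zero points of quasi-separated schemes (helper45)

* `exists_isAffineOpen_of_finite_dim_zero` : in a quasi-separated scheme, finitely many points
  whose local rings are zero-dimensional lie in a common affine open (Stacks 09NN).
* `exists_dim_zero_mem` : every nonempty open of a scheme contains a point with zero-dimensional
  local ring.
-/

set_option autoImplicit false
set_option linter.style.haveILetI false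
universe u
open CategoryTheory CategoryTheory.Limits AlgebraicGeometry Topology TopologicalSpace

namespace Groth.Agent.R2.H45.FinEtQuot

/-- a global function whose germ at `y` is nilpotent vanishes nowhere near `y`. -/
lemma exists_open_disjoint_basicOpen (Y : Scheme.{u}) (y : Y) (g : Γ(Y, ⊤))
    (hg : IsNilpotent (Y.presheaf.germ ⊤ y trivial g)) :
    ∃ N : Y.Opens, y ∈ N ∧ Disjoint (N : Set Y) (Y.basicOpen g : Set Y) := by
  obtain ⟨n, hn⟩ := hg
  have h0 : Y.presheaf.germ ⊤ y trivial (g ^ n) = Y.presheaf.germ ⊤ y trivial 0 := by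
    rw [map_pow, hn, map_zero]
  obtain ⟨W, hyW, i1, i2, hW⟩ := TopCat.Presheaf.germ_eq Y.presheaf (U := ⊤) (V := ⊤) y trivial trivial
    (g ^ n) 0 h0
  refine ⟨W, hyW, ?_⟩
  rw [Set.disjoint_left]
  intro z hzW hzg
  have hu : IsUnit (Y.presheaf.germ ⊤ z trivial g) := (Y.mem_basicOpen_top g z).1 hzg
  have h1 : Y.presheaf.germ ⊤ z trivial (g ^ n) = 0 := by
    have e1 : Y.presheaf.germ ⊤ z trivial (g ^ n) =
        Y.presheaf.germ W z hzW (Y.presheaf.map i1.op (g ^ n)) :=
      (TopCat.Presheaf.germ_res_apply Y.presheaf i1 z hzW (g ^ n)).symm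
    rw [e1, hW, map_zero, map_zero]
  rw [map_pow] at h1
  have hu' : IsUnit ((Y.presheaf.germ ⊤ z trivial g) ^ n) := hu.pow n
  rw [h1] at hu'
  exact not_isUnit_zero hu'

/-- in an affine scheme, a point with zero-dimensional local ring outside a compact open `K` has a
neighbourhood disjoint from `K`. -/
lemma exists_open_disjoint_of_dim_zero (Y : Scheme.{u}) [IsAffine Y] (y : Y)
    (hy : ringKrullDim ↥(Y.presheaf.stalk y) = 0) (K : Set Y) (hK : IsCompact K) (hKo : IsOpen K)
    (hyK : y ∉ K) : ∃ N : Y.Opens, y ∈ N ∧ Disjoint (N : Set Y) K := by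
  obtain ⟨s, hs, rfl⟩ := isCompact_and_isOpen_iff_finite_and_eq_biUnion_basicOpen.1 ⟨hK, hKo⟩
  haveI : Ring.KrullDimLE 0 ↥(Y.presheaf.stalk y) := by
    rw [Ring.krullDimLE_iff, hy]; rfl
  have key : ∀ g ∈ s, ∃ N : Y.Opens, y ∈ N ∧ Disjoint (N : Set Y) (Y.basicOpen g : Set Y) := by
    intro g hgs
    apply exists_open_disjoint_basicOpen
    rw [Ring.KrullDimLE.isNilpotent_iff_mem_nonunits]
    intro hu
    apply hyK
    simp only [Set.mem_iUnion]
    exact ⟨g, hgs, (Y.mem_basicOpen_top g y).2 hu⟩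
  clear hyK hK hKo
  induction s, hs using Set.Finite.induction_on with
  | empty => exact ⟨⊤, trivial, by simp⟩
  | @insert g s hgs hs ih =>
    obtain ⟨N₁, hy₁, hd₁⟩ := ih (fun g' hg' => key g' (Set.mem_insert_of_mem _ hg'))
    obtain ⟨N₂, hy₂, hd₂⟩ := key g (Set.mem_insert _ _)
    refine ⟨N₁ ⊓ N₂, ⟨hy₁, hy₂⟩, ?_⟩
    rw [Set.biUnion_insert, Set.disjoint_union_right]
    exact ⟨hd₂.mono_left Set.inter_subset_right, hd₁.mono_left Set.inter_subset_left⟩

/-- **Stacks 09NN**: in a quasi-separated scheme, finitely many points with zero-dimensional local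
rings lie in a common affine open. -/
theorem exists_isAffineOpen_of_finite_dim_zero (X : Scheme.{u}) [QuasiSeparatedSpace ↥X]
    (Z : Set ↥X) (hZ : Z.Finite) (hdim : ∀ x ∈ Z, ringKrullDim ↥(X.presheaf.stalk x) = 0) :
    ∃ V : X.Opens, IsAffineOpen V ∧ Z ⊆ (V : Set ↥X) := by
  induction Z, hZ using Set.Finite.induction_on with
  | empty => exact ⟨⊥, isAffineOpen_bot X, Set.empty_subset _⟩
  | @insert x Z hxZ hZ ih =>
    obtain ⟨U, hU, hZU⟩ := ih (fun z hz => hdim z (Set.mem_insert_of_mem _ hz))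
    by_cases hxU : x ∈ U
    · exact ⟨U, hU, Set.insert_subset hxU hZU⟩
    · obtain ⟨V, hV, hxV⟩ : ∃ V : X.Opens, IsAffineOpen V ∧ x ∈ V := by
        obtain ⟨_, ⟨V, hV, rfl⟩, hxV, -⟩ := X.isBasis_affineOpens.exists_subset_of_mem_open
          (Set.mem_univ x) isOpen_univ
        exact ⟨V, hV, hxV⟩
      haveI : IsAffine (V : Scheme.{u}) := hV
      let y : ↥(V : Scheme.{u}) := ⟨x, hxV⟩
      have hy : ringKrullDim ↥((V : Scheme.{u}).presheaf.stalk y) = 0 := by
        rw [Groth.Agent.R2.H45.Dim.ringKrullDim_stalk_eq_of_etale V.ι y]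
        exact hdim x (Set.mem_insert _ _)
      let K : Set ↥(V : Scheme.{u}) := V.ι ⁻¹' (U : Set ↥X)
      have hKo : IsOpen K := U.isOpen.preimage V.ι.continuous
      have hK : IsCompact K := by
        rw [V.ι.isOpenEmbedding.isInducing.isCompact_iff, Set.image_preimage_eq_inter_range,
          Scheme.Opens.range_ι]
        exact QuasiSeparatedSpace.inter_isCompact _ _ U.isOpen hU.isCompact V.isOpen hV.isCompact
      obtain ⟨N, hyN, hNK⟩ := exists_open_disjoint_of_dim_zero (V : Scheme.{u}) y hy K hK hKo hxU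
      obtain ⟨V', hV', hxV', hV'N⟩ : ∃ V' : X.Opens, IsAffineOpen V' ∧ x ∈ V' ∧
          (V' : Set ↥X) ⊆ V.ι '' (N : Set ↥(V : Scheme.{u})) := by
        obtain ⟨_, ⟨V', hV', rfl⟩, hxV', hsub⟩ := X.isBasis_affineOpens.exists_subset_of_mem_open
          (show x ∈ V.ι '' (N : Set ↥(V : Scheme.{u})) from ⟨y, hyN, rfl⟩)
          (V.ι.isOpenEmbedding.isOpenMap _ N.isOpen)
        exact ⟨V', hV', hxV', hsub⟩
      have hdisj : Disjoint U V' := by
        rw [← TopologicalSpace.Opens.coe_disjoint, Set.disjoint_left]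
        intro z hzU hzV'
        obtain ⟨w, hwN, rfl⟩ := hV'N hzV'
        exact Set.disjoint_left.1 hNK hwN hzU
      refine ⟨U ⊔ V', hU.sup_of_disjoint hV' hdisj, ?_⟩
      intro z hz
      rcases hz with rfl | hz
      · exact Or.inr hxV'
      · exact Or.inl (hZU hz)

/-- every nonempty open subset of a scheme contains a point with zero-dimensional local ring. -/
theorem exists_dim_zero_mem (X : Scheme.{u}) (V : Set ↥X) (hV : IsOpen V) (hne : V.Nonempty) :
    ∃ x ∈ V, ringKrullDim ↥(X.presheaf.stalk x) = 0 := by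
  obtain ⟨x₀, hx₀⟩ := hne
  have hC : IsIrreducible (irreducibleComponent x₀) := isIrreducible_irreducibleComponent
  have hCc : IsClosed (irreducibleComponent x₀) := isClosed_irreducibleComponent
  have hη : IsGenericPoint hC.genericPoint (irreducibleComponent x₀) := by
    have := hC.isGenericPoint_genericPoint_closure
    rwa [hCc.closure_eq] at this
  set η := hC.genericPoint with hηdef
  have hsp : η ⤳ x₀ := hη.specializes mem_irreducibleComponent
  refine ⟨η, hsp.mem_open hV hx₀, ?_⟩
  apply Groth.Agent.R2.H45.CodimOne.ringKrullDim_stalk_eq_zero_of_maximal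
  intro τ hτ
  have h1 : irreducibleComponent x₀ ⊆ closure {τ} := by
    rw [← hη.def]
    exact hτ.closure_subset
  have h2 : closure {τ} = irreducibleComponent x₀ :=
    eq_irreducibleComponent isIrreducible_singleton.closure.isPreirreducible h1
  have h3 : Inseparable τ η := by
    rw [inseparable_iff_closure_eq, h2, hη.def]
  exact h3.eq

end Groth.Agent.R2.H45.FinEtQuot
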