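import Mathlib
import Groth.Prelude.Def_AlgSpDec
import Groth.Agent.R2.H45HasAtMor
import Groth.Agent.S9947
import Groth.Agent.S10554
import Groth.Agent.Lib.Helper12LargestOpen

/-!
# Chart diagrams of base change squares from prescribed charts (helper45)
-/

set_option autoImplicit false
set_option linter.style.haveILetI false
universe u
open CategoryTheory CategoryTheory.Limits AlgebraicGeometry

namespace Groth.Agent.R2.H45.BCChart

variable {S : Scheme.{u}}

/-- cancellation for representable étale maps from schemes into algebraic spaces. -/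
theorem repWith_etale_cancel {A : Over S} {Q X : AlgSp.Sp S} (hQ : AlgSp.IsAlgSpace Q)
    (u : (AlgSp.yon S).obj A ⟶ Q) (g : Q ⟶ X) (hg : AlgSp.RepWith @Etale g)
    (hug : AlgSp.RepWith @Etale (u ≫ g)) : AlgSp.RepWith @Etale u := by
  have h1 : AlgSp.LocP @Etale (u ≫ g) :=
    Groth.Agent.S9947.locP_of_repWith_etale @Etale (fun _ hg => hg) _ hug
  have h2 : AlgSp.LocP @Etale u := Groth.Agent.Lib.Helper12.LargestOpen.locP_cancel_repEtale _ u g hg h1
  have h3 := Groth.Agent.S10554.isEtaleMor_of_locP hQ u h2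
  have := h3 (𝟙 _) (AlgSp.repWith_id _ _)
  rwa [Category.id_comp] at this

/-- the chart of a base change `X' = X ×_Y Y'` induced by a chart diagram `(U, V, h)` of `f` and a
chart `V'` of `Y'` over `V` is étale. -/
theorem repWith_etale_baseChange_chart {X Y X' Y' : AlgSp.Sp S} (hX : AlgSp.IsAlgSpace X)
    (hY : AlgSp.IsAlgSpace Y) {f : X ⟶ Y} {g : Y' ⟶ Y} {g' : X' ⟶ X}
    {f' : X' ⟶ Y'} (sq : IsPullback g' f' f g) {U V V' W : Over S}
    (a : (AlgSp.yon S).obj U ⟶ X) (b : (AlgSp.yon S).obj V ⟶ Y)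
    (b' : (AlgSp.yon S).obj V' ⟶ Y') (h : U ⟶ V) (κ : V' ⟶ V)
    (ha : AlgSp.RepWith @Etale a) (hb : AlgSp.RepWith @Etale b) (hb' : AlgSp.RepWith @Etale b')
    (c1 : a ≫ f = (AlgSp.yon S).map h ≫ b) (c2 : b' ≫ g = (AlgSp.yon S).map κ ≫ b)
    (p1 : W ⟶ U) (p2 : W ⟶ V') (hW : IsPullback p1 p2 h κ)
    (a' : (AlgSp.yon S).obj W ⟶ X') (c3 : a' ≫ f' = (AlgSp.yon S).map p2 ≫ b')
    (c4 : a' ≫ g' = (AlgSp.yon S).map p1 ≫ a) : AlgSp.RepWith @Etale a' := by
  have hXV : AlgSp.IsAlgSpace (pullback f b) :=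
    Groth.Agent.S9874.isAlgSpace_of_isPullback hY.diag hX (AlgSp.IsAlgSpace.yon_obj V)
      (IsPullback.of_hasPullback f b)
  have hpr1 : AlgSp.RepWith @Etale (pullback.fst f b) :=
    MorphismProperty.of_isPullback (P := AlgSp.RepWith @Etale)
      (IsPullback.of_hasPullback f b).flip hb
  have hpr1' : AlgSp.RepWith @Etale (pullback.fst f' b') :=
    MorphismProperty.of_isPullback (P := AlgSp.RepWith @Etale)
      (IsPullback.of_hasPullback f' b').flip hb'
  -- the chart of `X ×_Y V`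
  obtain ⟨u, hu⟩ : ∃ u : (AlgSp.yon S).obj U ⟶ pullback f b,
      u = pullback.lift a ((AlgSp.yon S).map h) c1 := ⟨_, rfl⟩
  have hu1 : u ≫ pullback.fst f b = a := by rw [hu, pullback.lift_fst]
  have hu2 : u ≫ pullback.snd f b = (AlgSp.yon S).map h := by rw [hu, pullback.lift_snd]
  have hue : AlgSp.RepWith @Etale u :=
    repWith_etale_cancel hXV u (pullback.fst f b) hpr1 (by rw [hu1]; exact ha)
  -- the map `Q' ⟶ Q`
  have hw : (pullback.fst f' b' ≫ g') ≫ f = (pullback.snd f' b' ≫ (AlgSp.yon S).map κ) ≫ b := by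
    rw [Category.assoc, sq.w, ← Category.assoc, pullback.condition, Category.assoc, Category.assoc,
      c2]
  obtain ⟨ρ, hρ⟩ : ∃ ρ : pullback f' b' ⟶ pullback f b,
      ρ = pullback.lift (pullback.fst f' b' ≫ g') (pullback.snd f' b' ≫ (AlgSp.yon S).map κ) hw :=
    ⟨_, rfl⟩
  have hρ1 : ρ ≫ pullback.fst f b = pullback.fst f' b' ≫ g' := by rw [hρ, pullback.lift_fst]
  have hρ2 : ρ ≫ pullback.snd f b = pullback.snd f' b' ≫ (AlgSp.yon S).map κ := by
    rw [hρ, pullback.lift_snd]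
  have big : IsPullback (pullback.fst f' b' ≫ g') (pullback.snd f' b') f (b' ≫ g) :=
    (IsPullback.of_hasPullback f' b').paste_horiz sq
  have sqρ : IsPullback ρ (pullback.snd f' b') (pullback.snd f b) ((AlgSp.yon S).map κ) := by
    refine IsPullback.of_right ?_ hρ2 (IsPullback.of_hasPullback f b)
    rw [hρ1, ← c2]
    exact big
  -- the chart of `Q'`
  have sqκ : IsPullback ((AlgSp.yon S).map p1) ((AlgSp.yon S).map p2) ((AlgSp.yon S).map h)
      ((AlgSp.yon S).map κ) := hW.map (AlgSp.yon S)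
  obtain ⟨φ, hφ⟩ : ∃ φ : (AlgSp.yon S).obj W ⟶ pullback f' b',
      φ = pullback.lift a' ((AlgSp.yon S).map p2) c3 := ⟨_, rfl⟩
  have hφ1' : φ ≫ pullback.fst f' b' = a' := by rw [hφ, pullback.lift_fst]
  have hφ2 : φ ≫ pullback.snd f' b' = (AlgSp.yon S).map p2 := by rw [hφ, pullback.lift_snd]
  have hφ1 : φ ≫ ρ = (AlgSp.yon S).map p1 ≫ u := by
    apply pullback.hom_ext
    · rw [Category.assoc, hρ1, ← Category.assoc, hφ1', c4, Category.assoc, hu1]
    · rw [Category.assoc, hρ2, ← Category.assoc, hφ2, Category.assoc, hu2, sqκ.w]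
  have left : IsPullback φ ((AlgSp.yon S).map p1) ρ u := by
    refine IsPullback.of_right ?_ hφ1 sqρ.flip
    rw [hφ2, hu2]
    exact sqκ.flip
  have hφe : AlgSp.RepWith @Etale φ :=
    MorphismProperty.of_isPullback (P := AlgSp.RepWith @Etale) left.flip hue
  rw [← hφ1']
  exact (AlgSp.repWith_isMultiplicative (S := S) @Etale).comp_mem _ _ hφe hpr1'

end Groth.Agent.R2.H45.BCChart
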