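import Mathlib
import Groth.Prelude.Def_AlgSp
import Groth.Agent.Lib.Helper12QuotSh
import Groth.Agent.S9884
import Groth.Agent.R2.H43CutOut

/-!
# Quotient sheaves of equivalence relations of schemes over `S` (helper43)

Namespace `Groth.Agent.R2.H43.Quot`.

* `eqvRel`: Mathlib's internal `EquivalenceRelation` from the pointwise `AlgSp.IsEqvRel`.
* `πy s t : h_U ⟶ U/R`: the quotient map written on Mathlib's representable sheaf; `πy_condition`, `epi_πy`,
  `isPullback_πy` (for an equivalence relation, `h_R` with `h_t, h_s` is the kernel pair of the quotient map),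
  `exists_rel_of_πy_eq`.
* `exists_factor_of_sieve`: factorizations through a monomorphism of sheaves glue along a covering sieve.
-/

set_option autoImplicit false
universe u
open CategoryTheory CategoryTheory.Limits AlgebraicGeometry Opposite
open AlgSp

namespace Groth.Agent.R2.H43.Quot

open Groth.Agent.Lib.Helper9 Groth.Agent.Lib.Helper12.QuotShLib Groth.Agent.S13210
  Groth.Agent.Lib.Helper12.ZarGlue

variable {S : Scheme.{u}}

/-- Mathlib's internal equivalence relation structure from the pointwise `AlgSp.IsEqvRel`. -/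
noncomputable def eqvRel {R U : Over S} {s t : R ⟶ U} (h : AlgSp.IsEqvRel s t) :
    EquivalenceRelation s t := by
  have hjm : JointlyMono₂ s t := ⟨fun {T} f g h₁ h₂ => h.injective T f g h₂ h₁⟩
  have hr := (h.equivalence U).refl (𝟙 U)
  have hs := (h.equivalence R).symm ⟨𝟙 R, Category.id_comp _, Category.id_comp _⟩
  have ht := (h.equivalence (pullback t s)).trans
    ⟨pullback.snd t s, rfl, rfl⟩ ⟨pullback.fst t s, pullback.condition, rfl⟩
  exact
    { toJointlyMono₂ := hjm
      r := hr.choose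
      reflexivity₁ := hr.choose_spec.2
      reflexivity₂ := hr.choose_spec.1
      s := hs.choose
      symmetry₁ := hs.choose_spec.2
      symmetry₂ := hs.choose_spec.1
      c := pullback.cone t s
      isLimit := pullback.isLimit t s
      t := ht.choose
      transitivity₁ := ht.choose_spec.2
      transitivity₂ := ht.choose_spec.1 }

/-- naturality of the identification of `rep` with the representable sheaf. -/
lemma repIso_inv_naturality {V W : Over S} (g : V ⟶ W) :
    (AlgSp.yon S).map g ≫ (QuotSh.repIsoUliftYoneda Scheme.fppfPrecoverage W).inv =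
      (QuotSh.repIsoUliftYoneda Scheme.fppfPrecoverage V).inv ≫
        QuotSh.repMap Scheme.fppfPrecoverage g :=
  (sheafificationNatIso (AlgSp.J S) (Type (u + 1))).hom.naturality ((AlgSp.yon S).map g)

/-- the quotient map on Mathlib's representable sheaf. -/
noncomputable def πy {R U : Over S} (s t : R ⟶ U) :
    (AlgSp.yon S).obj U ⟶ QuotSh.quot Scheme.fppfPrecoverage s t :=
  (QuotSh.repIsoUliftYoneda Scheme.fppfPrecoverage U).inv ≫ QuotSh.quotπ Scheme.fppfPrecoverage s t

lemma πy_condition {R U : Over S} (s t : R ⟶ U) :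
    (AlgSp.yon S).map s ≫ πy s t = (AlgSp.yon S).map t ≫ πy s t := by
  unfold πy
  rw [← Category.assoc, ← Category.assoc, repIso_inv_naturality, repIso_inv_naturality,
    Category.assoc, Category.assoc, QuotSh.quot_condition]

instance epi_πy {R U : Over S} (s t : R ⟶ U) : Epi (πy s t) := by
  unfold πy
  haveI : Epi (QuotSh.quotπ Scheme.fppfPrecoverage s t) := by
    unfold QuotSh.quotπ; exact coequalizer.π_epi
  exact epi_comp _ _

instance locSurj_πy {R U : Over S} (s t : R ⟶ U) : Sheaf.IsLocallySurjective (πy s t) :=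
  (Sheaf.isLocallySurjective_iff_epi _).mpr inferInstance

/-- for an equivalence relation, `h_R` with `h_t, h_s` is the kernel pair of the quotient map. -/
theorem isPullback_πy {R U : Over S} (s t : R ⟶ U) (h : AlgSp.IsEqvRel s t) :
    IsPullback ((AlgSp.yon S).map t) ((AlgSp.yon S).map s) (πy s t) (πy s t) := by
  set eU := QuotSh.repIsoUliftYoneda Scheme.fppfPrecoverage U with heU
  set eR := QuotSh.repIsoUliftYoneda Scheme.fppfPrecoverage R with heR
  set π := QuotSh.quotπ Scheme.fppfPrecoverage s t with hπ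
  have e : EquivalenceRelation s t := eqvRel h
  have : JointlyMono₂ s t := e.toReflexiveRelation.toJointlyMono₂
  have : JointlyMono₂ ((repFunctor Scheme.fppfPrecoverage S).map s)
      ((repFunctor Scheme.fppfPrecoverage S).map t) :=
    jointlyMono₂_map (repFunctor Scheme.fppfPrecoverage S) s t
  have e' : EquivalenceRelation (QuotSh.repMap Scheme.fppfPrecoverage s)
      (QuotSh.repMap Scheme.fppfPrecoverage t) :=
    equivalenceRelationMap (repFunctor Scheme.fppfPrecoverage S) s t e
  have hk : IsKernelPair π (QuotSh.repMap Scheme.fppfPrecoverage s)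
      (QuotSh.repMap Scheme.fppfPrecoverage t) :=
    sheaf_isKernelPair_of_isColimit (QuotSh.J Scheme.fppfPrecoverage S) e' π
      (QuotSh.quot_condition Scheme.fppfPrecoverage s t) (coequalizerIsCoequalizer _ _)
  refine IsPullback.of_iso hk.flip eR eU eU (Iso.refl _) ?_ ?_ ?_ ?_
  · rw [← cancel_mono eU.inv, Category.assoc, Category.assoc, Iso.hom_inv_id, Category.comp_id,
      repIso_inv_naturality, Iso.hom_inv_id_assoc]
  · rw [← cancel_mono eU.inv, Category.assoc, Category.assoc, Iso.hom_inv_id, Category.comp_id,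
      repIso_inv_naturality, Iso.hom_inv_id_assoc]
  · unfold πy
    exact ((Category.comp_id _).trans (Iso.hom_inv_id_assoc _ _).symm)
  · unfold πy
    exact ((Category.comp_id _).trans (Iso.hom_inv_id_assoc _ _).symm)

/-- two points of `U` with the same image in `U/R` are related by a point of `R`. -/
theorem exists_rel_of_πy_eq {R U : Over S} (s t : R ⟶ U) (h : AlgSp.IsEqvRel s t)
    {W : AlgSp.Sp S} (a b : W ⟶ (AlgSp.yon S).obj U) (hab : a ≫ πy s t = b ≫ πy s t) :
    ∃ r : W ⟶ (AlgSp.yon S).obj R, r ≫ (AlgSp.yon S).map t = a ∧ r ≫ (AlgSp.yon S).map s = b :=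
  ⟨(isPullback_πy s t h).lift a b hab, (isPullback_πy s t h).lift_fst _ _ _,
    (isPullback_πy s t h).lift_snd _ _ _⟩

/-- factorizations through a monomorphism of sheaves glue along a covering sieve of the source. -/
theorem exists_factor_of_sieve {G H : AlgSp.Sp S} (i : G ⟶ H) [Mono i] {W : Over S}
    (φ : (AlgSp.yon S).obj W ⟶ H) (R : Sieve W) (hmem : R ∈ AlgSp.J S W)
    (h : ∀ ⦃Y : Over S⦄ (f : Y ⟶ W), R f →
      ∃ d : (AlgSp.yon S).obj Y ⟶ G, d ≫ i = (AlgSp.yon S).map f ≫ φ) :
    ∃ d : (AlgSp.yon S).obj W ⟶ G, d ≫ i = φ := by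
  choose d hd using h
  have hshG : Presieve.IsSheaf (AlgSp.J S) G.obj := (isSheaf_iff_isSheaf_of_type _ _).1 G.property
  have hshH : Presieve.IsSheaf (AlgSp.J S) H.obj := (isSheaf_iff_isSheaf_of_type _ _).1 H.property
  let x : Presieve.FamilyOfElements G.obj R.arrows := fun Y f hf => yEquiv _ G (d f hf)
  have hx : x.Compatible := by
    intro Y₁ Y₂ Z g₁ g₂ f₁ f₂ h₁ h₂ hcomm
    change G.obj.map g₁.op (yEquiv _ G (d f₁ h₁)) = G.obj.map g₂.op (yEquiv _ G (d f₂ h₂))
    rw [map_yEquiv, map_yEquiv]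
    congr 1
    rw [← cancel_mono i, Category.assoc, Category.assoc, hd, hd, ← Functor.map_comp_assoc,
      ← Functor.map_comp_assoc, hcomm]
  obtain ⟨t, ht, -⟩ := hshG R hmem x hx
  refine ⟨(yEquiv _ G).symm t, ?_⟩
  apply (yEquiv _ H).injective
  refine (hshH R hmem).isSeparatedFor.ext ?_
  intro Y f hf
  rw [map_yEquiv, map_yEquiv, ← hd f hf, ← Category.assoc]
  congr 2
  apply (yEquiv _ G).injective
  rw [← map_yEquiv, Equiv.apply_symm_apply]
  exact ht f hf

section YonProd

/-- maps into `h_{A × B}` are determined by their two components. -/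
lemma yon_prod_hom_ext {W : AlgSp.Sp S} {A B : Over S} (m₁ m₂ : W ⟶ (AlgSp.yon S).obj (A ⨯ B))
    (h₁ : m₁ ≫ (AlgSp.yon S).map prod.fst = m₂ ≫ (AlgSp.yon S).map prod.fst)
    (h₂ : m₁ ≫ (AlgSp.yon S).map prod.snd = m₂ ≫ (AlgSp.yon S).map prod.snd) : m₁ = m₂ := by
  rw [← cancel_mono (prodComparison (AlgSp.yon S) A B)]
  apply Limits.prod.hom_ext
  · rw [Category.assoc, Category.assoc, prodComparison_fst]
    exact h₁
  · rw [Category.assoc, Category.assoc, prodComparison_snd]
    exact h₂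

/-- the map into `h_{A × B}` with given components. -/
noncomputable def yonProdLift {W : AlgSp.Sp S} {A B : Over S} (a : W ⟶ (AlgSp.yon S).obj A)
    (b : W ⟶ (AlgSp.yon S).obj B) : W ⟶ (AlgSp.yon S).obj (A ⨯ B) :=
  prod.lift a b ≫ inv (prodComparison (AlgSp.yon S) A B)

lemma yonProdLift_fst {W : AlgSp.Sp S} {A B : Over S} (a : W ⟶ (AlgSp.yon S).obj A)
    (b : W ⟶ (AlgSp.yon S).obj B) : yonProdLift a b ≫ (AlgSp.yon S).map prod.fst = a := by
  unfold yonProdLift
  rw [Category.assoc, ← prodComparison_fst (AlgSp.yon S), IsIso.inv_hom_id_assoc, prod.lift_fst]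

lemma yonProdLift_snd {W : AlgSp.Sp S} {A B : Over S} (a : W ⟶ (AlgSp.yon S).obj A)
    (b : W ⟶ (AlgSp.yon S).obj B) : yonProdLift a b ≫ (AlgSp.yon S).map prod.snd = b := by
  unfold yonProdLift
  rw [Category.assoc, ← prodComparison_snd (AlgSp.yon S), IsIso.inv_hom_id_assoc, prod.lift_snd]

end YonProd

section Restrict

variable {R U R' U' : Over S} {s t : R ⟶ U} {g : U' ⟶ U} {s' t' : R' ⟶ U'} {r : R' ⟶ R}
  {φ : QuotSh.quot Scheme.fppfPrecoverage s' t' ⟶ QuotSh.quot Scheme.fppfPrecoverage s t}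

/-- the compatibility of `φ` with the quotient maps, on representable sheaves. -/
lemma πy_comp_φ
    (hφ : QuotSh.quotπ Scheme.fppfPrecoverage s' t' ≫ φ =
      QuotSh.repMap Scheme.fppfPrecoverage g ≫ QuotSh.quotπ Scheme.fppfPrecoverage s t) :
    πy s' t' ≫ φ = (AlgSp.yon S).map g ≫ πy s t := by
  unfold πy
  rw [Category.assoc, hφ, ← Category.assoc, ← repIso_inv_naturality, Category.assoc]

/-- the induced map on quotients of a restricted equivalence relation is a monomorphism. -/
theorem mono_φ (hsq : IsPullback (prod.lift t' s') r (prod.map g g) (prod.lift t s))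
    (hR : AlgSp.IsEqvRel s t) (hφ' : πy s' t' ≫ φ = (AlgSp.yon S).map g ≫ πy s t) : Mono φ := by
  constructor
  intro W x y hxy
  obtain ⟨W₁, e, he, a, b, ha, hb⟩ :=
    ToposLike.exists_local_lift₂ (πy s' t') inferInstance x y
  have h1 : (a ≫ (AlgSp.yon S).map g) ≫ πy s t = (b ≫ (AlgSp.yon S).map g) ≫ πy s t := by
    rw [Category.assoc, Category.assoc, ← hφ', ← Category.assoc, ← Category.assoc, ← ha, ← hb,
      Category.assoc, Category.assoc, hxy]
  obtain ⟨r₀, hr1, hr2⟩ := exists_rel_of_πy_eq s t hR _ _ h1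
  have hsq' := hsq.map (AlgSp.yon S)
  have hcomp : yonProdLift a b ≫ (AlgSp.yon S).map (prod.map g g) =
      r₀ ≫ (AlgSp.yon S).map (prod.lift t s) := by
    apply yon_prod_hom_ext
    · rw [Category.assoc, Category.assoc, ← Functor.map_comp, ← Functor.map_comp, prod.map_fst,
        prod.lift_fst, Functor.map_comp, ← Category.assoc, yonProdLift_fst, hr1]
    · rw [Category.assoc, Category.assoc, ← Functor.map_comp, ← Functor.map_comp, prod.map_snd,
        prod.lift_snd, Functor.map_comp, ← Category.assoc, yonProdLift_snd, hr2]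
  have hl1 := hsq'.lift_fst _ _ hcomp
  set l := hsq'.lift _ _ hcomp with hl
  have hlt : l ≫ (AlgSp.yon S).map t' = a := by
    have := congrArg (fun m => m ≫ (AlgSp.yon S).map prod.fst) hl1
    simp only [Category.assoc, ← Functor.map_comp, prod.lift_fst] at this
    rw [this, yonProdLift_fst]
  have hls : l ≫ (AlgSp.yon S).map s' = b := by
    have := congrArg (fun m => m ≫ (AlgSp.yon S).map prod.snd) hl1
    simp only [Category.assoc, ← Functor.map_comp, prod.lift_snd] at this
    rw [this, yonProdLift_snd]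
  haveI := he
  rw [← cancel_epi e, ha, hb, ← hlt, ← hls, Category.assoc, Category.assoc, πy_condition]

end Restrict

section Fppf

lemma exists_mem_range_of_mem_fppf {X : Scheme.{u}} {R₁ : Presieve X}
    (h : R₁ ∈ Scheme.fppfPrecoverage X) (x : X) :
    ∃ (Y : Scheme.{u}) (g₁ : Y ⟶ X), R₁ g₁ ∧ x ∈ Set.range g₁ := by
  have h1 := h.1
  rw [Precoverage.mem_comap_iff] at h1
  obtain ⟨Y, g, hg, hx⟩ := h1 x
  cases hg with
  | of hg₀ => exact ⟨_, _, hg₀, hx⟩

lemma flat_lfp_of_mem_fppf {X : Scheme.{u}} {R₁ : Presieve X}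
    (h : R₁ ∈ Scheme.fppfPrecoverage X) {Y : Scheme.{u}} (g₁ : Y ⟶ X) (hg : R₁ g₁) :
    Flat g₁ ∧ LocallyOfFinitePresentation g₁ := h.2 hg

/-- base change in `Over S` of a flat lfp morphism (first projection). -/
lemma flat_lfp_pullback_fst {A B C : Over S} (a : A ⟶ C) (b : B ⟶ C) [Flat b.left]
    [LocallyOfFinitePresentation b.left] :
    Flat (pullback.fst a b).left ∧ LocallyOfFinitePresentation (pullback.fst a b).left := by
  have sq : IsPullback (pullback.fst a b).left (pullback.snd a b).left a.left b.left :=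
    (IsPullback.of_hasPullback a b).map (Over.forget S)
  exact ⟨MorphismProperty.of_isPullback (P := @Flat) sq.flip inferInstance,
    MorphismProperty.of_isPullback (P := @LocallyOfFinitePresentation) sq.flip inferInstance⟩

/-- points of a fibre product in `Over S`. -/
lemma exists_point_pullback {A B C : Over S} (a : A ⟶ C) (b : B ⟶ C) (x : A.left) (y : B.left)
    (h : a.left x = b.left y) :
    ∃ z : (pullback a b).left, (pullback.fst a b).left z = x ∧ (pullback.snd a b).left z = y := by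
  have sq : IsPullback (pullback.fst a b).left (pullback.snd a b).left a.left b.left :=
    (IsPullback.of_hasPullback a b).map (Over.forget S)
  exact Groth.Agent.Lib.Helper12.exists_preimage_of_isPullback sq x y h

end Fppf

section Open

variable {R U R' U' : Over S} {s t : R ⟶ U} {g : U' ⟶ U} {s' t' : R' ⟶ U'}
  {φ : QuotSh.quot Scheme.fppfPrecoverage s' t' ⟶ QuotSh.quot Scheme.fppfPrecoverage s t}

variable (s t g) in
/-- the map from pairs `(ρ, u')` with `s ρ = g u'` to `U`, sending `(ρ, u')` to `t ρ`: its image is the saturation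
of the image of `g`. -/
noncomputable def τ : pullback s g ⟶ U := pullback.fst s g ≫ t

lemma flat_lfp_τ [Flat t.left] [LocallyOfFinitePresentation t.left] [Flat g.left]
    [LocallyOfFinitePresentation g.left] :
    Flat (τ s t g).left ∧ LocallyOfFinitePresentation (τ s t g).left := by
  obtain ⟨h1, h2⟩ := flat_lfp_pullback_fst s g
  unfold τ
  rw [Over.comp_left]
  exact ⟨inferInstance, inferInstance⟩

/-- points coming from the saturation lie in the image of `φ`. -/
lemma yon_τ_comp (hφ' : πy s' t' ≫ φ = (AlgSp.yon S).map g ≫ πy s t) {P : Over S}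
    (v : P ⟶ pullback s g) :
    (AlgSp.yon S).map (v ≫ τ s t g) ≫ πy s t =
      ((AlgSp.yon S).map (v ≫ pullback.snd s g) ≫ πy s' t') ≫ φ := by
  have e1 : v ≫ τ s t g = (v ≫ pullback.fst s g) ≫ t := by
    unfold τ
    rw [Category.assoc]
  have e2 : (v ≫ pullback.snd s g) ≫ g = (v ≫ pullback.fst s g) ≫ s := by
    rw [Category.assoc, Category.assoc, pullback.condition]
  rw [Category.assoc, hφ', e1, Functor.map_comp, Category.assoc, ← πy_condition,
    ← Category.assoc, ← Functor.map_comp, ← e2, Functor.map_comp, Category.assoc]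

/-- a point of `U` whose class lies in the image of `φ` lands in the saturation of the image of `g`. -/
lemma range_subset_of_factor (hR : AlgSp.IsEqvRel s t)
    (hφ' : πy s' t' ≫ φ = (AlgSp.yon S).map g ≫ πy s t) {P : Over S} (c : P ⟶ U)
    (η : (AlgSp.yon S).obj P ⟶ QuotSh.quot Scheme.fppfPrecoverage s' t')
    (hη : η ≫ φ = (AlgSp.yon S).map c ≫ πy s t) :
    Set.range c.left ⊆ Set.range (τ s t g).left := by
  rintro _ ⟨p, rfl⟩
  obtain ⟨R₁, hR₁, hlift⟩ := Groth.Agent.S9884.exists_fppf_lift (πy s' t') η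
  obtain ⟨Y, g₁, hg₁, y, rfl⟩ := exists_mem_range_of_mem_fppf hR₁ p
  obtain ⟨d, hd⟩ := hlift g₁ hg₁
  obtain ⟨u', rfl⟩ := (AlgSp.yon S).map_surjective d
  set q : Over.mk (g₁ ≫ P.hom) ⟶ P := Over.homMk g₁ with hq
  have h1 : ((AlgSp.yon S).map q ≫ (AlgSp.yon S).map c) ≫ πy s t =
      ((AlgSp.yon S).map u' ≫ (AlgSp.yon S).map g) ≫ πy s t := by
    rw [Category.assoc, ← hη, ← Category.assoc, ← hd, Category.assoc, Category.assoc, hφ']
  obtain ⟨r₁, hr1, hr2⟩ := exists_rel_of_πy_eq s t hR _ _ h1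
  obtain ⟨ρ, rfl⟩ := (AlgSp.yon S).map_surjective r₁
  have hρt : ρ ≫ t = q ≫ c := by
    apply (AlgSp.yon S).map_injective
    rw [Functor.map_comp, hr1, Functor.map_comp]
  have hρs : ρ ≫ s = u' ≫ g := by
    apply (AlgSp.yon S).map_injective
    rw [Functor.map_comp, hr2, Functor.map_comp]
  refine ⟨(pullback.lift ρ u' hρs).left y, ?_⟩
  have h2 : pullback.lift ρ u' hρs ≫ τ s t g = q ≫ c := by
    unfold τ
    rw [pullback.lift_fst_assoc, hρt]
  have h3 := congrArg (fun m => m.left y) h2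
  simpa [hq] using h3

end Open

section Main

/-- a jointly surjective family (indexed in any universe) of flat, locally finitely presented morphisms is a
covering sieve. -/
lemma ofArrows_mem_J' {W : Over S} {κ : Type*} (Y : κ → Over S) (f : ∀ k, Y k ⟶ W)
    (hf : ∀ k, Flat (f k).left ∧ LocallyOfFinitePresentation (f k).left)
    (hs : ∀ w : W.left, ∃ k, w ∈ Set.range (f k).left) :
    Sieve.ofArrows Y f ∈ AlgSp.J S W := by
  rw [GrothendieckTopology.mem_over_iff, Sieve.overEquiv_ofArrows]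
  apply Precoverage.generate_mem_toGrothendieck
  rw [Scheme.fppfPrecoverage, Scheme.ofArrows_mem_precoverage_iff]
  exact ⟨hs, fun k => ⟨(hf k).1, (hf k).2⟩⟩

variable {R U R' U' : Over S} {s t : R ⟶ U} {g : U' ⟶ U} {s' t' : R' ⟶ U'} {r : R' ⟶ R}
  {φ : QuotSh.quot Scheme.fppfPrecoverage s' t' ⟶ QuotSh.quot Scheme.fppfPrecoverage s t}

/-- the map of quotient sheaves induced by a flat lfp restriction of an fppf equivalence relation is representable by
open immersions. -/
theorem repWith_isOpenImmersion_φ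
    (hsq : IsPullback (prod.lift t' s') r (prod.map g g) (prod.lift t s)) (hR : AlgSp.IsEqvRel s t)
    [Flat t.left] [LocallyOfFinitePresentation t.left] [Flat g.left]
    [LocallyOfFinitePresentation g.left]
    (hφ' : πy s' t' ≫ φ = (AlgSp.yon S).map g ≫ πy s t) :
    AlgSp.RepWith @IsOpenImmersion φ := by
  haveI : Mono φ := mono_φ hsq hR hφ'
  refine MorphismProperty.relative.of_exists (fun T ξ => ?_)
  obtain ⟨R₀, hR₀, hlift⟩ := Groth.Agent.S9884.exists_fppf_lift (πy s t) ξ
  have hlift' : ∀ (p : Σ Y : Scheme.{u}, {g₀ : Y ⟶ T.left // R₀ g₀}),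
      ∃ a : Over.mk (p.2.1 ≫ T.hom) ⟶ U, (AlgSp.yon S).map a ≫ πy s t =
        (AlgSp.yon S).map (Over.homMk p.2.1 : Over.mk (p.2.1 ≫ T.hom) ⟶ T) ≫ ξ := by
    intro p
    obtain ⟨d, hd⟩ := hlift p.2.1 p.2.2
    obtain ⟨a, rfl⟩ := (AlgSp.yon S).map_surjective d
    exact ⟨a, hd⟩
  choose a ha using hlift'
  let q₀ : ∀ p : (Σ Y : Scheme.{u}, {g₀ : Y ⟶ T.left // R₀ g₀}), Over.mk (p.2.1 ≫ T.hom) ⟶ T :=
    fun p => Over.homMk p.2.1
  let n : ∀ p, pullback (a p) (τ s t g) ⟶ T := fun p => pullback.fst (a p) (τ s t g) ≫ q₀ p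
  have hn : ∀ p, Flat (n p).left ∧ LocallyOfFinitePresentation (n p).left := by
    intro p
    obtain ⟨h1, h2⟩ := flat_lfp_τ (s := s) (t := t) (g := g)
    obtain ⟨h3, h4⟩ := flat_lfp_pullback_fst (a p) (τ s t g)
    obtain ⟨h5, h6⟩ := flat_lfp_of_mem_fppf hR₀ p.2.1 p.2.2
    have e : (n p).left = (pullback.fst (a p) (τ s t g)).left ≫ p.2.1 := rfl
    rw [e]
    exact ⟨inferInstance, inferInstance⟩
  let T₀ : T.left.Opens := ⟨⋃ p, Set.range (n p).left, isOpen_iUnion (fun p => by
    obtain ⟨h1, h2⟩ := hn p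
    exact (n p).left.isOpenMap.isOpen_range)⟩
  let T₀o : Over S := Over.mk (T₀.ι ≫ T.hom)
  let ι₀ : T₀o ⟶ T := Over.homMk T₀.ι rfl
  -- points landing in `T₀` have their class in the image of `φ`
  have E1 : ∀ (T' : Over S) (t₁ : T' ⟶ T), Set.range t₁.left ⊆ (T₀ : Set T.left) →
      ∃ η : (AlgSp.yon S).obj T' ⟶ QuotSh.quot Scheme.fppfPrecoverage s' t',
        η ≫ φ = (AlgSp.yon S).map t₁ ≫ ξ := by
    intro T' t₁ hsub
    let Rcov : Sieve T' :=
      { arrows := fun Y f => ∃ η : (AlgSp.yon S).obj Y ⟶ QuotSh.quot Scheme.fppfPrecoverage s' t',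
          η ≫ φ = (AlgSp.yon S).map f ≫ (AlgSp.yon S).map t₁ ≫ ξ
        downward_closed := by
          rintro Y Z f ⟨η, hη⟩ h
          exact ⟨(AlgSp.yon S).map h ≫ η, by rw [Category.assoc, hη, Functor.map_comp, Category.assoc]⟩ }
    have hcov : Rcov ∈ AlgSp.J S T' := by
      have hmem : Sieve.ofArrows (fun p => pullback t₁ (n p)) (fun p => pullback.fst t₁ (n p)) ∈
          AlgSp.J S T' := by
        refine ofArrows_mem_J' _ _ (fun p => ?_) (fun x' => ?_)
        · obtain ⟨h1, h2⟩ := hn p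
          exact flat_lfp_pullback_fst t₁ (n p)
        · have hx : t₁.left x' ∈ (T₀ : Set T.left) := hsub ⟨x', rfl⟩
          obtain ⟨p, z, hz⟩ := Set.mem_iUnion.1 hx
          obtain ⟨w, hw1, -⟩ := exists_point_pullback t₁ (n p) x' z hz.symm
          exact ⟨p, w, hw1⟩
      refine GrothendieckTopology.superset_covering _ ?_ hmem
      rw [Sieve.ofArrows, Sieve.generate_le_iff]
      rintro Y f ⟨p⟩
      refine ⟨(AlgSp.yon S).map ((pullback.snd t₁ (n p) ≫ pullback.snd (a p) (τ s t g)) ≫
        pullback.snd s g) ≫ πy s' t', ?_⟩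
      rw [← yon_τ_comp hφ', Category.assoc, ← pullback.condition, ← Category.assoc,
        Functor.map_comp, Category.assoc, ha p, ← Category.assoc, ← Functor.map_comp,
        Category.assoc]
      change (AlgSp.yon S).map (pullback.snd t₁ (n p) ≫ n p) ≫ ξ = _
      rw [← pullback.condition, Functor.map_comp, Category.assoc]
    exact exists_factor_of_sieve φ _ Rcov hcov (fun Y f hf => hf)
  -- conversely
  have E2 : ∀ (T' : Over S) (t₁ : T' ⟶ T)
      (η : (AlgSp.yon S).obj T' ⟶ QuotSh.quot Scheme.fppfPrecoverage s' t'),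
      η ≫ φ = (AlgSp.yon S).map t₁ ≫ ξ → Set.range t₁.left ⊆ (T₀ : Set T.left) := by
    rintro T' t₁ η hη _ ⟨x', rfl⟩
    obtain ⟨Y, g₀, hg₀, y, hy⟩ := exists_mem_range_of_mem_fppf hR₀ (t₁.left x')
    let p : Σ Y : Scheme.{u}, {g₀ : Y ⟶ T.left // R₀ g₀} := ⟨Y, g₀, hg₀⟩
    obtain ⟨z, hz1, hz2⟩ := exists_point_pullback t₁ (q₀ p) x' y hy.symm
    have hc : ((AlgSp.yon S).map (pullback.fst t₁ (q₀ p)) ≫ η) ≫ φ =
        (AlgSp.yon S).map (pullback.snd t₁ (q₀ p) ≫ a p) ≫ πy s t := by
      rw [Category.assoc, hη, ← Category.assoc, ← Functor.map_comp, pullback.condition,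
        Functor.map_comp, Category.assoc, ← ha p, ← Category.assoc, ← Functor.map_comp]
    have hsub := range_subset_of_factor hR hφ' _ _ hc
    obtain ⟨m, hm⟩ := hsub ⟨z, rfl⟩
    have hm' : (a p).left y = (τ s t g).left m := by
      rw [hm, Over.comp_left, Scheme.Hom.comp_apply, hz2]
    obtain ⟨w, hw1, -⟩ := exists_point_pullback (a p) (τ s t g) y m hm'
    refine Set.mem_iUnion.2 ⟨p, w, ?_⟩
    have e : (n p).left = (pullback.fst (a p) (τ s t g)).left ≫ g₀ := rfl
    rw [e, Scheme.Hom.comp_apply, hw1, hy]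
  obtain ⟨η₀, hη₀⟩ := E1 T₀o ι₀ (by
    rintro _ ⟨x, rfl⟩
    exact x.2)
  refine ⟨T₀o, η₀, ι₀, ?_, (inferInstance : IsOpenImmersion T₀.ι)⟩
  refine isPullback_of_yon hη₀ ?_
  intro T' b c hbc
  obtain ⟨t₁, rfl⟩ := (AlgSp.yon S).map_surjective c
  have hsub := E2 T' t₁ b hbc
  have hsub' : Set.range t₁.left ⊆ Set.range T₀.ι := by
    rw [Scheme.Opens.range_ι]
    exact hsub
  let t₀ : T' ⟶ T₀o := Over.homMk (IsOpenImmersion.lift T₀.ι t₁.left hsub') (by
    simp only [T₀o, Over.mk_hom]
    rw [← Category.assoc, IsOpenImmersion.lift_fac, Over.w])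
  have ht₀ : t₀ ≫ ι₀ = t₁ := by
    apply Over.OverMorphism.ext
    simp only [Over.comp_left, t₀, ι₀, Over.homMk_left]
    exact IsOpenImmersion.lift_fac _ _ _
  haveI : Mono ι₀ := by
    haveI : Mono ((Over.forget S).map ι₀) := by
      change Mono T₀.ι
      infer_instance
    exact (Over.forget S).mono_of_mono_map inferInstance
  refine ⟨(AlgSp.yon S).map t₀, ⟨?_, ?_⟩, ?_⟩
  · rw [← cancel_mono φ, Category.assoc, hη₀, ← Category.assoc, ← Functor.map_comp, ht₀, hbc]
  · rw [← Functor.map_comp, ht₀]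
  · rintro a' ⟨-, ha2⟩
    obtain ⟨t₂, rfl⟩ := (AlgSp.yon S).map_surjective a'
    congr 1
    rw [← cancel_mono ι₀, ht₀]
    apply (AlgSp.yon S).map_injective
    rw [Functor.map_comp, ha2]

end Main

end Groth.Agent.R2.H43.Quot
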