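import Mathlib
import Groth.Agent.Lib.Helper12Descent

/-!
# Properties of morphisms of schemes that are local on the target for the fppf precoverage (helper44)

Namespace `Groth.Agent.R2.H44.FppfLocal`.

* `isLocalAtTarget_fppf`: stable under base change + Zariski local on the target + descends along fppf surjections
  implies `P.IsLocalAtTarget Scheme.fppfPrecoverage`.
* `isLocalAtTarget_fppf_of_fpqc`: the same from fpqc descent.
* concrete cases (theorems, use with `haveI`): closed immersions, isomorphisms, open immersions, finite, integral,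
  affine, quasi-compact, quasi-separated, separated, proper, universally closed, universally open, universally injective,
  surjective, locally of finite type, locally of finite presentation, smooth, etale, formally unramified.
-/

set_option autoImplicit false
universe u

open CategoryTheory CategoryTheory.Limits AlgebraicGeometry MorphismProperty

namespace Groth.Agent.R2.H44.FppfLocal

/-- A property of morphisms of schemes which is stable under base change, Zariski local on the target and descends
along fppf surjections is local on the target for the fppf precoverage. -/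
theorem isLocalAtTarget_fppf (P : MorphismProperty Scheme.{u}) [P.IsStableUnderBaseChange]
    [IsZariskiLocalAtTarget P]
    [P.DescendsAlong (@Surjective ⊓ @Flat ⊓ @LocallyOfFinitePresentation)] :
    P.IsLocalAtTarget Scheme.fppfPrecoverage := by
  have : (Scheme.fppfPrecoverage.{u}).HasPullbacks := by
    unfold Scheme.fppfPrecoverage; infer_instance
  have : Precoverage.Small.{u} Scheme.fppfPrecoverage.{u} := by
    unfold Scheme.fppfPrecoverage; infer_instance
  refine MorphismProperty.IsLocalAtTarget.mk_of_small.{u} (fun 𝒰 hf i => P.pullback_snd _ _ hf) ?_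
  intro X Y f 𝒰 h
  have h2 : (∀ x, ∃ i, x ∈ Set.range (𝒰.f i)) ∧
      ∀ i, (@Flat ⊓ @LocallyOfFinitePresentation : MorphismProperty Scheme.{u}) (𝒰.f i) :=
    (Scheme.ofArrows_mem_precoverage_iff _).1 𝒰.mem₀
  let g : ∐ 𝒰.X ⟶ Y := Sigma.desc 𝒰.f
  have hg : (@Surjective ⊓ @Flat ⊓ @LocallyOfFinitePresentation : MorphismProperty Scheme.{u}) g := by
    refine ⟨⟨⟨fun y => ?_⟩, ?_⟩, ?_⟩
    · obtain ⟨i, x, rfl⟩ := h2.1 y
      refine ⟨(Sigma.ι 𝒰.X i).base x, ?_⟩
      rw [← Scheme.Hom.comp_apply, Sigma.ι_desc]
    · exact IsZariskiLocalAtSource.sigmaDesc (fun i => (h2.2 i).1)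
    · exact IsZariskiLocalAtSource.sigmaDesc (fun i => (h2.2 i).2)
  refine MorphismProperty.of_pullback_snd_of_descendsAlong (f := f) (g := g) hg ?_
  refine IsZariskiLocalAtTarget.of_openCover (sigmaOpenCover 𝒰.X) (fun i => ?_)
  have sq : IsPullback (pullback.fst (pullback.snd f g) (Sigma.ι 𝒰.X i) ≫ pullback.fst f g)
      (pullback.snd (pullback.snd f g) (Sigma.ι 𝒰.X i)) f (Sigma.ι 𝒰.X i ≫ g) :=
    (IsPullback.paste_vert (IsPullback.of_hasPullback (pullback.snd f g) (Sigma.ι 𝒰.X i)).flip
      (IsPullback.of_hasPullback f g).flip).flip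
  have e : Sigma.ι 𝒰.X i ≫ g = 𝒰.f i := Sigma.ι_desc _ _
  rw [e] at sq
  change P (pullback.snd (pullback.snd f g) (Sigma.ι 𝒰.X i))
  rw [← sq.isoPullback_hom_snd, P.cancel_left_of_respectsIso]
  exact h i

/-- fpqc descent version of `isLocalAtTarget_fppf`. -/
theorem isLocalAtTarget_fppf_of_fpqc (P : MorphismProperty Scheme.{u}) [P.IsStableUnderBaseChange]
    [IsZariskiLocalAtTarget P]
    (h : P.DescendsAlong (@Surjective ⊓ @Flat ⊓ @QuasiCompact)) :
    P.IsLocalAtTarget Scheme.fppfPrecoverage := by
  have := h
  exact isLocalAtTarget_fppf P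

open Groth.Agent.Lib.Helper12

theorem isClosedImmersion : IsLocalAtTarget (@IsClosedImmersion : MorphismProperty Scheme.{u})
    Scheme.fppfPrecoverage :=
  isLocalAtTarget_fppf_of_fpqc _ descendsAlong_isClosedImmersion

theorem isomorphisms : IsLocalAtTarget (MorphismProperty.isomorphisms Scheme.{u}) Scheme.fppfPrecoverage :=
  isLocalAtTarget_fppf_of_fpqc _ inferInstance

theorem isOpenImmersion : IsLocalAtTarget (@IsOpenImmersion : MorphismProperty Scheme.{u})
    Scheme.fppfPrecoverage :=
  isLocalAtTarget_fppf_of_fpqc _ inferInstance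

theorem isFinite : IsLocalAtTarget (@IsFinite : MorphismProperty Scheme.{u}) Scheme.fppfPrecoverage :=
  isLocalAtTarget_fppf_of_fpqc _ descendsAlong_isFinite

theorem isIntegralHom : IsLocalAtTarget (@IsIntegralHom : MorphismProperty Scheme.{u})
    Scheme.fppfPrecoverage :=
  isLocalAtTarget_fppf_of_fpqc _ descendsAlong_isIntegralHom

theorem isAffineHom : IsLocalAtTarget (@IsAffineHom : MorphismProperty Scheme.{u}) Scheme.fppfPrecoverage :=
  isLocalAtTarget_fppf_of_fpqc _ descendsAlong_isAffineHom

theorem quasiCompact : IsLocalAtTarget (@QuasiCompact : MorphismProperty Scheme.{u}) Scheme.fppfPrecoverage :=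
  isLocalAtTarget_fppf_of_fpqc _ descendsAlong_quasiCompact

theorem quasiSeparated : IsLocalAtTarget (@QuasiSeparated : MorphismProperty Scheme.{u})
    Scheme.fppfPrecoverage :=
  isLocalAtTarget_fppf_of_fpqc _ descendsAlong_quasiSeparated

theorem isSeparated : IsLocalAtTarget (@IsSeparated : MorphismProperty Scheme.{u}) Scheme.fppfPrecoverage :=
  isLocalAtTarget_fppf_of_fpqc _ descendsAlong_isSeparated

theorem isProper : IsLocalAtTarget (@IsProper : MorphismProperty Scheme.{u}) Scheme.fppfPrecoverage :=
  isLocalAtTarget_fppf_of_fpqc _ descendsAlong_isProper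

theorem universallyClosed : IsLocalAtTarget (@UniversallyClosed : MorphismProperty Scheme.{u})
    Scheme.fppfPrecoverage :=
  isLocalAtTarget_fppf_of_fpqc _ inferInstance

theorem universallyOpen : IsLocalAtTarget (@UniversallyOpen : MorphismProperty Scheme.{u})
    Scheme.fppfPrecoverage :=
  isLocalAtTarget_fppf_of_fpqc _ inferInstance

theorem universallyInjective : IsLocalAtTarget (@UniversallyInjective : MorphismProperty Scheme.{u})
    Scheme.fppfPrecoverage :=
  isLocalAtTarget_fppf_of_fpqc _ inferInstance

theorem surjective : IsLocalAtTarget (@Surjective : MorphismProperty Scheme.{u}) Scheme.fppfPrecoverage :=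
  isLocalAtTarget_fppf_of_fpqc _ inferInstance

theorem locallyOfFiniteType : IsLocalAtTarget (@LocallyOfFiniteType : MorphismProperty Scheme.{u})
    Scheme.fppfPrecoverage :=
  isLocalAtTarget_fppf_of_fpqc _ inferInstance

theorem locallyOfFinitePresentation :
    IsLocalAtTarget (@LocallyOfFinitePresentation : MorphismProperty Scheme.{u}) Scheme.fppfPrecoverage :=
  isLocalAtTarget_fppf_of_fpqc _ inferInstance

theorem smooth : IsLocalAtTarget (@Smooth : MorphismProperty Scheme.{u}) Scheme.fppfPrecoverage :=
  isLocalAtTarget_fppf_of_fpqc _ inferInstance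

theorem etale : IsLocalAtTarget (@Etale : MorphismProperty Scheme.{u}) Scheme.fppfPrecoverage :=
  isLocalAtTarget_fppf_of_fpqc _ inferInstance

theorem formallyUnramified : IsLocalAtTarget (@FormallyUnramified : MorphismProperty Scheme.{u})
    Scheme.fppfPrecoverage :=
  isLocalAtTarget_fppf_of_fpqc _ inferInstance

end Groth.Agent.R2.H44.FppfLocal
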