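-- helper59: gluing sections of an fppf sheaf along a covering family, and points of a pullback
-- square of fppf sheaves whose corner is representable.
import Mathlib
import Groth.Agent.R2.H43CutOut
import Groth.Agent.Lib.Helper12ZarGlue

set_option autoImplicit false
set_option linter.unusedSectionVars false
universe u
open CategoryTheory CategoryTheory.Limits AlgebraicGeometry Opposite

set_option backward.isDefEq.respectTransparency false

namespace Groth.Agent.R2.H59.AffDescGlue

open Groth.Agent.S13210 Groth.Agent.Lib.Helper12.ZarGlue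

variable {S : Scheme.{u}}

/-- Gluing sections of an fppf sheaf along a covering family. -/
theorem exists_glue (G : AlgSp.Sp S) {W : Over S} {κ : Type u} (Y : κ → Over S)
    (f : ∀ k, Y k ⟶ W) (hmem : Sieve.ofArrows Y f ∈ AlgSp.J S W)
    (d : ∀ k, (AlgSp.yon S).obj (Y k) ⟶ G)
    (hd : ∀ (k k' : κ) (T : Over S) (gi : T ⟶ Y k) (gj : T ⟶ Y k'), gi ≫ f k = gj ≫ f k' →
      (AlgSp.yon S).map gi ≫ d k = (AlgSp.yon S).map gj ≫ d k') :
    ∃ e : (AlgSp.yon S).obj W ⟶ G, ∀ k, (AlgSp.yon S).map (f k) ≫ e = d k := by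
  have hshG : Presieve.IsSheaf (AlgSp.J S) G.obj := (isSheaf_iff_isSheaf_of_type _ _).1 G.property
  have h1 := hshG.isSheafFor _ hmem
  rw [Presieve.isSheafFor_arrows_iff] at h1
  obtain ⟨t, ht, -⟩ := h1 (fun w => yEquiv _ G (d w)) (by
    intro w w' Z gi gj hg
    rw [map_yEquiv, map_yEquiv]
    congr 1
    exact hd w w' Z gi gj hg)
  refine ⟨(yEquiv _ G).symm t, fun k => ?_⟩
  apply (yEquiv _ G).injective
  rw [← map_yEquiv, Equiv.apply_symm_apply]
  exact ht k

/-- Sections of an fppf sheaf which agree on a covering family agree. -/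
theorem eq_of_cover (G : AlgSp.Sp S) {W : Over S} {κ : Type u} (Y : κ → Over S)
    (f : ∀ k, Y k ⟶ W) (hmem : Sieve.ofArrows Y f ∈ AlgSp.J S W)
    (e e' : (AlgSp.yon S).obj W ⟶ G)
    (h : ∀ k, (AlgSp.yon S).map (f k) ≫ e = (AlgSp.yon S).map (f k) ≫ e') : e = e' := by
  have hshG : Presieve.IsSheaf (AlgSp.J S) G.obj := (isSheaf_iff_isSheaf_of_type _ _).1 G.property
  apply (yEquiv _ G).injective
  refine (hshG.isSheafFor _ hmem).isSeparatedFor.ext ?_
  intro Y' f' hf'
  obtain ⟨w⟩ := hf'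
  rw [map_yEquiv, map_yEquiv, h w]

/-- A single flat, locally finitely presented, surjective morphism generates a covering sieve. -/
theorem single_mem_J {W W' : Over S} (c : W' ⟶ W) [Flat c.left]
    [LocallyOfFinitePresentation c.left] [Surjective c.left] :
    Sieve.ofArrows (fun _ : PUnit.{u + 1} => W') (fun _ => c) ∈ AlgSp.J S W :=
  Groth.Agent.R2.H43.CutOut.ofArrows_mem_J _ _ (fun _ => ⟨inferInstance, inferInstance⟩)
    (fun w => ⟨PUnit.unit, c.left.surjective w⟩)

/-- Gluing a section along a single cover. -/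
theorem exists_glue_single (G : AlgSp.Sp S) {W W' : Over S} (c : W' ⟶ W) [Flat c.left]
    [LocallyOfFinitePresentation c.left] [Surjective c.left]
    (d : (AlgSp.yon S).obj W' ⟶ G)
    (hd : ∀ (T : Over S) (v₁ v₂ : T ⟶ W'), v₁ ≫ c = v₂ ≫ c →
      (AlgSp.yon S).map v₁ ≫ d = (AlgSp.yon S).map v₂ ≫ d) :
    ∃ e : (AlgSp.yon S).obj W ⟶ G, (AlgSp.yon S).map c ≫ e = d := by
  obtain ⟨e, he⟩ := exists_glue G (fun _ : PUnit.{u + 1} => W') (fun _ => c) (single_mem_J c)
    (fun _ => d) (fun _ _ T gi gj h => hd T gi gj h)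
  exact ⟨e, he PUnit.unit⟩

theorem eq_of_single (G : AlgSp.Sp S) {W W' : Over S} (c : W' ⟶ W) [Flat c.left]
    [LocallyOfFinitePresentation c.left] [Surjective c.left]
    (e e' : (AlgSp.yon S).obj W ⟶ G)
    (h : (AlgSp.yon S).map c ≫ e = (AlgSp.yon S).map c ≫ e') : e = e' :=
  eq_of_cover G (fun _ : PUnit.{u + 1} => W') (fun _ => c) (single_mem_J c) e e' (fun _ => h)

/-- Morphisms of schemes over `S` which agree on a flat, locally finitely presented, surjective
cover agree. -/
theorem hom_eq_of_single {W W' Z : Over S} (c : W' ⟶ W) [Flat c.left]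
    [LocallyOfFinitePresentation c.left] [Surjective c.left] (l l' : W ⟶ Z)
    (h : c ≫ l = c ≫ l') : l = l' := by
  apply (AlgSp.yon S).map_injective
  apply eq_of_single _ c
  rw [← Functor.map_comp, ← Functor.map_comp, h]

section Points

variable {F G : AlgSp.Sp S} {a : F ⟶ G} {W' Y : Over S} {e' : (AlgSp.yon S).obj W' ⟶ F}
  {w' : W' ⟶ Y} {gy : (AlgSp.yon S).obj Y ⟶ G}

/-- Points of a representable corner of a pullback square: existence. -/
theorem exists_point (sq : IsPullback e' ((AlgSp.yon S).map w') a gy) {T : Over S}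
    (ξ : (AlgSp.yon S).obj T ⟶ F) (y : T ⟶ Y) (h : ξ ≫ a = (AlgSp.yon S).map y ≫ gy) :
    ∃ v : T ⟶ W', (AlgSp.yon S).map v ≫ e' = ξ ∧ v ≫ w' = y := by
  obtain ⟨v, hv⟩ := (AlgSp.yon S).map_surjective (sq.lift ξ ((AlgSp.yon S).map y) h)
  refine ⟨v, ?_, ?_⟩
  · rw [hv]
    exact sq.lift_fst _ _ _
  · apply (AlgSp.yon S).map_injective
    rw [Functor.map_comp, hv]
    exact sq.lift_snd _ _ _

/-- Points of a representable corner of a pullback square: uniqueness. -/
theorem point_ext (sq : IsPullback e' ((AlgSp.yon S).map w') a gy) {T : Over S}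
    (v₁ v₂ : T ⟶ W') (h1 : (AlgSp.yon S).map v₁ ≫ e' = (AlgSp.yon S).map v₂ ≫ e')
    (h2 : v₁ ≫ w' = v₂ ≫ w') : v₁ = v₂ := by
  apply (AlgSp.yon S).map_injective
  apply sq.hom_ext h1
  rw [← Functor.map_comp, ← Functor.map_comp, h2]

end Points

end Groth.Agent.R2.H59.AffDescGlue
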