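-- helper59: the sheaf-level core of effective fppf descent for affine morphisms: given an fppf
-- cover `t : Y ⟶ Z`, the representable base change `W'` of `a : F ⟶ G` to `Y`, its "action map"
-- `act : Y ×_Z W' ⟶ W'` and a scheme `W` over `Z` with `W' = Y ×_Z W` coequalizing the action, the
-- scheme `W` represents the base change of `a` to `Z`.
import Mathlib
import Groth.Agent.R2.H59AffDescGlue

set_option autoImplicit false
set_option linter.unusedSectionVars false
universe u
open CategoryTheory CategoryTheory.Limits AlgebraicGeometry Opposite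

set_option backward.isDefEq.respectTransparency false

namespace Groth.Agent.R2.H59.AffDescCore

open Groth.Agent.S13210 Groth.Agent.Lib.Helper12.ZarGlue Groth.Agent.R2.H59.AffDescGlue

variable {S : Scheme.{u}} {F G : AlgSp.Sp S}

theorem isPullback_of_descent (a : F ⟶ G) {Z Y W' T₁ W : Over S}
    (g : (AlgSp.yon S).obj Z ⟶ G)
    (t : Y ⟶ Z) [Flat t.left] [LocallyOfFinitePresentation t.left] [Surjective t.left]
    (w' : W' ⟶ Y) (e' : (AlgSp.yon S).obj W' ⟶ F)
    (sq' : IsPullback e' ((AlgSp.yon S).map w') a ((AlgSp.yon S).map t ≫ g))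
    (pr₁ : T₁ ⟶ Y) (pr₂ : T₁ ⟶ W') (hT₁ : IsPullback pr₁ pr₂ t (w' ≫ t))
    (act : T₁ ⟶ W') (hact₁ : (AlgSp.yon S).map act ≫ e' = (AlgSp.yon S).map pr₂ ≫ e')
    (hact₂ : act ≫ w' = pr₁)
    (c : W' ⟶ W) (i : W ⟶ Z) (P1 : IsPullback w' c t i) (P2 : act ≫ c = pr₂ ≫ c) :
    ∃ fst : (AlgSp.yon S).obj W ⟶ F, IsPullback fst ((AlgSp.yon S).map i) a g := by
  have hc₁ : Flat c.left :=
    MorphismProperty.of_isPullback (P := @Flat) (P1.map (Over.forget S)) ‹_›
  have hc₂ : LocallyOfFinitePresentation c.left :=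
    MorphismProperty.of_isPullback (P := @LocallyOfFinitePresentation) (P1.map (Over.forget S)) ‹_›
  have hc₃ : Surjective c.left :=
    MorphismProperty.of_isPullback (P := @Surjective) (P1.map (Over.forget S)) ‹_›
  -- two points of `W'` over the same point of `Z` with the same `F`-component have the same image
  -- in `W`
  have key : ∀ (T : Over S) (x₁ x₂ : T ⟶ W'), x₁ ≫ w' ≫ t = x₂ ≫ w' ≫ t →
      (AlgSp.yon S).map x₁ ≫ e' = (AlgSp.yon S).map x₂ ≫ e' → x₁ ≫ c = x₂ ≫ c := by
    intro T x₁ x₂ h1 h2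
    have hk₁ : hT₁.lift (x₁ ≫ w') x₂ (by simpa using h1) ≫ pr₁ = x₁ ≫ w' := hT₁.lift_fst _ _ _
    have hk₂ : hT₁.lift (x₁ ≫ w') x₂ (by simpa using h1) ≫ pr₂ = x₂ := hT₁.lift_snd _ _ _
    have hk : hT₁.lift (x₁ ≫ w') x₂ (by simpa using h1) ≫ act = x₁ := by
      apply point_ext sq'
      · rw [Functor.map_comp, Category.assoc, hact₁, ← Category.assoc, ← Functor.map_comp, hk₂, h2]
      · rw [Category.assoc, hact₂, hk₁]
    rw [← hk, Category.assoc, P2, ← Category.assoc, hk₂]
  -- two points of `W'` with the same image in `W` have the same `F`-component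
  have key' : ∀ (T : Over S) (x₁ x₂ : T ⟶ W'), x₁ ≫ c = x₂ ≫ c →
      (AlgSp.yon S).map x₁ ≫ e' = (AlgSp.yon S).map x₂ ≫ e' := by
    intro T x₁ x₂ h
    have h1 : x₁ ≫ w' ≫ t = x₂ ≫ w' ≫ t := by
      rw [P1.w, ← Category.assoc, h, Category.assoc]
    have hk₁ : hT₁.lift (x₁ ≫ w') x₂ (by simpa using h1) ≫ pr₁ = x₁ ≫ w' := hT₁.lift_fst _ _ _
    have hk₂ : hT₁.lift (x₁ ≫ w') x₂ (by simpa using h1) ≫ pr₂ = x₂ := hT₁.lift_snd _ _ _
    have hk : hT₁.lift (x₁ ≫ w') x₂ (by simpa using h1) ≫ act = x₁ := by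
      apply P1.hom_ext
      · rw [Category.assoc, hact₂, hk₁]
      · rw [Category.assoc, P2, ← Category.assoc, hk₂, h]
    rw [← hk, Functor.map_comp, Category.assoc, hact₁, ← Category.assoc, ← Functor.map_comp, hk₂]
  obtain ⟨fst, hfst⟩ := exists_glue_single F c e' key'
  have hw : fst ≫ a = (AlgSp.yon S).map i ≫ g := by
    apply eq_of_single G c
    rw [← Category.assoc, hfst, sq'.w, ← Category.assoc, ← Category.assoc, ← Functor.map_comp,
      ← Functor.map_comp, P1.w]
  refine ⟨fst, isPullback_of_yon hw (fun T ξ z' hξ => ?_)⟩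
  obtain ⟨z, rfl⟩ := (AlgSp.yon S).map_surjective z'
  -- the cover `T' = T ×_Z Y` of `T`
  have hT' := IsPullback.of_hasPullback z t
  set p : pullback z t ⟶ T := pullback.fst z t with hp
  set q : pullback z t ⟶ Y := pullback.snd z t with hq
  have hp₁ : Flat p.left :=
    MorphismProperty.of_isPullback (P := @Flat) (hT'.flip.map (Over.forget S)) ‹_›
  have hp₂ : LocallyOfFinitePresentation p.left :=
    MorphismProperty.of_isPullback (P := @LocallyOfFinitePresentation)
      (hT'.flip.map (Over.forget S)) ‹_›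
  have hp₃ : Surjective p.left :=
    MorphismProperty.of_isPullback (P := @Surjective) (hT'.flip.map (Over.forget S)) ‹_›
  have hpq : p ≫ z = q ≫ t := hT'.w
  apply existsUnique_of_exists_of_unique
  · -- existence
    obtain ⟨v, hv₁, hv₂⟩ := exists_point sq' ((AlgSp.yon S).map p ≫ ξ) q (by
      rw [Category.assoc, hξ, ← Category.assoc, ← Category.assoc, ← Functor.map_comp,
        ← Functor.map_comp, hpq])
    obtain ⟨l', hl'⟩ := exists_glue_single ((AlgSp.yon S).obj W) p ((AlgSp.yon S).map (v ≫ c)) (by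
      intro T'' u₁ u₂ hu
      rw [← Functor.map_comp, ← Functor.map_comp, ← Category.assoc, ← Category.assoc]
      congr 1
      apply key
      · rw [Category.assoc, Category.assoc, ← Category.assoc v, hv₂, ← hpq, ← Category.assoc, hu,
          Category.assoc]
      · rw [Functor.map_comp, Functor.map_comp, Category.assoc, Category.assoc, hv₁,
          ← Category.assoc, ← Category.assoc, ← Functor.map_comp, ← Functor.map_comp, hu])
    obtain ⟨l, rfl⟩ := (AlgSp.yon S).map_surjective l'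
    rw [← Functor.map_comp] at hl'
    have hl : p ≫ l = v ≫ c := (AlgSp.yon S).map_injective hl'
    refine ⟨(AlgSp.yon S).map l, ?_, ?_⟩
    · apply eq_of_single F p
      rw [← Category.assoc, ← Functor.map_comp, hl, Functor.map_comp, Category.assoc, hfst, hv₁]
    · rw [← Functor.map_comp]
      congr 1
      apply hom_eq_of_single p
      rw [← Category.assoc, hl, Category.assoc, ← P1.w, ← Category.assoc, hv₂, hpq]
  · -- uniqueness
    rintro l₁' l₂' ⟨h₁, h₁'⟩ ⟨h₂, h₂'⟩
    obtain ⟨l₁, rfl⟩ := (AlgSp.yon S).map_surjective l₁'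
    obtain ⟨l₂, rfl⟩ := (AlgSp.yon S).map_surjective l₂'
    rw [← Functor.map_comp] at h₁' h₂'
    have h₁'' : l₁ ≫ i = z := (AlgSp.yon S).map_injective h₁'
    have h₂'' : l₂ ≫ i = z := (AlgSp.yon S).map_injective h₂'
    congr 1
    apply hom_eq_of_single p
    have e₁ : q ≫ t = (p ≫ l₁) ≫ i := by rw [Category.assoc, h₁'', hpq]
    have e₂ : q ≫ t = (p ≫ l₂) ≫ i := by rw [Category.assoc, h₂'', hpq]
    have hv₁w : P1.lift q (p ≫ l₁) e₁ ≫ w' = q := P1.lift_fst _ _ _
    have hv₁c : P1.lift q (p ≫ l₁) e₁ ≫ c = p ≫ l₁ := P1.lift_snd _ _ _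
    have hv₂w : P1.lift q (p ≫ l₂) e₂ ≫ w' = q := P1.lift_fst _ _ _
    have hv₂c : P1.lift q (p ≫ l₂) e₂ ≫ c = p ≫ l₂ := P1.lift_snd _ _ _
    have hv : P1.lift q (p ≫ l₁) e₁ = P1.lift q (p ≫ l₂) e₂ := by
      apply point_ext sq'
      · rw [← hfst, ← Category.assoc, ← Category.assoc, ← Functor.map_comp, ← Functor.map_comp,
          hv₁c, hv₂c, Functor.map_comp, Functor.map_comp, Category.assoc, Category.assoc, h₁, h₂]
      · rw [hv₁w, hv₂w]
    rw [← hv₁c, ← hv₂c, hv]

end Groth.Agent.R2.H59.AffDescCore
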