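-- helper59: the ring-level core of effective descent for affine morphisms: a "coaction"
-- `τ : B' → A' ⊗_A B'` (counital, coassociative, `A'`-linear) on an `A'`-algebra `B'`, with `A'` flat
-- over `A`, comes from the `A`-algebra `B = {u | τ u = 1 ⊗ u}` : `A' ⊗_A B ≅ B'`.
import Mathlib

set_option autoImplicit false
set_option linter.unusedSectionVars false

universe u

open TensorProduct

namespace Groth.Agent.R2.H59.AffDescRing

section

variable {A A' B' : Type u} [CommRing A] [CommRing A'] [CommRing B'] [Algebra A A'] [Algebra A B']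
  [Algebra A' B'] [IsScalarTower A A' B']

/-- The multiplication map `A' ⊗_A B' → B'`. -/
noncomputable def mu : A' ⊗[A] B' →ₐ[A] B' :=
  Algebra.TensorProduct.productMap (IsScalarTower.toAlgHom A A' B') (AlgHom.id A B')

@[simp] theorem mu_tmul (a : A') (u : B') : mu (A := A) (a ⊗ₜ[A] u) = a • u := by
  simp [mu, Algebra.smul_def]

/-- The invariants of a coaction. -/
noncomputable def inv (τ : B' →ₐ[A] A' ⊗[A] B') : Subalgebra A B' :=
  AlgHom.equalizer τ Algebra.TensorProduct.includeRight

theorem mem_inv (τ : B' →ₐ[A] A' ⊗[A] B') (u : B') : u ∈ inv τ ↔ τ u = 1 ⊗ₜ[A] u := Iff.rfl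

/-- The contraction `A' ⊗ (A' ⊗ B') → A' ⊗ B'`, `x ⊗ w ↦ (x ⊗ 1) * w`. -/
noncomputable def m12 : A' ⊗[A] (A' ⊗[A] B') →ₗ[A] A' ⊗[A] B' :=
  TensorProduct.lift ((LinearMap.mul A (A' ⊗[A] B')).comp
    (Algebra.TensorProduct.includeLeft (R := A) (S := A) (A := A') (B := B')).toLinearMap)

@[simp] theorem m12_tmul (x : A') (w : A' ⊗[A] B') :
    m12 (A := A) (x ⊗ₜ[A] w) = (x ⊗ₜ[A] (1 : B')) * w := rfl

/-- The comparison map `A' ⊗_A B → B'`. -/
noncomputable def lam (τ : B' →ₐ[A] A' ⊗[A] B') : A' ⊗[A] (inv τ) →ₐ[A] B' :=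
  Algebra.TensorProduct.productMap (IsScalarTower.toAlgHom A A' B') (inv τ).val

@[simp] theorem lam_tmul (τ : B' →ₐ[A] A' ⊗[A] B') (a : A') (b : inv τ) :
    lam τ (a ⊗ₜ[A] b) = a • (b : B') := by
  simp [lam, Algebra.smul_def]

theorem lam_eq (τ : B' →ₐ[A] A' ⊗[A] B') (z : A' ⊗[A] (inv τ)) :
    lam τ z = mu (A := A) (LinearMap.lTensor A' (inv τ).val.toLinearMap z) := by
  induction z using TensorProduct.induction_on with
  | zero => simp
  | tmul a b => simp
  | add x y hx hy => simp only [map_add, hx, hy]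

variable [Module.Flat A A']

theorem bijective_lam (τ : B' →ₐ[A] A' ⊗[A] B')
    (h1 : ∀ (a : A') (u : B'), τ (a • u) = (a ⊗ₜ[A] (1 : B')) * τ u)
    (h2 : ∀ u, mu (A := A) (τ u) = u)
    (h3 : ∀ u, Algebra.TensorProduct.map (AlgHom.id A A') τ (τ u) =
      Algebra.TensorProduct.map (AlgHom.id A A') Algebra.TensorProduct.includeRight (τ u)) :
    Function.Bijective (lam τ) := by
  let incl : B' →ₐ[A] A' ⊗[A] B' := Algebra.TensorProduct.includeRight
  let δ : B' →ₗ[A] A' ⊗[A] B' := τ.toLinearMap - incl.toLinearMap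
  let j : (inv τ) →ₗ[A] B' := (inv τ).val.toLinearMap
  have hex : Function.Exact j δ := by
    intro u
    constructor
    · intro hu
      have : τ u = incl u := by
        have h : τ u - incl u = 0 := hu
        exact sub_eq_zero.1 h
      exact ⟨⟨u, this⟩, rfl⟩
    · rintro ⟨b, rfl⟩
      have : τ (b : B') = incl (b : B') := b.2
      change τ (b : B') - incl (b : B') = 0
      rw [this, sub_self]
  have hex' : Function.Exact (LinearMap.lTensor A' j) (LinearMap.lTensor A' δ) :=
    Module.Flat.lTensor_exact A' hex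
  have hjinj : Function.Injective (LinearMap.lTensor A' j) :=
    Module.Flat.lTensor_preserves_injective_linearMap j Subtype.val_injective
  have hδ : ∀ e : A' ⊗[A] B', LinearMap.lTensor A' δ e =
      Algebra.TensorProduct.map (AlgHom.id A A') τ e -
        Algebra.TensorProduct.map (AlgHom.id A A') incl e := by
    intro e
    induction e using TensorProduct.induction_on with
    | zero => simp
    | tmul x u => simp [δ]
    | add x y hx hy => simp only [map_add, hx, hy]; abel
  -- `τ` lands in the kernel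
  have hτE : ∀ u, LinearMap.lTensor A' δ (τ u) = 0 := by
    intro u
    rw [hδ, h3, sub_self]
  -- contraction identities
  have hc1 : ∀ e : A' ⊗[A] B',
      m12 (A := A) (Algebra.TensorProduct.map (AlgHom.id A A') τ e) = τ (mu (A := A) e) := by
    intro e
    induction e using TensorProduct.induction_on with
    | zero => simp
    | tmul x u => simp [h1]
    | add x y hx hy => simp only [map_add, hx, hy]
  have hc2 : ∀ e : A' ⊗[A] B',
      m12 (A := A) (Algebra.TensorProduct.map (AlgHom.id A A') incl e) = e := by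
    intro e
    induction e using TensorProduct.induction_on with
    | zero => simp
    | tmul x u => simp [incl]
    | add x y hx hy => simp only [map_add, hx, hy]
  have hE : ∀ e : A' ⊗[A] B', LinearMap.lTensor A' δ e = 0 → τ (mu (A := A) e) = e := by
    intro e he
    rw [hδ, sub_eq_zero] at he
    rw [← hc1, he, hc2]
  constructor
  · rw [injective_iff_map_eq_zero]
    intro z hz
    rw [lam_eq] at hz
    have he : LinearMap.lTensor A' δ (LinearMap.lTensor A' j z) = 0 := hex'.apply_apply_eq_zero z
    have h4 := hE _ he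
    rw [hz, map_zero] at h4
    exact hjinj (by rw [← h4, map_zero])
  · intro u
    obtain ⟨z, hz⟩ := (hex' (τ u)).1 (hτE u)
    refine ⟨z, ?_⟩
    rw [lam_eq]
    change mu (A := A) (LinearMap.lTensor A' j z) = u
    rw [hz, h2]

end

end Groth.Agent.R2.H59.AffDescRing
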