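-- helper59: effective fppf descent of affine morphisms, normal form: the cover is
-- `Spec A' ⟶ Spec A` and the base change of `a : F ⟶ G` to `Spec A'` is `Spec B'`.
import Mathlib
import Groth.Agent.R2.H59AffDescRing
import Groth.Agent.R2.H59AffDescCore

set_option autoImplicit false
set_option linter.unusedSectionVars false
universe u
open CategoryTheory CategoryTheory.Limits AlgebraicGeometry Opposite TensorProduct

set_option backward.isDefEq.respectTransparency false

namespace Groth.Agent.R2.H59.AffDescNF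

open Groth.Agent.S13210 Groth.Agent.Lib.Helper12.ZarGlue Groth.Agent.R2.H59.AffDescGlue
  Groth.Agent.R2.H59.AffDescRing Groth.Agent.R2.H59.AffDescCore

section ov

variable {S : Scheme.{u}} {A : Type u} [CommRing A] (s : Spec (CommRingCat.of A) ⟶ S)

/-- `Spec R` as an object over `S`, for an `A`-algebra `R`. -/
noncomputable def ov (R : Type u) [CommRing R] [Algebra A R] : Over S :=
  Over.mk (Spec.map (CommRingCat.ofHom (algebraMap A R)) ≫ s)

variable {R R' R'' : Type u} [CommRing R] [CommRing R'] [CommRing R''] [Algebra A R]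
  [Algebra A R'] [Algebra A R'']

/-- The morphism over `S` attached to a morphism of `A`-algebras. -/
noncomputable def ovMap (θ : R →ₐ[A] R') : ov s R' ⟶ ov s R :=
  Over.homMk (Spec.map (CommRingCat.ofHom (θ : R →+* R'))) (by
    change Spec.map _ ≫ Spec.map _ ≫ s = Spec.map _ ≫ s
    rw [← Category.assoc, ← Spec.map_comp, ← CommRingCat.ofHom_comp, θ.comp_algebraMap])

@[simp] lemma ovMap_left (θ : R →ₐ[A] R') :
    (ovMap s θ).left = Spec.map (CommRingCat.ofHom (θ : R →+* R')) := rfl

lemma ovMap_comp (θ : R →ₐ[A] R') (θ' : R' →ₐ[A] R'') :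
    ovMap s θ' ≫ ovMap s θ = ovMap s (θ'.comp θ) := by
  ext1
  change Spec.map _ ≫ Spec.map _ = Spec.map _
  rw [← Spec.map_comp, ← CommRingCat.ofHom_comp]
  rfl

lemma ovMap_id : ovMap s (AlgHom.id A R) = 𝟙 _ := by
  ext1
  change Spec.map _ = 𝟙 _
  rw [← Spec.map_id]
  rfl

lemma ovMap_injective {θ θ' : R →ₐ[A] R'} (h : ovMap s θ = ovMap s θ') : θ = θ' := by
  have h1 : Spec.map (CommRingCat.ofHom (θ : R →+* R')) = Spec.map (CommRingCat.ofHom (θ' : R →+* R')) :=
    congrArg CommaMorphism.left h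
  have h2 := Spec.map_injective h1
  have h3 : (θ : R →+* R') = (θ' : R →+* R') := congrArg CommRingCat.Hom.hom h2
  ext x
  exact DFunLike.congr_fun h3 x

/-- Morphisms over `Spec A` come from algebra maps. -/
lemma exists_ovMap (v : ov s R' ⟶ ov s R)
    (hv : v ≫ ovMap s (Algebra.ofId A R) = ovMap s (Algebra.ofId A R')) :
    ∃ θ : R →ₐ[A] R', v = ovMap s θ := by
  obtain ⟨φ, hφ⟩ := Spec.map_surjective v.left
  have h1 : Spec.map φ ≫ Spec.map (CommRingCat.ofHom (algebraMap A R)) =
      Spec.map (CommRingCat.ofHom (algebraMap A R')) := by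
    rw [hφ]
    exact congrArg CommaMorphism.left hv
  rw [← Spec.map_comp] at h1
  have h2 := Spec.map_injective h1
  have h3 : φ.hom.comp (algebraMap A R) = algebraMap A R' := congrArg CommRingCat.Hom.hom h2
  refine ⟨{ φ.hom with commutes' := fun r => DFunLike.congr_fun h3 r }, ?_⟩
  ext1
  rw [← hφ]
  rfl

/-- Pushout squares of `A`-algebras give pullback squares over `S`. -/
lemma isPullback_ovMap {R₁ R₂ R₃ R₄ : Type u} [CommRing R₁] [CommRing R₂] [CommRing R₃]
    [CommRing R₄] [Algebra A R₁] [Algebra A R₂] [Algebra A R₃] [Algebra A R₄]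
    (θ₁₂ : R₁ →ₐ[A] R₂) (θ₁₃ : R₁ →ₐ[A] R₃) (θ₂₄ : R₂ →ₐ[A] R₄) (θ₃₄ : R₃ →ₐ[A] R₄)
    (h : IsPushout (CommRingCat.ofHom (θ₁₂ : R₁ →+* R₂)) (CommRingCat.ofHom (θ₁₃ : R₁ →+* R₃))
      (CommRingCat.ofHom (θ₂₄ : R₂ →+* R₄)) (CommRingCat.ofHom (θ₃₄ : R₃ →+* R₄))) :
    IsPullback (ovMap s θ₂₄) (ovMap s θ₃₄) (ovMap s θ₁₂) (ovMap s θ₁₃) := by
  have hw : ovMap s θ₂₄ ≫ ovMap s θ₁₂ = ovMap s θ₃₄ ≫ ovMap s θ₁₃ := by
    ext1
    change Spec.map _ ≫ Spec.map _ = Spec.map _ ≫ Spec.map _
    rw [← Spec.map_comp, ← Spec.map_comp, h.w]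
  exact IsPullback.of_map (Over.forget S) hw (isPullback_SpecMap_of_isPushout _ _ _ _ h)

/-- The fibre product of `Spec R` and `Spec R'` over `Spec A`. -/
lemma isPullback_ov_tensor (R R' : Type u) [CommRing R] [CommRing R'] [Algebra A R]
    [Algebra A R'] :
    IsPullback (ovMap s (Algebra.TensorProduct.includeLeft : R →ₐ[A] R ⊗[A] R'))
      (ovMap s (Algebra.TensorProduct.includeRight : R' →ₐ[A] R ⊗[A] R'))
      (ovMap s (Algebra.ofId A R)) (ovMap s (Algebra.ofId A R')) :=
  isPullback_ovMap s _ _ _ _ (CommRingCat.isPushout_tensorProduct A R R')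

end ov

section NF

variable {S : Scheme.{u}} {F G : AlgSp.Sp S} {A A' B' : Type u} [CommRing A] [CommRing A']
  [CommRing B'] [Algebra A A'] [Algebra A B'] [Algebra A' B'] [IsScalarTower A A' B']
  (s : Spec (CommRingCat.of A) ⟶ S)

/-- Effective descent of affine morphisms, normal form. -/
theorem exists_rep_nf (a : F ⟶ G) (g : (AlgSp.yon S).obj (ov s A) ⟶ G)
    (e' : (AlgSp.yon S).obj (ov s B') ⟶ F)
    (sq' : IsPullback e' ((AlgSp.yon S).map (ovMap s (IsScalarTower.toAlgHom A A' B'))) a
      ((AlgSp.yon S).map (ovMap s (Algebra.ofId A A')) ≫ g))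
    (h₁ : Flat (Spec.map (CommRingCat.ofHom (algebraMap A A'))))
    (h₂ : LocallyOfFinitePresentation (Spec.map (CommRingCat.ofHom (algebraMap A A'))))
    (h₃ : Surjective (Spec.map (CommRingCat.ofHom (algebraMap A A')))) :
    ∃ (W : Over S) (i : W ⟶ ov s A) (fst : (AlgSp.yon S).obj W ⟶ F),
      IsPullback fst ((AlgSp.yon S).map i) a g ∧ IsAffine W.left := by
  have : Module.Flat A A' := by
    have := (HasRingHomProperty.Spec_iff (P := @Flat)).1 h₁
    exact RingHom.flat_algebraMap_iff.1 this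
  set t : ov s A' ⟶ ov s A := ovMap s (Algebra.ofId A A') with ht
  set w' : ov s B' ⟶ ov s A' := ovMap s (IsScalarTower.toAlgHom A A' B') with hw'
  have : Flat t.left := h₁
  have : LocallyOfFinitePresentation t.left := h₂
  have : Surjective t.left := h₃
  have hwt : w' ≫ t = ovMap s (Algebra.ofId A B') := by
    rw [ovMap_comp]
    congr 1
    ext
  -- the fibre product `T₁ = Y ×_Z W'`
  let pr₁ : ov s (A' ⊗[A] B') ⟶ ov s A' := ovMap s Algebra.TensorProduct.includeLeft
  let pr₂ : ov s (A' ⊗[A] B') ⟶ ov s B' := ovMap s Algebra.TensorProduct.includeRight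
  have hT₁ : IsPullback pr₁ pr₂ t (w' ≫ t) := by
    rw [hwt]
    exact isPullback_ov_tensor s A' B'
  -- the action map
  obtain ⟨act, hact₁, hact₂⟩ := exists_point sq' ((AlgSp.yon S).map pr₂ ≫ e') pr₁ (by
    rw [Category.assoc, sq'.w, ← Category.assoc ((AlgSp.yon S).map w'), ← Functor.map_comp,
      ← Category.assoc, ← Functor.map_comp, ← hT₁.w, Functor.map_comp, Category.assoc])
  have hactZ : act ≫ ovMap s (Algebra.ofId A B') = ovMap s (Algebra.ofId A (A' ⊗[A] B')) := by
    rw [← hwt, ← Category.assoc, hact₂, ovMap_comp]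
    congr 1
  obtain ⟨τ, rfl⟩ := exists_ovMap s act hactZ
  -- `τ` is `A'`-linear
  have hτ : τ.comp (IsScalarTower.toAlgHom A A' B') = Algebra.TensorProduct.includeLeft := by
    apply ovMap_injective s
    rw [← ovMap_comp]
    exact hact₂
  have hτ₁ : ∀ x : A', τ (algebraMap A' B' x) = x ⊗ₜ[A] (1 : B') := fun x =>
    DFunLike.congr_fun hτ x
  have h1 : ∀ (x : A') (u : B'), τ (x • u) = (x ⊗ₜ[A] (1 : B')) * τ u := by
    intro x u
    rw [Algebra.smul_def, map_mul, hτ₁]
  -- counit
  have h2' : (mu (A := A) (A' := A') (B' := B')).comp τ = AlgHom.id A B' := by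
    apply ovMap_injective s
    rw [← ovMap_comp, ovMap_id]
    apply point_ext sq'
    · rw [Functor.map_comp, Category.assoc, hact₁, ← Category.assoc, ← Functor.map_comp, ovMap_comp]
      have e1 : (mu (A := A) (A' := A') (B' := B')).comp Algebra.TensorProduct.includeRight =
          AlgHom.id A B' := by
        ext x
        simp
      rw [e1, ovMap_id]
    · rw [Category.assoc, hact₂, ovMap_comp, Category.id_comp]
      congr 1
      ext x
      simp [Algebra.smul_def]
  -- coassociativity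
  have h3' : (Algebra.TensorProduct.map (AlgHom.id A A') τ).comp τ =
      (Algebra.TensorProduct.map (AlgHom.id A A') Algebra.TensorProduct.includeRight).comp τ := by
    apply ovMap_injective s
    rw [← ovMap_comp, ← ovMap_comp]
    apply point_ext sq'
    · rw [Functor.map_comp, Functor.map_comp, Category.assoc, Category.assoc, hact₁,
        ← Category.assoc, ← Category.assoc, ← Functor.map_comp, ← Functor.map_comp, ovMap_comp,
        ovMap_comp]
      have e1 : (Algebra.TensorProduct.map (AlgHom.id A A') τ).comp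
          Algebra.TensorProduct.includeRight =
          (Algebra.TensorProduct.includeRight : A' ⊗[A] B' →ₐ[A] A' ⊗[A] (A' ⊗[A] B')).comp τ := by
        ext x
        simp
      have e2 : (Algebra.TensorProduct.map (AlgHom.id A A')
          (Algebra.TensorProduct.includeRight : B' →ₐ[A] A' ⊗[A] B')).comp
          Algebra.TensorProduct.includeRight =
          (Algebra.TensorProduct.includeRight : A' ⊗[A] B' →ₐ[A] A' ⊗[A] (A' ⊗[A] B')).comp
            Algebra.TensorProduct.includeRight := by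
        ext x
        simp
      rw [e1, e2, ← ovMap_comp, ← ovMap_comp, Functor.map_comp, Functor.map_comp, Category.assoc,
        Category.assoc, hact₁]
    · rw [Category.assoc, Category.assoc, hact₂, ovMap_comp, ovMap_comp]
      congr 1
      ext x
      simp
  have hbij := bijective_lam τ h1 (fun u => DFunLike.congr_fun h2' u)
    (fun u => DFunLike.congr_fun h3' u)
  -- the descended algebra
  let c : ov s B' ⟶ ov s (inv τ) := ovMap s (inv τ).val
  let i : ov s (inv τ) ⟶ ov s A := ovMap s (Algebra.ofId A (inv τ))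
  have P2 : ovMap s τ ≫ c = pr₂ ≫ c := by
    rw [ovMap_comp, ovMap_comp]
    congr 1
    ext b
    exact b.2
  have P1 : IsPullback w' c t i := by
    apply isPullback_ovMap
    let e : A' ⊗[A] (inv τ) ≃ₐ[A] B' := AlgEquiv.ofBijective (lam τ) hbij
    refine (CommRingCat.isPushout_tensorProduct A A' (inv τ)).of_iso (Iso.refl _) (Iso.refl _)
      (Iso.refl _) e.toRingEquiv.toCommRingCatIso ?_ ?_ ?_ ?_
    · rfl
    · rfl
    · ext x
      change lam τ (x ⊗ₜ[A] 1) = algebraMap A' B' x
      simp [Algebra.smul_def]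
    · ext x
      change lam τ (1 ⊗ₜ[A] x) = (x : B')
      simp
  obtain ⟨fst, hfst⟩ := isPullback_of_descent a g t w' e' sq' pr₁ pr₂ hT₁ (ovMap s τ) hact₁ hact₂
    c i P1 P2
  exact ⟨ov s (inv τ), i, fst, hfst, inferInstanceAs (IsAffine (Spec _))⟩

end NF

end Groth.Agent.R2.H59.AffDescNF
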