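-- helper59: effective fppf descent of affine morphisms of fppf sheaves.
import Mathlib
import Groth.Agent.R2.H59AffDescNF
import Groth.Agent.S9884
import Groth.Agent.S9885

set_option autoImplicit false
set_option linter.unusedSectionVars false
set_option linter.style.haveILetI false
universe u
open CategoryTheory CategoryTheory.Limits AlgebraicGeometry Opposite TensorProduct

set_option backward.isDefEq.respectTransparency false

namespace Groth.Agent.R2.H59.AffDesc

open Groth.Agent.S13210 Groth.Agent.Lib.Helper12.ZarGlue Groth.Agent.R2.H59.AffDescGlue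
  Groth.Agent.R2.H59.AffDescNF

variable {S : Scheme.{u}} {F G : AlgSp.Sp S}

/-- Effective descent of affine morphisms along a single affine fppf cover of an affine scheme. -/
theorem exists_rep_of_affine_cover (a : F ⟶ G) {Z Y W' : Over S} [IsAffine Z.left]
    [IsAffine Y.left] [IsAffine W'.left] (g : (AlgSp.yon S).obj Z ⟶ G) (t : Y ⟶ Z)
    (ht₁ : Flat t.left) (ht₂ : LocallyOfFinitePresentation t.left) (ht₃ : Surjective t.left)
    (w' : W' ⟶ Y) (e' : (AlgSp.yon S).obj W' ⟶ F)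
    (sq' : IsPullback e' ((AlgSp.yon S).map w') a ((AlgSp.yon S).map t ≫ g)) :
    ∃ (W : Over S) (i : W ⟶ Z) (fst : (AlgSp.yon S).obj W ⟶ F),
      IsPullback fst ((AlgSp.yon S).map i) a g ∧ IsAffine W.left := by
  letI : Algebra Γ(Z.left, ⊤) Γ(Y.left, ⊤) := t.left.appTop.hom.toAlgebra
  letI : Algebra Γ(Y.left, ⊤) Γ(W'.left, ⊤) := w'.left.appTop.hom.toAlgebra
  letI : Algebra Γ(Z.left, ⊤) Γ(W'.left, ⊤) :=
    ((algebraMap Γ(Y.left, ⊤) Γ(W'.left, ⊤)).comp (algebraMap Γ(Z.left, ⊤) Γ(Y.left, ⊤))).toAlgebra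
  haveI : IsScalarTower Γ(Z.left, ⊤) Γ(Y.left, ⊤) Γ(W'.left, ⊤) :=
    IsScalarTower.of_algebraMap_eq (fun _ => rfl)
  let s : Spec (CommRingCat.of Γ(Z.left, ⊤)) ⟶ S := Z.left.isoSpec.inv ≫ Z.hom
  -- the isomorphisms with the normal form
  let φZ : Z ≅ ov s Γ(Z.left, ⊤) := Over.isoMk Z.left.isoSpec (by
    change Z.left.isoSpec.hom ≫ Spec.map (𝟙 _) ≫ Z.left.isoSpec.inv ≫ Z.hom = Z.hom
    rw [Spec.map_id, Category.id_comp, Iso.hom_inv_id_assoc])
  let φY : Y ≅ ov s Γ(Y.left, ⊤) := Over.isoMk Y.left.isoSpec (by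
    change Y.left.isoSpec.hom ≫ Spec.map t.left.appTop ≫ Z.left.isoSpec.inv ≫ Z.hom = Y.hom
    rw [Scheme.isoSpec_hom_naturality_assoc, Iso.hom_inv_id_assoc, Over.w t])
  let φW : W' ≅ ov s Γ(W'.left, ⊤) := Over.isoMk W'.left.isoSpec (by
    change W'.left.isoSpec.hom ≫ Spec.map (t.left.appTop ≫ w'.left.appTop) ≫
      Z.left.isoSpec.inv ≫ Z.hom = W'.hom
    rw [Spec.map_comp, Category.assoc, Scheme.isoSpec_hom_naturality_assoc,
      Scheme.isoSpec_hom_naturality_assoc, Iso.hom_inv_id_assoc, Over.w t, Over.w w'])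
  have hφt : φY.hom ≫ ovMap s (Algebra.ofId Γ(Z.left, ⊤) Γ(Y.left, ⊤)) = t ≫ φZ.hom := by
    ext1
    exact Scheme.isoSpec_hom_naturality t.left
  have hφw : φW.hom ≫ ovMap s (IsScalarTower.toAlgHom Γ(Z.left, ⊤) Γ(Y.left, ⊤) Γ(W'.left, ⊤)) =
      w' ≫ φY.hom := by
    ext1
    exact Scheme.isoSpec_hom_naturality w'.left
  have hφt' : φY.hom ≫ ovMap s (Algebra.ofId Γ(Z.left, ⊤) Γ(Y.left, ⊤)) ≫ φZ.inv = t := by
    rw [← Category.assoc, hφt, Category.assoc, Iso.hom_inv_id, Category.comp_id]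
  -- the transported square
  have sq₀ : IsPullback ((AlgSp.yon S).map φW.inv ≫ e')
      ((AlgSp.yon S).map
        (ovMap s (IsScalarTower.toAlgHom Γ(Z.left, ⊤) Γ(Y.left, ⊤) Γ(W'.left, ⊤)))) a
      ((AlgSp.yon S).map (ovMap s (Algebra.ofId Γ(Z.left, ⊤) Γ(Y.left, ⊤))) ≫
        (AlgSp.yon S).map φZ.inv ≫ g) := by
    refine sq'.of_iso ((AlgSp.yon S).mapIso φW) (Iso.refl _) ((AlgSp.yon S).mapIso φY)
      (Iso.refl _) ?_ ?_ ?_ ?_
    · rw [Iso.refl_hom, Category.comp_id, Functor.mapIso_hom, ← Category.assoc,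
        ← Functor.map_comp, Iso.hom_inv_id, CategoryTheory.Functor.map_id, Category.id_comp]
    · rw [Functor.mapIso_hom, Functor.mapIso_hom, ← Functor.map_comp, ← Functor.map_comp, hφw]
    · simp only [Iso.refl_hom, Category.comp_id, Category.id_comp]
    · rw [Iso.refl_hom, Category.comp_id, Functor.mapIso_hom, ← Category.assoc,
        ← Category.assoc, ← Functor.map_comp, ← Functor.map_comp, Category.assoc, hφt']
  have h₁ : Flat (Spec.map (CommRingCat.ofHom (algebraMap Γ(Z.left, ⊤) Γ(Y.left, ⊤)))) :=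
    (MorphismProperty.arrow_mk_iso_iff @Flat (arrowIsoSpecΓOfIsAffine t.left)).1 ht₁
  have h₂ : LocallyOfFinitePresentation
      (Spec.map (CommRingCat.ofHom (algebraMap Γ(Z.left, ⊤) Γ(Y.left, ⊤)))) :=
    (MorphismProperty.arrow_mk_iso_iff @LocallyOfFinitePresentation
      (arrowIsoSpecΓOfIsAffine t.left)).1 ht₂
  have h₃ : Surjective (Spec.map (CommRingCat.ofHom (algebraMap Γ(Z.left, ⊤) Γ(Y.left, ⊤)))) :=
    (MorphismProperty.arrow_mk_iso_iff @Surjective (arrowIsoSpecΓOfIsAffine t.left)).1 ht₃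
  obtain ⟨W, i₀, fst, hpb, hW⟩ := exists_rep_nf s a ((AlgSp.yon S).map φZ.inv ≫ g)
    ((AlgSp.yon S).map φW.inv ≫ e') sq₀ h₁ h₂ h₃
  refine ⟨W, i₀ ≫ φZ.inv, fst, ?_, hW⟩
  refine hpb.of_iso (Iso.refl _) (Iso.refl _) ((AlgSp.yon S).mapIso φZ.symm) (Iso.refl _)
    ?_ ?_ ?_ ?_
  · simp only [Iso.refl_hom, Category.comp_id, Category.id_comp]
  · rw [Iso.refl_hom, Category.id_comp, Functor.mapIso_hom, Iso.symm_hom, ← Functor.map_comp]
  · simp only [Iso.refl_hom, Category.comp_id, Category.id_comp]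
  · rw [Iso.refl_hom, Category.comp_id, Functor.mapIso_hom, Iso.symm_hom]

/-- Around every point of an affine scheme `Z`, a flat locally finitely presented covering family
admits a refinement by a single affine flat, locally finitely presented, surjective morphism onto a
basic open of `Z`. -/
lemma exists_local_cover {Z : Scheme.{u}} [IsAffine Z] {ι : Type*} (U : ι → Scheme.{u})
    (t : ∀ i, U i ⟶ Z) (hP : ∀ i, Flat (t i) ∧ LocallyOfFinitePresentation (t i)) (z : Z)
    (hz : ∃ i, z ∈ Set.range (t i)) :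
    ∃ (Z₀ Y : Scheme.{u}) (j : Z₀ ⟶ Z) (i : ι) (r : Y ⟶ U i) (q : Y ⟶ Z₀), IsAffine Z₀ ∧
      IsAffine Y ∧ IsOpenImmersion j ∧ z ∈ Set.range j ∧ r ≫ t i = q ≫ j ∧ Flat q ∧
      LocallyOfFinitePresentation q ∧ Surjective q := by
  obtain ⟨i, u, hu⟩ := hz
  obtain ⟨k, y, hy⟩ := (U i).affineCover.exists_eq u
  haveI : Flat (t i) := (hP i).1
  haveI : LocallyOfFinitePresentation (t i) := (hP i).2
  let ιV : (U i).affineCover.X k ⟶ U i := (U i).affineCover.f k
  let tV : (U i).affineCover.X k ⟶ Z := ιV ≫ t i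
  have htV : tV = ιV ≫ t i := rfl
  haveI : IsOpenImmersion ιV := inferInstanceAs (IsOpenImmersion ((U i).affineCover.f k))
  haveI : Flat tV := inferInstanceAs (Flat (ιV ≫ t i))
  haveI : LocallyOfFinitePresentation tV :=
    inferInstanceAs (LocallyOfFinitePresentation (ιV ≫ t i))
  let O : Z.Opens := ⟨Set.range tV, tV.isOpenMap.isOpen_range⟩
  have hzO : z ∈ O := ⟨y, by rw [htV, Scheme.Hom.comp_apply, hy, hu]⟩
  obtain ⟨f, hf₁, hf₂⟩ := (isAffineOpen_top Z).exists_basicOpen_le (V := O) ⟨z, hzO⟩ trivial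
  haveI : IsAffine (Z.basicOpen f).toScheme := (isAffineOpen_top Z).basicOpen f
  refine ⟨(Z.basicOpen f).toScheme, pullback tV (Z.basicOpen f).ι, (Z.basicOpen f).ι, i,
    pullback.fst tV (Z.basicOpen f).ι ≫ ιV, pullback.snd tV (Z.basicOpen f).ι, inferInstance,
    inferInstance, inferInstance, ?_, ?_, inferInstance, inferInstance, ⟨fun x => ?_⟩⟩
  · rw [Scheme.Opens.range_ι]
    exact hf₂
  · rw [Category.assoc, ← htV, pullback.condition]
  · have hx : (Z.basicOpen f).ι x ∈ O := hf₁ (by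
      have := (Z.basicOpen f).range_ι
      rw [← SetLike.mem_coe, ← this]
      exact ⟨x, rfl⟩)
    obtain ⟨v, hv⟩ := hx
    obtain ⟨p, -, hp⟩ := Scheme.Pullback.exists_preimage_pullback v x hv
    exact ⟨p, hp⟩

variable {H Q : AlgSp.Sp S}

/-- The affine case of effective descent of affine morphisms. -/
theorem exists_rep_of_isAffine (a : F ⟶ G) (b : H ⟶ G) [Sheaf.IsLocallySurjective b] (b' : Q ⟶ F)
    (a' : Q ⟶ H) (sq : IsPullback b' a' a b) (h : AlgSp.IsAffineMor a')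
    (Z : Over S) (hZ : IsAffine Z.left) (g : (AlgSp.yon S).obj Z ⟶ G) :
    ∃ (W : Over S) (i : W ⟶ Z) (fst : (AlgSp.yon S).obj W ⟶ F),
      IsPullback fst ((AlgSp.yon S).map i) a g ∧ IsAffine W.left := by
  obtain ⟨R, hR, hlift⟩ := Groth.Agent.S9884.exists_fppf_lift b g
  obtain ⟨ι, U, t, rfl⟩ := R.exists_eq_ofArrows
  rw [Scheme.fppfPrecoverage, Scheme.ofArrows_mem_precoverage_iff] at hR
  obtain ⟨hsurj, hP⟩ := hR
  have hloc : ∀ z : Z.left, ∃ (Z₀ : Over S) (j : Z₀ ⟶ Z) (W : Over S) (w : W ⟶ Z₀)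
      (fst : (AlgSp.yon S).obj W ⟶ F), IsOpenImmersion j.left ∧ z ∈ Set.range j.left ∧
      IsPullback fst ((AlgSp.yon S).map w) a ((AlgSp.yon S).map j ≫ g) ∧ IsAffine W.left ∧
      IsAffine Z₀.left := by
    intro z
    obtain ⟨Z₀', Y', j', i, r, q, hZ₀, hY', hj', hzj, hcomm, hq₁, hq₂, hq₃⟩ :=
      exists_local_cover U t hP z (hsurj z)
    let Z₀ : Over S := Over.mk (j' ≫ Z.hom)
    let j : Z₀ ⟶ Z := Over.homMk j' rfl
    let Y : Over S := Over.mk (q ≫ j' ≫ Z.hom)
    let tz : Y ⟶ Z₀ := Over.homMk q rfl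
    obtain ⟨d, hd⟩ := hlift (t i) ⟨i⟩
    let ro : Y ⟶ Over.mk (t i ≫ Z.hom) := Over.homMk r (by
      change r ≫ t i ≫ Z.hom = q ≫ j' ≫ Z.hom
      rw [← Category.assoc, hcomm, Category.assoc])
    have hro : ro ≫ (Over.homMk (t i) : Over.mk (t i ≫ Z.hom) ⟶ Z) = tz ≫ j := by
      ext1
      exact hcomm
    haveI : IsAffine Y.left := hY'
    haveI : IsAffine Z₀.left := hZ₀
    obtain ⟨W', w', fst', hpb', hW'⟩ := h (Z := Y) hY' ((AlgSp.yon S).map ro ≫ d)
    have hpb'' : IsPullback (fst' ≫ b') ((AlgSp.yon S).map w') a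
        ((AlgSp.yon S).map tz ≫ (AlgSp.yon S).map j ≫ g) := by
      have h1 := hpb'.paste_horiz sq
      rw [Category.assoc, hd, ← Category.assoc, ← Functor.map_comp, hro, Functor.map_comp,
        Category.assoc] at h1
      exact h1
    haveI : IsAffine W'.left := hW'
    obtain ⟨W, i₀, fst, hpb, hW⟩ := exists_rep_of_affine_cover a ((AlgSp.yon S).map j ≫ g) tz
      hq₁ hq₂ hq₃ w' (fst' ≫ b') hpb''
    exact ⟨Z₀, j, W, i₀, fst, hj', hzj, hpb, hW, hZ₀⟩
  choose Z₀ j W w fst hj hzj hpb hW hZ₀ using hloc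
  haveI : ∀ z, IsOpenImmersion (j z).left := hj
  have hcov : ∀ x : Z.left, ∃ z, x ∈ Set.range (j z).left := fun x => ⟨x, hzj x⟩
  obtain ⟨W₀, w₀, a₀, sq₀, hk⟩ := exists_rep_of_openCover a g Z₀ j W w fst hpb hcov
  choose k hk1 _ using hk
  refine ⟨W₀, w₀, a₀, sq₀, ?_⟩
  haveI : ∀ z, IsAffine (W z).left := hW
  haveI : ∀ z, IsAffine (Z₀ z).left := hZ₀
  have haff : IsAffineHom w₀.left :=
    property_of_openCover @IsAffineHom w₀ Z₀ j hcov W w k hk1 (fun z => inferInstance)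
  exact isAffine_of_isAffineHom w₀.left

/-- **Effective descent of affine morphisms along locally surjective maps of fppf sheaves.** -/
theorem isAffineMor_of_locallySurjective (a : F ⟶ G) (b : H ⟶ G) [Sheaf.IsLocallySurjective b]
    (b' : Q ⟶ F) (a' : Q ⟶ H) (sq : IsPullback b' a' a b) (h : AlgSp.IsAffineMor a') :
    AlgSp.IsAffineMor a :=
  fun Z hZ g => exists_rep_of_isAffine a b b' a' sq h Z hZ g

/-- A representable étale surjective map of fppf sheaves is locally surjective. -/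
lemma isLocallySurjective_of_repWith_etale_surjective (q : F ⟶ G)
    (hqe : AlgSp.RepWith @Etale q) (hqs : AlgSp.RepWith @Surjective q) :
    Sheaf.IsLocallySurjective q := by
  have h1 : AlgSp.RepWith @Flat q := ⟨hqe.1, fun U V g fst snd sq => by
    haveI : Etale snd.left := hqe.2 g fst snd sq
    exact (inferInstance : Flat snd.left)⟩
  have h2 : AlgSp.RepWith @LocallyOfFinitePresentation q := ⟨hqe.1, fun U V g fst snd sq => by
    haveI : Etale snd.left := hqe.2 g fst snd sq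
    exact (inferInstance : LocallyOfFinitePresentation snd.left)⟩
  exact Groth.Agent.S9885.isLocallySurjective_of_repWith q h1 h2 hqs

/-- Effective descent of affine morphisms along a representable étale surjective map. -/
theorem isAffineMor_of_etale_surjective (a : F ⟶ G) (b : H ⟶ G) (hbe : AlgSp.RepWith @Etale b)
    (hbs : AlgSp.RepWith @Surjective b) (b' : Q ⟶ F) (a' : Q ⟶ H) (sq : IsPullback b' a' a b)
    (h : AlgSp.IsAffineMor a') : AlgSp.IsAffineMor a := by
  haveI := isLocallySurjective_of_repWith_etale_surjective b hbe hbs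
  exact isAffineMor_of_locallySurjective a b b' a' sq h

end Groth.Agent.R2.H59.AffDesc
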