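-- helper59: affine hulls of schemes (`k : T ⟶ TE` with `TE` affine and `k.appTop` an isomorphism),
-- flat base change of affine hulls, and descent of open subsets along open surjections.
import Mathlib
import Groth.Agent.Lib.Helper12AffineDescent

set_option autoImplicit false
set_option linter.unusedSectionVars false
set_option linter.style.haveILetI false
universe u
open CategoryTheory CategoryTheory.Limits AlgebraicGeometry Opposite

set_option backward.isDefEq.respectTransparency false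

namespace Groth.Agent.R2.H59.QAffHull

/-- Maps out of a scheme to an affine scheme factor through an affine hull. -/
lemma hull_exists {T TE E' : Scheme.{u}} [IsAffine TE] [IsAffine E'] (k : T ⟶ TE)
    [IsIso k.appTop] (v : T ⟶ E') : ∃ vE : TE ⟶ E', k ≫ vE = v := by
  refine ⟨TE.isoSpec.hom ≫ Spec.map (inv k.appTop) ≫ Spec.map v.appTop ≫ E'.isoSpec.inv, ?_⟩
  have h1 : k ≫ TE.isoSpec.hom = T.toSpecΓ ≫ Spec.map k.appTop := Scheme.toSpecΓ_naturality k
  have h2 : v ≫ E'.isoSpec.hom = T.toSpecΓ ≫ Spec.map v.appTop := Scheme.toSpecΓ_naturality v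
  rw [← Category.assoc, h1, Category.assoc, ← Category.assoc (Spec.map k.appTop),
    ← Spec.map_comp, IsIso.inv_hom_id, Spec.map_id, Category.id_comp, ← Category.assoc, ← h2,
    Category.assoc, Iso.hom_inv_id, Category.comp_id]

/-- Uniqueness of the factorization through an affine hull. -/
lemma hull_unique {T TE E' : Scheme.{u}} [IsAffine E'] (k : T ⟶ TE) [IsIso k.appTop]
    (x y : TE ⟶ E') (h : k ≫ x = k ≫ y) : x = y := by
  apply ext_of_isAffine
  have h1 : (k ≫ x).appTop = (k ≫ y).appTop := by rw [h]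
  rw [Scheme.Hom.comp_appTop, Scheme.Hom.comp_appTop] at h1
  exact (cancel_mono k.appTop).1 h1

/-- Flat base change of affine hulls. -/
lemma isIso_appTop_of_isPullback {Z Y W' E' T TE : Scheme.{u}} [IsAffine Z] [IsAffine Y]
    [IsAffine E'] [CompactSpace W'] [QuasiSeparatedSpace W'] (t : Y ⟶ Z) [Flat t]
    (j' : W' ⟶ E') [IsIso j'.appTop] (iE' : E' ⟶ Z)
    (pr₁ : T ⟶ Y) (pr₂ : T ⟶ W') (hT : IsPullback pr₁ pr₂ t (j' ≫ iE'))
    (pr₁E : TE ⟶ Y) (pr₂E : TE ⟶ E') (hTE : IsPullback pr₁E pr₂E t iE') (k : T ⟶ TE)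
    (hk₁ : k ≫ pr₁E = pr₁) (hk₂ : k ≫ pr₂E = pr₂ ≫ j') : IsIso k.appTop := by
  have sq1 := Groth.Agent.Lib.Helper12.isPushout_appTop hT.flip
  have sq2 := Groth.Agent.Lib.Helper12.isPushout_appTop hTE.flip
  have sq1' : IsPushout iE'.appTop t.appTop (j'.appTop ≫ pr₂.appTop) pr₁.appTop := by
    refine sq1.of_iso (Iso.refl _) (asIso j'.appTop).symm (Iso.refl _) (Iso.refl _) ?_ ?_ ?_ ?_
    · rw [Iso.refl_hom, Category.id_comp, Iso.symm_hom, asIso_inv, Scheme.Hom.comp_appTop,
        Category.assoc, IsIso.hom_inv_id, Category.comp_id]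
    · rw [Iso.refl_hom, Iso.refl_hom, Category.id_comp, Category.comp_id]
    · rw [Iso.refl_hom, Category.comp_id, Iso.symm_hom, asIso_inv, IsIso.inv_hom_id_assoc]
    · rw [Iso.refl_hom, Iso.refl_hom, Category.id_comp, Category.comp_id]
  have hk : k.appTop = (sq2.isoIsPushout _ _ sq1').hom := by
    apply sq2.hom_ext
    · rw [IsPushout.inl_isoIsPushout_hom, ← Scheme.Hom.comp_appTop, hk₂, Scheme.Hom.comp_appTop]
    · rw [IsPushout.inr_isoIsPushout_hom, ← Scheme.Hom.comp_appTop, hk₁]
  rw [hk]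
  infer_instance

/-- Descent of open subsets along an open surjection, one-sided invariance. -/
lemma preimage_image_eq_of_invariant {E' E K : Scheme.{u}} (c : E' ⟶ E) (p₁ p₂ : K ⟶ E')
    (hK : IsPullback p₁ p₂ c c) (U' : Set E') (hU' : p₂ ⁻¹' U' ⊆ p₁ ⁻¹' U') :
    c ⁻¹' (c '' U') = U' := by
  apply Set.Subset.antisymm
  · rintro x₂ ⟨x₁, hx₁, hx⟩
    obtain ⟨ζ, hζ₁, hζ₂⟩ := Scheme.exists_preimage_of_isPullback hK x₂ x₁ hx.symm
    have : ζ ∈ p₂ ⁻¹' U' := by
      change p₂ ζ ∈ U'
      rw [hζ₂]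
      exact hx₁
    have h2 := hU' this
    change p₁ ζ ∈ U' at h2
    rwa [hζ₁] at h2
  · exact Set.subset_preimage_image _ _

/-- A commutative square of open immersions over a morphism `f` is a pullback as soon as the range
of the upper open immersion is the preimage of the range of the lower one. -/
lemma isPullback_of_isOpenImmersion {W' E' W E : Scheme.{u}} (j' : W' ⟶ E') (c : W' ⟶ W)
    (f : E' ⟶ E) (ι : W ⟶ E) [IsOpenImmersion j'] [IsOpenImmersion ι] (hc : j' ≫ f = c ≫ ι)
    (hr : Set.range j' = f ⁻¹' (Set.range ι)) : IsPullback j' c f ι := by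
  have hrange : Set.range j' = Set.range (pullback.fst f ι) := by
    rw [hr, IsOpenImmersion.range_pullbackFst]
    rfl
  let e : W' ≅ pullback f ι := IsOpenImmersion.isoOfRangeEq j' (pullback.fst f ι) hrange
  have he₁ : e.hom ≫ pullback.fst f ι = j' := IsOpenImmersion.isoOfRangeEq_hom_fac _ _ _
  have he₂ : e.hom ≫ pullback.snd f ι = c := by
    rw [← cancel_mono ι, Category.assoc, ← pullback.condition, ← Category.assoc, he₁, hc]
  exact IsPullback.of_iso_pullback ⟨hc⟩ e he₁ he₂

end Groth.Agent.R2.H59.QAffHull
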