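-- helper59: effective fppf descent of quasi-affine morphisms, normal form: the cover is
-- `Spec A' ⟶ Spec A` and the base change of `a : F ⟶ G` to `Spec A'` is a quasi-affine scheme `W'`.
import Mathlib
import Groth.Agent.R2.H59AffDescNF
import Groth.Agent.R2.H59QAffHull

set_option autoImplicit false
set_option linter.unusedSectionVars false
set_option linter.style.haveILetI false
universe u
open CategoryTheory CategoryTheory.Limits AlgebraicGeometry Opposite TensorProduct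

set_option backward.isDefEq.respectTransparency false

namespace Groth.Agent.R2.H59.QAffNF

open Groth.Agent.S13210 Groth.Agent.Lib.Helper12.ZarGlue Groth.Agent.R2.H59.AffDescGlue
  Groth.Agent.R2.H59.AffDescRing Groth.Agent.R2.H59.AffDescCore Groth.Agent.R2.H59.AffDescNF
  Groth.Agent.R2.H59.QAffHull

section tau

variable {S : Scheme.{u}} {A A' B' : Type u} [CommRing A] [CommRing A']
  [CommRing B'] [Algebra A A'] [Algebra A B'] [Algebra A' B'] [IsScalarTower A A' B']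
  (s : Spec (CommRingCat.of A) ⟶ S)

/-- The scheme-level output of the ring lemma: the invariants of a coaction give a descended affine
scheme. -/
theorem isPullback_of_tau [Module.Flat A A'] (τ : B' →ₐ[A] A' ⊗[A] B')
    (h1 : ∀ (x : A') (u : B'), τ (x • u) = (x ⊗ₜ[A] (1 : B')) * τ u)
    (h2' : (mu (A := A) (A' := A') (B' := B')).comp τ = AlgHom.id A B')
    (h3' : (Algebra.TensorProduct.map (AlgHom.id A A') τ).comp τ =
      (Algebra.TensorProduct.map (AlgHom.id A A') Algebra.TensorProduct.includeRight).comp τ) :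
    IsPullback (ovMap s (IsScalarTower.toAlgHom A A' B')) (ovMap s (inv τ).val)
      (ovMap s (Algebra.ofId A A')) (ovMap s (Algebra.ofId A (inv τ))) ∧
    ovMap s τ ≫ ovMap s (inv τ).val =
      ovMap s (Algebra.TensorProduct.includeRight : B' →ₐ[A] A' ⊗[A] B') ≫ ovMap s (inv τ).val := by
  have hbij := bijective_lam τ h1 (fun u => DFunLike.congr_fun h2' u)
    (fun u => DFunLike.congr_fun h3' u)
  refine ⟨?_, ?_⟩
  · apply isPullback_ovMap
    let e : A' ⊗[A] (inv τ) ≃ₐ[A] B' := AlgEquiv.ofBijective (lam τ) hbij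
    refine (CommRingCat.isPushout_tensorProduct A A' (inv τ)).of_iso (Iso.refl _) (Iso.refl _)
      (Iso.refl _) e.toRingEquiv.toCommRingCatIso ?_ ?_ ?_ ?_
    · rfl
    · rfl
    · ext x
      change lam τ (x ⊗ₜ[A] 1) = algebraMap A' B' x
      simp [Algebra.smul_def]
    · ext x
      change lam τ (1 ⊗ₜ[A] x) = (x : B')
      simp
  · rw [ovMap_comp, ovMap_comp]
    congr 1
    ext b
    exact b.2

end tau

section hull

variable {S : Scheme.{u}} {A : Type u} [CommRing A] (s : Spec (CommRingCat.of A) ⟶ S)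
  {R R' : Type u} [CommRing R] [CommRing R'] [Algebra A R] [Algebra A R']

instance isAffine_ov_left : IsAffine (ov s R).left :=
  inferInstanceAs (IsAffine (Spec (CommRingCat.of R)))

/-- Factorization through an affine hull, over `S`. -/
lemma exists_ovMap_of_hull {T : Over S} (k : T ⟶ ov s R) [IsIso k.left.appTop]
    (v : T ⟶ ov s R')
    (hv : v ≫ ovMap s (Algebra.ofId A R') = k ≫ ovMap s (Algebra.ofId A R)) :
    ∃ θ : R' →ₐ[A] R, k ≫ ovMap s θ = v := by
  obtain ⟨vE, hvE⟩ := hull_exists k.left v.left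
  have h1 : vE ≫ Spec.map (CommRingCat.ofHom (algebraMap A R')) =
      Spec.map (CommRingCat.ofHom (algebraMap A R)) := by
    apply hull_unique k.left
    rw [← Category.assoc, hvE]
    exact congrArg CommaMorphism.left hv
  let vo : ov s R ⟶ ov s R' := Over.homMk vE (by
    change vE ≫ Spec.map _ ≫ s = Spec.map _ ≫ s
    rw [← Category.assoc, h1])
  have hvo : vo ≫ ovMap s (Algebra.ofId A R') = ovMap s (Algebra.ofId A R) := by
    ext1
    exact h1
  obtain ⟨θ, hθ⟩ := exists_ovMap s vo hvo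
  refine ⟨θ, ?_⟩
  rw [← hθ]
  ext1
  exact hvE

/-- Uniqueness of factorizations through an affine hull, over `S`. -/
lemma ovMap_ext_of_hull {T : Over S} (k : T ⟶ ov s R) [IsIso k.left.appTop]
    (θ₁ θ₂ : R' →ₐ[A] R) (h : k ≫ ovMap s θ₁ = k ≫ ovMap s θ₂) : θ₁ = θ₂ := by
  apply ovMap_injective s
  ext1
  apply hull_unique k.left
  exact congrArg CommaMorphism.left h

end hull

section QA

lemma toSpecΓ_comp_SpecMap {X : Scheme.{u}} {R : CommRingCat.{u}} (f : X ⟶ Spec R) :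
    X.toSpecΓ ≫ Spec.map ((Scheme.ΓSpecIso R).inv ≫ f.appTop) = f := by
  rw [Spec.map_comp, ← Category.assoc, ← Scheme.toSpecΓ_naturality, Category.assoc,
    toSpecΓ_SpecMap_ΓSpecIso_inv, Category.comp_id]

variable {S : Scheme.{u}} {F G : AlgSp.Sp S} {A A' : Type u} [CommRing A] [CommRing A']
  [Algebra A A'] (s : Spec (CommRingCat.of A) ⟶ S)

set_option maxHeartbeats 1600000 in
/-- Effective descent of quasi-affine morphisms, normal form. -/
theorem exists_rep_qaff_nf (a : F ⟶ G) (g : (AlgSp.yon S).obj (ov s A) ⟶ G) {W' : Over S}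
    (w' : W' ⟶ ov s A') (e' : (AlgSp.yon S).obj W' ⟶ F)
    (sq' : IsPullback e' ((AlgSp.yon S).map w') a
      ((AlgSp.yon S).map (ovMap s (Algebra.ofId A A')) ≫ g))
    (h₁ : Flat (Spec.map (CommRingCat.ofHom (algebraMap A A'))))
    (h₂ : LocallyOfFinitePresentation (Spec.map (CommRingCat.ofHom (algebraMap A A'))))
    (h₃ : Surjective (Spec.map (CommRingCat.ofHom (algebraMap A A'))))
    [hqa : W'.left.IsQuasiAffine] :
    ∃ (W : Over S) (i : W ⟶ ov s A) (fst : (AlgSp.yon S).obj W ⟶ F),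
      IsPullback fst ((AlgSp.yon S).map i) a g ∧ W.left.IsQuasiAffine := by
  have hflat : Module.Flat A A' := by
    have := (HasRingHomProperty.Spec_iff (P := @Flat)).1 h₁
    exact RingHom.flat_algebraMap_iff.1 this
  letI algA'B' : Algebra A' Γ(W'.left, ⊤) :=
    ((Scheme.ΓSpecIso (CommRingCat.of A')).inv ≫ w'.left.appTop).hom.toAlgebra
  letI algAB' : Algebra A Γ(W'.left, ⊤) :=
    ((algebraMap A' Γ(W'.left, ⊤)).comp (algebraMap A A')).toAlgebra
  haveI : IsScalarTower A A' Γ(W'.left, ⊤) := IsScalarTower.of_algebraMap_eq (fun _ => rfl)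
  set t : ov s A' ⟶ ov s A := ovMap s (Algebra.ofId A A') with ht
  have ht₁ : Flat t.left := h₁
  have ht₂ : LocallyOfFinitePresentation t.left := h₂
  have ht₃ : Surjective t.left := h₃
  -- the affine hull of `W'`
  have hj'left : W'.left.toSpecΓ ≫
      Spec.map (CommRingCat.ofHom (algebraMap A' Γ(W'.left, ⊤))) = w'.left :=
    toSpecΓ_comp_SpecMap w'.left
  let j' : W' ⟶ ov s Γ(W'.left, ⊤) := Over.homMk W'.left.toSpecΓ (by
    change W'.left.toSpecΓ ≫ Spec.map (CommRingCat.ofHom (algebraMap A Γ(W'.left, ⊤))) ≫ s = W'.hom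
    have : CommRingCat.ofHom (algebraMap A Γ(W'.left, ⊤)) =
        CommRingCat.ofHom (algebraMap A A') ≫
          CommRingCat.ofHom (algebraMap A' Γ(W'.left, ⊤)) := rfl
    rw [this, Spec.map_comp, ← Category.assoc, ← Category.assoc, hj'left, Category.assoc]
    exact Over.w w')
  set w'E : ov s Γ(W'.left, ⊤) ⟶ ov s A' :=
    ovMap s (IsScalarTower.toAlgHom A A' Γ(W'.left, ⊤)) with hw'E
  have hj'w : j' ≫ w'E = w' := by
    ext1
    exact hj'left
  haveI hj'iso : IsIso j'.left.appTop := by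
    change IsIso W'.left.toSpecΓ.appTop
    rw [Scheme.toSpecΓ_appTop]
    infer_instance
  have hw'Et : w'E ≫ t = ovMap s (Algebra.ofId A Γ(W'.left, ⊤)) := by
    rw [ovMap_comp]
    congr 1
  -- the fibre product `T₁ = Y ×_Z W'` and its affine hull
  obtain ⟨T₁, pr₁, pr₂, hT₁⟩ : ∃ (T₁ : Over S) (pr₁ : T₁ ⟶ ov s A') (pr₂ : T₁ ⟶ W'),
      IsPullback pr₁ pr₂ t (w' ≫ t) := ⟨_, _, _, IsPullback.of_hasPullback _ _⟩
  have hTE₁ := isPullback_ov_tensor s A' Γ(W'.left, ⊤)
  set pr₁E : ov s (A' ⊗[A] Γ(W'.left, ⊤)) ⟶ ov s A' :=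
    ovMap s Algebra.TensorProduct.includeLeft with hpr₁E
  set pr₂E : ov s (A' ⊗[A] Γ(W'.left, ⊤)) ⟶ ov s Γ(W'.left, ⊤) :=
    ovMap s Algebra.TensorProduct.includeRight with hpr₂E
  have hk₁w : pr₁ ≫ ovMap s (Algebra.ofId A A') =
      (pr₂ ≫ j') ≫ ovMap s (Algebra.ofId A Γ(W'.left, ⊤)) := by
    rw [← hw'Et, Category.assoc, ← Category.assoc j', hj'w]
    exact hT₁.w
  have hk₁₁ : hTE₁.lift pr₁ (pr₂ ≫ j') hk₁w ≫ pr₁E = pr₁ := hTE₁.lift_fst _ _ _
  have hk₁₂ : hTE₁.lift pr₁ (pr₂ ≫ j') hk₁w ≫ pr₂E = pr₂ ≫ j' := hTE₁.lift_snd _ _ _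
  set k₁ : T₁ ⟶ ov s (A' ⊗[A] Γ(W'.left, ⊤)) :=
    hTE₁.lift pr₁ (pr₂ ≫ j') hk₁w with hk₁
  haveI : CompactSpace W'.left := hqa.toCompactSpace
  haveI : QuasiSeparatedSpace W'.left := inferInstance
  haveI hk₁iso : IsIso k₁.left.appTop := by
    refine isIso_appTop_of_isPullback (Z := (ov s A).left) (Y := (ov s A').left)
      (E' := (ov s Γ(W'.left, ⊤)).left) t.left j'.left
      (ovMap s (Algebra.ofId A Γ(W'.left, ⊤))).left pr₁.left pr₂.left ?_ pr₁E.left pr₂E.left
      (hTE₁.map (Over.forget S)) k₁.left (congrArg CommaMorphism.left hk₁₁)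
      (congrArg CommaMorphism.left hk₁₂)
    have h := hT₁.map (Over.forget S)
    have e : (Over.forget S).map (w' ≫ t) =
        j'.left ≫ (ovMap s (Algebra.ofId A Γ(W'.left, ⊤))).left := by
      rw [← hw'Et]
      conv_lhs => rw [← hj'w, Category.assoc]
      rfl
    rw [e] at h
    exact h
  -- the action map
  obtain ⟨act, hact₁, hact₂⟩ := exists_point sq' ((AlgSp.yon S).map pr₂ ≫ e') pr₁ (by
    rw [Category.assoc, sq'.w, ← Category.assoc ((AlgSp.yon S).map w'), ← Functor.map_comp,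
      ← Category.assoc, ← Functor.map_comp, ← hT₁.w, Functor.map_comp, Category.assoc])
  have hTE₁Z : ovMap s (Algebra.ofId A (A' ⊗[A] Γ(W'.left, ⊤))) = pr₁E ≫ t := by
    rw [ovMap_comp]
    congr 1
  -- the coaction
  obtain ⟨τ, hτ⟩ := exists_ovMap_of_hull s k₁ (act ≫ j') (by
    rw [Category.assoc, ← hw'Et, ← Category.assoc j', hj'w, ← Category.assoc, hact₂, hTE₁Z,
      ← Category.assoc, hk₁₁])
  have hτw : ovMap s τ ≫ w'E = pr₁E := by
    rw [ovMap_comp]
    congr 1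
    apply ovMap_ext_of_hull s k₁
    rw [← ovMap_comp, ← Category.assoc, hτ, Category.assoc, hj'w, hact₂]
    exact hk₁₁.symm
  have hτ₁ : ∀ x : A', τ (algebraMap A' Γ(W'.left, ⊤) x) = x ⊗ₜ[A] (1 : Γ(W'.left, ⊤)) := by
    intro x
    have h : τ.comp (IsScalarTower.toAlgHom A A' Γ(W'.left, ⊤)) =
        Algebra.TensorProduct.includeLeft := by
      apply ovMap_injective s
      rw [← ovMap_comp]
      exact hτw
    exact DFunLike.congr_fun h x
  have h1 : ∀ (x : A') (u : Γ(W'.left, ⊤)),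
      τ (x • u) = (x ⊗ₜ[A] (1 : Γ(W'.left, ⊤))) * τ u := by
    intro x u
    rw [Algebra.smul_def, map_mul, hτ₁]
  -- counit
  have hgraph₁ : hT₁.lift w' (𝟙 W') (by rw [Category.id_comp]) ≫ pr₁ = w' := hT₁.lift_fst _ _ _
  have hgraph₂ : hT₁.lift w' (𝟙 W') (by rw [Category.id_comp]) ≫ pr₂ = 𝟙 W' :=
    hT₁.lift_snd _ _ _
  set graph : W' ⟶ T₁ := hT₁.lift w' (𝟙 W') (by rw [Category.id_comp])
    with hgraph
  have hga : graph ≫ act = 𝟙 W' := by
    apply point_ext sq'
    · rw [Functor.map_comp, Category.assoc, hact₁, ← Category.assoc, ← Functor.map_comp, hgraph₂]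
    · rw [Category.assoc, hact₂, hgraph₁, Category.id_comp]
  have hgk : graph ≫ k₁ = j' ≫ ovMap s (mu (A := A) (A' := A') (B' := Γ(W'.left, ⊤))) := by
    apply hTE₁.hom_ext
    · rw [Category.assoc, hk₁₁, hgraph₁, Category.assoc, ovMap_comp]
      have e1 : (mu (A := A) (A' := A') (B' := Γ(W'.left, ⊤))).comp
          Algebra.TensorProduct.includeLeft = IsScalarTower.toAlgHom A A' Γ(W'.left, ⊤) := by
        ext x
        simp [Algebra.smul_def]
      rw [e1]
      exact hj'w.symm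
    · rw [Category.assoc, hk₁₂, ← Category.assoc, hgraph₂, Category.id_comp, Category.assoc,
        ovMap_comp]
      have e1 : (mu (A := A) (A' := A') (B' := Γ(W'.left, ⊤))).comp
          Algebra.TensorProduct.includeRight = AlgHom.id A Γ(W'.left, ⊤) := by
        ext x
        simp
      rw [e1, ovMap_id, Category.comp_id]
  have h2' : (mu (A := A) (A' := A') (B' := Γ(W'.left, ⊤))).comp τ =
      AlgHom.id A Γ(W'.left, ⊤) := by
    apply ovMap_ext_of_hull s j'
    rw [← ovMap_comp, ← Category.assoc, ← hgk, Category.assoc, hτ, ← Category.assoc, hga,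
      Category.id_comp, ovMap_id, Category.comp_id]
  -- coassociativity: the fibre product `T₂ = Y ×_Z T₁` and its affine hull
  obtain ⟨T₂, r₁, r₂, hT₂⟩ : ∃ (T₂ : Over S) (r₁ : T₂ ⟶ ov s A') (r₂ : T₂ ⟶ T₁),
      IsPullback r₁ r₂ t (pr₂ ≫ w' ≫ t) := ⟨_, _, _, IsPullback.of_hasPullback _ _⟩
  have hm₁w : r₁ ≫ t = (r₂ ≫ act) ≫ w' ≫ t := by
    rw [Category.assoc, ← Category.assoc act, hact₂, hT₁.w]
    exact hT₂.w
  have hm₂w : r₁ ≫ t = (r₂ ≫ pr₂) ≫ w' ≫ t := by
    rw [Category.assoc]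
    exact hT₂.w
  have hm₁₁ : hT₁.lift r₁ (r₂ ≫ act) hm₁w ≫ pr₁ = r₁ := hT₁.lift_fst _ _ _
  have hm₁₂ : hT₁.lift r₁ (r₂ ≫ act) hm₁w ≫ pr₂ = r₂ ≫ act := hT₁.lift_snd _ _ _
  have hm₂₁ : hT₁.lift r₁ (r₂ ≫ pr₂) hm₂w ≫ pr₁ = r₁ := hT₁.lift_fst _ _ _
  have hm₂₂ : hT₁.lift r₁ (r₂ ≫ pr₂) hm₂w ≫ pr₂ = r₂ ≫ pr₂ := hT₁.lift_snd _ _ _
  set m₁ : T₂ ⟶ T₁ := hT₁.lift r₁ (r₂ ≫ act) hm₁w with hm₁
  set m₂ : T₂ ⟶ T₁ := hT₁.lift r₁ (r₂ ≫ pr₂) hm₂w with hm₂
  have hm : m₁ ≫ act = m₂ ≫ act := by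
    apply point_ext sq'
    · rw [Functor.map_comp, Functor.map_comp, Category.assoc, Category.assoc, hact₁,
        ← Category.assoc, ← Category.assoc, ← Functor.map_comp, ← Functor.map_comp, hm₁₂, hm₂₂,
        Functor.map_comp, Functor.map_comp, Category.assoc, Category.assoc, hact₁]
    · rw [Category.assoc, Category.assoc, hact₂, hm₁₁, hm₂₁]
  have hTE₂ := isPullback_ov_tensor s A' (A' ⊗[A] Γ(W'.left, ⊤))
  set r₁E : ov s (A' ⊗[A] (A' ⊗[A] Γ(W'.left, ⊤))) ⟶ ov s A' :=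
    ovMap s Algebra.TensorProduct.includeLeft with hr₁E
  set r₂E : ov s (A' ⊗[A] (A' ⊗[A] Γ(W'.left, ⊤))) ⟶ ov s (A' ⊗[A] Γ(W'.left, ⊤)) :=
    ovMap s Algebra.TensorProduct.includeRight with hr₂E
  have hk₂w : r₁ ≫ ovMap s (Algebra.ofId A A') =
      (r₂ ≫ k₁) ≫ ovMap s (Algebra.ofId A (A' ⊗[A] Γ(W'.left, ⊤))) := by
    rw [hTE₁Z, Category.assoc, ← Category.assoc k₁, hk₁₁, hT₁.w]
    exact hT₂.w
  have hk₂₁ : hTE₂.lift r₁ (r₂ ≫ k₁) hk₂w ≫ r₁E = r₁ := hTE₂.lift_fst _ _ _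
  have hk₂₂ : hTE₂.lift r₁ (r₂ ≫ k₁) hk₂w ≫ r₂E = r₂ ≫ k₁ := hTE₂.lift_snd _ _ _
  set k₂ : T₂ ⟶ ov s (A' ⊗[A] (A' ⊗[A] Γ(W'.left, ⊤))) :=
    hTE₂.lift r₁ (r₂ ≫ k₁) hk₂w with hk₂
  have hpr₂aff : IsAffineHom pr₂.left :=
    MorphismProperty.of_isPullback (P := @IsAffineHom) (hT₁.map (Over.forget S))
      (inferInstance : IsAffineHom t.left)
  haveI : CompactSpace T₁.left := QuasiCompact.compactSpace_of_compactSpace pr₂.left
  haveI : QuasiSeparatedSpace T₁.left := quasiSeparatedSpace_of_quasiSeparated pr₂.left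
  haveI hk₂iso : IsIso k₂.left.appTop := by
    refine isIso_appTop_of_isPullback (Z := (ov s A).left) (Y := (ov s A').left)
      (E' := (ov s (A' ⊗[A] Γ(W'.left, ⊤))).left) t.left k₁.left
      (ovMap s (Algebra.ofId A (A' ⊗[A] Γ(W'.left, ⊤)))).left r₁.left r₂.left ?_ r₁E.left
      r₂E.left (hTE₂.map (Over.forget S)) k₂.left (congrArg CommaMorphism.left hk₂₁)
      (congrArg CommaMorphism.left hk₂₂)
    have h := hT₂.map (Over.forget S)
    have e : (Over.forget S).map (pr₂ ≫ w' ≫ t) =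
        k₁.left ≫ (ovMap s (Algebra.ofId A (A' ⊗[A] Γ(W'.left, ⊤)))).left := by
      rw [hTE₁Z, ← hT₁.w]
      conv_lhs => rw [← hk₁₁, Category.assoc]
      rfl
    rw [e] at h
    exact h
  have hmk₁ : m₁ ≫ k₁ = k₂ ≫ ovMap s (Algebra.TensorProduct.map (AlgHom.id A A') τ) := by
    apply hTE₁.hom_ext
    · rw [Category.assoc, hk₁₁, hm₁₁, Category.assoc, ovMap_comp]
      have e1 : (Algebra.TensorProduct.map (AlgHom.id A A') τ).comp
          Algebra.TensorProduct.includeLeft = Algebra.TensorProduct.includeLeft := by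
        ext x
        simp
      rw [e1]
      exact hk₂₁.symm
    · rw [Category.assoc, hk₁₂, ← Category.assoc, hm₁₂, Category.assoc, Category.assoc, ovMap_comp]
      have e1 : (Algebra.TensorProduct.map (AlgHom.id A A') τ).comp
          Algebra.TensorProduct.includeRight =
          (Algebra.TensorProduct.includeRight :
            A' ⊗[A] Γ(W'.left, ⊤) →ₐ[A] A' ⊗[A] (A' ⊗[A] Γ(W'.left, ⊤))).comp τ := by
        ext x
        simp
      rw [e1, ← ovMap_comp, ← Category.assoc k₂, hk₂₂, Category.assoc, hτ]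
  have hmk₂ : m₂ ≫ k₁ = k₂ ≫ ovMap s (Algebra.TensorProduct.map (AlgHom.id A A')
      (Algebra.TensorProduct.includeRight : Γ(W'.left, ⊤) →ₐ[A] A' ⊗[A] Γ(W'.left, ⊤))) := by
    apply hTE₁.hom_ext
    · rw [Category.assoc, hk₁₁, hm₂₁, Category.assoc, ovMap_comp]
      have e1 : (Algebra.TensorProduct.map (AlgHom.id A A')
          (Algebra.TensorProduct.includeRight : Γ(W'.left, ⊤) →ₐ[A] A' ⊗[A] Γ(W'.left, ⊤))).comp
          Algebra.TensorProduct.includeLeft = Algebra.TensorProduct.includeLeft := by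
        ext x
        simp
      rw [e1]
      exact hk₂₁.symm
    · rw [Category.assoc, hk₁₂, ← Category.assoc, hm₂₂, Category.assoc, Category.assoc, ovMap_comp]
      have e1 : (Algebra.TensorProduct.map (AlgHom.id A A')
          (Algebra.TensorProduct.includeRight : Γ(W'.left, ⊤) →ₐ[A] A' ⊗[A] Γ(W'.left, ⊤))).comp
          Algebra.TensorProduct.includeRight =
          (Algebra.TensorProduct.includeRight :
            A' ⊗[A] Γ(W'.left, ⊤) →ₐ[A] A' ⊗[A] (A' ⊗[A] Γ(W'.left, ⊤))).comp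
            Algebra.TensorProduct.includeRight := by
        ext x
        simp
      rw [e1, ← ovMap_comp, ← Category.assoc k₂, hk₂₂, Category.assoc, hk₁₂]
  have h3' : (Algebra.TensorProduct.map (AlgHom.id A A') τ).comp τ =
      (Algebra.TensorProduct.map (AlgHom.id A A') Algebra.TensorProduct.includeRight).comp τ := by
    apply ovMap_ext_of_hull s k₂
    rw [← ovMap_comp, ← ovMap_comp, ← Category.assoc, ← Category.assoc, ← hmk₁, ← hmk₂,
      Category.assoc, Category.assoc, hτ, ← Category.assoc, ← Category.assoc, hm]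
  obtain ⟨P1E, P2E⟩ := isPullback_of_tau s τ h1 h2' h3'
  set cE : ov s Γ(W'.left, ⊤) ⟶ ov s (inv τ) := ovMap s (inv τ).val with hcE
  set iE : ov s (inv τ) ⟶ ov s A := ovMap s (Algebra.ofId A (inv τ)) with hiE
  have hcEiE : cE ≫ iE = ovMap s (Algebra.ofId A Γ(W'.left, ⊤)) := by
    rw [← hw'Et]
    exact P1E.w.symm
  -- the kernel pair of `cE`
  have hK : IsPullback (ovMap s τ) pr₂E cE cE := by
    refine IsPullback.of_right ?_ P2E P1E
    rw [hτw, hcEiE]
    exact hTE₁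
  -- `T₁ = T₁E ×_{E'} W'`
  have hTk : IsPullback k₁ pr₂ pr₂E j' := by
    refine IsPullback.of_right ?_ hk₁₂ hTE₁
    rw [hk₁₁]
    have e : j' ≫ ovMap s (Algebra.ofId A Γ(W'.left, ⊤)) = w' ≫ t := by
      rw [← hw'Et, ← Category.assoc, hj'w]
    rw [e]
    exact hT₁
  -- descent of the open subscheme `W' ⊆ E'`
  haveI : IsOpenImmersion j'.left := inferInstanceAs (IsOpenImmersion W'.left.toSpecΓ)
  have hinv : pr₂E.left ⁻¹' (Set.range j'.left) ⊆ (ovMap s τ).left ⁻¹' (Set.range j'.left) := by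
    rintro ζ ⟨x₁, hx₁⟩
    obtain ⟨ζ', hζ'₁, -⟩ := Scheme.exists_preimage_of_isPullback (hTk.map (Over.forget S)) ζ x₁
      hx₁.symm
    refine ⟨act.left ζ', ?_⟩
    have e1 : k₁.left ≫ (ovMap s τ).left = act.left ≫ j'.left := congrArg CommaMorphism.left hτ
    have e2 : (ovMap s τ).left (k₁.left ζ') = j'.left (act.left ζ') := by
      rw [← Scheme.Hom.comp_apply, ← Scheme.Hom.comp_apply, e1]
    rw [← e2]
    exact congrArg (ovMap s τ).left hζ'₁
  have hpre := preimage_image_eq_of_invariant cE.left (ovMap s τ).left pr₂E.left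
    (hK.map (Over.forget S)) (Set.range j'.left) hinv
  have hcE₁ : Flat cE.left :=
    MorphismProperty.of_isPullback (P := @Flat) (P1E.map (Over.forget S)) ht₁
  have hcE₂ : LocallyOfFinitePresentation cE.left :=
    MorphismProperty.of_isPullback (P := @LocallyOfFinitePresentation)
      (P1E.map (Over.forget S)) ht₂
  have hopen : IsOpen (cE.left '' Set.range j'.left) :=
    cE.left.isOpenMap _ j'.left.isOpenEmbedding.isOpen_range
  let O : (ov s (inv τ)).left.Opens := ⟨cE.left '' Set.range j'.left, hopen⟩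
  let W : Over S := Over.mk (O.ι ≫ (ov s (inv τ)).hom)
  let ιW : W ⟶ ov s (inv τ) := Over.homMk O.ι rfl
  have hrange : Set.range (j'.left ≫ cE.left) ⊆ Set.range O.ι := by
    rw [Scheme.Opens.range_ι]
    rintro _ ⟨x, rfl⟩
    exact ⟨j'.left x, ⟨x, rfl⟩, rfl⟩
  have hcl : IsOpenImmersion.lift O.ι (j'.left ≫ cE.left) hrange ≫ O.ι = j'.left ≫ cE.left :=
    IsOpenImmersion.lift_fac _ _ _
  let c : W' ⟶ W := Over.homMk (IsOpenImmersion.lift O.ι (j'.left ≫ cE.left) hrange) (by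
    change IsOpenImmersion.lift O.ι (j'.left ≫ cE.left) hrange ≫ O.ι ≫ (ov s (inv τ)).hom = W'.hom
    rw [← Category.assoc, hcl]
    exact Over.w (j' ≫ cE))
  have hc : j' ≫ cE = c ≫ ιW := by
    ext1
    exact hcl.symm
  have hsqO : IsPullback j' c cE ιW := by
    refine IsPullback.of_map (Over.forget S) hc ?_
    refine isPullback_of_isOpenImmersion j'.left c.left cE.left O.ι hcl.symm ?_
    refine Eq.trans hpre.symm ?_
    congr 1
    exact O.range_ι.symm
  have P1 : IsPullback w' c t (ιW ≫ iE) := by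
    have h := hsqO.paste_horiz P1E
    rw [hj'w] at h
    exact h
  haveI : Mono ιW := by
    haveI : Mono ιW.left := (inferInstance : Mono O.ι)
    exact Over.mono_of_mono_left ιW
  have P2 : act ≫ c = pr₂ ≫ c := by
    rw [← cancel_mono ιW, Category.assoc, Category.assoc, ← hc, ← Category.assoc, ← hτ,
      Category.assoc, P2E, ← Category.assoc, hk₁₂, Category.assoc]
  obtain ⟨fst, hfst⟩ := isPullback_of_descent a g t w' e' sq' pr₁ pr₂ hT₁ act hact₁ hact₂ c
    (ιW ≫ iE) P1 P2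
  refine ⟨W, ιW ≫ iE, fst, hfst, ?_⟩
  have hcomp : IsCompact (cE.left '' Set.range j'.left) :=
    (isCompact_range j'.left.continuous).image cE.left.continuous
  have hcs : CompactSpace O.toScheme := isCompact_iff_compactSpace.1 hcomp
  exact (Scheme.IsQuasiAffine.of_isImmersion O.ι : (O.toScheme).IsQuasiAffine)

end QA

end Groth.Agent.R2.H59.QAffNF
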