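-- helper59: effective fppf descent of quasi-affine morphisms of fppf sheaves.
import Mathlib
import Groth.Agent.R2.H59QAffNF
import Groth.Agent.R2.H59AffDesc

set_option autoImplicit false
set_option linter.unusedSectionVars false
set_option linter.style.haveILetI false
universe u
open CategoryTheory CategoryTheory.Limits AlgebraicGeometry Opposite TensorProduct

set_option backward.isDefEq.respectTransparency false

namespace Groth.Agent.R2.H59.QAff

open Groth.Agent.S13210 Groth.Agent.Lib.Helper12.ZarGlue Groth.Agent.R2.H59.AffDescGlue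
  Groth.Agent.R2.H59.AffDescNF Groth.Agent.R2.H59.QAffNF Groth.Agent.R2.H59.AffDesc

variable {S : Scheme.{u}} {F G : AlgSp.Sp S}

/-- Sections of an fppf sheaf over an empty scheme are unique. -/
lemma eq_of_isEmpty (H : AlgSp.Sp S) {T : Over S} [IsEmpty T.left]
    (e e' : (AlgSp.yon S).obj T ⟶ H) : e = e' :=
  eq_of_cover H (fun k : PEmpty.{u + 1} => k.elim) (fun k => k.elim)
    (Groth.Agent.R2.H43.CutOut.ofArrows_mem_J _ _ (fun k => k.elim) (fun w => isEmptyElim w))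
    e e' (fun k => k.elim)

/-- Effective descent of quasi-affine morphisms along a single affine fppf cover of an affine
scheme. -/
theorem exists_rep_of_qaff_cover (a : F ⟶ G) {Z Y W' : Over S} [IsAffine Z.left]
    [IsAffine Y.left] [W'.left.IsQuasiAffine] (g : (AlgSp.yon S).obj Z ⟶ G) (t : Y ⟶ Z)
    (ht₁ : Flat t.left) (ht₂ : LocallyOfFinitePresentation t.left) (ht₃ : Surjective t.left)
    (w' : W' ⟶ Y) (e' : (AlgSp.yon S).obj W' ⟶ F)
    (sq' : IsPullback e' ((AlgSp.yon S).map w') a ((AlgSp.yon S).map t ≫ g)) :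
    ∃ (W : Over S) (i : W ⟶ Z) (fst : (AlgSp.yon S).obj W ⟶ F),
      IsPullback fst ((AlgSp.yon S).map i) a g ∧ W.left.IsQuasiAffine := by
  letI : Algebra Γ(Z.left, ⊤) Γ(Y.left, ⊤) := t.left.appTop.hom.toAlgebra
  let s : Spec (CommRingCat.of Γ(Z.left, ⊤)) ⟶ S := Z.left.isoSpec.inv ≫ Z.hom
  let φZ : Z ≅ ov s Γ(Z.left, ⊤) := Over.isoMk Z.left.isoSpec (by
    change Z.left.isoSpec.hom ≫ Spec.map (𝟙 _) ≫ Z.left.isoSpec.inv ≫ Z.hom = Z.hom
    rw [Spec.map_id, Category.id_comp, Iso.hom_inv_id_assoc])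
  let φY : Y ≅ ov s Γ(Y.left, ⊤) := Over.isoMk Y.left.isoSpec (by
    change Y.left.isoSpec.hom ≫ Spec.map t.left.appTop ≫ Z.left.isoSpec.inv ≫ Z.hom = Y.hom
    rw [Scheme.isoSpec_hom_naturality_assoc, Iso.hom_inv_id_assoc, Over.w t])
  have hφt : φY.hom ≫ ovMap s (Algebra.ofId Γ(Z.left, ⊤) Γ(Y.left, ⊤)) = t ≫ φZ.hom := by
    ext1
    exact Scheme.isoSpec_hom_naturality t.left
  have hφt' : φY.hom ≫ ovMap s (Algebra.ofId Γ(Z.left, ⊤) Γ(Y.left, ⊤)) ≫ φZ.inv = t := by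
    rw [← Category.assoc, hφt, Category.assoc, Iso.hom_inv_id, Category.comp_id]
  have sq₀ : IsPullback e' ((AlgSp.yon S).map (w' ≫ φY.hom)) a
      ((AlgSp.yon S).map (ovMap s (Algebra.ofId Γ(Z.left, ⊤) Γ(Y.left, ⊤))) ≫
        (AlgSp.yon S).map φZ.inv ≫ g) := by
    refine sq'.of_iso (Iso.refl _) (Iso.refl _) ((AlgSp.yon S).mapIso φY)
      (Iso.refl _) ?_ ?_ ?_ ?_
    · simp only [Iso.refl_hom, Category.comp_id, Category.id_comp]
    · rw [Functor.mapIso_hom, Iso.refl_hom, Category.id_comp, Functor.map_comp]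
    · simp only [Iso.refl_hom, Category.comp_id, Category.id_comp]
    · rw [Iso.refl_hom, Category.comp_id, Functor.mapIso_hom, ← Category.assoc,
        ← Category.assoc, ← Functor.map_comp, ← Functor.map_comp, Category.assoc, hφt']
  have h₁ : Flat (Spec.map (CommRingCat.ofHom (algebraMap Γ(Z.left, ⊤) Γ(Y.left, ⊤)))) :=
    (MorphismProperty.arrow_mk_iso_iff @Flat (arrowIsoSpecΓOfIsAffine t.left)).1 ht₁
  have h₂ : LocallyOfFinitePresentation
      (Spec.map (CommRingCat.ofHom (algebraMap Γ(Z.left, ⊤) Γ(Y.left, ⊤)))) :=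
    (MorphismProperty.arrow_mk_iso_iff @LocallyOfFinitePresentation
      (arrowIsoSpecΓOfIsAffine t.left)).1 ht₂
  have h₃ : Surjective (Spec.map (CommRingCat.ofHom (algebraMap Γ(Z.left, ⊤) Γ(Y.left, ⊤)))) :=
    (MorphismProperty.arrow_mk_iso_iff @Surjective (arrowIsoSpecΓOfIsAffine t.left)).1 ht₃
  obtain ⟨W, i₀, fst, hpb, hW⟩ := exists_rep_qaff_nf s a ((AlgSp.yon S).map φZ.inv ≫ g)
    (w' ≫ φY.hom) e' sq₀ h₁ h₂ h₃
  refine ⟨W, i₀ ≫ φZ.inv, fst, ?_, hW⟩
  refine hpb.of_iso (Iso.refl _) (Iso.refl _) ((AlgSp.yon S).mapIso φZ.symm) (Iso.refl _)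
    ?_ ?_ ?_ ?_
  · simp only [Iso.refl_hom, Category.comp_id, Category.id_comp]
  · rw [Iso.refl_hom, Category.id_comp, Functor.mapIso_hom, Iso.symm_hom, ← Functor.map_comp]
  · simp only [Iso.refl_hom, Category.comp_id, Category.id_comp]
  · rw [Iso.refl_hom, Category.comp_id, Functor.mapIso_hom, Iso.symm_hom]

section Sigma

variable {κ : Type u} (V : κ → Scheme.{u}) (q : ∐ V ⟶ S)

/-- The components of a coproduct of schemes cover it. -/
lemma sigma_mem_J :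
    Sieve.ofArrows (fun k => Over.mk (Sigma.ι V k ≫ q))
      (fun k => (Over.homMk (Sigma.ι V k) rfl : Over.mk (Sigma.ι V k ≫ q) ⟶ Over.mk q)) ∈
      AlgSp.J S (Over.mk q) :=
  Groth.Agent.R2.H43.CutOut.ofArrows_mem_J _ _
    (fun k => ⟨inferInstanceAs (Flat (Sigma.ι V k)),
      inferInstanceAs (LocallyOfFinitePresentation (Sigma.ι V k))⟩)
    (fun w => by
      obtain ⟨k, y, hy⟩ := (sigmaOpenCover V).exists_eq w
      exact ⟨k, y, hy⟩)

/-- Sections of an fppf sheaf over a coproduct of schemes are families of sections. -/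
lemma exists_glue_sigma (H : AlgSp.Sp S)
    (d : ∀ k, (AlgSp.yon S).obj (Over.mk (Sigma.ι V k ≫ q)) ⟶ H) :
    ∃ e : (AlgSp.yon S).obj (Over.mk q) ⟶ H, ∀ k, (AlgSp.yon S).map
      (Over.homMk (Sigma.ι V k) rfl : Over.mk (Sigma.ι V k ≫ q) ⟶ Over.mk q) ≫ e = d k := by
  refine exists_glue H _ _ (sigma_mem_J V q) d ?_
  intro k k' T gi gj hg
  by_cases hk : k = k'
  · subst hk
    haveI : Mono (Over.homMk (Sigma.ι V k) rfl : Over.mk (Sigma.ι V k ≫ q) ⟶ Over.mk q) := by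
      haveI : Mono (Over.homMk (Sigma.ι V k) rfl :
          Over.mk (Sigma.ι V k ≫ q) ⟶ Over.mk q).left :=
        (inferInstance : Mono (Sigma.ι V k))
      exact Over.mono_of_mono_left _
    rw [(cancel_mono _).1 hg]
  · haveI : IsEmpty T.left :=
      isEmpty_of_commSq_sigmaι_of_ne (g := V) (i := k) (j := k') (a := gi.left) (b := gj.left)
        ⟨congrArg CommaMorphism.left hg⟩ hk
    exact eq_of_isEmpty H _ _

lemma eq_of_sigma (H : AlgSp.Sp S) (e e' : (AlgSp.yon S).obj (Over.mk q) ⟶ H)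
    (h : ∀ k, (AlgSp.yon S).map
      (Over.homMk (Sigma.ι V k) rfl : Over.mk (Sigma.ι V k ≫ q) ⟶ Over.mk q) ≫ e =
      (AlgSp.yon S).map
      (Over.homMk (Sigma.ι V k) rfl : Over.mk (Sigma.ι V k ≫ q) ⟶ Over.mk q) ≫ e') : e = e' :=
  eq_of_cover H _ _ (sigma_mem_J V q) e e' h

end Sigma

/-- A flat, locally finitely presented covering family of an affine scheme has a finite affine
refinement. -/
lemma exists_finite_affine_cover {Z : Scheme.{u}} [IsAffine Z] {ι : Type*} (U : ι → Scheme.{u})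
    (t : ∀ i, U i ⟶ Z) (hP : ∀ i, Flat (t i) ∧ LocallyOfFinitePresentation (t i))
    (hsurj : ∀ z : Z, ∃ i, z ∈ Set.range (t i)) :
    ∃ (κ : Type u) (_ : Finite κ) (V : κ → Scheme.{u}) (ix : κ → ι) (r : ∀ k, V k ⟶ U (ix k)),
      (∀ k, IsAffine (V k)) ∧ (∀ k, IsOpenImmersion (r k)) ∧
      ∀ z : Z, ∃ k, z ∈ Set.range (r k ≫ t (ix k)) := by
  have hloc : ∀ z : Z, ∃ (i : ι) (k : (U i).affineCover.I₀),
      z ∈ Set.range ((U i).affineCover.f k ≫ t i) := by
    intro z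
    obtain ⟨i, u, hu⟩ := hsurj z
    obtain ⟨k, y, hy⟩ := (U i).affineCover.exists_eq u
    exact ⟨i, k, y, by rw [Scheme.Hom.comp_apply, hy, hu]⟩
  choose i k hz using hloc
  have hopen : ∀ z : Z, IsOpen (Set.range ((U (i z)).affineCover.f (k z) ≫ t (i z))) := by
    intro z
    haveI : Flat (t (i z)) := (hP (i z)).1
    haveI : LocallyOfFinitePresentation (t (i z)) := (hP (i z)).2
    exact ((U (i z)).affineCover.f (k z) ≫ t (i z)).isOpenMap.isOpen_range
  obtain ⟨Fs, hFs⟩ := isCompact_univ.elim_finite_subcover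
    (fun z : Z => Set.range ((U (i z)).affineCover.f (k z) ≫ t (i z))) hopen
    (fun z _ => Set.mem_iUnion.2 ⟨z, hz z⟩)
  refine ⟨{z : Z // z ∈ Fs}, inferInstance, fun z => (U (i z.1)).affineCover.X (k z.1),
    fun z => i z.1, fun z => (U (i z.1)).affineCover.f (k z.1), fun z => inferInstance,
    fun z => inferInstance, fun z => ?_⟩
  obtain ⟨z', hz'⟩ := Set.mem_iUnion.1 (hFs (Set.mem_univ z))
  obtain ⟨hz'F, hz'⟩ := Set.mem_iUnion.1 hz'
  exact ⟨⟨z', hz'F⟩, hz'⟩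

variable {H Q : AlgSp.Sp S}

/-- The affine case of effective descent of quasi-affine morphisms. -/
theorem exists_rep_of_isAffine (a : F ⟶ G) (b : H ⟶ G) [Sheaf.IsLocallySurjective b] (b' : Q ⟶ F)
    (a' : Q ⟶ H) (sq : IsPullback b' a' a b) (h : AlgSp.IsQuasiAffineMor a')
    (Z : Over S) (hZ : IsAffine Z.left) (g : (AlgSp.yon S).obj Z ⟶ G) :
    ∃ (W : Over S) (i : W ⟶ Z) (fst : (AlgSp.yon S).obj W ⟶ F),
      IsPullback fst ((AlgSp.yon S).map i) a g ∧ W.left.IsQuasiAffine := by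
  obtain ⟨R, hR, hlift⟩ := Groth.Agent.S9884.exists_fppf_lift b g
  obtain ⟨ι, U, t, rfl⟩ := R.exists_eq_ofArrows
  rw [Scheme.fppfPrecoverage, Scheme.ofArrows_mem_precoverage_iff] at hR
  obtain ⟨hsurj, hP⟩ := hR
  haveI := hZ
  obtain ⟨κ, hκ, V, ix, r, hV, hr, hcov⟩ := exists_finite_affine_cover U t hP hsurj
  haveI : ∀ k, Flat (t (ix k)) := fun k => (hP (ix k)).1
  haveI : ∀ k, LocallyOfFinitePresentation (t (ix k)) := fun k => (hP (ix k)).2
  -- the single affine cover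
  let tV : ∀ k, V k ⟶ Z.left := fun k => r k ≫ t (ix k)
  let tY : ∐ V ⟶ Z.left := Sigma.desc tV
  have htY : ∀ k, Sigma.ι V k ≫ tY = r k ≫ t (ix k) := fun k => Sigma.ι_desc _ _
  let Y : Over S := Over.mk (tY ≫ Z.hom)
  let tYo : Y ⟶ Z := Over.homMk tY rfl
  have htY₁ : Flat tY := IsZariskiLocalAtSource.sigmaDesc (fun k => inferInstanceAs (Flat (r k ≫ t (ix k))))
  have htY₂ : LocallyOfFinitePresentation tY :=
    IsZariskiLocalAtSource.sigmaDesc
      (fun k => inferInstanceAs (LocallyOfFinitePresentation (r k ≫ t (ix k))))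
  have htY₃ : Surjective tY := ⟨fun z => by
    obtain ⟨k, y, hy⟩ := hcov z
    refine ⟨Sigma.ι V k y, ?_⟩
    rw [← Scheme.Hom.comp_apply, htY]
    exact hy⟩
  -- the lifts
  have hd : ∀ k, ∃ d : (AlgSp.yon S).obj (Over.mk (Sigma.ι V k ≫ tY ≫ Z.hom)) ⟶ H,
      d ≫ b = (AlgSp.yon S).map
        (Over.homMk (Sigma.ι V k) rfl : Over.mk (Sigma.ι V k ≫ tY ≫ Z.hom) ⟶ Y) ≫
        (AlgSp.yon S).map tYo ≫ g := by
    intro k
    obtain ⟨d, hd⟩ := hlift (t (ix k)) ⟨ix k⟩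
    let ro : Over.mk (Sigma.ι V k ≫ tY ≫ Z.hom) ⟶ Over.mk (t (ix k) ≫ Z.hom) :=
      Over.homMk (r k) (by
        change r k ≫ t (ix k) ≫ Z.hom = Sigma.ι V k ≫ tY ≫ Z.hom
        rw [← Category.assoc, ← htY, Category.assoc])
    refine ⟨(AlgSp.yon S).map ro ≫ d, ?_⟩
    have e : ro ≫ (Over.homMk (t (ix k)) : Over.mk (t (ix k) ≫ Z.hom) ⟶ Z) =
        (Over.homMk (Sigma.ι V k) rfl : Over.mk (Sigma.ι V k ≫ tY ≫ Z.hom) ⟶ Y) ≫ tYo := by
      ext1
      exact (htY k).symm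
    rw [Category.assoc, hd, ← Functor.map_comp_assoc, e, Functor.map_comp_assoc]
  choose d hd using hd
  obtain ⟨dY, hdY⟩ := exists_glue_sigma V (tY ≫ Z.hom) H d
  have hdYb : dY ≫ b = (AlgSp.yon S).map tYo ≫ g := by
    apply eq_of_sigma V (tY ≫ Z.hom) G
    intro k
    have e1 : (AlgSp.yon S).map (Over.homMk (Sigma.ι V k) rfl :
        Over.mk (Sigma.ι V k ≫ tY ≫ Z.hom) ⟶ Over.mk (tY ≫ Z.hom)) ≫ dY ≫ b = d k ≫ b := by
      rw [← hdY k, Category.assoc]
    exact e1.trans (hd k)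
  haveI : IsAffine Y.left := inferInstanceAs (IsAffine (∐ V))
  obtain ⟨W', w', fst', hpb', hW'⟩ := h (Z := Y) inferInstance dY
  have hpb'' : IsPullback (fst' ≫ b') ((AlgSp.yon S).map w') a ((AlgSp.yon S).map tYo ≫ g) := by
    have h1 := hpb'.paste_horiz sq
    rw [hdYb] at h1
    exact h1
  haveI := hW'
  exact exists_rep_of_qaff_cover a g tYo htY₁ htY₂ htY₃ w' (fst' ≫ b') hpb''

/-- **Effective descent of quasi-affine morphisms along locally surjective maps of fppf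
sheaves.** -/
theorem isQuasiAffineMor_of_locallySurjective (a : F ⟶ G) (b : H ⟶ G)
    [Sheaf.IsLocallySurjective b] (b' : Q ⟶ F) (a' : Q ⟶ H) (sq : IsPullback b' a' a b)
    (h : AlgSp.IsQuasiAffineMor a') : AlgSp.IsQuasiAffineMor a :=
  fun Z hZ g => exists_rep_of_isAffine a b b' a' sq h Z hZ g

/-- A quasi-affine map of fppf sheaves is representable. -/
theorem representable_of_isQuasiAffineMor (a : F ⟶ G) (h : AlgSp.IsQuasiAffineMor a) :
    AlgSp.Representable a := by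
  have : AlgSp.RepWith (⊤ : MorphismProperty Scheme.{u}) a :=
    repWith_of_affine ⊤ a (fun Z hZ g => by
      obtain ⟨W, i, fst, sq, -⟩ := h hZ g
      exact ⟨W, i, fst, sq, trivial⟩)
  exact this.1

end Groth.Agent.R2.H59.QAff
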