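-- helper59: effective fppf descent for separated, locally quasi-finite morphisms (locally of
-- finite type) of fppf sheaves: if the base change of `a : F ⟶ G` along a locally surjective
-- `b : H ⟶ G` is representable by separated locally quasi-finite morphisms, then `a` is
-- representable.  (Zariski's main theorem makes the invariant quasi-compact opens quasi-affine
-- over the cover; quasi-affine descent + descent of open immersions + Zariski gluing.)
import Mathlib
import Groth.Agent.R2.H59SLQFRel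
import Groth.Agent.R2.H59QAff
import Groth.Agent.S9885
import Groth.Agent.Lib.Helper9Shf

set_option autoImplicit false
set_option linter.unusedSectionVars false
set_option linter.style.haveILetI false
universe u
open CategoryTheory CategoryTheory.Limits AlgebraicGeometry Opposite

set_option backward.isDefEq.respectTransparency false

namespace Groth.Agent.R2.H59.SLQF

open Groth.Agent.S13210 Groth.Agent.Lib.Helper12.ZarGlue Groth.Agent.R2.H59.AffDescGlue
  Groth.Agent.R2.H59.OpenDesc Groth.Agent.R2.H59.SLQFRel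

variable {S : Scheme.{u}} {F G H Q : AlgSp.Sp S}

/-- A quasi-compact scheme which is separated, locally quasi-finite and locally of finite type
over an affine scheme is quasi-affine (Zariski's main theorem). -/
lemma isQuasiAffine_of_slqf {X Y : Scheme.{u}} (f : X ⟶ Y) [IsAffine Y] [CompactSpace X]
    [IsSeparated f] [LocallyQuasiFinite f] [LocallyOfFiniteType f] : X.IsQuasiAffine := by
  haveI : QuasiCompact f := inferInstance
  haveI : IsAffineHom f.fromNormalization := inferInstance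
  haveI : IsAffine f.normalization := isAffine_of_isAffineHom f.fromNormalization
  exact Scheme.IsQuasiAffine.of_isImmersion f.toNormalization

/-- The kernel pair of the base change `h_{W'} ⟶ F` of a cover `h_Y ⟶ h_Z` is representable by
`Y ×_Z W'`. -/
lemma isPullback_act {Z Y W' T₁ : Over S} (a : F ⟶ (AlgSp.yon S).obj Z) (t : Y ⟶ Z)
    (w' : W' ⟶ Y) (e' : (AlgSp.yon S).obj W' ⟶ F)
    (sq' : IsPullback e' ((AlgSp.yon S).map w') a ((AlgSp.yon S).map t))
    (pr₁ : T₁ ⟶ Y) (pr₂ : T₁ ⟶ W') (hT₁ : IsPullback pr₁ pr₂ t (w' ≫ t))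
    (act : T₁ ⟶ W') (hact₁ : (AlgSp.yon S).map act ≫ e' = (AlgSp.yon S).map pr₂ ≫ e')
    (hact₂ : act ≫ w' = pr₁) :
    IsPullback ((AlgSp.yon S).map act) ((AlgSp.yon S).map pr₂) e' e' := by
  refine isPullback_of_yon hact₁ (fun T ξ₁' ξ₂' hξ => ?_)
  obtain ⟨x₁, rfl⟩ := (AlgSp.yon S).map_surjective ξ₁'
  obtain ⟨x₂, rfl⟩ := (AlgSp.yon S).map_surjective ξ₂'
  have h1 : x₁ ≫ w' ≫ t = x₂ ≫ w' ≫ t := by
    apply (AlgSp.yon S).map_injective
    simp only [Functor.map_comp]
    rw [← sq'.w, ← Category.assoc, ← Category.assoc, hξ]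
  have h1' : (x₁ ≫ w') ≫ t = x₂ ≫ w' ≫ t := by rw [Category.assoc, h1]
  apply existsUnique_of_exists_of_unique
  · refine ⟨(AlgSp.yon S).map (hT₁.lift (x₁ ≫ w') x₂ h1'), ?_, ?_⟩
    · rw [← Functor.map_comp]
      congr 1
      apply point_ext sq'
      · rw [Functor.map_comp, Category.assoc, hact₁, ← Category.assoc, ← Functor.map_comp,
          hT₁.lift_snd, hξ]
      · rw [Category.assoc, hact₂, hT₁.lift_fst]
    · rw [← Functor.map_comp, hT₁.lift_snd]
  · rintro l₁' l₂' ⟨h₁, h₁'⟩ ⟨h₂, h₂'⟩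
    obtain ⟨l₁, rfl⟩ := (AlgSp.yon S).map_surjective l₁'
    obtain ⟨l₂, rfl⟩ := (AlgSp.yon S).map_surjective l₂'
    rw [← Functor.map_comp] at h₁ h₁' h₂ h₂'
    have e₁ : l₁ ≫ act = l₂ ≫ act := (AlgSp.yon S).map_injective (h₁.trans h₂.symm)
    have e₂ : l₁ ≫ pr₂ = l₂ ≫ pr₂ := (AlgSp.yon S).map_injective (h₁'.trans h₂'.symm)
    congr 1
    apply hT₁.hom_ext
    · rw [← hact₂, ← Category.assoc, e₁, Category.assoc]
    · exact e₂

/-- **Effectivity over an affine base, for a single affine cover.** -/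
theorem exists_iso_of_cover {Z Y W' : Over S} [IsAffine Z.left] [IsAffine Y.left]
    (a : F ⟶ (AlgSp.yon S).obj Z) (t : Y ⟶ Z) (ht₁ : Flat t.left)
    (ht₂ : LocallyOfFinitePresentation t.left) (ht₃ : Surjective t.left)
    (w' : W' ⟶ Y) (hw₁ : IsSeparated w'.left) (hw₂ : LocallyQuasiFinite w'.left)
    (hw₃ : LocallyOfFiniteType w'.left)
    (e' : (AlgSp.yon S).obj W' ⟶ F)
    (sq' : IsPullback e' ((AlgSp.yon S).map w') a ((AlgSp.yon S).map t)) :
    ∃ (W : Over S), Nonempty ((AlgSp.yon S).obj W ≅ F) := by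
  haveI := ht₁
  haveI := ht₂
  haveI := ht₃
  haveI := hw₁
  haveI := hw₂
  haveI := hw₃
  haveI : Sheaf.IsLocallySurjective ((AlgSp.yon S).map t) :=
    Groth.Agent.S9885.isLocallySurjective_of_repWith _
      ((AlgSp.repWith_yon_map_iff @Flat t).2 ht₁)
      ((AlgSp.repWith_yon_map_iff @LocallyOfFinitePresentation t).2 ht₂)
      ((AlgSp.repWith_yon_map_iff @Surjective t).2 ht₃)
  haveI : Sheaf.IsLocallySurjective e' :=
    Groth.Agent.Lib.Helper9.isLocallySurjective_of_isPullback _ sq'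
  -- the kernel pair
  have hT₁ := IsPullback.of_hasPullback t (w' ≫ t)
  obtain ⟨pr₁, hpr₁⟩ : ∃ pr₁ : pullback t (w' ≫ t) ⟶ Y, pr₁ = pullback.fst _ _ := ⟨_, rfl⟩
  obtain ⟨pr₂, hpr₂⟩ : ∃ pr₂ : pullback t (w' ≫ t) ⟶ W', pr₂ = pullback.snd _ _ := ⟨_, rfl⟩
  rw [← hpr₁, ← hpr₂] at hT₁
  obtain ⟨act, hact₁, hact₂⟩ := exists_point sq' ((AlgSp.yon S).map pr₂ ≫ e') pr₁ (by
    rw [Category.assoc, sq'.w, ← Functor.map_comp, ← Functor.map_comp, ← Functor.map_comp,
      hT₁.w])
  have hk := isPullback_act a t w' e' sq' pr₁ pr₂ hT₁ act hact₁ hact₂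
  haveI : Flat pr₂.left :=
    MorphismProperty.of_isPullback (P := @Flat) (hT₁.map (Over.forget S)) ht₁
  haveI : LocallyOfFinitePresentation pr₂.left :=
    MorphismProperty.of_isPullback (P := @LocallyOfFinitePresentation)
      (hT₁.map (Over.forget S)) ht₂
  haveI : QuasiCompact t.left := inferInstance
  haveI : QuasiCompact pr₂.left :=
    MorphismProperty.of_isPullback (P := @QuasiCompact) (hT₁.map (Over.forget S))
      ‹QuasiCompact t.left›
  -- the pieces, indexed by the affine opens of `W'`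
  have key : ∀ U : W'.left.affineOpens, ∃ (X : Over S) (f : (AlgSp.yon S).obj X ⟶ F)
      (O : Over S) (o : O ⟶ W') (c : (AlgSp.yon S).obj O ⟶ (AlgSp.yon S).obj X),
      AlgSp.RepWith @IsOpenImmersion f ∧ IsPullback c ((AlgSp.yon S).map o) f e' ∧
      IsOpenImmersion o.left ∧ (U.1 : Set W'.left) ⊆ Set.range o.left := by
    intro U
    let Oop : W'.left.Opens := ⟨sat act pr₂ (U.1 : Set W'.left), isOpen_sat hk U.1.isOpen⟩
    haveI : CompactSpace Oop := isCompact_iff_compactSpace.1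
      (isCompact_sat hk U.1.isOpen U.2.isCompact)
    let O : Over S := Over.mk (Oop.ι ≫ W'.hom)
    let o : O ⟶ W' := Over.homMk Oop.ι rfl
    haveI : IsOpenImmersion o.left := inferInstanceAs (IsOpenImmersion Oop.ι)
    have hrange : Set.range o.left = sat act pr₂ (U.1 : Set W'.left) := Scheme.Opens.range_ι Oop
    have hinv : ∀ x x', Rel act pr₂ x x' → x ∈ Set.range o.left → x' ∈ Set.range o.left := by
      intro x x' hxx' hx
      rw [hrange] at hx ⊢
      exact sat_inv hk _ hxx' hx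
    have hπm := Sheaf.toImage_ι ((AlgSp.yon S).map o ≫ e')
    have sqI := isPullback_image hk o (Sheaf.toImage ((AlgSp.yon S).map o ≫ e'))
      (Sheaf.imageι ((AlgSp.yon S).map o ≫ e')) hπm hinv
    have sqV : IsPullback (Sheaf.toImage ((AlgSp.yon S).map o ≫ e'))
        ((AlgSp.yon S).map (o ≫ w')) (Sheaf.imageι ((AlgSp.yon S).map o ≫ e') ≫ a)
        ((AlgSp.yon S).map t ≫ 𝟙 _) := by
      have := sqI.paste_vert sq'
      rw [← Functor.map_comp] at this
      rw [Category.comp_id]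
      exact this
    haveI : CompactSpace O.left := inferInstanceAs (CompactSpace Oop)
    haveI : IsSeparated (o ≫ w').left := by
      rw [Over.comp_left]
      infer_instance
    haveI : LocallyQuasiFinite (o ≫ w').left := by
      rw [Over.comp_left]
      infer_instance
    haveI : LocallyOfFiniteType (o ≫ w').left := by
      rw [Over.comp_left]
      infer_instance
    haveI : O.left.IsQuasiAffine := isQuasiAffine_of_slqf (o ≫ w').left
    obtain ⟨X, i, fst, sqW, -⟩ := Groth.Agent.R2.H59.QAff.exists_rep_of_qaff_cover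
      (Sheaf.imageι ((AlgSp.yon S).map o ≫ e') ≫ a) (𝟙 _) t ht₁ ht₂ ht₃ (o ≫ w')
      (Sheaf.toImage ((AlgSp.yon S).map o ≫ e')) sqV
    haveI : IsIso fst := sqW.isIso_fst_of_isIso
    have sqf : IsPullback (Sheaf.toImage ((AlgSp.yon S).map o ≫ e') ≫ inv fst)
        ((AlgSp.yon S).map o) (fst ≫ Sheaf.imageι ((AlgSp.yon S).map o ≫ e')) e' :=
      sqI.of_iso (Iso.refl _) (asIso fst).symm (Iso.refl _) (Iso.refl _) (by simp) (by simp)
        (by simp) (by simp)
    refine ⟨X, fst ≫ Sheaf.imageι ((AlgSp.yon S).map o ≫ e'), O, o, _, ?_, sqf, inferInstance, ?_⟩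
    · exact repWith_isOpenImmersion_of_locallySurjective _ e' _ _ sqf
        ((AlgSp.repWith_yon_map_iff @IsOpenImmersion o).2 inferInstance)
    · rw [hrange]
      exact subset_sat hk _
  choose X f O o c hf sqf hoi hU using key
  -- joint surjectivity
  have hs : JointlySurjective hf := by
    intro T g x
    obtain ⟨κ, Y', fY, d, -, hsurj, hd⟩ := exists_lift_family e' g
    obtain ⟨k, y, hy⟩ := hsurj x
    obtain ⟨v, hv⟩ := (AlgSp.yon S).map_surjective (d k)
    obtain ⟨_, ⟨U₀, hU₀, rfl⟩, hwU₀, -⟩ := W'.left.isBasis_affineOpens.exists_subset_of_mem_open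
      (Set.mem_univ (v.left y)) isOpen_univ
    let U : W'.left.affineOpens := ⟨U₀, hU₀⟩
    obtain ⟨y', hy'⟩ := hU U hwU₀
    have hP := IsPullback.of_hasPullback v (o U)
    obtain ⟨π, hπ₁, hπ₂⟩ := Scheme.exists_preimage_of_isPullback (hP.map (Over.forget S))
      y y' hy'.symm
    refine ⟨U, ((hf U).rep.lift ((AlgSp.yon S).map (pullback.snd v (o U)) ≫ c U)
      (pullback.fst v (o U) ≫ fY k) ?_).left π, ?_⟩
    · rw [Category.assoc, (sqf U).w, ← Category.assoc, ← Functor.map_comp, ← hP.w,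
        Functor.map_comp, Category.assoc, hv, hd k, ← Category.assoc, ← Functor.map_comp]
    · rw [← Scheme.Hom.comp_apply, ← Over.comp_left, (hf U).rep.lift_snd, Over.comp_left,
        Scheme.Hom.comp_apply]
      exact (congrArg (fY k).left hπ₁).trans hy
  obtain ⟨W, e, -, -, -⟩ := exists_iso hf hs
  exact ⟨W, ⟨e⟩⟩

/-- A locally surjective map of fppf sheaves admits, over any affine scheme, a section after
passing to a single affine fppf cover. -/
lemma exists_single_cover (b : H ⟶ G) [Sheaf.IsLocallySurjective b] (Z : Over S)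
    (hZ : IsAffine Z.left) (g : (AlgSp.yon S).obj Z ⟶ G) :
    ∃ (Y : Over S) (t : Y ⟶ Z) (d : (AlgSp.yon S).obj Y ⟶ H), IsAffine Y.left ∧ Flat t.left ∧
      LocallyOfFinitePresentation t.left ∧ Surjective t.left ∧
      d ≫ b = (AlgSp.yon S).map t ≫ g := by
  obtain ⟨R, hR, hlift⟩ := Groth.Agent.S9884.exists_fppf_lift b g
  obtain ⟨ι, U, t, rfl⟩ := R.exists_eq_ofArrows
  rw [Scheme.fppfPrecoverage, Scheme.ofArrows_mem_precoverage_iff] at hR
  obtain ⟨hsurj, hP⟩ := hR
  haveI := hZ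
  obtain ⟨κ, hκ, V, ix, r, hV, hr, hcov⟩ :=
    Groth.Agent.R2.H59.QAff.exists_finite_affine_cover U t hP hsurj
  haveI : ∀ k, Flat (t (ix k)) := fun k => (hP (ix k)).1
  haveI : ∀ k, LocallyOfFinitePresentation (t (ix k)) := fun k => (hP (ix k)).2
  let tV : ∀ k, V k ⟶ Z.left := fun k => r k ≫ t (ix k)
  let tY : ∐ V ⟶ Z.left := Sigma.desc tV
  have htY : ∀ k, Sigma.ι V k ≫ tY = r k ≫ t (ix k) := fun k => Sigma.ι_desc _ _
  let Y : Over S := Over.mk (tY ≫ Z.hom)
  let tYo : Y ⟶ Z := Over.homMk tY rfl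
  have htY₁ : Flat tY :=
    IsZariskiLocalAtSource.sigmaDesc (fun k => inferInstanceAs (Flat (r k ≫ t (ix k))))
  have htY₂ : LocallyOfFinitePresentation tY :=
    IsZariskiLocalAtSource.sigmaDesc
      (fun k => inferInstanceAs (LocallyOfFinitePresentation (r k ≫ t (ix k))))
  have htY₃ : Surjective tY := ⟨fun z => by
    obtain ⟨k, y, hy⟩ := hcov z
    refine ⟨Sigma.ι V k y, ?_⟩
    rw [← Scheme.Hom.comp_apply, htY]
    exact hy⟩
  have hd : ∀ k, ∃ d : (AlgSp.yon S).obj (Over.mk (Sigma.ι V k ≫ tY ≫ Z.hom)) ⟶ H,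
      d ≫ b = (AlgSp.yon S).map
        (Over.homMk (Sigma.ι V k) rfl : Over.mk (Sigma.ι V k ≫ tY ≫ Z.hom) ⟶ Y) ≫
        (AlgSp.yon S).map tYo ≫ g := by
    intro k
    obtain ⟨d, hd⟩ := hlift (t (ix k)) ⟨ix k⟩
    let ro : Over.mk (Sigma.ι V k ≫ tY ≫ Z.hom) ⟶ Over.mk (t (ix k) ≫ Z.hom) :=
      Over.homMk (r k) (by
        change r k ≫ t (ix k) ≫ Z.hom = Sigma.ι V k ≫ tY ≫ Z.hom
        rw [← Category.assoc, ← htY, Category.assoc])
    refine ⟨(AlgSp.yon S).map ro ≫ d, ?_⟩
    have e : ro ≫ (Over.homMk (t (ix k)) : Over.mk (t (ix k) ≫ Z.hom) ⟶ Z) =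
        (Over.homMk (Sigma.ι V k) rfl : Over.mk (Sigma.ι V k ≫ tY ≫ Z.hom) ⟶ Y) ≫ tYo := by
      ext1
      exact (htY k).symm
    rw [Category.assoc, hd, ← Functor.map_comp_assoc, e, Functor.map_comp_assoc]
  choose d hd using hd
  obtain ⟨dY, hdY⟩ := Groth.Agent.R2.H59.QAff.exists_glue_sigma V (tY ≫ Z.hom) H d
  have hdYb : dY ≫ b = (AlgSp.yon S).map tYo ≫ g := by
    apply Groth.Agent.R2.H59.QAff.eq_of_sigma V (tY ≫ Z.hom) G
    intro k
    have e1 : (AlgSp.yon S).map (Over.homMk (Sigma.ι V k) rfl :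
        Over.mk (Sigma.ι V k ≫ tY ≫ Z.hom) ⟶ Over.mk (tY ≫ Z.hom)) ≫ dY ≫ b = d k ≫ b := by
      rw [← hdY k, Category.assoc]
    exact e1.trans (hd k)
  exact ⟨Y, tYo, dY, inferInstanceAs (IsAffine (∐ V)), htY₁, htY₂, htY₃, hdYb⟩

/-- The affine case of effective descent of separated locally quasi-finite morphisms. -/
theorem exists_rep_of_isAffine (a : F ⟶ G) (b : H ⟶ G) [Sheaf.IsLocallySurjective b]
    (b' : Q ⟶ F) (a' : Q ⟶ H) (sq : IsPullback b' a' a b)
    (h₁ : AlgSp.RepWith @IsSeparated a') (h₂ : AlgSp.RepWith @LocallyQuasiFinite a')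
    (h₃ : AlgSp.RepWith @LocallyOfFiniteType a')
    (Z : Over S) (hZ : IsAffine Z.left) (g : (AlgSp.yon S).obj Z ⟶ G) :
    ∃ (W : Over S) (i : W ⟶ Z) (fst : (AlgSp.yon S).obj W ⟶ F),
      IsPullback fst ((AlgSp.yon S).map i) a g := by
  obtain ⟨Y, t, d, hY, ht₁, ht₂, ht₃, hd⟩ := exists_single_cover b Z hZ g
  haveI := hZ
  haveI := hY
  obtain ⟨W', w', c, sqW⟩ := h₁.1 d
  have hw₁ : IsSeparated w'.left := h₁.2 d c w' sqW
  have hw₂ : LocallyQuasiFinite w'.left := h₂.2 d c w' sqW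
  have hw₃ : LocallyOfFiniteType w'.left := h₃.2 d c w' sqW
  have big : IsPullback (c ≫ b') ((AlgSp.yon S).map w') a ((AlgSp.yon S).map t ≫ g) := by
    have := sqW.paste_horiz sq
    rwa [hd] at this
  have hw : (c ≫ b') ≫ a = ((AlgSp.yon S).map w' ≫ (AlgSp.yon S).map t) ≫ g := by
    rw [big.w, Category.assoc]
  obtain ⟨e₀, he₀⟩ : ∃ e₀ : (AlgSp.yon S).obj W' ⟶ pullback a g, e₀ = pullback.lift _ _ hw :=
    ⟨_, rfl⟩
  have he₀₁ : e₀ ≫ pullback.fst a g = c ≫ b' := by rw [he₀, pullback.lift_fst]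
  have he₀₂ : e₀ ≫ pullback.snd a g = (AlgSp.yon S).map w' ≫ (AlgSp.yon S).map t := by
    rw [he₀, pullback.lift_snd]
  have sq₀ : IsPullback e₀ ((AlgSp.yon S).map w') (pullback.snd a g) ((AlgSp.yon S).map t) := by
    refine IsPullback.of_right ?_ he₀₂ (IsPullback.of_hasPullback a g)
    rw [he₀₁]
    exact big
  obtain ⟨W, ⟨e⟩⟩ := exists_iso_of_cover (pullback.snd a g) t ht₁ ht₂ ht₃ w' hw₁ hw₂ hw₃ e₀ sq₀
  refine ⟨W, (AlgSp.yon S).preimage (e.hom ≫ pullback.snd a g), e.hom ≫ pullback.fst a g, ?_⟩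
  refine (IsPullback.of_hasPullback a g).of_iso e.symm (Iso.refl _) (Iso.refl _) (Iso.refl _)
    (by simp) ?_ (by simp) (by simp)
  rw [Functor.map_preimage]
  simp

/-- **Effective descent of separated, locally quasi-finite morphisms (locally of finite type)
along locally surjective maps of fppf sheaves.** -/
theorem representable_of_locallySurjective (a : F ⟶ G) (b : H ⟶ G)
    [Sheaf.IsLocallySurjective b] (b' : Q ⟶ F) (a' : Q ⟶ H) (sq : IsPullback b' a' a b)
    (h₁ : AlgSp.RepWith @IsSeparated a') (h₂ : AlgSp.RepWith @LocallyQuasiFinite a')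
    (h₃ : AlgSp.RepWith @LocallyOfFiniteType a') : AlgSp.Representable a := by
  have : AlgSp.RepWith (⊤ : MorphismProperty Scheme.{u}) a :=
    repWith_of_affine ⊤ a (fun Z hZ g => by
      obtain ⟨W, i, fst, sqW⟩ := exists_rep_of_isAffine a b b' a' sq h₁ h₂ h₃ Z hZ g
      exact ⟨W, i, fst, sqW, trivial⟩)
  exact this.1

/-- Descent of `RepWith P` along a locally surjective map, for base changes which are separated,
locally quasi-finite and locally of finite type. -/
theorem repWith_of_locallySurjective (a : F ⟶ G) (b : H ⟶ G)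
    [Sheaf.IsLocallySurjective b] (b' : Q ⟶ F) (a' : Q ⟶ H) (sq : IsPullback b' a' a b)
    (h₁ : AlgSp.RepWith @IsSeparated a') (h₂ : AlgSp.RepWith @LocallyQuasiFinite a')
    (h₃ : AlgSp.RepWith @LocallyOfFiniteType a') (P : MorphismProperty Scheme.{u})
    [P.IsStableUnderBaseChange] [P.IsLocalAtTarget Scheme.fppfPrecoverage]
    (h : AlgSp.RepWith P a') : AlgSp.RepWith P a :=
  Groth.Agent.S9884.repWith_of_locallySurjective a
    (representable_of_locallySurjective a b b' a' sq h₁ h₂ h₃) b b' a' sq P h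

end Groth.Agent.R2.H59.SLQF
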