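-- helper59: an fppf sheaf `F` with a locally surjective map `π : h_U ⟶ F` whose kernel pair is
-- representable by a scheme `R` with étale projections `s, t : R ⇉ U` is an algebraic space, and
-- `π` is representable, étale and surjective.  (Quotients by étale equivalence relations.)
import Mathlib
import Groth.Agent.R2.H59SLQF
import Groth.Agent.R2.H44FppfLocal

set_option autoImplicit false
set_option linter.unusedSectionVars false
set_option linter.style.haveILetI false
universe u
open CategoryTheory CategoryTheory.Limits AlgebraicGeometry Opposite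

set_option backward.isDefEq.respectTransparency false

namespace Groth.Agent.R2.H59.EtQuot

section Cat

variable {C : Type*} [Category* C] [HasBinaryProducts C]

/-- The base change of the diagonal of `F` along `π × π` is the kernel pair of `π`. -/
lemma isPullback_diag_of_kernelPair {K X F : C} {p₁ p₂ : K ⟶ X} {π : X ⟶ F}
    (hk : IsPullback p₁ p₂ π π) :
    IsPullback (p₁ ≫ π) (prod.lift p₁ p₂) (diag F) (prod.map π π) := by
  refine IsPullback.mk' ?_ ?_ ?_
  · apply Limits.prod.hom_ext
    · simp
    · simp [hk.w]
  · intro T φ φ' _ h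
    apply hk.hom_ext
    · have := congrArg (· ≫ prod.fst) h
      simpa using this
    · have := congrArg (· ≫ prod.snd) h
      simpa using this
  · intro T a b h
    have h₁ : a = (b ≫ prod.fst) ≫ π := by
      have := congrArg (· ≫ prod.fst) h
      simpa using this
    have h₂ : a = (b ≫ prod.snd) ≫ π := by
      have := congrArg (· ≫ prod.snd) h
      simpa using this
    refine ⟨hk.lift (b ≫ prod.fst) (b ≫ prod.snd) (h₁.symm.trans h₂), ?_, ?_⟩
    · rw [← Category.assoc, hk.lift_fst, ← h₁]
    · apply Limits.prod.hom_ext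
      · simp
      · simp

lemma isPullback_prod_map_id {A B : C} (f : A ⟶ B) (X : C) :
    IsPullback (prod.map f (𝟙 X)) prod.fst prod.fst f :=
  (IsPullback.of_prod_fst_with_id f X).flip

lemma isPullback_prod_id_map {A B : C} (f : A ⟶ B) (X : C) :
    IsPullback (prod.map (𝟙 X) f) prod.snd prod.snd f := by
  refine IsPullback.mk' (by simp) ?_ ?_
  · intro T φ φ' h h'
    apply Limits.prod.hom_ext
    · have := congrArg (· ≫ prod.fst) h
      simpa using this
    · exact h'
  · intro T a b h
    refine ⟨prod.lift (a ≫ prod.fst) b, ?_, by simp⟩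
    apply Limits.prod.hom_ext
    · simp
    · simp [h]

end Cat

open Groth.Agent.S13210 Groth.Agent.Lib.Helper12.ZarGlue Groth.Agent.R2.H59.AffDescGlue
  Groth.Agent.R2.H59.SLQFRel

variable {S : Scheme.{u}}

/-- Products of locally surjective maps of fppf sheaves are locally surjective. -/
lemma isLocallySurjective_prod_map {A B A' B' : AlgSp.Sp S} (f : A ⟶ B) (g : A' ⟶ B')
    [Sheaf.IsLocallySurjective f] [Sheaf.IsLocallySurjective g] :
    Sheaf.IsLocallySurjective (prod.map f g) := by
  haveI : Sheaf.IsLocallySurjective (prod.map f (𝟙 A')) :=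
    Groth.Agent.Lib.Helper9.isLocallySurjective_of_isPullback _ (isPullback_prod_map_id f A')
  haveI : Sheaf.IsLocallySurjective (prod.map (𝟙 B) g) :=
    Groth.Agent.Lib.Helper9.isLocallySurjective_of_isPullback _ (isPullback_prod_id_map g B)
  have : prod.map f g = prod.map f (𝟙 A') ≫ prod.map (𝟙 B) g := by simp
  rw [this]
  infer_instance

/-- **Sheaves with an étale presentation are algebraic spaces.** -/
theorem isAlgSpace_of_kernelPair {F : AlgSp.Sp S} {R U : Over S} (s t : R ⟶ U)
    (π : (AlgSp.yon S).obj U ⟶ F) [Sheaf.IsLocallySurjective π]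
    (hk : IsPullback ((AlgSp.yon S).map t) ((AlgSp.yon S).map s) π π)
    (hs : Etale s.left) (ht : Etale t.left) :
    AlgSp.IsAlgSpace F ∧ AlgSp.RepWith @Etale π ∧ AlgSp.RepWith @Surjective π := by
  haveI := hs
  haveI := ht
  -- `(t, s) : R ⟶ U × U` is a monomorphism, locally of finite type
  haveI hmono : Mono (prod.lift t s) := ⟨fun {T} x y hxy => by
    apply pair_ext hk
    · have := congrArg (· ≫ prod.fst) hxy
      simpa using this
    · have := congrArg (· ≫ prod.snd) hxy
      simpa using this⟩
  haveI : Mono (prod.lift t s).left := inferInstance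
  haveI hlft : LocallyOfFiniteType (prod.lift t s).left := by
    have h1 : (prod.lift t s).left ≫ (prod.fst : U ⨯ U ⟶ U).left = t.left := by
      rw [← Over.comp_left, prod.lift_fst]
    haveI : LocallyOfFiniteType ((prod.lift t s).left ≫ (prod.fst : U ⨯ U ⟶ U).left) := by
      rw [h1]
      infer_instance
    exact locallyOfFiniteType_of_comp _ (prod.fst : U ⨯ U ⟶ U).left
  have hj : prod.lift ((AlgSp.yon S).map t) ((AlgSp.yon S).map s) =
      (AlgSp.yon S).map (prod.lift t s) ≫ prodComparison (AlgSp.yon S) U U := by
    apply Limits.prod.hom_ext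
    · rw [prod.lift_fst, Category.assoc, prodComparison_fst, ← Functor.map_comp, prod.lift_fst]
    · rw [prod.lift_snd, Category.assoc, prodComparison_snd, ← Functor.map_comp, prod.lift_snd]
  have hrep : ∀ (P : MorphismProperty Scheme.{u}) [P.IsStableUnderBaseChange],
      P (prod.lift t s).left →
      AlgSp.RepWith P (prod.lift ((AlgSp.yon S).map t) ((AlgSp.yon S).map s)) := by
    intro P _ hP
    have : P.RespectsIso := MorphismProperty.IsStableUnderBaseChange.respectsIso
    rw [hj]
    exact (MorphismProperty.cancel_right_of_respectsIso (AlgSp.RepWith P) _ _).2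
      ((AlgSp.repWith_yon_map_iff P _).2 hP)
  haveI : Sheaf.IsLocallySurjective (prod.map π π) := isLocallySurjective_prod_map π π
  have hdiag : AlgSp.Representable (Limits.diag F) :=
    Groth.Agent.R2.H59.SLQF.representable_of_locallySurjective (Limits.diag F) (prod.map π π)
      ((AlgSp.yon S).map t ≫ π) (prod.lift ((AlgSp.yon S).map t) ((AlgSp.yon S).map s))
      (isPullback_diag_of_kernelPair hk)
      (hrep @IsSeparated inferInstance) (hrep @LocallyQuasiFinite inferInstance)
      (hrep @LocallyOfFiniteType hlft)
  have hπ : AlgSp.Representable π := Functor.relativelyRepresentable.of_diag hdiag π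
  haveI := Groth.Agent.R2.H44.FppfLocal.etale.{u}
  haveI := Groth.Agent.R2.H44.FppfLocal.surjective.{u}
  have hπe : AlgSp.RepWith @Etale π :=
    Groth.Agent.S9884.repWith_of_locallySurjective π hπ π _ _ hk @Etale
      ((AlgSp.repWith_yon_map_iff @Etale s).2 hs)
  have hss : Surjective s.left := by
    obtain ⟨δ, -, hδ⟩ := exists_refl hk
    refine ⟨fun x => ⟨δ.left x, ?_⟩⟩
    rw [← Scheme.Hom.comp_apply, ← Over.comp_left, hδ]
    rfl
  have hπs : AlgSp.RepWith @Surjective π :=
    Groth.Agent.S9884.repWith_of_locallySurjective π hπ π _ _ hk @Surjective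
      ((AlgSp.repWith_yon_map_iff @Surjective s).2 hss)
  exact ⟨⟨hdiag, U, π, hπe, hπs⟩, hπe, hπs⟩

end Groth.Agent.R2.H59.EtQuot
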