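import Groth.Prelude.Def_AlgSpRep
import Groth.Agent.R2.H59EtQuot
import Groth.Agent.R2.H43Quot
import Groth.Agent.Lib.Helper12QuotSh
import Mathlib.CategoryTheory.Sites.RegularEpi

/-!
# Etale sheaves with a representable etale surjective chart are algebraic spaces (helper59)

* `Jet_le` : the etale topology on `Over S` is coarser than the fppf topology.
* `isEqvRel_of_isPullback` : a presheaf kernel pair of schemes is an equivalence relation.
* `exists_iso_of_isKernelPair` : two epimorphisms with the same kernel pair in a regular epi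
  category have isomorphic targets.
* `isAlgSpaceP_of_chart` : an etale sheaf receiving a representable etale surjective map from a
  scheme is an algebraic space (in particular an fppf sheaf).
-/

set_option autoImplicit false
set_option backward.isDefEq.respectTransparency false
set_option linter.style.haveILetI false
set_option linter.unusedSectionVars false

universe u

open CategoryTheory CategoryTheory.Limits AlgebraicGeometry Opposite

namespace Groth.Agent.R2.H59.EtSheaf

open AlgSp

variable {S : Scheme.{u}}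

/-- The etale topology on schemes over `S`. -/
abbrev Jet (S : Scheme.{u}) : GrothendieckTopology (Over S) :=
  QuotSh.J Scheme.etalePrecoverage S

theorem Jet_le : Jet S ≤ AlgSp.J S := by
  intro T R hR
  rw [GrothendieckTopology.mem_over_iff] at hR ⊢
  exact Precoverage.toGrothendieck_mono
    Groth.Agent.Lib.Helper12.QuotShLib.etalePrecoverage_le_fppfPrecoverage _ hR

lemma generate_singleton_mem_Jet {Z T : Over S} (p : Z ⟶ T) [Etale p.left]
    [Surjective p.left] :
    Sieve.generate (Presieve.singleton p) ∈ Jet S T := by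
  rw [GrothendieckTopology.mem_over_iff]
  refine GrothendieckTopology.superset_covering _ ?_
    (Precoverage.generate_mem_toGrothendieck
      (Groth.Agent.Lib.Helper12.QuotShLib.singleton_mem_etalePrecoverage p.left))
  rintro W g ⟨W', a, b, ⟨⟩, rfl⟩
  rw [Sieve.overEquiv_iff]
  refine ⟨Z, Over.homMk a (by simp), p, ⟨⟩, ?_⟩
  apply Over.OverMorphism.ext
  simp

/-- In a regular epi category two epimorphisms with the same kernel pair have isomorphic
targets (compatibly with the maps). -/
theorem exists_iso_of_isKernelPair {C : Type*} [Category C] [IsRegularEpiCategory C]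
    {R U F G : C} (a b : R ⟶ U) (p : U ⟶ F) (q : U ⟶ G) [Epi p] [Epi q]
    (hp : IsKernelPair p a b) (hq : IsKernelPair q a b) :
    ∃ e : F ≅ G, p ≫ e.hom = q := by
  have h1 : IsRegularEpi p := IsRegularEpiCategory.regularEpiOfEpi p
  have h2 : IsRegularEpi q := IsRegularEpiCategory.regularEpiOfEpi q
  have c1 := hp.toCoequalizer'
  have c2 := hq.toCoequalizer'
  refine ⟨c1.coconePointUniqueUpToIso c2, ?_⟩
  exact c1.comp_coconePointUniqueUpToIso_hom c2 WalkingParallelPair.one

/-- A presheaf kernel pair `h_R ⇉ h_U` of a map `h_U ⟶ F` is an equivalence relation. -/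
theorem isEqvRel_of_isPullback {R U : Over S} (s t : R ⟶ U) {F : PSp S}
    (p : (pyon S).obj U ⟶ F)
    (hk : IsPullback ((pyon S).map t) ((pyon S).map s) p p) : AlgSp.IsEqvRel s t := by
  have key : ∀ (T : Over S) (a b : T ⟶ U),
      (∃ r : T ⟶ R, r ≫ t = a ∧ r ≫ s = b) ↔ (pyon S).map a ≫ p = (pyon S).map b ≫ p := by
    intro T a b
    constructor
    · rintro ⟨r, rfl, rfl⟩
      rw [Functor.map_comp, Functor.map_comp, Category.assoc, Category.assoc, hk.w]
    · intro h
      obtain ⟨l, hl1, hl2⟩ := hk.exists_lift _ _ h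
      refine ⟨(pyon S).preimage l, ?_, ?_⟩
      · apply (pyon S).map_injective
        rw [Functor.map_comp, Functor.map_preimage, hl1]
      · apply (pyon S).map_injective
        rw [Functor.map_comp, Functor.map_preimage, hl2]
  refine ⟨?_, ?_⟩
  · intro T r r' h1 h2
    apply (pyon S).map_injective
    apply hk.hom_ext
    · rw [← Functor.map_comp, ← Functor.map_comp, h1]
    · rw [← Functor.map_comp, ← Functor.map_comp, h2]
  · intro T
    refine ⟨fun a => (key T a a).2 rfl, fun {a b} h => (key T b a).2 ((key T a b).1 h).symm,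
      fun {a b c} h1 h2 => (key T a c).2 (((key T a b).1 h1).trans ((key T b c).1 h2))⟩

/-- A map `h_U ⟶ F` of presheaves which is representable, etale and surjective is locally
surjective for the etale topology. -/
theorem isLocallySurjective_of_relative {F : PSp S} {U : Over S} (p : (pyon S).obj U ⟶ F)
    (he : (MorphismProperty.inverseImage @Etale (Over.forget S)).relative (pyon S) p)
    (hs : (MorphismProperty.inverseImage @Surjective (Over.forget S)).relative (pyon S) p) :
    Presheaf.IsLocallySurjective (Jet S) p := by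
  constructor
  intro T x
  obtain ⟨ξ, hξ⟩ : ∃ ξ : (pyon S).obj T ⟶ F, uliftYonedaEquiv ξ = x :=
    ⟨uliftYonedaEquiv.symm x, Equiv.apply_symm_apply _ _⟩
  obtain ⟨W, snd, fst, sq⟩ := he.rep ξ
  haveI : Etale snd.left := he.property ξ fst snd sq
  haveI : Surjective snd.left := hs.property ξ fst snd sq
  refine (Jet S).superset_covering ?_ (generate_singleton_mem_Jet snd)
  rw [Sieve.generate_le_iff]
  rintro _ _ ⟨⟩
  refine ⟨uliftYonedaEquiv fst, ?_⟩
  rw [← hξ]
  have := uliftYonedaEquiv_comp fst p
  rw [sq.w] at this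
  rw [← this]
  exact (uliftYonedaEquiv_naturality ξ snd.op).symm

/-- A map `h_U ⟶ G` of fppf sheaves which is representable, etale and surjective is locally
surjective for the etale topology. -/
theorem isLocallySurjective_of_repWith {G : Sp S} {U : Over S} (π : (yon S).obj U ⟶ G)
    (he : RepWith @Etale π) (hs : RepWith @Surjective π) :
    Presheaf.IsLocallySurjective (Jet S) π.hom := by
  constructor
  intro T x
  obtain ⟨ξ, hξ⟩ : ∃ ξ : (AlgSp.yon S).obj T ⟶ G, (AlgSp.J S).uliftYonedaEquiv ξ = x :=
    ⟨(AlgSp.J S).uliftYonedaEquiv.symm x, Equiv.apply_symm_apply _ _⟩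
  obtain ⟨W, snd, fst, sq⟩ := he.rep ξ
  haveI : Etale snd.left := he.property ξ fst snd sq
  haveI : Surjective snd.left := hs.property ξ fst snd sq
  refine (Jet S).superset_covering ?_ (generate_singleton_mem_Jet snd)
  rw [Sieve.generate_le_iff]
  rintro _ _ ⟨⟩
  refine ⟨(AlgSp.J S).uliftYonedaEquiv fst, ?_⟩
  rw [← hξ]
  have := (AlgSp.J S).uliftYonedaEquiv_comp fst π
  rw [sq.w] at this
  rw [← this]
  exact ((AlgSp.J S).uliftYonedaEquiv_naturality ξ snd).symm

/-- **Etale sheaves with a representable etale surjective chart are algebraic spaces.** -/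
theorem isAlgSpaceP_of_chart (F : PSp S) (h1 : Presheaf.IsSheaf (Jet S) F) (U : Over S)
    (p : (pyon S).obj U ⟶ F)
    (he : (MorphismProperty.inverseImage @Etale (Over.forget S)).relative (pyon S) p)
    (hs : (MorphismProperty.inverseImage @Surjective (Over.forget S)).relative (pyon S) p) :
    IsAlgSpaceP F := by
  obtain ⟨R, s, fst, sq⟩ := he.rep p
  obtain ⟨t, rfl⟩ : ∃ t : R ⟶ U, (pyon S).map t = fst := ⟨_, (pyon S).map_preimage fst⟩
  have hset : Etale s.left := he.property p _ s sq
  have htet : Etale t.left := he.property p _ t sq.flip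
  have hE : IsEqvRel s t := isEqvRel_of_isPullback s t p sq
  have hkπ := Groth.Agent.R2.H43.Quot.isPullback_πy s t hE
  obtain ⟨hG, hπe, hπs⟩ := Groth.Agent.R2.H59.EtQuot.isAlgSpace_of_kernelPair s t
    (Groth.Agent.R2.H43.Quot.πy s t) hkπ hset htet
  set G := QuotSh.quot Scheme.fppfPrecoverage s t with hGdef
  set π := Groth.Agent.R2.H43.Quot.πy s t with hπdef
  -- pass to etale sheaves
  let Fe : Sheaf (Jet S) (Type (u + 1)) := ⟨F, h1⟩
  let Ge : Sheaf (Jet S) (Type (u + 1)) := ⟨G.obj, Presheaf.IsSheaf.of_le Jet_le G.property⟩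
  let Ue : Sheaf (Jet S) (Type (u + 1)) :=
    ⟨(pyon S).obj U, Presheaf.IsSheaf.of_le Jet_le ((yon S).obj U).property⟩
  let Re : Sheaf (Jet S) (Type (u + 1)) :=
    ⟨(pyon S).obj R, Presheaf.IsSheaf.of_le Jet_le ((yon S).obj R).property⟩
  let pe : Ue ⟶ Fe := ObjectProperty.homMk p
  let πe : Ue ⟶ Ge := ObjectProperty.homMk π.hom
  let te : Re ⟶ Ue := ObjectProperty.homMk ((pyon S).map t)
  let se : Re ⟶ Ue := ObjectProperty.homMk ((pyon S).map s)
  have hkp : IsKernelPair pe te se :=
    IsPullback.of_map_of_faithful (sheafToPresheaf (Jet S) (Type (u + 1))) sq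
  have hkq : IsKernelPair πe te se :=
    IsPullback.of_map_of_faithful (sheafToPresheaf (Jet S) (Type (u + 1)))
      (hkπ.map (sheafToPresheaf (AlgSp.J S) (Type (u + 1))))
  haveI : Epi pe := (Sheaf.isLocallySurjective_iff_epi pe).1
    (isLocallySurjective_of_relative p he hs)
  haveI : Epi πe := (Sheaf.isLocallySurjective_iff_epi πe).1
    (isLocallySurjective_of_repWith π hπe hπs)
  obtain ⟨e, -⟩ := exists_iso_of_isKernelPair te se pe πe hkp hkq
  exact ((isAlgSpaceP_obj_iff G).2 hG).of_iso
    ((sheafToPresheaf (Jet S) (Type (u + 1))).mapIso e).symm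

end Groth.Agent.R2.H59.EtSheaf
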