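import Mathlib
import Groth.Prelude.Def_AlgSp3
import Groth.Agent.Lib.Helper12ZarGlue
import Groth.Agent.Lib.Helper22LimAffEx

/-!
# Cofiltered limits of algebraic spaces with affine transition maps (helper44)

Namespace `Groth.Agent.R2.H44.LimSp`.

General category theory:
* `pbFunctor D i g`, `pbCone D c i g`, `isLimitPbCone`: for a limit cone `c` of `D : I ⥤ C` over a cofiltered `I`
  and `g : G ⟶ D.obj i`, the pullback `G ×_{D i} c.pt` is the limit of `j ↦ G ×_{D i} D j` over `Over i`.
-/

set_option autoImplicit false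
set_option backward.isDefEq.respectTransparency false
universe u

open CategoryTheory CategoryTheory.Limits

namespace Groth.Agent.R2.H44.LimSp

section Cat

universe v₁ u₁ v₂ u₂

variable {C : Type u₁} [Category.{v₁} C] [HasPullbacks C] {I : Type u₂} [Category.{v₂} I]

/-- the functor `j ↦ G ×_{D i} D j` on `Over i` -/
noncomputable def pbFunctor (D : I ⥤ C) (i : I) {G : C} (g : G ⟶ D.obj i) : Over i ⥤ C where
  obj j := pullback g (D.map j.hom)
  map {j k} φ := pullback.map g (D.map j.hom) g (D.map k.hom) (𝟙 _) (D.map φ.left) (𝟙 _) (by simp)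
    (by rw [← D.map_comp, Over.w]; simp)
  map_id j := by
    apply pullback.hom_ext <;> simp [pullback.map]
  map_comp φ ψ := by
    apply pullback.hom_ext <;> simp [pullback.map]

/-- the projection `G ×_{D i} D j ⟶ D j` as a natural transformation -/
noncomputable def pbSnd (D : I ⥤ C) (i : I) {G : C} (g : G ⟶ D.obj i) :
    pbFunctor D i g ⟶ Over.forget i ⋙ D where
  app j := pullback.snd g (D.map j.hom)
  naturality j k φ := by simp [pbFunctor, pullback.map]

/-- the cone `G ×_{D i} c.pt ⟶ G ×_{D i} D j` -/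
noncomputable def pbCone (D : I ⥤ C) (c : Cone D) (i : I) {G : C} (g : G ⟶ D.obj i) :
    Cone (pbFunctor D i g) where
  pt := pullback g (c.π.app i)
  π :=
    { app := fun j => pullback.map g (c.π.app i) g (D.map j.hom) (𝟙 _) (c.π.app j.left) (𝟙 _) (by simp)
        (by simp)
      naturality := by
        intro j k φ
        apply pullback.hom_ext <;> simp [pbFunctor, pullback.map] }

attribute [local instance] IsCofiltered.isConnected in
/-- `G ×_{D i} lim D = lim_j G ×_{D i} D j` -/
noncomputable def isLimitPbCone [IsCofiltered I] (D : I ⥤ C) (c : Cone D) (hc : IsLimit c) (i : I) {G : C}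
    (g : G ⟶ D.obj i) : IsLimit (pbCone D c i g) := by
  have hcG : IsLimit (c.whisker (Over.forget i)) :=
    (Functor.Initial.isLimitWhiskerEquiv (Over.forget i) c).symm hc
  refine isLimitOfIsPullbackOfIsConnected (pbSnd D i g) (pbCone D c i g) (c.whisker (Over.forget i))
    ⟨pullback.snd _ _, ?_⟩ ?_ hcG
  · intro j
    simp [pbCone, pbSnd, pullback.map]
  · intro j
    -- paste with the pullback square over `D.map j.hom`
    have h1 : IsPullback (pullback.fst g (D.map j.hom)) (pullback.snd g (D.map j.hom)) g (D.map j.hom) :=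
      IsPullback.of_hasPullback _ _
    have h2 : IsPullback (pullback.fst g (c.π.app i)) (pullback.snd g (c.π.app i)) g (c.π.app i) :=
      IsPullback.of_hasPullback _ _
    have key : IsPullback ((pbCone D c i g).π.app j) (pullback.snd g (c.π.app i))
        (pullback.snd g (D.map j.hom)) (c.π.app j.left) := by
      refine IsPullback.of_right ?_ (by simp [pbCone, pullback.map]) h1
      have e : c.π.app j.left ≫ D.map j.hom = c.π.app i := c.w j.hom
      rw [e]
      simpa [pbCone, pullback.map] using h2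
    exact key

end Cat

section AffLim

open AlgebraicGeometry AlgSp

variable {S : Scheme.{u}}

/-- the sheaf `F` over `S` is representable by an affine scheme -/
def IsAffRep (F : AlgSp.Sp S) : Prop :=
  ∃ W : Over S, IsAffine W.left ∧ Nonempty ((AlgSp.yon S).obj W ≅ F)

theorem IsAffRep.of_iso {F G : AlgSp.Sp S} (h : IsAffRep F) (e : F ≅ G) : IsAffRep G := by
  obtain ⟨W, hW, ⟨e'⟩⟩ := h
  exact ⟨W, hW, ⟨e' ≪≫ e⟩⟩

/-- if `h_W ≅ h_V` and `W` is affine then `V` is affine -/
theorem isAffine_of_yon_iso {W V : Over S} (hW : IsAffine W.left)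
    (e : (AlgSp.yon S).obj W ≅ (AlgSp.yon S).obj V) : IsAffine V.left := by
  let e' : W ≅ V := (AlgSp.yon S).preimageIso e
  have e'' : W.left ≅ V.left := (Over.forget S).mapIso e'
  exact IsAffine.of_isIso e''.inv

attribute [local instance] IsCofiltered.isConnected in
/-- A cofiltered diagram (in fppf sheaves) of sheaves representable by affine schemes comes from a diagram `K` of affine
schemes over `S`; the limit of `K` exists, is affine, is a limit of schemes, and represents the limit of the sheaves. -/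
theorem exists_affine_model {J : Type u} [SmallCategory J] [IsCofiltered J] (F : J ⥤ AlgSp.Sp S)
    (hF : ∀ j, IsAffRep (F.obj j)) (cF : Cone F) (hcF : IsLimit cF) :
    ∃ (K : J ⥤ Over S) (eK : K ⋙ AlgSp.yon S ≅ F) (cK : Cone K) (e : (AlgSp.yon S).obj cK.pt ≅ cF.pt),
      Nonempty (IsLimit cK) ∧ Nonempty (IsLimit ((Over.forget S).mapCone cK)) ∧
      (∀ j, IsAffine (K.obj j).left) ∧ IsAffine cK.pt.left ∧
      ∀ j, e.hom ≫ cF.π.app j = (AlgSp.yon S).map (cK.π.app j) ≫ eK.hom.app j := by
  have hess : ∀ j, (AlgSp.yon S).essImage (F.obj j) := fun j => by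
    obtain ⟨W, -, ⟨e⟩⟩ := hF j
    exact ⟨W, ⟨e⟩⟩
  let K : J ⥤ Over S := Functor.essImage.liftFunctor F (AlgSp.yon S) hess
  let eK : K ⋙ AlgSp.yon S ≅ F := Functor.essImage.liftFunctorCompIso F (AlgSp.yon S) hess
  have hK : ∀ j, IsAffine ((K ⋙ Over.forget S).obj j) := fun j => by
    obtain ⟨W, hW, ⟨e⟩⟩ := hF j
    exact isAffine_of_yon_iso hW (e ≪≫ (eK.app j).symm)
  have : HasLimit (K ⋙ Over.forget S) :=
    Groth.Agent.Lib.Helper22.LimAffEx.hasLimit_of_forall_isAffine (K ⋙ Over.forget S)
  have : HasLimit K := hasLimit_of_created K (Over.forget S)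
  -- the limit in `Over S` is affine
  have hlim : IsLimit ((Over.forget S).mapCone (limit.cone K)) :=
    isLimitOfPreserves (Over.forget S) (limit.isLimit K)
  have haff : IsAffine (limit K).left := Scheme.isAffine_of_isLimit _ hlim
  -- `yon` preserves the limit
  have hy : IsLimit ((AlgSp.yon S).mapCone (limit.cone K)) :=
    isLimitOfPreserves (AlgSp.yon S) (limit.isLimit K)
  have hy' : IsLimit ((Cone.postcompose eK.hom).obj ((AlgSp.yon S).mapCone (limit.cone K))) :=
    (IsLimit.postcomposeHomEquiv eK _).symm hy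
  refine ⟨K, eK, limit.cone K, hy'.conePointUniqueUpToIso hcF, ⟨limit.isLimit K⟩, ⟨hlim⟩, hK, haff, ?_⟩
  intro j
  exact IsLimit.conePointUniqueUpToIso_hom_comp hy' hcF j

/-- A cofiltered limit (in fppf sheaves) of sheaves representable by affine schemes is representable by an affine
scheme. -/
theorem isAffRep_of_isLimit {J : Type u} [SmallCategory J] [IsCofiltered J] (F : J ⥤ AlgSp.Sp S)
    (hF : ∀ j, IsAffRep (F.obj j)) (cF : Cone F) (hcF : IsLimit cF) : IsAffRep cF.pt := by
  obtain ⟨K, eK, cK, e, -, -, -, haff, -⟩ := exists_affine_model F hF cF hcF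
  exact ⟨cK.pt, haff, ⟨e⟩⟩

/-- The projections of a cofiltered limit with affine transition maps are affine. -/
theorem isAffineMor_π {I : Type u} [SmallCategory I] [IsCofiltered I] (D : I ⥤ AlgSp.Sp S)
    (hDa : ∀ (i j : I) (φ : i ⟶ j), AlgSp.IsAffineMor (D.map φ)) (c : Cone D) (hc : IsLimit c) (i : I) :
    AlgSp.IsAffineMor (c.π.app i) := by
  intro Z hZ g
  have hlim := isLimitPbCone D c hc i g
  have haff : ∀ j : Over i, IsAffRep ((pbFunctor D i g).obj j) := by
    intro j
    obtain ⟨W, iW, fst, sq, hW⟩ := hDa j.left i j.hom hZ g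
    exact ⟨W, hW, ⟨sq.flip.isoPullback⟩⟩
  obtain ⟨W, hW, ⟨e⟩⟩ := isAffRep_of_isLimit (pbFunctor D i g) haff _ hlim
  have e' : (AlgSp.yon S).obj W ≅ pullback g (c.π.app i) := e
  refine ⟨W, (AlgSp.yon S).preimage (e'.hom ≫ pullback.fst _ _), e'.hom ≫ pullback.snd _ _, ?_, hW⟩
  rw [Functor.map_preimage]
  exact (IsPullback.of_hasPullback g (c.π.app i)).flip.of_iso e'.symm (Iso.refl _) (Iso.refl _)
    (Iso.refl _) (by simp) (by simp) (by simp) (by simp)

/-- An affine morphism of fppf sheaves is representable by schemes. -/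
theorem representable_of_isAffineMor {X X₀ : AlgSp.Sp S} (π : X ⟶ X₀) (hπ : AlgSp.IsAffineMor π) :
    AlgSp.Representable π := by
  have h : AlgSp.RepWith @IsAffineHom π := by
    refine Groth.Agent.Lib.Helper12.ZarGlue.repWith_of_affine @IsAffineHom π (fun Z hZ g => ?_)
    obtain ⟨W, i, fst, sq, hW⟩ := hπ hZ g
    have := hZ
    have := hW
    exact ⟨W, i, fst, sq, inferInstance⟩
  exact h.rep

/-- The source of a representable morphism of fppf sheaves whose target is an algebraic space is an algebraic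
space. -/
theorem isAlgSpace_of_representable {X X₀ : AlgSp.Sp S} (π : X ⟶ X₀) (hrep : AlgSp.Representable π)
    (hX₀ : AlgSp.IsAlgSpace X₀) : AlgSp.IsAlgSpace X where
  diag := by
    refine Functor.relativelyRepresentable.diag_of_map_from_obj (fun T g => ?_)
    obtain ⟨T', snd, fst, sq⟩ := hrep (g ≫ π)
    have hfst : AlgSp.Representable fst :=
      MorphismProperty.of_isPullback sq.flip (hX₀.representable_from_yon (g ≫ π))
    let s : (AlgSp.yon S).obj T ⟶ (AlgSp.yon S).obj T' := sq.lift g (𝟙 _) (by simp)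
    have hs : AlgSp.Representable s := AlgSp.representable_of_yon s
    have e : g = s ≫ fst := (sq.lift_fst _ _ _).symm
    rw [e]
    exact MorphismProperty.comp_mem _ _ _ hs hfst
  atlas := by
    obtain ⟨U₀, p₀, he, hs⟩ := hX₀.atlas
    obtain ⟨V, snd, fst, sq⟩ := hrep p₀
    exact ⟨V, fst, MorphismProperty.of_isPullback sq.flip he, MorphismProperty.of_isPullback sq.flip hs⟩

/-- A cofiltered limit (in fppf sheaves) of algebraic spaces with affine transition maps is an algebraic space. -/
theorem isAlgSpace_limit {I : Type u} [SmallCategory I] [IsCofiltered I] (D : I ⥤ AlgSp.Sp S)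
    (hD : ∀ i, AlgSp.IsAlgSpace (D.obj i))
    (hDa : ∀ (i j : I) (φ : i ⟶ j), AlgSp.IsAffineMor (D.map φ)) (c : Cone D) (hc : IsLimit c) :
    AlgSp.IsAlgSpace c.pt := by
  obtain ⟨i₀⟩ : Nonempty I := IsCofiltered.nonempty
  exact isAlgSpace_of_representable (c.π.app i₀)
    (representable_of_isAffineMor _ (isAffineMor_π D hDa c hc i₀)) (hD i₀)

end AffLim

end Groth.Agent.R2.H44.LimSp
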