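import Mathlib
import Groth.Agent.R2.H44LimSp
import Groth.Agent.R2.H44Descent
import Groth.Agent.S9885

/-!
# Limits with closed-immersion transition maps: eventually isomorphisms (helper44)

Namespace `Groth.Agent.R2.H44.LimIso`.

* `isPullback_pbFunctor_map`, `isPullback_pbCone_π`: the cartesian squares behind `LimSp.pbFunctor`, `LimSp.pbCone`.
* `appTop_π_surjective`, `eventually_isIso`: for a cofiltered limit of affine schemes with closed-immersion transition
  maps, the projections are surjective on global sections; if one projection is locally of finite presentation, all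
  projections from some index on are isomorphisms.
* `isAffineMor_of_closedImmersion`: a representable closed immersion of fppf sheaves is affine.
* `isLocallySurjective_of_etale_surjective`: a representable etale surjective map of fppf sheaves is locally surjective.
-/

set_option autoImplicit false
set_option backward.isDefEq.respectTransparency false
universe u

open CategoryTheory CategoryTheory.Limits AlgebraicGeometry

namespace Groth.Agent.R2.H44.LimIso

open Groth.Agent.R2.H44.LimSp

section Cat

universe v₁ u₁ v₂ u₂

variable {C : Type u₁} [Category.{v₁} C] [HasPullbacks C] {I : Type u₂} [Category.{v₂} I]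

theorem isPullback_pbFunctor_map (D : I ⥤ C) (i : I) {G : C} (g : G ⟶ D.obj i) {j k : Over i} (φ : j ⟶ k) :
    IsPullback ((pbFunctor D i g).map φ) (pullback.snd g (D.map j.hom)) (pullback.snd g (D.map k.hom))
      (D.map φ.left) := by
  have h1 : IsPullback (pullback.fst g (D.map k.hom)) (pullback.snd g (D.map k.hom)) g (D.map k.hom) :=
    IsPullback.of_hasPullback _ _
  have h2 : IsPullback (pullback.fst g (D.map j.hom)) (pullback.snd g (D.map j.hom)) g (D.map j.hom) :=
    IsPullback.of_hasPullback _ _
  refine IsPullback.of_right ?_ (by simp [pbFunctor, pullback.map]) h1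
  have e : D.map φ.left ≫ D.map k.hom = D.map j.hom := by rw [← D.map_comp, Over.w]
  rw [e]
  simpa [pbFunctor, pullback.map] using h2

theorem isPullback_pbCone_π (D : I ⥤ C) (c : Cone D) (i : I) {G : C} (g : G ⟶ D.obj i) (j : Over i) :
    IsPullback ((pbCone D c i g).π.app j) (pullback.snd g (c.π.app i)) (pullback.snd g (D.map j.hom))
      (c.π.app j.left) := by
  have h1 : IsPullback (pullback.fst g (D.map j.hom)) (pullback.snd g (D.map j.hom)) g (D.map j.hom) :=
    IsPullback.of_hasPullback _ _
  have h2 : IsPullback (pullback.fst g (c.π.app i)) (pullback.snd g (c.π.app i)) g (c.π.app i) :=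
    IsPullback.of_hasPullback _ _
  refine IsPullback.of_right ?_ (by simp [pbCone, pullback.map]) h1
  have e : c.π.app j.left ≫ D.map j.hom = c.π.app i := c.w j.hom
  rw [e]
  simpa [pbCone, pullback.map] using h2

end Cat

section Sch

/-- A cofiltered limit of affine schemes with closed-immersion transition maps: the projections are surjective on
global sections. -/
theorem appTop_π_surjective {J : Type u} [SmallCategory J] [IsCofiltered J]
    (K : J ⥤ Scheme.{u}) [∀ j, IsAffine (K.obj j)]
    (hKc : ∀ {j k : J} (φ : j ⟶ k), IsClosedImmersion (K.map φ))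
    (c : Cone K) (hc : IsLimit c) (j : J) : Function.Surjective (c.π.app j).appTop := by
  intro s
  obtain ⟨i, t, rfl⟩ := exists_appTop_π_eq_of_isAffine_of_isLimit K c hc s
  have := hKc (IsCofiltered.minToRight i j)
  obtain ⟨t', ht'⟩ := (IsClosedImmersion.isAffine_surjective_of_isAffine
    (K.map (IsCofiltered.minToRight i j))).2 ((K.map (IsCofiltered.minToLeft i j)).appTop t)
  refine ⟨t', ?_⟩
  rw [← c.w (IsCofiltered.minToRight i j), ← c.w (IsCofiltered.minToLeft i j)]
  simp only [Scheme.Hom.comp_appTop, CommRingCat.comp_apply]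
  exact congrArg _ ht'

/-- A cofiltered limit of affine schemes with closed-immersion transition maps, one of whose projections is locally
of finite presentation: the projections are eventually isomorphisms. -/
theorem eventually_isIso {J : Type u} [SmallCategory J] [IsCofiltered J]
    (K : J ⥤ Scheme.{u}) [∀ j, IsAffine (K.obj j)]
    (hKc : ∀ {j k : J} (φ : j ⟶ k), IsClosedImmersion (K.map φ))
    (c : Cone K) (hc : IsLimit c) (j₁ : J) [LocallyOfFinitePresentation (c.π.app j₁)] :
    ∃ (j₀ : J) (_ : j₀ ⟶ j₁), ∀ (j : J) (_ : j ⟶ j₀), IsIso (c.π.app j) := by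
  have : IsAffine c.pt := Scheme.isAffine_of_isLimit c hc
  have : ∀ j, IsAffine (((Functor.const J).obj c.pt).obj j) := fun _ => ‹IsAffine c.pt›
  have hsurj := appTop_π_surjective K hKc c hc
  -- kernel finitely generated
  let φ : Γ(K.obj j₁, ⊤) →+* Γ(c.pt, ⊤) := (c.π.app j₁).appTop.hom
  have hfp : φ.FinitePresentation :=
    (HasRingHomProperty.iff_of_isAffine (P := @LocallyOfFinitePresentation)).1 inferInstance
  have hfg : (RingHom.ker φ).FG := by
    algebraize [φ]
    exact Algebra.FinitePresentation.ker_fG_of_surjective
      (Algebra.ofId Γ(K.obj j₁, ⊤) Γ(c.pt, ⊤)) (hsurj j₁)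
  obtain ⟨s, hs⟩ := hfg
  -- a common index killing a finite set
  have hfin : ∀ s : Finset Γ(K.obj j₁, ⊤), (∀ x ∈ s, φ x = 0) →
      ∃ (j₀ : J) (f : j₀ ⟶ j₁), ∀ x ∈ s, (K.map f).appTop x = 0 := by
    classical
    intro s
    induction s using Finset.induction_on with
    | empty => intro _; exact ⟨j₁, 𝟙 _, by simp⟩
    | insert a s ha ih =>
      intro h
      obtain ⟨j, f, hf⟩ := ih (fun x hx => h x (Finset.mem_insert_of_mem hx))
      obtain ⟨j', f', hf'⟩ := exists_appTop_map_eq_zero_of_isAffine_of_isLimit K c hc j₁ a
        (h a (Finset.mem_insert_self _ _))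
      obtain ⟨W, g, g', hg⟩ := IsCofiltered.cospan f f'
      refine ⟨W, g ≫ f, ?_⟩
      intro x hx
      rcases Finset.mem_insert.1 hx with rfl | hx
      · rw [hg, K.map_comp, Scheme.Hom.comp_appTop, CommRingCat.comp_apply, hf', map_zero]
      · rw [K.map_comp, Scheme.Hom.comp_appTop, CommRingCat.comp_apply, hf x hx, map_zero]
  obtain ⟨j₀, f₀, hf₀⟩ := hfin s (fun x hx => by
    have : x ∈ RingHom.ker φ := hs ▸ Ideal.subset_span hx
    exact this)
  have hker : RingHom.ker φ ≤ RingHom.ker (K.map f₀).appTop.hom := by
    rw [← hs, Ideal.span_le]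
    intro x hx
    exact hf₀ x hx
  -- `c.π.app j₀` is an isomorphism
  have hinj : Function.Injective (c.π.app j₀).appTop := by
    rw [injective_iff_map_eq_zero]
    intro y hy
    have := hKc f₀
    obtain ⟨x, rfl⟩ := (IsClosedImmersion.isAffine_surjective_of_isAffine (K.map f₀)).2 y
    have hx : x ∈ RingHom.ker φ := by
      rw [RingHom.mem_ker]
      have hw := c.w f₀
      change (c.π.app j₁).appTop x = 0
      rw [← hw, Scheme.Hom.comp_appTop, CommRingCat.comp_apply]
      exact hy
    exact hker hx
  have hci : IsClosedImmersion (c.π.app j₀) :=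
    IsClosedImmersion.of_surjective_of_isAffine _ (hsurj j₀)
  have hiso : IsIso (c.π.app j₀) := IsClosedImmersion.isIso_of_injective_of_isAffine hinj
  refine ⟨j₀, f₀, fun j ψ => ?_⟩
  have := hKc ψ
  have hmono : Mono (K.map ψ) := inferInstance
  have hw : c.π.app j ≫ K.map ψ = c.π.app j₀ := c.w ψ
  have hsplit : IsSplitEpi (K.map ψ) :=
    ⟨⟨⟨inv (c.π.app j₀) ≫ c.π.app j, by rw [Category.assoc, hw, IsIso.inv_hom_id]⟩⟩⟩
  have : IsIso (K.map ψ) := isIso_of_mono_of_isSplitEpi _
  have : c.π.app j = c.π.app j₀ ≫ inv (K.map ψ) := by rw [← hw]; simp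
  rw [this]
  infer_instance

end Sch

section Sp

open AlgSp

variable {S : Scheme.{u}}

/-- A representable closed immersion of fppf sheaves is an affine morphism. -/
theorem isAffineMor_of_closedImmersion {F G : AlgSp.Sp S} (f : F ⟶ G)
    (hf : AlgSp.RepWith @IsClosedImmersion f) : AlgSp.IsAffineMor f := by
  intro Z hZ g
  obtain ⟨W, snd, fst, sq⟩ := hf.rep g
  have hci : IsClosedImmersion snd.left := hf.property g fst snd sq
  have := hZ
  exact ⟨W, snd, fst, sq, isAffine_of_isAffineHom snd.left⟩

/-- A representable etale surjective map of fppf sheaves is locally surjective. -/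
theorem isLocallySurjective_of_etale_surjective {F G : AlgSp.Sp S} (p : F ⟶ G)
    (he : AlgSp.RepWith @Etale p) (hs : AlgSp.RepWith @Surjective p) : Sheaf.IsLocallySurjective p := by
  have hle1 : MorphismProperty.inverseImage (@Etale) (Over.forget S) ≤
      MorphismProperty.inverseImage (@Flat) (Over.forget S) :=
    fun X Y g hg => by
      have : Etale g.left := hg
      exact (inferInstance : Flat g.left)
  have hle2 : MorphismProperty.inverseImage (@Etale) (Over.forget S) ≤
      MorphismProperty.inverseImage (@LocallyOfFinitePresentation) (Over.forget S) :=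
    fun X Y g hg => by
      have : Etale g.left := hg
      exact (inferInstance : LocallyOfFinitePresentation g.left)
  exact Groth.Agent.S9885.result S F G p (MorphismProperty.relative_monotone hle1 _ he)
    (MorphismProperty.relative_monotone hle2 _ he) hs

end Sp

end Groth.Agent.R2.H44.LimIso
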