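import Mathlib
import Groth.Agent.S10175
import Groth.Agent.S10176
import Groth.Agent.S10177
import Groth.Agent.S10194
import Groth.Agent.S9906
import Groth.Agent.Lib.Helper12OpenSub
import Groth.Agent.Lib.Helper12ZarGlue
import Groth.Agent.Lib.Helper12LargestOpen

/-!
# Points with an open scheme neighbourhood (helper59, PROJ:thmQ)

* `SchAt X x` : the point `x` of the sheaf `X` lies in an open subfunctor representable by a scheme.
* `exists_iso_yon_of_schAt` : a sheaf with a surjective chart all of whose points are `SchAt` is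
  representable.
-/

set_option autoImplicit false
set_option backward.isDefEq.respectTransparency false
set_option linter.style.haveILetI false
set_option linter.unusedSectionVars false

universe u

open CategoryTheory CategoryTheory.Limits AlgebraicGeometry Opposite

namespace Groth.Agent.R2.H59.QPts

open AlgSp Groth.Agent.S13210

variable {S : Scheme.{u}}

/-- `x` has an open neighbourhood in `X` which is a scheme. -/
def SchAt (X : Sp S) (x : Points X) : Prop :=
  ∃ (W : Over S) (i : (yon S).obj W ⟶ X), RepWith @IsOpenImmersion i ∧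
    x ∈ Set.range (Points.ofPt i)

lemma repWith_etale_of_openImm {F G : Sp S} {f : F ⟶ G} (h : RepWith @IsOpenImmersion f) :
    RepWith @Etale f :=
  MorphismProperty.relative_monotone
    (fun X Y g hg => by
      haveI : IsOpenImmersion g.left := hg
      exact (inferInstance : Etale g.left)) _ h

/-- open immersions compose. -/
lemma repWith_openImm_comp {F G H : Sp S} {f : F ⟶ G} {g : G ⟶ H}
    (hf : RepWith @IsOpenImmersion f) (hg : RepWith @IsOpenImmersion g) :
    RepWith @IsOpenImmersion (f ≫ g) :=
  MorphismProperty.comp_mem _ _ _ hf hg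

lemma repWith_etale_comp {F G H : Sp S} {f : F ⟶ G} {g : G ⟶ H}
    (hf : RepWith @Etale f) (hg : RepWith @Etale g) :
    RepWith @Etale (f ≫ g) :=
  MorphismProperty.comp_mem _ _ _ hf hg

theorem SchAt.yon (W : Over S) (x : Points ((yon S).obj W)) : SchAt ((yon S).obj W) x := by
  refine ⟨W, 𝟙 _, repWith_id _ W, ?_⟩
  obtain ⟨w, rfl⟩ := (Points.schemeHomeo W).surjective x
  exact ⟨w, rfl⟩

theorem SchAt.map_openImm {Y X : Sp S} (j : Y ⟶ X) (hj : RepWith @IsOpenImmersion j)
    {y : Points Y} (h : SchAt Y y) : SchAt X (Points.map j y) := by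
  obtain ⟨W, i, hi, w, rfl⟩ := h
  exact ⟨W, i ≫ j, repWith_openImm_comp hi hj, w, (Points.map_ofPt i j w).symm⟩

theorem SchAt.of_iso {Y X : Sp S} (e : Y ≅ X) {y : Points Y} (h : SchAt Y y) :
    SchAt X (Points.map e.hom y) := by
  obtain ⟨W, i, hi, w, rfl⟩ := h
  refine ⟨W, i ≫ e.hom, ?_, w, (Points.map_ofPt i e.hom w).symm⟩
  exact (MorphismProperty.cancel_right_of_respectsIso (RepWith @IsOpenImmersion) i e.hom).2 hi

/-- restriction to an open subfunctor. -/
theorem SchAt.restrict {Y X : Sp S} (j : Y ⟶ X) (hj : RepWith @IsOpenImmersion j)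
    {y : Points Y} (h : SchAt X (Points.map j y)) : SchAt Y y := by
  obtain ⟨W, i, hi, w, hw⟩ := h
  obtain ⟨W', snd, fst, sq⟩ := hj.rep i
  haveI : IsOpenImmersion snd.left := hj.property i fst snd sq
  -- `fst : h_{W'} ⟶ Y` is the base change of `i`
  have hfst : RepWith @IsOpenImmersion fst :=
    MorphismProperty.of_isPullback (P := RepWith @IsOpenImmersion) sq.flip hi
  refine ⟨W', fst, hfst, ?_⟩
  have e : Points.map j y = Points.map i (Points.ofScheme W w) := by
    rw [← hw, Points.ofPt_eq_map_ofScheme]
  obtain ⟨p, hp1, hp2⟩ := Groth.Agent.S10175.exists_point_of_isPullback sq y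
    (Points.ofScheme W w) e
  obtain ⟨w', rfl⟩ := (Points.schemeHomeo W').surjective p
  refine ⟨w', ?_⟩
  rw [Points.ofPt_eq_map_ofScheme]
  exact hp1

/-- **Zariski gluing, pointwise form**: a sheaf with a surjective chart all of whose points have
an open scheme neighbourhood is representable. -/
theorem exists_iso_yon_of_schAt {X : Sp S} {U : Over S} (p : (yon S).obj U ⟶ X)
    (hs : RepWith @Surjective p) (h : ∀ u : ↥U.left, SchAt X (Points.ofPt p u)) :
    ∃ (W : Over S), Nonempty ((yon S).obj W ≅ X) := by
  choose W i hi hmem using h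
  have hjs : Groth.Agent.Lib.Helper12.ZarGlue.JointlySurjective hi := by
    intro T g t
    obtain ⟨u, hu⟩ := Groth.Agent.S10177.surjective_ofPt p hs (Points.ofPt g t)
    obtain ⟨w, hw⟩ := hmem u
    obtain ⟨y, -, hy⟩ := Groth.Agent.S10176.exists_point_of_isPullback_yon
      ((hi u).rep.isPullback' g) w t (hw.trans hu)
    exact ⟨u, y, hy⟩
  obtain ⟨W₀, e, -, -, -⟩ := Groth.Agent.Lib.Helper12.ZarGlue.exists_iso hi hjs
  exact ⟨W₀, ⟨e⟩⟩

section Image

open Groth.Agent.Lib.Helper12

variable {X : Sp S} {N : Over S} (c : (yon S).obj N ⟶ X)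

/-- the image of a chart, as a subfunctor of `X` (open when the chart is etale). -/
noncomputable def img : Sp S := OpenSub.obj X (Set.range (Points.ofPt c))

/-- the inclusion of the image. -/
noncomputable def imgι : img c ⟶ X := OpenSub.incl X (Set.range (Points.ofPt c))

instance : Mono (imgι c) := by unfold imgι; infer_instance

/-- the chart factors through its image. -/
noncomputable def toImg : (yon S).obj N ⟶ img c :=
  ((OpenSub.factor_iff (Set.range (Points.ofPt c)) c).2 (fun t => ⟨t, rfl⟩)).choose

@[reassoc (attr := simp)]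
lemma toImg_ι : toImg c ≫ imgι c = c :=
  ((OpenSub.factor_iff (Set.range (Points.ofPt c)) c).2 (fun t => ⟨t, rfl⟩)).choose_spec

lemma range_map_imgι : Set.range (Points.map (imgι c)) = Set.range (Points.ofPt c) :=
  OpenSub.range_map_incl _

variable {c} (hc : RepWith @Etale c)

include hc in
lemma repWith_imgι : RepWith @IsOpenImmersion (imgι c) :=
  OpenSub.repWith_incl (Groth.Agent.S10176.isOpenMap_ofPt c hc).isOpen_range

include hc in
lemma repWith_etale_toImg : RepWith @Etale (toImg c) := by
  have sq := LargestOpen.isPullback_id_of_mono (toImg c) (imgι c)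
  rw [toImg_ι] at sq
  exact MorphismProperty.of_isPullback (P := RepWith @Etale) sq hc

include hc in
lemma surjective_map_toImg : Function.Surjective (Points.map (toImg c)) := by
  intro z
  have hz : Points.map (imgι c) z ∈ Set.range (Points.ofPt c) := by
    rw [← range_map_imgι]; exact ⟨z, rfl⟩
  obtain ⟨n, hn⟩ := hz
  refine ⟨Points.ofScheme N n, ?_⟩
  apply LargestOpen.injective_map_of_open _ (repWith_imgι hc)
  rw [← Points.map_comp, toImg_ι, ← hn, Points.ofPt_eq_map_ofScheme]

include hc in
lemma repWith_surjective_toImg : RepWith @Surjective (toImg c) :=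
  Groth.Agent.S9906.repWith_surjective_of_surjective_map _ (repWith_etale_toImg hc).rep
    (surjective_map_toImg hc)

end Image

end Groth.Agent.R2.H59.QPts
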