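import Mathlib
import Groth.Agent.R2.H59QPts
import Groth.Agent.R2.H59QSpec
import Groth.Agent.R2.H59SLQF
import Groth.Agent.R2.H44LimIso
import Groth.Agent.Lib.Helper12Proper
import Groth.Agent.S9874

/-!
# PROJ:thmQ, descent step (helper59)

`X ⟶ h_T` separated and locally quasi-finite, `g : T' ⟶ T` etale, `X' = X ×_T T'`.  If `c : h_N ⟶ X`
is an etale chart and the base change to `T'` of the image `U` of `c` is a scheme, then `U` is a
scheme (`exists_iso_yon_img`).
-/

set_option autoImplicit false
set_option backward.isDefEq.respectTransparency false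
set_option linter.style.haveILetI false
set_option linter.unusedSectionVars false

universe u

open CategoryTheory CategoryTheory.Limits AlgebraicGeometry Opposite

namespace Groth.Agent.R2.H59.QDesc

open AlgSp Groth.Agent.S13210 Groth.Agent.R2.H59.QPts Groth.Agent.R2.H59.QSpec
open Groth.Agent.Lib.Helper12

variable {S : Scheme.{u}}

/-- the property "locally quasi-finite and locally of finite type". -/
abbrev lqf : MorphismProperty Scheme.{u} := @LocallyQuasiFinite ⊓ @LocallyOfFiniteType

lemma isPullback_of_comp_mono {C : Type*} [Category C] {P A B Y Y' : C} {fst : P ⟶ A}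
    {snd : P ⟶ B} {f : A ⟶ Y} {g : B ⟶ Y} (m : Y ⟶ Y') [Mono m]
    (h : IsPullback fst snd (f ≫ m) (g ≫ m)) : IsPullback fst snd f g := by
  have w : fst ≫ f = snd ≫ g := by
    rw [← cancel_mono m, Category.assoc, Category.assoc, h.w]
  refine IsPullback.of_isLimit' ⟨w⟩ (PullbackCone.IsLimit.mk _
    (fun s => h.lift s.fst s.snd (by rw [← Category.assoc, s.condition, Category.assoc]))
    (fun s => h.lift_fst _ _ _) (fun s => h.lift_snd _ _ _)
    (fun s m' h1 h2 => h.hom_ext (by rw [h1, h.lift_fst]) (by rw [h2, h.lift_snd])))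

/-- the base change of an etale `h_g` is etale. -/
lemma repWith_etale_of_isPullback {T' T : Over S} (g : T' ⟶ T) (hge : Etale g.left)
    {X X' : Sp S} {f : X ⟶ (yon S).obj T} {pr : X' ⟶ X} {f' : X' ⟶ (yon S).obj T'}
    (sq : IsPullback pr f' f ((yon S).map g)) : RepWith @Etale pr :=
  MorphismProperty.of_isPullback (P := RepWith @Etale) sq.flip
    ((repWith_yon_map_iff @Etale g).2 hge)

/-- `LocP P` is stable under etale base change of the target scheme. -/
lemma locP_of_isPullback_etale (P : MorphismProperty Scheme.{u}) {T' T : Over S} (g : T' ⟶ T)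
    (hge : Etale g.left)
    {X X' : Sp S} {f : X ⟶ (yon S).obj T} {pr : X' ⟶ X} {f' : X' ⟶ (yon S).obj T'}
    (sq : IsPullback pr f' f ((yon S).map g)) (hf : LocP P f) : LocP P f' := by
  intro A B a b h ha hb comm
  refine hf (a ≫ pr) (b ≫ (yon S).map g) h
    (repWith_etale_comp ha (repWith_etale_of_isPullback g hge sq))
    (repWith_etale_comp hb ((repWith_yon_map_iff @Etale g).2 hge)) ?_
  rw [Category.assoc, sq.w, ← Category.assoc, comm, Category.assoc]

/-- a scheme openly immersed in `X'`, with `X' ⟶ h_{T'}` separated and locally quasi-finite, is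
separated and locally quasi-finite over `T'`. -/
lemma props_of_openImm {T' W' : Over S} {X' : Sp S} (f' : X' ⟶ (yon S).obj T')
    (hsep : IsSeparatedMor f') (hqf : LocP lqf f') (e : (yon S).obj W' ⟶ X')
    (he : RepWith @IsOpenImmersion e) (w : W' ⟶ T') (hw : e ≫ f' = (yon S).map w) :
    IsSeparated w.left ∧ LocallyQuasiFinite w.left ∧ LocallyOfFiniteType w.left := by
  haveI : Mono e := LargestOpen.mono_of_open e he
  have h1 : IsSeparatedMor ((yon S).map w) := by
    rw [← hw]
    exact Proper.isSeparatedMor_comp e f' (Proper.isSeparatedMor_of_mono e) hsep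
  have h2 : lqf w.left :=
    hqf e (𝟙 _) w (repWith_etale_of_openImm he) (repWith_id _ T') (by rw [hw, Category.comp_id])
  exact ⟨(isSeparatedMor_yon_map_iff w).1 h1, h2.1, h2.2⟩

/-- **Descent step.**  If the base change to `T'` of the image `U` of an etale chart `c = i ≫ pr`
is a scheme, then `U` is a scheme. -/
theorem exists_iso_yon_img {T' T : Over S} (g : T' ⟶ T) (hge : Etale g.left)
    {X X' : Sp S} (f : X ⟶ (yon S).obj T) (hsep : IsSeparatedMor f) (hqf : LocP lqf f)
    (pr : X' ⟶ X) (f' : X' ⟶ (yon S).obj T') (sq : IsPullback pr f' f ((yon S).map g))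
    {N : Over S} (i : (yon S).obj N ⟶ X') (hc : RepWith @Etale (i ≫ pr))
    {W' : Over S} (e : (yon S).obj W' ≅ pullback (imgι (i ≫ pr)) pr) :
    ∃ (W : Over S), Nonempty ((yon S).obj W ≅ img (i ≫ pr)) := by
  set c := i ≫ pr with hcdef
  have hιU := repWith_imgι hc
  have hgy : RepWith @Etale ((yon S).map g) := (repWith_yon_map_iff @Etale g).2 hge
  have hY := repWith_imgι hgy
  -- the cover `b : h_{T'} ⟶ Y`
  haveI : Sheaf.IsLocallySurjective (toImg ((yon S).map g)) :=
    Groth.Agent.R2.H44.LimIso.isLocallySurjective_of_etale_surjective _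
      (repWith_etale_toImg hgy) (repWith_surjective_toImg hgy)
  obtain ⟨σ, hσ⟩ := (yon S).map_surjective (i ≫ f')
  -- `U ⟶ h_T` factors through `Y`
  obtain ⟨a, ha⟩ : ∃ a : img c ⟶ img ((yon S).map g),
      a ≫ imgι ((yon S).map g) = imgι c ≫ f := by
    refine (Groth.Agent.S10194.exists_factor_iff _ hY _).2 ?_
    rintro _ ⟨z, rfl⟩
    have hz : Points.map (imgι c) z ∈ Set.range (Points.ofPt c) := by
      rw [← range_map_imgι]; exact ⟨z, rfl⟩
    obtain ⟨n, hn⟩ := hz
    rw [range_map_imgι]
    refine ⟨σ.left n, ?_⟩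
    rw [Points.map_comp, ← hn, Points.map_ofPt, hcdef, Category.assoc, sq.w, ← Category.assoc,
      ← hσ, Groth.Agent.S10176.ofPt_map_comp]
  -- the pullback square over `Y`
  have sq' : IsPullback (pullback.fst (imgι c) pr) (pullback.snd (imgι c) pr ≫ f') a
      (toImg ((yon S).map g)) := by
    apply isPullback_of_comp_mono (imgι ((yon S).map g))
    rw [ha, toImg_ι]
    exact ((IsPullback.of_hasPullback (imgι c) pr).flip.paste_horiz sq.flip).flip
  -- properties of the base change
  have hsep' : IsSeparatedMor f' := Proper.isSeparatedMor_baseChange sq hsep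
  have hqf' : LocP lqf f' := locP_of_isPullback_etale lqf g hge sq hqf
  have hj' : RepWith @IsOpenImmersion (pullback.snd (imgι c) pr) :=
    MorphismProperty.of_isPullback (P := RepWith @IsOpenImmersion)
      (IsPullback.of_hasPullback (imgι c) pr) hιU
  have he : RepWith @IsOpenImmersion (e.hom ≫ pullback.snd (imgι c) pr) :=
    (MorphismProperty.cancel_left_of_respectsIso (RepWith @IsOpenImmersion) e.hom _).2 hj'
  obtain ⟨w, hw⟩ := (yon S).map_surjective ((e.hom ≫ pullback.snd (imgι c) pr) ≫ f')
  obtain ⟨hw1, hw2, hw3⟩ := props_of_openImm f' hsep' hqf' _ he w hw.symm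
  have ha' : pullback.snd (imgι c) pr ≫ f' = e.inv ≫ (yon S).map w := by
    rw [hw, Category.assoc, Iso.inv_hom_id_assoc]
  have h₁ : RepWith @IsSeparated (pullback.snd (imgι c) pr ≫ f') := by
    rw [ha']
    exact (MorphismProperty.cancel_left_of_respectsIso (RepWith @IsSeparated) e.inv _).2
      ((repWith_yon_map_iff @IsSeparated w).2 hw1)
  have h₂ : RepWith @LocallyQuasiFinite (pullback.snd (imgι c) pr ≫ f') := by
    rw [ha']
    exact (MorphismProperty.cancel_left_of_respectsIso (RepWith @LocallyQuasiFinite) e.inv _).2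
      ((repWith_yon_map_iff @LocallyQuasiFinite w).2 hw2)
  have h₃ : RepWith @LocallyOfFiniteType (pullback.snd (imgι c) pr ≫ f') := by
    rw [ha']
    exact (MorphismProperty.cancel_left_of_respectsIso (RepWith @LocallyOfFiniteType) e.inv _).2
      ((repWith_yon_map_iff @LocallyOfFiniteType w).2 hw3)
  have hrep : Representable a :=
    Groth.Agent.R2.H59.SLQF.representable_of_locallySurjective a (toImg ((yon S).map g)) _ _ sq'
      h₁ h₂ h₃
  -- `Y` is a scheme
  obtain ⟨T₁, snd₁, fst₁, sq₁⟩ := hY.rep (𝟙 ((yon S).obj T))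
  haveI : IsIso fst₁ := sq₁.isIso_fst_of_isIso
  obtain ⟨W, snd, fst, sqW⟩ := hrep fst₁
  haveI : IsIso fst := sqW.isIso_fst_of_isIso
  exact ⟨W, ⟨asIso fst⟩⟩

end Groth.Agent.R2.H59.QDesc
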