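import Mathlib
import Groth.Agent.R2.H59QDesc

/-!
# PROJ:thmQ, Lemma A (helper59): induction on the number of points in the fibres of `T' ⟶ T`

`X ⟶ h_T` separated and locally quasi-finite, `g : T' ⟶ T` etale separated with boundedly many
points in its fibres, `X' = X ×_T T'`.  If a point `x'` of `X'` has an open scheme neighbourhood, so
does its image in `X`.
-/

set_option autoImplicit false
set_option backward.isDefEq.respectTransparency false
set_option linter.style.haveILetI false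
set_option linter.unusedSectionVars false

universe u

open CategoryTheory CategoryTheory.Limits AlgebraicGeometry Opposite

namespace Groth.Agent.R2.H59.QLemmaA

open AlgSp Groth.Agent.S13210 Groth.Agent.R2.H59.QPts Groth.Agent.R2.H59.QSpec
open Groth.Agent.R2.H59.QDesc Groth.Agent.Lib.Helper12

variable {S : Scheme.{u}}

/-- the inductive statement. -/
def StmtA (S : Scheme.{u}) (d : ℕ) : Prop :=
  ∀ {T' T : Over S} (g : T' ⟶ T), Etale g.left → IsSeparated g.left → BddFib d g.left →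
  ∀ {X X' : Sp S} (f : X ⟶ (yon S).obj T), IsSeparatedMor f → LocP lqf f →
  ∀ (pr : X' ⟶ X) (f' : X' ⟶ (yon S).obj T'), IsPullback pr f' f ((yon S).map g) →
  ∀ x' : Points X', SchAt X' x' → SchAt X (Points.map pr x')

theorem stmtA_zero (hE : EmptyStmt.{u}) : StmtA S 0 := by
  intro T' T g _ _ hb X X' f _ _ pr f' _ x' _
  haveI := hE g.left hb
  exact (IsEmpty.false ((Points.schemeHomeo T').symm (Points.map f' x'))).elim

section Step

variable {T' T : Over S} (g : T' ⟶ T) {X X' : Sp S} (f : X ⟶ (yon S).obj T)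
  (pr : X' ⟶ X) (f' : X' ⟶ (yon S).obj T') (sq : IsPullback pr f' f ((yon S).map g))
  {N : Over S} (i : (yon S).obj N ⟶ X') (σ : N ⟶ T') (hσ : (yon S).map σ = i ≫ f')

/-- the chart `h_{N ×_T T'} ⟶ X'`. -/
noncomputable def chartX' : (yon S).obj (pullback (σ ≫ g) g) ⟶ X' :=
  sq.lift ((yon S).map (pullback.fst (σ ≫ g) g) ≫ i ≫ pr) ((yon S).map (pullback.snd (σ ≫ g) g))
    (by
      rw [Category.assoc, Category.assoc, sq.w, ← Category.assoc i, ← hσ, ← Functor.map_comp,
        ← Functor.map_comp, ← Functor.map_comp, pullback.condition])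

@[reassoc (attr := simp)]
lemma chartX'_pr : chartX' g f pr f' sq i σ hσ ≫ pr =
    (yon S).map (pullback.fst (σ ≫ g) g) ≫ i ≫ pr := sq.lift_fst _ _ _

@[reassoc (attr := simp)]
lemma chartX'_f' : chartX' g f pr f' sq i σ hσ ≫ f' =
    (yon S).map (pullback.snd (σ ≫ g) g) := sq.lift_snd _ _ _

/-- the chart `h_{N ×_T T'} ⟶ U' = U ×_X X'` where `U` is the image of `N` in `X`. -/
noncomputable def chartU' :
    (yon S).obj (pullback (σ ≫ g) g) ⟶ pullback (imgι (i ≫ pr)) pr :=
  pullback.lift ((yon S).map (pullback.fst (σ ≫ g) g) ≫ toImg (i ≫ pr))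
    (chartX' g f pr f' sq i σ hσ) (by rw [Category.assoc, toImg_ι, chartX'_pr])

@[reassoc (attr := simp)]
lemma chartU'_fst : chartU' g f pr f' sq i σ hσ ≫ pullback.fst (imgι (i ≫ pr)) pr =
    (yon S).map (pullback.fst (σ ≫ g) g) ≫ toImg (i ≫ pr) := pullback.lift_fst _ _ _

@[reassoc (attr := simp)]
lemma chartU'_snd : chartU' g f pr f' sq i σ hσ ≫ pullback.snd (imgι (i ≫ pr)) pr =
    chartX' g f pr f' sq i σ hσ := pullback.lift_snd _ _ _

lemma isPullback_chartU' :
    IsPullback (chartU' g f pr f' sq i σ hσ) ((yon S).map (pullback.fst (σ ≫ g) g))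
      (pullback.fst (imgι (i ≫ pr)) pr) (toImg (i ≫ pr)) := by
  have s : IsPullback (pullback.snd (imgι (i ≫ pr)) pr ≫ f') (pullback.fst (imgι (i ≫ pr)) pr)
      ((yon S).map g) (imgι (i ≫ pr) ≫ f) :=
    (IsPullback.of_hasPullback (imgι (i ≫ pr)) pr).flip.paste_horiz sq.flip
  refine IsPullback.of_right ?_ (chartU'_fst g f pr f' sq i σ hσ) s
  have h1 : chartU' g f pr f' sq i σ hσ ≫ pullback.snd (imgι (i ≫ pr)) pr ≫ f' =
      (yon S).map (pullback.snd (σ ≫ g) g) := by
    rw [chartU'_snd_assoc, chartX'_f']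
  have h2 : toImg (i ≫ pr) ≫ imgι (i ≫ pr) ≫ f = (yon S).map (σ ≫ g) := by
    rw [toImg_ι_assoc, Category.assoc, sq.w, ← Category.assoc, ← hσ, Functor.map_comp]
  rw [h1, h2]
  exact ((IsPullback.of_hasPullback (σ ≫ g) g).map (yon S)).flip

section Level2

variable {D : Over S} (d₁ d₂ : D ⟶ T') (hd : d₁ ≫ g = d₂ ≫ g)

/-- the second projection `X ×_T D ⟶ X'` (over `d₂`), where `X ×_T D` is realised as
`X' ×_{T', d₁} D`. -/
noncomputable def pr₂ : pullback f' ((yon S).map d₁) ⟶ X' :=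
  sq.lift (pullback.fst f' ((yon S).map d₁) ≫ pr)
    (pullback.snd f' ((yon S).map d₁) ≫ (yon S).map d₂) (by
      rw [Category.assoc, Category.assoc, sq.w, ← Functor.map_comp, ← hd, Functor.map_comp,
        pullback.condition_assoc])

@[reassoc (attr := simp)]
lemma pr₂_pr : pr₂ g f pr f' sq d₁ d₂ hd ≫ pr = pullback.fst f' ((yon S).map d₁) ≫ pr :=
  sq.lift_fst _ _ _

@[reassoc (attr := simp)]
lemma pr₂_f' : pr₂ g f pr f' sq d₁ d₂ hd ≫ f' =
    pullback.snd f' ((yon S).map d₁) ≫ (yon S).map d₂ := sq.lift_snd _ _ _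

lemma isPullback_pr₂ : IsPullback (pr₂ g f pr f' sq d₁ d₂ hd) (pullback.snd f' ((yon S).map d₁))
    f' ((yon S).map d₂) := by
  refine IsPullback.of_right ?_ (pr₂_f' g f pr f' sq d₁ d₂ hd) sq
  rw [pr₂_pr, ← Functor.map_comp, ← hd, Functor.map_comp]
  exact (IsPullback.of_hasPullback f' ((yon S).map d₁)).paste_horiz sq

/-- the open subscheme `N ×_{T', d₂} D` of `X ×_T D`. -/
noncomputable def i₂ : (yon S).obj (pullback σ d₂) ⟶ pullback f' ((yon S).map d₁) :=
  (isPullback_pr₂ g f pr f' sq d₁ d₂ hd).lift ((yon S).map (pullback.fst σ d₂) ≫ i)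
    ((yon S).map (pullback.snd σ d₂)) (by
      rw [Category.assoc, ← hσ, ← Functor.map_comp, ← Functor.map_comp, pullback.condition])

@[reassoc (attr := simp)]
lemma i₂_pr₂ : i₂ g f pr f' sq i σ hσ d₁ d₂ hd ≫ pr₂ g f pr f' sq d₁ d₂ hd =
    (yon S).map (pullback.fst σ d₂) ≫ i := (isPullback_pr₂ g f pr f' sq d₁ d₂ hd).lift_fst _ _ _

@[reassoc (attr := simp)]
lemma i₂_snd : i₂ g f pr f' sq i σ hσ d₁ d₂ hd ≫ pullback.snd f' ((yon S).map d₁) =
    (yon S).map (pullback.snd σ d₂) := (isPullback_pr₂ g f pr f' sq d₁ d₂ hd).lift_snd _ _ _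

lemma isPullback_i₂ : IsPullback (i₂ g f pr f' sq i σ hσ d₁ d₂ hd)
    ((yon S).map (pullback.fst σ d₂)) (pr₂ g f pr f' sq d₁ d₂ hd) i := by
  refine IsPullback.of_right ?_ (i₂_pr₂ g f pr f' sq i σ hσ d₁ d₂ hd)
    (isPullback_pr₂ g f pr f' sq d₁ d₂ hd).flip
  rw [i₂_snd, ← hσ]
  exact ((IsPullback.of_hasPullback σ d₂).map (yon S)).flip

lemma repWith_i₂ (hi : RepWith @IsOpenImmersion i) :
    RepWith @IsOpenImmersion (i₂ g f pr f' sq i σ hσ d₁ d₂ hd) :=
  MorphismProperty.of_isPullback (P := RepWith @IsOpenImmersion)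
    (isPullback_i₂ g f pr f' sq i σ hσ d₁ d₂ hd).flip hi

/-- the map `N ×_{T', d₂} D ⟶ N ×_T T'`. -/
noncomputable def mD : pullback σ d₂ ⟶ pullback (σ ≫ g) g :=
  pullback.lift (pullback.fst σ d₂) (pullback.snd σ d₂ ≫ d₁) (by
    rw [← Category.assoc, pullback.condition, Category.assoc, Category.assoc, hd])

lemma i₂_fst : i₂ g f pr f' sq i σ hσ d₁ d₂ hd ≫ pullback.fst f' ((yon S).map d₁) =
    (yon S).map (mD g σ d₁ d₂ hd) ≫ chartX' g f pr f' sq i σ hσ := by
  apply sq.hom_ext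
  · rw [Category.assoc, ← pr₂_pr g f pr f' sq d₁ d₂ hd, i₂_pr₂_assoc, Category.assoc, chartX'_pr,
      ← Functor.map_comp_assoc]
    unfold mD
    rw [pullback.lift_fst]
  · rw [Category.assoc, pullback.condition, i₂_snd_assoc, Category.assoc, chartX'_f',
      ← Functor.map_comp, ← Functor.map_comp]
    unfold mD
    rw [pullback.lift_snd]

end Level2

end Step

theorem stmtA_succ (hO : OffDiagStmt.{u}) (d : ℕ) (ih : StmtA S d) : StmtA S (d + 1) := by
  intro T' T g hge hgs hb X X' f hsep hqf pr f' sq x' hx'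
  obtain ⟨N, i, hi, n, rfl⟩ := hx'
  haveI := hge
  haveI := hgs
  obtain ⟨D₀, d₁₀, d₂₀, hd₀, hd₁e, hd₁s, hd₁b, hcov⟩ := hO g.left d hb
  -- objects over `S`
  let D : Over S := Over.mk (d₁₀ ≫ T'.hom)
  let d₁ : D ⟶ T' := Over.homMk d₁₀ rfl
  have hw₂ : d₂₀ ≫ T'.hom = d₁₀ ≫ T'.hom := by
    rw [← Over.w g, ← Category.assoc, ← Category.assoc, hd₀]
  let d₂ : D ⟶ T' := Over.homMk d₂₀ hw₂
  have hd : d₁ ≫ g = d₂ ≫ g := by
    apply Over.OverMorphism.ext
    exact hd₀
  obtain ⟨σ, hσ⟩ := (yon S).map_surjective (i ≫ f')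
  have hpr : RepWith @Etale pr := repWith_etale_of_isPullback g hge sq
  have hc : RepWith @Etale (i ≫ pr) := repWith_etale_comp (repWith_etale_of_openImm hi) hpr
  have hj' : RepWith @IsOpenImmersion (pullback.snd (imgι (i ≫ pr)) pr) :=
    MorphismProperty.of_isPullback (P := RepWith @IsOpenImmersion)
      (IsPullback.of_hasPullback (imgι (i ≫ pr)) pr) (repWith_imgι hc)
  haveI : Mono (pullback.snd (imgι (i ≫ pr)) pr) := LargestOpen.mono_of_open _ hj'
  have hsep' : IsSeparatedMor f' := Proper.isSeparatedMor_baseChange sq hsep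
  have hqf' : LocP lqf f' := locP_of_isPullback_etale lqf g hge sq hqf
  -- the base change of the image is a scheme
  have hU' : ∃ W' : Over S, Nonempty ((yon S).obj W' ≅ pullback (imgι (i ≫ pr)) pr) := by
    have hsqP := isPullback_chartU' g f pr f' sq i σ hσ
    have hsurj : RepWith @Surjective (chartU' g f pr f' sq i σ hσ) :=
      MorphismProperty.of_isPullback (P := RepWith @Surjective) hsqP.flip
        (repWith_surjective_toImg hc)
    refine exists_iso_yon_of_schAt (chartU' g f pr f' sq i σ hσ) hsurj (fun p => ?_)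
    have hP : IsPullback (pullback.fst (σ ≫ g) g).left (pullback.snd (σ ≫ g) g).left
        (σ.left ≫ g.left) g.left :=
      (IsPullback.of_hasPullback (σ ≫ g) g).map (Over.forget S)
    have hN' : IsPullback (pullback.fst σ d₂).left (pullback.snd σ d₂).left σ.left d₂₀ :=
      (IsPullback.of_hasPullback σ d₂).map (Over.forget S)
    let sec : N ⟶ pullback (σ ≫ g) g := pullback.lift (𝟙 N) σ (by simp)
    have hsec1 : sec ≫ pullback.fst (σ ≫ g) g = 𝟙 N := pullback.lift_fst _ _ _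
    have hsec2 : sec ≫ pullback.snd (σ ≫ g) g = σ := pullback.lift_snd _ _ _
    have hm1 : mD g σ d₁ d₂ hd ≫ pullback.fst (σ ≫ g) g = pullback.fst σ d₂ :=
      pullback.lift_fst _ _ _
    have hm2 : mD g σ d₁ d₂ hd ≫ pullback.snd (σ ≫ g) g = pullback.snd σ d₂ ≫ d₁ :=
      pullback.lift_snd _ _ _
    rcases hcov σ.left _ _ _ _ hP hN' sec.left (mD g σ d₁ d₂ hd).left
      (congrArg (fun k => k.left) hsec1) (congrArg (fun k => k.left) hsec2)
      (congrArg (fun k => k.left) hm1) (congrArg (fun k => k.left) hm2) p with ⟨n₂, rfl⟩ | ⟨q, rfl⟩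
    · -- the diagonal part: the point lies in `N`
      rw [← Groth.Agent.S10176.ofPt_map_comp]
      have hk : ((yon S).map sec ≫ chartU' g f pr f' sq i σ hσ) ≫
          pullback.snd (imgι (i ≫ pr)) pr = i := by
        rw [Category.assoc, chartU'_snd]
        apply sq.hom_ext
        · rw [Category.assoc, chartX'_pr, ← Functor.map_comp_assoc, hsec1, (yon S).map_id,
            Category.id_comp]
        · rw [Category.assoc, chartX'_f', ← Functor.map_comp, hsec2, hσ]
      have sqk := LargestOpen.isPullback_id_of_mono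
        ((yon S).map sec ≫ chartU' g f pr f' sq i σ hσ) (pullback.snd (imgι (i ≫ pr)) pr)
      rw [hk] at sqk
      exact ⟨N, _, MorphismProperty.of_isPullback (P := RepWith @IsOpenImmersion) sqk hi,
        n₂, rfl⟩
    · -- the off-diagonal part: induction hypothesis
      rw [← Groth.Agent.S10176.ofPt_map_comp]
      apply SchAt.restrict _ hj'
      rw [Points.map_ofPt, Category.assoc, chartU'_snd, ← i₂_fst g f pr f' sq i σ hσ d₁ d₂ hd,
        ← Points.map_ofPt]
      exact ih d₁ hd₁e hd₁s hd₁b f' hsep' hqf' _ _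
        (IsPullback.of_hasPullback f' ((yon S).map d₁)) _
        ⟨_, _, repWith_i₂ g f pr f' sq i σ hσ d₁ d₂ hd hi, q, rfl⟩
  obtain ⟨W', ⟨e⟩⟩ := hU'
  obtain ⟨W, ⟨e₀⟩⟩ := exists_iso_yon_img g hge f hsep hqf pr f' sq i hc e
  refine ⟨W, e₀.hom ≫ imgι (i ≫ pr), ?_, ?_⟩
  · exact (MorphismProperty.cancel_left_of_respectsIso (RepWith @IsOpenImmersion) e₀.hom _).2
      (repWith_imgι hc)
  · obtain ⟨w, hw⟩ := (Points.schemeHomeo W).surjective
      (Points.map e₀.inv (Points.ofPt (toImg (i ≫ pr)) n))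
    refine ⟨w, ?_⟩
    rw [Points.ofPt_eq_map_ofScheme, Points.map_comp]
    have hw' : Points.ofScheme W w = Points.map e₀.inv (Points.ofPt (toImg (i ≫ pr)) n) := hw
    rw [hw', ← Points.map_comp e₀.inv e₀.hom, Iso.inv_hom_id, Points.map_ofPt, Category.comp_id,
      Points.map_ofPt, toImg_ι, Points.map_ofPt]

theorem stmtA (hE : EmptyStmt.{u}) (hO : OffDiagStmt.{u}) : ∀ d, StmtA S d
  | 0 => stmtA_zero hE
  | d + 1 => stmtA_succ hO d (stmtA hE hO d)

end Groth.Agent.R2.H59.QLemmaA
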