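import Mathlib
import Groth.Agent.R2.H59QLemmaA
import Groth.Agent.R2.H59EtSheaf
import Groth.Agent.R2.H25DecentMor
import Groth.Agent.R2.H45BCChart
import Groth.Agent.S9984

/-!
# PROJ:thmQ, local existence and Theorem Q (helper59)

`X` an algebraic space, `f : X ⟶ h_T` separated and locally quasi-finite.  For a point `u` of an
etale chart `U` of `X`, etale localisation gives an affine etale `T' ⟶ T` and an open `V` of
`U ×_T T'` finite over `T'`; the image of `V` in `X' = X ×_T T'` is the quotient of `V` by a finite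
etale equivalence relation, hence a scheme.  By Lemma A the image of `u` in `X` has an open scheme
neighbourhood, and `X` is a scheme.
-/

set_option autoImplicit false
set_option backward.isDefEq.respectTransparency false
set_option linter.style.haveILetI false
set_option linter.unusedSectionVars false

universe u

open CategoryTheory CategoryTheory.Limits AlgebraicGeometry Opposite

namespace Groth.Agent.R2.H59.QLocal

open AlgSp Groth.Agent.S13210 Groth.Agent.R2.H59.QPts Groth.Agent.R2.H59.QSpec
open Groth.Agent.R2.H59.QDesc Groth.Agent.R2.H59.QLemmaA Groth.Agent.Lib.Helper12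

variable {S : Scheme.{u}}

/-- over a sheaf separated over a scheme `T'`, the fibre product of a scheme finite over `T'` with
any scheme is finite over the latter. -/
theorem isFinite_of_isSeparatedMor {F : Sp S} {T' : Over S} (snd : F ⟶ (yon S).obj T')
    (hsep : IsSeparatedMor snd) {A Z W : Over S} (a : (yon S).obj A ⟶ F) (b : (yon S).obj Z ⟶ F)
    (pr : W ⟶ A) (w : W ⟶ Z) (sq : IsPullback ((yon S).map pr) ((yon S).map w) a b) (α : A ⟶ T')
    (hα : a ≫ snd = (yon S).map α) [IsFinite α.left] : IsFinite w.left := by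
  obtain ⟨β, hβ⟩ := (yon S).map_surjective (b ≫ snd)
  have sq₀ : IsPullback ((yon S).map (pullback.fst α β)) ((yon S).map (pullback.snd α β))
      (a ≫ snd) (b ≫ snd) := by
    rw [hα, ← hβ]
    exact (IsPullback.of_hasPullback α β).map (yon S)
  have hw : pr ≫ α = w ≫ β := by
    apply (yon S).map_injective
    rw [Functor.map_comp, Functor.map_comp, ← hα, hβ, ← Category.assoc, ← Category.assoc, sq.w]
  let m : W ⟶ pullback α β := pullback.lift pr w hw
  have big := Groth.Agent.R2.H25.DecentMor.isPullback_diagonal_of_isPullback snd a b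
    ((yon S).map pr) ((yon S).map w) sq _ _ sq₀ ((yon S).map m)
    (by rw [← Functor.map_comp, pullback.lift_fst]) (by rw [← Functor.map_comp, pullback.lift_snd])
  haveI h1 : IsClosedImmersion m.left := hsep.2 _ _ m big
  have sqL : IsPullback (pullback.fst α β).left (pullback.snd α β).left α.left β.left :=
    (IsPullback.of_hasPullback α β).map (Over.forget S)
  haveI h2 : IsFinite (pullback.snd α β).left :=
    MorphismProperty.of_isPullback (P := @IsFinite) sqL inferInstance
  have h3 : m.left ≫ (pullback.snd α β).left = w.left := by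
    rw [← Over.comp_left, pullback.lift_snd]
  rw [← h3]
  infer_instance

/-- a point in the image of a chart lies in the range of any isomorphic scheme chart. -/
lemma mem_range_ofPt_of_iso {X : Sp S} {N W : Over S} (c : (yon S).obj N ⟶ X)
    (e : (yon S).obj W ≅ img c) (n : ↥N.left) :
    Points.ofPt c n ∈ Set.range (Points.ofPt (e.hom ≫ imgι c)) := by
  obtain ⟨w, hw⟩ := (Points.schemeHomeo W).surjective
    (Points.map e.inv (Points.ofPt (toImg c) n))
  refine ⟨w, ?_⟩
  rw [Points.ofPt_eq_map_ofScheme, Points.map_comp]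
  have hw' : Points.ofScheme W w = Points.map e.inv (Points.ofPt (toImg c) n) := hw
  rw [hw', ← Points.map_comp e.inv e.hom, Iso.inv_hom_id, Points.map_ofPt, Category.comp_id,
    Points.map_ofPt, toImg_ι]

/-- the image of an etale chart from an affine scheme whose kernel pair is finite is a scheme (it
is the quotient by a finite etale equivalence relation). -/
theorem exists_iso_yon_img_of_finite (h3 : FinQuotStmt.{u}) {X' : Sp S} {V : Over S}
    (q : (yon S).obj V ⟶ X') (hq : RepWith @Etale q) {R : Over S} (s t : R ⟶ V)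
    (hk : IsPullback ((yon S).map t) ((yon S).map s) q q) (hV : IsAffine V.left)
    (hR : IsAffine R.left) (hs : IsFinite s.left) (ht : IsFinite t.left) :
    ∃ (M : Over S), Nonempty ((yon S).obj M ≅ img q) := by
  have hE : IsEqvRel s t :=
    Groth.Agent.R2.H59.EtSheaf.isEqvRel_of_isPullback s t q.hom
      (hk.map (sheafToPresheaf (AlgSp.J S) (Type (u + 1))))
  have hset : Etale s.left := hq.property q _ s hk
  have htet : Etale t.left := hq.property q _ t hk.flip
  obtain ⟨M, qM, w, hiso⟩ := h3 S s t hE hV hR hs hset ht htet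
  have hk' : IsPullback ((yon S).map t) ((yon S).map s) (toImg q) (toImg q) := by
    apply isPullback_of_comp_mono (imgι q)
    rw [toImg_ι]
    exact hk
  haveI : Sheaf.IsLocallySurjective (toImg q) :=
    Groth.Agent.R2.H44.LimIso.isLocallySurjective_of_etale_surjective _
      (repWith_etale_toImg hq) (repWith_surjective_toImg hq)
  haveI : Epi (toImg q) := (Sheaf.isLocallySurjective_iff_epi (toImg q)).1 inferInstance
  obtain ⟨e, -⟩ := Groth.Agent.R2.H59.EtSheaf.exists_iso_of_isKernelPair ((yon S).map t)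
    ((yon S).map s) (toImg q) (Groth.Agent.R2.H43.Quot.πy s t) hk'
    (Groth.Agent.R2.H43.Quot.isPullback_πy s t hE)
  haveI := hiso
  exact ⟨M, ⟨(QuotSh.repIsoUliftYoneda Scheme.fppfPrecoverage M).symm ≪≫
    (asIso (QuotSh.quotDesc Scheme.fppfPrecoverage qM w)).symm ≪≫ e.symm⟩⟩

/-- **Local existence**: every point of an etale chart of `X` maps to a point of `X` with an open
scheme neighbourhood. -/
theorem schAt_of_chart (h1 : EtLocStmt.{u}) (h3 : FinQuotStmt.{u}) (hA : ∀ d, StmtA S d)
    {T : Over S} {X : Sp S} (hX : IsAlgSpace X) (f : X ⟶ (yon S).obj T) (hsep : IsSeparatedMor f)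
    (hqf : LocP lqf f) {U : Over S} (p : (yon S).obj U ⟶ X) (hp : RepWith @Etale p) (u : ↥U.left) :
    SchAt X (Points.ofPt p u) := by
  obtain ⟨h, hh⟩ := (yon S).map_surjective (p ≫ f)
  have hlqf : lqf h.left :=
    hqf p (𝟙 _) h hp (repWith_id _ T) (by rw [hh, Category.comp_id])
  haveI : LocallyQuasiFinite h.left := hlqf.1
  haveI : LocallyOfFiniteType h.left := hlqf.2
  obtain ⟨T'₀, g₀, V₀, j₀, v, hT'aff, hge, hgs, ⟨d, hb⟩, hj₀, hfin, hv⟩ :=
    h1 h.left u (h.left.quasiFiniteAt u)
  haveI := hge
  haveI := hj₀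
  -- objects over `S`
  let T' : Over S := Over.mk (g₀ ≫ T.hom)
  let g : T' ⟶ T := Over.homMk g₀ rfl
  let V : Over S := Over.mk ((j₀ ≫ pullback.snd h.left g₀) ≫ T'.hom)
  let ρ : V ⟶ T' := Over.homMk (j₀ ≫ pullback.snd h.left g₀) rfl
  have hκ : (j₀ ≫ pullback.fst h.left g₀) ≫ U.hom = V.hom := by
    show _ = (j₀ ≫ pullback.snd h.left g₀) ≫ g₀ ≫ T.hom
    rw [← Over.w h, Category.assoc, Category.assoc, pullback.condition_assoc]
  let κ : V ⟶ U := Over.homMk (j₀ ≫ pullback.fst h.left g₀) hκ
  have hκρ : κ ≫ h = ρ ≫ g := by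
    apply Over.OverMorphism.ext
    show (j₀ ≫ pullback.fst h.left g₀) ≫ h.left = (j₀ ≫ pullback.snd h.left g₀) ≫ g₀
    rw [Category.assoc, Category.assoc, pullback.condition]
  haveI hκe : Etale κ.left := by
    show Etale (j₀ ≫ pullback.fst h.left g₀)
    infer_instance
  haveI hρf : IsFinite ρ.left := hfin
  -- the base change
  have sq := IsPullback.of_hasPullback f ((yon S).map g)
  have hX' : IsAlgSpace (pullback f ((yon S).map g)) :=
    Groth.Agent.S9874.isAlgSpace_of_isPullback (IsAlgSpace.yon_obj T).diag hX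
      (IsAlgSpace.yon_obj T') sq
  have hpr : RepWith @Etale (pullback.fst f ((yon S).map g)) :=
    repWith_etale_of_isPullback g hge sq
  let q : (yon S).obj V ⟶ pullback f ((yon S).map g) :=
    pullback.lift ((yon S).map κ ≫ p) ((yon S).map ρ) (by
      rw [Category.assoc, ← hh, ← Functor.map_comp, ← Functor.map_comp, hκρ])
  have hq1 : q ≫ pullback.fst f ((yon S).map g) = (yon S).map κ ≫ p := pullback.lift_fst _ _ _
  have hq2 : q ≫ pullback.snd f ((yon S).map g) = (yon S).map ρ := pullback.lift_snd _ _ _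
  have hq : RepWith @Etale q := by
    refine Groth.Agent.R2.H45.BCChart.repWith_etale_cancel hX' q _ hpr ?_
    rw [hq1]
    exact repWith_etale_comp ((repWith_yon_map_iff @Etale κ).2 hκe) hp
  have hsep' : IsSeparatedMor (pullback.snd f ((yon S).map g)) :=
    Proper.isSeparatedMor_baseChange sq hsep
  -- the kernel pair of `q`
  obtain ⟨R, s, fst, hk₀⟩ := hq.rep q
  obtain ⟨t, rfl⟩ := (yon S).map_surjective fst
  haveI hsfin : IsFinite s.left :=
    isFinite_of_isSeparatedMor _ hsep' q q t s hk₀ ρ hq2
  haveI htfin : IsFinite t.left :=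
    isFinite_of_isSeparatedMor _ hsep' q q s t hk₀.flip ρ hq2
  haveI : IsAffine T'.left := hT'aff
  haveI hVaff : IsAffine V.left := isAffine_of_isAffineHom ρ.left
  haveI hRaff : IsAffine R.left := isAffine_of_isAffineHom s.left
  obtain ⟨M, ⟨e⟩⟩ := exists_iso_yon_img_of_finite h3 q hq s t hk₀ hVaff hRaff hsfin htfin
  have hsch : SchAt (pullback f ((yon S).map g)) (Points.ofPt q v) :=
    ⟨M, e.hom ≫ imgι q,
      (MorphismProperty.cancel_left_of_respectsIso (RepWith @IsOpenImmersion) e.hom _).2
        (repWith_imgι hq), mem_range_ofPt_of_iso q e v⟩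
  have := hA d g hge hgs hb f hsep hqf _ _ sq _ hsch
  rw [Points.map_ofPt, hq1, Groth.Agent.S10176.ofPt_map_comp] at this
  have hκv : κ.left v = u := by
    show (j₀ ≫ pullback.fst h.left g₀) v = u
    rw [Scheme.Hom.comp_apply]
    exact hv
  rwa [hκv] at this

/-- **Theorem Q** (conditional on the scheme-level packages): an algebraic space which is
separated and locally quasi-finite over a scheme is a scheme. -/
theorem exists_iso_yon (hE : EmptyStmt.{u}) (hO : OffDiagStmt.{u}) (h1 : EtLocStmt.{u})
    (h3 : FinQuotStmt.{u}) {T : Over S} {X : Sp S} (hX : IsAlgSpace X)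
    (f : X ⟶ (yon S).obj T) (hsep : IsSeparatedMor f) (hqf : LocP lqf f) :
    ∃ (W : Over S), Nonempty ((yon S).obj W ≅ X) := by
  obtain ⟨U, p, hpe, hps⟩ := hX.atlas
  exact exists_iso_yon_of_schAt p hps
    (fun u => schAt_of_chart h1 h3 (stmtA hE hO) hX f hsep hqf p hpe u)

/-- relative form: a separated locally quasi-finite morphism of algebraic spaces is representable. -/
theorem representable_of_lqf_separated (hE : EmptyStmt.{u}) (hO : OffDiagStmt.{u})
    (h1 : EtLocStmt.{u}) (h3 : FinQuotStmt.{u}) {X Y : Sp S} (hX : IsAlgSpace X)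
    (hY : IsAlgSpace Y) (f : X ⟶ Y) (hsep : IsSeparatedMor f) (hqf : LocP lqf f) :
    Representable f := by
  intro Z ξ
  have sq := IsPullback.of_hasPullback f ξ
  have hP : IsAlgSpace (pullback f ξ) :=
    Groth.Agent.S9874.isAlgSpace_of_isPullback hY.diag hX (IsAlgSpace.yon_obj Z) sq
  have hsep' : IsSeparatedMor (pullback.snd f ξ) := Proper.isSeparatedMor_baseChange sq hsep
  have hqf' : LocP lqf (pullback.snd f ξ) := by
    have := Groth.Agent.S9984.result lqf (Or.inr (Or.inr (Or.inr (Or.inr (Or.inr (Or.inl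
      (fun A B g => Iff.rfl))))))) (X := ⟨X, hX⟩) (Y := ⟨Y, hY⟩) (Y' := ⟨_, IsAlgSpace.yon_obj Z⟩)
      (X' := ⟨_, hP⟩) (ObjectProperty.homMk f) (ObjectProperty.homMk ξ)
      (ObjectProperty.homMk (pullback.fst f ξ)) (ObjectProperty.homMk (pullback.snd f ξ)) sq hqf
    exact this
  obtain ⟨W, ⟨e⟩⟩ := exists_iso_yon hE hO h1 h3 hP (pullback.snd f ξ) hsep' hqf'
  obtain ⟨w, hw⟩ := (yon S).map_surjective (e.hom ≫ pullback.snd f ξ)
  refine ⟨W, w, e.hom ≫ pullback.fst f ξ, ?_⟩
  rw [hw]
  exact IsPullback.of_iso sq e.symm (Iso.refl _) (Iso.refl _) (Iso.refl _) (by simp) (by simp)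
    (by simp) (by simp)

end Groth.Agent.R2.H59.QLocal
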