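import Mathlib
import Groth.Agent.R2.H45FinEtQuot
import Groth.Agent.R2.H59QLocal
import Groth.Agent.R2.H14QFinQuot
import Groth.Agent.R2.H33GrpdInvOpen
import Groth.Agent.R2.H45HasAtMor

/-!
# Schematic points of an algebraic space with a finite étale chart (helper45)

* `isPullback_restrict` : the kernel pair of the restriction of a chart to an invariant open.
* `schAt_of_orbit_subset_affine` : if `a : h_U ⟶ X` is étale with finite kernel pair and the orbit
  of `u` lies in an affine open of `U`, then the image of `u` has an open scheme neighbourhood.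
-/

set_option autoImplicit false
set_option linter.style.haveILetI false
universe u
open CategoryTheory CategoryTheory.Limits AlgebraicGeometry Topology TopologicalSpace

namespace Groth.Agent.R2.H45.FinEtQuot

open AlgSp Groth.Agent.R2.H59.QPts Groth.Agent.R2.H59.QLocal Groth.Agent.Lib.Helper12

variable {S : Scheme.{u}}

section Restrict

variable {U R : Over S} (s t : R ⟶ U) (W : U.left.Opens) (hW : s.left ⁻¹ᵁ W = t.left ⁻¹ᵁ W)

/-- the open `W` as a scheme over `S`. -/
noncomputable abbrev Wov : Over S := Over.mk (W.ι ≫ U.hom)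

/-- the preimage of `W` in `R` as a scheme over `S`. -/
noncomputable abbrev Rov : Over S := Over.mk ((s.left ⁻¹ᵁ W).ι ≫ R.hom)

/-- the inclusion of `W`. -/
noncomputable abbrev ιW : Wov W ⟶ U := Over.homMk W.ι rfl

/-- the inclusion of the preimage of `W`. -/
noncomputable abbrev ιR : Rov s W ⟶ R := Over.homMk (s.left ⁻¹ᵁ W).ι rfl

/-- the restricted source map. -/
noncomputable abbrev sW : Rov s W ⟶ Wov W :=
  Over.homMk (s.left.resLE W (s.left ⁻¹ᵁ W) le_rfl) (by
    show s.left.resLE W (s.left ⁻¹ᵁ W) le_rfl ≫ W.ι ≫ U.hom = (s.left ⁻¹ᵁ W).ι ≫ R.hom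
    rw [← Category.assoc, Scheme.Hom.resLE_comp_ι, Category.assoc, Over.w s])

include hW in
/-- the restricted target map. -/
noncomputable abbrev tW : Rov s W ⟶ Wov W :=
  Over.homMk (t.left.resLE W (s.left ⁻¹ᵁ W) hW.le) (by
    show t.left.resLE W (s.left ⁻¹ᵁ W) hW.le ≫ W.ι ≫ U.hom = (s.left ⁻¹ᵁ W).ι ≫ R.hom
    rw [← Category.assoc, Scheme.Hom.resLE_comp_ι, Category.assoc, Over.w t])

lemma isPullback_sW_left :
    IsPullback (ιR s W).left (sW s W).left s.left (ιW W).left := by
  refine (IsOpenImmersion.isPullback (s.left.resLE W (s.left ⁻¹ᵁ W) le_rfl) (s.left ⁻¹ᵁ W).ι W.ι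
    s.left (Scheme.Hom.resLE_comp_ι _ _).symm ?_).flip
  simp

lemma isPullback_tW_left :
    IsPullback (ιR s W).left (tW s t W hW).left t.left (ιW W).left := by
  refine (IsOpenImmersion.isPullback (t.left.resLE W (s.left ⁻¹ᵁ W) hW.le) (s.left ⁻¹ᵁ W).ι W.ι
    t.left (Scheme.Hom.resLE_comp_ι _ _).symm ?_).flip
  simp [hW]

lemma ιR_comp_s : ιR s W ≫ s = sW s W ≫ ιW W := by
  apply Over.OverMorphism.ext
  exact (Scheme.Hom.resLE_comp_ι _ _).symm

lemma ιR_comp_t : ιR s W ≫ t = tW s t W hW ≫ ιW W := by
  apply Over.OverMorphism.ext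
  exact (Scheme.Hom.resLE_comp_ι _ _).symm

instance mono_ιW : Mono (ιW W) := by
  haveI : Mono (ιW W).left := inferInstanceAs (Mono W.ι)
  exact (Over.forget S).mono_of_mono_map (inferInstanceAs (Mono (ιW W).left))

/-- the kernel pair of the restriction of a chart to an invariant open. -/
theorem isPullback_restrict {X : Sp S} (a : (yon S).obj U ⟶ X)
    (sq : IsPullback ((yon S).map t) ((yon S).map s) a a) :
    IsPullback ((yon S).map (tW s t W hW)) ((yon S).map (sW s W)) ((yon S).map (ιW W) ≫ a)
      ((yon S).map (ιW W) ≫ a) := by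
  have hA : IsPullback (ιR s W) (sW s W) s (ιW W) :=
    IsPullback.of_map (Over.forget S) (ιR_comp_s s W) (isPullback_sW_left s W)
  have hA' := hA.map (yon S)
  have hB : IsPullback ((yon S).map (ιR s W) ≫ (yon S).map t) ((yon S).map (sW s W)) a
      ((yon S).map (ιW W) ≫ a) := hA'.paste_horiz sq
  have hC : IsPullback (𝟙 (Rov s W)) (tW s t W hW) (tW s t W hW ≫ ιW W) (ιW W) :=
    LargestOpen.isPullback_id_of_mono (tW s t W hW) (ιW W)
  have hC' : IsPullback ((yon S).map (tW s t W hW)) (𝟙 _) ((yon S).map (ιW W))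
      ((yon S).map (ιR s W) ≫ (yon S).map t) := by
    have := (hC.map (yon S)).flip
    rw [CategoryTheory.Functor.map_id, ← ιR_comp_t s t W hW, CategoryTheory.Functor.map_comp] at this
    exact this
  have hD := hC'.paste_vert hB
  rw [Category.id_comp] at hD
  exact hD

end Restrict

/-- if `a : h_U ⟶ X` is étale with finite kernel pair `R ⇉ U` and the orbit of `u` lies in an affine
open of `U`, then the image of `u` in `X` has an open neighbourhood which is a scheme. -/
theorem schAt_of_orbit_subset_affine {X : Sp S} {U R : Over S} (a : (yon S).obj U ⟶ X)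
    (he : RepWith @Etale a) (s t : R ⟶ U)
    (sq : IsPullback ((yon S).map t) ((yon S).map s) a a) (hsf : IsFinite s.left)
    (htf : IsFinite t.left) (u : ↥U.left) (V : U.left.Opens) (hV : IsAffineOpen V)
    (huV : ∀ r : ↥R.left, s.left r = u → t.left r ∈ V) : SchAt X (Points.ofPt a u) := by
  have hE : IsEqvRel s t :=
    Groth.Agent.R2.H59.EtSheaf.isEqvRel_of_isPullback s t a.hom
      (sq.map (sheafToPresheaf (AlgSp.J S) (Type (u + 1))))
  haveI hset : Etale s.left := he.property a _ s sq
  haveI htet : Etale t.left := he.property a _ t sq.flip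
  let G := Groth.Agent.R2.H14.QFinQuot.ofEqvRel hE
  haveI : IsFinite G.s := hsf
  haveI : Flat G.s := inferInstanceAs (Flat s.left)
  haveI : LocallyOfFinitePresentation G.s := inferInstanceAs (LocallyOfFinitePresentation s.left)
  obtain ⟨W, hWaff, huW, hWinv⟩ :=
    Groth.Agent.R2.H33.GrpdInvOpen.exists_invariant_affine_open G u V hV huV
  have hW : s.left ⁻¹ᵁ W = t.left ⁻¹ᵁ W := hWinv
  set q : (yon S).obj (Wov W) ⟶ X := (yon S).map (ιW W) ≫ a with hqdef
  have hq : RepWith @Etale q :=
    (RepWith @Etale).comp_mem _ _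
      ((repWith_yon_map_iff _ _).2 (inferInstanceAs (Etale W.ι))) he
  have hk := isPullback_restrict s t W hW a sq
  have hWa : IsAffine (Wov W).left := hWaff
  have hsaff : IsAffineHom s.left := by
    haveI := hsf
    infer_instance
  have hRa : IsAffine (Rov s W).left := @IsAffineOpen.preimage _ _ _ hWaff s.left hsaff
  have hsW : IsFinite (sW s W).left :=
    MorphismProperty.of_isPullback (P := @IsFinite) (isPullback_sW_left s W) hsf
  have htW : IsFinite (tW s t W hW).left :=
    MorphismProperty.of_isPullback (P := @IsFinite) (isPullback_tW_left s t W hW) htf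
  obtain ⟨M, ⟨e⟩⟩ := exists_iso_yon_img_of_finite Groth.Agent.R2.H14.QFinQuot.finQuot q hq
    (sW s W) (tW s t W hW) hk hWa hRa hsW htW
  refine ⟨M, e.hom ≫ imgι q, ?_, ?_⟩
  · exact (MorphismProperty.cancel_left_of_respectsIso (RepWith @IsOpenImmersion) e.hom
      (imgι q)).2 (repWith_imgι hq)
  · have h1 : Points.ofPt a u = Points.ofPt q (⟨u, huW⟩ : ↥(W : Scheme.{u})) := by
      rw [hqdef, Groth.Agent.S10176.ofPt_map_comp]
      rfl
    rw [h1]
    exact mem_range_ofPt_of_iso q e _

end Groth.Agent.R2.H45.FinEtQuot
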