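import Mathlib

/-!
# Geometric fibre degree of étale separated morphisms and its lower semicontinuity (helper46)

* `DegGE n g b`: the fibre of `g` over `b` has at least `n` geometric points (recursive definition
  through the complement of the diagonal); `isOpen_setOf_degGE`: lower semicontinuity.
* `HasLifts n g b`: some field-valued point over `b` has `n` robustly distinct lifts;
  `degGE_iff_hasLifts` for `g` étale and separated.
* `exists_isCompact_opens_fibre_subset`: over a quasi-compact set of constant degree the morphism is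
  quasi-compact.
-/

set_option autoImplicit false
set_option linter.style.haveILetI false
universe u
open CategoryTheory CategoryTheory.Limits AlgebraicGeometry Topology TopologicalSpace

namespace Groth.Agent.R2.H46.DegStrat

/-- the open complement of the diagonal of `g` (for `g` separated). -/
noncomputable def offDiag {Q B : Scheme.{u}} (g : Q ⟶ B) : (pullback g g).Opens :=
  ⟨interior (Set.range (pullback.diagonal g))ᶜ, isOpen_interior⟩

/-- the first projection from the complement of the diagonal. -/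
noncomputable def next {Q B : Scheme.{u}} (g : Q ⟶ B) : (↑(offDiag g) : Scheme.{u}) ⟶ Q :=
  (offDiag g).ι ≫ pullback.fst g g

instance {Q B : Scheme.{u}} (g : Q ⟶ B) [Etale g] : Etale (next g) := by
  unfold next; infer_instance

instance {Q B : Scheme.{u}} (g : Q ⟶ B) [IsSeparated g] : IsSeparated (next g) := by
  unfold next; infer_instance

/-- the fibre of `g` over `b` has at least `n` geometric points. -/
def DegGE : ℕ → ∀ {Q B : Scheme.{u}} (_ : Q ⟶ B), ↥B → Prop
  | 0, _, _, _, _ => True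
  | n + 1, Q, _, g, b => ∃ q : ↥Q, g q = b ∧ DegGE n (next g) q

theorem isOpen_setOf_degGE (n : ℕ) : ∀ {Q B : Scheme.{u}} (g : Q ⟶ B) [Etale g],
    IsOpen {b : ↥B | DegGE n g b} := by
  induction n with
  | zero => intro Q B g _; simp [DegGE]
  | succ n ih =>
    intro Q B g _
    have h : {b : ↥B | DegGE (n + 1) g b} = g '' {q : ↥Q | DegGE n (next g) q} := by
      ext b
      simp only [DegGE, Set.mem_ofPred_eq, Set.mem_image]
      constructor
      · rintro ⟨q, hq, h⟩; exact ⟨q, h, hq⟩
      · rintro ⟨q, h, hq⟩; exact ⟨q, hq, h⟩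
    rw [h]
    exact g.isOpenMap _ (ih (next g))

/-- `n` robustly distinct lifts of a field-valued point over `b`. -/
def HasLifts (n : ℕ) {Q B : Scheme.{u}} (g : Q ⟶ B) (b : ↥B) : Prop :=
  ∃ (Ω : Type u) (_ : Field Ω) (β : Spec (CommRingCat.of Ω) ⟶ B)
    (ℓ : Fin n → (Spec (CommRingCat.of Ω) ⟶ Q)),
    β (IsLocalRing.closedPoint Ω) = b ∧ (∀ i, ℓ i ≫ g = β) ∧
      ∀ i j, i ≠ j → ∀ (Ω' : Type u) (_ : Field Ω')
        (r : Spec (CommRingCat.of Ω') ⟶ Spec (CommRingCat.of Ω)), r ≫ ℓ i ≠ r ≫ ℓ j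

lemma offDiag_coe_subset {Q B : Scheme.{u}} (g : Q ⟶ B) :
    ((offDiag g : (pullback g g).Opens) : Set ↥(pullback g g)) ⊆
      (Set.range (pullback.diagonal g))ᶜ := interior_subset

lemma offDiag_coe_eq {Q B : Scheme.{u}} (g : Q ⟶ B) [IsSeparated g] :
    ((offDiag g : (pullback g g).Opens) : Set ↥(pullback g g)) =
      (Set.range (pullback.diagonal g))ᶜ :=
  (pullback.diagonal g).isClosedEmbedding.isClosed_range.isOpen_compl.interior_eq

theorem hasLifts_of_degGE (n : ℕ) : ∀ {Q B : Scheme.{u}} (g : Q ⟶ B) (b : ↥B),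
    DegGE n g b → HasLifts n g b := by
  induction n with
  | zero =>
    intro Q B g b _
    refine ⟨↑(B.residueField b), inferInstance, B.fromSpecResidueField b, fun i => i.elim0, ?_,
      fun i => i.elim0, fun i => i.elim0⟩
    exact Scheme.fromSpecResidueField_apply _ _
  | succ n ih =>
    rintro Q B g b ⟨q, hq, h⟩
    obtain ⟨Ω, _, β, ℓ, hβ, hℓ, hd⟩ := ih (next g) q h
    have hfst : ∀ i, ℓ i ≫ (offDiag g).ι ≫ pullback.fst g g = β := hℓ
    refine ⟨Ω, inferInstance, β ≫ g,
      Fin.cons β (fun i => ℓ i ≫ (offDiag g).ι ≫ pullback.snd g g), ?_, ?_, ?_⟩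
    · change g (β (IsLocalRing.closedPoint Ω)) = b
      rw [hβ, hq]
    · intro i
      cases i using Fin.cases with
      | zero => rfl
      | succ i =>
        rw [Fin.cons_succ, Category.assoc, Category.assoc, ← pullback.condition, ← hfst i,
          Category.assoc, Category.assoc]
    · -- a lift on the diagonal is impossible
      have key : ∀ (j : Fin n) (Ω' : Type u) (_ : Field Ω')
          (r : Spec (CommRingCat.of Ω') ⟶ Spec (CommRingCat.of Ω)),
          r ≫ β ≠ r ≫ ℓ j ≫ (offDiag g).ι ≫ pullback.snd g g := by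
        intro j Ω' _ r heq
        have h1 : r ≫ ℓ j ≫ (offDiag g).ι = (r ≫ β) ≫ pullback.diagonal g := by
          apply pullback.hom_ext
          · rw [Category.assoc, Category.assoc, hfst j, Category.assoc,
              pullback.diagonal_fst, Category.comp_id]
          · rw [Category.assoc, Category.assoc, ← heq, Category.assoc,
              pullback.diagonal_snd, Category.comp_id]
        have h2 := congrArg (fun φ : Spec (CommRingCat.of Ω') ⟶ pullback g g =>
          φ (IsLocalRing.closedPoint Ω')) h1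
        have h3 : ((r ≫ ℓ j) (IsLocalRing.closedPoint Ω')).1 ∈
            (Set.range (pullback.diagonal g))ᶜ :=
          offDiag_coe_subset g ((r ≫ ℓ j) (IsLocalRing.closedPoint Ω')).2
        exact h3 ⟨(r ≫ β) (IsLocalRing.closedPoint Ω'), h2.symm⟩
      intro i j hij Ω' _ r heq
      cases i using Fin.cases with
      | zero =>
        cases j using Fin.cases with
        | zero => exact hij rfl
        | succ j => exact key j Ω' _ r heq
      | succ i =>
        cases j using Fin.cases with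
        | zero => exact key i Ω' _ r heq.symm
        | succ j =>
          simp only [Fin.cons_succ] at heq
          have h1 : r ≫ ℓ i ≫ (offDiag g).ι = r ≫ ℓ j ≫ (offDiag g).ι := by
            apply pullback.hom_ext
            · rw [Category.assoc, Category.assoc, Category.assoc, Category.assoc, hfst i, hfst j]
            · simpa only [Category.assoc] using heq
          have h2 : r ≫ ℓ i = r ≫ ℓ j := by
            rw [← cancel_mono (offDiag g).ι]
            simpa only [Category.assoc] using h1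
          exact hd i j (fun h => hij (by rw [h])) Ω' _ r h2

theorem degGE_of_hasLifts (n : ℕ) : ∀ {Q B : Scheme.{u}} (g : Q ⟶ B) [Etale g] [IsSeparated g]
    (b : ↥B), HasLifts n g b → DegGE n g b := by
  induction n with
  | zero => intros; trivial
  | succ n ih =>
    rintro Q B g _ _ b ⟨Ω, _, β, ℓ, hβ, hℓ, hd⟩
    haveI : Subsingleton ↥(Spec (CommRingCat.of Ω)) :=
      inferInstanceAs (Subsingleton (PrimeSpectrum Ω))
    let m : Fin n → (Spec (CommRingCat.of Ω) ⟶ pullback g g) := fun i =>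
      pullback.lift (ℓ 0) (ℓ i.succ) (by rw [hℓ, hℓ])
    have hm : ∀ i, Set.range (m i) ⊆ Set.range (offDiag g).ι := by
      intro i
      rw [Scheme.Opens.range_ι, offDiag_coe_eq]
      rintro _ ⟨y, rfl⟩ hy
      have hsub : Set.range (m i) ⊆ Set.range (pullback.diagonal g) := by
        rintro _ ⟨y', rfl⟩
        rwa [Subsingleton.elim y' y]
      have hfac := IsOpenImmersion.lift_fac (pullback.diagonal g) (m i) hsub
      have e1 : ℓ 0 = IsOpenImmersion.lift (pullback.diagonal g) (m i) hsub := by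
        have := congrArg (· ≫ pullback.fst g g) hfac
        simp only [Category.assoc, pullback.diagonal_fst, Category.comp_id] at this
        rw [this]
        exact (pullback.lift_fst _ _ _).symm
      have e2 : ℓ i.succ = IsOpenImmersion.lift (pullback.diagonal g) (m i) hsub := by
        have := congrArg (· ≫ pullback.snd g g) hfac
        simp only [Category.assoc, pullback.diagonal_snd, Category.comp_id] at this
        rw [this]
        exact (pullback.lift_snd _ _ _).symm
      exact hd 0 i.succ (Fin.succ_ne_zero i).symm Ω inferInstance (𝟙 _) (by rw [e1, ← e2])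
    let ℓ'' : Fin n → (Spec (CommRingCat.of Ω) ⟶ (↑(offDiag g) : Scheme.{u})) := fun i =>
      IsOpenImmersion.lift (offDiag g).ι (m i) (hm i)
    have hℓ'' : ∀ i, ℓ'' i ≫ (offDiag g).ι = m i := fun i =>
      IsOpenImmersion.lift_fac _ _ _
    refine ⟨ℓ 0 (IsLocalRing.closedPoint Ω), ?_, ih (next g) _ ⟨Ω, inferInstance, ℓ 0, ℓ'', rfl,
      ?_, ?_⟩⟩
    · change (ℓ 0 ≫ g) (IsLocalRing.closedPoint Ω) = b
      rw [hℓ, hβ]
    · intro i
      change ℓ'' i ≫ (offDiag g).ι ≫ pullback.fst g g = ℓ 0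
      rw [← Category.assoc, hℓ'']
      exact pullback.lift_fst _ _ _
    · intro i j hij Ω' _ r heq
      have h1 := congrArg (· ≫ (offDiag g).ι ≫ pullback.snd g g) heq
      simp only [Category.assoc] at h1
      rw [← Category.assoc (ℓ'' i), ← Category.assoc (ℓ'' j), hℓ'', hℓ''] at h1
      change r ≫ pullback.lift (ℓ 0) (ℓ i.succ) _ ≫ pullback.snd g g =
        r ≫ pullback.lift (ℓ 0) (ℓ j.succ) _ ≫ pullback.snd g g at h1
      rw [pullback.lift_snd, pullback.lift_snd] at h1
      exact hd i.succ j.succ (fun h => hij (Fin.succ_injective _ h)) Ω' _ r h1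

theorem degGE_iff_hasLifts (n : ℕ) {Q B : Scheme.{u}} (g : Q ⟶ B) [Etale g] [IsSeparated g]
    (b : ↥B) : DegGE n g b ↔ HasLifts n g b :=
  ⟨hasLifts_of_degGE n g b, degGE_of_hasLifts n g b⟩

/-- two field-valued points with the same image point have a common refinement. -/
lemma exists_common_refinement {Y : Scheme.{u}} {Ω₁ Ω₂ : Type u} [Field Ω₁] [Field Ω₂]
    (β₁ : Spec (CommRingCat.of Ω₁) ⟶ Y) (β₂ : Spec (CommRingCat.of Ω₂) ⟶ Y)
    (h : β₁ (IsLocalRing.closedPoint Ω₁) = β₂ (IsLocalRing.closedPoint Ω₂)) :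
    ∃ (Ω : Type u) (_ : Field Ω) (r₁ : Spec (CommRingCat.of Ω) ⟶ Spec (CommRingCat.of Ω₁))
      (r₂ : Spec (CommRingCat.of Ω) ⟶ Spec (CommRingCat.of Ω₂)), r₁ ≫ β₁ = r₂ ≫ β₂ := by
  obtain ⟨z, -, -⟩ := Scheme.Pullback.exists_preimage_pullback (f := β₁) (g := β₂) _ _ h
  refine ⟨↑((pullback β₁ β₂).residueField z), inferInstance,
    (pullback β₁ β₂).fromSpecResidueField z ≫ pullback.fst β₁ β₂,
    (pullback β₁ β₂).fromSpecResidueField z ≫ pullback.snd β₁ β₂, ?_⟩
  rw [Category.assoc, Category.assoc, pullback.condition]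

lemma spec_field_apply_eq {Ω : Type u} [Field Ω] {Y : Scheme.{u}}
    (β : Spec (CommRingCat.of Ω) ⟶ Y) (y : ↥(Spec (CommRingCat.of Ω))) :
    β y = β (IsLocalRing.closedPoint Ω) := by
  haveI : Subsingleton ↥(Spec (CommRingCat.of Ω)) :=
    inferInstanceAs (Subsingleton (PrimeSpectrum Ω))
  rw [Subsingleton.elim y (IsLocalRing.closedPoint Ω)]

/-- a point of the fibre outside an open subscheme gives one more geometric point. -/
theorem hasLifts_succ_of_notMem_range (n : ℕ) {P Q B : Scheme.{u}} (j : P ⟶ Q)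
    [IsOpenImmersion j] (g : Q ⟶ B) (b : ↥B) (h : HasLifts n (j ≫ g) b) (q : ↥Q) (hq : g q = b)
    (hqj : q ∉ Set.range j) : HasLifts (n + 1) g b := by
  obtain ⟨Ω₁, _, β₁, ℓ, hβ₁, hℓ, hd⟩ := h
  obtain ⟨Ω, _, r₁, r₂, hr⟩ := exists_common_refinement β₁ (Q.fromSpecResidueField q ≫ g) (by
    rw [hβ₁]
    change b = g (Q.fromSpecResidueField q _)
    rw [Scheme.fromSpecResidueField_apply, hq])
  refine ⟨Ω, inferInstance, r₁ ≫ β₁,
    Fin.cons (r₂ ≫ Q.fromSpecResidueField q) (fun i => r₁ ≫ ℓ i ≫ j), ?_, ?_, ?_⟩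
  · change β₁ (r₁ _) = b
    rw [spec_field_apply_eq β₁, hβ₁]
  · intro i
    cases i using Fin.cases with
    | zero => rw [Fin.cons_zero, Category.assoc, hr]
    | succ i => rw [Fin.cons_succ, Category.assoc, Category.assoc, hℓ i]
  · have key : ∀ (i : Fin n) (Ω' : Type u) (_ : Field Ω')
        (r : Spec (CommRingCat.of Ω') ⟶ Spec (CommRingCat.of Ω)),
        r ≫ r₂ ≫ Q.fromSpecResidueField q ≠ r ≫ r₁ ≫ ℓ i ≫ j := by
      intro i Ω' _ r heq
      have h2 := congrArg (fun φ : Spec (CommRingCat.of Ω') ⟶ Q =>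
        φ (IsLocalRing.closedPoint Ω')) heq
      apply hqj
      refine ⟨(r ≫ r₁ ≫ ℓ i) (IsLocalRing.closedPoint Ω'), ?_⟩
      change (r ≫ r₁ ≫ ℓ i ≫ j) _ = q
      rw [← Category.assoc r₁, ← Category.assoc r] at h2 ⊢
      simp only [Category.assoc] at h2 ⊢
      rw [← h2]
      change Q.fromSpecResidueField q _ = q
      exact Scheme.fromSpecResidueField_apply _ _
    intro i i' hii' Ω' _ r heq
    cases i using Fin.cases with
    | zero =>
      cases i' using Fin.cases with
      | zero => exact hii' rfl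
      | succ i' => exact key i' Ω' _ r heq
    | succ i =>
      cases i' using Fin.cases with
      | zero => exact key i Ω' _ r heq.symm
      | succ i' =>
        simp only [Fin.cons_succ] at heq
        have h2 : (r ≫ r₁) ≫ ℓ i = (r ≫ r₁) ≫ ℓ i' := by
          rw [← cancel_mono j]
          simpa only [Category.assoc] using heq
        exact hd i i' (fun h => hii' (by rw [h])) Ω' _ (r ≫ r₁) h2

/-- finitely many points of a scheme lie in a quasi-compact open. -/
lemma exists_isCompact_opens_of_finite {Q : Scheme.{u}} (F : Set ↥Q) (hF : F.Finite) :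
    ∃ P : Q.Opens, IsCompact (P : Set ↥Q) ∧ F ⊆ P := by
  induction F, hF using Set.Finite.induction_on with
  | empty => exact ⟨⊥, by simp, Set.empty_subset _⟩
  | @insert q F _ _ ih =>
    obtain ⟨P, hP, hFP⟩ := ih
    obtain ⟨V, hV, hqV, -⟩ : ∃ V : Q.Opens, V ∈ Q.affineOpens ∧ q ∈ V ∧ V ≤ ⊤ :=
      TopologicalSpace.Opens.isBasis_iff_nbhd.1 Q.isBasis_affineOpens
        (TopologicalSpace.Opens.mem_top q)
    refine ⟨V ⊔ P, ?_, ?_⟩
    · rw [TopologicalSpace.Opens.coe_sup]
      exact (IsAffineOpen.isCompact hV).union hP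
    · rw [TopologicalSpace.Opens.coe_sup]
      exact Set.insert_subset (Or.inl hqV) (hFP.trans Set.subset_union_right)

/-- the lifts of a field-valued point factor through a quasi-compact open. -/
theorem exists_opens_hasLifts (n : ℕ) {Q B : Scheme.{u}} (g : Q ⟶ B) (b : ↥B)
    (h : HasLifts n g b) : ∃ P : Q.Opens, IsCompact (P : Set ↥Q) ∧ HasLifts n (P.ι ≫ g) b := by
  obtain ⟨Ω, _, β, ℓ, hβ, hℓ, hd⟩ := h
  obtain ⟨P, hP, hFP⟩ := exists_isCompact_opens_of_finite
    (Set.range fun i => ℓ i (IsLocalRing.closedPoint Ω)) (Set.finite_range _)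
  have hsub : ∀ i, Set.range (ℓ i) ⊆ Set.range P.ι := by
    intro i
    rw [Scheme.Opens.range_ι]
    rintro _ ⟨y, rfl⟩
    rw [spec_field_apply_eq]
    exact hFP ⟨i, rfl⟩
  refine ⟨P, hP, Ω, inferInstance, β, fun i => IsOpenImmersion.lift P.ι (ℓ i) (hsub i), hβ, ?_, ?_⟩
  · intro i
    rw [← Category.assoc, IsOpenImmersion.lift_fac, hℓ]
  · intro i j hij Ω' _ r heq
    have := congrArg (· ≫ P.ι) heq
    simp only [Category.assoc, IsOpenImmersion.lift_fac] at this
    exact hd i j hij Ω' _ r this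

/-- over a quasi-compact set on which the geometric fibre degree is constant, an étale separated
morphism is quasi-compact. -/
theorem exists_isCompact_opens_fibre_subset (n : ℕ) {Q B : Scheme.{u}} (g : Q ⟶ B) [Etale g]
    [IsSeparated g] (K : Set ↥B) (hK : IsCompact K)
    (hdeg : ∀ b ∈ K, DegGE n g b ∧ ¬ DegGE (n + 1) g b) :
    ∃ P : Q.Opens, IsCompact (P : Set ↥Q) ∧ g ⁻¹' K ⊆ P := by
  have h1 : ∀ b : K, ∃ P : Q.Opens, IsCompact (P : Set ↥Q) ∧ DegGE n (P.ι ≫ g) b.1 := by
    intro b
    obtain ⟨P, hP, hl⟩ := exists_opens_hasLifts n g b.1 (hasLifts_of_degGE n g b.1 (hdeg b.1 b.2).1)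
    exact ⟨P, hP, degGE_of_hasLifts n (P.ι ≫ g) b.1 hl⟩
  choose P hP hPd using h1
  obtain ⟨t, ht⟩ := hK.elim_finite_subcover (fun b : K => {b' : ↥B | DegGE n ((P b).ι ≫ g) b'})
    (fun b => isOpen_setOf_degGE n ((P b).ι ≫ g))
    (fun b hb => Set.mem_iUnion.2 ⟨⟨b, hb⟩, hPd ⟨b, hb⟩⟩)
  refine ⟨⨆ b ∈ t, P b, ?_, ?_⟩
  · rw [TopologicalSpace.Opens.coe_iSup]
    simp only [TopologicalSpace.Opens.coe_iSup]
    exact t.finite_toSet.isCompact_biUnion fun b _ => hP b
  · intro q hq
    obtain ⟨b, hb⟩ := Set.mem_iUnion.1 (ht hq)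
    obtain ⟨hbt, hqb⟩ := Set.mem_iUnion.1 hb
    have hqP : q ∈ P b := by
      by_contra hn
      have hn' : q ∉ Set.range (P b).ι := by rwa [Scheme.Opens.range_ι]
      have := hasLifts_succ_of_notMem_range n (P b).ι g (g q)
        (hasLifts_of_degGE n _ _ hqb) q rfl hn'
      exact (hdeg (g q) hq).2 (degGE_of_hasLifts (n + 1) g (g q) this)
    change q ∈ (⨆ b ∈ t, P b : Q.Opens)
    exact TopologicalSpace.Opens.mem_iSup.2 ⟨b, TopologicalSpace.Opens.mem_iSup.2 ⟨hbt, hqP⟩⟩

end Groth.Agent.R2.H46.DegStrat
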