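import Mathlib
import Groth.Agent.R2.H46DegStrat
import Groth.Agent.Lib.Helper12Descent

/-!
# Étale separated morphisms of constant geometric fibre degree are finite (helper46)
-/

set_option autoImplicit false
set_option linter.style.haveILetI false
universe u
open CategoryTheory CategoryTheory.Limits AlgebraicGeometry Topology TopologicalSpace

namespace Groth.Agent.R2.H46.ConstDeg

open Groth.Agent.R2.H46.DegStrat

/-- the degree conditions are decreasing. -/
theorem degGE_of_succ (n : ℕ) : ∀ {Q B : Scheme.{u}} (g : Q ⟶ B) (b : ↥B),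
    DegGE (n + 1) g b → DegGE n g b := by
  induction n with
  | zero => intros; trivial
  | succ n ih =>
    rintro Q B g b ⟨q, hq, h⟩
    exact ⟨q, hq, ih (next g) q h⟩

theorem degGE_of_le {n m : ℕ} (h : n ≤ m) {Q B : Scheme.{u}} (g : Q ⟶ B) (b : ↥B)
    (hm : DegGE m g b) : DegGE n g b := by
  induction h with
  | refl => exact hm
  | step _ ih => exact ih (degGE_of_succ _ g b hm)

/-- `n` lifts of a field-valued point, robustly distinct from each other and distinct from a
base lift, give `n` robustly distinct lifts of the base lift along `next g`. -/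
theorem hasLifts_next {n : ℕ} {Q B : Scheme.{u}} (g : Q ⟶ B) [Etale g] [IsSeparated g]
    {Ω : Type u} [Field Ω] (β : Spec (CommRingCat.of Ω) ⟶ B)
    (ℓ₀ : Spec (CommRingCat.of Ω) ⟶ Q) (ℓ : Fin n → (Spec (CommRingCat.of Ω) ⟶ Q))
    (h₀ : ℓ₀ ≫ g = β) (hℓ : ∀ i, ℓ i ≫ g = β) (hd₀ : ∀ i, ℓ₀ ≠ ℓ i)
    (hd : ∀ i j, i ≠ j → ∀ (Ω' : Type u) (_ : Field Ω')
      (r : Spec (CommRingCat.of Ω') ⟶ Spec (CommRingCat.of Ω)), r ≫ ℓ i ≠ r ≫ ℓ j) :
    HasLifts n (next g) (ℓ₀ (IsLocalRing.closedPoint Ω)) := by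
  haveI : Subsingleton ↥(Spec (CommRingCat.of Ω)) :=
    inferInstanceAs (Subsingleton (PrimeSpectrum Ω))
  let m : Fin n → (Spec (CommRingCat.of Ω) ⟶ pullback g g) := fun i =>
    pullback.lift ℓ₀ (ℓ i) (by rw [h₀, hℓ])
  have hm : ∀ i, Set.range (m i) ⊆ Set.range (offDiag g).ι := by
    intro i
    rw [Scheme.Opens.range_ι, offDiag_coe_eq]
    rintro _ ⟨y, rfl⟩ hy
    have hsub : Set.range (m i) ⊆ Set.range (pullback.diagonal g) := by
      rintro _ ⟨y', rfl⟩
      rwa [Subsingleton.elim y' y]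
    have hfac := IsOpenImmersion.lift_fac (pullback.diagonal g) (m i) hsub
    have e1 : ℓ₀ = IsOpenImmersion.lift (pullback.diagonal g) (m i) hsub := by
      have := congrArg (· ≫ pullback.fst g g) hfac
      simp only [Category.assoc, pullback.diagonal_fst, Category.comp_id] at this
      rw [this]
      exact (pullback.lift_fst _ _ _).symm
    have e2 : ℓ i = IsOpenImmersion.lift (pullback.diagonal g) (m i) hsub := by
      have := congrArg (· ≫ pullback.snd g g) hfac
      simp only [Category.assoc, pullback.diagonal_snd, Category.comp_id] at this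
      rw [this]
      exact (pullback.lift_snd _ _ _).symm
    exact hd₀ i (by rw [e1, ← e2])
  let ℓ'' : Fin n → (Spec (CommRingCat.of Ω) ⟶ (↑(offDiag g) : Scheme.{u})) := fun i =>
    IsOpenImmersion.lift (offDiag g).ι (m i) (hm i)
  have hℓ'' : ∀ i, ℓ'' i ≫ (offDiag g).ι = m i := fun i =>
    IsOpenImmersion.lift_fac _ _ _
  refine ⟨Ω, inferInstance, ℓ₀, ℓ'', rfl, ?_, ?_⟩
  · intro i
    change ℓ'' i ≫ (offDiag g).ι ≫ pullback.fst g g = ℓ₀
    rw [← Category.assoc, hℓ'']
    exact pullback.lift_fst _ _ _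
  · intro i j hij Ω' _ r heq
    have h1 := congrArg (· ≫ (offDiag g).ι ≫ pullback.snd g g) heq
    simp only [Category.assoc] at h1
    rw [← Category.assoc (ℓ'' i), ← Category.assoc (ℓ'' j), hℓ'', hℓ''] at h1
    change r ≫ pullback.lift ℓ₀ (ℓ i) _ ≫ pullback.snd g g =
      r ≫ pullback.lift ℓ₀ (ℓ j) _ ≫ pullback.snd g g at h1
    rw [pullback.lift_snd, pullback.lift_snd] at h1
    exact hd i j hij Ω' _ r h1

/-- if the geometric fibre degree of `g` is exactly `m + 1` at `g q`, then that of `next g` is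
exactly `m` at `q`. -/
theorem degGE_next_of_const (m : ℕ) {Q B : Scheme.{u}} (g : Q ⟶ B) [Etale g] [IsSeparated g]
    (q : ↥Q) (h1 : DegGE (m + 1) g (g q)) (h2 : ¬ DegGE (m + 2) g (g q)) :
    DegGE m (next g) q ∧ ¬ DegGE (m + 1) (next g) q := by
  refine ⟨?_, fun h => h2 ⟨q, rfl, h⟩⟩
  obtain ⟨Ω, _, β, ℓ, hβ, hℓ, hd⟩ := hasLifts_of_degGE (m + 1) g (g q) h1
  obtain ⟨Ω', _, r₁, r₂, hr⟩ := exists_common_refinement β (Q.fromSpecResidueField q ≫ g) (by
    rw [hβ]
    change g q = g (Q.fromSpecResidueField q _)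
    rw [Scheme.fromSpecResidueField_apply])
  set q' : Spec (CommRingCat.of Ω') ⟶ Q := r₂ ≫ Q.fromSpecResidueField q with hq'
  have hq'g : q' ≫ g = r₁ ≫ β := by rw [hq', Category.assoc, hr]
  have hq'pt : ∀ (Ω'' : Type u) (_ : Field Ω'')
      (r : Spec (CommRingCat.of Ω'') ⟶ Spec (CommRingCat.of Ω')),
      (r ≫ q') (IsLocalRing.closedPoint Ω'') = q := by
    intro Ω'' _ r
    change Q.fromSpecResidueField q (r₂ (r _)) = q
    rw [Scheme.fromSpecResidueField_apply]
  by_cases hc : ∃ (i : Fin (m + 1)) (Ω'' : Type u) (_ : Field Ω'')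
      (r : Spec (CommRingCat.of Ω'') ⟶ Spec (CommRingCat.of Ω')), r ≫ q' = r ≫ r₁ ≫ ℓ i
  · obtain ⟨i₀, Ω'', _, r, hri⟩ := hc
    have key := hasLifts_next g (r ≫ r₁ ≫ β) (r ≫ q')
      (fun k : Fin m => r ≫ r₁ ≫ ℓ (i₀.succAbove k))
      (by rw [Category.assoc, hq'g])
      (fun k => by rw [Category.assoc, Category.assoc, hℓ])
      (fun k heq => by
        rw [hri] at heq
        have := hd i₀ (i₀.succAbove k) (Fin.succAbove_ne i₀ k).symm Ω'' inferInstance (r ≫ r₁)
        apply this
        simpa only [Category.assoc] using heq)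
      (fun k k' hkk' Ω₃ _ ρ heq => by
        have := hd (i₀.succAbove k) (i₀.succAbove k')
          (fun h => hkk' (Fin.succAbove_right_injective h)) Ω₃ inferInstance (ρ ≫ r ≫ r₁)
        apply this
        simpa only [Category.assoc] using heq)
    rw [hq'pt] at key
    exact degGE_of_hasLifts m (next g) q key
  · exfalso
    apply h2
    apply degGE_of_hasLifts (m + 2) g (g q)
    refine ⟨Ω', inferInstance, r₁ ≫ β, Fin.cons q' (fun i => r₁ ≫ ℓ i), ?_, ?_, ?_⟩
    · change β (r₁ _) = g q
      rw [spec_field_apply_eq β, hβ]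
    · intro i
      cases i using Fin.cases with
      | zero => exact hq'g
      | succ i => rw [Fin.cons_succ, Category.assoc, hℓ]
    · intro i j hij Ω₃ _ ρ heq
      cases i using Fin.cases with
      | zero =>
        cases j using Fin.cases with
        | zero => exact hij rfl
        | succ j =>
          rw [Fin.cons_zero, Fin.cons_succ] at heq
          exact hc ⟨j, Ω₃, inferInstance, ρ, heq⟩
      | succ i =>
        cases j using Fin.cases with
        | zero =>
          rw [Fin.cons_zero, Fin.cons_succ] at heq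
          exact hc ⟨i, Ω₃, inferInstance, ρ, heq.symm⟩
        | succ j =>
          rw [Fin.cons_succ, Fin.cons_succ] at heq
          have := hd i j (fun h => hij (by rw [h])) Ω₃ inferInstance (ρ ≫ r₁)
          apply this
          simpa only [Category.assoc] using heq


/-- if `next g` is finite then so is the first projection of `Q ×_B Q`. -/
theorem isFinite_fst_of_isFinite_next {Q B : Scheme.{u}} (g : Q ⟶ B) [Etale g] [IsSeparated g]
    [IsFinite (next g)] : IsFinite (pullback.fst g g) := by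
  have hcompl : IsCompl (pullback.diagonal g).opensRange (offDiag g).ι.opensRange := by
    rw [Scheme.Opens.opensRange_ι]
    constructor
    · rw [disjoint_iff]
      apply SetLike.coe_injective
      rw [Opens.coe_inf, Opens.coe_bot, offDiag_coe_eq, Scheme.Hom.coe_opensRange]
      exact Set.inter_compl_self _
    · rw [codisjoint_iff]
      apply SetLike.coe_injective
      rw [Opens.coe_sup, Opens.coe_top, offDiag_coe_eq, Scheme.Hom.coe_opensRange]
      exact Set.union_compl_self _
  obtain ⟨hc⟩ := nonempty_isColimit_binaryCofanMk_of_isCompl (pullback.diagonal g)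
    (offDiag g).ι hcompl
  let e : (Q ⨿ (↑(offDiag g) : Scheme.{u})) ≅ pullback g g :=
    (coprodIsCoprod Q (↑(offDiag g) : Scheme.{u})).coconePointUniqueUpToIso hc
  have h1 : coprod.inl ≫ e.hom = pullback.diagonal g :=
    (coprodIsCoprod Q (↑(offDiag g) : Scheme.{u})).comp_coconePointUniqueUpToIso_hom hc
      ⟨WalkingPair.left⟩
  have h2 : coprod.inr ≫ e.hom = (offDiag g).ι :=
    (coprodIsCoprod Q (↑(offDiag g) : Scheme.{u})).comp_coconePointUniqueUpToIso_hom hc
      ⟨WalkingPair.right⟩
  have h3 : e.hom ≫ pullback.fst g g = coprod.desc (𝟙 Q) (next g) := by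
    apply coprod.hom_ext
    · rw [← Category.assoc, h1, pullback.diagonal_fst, coprod.inl_desc]
    · rw [← Category.assoc, h2, coprod.inr_desc]
      rfl
  haveI : IsFinite (e.hom ≫ pullback.fst g g) := by rw [h3]; infer_instance
  have h4 : pullback.fst g g = e.inv ≫ e.hom ≫ pullback.fst g g := by
    rw [Iso.inv_hom_id_assoc]
  rw [h4]
  infer_instance

/-- **an étale separated morphism of constant geometric fibre degree is finite.** -/
theorem isFinite_of_const_deg (m : ℕ) : ∀ {Q B : Scheme.{u}} (g : Q ⟶ B) [Etale g]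
    [IsSeparated g], (∀ b : ↥B, DegGE m g b ∧ ¬ DegGE (m + 1) g b) → IsFinite g := by
  induction m with
  | zero =>
    intro Q B g _ _ h
    haveI : IsEmpty ↥Q := ⟨fun q => (h (g q)).2 ⟨q, rfl, trivial⟩⟩
    infer_instance
  | succ m ih =>
    intro Q B g _ _ h
    haveI : IsFinite (next g) :=
      ih (next g) (fun q => degGE_next_of_const m g q (h (g q)).1 (h (g q)).2)
    haveI := isFinite_fst_of_isFinite_next g
    haveI : Surjective g := ⟨fun b => by obtain ⟨q, hq, -⟩ := (h b).1; exact ⟨q, hq⟩⟩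
    haveI := Groth.Agent.Lib.Helper12.descendsAlong_isFinite.{u}
    exact MorphismProperty.of_isPullback_of_descendsAlong (P := @IsFinite)
      (Q := @Surjective ⊓ @Flat ⊓ @LocallyOfFinitePresentation) (IsPullback.of_hasPullback g g)
      ⟨⟨inferInstance, inferInstance⟩, inferInstance⟩ inferInstance



/-- lifts of field-valued points along the restriction of `g` over an open of the base. -/
theorem hasLifts_morphismRestrict_iff (n : ℕ) {Q B : Scheme.{u}} (g : Q ⟶ B) (V : B.Opens)
    (v : ↥V) : HasLifts n (g ∣_ V) v ↔ HasLifts n g v.1 := by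
  constructor
  · rintro ⟨Ω, _, β, ℓ, hβ, hℓ, hd⟩
    refine ⟨Ω, inferInstance, β ≫ V.ι, fun i => ℓ i ≫ (g ⁻¹ᵁ V).ι, ?_, ?_, ?_⟩
    · change V.ι (β (IsLocalRing.closedPoint Ω)) = v.1
      rw [hβ]
      rfl
    · intro i
      rw [Category.assoc, ← morphismRestrict_ι, ← Category.assoc, hℓ]
    · intro i j hij Ω' _ r heq
      apply hd i j hij Ω' _ r
      rw [← cancel_mono (g ⁻¹ᵁ V).ι]
      simpa only [Category.assoc] using heq
  · rintro ⟨Ω, _, β, ℓ, hβ, hℓ, hd⟩
    haveI : Subsingleton ↥(Spec (CommRingCat.of Ω)) :=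
      inferInstanceAs (Subsingleton (PrimeSpectrum Ω))
    have hβr : Set.range β ⊆ Set.range V.ι := by
      rw [Scheme.Opens.range_ι]
      rintro _ ⟨y, rfl⟩
      rw [spec_field_apply_eq β y, hβ]
      exact v.2
    have hℓr : ∀ i, Set.range (ℓ i) ⊆ Set.range (g ⁻¹ᵁ V).ι := by
      intro i
      rw [Scheme.Opens.range_ι]
      rintro _ ⟨y, rfl⟩
      change g (ℓ i y) ∈ V
      have : g (ℓ i y) = β y := by
        rw [← hℓ i]
        rfl
      rw [this, spec_field_apply_eq β y, hβ]
      exact v.2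
    refine ⟨Ω, inferInstance, IsOpenImmersion.lift V.ι β hβr,
      fun i => IsOpenImmersion.lift (g ⁻¹ᵁ V).ι (ℓ i) (hℓr i), ?_, ?_, ?_⟩
    · apply Subtype.ext
      have := congrArg (fun φ : Spec (CommRingCat.of Ω) ⟶ B => φ (IsLocalRing.closedPoint Ω))
        (IsOpenImmersion.lift_fac V.ι β hβr)
      exact this.trans hβ
    · intro i
      rw [← cancel_mono V.ι, Category.assoc, morphismRestrict_ι, ← Category.assoc,
        IsOpenImmersion.lift_fac, IsOpenImmersion.lift_fac, hℓ]
    · intro i j hij Ω' _ r heq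
      apply hd i j hij Ω' _ r
      have := congrArg (· ≫ (g ⁻¹ᵁ V).ι) heq
      simpa only [Category.assoc, IsOpenImmersion.lift_fac] using this

/-- the geometric fibre degree is unchanged by restricting over an open of the base. -/
theorem degGE_morphismRestrict_iff (n : ℕ) {Q B : Scheme.{u}} (g : Q ⟶ B) [Etale g]
    [IsSeparated g] (V : B.Opens) (v : ↥V) : DegGE n (g ∣_ V) v ↔ DegGE n g v.1 := by
  rw [degGE_iff_hasLifts, degGE_iff_hasLifts, hasLifts_morphismRestrict_iff]


end Groth.Agent.R2.H46.ConstDeg
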