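import Mathlib
import Groth.Prelude.Def_AlgSpDec
import Groth.Agent.R2.H46DegStrat
import Groth.Agent.R2.H46FinField
import Groth.Agent.R2.H45Dim
import Groth.Agent.Lib.Helper12ResidualFactor
import Groth.Agent.S10176
import Groth.Agent.S10177

/-!
# Geometric fibre degree of the self fibre product of an étale chart (helper46)

* `hasLifts_of_ofPt_eq`: the degree is constant along the fibres of the chart.
* `exists_not_hasLifts`: over a decent space the degree is finite at every point.
-/

set_option autoImplicit false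
set_option linter.style.haveILetI false
universe u
open CategoryTheory CategoryTheory.Limits AlgebraicGeometry Topology TopologicalSpace

namespace Groth.Agent.R2.H46.DegSp

open Groth.Agent.R2.H46.DegStrat

/-- distinct ring homomorphisms from a finite algebra over a field to a field which agree on the
base field are at most the dimension many. -/
lemma card_le_finrank_of_ringHom {k A Ω : Type u} [Field k] [CommRing A] [Algebra k A]
    [Module.Finite k A] [Field Ω] (ψ : k →+* Ω) (n : ℕ) (f : Fin n → (A →+* Ω))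
    (hf : ∀ i, (f i).comp (algebraMap k A) = ψ) (hinj : Function.Injective f) :
    n ≤ Module.finrank k A := by
  letI : Algebra k Ω := ψ.toAlgebra
  let F : Fin n → (A →ₐ[k] Ω) := fun i =>
    { f i with
      commutes' := fun c => by
        change (f i).comp (algebraMap k A) c = ψ c
        rw [hf i] }
  have hF : Function.Injective F := by
    intro i j hij
    apply hinj
    ext x
    exact congrArg (fun g : A →ₐ[k] Ω => g x) hij
  have h1 : (n : Cardinal) ≤ Cardinal.mk (A →ₐ[k] Ω) := by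
    have := Cardinal.lift_mk_le_lift_mk_of_injective hF
    simpa using this
  have h2 := cardinalMk_algHom k A Ω
  rw [Module.finrank_linearMap_self] at h2
  exact_mod_cast h1.trans h2

variable {S : Scheme.{u}} {X : AlgSp.Sp S} {U W : Over S} {a : (AlgSp.yon S).obj U ⟶ X}
  {pr w : W ⟶ U}

/-- morphisms into the self fibre product of a chart are determined by their two projections. -/
lemma left_ext (sq : IsPullback ((AlgSp.yon S).map pr) ((AlgSp.yon S).map w) a a)
    {T : Scheme.{u}} (φ₁ φ₂ : T ⟶ W.left) (h1 : φ₁ ≫ pr.left = φ₂ ≫ pr.left)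
    (h2 : φ₁ ≫ w.left = φ₂ ≫ w.left) : φ₁ = φ₂ := by
  have hW : φ₂ ≫ W.hom = φ₁ ≫ W.hom := by
    rw [← Over.w pr, ← Category.assoc, ← h1, Category.assoc]
  let f₁ : Over.mk (φ₁ ≫ W.hom) ⟶ W := Over.homMk φ₁ rfl
  let f₂ : Over.mk (φ₁ ≫ W.hom) ⟶ W := Over.homMk φ₂ hW
  have h : f₁ = f₂ := by
    apply (AlgSp.yon S).map_injective
    apply sq.hom_ext
    · rw [← Functor.map_comp, ← Functor.map_comp]
      congr 1
      exact Over.OverMorphism.ext h1
    · rw [← Functor.map_comp, ← Functor.map_comp]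
      congr 1
      exact Over.OverMorphism.ext h2
  exact congrArg (fun f : Over.mk (φ₁ ≫ W.hom) ⟶ W => f.left) h

/-- a pair of morphisms to the chart with the same image in `X` lifts to the fibre product. -/
lemma exists_lift_of_eq (sq : IsPullback ((AlgSp.yon S).map pr) ((AlgSp.yon S).map w) a a)
    {T : Over S} (b v : T ⟶ U) (h : (AlgSp.yon S).map b ≫ a = (AlgSp.yon S).map v ≫ a) :
    ∃ φ : T ⟶ W, φ ≫ pr = b ∧ φ ≫ w = v := by
  obtain ⟨φ, hφ⟩ := (AlgSp.yon S).map_surjective (sq.lift _ _ h)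
  refine ⟨φ, (AlgSp.yon S).map_injective ?_, (AlgSp.yon S).map_injective ?_⟩
  · rw [Functor.map_comp, hφ, sq.lift_fst]
  · rw [Functor.map_comp, hφ, sq.lift_snd]

/-- the geometric fibre degree of the first projection of the self fibre product of a chart is
constant on the fibres of the chart. -/
theorem hasLifts_of_ofPt_eq (sq : IsPullback ((AlgSp.yon S).map pr) ((AlgSp.yon S).map w) a a)
    (n : ℕ) (u u' : ↥U.left) (huu' : AlgSp.Points.ofPt a u = AlgSp.Points.ofPt a u')
    (h : HasLifts n pr.left u) : HasLifts n pr.left u' := by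
  obtain ⟨y, hy1, hy2⟩ := Groth.Agent.S10176.exists_point_of_isPullback_yon sq u' u huu'.symm
  obtain ⟨Ω₁, _, β₁, ℓ, hβ₁, hℓ, hd⟩ := h
  obtain ⟨Ω, _, r₁, r₂, hr⟩ := exists_common_refinement β₁
    (W.left.fromSpecResidueField y ≫ w.left) (by
      rw [hβ₁]
      change u = w.left (W.left.fromSpecResidueField y _)
      rw [Scheme.fromSpecResidueField_apply, hy2])
  -- the new base point
  let σ : Spec (CommRingCat.of Ω) ⟶ W.left := r₂ ≫ W.left.fromSpecResidueField y
  let T : Over S := Over.mk (σ ≫ W.hom)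
  let σo : T ⟶ W := Over.homMk σ rfl
  have hσw : σ ≫ w.left = r₁ ≫ β₁ := by
    change (r₂ ≫ W.left.fromSpecResidueField y) ≫ w.left = _
    rw [Category.assoc, hr]
  -- the old lifts as morphisms over `S`
  have hℓS : ∀ i, (r₁ ≫ ℓ i) ≫ W.hom = σ ≫ W.hom := by
    intro i
    calc (r₁ ≫ ℓ i) ≫ W.hom = (r₁ ≫ ℓ i) ≫ pr.left ≫ U.hom := by rw [Over.w pr]
      _ = (r₁ ≫ β₁) ≫ U.hom := by
        rw [Category.assoc, ← Category.assoc (ℓ i), hℓ i, Category.assoc]
      _ = σ ≫ w.left ≫ U.hom := by rw [← hσw, Category.assoc]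
      _ = σ ≫ W.hom := by rw [Over.w w]
  let ℓo : Fin n → (T ⟶ W) := fun i => Over.homMk (r₁ ≫ ℓ i) (hℓS i)
  -- the new lifts
  have hcomm : ∀ i, (AlgSp.yon S).map (σo ≫ pr) ≫ a = (AlgSp.yon S).map (ℓo i ≫ w) ≫ a := by
    intro i
    have e1 : σo ≫ w = ℓo i ≫ pr := by
      apply Over.OverMorphism.ext
      change σ ≫ w.left = (r₁ ≫ ℓ i) ≫ pr.left
      rw [hσw, Category.assoc, hℓ i]
    rw [Functor.map_comp, Category.assoc, sq.w, ← Category.assoc, ← Functor.map_comp, e1,
      Functor.map_comp, Category.assoc, sq.w, ← Category.assoc, ← Functor.map_comp]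
  choose φ hφ1 hφ2 using fun i => exists_lift_of_eq sq (σo ≫ pr) (ℓo i ≫ w) (hcomm i)
  refine ⟨Ω, inferInstance, σ ≫ pr.left, fun i => (φ i).left, ?_, ?_, ?_⟩
  · change pr.left (σ (IsLocalRing.closedPoint Ω)) = u'
    have : σ (IsLocalRing.closedPoint Ω) = y := by
      change W.left.fromSpecResidueField y (r₂ _) = y
      exact Scheme.fromSpecResidueField_apply _ _
    rw [this, hy1]
  · intro i
    have := congrArg (fun f : T ⟶ U => f.left) (hφ1 i)
    exact this
  · intro i j hij Ω' _ r heq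
    apply hd i j hij Ω' inferInstance (r ≫ r₁)
    apply left_ext sq
    · rw [Category.assoc (r ≫ r₁), Category.assoc (r ≫ r₁), hℓ i, hℓ j]
    · have hi := congrArg (fun f : T ⟶ U => f.left) (hφ2 i)
      have hj := congrArg (fun f : T ⟶ U => f.left) (hφ2 j)
      change (φ i).left ≫ w.left = (r₁ ≫ ℓ i) ≫ w.left at hi
      change (φ j).left ≫ w.left = (r₁ ≫ ℓ j) ≫ w.left at hj
      have := congrArg (· ≫ w.left) heq
      simp only [Category.assoc] at this hi hj ⊢
      rw [hi, hj] at this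
      exact this

/-- at a point of a sheaf represented by a quasi-compact monomorphism from the spectrum of a
field, the geometric fibre degree of the self fibre product of a quasi-compact étale chart is
finite. -/
theorem exists_not_hasLifts_of_point (hX : AlgSp.IsAlgSpace X)
    [CompactSpace ↥U.left] (ha : AlgSp.RepWith @Etale a)
    (sq : IsPullback ((AlgSp.yon S).map pr) ((AlgSp.yon S).map w) a a) (u : ↥U.left)
    (hpt : ∃ p : AlgSp.FieldPt X, AlgSp.Points.mk p = AlgSp.Points.ofPt a u ∧ Mono p.toHom ∧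
      AlgSp.RepWith @QuasiCompact p.toHom) :
    ∃ n : ℕ, ¬ HasLifts n pr.left u := by
  obtain ⟨p, hp, hm, hq⟩ := hpt
  obtain ⟨F, fU, fk', sqF⟩ := hq.1 a
  obtain ⟨fk, rfl⟩ := (AlgSp.yon S).map_surjective fk'
  haveI : QuasiCompact fU.left := hq.2 _ _ fU sqF
  haveI : Etale fk.left := ha.2 _ _ fk sqF.flip
  haveI : CompactSpace ↥F.left := QuasiCompact.compactSpace_of_compactSpace fU.left
  let fkl : F.left ⟶ Spec (CommRingCat.of p.K) := fk.left
  haveI : Etale fkl := inferInstanceAs (Etale fk.left)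
  haveI : LocallyQuasiFinite fkl := Groth.Agent.R2.H45.Dim.locallyQuasiFinite_of_etale fkl
  haveI : QuasiCompact fkl := inferInstance
  haveI : IsFinite fkl := IsFinite.of_locallyQuasiFinite fkl
  haveI : IsAffine F.left := isAffine_of_isAffineHom fkl
  obtain ⟨A, _, _, e, he⟩ := Groth.Agent.R2.H46.FinField.exists_algebra_of_isAffine fkl
  haveI : Module.Finite p.K A := by
    have h1 : IsFinite (Spec.map (CommRingCat.ofHom (algebraMap p.K A))) := by
      rw [← he]; infer_instance
    exact RingHom.finite_algebraMap.1 ((IsFinite.SpecMap_iff _).1 h1)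
  refine ⟨Module.finrank p.K A + 1, ?_⟩
  rintro ⟨Ω, _, β, ℓ, hβ, hℓ, hd⟩
  -- the data over `S`
  let T : Over S := Over.mk (β ≫ U.hom)
  let βo : T ⟶ U := Over.homMk β rfl
  have hℓS : ∀ i, ℓ i ≫ W.hom = β ≫ U.hom := fun i => by
    rw [← Over.w pr, ← Category.assoc, hℓ i]
  let ℓo : ∀ i, T ⟶ W := fun i => Over.homMk (ℓ i) (hℓS i)
  have hℓo : ∀ i, ℓo i ≫ pr = βo := fun i => Over.OverMorphism.ext (hℓ i)
  -- the field point factors through the monomorphism `p`
  haveI : Mono p.toHom := hm
  have hx : AlgSp.Points.ofPt ((AlgSp.yon S).map βo ≫ a)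
      ((⊥ : PrimeSpectrum Ω) : ↥(Over.mk (β ≫ U.hom)).left) ∈
      Set.range (AlgSp.Points.map p.toHom) := by
    rw [Groth.Agent.S10176.ofPt_map_comp]
    have : βo.left ((⊥ : PrimeSpectrum Ω) : ↥(Over.mk (β ≫ U.hom)).left) = u := by
      change β _ = u
      rw [spec_field_apply_eq β, hβ]
    rw [this, ← hp]
    refine ⟨AlgSp.Points.ofScheme p.pt (IsLocalRing.closedPoint p.K), ?_⟩
    rw [← AlgSp.Points.ofPt_eq_map_ofScheme, AlgSp.Points.ofPt_toHom]
  let ip : (⟨(AlgSp.yon S).obj p.pt, AlgSp.IsAlgSpace.yon_obj _⟩ : AlgSp.Space S) ⟶ ⟨X, hX⟩ :=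
    ObjectProperty.homMk p.toHom
  haveI : Mono ip.hom := hm
  obtain ⟨d', hd'⟩ := Groth.Agent.Lib.Helper12.ResidualFactor.exists_factor_fieldPoint
    ip Ω (β ≫ U.hom) ((AlgSp.yon S).map βo ≫ a) hx
  change d' ≫ p.toHom = (AlgSp.yon S).map βo ≫ a at hd'
  obtain ⟨d, rfl⟩ := (AlgSp.yon S).map_surjective d'
  -- the induced points of the fibre
  have hcomm : ∀ i, (AlgSp.yon S).map d ≫ p.toHom = (AlgSp.yon S).map (ℓo i ≫ w) ≫ a := by
    intro i
    rw [hd', ← hℓo i, Functor.map_comp, Category.assoc, sq.w, ← Category.assoc,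
      ← Functor.map_comp]
  have hφ : ∀ i, ∃ φ : T ⟶ F, φ ≫ fk = d ∧ φ ≫ fU = ℓo i ≫ w := by
    intro i
    obtain ⟨φ, hφ⟩ := (AlgSp.yon S).map_surjective (sqF.lift _ _ (hcomm i))
    refine ⟨φ, (AlgSp.yon S).map_injective ?_, (AlgSp.yon S).map_injective ?_⟩
    · rw [Functor.map_comp, hφ, sqF.lift_fst]
    · rw [Functor.map_comp, hφ, sqF.lift_snd]
  choose φ hφ1 hφ2 using hφ
  let dl : Spec (CommRingCat.of Ω) ⟶ Spec (CommRingCat.of p.K) := d.left
  let g : ∀ i, Spec (CommRingCat.of Ω) ⟶ Spec (CommRingCat.of A) := fun i => (φ i).left ≫ e.hom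
  have hg : ∀ i, g i ≫ Spec.map (CommRingCat.ofHom (algebraMap p.K A)) = dl := by
    intro i
    rw [← he, Category.assoc, e.hom_inv_id_assoc]
    exact congrArg (fun f : T ⟶ p.pt => f.left) (hφ1 i)
  have hfi : ∀ i, ((Spec.preimage (g i)).hom).comp (algebraMap p.K A) = (Spec.preimage dl).hom := by
    intro i
    have : CommRingCat.ofHom (algebraMap p.K A) ≫ Spec.preimage (g i) = Spec.preimage dl := by
      apply Spec.map_injective
      rw [Spec.map_comp, Spec.map_preimage, Spec.map_preimage, hg]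
    rw [← this]
    rfl
  have hinj : Function.Injective fun i => (Spec.preimage (g i)).hom := by
    intro i j hij
    by_contra hne
    have h1 : Spec.preimage (g i) = Spec.preimage (g j) := CommRingCat.hom_ext hij
    have h2 : g i = g j := by
      rw [← Spec.map_preimage (g i), h1, Spec.map_preimage]
    have h3 : (φ i).left = (φ j).left := by
      rw [← cancel_mono e.hom]; exact h2
    have h4 : ℓ i ≫ w.left = ℓ j ≫ w.left := by
      have hi := congrArg (fun f : T ⟶ U => f.left) (hφ2 i)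
      have hj := congrArg (fun f : T ⟶ U => f.left) (hφ2 j)
      change (φ i).left ≫ fU.left = ℓ i ≫ w.left at hi
      change (φ j).left ≫ fU.left = ℓ j ≫ w.left at hj
      rw [← hi, ← hj, h3]
    have h5 : ℓ i = ℓ j := left_ext sq _ _ (by rw [hℓ i, hℓ j]) h4
    exact hd i j hne Ω inferInstance (𝟙 _) (by rw [h5])
  have := card_le_finrank_of_ringHom (k := p.K) (A := A) (Ω := Ω) (Spec.preimage dl).hom _ _ hfi
    hinj
  change Module.finrank p.K A + 1 ≤ Module.finrank p.K A at this
  omega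

/-- over a decent space, the geometric fibre degree of the self fibre product of a quasi-compact
étale chart is finite at every point. -/
theorem exists_not_hasLifts (hX : AlgSp.IsAlgSpace X) (hdec : AlgSp.IsDecent X)
    [CompactSpace ↥U.left] (ha : AlgSp.RepWith @Etale a)
    (sq : IsPullback ((AlgSp.yon S).map pr) ((AlgSp.yon S).map w) a a) (u : ↥U.left) :
    ∃ n : ℕ, ¬ HasLifts n pr.left u :=
  exists_not_hasLifts_of_point hX ha sq u (hdec (AlgSp.Points.ofPt a u))

end Groth.Agent.R2.H46.DegSp
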