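import Mathlib
import Groth.Prelude.Def_AlgSpDec
import Groth.Agent.S9920
import Groth.Agent.S10176
import Groth.Agent.S10177
import Groth.Agent.Lib.Helper12OpenSub2
import Groth.Agent.Lib.Helper12LargestOpen

/-!
# Sobriety of the space of points of a quasi-separated algebraic space (helper46)

* `nonempty_sInter_of_constructible`: compactness of the constructible topology of a spectral space,
  in the form of the finite intersection property for closed and compact open sets.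
* `exists_isGenericPoint_of_isCompact_saturation`: for a continuous open map `a : U → P` from a
  spectral space such that saturations of compact opens are compact, irreducible closed subsets of
  `P` meeting the image have generic points.
* `quasiSober_of_isQuasiSeparatedSp`: `|X|` is quasi-sober for `X` quasi-separated over `S`.
* `quasiSober_of_open_cover'`, `t0Space_of_open_cover'`: glueing along jointly surjective families
  of open embeddings.
-/

set_option autoImplicit false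
set_option linter.style.haveILetI false
universe u
open CategoryTheory CategoryTheory.Limits AlgebraicGeometry Topology TopologicalSpace

namespace Groth.Agent.R2.H46.Sober


section Top

variable {X : Type*} [TopologicalSpace X]

lemma isClosed_constructibleTopology_of_isCompact_isOpen {s : Set X} (hs : IsCompact s)
    (ho : IsOpen s) : IsClosed[constructibleTopology X] s := by
  rw [← @isOpen_compl_iff _ _ (constructibleTopology X)]
  exact IsCompact.isOpen_constructibleTopology_of_isClosed (by rwa [compl_compl])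
    ho.isClosed_compl

lemma isClosed_constructibleTopology_of_isClosed [PrespectralSpace X] {s : Set X}
    (hs : IsClosed s) : IsClosed[constructibleTopology X] s := by
  rw [← @isOpen_compl_iff _ _ (constructibleTopology X)]
  obtain ⟨B, hB, hBs⟩ := PrespectralSpace.isTopologicalBasis.open_eq_sUnion hs.isOpen_compl
  rw [hBs]
  exact @isOpen_sUnion _ (constructibleTopology X) _ fun t ht =>
    (hB ht).2.isOpen_constructibleTopology_of_isOpen (hB ht).1

/-- in a spectral space, a family of sets each closed or compact open with the finite intersection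
property has nonempty intersection. -/
lemma nonempty_sInter_of_constructible [CompactSpace X] [QuasiSober X] [PrespectralSpace X]
    [QuasiSeparatedSpace X] (𝓑 : Set (Set X))
    (h𝓑 : ∀ s ∈ 𝓑, IsClosed s ∨ (IsCompact s ∧ IsOpen s))
    (hfip : ∀ 𝓒 ⊆ 𝓑, 𝓒.Finite → (⋂₀ 𝓒).Nonempty) : (⋂₀ 𝓑).Nonempty := by
  have hcl : ∀ s ∈ 𝓑, IsClosed[constructibleTopology X] s := by
    intro s hs
    rcases h𝓑 s hs with h | h
    · exact isClosed_constructibleTopology_of_isClosed h
    · exact isClosed_constructibleTopology_of_isCompact_isOpen h.1 h.2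
  let φ : WithConstructibleTopology X → X := WithTopology.ofTopology
  have h1 : (⋂₀ ((fun s : Set X => φ ⁻¹' s) '' 𝓑)).Nonempty := by
    apply CompactSpace.nonempty_sInter
    · rintro _ ⟨s, hs, rfl⟩
      rw [WithConstructibleTopology.isClosed_iff]
      exact hcl s hs
    · intro 𝓒 h𝓒 h𝓒f
      obtain ⟨𝓓, h𝓓, h𝓓f, rfl⟩ : ∃ 𝓓 ⊆ 𝓑, 𝓓.Finite ∧ (fun s : Set X => φ ⁻¹' s) '' 𝓓 = 𝓒 := by
        exact Set.exists_subset_image_finite_and.1 ⟨𝓒, h𝓒, h𝓒f, rfl⟩ |> fun ⟨D, hD, hDf, hDe⟩ =>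
          ⟨D, hD, hDf, hDe.symm⟩
      obtain ⟨x, hx⟩ := hfip 𝓓 h𝓓 h𝓓f
      refine ⟨WithTopology.toTopology _ x, ?_⟩
      rintro _ ⟨s, hs, rfl⟩
      exact hx s hs
  obtain ⟨y, hy⟩ := h1
  refine ⟨φ y, fun s hs => ?_⟩
  exact hy _ ⟨s, hs, rfl⟩

/-- a continuous open map from a spectral space such that saturations of compact opens are compact:
every irreducible closed subset of the target meeting the image has a generic point. -/
theorem exists_isGenericPoint_of_isCompact_saturation {U P : Type*} [TopologicalSpace U]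
    [TopologicalSpace P] [CompactSpace U] [QuasiSober U] [PrespectralSpace U]
    [QuasiSeparatedSpace U] (a : U → P) (hac : Continuous a) (hao : IsOpenMap a)
    (hsat : ∀ D : Set U, IsOpen D → IsCompact D → IsCompact (a ⁻¹' (a '' D)))
    (T : Set P) (hT : IsPreirreducible T) (hTc : IsClosed T)
    (hne : (T ∩ Set.range a).Nonempty) : ∃ η, IsGenericPoint η T := by
  let Z : Set U := a ⁻¹' T
  have hZc : IsClosed Z := hTc.preimage hac
  let 𝓕 : Set (Set U) := {D | IsOpen D ∧ IsCompact D ∧ a ⁻¹' (a '' D) = D ∧ (D ∩ Z).Nonempty}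
  have hinter : ∀ D₁ ∈ 𝓕, ∀ D₂ ∈ 𝓕, D₁ ∩ D₂ ∈ 𝓕 := by
    rintro D₁ ⟨ho₁, hc₁, hs₁, hn₁⟩ D₂ ⟨ho₂, hc₂, hs₂, hn₂⟩
    refine ⟨ho₁.inter ho₂, QuasiSeparatedSpace.inter_isCompact D₁ D₂ ho₁ hc₁ ho₂ hc₂, ?_, ?_⟩
    · apply Set.Subset.antisymm _ (Set.subset_preimage_image a _)
      intro x hx
      obtain ⟨y, hy, hyx⟩ := hx
      constructor
      · rw [← hs₁]; exact ⟨y, hy.1, hyx⟩
      · rw [← hs₂]; exact ⟨y, hy.2, hyx⟩
    · obtain ⟨d₁, hd₁, hd₁Z⟩ := hn₁
      obtain ⟨d₂, hd₂, hd₂Z⟩ := hn₂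
      obtain ⟨t, htT, ⟨e₁, he₁, rfl⟩, ⟨e₂, he₂, he⟩⟩ := hT (a '' D₁) (a '' D₂) (hao _ ho₁) (hao _ ho₂)
        ⟨a d₁, hd₁Z, d₁, hd₁, rfl⟩ ⟨a d₂, hd₂Z, d₂, hd₂, rfl⟩
      refine ⟨e₁, ⟨he₁, ?_⟩, htT⟩
      rw [← hs₂]
      exact ⟨e₂, he₂, he⟩
  have hUmem : Set.univ ∈ 𝓕 := by
    refine ⟨isOpen_univ, isCompact_univ, by simp, ?_⟩
    obtain ⟨t, ht, u, rfl⟩ := hne
    exact ⟨u, trivial, ht⟩
  have hfin : ∀ 𝓒 : Set (Set U), 𝓒.Finite → 𝓒 ⊆ 𝓕 → ⋂₀ 𝓒 ∈ 𝓕 := by
    intro 𝓒 h𝓒
    induction 𝓒, h𝓒 using Set.Finite.induction_on with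
    | empty => intro _; simpa using hUmem
    | insert _ _ ih =>
      intro hsub
      rw [Set.sInter_insert]
      exact hinter _ (hsub (Set.mem_insert _ _)) _ (ih fun s hs => hsub (Set.mem_insert_of_mem _ hs))
  -- a point of `Z` in all members of `𝓕`
  obtain ⟨z, hz⟩ : (⋂₀ (insert Z 𝓕)).Nonempty := by
    apply nonempty_sInter_of_constructible
    · rintro s (rfl | hs)
      · exact Or.inl hZc
      · exact Or.inr ⟨hs.2.1, hs.1⟩
    · intro 𝓒 h𝓒 h𝓒f
      have h1 : (𝓒 \ {Z}) ⊆ 𝓕 := by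
        rintro s ⟨hs, hsZ⟩
        rcases h𝓒 hs with rfl | h
        · exact absurd rfl hsZ
        · exact h
      obtain ⟨x, hxD, hxZ⟩ := (hfin _ (h𝓒f.subset Set.sdiff_subset) h1).2.2.2
      refine ⟨x, fun s hs => ?_⟩
      by_cases hsZ : s = Z
      · rw [hsZ]; exact hxZ
      · exact hxD s ⟨hs, hsZ⟩
  have hzZ : z ∈ Z := hz Z (Set.mem_insert _ _)
  refine ⟨a z, ?_⟩
  change closure {a z} = T
  apply Set.Subset.antisymm (hTc.closure_subset_iff.2 (Set.singleton_subset_iff.2 hzZ))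
  intro t ht
  rw [mem_closure_iff]
  intro O hO htO
  obtain ⟨t', ht'T, ht'O, w, rfl⟩ := hT O (Set.range a) hO hao.isOpen_range ⟨t, ht, htO⟩ hne
  obtain ⟨D₀, ⟨hD₀o, hD₀c⟩, hwD₀, hD₀O⟩ :=
    PrespectralSpace.isTopologicalBasis.exists_subset_of_mem_open
      (show w ∈ a ⁻¹' O from ht'O) (hO.preimage hac)
  have hD : a ⁻¹' (a '' D₀) ∈ 𝓕 := by
    refine ⟨(hao _ hD₀o).preimage hac, hsat D₀ hD₀o hD₀c, ?_, ⟨w, ⟨w, hwD₀, rfl⟩, ht'T⟩⟩
    rw [Set.image_preimage_eq_inter_range, Set.preimage_inter, Set.preimage_range, Set.inter_univ]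
  obtain ⟨d, hd, hdz⟩ := hz _ (Set.mem_insert_of_mem _ hD)
  exact ⟨a z, by rw [← hdz]; exact hD₀O hd, rfl⟩

end Top


variable {S : Scheme.{u}}

/-- a fibre product over `S` of two affine schemes mapping into a common affine open of `S` is
quasi-compact. -/
lemma compactSpace_pullback_of_factors {A B S₀ : Scheme.{u}} [IsAffine A] [IsAffine B]
    [IsAffine S₀] (ι : S₀ ⟶ S) [Mono ι] (f : A ⟶ S₀) (g : B ⟶ S₀) :
    CompactSpace ↥(pullback (f ≫ ι) (g ≫ ι)) := by
  let e : pullback (f ≫ ι) (g ≫ ι) ≅ pullback f g :=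
    (limit.isLimit _).conePointUniqueUpToIso (pullbackIsPullbackOfCompMono f g ι)
  exact QuasiCompact.compactSpace_of_compactSpace e.hom

/-- every point of an algebraic space lies in the image of an affine etale chart whose self fibre
product over `S` is quasi-compact. -/
lemma exists_affine_chart_over_affine {X : AlgSp.Sp S} (hX : AlgSp.IsAlgSpace X)
    (x : AlgSp.Points X) :
    ∃ (V : Over S) (c : (AlgSp.yon S).obj V ⟶ X) (v : ↥V.left), IsAffine V.left ∧
      CompactSpace ↥(pullback V.hom V.hom) ∧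
      AlgSp.RepWith @Etale c ∧ AlgSp.Points.ofPt c v = x := by
  obtain ⟨U, a, hae, has⟩ := hX.atlas
  obtain ⟨u, hu⟩ := Groth.Agent.S10177.surjective_ofPt a has x
  obtain ⟨S₀, hS₀, hsS₀, -⟩ : ∃ V : S.Opens, V ∈ S.affineOpens ∧ U.hom u ∈ V ∧ V ≤ ⊤ :=
    TopologicalSpace.Opens.isBasis_iff_nbhd.1 S.isBasis_affineOpens
      (TopologicalSpace.Opens.mem_top _)
  obtain ⟨U₀, hU₀, huU, hU₀S⟩ : ∃ V : U.left.Opens, V ∈ U.left.affineOpens ∧ u ∈ V ∧
      V ≤ U.hom ⁻¹ᵁ S₀ :=
    TopologicalSpace.Opens.isBasis_iff_nbhd.1 U.left.isBasis_affineOpens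
      (show u ∈ U.hom ⁻¹ᵁ S₀ from hsS₀)
  let V : Over S := Over.mk (U₀.ι ≫ U.hom)
  let j : V ⟶ U := Over.homMk U₀.ι rfl
  haveI : IsAffine (↑U₀ : Scheme.{u}) := hU₀
  haveI : IsAffine (↑S₀ : Scheme.{u}) := hS₀
  have hrange : Set.range (U₀.ι ≫ U.hom) ⊆ Set.range S₀.ι := by
    rintro _ ⟨y, rfl⟩
    rw [Scheme.Opens.range_ι]
    exact hU₀S y.2
  let g : (↑U₀ : Scheme.{u}) ⟶ ↑S₀ := IsOpenImmersion.lift S₀.ι (U₀.ι ≫ U.hom) hrange
  have hg : g ≫ S₀.ι = U₀.ι ≫ U.hom := IsOpenImmersion.lift_fac _ _ _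
  refine ⟨V, (AlgSp.yon S).map j ≫ a, ⟨u, huU⟩, hU₀, ?_, ?_, ?_⟩
  · change CompactSpace ↥(pullback (U₀.ι ≫ U.hom) (U₀.ι ≫ U.hom))
    rw [← hg]
    exact compactSpace_pullback_of_factors S₀.ι g g
  · exact (AlgSp.RepWith @Etale).comp_mem _ _
      ((AlgSp.repWith_yon_map_iff _ _).2 (inferInstance : Etale U₀.ι)) hae
  · rw [Groth.Agent.S10176.ofPt_map_comp]; exact hu

/-- over a space quasi-separated over `S`: saturations of quasi-compact opens of a suitable
affine chart are quasi-compact. -/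
lemma isCompact_preimage_image_ofPt {X : AlgSp.Sp S} (hX : AlgSp.IsQuasiSeparatedSp X)
    {U : Over S} [IsAffine U.left] [CompactSpace ↥(pullback U.hom U.hom)]
    (a : (AlgSp.yon S).obj U ⟶ X) (ha : AlgSp.RepWith @Etale a) (D : Set ↥U.left)
    (hDo : IsOpen D) (hDc : IsCompact D) :
    IsCompact (AlgSp.Points.ofPt a ⁻¹' (AlgSp.Points.ofPt a '' D)) := by
  obtain ⟨W, w, pr', sq⟩ := ha.1 a
  obtain ⟨pr, rfl⟩ := (AlgSp.yon S).map_surjective pr'
  have hqc : QuasiCompact (prod.lift pr w).left := Groth.Agent.S9920.property_of_repWith_diag hX sq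
  haveI : CompactSpace ↥(U ⨯ U).left :=
    QuasiCompact.compactSpace_of_compactSpace (Over.prodLeftIsoPullback U U).hom
  haveI : CompactSpace ↥W.left := QuasiCompact.compactSpace_of_compactSpace (prod.lift pr w).left
  haveI : QuasiCompact pr.left := inferInstance
  rw [Groth.Agent.S10176.preimage_ofPt_image sq D]
  exact (QuasiCompact.isCompact_preimage (f := pr.left) D hDo hDc).image w.left.continuous


/-- the space of points of an algebraic space quasi-separated over the base is quasi-sober. -/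
theorem quasiSober_of_isQuasiSeparatedSp {X : AlgSp.Sp S} (hX : AlgSp.IsAlgSpace X)
    (hqs : AlgSp.IsQuasiSeparatedSp X) : QuasiSober (AlgSp.Points X) := by
  refine ⟨fun {T} hT hTc => ?_⟩
  obtain ⟨x, hx⟩ := hT.nonempty
  obtain ⟨V, c, v, hV, hVc, hce, hcv⟩ := exists_affine_chart_over_affine hX x
  haveI := hV
  haveI := hVc
  exact exists_isGenericPoint_of_isCompact_saturation (AlgSp.Points.ofPt c)
    (AlgSp.Points.continuous_ofPt c) (Groth.Agent.S10176.isOpenMap_ofPt c hce)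
    (fun D hDo hDc => isCompact_preimage_image_ofPt hqs c hce D hDo hDc) T hT.isPreirreducible hTc
    ⟨x, hx, v, hcv⟩

section Glue

variable {P : Type*} [TopologicalSpace P] {ι : Type*} {A : ι → Type*}
  [∀ i, TopologicalSpace (A i)] (e : ∀ i, A i → P) (he : ∀ i, IsOpenEmbedding (e i))
  (hcov : ∀ x : P, ∃ i, x ∈ Set.range (e i))

include he hcov

theorem quasiSober_of_open_cover' [∀ i, QuasiSober (A i)] : QuasiSober P := by
  haveI : ∀ s : (Set.range fun i => Set.range (e i)), QuasiSober ↥(s : Set P) := by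
    rintro ⟨_, i, rfl⟩
    exact (he i).isEmbedding.toHomeomorph.symm.isOpenEmbedding.quasiSober
  refine quasiSober_of_open_cover (Set.range fun i => Set.range (e i)) ?_ ?_
  · rintro ⟨_, i, rfl⟩
    exact (he i).isOpen_range
  · rw [Set.top_eq_univ, Set.eq_univ_iff_forall]
    intro x
    obtain ⟨i, hi⟩ := hcov x
    exact ⟨_, ⟨i, rfl⟩, hi⟩

theorem t0Space_of_open_cover' [∀ i, T0Space (A i)] : T0Space P := by
  refine T0Space.of_open_cover fun x => ?_
  obtain ⟨i, hi⟩ := hcov x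
  exact ⟨_, hi, (he i).isOpen_range,
    (he i).isEmbedding.toHomeomorph.symm.isEmbedding.t0Space⟩

end Glue

end Groth.Agent.R2.H46.Sober
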