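import Mathlib
import Groth.Agent.R2.H46Sober
import Groth.Agent.R2.H46DegStrat
import Groth.Agent.R2.H46DegSp

/-!
# The space of points of a decent algebraic space is quasi-sober (helper46)

The argument: on an affine étale chart `a : U → X` with self fibre product `R = U ×_X U`, the
geometric fibre degree of `R → U` is lower semicontinuous, finite everywhere (decency) and constant
on the fibres of `a`.  For an irreducible closed `T ⊆ |X|`, a Baire-type compactness argument in the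
constructible topology of `U` produces a nonempty compact open part of `a⁻¹(T)` on which the degree
is constant; there `R → U` is quasi-compact, and a second compactness argument produces a point of
`a⁻¹(T)` lying in every nonempty saturated compact open, whose image is a generic point of `T`.
-/

set_option autoImplicit false
set_option linter.style.haveILetI false
universe u
open CategoryTheory CategoryTheory.Limits AlgebraicGeometry Topology TopologicalSpace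

namespace Groth.Agent.R2.H46.DecentSober

open Groth.Agent.R2.H46.Sober

section Top

variable {U P : Type*} [TopologicalSpace U] [TopologicalSpace P]

/-- a compact relatively open subset of a closed set in a prespectral space is cut out by a
compact open. -/
lemma exists_isCompact_isOpen_inter_eq [PrespectralSpace U] {O Z : Set U} (hO : IsOpen O)
    (hc : IsCompact (O ∩ Z)) : ∃ D, IsOpen D ∧ IsCompact D ∧ D ⊆ O ∧ D ∩ Z = O ∩ Z := by
  obtain ⟨D, hDc, hDo, hKD, hDO⟩ :=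
    PrespectralSpace.exists_isCompact_and_isOpen_between hc hO Set.inter_subset_left
  refine ⟨D, hDo, hDc, hDO, Set.Subset.antisymm ?_ ?_⟩
  · exact fun x hx => ⟨hDO hx.1, hx.2⟩
  · exact fun x hx => ⟨hKD hx, hx.2⟩

/-- variant of `exists_isGenericPoint_of_isCompact_saturation` where the compactness of
saturations is only required inside a compact open subset `V'`, relative to `a ⁻¹' T`. -/
theorem exists_isGenericPoint_of_isCompact_saturation' [CompactSpace U] [QuasiSober U]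
    [PrespectralSpace U] [QuasiSeparatedSpace U] (a : U → P) (hac : Continuous a)
    (hao : IsOpenMap a) (T : Set P) (hT : IsPreirreducible T) (hTc : IsClosed T)
    (V' : Set U) (hV'o : IsOpen V') (hV'c : IsCompact V') (hne : (V' ∩ a ⁻¹' T).Nonempty)
    (hsat : ∀ D : Set U, IsOpen D → IsCompact D → D ⊆ V' →
      IsCompact (a ⁻¹' (a '' (D ∩ a ⁻¹' T)) ∩ V')) : ∃ η, IsGenericPoint η T := by
  let Z : Set U := a ⁻¹' T
  have hZc : IsClosed Z := hTc.preimage hac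
  have himg : ∀ D : Set U, a '' (D ∩ Z) = a '' D ∩ T := fun D => Set.image_inter_preimage a D T
  let 𝓖 : Set (Set U) := {D | IsOpen D ∧ IsCompact D ∧ D ⊆ V' ∧ (D ∩ Z).Nonempty ∧
    a ⁻¹' (a '' (D ∩ Z)) ∩ V' = D ∩ Z}
  have hinter : ∀ D₁ ∈ 𝓖, ∀ D₂ ∈ 𝓖, D₁ ∩ D₂ ∈ 𝓖 := by
    rintro D₁ ⟨ho₁, hc₁, hV₁, hn₁, hs₁⟩ D₂ ⟨ho₂, hc₂, hV₂, hn₂, hs₂⟩
    refine ⟨ho₁.inter ho₂, QuasiSeparatedSpace.inter_isCompact D₁ D₂ ho₁ hc₁ ho₂ hc₂,
      Set.inter_subset_left.trans hV₁, ?_, ?_⟩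
    · obtain ⟨d₁, hd₁, hd₁Z⟩ := hn₁
      obtain ⟨d₂, hd₂, hd₂Z⟩ := hn₂
      obtain ⟨t, htT, ⟨e₁, he₁, rfl⟩, ⟨e₂, he₂, he⟩⟩ := hT (a '' D₁) (a '' D₂) (hao _ ho₁)
        (hao _ ho₂) ⟨a d₁, hd₁Z, d₁, hd₁, rfl⟩ ⟨a d₂, hd₂Z, d₂, hd₂, rfl⟩
      have h2 : e₁ ∈ D₂ ∩ Z := by
        rw [← hs₂]
        exact ⟨⟨e₂, ⟨he₂, by change a e₂ ∈ T; rw [he]; exact htT⟩, he⟩, hV₁ he₁⟩
      exact ⟨e₁, ⟨he₁, h2.1⟩, htT⟩
    · apply Set.Subset.antisymm
      · rintro x ⟨⟨y, ⟨⟨hy1, hy2⟩, hyZ⟩, hyx⟩, hxV⟩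
        have h1 : x ∈ D₁ ∩ Z := by rw [← hs₁]; exact ⟨⟨y, ⟨hy1, hyZ⟩, hyx⟩, hxV⟩
        have h2 : x ∈ D₂ ∩ Z := by rw [← hs₂]; exact ⟨⟨y, ⟨hy2, hyZ⟩, hyx⟩, hxV⟩
        exact ⟨⟨h1.1, h2.1⟩, h1.2⟩
      · rintro x ⟨⟨hx1, hx2⟩, hxZ⟩
        exact ⟨⟨x, ⟨⟨hx1, hx2⟩, hxZ⟩, rfl⟩, hV₁ hx1⟩
  have hVmem : V' ∈ 𝓖 := by
    refine ⟨hV'o, hV'c, subset_rfl, hne, Set.Subset.antisymm ?_ ?_⟩
    · rintro x ⟨⟨y, hy, hyx⟩, hxV⟩
      exact ⟨hxV, by change a x ∈ T; rw [← hyx]; exact hy.2⟩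
    · exact fun x hx => ⟨⟨x, hx, rfl⟩, hx.1⟩
  have hfin : ∀ 𝓒 : Set (Set U), 𝓒.Finite → 𝓒 ⊆ 𝓖 → V' ∩ ⋂₀ 𝓒 ∈ 𝓖 := by
    intro 𝓒 h𝓒
    induction 𝓒, h𝓒 using Set.Finite.induction_on with
    | empty => intro _; simpa using hVmem
    | @insert s _ _ _ ih =>
      intro hsub
      rw [Set.sInter_insert, ← Set.inter_assoc, Set.inter_comm V' s, Set.inter_assoc]
      exact hinter _ (hsub (Set.mem_insert _ _)) _ (ih fun s hs => hsub (Set.mem_insert_of_mem _ hs))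
  obtain ⟨z, hz⟩ : (⋂₀ (insert Z 𝓖)).Nonempty := by
    apply nonempty_sInter_of_constructible
    · rintro s (rfl | hs)
      · exact Or.inl hZc
      · exact Or.inr ⟨hs.2.1, hs.1⟩
    · intro 𝓒 h𝓒 h𝓒f
      have h1 : (𝓒 \ {Z}) ⊆ 𝓖 := by
        rintro s ⟨hs, hsZ⟩
        rcases h𝓒 hs with rfl | h
        · exact absurd rfl hsZ
        · exact h
      obtain ⟨x, ⟨-, hxD⟩, hxZ⟩ := (hfin _ (h𝓒f.subset Set.sdiff_subset) h1).2.2.2.1
      refine ⟨x, fun s hs => ?_⟩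
      by_cases hsZ : s = Z
      · rw [hsZ]; exact hxZ
      · exact hxD s ⟨hs, hsZ⟩
  have hzZ : z ∈ Z := hz Z (Set.mem_insert _ _)
  refine ⟨a z, ?_⟩
  change closure {a z} = T
  apply Set.Subset.antisymm (hTc.closure_subset_iff.2 (Set.singleton_subset_iff.2 hzZ))
  intro t ht
  rw [mem_closure_iff]
  intro O hO htO
  obtain ⟨w₀, hw₀V, hw₀Z⟩ := hne
  obtain ⟨t', ht'T, ht'O, w, hwV, rfl⟩ := hT O (a '' V') hO (hao _ hV'o) ⟨t, ht, htO⟩
    ⟨a w₀, hw₀Z, w₀, hw₀V, rfl⟩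
  obtain ⟨D₀, ⟨hD₀o, hD₀c⟩, hwD₀, hD₀O⟩ :=
    PrespectralSpace.isTopologicalBasis.exists_subset_of_mem_open
      (show w ∈ a ⁻¹' O ∩ V' from ⟨ht'O, hwV⟩) ((hO.preimage hac).inter hV'o)
  have hD₀V : D₀ ⊆ V' := fun x hx => (hD₀O hx).2
  have hEeq : a ⁻¹' (a '' (D₀ ∩ Z)) ∩ V' = (a ⁻¹' (a '' D₀) ∩ V') ∩ Z := by
    rw [himg]
    ext x
    constructor
    · rintro ⟨⟨h1, h2⟩, h3⟩; exact ⟨⟨h1, h3⟩, h2⟩
    · rintro ⟨⟨h1, h3⟩, h2⟩; exact ⟨⟨h1, h2⟩, h3⟩
  have hEc := hsat D₀ hD₀o hD₀c hD₀V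
  rw [hEeq] at hEc
  obtain ⟨D, hDo, hDc, hDO', hDZ⟩ :=
    exists_isCompact_isOpen_inter_eq (((hao _ hD₀o).preimage hac).inter hV'o) hEc
  have hD : D ∈ 𝓖 := by
    refine ⟨hDo, hDc, fun x hx => (hDO' hx).2, ?_, ?_⟩
    · rw [hDZ]
      exact ⟨w, ⟨⟨w, hwD₀, rfl⟩, hwV⟩, ht'T⟩
    · rw [hDZ, ← hEeq]
      apply Set.Subset.antisymm
      · rintro x ⟨⟨y, ⟨⟨y', hy', hy'y⟩, -⟩, hyx⟩, hxV⟩
        exact ⟨⟨y', hy', hy'y.trans hyx⟩, hxV⟩
      · exact fun x hx => ⟨⟨x, hx, rfl⟩, hx.2⟩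
  have hzD : z ∈ D ∩ Z := ⟨hz _ (Set.mem_insert_of_mem _ hD), hzZ⟩
  rw [hDZ] at hzD
  obtain ⟨⟨⟨d, hd, hdz⟩, -⟩, -⟩ := hzD
  exact ⟨a z, by rw [← hdz]; exact (hD₀O hd).1, rfl⟩

/-- Baire-type argument: a decreasing sequence of saturated open sets with empty intersection is
eventually disjoint from the preimage of an irreducible closed set; hence the "degree" is constant
on a nonempty compact open part of that preimage. -/
theorem exists_isCompact_isOpen_const [CompactSpace U] [QuasiSober U]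
    [PrespectralSpace U] [QuasiSeparatedSpace U] (a : U → P) (hac : Continuous a)
    (hao : IsOpenMap a) (T : Set P) (hT : IsPreirreducible T) (hTc : IsClosed T)
    (hne : (a ⁻¹' T).Nonempty) (O : ℕ → Set U) (hOo : ∀ n, IsOpen (O n))
    (hOsat : ∀ n u u', a u = a u' → u ∈ O n → u' ∈ O n) (hO0 : O 0 = Set.univ)
    (hOfin : ∀ u, ∃ n, u ∉ O n) :
    ∃ (n : ℕ) (V' : Set U), IsOpen V' ∧ IsCompact V' ∧ (V' ∩ a ⁻¹' T).Nonempty ∧
      ∀ z ∈ V' ∩ a ⁻¹' T, z ∈ O n ∧ z ∉ O (n + 1) := by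
  let Z : Set U := a ⁻¹' T
  have hZc : IsClosed Z := hTc.preimage hac
  -- some `O n` misses `Z`
  have hex : ∃ n, O n ∩ Z = ∅ := by
    by_contra hcon
    push Not at hcon
    have hstep : ∀ (n : ℕ) (D : {D : Set U // IsOpen D ∧ IsCompact D ∧ (D ∩ Z).Nonempty}),
        ∃ D' : {D : Set U // IsOpen D ∧ IsCompact D ∧ (D ∩ Z).Nonempty},
          D'.1 ⊆ D.1 ∩ O (n + 1) := by
      rintro n ⟨D, hDo, hDc, d, hdD, hdZ⟩
      obtain ⟨o, hoO, hoZ⟩ := hcon (n + 1)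
      obtain ⟨t, htT, ⟨e₁, he₁, rfl⟩, ⟨e₂, he₂, he⟩⟩ := hT (a '' D) (a '' O (n + 1)) (hao _ hDo)
        (hao _ (hOo _)) ⟨a d, hdZ, d, hdD, rfl⟩ ⟨a o, hoZ, o, hoO, rfl⟩
      have he₁O : e₁ ∈ O (n + 1) := hOsat _ e₂ e₁ he he₂
      obtain ⟨D', ⟨hD'o, hD'c⟩, he₁D', hD'sub⟩ :=
        PrespectralSpace.isTopologicalBasis.exists_subset_of_mem_open
          (show e₁ ∈ D ∩ O (n + 1) from ⟨he₁, he₁O⟩) (hDo.inter (hOo _))
      exact ⟨⟨D', hD'o, hD'c, e₁, he₁D', htT⟩, hD'sub⟩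
    choose step hstep' using hstep
    let seq : ℕ → {D : Set U // IsOpen D ∧ IsCompact D ∧ (D ∩ Z).Nonempty} := fun n =>
      Nat.rec ⟨Set.univ, isOpen_univ, isCompact_univ, by simpa using hne⟩ (fun n D => step n D) n
    have hseq : ∀ n, (seq (n + 1)).1 ⊆ (seq n).1 ∩ O (n + 1) := fun n => hstep' n (seq n)
    have hanti : Antitone fun n => (seq n).1 :=
      antitone_nat_of_succ_le fun n => (hseq n).trans Set.inter_subset_left
    obtain ⟨z, hz⟩ : (⋂₀ (insert Z (Set.range fun n => (seq n).1))).Nonempty := by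
      apply nonempty_sInter_of_constructible
      · rintro s (rfl | ⟨n, rfl⟩)
        · exact Or.inl hZc
        · exact Or.inr ⟨(seq n).2.2.1, (seq n).2.1⟩
      · intro 𝓒 h𝓒 h𝓒f
        have : ∃ N, (seq N).1 ∩ Z ⊆ ⋂₀ 𝓒 := by
          induction 𝓒, h𝓒f using Set.Finite.induction_on with
          | empty => exact ⟨0, by simp⟩
          | @insert s 𝓒' _ _ ih =>
            obtain ⟨N, hN⟩ := ih ((Set.subset_insert _ _).trans h𝓒)
            rcases h𝓒 (Set.mem_insert _ _) with rfl | ⟨n, rfl⟩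
            · refine ⟨N, ?_⟩
              rw [Set.sInter_insert]
              exact Set.subset_inter Set.inter_subset_right hN
            · refine ⟨max N n, ?_⟩
              rw [Set.sInter_insert]
              refine Set.subset_inter ?_ ?_
              · exact Set.inter_subset_left.trans (hanti (le_max_right N n))
              · exact (Set.inter_subset_inter_left _ (hanti (le_max_left N n))).trans hN
        obtain ⟨N, hN⟩ := this
        exact (seq N).2.2.2.mono hN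
    obtain ⟨n, hn⟩ := hOfin z
    apply hn
    cases n with
    | zero => rw [hO0]; trivial
    | succ n => exact (hseq n (hz _ (Set.mem_insert_of_mem _ ⟨n + 1, rfl⟩))).2
  classical
  have hfind := Nat.find_spec hex
  have hmin := fun m => Nat.find_min hex (m := m)
  have hpos : Nat.find hex ≠ 0 := by
    intro h0
    rw [h0, hO0, Set.univ_inter] at hfind
    exact hne.ne_empty hfind
  obtain ⟨n, hn⟩ := Nat.exists_eq_succ_of_ne_zero hpos
  have hnon : (O n ∩ Z).Nonempty :=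
    Set.nonempty_iff_ne_empty.2 (hmin n (by rw [hn]; exact Nat.lt_succ_self n))
  obtain ⟨d, hdO, hdZ⟩ := hnon
  obtain ⟨V', ⟨hV'o, hV'c⟩, hdV', hV'O⟩ :=
    PrespectralSpace.isTopologicalBasis.exists_subset_of_mem_open hdO (hOo n)
  refine ⟨n, V', hV'o, hV'c, ⟨d, hdV', hdZ⟩, fun z hz => ⟨hV'O hz.1, fun hzO => ?_⟩⟩
  rw [hn] at hfind
  exact (Set.eq_empty_iff_forall_notMem.1 hfind z) ⟨hzO, hz.2⟩

end Top

section Sp

open Groth.Agent.R2.H46.DegStrat Groth.Agent.R2.H46.DegSp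

variable {S : Scheme.{u}} {X : AlgSp.Sp S}

/-- the part of the preimage of a compact open lying in a quasi-compact open is quasi-compact. -/
lemma isCompact_preimage_inter_opens {A B : Scheme.{u}} (f : A ⟶ B) [QuasiSeparatedSpace ↥B]
    (P : A.Opens) (hP : IsCompact (P : Set ↥A)) (D : Set ↥B) (hDo : IsOpen D) (hDc : IsCompact D) :
    IsCompact (f ⁻¹' D ∩ (P : Set ↥A)) := by
  haveI : CompactSpace ↥(↑P : Scheme.{u}) := isCompact_iff_compactSpace.1 hP
  haveI : QuasiCompact (P.ι ≫ f) := inferInstance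
  have h1 : IsCompact ((P.ι ≫ f) ⁻¹' D) := QuasiCompact.isCompact_preimage (f := P.ι ≫ f) D hDo hDc
  have h2 : f ⁻¹' D ∩ (P : Set ↥A) = P.ι '' ((P.ι ≫ f) ⁻¹' D) := by
    ext x
    constructor
    · rintro ⟨hxD, hxP⟩
      exact ⟨⟨x, hxP⟩, hxD, rfl⟩
    · rintro ⟨y, hy, rfl⟩
      exact ⟨hy, y.2⟩
  rw [h2]
  exact h1.image P.ι.continuous

variable {U W : Over S} {a : (AlgSp.yon S).obj U ⟶ X} {pr w : W ⟶ U}

/-- the first projection of the self fibre product of a chart from an affine scheme is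
separated. -/
lemma isSeparated_pr (sq : IsPullback ((AlgSp.yon S).map pr) ((AlgSp.yon S).map w) a a)
    [IsAffine U.left] : IsSeparated pr.left := by
  haveI hmono : Mono (prod.lift pr w) := by
    refine ⟨fun {T} f₁ f₂ h => ?_⟩
    apply (AlgSp.yon S).map_injective
    apply sq.hom_ext
    · rw [← Functor.map_comp, ← Functor.map_comp]
      congr 1
      have := congrArg (· ≫ (prod.fst : U ⨯ U ⟶ U)) h
      simpa only [Category.assoc, prod.lift_fst] using this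
    · rw [← Functor.map_comp, ← Functor.map_comp]
      congr 1
      have := congrArg (· ≫ (prod.snd : U ⨯ U ⟶ U)) h
      simpa only [Category.assoc, prod.lift_snd] using this
  haveI : IsSeparated (prod.fst : U ⨯ U ⟶ U).left := by
    rw [← Over.prodLeftIsoPullback_hom_fst]
    infer_instance
  have h : pr.left = (prod.lift pr w).left ≫ (prod.fst : U ⨯ U ⟶ U).left := by
    rw [← Over.comp_left, prod.lift_fst]
  rw [h]
  infer_instance

/-- where the geometric fibre degree is constant, saturations of compact opens are compact. -/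
lemma isCompact_saturation_of_const
    (sq : IsPullback ((AlgSp.yon S).map pr) ((AlgSp.yon S).map w) a a) [IsAffine U.left]
    [Etale pr.left] [IsSeparated pr.left] (T : Set (AlgSp.Points X)) (hTc : IsClosed T) (n : ℕ)
    (V' : Set ↥U.left) (hV'o : IsOpen V') (hV'c : IsCompact V')
    (hconst : ∀ z ∈ V' ∩ AlgSp.Points.ofPt a ⁻¹' T,
      DegGE n pr.left z ∧ ¬ DegGE (n + 1) pr.left z)
    (D : Set ↥U.left) (hDo : IsOpen D) (hDc : IsCompact D) (hDV : D ⊆ V') :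
    IsCompact (AlgSp.Points.ofPt a ⁻¹' (AlgSp.Points.ofPt a '' (D ∩ AlgSp.Points.ofPt a ⁻¹' T)) ∩
      V') := by
  have hZc : IsClosed (AlgSp.Points.ofPt a ⁻¹' T) := hTc.preimage (AlgSp.Points.continuous_ofPt a)
  obtain ⟨P, hPc, hKP⟩ := exists_isCompact_opens_fibre_subset n pr.left
    (V' ∩ AlgSp.Points.ofPt a ⁻¹' T) (hV'c.inter_right hZc) hconst
  haveI : QuasiSeparatedSpace ↥W.left := quasiSeparatedSpace_of_quasiSeparated pr.left
  rw [Groth.Agent.S10176.preimage_ofPt_image sq]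
  have hset : w.left '' (pr.left ⁻¹' (D ∩ AlgSp.Points.ofPt a ⁻¹' T)) ∩ V' =
      w.left '' (((pr.left ⁻¹' D ∩ (P : Set ↥W.left)) ∩ (w.left ⁻¹' V' ∩ (P : Set ↥W.left))) ∩
        pr.left ⁻¹' (AlgSp.Points.ofPt a ⁻¹' T)) := by
    ext x
    constructor
    · rintro ⟨⟨y, ⟨hyD, hyZ⟩, rfl⟩, hxV⟩
      have hyP : y ∈ (P : Set ↥W.left) := hKP ⟨hDV hyD, hyZ⟩
      exact ⟨y, ⟨⟨⟨hyD, hyP⟩, ⟨hxV, hyP⟩⟩, hyZ⟩, rfl⟩
    · rintro ⟨y, ⟨⟨⟨hyD, -⟩, ⟨hyV, -⟩⟩, hyZ⟩, rfl⟩
      exact ⟨⟨y, ⟨hyD, hyZ⟩, rfl⟩, hyV⟩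
  rw [hset]
  refine IsCompact.image ?_ w.left.continuous
  refine IsCompact.inter_right ?_ (hZc.preimage pr.left.continuous)
  refine QuasiSeparatedSpace.inter_isCompact _ _ ?_ ?_ ?_ ?_
  · exact (hDo.preimage pr.left.continuous).inter P.2
  · exact isCompact_preimage_inter_opens pr.left P hPc D hDo hDc
  · exact (hV'o.preimage w.left.continuous).inter P.2
  · exact isCompact_preimage_inter_opens w.left P hPc V' hV'o hV'c

/-- the space of points of a decent algebraic space is quasi-sober. -/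
theorem quasiSober_of_isDecent (hX : AlgSp.IsAlgSpace X) (hdec : AlgSp.IsDecent X) :
    QuasiSober (AlgSp.Points X) := by
  refine ⟨fun {T} hT hTc => ?_⟩
  obtain ⟨x, hx⟩ := hT.nonempty
  obtain ⟨U, a, u, hU, -, hae, hau⟩ := exists_affine_chart_over_affine hX x
  haveI := hU
  obtain ⟨W, w, pr', sq⟩ := hae.1 a
  obtain ⟨pr, rfl⟩ := (AlgSp.yon S).map_surjective pr'
  haveI : Etale pr.left := hae.2 a _ pr sq.flip
  haveI : IsSeparated pr.left := isSeparated_pr sq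
  have hZne : (AlgSp.Points.ofPt a ⁻¹' T).Nonempty := ⟨u, by change _ ∈ T; rw [hau]; exact hx⟩
  obtain ⟨n, V', hV'o, hV'c, hV'ne, hconst⟩ := exists_isCompact_isOpen_const (AlgSp.Points.ofPt a)
    (AlgSp.Points.continuous_ofPt a) (Groth.Agent.S10176.isOpenMap_ofPt a hae) T
    hT.isPreirreducible hTc hZne (fun n => {u | DegGE n pr.left u})
    (fun n => isOpen_setOf_degGE n pr.left)
    (fun n u u' huu' hu => degGE_of_hasLifts n pr.left u'
      (hasLifts_of_ofPt_eq sq n u u' huu' (hasLifts_of_degGE n pr.left u hu)))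
    (by ext; simp [DegGE])
    (fun u => by
      obtain ⟨n, hn⟩ := exists_not_hasLifts hX hdec hae sq u
      exact ⟨n, fun h => hn (hasLifts_of_degGE n pr.left u h)⟩)
  exact exists_isGenericPoint_of_isCompact_saturation' (AlgSp.Points.ofPt a)
    (AlgSp.Points.continuous_ofPt a) (Groth.Agent.S10176.isOpenMap_ofPt a hae) T
    hT.isPreirreducible hTc V' hV'o hV'c hV'ne
    (fun D hDo hDc hDV => isCompact_saturation_of_const sq T hTc n V' hV'o hV'c hconst D hDo hDc hDV)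

end Sp

end Groth.Agent.R2.H46.DecentSober
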