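import Mathlib
import Groth.Agent.R2.H46DecentSober
import Groth.Agent.R2.H46ConstDeg
import Groth.Agent.R2.H45FinEtQuot2
import Groth.Agent.R2.H25DenseOpen
import Groth.Agent.R2.H25KerGrpd
import Groth.Agent.R2.H25DecentPts
import Groth.Agent.R2.H25CodimZero
import Groth.Agent.S10352

/-!
# A decent algebraic space has a dense open subscheme (helper46)

On an affine étale chart `a : U → X` with kernel pair `R ⇉ U`, the geometric fibre degree of
`R → U` is lower semicontinuous, finite (decency) and constant on the fibres of `a`.  A Baire-type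
argument in the constructible topology gives a nonempty invariant open `V ⊆ U` on which the degree
is constant; over it `R → U` is finite étale, so the image of `V` in `X` is a finite étale quotient
of a quasi-separated scheme, which has a dense open subscheme (helper25).  Gluing such open
subschemes inside every nonempty open of `X` gives a dense open subscheme.
-/

set_option autoImplicit false
set_option linter.style.haveILetI false
universe u
open CategoryTheory CategoryTheory.Limits AlgebraicGeometry Topology TopologicalSpace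

namespace Groth.Agent.R2.H46.DecentSch

open Groth.Agent.R2.H46.Sober

section Top

variable {U P : Type*} [TopologicalSpace U] [TopologicalSpace P]

/-- Baire-type argument: a sequence of saturated open sets of a spectral space, starting with the
whole space and with empty intersection, is "constant" on some nonempty saturated open. -/
theorem exists_open_const [CompactSpace U] [QuasiSober U] [PrespectralSpace U]
    [QuasiSeparatedSpace U] [Nonempty U] (a : U → P) (hac : Continuous a)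
    (hao : IsOpenMap a) (O : ℕ → Set U) (hOo : ∀ n, IsOpen (O n))
    (hOsat : ∀ n u u', a u = a u' → u ∈ O n → u' ∈ O n) (hO0 : O 0 = Set.univ)
    (hOfin : ∀ u, ∃ n, u ∉ O n) :
    ∃ (m : ℕ) (V : Set U), IsOpen V ∧ V.Nonempty ∧ (∀ u u', a u = a u' → u ∈ V → u' ∈ V) ∧
      ∀ z ∈ V, z ∈ O m ∧ z ∉ O (m + 1) := by
  -- some nonempty compact open misses some `O n`
  have hex : ∃ (D : Set U) (n : ℕ), IsOpen D ∧ D.Nonempty ∧ D ∩ O n = ∅ := by
    by_contra hcon
    push Not at hcon
    have hstep : ∀ (n : ℕ) (D : {D : Set U // IsOpen D ∧ IsCompact D ∧ D.Nonempty}),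
        ∃ D' : {D : Set U // IsOpen D ∧ IsCompact D ∧ D.Nonempty},
          D'.1 ⊆ D.1 ∩ O (n + 1) := by
      rintro n ⟨D, hDo, hDc, hDne⟩
      obtain ⟨e, he⟩ := hcon D (n + 1) hDo hDne
      obtain ⟨D', ⟨hD'o, hD'c⟩, heD', hD'sub⟩ :=
        PrespectralSpace.isTopologicalBasis.exists_subset_of_mem_open
          (show e ∈ D ∩ O (n + 1) from he) (hDo.inter (hOo _))
      exact ⟨⟨D', hD'o, hD'c, e, heD'⟩, hD'sub⟩
    choose step hstep' using hstep
    let seq : ℕ → {D : Set U // IsOpen D ∧ IsCompact D ∧ D.Nonempty} := fun n =>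
      Nat.rec ⟨Set.univ, isOpen_univ, isCompact_univ, Set.univ_nonempty⟩ (fun n D => step n D) n
    have hseq : ∀ n, (seq (n + 1)).1 ⊆ (seq n).1 ∩ O (n + 1) := fun n => hstep' n (seq n)
    have hanti : Antitone fun n => (seq n).1 :=
      antitone_nat_of_succ_le fun n => (hseq n).trans Set.inter_subset_left
    obtain ⟨z, hz⟩ : (⋂₀ (Set.range fun n => (seq n).1)).Nonempty := by
      apply nonempty_sInter_of_constructible
      · rintro s ⟨n, rfl⟩
        exact Or.inr ⟨(seq n).2.2.1, (seq n).2.1⟩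
      · intro 𝓒 h𝓒 h𝓒f
        have : ∃ N, (seq N).1 ⊆ ⋂₀ 𝓒 := by
          induction 𝓒, h𝓒f using Set.Finite.induction_on with
          | empty => exact ⟨0, by simp⟩
          | @insert s 𝓒' _ _ ih =>
            obtain ⟨N, hN⟩ := ih ((Set.subset_insert _ _).trans h𝓒)
            obtain ⟨n, rfl⟩ := h𝓒 (Set.mem_insert _ _)
            refine ⟨max N n, ?_⟩
            rw [Set.sInter_insert]
            refine Set.subset_inter ?_ ?_
            · exact hanti (le_max_right N n)
            · exact (hanti (le_max_left N n)).trans hN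
        obtain ⟨N, hN⟩ := this
        exact (seq N).2.2.2.mono hN
    obtain ⟨n, hn⟩ := hOfin z
    apply hn
    cases n with
    | zero => rw [hO0]; trivial
    | succ n => exact (hseq n (hz _ ⟨n + 1, rfl⟩)).2
  obtain ⟨D, n, hDo, hDne, hDn⟩ := hex
  classical
  have hfind : ∃ n, D ∩ O n = ∅ := ⟨n, hDn⟩
  have hn₀ : D ∩ O (Nat.find hfind) = ∅ := Nat.find_spec hfind
  have hn₀pos : Nat.find hfind ≠ 0 := by
    intro h0
    rw [h0, hO0, Set.inter_univ] at hn₀
    exact hDne.ne_empty hn₀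
  obtain ⟨m, hm⟩ := Nat.exists_eq_succ_of_ne_zero hn₀pos
  have hmne : (D ∩ O m).Nonempty := by
    rw [Set.nonempty_iff_ne_empty]
    exact Nat.find_min hfind (by rw [hm]; exact Nat.lt_succ_self m)
  rw [hm] at hn₀
  refine ⟨m, a ⁻¹' (a '' (D ∩ O m)), (hao _ (hDo.inter (hOo m))).preimage hac, ?_, ?_, ?_⟩
  · obtain ⟨d, hd⟩ := hmne
    exact ⟨d, d, hd, rfl⟩
  · rintro u u' huu' ⟨d, hd, hdu⟩
    exact ⟨d, hd, hdu.trans huu'⟩
  · rintro z ⟨d, ⟨hdD, hdO⟩, hdz⟩
    refine ⟨hOsat m d z hdz hdO, fun hz => ?_⟩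
    have : d ∈ D ∩ O (m + 1) := ⟨hdD, hOsat (m + 1) z d hdz.symm hz⟩
    rw [hn₀] at this
    exact this

end Top

section Sp

variable {S : Scheme.{u}} {X : AlgSp.Sp S}

open Groth.Agent.R2.H46.DegStrat Groth.Agent.R2.H46.DegSp Groth.Agent.R2.H46.ConstDeg
  Groth.Agent.R2.H46.DecentSober Groth.Agent.R2.H45.FinEtQuot Groth.Agent.R2.H59.QPts
  Groth.Agent.Lib.Helper12

/-- **a nonempty decent algebraic space has a nonempty open subscheme.** -/
theorem exists_open_subscheme (hX : AlgSp.IsAlgSpace X) (hdec : AlgSp.IsDecent X)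
    (x : AlgSp.Points X) :
    ∃ (M : Over S) (f : (AlgSp.yon S).obj M ⟶ X), AlgSp.RepWith @IsOpenImmersion f ∧
      Nonempty ↥M.left := by
  obtain ⟨U, a, u, hU, -, hae, hau⟩ := exists_affine_chart_over_affine hX x
  haveI := hU
  obtain ⟨W, w, pr', sq⟩ := hae.1 a
  obtain ⟨pr, rfl⟩ := (AlgSp.yon S).map_surjective pr'
  haveI : Etale pr.left := hae.2 a _ pr sq.flip
  haveI : IsSeparated pr.left := isSeparated_pr sq
  haveI : Nonempty ↥U.left := ⟨u⟩
  obtain ⟨m, V, hVo, hVne, hVsat, hconst⟩ := exists_open_const (AlgSp.Points.ofPt a)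
    (AlgSp.Points.continuous_ofPt a) (Groth.Agent.S10176.isOpenMap_ofPt a hae)
    (fun n => {u | DegGE n pr.left u})
    (fun n => isOpen_setOf_degGE n pr.left)
    (fun n u u' huu' hu => degGE_of_hasLifts n pr.left u'
      (hasLifts_of_ofPt_eq sq n u u' huu' (hasLifts_of_degGE n pr.left u hu)))
    (by ext; simp [DegGE])
    (fun u => by
      obtain ⟨n, hn⟩ := exists_not_hasLifts hX hdec hae sq u
      exact ⟨n, fun h => hn (hasLifts_of_degGE n pr.left u h)⟩)
  let Vt : U.left.Opens := ⟨V, hVo⟩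
  have hinv : pr.left ⁻¹ᵁ Vt = w.left ⁻¹ᵁ Vt := by
    ext r
    have e : AlgSp.Points.ofPt a (pr.left r) = AlgSp.Points.ofPt a (w.left r) := by
      rw [← Groth.Agent.S10176.ofPt_map_comp, ← Groth.Agent.S10176.ofPt_map_comp, sq.w]
    exact ⟨fun h => hVsat _ _ e h, fun h => hVsat _ _ e.symm h⟩
  -- the restricted chart and its kernel pair
  have hq : AlgSp.RepWith @Etale ((AlgSp.yon S).map (ιW Vt) ≫ a) :=
    (AlgSp.RepWith @Etale).comp_mem _ _
      ((AlgSp.repWith_yon_map_iff _ _).2 (inferInstanceAs (Etale Vt.ι))) hae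
  have hk := isPullback_restrict pr w Vt hinv a sq.flip
  -- finiteness of the restricted source map
  haveI hsfin : IsFinite (sW pr Vt).left := by
    show IsFinite (pr.left.resLE Vt (pr.left ⁻¹ᵁ Vt) le_rfl)
    rw [Scheme.Hom.resLE_eq_morphismRestrict]
    exact isFinite_of_const_deg m (pr.left ∣_ Vt) (fun v =>
      ⟨(degGE_morphismRestrict_iff m pr.left Vt v).2 (hconst v.1 v.2).1,
        fun h => (hconst v.1 v.2).2 ((degGE_morphismRestrict_iff (m + 1) pr.left Vt v).1 h)⟩)
  -- the involution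
  let i := Groth.Agent.R2.H25.KerGrpd.iO _ (sW pr Vt) (tW pr w Vt hinv) hk
  have hit : i ≫ tW pr w Vt hinv = sW pr Vt := Groth.Agent.R2.H25.KerGrpd.iO_t _ _ _ hk
  have his : i ≫ sW pr Vt = tW pr w Vt hinv := Groth.Agent.R2.H25.KerGrpd.iO_s _ _ _ hk
  have hii : i ≫ i = 𝟙 _ := by
    apply Groth.Agent.R2.H25.KerGrpd.over_ext _ (sW pr Vt) (tW pr w Vt hinv) hk
    · rw [Category.assoc, hit, his, Category.id_comp]
    · rw [Category.assoc, his, hit, Category.id_comp]
  have hiil : i.left ≫ i.left = 𝟙 _ := congrArg (fun k => k.left) hii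
  haveI : IsIso i.left := ⟨i.left, hiil, hiil⟩
  haveI htfin : IsFinite (tW pr w Vt hinv).left := by
    have : (tW pr w Vt hinv).left = i.left ≫ (sW pr Vt).left := congrArg (fun k => k.left) his.symm
    rw [this]
    infer_instance
  haveI : QuasiSeparatedSpace ↥(Wov Vt).left :=
    Vt.ι.isOpenEmbedding.quasiSeparatedSpace
  -- the quotient
  have himgo : IsOpen (Set.range (AlgSp.Points.ofPt ((AlgSp.yon S).map (ιW Vt) ≫ a))) :=
    (Groth.Agent.S10176.isOpenMap_ofPt _ hq).isOpen_range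
  have hR' : IsPullback ((AlgSp.yon S).map (tW pr w Vt hinv)) ((AlgSp.yon S).map (sW pr Vt))
      (toImg ((AlgSp.yon S).map (ιW Vt) ≫ a)) (toImg ((AlgSp.yon S).map (ιW Vt) ≫ a)) := by
    apply Groth.Agent.R2.H25.DecentPts.isPullback_of_comp_mono
      (imgι ((AlgSp.yon S).map (ιW Vt) ≫ a))
    rw [toImg_ι]
    exact hk
  obtain ⟨X', j, hj, ⟨M, ⟨hM⟩⟩, hdense, -⟩ :=
    Groth.Agent.R2.H25.DenseOpen.exists_dense_open_subscheme'
      (⟨img ((AlgSp.yon S).map (ιW Vt) ≫ a), OpenSub.isAlgSpace_obj hX himgo⟩ : AlgSp.Space S)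
      (toImg ((AlgSp.yon S).map (ιW Vt) ≫ a)) (repWith_etale_toImg hq)
      (repWith_surjective_toImg hq) (sW pr Vt) (tW pr w Vt hinv) hR'
  let e : (AlgSp.yon S).obj M ≅ X'.obj := AlgSp.isoOfRepresentableBy hM
  refine ⟨M, e.hom ≫ j.hom ≫ imgι ((AlgSp.yon S).map (ιW Vt) ≫ a), ?_, ?_⟩
  · exact (MorphismProperty.cancel_left_of_respectsIso (AlgSp.RepWith @IsOpenImmersion)
      e.hom _).2 (repWith_openImm_comp hj (repWith_imgι hq))
  · obtain ⟨v, hv⟩ := hVne
    haveI : Nonempty (AlgSp.Points (img ((AlgSp.yon S).map (ιW Vt) ≫ a))) :=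
      ⟨AlgSp.Points.ofPt (toImg ((AlgSp.yon S).map (ιW Vt) ≫ a)) (⟨v, hv⟩ : ↥Vt)⟩
    obtain ⟨_, y, -⟩ := hdense.nonempty
    exact ⟨(AlgSp.Points.schemeHomeo M).symm (AlgSp.Points.map e.inv y)⟩

/-- **a decent algebraic space has a dense open subscheme** (Stacks 086U). -/
theorem exists_dense_open_subscheme (X : AlgSp.Space S) (hdec : AlgSp.IsDecent X.obj) :
    ∃ (X' : AlgSp.Space S) (j : X' ⟶ X), AlgSp.RepWith @IsOpenImmersion j.hom ∧
      X'.obj.obj.IsRepresentable ∧ Dense (Set.range (AlgSp.Points.map j.hom)) := by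
  obtain ⟨U, a, hae, has⟩ := X.property.atlas
  -- for each nonempty open `D` of the atlas, an open subscheme inside the image of `D`
  have key : ∀ D : {D : U.left.Opens // (D : Set ↥U.left).Nonempty},
      ∃ (M : Over S) (f : (AlgSp.yon S).obj M ⟶ X.obj), AlgSp.RepWith @IsOpenImmersion f ∧
        Set.range (AlgSp.Points.map f) ⊆ AlgSp.Points.ofPt a '' (D.1 : Set ↥U.left) ∧
          (Set.range (AlgSp.Points.map f)).Nonempty := by
    rintro ⟨D, d₀, hd₀⟩
    have hBo : IsOpen (AlgSp.Points.ofPt a '' (D : Set ↥U.left)) :=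
      Groth.Agent.S10176.isOpenMap_ofPt a hae _ D.isOpen
    have hXB : AlgSp.IsAlgSpace (OpenSub.obj X.obj (AlgSp.Points.ofPt a '' (D : Set ↥U.left))) :=
      OpenSub.isAlgSpace_obj X.property hBo
    have hjB := OpenSub.repWith_incl (X := X.obj) hBo
    have hdecB : AlgSp.IsDecent (OpenSub.obj X.obj (AlgSp.Points.ofPt a '' (D : Set ↥U.left))) :=
      Groth.Agent.S10352.result (X := ⟨_, hXB⟩) (Y := X)
        (ObjectProperty.homMk (OpenSub.incl X.obj _))
        (fun U φ hφ => repWith_etale_comp hφ (repWith_etale_of_openImm hjB)) hdec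
    obtain ⟨y₀, -⟩ : AlgSp.Points.ofPt a d₀ ∈
        Set.range (AlgSp.Points.map (OpenSub.incl X.obj
          (AlgSp.Points.ofPt a '' (D : Set ↥U.left)))) := by
      rw [OpenSub.range_map_incl]; exact ⟨d₀, hd₀, rfl⟩
    obtain ⟨M, f, hf, hne⟩ := exists_open_subscheme hXB hdecB y₀
    refine ⟨M, f ≫ OpenSub.incl X.obj _, repWith_openImm_comp hf hjB, ?_, ?_⟩
    · rintro _ ⟨z, rfl⟩
      rw [AlgSp.Points.map_comp]
      have : AlgSp.Points.map (OpenSub.incl X.obj (AlgSp.Points.ofPt a '' (D : Set ↥U.left)))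
          (AlgSp.Points.map f z) ∈ Set.range (AlgSp.Points.map (OpenSub.incl X.obj
            (AlgSp.Points.ofPt a '' (D : Set ↥U.left)))) := ⟨_, rfl⟩
      rwa [OpenSub.range_map_incl] at this
    · obtain ⟨m⟩ := hne
      exact ⟨_, AlgSp.Points.ofScheme M m, rfl⟩
  choose M f hf hsub hne using key
  obtain ⟨Wg, ⟨e⟩⟩ := Groth.Agent.R2.H25.CodimZero.exists_iso_openSub_iUnion M f hf
  have hA : IsOpen (⋃ i, Set.range (AlgSp.Points.map (f i))) :=
    isOpen_iUnion (fun i => OpenSub.isOpen_range_of_open (f i) (hf i))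
  refine ⟨⟨_, OpenSub.isAlgSpace_obj X.property hA⟩,
    ObjectProperty.homMk (OpenSub.incl X.obj _),
    OpenSub.repWith_incl hA, ⟨Wg, ⟨AlgSp.representableByOfIso e⟩⟩, ?_⟩
  show Dense (Set.range (AlgSp.Points.map (OpenSub.incl X.obj _)))
  rw [OpenSub.range_map_incl, dense_iff_inter_open]
  intro B hB hBne
  obtain ⟨x₀, hx₀⟩ := hBne
  obtain ⟨u₀, hu₀⟩ := Groth.Agent.S10177.surjective_ofPt a has x₀
  let D : {D : U.left.Opens // (D : Set ↥U.left).Nonempty} :=
    ⟨⟨AlgSp.Points.ofPt a ⁻¹' B, hB.preimage (AlgSp.Points.continuous_ofPt a)⟩,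
      ⟨u₀, by show AlgSp.Points.ofPt a u₀ ∈ B; rw [hu₀]; exact hx₀⟩⟩
  obtain ⟨z, hz⟩ := hne D
  refine ⟨z, ?_, Set.mem_iUnion.2 ⟨D, hz⟩⟩
  obtain ⟨d, hd, rfl⟩ := hsub D hz
  exact hd

/-- variant of `exists_dense_open_subscheme` giving the open subscheme as a morphism from a
representable sheaf. -/
theorem exists_dense_open_subscheme_yon (X : AlgSp.Space S) (hdec : AlgSp.IsDecent X.obj) :
    ∃ (M : Over S) (f : (AlgSp.yon S).obj M ⟶ X.obj), AlgSp.RepWith @IsOpenImmersion f ∧
      Dense (Set.range (AlgSp.Points.ofPt f)) := by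
  obtain ⟨X', j, hj, ⟨M, ⟨hM⟩⟩, hdense⟩ := exists_dense_open_subscheme X hdec
  let e : (AlgSp.yon S).obj M ≅ X'.obj := AlgSp.isoOfRepresentableBy hM
  refine ⟨M, e.hom ≫ j.hom, (MorphismProperty.cancel_left_of_respectsIso
    (AlgSp.RepWith @IsOpenImmersion) e.hom _).2 hj, ?_⟩
  have : Set.range (AlgSp.Points.ofPt (e.hom ≫ j.hom)) = Set.range (AlgSp.Points.map j.hom) := by
    ext x
    constructor
    · rintro ⟨m, rfl⟩
      rw [AlgSp.Points.ofPt_eq_map_ofScheme, AlgSp.Points.map_comp]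
      exact ⟨_, rfl⟩
    · rintro ⟨y, rfl⟩
      obtain ⟨m, hm⟩ := (AlgSp.Points.schemeHomeo M).surjective (AlgSp.Points.map e.inv y)
      refine ⟨m, ?_⟩
      rw [AlgSp.Points.ofPt_eq_map_ofScheme, AlgSp.Points.map_comp]
      congr 1
      change AlgSp.Points.map e.hom (AlgSp.Points.schemeHomeo M m) = y
      rw [hm, ← AlgSp.Points.map_comp, e.inv_hom_id, AlgSp.Points.map_id]
  rw [this]
  exact hdense

end Sp

end Groth.Agent.R2.H46.DecentSch
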