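import Mathlib
import Groth.Prelude
import Groth.Agent.R2.H25GenFinSp
import Groth.Agent.R2.H46DecentSch
import Groth.Agent.Lib.Helper4BirOpen
import Groth.Agent.Lib.Helper12Reduced
import Groth.Agent.S9678
import Groth.Agent.S10338
import Groth.Agent.S10339

/-!
# Birational morphisms of decent algebraic spaces

Reduction to the case of schemes through dense open subschemes.
-/

set_option autoImplicit false
universe u
open CategoryTheory CategoryTheory.Limits AlgebraicGeometry Topology TopologicalSpace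

namespace Groth.Agent.R2.H25.Birat

section Top

variable {A B : Type*} [TopologicalSpace A] [TopologicalSpace B]

/-- a dense open subset of a sober space with finitely many irreducible components contains all
generic points. -/
lemma mem_of_dense_open [T0Space B] [QuasiSober B] (hfin : (irreducibleComponents B).Finite)
    (D : Set B) (hD : IsOpen D) (hDd : Dense D) (x : B) (hx : x ∈ genericPoints B) : x ∈ D := by
  obtain ⟨V₀, hxV₀, hV₀sub, -⟩ :=
    Groth.Agent.Lib.Helper4.BirOpen.exists_open_subset_component hfin x hx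
  obtain ⟨z, hzV, hzD⟩ := hDd.inter_open_nonempty (V₀ : Set B) V₀.isOpen ⟨x, hxV₀⟩
  have h1 : x ⤳ z := specializes_iff_mem_closure.2 (hV₀sub hzV)
  exact h1.mem_open hD hzD

/-- an open set containing all generic points of a quasi-sober space is dense. -/
lemma dense_of_genericPoints_subset [QuasiSober B] (D : Set B)
    (h : genericPoints B ⊆ D) : Dense D := by
  rw [dense_iff_closure_eq, ← Set.univ_subset_iff, ← genericPoints.closure (α := B)]
  exact closure_mono h

variable {j : A → B}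

/-- generic points correspond through open embeddings of sober spaces. -/
lemma mem_genericPoints_iff [T0Space A] [QuasiSober A] [T0Space B] [QuasiSober B]
    (hj : IsOpenEmbedding j) (a : A) : a ∈ genericPoints A ↔ j a ∈ genericPoints B := by
  show closure {a} ∈ irreducibleComponents A ↔ closure {j a} ∈ irreducibleComponents B
  rw [Groth.Agent.Lib.Helper14.closure_mem_irreducibleComponents_iff,
    Groth.Agent.Lib.Helper14.closure_mem_irreducibleComponents_iff]
  constructor
  · intro h b hb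
    have hb' : b ∈ Set.range j := hb.mem_open hj.isOpen_range ⟨a, rfl⟩
    obtain ⟨a', rfl⟩ := hb'
    rw [h a' (hj.isInducing.specializes_iff.1 hb)]
  · intro h a' ha'
    exact hj.injective (h _ (ha'.map hj.continuous))

/-- finiteness of the set of irreducible components passes to open subspaces. -/
lemma finite_irreducibleComponents [T0Space A] [QuasiSober A] [T0Space B] [QuasiSober B]
    (hj : IsOpenEmbedding j) (hfin : (irreducibleComponents B).Finite) :
    (irreducibleComponents A).Finite := by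
  have h1 : (genericPoints B).Finite := genericPoints.finite hfin
  have h2 : (genericPoints A).Finite := by
    refine (h1.preimage (hj.injective.injOn)).subset ?_
    intro a ha
    exact (mem_genericPoints_iff hj a).1 ha
  haveI : Finite ↥(genericPoints A) := h2.to_subtype
  haveI : Finite ↥(irreducibleComponents A) := Finite.of_equiv _ (genericPoints.equiv (α := A))
  exact Set.toFinite _

end Top

section Stalk

/-- cancelling isomorphisms of local rings in a commutative square of schemes. -/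
lemma isIso_stalkMap_of_comm {A B C D : Scheme.{u}} (p : A ⟶ B) (g : B ⟶ D) (k : A ⟶ C)
    (q : C ⟶ D) (h : k ≫ q = p ≫ g) (w : ↥A) (i1 : IsIso (g.stalkMap (p w)))
    (i2 : IsIso (p.stalkMap w))
    (i3 : IsIso (q.stalkMap (k w))) : IsIso (k.stalkMap w) := by
  have h1 : IsIso ((k ≫ q).stalkMap w) := by
    rw [h, Scheme.Hom.stalkMap_comp]
    exact @IsIso.comp_isIso _ _ _ _ _ _ _ i1 i2
  rw [Scheme.Hom.stalkMap_comp] at h1
  exact @IsIso.of_isIso_comp_left _ _ _ _ _ (q.stalkMap (k w)) (k.stalkMap w) i3 h1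

lemma isIso_stalkMap_of_comm' {A B C D : Scheme.{u}} (p : A ⟶ B) (g : B ⟶ D) (k : A ⟶ C)
    (q : C ⟶ D) (h : k ≫ q = p ≫ g) (w : ↥A) (i1 : IsIso (k.stalkMap w))
    (i2 : IsIso (p.stalkMap w))
    (i3 : IsIso (q.stalkMap (k w))) : IsIso (g.stalkMap (p w)) := by
  have h1 : IsIso ((p ≫ g).stalkMap w) := by
    rw [← h, Scheme.Hom.stalkMap_comp]
    exact @IsIso.comp_isIso _ _ _ _ _ _ _ i3 i1
  rw [Scheme.Hom.stalkMap_comp] at h1
  exact @IsIso.of_isIso_comp_right _ _ _ _ _ (g.stalkMap (p w)) (p.stalkMap w) i2 h1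

variable {S : Scheme.{u}}

/-- an open immersion from a scheme is an open embedding on points. -/
lemma isOpenEmbedding_ofPt {Y : AlgSp.Sp S} {V : Over S} (b : (AlgSp.yon S).obj V ⟶ Y)
    (hb : AlgSp.RepWith @IsOpenImmersion b) : IsOpenEmbedding (AlgSp.Points.ofPt b) :=
  IsOpenEmbedding.of_continuous_injective_isOpenMap (AlgSp.Points.continuous_ofPt b)
    (Groth.Agent.R2.H25.GenFinSp.ofPt_injective_of_open b hb)
    (Groth.Agent.S10176.isOpenMap_ofPt b (Groth.Agent.R2.H25.GenFinSp.etale_of_open hb))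

/-- **the isomorphism of local rings in the definition of a birational morphism does not depend
on the open subschemes chosen.** -/
lemma isIso_stalkMap_of_common {X Y : AlgSp.Sp S} (f : X ⟶ Y) {U V U' V' : Over S}
    (a : (AlgSp.yon S).obj U ⟶ X) (b : (AlgSp.yon S).obj V ⟶ Y) (g : U ⟶ V)
    (a' : (AlgSp.yon S).obj U' ⟶ X) (b' : (AlgSp.yon S).obj V' ⟶ Y) (g' : U' ⟶ V')
    (ha : AlgSp.RepWith @IsOpenImmersion a) (hb : AlgSp.RepWith @IsOpenImmersion b)
    (ha' : AlgSp.RepWith @IsOpenImmersion a') (hb' : AlgSp.RepWith @IsOpenImmersion b')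
    (hg : a ≫ f = (AlgSp.yon S).map g ≫ b) (hg' : a' ≫ f = (AlgSp.yon S).map g' ≫ b')
    (u : ↥U.left) (u' : ↥U'.left) (e : AlgSp.Points.ofPt a u = AlgSp.Points.ofPt a' u')
    (hiso : IsIso (g.left.stalkMap u)) : IsIso (g'.left.stalkMap u') := by
  obtain ⟨P, p', pr, sqP⟩ := ha.1 a'
  obtain ⟨p, rfl⟩ := (AlgSp.yon S).map_surjective pr
  haveI : IsOpenImmersion p'.left := ha.2 a' _ p' sqP
  haveI : IsOpenImmersion p.left := ha'.2 a _ p sqP.flip
  obtain ⟨w, hw1, hw2⟩ := Groth.Agent.S10176.exists_point_of_isPullback_yon sqP u u' e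
  obtain ⟨Q, q', qr, sqQ⟩ := hb.1 b'
  obtain ⟨q, rfl⟩ := (AlgSp.yon S).map_surjective qr
  haveI : IsOpenImmersion q'.left := hb.2 b' _ q' sqQ
  haveI : IsOpenImmersion q.left := hb'.2 b _ q sqQ.flip
  have hcomm : (AlgSp.yon S).map (p ≫ g) ≫ b = (AlgSp.yon S).map (p' ≫ g') ≫ b' := by
    rw [Functor.map_comp, Functor.map_comp, Category.assoc, Category.assoc, ← hg, ← hg',
      ← Category.assoc, ← Category.assoc, sqP.w]
  obtain ⟨k, hk⟩ := (AlgSp.yon S).map_surjective (sqQ.lift _ _ hcomm)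
  have hk1 : k ≫ q = p ≫ g := by
    apply (AlgSp.yon S).map_injective
    rw [Functor.map_comp, hk, sqQ.lift_fst]
  have hk2 : k ≫ q' = p' ≫ g' := by
    apply (AlgSp.yon S).map_injective
    rw [Functor.map_comp, hk, sqQ.lift_snd]
  have hk1' : k.left ≫ q.left = p.left ≫ g.left := by
    rw [← Over.comp_left, hk1, Over.comp_left]
  have hk2' : k.left ≫ q'.left = p'.left ≫ g'.left := by
    rw [← Over.comp_left, hk2, Over.comp_left]
  have i1 : IsIso (g.left.stalkMap (p.left w)) := by rw [hw1]; exact hiso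
  have i2 : IsIso (k.left.stalkMap w) :=
    isIso_stalkMap_of_comm p.left g.left k.left q.left hk1' w i1 inferInstance inferInstance
  have h2 : IsIso (g'.left.stalkMap (p'.left w)) :=
    isIso_stalkMap_of_comm' p'.left g'.left k.left q'.left hk2' w i2 inferInstance inferInstance
  rw [hw2] at h2
  exact h2

end Stalk

section Main

variable {S : Scheme.{u}}

/-- a decent algebraic space has a dense open subscheme, as a chart. -/
lemma exists_dense_open_chart (X : AlgSp.Space S) (hdec : AlgSp.IsDecent X.obj) :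
    ∃ (M : Over S) (b₀ : (AlgSp.yon S).obj M ⟶ X.obj), AlgSp.RepWith @IsOpenImmersion b₀ ∧
      Dense (Set.range (AlgSp.Points.ofPt b₀)) := by
  obtain ⟨X', j, hj, hrep, hd⟩ :=
    Groth.Agent.R2.H46.DecentSch.exists_dense_open_subscheme X hdec
  obtain ⟨M, ⟨r⟩⟩ := hrep.has_representation
  refine ⟨M, (AlgSp.isoOfRepresentableBy r).hom ≫ j.hom,
    (AlgSp.repWith_isMultiplicative (S := S) @IsOpenImmersion).comp_mem _ _
      (MorphismProperty.of_isIso (AlgSp.RepWith (S := S) @IsOpenImmersion) _) hj, ?_⟩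
  refine hd.mono ?_
  rintro _ ⟨z, rfl⟩
  obtain ⟨m, hm⟩ := (AlgSp.Points.schemeHomeo M).surjective
    (AlgSp.Points.map (AlgSp.isoOfRepresentableBy r).inv z)
  refine ⟨m, ?_⟩
  have hm' : AlgSp.Points.ofScheme M m = AlgSp.Points.map (AlgSp.isoOfRepresentableBy r).inv z :=
    hm
  rw [AlgSp.Points.ofPt_eq_map_ofScheme, hm', ← AlgSp.Points.map_comp, ← Category.assoc,
    Iso.inv_hom_id, Category.id_comp]

/-- an open subscheme of a reduced algebraic space is reduced. -/
lemma isReduced_of_open {Y : AlgSp.Sp S} {V : Over S} (b : (AlgSp.yon S).obj V ⟶ Y)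
    (hb : AlgSp.RepWith @IsOpenImmersion b)
    (hY : AlgSp.EtaleLocally (fun T => IsReduced T) Y) : IsReduced V.left := by
  obtain ⟨W, p, hpe, hps, hW⟩ := hY
  haveI := hW
  obtain ⟨P, snd, fst', sq⟩ := hb.1 p
  obtain ⟨q, rfl⟩ := (AlgSp.yon S).map_surjective fst'
  haveI : IsOpenImmersion snd.left := hb.2 p _ snd sq
  haveI : Etale q.left := hpe.2 b _ q sq.flip
  haveI : Surjective q.left := hps.2 b _ q sq.flip
  haveI : IsReduced P.left := isReduced_of_isOpenImmersion snd.left
  exact Groth.Agent.Lib.Helper12.Reduced.isReduced_of_flat_of_surjective q.left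

lemma range_ofPt_eq {Y : AlgSp.Sp S} {V : Over S} (b : (AlgSp.yon S).obj V ⟶ Y) :
    Set.range (AlgSp.Points.ofPt b) = Set.range (AlgSp.Points.map b) := by
  ext y
  constructor
  · rintro ⟨v, rfl⟩
    exact ⟨AlgSp.Points.ofScheme V v, (AlgSp.Points.ofPt_eq_map_ofScheme b v).symm⟩
  · rintro ⟨p, rfl⟩
    obtain ⟨v, rfl⟩ := (AlgSp.Points.schemeHomeo V).surjective p
    exact ⟨v, AlgSp.Points.ofPt_eq_map_ofScheme b v⟩

/-- the case where open subschemes containing all generic points are given. -/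
lemma exists_iso_dense_open_aux {X Y : AlgSp.Sp S} (f : X ⟶ Y)
    [T0Space (AlgSp.Points X)] [QuasiSober (AlgSp.Points X)]
    [T0Space (AlgSp.Points Y)] [QuasiSober (AlgSp.Points Y)]
    (hXf : (irreducibleComponents (AlgSp.Points X)).Finite)
    (hYf : (irreducibleComponents (AlgSp.Points Y)).Finite)
    (hf : W4stk3decentspacesp2.IsBirational f)
    (h : (AlgSp.LocP @LocallyOfFiniteType f ∧
        AlgSp.EtaleLocally (fun T => IsReduced T) Y) ∨
      AlgSp.LocP @LocallyOfFinitePresentation f)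
    {MX MY : Over S} (a : (AlgSp.yon S).obj MX ⟶ X) (b : (AlgSp.yon S).obj MY ⟶ Y)
    (g : MX ⟶ MY) (ha : AlgSp.RepWith @IsOpenImmersion a) (hb : AlgSp.RepWith @IsOpenImmersion b)
    (hg : a ≫ f = (AlgSp.yon S).map g ≫ b)
    (hK1 : ∀ x ∈ genericPoints (AlgSp.Points X), ∃ u : ↥MX.left, AlgSp.Points.ofPt a u = x)
    (hK1' : ∀ y ∈ genericPoints (AlgSp.Points Y), ∃ v : ↥MY.left, AlgSp.Points.ofPt b v = y) :
    ∃ (U V : Over S) (a : (AlgSp.yon S).obj U ⟶ X) (b : (AlgSp.yon S).obj V ⟶ Y)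
      (g : U ⟶ V),
      AlgSp.RepWith @IsOpenImmersion a ∧ AlgSp.RepWith @IsOpenImmersion b ∧
        Dense (Set.range (AlgSp.Points.ofPt a)) ∧ Dense (Set.range (AlgSp.Points.ofPt b)) ∧
          a ≫ f = (AlgSp.yon S).map g ≫ b ∧ IsIso g.left := by
  have hembX := isOpenEmbedding_ofPt a ha
  have hembY := isOpenEmbedding_ofPt b hb
  have hXfin : (irreducibleComponents ↥MX.left).Finite := finite_irreducibleComponents hembX hXf
  have hYfin : (irreducibleComponents ↥MY.left).Finite := finite_irreducibleComponents hembY hYf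
  have hK2 : ∀ u : ↥MX.left, AlgSp.Points.map f (AlgSp.Points.ofPt a u) =
      AlgSp.Points.ofPt b (g.left u) := by
    intro u
    rw [AlgSp.Points.map_ofPt, hg, Groth.Agent.S10176.ofPt_map_comp]
  have hbij : Set.BijOn (fun x : ↥MX.left => g.left.base x)
      {x : ↥MX.left | closure {x} ∈ irreducibleComponents ↥MX.left}
      {y : ↥MY.left | closure {y} ∈ irreducibleComponents ↥MY.left} := by
    refine ⟨?_, ?_, ?_⟩
    · intro u hu
      have hu' : u ∈ genericPoints ↥MX.left := hu
      rw [mem_genericPoints_iff hembX] at hu'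
      have h2 := hf.bijOn.mapsTo hu'
      rw [hK2] at h2
      exact (mem_genericPoints_iff hembY _).2 h2
    · intro u hu u' hu' he
      have hu1 : u ∈ genericPoints ↥MX.left := hu
      have hu1' : u' ∈ genericPoints ↥MX.left := hu'
      rw [mem_genericPoints_iff hembX] at hu1 hu1'
      have he' : g.left u = g.left u' := he
      apply hembX.injective
      apply hf.bijOn.injOn hu1 hu1'
      rw [hK2, hK2, he']
    · intro v hv
      have hv' : v ∈ genericPoints ↥MY.left := hv
      rw [mem_genericPoints_iff hembY] at hv'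
      obtain ⟨x, hx, hxv⟩ := hf.bijOn.surjOn hv'
      obtain ⟨u, rfl⟩ := hK1 x hx
      refine ⟨u, (mem_genericPoints_iff hembX u).2 hx, ?_⟩
      rw [hK2] at hxv
      exact hembY.injective hxv
  have hiso : ∀ x : ↥MX.left, closure {x} ∈ irreducibleComponents ↥MX.left →
      IsIso (g.left.stalkMap x) := by
    intro u hu
    have hu' : u ∈ genericPoints ↥MX.left := hu
    rw [mem_genericPoints_iff hembX] at hu'
    obtain ⟨U', V', a', b', g', u', ha', hb', hg', hu'e, hi⟩ := hf.stalkIso _ hu'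
    exact isIso_stalkMap_of_common f a' b' g' a b g ha' hb' ha hb hg' hg u' u hu'e hi
  have hP : (LocallyOfFiniteType g.left ∧ IsReduced MY.left) ∨
      LocallyOfFinitePresentation g.left := by
    rcases h with ⟨h1, h2⟩ | h1
    · exact Or.inl ⟨h1 a b g (Groth.Agent.R2.H25.GenFinSp.etale_of_open ha)
        (Groth.Agent.R2.H25.GenFinSp.etale_of_open hb) hg, isReduced_of_open b hb h2⟩
    · exact Or.inr (h1 a b g (Groth.Agent.R2.H25.GenFinSp.etale_of_open ha)
        (Groth.Agent.R2.H25.GenFinSp.etale_of_open hb) hg)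
  obtain ⟨U, V, hUV, hUd, hVd, hgi⟩ := Groth.Agent.S9678.result g.left hXfin hYfin hbij hiso hP
  have hw : g.left.resLE V U hUV ≫ (V.ι ≫ MY.hom) = U.ι ≫ MX.hom := by
    rw [← Category.assoc, Scheme.Hom.resLE_comp_ι, Category.assoc, Over.w]
  refine ⟨Over.mk (U.ι ≫ MX.hom), Over.mk (V.ι ≫ MY.hom),
    Groth.Agent.R2.H25.GenFinSp.restr a U, Groth.Agent.R2.H25.GenFinSp.restr b V,
    Over.homMk (g.left.resLE V U hUV) hw,
    Groth.Agent.R2.H25.GenFinSp.restr_open ha U, Groth.Agent.R2.H25.GenFinSp.restr_open hb V,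
    ?_, ?_, ?_, ?_⟩
  · have hdr : DenseRange (AlgSp.Points.ofPt a) :=
      dense_of_genericPoints_subset _ (fun x hx => hK1 x hx)
    have h3 := hdr.dense_image (AlgSp.Points.continuous_ofPt a) hUd
    refine h3.mono ?_
    rintro _ ⟨u, hu, rfl⟩
    exact ⟨(⟨u, hu⟩ : ↥U), Groth.Agent.R2.H25.GenFinSp.ofPt_restr a U ⟨u, hu⟩⟩
  · have hdr : DenseRange (AlgSp.Points.ofPt b) :=
      dense_of_genericPoints_subset _ (fun y hy => hK1' y hy)
    have h3 := hdr.dense_image (AlgSp.Points.continuous_ofPt b) hVd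
    refine h3.mono ?_
    rintro _ ⟨v, hv, rfl⟩
    exact ⟨(⟨v, hv⟩ : ↥V), Groth.Agent.R2.H25.GenFinSp.ofPt_restr b V ⟨v, hv⟩⟩
  · have h4 : (Over.homMk U.ι rfl : Over.mk (U.ι ≫ MX.hom) ⟶ MX) ≫ g =
        (Over.homMk (g.left.resLE V U hUV) hw : Over.mk (U.ι ≫ MX.hom) ⟶ Over.mk (V.ι ≫ MY.hom)) ≫
          (Over.homMk V.ι rfl : Over.mk (V.ι ≫ MY.hom) ⟶ MY) := by
      apply Over.OverMorphism.ext
      simp only [Over.comp_left, Over.homMk_left]
      exact (Scheme.Hom.resLE_comp_ι _ _).symm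
    unfold Groth.Agent.R2.H25.GenFinSp.restr
    rw [Category.assoc, hg, ← Category.assoc, ← Functor.map_comp, h4, Functor.map_comp,
      Category.assoc]
  · show IsIso (g.left.resLE V U hUV)
    exact hgi

/-- **a birational morphism of decent spaces with finitely many irreducible components is an
isomorphism over dense open subschemes.** -/
theorem exists_iso_dense_open {X Y : AlgSp.Space S} (f : X ⟶ Y)
    (hX : AlgSp.IsDecent X.obj) (hY : AlgSp.IsDecent Y.obj)
    (hXf : (irreducibleComponents (AlgSp.Points X.obj)).Finite)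
    (hYf : (irreducibleComponents (AlgSp.Points Y.obj)).Finite)
    (hf : W4stk3decentspacesp2.IsBirational f.hom)
    (h : (AlgSp.LocP @LocallyOfFiniteType f.hom ∧
        AlgSp.EtaleLocally (fun T => IsReduced T) Y.obj) ∨
      AlgSp.LocP @LocallyOfFinitePresentation f.hom) :
    ∃ (U V : Over S) (a : (AlgSp.yon S).obj U ⟶ X.obj) (b : (AlgSp.yon S).obj V ⟶ Y.obj)
      (g : U ⟶ V),
      AlgSp.RepWith @IsOpenImmersion a ∧ AlgSp.RepWith @IsOpenImmersion b ∧
        Dense (Set.range (AlgSp.Points.ofPt a)) ∧ Dense (Set.range (AlgSp.Points.ofPt b)) ∧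
          a ≫ f.hom = (AlgSp.yon S).map g ≫ b ∧ IsIso g.left := by
  haveI : T0Space (AlgSp.Points X.obj) := Groth.Agent.S10338.result X hX
  haveI : QuasiSober (AlgSp.Points X.obj) := Groth.Agent.S10339.result X hX
  haveI : T0Space (AlgSp.Points Y.obj) := Groth.Agent.S10338.result Y hY
  haveI : QuasiSober (AlgSp.Points Y.obj) := Groth.Agent.S10339.result Y hY
  obtain ⟨MY, b₀, hb₀, hb₀d⟩ := exists_dense_open_chart Y hY
  obtain ⟨MX₀, a₀, ha₀, ha₀d⟩ := exists_dense_open_chart X hX
  have hembY := isOpenEmbedding_ofPt b₀ hb₀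
  have hembX₀ := isOpenEmbedding_ofPt a₀ ha₀
  let O : MX₀.left.Opens :=
    ⟨(fun u => AlgSp.Points.map f.hom (AlgSp.Points.ofPt a₀ u)) ⁻¹'
        Set.range (AlgSp.Points.ofPt b₀),
      hembY.isOpen_range.preimage ((AlgSp.Points.continuous_map f.hom).comp
        (AlgSp.Points.continuous_ofPt a₀))⟩
  have ha : AlgSp.RepWith @IsOpenImmersion (Groth.Agent.R2.H25.GenFinSp.restr a₀ O) :=
    Groth.Agent.R2.H25.GenFinSp.restr_open ha₀ O
  obtain ⟨g, hg⟩ := Groth.Agent.R2.H25.GenFinSp.exists_factor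
    (Groth.Agent.R2.H25.GenFinSp.restr a₀ O) f.hom b₀ hb₀ (fun u => by
      rw [← range_ofPt_eq, Groth.Agent.R2.H25.GenFinSp.ofPt_restr]
      exact u.2)
  -- all generic points of `X` lie in the chart
  have hK1 : ∀ x ∈ genericPoints (AlgSp.Points X.obj),
      ∃ u : ↥(Over.mk (O.ι ≫ MX₀.hom)).left,
        AlgSp.Points.ofPt (Groth.Agent.R2.H25.GenFinSp.restr a₀ O) u = x := by
    intro x hx
    obtain ⟨u₀, rfl⟩ := mem_of_dense_open hXf _ hembX₀.isOpen_range ha₀d x hx
    have h1 : AlgSp.Points.map f.hom (AlgSp.Points.ofPt a₀ u₀) ∈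
        Set.range (AlgSp.Points.ofPt b₀) :=
      mem_of_dense_open hYf _ hembY.isOpen_range hb₀d _ (hf.bijOn.mapsTo hx)
    exact ⟨(⟨u₀, h1⟩ : ↥O), Groth.Agent.R2.H25.GenFinSp.ofPt_restr a₀ O ⟨u₀, h1⟩⟩
  have hK1' : ∀ y ∈ genericPoints (AlgSp.Points Y.obj), ∃ v : ↥MY.left,
      AlgSp.Points.ofPt b₀ v = y := fun y hy =>
    mem_of_dense_open hYf _ hembY.isOpen_range hb₀d y hy
  exact exists_iso_dense_open_aux f.hom hXf hYf hf h _ b₀ g ha hb₀ hg hK1 hK1'

end Main

end Groth.Agent.R2.H25.Birat
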