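-- helper83: scheme-level lemmas for birational morphisms of algebraic spaces (S10434 ff.):
-- no specialisations in a fibre below a point with algebraic residue field extension; the base
-- change of a morphism to `Spec O_{V,v}` at a generic point `v` is an isomorphism when the fibre
-- is a single point with an isomorphism of local rings.
import Mathlib
import Groth.Agent.Lib.Helper4BirStalk

set_option autoImplicit false
set_option backward.isDefEq.respectTransparency.types false
set_option linter.style.haveILetI false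
universe u
open CategoryTheory CategoryTheory.Limits AlgebraicGeometry

namespace Groth.Agent.R2.H83.BirSch

/-- if `R → A' → A₀` are maps of local rings whose composite is local with integral residue field
extension, then `A' → A₀` is local. -/
theorem isLocalHom_of_isIntegral_residue {R A' A₀ : Type*} [CommRing R] [CommRing A'] [CommRing A₀]
    [IsLocalRing R] [IsLocalRing A'] [IsLocalRing A₀] (ψ : R →+* A') (φ : A' →+* A₀)
    [hloc : IsLocalHom (φ.comp ψ)]
    (hint : (IsLocalRing.ResidueField.map (φ.comp ψ)).IsIntegral) : IsLocalHom φ := by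
  set 𝔭 : Ideal A' := Ideal.comap φ (IsLocalRing.maximalIdeal A₀) with h𝔭
  haveI : 𝔭.IsPrime := Ideal.comap_isPrime φ _
  have hle : IsLocalRing.maximalIdeal R ≤ Ideal.comap ψ 𝔭 := by
    rw [h𝔭, Ideal.comap_comap]
    exact ((IsLocalRing.local_hom_TFAE (φ.comp ψ)).out 0 3).1 hloc
  let α : IsLocalRing.ResidueField R →+* A' ⧸ 𝔭 := Ideal.quotientMap 𝔭 ψ hle
  let β : A' ⧸ 𝔭 →+* IsLocalRing.ResidueField A₀ :=
    Ideal.quotientMap (IsLocalRing.maximalIdeal A₀) φ le_rfl
  have hβ : Function.Injective β := Ideal.quotientMap_injective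
  have hcomp : β.comp α = IsLocalRing.ResidueField.map (φ.comp ψ) := by
    apply Ideal.Quotient.ringHom_ext
    ext r
    rfl
  have hα : α.IsIntegral := by
    apply RingHom.IsIntegral.tower_bot α β hβ
    rw [hcomp]
    exact hint
  letI : Algebra (IsLocalRing.ResidueField R) (A' ⧸ 𝔭) := α.toAlgebra
  haveI : Algebra.IsIntegral (IsLocalRing.ResidueField R) (A' ⧸ 𝔭) := ⟨hα⟩
  have hfield : IsField (A' ⧸ 𝔭) :=
    isField_of_isIntegral_of_isField' (Field.toIsField (IsLocalRing.ResidueField R))
  have hmax : 𝔭.IsMaximal := Ideal.Quotient.maximal_of_isField 𝔭 hfield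
  exact ((IsLocalRing.local_hom_TFAE φ).out 0 4).2 (IsLocalRing.eq_maximalIdeal hmax)

/-- the residue field extension of `h` at `w` is algebraic. -/
def AlgAt {W V : Scheme.{u}} (h : W ⟶ V) (w : W) : Prop := (h.residueFieldMap w).hom.IsIntegral

lemma algAt_comp {X Y Z : Scheme.{u}} (f : X ⟶ Y) (g : Y ⟶ Z) (x : X) (hf : AlgAt f x)
    (hg : AlgAt g (f x)) : AlgAt (f ≫ g) x := by
  unfold AlgAt
  have key : (Scheme.Hom.residueFieldMap (f ≫ g) x).hom =
      (g.residueFieldMap (f x) ≫ f.residueFieldMap x).hom :=
    congrArg CommRingCat.Hom.hom (Scheme.residueFieldMap_comp f g x)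
  rw [key]
  exact RingHom.IsIntegral.trans _ _ hg hf

lemma algAt_of_isIso_stalkMap {X Y : Scheme.{u}} (f : X ⟶ Y) (x : X) [IsIso (f.stalkMap x)] :
    AlgAt f x := by
  refine RingHom.isIntegral_of_surjective _ fun b => ?_
  obtain ⟨b', rfl⟩ := X.residue_surjective x b
  obtain ⟨b'', rfl⟩ := (ConcreteCategory.bijective_of_isIso (f.stalkMap x)).2 b'
  refine ⟨Y.residue (f x) b'', ?_⟩
  have := Scheme.residue_residueFieldMap f x
  exact congrArg (fun k => k.hom b'') this

lemma algAt_of_etale {X Y : Scheme.{u}} (f : X ⟶ Y) [Etale f] (x : X) : AlgAt f x := by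
  letI : Algebra (Y.residueField (f x)) (X.residueField x) := (f.residueFieldMap x).hom.toAlgebra
  haveI : Algebra.IsSeparable (Y.residueField (f x)) (X.residueField x) := inferInstance
  haveI : Algebra.IsIntegral (Y.residueField (f x)) (X.residueField x) :=
    Algebra.IsAlgebraic.isIntegral
  exact Algebra.IsIntegral.isIntegral

/-- algebraicity of the residue field extension descends along an open immersion of the source. -/
lemma algAt_of_comp_openImmersion {X' X Y : Scheme.{u}} (ι : X' ⟶ X) [IsOpenImmersion ι]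
    (h : X ⟶ Y) (x : X') (hx : AlgAt (ι ≫ h) x) : AlgAt h (ι x) := by
  unfold AlgAt at hx ⊢
  have key : (Scheme.Hom.residueFieldMap (ι ≫ h) x).hom =
      (h.residueFieldMap (ι x) ≫ ι.residueFieldMap x).hom :=
    congrArg CommRingCat.Hom.hom (Scheme.residueFieldMap_comp ι h x)
  rw [key] at hx
  exact RingHom.IsIntegral.tower_bot (h.residueFieldMap (ι x)).hom (ι.residueFieldMap x).hom
    (ι.residueFieldMap x).hom.injective hx

lemma algAt_congr {X Y : Scheme.{u}} {f g : X ⟶ Y} (e : f = g) (x : X) (h : AlgAt f x) :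
    AlgAt g x := by
  subst e
  exact h

/-- no specialisations inside a fibre below a point with algebraic residue field extension. -/
theorem eq_of_specializes_of_algAt {W V : Scheme.{u}} (h : W ⟶ V) {w₀ w' : W} (hs : w₀ ⤳ w')
    (he : h w₀ = h w') (halg : AlgAt h w₀) : w₀ = w' := by
  have hnat := Scheme.Hom.stalkSpecializes_stalkMap h w₀ w' hs
  set σ := V.presheaf.stalkSpecializes (h.base.hom.map_specializes hs) with hσ
  haveI : IsIso σ := Groth.Agent.Lib.Helper4.BirStalk.isIso_stalkSpecializes_of_eq V _ he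
  set φ := W.presheaf.stalkSpecializes hs with hφ
  haveI : IsLocalHom σ.hom := isLocalHom_of_isIso σ
  have hcomp : φ.hom.comp (h.stalkMap w').hom = (h.stalkMap w₀).hom.comp σ.hom := by
    rw [← CommRingCat.hom_comp, ← CommRingCat.hom_comp, hnat]
  haveI : IsLocalHom (φ.hom.comp (h.stalkMap w').hom) := by
    rw [hcomp]
    infer_instance
  have hint : (IsLocalRing.ResidueField.map (φ.hom.comp (h.stalkMap w').hom)).IsIntegral := by
    have h1 : IsLocalRing.ResidueField.map (φ.hom.comp (h.stalkMap w').hom) =
        (IsLocalRing.ResidueField.map (h.stalkMap w₀).hom).comp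
          (IsLocalRing.ResidueField.map σ.hom) := by
      apply Ideal.Quotient.ringHom_ext
      ext r
      change IsLocalRing.residue _ ((φ.hom.comp (h.stalkMap w').hom) r) =
        IsLocalRing.residue _ (((h.stalkMap w₀).hom.comp σ.hom) r)
      rw [hcomp]
    rw [h1]
    refine RingHom.IsIntegral.trans _ _ (RingHom.isIntegral_of_surjective _ ?_) halg
    intro b
    obtain ⟨b', rfl⟩ := IsLocalRing.residue_surjective b
    obtain ⟨b'', rfl⟩ := (ConcreteCategory.bijective_of_isIso σ).2 b'
    exact ⟨IsLocalRing.residue _ b'', rfl⟩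
  haveI : IsLocalHom φ.hom := isLocalHom_of_isIntegral_residue (h.stalkMap w').hom φ.hom hint
  have h1 := Scheme.SpecMap_stalkSpecializes_fromSpecStalk hs
  have h2 : W.fromSpecStalk w' (Spec.map φ
      (IsLocalRing.closedPoint (W.presheaf.stalk w₀))) =
        W.fromSpecStalk w₀ (IsLocalRing.closedPoint (W.presheaf.stalk w₀)) := by
    rw [← h1]; rfl
  rw [Spec_closedPoint, Scheme.fromSpecStalk_closedPoint, Scheme.fromSpecStalk_closedPoint] at h2
  exact h2.symm

open Groth.Agent.Lib.Helper14 Groth.Agent.Lib.Helper6 Groth.Agent.Lib.Helper4.BirStalk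

/-- the base change of `g` to `Spec O_{V,v}` at a point `v` without proper generisations is an
isomorphism as soon as its only point lies over a point `u` at which `g` induces an isomorphism of
local rings. -/
theorem isIso_snd_fromSpecStalk_of_fibre {U V : Scheme.{u}} (g : U ⟶ V) (u : U) (v : V)
    (hv : g u = v) (hmin : ∀ v' : V, v' ⤳ v → v' = v)
    (hfib : ∀ w : ↑(pullback g (V.fromSpecStalk v)), pullback.fst g (V.fromSpecStalk v) w = u)
    (hiso : IsIso (g.stalkMap u)) : IsIso (pullback.snd g (V.fromSpecStalk v)) := by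
  have hjt : ∀ t, V.fromSpecStalk v t = v := fun t => hmin _ (fromSpecStalk_specializes V v t)
  have hTsub : ∀ t t' : Spec (V.presheaf.stalk v), t = t' := fun t t' =>
    (V.fromSpecStalk v).isEmbedding.injective ((hjt t).trans (hjt t').symm)
  have hWsub : ∀ w w' : ↑(pullback g (V.fromSpecStalk v)), w = w' := fun w w' =>
    (pullback.fst g (V.fromSpecStalk v)).isEmbedding.injective ((hfib w).trans (hfib w').symm)
  let t₀ : Spec (V.presheaf.stalk v) := IsLocalRing.closedPoint (V.presheaf.stalk v)
  obtain ⟨w₀, -, -⟩ := Scheme.Pullback.exists_preimage_pullback (f := g) (g := V.fromSpecStalk v)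
    u t₀ (hv.trans (hjt t₀).symm)
  have hisoAll : ∀ x : U, x = u → IsIso (g.stalkMap x) := by
    rintro x rfl
    exact hiso
  rw [isIso_iff_isIso_stalkMap]
  refine ⟨?_, fun w => ?_⟩
  · apply TopCat.isIso_of_bijective_of_isOpenMap
    · refine ⟨fun w w' _ => hWsub w w', fun t => ⟨w₀, hTsub _ _⟩⟩
    · intro s hs
      by_cases hw : w₀ ∈ s
      · convert isOpen_univ
        rw [Set.eq_univ_iff_forall]
        intro t
        exact ⟨w₀, hw, hTsub _ _⟩
      · convert isOpen_empty
        rw [Set.eq_empty_iff_forall_notMem]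
        rintro t ⟨w, hws, -⟩
        exact hw (hWsub w w₀ ▸ hws)
  · have h1 := Scheme.Hom.stalkMap_congr_hom _ _
      (pullback.condition (f := g) (g := V.fromSpecStalk v)) w
    rw [Scheme.Hom.stalkMap_comp, Scheme.Hom.stalkMap_comp] at h1
    haveI : IsIso (g.stalkMap (pullback.fst g (V.fromSpecStalk v) w)) := hisoAll _ (hfib w)
    haveI : IsIso ((pullback.fst g (V.fromSpecStalk v)).stalkMap w) :=
      isIso_stalkMap_fst_pullback_fromSpecStalk g v w
    haveI : IsIso ((V.fromSpecStalk v).stalkMap (pullback.snd g (V.fromSpecStalk v) w)) :=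
      isIso_stalkMap_of_flat_of_isPreimmersion _ _
    have h2 : IsIso (g.stalkMap (pullback.fst g (V.fromSpecStalk v) w) ≫
        (pullback.fst g (V.fromSpecStalk v)).stalkMap w) := inferInstance
    rw [h1] at h2
    exact isIso_of_comp3 _ _ _ (Iso.isIso_hom _) this h2

end Groth.Agent.R2.H83.BirSch
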