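import Mathlib
import Groth.Prelude
import Groth.Agent.R2.H25Birat
import Groth.Agent.R2.H83BirSch
import Groth.Agent.R2.H45HasAt
import Groth.Agent.S2080
import Groth.Agent.S10340
import Groth.Agent.S10343

/-!
# Generic finiteness for dominant morphisms of integral algebraic spaces

* `eq_of_algAt`: a point with algebraic residue field extension (in some étale chart diagram) has
  no proper specialization in its fibre;
* `exists_finite_restr`: scheme-level generic finiteness around a point which is alone in its fibre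
  over a generic point.
-/

set_option autoImplicit false
set_option linter.style.haveILetI false
universe u
open CategoryTheory CategoryTheory.Limits AlgebraicGeometry Topology TopologicalSpace

namespace Groth.Agent.R2.H25.IntSp

open Groth.Agent.R2.H83.BirSch

section AlgAt

/-- algebraicity of a residue field extension passes to the top of a tower. -/
lemma algAt_of_comp_right {X Y Z : Scheme.{u}} (f : X ⟶ Y) (g : Y ⟶ Z) (x : X)
    (h : AlgAt (f ≫ g) x) : AlgAt f x := by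
  unfold AlgAt at h ⊢
  have key : (Scheme.Hom.residueFieldMap (f ≫ g) x).hom =
      (g.residueFieldMap (f x) ≫ f.residueFieldMap x).hom :=
    congrArg CommRingCat.Hom.hom (Scheme.residueFieldMap_comp f g x)
  rw [key, CommRingCat.hom_comp] at h
  exact RingHom.IsIntegral.tower_top _ _ h

/-- algebraicity of a residue field extension passes to the bottom of a tower. -/
lemma algAt_of_comp_left {X Y Z : Scheme.{u}} (f : X ⟶ Y) (g : Y ⟶ Z) (x : X)
    (h : AlgAt (f ≫ g) x) : AlgAt g (f x) := by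
  unfold AlgAt at h ⊢
  have key : (Scheme.Hom.residueFieldMap (f ≫ g) x).hom =
      (g.residueFieldMap (f x) ≫ f.residueFieldMap x).hom :=
    congrArg CommRingCat.Hom.hom (Scheme.residueFieldMap_comp f g x)
  rw [key, CommRingCat.hom_comp] at h
  exact RingHom.IsIntegral.tower_bot _ _ (RingHom.injective _) h

theorem isIntegral_residueField_map_of_quasiFinite {A B : Type u} [CommRing A] [CommRing B]
    [IsLocalRing A] [IsLocalRing B] (φ : A →+* B) [IsLocalHom φ] (h : φ.QuasiFinite) :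
    (IsLocalRing.ResidueField.map φ).IsIntegral := by
  algebraize [φ]
  haveI : IsLocalHom (algebraMap A B) := by rw [RingHom.algebraMap_toAlgebra]; infer_instance
  let κ := IsLocalRing.ResidueField A
  let κB := IsLocalRing.ResidueField B
  haveI : Algebra.QuasiFinite κ (TensorProduct A κ B) := inferInstance
  haveI : Module.Finite κ (TensorProduct A κ B) := Module.Finite.of_quasiFinite
  let F : TensorProduct A κ B →ₐ[κ] κB :=
    Algebra.TensorProduct.lift (Algebra.ofId κ κB) (IsScalarTower.toAlgHom A B κB)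
      (fun _ _ => Commute.all _ _)
  have hF : Function.Surjective F := by
    intro z
    obtain ⟨b, rfl⟩ := IsLocalRing.residue_surjective z
    refine ⟨1 ⊗ₜ b, ?_⟩
    simp [F]
    rfl
  haveI : Module.Finite κ κB := Module.Finite.of_surjective F.toLinearMap hF
  have : (algebraMap κ κB).IsIntegral := Algebra.IsIntegral.isIntegral (R := κ) (A := κB)
  exact this

/-- a morphism quasi-finite at a point has algebraic residue field extension there. -/
lemma algAt_of_quasiFiniteAt {X Y : Scheme.{u}} (g : X ⟶ Y) (x : X) (h : g.QuasiFiniteAt x) :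
    AlgAt g x := by
  unfold AlgAt
  exact isIntegral_residueField_map_of_quasiFinite (g.stalkMap x).hom h

lemma algAt_of_locallyQuasiFinite {X Y : Scheme.{u}} (g : X ⟶ Y) [LocallyQuasiFinite g] (x : X) :
    AlgAt g x :=
  algAt_of_quasiFiniteAt g x (g.quasiFiniteAt x)

/-- transcendence degree zero means algebraic residue field extension. -/
lemma algAt_iff_resTrdeg {X Y : Scheme.{u}} (g : X ⟶ Y) (x : X) :
    AlgAt g x ↔ Dual3.resTrdeg g x = 0 := by
  unfold AlgAt Dual3.resTrdeg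
  letI := (g.residueFieldMap x).hom.toAlgebra
  rw [trdeg_eq_zero_iff]
  constructor
  · intro h
    haveI : Algebra.IsIntegral (Y.residueField (g x)) (X.residueField x) := ⟨h⟩
    exact Algebra.IsIntegral.isAlgebraic
  · intro h
    haveI := h
    exact (Algebra.IsAlgebraic.isIntegral (K := Y.residueField (g x))
      (A := X.residueField x)).isIntegral

end AlgAt

section Sch

/-- **generic finiteness around a point alone in its fibre over a generic point** (schemes). -/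
theorem exists_finite_restr {A B : Scheme.{u}} (g : A ⟶ B) [LocallyOfFiniteType g] (u₀ : A)
    (huniq : ∀ u : A, g u = g u₀ → u = u₀)
    (hgen : closure {g u₀} ∈ irreducibleComponents ↥B) :
    ∃ (U V : Scheme.{u}) (ιU : U ⟶ A) (ιV : V ⟶ B) (g' : U ⟶ V), IsAffine U ∧ IsAffine V ∧
      IsOpenImmersion ιU ∧ IsOpenImmersion ιV ∧ g' ≫ ιV = ιU ≫ g ∧ IsFinite g' ∧
        u₀ ∈ Set.range ιU := by
  obtain ⟨V₀, hV₀, hgV₀⟩ : ∃ V₀ : B.Opens, IsAffineOpen V₀ ∧ g u₀ ∈ V₀ := by
    obtain ⟨_, ⟨V₀, hV₀, rfl⟩, hgV₀, -⟩ :=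
      B.isBasis_affineOpens.exists_subset_of_mem_open (Set.mem_univ (g u₀)) isOpen_univ
    exact ⟨V₀, hV₀, hgV₀⟩
  obtain ⟨U₀, hU₀, huU₀, e⟩ : ∃ U₀ : A.Opens, IsAffineOpen U₀ ∧ u₀ ∈ U₀ ∧ U₀ ≤ g ⁻¹ᵁ V₀ := by
    obtain ⟨_, ⟨U₀, hU₀, rfl⟩, huU₀, hU₀V₀⟩ :=
      A.isBasis_affineOpens.exists_subset_of_mem_open (show u₀ ∈ ((g ⁻¹ᵁ V₀ : A.Opens) : Set A)
        from hgV₀) (g ⁻¹ᵁ V₀).isOpen
    exact ⟨U₀, hU₀, huU₀, hU₀V₀⟩
  haveI : IsAffine ↑U₀ := hU₀
  haveI : IsAffine ↑V₀ := hV₀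
  let g₀ : (U₀ : Scheme.{u}) ⟶ V₀ := g.resLE V₀ U₀ e
  have hg₀ι : g₀ ≫ V₀.ι = U₀.ι ≫ g := Scheme.Hom.resLE_comp_ι g e
  let η : ↥(V₀ : Scheme.{u}) := ⟨g u₀, hgV₀⟩
  let υ : ↥(U₀ : Scheme.{u}) := ⟨u₀, huU₀⟩
  have hg₀υ : g₀ υ = η := by
    apply V₀.ι.isOpenEmbedding.injective
    change (g₀ ≫ V₀.ι) υ = _
    rw [hg₀ι]
    rfl
  have hfib : (g₀ ⁻¹' {η}).Finite := by
    refine (Set.finite_singleton υ).subset ?_
    intro w hw
    have hw' : g₀ w = η := hw
    have h1 : g (U₀.ι w) = g u₀ := by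
      change (U₀.ι ≫ g) w = _
      rw [← hg₀ι]
      change V₀.ι (g₀ w) = _
      rw [hw']
      rfl
    exact U₀.ι.isOpenEmbedding.injective (huniq _ h1)
  have hη : closure {η} ∈ irreducibleComponents ↥(V₀ : Scheme.{u}) :=
    (Groth.Agent.R2.H25.Birat.mem_genericPoints_iff V₀.ι.isOpenEmbedding η).2 hgen
  obtain ⟨V', hV', hηV', hfin⟩ := (Groth.Agent.S2080.result g₀ η hη).1 hfib
  haveI := hfin
  haveI : IsAffine ↑V' := hV'
  refine ⟨↑(g₀ ⁻¹ᵁ V'), ↑V', (g₀ ⁻¹ᵁ V').ι ≫ U₀.ι, V'.ι ≫ V₀.ι, g₀ ∣_ V',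
    isAffine_of_isAffineHom (g₀ ∣_ V'), hV', inferInstance, inferInstance, ?_, hfin, ?_⟩
  · rw [← Category.assoc, morphismRestrict_ι, Category.assoc, hg₀ι, Category.assoc]
  · have hυ : υ ∈ g₀ ⁻¹ᵁ V' := by
      show g₀ υ ∈ V'
      rw [hg₀υ]
      exact hηV'
    exact ⟨⟨υ, hυ⟩, rfl⟩

end Sch

section Sp

variable {S : Scheme.{u}}

/-- two morphisms to an étale chart which agree in the sheaf have the same algebraicity of residue
field extensions. -/
lemma algAt_of_eq_comp {Y : AlgSp.Sp S} {V T : Over S} (b : (AlgSp.yon S).obj V ⟶ Y)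
    (hb : AlgSp.RepWith @Etale b) (φ ψ : T ⟶ V)
    (h : (AlgSp.yon S).map φ ≫ b = (AlgSp.yon S).map ψ ≫ b) (t : ↥T.left)
    (hφ : AlgAt φ.left t) : AlgAt ψ.left t := by
  obtain ⟨R, pr₂, pr₁', sqR⟩ := hb.1 b
  obtain ⟨pr₁, rfl⟩ := (AlgSp.yon S).map_surjective pr₁'
  haveI : Etale pr₂.left := hb.2 b _ pr₂ sqR
  obtain ⟨ρ, hρ⟩ := (AlgSp.yon S).map_surjective (sqR.lift _ _ h)
  have h1 : ρ ≫ pr₁ = φ :=
    (AlgSp.yon S).map_injective (by rw [Functor.map_comp, hρ, sqR.lift_fst])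
  have h2 : ρ ≫ pr₂ = ψ :=
    (AlgSp.yon S).map_injective (by rw [Functor.map_comp, hρ, sqR.lift_snd])
  have h1' : ρ.left ≫ pr₁.left = φ.left := by rw [← Over.comp_left, h1]
  have hρa : AlgAt ρ.left t := algAt_of_comp_right ρ.left pr₁.left t (by rw [h1']; exact hφ)
  rw [← h2, Over.comp_left]
  exact algAt_comp ρ.left pr₂.left t hρa (algAt_of_etale pr₂.left _)

/-- **a point with algebraic residue field extension over its image has no proper specialization
in its fibre.** -/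
theorem eq_of_algAt {X Y : AlgSp.Space S} (f : X ⟶ Y) (hY : AlgSp.IsDecent Y.obj)
    (x x' : AlgSp.Points X.obj) (hs : x ⤳ x')
    (hx : ∃ p : AlgSp.FieldPt X.obj, AlgSp.Points.mk p = x ∧ Mono p.toHom ∧
      AlgSp.RepWith @QuasiCompact p.toHom)
    (hxx' : AlgSp.Points.map f.hom x' = AlgSp.Points.map f.hom x)
    (halg : AlgSp.HasAtMor (fun _ _ h u => AlgAt h u) f.hom x) : x' = x := by
  obtain ⟨U, V, a, b, h, u, ha, hb, comm, hu, hau⟩ := halg
  have hfx : AlgSp.Points.map f.hom x = AlgSp.Points.ofPt b (h.left u) := by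
    rw [← hu, AlgSp.Points.map_ofPt, comm, Groth.Agent.S10176.ofPt_map_comp]
  obtain ⟨W, c, w', hc, -, hw'⟩ := Groth.Agent.R2.H45.HasAt.exists_chart X.property x'
  -- the fibre product of `W` and `V` over `Y`
  obtain ⟨W₂, pr, k', sq⟩ := hb.1 (c ≫ f.hom)
  obtain ⟨k, rfl⟩ := (AlgSp.yon S).map_surjective k'
  haveI : Etale pr.left := hb.2 (c ≫ f.hom) _ pr sq
  have e1 : AlgSp.Points.ofPt b (h.left u) = AlgSp.Points.ofPt (c ≫ f.hom) w' := by
    rw [← hfx, ← hxx', ← hw', AlgSp.Points.map_ofPt]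
  obtain ⟨w₂', hw₂'k, hw₂'pr⟩ := Groth.Agent.S10176.exists_point_of_isPullback_yon sq _ _ e1
  -- lifting the generization
  obtain ⟨w, hww', hcw⟩ := Groth.Agent.S10343.result X x' x hs hx c hc w' hw'
  obtain ⟨w₂, hw₂s, hw₂pr⟩ := (Flat.generalizingMap pr.left) (hw₂'pr ▸ hww')
  -- the images in `V`
  have hkw₂ : AlgSp.Points.ofPt b (k.left w₂) = AlgSp.Points.map f.hom x := by
    rw [← Groth.Agent.S10176.ofPt_map_comp, sq.w, Groth.Agent.S10176.ofPt_map_comp, hw₂pr,
      ← AlgSp.Points.map_ofPt, hcw]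
  have hks : k.left w₂ ⤳ h.left u := by
    rw [← hw₂'k]
    exact hw₂s.map k.left.continuous
  have hkeq : h.left u = k.left w₂ :=
    Groth.Agent.S10340.result Y hY b hb (h.left u) (k.left w₂) (by rw [hkw₂, hfx]) hks
  -- algebraicity of `k` at `w₂`
  have hc₂ : AlgSp.RepWith @Etale ((AlgSp.yon S).map pr ≫ c) :=
    MorphismProperty.comp_mem _ _ _
      ((AlgSp.repWith_yon_map_iff @Etale pr).2 (inferInstance : Etale pr.left)) hc
  obtain ⟨T, q, p', sqT⟩ := ha.1 ((AlgSp.yon S).map pr ≫ c)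
  obtain ⟨p, rfl⟩ := (AlgSp.yon S).map_surjective p'
  haveI : Etale q.left := ha.2 _ _ q sqT
  haveI : Etale p.left := hc₂.2 a _ p sqT.flip
  have e2 : AlgSp.Points.ofPt a u = AlgSp.Points.ofPt ((AlgSp.yon S).map pr ≫ c) w₂ := by
    rw [hu, Groth.Agent.S10176.ofPt_map_comp, hw₂pr, hcw]
  obtain ⟨t, htp, htq⟩ := Groth.Agent.S10176.exists_point_of_isPullback_yon sqT _ _ e2
  have hcommT : (AlgSp.yon S).map (p ≫ h) ≫ b = (AlgSp.yon S).map (q ≫ k) ≫ b := by
    rw [Functor.map_comp, Functor.map_comp, Category.assoc, Category.assoc, ← comm, sq.w,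
      ← Category.assoc, ← Category.assoc, sqT.w]
    simp only [Category.assoc]
  have hφ : AlgAt (p ≫ h).left t := by
    rw [Over.comp_left]
    refine algAt_comp p.left h.left t (algAt_of_etale p.left t) ?_
    rw [htp]
    exact hau
  have hψ : AlgAt (q ≫ k).left t := algAt_of_eq_comp b hb (p ≫ h) (q ≫ k) hcommT t hφ
  rw [Over.comp_left] at hψ
  have hk : AlgAt k.left w₂ := by
    have := algAt_of_comp_left q.left k.left t hψ
    rwa [htq] at this
  have hweq : w₂ = w₂' :=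
    eq_of_specializes_of_algAt k.left hw₂s (by rw [hw₂'k, ← hkeq]) hk
  rw [← hw', ← hw₂'pr, ← hweq, hw₂pr, hcw]

end Sp

section Integral

variable {S : Scheme.{u}}

open Groth.Agent.R2.H25.Birat Groth.Agent.R2.H25.GenFinSp

/-- restriction of a chart along an open immersion of schemes. -/
noncomputable def restrι {X : AlgSp.Sp S} {M : Over S} (a : (AlgSp.yon S).obj M ⟶ X)
    {U : Scheme.{u}} (ι : U ⟶ M.left) : (AlgSp.yon S).obj (Over.mk (ι ≫ M.hom)) ⟶ X :=
  (AlgSp.yon S).map (Over.homMk ι rfl : Over.mk (ι ≫ M.hom) ⟶ M) ≫ a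

lemma ofPt_restrι {X : AlgSp.Sp S} {M : Over S} (a : (AlgSp.yon S).obj M ⟶ X)
    {U : Scheme.{u}} (ι : U ⟶ M.left) (w : ↥U) :
    AlgSp.Points.ofPt (restrι a ι) w = AlgSp.Points.ofPt a (ι w) :=
  Groth.Agent.S10176.ofPt_map_comp (Over.homMk ι rfl : Over.mk (ι ≫ M.hom) ⟶ M) a w

lemma restrι_open {X : AlgSp.Sp S} {M : Over S} {a : (AlgSp.yon S).obj M ⟶ X}
    (ha : AlgSp.RepWith @IsOpenImmersion a) {U : Scheme.{u}} (ι : U ⟶ M.left)
    [IsOpenImmersion ι] : AlgSp.RepWith @IsOpenImmersion (restrι a ι) :=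
  (AlgSp.repWith_isMultiplicative (S := S) @IsOpenImmersion).comp_mem _ _
    ((AlgSp.repWith_yon_map_iff _ _).2 (inferInstance : IsOpenImmersion ι)) ha

/-- a dominant map sends the generic point to the generic point. -/
lemma map_generic {X Y : AlgSp.Sp S} [T0Space (AlgSp.Points Y)] (f : X ⟶ Y)
    (hd : AlgSp.IsDominantMor f) {x : AlgSp.Points X}
    (hx : IsGenericPoint x (Set.univ : Set (AlgSp.Points X))) {y : AlgSp.Points Y}
    (hy : IsGenericPoint y (Set.univ : Set (AlgSp.Points Y))) : AlgSp.Points.map f x = y := by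
  have h1 := hx.image (AlgSp.Points.continuous_map f)
  rw [Set.image_univ, DenseRange.closure_range hd] at h1
  exact h1.eq hy

/-- the generic point of a space is a generic point of an irreducible component. -/
lemma mem_genericPoints_of_isGenericPoint {α : Type*} [TopologicalSpace α] {x : α}
    (hx : IsGenericPoint x (Set.univ : Set α)) : x ∈ genericPoints α := by
  show closure {x} ∈ irreducibleComponents α
  rw [hx.def]
  refine ⟨?_, fun t _ _ => Set.subset_univ t⟩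
  rw [← hx.def]
  exact isIrreducible_singleton.closure

/-- the generic point lies in every nonempty open subscheme. -/
lemma exists_ofPt_eq_generic {X : AlgSp.Sp S} {U : Over S} (a : (AlgSp.yon S).obj U ⟶ X)
    (ha : AlgSp.RepWith @IsOpenImmersion a) [Nonempty ↥U.left] {x : AlgSp.Points X}
    (hx : IsGenericPoint x (Set.univ : Set (AlgSp.Points X))) :
    ∃ u : ↥U.left, AlgSp.Points.ofPt a u = x := by
  have hopen := (isOpenEmbedding_ofPt a ha).isOpen_range
  refine (hx.mem_open_set_iff hopen).2 ?_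
  obtain ⟨u⟩ := ‹Nonempty ↥U.left›
  exact ⟨_, Set.mem_univ _, u, rfl⟩

/-- **generic finiteness: if the generic point `x` is the only point over the generic point `y`,
then `f` restricts to a finite morphism of nonempty affine open subschemes.** -/
theorem exists_finite_charts {X Y : AlgSp.Space S} (hXd : AlgSp.IsDecent X.obj)
    (hYd : AlgSp.IsDecent Y.obj) (f : X ⟶ Y) (hft : AlgSp.LocP @LocallyOfFiniteType f.hom)
    (x : AlgSp.Points X.obj) (hx : IsGenericPoint x (Set.univ : Set (AlgSp.Points X.obj)))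
    (y : AlgSp.Points Y.obj) (hy : IsGenericPoint y (Set.univ : Set (AlgSp.Points Y.obj)))
    (hxy : AlgSp.Points.map f.hom x = y)
    (huniq : ∀ x' : AlgSp.Points X.obj, AlgSp.Points.map f.hom x' = y → x' = x) :
    ∃ (U V : Over S) (a : (AlgSp.yon S).obj U ⟶ X.obj) (b : (AlgSp.yon S).obj V ⟶ Y.obj)
      (g : U ⟶ V) (u₀ : ↥U.left), IsAffine U.left ∧ IsAffine V.left ∧
        AlgSp.RepWith @IsOpenImmersion a ∧ AlgSp.RepWith @IsOpenImmersion b ∧
          a ≫ f.hom = (AlgSp.yon S).map g ≫ b ∧ IsFinite g.left ∧ AlgSp.Points.ofPt a u₀ = x := by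
  haveI : T0Space (AlgSp.Points Y.obj) := Groth.Agent.S10338.result Y hYd
  haveI : QuasiSober (AlgSp.Points Y.obj) := Groth.Agent.S10339.result Y hYd
  obtain ⟨MY, b₀, hb₀, hb₀d⟩ := exists_dense_open_chart Y hYd
  obtain ⟨MX₀, a₀, ha₀, ha₀d⟩ := exists_dense_open_chart X hXd
  have hembY := isOpenEmbedding_ofPt b₀ hb₀
  have hembX₀ := isOpenEmbedding_ofPt a₀ ha₀
  obtain ⟨v₀, hv₀⟩ : ∃ v₀ : ↥MY.left, AlgSp.Points.ofPt b₀ v₀ = y :=
    (hy.mem_open_set_iff hembY.isOpen_range).2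
      (by rw [Set.univ_inter]; exact hb₀d.nonempty_iff.2 ⟨y⟩)
  obtain ⟨m₀, hm₀⟩ : ∃ m₀ : ↥MX₀.left, AlgSp.Points.ofPt a₀ m₀ = x :=
    (hx.mem_open_set_iff hembX₀.isOpen_range).2
      (by rw [Set.univ_inter]; exact ha₀d.nonempty_iff.2 ⟨x⟩)
  let O : MX₀.left.Opens :=
    ⟨(fun u => AlgSp.Points.map f.hom (AlgSp.Points.ofPt a₀ u)) ⁻¹'
        Set.range (AlgSp.Points.ofPt b₀),
      hembY.isOpen_range.preimage ((AlgSp.Points.continuous_map f.hom).comp
        (AlgSp.Points.continuous_ofPt a₀))⟩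
  have ha₁ : AlgSp.RepWith @IsOpenImmersion (restr a₀ O) := restr_open ha₀ O
  obtain ⟨g₁, hg₁⟩ := exists_factor (restr a₀ O) f.hom b₀ hb₀ (fun u => by
      rw [← range_ofPt_eq, ofPt_restr]
      exact u.2)
  have hK2 : ∀ u : ↥O, AlgSp.Points.map f.hom (AlgSp.Points.ofPt (restr a₀ O) u) =
      AlgSp.Points.ofPt b₀ (g₁.left u) := by
    intro u
    rw [AlgSp.Points.map_ofPt, hg₁, Groth.Agent.S10176.ofPt_map_comp]
  have hm₀O : m₀ ∈ O := by
    show AlgSp.Points.map f.hom (AlgSp.Points.ofPt a₀ m₀) ∈ Set.range (AlgSp.Points.ofPt b₀)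
    rw [hm₀, hxy]
    exact ⟨v₀, hv₀⟩
  let u₁ : ↥O := ⟨m₀, hm₀O⟩
  have hu₁ : AlgSp.Points.ofPt (restr a₀ O) u₁ = x := by rw [ofPt_restr]; exact hm₀
  have hinj₁ := ofPt_injective_of_open (restr a₀ O) ha₁
  haveI : LocallyOfFiniteType g₁.left :=
    hft (restr a₀ O) b₀ g₁ (etale_of_open ha₁) (etale_of_open hb₀) hg₁
  have hgu₁ : AlgSp.Points.ofPt b₀ (g₁.left u₁) = y := by rw [← hK2, hu₁, hxy]
  have huniq' : ∀ u : ↥(Over.mk (O.ι ≫ MX₀.hom)).left, g₁.left u = g₁.left u₁ → u = u₁ := by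
    intro u hu
    apply hinj₁
    rw [hu₁]
    apply huniq
    rw [hK2, hu, hgu₁]
  have hgen : closure {g₁.left u₁} ∈ irreducibleComponents ↥MY.left := by
    have h1 : g₁.left u₁ ∈ genericPoints ↥MY.left := by
      rw [mem_genericPoints_iff hembY, hgu₁]
      exact mem_genericPoints_of_isGenericPoint hy
    exact h1
  obtain ⟨U, V, ιU, ιV, g', hU, hV, hιU, hιV, hcomm, hfin, ⟨w₀, hw₀⟩⟩ :=
    exists_finite_restr g₁.left u₁ huniq' hgen
  have hw : g' ≫ (ιV ≫ MY.hom) = ιU ≫ (Over.mk (O.ι ≫ MX₀.hom)).hom := by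
    rw [← Category.assoc, hcomm, Category.assoc, Over.w g₁]
  refine ⟨Over.mk (ιU ≫ (Over.mk (O.ι ≫ MX₀.hom)).hom), Over.mk (ιV ≫ MY.hom),
    restrι (restr a₀ O) ιU, restrι b₀ ιV, Over.homMk g' hw, w₀, hU, hV,
    restrι_open ha₁ ιU, restrι_open hb₀ ιV, ?_, hfin, ?_⟩
  · have h4 : (Over.homMk ιU rfl : Over.mk (ιU ≫ (Over.mk (O.ι ≫ MX₀.hom)).hom) ⟶
          Over.mk (O.ι ≫ MX₀.hom)) ≫ g₁ =
        (Over.homMk g' hw : Over.mk (ιU ≫ (Over.mk (O.ι ≫ MX₀.hom)).hom) ⟶
          Over.mk (ιV ≫ MY.hom)) ≫ (Over.homMk ιV rfl : Over.mk (ιV ≫ MY.hom) ⟶ MY) := by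
      apply Over.OverMorphism.ext
      simp only [Over.comp_left, Over.homMk_left]
      exact hcomm.symm
    unfold restrι
    rw [Category.assoc, hg₁, ← Category.assoc, ← Functor.map_comp, h4, Functor.map_comp,
      Category.assoc]
  · rw [ofPt_restrι, hw₀]
    exact hu₁

/-- **if the residue field extension at the generic point is algebraic (in some chart diagram),
then the generic point of `X` is the only point over the generic point of `Y`.** -/
theorem unique_of_algAt {X Y : AlgSp.Space S} (hXd : AlgSp.IsDecent X.obj)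
    (hYd : AlgSp.IsDecent Y.obj) (f : X ⟶ Y) (hd : AlgSp.IsDominantMor f.hom)
    (x : AlgSp.Points X.obj) (hx : IsGenericPoint x (Set.univ : Set (AlgSp.Points X.obj)))
    (y : AlgSp.Points Y.obj) (hy : IsGenericPoint y (Set.univ : Set (AlgSp.Points Y.obj)))
    (halg : AlgSp.HasAtMor (fun _ _ h u => AlgAt h u) f.hom x)
    (x' : AlgSp.Points X.obj) (hx' : AlgSp.Points.map f.hom x' = y) : x' = x := by
  haveI : T0Space (AlgSp.Points Y.obj) := Groth.Agent.S10338.result Y hYd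
  refine eq_of_algAt f hYd x x' (hx.specializes (Set.mem_univ x')) (hXd x) ?_ halg
  rw [hx', map_generic f.hom hd hx hy]

end Integral

end Groth.Agent.R2.H25.IntSp
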