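import Mathlib
import Groth.Prelude
import Groth.Agent.R2.H25IntSp
import Groth.Agent.R2.H46Sober
import Groth.Agent.R2.H25DecentMor

/-!
# Finite over an open of the target: the quasi-compact and the separated case
-/

set_option autoImplicit false
set_option linter.style.haveILetI false
universe u
open CategoryTheory CategoryTheory.Limits AlgebraicGeometry Topology TopologicalSpace

namespace Groth.Agent.R2.H25.IntSp

section Top

variable {W V : Type*} [TopologicalSpace W] [TopologicalSpace V]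

/-- a point without proper generization which is not in the image of a closed set under a spectral
map from a spectral space has a neighbourhood missing that image. -/
theorem exists_open_disjoint_image [CompactSpace W] [QuasiSober W] [PrespectralSpace W]
    [QuasiSeparatedSpace W] [PrespectralSpace V] (h : W → V) (hh : IsSpectralMap h)
    (Z : Set W) (hZ : IsClosed Z) (v : V) (hv : ∀ v' : V, v' ⤳ v → v' = v)
    (hvZ : v ∉ h '' Z) : ∃ N : Set V, IsOpen N ∧ v ∈ N ∧ Disjoint N (h '' Z) := by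
  by_contra hcon
  push Not at hcon
  let 𝓑 : Set (Set W) := insert Z {s | ∃ N : Set V, IsOpen N ∧ IsCompact N ∧ v ∈ N ∧ s = h ⁻¹' N}
  have hkey : ∀ 𝓒 : Set (Set W), 𝓒.Finite → 𝓒 ⊆ 𝓑 →
      ∃ O : Set V, IsOpen O ∧ v ∈ O ∧ Z ∩ h ⁻¹' O ⊆ ⋂₀ 𝓒 := by
    intro 𝓒 h𝓒
    induction 𝓒, h𝓒 using Set.Finite.induction_on with
    | empty => intro _; exact ⟨Set.univ, isOpen_univ, Set.mem_univ _, by simp⟩
    | @insert s 𝓒' _ _ ih =>
      intro hsub
      obtain ⟨O, hO, hvO, hOsub⟩ := ih ((Set.subset_insert _ _).trans hsub)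
      rcases hsub (Set.mem_insert _ _) with rfl | ⟨N, hN, -, hvN, rfl⟩
      · refine ⟨O, hO, hvO, ?_⟩
        rw [Set.sInter_insert]
        exact Set.subset_inter Set.inter_subset_left hOsub
      · refine ⟨O ∩ N, hO.inter hN, ⟨hvO, hvN⟩, ?_⟩
        rw [Set.sInter_insert]
        refine Set.subset_inter ?_ ?_
        · rintro z ⟨-, hz⟩
          exact hz.2
        · rintro z ⟨hzZ, hz⟩
          exact hOsub ⟨hzZ, hz.1⟩
  obtain ⟨z, hz⟩ : (⋂₀ 𝓑).Nonempty := by
    apply Groth.Agent.R2.H46.Sober.nonempty_sInter_of_constructible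
    · rintro s (rfl | ⟨N, hN, hNc, -, rfl⟩)
      · exact Or.inl hZ
      · exact Or.inr ⟨hNc.preimage_of_isOpen hh hN, hN.preimage hh.continuous⟩
    · intro 𝓒 h𝓒 h𝓒f
      obtain ⟨O, hO, hvO, hOsub⟩ := hkey 𝓒 h𝓒f h𝓒
      have hnd := hcon O hO hvO
      rw [Set.not_disjoint_iff] at hnd
      obtain ⟨_, hO', z, hzZ, rfl⟩ := hnd
      exact ⟨z, hOsub ⟨hzZ, hO'⟩⟩
  have hzZ : z ∈ Z := hz Z (Set.mem_insert _ _)
  have hspec : h z ⤳ v := by
    rw [specializes_iff_forall_open]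
    intro O hO hvO
    obtain ⟨N, ⟨hN, hNc⟩, hvN, hNO⟩ :=
      PrespectralSpace.isTopologicalBasis.exists_subset_of_mem_open hvO hO
    exact hNO (hz (h ⁻¹' N) (Set.mem_insert_of_mem _ ⟨N, hN, hNc, hvN, rfl⟩))
  exact hvZ ⟨z, hzZ, hv _ hspec⟩

end Top

section Sch

/-- for a morphism from a quasi-compact scheme, a point of the target without proper generization
which is not in the image of a closed set has a neighbourhood missing that image. -/
theorem exists_open_disjoint_image_sch {W V : Scheme.{u}} [CompactSpace W]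
    [QuasiSeparatedSpace V] (h : W ⟶ V) (Z : Set W) (hZ : IsClosed Z) (v : V)
    (hv : ∀ v' : V, v' ⤳ v → v' = v) (hvZ : v ∉ h '' Z) :
    ∃ N : V.Opens, v ∈ N ∧ Disjoint (N : Set V) (h '' Z) := by
  let 𝒰 := W.affineCover.finiteSubcover
  haveI : ∀ i, IsAffine (𝒰.X i) := fun i => by
    show IsAffine (W.affineCover.X _)
    infer_instance
  have hi : ∀ i : 𝒰.I₀, ∃ N : Set V, IsOpen N ∧ v ∈ N ∧
      Disjoint N ((𝒰.f i ≫ h) '' ((𝒰.f i) ⁻¹' Z)) := by
    intro i
    refine exists_open_disjoint_image (𝒰.f i ≫ h) (Scheme.Hom.isSpectralMap (𝒰.f i ≫ h))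
      ((𝒰.f i) ⁻¹' Z) (hZ.preimage (𝒰.f i).continuous) v hv ?_
    rintro ⟨w, hw, hwv⟩
    exact hvZ ⟨𝒰.f i w, hw, hwv⟩
  choose N hNo hvN hNd using hi
  refine ⟨⟨⋂ i, N i, isOpen_iInter_of_finite hNo⟩, Set.mem_iInter.2 hvN, ?_⟩
  rw [Set.disjoint_left]
  rintro _ hN ⟨z, hz, rfl⟩
  obtain ⟨i, w, rfl⟩ := 𝒰.exists_eq z
  exact Set.disjoint_left.1 (hNd i) (Set.mem_iInter.1 hN i) ⟨w, hz, rfl⟩

end Sch

section Cat

/-- a pullback square stays a pullback square after composing with a monomorphism. -/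
lemma isPullback_comp_mono {C : Type*} [Category C] {P A B V Y : C} {fst : P ⟶ A} {snd : P ⟶ B}
    {g : A ⟶ V} {β : B ⟶ V} (h : IsPullback fst snd g β) (b : V ⟶ Y) [Mono b] :
    IsPullback fst snd (g ≫ b) (β ≫ b) :=
  IsPullback.of_isLimit' ⟨by rw [← Category.assoc, h.w, Category.assoc]⟩
    (PullbackCone.isLimitOfCompMono g β b _ h.isLimit)

end Cat

section Sp

variable {S : Scheme.{u}}

open Groth.Agent.R2.H25.Birat Groth.Agent.R2.H25.GenFinSp

/-- the points of a fibre product over an open subscheme. -/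
lemma range_map_pullback_fst {X Y : AlgSp.Sp S} (f : X ⟶ Y) {V : Over S}
    (b : (AlgSp.yon S).obj V ⟶ Y) :
    Set.range (AlgSp.Points.map (pullback.fst f b)) =
      {x' | AlgSp.Points.map f x' ∈ Set.range (AlgSp.Points.ofPt b)} := by
  have sq := IsPullback.of_hasPullback f b
  ext x'
  constructor
  · rintro ⟨p, rfl⟩
    show AlgSp.Points.map f _ ∈ Set.range (AlgSp.Points.ofPt b)
    rw [range_ofPt_eq, ← AlgSp.Points.map_comp, sq.w, AlgSp.Points.map_comp]
    exact ⟨_, rfl⟩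
  · intro hx'
    have hx'' : AlgSp.Points.map f x' ∈ Set.range (AlgSp.Points.ofPt b) := hx'
    rw [range_ofPt_eq] at hx''
    obtain ⟨z, hz⟩ := hx''
    obtain ⟨p, hp1, -⟩ := Groth.Agent.S10175.exists_point_of_isPullback sq x' z hz.symm
    exact ⟨p, hp1⟩

/-- an open subscheme chart containing the whole preimage of an open subscheme of the target is
the fibre product. -/
theorem isPullback_of_preimage_subset {X Y : AlgSp.Sp S} (f : X ⟶ Y) {U V : Over S}
    (a : (AlgSp.yon S).obj U ⟶ X) (b : (AlgSp.yon S).obj V ⟶ Y) (g : U ⟶ V)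
    (ha : AlgSp.RepWith @IsOpenImmersion a) (hb : AlgSp.RepWith @IsOpenImmersion b)
    (hg : a ≫ f = (AlgSp.yon S).map g ≫ b)
    (hsub : ∀ x' : AlgSp.Points X, AlgSp.Points.map f x' ∈ Set.range (AlgSp.Points.ofPt b) →
      x' ∈ Set.range (AlgSp.Points.ofPt a)) :
    IsPullback a ((AlgSp.yon S).map g) f b := by
  have sq := IsPullback.of_hasPullback f b
  have h1 : AlgSp.RepWith @IsOpenImmersion (pullback.fst f b) :=
    MorphismProperty.of_isPullback (P := AlgSp.RepWith @IsOpenImmersion) sq.flip hb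
  have heq : Set.range (AlgSp.Points.map a) = Set.range (AlgSp.Points.map (pullback.fst f b)) := by
    rw [range_map_pullback_fst, ← range_ofPt_eq]
    apply Set.Subset.antisymm
    · rintro _ ⟨u, rfl⟩
      show AlgSp.Points.map f _ ∈ Set.range (AlgSp.Points.ofPt b)
      rw [AlgSp.Points.map_ofPt, hg, Groth.Agent.S10176.ofPt_map_comp]
      exact ⟨_, rfl⟩
    · intro x' hx'
      exact hsub x' hx'
  obtain ⟨e, he⟩ := Groth.Agent.Lib.Helper12.OpenSub.iso_of_range_eq a ha _ h1 heq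
  haveI : Mono b := Groth.Agent.Lib.Helper12.LargestOpen.mono_of_open b hb
  have he2 : e.hom ≫ pullback.snd f b = (AlgSp.yon S).map g := by
    rw [← cancel_mono b, Category.assoc, ← pullback.condition, ← Category.assoc, he, hg]
  exact IsPullback.of_iso_pullback ⟨hg⟩ e he he2

/-- **quasi-compact case**: if the fibres of `f` over a set `Φ` of points without proper
generization of an open subscheme `V` of `Y` lie in an open subscheme `U` of `X`, then so does the
preimage of an open neighbourhood of `Φ`. -/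
theorem exists_open_preimage_subset_of_qc {X Y : AlgSp.Space S} (f : X ⟶ Y)
    (hqc : AlgSp.IsQuasiCompactMor f.hom) {U V : Over S} [CompactSpace ↥V.left]
    [QuasiSeparatedSpace ↥V.left] (a : (AlgSp.yon S).obj U ⟶ X.obj)
    (b : (AlgSp.yon S).obj V ⟶ Y.obj) (ha : AlgSp.RepWith @IsOpenImmersion a)
    (hb : AlgSp.RepWith @IsOpenImmersion b) (Φ : Set ↥V.left)
    (hΦ : ∀ v ∈ Φ, ∀ v' : ↥V.left, v' ⤳ v → v' = v)
    (hfib : ∀ x' : AlgSp.Points X.obj, AlgSp.Points.map f.hom x' ∈ AlgSp.Points.ofPt b '' Φ →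
      x' ∈ Set.range (AlgSp.Points.ofPt a)) :
    ∃ N : V.left.Opens, Φ ⊆ (N : Set ↥V.left) ∧ ∀ x' : AlgSp.Points X.obj,
      AlgSp.Points.map f.hom x' ∈ AlgSp.Points.ofPt b '' (N : Set ↥V.left) →
        x' ∈ Set.range (AlgSp.Points.ofPt a) := by
  have sq := IsPullback.of_hasPullback f.hom b
  have hfst : AlgSp.RepWith @IsOpenImmersion (pullback.fst f.hom b) :=
    MorphismProperty.of_isPullback (P := AlgSp.RepWith @IsOpenImmersion) sq.flip hb
  have hVqc : AlgSp.IsQuasiCompactSp ((AlgSp.yon S).obj V) :=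
    ⟨V, 𝟙 _, Groth.Agent.Lib.Helper15MonoSep.repWith_of_isIso @Etale _,
      Groth.Agent.Lib.Helper15MonoSep.repWith_of_isIso @Surjective _, inferInstance⟩
  obtain ⟨W, p, hpe, hps, hWc⟩ := hqc (AlgSp.IsAlgSpace.yon_obj V) hVqc b _ _ sq
  haveI : CompactSpace ↥W.left := hWc
  obtain ⟨h, hh⟩ := (AlgSp.yon S).map_surjective (p ≫ pullback.snd f.hom b)
  have hc : AlgSp.RepWith @Etale (p ≫ pullback.fst f.hom b) :=
    MorphismProperty.comp_mem _ _ _ hpe (etale_of_open hfst)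
  have hcomm : (p ≫ pullback.fst f.hom b) ≫ f.hom = (AlgSp.yon S).map h ≫ b := by
    rw [Category.assoc, pullback.condition, ← Category.assoc, hh]
  have hK : ∀ w : ↥W.left, AlgSp.Points.map f.hom
      (AlgSp.Points.ofPt (p ≫ pullback.fst f.hom b) w) = AlgSp.Points.ofPt b (h.left w) := by
    intro w
    rw [AlgSp.Points.map_ofPt, hcomm, Groth.Agent.S10176.ofPt_map_comp]
  have hinjb := ofPt_injective_of_open b hb
  let Zc : Set ↥W.left :=
    AlgSp.Points.ofPt (p ≫ pullback.fst f.hom b) ⁻¹' (Set.range (AlgSp.Points.ofPt a))ᶜ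
  have hZc : IsClosed Zc :=
    (isOpenEmbedding_ofPt a ha).isOpen_range.isClosed_compl.preimage
      (AlgSp.Points.continuous_ofPt _)
  have hN : ∀ v : Φ, ∃ N : V.left.Opens, v.1 ∈ N ∧ Disjoint (N : Set ↥V.left) (h.left '' Zc) := by
    rintro ⟨v, hv⟩
    refine exists_open_disjoint_image_sch h.left Zc hZc v (hΦ v hv) ?_
    rintro ⟨z, hz, hzv⟩
    apply hz
    apply hfib
    rw [hK, hzv]
    exact ⟨v, hv, rfl⟩
  choose N hvN hNd using hN
  refine ⟨⨆ v, N v, ?_, ?_⟩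
  · intro v hv
    rw [TopologicalSpace.Opens.coe_iSup]
    exact Set.mem_iUnion.2 ⟨⟨v, hv⟩, hvN ⟨v, hv⟩⟩
  · rintro x' ⟨n, hn, hnx'⟩
    have hx'r : x' ∈ Set.range (AlgSp.Points.map (pullback.fst f.hom b)) := by
      rw [range_map_pullback_fst]
      exact ⟨n, hnx'⟩
    obtain ⟨p₀, rfl⟩ := hx'r
    obtain ⟨w, rfl⟩ := Groth.Agent.S10177.surjective_ofPt p hps p₀
    rw [AlgSp.Points.map_ofPt] at hnx' ⊢
    have hwn : h.left w = n := by
      apply hinjb
      rw [← hK, hnx']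
    by_contra hcon
    rw [TopologicalSpace.Opens.coe_iSup] at hn
    obtain ⟨v, hv⟩ := Set.mem_iUnion.1 hn
    exact Set.disjoint_left.1 (hNd v) hv ⟨w, hcon, hwn⟩

/-- **separated case**: if `f` is separated and restricts to a finite morphism `U ⟶ V` of open
subschemes, then the part of `f⁻¹(V)` outside `U` is open. -/
theorem isOpen_preimage_diff_of_separated {X Y : AlgSp.Space S} (f : X ⟶ Y)
    (hsep : AlgSp.IsSeparatedMor f.hom) {U V : Over S} (a : (AlgSp.yon S).obj U ⟶ X.obj)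
    (b : (AlgSp.yon S).obj V ⟶ Y.obj) (g : U ⟶ V) (ha : AlgSp.RepWith @IsOpenImmersion a)
    (hb : AlgSp.RepWith @IsOpenImmersion b) (hg : a ≫ f.hom = (AlgSp.yon S).map g ≫ b)
    [IsFinite g.left] :
    IsOpen {x' : AlgSp.Points X.obj | AlgSp.Points.map f.hom x' ∈ Set.range (AlgSp.Points.ofPt b) ∧
      x' ∉ Set.range (AlgSp.Points.ofPt a)} := by
  rw [isOpen_iff_forall_mem_open]
  rintro x' ⟨hx'b, hx'a⟩
  obtain ⟨Z₀, c₀, z', hc₀, -, hz'⟩ := Groth.Agent.R2.H45.HasAt.exists_chart X.property x'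
  have hopenb := (isOpenEmbedding_ofPt b hb).isOpen_range
  let O : Z₀.left.Opens :=
    ⟨(fun z => AlgSp.Points.map f.hom (AlgSp.Points.ofPt c₀ z)) ⁻¹'
        Set.range (AlgSp.Points.ofPt b),
      hopenb.preimage ((AlgSp.Points.continuous_map f.hom).comp
        (AlgSp.Points.continuous_ofPt c₀))⟩
  have hc : AlgSp.RepWith @Etale (restr c₀ O) := restr_etale hc₀ O
  obtain ⟨β, hβ⟩ := exists_factor (restr c₀ O) f.hom b hb (fun z => by
      rw [← range_ofPt_eq, ofPt_restr]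
      exact z.2)
  have hz'O : z' ∈ O := by
    show AlgSp.Points.map f.hom (AlgSp.Points.ofPt c₀ z') ∈ Set.range (AlgSp.Points.ofPt b)
    rw [hz']
    exact hx'b
  -- the fibre product of `U` and `Z` over `X`
  obtain ⟨W, w, pr', sq⟩ := ha.1 (restr c₀ O)
  obtain ⟨pr, rfl⟩ := (AlgSp.yon S).map_surjective pr'
  haveI : Mono b := Groth.Agent.Lib.Helper12.LargestOpen.mono_of_open b hb
  have sq₀ : IsPullback ((AlgSp.yon S).map (pullback.fst g β)) ((AlgSp.yon S).map (pullback.snd g β))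
      (a ≫ f.hom) (restr c₀ O ≫ f.hom) := by
    rw [hg, hβ]
    exact isPullback_comp_mono ((IsPullback.of_hasPullback g β).map (AlgSp.yon S)) b
  have hw : pr ≫ g = w ≫ β := by
    apply (AlgSp.yon S).map_injective
    rw [← cancel_mono b, Functor.map_comp, Functor.map_comp, Category.assoc, Category.assoc, ← hg,
      ← hβ, ← Category.assoc, ← Category.assoc, sq.w]
  let m : W ⟶ pullback g β := pullback.lift pr w hw
  have big := Groth.Agent.R2.H25.DecentMor.isPullback_diagonal_of_isPullback f.hom a (restr c₀ O)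
    ((AlgSp.yon S).map pr) ((AlgSp.yon S).map w) sq _ _ sq₀ ((AlgSp.yon S).map m)
    (by rw [← Functor.map_comp, pullback.lift_fst]) (by rw [← Functor.map_comp, pullback.lift_snd])
  haveI h1 : IsClosedImmersion m.left := hsep.2 _ _ m big
  have sqL : IsPullback (pullback.fst g β).left (pullback.snd g β).left g.left β.left :=
    (IsPullback.of_hasPullback g β).map (Over.forget S)
  haveI h2 : IsFinite (pullback.snd g β).left :=
    MorphismProperty.of_isPullback (P := @IsFinite) sqL inferInstance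
  have h3 : m.left ≫ (pullback.snd g β).left = w.left := by
    rw [← Over.comp_left, pullback.lift_snd]
  haveI : IsFinite w.left := by
    rw [← h3]
    infer_instance
  have hK : IsClosed (Set.range w.left) := w.left.isClosedMap.isClosed_range
  have hKeq : AlgSp.Points.ofPt (restr c₀ O) ⁻¹' Set.range (AlgSp.Points.ofPt a) =
      Set.range w.left := by
    have := Groth.Agent.S10176.preimage_ofPt_image sq Set.univ
    rw [Set.image_univ, Set.preimage_univ, Set.image_univ] at this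
    exact this
  refine ⟨AlgSp.Points.ofPt (restr c₀ O) '' (Set.range w.left)ᶜ, ?_,
    Groth.Agent.S10176.isOpenMap_ofPt (restr c₀ O) hc _ hK.isOpen_compl, ?_⟩
  · rintro _ ⟨z, hz, rfl⟩
    refine ⟨?_, ?_⟩
    · show AlgSp.Points.map f.hom _ ∈ Set.range (AlgSp.Points.ofPt b)
      rw [AlgSp.Points.map_ofPt, hβ, Groth.Agent.S10176.ofPt_map_comp]
      exact ⟨_, rfl⟩
    · intro hza
      apply hz
      rw [← hKeq]
      exact hza
  · refine ⟨(⟨z', hz'O⟩ : ↥O), ?_, ?_⟩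
    · intro hzK
      rw [← hKeq] at hzK
      apply hx'a
      have : AlgSp.Points.ofPt (restr c₀ O) (⟨z', hz'O⟩ : ↥O) ∈
          Set.range (AlgSp.Points.ofPt a) := hzK
      rwa [ofPt_restr, hz'] at this
    · rw [ofPt_restr]
      exact hz'

/-- the quasi-compact case, without compactness of the open subscheme of the target. -/
theorem exists_open_preimage_subset_of_qc' {X Y : AlgSp.Space S} (f : X ⟶ Y)
    (hqc : AlgSp.IsQuasiCompactMor f.hom) {U V : Over S} (a : (AlgSp.yon S).obj U ⟶ X.obj)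
    (b : (AlgSp.yon S).obj V ⟶ Y.obj) (ha : AlgSp.RepWith @IsOpenImmersion a)
    (hb : AlgSp.RepWith @IsOpenImmersion b) (Φ : Set ↥V.left)
    (hΦ : ∀ v ∈ Φ, ∀ v' : ↥V.left, v' ⤳ v → v' = v)
    (hfib : ∀ x' : AlgSp.Points X.obj, AlgSp.Points.map f.hom x' ∈ AlgSp.Points.ofPt b '' Φ →
      x' ∈ Set.range (AlgSp.Points.ofPt a)) :
    ∃ N : V.left.Opens, Φ ⊆ (N : Set ↥V.left) ∧ ∀ x' : AlgSp.Points X.obj,
      AlgSp.Points.map f.hom x' ∈ AlgSp.Points.ofPt b '' (N : Set ↥V.left) →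
        x' ∈ Set.range (AlgSp.Points.ofPt a) := by
  have hO : ∀ v : Φ, ∃ O : V.left.Opens, IsAffineOpen O ∧ v.1 ∈ O := by
    rintro ⟨v, -⟩
    obtain ⟨_, ⟨O, hO, rfl⟩, hv, -⟩ :=
      V.left.isBasis_affineOpens.exists_subset_of_mem_open (Set.mem_univ v) isOpen_univ
    exact ⟨O, hO, hv⟩
  choose O hOaff hvO using hO
  have hN : ∀ v : Φ, ∃ N : (O v : Scheme.{u}).Opens, (O v).ι ⁻¹' Φ ⊆ (N : Set ↥(O v : Scheme.{u})) ∧
      ∀ x' : AlgSp.Points X.obj, AlgSp.Points.map f.hom x' ∈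
        AlgSp.Points.ofPt (restr b (O v)) '' (N : Set ↥(O v : Scheme.{u})) →
          x' ∈ Set.range (AlgSp.Points.ofPt a) := by
    intro v
    haveI : IsAffine ↑(O v) := hOaff v
    haveI : CompactSpace ↥(Over.mk ((O v).ι ≫ V.hom)).left :=
      (inferInstance : CompactSpace ↥(O v : Scheme.{u}))
    haveI : QuasiSeparatedSpace ↥(Over.mk ((O v).ι ≫ V.hom)).left :=
      (inferInstance : QuasiSeparatedSpace ↥(O v : Scheme.{u}))
    refine exists_open_preimage_subset_of_qc f hqc a (restr b (O v)) ha (restr_open hb (O v))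
      ((O v).ι ⁻¹' Φ) ?_ ?_
    · intro w hw w' hw'
      apply (O v).ι.isOpenEmbedding.injective
      exact hΦ _ hw _ (hw'.map (O v).ι.continuous)
    · rintro x' ⟨w, hw, hwx'⟩
      apply hfib
      rw [ofPt_restr] at hwx'
      exact ⟨_, hw, hwx'⟩
  choose N hΦN hNp using hN
  refine ⟨⟨⋃ v, (O v).ι '' (N v : Set ↥(O v : Scheme.{u})),
    isOpen_iUnion fun v => (O v).ι.isOpenEmbedding.isOpenMap _ (N v).isOpen⟩, ?_, ?_⟩
  · intro v hv
    refine Set.mem_iUnion.2 ⟨⟨v, hv⟩, ⟨v, hvO ⟨v, hv⟩⟩, hΦN ⟨v, hv⟩ ?_, rfl⟩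
    exact hv
  · rintro x' ⟨n, hn, hnx'⟩
    obtain ⟨v, m, hm, rfl⟩ := Set.mem_iUnion.1 hn
    exact hNp v x' ⟨m, hm, by rw [ofPt_restr]; exact hnx'⟩

/-- restricting a chart diagram over an open of the target over which the chart of the source is
the whole preimage. -/
theorem isPullback_restr_of_preimage_subset {X Y : AlgSp.Sp S} (f : X ⟶ Y) {U V : Over S}
    (a : (AlgSp.yon S).obj U ⟶ X) (b : (AlgSp.yon S).obj V ⟶ Y) (g : U ⟶ V)
    (ha : AlgSp.RepWith @IsOpenImmersion a) (hb : AlgSp.RepWith @IsOpenImmersion b)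
    (hg : a ≫ f = (AlgSp.yon S).map g ≫ b) (N : V.left.Opens)
    (hN : ∀ x' : AlgSp.Points X, AlgSp.Points.map f x' ∈ AlgSp.Points.ofPt b '' (N : Set ↥V.left) →
      x' ∈ Set.range (AlgSp.Points.ofPt a))
    (hw : (g.left ∣_ N) ≫ (N.ι ≫ V.hom) = (g.left ⁻¹ᵁ N).ι ≫ U.hom) :
    IsPullback (restr a (g.left ⁻¹ᵁ N))
      ((AlgSp.yon S).map (Over.homMk (g.left ∣_ N) hw :
        Over.mk ((g.left ⁻¹ᵁ N).ι ≫ U.hom) ⟶ Over.mk (N.ι ≫ V.hom))) f (restr b N) := by
  have hg' : restr a (g.left ⁻¹ᵁ N) ≫ f =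
      (AlgSp.yon S).map (Over.homMk (g.left ∣_ N) hw :
        Over.mk ((g.left ⁻¹ᵁ N).ι ≫ U.hom) ⟶ Over.mk (N.ι ≫ V.hom)) ≫ restr b N := by
    have h4 : (Over.homMk (g.left ⁻¹ᵁ N).ι rfl : Over.mk ((g.left ⁻¹ᵁ N).ι ≫ U.hom) ⟶ U) ≫ g =
        (Over.homMk (g.left ∣_ N) hw :
          Over.mk ((g.left ⁻¹ᵁ N).ι ≫ U.hom) ⟶ Over.mk (N.ι ≫ V.hom)) ≫
            (Over.homMk N.ι rfl : Over.mk (N.ι ≫ V.hom) ⟶ V) := by
      apply Over.OverMorphism.ext
      simp only [Over.comp_left, Over.homMk_left]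
      exact (morphismRestrict_ι g.left N).symm
    unfold restr
    rw [Category.assoc, hg, ← Category.assoc, ← Functor.map_comp, h4, Functor.map_comp,
      Category.assoc]
  have hinjb := ofPt_injective_of_open b hb
  refine isPullback_of_preimage_subset f _ _ _ (restr_open ha _) (restr_open hb N) hg' ?_
  rintro x' ⟨v, hv⟩
  rw [ofPt_restr] at hv
  obtain ⟨u, rfl⟩ := hN x' ⟨v.1, v.2, hv⟩
  have hgu : g.left u = v.1 := by
    apply hinjb
    rw [hv, AlgSp.Points.map_ofPt, hg, Groth.Agent.S10176.ofPt_map_comp]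
  have huU₂ : u ∈ g.left ⁻¹ᵁ N := by
    show g.left u ∈ N
    rw [hgu]
    exact v.2
  exact ⟨(⟨u, huU₂⟩ : ↥(g.left ⁻¹ᵁ N)), ofPt_restr a _ ⟨u, huU₂⟩⟩

/-- shrinking a finite chart diagram to an affine open of the target over which the chart of the
source is the whole preimage. -/
theorem exists_pullback_chart {X Y : AlgSp.Sp S} (f : X ⟶ Y) {U V : Over S}
    (a : (AlgSp.yon S).obj U ⟶ X) (b : (AlgSp.yon S).obj V ⟶ Y) (g : U ⟶ V)
    (ha : AlgSp.RepWith @IsOpenImmersion a) (hb : AlgSp.RepWith @IsOpenImmersion b)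
    (hg : a ≫ f = (AlgSp.yon S).map g ≫ b) [IsFinite g.left] (N : V.left.Opens) (u₀ : ↥U.left)
    (hu₀ : g.left u₀ ∈ N)
    (hN : ∀ x' : AlgSp.Points X, AlgSp.Points.map f x' ∈ AlgSp.Points.ofPt b '' (N : Set ↥V.left) →
      x' ∈ Set.range (AlgSp.Points.ofPt a)) :
    ∃ (V' : Over S) (b' : (AlgSp.yon S).obj V' ⟶ Y) (U' : Over S) (g' : U' ⟶ V')
      (a' : (AlgSp.yon S).obj U' ⟶ X), IsAffine V'.left ∧ Nonempty ↥V'.left ∧
        AlgSp.RepWith @IsOpenImmersion b' ∧ IsPullback a' ((AlgSp.yon S).map g') f b' ∧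
          IsAffine U'.left ∧ IsFinite g'.left := by
  obtain ⟨V₂, hV₂, hvV₂, hV₂N⟩ : ∃ V₂ : V.left.Opens, IsAffineOpen V₂ ∧ g.left u₀ ∈ V₂ ∧
      V₂ ≤ N := by
    obtain ⟨_, ⟨V₂, hV₂, rfl⟩, hv, hsub⟩ :=
      V.left.isBasis_affineOpens.exists_subset_of_mem_open hu₀ N.isOpen
    exact ⟨V₂, hV₂, hv, hsub⟩
  haveI : IsAffine ↑V₂ := hV₂
  haveI hfin₂ : IsFinite (g.left ∣_ V₂) := inferInstance
  have hw : (g.left ∣_ V₂) ≫ (V₂.ι ≫ V.hom) = (g.left ⁻¹ᵁ V₂).ι ≫ U.hom := by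
    rw [← Category.assoc, morphismRestrict_ι, Category.assoc, Over.w g]
  let g' : Over.mk ((g.left ⁻¹ᵁ V₂).ι ≫ U.hom) ⟶ Over.mk (V₂.ι ≫ V.hom) :=
    Over.homMk (g.left ∣_ V₂) hw
  have hg' : restr a (g.left ⁻¹ᵁ V₂) ≫ f = (AlgSp.yon S).map g' ≫ restr b V₂ := by
    have h4 : (Over.homMk (g.left ⁻¹ᵁ V₂).ι rfl : Over.mk ((g.left ⁻¹ᵁ V₂).ι ≫ U.hom) ⟶ U) ≫ g =
        g' ≫ (Over.homMk V₂.ι rfl : Over.mk (V₂.ι ≫ V.hom) ⟶ V) := by
      apply Over.OverMorphism.ext
      simp only [Over.comp_left, Over.homMk_left, g']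
      exact (morphismRestrict_ι g.left V₂).symm
    unfold restr
    rw [Category.assoc, hg, ← Category.assoc, ← Functor.map_comp, h4, Functor.map_comp,
      Category.assoc]
  have hinjb := ofPt_injective_of_open b hb
  refine ⟨Over.mk (V₂.ι ≫ V.hom), restr b V₂, Over.mk ((g.left ⁻¹ᵁ V₂).ι ≫ U.hom), g',
    restr a (g.left ⁻¹ᵁ V₂), hV₂, ⟨⟨g.left u₀, hvV₂⟩⟩, restr_open hb V₂, ?_,
    isAffine_of_isAffineHom (g.left ∣_ V₂), hfin₂⟩
  refine isPullback_of_preimage_subset f _ _ g' (restr_open ha _) (restr_open hb V₂) hg' ?_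
  rintro x' ⟨v, hv⟩
  rw [ofPt_restr] at hv
  obtain ⟨u, rfl⟩ := hN x' ⟨v.1, hV₂N v.2, hv⟩
  have hgu : g.left u = v.1 := by
    apply hinjb
    rw [hv, AlgSp.Points.map_ofPt, hg, Groth.Agent.S10176.ofPt_map_comp]
  have huU₂ : u ∈ g.left ⁻¹ᵁ V₂ := by
    show g.left u ∈ V₂
    rw [hgu]
    exact v.2
  exact ⟨(⟨u, huU₂⟩ : ↥(g.left ⁻¹ᵁ V₂)), ofPt_restr a _ ⟨u, huU₂⟩⟩

/-- **(5) ⇒ (6)**: if the generic point `x` is the only point over the generic point `y` and `f`
is separated or quasi-compact, then `f` is finite over a nonempty affine open subscheme of `Y`. -/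
theorem exists_finite_preimage {X Y : AlgSp.Space S} (hXd : AlgSp.IsDecent X.obj)
    (hYd : AlgSp.IsDecent Y.obj) (f : X ⟶ Y) (hft : AlgSp.LocP @LocallyOfFiniteType f.hom)
    (x : AlgSp.Points X.obj) (hx : IsGenericPoint x (Set.univ : Set (AlgSp.Points X.obj)))
    (y : AlgSp.Points Y.obj) (hy : IsGenericPoint y (Set.univ : Set (AlgSp.Points Y.obj)))
    (hxy : AlgSp.Points.map f.hom x = y)
    (huniq : ∀ x' : AlgSp.Points X.obj, AlgSp.Points.map f.hom x' = y → x' = x)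
    (hsq : AlgSp.IsSeparatedMor f.hom ∨ AlgSp.IsQuasiCompactMor f.hom) :
    ∃ (V : Over S) (b : (AlgSp.yon S).obj V ⟶ Y.obj) (U : Over S) (g : U ⟶ V)
      (a : (AlgSp.yon S).obj U ⟶ X.obj), IsAffine V.left ∧ Nonempty ↥V.left ∧
        AlgSp.RepWith @IsOpenImmersion b ∧ IsPullback a ((AlgSp.yon S).map g) f.hom b ∧
          IsAffine U.left ∧ IsFinite g.left := by
  haveI : T0Space (AlgSp.Points Y.obj) := Groth.Agent.S10338.result Y hYd
  obtain ⟨U, V, a, b, g, u₀, hU, hV, ha, hb, comm, hfin, hu₀⟩ :=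
    exists_finite_charts hXd hYd f hft x hx y hy hxy huniq
  haveI := hfin
  haveI := hV
  have hinjb := ofPt_injective_of_open b hb
  have hgu₀ : AlgSp.Points.ofPt b (g.left u₀) = y := by
    rw [← hxy, ← hu₀, AlgSp.Points.map_ofPt, comm, Groth.Agent.S10176.ofPt_map_comp]
  obtain ⟨N, hvN, hN⟩ : ∃ N : V.left.Opens, g.left u₀ ∈ N ∧ ∀ x' : AlgSp.Points X.obj,
      AlgSp.Points.map f.hom x' ∈ AlgSp.Points.ofPt b '' (N : Set ↥V.left) →
        x' ∈ Set.range (AlgSp.Points.ofPt a) := by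
    rcases hsq with hsep | hqc
    · refine ⟨⊤, trivial, ?_⟩
      rintro x' ⟨v, -, hv⟩
      by_contra hcon
      have hD := isOpen_preimage_diff_of_separated f hsep a b g ha hb comm
      have hxD := (hx.mem_open_set_iff hD).2 ⟨x', Set.mem_univ _, ⟨v, hv⟩, hcon⟩
      exact hxD.2 ⟨u₀, hu₀⟩
    · obtain ⟨N, hΦN, hN⟩ := exists_open_preimage_subset_of_qc f hqc a b ha hb {g.left u₀}
        (by
          rintro v rfl v' hv'
          apply hinjb
          have h1 : AlgSp.Points.ofPt b v' ⤳ AlgSp.Points.ofPt b (g.left u₀) :=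
            hv'.map (AlgSp.Points.continuous_ofPt b)
          have h2 : AlgSp.Points.ofPt b (g.left u₀) ⤳ AlgSp.Points.ofPt b v' := by
            rw [hgu₀]
            exact hy.specializes (Set.mem_univ _)
          exact (h1.antisymm h2).eq)
        (by
          rintro x' ⟨v, rfl, hv⟩
          rw [huniq x' (by rw [← hv, hgu₀])]
          exact ⟨u₀, hu₀⟩)
      exact ⟨N, hΦN rfl, hN⟩
  exact exists_pullback_chart f.hom a b g ha hb comm N u₀ hvN hN

/-- **(6) ⇒ (5)**. -/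
theorem unique_of_finite_preimage {X Y : AlgSp.Space S} (hXd : AlgSp.IsDecent X.obj)
    (hYd : AlgSp.IsDecent Y.obj) (f : X ⟶ Y) (hd : AlgSp.IsDominantMor f.hom)
    (x : AlgSp.Points X.obj) (hx : IsGenericPoint x (Set.univ : Set (AlgSp.Points X.obj)))
    (y : AlgSp.Points Y.obj) (hy : IsGenericPoint y (Set.univ : Set (AlgSp.Points Y.obj)))
    {U V : Over S} (a : (AlgSp.yon S).obj U ⟶ X.obj) (b : (AlgSp.yon S).obj V ⟶ Y.obj)
    (g : U ⟶ V) [Nonempty ↥V.left] (hb : AlgSp.RepWith @IsOpenImmersion b)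
    (sq : IsPullback a ((AlgSp.yon S).map g) f.hom b) [IsFinite g.left]
    (x' : AlgSp.Points X.obj) (hx' : AlgSp.Points.map f.hom x' = y) : x' = x := by
  haveI : T0Space (AlgSp.Points Y.obj) := Groth.Agent.S10338.result Y hYd
  have ha : AlgSp.RepWith @IsOpenImmersion a :=
    MorphismProperty.of_isPullback (P := AlgSp.RepWith @IsOpenImmersion) sq.flip hb
  obtain ⟨v, hv⟩ := exists_ofPt_eq_generic b hb hy
  have hxy := map_generic f.hom hd hx hy
  obtain ⟨p, hp1, -⟩ := Groth.Agent.S10175.exists_point_of_isPullback sq x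
    (AlgSp.Points.ofScheme V v) (by rw [hxy, ← AlgSp.Points.ofPt_eq_map_ofScheme, hv])
  obtain ⟨u, rfl⟩ := (AlgSp.Points.schemeHomeo U).surjective p
  have hu : AlgSp.Points.ofPt a u = x := by
    rw [AlgSp.Points.ofPt_eq_map_ofScheme]
    exact hp1
  exact unique_of_algAt hXd hYd f hd x hx y hy
    ⟨U, V, a, b, g, u, etale_of_open ha, etale_of_open hb, sq.w, hu,
      algAt_of_locallyQuasiFinite g.left u⟩ x' hx'

/-- finiteness of a morphism of sheaves is invariant under precomposition with isomorphisms. -/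
lemma isFiniteMor_iso_comp {F F' G : AlgSp.Sp S} (e : F' ≅ F) (φ : F ⟶ G)
    (h : AlgSp.IsFiniteMor φ) : AlgSp.IsFiniteMor (e.hom ≫ φ) := by
  intro Z hZ k
  obtain ⟨W, i, fst', sq, hW, hi⟩ := h hZ k
  refine ⟨W, i, fst' ≫ e.inv, ?_, hW, hi⟩
  exact IsPullback.of_iso sq (Iso.refl _) e.symm (Iso.refl _) (Iso.refl _) (by simp) (by simp)
    (by simp) (by simp)

/-- **alterations: if `x` is the only point over `y` and `f` is separated or quasi-compact, then
`f` is finite over a nonempty open subspace.** -/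
theorem exists_open_finite {X Y : AlgSp.Space S} (hXd : AlgSp.IsDecent X.obj)
    (hYd : AlgSp.IsDecent Y.obj) (f : X ⟶ Y) (hft : AlgSp.LocP @LocallyOfFiniteType f.hom)
    (x : AlgSp.Points X.obj) (hx : IsGenericPoint x (Set.univ : Set (AlgSp.Points X.obj)))
    (y : AlgSp.Points Y.obj) (hy : IsGenericPoint y (Set.univ : Set (AlgSp.Points Y.obj)))
    (hxy : AlgSp.Points.map f.hom x = y)
    (huniq : ∀ x' : AlgSp.Points X.obj, AlgSp.Points.map f.hom x' = y → x' = x)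
    (hsq : AlgSp.IsSeparatedMor f.hom ∨ AlgSp.IsQuasiCompactMor f.hom) :
    ∃ (V : AlgSp.Space S) (j : V ⟶ Y), AlgSp.RepWith @IsOpenImmersion j.hom ∧
      Nonempty (AlgSp.Points V.obj) ∧
      ∀ (P : AlgSp.Space S) (fst : P ⟶ V) (snd : P ⟶ X),
        IsPullback fst.hom snd.hom j.hom f.hom → AlgSp.IsFiniteMor fst.hom := by
  obtain ⟨V, b, U, g, a, hV, ⟨v⟩, hb, sq, hU, hfin⟩ :=
    exists_finite_preimage hXd hYd f hft x hx y hy hxy huniq hsq
  refine ⟨⟨(AlgSp.yon S).obj V, AlgSp.IsAlgSpace.yon_obj V⟩, ObjectProperty.homMk b, hb,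
    ⟨AlgSp.Points.ofScheme V v⟩, ?_⟩
  intro P fst snd sqP
  have sqP' : IsPullback fst.hom snd.hom b f.hom := sqP
  let e : P.obj ≅ (AlgSp.yon S).obj U := sqP'.isoIsPullback _ _ sq.flip
  have he : e.hom ≫ (AlgSp.yon S).map g = fst.hom := sqP'.isoIsPullback_hom_fst _ _ sq.flip
  rw [← he]
  exact isFiniteMor_iso_comp e _
    (isFiniteMor_of_repWith _ ((AlgSp.repWith_yon_map_iff @IsFinite g).2 hfin))

/-- **alterations, converse: if `f` is finite over a nonempty open subspace of `Y`, then the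
generic point of `X` is the only point over the generic point of `Y`.** -/
theorem unique_of_open_finite {X Y : AlgSp.Space S} (hXd : AlgSp.IsDecent X.obj)
    (hYd : AlgSp.IsDecent Y.obj) (f : X ⟶ Y) (hd : AlgSp.IsDominantMor f.hom)
    (x : AlgSp.Points X.obj) (hx : IsGenericPoint x (Set.univ : Set (AlgSp.Points X.obj)))
    (y : AlgSp.Points Y.obj) (hy : IsGenericPoint y (Set.univ : Set (AlgSp.Points Y.obj)))
    (V : AlgSp.Space S) (j : V ⟶ Y) (hj : AlgSp.RepWith @IsOpenImmersion j.hom)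
    (hne : Nonempty (AlgSp.Points V.obj))
    (hfin : ∀ (P : AlgSp.Space S) (fst : P ⟶ V) (snd : P ⟶ X),
      IsPullback fst.hom snd.hom j.hom f.hom → AlgSp.IsFiniteMor fst.hom)
    (x' : AlgSp.Points X.obj) (hx' : AlgSp.Points.map f.hom x' = y) : x' = x := by
  haveI : T0Space (AlgSp.Points Y.obj) := Groth.Agent.S10338.result Y hYd
  have hxy := map_generic f.hom hd hx hy
  -- the fibre product
  have sqP := IsPullback.of_hasPullback j.hom f.hom
  have hP : AlgSp.IsAlgSpace (pullback j.hom f.hom) :=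
    Groth.Agent.S9874.isAlgSpace_of_isPullback Y.property.diag V.property X.property sqP
  have hfinP : AlgSp.IsFiniteMor (pullback.fst j.hom f.hom) :=
    hfin ⟨pullback j.hom f.hom, hP⟩ (ObjectProperty.homMk (pullback.fst j.hom f.hom))
      (ObjectProperty.homMk (pullback.snd j.hom f.hom)) sqP
  have hsnd : AlgSp.RepWith @IsOpenImmersion (pullback.snd j.hom f.hom) :=
    MorphismProperty.of_isPullback (P := AlgSp.RepWith @IsOpenImmersion) sqP hj
  -- `y` lies in `V`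
  obtain ⟨v, hv⟩ : ∃ v : AlgSp.Points V.obj, AlgSp.Points.map j.hom v = y := by
    refine (hy.mem_open_set_iff
      (Groth.Agent.Lib.Helper12.OpenSub.isOpen_range_of_open j.hom hj)).2 ?_
    obtain ⟨v⟩ := hne
    exact ⟨_, Set.mem_univ _, v, rfl⟩
  -- an affine étale chart of `V` at `v`
  obtain ⟨Z, c, z, hc, -, hz⟩ := Groth.Agent.R2.H45.HasAt.exists_chart V.property v
  obtain ⟨Z', hZ', hzZ'⟩ : ∃ Z' : Z.left.Opens, IsAffineOpen Z' ∧ z ∈ Z' := by
    obtain ⟨_, ⟨Z', hZ', rfl⟩, hz', -⟩ :=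
      Z.left.isBasis_affineOpens.exists_subset_of_mem_open (Set.mem_univ z) isOpen_univ
    exact ⟨Z', hZ', hz'⟩
  have hc' : AlgSp.RepWith @Etale (restr c Z') := restr_etale hc Z'
  obtain ⟨W, i, fst', sqW, hW, hi⟩ := hfinP (Z := Over.mk (Z'.ι ≫ Z.hom)) hZ' (restr c Z')
  haveI := hi
  have hfst' : AlgSp.RepWith @Etale fst' :=
    MorphismProperty.of_isPullback (P := AlgSp.RepWith @Etale) sqW.flip hc'
  have ha : AlgSp.RepWith @Etale (fst' ≫ pullback.snd j.hom f.hom) :=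
    MorphismProperty.comp_mem _ _ _ hfst' (etale_of_open hsnd)
  have hb : AlgSp.RepWith @Etale (restr c Z' ≫ j.hom) :=
    MorphismProperty.comp_mem _ _ _ hc' (etale_of_open hj)
  have comm : (fst' ≫ pullback.snd j.hom f.hom) ≫ f.hom =
      (AlgSp.yon S).map i ≫ restr c Z' ≫ j.hom := by
    rw [Category.assoc, ← pullback.condition, ← Category.assoc, sqW.w, Category.assoc]
  -- a point of `W` over `x`
  obtain ⟨p, hp1, hp2⟩ := Groth.Agent.S10175.exists_point_of_isPullback sqP v x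
    (by rw [hv, hxy])
  obtain ⟨q, hq1, -⟩ := Groth.Agent.S10175.exists_point_of_isPullback sqW p
    (AlgSp.Points.ofScheme _ (⟨z, hzZ'⟩ : ↥Z'))
    (by rw [hp1, ← AlgSp.Points.ofPt_eq_map_ofScheme, ofPt_restr]; exact hz.symm)
  obtain ⟨w₀, rfl⟩ := (AlgSp.Points.schemeHomeo W).surjective q
  have hw₀ : AlgSp.Points.ofPt (fst' ≫ pullback.snd j.hom f.hom) w₀ = x := by
    rw [AlgSp.Points.ofPt_eq_map_ofScheme, AlgSp.Points.map_comp]
    have : AlgSp.Points.map fst' (AlgSp.Points.ofScheme W w₀) = p := hq1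
    rw [this, hp2]
  exact unique_of_algAt hXd hYd f hd x hx y hy
    ⟨W, _, _, _, i, w₀, ha, hb, comm, hw₀, algAt_of_locallyQuasiFinite i.left w₀⟩ x' hx'

end Sp

end Groth.Agent.R2.H25.IntSp
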