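import Mathlib
import Groth.Prelude.Def_AlgSpDec
import Groth.Agent.R2.H46DecentSober
import Groth.Agent.R2.H46FiniteSpec
import Groth.Agent.R2.H45HasAt
import Groth.Agent.R2.H45HasAtMor
import Groth.Agent.Lib.Helper12QcPoint
import Groth.Agent.S10338
import Groth.Agent.S10341

/-!
# Generic points of irreducible components of decent algebraic spaces (helper46)
-/

set_option autoImplicit false
set_option linter.style.haveILetI false
universe u
open CategoryTheory CategoryTheory.Limits AlgebraicGeometry Topology TopologicalSpace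

namespace Groth.Agent.R2.H46.GenPt

variable {S : Scheme.{u}}

/-- there are no nontrivial specializations in the fibres of an étale chart of a decent space. -/
lemma eq_of_specializes_of_ofPt_eq (X : AlgSp.Space S) (hX : AlgSp.IsDecent X.obj) {U : Over S}
    (a : (AlgSp.yon S).obj U ⟶ X.obj) (ha : AlgSp.RepWith @Etale a) (u u' : ↥U.left)
    (hs : u' ⤳ u) (h : AlgSp.Points.ofPt a u' = AlgSp.Points.ofPt a u) : u = u' :=
  Groth.Agent.S10341.result X (AlgSp.Points.ofPt a u)
    (Groth.Agent.R2.H46.FiniteSpec.finite_fibre_of_isDecent X hX _) a ha u u' rfl h hs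

/-- generizations lift along étale charts of decent spaces. -/
lemma exists_generization (X : AlgSp.Space S) (hX : AlgSp.IsDecent X.obj) {U : Over S}
    (a : (AlgSp.yon S).obj U ⟶ X.obj) (ha : AlgSp.RepWith @Etale a) (u : ↥U.left)
    (x' : AlgSp.Points X.obj) (h : x' ⤳ AlgSp.Points.ofPt a u) :
    ∃ u' : ↥U.left, u' ⤳ u ∧ AlgSp.Points.ofPt a u' = x' := by
  obtain ⟨p, hp, -, hq⟩ := hX x'
  exact Groth.Agent.Lib.Helper12.QcPoint.exists_generization _ x' h p hp hq a ha u rfl

/-- the closure of the image of a point of a chart, as an irreducible closed subset. -/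
noncomputable def clo {X : AlgSp.Sp S} {U : Over S} (a : (AlgSp.yon S).obj U ⟶ X) (u : ↥U.left) :
    IrreducibleCloseds (AlgSp.Points X) :=
  ⟨closure {AlgSp.Points.ofPt a u}, isIrreducible_singleton.closure, isClosed_closure⟩

/-- on a decent space, `u ↦ closure {a u}` is strictly monotone for the specialization order. -/
lemma strictMono_clo (X : AlgSp.Space S) (hX : AlgSp.IsDecent X.obj) {U : Over S}
    (a : (AlgSp.yon S).obj U ⟶ X.obj) (ha : AlgSp.RepWith @Etale a) :
    StrictMono (clo a) := by
  haveI : T0Space (AlgSp.Points X.obj) := Groth.Agent.S10338.result X hX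
  intro u u' huu'
  have hs : u' ⤳ u := huu'.le
  have hs' : AlgSp.Points.ofPt a u' ⤳ AlgSp.Points.ofPt a u :=
    hs.map (AlgSp.Points.continuous_ofPt a)
  refine lt_of_le_of_ne (specializes_iff_closure_subset.1 hs') fun heq => ?_
  have h1 : closure {AlgSp.Points.ofPt a u} = closure {AlgSp.Points.ofPt a u'} := by
    change (clo a u).carrier = (clo a u').carrier
    rw [heq]
  have h2 : AlgSp.Points.ofPt a u = AlgSp.Points.ofPt a u' :=
    ((specializes_iff_closure_subset.2 h1.ge).antisymm hs').eq
  exact huu'.ne (eq_of_specializes_of_ofPt_eq X hX a ha u u' hs h2.symm)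

/-- a point of a chart over the generic point of an irreducible component is maximal. -/
lemma isMax_of_isGenericPoint (X : AlgSp.Space S) (hX : AlgSp.IsDecent X.obj) {U : Over S}
    (a : (AlgSp.yon S).obj U ⟶ X.obj) (ha : AlgSp.RepWith @Etale a) (u : ↥U.left)
    (T : Set (AlgSp.Points X.obj)) (hT : T ∈ irreducibleComponents (AlgSp.Points X.obj))
    (hg : IsGenericPoint (AlgSp.Points.ofPt a u) T) : IsMax u := by
  haveI : T0Space (AlgSp.Points X.obj) := Groth.Agent.S10338.result X hX
  intro u' huu'
  have hs : u' ⤳ u := huu'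
  have hs' : AlgSp.Points.ofPt a u' ⤳ AlgSp.Points.ofPt a u :=
    hs.map (AlgSp.Points.continuous_ofPt a)
  have h1 : T ⊆ closure {AlgSp.Points.ofPt a u'} := by
    rw [← hg.def]
    exact specializes_iff_closure_subset.1 hs'
  have h2 : closure {AlgSp.Points.ofPt a u'} ⊆ T :=
    hT.2 isIrreducible_singleton.closure h1
  have h3 : AlgSp.Points.ofPt a u ⤳ AlgSp.Points.ofPt a u' := by
    rw [specializes_iff_mem_closure, hg.def]
    exact h2 (subset_closure rfl)
  have h4 : AlgSp.Points.ofPt a u' = AlgSp.Points.ofPt a u := (hs'.antisymm h3).eq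
  rw [eq_of_specializes_of_ofPt_eq X hX a ha u u' hs h4]

/-- the image of a maximal point of a chart of a decent space is the generic point of an
irreducible component. -/
lemma exists_component_of_isMax (X : AlgSp.Space S) (hX : AlgSp.IsDecent X.obj) {U : Over S}
    (a : (AlgSp.yon S).obj U ⟶ X.obj) (ha : AlgSp.RepWith @Etale a) (u : ↥U.left)
    (hu : IsMax u) :
    ∃ T ∈ irreducibleComponents (AlgSp.Points X.obj),
      IsGenericPoint (AlgSp.Points.ofPt a u) T := by
  haveI : T0Space (AlgSp.Points X.obj) := Groth.Agent.S10338.result X hX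
  haveI : QuasiSober (AlgSp.Points X.obj) :=
    Groth.Agent.R2.H46.DecentSober.quasiSober_of_isDecent X.property hX
  refine ⟨irreducibleComponent (AlgSp.Points.ofPt a u),
    irreducibleComponent_mem_irreducibleComponents _, ?_⟩
  obtain ⟨η, hη⟩ := QuasiSober.sober (isIrreducible_irreducibleComponent
    (x := AlgSp.Points.ofPt a u)) isClosed_irreducibleComponent
  have h1 : η ⤳ AlgSp.Points.ofPt a u := hη.specializes mem_irreducibleComponent
  obtain ⟨u', hu'u, hu'η⟩ := exists_generization X hX a ha u η h1
  have h2 : u ⤳ u' := hu hu'u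
  have h3 : AlgSp.Points.ofPt a u ⤳ η := by
    rw [← hu'η]
    exact h2.map (AlgSp.Points.continuous_ofPt a)
  have h4 : AlgSp.Points.ofPt a u = η := (h3.antisymm h1).eq
  have h5 := hη
  rw [← h4] at h5
  exact h5

/-- a point of a scheme is maximal iff its local ring has dimension zero. -/
lemma ringKrullDim_stalk_eq_zero_iff {U : Scheme.{u}} (u : ↥U) :
    ringKrullDim ↥(U.presheaf.stalk u) = 0 ↔ IsMax u := by
  rw [ringKrullDim_stalk_eq_coheight, ← Order.coheight_eq_zero]
  exact_mod_cast Iff.rfl

/-- every irreducible closed subset strictly containing the closure of the image of `u` is the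
closure of the image of a proper generization of `u`. -/
lemma exists_lt_of_lt (X : AlgSp.Space S) (hX : AlgSp.IsDecent X.obj) {U : Over S}
    (a : (AlgSp.yon S).obj U ⟶ X.obj) (ha : AlgSp.RepWith @Etale a) (u : ↥U.left)
    (T T' : IrreducibleCloseds (AlgSp.Points X.obj))
    (hT : IsGenericPoint (AlgSp.Points.ofPt a u) (T : Set (AlgSp.Points X.obj))) (hTT' : T < T') :
    ∃ u' : ↥U.left, u < u' ∧
      IsGenericPoint (AlgSp.Points.ofPt a u') (T' : Set (AlgSp.Points X.obj)) := by
  haveI : QuasiSober (AlgSp.Points X.obj) :=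
    Groth.Agent.R2.H46.DecentSober.quasiSober_of_isDecent X.property hX
  obtain ⟨η', hη'⟩ := QuasiSober.sober T'.isIrreducible' T'.isClosed'
  have h0 : AlgSp.Points.ofPt a u ∈ (T : Set (AlgSp.Points X.obj)) := by
    rw [← hT.def]; exact subset_closure rfl
  have h1 : AlgSp.Points.ofPt a u ∈ (T' : Set (AlgSp.Points X.obj)) :=
    (show (T : Set (AlgSp.Points X.obj)) ⊆ T' from hTT'.le) h0
  have h2 : η' ⤳ AlgSp.Points.ofPt a u := hη'.specializes h1
  obtain ⟨u', hu'u, hu'η⟩ := exists_generization X hX a ha u η' h2
  have hle : u ≤ u' := hu'u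
  refine ⟨u', lt_of_le_not_ge hle fun hge => ?_, by rw [hu'η]; exact hη'⟩
  have hs : u ⤳ u' := hge
  have hs' : AlgSp.Points.ofPt a u ⤳ η' := by
    rw [← hu'η]
    exact hs.map (AlgSp.Points.continuous_ofPt a)
  have h3 : η' ∈ (T : Set (AlgSp.Points X.obj)) := by
    rw [← hT.def]
    exact specializes_iff_mem_closure.1 hs'
  have h4 : (T' : Set (AlgSp.Points X.obj)) ⊆ T := by
    change T'.carrier ⊆ _
    rw [← hη'.def]
    exact T.isClosed'.closure_subset_iff.2 (Set.singleton_subset_iff.2 h3)
  exact hTT'.not_ge h4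

lemma coheight_le_aux (X : AlgSp.Space S) (hX : AlgSp.IsDecent X.obj) {U : Over S}
    (a : (AlgSp.yon S).obj U ⟶ X.obj) (ha : AlgSp.RepWith @Etale a) :
    ∀ (n : ℕ) (u : ↥U.left) (T : IrreducibleCloseds (AlgSp.Points X.obj)),
      Order.coheight u ≤ n →
      IsGenericPoint (AlgSp.Points.ofPt a u) (T : Set (AlgSp.Points X.obj)) →
      Order.coheight T ≤ Order.coheight u := by
  intro n
  induction n with
  | zero =>
    intro u T hn hT
    rw [Order.coheight_eq_iSup_gt_coheight T]
    refine iSup₂_le fun T' hTT' => ?_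
    obtain ⟨u', huu', -⟩ := exists_lt_of_lt X hX a ha u T T' hT hTT'
    have := (Order.coheight_add_one_le huu').trans hn
    simp at this
  | succ n ih =>
    intro u T hn hT
    rw [Order.coheight_eq_iSup_gt_coheight T]
    refine iSup₂_le fun T' hTT' => ?_
    obtain ⟨u', huu', hT'⟩ := exists_lt_of_lt X hX a ha u T T' hT hTT'
    have h1 := Order.coheight_add_one_le huu'
    have h2 : Order.coheight u' ≤ n := by
      have := h1.trans hn
      rw [Nat.cast_add, Nat.cast_one] at this
      exact (ENat.add_le_add_iff_right ENat.one_ne_top).1 this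
    exact (add_le_add_left (ih u' T' h2 hT') 1).trans h1

/-- the codimension of an irreducible closed subset of a decent space is the dimension of the
local ring of a chart at a point over its generic point. -/
theorem coheight_eq (X : AlgSp.Space S) (hX : AlgSp.IsDecent X.obj) {U : Over S}
    (a : (AlgSp.yon S).obj U ⟶ X.obj) (ha : AlgSp.RepWith @Etale a) (u : ↥U.left)
    (T : IrreducibleCloseds (AlgSp.Points X.obj))
    (hT : IsGenericPoint (AlgSp.Points.ofPt a u) (T : Set (AlgSp.Points X.obj))) :
    Order.coheight T = Order.coheight u := by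
  apply le_antisymm
  · cases h : Order.coheight u with
    | top => exact le_top
    | coe n =>
      rw [← h]
      exact coheight_le_aux X hX a ha n u T (by rw [h]) hT
  · have h1 := Order.coheight_le_coheight_apply_of_strictMono _ (strictMono_clo X hX a ha) u
    have h2 : clo a u = T := by
      apply SetLike.coe_injective
      exact hT.def
    rwa [h2] at h1

end Groth.Agent.R2.H46.GenPt
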