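-- helper83: birational morphisms of decent algebraic spaces (S10434 ff.): the fibre over a generic
-- point is a single point; charts of the local-ring clause can be taken inside a given open
-- subscheme of the target.
import Mathlib
import Groth.Prelude.Def_W4stk3decentspacesp2Birat
import Groth.Agent.R2.H83BirSch
import Groth.Agent.R2.H46GenPt
import Groth.Agent.R2.H45HasAt
import Groth.Agent.S10176
import Groth.Agent.S10338
import Groth.Agent.S10339
import Groth.Agent.S9928
import Groth.Agent.S10194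
import Groth.Agent.Lib.Helper12LargestOpen
import Groth.Agent.Lib.Helper14IrrComp

set_option autoImplicit false
set_option backward.isDefEq.respectTransparency.types false
set_option linter.style.haveILetI false
universe u
open CategoryTheory CategoryTheory.Limits AlgebraicGeometry Topology TopologicalSpace
open AlgSp

namespace Groth.Agent.R2.H83.Birational

open Groth.Agent.R2.H83.BirSch

variable {S : Scheme.{u}}

/-- the map on points of an open subscheme is injective. -/
lemma ofPt_injective_of_open {F : AlgSp.Sp S} {V : Over S} (b : (AlgSp.yon S).obj V ⟶ F)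
    (hb : AlgSp.RepWith @IsOpenImmersion b) : Function.Injective (AlgSp.Points.ofPt b) := by
  intro v v' h
  rw [AlgSp.Points.ofPt_eq_map_ofScheme, AlgSp.Points.ofPt_eq_map_ofScheme b] at h
  exact (AlgSp.Points.schemeHomeo V).injective
    (Groth.Agent.Lib.Helper12.LargestOpen.injective_map_of_open b hb h)

/-- a generic point has no proper generisations. -/
lemma eq_of_specializes_generic {α : Type*} [TopologicalSpace α] [T0Space α] [QuasiSober α]
    {y y' : α} (hy : y ∈ genericPoints α) (h : y' ⤳ y) : y' = y :=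
  (Groth.Agent.Lib.Helper14.closure_mem_irreducibleComponents_iff y).1 hy y' h

/-- in a scheme every point is a specialisation of a maximal point. -/
lemma exists_isMax_specializes {W : Scheme.{u}} (w : W) : ∃ w₀ : W, IsMax w₀ ∧ w₀ ⤳ w := by
  have hirr : IsIrreducible (irreducibleComponent w) := isIrreducible_irreducibleComponent
  have hcl : IsClosed (irreducibleComponent w) := isClosed_irreducibleComponent
  have hgen : IsGenericPoint hirr.genericPoint (irreducibleComponent w) :=
    hirr.isGenericPoint_genericPoint hcl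
  refine ⟨hirr.genericPoint, ?_, ?_⟩
  · intro w' hw'
    have hs : w' ⤳ hirr.genericPoint := hw'
    have h1 : irreducibleComponent w ⊆ closure {w'} := by
      rw [← hgen.def]
      exact specializes_iff_closure_subset.1 hs
    have h2 : closure {w'} ⊆ irreducibleComponent w :=
      (irreducibleComponent_mem_irreducibleComponents w).2 isIrreducible_singleton.closure h1
    change hirr.genericPoint ⤳ w'
    rw [specializes_iff_mem_closure, hgen.def]
    exact h2 (subset_closure rfl)
  · rw [specializes_iff_mem_closure, hgen.def]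
    exact mem_irreducibleComponent

/-- the image of `ofPt` under `f` through a commutative chart square. -/
lemma map_ofPt_of_comm {F G : AlgSp.Sp S} (f : F ⟶ G) {U V : Over S}
    (a : (AlgSp.yon S).obj U ⟶ F) (b : (AlgSp.yon S).obj V ⟶ G) (g : U ⟶ V)
    (comm : a ≫ f = (AlgSp.yon S).map g ≫ b) (u : ↥U.left) :
    AlgSp.Points.map f (AlgSp.Points.ofPt a u) = AlgSp.Points.ofPt b (g.left u) := by
  rw [AlgSp.Points.map_ofPt, comm, Groth.Agent.S10176.ofPt_map_comp]

/-- the fibre of a birational morphism of decent spaces over a generic point is a single point. -/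
theorem eq_of_map_eq_generic {X Y : AlgSp.Space S} (f : X ⟶ Y)
    (hX : AlgSp.IsDecent X.obj) (hY : AlgSp.IsDecent Y.obj)
    (hf : W4stk3decentspacesp2.IsBirational f.hom)
    {x : AlgSp.Points X.obj} (hx : x ∈ genericPoints (AlgSp.Points X.obj))
    (x' : AlgSp.Points X.obj) (hx' : AlgSp.Points.map f.hom x' = AlgSp.Points.map f.hom x) :
    x' = x := by
  haveI : T0Space (AlgSp.Points Y.obj) := Groth.Agent.S10338.result Y hY
  haveI : QuasiSober (AlgSp.Points Y.obj) := Groth.Agent.S10339.result Y hY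
  have hy : AlgSp.Points.map f.hom x ∈ genericPoints (AlgSp.Points Y.obj) := hf.bijOn.mapsTo hx
  obtain ⟨U, V, a, b, g, u, ha, hb, comm, hu, hiso⟩ := hf.stalkIso x hx
  obtain ⟨W, c, w', hc, -, hw'⟩ := Groth.Agent.R2.H45.HasAt.exists_chart X.property x'
  have hfx : AlgSp.Points.map f.hom x = AlgSp.Points.ofPt b (g.left u) := by
    rw [← hu]
    exact map_ofPt_of_comm f.hom a b g comm u
  -- the open subscheme `W₂` of `W` over `V`
  obtain ⟨W₂, ι, k', sq⟩ := hb.1 (c ≫ f.hom)
  obtain ⟨k, rfl⟩ := (AlgSp.yon S).map_surjective k'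
  haveI : IsOpenImmersion ι.left := hb.2 (c ≫ f.hom) _ ι sq
  have e1 : AlgSp.Points.ofPt b (g.left u) = AlgSp.Points.ofPt (c ≫ f.hom) w' := by
    rw [← hfx, ← hx', ← hw', AlgSp.Points.map_ofPt]
  obtain ⟨w₂, hw₂k, hw₂ι⟩ := Groth.Agent.S10176.exists_point_of_isPullback_yon sq _ _ e1
  -- a maximal generisation `w₀` of `w₂`
  obtain ⟨w₀, hw₀max, hw₀s⟩ := exists_isMax_specializes w₂
  have hc₂ : AlgSp.RepWith @Etale ((AlgSp.yon S).map ι ≫ c) :=
    MorphismProperty.comp_mem _ _ _
      ((AlgSp.repWith_yon_map_iff @Etale ι).2 (inferInstance : Etale ι.left)) hc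
  obtain ⟨T, hT, hgen⟩ := Groth.Agent.R2.H46.GenPt.exists_component_of_isMax X hX
    ((AlgSp.yon S).map ι ≫ c) hc₂ w₀ hw₀max
  set x₀ := AlgSp.Points.ofPt ((AlgSp.yon S).map ι ≫ c) w₀ with hx₀
  have hx₀gen : x₀ ∈ genericPoints (AlgSp.Points X.obj) := by
    change closure {x₀} ∈ irreducibleComponents _
    rw [hgen.def]
    exact hT
  have hx'₂ : x' = AlgSp.Points.ofPt ((AlgSp.yon S).map ι ≫ c) w₂ := by
    rw [Groth.Agent.S10176.ofPt_map_comp, hw₂ι, hw']
  have hspec : x₀ ⤳ x' := by
    rw [hx'₂]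
    exact hw₀s.map (AlgSp.Points.continuous_ofPt _)
  have hfx₀ : AlgSp.Points.map f.hom x₀ = AlgSp.Points.map f.hom x := by
    apply eq_of_specializes_generic hy
    rw [← hx']
    exact hspec.map (AlgSp.Points.continuous_map f.hom)
  have hx₀x : x₀ = x := hf.bijOn.injOn hx₀gen hx hfx₀
  -- the open subscheme `W₃` of `W₂` over `U`
  obtain ⟨W₃, ι₃, e', sq₃⟩ := ha.1 ((AlgSp.yon S).map ι ≫ c)
  obtain ⟨e, rfl⟩ := (AlgSp.yon S).map_surjective e'
  haveI : IsOpenImmersion ι₃.left := ha.2 ((AlgSp.yon S).map ι ≫ c) _ ι₃ sq₃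
  haveI : Etale e.left := hc₂.2 a _ e sq₃.flip
  have e2 : AlgSp.Points.ofPt a u = AlgSp.Points.ofPt ((AlgSp.yon S).map ι ≫ c) w₀ := by
    rw [hu, ← hx₀x]
  obtain ⟨w₃, hw₃e, hw₃ι⟩ := Groth.Agent.S10176.exists_point_of_isPullback_yon sq₃ _ _ e2
  -- `ι₃ ≫ k = e ≫ g`
  haveI : Mono b := Groth.Agent.Lib.Helper12.LargestOpen.mono_of_open b hb
  have hcomm : ι₃ ≫ k = e ≫ g := by
    apply (AlgSp.yon S).map_injective
    have h1 : (AlgSp.yon S).map ι₃ ≫ (AlgSp.yon S).map k ≫ b =
        (AlgSp.yon S).map e ≫ (AlgSp.yon S).map g ≫ b := by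
      rw [sq.w, ← comm, ← Category.assoc ((AlgSp.yon S).map e), sq₃.w]
      simp only [Category.assoc]
    rw [← cancel_mono b, Functor.map_comp, Functor.map_comp, Category.assoc, Category.assoc]
    exact h1
  have hcomm' : ι₃.left ≫ k.left = e.left ≫ g.left := by
    rw [← Over.comp_left, ← Over.comp_left, hcomm]
  -- algebraicity of the residue field extension of `k` at `w₀`
  have hisoAll : ∀ t : ↥U.left, t = u → IsIso (g.left.stalkMap t) := by
    rintro t rfl
    exact hiso
  haveI : IsIso (g.left.stalkMap (e.left w₃)) := hisoAll _ hw₃e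
  have halg : AlgAt k.left w₀ := by
    rw [← hw₃ι]
    apply algAt_of_comp_openImmersion ι₃.left k.left w₃
    apply algAt_congr hcomm'.symm
    exact algAt_comp e.left g.left w₃ (algAt_of_etale e.left w₃) (algAt_of_isIso_stalkMap g.left _)
  have hk₀ : k.left w₀ = k.left w₂ := by
    rw [hw₂k, ← hw₃ι]
    change (ι₃.left ≫ k.left) w₃ = _
    rw [hcomm']
    change g.left (e.left w₃) = _
    rw [hw₃e]
  have hw : w₀ = w₂ := eq_of_specializes_of_algAt k.left hw₀s hk₀ halg
  rw [hx'₂, ← hw, ← hx₀x]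

/-- if `f ≫ p = ι ≫ g` with `p`, `ι` open immersions and `g` inducing an isomorphism of local rings
at `ι z`, then `f` induces an isomorphism of local rings at `z`. -/
lemma isIso_stalkMap_of_comm {A B C D : Scheme.{u}} (f : A ⟶ B) (p : B ⟶ D) (ι : A ⟶ C) (g : C ⟶ D)
    [IsOpenImmersion p] [IsOpenImmersion ι] (h : f ≫ p = ι ≫ g) (z : A)
    [IsIso (g.stalkMap (ι z))] : IsIso (f.stalkMap z) := by
  have h1 := Scheme.Hom.stalkMap_congr_hom _ _ h z
  rw [Scheme.Hom.stalkMap_comp, Scheme.Hom.stalkMap_comp] at h1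
  haveI h2 : IsIso (ι.stalkMap z) := inferInstance
  haveI h3 : IsIso (p.stalkMap (f z)) := inferInstance
  have h4 : IsIso (g.stalkMap (ι z) ≫ ι.stalkMap z) := IsIso.comp_isIso
  haveI : IsIso (p.stalkMap (f z) ≫ f.stalkMap z) := by
    rw [h1]
    exact @IsIso.comp_isIso _ _ _ _ _ _ _ inferInstance h4
  exact IsIso.of_isIso_comp_left (p.stalkMap (f z)) (f.stalkMap z)

/-- the local-ring clause of a birational morphism, with charts inside a given open subscheme `V`
of the target. -/
theorem exists_chart_into {X Y : AlgSp.Space S} (f : X ⟶ Y)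
    (hf : W4stk3decentspacesp2.IsBirational f.hom)
    {x : AlgSp.Points X.obj} (hx : x ∈ genericPoints (AlgSp.Points X.obj))
    {V : Over S} (b : (AlgSp.yon S).obj V ⟶ Y.obj) (hb : AlgSp.RepWith @IsOpenImmersion b)
    (v : ↥V.left) (hv : AlgSp.Points.ofPt b v = AlgSp.Points.map f.hom x) :
    ∃ (U : Over S) (a : (AlgSp.yon S).obj U ⟶ X.obj) (g : U ⟶ V) (u : ↥U.left),
      AlgSp.RepWith @IsOpenImmersion a ∧ a ≫ f.hom = (AlgSp.yon S).map g ≫ b ∧
        AlgSp.Points.ofPt a u = x ∧ g.left u = v ∧ IsIso (g.left.stalkMap u) := by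
  obtain ⟨U₁, V₁, a₁, b₁, g₁, u₁, ha₁, hb₁, comm₁, hu₁, hiso₁⟩ := hf.stalkIso x hx
  obtain ⟨V₂, p₁, p₂', sq⟩ := hb.1 b₁
  obtain ⟨p₂, rfl⟩ := (AlgSp.yon S).map_surjective p₂'
  haveI : IsOpenImmersion p₁.left := hb.2 b₁ _ p₁ sq
  haveI : IsOpenImmersion p₂.left := hb₁.2 b _ p₂ sq.flip
  have e1 : AlgSp.Points.ofPt b v = AlgSp.Points.ofPt b₁ (g₁.left u₁) := by
    rw [hv, ← hu₁]
    exact map_ofPt_of_comm f.hom a₁ b₁ g₁ comm₁ u₁
  obtain ⟨v₂, hv₂1, hv₂2⟩ := Groth.Agent.S10176.exists_point_of_isPullback_yon sq v _ e1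
  let O : U₁.left.Opens := g₁.left ⁻¹ᵁ p₁.left.opensRange
  have hu₁O : u₁ ∈ O := ⟨v₂, hv₂2⟩
  let U₂ : Over S := Over.mk (O.ι ≫ U₁.hom)
  let q : U₂ ⟶ U₁ := Over.homMk O.ι rfl
  have hrange : Set.range (O.ι ≫ g₁.left) ⊆ Set.range p₁.left := by
    rintro _ ⟨z, rfl⟩
    exact z.2
  let g₂' : O.toScheme ⟶ V₂.left := IsOpenImmersion.lift p₁.left (O.ι ≫ g₁.left) hrange
  have hg₂' : g₂' ≫ p₁.left = O.ι ≫ g₁.left := IsOpenImmersion.lift_fac _ _ _
  let g₂ : U₂ ⟶ V₂ := Over.homMk g₂' (by
    change g₂' ≫ V₂.hom = O.ι ≫ U₁.hom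
    rw [← Over.w p₁, ← Category.assoc, hg₂', Category.assoc, Over.w g₁])
  have hg₂ : g₂ ≫ p₁ = q ≫ g₁ := Over.OverMorphism.ext hg₂'
  let z : ↥U₂.left := ⟨u₁, hu₁O⟩
  have hz : g₂' z = v₂ := by
    apply p₁.left.isOpenEmbedding.injective
    rw [hv₂2]
    change (g₂' ≫ p₁.left) z = _
    rw [hg₂']
    rfl
  refine ⟨U₂, (AlgSp.yon S).map q ≫ a₁, g₂ ≫ p₂, z, ?_, ?_, ?_, ?_, ?_⟩
  · exact MorphismProperty.comp_mem _ _ _
      ((AlgSp.repWith_yon_map_iff @IsOpenImmersion q).2
        (inferInstanceAs (IsOpenImmersion O.ι))) ha₁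
  · rw [Category.assoc, comm₁, Functor.map_comp, Category.assoc, sq.w, ← Category.assoc,
      ← Category.assoc, ← Functor.map_comp, ← Functor.map_comp, hg₂]
  · rw [Groth.Agent.S10176.ofPt_map_comp]
    exact hu₁
  · change p₂.left (g₂' z) = v
    rw [hz, hv₂1]
  · change IsIso ((g₂' ≫ p₂.left).stalkMap z)
    rw [Scheme.Hom.stalkMap_comp]
    haveI : IsIso (g₁.left.stalkMap (O.ι z)) := hiso₁
    haveI h5 : IsIso (g₂'.stalkMap z) := isIso_stalkMap_of_comm g₂' p₁.left O.ι g₁.left hg₂' z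
    have h7 : ∀ (t : ↥V₂.left), IsIso (p₂.left.stalkMap t) := fun t => inferInstance
    have h6 : IsIso (p₂.left.stalkMap (g₂' z)) := h7 _
    exact @IsIso.comp_isIso _ _ _ _ _ _ _ h6 h5

/-- a pullback square over `k ≫ b` restricts to a pullback square over `k` along monomorphisms. -/
lemma isPullback_of_mono_factor {C : Type*} [Category C] {P X Y U V K : C} {fst : P ⟶ X}
    {snd : P ⟶ K} {f : X ⟶ Y} {k : K ⟶ V} {b : V ⟶ Y} {a : U ⟶ X} {g : U ⟶ V} {l : P ⟶ U}
    [Mono a] [Mono b] (hP : IsPullback fst snd f (k ≫ b)) (comm : a ≫ f = g ≫ b)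
    (hl : l ≫ a = fst) : IsPullback l snd g k := by
  have hw : l ≫ g = snd ≫ k := by
    rw [← cancel_mono b, Category.assoc, ← comm, ← Category.assoc, hl, hP.w, Category.assoc]
  have hc : ∀ s : PullbackCone g k, (s.fst ≫ a) ≫ f = s.snd ≫ k ≫ b := fun s => by
    rw [Category.assoc, comm, ← Category.assoc, s.condition, Category.assoc]
  refine IsPullback.of_isLimit' ⟨hw⟩ (PullbackCone.IsLimit.mk _
    (fun s => hP.lift (s.fst ≫ a) s.snd (hc s)) (fun s => ?_) (fun s => ?_) (fun s m h1 h2 => ?_))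
  · rw [← cancel_mono a, Category.assoc, hl, hP.lift_fst]
  · exact hP.lift_snd _ _ _
  · apply hP.hom_ext
    · rw [hP.lift_fst, ← hl, ← Category.assoc, h1]
    · rw [hP.lift_snd, h2]

/-- two pullbacks of the same cospan: if one second projection is an isomorphism so is the other. -/
lemma isIso_snd_of_isPullback {C : Type*} [Category C] {P P' X Y Z : C} {fst : P ⟶ X} {snd : P ⟶ Y}
    {fst' : P' ⟶ X} {snd' : P' ⟶ Y} {f : X ⟶ Z} {g : Y ⟶ Z} (h : IsPullback fst snd f g)
    (h' : IsPullback fst' snd' f g) [IsIso snd'] : IsIso snd := by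
  have e : snd = (h.isoIsPullback _ _ h').hom ≫ snd' := (IsPullback.isoIsPullback_hom_snd _ _ h h').symm
  rw [e]
  infer_instance

/-- S10434: the base change of a birational morphism of decent spaces to the local ring at a
generic point of the target is an isomorphism. -/
theorem isIso_snd_specStalk {X Y : AlgSp.Space S} (f : X ⟶ Y)
    (hX : AlgSp.IsDecent X.obj) (hY : AlgSp.IsDecent Y.obj)
    (hf : W4stk3decentspacesp2.IsBirational f.hom) {V : Over S}
    (b : (AlgSp.yon S).obj V ⟶ Y.obj) (hb : AlgSp.RepWith @IsOpenImmersion b) (v : ↥V.left)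
    (hv : AlgSp.Points.ofPt b v ∈ genericPoints (AlgSp.Points Y.obj)) {P : AlgSp.Sp S}
    (fst : P ⟶ X.obj)
    (snd : P ⟶ (AlgSp.yon S).obj (Over.mk (V.left.fromSpecStalk v ≫ V.hom)))
    (hP : IsPullback fst snd f.hom
      ((AlgSp.yon S).map (Over.homMk (V.left.fromSpecStalk v) rfl) ≫ b)) :
    IsIso snd := by
  haveI : T0Space (AlgSp.Points Y.obj) := Groth.Agent.S10338.result Y hY
  haveI : QuasiSober (AlgSp.Points Y.obj) := Groth.Agent.S10339.result Y hY
  obtain ⟨x, hx, hxv⟩ := hf.bijOn.surjOn hv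
  obtain ⟨U, a, g, u, ha, comm, hu, hgu, hiso⟩ := exists_chart_into f hf hx b hb v hxv.symm
  set k : Over.mk (V.left.fromSpecStalk v ≫ V.hom) ⟶ V :=
    Over.homMk (V.left.fromSpecStalk v) rfl with hk
  have hmin : ∀ v' : ↥V.left, v' ⤳ v → v' = v := by
    intro v' hs
    apply ofPt_injective_of_open b hb
    exact eq_of_specializes_generic hv (hs.map (AlgSp.Points.continuous_ofPt b))
  have hkv : ∀ t, k.left t = v := fun t =>
    hmin _ (Groth.Agent.Lib.Helper14.fromSpecStalk_specializes V.left v t)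
  -- all points of `P` lie over `x`
  have hpts : ∀ p : AlgSp.Points P, AlgSp.Points.map fst p = x := by
    intro p
    apply eq_of_map_eq_generic f hX hY hf hx
    have h1 : AlgSp.Points.map f.hom (AlgSp.Points.map fst p) =
        AlgSp.Points.map ((AlgSp.yon S).map k ≫ b) (AlgSp.Points.map snd p) := by
      rw [← AlgSp.Points.map_comp, ← AlgSp.Points.map_comp, hP.w]
    rw [h1, hxv]
    obtain ⟨t, ht⟩ := (AlgSp.Points.schemeHomeo _).surjective (AlgSp.Points.map snd p)
    rw [← ht]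
    change AlgSp.Points.map ((AlgSp.yon S).map k ≫ b) (AlgSp.Points.ofScheme _ t) = _
    rw [← AlgSp.Points.ofPt_eq_map_ofScheme, Groth.Agent.S10176.ofPt_map_comp, hkv]
  -- `fst` factors through the open subscheme `U`
  obtain ⟨l, hl⟩ := (Groth.Agent.S10194.exists_factor_iff a ha fst).2 (by
    rintro _ ⟨p, rfl⟩
    rw [hpts p]
    exact ⟨AlgSp.Points.ofScheme U u, by rw [← AlgSp.Points.ofPt_eq_map_ofScheme]; exact hu⟩)
  haveI : Mono a := Groth.Agent.Lib.Helper12.LargestOpen.mono_of_open a ha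
  haveI : Mono b := Groth.Agent.Lib.Helper12.LargestOpen.mono_of_open b hb
  have sq1 : IsPullback l snd ((AlgSp.yon S).map g) ((AlgSp.yon S).map k) :=
    isPullback_of_mono_factor hP comm hl
  -- the scheme-level pullback
  have sqO := IsPullback.of_hasPullback g k
  have sqY := sqO.map (AlgSp.yon S)
  have sqS : IsPullback (pullback.fst g k).left (pullback.snd g k).left g.left
      (V.left.fromSpecStalk v) := sqO.map (Over.forget S)
  have hfib : ∀ w : ↑(pullback g.left (V.left.fromSpecStalk v)),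
      pullback.fst g.left (V.left.fromSpecStalk v) w = u := by
    intro w
    apply ofPt_injective_of_open a ha
    rw [hu]
    apply eq_of_map_eq_generic f hX hY hf hx
    rw [map_ofPt_of_comm f.hom a b g comm, hxv]
    congr 1
    have h1 : (pullback.fst g.left (V.left.fromSpecStalk v) ≫ g.left) w =
        (pullback.snd g.left (V.left.fromSpecStalk v) ≫ V.left.fromSpecStalk v) w := by
      rw [pullback.condition]
    exact h1.trans (hkv _)
  haveI := isIso_snd_fromSpecStalk_of_fibre g.left u v hgu hmin hfib hiso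
  haveI : IsIso (pullback.snd g k).left :=
    isIso_snd_of_isPullback sqS (IsPullback.of_hasPullback g.left (V.left.fromSpecStalk v))
  haveI : IsIso ((Over.forget S).map (pullback.snd g k)) := ‹IsIso (pullback.snd g k).left›
  haveI : IsIso (pullback.snd g k) := isIso_of_reflects_iso _ (Over.forget S)
  exact isIso_snd_of_isPullback sq1 sqY

end Groth.Agent.R2.H83.Birational
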