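import Mathlib
import Groth.Prelude
import Groth.Agent.R2.H25IntSp2
import Groth.Agent.R2.H83Birational

/-!
# A birational morphism is an isomorphism over a dense open subscheme of the target
-/

set_option autoImplicit false
set_option linter.style.haveILetI false
universe u
open CategoryTheory CategoryTheory.Limits AlgebraicGeometry Topology TopologicalSpace

namespace Groth.Agent.R2.H25.Birat

open Groth.Agent.R2.H25.GenFinSp Groth.Agent.R2.H25.IntSp

variable {S : Scheme.{u}}

/-- every point of a quasi-sober space is a specialization of a generic point of an irreducible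
component. -/
lemma exists_genericPoint_specializes {α : Type*} [TopologicalSpace α] [QuasiSober α] (x : α) :
    ∃ ξ ∈ genericPoints α, ξ ⤳ x := by
  have hirr : IsIrreducible (irreducibleComponent x) := isIrreducible_irreducibleComponent
  have hcl : IsClosed (irreducibleComponent x) := isClosed_irreducibleComponent
  have hgen := hirr.isGenericPoint_genericPoint hcl
  refine ⟨hirr.genericPoint, ?_, ?_⟩
  · show closure {hirr.genericPoint} ∈ irreducibleComponents α
    rw [hgen.def]
    exact irreducibleComponent_mem_irreducibleComponents x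
  · rw [specializes_iff_mem_closure, hgen.def]
    exact mem_irreducibleComponent

/-- **a birational morphism of decent spaces with finitely many irreducible components which is
quasi-compact or separated is an isomorphism over a dense open subscheme of the target.** -/
theorem exists_dense_open_iso_preimage {X Y : AlgSp.Space S} (f : X ⟶ Y)
    (hX : AlgSp.IsDecent X.obj) (hY : AlgSp.IsDecent Y.obj)
    (hXf : (irreducibleComponents (AlgSp.Points X.obj)).Finite)
    (hYf : (irreducibleComponents (AlgSp.Points Y.obj)).Finite)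
    (hf : W4stk3decentspacesp2.IsBirational f.hom)
    (h₁ : AlgSp.IsQuasiCompactMor f.hom ∨ AlgSp.IsSeparatedMor f.hom)
    (h₂ : (AlgSp.LocP @LocallyOfFiniteType f.hom ∧
        AlgSp.EtaleLocally (fun T => IsReduced T) Y.obj) ∨
      AlgSp.LocP @LocallyOfFinitePresentation f.hom) :
    ∃ (V : Over S) (b : (AlgSp.yon S).obj V ⟶ Y.obj), AlgSp.RepWith @IsOpenImmersion b ∧
      Dense (Set.range (AlgSp.Points.ofPt b)) ∧
        ∀ ⦃P : AlgSp.Sp S⦄ (fst : P ⟶ X.obj) (snd : P ⟶ (AlgSp.yon S).obj V),
          IsPullback fst snd f.hom b → IsIso snd := by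
  haveI : T0Space (AlgSp.Points X.obj) := Groth.Agent.S10338.result X hX
  haveI : QuasiSober (AlgSp.Points X.obj) := Groth.Agent.S10339.result X hX
  haveI : T0Space (AlgSp.Points Y.obj) := Groth.Agent.S10338.result Y hY
  haveI : QuasiSober (AlgSp.Points Y.obj) := Groth.Agent.S10339.result Y hY
  obtain ⟨U, V, a, b, g, ha, hb, had, hbd, comm, hiso⟩ :=
    exists_iso_dense_open f hX hY hXf hYf hf h₂
  haveI := hiso
  have hembX := isOpenEmbedding_ofPt a ha
  have hembY := isOpenEmbedding_ofPt b hb
  have hgenX : ∀ ξ ∈ genericPoints (AlgSp.Points X.obj), ξ ∈ Set.range (AlgSp.Points.ofPt a) :=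
    fun ξ hξ => mem_of_dense_open hXf _ hembX.isOpen_range had ξ hξ
  have hgenY : ∀ η ∈ genericPoints (AlgSp.Points Y.obj), η ∈ Set.range (AlgSp.Points.ofPt b) :=
    fun η hη => mem_of_dense_open hYf _ hembY.isOpen_range hbd η hη
  -- an open neighbourhood of the generic points of `V` whose preimage lies in `U`
  obtain ⟨N, hΦN, hN⟩ : ∃ N : V.left.Opens, genericPoints ↥V.left ⊆ (N : Set ↥V.left) ∧
      ∀ x' : AlgSp.Points X.obj,
        AlgSp.Points.map f.hom x' ∈ AlgSp.Points.ofPt b '' (N : Set ↥V.left) →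
          x' ∈ Set.range (AlgSp.Points.ofPt a) := by
    rcases h₁ with hqc | hsep
    · refine exists_open_preimage_subset_of_qc' f hqc a b ha hb (genericPoints ↥V.left) ?_ ?_
      · intro v hv
        exact (Groth.Agent.Lib.Helper14.closure_mem_irreducibleComponents_iff v).1 hv
      · rintro x' ⟨v, hv, hvx'⟩
        have hbv : AlgSp.Points.ofPt b v ∈ genericPoints (AlgSp.Points Y.obj) :=
          (mem_genericPoints_iff hembY v).1 hv
        obtain ⟨ξ, hξ, hξv⟩ := hf.bijOn.surjOn hbv
        have : x' = ξ := Groth.Agent.R2.H83.Birational.eq_of_map_eq_generic f hX hY hf hξ x'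
          (by rw [hξv, hvx'])
        rw [this]
        exact hgenX ξ hξ
    · refine ⟨⊤, fun _ _ => trivial, ?_⟩
      rintro x' ⟨v, -, hv⟩
      by_contra hcon
      have hD := isOpen_preimage_diff_of_separated f hsep a b g ha hb comm
      obtain ⟨ξ, hξ, hξx'⟩ := exists_genericPoint_specializes x'
      have hξD := hξx'.mem_open hD ⟨⟨v, hv⟩, hcon⟩
      exact hξD.2 (hgenX ξ hξ)
  have hw : (g.left ∣_ N) ≫ (N.ι ≫ V.hom) = (g.left ⁻¹ᵁ N).ι ≫ U.hom := by
    rw [← Category.assoc, morphismRestrict_ι, Category.assoc, Over.w g]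
  have sqN := isPullback_restr_of_preimage_subset f.hom a b g ha hb comm N hN hw
  haveI : IsIso ((Over.forget S).map (Over.homMk (g.left ∣_ N) hw :
      Over.mk ((g.left ⁻¹ᵁ N).ι ≫ U.hom) ⟶ Over.mk (N.ι ≫ V.hom))) :=
    (inferInstance : IsIso (g.left ∣_ N))
  haveI : IsIso (Over.homMk (g.left ∣_ N) hw :
      Over.mk ((g.left ⁻¹ᵁ N).ι ≫ U.hom) ⟶ Over.mk (N.ι ≫ V.hom)) :=
    isIso_of_reflects_iso _ (Over.forget S)
  refine ⟨Over.mk (N.ι ≫ V.hom), restr b N, restr_open hb N, ?_, ?_⟩
  · apply dense_of_genericPoints_subset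
    intro η hη
    obtain ⟨v, rfl⟩ := hgenY η hη
    have hv : v ∈ genericPoints ↥V.left := (mem_genericPoints_iff hembY v).2 hη
    exact ⟨(⟨v, hΦN hv⟩ : ↥N), ofPt_restr b N ⟨v, hΦN hv⟩⟩
  · intro P fst snd sqP
    have he := sqP.isoIsPullback_hom_snd _ _ sqN
    rw [← he]
    infer_instance

end Groth.Agent.R2.H25.Birat
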