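import Mathlib
import Groth.Agent.R2.H25DecentPts
import Groth.Agent.Lib.Helper12ZarGlue
import Groth.Agent.S9913
import Groth.Agent.S10209

/-!
# Decent spaces and quasi-compact etale surjections (helper25)

* `repWith_quasiCompact_comp`: `h_A ⟶ X ⟶ Y` is representable quasi-compact when `h_A ⟶ X` is and
  `X ⟶ Y` is a quasi-compact morphism of algebraic spaces.
* `isDecent_of_quasiCompact_surjective`: if `X ⟶ Y` is quasi-compact and surjective and `X` is decent
  then `Y` is decent (no etaleness needed).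
-/

set_option autoImplicit false
universe u
open CategoryTheory CategoryTheory.Limits AlgebraicGeometry Topology TopologicalSpace

namespace Groth.Agent.R2.H25.DecentDesc

open Opposite MorphismProperty

variable {S : Scheme.{u}}

/-- the fibre product `h_A ×_Y h_Z` is quasi-compact, when `h_A ⟶ X` is representable quasi-compact,
`X ⟶ Y` is quasi-compact and `Z` is a quasi-compact scheme. -/
lemma compactSpace_of_comp {X Y : AlgSp.Sp S} (f : X ⟶ Y) (hf : AlgSp.IsQuasiCompactMor f)
    {A : Over S} (a : (AlgSp.yon S).obj A ⟶ X) (ha : AlgSp.RepWith @QuasiCompact a)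
    {Z W : Over S} [CompactSpace ↥Z.left] (g : (AlgSp.yon S).obj Z ⟶ Y) (fst : W ⟶ A) (i : W ⟶ Z)
    (sq : IsPullback ((AlgSp.yon S).map fst) ((AlgSp.yon S).map i) (a ≫ f) g) :
    CompactSpace ↥W.left := by
  -- the base change `T'` of `X` to `Z`
  have sqT := IsPullback.of_hasPullback f g
  obtain ⟨V, v, hve, hvs, hVc⟩ := hf (AlgSp.IsAlgSpace.yon_obj Z)
    (Groth.Agent.S9913.isQuasiCompactSp_yon_of_compact Z) g _ _ sqT
  haveI : CompactSpace ↥V.left := hVc
  -- `W = A ×_X T'`
  let lam : (AlgSp.yon S).obj W ⟶ pullback f g :=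
    sqT.lift ((AlgSp.yon S).map fst ≫ a) ((AlgSp.yon S).map i) (by rw [Category.assoc]; exact sq.w)
  have hlam1 : lam ≫ pullback.fst f g = (AlgSp.yon S).map fst ≫ a := sqT.lift_fst _ _ _
  have hlam2 : lam ≫ pullback.snd f g = (AlgSp.yon S).map i := sqT.lift_snd _ _ _
  have sqW : IsPullback lam ((AlgSp.yon S).map fst) (pullback.fst f g) a := by
    refine IsPullback.of_right ?_ hlam1 sqT.flip
    rw [hlam2]
    exact sq.flip
  -- the etale cover `E = V ×_{T'} W` of `W`
  obtain ⟨E, e, prE', sqE⟩ := hve.1 lam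
  obtain ⟨prE, rfl⟩ := (AlgSp.yon S).map_surjective prE'
  haveI : Surjective e.left := hvs.2 lam _ e sqE
  have sqEA : IsPullback ((AlgSp.yon S).map e ≫ (AlgSp.yon S).map fst) ((AlgSp.yon S).map prE) a
      (v ≫ pullback.fst f g) := (sqE.paste_vert sqW).flip
  haveI : QuasiCompact prE.left := ha.2 _ _ prE sqEA
  haveI : CompactSpace ↥E.left := QuasiCompact.compactSpace_of_compactSpace prE.left
  have hr : Set.range e.left = Set.univ := Set.range_eq_univ.2 e.left.surjective
  exact ⟨hr ▸ isCompact_range e.left.continuous⟩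

/-- `h_A ⟶ X ⟶ Y` is representable quasi-compact when `h_A ⟶ X` is and `X ⟶ Y` is a quasi-compact
morphism. -/
theorem repWith_quasiCompact_comp {X Y : AlgSp.Sp S} (f : X ⟶ Y) (hf : AlgSp.IsQuasiCompactMor f)
    {A : Over S} (a : (AlgSp.yon S).obj A ⟶ X) (ha : AlgSp.RepWith @QuasiCompact a)
    (hrep : AlgSp.Representable (a ≫ f)) : AlgSp.RepWith @QuasiCompact (a ≫ f) := by
  refine Groth.Agent.Lib.Helper12.ZarGlue.repWith_of_affine @QuasiCompact (a ≫ f) ?_
  intro Z hZ g
  haveI : IsAffine Z.left := hZ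
  obtain ⟨W, i, fst', sq⟩ := hrep g
  obtain ⟨fst, rfl⟩ := (AlgSp.yon S).map_surjective fst'
  refine ⟨W, i, _, sq, ?_⟩
  haveI : CompactSpace ↥W.left := compactSpace_of_comp f hf a ha g fst i sq
  exact quasiCompact_of_compactSpace _

/-- decency descends along quasi-compact surjective morphisms. -/
theorem isDecent_of_quasiCompact_surjective {X Y : AlgSp.Space S} (f : X ⟶ Y)
    (hq : AlgSp.IsQuasiCompactMor f.hom) (hs : AlgSp.IsSurjectiveMor f.hom)
    (hX : AlgSp.IsDecent X.obj) : AlgSp.IsDecent Y.obj := by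
  intro y
  obtain ⟨x, rfl⟩ := hs y
  obtain ⟨p, rfl, -, hpq⟩ := hX x
  have hq' : AlgSp.RepWith @QuasiCompact (p.map f.hom).toHom := by
    rw [AlgSp.FieldPt.toHom_map]
    refine repWith_quasiCompact_comp f.hom hq p.toHom hpq ?_
    rw [← AlgSp.FieldPt.toHom_map]
    exact Y.property.representable_from_yon _
  exact Groth.Agent.R2.H25.DecentEquiv.exists_mono_quasiCompact_of_quasiCompact Y (p.map f.hom) hq'

/-- points of a pullback square of schemes. -/
lemma exists_preimage_of_isPullback {P A B Z : Scheme.{u}} {fst : P ⟶ A} {snd : P ⟶ B} {f : A ⟶ Z}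
    {g : B ⟶ Z} (h : IsPullback fst snd f g) (x : ↥A) (y : ↥B) (hxy : f x = g y) :
    ∃ z : ↥P, fst z = x ∧ snd z = y := by
  obtain ⟨z, hz1, hz2⟩ := Scheme.Pullback.exists_preimage_pullback x y hxy
  refine ⟨h.isoPullback.inv z, ?_, ?_⟩
  · rw [← Scheme.Hom.comp_apply, IsPullback.isoPullback_inv_fst]; exact hz1
  · rw [← Scheme.Hom.comp_apply, IsPullback.isoPullback_inv_snd]; exact hz2

/-- the self-fibre-product over `Y` of a field point of `X` whose class has a monomorphic
representative is quasi-compact, when `X ⟶ Y` is quasi-compact and etale. -/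
theorem compactSpace_rel_of_comp {X Y : AlgSp.Space S} (f : X ⟶ Y)
    (hq : AlgSp.IsQuasiCompactMor f.hom) (he : AlgSp.IsEtaleMor f.hom)
    (qX pX : AlgSp.FieldPt X.obj) [Mono pX.toHom] (hpq : AlgSp.Points.mk qX = AlgSp.Points.mk pX)
    {R : Over S} (s t : R ⟶ qX.pt)
    (sq : IsPullback ((AlgSp.yon S).map t) ((AlgSp.yon S).map s) (qX.toHom ≫ f.hom)
      (qX.toHom ≫ f.hom)) : CompactSpace ↥R.left := by
  set g := qX.toHom ≫ f.hom with hg
  have sqT := IsPullback.of_hasPullback f.hom g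
  haveI : CompactSpace ↥qX.pt.left := (inferInstance : CompactSpace ↥(Spec (CommRingCat.of qX.K)))
  obtain ⟨V, v, hve, hvs, hVc⟩ := hq (AlgSp.IsAlgSpace.yon_obj qX.pt)
    (Groth.Agent.S9913.isQuasiCompactSp_yon_of_compact qX.pt) g _ _ sqT
  haveI : CompactSpace ↥V.left := hVc
  -- `V` is etale over the field, hence finite
  have hEt : AlgSp.IsEtaleMor (pullback.snd f.hom g) :=
    Groth.Agent.S10209.isEtaleMor_of_isPullback X.property (AlgSp.IsAlgSpace.yon_obj qX.pt) sqT.flip he
  have hvk := hEt v hve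
  obtain ⟨vk, hvk'⟩ := (AlgSp.yon S).map_surjective (v ≫ pullback.snd f.hom g)
  rw [← hvk'] at hvk
  haveI : Etale vk.left := (AlgSp.repWith_yon_map_iff _ _).1 hvk
  haveI : LocallyQuasiFinite vk.left := Groth.Agent.S10265.locallyQuasiFinite_of_unramified _
  haveI : Finite ↥V.left :=
    Groth.Agent.R2.H25.DecentEtale.finite_of_locallyQuasiFinite (K := qX.K) vk.left
  -- `R = Spec K ×_X T'`
  let lam : (AlgSp.yon S).obj R ⟶ pullback f.hom g :=
    sqT.lift ((AlgSp.yon S).map t ≫ qX.toHom) ((AlgSp.yon S).map s)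
      (by rw [Category.assoc]; exact sq.w)
  have hlam1 : lam ≫ pullback.fst f.hom g = (AlgSp.yon S).map t ≫ qX.toHom := sqT.lift_fst _ _ _
  have hlam2 : lam ≫ pullback.snd f.hom g = (AlgSp.yon S).map s := sqT.lift_snd _ _ _
  have sqW : IsPullback lam ((AlgSp.yon S).map t) (pullback.fst f.hom g) qX.toHom := by
    refine IsPullback.of_right ?_ hlam1 sqT.flip
    rw [hlam2]
    exact sq.flip
  obtain ⟨E, e, prE', sqE⟩ := hve.1 lam
  obtain ⟨prE, rfl⟩ := (AlgSp.yon S).map_surjective prE'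
  haveI : Surjective e.left := hvs.2 lam _ e sqE
  have sqEA : IsPullback ((AlgSp.yon S).map prE) ((AlgSp.yon S).map (e ≫ t))
      (v ≫ pullback.fst f.hom g) qX.toHom := by
    rw [Functor.map_comp]
    exact sqE.paste_vert sqW
  -- each fibre of `E ⟶ V` is quasi-compact
  have hfib : ∀ y : ↥V.left, IsCompact (prE.left ⁻¹' {y}) := by
    intro y
    set ψ := v ≫ pullback.fst f.hom g with hψ
    let ιy : (AlgSp.FieldPt.ofPt ψ y).pt ⟶ V := Over.homMk (V.left.fromSpecResidueField y) rfl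
    have hto : (AlgSp.FieldPt.ofPt ψ y).toHom = (AlgSp.yon S).map ιy ≫ ψ := AlgSp.FieldPt.toHom_ofPt ψ y
    obtain ⟨Ey, e2, e1', sqEy⟩ := X.property.representable_from_yon qX.toHom
      (AlgSp.FieldPt.ofPt ψ y).toHom
    obtain ⟨e1, rfl⟩ := (AlgSp.yon S).map_surjective e1'
    haveI : CompactSpace ↥Ey.left :=
      Groth.Agent.R2.H25.DecentPts.compactSpace_of_mono_rep X pX qX _ hpq e1 e2 sqEy
    have sqEy' : IsPullback ((AlgSp.yon S).map e2) ((AlgSp.yon S).map e1)
        ((AlgSp.yon S).map ιy ≫ ψ) qX.toHom := hto ▸ sqEy.flip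
    obtain ⟨l, -, hpb⟩ := Groth.Agent.R2.H25.DecentPts.exists_lift_of_comp ιy ψ qX.toHom prE (e ≫ t)
      sqEA e2 e1 sqEy'
    have hrange : prE.left ⁻¹' {y} = Set.range l.left := by
      ext z
      constructor
      · intro hz
        let c : ↥(AlgSp.FieldPt.ofPt ψ y).pt.left :=
          (IsLocalRing.closedPoint (V.left.residueField y) : PrimeSpectrum (V.left.residueField y))
        have hc : ιy.left c = y := by
          show V.left.fromSpecResidueField y c = y
          exact Scheme.fromSpecResidueField_apply _ _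
        obtain ⟨z', hz1, -⟩ := exists_preimage_of_isPullback hpb z c (by rw [hc]; exact hz)
        exact ⟨z', hz1⟩
      · rintro ⟨z', rfl⟩
        show prE.left (l.left z') = y
        have h1 : prE.left (l.left z') = (l.left ≫ prE.left) z' := rfl
        rw [h1, hpb.w]
        show V.left.fromSpecResidueField y (e2.left z') = y
        exact Scheme.fromSpecResidueField_apply _ _
    rw [hrange]
    exact isCompact_range l.left.continuous
  have hE : IsCompact (Set.univ : Set ↥E.left) := by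
    have : (Set.univ : Set ↥E.left) = ⋃ y : ↥V.left, prE.left ⁻¹' {y} := by
      ext z; simp
    rw [this]
    exact isCompact_iUnion hfib
  have hr : Set.range e.left = Set.univ := Set.range_eq_univ.2 e.left.surjective
  refine ⟨?_⟩
  rw [← hr, ← Set.image_univ]
  exact hE.image e.left.continuous

/-- monomorphic representatives of points descend along quasi-compact etale surjective morphisms. -/
theorem exists_mono_of_quasiCompact_etale_surjective {X Y : AlgSp.Space S} (f : X ⟶ Y)
    (hq : AlgSp.IsQuasiCompactMor f.hom) (he : AlgSp.IsEtaleMor f.hom) (hs : AlgSp.IsSurjectiveMor f.hom)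
    (hX : ∀ x : AlgSp.Points X.obj, ∃ p : AlgSp.FieldPt X.obj, AlgSp.Points.mk p = x ∧ Mono p.toHom)
    (y : AlgSp.Points Y.obj) : ∃ q : AlgSp.FieldPt Y.obj, AlgSp.Points.mk q = y ∧ Mono q.toHom := by
  obtain ⟨x, rfl⟩ := hs y
  obtain ⟨U, a, hae, has⟩ := X.property.atlas
  obtain ⟨u, rfl⟩ := Groth.Agent.S10177.surjective_ofPt a has x
  obtain ⟨pX, hpX, hmX⟩ := hX (AlgSp.Points.ofPt a u)
  haveI := hmX
  have hφ : AlgSp.RepWith @Etale (a ≫ f.hom) := he a hae
  have hto : (AlgSp.FieldPt.ofPt (a ≫ f.hom) u).toHom = (AlgSp.FieldPt.ofPt a u).toHom ≫ f.hom := by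
    rw [AlgSp.FieldPt.toHom_ofPt, AlgSp.FieldPt.toHom_ofPt, Category.assoc]
    rfl
  obtain ⟨p, hp, hm⟩ := Groth.Agent.R2.H25.DecentCore.exists_mono_of_chart Y (a ≫ f.hom) hφ u (by
    intro R s t sq
    have sq' : IsPullback ((AlgSp.yon S).map (t : R ⟶ (AlgSp.FieldPt.ofPt a u).pt))
        ((AlgSp.yon S).map (s : R ⟶ (AlgSp.FieldPt.ofPt a u).pt))
        ((AlgSp.FieldPt.ofPt a u).toHom ≫ f.hom) ((AlgSp.FieldPt.ofPt a u).toHom ≫ f.hom) := hto ▸ sq
    exact compactSpace_rel_of_comp f hq he (AlgSp.FieldPt.ofPt a u) pX hpX.symm s t sq')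
  exact ⟨p, hp, hm⟩

end Groth.Agent.R2.H25.DecentDesc
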