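import Mathlib
import Groth.Agent.R2.H25DecentDesc
import Groth.Prelude.Def_W4decUnivBdd

/-!
# Quasi-compactness of a field point from quasi-compact fibres in affine charts (helper25)

* `repWith_quasiCompact_of_compact_charts`: `Spec K ⟶ X` is representable quasi-compact as soon as
  `Spec K ×_X U` is quasi-compact for every affine etale chart `U`.
* `isDecent_of_hasUnivBddFibres`: universally bounded fibres of affine etale charts give decency.
-/

set_option autoImplicit false
universe u
open CategoryTheory CategoryTheory.Limits AlgebraicGeometry Topology TopologicalSpace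

namespace Groth.Agent.R2.H25.DecentBdd

open Opposite MorphismProperty

variable {S : Scheme.{u}}

/-- `Spec K ⟶ X` is representable quasi-compact as soon as `Spec K ×_X U` is quasi-compact for every
affine etale chart `U ⟶ X`. -/
theorem repWith_quasiCompact_of_compact_charts (X : AlgSp.Space S) (q : AlgSp.FieldPt X.obj)
    (H : ∀ (U : Over S) (φ : (AlgSp.yon S).obj U ⟶ X.obj), IsAffine U.left → AlgSp.RepWith @Etale φ →
      ∀ (T : Over S) (c : T ⟶ q.pt) (snd : (AlgSp.yon S).obj T ⟶ (AlgSp.yon S).obj U),
        IsPullback ((AlgSp.yon S).map c) snd q.toHom φ → CompactSpace ↥T.left) :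
    AlgSp.RepWith @QuasiCompact q.toHom := by
  obtain ⟨U, a, hae, has⟩ := X.property.atlas
  have hrep := X.property.representable_from_yon q.toHom
  obtain ⟨W, w, pr', sq⟩ := hrep a
  obtain ⟨pr, rfl⟩ := (AlgSp.yon S).map_surjective pr'
  haveI := Groth.Agent.Lib.Helper12.descendsAlong_quasiCompact.{u}
  refine Groth.Agent.R2.H25.DecentClosed.repWith_of_atlas @QuasiCompact q.toHom hrep a hae has w _
    sq ?_
  show QuasiCompact w.left
  rw [quasiCompact_iff_forall_isAffineOpen]
  intro V hV
  let V' : Over S := Over.mk (V.ι ≫ U.hom)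
  let j : V' ⟶ U := Over.homMk V.ι rfl
  have hb : AlgSp.RepWith @Etale ((AlgSp.yon S).map j ≫ a) :=
    (AlgSp.RepWith @Etale).comp_mem _ _
      ((AlgSp.repWith_yon_map_iff _ _).2 (inferInstance : Etale V.ι)) hae
  have hVa : IsAffine V'.left := hV
  obtain ⟨T, c, snd', sqT'⟩ := hb.1 q.toHom
  have sqT : IsPullback ((AlgSp.yon S).map c) snd' q.toHom ((AlgSp.yon S).map j ≫ a) := sqT'.flip
  haveI : CompactSpace ↥T.left := H V' _ hVa hb T c snd' sqT
  obtain ⟨snd, rfl⟩ := (AlgSp.yon S).map_surjective snd'
  obtain ⟨l, -, hpb⟩ := Groth.Agent.R2.H25.DecentPts.exists_lift_of_comp j a q.toHom w pr sq.flip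
    snd c sqT.flip
  have hrange : ((w.left ⁻¹ᵁ V : W.left.Opens) : Set ↥W.left) = Set.range l.left := by
    ext z
    constructor
    · intro hz
      have hz' : w.left z ∈ V := hz
      obtain ⟨z', hz1, -⟩ := Groth.Agent.R2.H25.DecentDesc.exists_preimage_of_isPullback hpb z
        (⟨w.left z, hz'⟩ : ↥V'.left) rfl
      exact ⟨z', hz1⟩
    · rintro ⟨z', rfl⟩
      show w.left (l.left z') ∈ V
      have h1 : w.left (l.left z') = (l.left ≫ w.left) z' := rfl
      rw [h1, hpb.w]
      exact (snd.left z').2
  rw [hrange]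
  exact isCompact_range l.left.continuous

/-- universally bounded fibres of affine etale charts give decency. -/
theorem isDecent_of_hasUnivBddFibres (X : AlgSp.Space S)
    (h : ∀ (U : Over S) (φ : (AlgSp.yon S).obj U ⟶ X.obj), IsAffine U.left →
      AlgSp.RepWith @Etale φ → W4dec.HasUnivBddFibres φ) : AlgSp.IsDecent X.obj := by
  intro x
  induction x using AlgSp.Points.ind with | h q => ?_
  refine Groth.Agent.R2.H25.DecentEquiv.exists_mono_quasiCompact_of_quasiCompact X q ?_
  refine repWith_quasiCompact_of_compact_charts X q ?_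
  intro U φ hU hφ T c snd sqT
  obtain ⟨n, hn⟩ := h U φ hU hφ
  haveI : IsFinite c.left := (hn q T c snd sqT).1
  haveI : IsAffine q.pt.left := (inferInstance : IsAffine (Spec (CommRingCat.of q.K)))
  haveI : IsAffine T.left := isAffine_of_isAffineHom c.left
  infer_instance

end Groth.Agent.R2.H25.DecentBdd
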