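import Mathlib
import Groth.Agent.R2.H25DecentPts

/-!
# Finite fibres in one etale chart (helper25)

For `φ : U ⟶ X` etale with `U` a scheme and `x ∈ |X|`: `x` is in the image of `|U|` and the fibres of
`|U| → |X|`, `|U ×_X U| → |X|` over `x` are finite iff `x` is represented by a monomorphism
`Spec k ⟶ X` with `Spec k ×_X U` nonempty and finite over `k`.
-/

set_option autoImplicit false
universe u
open CategoryTheory CategoryTheory.Limits AlgebraicGeometry Topology TopologicalSpace

namespace Groth.Agent.R2.H25.DecentChart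

open Opposite MorphismProperty

variable {S : Scheme.{u}}

/-- a quasi-compact scheme etale over the spectrum of a field point is finite over it. -/
lemma isFinite_of_etale_of_compactSpace {X : AlgSp.Sp S} (p : AlgSp.FieldPt X) {T : Over S}
    (c : T ⟶ p.pt) [Etale c.left] [CompactSpace ↥T.left] : IsFinite c.left := by
  haveI : LocallyQuasiFinite c.left := Groth.Agent.S10265.locallyQuasiFinite_of_unramified _
  haveI : QuasiSeparatedSpace ↥p.pt.left :=
    (inferInstance : QuasiSeparatedSpace ↥(Spec (CommRingCat.of p.K)))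
  haveI : QuasiCompact c.left := quasiCompact_of_compactSpace _
  haveI : IsLocallyArtinian p.pt.left := by
    show IsLocallyArtinian (Spec (CommRingCat.of p.K))
    exact Scheme.isLocallyArtinianScheme_Spec.mpr inferInstance
  exact IsFinite.of_locallyQuasiFinite c.left

/-- a scheme finite over the spectrum of a field point has finitely many points. -/
lemma finite_of_isFinite {X : AlgSp.Sp S} (p : AlgSp.FieldPt X) {T : Over S}
    (c : T ⟶ p.pt) [IsFinite c.left] : Finite ↥T.left := by
  haveI : IsAffine p.pt.left := (inferInstance : IsAffine (Spec (CommRingCat.of p.K)))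
  haveI : IsAffine T.left := isAffine_of_isAffineHom c.left
  haveI : CompactSpace ↥T.left := inferInstance
  exact Groth.Agent.R2.H25.DecentEtale.finite_of_locallyQuasiFinite (K := p.K) c.left

theorem finite_fibres_iff (X : AlgSp.Space S) (x : AlgSp.Points X.obj)
    {U : Over S} (φ : (AlgSp.yon S).obj U ⟶ X.obj) (hφ : AlgSp.RepWith @Etale φ) :
    (x ∈ Set.range (AlgSp.Points.ofPt φ) ∧ (AlgSp.Points.ofPt φ ⁻¹' {x}).Finite ∧
        ∀ (R : Over S) (s t : R ⟶ U), IsPullback ((AlgSp.yon S).map t) ((AlgSp.yon S).map s) φ φ →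
          (AlgSp.Points.ofPt ((AlgSp.yon S).map t ≫ φ) ⁻¹' {x}).Finite) ↔
      ∃ p : AlgSp.FieldPt X.obj, AlgSp.Points.mk p = x ∧ Mono p.toHom ∧
        ∀ (T : Over S) (c : T ⟶ p.pt) (snd : (AlgSp.yon S).obj T ⟶ (AlgSp.yon S).obj U),
          IsPullback ((AlgSp.yon S).map c) snd p.toHom φ → Nonempty ↥T.left ∧ IsFinite c.left := by
  constructor
  · rintro ⟨⟨u, rfl⟩, hFU, hFR⟩
    obtain ⟨p, hp, hm⟩ := Groth.Agent.R2.H25.DecentPts.exists_mono_of_finite_rel_fibre X φ hφ u u rfl
      (fun R s t sq => (hFR R s t sq).subset (fun r hr => by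
        show AlgSp.Points.ofPt ((AlgSp.yon S).map t ≫ φ) r = AlgSp.Points.ofPt φ u
        rw [Groth.Agent.S10176.ofPt_map_comp, hr.2]))
    haveI := hm
    refine ⟨p, hp, hm, ?_⟩
    intro T c snd' sq
    obtain ⟨w, rfl⟩ := (AlgSp.yon S).map_surjective snd'
    have e : AlgSp.Points.ofPt p.toHom ((IsLocalRing.closedPoint p.K : PrimeSpectrum p.K) : ↥p.pt.left) =
        AlgSp.Points.ofPt φ u := by
      rw [AlgSp.Points.ofPt_toHom]; exact hp
    obtain ⟨y, -, -⟩ := Groth.Agent.S10176.exists_point_of_isPullback_yon sq _ u e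
    refine ⟨⟨y⟩, ?_⟩
    haveI : Mono ((AlgSp.yon S).map w) := sq.mono_snd_of_mono
    haveI : Mono w := (AlgSp.yon S).mono_of_mono_map inferInstance
    haveI : Mono w.left := inferInstance
    have hfinT : (Set.univ : Set ↥T.left).Finite :=
      (hFU.preimage (w.left.injective.injOn)).subset (fun τ _ => by
        show AlgSp.Points.ofPt φ (w.left τ) = AlgSp.Points.ofPt φ u
        rw [← Groth.Agent.S10176.ofPt_map_comp, ← sq.w, Groth.Agent.S10176.ofPt_map_comp,
          AlgSp.Points.ofPt_toHom]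
        exact hp)
    haveI : Finite ↥T.left := Set.finite_univ_iff.1 hfinT
    haveI : CompactSpace ↥T.left := inferInstance
    haveI : Etale c.left := hφ.2 _ _ c sq.flip
    exact isFinite_of_etale_of_compactSpace p c
  · rintro ⟨p, rfl, hm, hT⟩
    haveI := hm
    obtain ⟨T, c, pr', sq'⟩ := hφ.1 p.toHom
    obtain ⟨pr, rfl⟩ := (AlgSp.yon S).map_surjective pr'
    have sq : IsPullback ((AlgSp.yon S).map c) ((AlgSp.yon S).map pr) p.toHom φ := sq'.flip
    obtain ⟨⟨τ⟩, hcf⟩ := hT T c _ sq
    haveI := hcf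
    haveI : Finite ↥T.left := finite_of_isFinite p c
    haveI : CompactSpace ↥T.left := inferInstance
    have hτ : ∀ τ : ↥T.left, AlgSp.Points.ofPt φ (pr.left τ) = AlgSp.Points.mk p := by
      intro τ
      rw [← Groth.Agent.S10176.ofPt_map_comp, ← sq.w, Groth.Agent.S10176.ofPt_map_comp,
        AlgSp.Points.ofPt_toHom]
    have hFU : (AlgSp.Points.ofPt φ ⁻¹' {AlgSp.Points.mk p}).Finite := by
      refine (Set.finite_range pr.left).subset ?_
      intro v hv
      have e : AlgSp.Points.ofPt p.toHom ((IsLocalRing.closedPoint p.K : PrimeSpectrum p.K) : ↥p.pt.left) =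
          AlgSp.Points.ofPt φ v := by
        rw [AlgSp.Points.ofPt_toHom]; exact (Eq.symm hv)
      obtain ⟨y, -, hy⟩ := Groth.Agent.S10176.exists_point_of_isPullback_yon sq _ v e
      exact ⟨y, hy⟩
    refine ⟨⟨pr.left τ, hτ τ⟩, hFU, ?_⟩
    intro R s t sqR
    have hsub : (AlgSp.Points.ofPt ((AlgSp.yon S).map t ≫ φ) ⁻¹' {AlgSp.Points.mk p}) ⊆
        ⋃ u ∈ (AlgSp.Points.ofPt φ ⁻¹' {AlgSp.Points.mk p}), {r : ↥R.left | t.left r = u} := by
      intro r hr
      have hr' : AlgSp.Points.ofPt φ (t.left r) = AlgSp.Points.mk p := by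
        rw [← Groth.Agent.S10176.ofPt_map_comp]; exact hr
      exact Set.mem_biUnion (x := t.left r) hr' rfl
    refine (hFU.biUnion ?_).subset hsub
    intro u hu
    have hrel : AlgSp.FieldPt.Rel (AlgSp.FieldPt.ofPt φ u) p :=
      AlgSp.Points.mk_eq_mk_iff.1 hu
    obtain ⟨Tu, wu, pru', sqTu'⟩ := hφ.1 (AlgSp.FieldPt.ofPt φ u).toHom
    obtain ⟨pru, rfl⟩ := (AlgSp.yon S).map_surjective pru'
    have sqTu : IsPullback ((AlgSp.yon S).map wu) ((AlgSp.yon S).map pru)
        (AlgSp.FieldPt.ofPt φ u).toHom φ := sqTu'.flip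
    haveI : CompactSpace ↥Tu.left :=
      Groth.Agent.R2.H25.DecentPts.compactSpace_of_rel hrel (X.property.representable_from_yon _) φ
        wu pru sqTu c pr sq
    haveI : Etale wu.left := hφ.2 _ _ wu sqTu.flip
    haveI : IsFinite wu.left := isFinite_of_etale_of_compactSpace _ wu
    haveI : Finite ↥Tu.left := finite_of_isFinite _ wu
    obtain ⟨l, -, hl⟩ := Groth.Agent.R2.H25.DecentIff.fibre_subset_range φ s t sqR u wu pru sqTu
    exact (Set.finite_range l.left).subset hl

end Groth.Agent.R2.H25.DecentChart
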