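import Mathlib
import Groth.Prelude
import Groth.Agent.S10338
import Groth.Agent.S10339
import Groth.Agent.S10340
import Groth.Agent.S10343
import Groth.Agent.S10176
import Groth.Agent.S10177

/-!
# Dimension of a decent algebraic space and of its space of points

For a decent algebraic space `X` the map `|U| → |X|` of an etale chart is strictly monotone for the
specialization orders and lifts generizations; hence it preserves coheights, and the Krull
dimension of `|X|` is the dimension of `X`.
-/

set_option autoImplicit false
universe u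
open CategoryTheory CategoryTheory.Limits AlgebraicGeometry Topology TopologicalSpace

namespace Groth.Agent.R2.H25.DecentDim

section Top

variable {A B : Type*} [TopologicalSpace A] [TopologicalSpace B]

/-- coheight for the specialization preorder. -/
noncomputable def coh (A : Type*) [TopologicalSpace A] (a : A) : ℕ∞ :=
  @Order.coheight A (specializationPreorder A) a

/-- the Krull dimension of a sober space is the supremum of the coheights of its points. -/
lemma topologicalKrullDim_eq_iSup_coh [QuasiSober A] [T0Space A] :
    topologicalKrullDim A = ⨆ a : A, ((coh A a : ℕ∞) : WithBot ℕ∞) := by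
  letI := specializationOrder A
  have h1 : topologicalKrullDim A = Order.krullDim A :=
    Order.krullDim_eq_of_orderIso irreducibleSetEquivPoints
  rw [h1, Order.krullDim_eq_iSup_coheight]
  rfl

/-- coheights in an open subspace of a sober space. -/
lemma coh_opens [QuasiSober A] [T0Space A] (W : TopologicalSpace.Opens A)
    (y : ((W : Set A) : Type _)) : coh ((W : Set A) : Type _) y = coh A (y : A) := by
  have hemb : IsOpenEmbedding (Subtype.val : ((W : Set A) : Type _) → A) :=
    W.isOpen.isOpenEmbedding_subtypeVal
  haveI : QuasiSober ((W : Set A) : Type _) := hemb.quasiSober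
  exact (Topology.IsOpenEmbedding.coheight_eq Subtype.val hemb (x := y)).symm

/-- the Krull dimension of an open subspace of a sober space is the supremum of the coheights of
its points. -/
lemma topologicalKrullDim_opens [QuasiSober A] [T0Space A] (W : TopologicalSpace.Opens A) :
    topologicalKrullDim ((W : Set A) : Type _) =
      ⨆ y : ((W : Set A) : Type _), ((coh A (y : A) : ℕ∞) : WithBot ℕ∞) := by
  have hemb : IsOpenEmbedding (Subtype.val : ((W : Set A) : Type _) → A) :=
    W.isOpen.isOpenEmbedding_subtypeVal
  haveI : QuasiSober ((W : Set A) : Type _) := hemb.quasiSober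
  rw [topologicalKrullDim_eq_iSup_coh]
  congr 1
  ext y
  rw [coh_opens]

/-- a continuous map which is injective along specializations and lifts generizations. -/
structure Good (f : A → B) : Prop where
  cont : Continuous f
  inj : ∀ a a' : A, a' ⤳ a → f a' = f a → a' = a
  lift : ∀ (a : A) (b : B), b ⤳ f a → ∃ a' : A, a' ⤳ a ∧ f a' = b

variable [T0Space A] [T0Space B] {f : A → B}

lemma Good.coh_eq (hf : Good f) (a : A) : coh B (f a) = coh A a := by
  letI := specializationOrder A
  letI := specializationOrder B
  have hsm : StrictMono f := by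
    intro a a' h
    obtain ⟨hle, hne⟩ := lt_iff_le_and_ne.1 h
    refine lt_iff_le_and_ne.2 ⟨(hle : a' ⤳ a).map hf.cont, fun he => hne ?_⟩
    exact (hf.inj a a' hle he.symm).symm
  refine (Order.coheight_eq_of_strictMono f hsm (fun a b hab => ?_) a).symm
  obtain ⟨hle, hne⟩ := lt_iff_le_and_ne.1 hab
  obtain ⟨a', ha', hfa'⟩ := hf.lift a b hle
  refine ⟨a', lt_iff_le_and_ne.2 ⟨ha', fun he => hne ?_⟩, hfa'⟩
  rw [← hfa', he]

lemma Good.topologicalKrullDim_le [QuasiSober A] [QuasiSober B] (hf : Good f) :
    topologicalKrullDim A ≤ topologicalKrullDim B := by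
  rw [topologicalKrullDim_eq_iSup_coh, topologicalKrullDim_eq_iSup_coh]
  refine iSup_le fun a => ?_
  rw [← hf.coh_eq a]
  exact le_iSup (fun b : B => ((coh B b : ℕ∞) : WithBot ℕ∞)) (f a)

lemma Good.topologicalKrullDim_ge [QuasiSober A] [QuasiSober B] (hf : Good f)
    (hs : Function.Surjective f) : topologicalKrullDim B ≤ topologicalKrullDim A := by
  rw [topologicalKrullDim_eq_iSup_coh, topologicalKrullDim_eq_iSup_coh]
  refine iSup_le fun b => ?_
  obtain ⟨a, rfl⟩ := hs b
  rw [hf.coh_eq a]
  exact le_iSup (fun a : A => ((coh A a : ℕ∞) : WithBot ℕ∞)) a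

/-- good open maps preserve local dimensions. -/
lemma Good.localDim_eq [QuasiSober A] [QuasiSober B] (hf : Good f) (ho : IsOpenMap f) (a : A) :
    FlatMor.localDim A a = FlatMor.localDim B (f a) := by
  unfold FlatMor.localDim
  apply le_antisymm
  · refine le_iInf fun W => ?_
    let O : {U : TopologicalSpace.Opens A // a ∈ U} :=
      ⟨⟨f ⁻¹' (W.1 : Set B), W.1.isOpen.preimage hf.cont⟩, W.2⟩
    refine iInf_le_of_le O ?_
    rw [topologicalKrullDim_opens, topologicalKrullDim_opens]
    refine iSup_le fun y => ?_
    rw [← hf.coh_eq (y : A)]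
    exact le_iSup (fun z : ((W.1 : Set B) : Type _) =>
      ((coh B (z : B) : ℕ∞) : WithBot ℕ∞)) ⟨f y, y.2⟩
  · refine le_iInf fun O => ?_
    let W : {U : TopologicalSpace.Opens B // f a ∈ U} :=
      ⟨⟨f '' (O.1 : Set A), ho _ O.1.isOpen⟩, ⟨a, O.2, rfl⟩⟩
    refine iInf_le_of_le W ?_
    rw [topologicalKrullDim_opens, topologicalKrullDim_opens]
    refine iSup_le fun z => ?_
    obtain ⟨y, hy, hyz⟩ := z.2
    rw [← hyz, hf.coh_eq y]
    exact le_iSup (fun y : ((O.1 : Set A) : Type _) =>
      ((coh A (y : A) : ℕ∞) : WithBot ℕ∞)) ⟨y, hy⟩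

end Top

variable {S : Scheme.{u}}

/-- etale charts of a decent algebraic space are good maps on points. -/
lemma good_ofPt (X : AlgSp.Space S) (hX : AlgSp.IsDecent X.obj) {U : Over S}
    (a : (AlgSp.yon S).obj U ⟶ X.obj) (ha : AlgSp.RepWith @Etale a) :
    Good (AlgSp.Points.ofPt a) where
  cont := AlgSp.Points.continuous_ofPt a
  inj u u' hs he := (Groth.Agent.S10340.result X hX a ha u u' he.symm hs).symm
  lift u x' h := Groth.Agent.S10343.result X _ x' h (hX x') a ha u rfl

/-- **the Krull dimension of the space of points of a decent algebraic space is its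
dimension.** -/
theorem topologicalKrullDim_eq_dim (X : AlgSp.Space S) (hX : AlgSp.IsDecent X.obj) :
    topologicalKrullDim (AlgSp.Points X.obj) = AlgSp.dim X.obj := by
  haveI : T0Space (AlgSp.Points X.obj) := Groth.Agent.S10338.result X hX
  haveI : QuasiSober (AlgSp.Points X.obj) := Groth.Agent.S10339.result X hX
  apply le_antisymm
  · obtain ⟨U, a, hae, has⟩ := X.property.atlas
    have hg := good_ofPt X hX a hae
    refine le_trans (hg.topologicalKrullDim_ge (Groth.Agent.S10177.surjective_ofPt a has)) ?_
    unfold AlgSp.dim
    exact le_iSup_of_le U (le_iSup_of_le a (le_iSup_of_le hae le_rfl))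
  · unfold AlgSp.dim
    refine iSup_le fun U => iSup_le fun a => iSup_le fun hae => ?_
    exact (good_ofPt X hX a hae).topologicalKrullDim_le

/-- **the local dimension of an etale chart of a decent algebraic space at a point is the local
dimension of the space of points at its image.** -/
theorem localDim_eq (X : AlgSp.Space S) (hX : AlgSp.IsDecent X.obj) {U : Over S}
    (a : (AlgSp.yon S).obj U ⟶ X.obj) (ha : AlgSp.RepWith @Etale a) (u : ↥U.left) :
    FlatMor.localDim ↥U.left u =
      FlatMor.localDim (AlgSp.Points X.obj) (AlgSp.Points.ofPt a u) := by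
  haveI : T0Space (AlgSp.Points X.obj) := Groth.Agent.S10338.result X hX
  haveI : QuasiSober (AlgSp.Points X.obj) := Groth.Agent.S10339.result X hX
  exact (good_ofPt X hX a ha).localDim_eq (Groth.Agent.S10176.isOpenMap_ofPt a ha) u

end Groth.Agent.R2.H25.DecentDim
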