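import Mathlib
import Groth.Agent.R2.H25DecentClosed
import Groth.Agent.S10215

/-!
# Finite field points over closed points of the base on decent spaces (helper25)
-/

set_option autoImplicit false
universe u
open CategoryTheory CategoryTheory.Limits AlgebraicGeometry Topology TopologicalSpace

namespace Groth.Agent.R2.H25.DecentFinite

open Opposite MorphismProperty

variable {S : Scheme.{u}}

/-- closed immersions are finite, in the representable sense. -/
lemma repWith_isFinite_of_isClosedImmersion {F G : AlgSp.Sp S} (f : F ⟶ G)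
    (h : AlgSp.RepWith @IsClosedImmersion f) : AlgSp.RepWith @IsFinite f := by
  refine ⟨h.1, fun T W g pr w sq => ?_⟩
  haveI : IsClosedImmersion w.left := h.2 g pr w sq
  show IsFinite w.left
  infer_instance

theorem finite_and_closedImmersion (X : AlgSp.Space S) (hX : AlgSp.IsDecent X.obj) (s : ↥S)
    (hs : IsClosed ({s} : Set ↥S)) (k : Type u) [Field k]
    (φ : S.residueField s ⟶ CommRingCat.of k) (hφ : φ.hom.Finite)
    (p : (AlgSp.yon S).obj (Over.mk (Spec.map φ ≫ S.fromSpecResidueField s)) ⟶ X.obj) :
    AlgSp.RepWith @IsFinite p ∧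
      (Function.Bijective φ.hom → AlgSp.RepWith @IsClosedImmersion p) := by
  let P₀ : AlgSp.FieldPt X.obj :=
    ⟨k, Spec.map φ ≫ S.fromSpecResidueField s, (AlgSp.J S).uliftYonedaEquiv p⟩
  have hP₀ : P₀.toHom = p := Equiv.symm_apply_apply _ _
  let t₀ : ↥(Spec (CommRingCat.of k)) := IsLocalRing.closedPoint k
  have hx : IsClosed ({AlgSp.Points.mk P₀} : Set (AlgSp.Points X.obj)) := by
    rw [← AlgSp.Points.ofPt_toHom P₀ t₀, hP₀]
    obtain ⟨U, a, hae, has⟩ := X.property.atlas
    refine Groth.Agent.R2.H25.ClosedPt.isClosed_singleton_of_forall_isClosed hX a hae has _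
      (fun u hu => ?_)
    exact Groth.Agent.R2.H25.ClosedPt.isClosed_singleton_of_chart a hae s hs k φ
      hφ.to_isIntegral p t₀ u hu
  obtain ⟨q, hq, hm, -⟩ := hX (AlgSp.Points.mk P₀)
  haveI := hm
  have hqc := Groth.Agent.R2.H25.DecentClosed.repWith_isClosedImmersion_of_isClosed X hX q hm
    (by rw [hq]; exact hx)
  obtain ⟨c, hc, -⟩ := Groth.Agent.S10215.result X q P₀ hq
  rw [hP₀] at hc
  obtain ⟨ψ, hψ⟩ : ∃ ψ : CommRingCat.of q.K ⟶ CommRingCat.of k, Spec.map ψ = c.left :=
    Spec.map_surjective c.left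
  have hw : c.left ≫ q.str = Spec.map φ ≫ S.fromSpecResidueField s := Over.w c
  have hpt : q.str (IsLocalRing.closedPoint q.K) = s := by
    have h := congrArg (fun g : Spec (CommRingCat.of k) ⟶ S => g t₀) hw
    simp only [Scheme.Hom.comp_apply, Scheme.fromSpecResidueField_apply] at h
    have h2 : c.left t₀ = IsLocalRing.closedPoint q.K :=
      (inferInstance : Subsingleton (PrimeSpectrum q.K)).elim _ _
    rw [← h2]
    exact h
  have hθ := Scheme.descResidueField_stalkClosedPointTo_fromSpecResidueField q.K S q.str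
  set θ := Scheme.descResidueField (Scheme.stalkClosedPointTo q.str) with hθdef
  have e1 : Spec.map (θ ≫ ψ) ≫ S.fromSpecResidueField (q.str (IsLocalRing.closedPoint q.K)) =
      Spec.map ((S.residueFieldCongr hpt).hom ≫ φ) ≫
        S.fromSpecResidueField (q.str (IsLocalRing.closedPoint q.K)) := by
    rw [Spec.map_comp, Category.assoc, hθ, hψ, hw, Spec.map_comp, Category.assoc,
      Scheme.residueFieldCongr_fromSpecResidueField]
  have e2 : θ ≫ ψ = (S.residueFieldCongr hpt).hom ≫ φ :=
    Spec.map_injective ((cancel_mono _).1 e1)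
  have e3 : ψ.hom.comp θ.hom = φ.hom.comp (S.residueFieldCongr hpt).hom.hom := by
    rw [← CommRingCat.hom_comp, ← CommRingCat.hom_comp, e2]
  have hsurjcongr : Function.Surjective (S.residueFieldCongr hpt).hom.hom :=
    (ConcreteCategory.bijective_of_isIso (S.residueFieldCongr hpt).hom).2
  have hψfin : ψ.hom.Finite := by
    refine RingHom.Finite.of_comp_finite (f := θ.hom) ?_
    rw [e3]
    exact hφ.comp (RingHom.Finite.of_surjective _ hsurjcongr)
  have hcfin : IsFinite c.left := by
    rw [← hψ, IsFinite.SpecMap_iff]; exact hψfin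
  refine ⟨?_, fun hbij => ?_⟩
  · rw [← hc]
    exact (AlgSp.RepWith @IsFinite).comp_mem _ _ ((AlgSp.repWith_yon_map_iff _ _).2 hcfin)
      (repWith_isFinite_of_isClosedImmersion _ hqc)
  · have hψsurj : Function.Surjective ψ.hom := by
      have h1 : Function.Surjective (ψ.hom.comp θ.hom) := by
        rw [e3]
        exact hbij.2.comp hsurjcongr
      exact Function.Surjective.of_comp h1
    have hcci : IsClosedImmersion c.left := by
      rw [← hψ]; exact IsClosedImmersion.spec_of_surjective ψ hψsurj
    rw [← hc]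
    exact (AlgSp.RepWith @IsClosedImmersion).comp_mem _ _
      ((AlgSp.repWith_yon_map_iff _ _).2 hcci) hqc

end Groth.Agent.R2.H25.DecentFinite
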