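import Mathlib
import Groth.Agent.R2.H25DecentMor
import Groth.Agent.S10364

/-!
# Decent morphisms are etale local on the base (helper25)
-/

set_option autoImplicit false
universe u
open CategoryTheory CategoryTheory.Limits AlgebraicGeometry Topology TopologicalSpace

namespace Groth.Agent.R2.H25.DecentLoc

open Opposite MorphismProperty

variable {S : Scheme.{u}}

/-- a point of `h_{T'}` over a given point of `h_T`. -/
lemma map_yon_ofScheme {T' T : Over S} (τ : T' ⟶ T) (t' : ↥T'.left) :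
    AlgSp.Points.map ((AlgSp.yon S).map τ) (AlgSp.Points.ofScheme T' t') =
      AlgSp.Points.ofScheme T (τ.left t') := by
  rw [← AlgSp.Points.ofPt_eq_map_ofScheme]
  have := Groth.Agent.S10176.ofPt_map_comp τ (𝟙 ((AlgSp.yon S).obj T)) t'
  rw [Category.comp_id] at this
  exact this

/-- the affine case. -/
theorem isDecent_of_affine {X Y : AlgSp.Space S} (f : X ⟶ Y) {V : Over S}
    (p : (AlgSp.yon S).obj V ⟶ Y.obj) (hp : AlgSp.RepWith @Etale p) (hps : AlgSp.RepWith @Surjective p)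
    (X' : AlgSp.Sp S) (fst : X' ⟶ X.obj) (snd : X' ⟶ (AlgSp.yon S).obj V) (hsq : IsPullback fst snd f.hom p)
    (h : AlgSp.IsDecentMor snd) {T : Over S} [QuasiSeparatedSpace ↥T.left]
    (g : (AlgSp.yon S).obj T ⟶ Y.obj)
    {F' : AlgSp.Sp S} (fst' : F' ⟶ X.obj) (snd' : F' ⟶ (AlgSp.yon S).obj T)
    (sq' : IsPullback fst' snd' f.hom g) : AlgSp.IsDecent F' := by
  have hF' : AlgSp.IsAlgSpace F' :=
    Groth.Agent.S9874.isAlgSpace_of_isPullback Y.property.diag X.property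
      (AlgSp.IsAlgSpace.yon_obj T) sq'
  intro x
  -- the image point in `T` and a lift to `T' = V ×_Y T`
  obtain ⟨t, ht⟩ := (AlgSp.Points.schemeHomeo T).surjective (AlgSp.Points.map snd' x)
  obtain ⟨T', τ, prV', sqT⟩ := hp.1 g
  obtain ⟨ρ, rfl⟩ := (AlgSp.yon S).map_surjective prV'
  haveI : Surjective τ.left := hps.2 _ _ τ sqT
  obtain ⟨t', ht'⟩ := τ.left.surjective t
  obtain ⟨O, hO, ht'O, -⟩ : ∃ O : T'.left.Opens, O ∈ T'.left.affineOpens ∧ t' ∈ O ∧ O ≤ ⊤ :=
    TopologicalSpace.Opens.isBasis_iff_nbhd.1 T'.left.isBasis_affineOpens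
      (TopologicalSpace.Opens.mem_top t')
  let T'₀ : Over S := Over.mk (O.ι ≫ T'.hom)
  let j₀ : T'₀ ⟶ T' := Over.homMk O.ι rfl
  haveI : IsAffine T'₀.left := hO
  let τ₀ : T'₀ ⟶ T := j₀ ≫ τ
  haveI : QuasiCompact τ₀.left := quasiCompact_of_compactSpace _
  -- the base change `F''₀ = T'₀ ×_T F'`
  have sqF := IsPullback.of_hasPullback snd' ((AlgSp.yon S).map τ₀)
  set c := pullback.fst snd' ((AlgSp.yon S).map τ₀) with hc
  set d := pullback.snd snd' ((AlgSp.yon S).map τ₀) with hd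
  have hcq : AlgSp.RepWith @QuasiCompact c :=
    MorphismProperty.of_isPullback (P := AlgSp.RepWith @QuasiCompact) sqF.flip
      ((AlgSp.repWith_yon_map_iff _ _).2 (inferInstance : QuasiCompact τ₀.left))
  -- `F''₀ = T'₀ ×_V X'` is decent
  have hτg : (AlgSp.yon S).map τ₀ ≫ g = (AlgSp.yon S).map (j₀ ≫ ρ) ≫ p := by
    rw [Functor.map_comp, Functor.map_comp, Category.assoc, Category.assoc, sqT.w]
  have hbig : IsPullback (c ≫ fst') d f.hom ((AlgSp.yon S).map (j₀ ≫ ρ) ≫ p) := by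
    rw [← hτg]
    exact sqF.paste_horiz sq'
  let e : pullback snd' ((AlgSp.yon S).map τ₀) ⟶ X' :=
    hsq.lift (c ≫ fst') (d ≫ (AlgSp.yon S).map (j₀ ≫ ρ)) (by rw [Category.assoc]; exact hbig.w)
  have he1 : e ≫ fst = c ≫ fst' := hsq.lift_fst _ _ _
  have he2 : e ≫ snd = d ≫ (AlgSp.yon S).map (j₀ ≫ ρ) := hsq.lift_snd _ _ _
  have hleft : IsPullback e d snd ((AlgSp.yon S).map (j₀ ≫ ρ)) := by
    refine IsPullback.of_right ?_ he2 hsq
    rw [he1]
    exact hbig
  have hdec : AlgSp.IsDecent (pullback snd' ((AlgSp.yon S).map τ₀)) := h _ e d hleft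
  -- a point of `F''₀` over `x`
  have hx : AlgSp.Points.map ((AlgSp.yon S).map τ₀)
      (AlgSp.Points.ofScheme T'₀ (⟨t', ht'O⟩ : ↥T'₀.left)) = AlgSp.Points.map snd' x := by
    rw [map_yon_ofScheme, ← ht]
    show AlgSp.Points.ofScheme T (τ.left t') = AlgSp.Points.ofScheme T t
    rw [ht']
  obtain ⟨x'', -, hx''⟩ := Groth.Agent.S10175.exists_point_of_isPullback sqF.flip _ x hx
  obtain ⟨p'', hp'', -, hq''⟩ := hdec x''
  have hq : AlgSp.RepWith @QuasiCompact (p''.map c).toHom := by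
    rw [AlgSp.FieldPt.toHom_map]
    exact (AlgSp.RepWith @QuasiCompact).comp_mem _ _ hq'' hcq
  have hmk : AlgSp.Points.mk (p''.map c) = x := by
    rw [← AlgSp.Points.map_mk, hp'', hx'']
  obtain ⟨p₁, hp₁, hm₁, hq₁⟩ :=
    Groth.Agent.R2.H25.DecentEquiv.exists_mono_quasiCompact_of_quasiCompact ⟨F', hF'⟩ (p''.map c) hq
  exact ⟨p₁, hp₁.trans hmk, hm₁, hq₁⟩

/-- decent morphisms are etale local on the base. -/
theorem isDecentMor_of_etale_cover {X Y : AlgSp.Space S} (f : X ⟶ Y) {V : Over S}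
    (p : (AlgSp.yon S).obj V ⟶ Y.obj) (hp : AlgSp.RepWith @Etale p) (hps : AlgSp.RepWith @Surjective p)
    (X' : AlgSp.Sp S) (fst : X' ⟶ X.obj) (snd : X' ⟶ (AlgSp.yon S).obj V) (hsq : IsPullback fst snd f.hom p)
    (h : AlgSp.IsDecentMor snd) : AlgSp.IsDecentMor f.hom := by
  intro T F' g fst' snd' sq'
  have hF' : AlgSp.IsAlgSpace F' :=
    Groth.Agent.S9874.isAlgSpace_of_isPullback Y.property.diag X.property
      (AlgSp.IsAlgSpace.yon_obj T) sq'
  -- the affine opens of `T`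
  let ι : Type u := ↥(T.left.affineOpens)
  let Ti : ι → Over S := fun i => Over.mk ((i : T.left.Opens).ι ≫ T.hom)
  let ji : ∀ i : ι, Ti i ⟶ T := fun i => Over.homMk (i : T.left.Opens).ι rfl
  have haff : ∀ i : ι, IsAffine (Ti i).left := fun i => i.2
  have sqi : ∀ i : ι, IsPullback (pullback.fst snd' ((AlgSp.yon S).map (ji i)))
      (pullback.snd snd' ((AlgSp.yon S).map (ji i))) snd' ((AlgSp.yon S).map (ji i)) :=
    fun i => IsPullback.of_hasPullback _ _
  have hFi : ∀ i : ι, AlgSp.IsAlgSpace (pullback snd' ((AlgSp.yon S).map (ji i))) := fun i =>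
    Groth.Agent.S9874.isAlgSpace_of_isPullback (AlgSp.IsAlgSpace.yon_obj T).diag hF'
      (AlgSp.IsAlgSpace.yon_obj (Ti i)) (sqi i)
  have hdi : ∀ i : ι, AlgSp.IsDecent (pullback snd' ((AlgSp.yon S).map (ji i))) := by
    intro i
    haveI : IsAffine (Ti i).left := haff i
    exact isDecent_of_affine f p hp hps X' fst snd hsq h ((AlgSp.yon S).map (ji i) ≫ g)
      (pullback.fst snd' ((AlgSp.yon S).map (ji i)) ≫ fst') (pullback.snd snd' ((AlgSp.yon S).map (ji i)))
      ((sqi i).paste_horiz sq')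
  have hopen : ∀ i : ι, AlgSp.RepWith @IsOpenImmersion (pullback.fst snd' ((AlgSp.yon S).map (ji i))) :=
    fun i => MorphismProperty.of_isPullback (P := AlgSp.RepWith @IsOpenImmersion) (sqi i).flip
      ((AlgSp.repWith_yon_map_iff _ _).2 (inferInstance : IsOpenImmersion (i : T.left.Opens).ι))
  refine Groth.Agent.S10364.result (⟨F', hF'⟩ : AlgSp.Space S)
    (fun i => (⟨pullback snd' ((AlgSp.yon S).map (ji i)), hFi i⟩ : AlgSp.Space S))
    (fun i => ObjectProperty.homMk (pullback.fst snd' ((AlgSp.yon S).map (ji i)))) ⟨hopen, ?_⟩ hdi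
  intro x
  obtain ⟨t, ht⟩ := (AlgSp.Points.schemeHomeo T).surjective (AlgSp.Points.map snd' x)
  obtain ⟨O, hO, htO, -⟩ : ∃ O : T.left.Opens, O ∈ T.left.affineOpens ∧ t ∈ O ∧ O ≤ ⊤ :=
    TopologicalSpace.Opens.isBasis_iff_nbhd.1 T.left.isBasis_affineOpens
      (TopologicalSpace.Opens.mem_top t)
  let i : ι := ⟨O, hO⟩
  have hx : AlgSp.Points.map ((AlgSp.yon S).map (ji i))
      (AlgSp.Points.ofScheme (Ti i) (⟨t, htO⟩ : ↥(Ti i).left)) = AlgSp.Points.map snd' x := by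
    rw [map_yon_ofScheme, ← ht]
    rfl
  obtain ⟨x', -, hx'⟩ := Groth.Agent.S10175.exists_point_of_isPullback (sqi i).flip _ x hx
  exact ⟨i, x', hx'⟩

end Groth.Agent.R2.H25.DecentLoc
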