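import Mathlib

/-!
# Generic finiteness for etale algebras over a domain (helper25)
-/

set_option autoImplicit false
universe u
open CategoryTheory CategoryTheory.Limits AlgebraicGeometry Topology TopologicalSpace

namespace Groth.Agent.R2.H25.GenFinite

open TensorProduct Polynomial

section Algebra

variable {A : Type u} {C : Type u} [CommRing A] [IsDomain A] [CommRing C] [Algebra A C]

/-- spreading out an integrality relation of one element. -/
lemma exists_mul_integral
    (hK : Algebra.IsIntegral (FractionRing A) (FractionRing A ⊗[A] C)) (c : C) :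
    ∃ (a m : A) (p : A[X]), a ≠ 0 ∧ m ≠ 0 ∧ p.Monic ∧ a • aeval (m • c) p = 0 := by
  have hx : IsIntegral (FractionRing A) ((1 : FractionRing A) ⊗ₜ[A] c) := hK.isIntegral _
  obtain ⟨⟨m, hm⟩, hint⟩ := IsIntegral.exists_multiple_integral_of_isLocalization
    (nonZeroDivisors A) (Rₘ := FractionRing A) _ hx
  obtain ⟨p, hp, hp0⟩ := hint
  have h1 : (⟨m, hm⟩ : nonZeroDivisors A) • ((1 : FractionRing A) ⊗ₜ[A] c) =
      (Algebra.TensorProduct.includeRight : C →ₐ[A] FractionRing A ⊗[A] C) (m • c) := by
    show m • ((1 : FractionRing A) ⊗ₜ[A] c) = (1 : FractionRing A) ⊗ₜ[A] (m • c)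
    rw [TensorProduct.tmul_smul]
  have h2 : (Algebra.TensorProduct.includeRight : C →ₐ[A] FractionRing A ⊗[A] C)
      (aeval (m • c) p) = 0 := by
    rw [← aeval_algHom_apply, ← h1]
    exact hp0
  have hloc : IsLocalizedModule (nonZeroDivisors A) (TensorProduct.mk A (FractionRing A) C 1) :=
    (isLocalizedModule_iff_isBaseChange (nonZeroDivisors A) (FractionRing A) _).mpr
      (TensorProduct.isBaseChange A C (FractionRing A))
  obtain ⟨⟨a, ha⟩, haz⟩ := (IsLocalizedModule.eq_zero_iff (nonZeroDivisors A)
    (TensorProduct.mk A (FractionRing A) C 1)).1 h2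
  exact ⟨a, m, p, nonZeroDivisors.ne_zero ha, nonZeroDivisors.ne_zero hm, hp, haz⟩

/-- generic finiteness: a finite type algebra over a domain whose generic fibre is integral becomes
finite after inverting one nonzero element (and then any multiple of it). -/
theorem exists_finite_away [Algebra.FiniteType A C]
    (hK : Algebra.IsIntegral (FractionRing A) (FractionRing A ⊗[A] C)) :
    ∃ g₀ : A, g₀ ≠ 0 ∧ ∀ g : A, g₀ ∣ g →
      Module.Finite (Localization.Away g) (Localization.Away g ⊗[A] C) := by
  classical
  obtain ⟨s, hs⟩ := Algebra.FiniteType.out (R := A) (A := C)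
  choose a m p ha hm hp hz using fun c : C => exists_mul_integral hK c
  refine ⟨∏ c ∈ s, (a c * m c),
    Finset.prod_ne_zero_iff.2 (fun c _ => mul_ne_zero (ha c) (hm c)), fun g hg => ?_⟩
  have hgu : IsUnit (algebraMap A (Localization.Away g) g) :=
    IsLocalization.Away.algebraMap_isUnit g
  have hunit : ∀ c ∈ s, IsUnit (algebraMap A (Localization.Away g) (a c)) ∧
      IsUnit (algebraMap A (Localization.Away g) (m c)) := by
    intro c hc
    have hd : a c * m c ∣ g := (Finset.dvd_prod_of_mem (fun c => a c * m c) hc).trans hg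
    obtain ⟨r, hr⟩ := hd
    have e := congrArg (algebraMap A (Localization.Away g)) hr
    rw [map_mul, map_mul] at e
    rw [e] at hgu
    have h1 := isUnit_of_mul_isUnit_left hgu
    exact ⟨isUnit_of_mul_isUnit_left h1, isUnit_of_mul_isUnit_right h1⟩
  let incl : C →ₐ[A] Localization.Away g ⊗[A] C := Algebra.TensorProduct.includeRight
  -- each generator is integral
  have hint : ∀ c ∈ s, IsIntegral (Localization.Away g) (incl c) := by
    intro c hc
    obtain ⟨hua, hum⟩ := hunit c hc
    have hz0 : incl (aeval (m c • c) (p c)) = 0 := by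
      have h1 : incl (a c • aeval (m c • c) (p c)) = 0 := by rw [hz c, map_zero]
      rw [map_smul, ← algebraMap_smul (Localization.Away g) (a c)] at h1
      exact (hua.smul_eq_zero).1 h1
    have hy : IsIntegral (Localization.Away g) (incl (m c • c)) := by
      refine ⟨(p c).map (algebraMap A (Localization.Away g)), (hp c).map _, ?_⟩
      rw [← aeval_def, aeval_map_algebraMap, aeval_algHom_apply]
      exact hz0
    rw [map_smul, ← algebraMap_smul (Localization.Away g) (m c)] at hy
    have := hy.smul (hum.unit⁻¹ : (Localization.Away g)ˣ).val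
    rwa [smul_smul, IsUnit.val_inv_mul, one_smul] at this
  -- every `1 ⊗ c` is integral
  have hall : ∀ c : C, IsIntegral (Localization.Away g) (incl c) := by
    let D : Subalgebra A C :=
      ((integralClosure (Localization.Away g) (Localization.Away g ⊗[A] C)).restrictScalars A).comap incl
    have hsD : (s : Set C) ⊆ D := fun c hc => hint c hc
    have hD : D = ⊤ := top_le_iff.1 (hs ▸ Algebra.adjoin_le hsD)
    intro c
    have : c ∈ D := hD ▸ Algebra.mem_top
    exact this
  haveI : Algebra.IsIntegral (Localization.Away g) (Localization.Away g ⊗[A] C) := by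
    refine ⟨fun x => ?_⟩
    induction x using TensorProduct.induction_on with
    | zero => exact isIntegral_zero
    | tmul r c =>
      have h1 : r ⊗ₜ[A] c = r • incl c := by
        show r ⊗ₜ[A] c = r • ((1 : Localization.Away g) ⊗ₜ[A] c)
        rw [TensorProduct.smul_tmul', smul_eq_mul, mul_one]
      rw [h1]
      exact (hall c).smul r
    | add x y hx hy => exact hx.add hy
  exact Algebra.IsIntegral.finite

end Algebra

section Scheme

/-- the localization map as a morphism of spectra. -/
noncomputable abbrev awayι (A : CommRingCat.{u}) (g : A) :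
    Spec (CommRingCat.of (Localization.Away g)) ⟶ Spec A :=
  Spec.map (CommRingCat.ofHom (algebraMap A (Localization.Away g)))

/-- generic finiteness for an affine scheme etale over the spectrum of a domain. -/
theorem exists_isFinite_of_isPullback {A : CommRingCat.{u}} [IsDomain A] {W : Scheme.{u}}
    [IsAffine W] (h : W ⟶ Spec A) [Etale h] :
    ∃ g₀ : A, g₀ ≠ 0 ∧ ∀ g : A, g₀ ∣ g → ∀ {P : Scheme.{u}} (fst : P ⟶ W)
      (snd : P ⟶ Spec (CommRingCat.of (Localization.Away g))),
      IsPullback fst snd h (awayι A g) → IsFinite snd := by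
  obtain ⟨φ, hφ⟩ : ∃ φ : A ⟶ Γ(W, ⊤), W.isoSpec.inv ≫ h = Spec.map φ :=
    ⟨Spec.preimage (W.isoSpec.inv ≫ h), (Spec.map_preimage _).symm⟩
  haveI : Etale (Spec.map φ) := by rw [← hφ]; infer_instance
  have hφe : φ.hom.Etale := (HasRingHomProperty.Spec_iff (P := @Etale)).1 inferInstance
  algebraize [φ.hom]
  haveI : Module.Finite (FractionRing A) (FractionRing A ⊗[A] Γ(W, ⊤)) :=
    Algebra.FormallyUnramified.finite_of_free _ _
  have hK : Algebra.IsIntegral (FractionRing A) (FractionRing A ⊗[A] Γ(W, ⊤)) := inferInstance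
  obtain ⟨g₀, hg₀, H⟩ := exists_finite_away hK
  refine ⟨g₀, hg₀, fun g hg P fst snd sq => ?_⟩
  haveI hfin := H g hg
  have sq0 := (isPullback_SpecMap_of_isPushout _ _ _ _
    (CommRingCat.isPushout_tensorProduct A (Localization.Away g) Γ(W, ⊤)))
  have hfin' : IsFinite (Spec.map (CommRingCat.ofHom
      (Algebra.TensorProduct.includeLeftRingHom :
        Localization.Away g →+* Localization.Away g ⊗[A] Γ(W, ⊤)))) := by
    rw [IsFinite.SpecMap_iff]
    show (Algebra.TensorProduct.includeLeftRingHom :
        Localization.Away g →+* Localization.Away g ⊗[A] Γ(W, ⊤)).Finite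
    have := (RingHom.finite_algebraMap (A := Localization.Away g)
      (B := Localization.Away g ⊗[A] Γ(W, ⊤))).2 hfin
    have e : algebraMap (Localization.Away g) (Localization.Away g ⊗[A] Γ(W, ⊤)) =
        Algebra.TensorProduct.includeLeftRingHom := by
      ext x
      simp [Algebra.TensorProduct.algebraMap_apply]
    rwa [e] at this
  -- the given square, composed with the isomorphism `W ≅ Spec Γ(W, ⊤)`
  have sq1 : IsPullback (fst ≫ W.isoSpec.hom) snd (Spec.map φ) (awayι A g) := by
    have hi : IsPullback W.isoSpec.hom h (Spec.map φ) (𝟙 _) :=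
      IsPullback.of_horiz_isIso ⟨by rw [← hφ, Iso.hom_inv_id_assoc, Category.comp_id]⟩
    have := sq.paste_horiz hi
    rwa [Category.comp_id] at this
  have e : φ = CommRingCat.ofHom (algebraMap A Γ(W, ⊤)) := rfl
  rw [e] at sq1
  let i := sq1.isoIsPullback _ _ sq0.flip
  have hi : i.hom ≫ Spec.map (CommRingCat.ofHom
      (Algebra.TensorProduct.includeLeftRingHom :
        Localization.Away g →+* Localization.Away g ⊗[A] Γ(W, ⊤))) = snd :=
    sq1.isoIsPullback_hom_snd _ _ sq0.flip
  rw [← hi]
  infer_instance

end Scheme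

end Groth.Agent.R2.H25.GenFinite
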