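import Mathlib
import Groth.Agent.R2.H25GenFinite
import Groth.Agent.Lib.Helper11RedCl

/-!
# Etale separated morphisms with finite fibres over a Noetherian base are quasi-compact (helper25)
-/

set_option autoImplicit false
universe u
open CategoryTheory CategoryTheory.Limits AlgebraicGeometry Topology TopologicalSpace

namespace Groth.Agent.R2.H25.EtaleQc

open Groth.Agent.R2.H25.GenFinite

/-- the integral affine case: over some nonempty basic open the source becomes quasi-compact. -/
theorem exists_compactSpace_pullback {A : CommRingCat.{u}} [IsDomain A] {E : Scheme.{u}}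
    (f : E ⟶ Spec A) [Etale f] [IsSeparated f] (η : ↥(Spec A))
    (hη : ∀ O : Set ↥(Spec A), IsOpen O → O.Nonempty → η ∈ O)
    (hfin : (f ⁻¹' {η}).Finite) :
    ∃ g : A, g ≠ 0 ∧ CompactSpace ↥(pullback f (awayι A g)) := by
  classical
  have hW : ∀ e : E, ∃ W : E.Opens, IsAffineOpen W ∧ e ∈ W := fun e => by
    obtain ⟨W, hW, heW, -⟩ := TopologicalSpace.Opens.isBasis_iff_nbhd.1 E.isBasis_affineOpens
      (TopologicalSpace.Opens.mem_top e)
    exact ⟨W, hW, heW⟩
  choose W hWaff heW using hW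
  have hGF : ∀ e : E, ∃ g₀ : A, g₀ ≠ 0 ∧ ∀ g : A, g₀ ∣ g → ∀ {P : Scheme.{u}} (fst : P ⟶ ↑(W e))
      (snd : P ⟶ Spec (CommRingCat.of (Localization.Away g))),
      IsPullback fst snd ((W e).ι ≫ f) (awayι A g) → IsFinite snd := by
    intro e
    haveI : IsAffine (W e).toScheme := hWaff e
    exact exists_isFinite_of_isPullback ((W e).ι ≫ f)
  choose g₀ hg₀ hGF using hGF
  let F : Finset E := hfin.toFinset
  have hg : (∏ e ∈ F, g₀ e) ≠ 0 := Finset.prod_ne_zero_iff.2 (fun e _ => hg₀ e)
  refine ⟨∏ e ∈ F, g₀ e, hg, ?_⟩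
  set g := ∏ e ∈ F, g₀ e with hgdef
  let k : ∀ e : E, pullback ((W e).ι ≫ f) (awayι A g) ⟶ pullback f (awayι A g) := fun e =>
    pullback.map _ _ _ _ (W e).ι (𝟙 _) (𝟙 _) (by simp) (by simp)
  have hk : ∀ e, k e ≫ pullback.snd f (awayι A g) =
      pullback.snd ((W e).ι ≫ f) (awayι A g) := fun e => by
    simp only [k, pullback.map]
    rw [pullback.lift_snd, Category.comp_id]
  have hkfst : ∀ e, k e ≫ pullback.fst f (awayι A g) =
      pullback.fst ((W e).ι ≫ f) (awayι A g) ≫ (W e).ι := fun e => by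
    simp only [k, pullback.map]
    rw [pullback.lift_fst]
  have hclosed : ∀ e ∈ F, IsClosed (Set.range (k e)) := by
    intro e he
    haveI : IsFinite (pullback.snd ((W e).ι ≫ f) (awayι A g)) :=
      hGF e g (Finset.dvd_prod_of_mem _ he) _ _ (IsPullback.of_hasPullback _ _)
    haveI : IsProper (k e ≫ pullback.snd f (awayι A g)) := by rw [hk]; infer_instance
    haveI : IsProper (k e) := IsProper.of_comp (k e) (pullback.snd f (awayι A g))
    exact (k e).isClosedMap.isClosed_range
  have hcover : (⋃ e ∈ F, Set.range (k e)) = Set.univ := by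
    by_contra hne
    have hTc : IsClosed (⋃ e ∈ F, Set.range (k e)) := F.finite_toSet.isClosed_biUnion hclosed
    have hOne : ((⋃ e ∈ F, Set.range (k e))ᶜ).Nonempty := Set.nonempty_compl.2 hne
    have hO : IsOpen (pullback.snd f (awayι A g) '' (⋃ e ∈ F, Set.range (k e))ᶜ) :=
      (pullback.snd f (awayι A g)).isOpenMap _ hTc.isOpen_compl
    have hO' : IsOpen ((awayι A g) '' (pullback.snd f (awayι A g) ''
        (⋃ e ∈ F, Set.range (k e))ᶜ)) := (awayι A g).isOpenEmbedding.isOpenMap _ hO
    have hη' := hη _ hO' ((hOne.image _).image _)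
    obtain ⟨_, ⟨z, hz, rfl⟩, hzη⟩ := hη'
    have he : f (pullback.fst f (awayι A g) z) = η := by
      rw [← hzη, ← Scheme.Hom.comp_apply, ← Scheme.Hom.comp_apply, pullback.condition]
    have heF : pullback.fst f (awayι A g) z ∈ F := hfin.mem_toFinset.2 he
    obtain ⟨w, hw1, hw2⟩ := Scheme.Pullback.exists_preimage_pullback
      (f := (W (pullback.fst f (awayι A g) z)).ι ≫ f) (g := awayι A g)
      ⟨pullback.fst f (awayι A g) z, heW _⟩ (pullback.snd f (awayι A g) z) (by
        rw [Scheme.Hom.comp_apply, ← Scheme.Hom.comp_apply (pullback.snd f (awayι A g)),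
          ← pullback.condition, Scheme.Hom.comp_apply]
        rfl)
    have hkw : k (pullback.fst f (awayι A g) z) w = z := by
      apply (pullback.fst f (awayι A g)).isOpenEmbedding.injective
      rw [← Scheme.Hom.comp_apply, hkfst, Scheme.Hom.comp_apply, hw1]
      rfl
    exact hz (Set.mem_biUnion heF ⟨w, hkw⟩)
  rw [← isCompact_univ_iff, ← hcover]
  refine F.finite_toSet.isCompact_biUnion (fun e _ => ?_)
  haveI : IsAffine (W e).toScheme := hWaff e
  exact isCompact_range (k e).continuous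

/-- the inductive step over an irreducible closed subset. -/
theorem isCompact_preimage_of_isIrreducible {B E : Scheme.{u}} (f : E ⟶ B) [Etale f] [IsSeparated f]
    (hfin : ∀ b : B, (f ⁻¹' {b}).Finite) (k : Closeds B) (hk : IsIrreducible (k : Set B))
    (IH : ∀ Z' : Closeds B, Z' < k → IsCompact (f ⁻¹' (Z' : Set B))) :
    IsCompact (f ⁻¹' (k : Set B)) := by
  let I := Scheme.IdealSheafData.vanishingIdeal k
  let Y := I.subscheme
  let i : Y ⟶ B := I.subschemeι
  have hrange : Set.range i = (k : Set B) :=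
    Groth.Agent.Lib.Helper11RedCl.range_subschemeι_vanishingIdeal k
  haveI : IsReduced Y := Groth.Agent.Lib.Helper11RedCl.isReduced_subscheme_vanishingIdeal k
  haveI : IrreducibleSpace ↥Y := by
    haveI : IrreducibleSpace ↥(k : Set B) := Subtype.irreducibleSpace hk
    let e1 : ↥Y ≃ₜ ↥(Set.range i) := i.isClosedEmbedding.isEmbedding.toHomeomorph
    let e2 : ↥(Set.range i) ≃ₜ ↥(k : Set B) := Homeomorph.setCongr hrange
    exact (e1.trans e2).irreducibleSpace_iff.2 inferInstance
  haveI : IsIntegral Y := isIntegral_of_irreducibleSpace_of_isReduced Y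
  obtain ⟨y⟩ : Nonempty ↥Y := inferInstance
  obtain ⟨Y₀, hY₀, hyY₀, -⟩ := TopologicalSpace.Opens.isBasis_iff_nbhd.1 Y.isBasis_affineOpens
    (TopologicalSpace.Opens.mem_top y)
  haveI : Nonempty ↥(Scheme.Opens.toScheme (X := Y) Y₀) := ⟨(⟨y, hyY₀⟩ : ↥Y₀)⟩
  haveI : IsDomain Γ(Y, Y₀) := IsIntegral.component_integral Y₀
  let m : Spec Γ(Y, Y₀) ⟶ B := hY₀.fromSpec ≫ i
  have hfin' : ((pullback.snd f m) ⁻¹' {genericPoint ↥(Spec Γ(Y, Y₀))}).Finite := by
    have hinj : Function.Injective (pullback.fst f m) :=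
      (pullback.fst f m).isEmbedding.injective
    refine ((hfin (m (genericPoint ↥(Spec Γ(Y, Y₀))))).preimage hinj.injOn).subset ?_
    intro z hz
    have hz' : pullback.snd f m z = genericPoint ↥(Spec Γ(Y, Y₀)) := hz
    show f (pullback.fst f m z) = m (genericPoint ↥(Spec Γ(Y, Y₀)))
    rw [← hz', ← Scheme.Hom.comp_apply, ← Scheme.Hom.comp_apply, pullback.condition]
  obtain ⟨g, hg, hc⟩ := exists_compactSpace_pullback (pullback.snd f m)
    (genericPoint ↥(Spec Γ(Y, Y₀)))
    (fun O hO hne => ((genericPoint_spec ↥(Spec Γ(Y, Y₀))).mem_open_set_iff hO).2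
      (by simpa using hne)) hfin'
  let j : Spec (CommRingCat.of (Localization.Away g)) ⟶ Y := awayι Γ(Y, Y₀) g ≫ hY₀.fromSpec
  have hOopen : IsOpen (Set.range j) := j.isOpenEmbedding.isOpen_range
  haveI : Nontrivial (Localization.Away g) :=
    (IsLocalization.injective (Localization.Away g)
      (powers_le_nonZeroDivisors_of_noZeroDivisors hg)).nontrivial
  obtain ⟨a₀⟩ : Nonempty ↥(Spec (CommRingCat.of (Localization.Away g))) :=
    inferInstanceAs (Nonempty (PrimeSpectrum (Localization.Away g)))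
  let Z' : Closeds B := ⟨i '' (Set.range j)ᶜ, i.isClosedEmbedding.isClosedMap _ hOopen.isClosed_compl⟩
  have hZ'lt : Z' < k := by
    refine lt_of_le_of_ne ?_ ?_
    · intro b hb
      obtain ⟨y', -, rfl⟩ := hb
      show i y' ∈ (k : Set B)
      rw [← hrange]; exact ⟨y', rfl⟩
    · intro heq
      have h1 : i (j a₀) ∈ (k : Set B) := by rw [← hrange]; exact ⟨_, rfl⟩
      have h2 : i (j a₀) ∈ (Z' : Set B) := by rw [heq]; exact h1
      obtain ⟨y', hy', hyy⟩ := h2
      have := i.isClosedEmbedding.injective hyy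
      exact hy' (this ▸ ⟨a₀, rfl⟩)
  have hsplit : (k : Set B) = (Z' : Set B) ∪ i '' (Set.range j) := by
    show (k : Set B) = i '' (Set.range j)ᶜ ∪ i '' (Set.range j)
    rw [← Set.image_union, Set.compl_union_self, Set.image_univ, hrange]
  rw [hsplit, Set.preimage_union]
  refine (IH Z' hZ'lt).union ?_
  have hset : f ⁻¹' (i '' (Set.range j)) =
      Set.range (pullback.fst (pullback.snd f m) (awayι Γ(Y, Y₀) g) ≫ pullback.fst f m) := by
    ext e
    constructor
    · rintro ⟨_, ⟨a, rfl⟩, hae⟩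
      have h1 : f e = m (awayι Γ(Y, Y₀) g a) := by
        rw [← hae]
        show i (j a) = (hY₀.fromSpec ≫ i) (awayι Γ(Y, Y₀) g a)
        rw [Scheme.Hom.comp_apply, Scheme.Hom.comp_apply]
      obtain ⟨z, hz1, hz2⟩ := Scheme.Pullback.exists_preimage_pullback (f := f) (g := m) e
        (awayι Γ(Y, Y₀) g a) h1
      obtain ⟨z', hz'1, hz'2⟩ := Scheme.Pullback.exists_preimage_pullback
        (f := pullback.snd f m) (g := awayι Γ(Y, Y₀) g) z a hz2
      exact ⟨z', by rw [Scheme.Hom.comp_apply, hz'1, hz1]⟩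
    · rintro ⟨z', rfl⟩
      refine ⟨j (pullback.snd (pullback.snd f m) (awayι Γ(Y, Y₀) g) z'), ⟨_, rfl⟩, ?_⟩
      have hmor : pullback.snd (pullback.snd f m) (awayι Γ(Y, Y₀) g) ≫ j ≫ i =
          (pullback.fst (pullback.snd f m) (awayι Γ(Y, Y₀) g) ≫ pullback.fst f m) ≫ f := by
        calc pullback.snd (pullback.snd f m) (awayι Γ(Y, Y₀) g) ≫ j ≫ i
            = (pullback.snd (pullback.snd f m) (awayι Γ(Y, Y₀) g) ≫ awayι Γ(Y, Y₀) g) ≫ m := by
              simp only [Category.assoc, m, j]
          _ = (pullback.fst (pullback.snd f m) (awayι Γ(Y, Y₀) g) ≫ pullback.snd f m) ≫ m := by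
              rw [pullback.condition]
          _ = pullback.fst (pullback.snd f m) (awayι Γ(Y, Y₀) g) ≫ pullback.fst f m ≫ f := by
              rw [Category.assoc, pullback.condition]
          _ = _ := (Category.assoc _ _ _).symm
      have := congrArg (fun φ : pullback (pullback.snd f m) (awayι Γ(Y, Y₀) g) ⟶ B => φ z') hmor
      simpa only [Scheme.Hom.comp_apply] using this
  rw [hset]
  exact isCompact_range (Scheme.Hom.continuous _)

/-- an etale separated morphism with finite fibres to a scheme with Noetherian underlying space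
has quasi-compact source. -/
theorem compactSpace_of_etale_isSeparated {B E : Scheme.{u}} [NoetherianSpace ↥B] (f : E ⟶ B)
    [Etale f] [IsSeparated f] (hfin : ∀ b : B, (f ⁻¹' {b}).Finite) : CompactSpace ↥E := by
  suffices H : ∀ Z : Closeds B, IsCompact (f ⁻¹' (Z : Set B)) by
    have := H ⊤
    rw [Closeds.coe_top, Set.preimage_univ] at this
    exact isCompact_univ_iff.1 this
  intro Z
  induction Z using (wellFounded_lt : WellFounded ((· < ·) : Closeds B → Closeds B → Prop)).induction with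
  | _ Z IH =>
    obtain ⟨S, hSfin, hScl, hSirr, hZS⟩ :=
      NoetherianSpace.exists_finite_set_isClosed_irreducible Z.isClosed
    rw [hZS, Set.sUnion_eq_biUnion, Set.preimage_iUnion₂]
    refine hSfin.isCompact_biUnion (fun t ht => ?_)
    have htZ : t ⊆ (Z : Set B) := by rw [hZS]; exact Set.subset_sUnion_of_mem ht
    refine isCompact_preimage_of_isIrreducible f hfin ⟨t, hScl t ht⟩ (hSirr t ht) (fun Z' hZ' => ?_)
    exact IH Z' (lt_of_lt_of_le hZ' htZ)

end Groth.Agent.R2.H25.EtaleQc
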