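import Mathlib
import Groth.Prelude.Def_Hensel
import Groth.Agent.Lib.Helper3HenselA

/-!
# Henselization is insensitive to essentially étale local maps with trivial residue extension
(helper93)

* `isLocalHom_of_comp`: a ring map out of `B` whose restriction along an "unramified" local map
  `φ : A → B` (`𝔪_A B = 𝔪_B`) is local is itself local.
* `existsUnique_extend`: for `A = (A₀)_p → B = C_q` induced by an étale `A₀ → C` with trivial residue
  field extension, every local map from `A` to a henselian local ring extends uniquely to `B`.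
* `isHenselization_of_extend`: under that extension property a henselization of `B` is one of `A`.
-/

set_option autoImplicit false
set_option linter.style.haveILetI false
universe u

namespace Groth.Agent.R2.H93.HenselEtale

open IsLocalRing

/-- a ring map out of `B` whose restriction along `φ : A → B` with `𝔪_A B = 𝔪_B` is local is itself
local. -/
lemma isLocalHom_of_comp {A B T : Type*} [CommRing A] [IsLocalRing A] [CommRing B] [IsLocalRing B]
    [CommRing T] [IsLocalRing T] (φ : A →+* B)
    (hm : (maximalIdeal A).map φ = maximalIdeal B) (f' : B →+* T)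
    (hf : IsLocalHom (f'.comp φ)) : IsLocalHom f' := by
  refine ((local_hom_TFAE f').out 2 0).mp ?_
  rw [← hm, Ideal.map_map]
  exact ((local_hom_TFAE (f'.comp φ)).out 0 2).mp hf

/-- unique extension of local maps to henselian local rings along `(A₀)_p → C_q` for `C` étale over
`A₀` with trivial residue field extension. -/
theorem existsUnique_extend {A₀ C A B T : Type u} [CommRing A₀] [CommRing C] [Algebra A₀ C]
    [Algebra.Etale A₀ C] [CommRing A] [IsLocalRing A] [Algebra A₀ A] [CommRing B] [IsLocalRing B]
    [Algebra C B] (p : Ideal A₀) [p.IsPrime] (q : Ideal C) [q.IsPrime]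
    [IsLocalization.AtPrime A p] [IsLocalization.AtPrime B q]
    (φ : A →+* B) [IsLocalHom φ]
    (hφ : φ.comp (algebraMap A₀ A) = (algebraMap C B).comp (algebraMap A₀ C))
    (hm : (maximalIdeal A).map φ = maximalIdeal B)
    (hres : Function.Bijective (ResidueField.map φ))
    [CommRing T] [HenselianLocalRing T] (f : A →+* T) [IsLocalHom f] :
    ∃! f' : B →+* T, f'.comp φ = f := by
  letI : Algebra A₀ T := (f.comp (algebraMap A₀ A)).toAlgebra
  let e : ResidueField A ≃+* ResidueField B := RingEquiv.ofBijective _ hres
  have he : ∀ a : A, e (residue A a) = residue B (φ a) := fun a => rfl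
  let ρ₀ : C →+* ResidueField T :=
    (ResidueField.map f).comp (e.symm.toRingHom.comp ((residue B).comp (algebraMap C B)))
  have hρ₀ : ∀ c : C, ρ₀ c = ResidueField.map f (e.symm (residue B (algebraMap C B c))) :=
    fun c => rfl
  let ρ : C →ₐ[A₀] ResidueField T :=
    { ρ₀ with
      commutes' := fun a => by
        show ρ₀ (algebraMap A₀ C a) = residue T (f (algebraMap A₀ A a))
        have h1 : algebraMap C B (algebraMap A₀ C a) = φ (algebraMap A₀ A a) :=
          (RingHom.congr_fun hφ a).symm
        rw [hρ₀, h1, ← he, RingEquiv.symm_apply_apply]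
        rfl }
  have hρ : ∀ c : C, ρ c = ResidueField.map f (e.symm (residue B (algebraMap C B c))) :=
    fun c => rfl
  have hker : ∀ c : C, ρ c = 0 ↔ c ∈ q := by
    intro c
    rw [hρ, map_eq_zero, map_eq_zero, residue_eq_zero_iff,
      ← IsLocalization.AtPrime.to_map_mem_maximal_iff B q c]
  have hf₁ : q ≤ RingHom.ker ρ := fun c hc => (hker c).mpr hc
  have hf₂ : q.primeCompl ≤ (IsUnit.submonoid (ResidueField T)).comap ρ := by
    intro c hc
    show IsUnit (ρ c)
    rw [isUnit_iff_ne_zero, Ne, hker]
    exact hc
  let τ : q.ResidueField →ₐ[A₀] ResidueField T := Ideal.ResidueField.liftₐ q ρ hf₁ hf₂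
  have hτ : ∀ c : C, τ (algebraMap C q.ResidueField c) = ρ c := fun c =>
    Ideal.ResidueField.liftₐ_algebraMap q ρ hf₁ hf₂ c
  obtain ⟨f₀, hf₀, huniq⟩ :=
    Groth.Agent.Lib.Helper3.Hensel.existsUnique_algHom_of_etale (R := A₀) (S := T) q τ
  have hcomap : Ideal.comap f₀.toRingHom (maximalIdeal T) = q :=
    Groth.Agent.Lib.Helper3.Hensel.comap_eq_of_residue q τ.toRingHom f₀ hf₀
  have hunit : ∀ y : q.primeCompl, IsUnit (f₀.toRingHom y) := by
    intro y
    by_contra hy
    have : (y : C) ∈ Ideal.comap f₀.toRingHom (maximalIdeal T) := hy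
    rw [hcomap] at this
    exact y.2 this
  let f' : B →+* T := IsLocalization.lift (M := q.primeCompl) (g := f₀.toRingHom) hunit
  have hf' : ∀ c : C, f' (algebraMap C B c) = f₀ c := fun c => IsLocalization.lift_eq hunit c
  refine ⟨f', ?_, ?_⟩
  · apply IsLocalization.ringHom_ext p.primeCompl
    ext a
    show f' (φ (algebraMap A₀ A a)) = f (algebraMap A₀ A a)
    have h1 : φ (algebraMap A₀ A a) = algebraMap C B (algebraMap A₀ C a) := RingHom.congr_fun hφ a
    rw [h1, hf', f₀.commutes]
    rfl
  · intro f'' hf''
    haveI hloc : IsLocalHom f'' := isLocalHom_of_comp φ hm f'' (by rw [hf'']; infer_instance)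
    let g₀ : C →ₐ[A₀] T :=
      { f''.comp (algebraMap C B) with
        commutes' := fun a => by
          show f'' (algebraMap C B (algebraMap A₀ C a)) = f (algebraMap A₀ A a)
          have h1 : algebraMap C B (algebraMap A₀ C a) = φ (algebraMap A₀ A a) :=
            (RingHom.congr_fun hφ a).symm
          rw [h1, ← hf'']
          rfl }
    have hg₀ : ∀ c : C, g₀ c = f'' (algebraMap C B c) := fun c => rfl
    have hmap : (ResidueField.map f'').comp (ResidueField.map φ) = ResidueField.map f := by
      rw [← ResidueField.map_comp]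
      congr 1
    have key : g₀ = f₀ := by
      apply huniq
      intro c
      rw [hτ, hρ, hg₀]
      obtain ⟨z, hz⟩ := e.surjective (residue B (algebraMap C B c))
      rw [← hz, RingEquiv.symm_apply_apply, ← hmap]
      show residue T (f'' (algebraMap C B c)) = ResidueField.map f'' (ResidueField.map φ z)
      have : ResidueField.map φ z = residue B (algebraMap C B c) := hz
      rw [this]
      rfl
    apply IsLocalization.ringHom_ext q.primeCompl
    ext c
    show f'' (algebraMap C B c) = f' (algebraMap C B c)
    rw [hf', ← key, hg₀]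

/-- under the unique extension property along `φ : A → B` (with `𝔪_A B = 𝔪_B`), a henselization of
`B` is a henselization of `A`. -/
theorem isHenselization_of_extend {A B R : Type u} [CommRing A] [IsLocalRing A] [CommRing B]
    [IsLocalRing B] [CommRing R] [IsLocalRing R] (φ : A →+* B) [IsLocalHom φ] [Algebra B R]
    [IsLocalHom (algebraMap B R)] [Hensel.IsHenselization B R]
    (hm : (maximalIdeal A).map φ = maximalIdeal B)
    (H : ∀ (T : Type u) [CommRing T] [HenselianLocalRing T] (f : A →+* T), IsLocalHom f →
      ∃! f' : B →+* T, f'.comp φ = f) :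
    letI : Algebra A R := ((algebraMap B R).comp φ).toAlgebra
    ∃ (_ : IsLocalHom (algebraMap A R)), Hensel.IsHenselization A R := by
  letI : Algebra A R := ((algebraMap B R).comp φ).toAlgebra
  have hloc : IsLocalHom (algebraMap A R) := by
    show IsLocalHom ((algebraMap B R).comp φ)
    infer_instance
  refine ⟨hloc, ⟨Hensel.IsHenselization.henselian (R := B), ?_⟩⟩
  intro T _ _ f hf
  obtain ⟨f', hf', huniq'⟩ := H T f hf
  have hf'loc : IsLocalHom f' := isLocalHom_of_comp φ hm f' (by rw [hf']; exact hf)
  obtain ⟨g, hg, hguniq⟩ := Hensel.IsHenselization.universal (R := B) (S := R) T f' hf'loc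
  refine ⟨g, ?_, ?_⟩
  · show g.comp ((algebraMap B R).comp φ) = f
    rw [← RingHom.comp_assoc, hg, hf']
  · intro g₁ hg₁
    apply hguniq
    apply huniq'
    rw [RingHom.comp_assoc]
    exact hg₁

/-- under the unique extension property along `φ : A → B` (with `𝔪_A B = 𝔪_B`), a henselization `R` of
`A` becomes a henselization of `B` through the unique extension of `A → R` to `B`. -/
theorem isHenselization_extend {A B R : Type u} [CommRing A] [IsLocalRing A] [CommRing B]
    [IsLocalRing B] [CommRing R] [IsLocalRing R] (φ : A →+* B) [IsLocalHom φ] [Algebra A R]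
    [IsLocalHom (algebraMap A R)] [Hensel.IsHenselization A R]
    (hm : (maximalIdeal A).map φ = maximalIdeal B)
    (H : ∀ (T : Type u) [CommRing T] [HenselianLocalRing T] (f : A →+* T), IsLocalHom f →
      ∃! f' : B →+* T, f'.comp φ = f) :
    ∃ f' : B →+* R, f'.comp φ = algebraMap A R ∧
      letI : Algebra B R := f'.toAlgebra
      ∃ (_ : IsLocalHom (algebraMap B R)), Hensel.IsHenselization B R := by
  haveI hR : HenselianLocalRing R := Hensel.IsHenselization.henselian (R := A)
  obtain ⟨f', hf', -⟩ := H R (algebraMap A R) inferInstance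
  have hf'loc : IsLocalHom f' := isLocalHom_of_comp φ hm f' (by rw [hf']; infer_instance)
  refine ⟨f', hf', ?_⟩
  letI : Algebra B R := f'.toAlgebra
  refine ⟨hf'loc, ⟨hR, ?_⟩⟩
  intro T _ _ β hβ
  have hβφ : IsLocalHom (β.comp φ) := by
    haveI := hβ
    infer_instance
  obtain ⟨γ, hγ, hγuniq⟩ := Hensel.IsHenselization.universal (R := A) (S := R) T (β.comp φ) hβφ
  obtain ⟨β', -, hβ'uniq⟩ := H T (β.comp φ) hβφ
  refine ⟨γ, ?_, ?_⟩
  · show γ.comp f' = β
    have h1 : γ.comp f' = β' := hβ'uniq _ (by
      show (γ.comp f').comp φ = β.comp φ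
      rw [RingHom.comp_assoc, hf', hγ])
    have h2 : β = β' := hβ'uniq _ rfl
    rw [h1, h2]
  · intro γ' hγ'
    apply hγuniq
    have : γ'.comp f' = β := hγ'
    rw [← hf', ← RingHom.comp_assoc, this]

end Groth.Agent.R2.H93.HenselEtale
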