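import Mathlib
import Groth.Agent.R2.H93HenselEtale

/-!
# Stalk maps of étale morphisms with trivial residue field extension and henselization (helper93)
-/

set_option autoImplicit false
set_option linter.style.haveILetI false
universe u

namespace Groth.Agent.R2.H93.HenselEtale

open IsLocalRing AlgebraicGeometry CategoryTheory Opposite

/-- for an étale morphism, `𝔪_{g x} O_{X,x} = 𝔪_x`. -/
theorem map_maximalIdeal_stalkMap {X Y : Scheme.{u}} (g : X ⟶ Y) [Etale g] (x : X) :
    (maximalIdeal (Y.presheaf.stalk (g x))).map (g.stalkMap x).hom =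
      maximalIdeal (X.presheaf.stalk x) := by
  have h1 : (g.stalkMap x).hom.FormallyUnramified := FormallyUnramified.stalkMap g x
  have h2 : (g.stalkMap x).hom.EssFiniteType := LocallyOfFiniteType.stalkMap g x
  algebraize [(g.stalkMap x).hom]
  haveI : IsLocalHom (algebraMap (Y.presheaf.stalk (g x)) (X.presheaf.stalk x)) :=
    inferInstanceAs (IsLocalHom (g.stalkMap x).hom)
  exact Algebra.FormallyUnramified.map_maximalIdeal

set_option backward.isDefEq.respectTransparency.types false in
/-- for an étale morphism `g` and a point `x` with trivial residue field extension, every local map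
from `O_{Y, g x}` to a henselian local ring extends uniquely along the stalk map. -/
theorem stalkMap_existsUnique_extend {X Y : Scheme.{u}} (g : X ⟶ Y) [Etale g] (x : X)
    (hres : Function.Bijective (ResidueField.map (g.stalkMap x).hom))
    (T : Type u) [CommRing T] [HenselianLocalRing T] (f : Y.presheaf.stalk (g x) →+* T)
    (hf : IsLocalHom f) :
    ∃! f' : X.presheaf.stalk x →+* T, f'.comp (g.stalkMap x).hom = f := by
  obtain ⟨W, hW, hgx, -⟩ := exists_isAffineOpen_mem_and_subset (x := g x) (U := ⊤) trivial
  have hx' : x ∈ g ⁻¹ᵁ W := hgx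
  obtain ⟨V, hV, hxV, hVW⟩ := exists_isAffineOpen_mem_and_subset (x := x) (U := g ⁻¹ᵁ W) hx'
  have het : (g.appLE W V hVW).hom.Etale :=
    HasRingHomProperty.appLE (P := @Etale) g inferInstance ⟨W, hW⟩ ⟨V, hV⟩ hVW
  letI : Algebra Γ(Y, W) Γ(X, V) := (g.appLE W V hVW).hom.toAlgebra
  haveI : Algebra.Etale Γ(Y, W) Γ(X, V) := het
  letI := Y.presheaf.algebra_section_stalk ⟨g x, hgx⟩
  haveI := hW.isLocalization_stalk ⟨g x, hgx⟩
  letI := X.presheaf.algebra_section_stalk ⟨x, hxV⟩
  haveI := hV.isLocalization_stalk ⟨x, hxV⟩
  refine existsUnique_extend (A₀ := Γ(Y, W)) (C := Γ(X, V)) (hW.primeIdealOf ⟨g x, hgx⟩).asIdeal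
    (hV.primeIdealOf ⟨x, hxV⟩).asIdeal (g.stalkMap x).hom ?_ (map_maximalIdeal_stalkMap g x) hres f
  ext a
  simp only [RingHom.algebraMap_toAlgebra, RingHom.coe_comp, Function.comp_apply,
    Scheme.Hom.germ_stalkMap_apply, Scheme.Hom.appLE,
    homOfLE_leOfHom, CommRingCat.hom_comp, X.presheaf.germ_res_apply]

/-- for an étale morphism `g` and a point `x` with trivial residue field extension, a henselization
of `O_{X,x}` is a henselization of `O_{Y, g x}` through the stalk map. -/
theorem isHenselization_stalkMap {X Y : Scheme.{u}} (g : X ⟶ Y) [Etale g] (x : X)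
    (hres : Function.Bijective (ResidueField.map (g.stalkMap x).hom))
    (R : Type u) [CommRing R] [IsLocalRing R] [Algebra (X.presheaf.stalk x) R]
    [IsLocalHom (algebraMap (X.presheaf.stalk x) R)]
    [Hensel.IsHenselization (X.presheaf.stalk x) R] :
    letI : Algebra (Y.presheaf.stalk (g x)) R :=
      ((algebraMap (X.presheaf.stalk x) R).comp (g.stalkMap x).hom).toAlgebra
    ∃ (_ : IsLocalHom (algebraMap (Y.presheaf.stalk (g x)) R)),
      Hensel.IsHenselization (Y.presheaf.stalk (g x)) R :=
  isHenselization_of_extend (g.stalkMap x).hom (map_maximalIdeal_stalkMap g x)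
    (fun T _ _ f hf => stalkMap_existsUnique_extend g x hres T f hf)

/-- for an étale morphism `g` and a point `x` with trivial residue field extension, a henselization
`R` of `O_{Y, g x}` becomes a henselization of `O_{X,x}` through the unique extension of the
structure map along the stalk map. -/
theorem isHenselization_extend_stalkMap {X Y : Scheme.{u}} (g : X ⟶ Y) [Etale g] (x : X)
    (hres : Function.Bijective (ResidueField.map (g.stalkMap x).hom))
    (R : Type u) [CommRing R] [IsLocalRing R] [Algebra (Y.presheaf.stalk (g x)) R]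
    [IsLocalHom (algebraMap (Y.presheaf.stalk (g x)) R)]
    [Hensel.IsHenselization (Y.presheaf.stalk (g x)) R] :
    ∃ f' : X.presheaf.stalk x →+* R,
      f'.comp (g.stalkMap x).hom = algebraMap (Y.presheaf.stalk (g x)) R ∧
      letI : Algebra (X.presheaf.stalk x) R := f'.toAlgebra
      ∃ (_ : IsLocalHom (algebraMap (X.presheaf.stalk x) R)),
        Hensel.IsHenselization (X.presheaf.stalk x) R :=
  isHenselization_extend (g.stalkMap x).hom (map_maximalIdeal_stalkMap g x)
    (fun T _ _ f hf => stalkMap_existsUnique_extend g x hres T f hf)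

end Groth.Agent.R2.H93.HenselEtale
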