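import Mathlib
import Groth.Prelude.Def_AlgSpDec
import Groth.Agent.S10265
import Groth.Agent.R2.H93HenselEtaleSch

/-!
# Morphisms of elementary étale neighbourhoods (helper93)

For a morphism `g : (U', u') ⟶ (U, u)` over a sheaf `F` with both charts representable étale and
`Spec κ(u') ⟶ F` a monomorphism: `g` is étale and `κ(u) ⟶ κ(u')` is bijective; hence the
henselizations of the local rings agree.
-/

set_option autoImplicit false
set_option linter.style.haveILetI false
universe u

namespace Groth.Agent.R2.H93.ElemNbhd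

open IsLocalRing AlgebraicGeometry CategoryTheory Opposite AlgSp

variable {S : Scheme.{u}}

/-- an epimorphism of fields that is finite is bijective (stated for the residue field map of an
étale morphism of schemes). -/
theorem residueFieldMap_bijective_of_epi {X Y : Scheme.{u}} (g : X ⟶ Y) [Etale g] (x : X)
    (hepi : Epi (g.residueFieldMap x)) :
    Function.Bijective (ResidueField.map (g.stalkMap x).hom) := by
  refine ⟨(ResidueField.map (g.stalkMap x).hom).injective, ?_⟩
  have h1 : (g.stalkMap x).hom.FormallyUnramified := FormallyUnramified.stalkMap g x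
  have h2 : (g.stalkMap x).hom.EssFiniteType := LocallyOfFiniteType.stalkMap g x
  have hfin : RingHom.Finite (ResidueField.map (g.stalkMap x).hom) := by
    algebraize [(g.stalkMap x).hom]
    haveI : IsLocalHom (algebraMap (Y.presheaf.stalk (g x)) (X.presheaf.stalk x)) :=
      inferInstanceAs (IsLocalHom (g.stalkMap x).hom)
    have : ResidueField.map (g.stalkMap x).hom =
        algebraMap (ResidueField (Y.presheaf.stalk (g x))) (ResidueField (X.presheaf.stalk x)) := by
      apply Ideal.Quotient.ringHom_ext
      ext a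
      rfl
    rw [this]
    exact RingHom.finite_algebraMap.mpr inferInstance
  exact RingHom.surjective_of_epi_of_finite (g.residueFieldMap x) hfin

/-- for `g : U' ⟶ U` with `h_g ≫ a = a'`, if `Spec κ(u') ⟶ F` (through `a'`) is a monomorphism then
`Spec κ(u') ⟶ Spec κ(g u')` is a monomorphism of schemes, so the residue field map is an
epimorphism. -/
theorem epi_residueFieldMap_of_mono {F : AlgSp.Sp S} {U U' : Over S}
    (a : (AlgSp.yon S).obj U ⟶ F) (a' : (AlgSp.yon S).obj U' ⟶ F) (g : U' ⟶ U) (u' : ↥U'.left)
    (hg : (AlgSp.yon S).map g ≫ a = a') (hmono : Mono (AlgSp.FieldPt.ofPt a' u').toHom) :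
    Epi (g.left.residueFieldMap u') := by
  subst hg
  have hw : Spec.map (g.left.residueFieldMap u') ≫
      (U.left.fromSpecResidueField (g.left u') ≫ U.hom) =
      U'.left.fromSpecResidueField u' ≫ U'.hom := by
    rw [← Category.assoc, Scheme.Hom.SpecMap_residueFieldMap_fromSpecResidueField, Category.assoc,
      Over.w g]
  let k : (AlgSp.FieldPt.ofPt a (g.left u')).pt ⟶ U :=
    Over.homMk (U.left.fromSpecResidueField (g.left u')) rfl
  let k' : (AlgSp.FieldPt.ofPt ((AlgSp.yon S).map g ≫ a) u').pt ⟶ U' :=
    Over.homMk (U'.left.fromSpecResidueField u') rfl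
  let m : (AlgSp.FieldPt.ofPt ((AlgSp.yon S).map g ≫ a) u').pt ⟶
      (AlgSp.FieldPt.ofPt a (g.left u')).pt :=
    Over.homMk (Spec.map (g.left.residueFieldMap u')) hw
  have hm : m ≫ k = k' ≫ g := by
    apply Over.OverMorphism.ext
    simp only [Over.comp_left, m, k, k']
    exact Scheme.Hom.SpecMap_residueFieldMap_fromSpecResidueField g.left u'
  have e1 : (AlgSp.FieldPt.ofPt a (g.left u')).toHom = (AlgSp.yon S).map k ≫ a :=
    AlgSp.FieldPt.toHom_ofPt a (g.left u')
  have e2 : (AlgSp.FieldPt.ofPt ((AlgSp.yon S).map g ≫ a) u').toHom =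
      (AlgSp.yon S).map k' ≫ (AlgSp.yon S).map g ≫ a :=
    AlgSp.FieldPt.toHom_ofPt ((AlgSp.yon S).map g ≫ a) u'
  have key : (AlgSp.yon S).map m ≫ (AlgSp.FieldPt.ofPt a (g.left u')).toHom =
      (AlgSp.FieldPt.ofPt ((AlgSp.yon S).map g ≫ a) u').toHom := by
    rw [e1, e2, ← Category.assoc, ← Functor.map_comp, hm, Functor.map_comp, Category.assoc]
  haveI : Mono ((AlgSp.yon S).map m ≫ (AlgSp.FieldPt.ofPt a (g.left u')).toHom) := by
    rw [key]; exact hmono
  haveI : Mono ((AlgSp.yon S).map m) := mono_of_mono _ (AlgSp.FieldPt.ofPt a (g.left u')).toHom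
  haveI : Mono m := (AlgSp.yon S).mono_of_mono_map inferInstance
  haveI : Mono m.left := inferInstance
  have h3 : Mono (Scheme.Spec.map (g.left.residueFieldMap u').op) := by
    show Mono (Spec.map (g.left.residueFieldMap u'))
    exact (inferInstance : Mono m.left)
  haveI : Mono (g.left.residueFieldMap u').op := Scheme.Spec.mono_of_mono_map h3
  exact unop_epi_of_mono (g.left.residueFieldMap u').op

/-- for a morphism `g : (U', u') ⟶ (U, g u')` of elementary étale neighbourhoods, a henselization of
`O_{U', u'}` is a henselization of `O_{U, g u'}` through the stalk map of `g`. -/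
theorem isHenselization_of_isElemEtaleNbhd {F : AlgSp.Sp S} (x : AlgSp.Points F) {U U' : Over S}
    (a : (AlgSp.yon S).obj U ⟶ F) (a' : (AlgSp.yon S).obj U' ⟶ F) (g : U' ⟶ U) (u' : ↥U'.left)
    (hg : (AlgSp.yon S).map g ≫ a = a') (ha : AlgSp.RepWith @Etale a)
    (ha' : AlgSp.IsElemEtaleNbhd a' u' x) (R : Type u) [CommRing R] [IsLocalRing R]
    [Algebra ↥(U'.left.presheaf.stalk u') R] [IsLocalHom (algebraMap ↥(U'.left.presheaf.stalk u') R)]
    [Hensel.IsHenselization ↥(U'.left.presheaf.stalk u') R] :
    letI : Algebra ↥(U.left.presheaf.stalk (g.left.base u')) R :=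
      ((algebraMap ↥(U'.left.presheaf.stalk u') R).comp (g.left.stalkMap u').hom).toAlgebra
    ∃ (_ : IsLocalHom (algebraMap ↥(U.left.presheaf.stalk (g.left.base u')) R)),
      Hensel.IsHenselization ↥(U.left.presheaf.stalk (g.left.base u')) R := by
  haveI : Etale g.left :=
    Groth.Agent.S10265.etale_of_comp_repWith g a ha (by rw [hg]; exact ha'.etale)
  have hepi := epi_residueFieldMap_of_mono a a' g u' hg ha'.mono
  exact HenselEtale.isHenselization_stalkMap g.left u'
    (residueFieldMap_bijective_of_epi g.left u' hepi) R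

end Groth.Agent.R2.H93.ElemNbhd
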