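import Mathlib
import Groth.Prelude.Def_AlgSpDec
import Groth.Agent.R2.H93ElemNbhd
import Groth.Agent.R2.H45HasAt

/-!
# Refinement of elementary étale neighbourhoods; the henselian local ring at a point (helper93)

* `exists_common_refinement`: two elementary étale neighbourhoods of a point have a common
  refinement which is again an elementary étale neighbourhood.
* `exists_algebra_isHenselization`: a henselization of the local ring of one elementary étale
  neighbourhood of `x` is (for a suitable local algebra structure) a henselization of the local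
  ring of any other elementary étale neighbourhood of `x`.
-/

set_option autoImplicit false
set_option linter.style.haveILetI false
universe u

namespace Groth.Agent.R2.H93.ElemNbhd

open IsLocalRing AlgebraicGeometry CategoryTheory Opposite AlgSp

variable {S : Scheme.{u}}

/-- `Spec κ(t)` as a scheme over `S`. -/
noncomputable abbrev ptOver (T : Over S) (t : ↥T.left) : Over S :=
  Over.mk (T.left.fromSpecResidueField t ≫ T.hom)

/-- `Spec κ(t) ⟶ T` over `S`. -/
noncomputable abbrev ptHom (T : Over S) (t : ↥T.left) : ptOver T t ⟶ T :=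
  Over.homMk (T.left.fromSpecResidueField t) rfl

instance (T : Over S) (t : ↥T.left) : Mono (ptHom T t) := by
  haveI : Mono (ptHom T t).left := by
    show Mono (T.left.fromSpecResidueField t)
    infer_instance
  exact Over.mono_of_mono_left _

theorem mono_toHom_ofPt_iff {F : AlgSp.Sp S} {T : Over S} (c : (AlgSp.yon S).obj T ⟶ F)
    (t : ↥T.left) :
    Mono (AlgSp.FieldPt.ofPt c t).toHom ↔ Mono ((AlgSp.yon S).map (ptHom T t) ≫ c) := by
  rw [AlgSp.FieldPt.toHom_ofPt]
  exact Iff.rfl

/-- the morphism of residue field spectra over `S` induced by `g`, with its compatibility. -/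
theorem exists_resHom {U U' : Over S} (g : U' ⟶ U) (u' : ↥U'.left) :
    ∃ m : ptOver U' u' ⟶ ptOver U (g.left u'), m ≫ ptHom U (g.left u') = ptHom U' u' ≫ g ∧
      m.left = Spec.map (g.left.residueFieldMap u') := by
  have hw : Spec.map (g.left.residueFieldMap u') ≫
      (U.left.fromSpecResidueField (g.left u') ≫ U.hom) =
      U'.left.fromSpecResidueField u' ≫ U'.hom := by
    rw [← Category.assoc, Scheme.Hom.SpecMap_residueFieldMap_fromSpecResidueField, Category.assoc,
      Over.w g]
  refine ⟨Over.homMk (Spec.map (g.left.residueFieldMap u')) hw, ?_, rfl⟩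
  apply Over.OverMorphism.ext
  simp only [Over.comp_left, Over.homMk_left]
  exact Scheme.Hom.SpecMap_residueFieldMap_fromSpecResidueField g.left u'

/-- two elementary étale neighbourhoods of a point have a common refinement which is an elementary
étale neighbourhood. -/
theorem exists_common_refinement {F : AlgSp.Sp S} (x : AlgSp.Points F) {U V : Over S}
    (a : (AlgSp.yon S).obj U ⟶ F) (b : (AlgSp.yon S).obj V ⟶ F) (u : ↥U.left) (v : ↥V.left)
    (ha : AlgSp.IsElemEtaleNbhd a u x) (hb : AlgSp.IsElemEtaleNbhd b v x) :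
    ∃ (W : Over S) (p : W ⟶ U) (q : W ⟶ V) (w : ↥W.left), p.left w = u ∧ q.left w = v ∧
      (AlgSp.yon S).map p ≫ a = (AlgSp.yon S).map q ≫ b ∧
      AlgSp.IsElemEtaleNbhd ((AlgSp.yon S).map p ≫ a) w x := by
  obtain ⟨W, p, q, w, hp, hq, hpw, hqw, comm, sq⟩ :=
    Groth.Agent.R2.H45.HasAt.exists_common_point a b ha.etale hb.etale u v
      (ha.ofPt_eq.trans hb.ofPt_eq.symm)
  subst hpw hqw
  refine ⟨W, p, q, w, rfl, rfl, comm, ⟨?_, ?_, ?_⟩⟩
  · exact (AlgSp.repWith_isMultiplicative (S := S) @Etale).comp_mem _ _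
      ((AlgSp.repWith_yon_map_iff _ _).2 hp) ha.etale
  · rw [Groth.Agent.S10176.ofPt_map_comp]
    exact ha.ofPt_eq
  · rw [mono_toHom_ofPt_iff]
    obtain ⟨mp, hmp, -⟩ := exists_resHom p w
    obtain ⟨mq, hmq, -⟩ := exists_resHom q w
    haveI hma := (mono_toHom_ofPt_iff a (p.left w)).mp ha.mono
    haveI hmb := (mono_toHom_ofPt_iff b (q.left w)).mp hb.mono
    refine ⟨fun {Z} α β hαβ => ?_⟩
    rw [← cancel_mono ((AlgSp.yon S).map (ptHom W w))]
    apply sq.hom_ext
    · have h1 : (α ≫ (AlgSp.yon S).map mp) ≫ ((AlgSp.yon S).map (ptHom U (p.left w)) ≫ a) =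
          (β ≫ (AlgSp.yon S).map mp) ≫ ((AlgSp.yon S).map (ptHom U (p.left w)) ≫ a) := by
        have e : (AlgSp.yon S).map mp ≫ (AlgSp.yon S).map (ptHom U (p.left w)) ≫ a =
            (AlgSp.yon S).map (ptHom W w) ≫ (AlgSp.yon S).map p ≫ a := by
          rw [← Category.assoc, ← Functor.map_comp, hmp, Functor.map_comp, Category.assoc]
        rw [Category.assoc, Category.assoc, e]
        exact hαβ
      have h2 := (cancel_mono _).mp h1
      have e' : (AlgSp.yon S).map (ptHom W w) ≫ (AlgSp.yon S).map p =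
          (AlgSp.yon S).map mp ≫ (AlgSp.yon S).map (ptHom U (p.left w)) := by
        rw [← Functor.map_comp, ← Functor.map_comp, hmp]
      rw [Category.assoc, Category.assoc, e', ← Category.assoc, ← Category.assoc, h2]
    · have h1 : (α ≫ (AlgSp.yon S).map mq) ≫ ((AlgSp.yon S).map (ptHom V (q.left w)) ≫ b) =
          (β ≫ (AlgSp.yon S).map mq) ≫ ((AlgSp.yon S).map (ptHom V (q.left w)) ≫ b) := by
        have e : (AlgSp.yon S).map mq ≫ (AlgSp.yon S).map (ptHom V (q.left w)) ≫ b =
            (AlgSp.yon S).map (ptHom W w) ≫ (AlgSp.yon S).map p ≫ a := by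
          rw [← Category.assoc, ← Functor.map_comp, hmq, Functor.map_comp, Category.assoc, comm]
        rw [Category.assoc, Category.assoc, e]
        exact hαβ
      have h2 := (cancel_mono _).mp h1
      have e' : (AlgSp.yon S).map (ptHom W w) ≫ (AlgSp.yon S).map q =
          (AlgSp.yon S).map mq ≫ (AlgSp.yon S).map (ptHom V (q.left w)) := by
        rw [← Functor.map_comp, ← Functor.map_comp, hmq]
      rw [Category.assoc, Category.assoc, e', ← Category.assoc, ← Category.assoc, h2]

/-- a henselization of the local ring of one elementary étale neighbourhood of `x` is, for a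
suitable local algebra structure, a henselization of the local ring of any other elementary étale
neighbourhood of `x`. -/
theorem exists_algebra_isHenselization {F : AlgSp.Sp S} (x : AlgSp.Points F) {U U₀ : Over S}
    (a : (AlgSp.yon S).obj U ⟶ F) (a₀ : (AlgSp.yon S).obj U₀ ⟶ F) (u : ↥U.left) (u₀ : ↥U₀.left)
    (h : AlgSp.IsElemEtaleNbhd a u x) (h₀ : AlgSp.IsElemEtaleNbhd a₀ u₀ x)
    (R : Type u) [CommRing R] [IsLocalRing R] [Algebra ↥(U₀.left.presheaf.stalk u₀) R]
    [IsLocalHom (algebraMap ↥(U₀.left.presheaf.stalk u₀) R)]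
    [Hensel.IsHenselization ↥(U₀.left.presheaf.stalk u₀) R] :
    ∃ (_ : Algebra ↥(U.left.presheaf.stalk u) R)
      (_ : IsLocalHom (algebraMap ↥(U.left.presheaf.stalk u) R)),
      Hensel.IsHenselization ↥(U.left.presheaf.stalk u) R := by
  obtain ⟨W, p, q, w, rfl, rfl, comm, hW⟩ := exists_common_refinement x a a₀ u u₀ h h₀
  have hW' : AlgSp.IsElemEtaleNbhd ((AlgSp.yon S).map q ≫ a₀) w x := comm ▸ hW
  haveI : Etale q.left :=
    Groth.Agent.S10265.etale_of_comp_repWith q a₀ h₀.etale hW'.etale
  have hepi := epi_residueFieldMap_of_mono a₀ _ q w rfl hW'.mono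
  obtain ⟨f', -, hloc', hH'⟩ := HenselEtale.isHenselization_extend_stalkMap q.left w
    (residueFieldMap_bijective_of_epi q.left w hepi) R
  letI : Algebra ↥(W.left.presheaf.stalk w) R := f'.toAlgebra
  haveI := hloc'
  haveI := hH'
  obtain ⟨hl, hH⟩ := isHenselization_of_isElemEtaleNbhd x a _ p w rfl h.etale hW R
  exact ⟨_, hl, hH⟩

end Groth.Agent.R2.H93.ElemNbhd
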