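import Mathlib
import Groth.Agent.R2.H25EtaleQc
import Groth.Agent.R2.H25DecentIff
import Groth.Agent.R2.H93ElemNbhd2
import Groth.Agent.S10182

/-!
# Locally Noetherian decent algebraic spaces are quasi-separated (helper25)
-/

set_option autoImplicit false
universe u
open CategoryTheory CategoryTheory.Limits AlgebraicGeometry Topology TopologicalSpace

namespace Groth.Agent.R2.H25.DecentNoeth

open Opposite MorphismProperty Groth.Agent.R2.H93.ElemNbhd

variable {S : Scheme.{u}}

/-- two-chart version of `DecentIff.fibre_subset_range`. -/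
lemma fibre_subset_range₂ {X : AlgSp.Sp S} {U₁ U₂ E : Over S} (φ : (AlgSp.yon S).obj U₁ ⟶ X)
    (ψ : (AlgSp.yon S).obj U₂ ⟶ X) (fst : E ⟶ U₁) (snd : E ⟶ U₂)
    (sq : IsPullback ((AlgSp.yon S).map fst) ((AlgSp.yon S).map snd) φ ψ) (u : ↥U₁.left)
    {T : Over S} (pr : T ⟶ (AlgSp.FieldPt.ofPt φ u).pt) (w : T ⟶ U₂)
    (sqT : IsPullback ((AlgSp.yon S).map pr) ((AlgSp.yon S).map w) (AlgSp.FieldPt.ofPt φ u).toHom ψ) :
    ∃ l : T ⟶ E, l ≫ snd = w ∧ {e : ↥E.left | fst.left e = u} ⊆ Set.range l.left := by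
  let ι : (AlgSp.FieldPt.ofPt φ u).pt ⟶ U₁ := Over.homMk (U₁.left.fromSpecResidueField u) rfl
  have hto : (AlgSp.FieldPt.ofPt φ u).toHom = (AlgSp.yon S).map ι ≫ φ := AlgSp.FieldPt.toHom_ofPt φ u
  obtain ⟨l, hl⟩ := (AlgSp.yon S).map_surjective
    (sq.lift ((AlgSp.yon S).map pr ≫ (AlgSp.yon S).map ι) ((AlgSp.yon S).map w)
      (by rw [Category.assoc, ← hto]; exact sqT.w))
  have hl1 : (AlgSp.yon S).map l ≫ (AlgSp.yon S).map fst =
      (AlgSp.yon S).map pr ≫ (AlgSp.yon S).map ι := by rw [hl]; exact sq.lift_fst _ _ _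
  have hl2 : (AlgSp.yon S).map l ≫ (AlgSp.yon S).map snd = (AlgSp.yon S).map w := by
    rw [hl]; exact sq.lift_snd _ _ _
  have hpb : IsPullback ((AlgSp.yon S).map l) ((AlgSp.yon S).map pr) ((AlgSp.yon S).map fst)
      ((AlgSp.yon S).map ι) := by
    refine IsPullback.of_right ?_ hl1 sq.flip
    rw [hl2, ← hto]
    exact sqT.flip
  refine ⟨l, ?_, ?_⟩
  · apply (AlgSp.yon S).map_injective
    rw [Functor.map_comp, hl2]
  · intro r hr
    have hr' : fst.left r = u := hr
    let c : ↥(AlgSp.FieldPt.ofPt φ u).pt.left :=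
      (IsLocalRing.closedPoint (U₁.left.residueField u) : PrimeSpectrum (U₁.left.residueField u))
    have hc : ι.left c = u := by
      show U₁.left.fromSpecResidueField u c = u
      exact Scheme.fromSpecResidueField_apply _ _
    have e : AlgSp.Points.ofPt ((AlgSp.yon S).map fst) r =
        AlgSp.Points.ofPt ((AlgSp.yon S).map ι) c := by
      have h1 := Groth.Agent.S10176.ofPt_map_comp fst (𝟙 ((AlgSp.yon S).obj U₁)) r
      have h2 := Groth.Agent.S10176.ofPt_map_comp ι (𝟙 ((AlgSp.yon S).obj U₁)) c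
      rw [Category.comp_id] at h1 h2
      rw [h1, h2, hr', hc]
    obtain ⟨y, hy1, -⟩ := Groth.Agent.S10176.exists_point_of_isPullback_yon hpb r c e
    exact ⟨y, hy1⟩

/-- points of `R = U ×_X U` lying over two open pieces lift to the fibre product of the pieces. -/
lemma subset_range_of_lift {X : AlgSp.Sp S} {U R V' W' E : Over S} (a : (AlgSp.yon S).obj U ⟶ X)
    (s t : R ⟶ U) (hR : IsPullback ((AlgSp.yon S).map t) ((AlgSp.yon S).map s) a a)
    (ιV : V' ⟶ U) (ιW : W' ⟶ U) [IsOpenImmersion ιV.left] [IsOpenImmersion ιW.left]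
    (fstE : E ⟶ V') (sndE : E ⟶ W')
    (sqE : IsPullback ((AlgSp.yon S).map sndE) ((AlgSp.yon S).map fstE)
      ((AlgSp.yon S).map ιW ≫ a) ((AlgSp.yon S).map ιV ≫ a))
    (ρ : E ⟶ R) (hρt : ρ ≫ t = fstE ≫ ιV) (hρs : ρ ≫ s = sndE ≫ ιW) :
    t.left ⁻¹' Set.range ιV.left ∩ s.left ⁻¹' Set.range ιW.left ⊆ Set.range ρ.left := by
  rintro r ⟨hrV, hrW⟩
  let c : ↥(ptOver R r).left :=
    (IsLocalRing.closedPoint (R.left.residueField r) : PrimeSpectrum (R.left.residueField r))
  have hc : (ptHom R r).left c = r := Scheme.fromSpecResidueField_apply _ _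
  have hsub : ∀ p : ↥(ptOver R r).left, p = c := fun p =>
    (inferInstance : Subsingleton (PrimeSpectrum (R.left.residueField r))).elim _ _
  have hrangeV : Set.range (ptHom R r ≫ t).left ⊆ Set.range ιV.left := by
    rintro _ ⟨p, rfl⟩
    rw [hsub p, Over.comp_left, Scheme.Hom.comp_apply, hc]
    exact hrV
  have hrangeW : Set.range (ptHom R r ≫ s).left ⊆ Set.range ιW.left := by
    rintro _ ⟨p, rfl⟩
    rw [hsub p, Over.comp_left, Scheme.Hom.comp_apply, hc]
    exact hrW
  have hβV₀ : IsOpenImmersion.lift ιV.left (ptHom R r ≫ t).left hrangeV ≫ ιV.left =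
      (ptHom R r ≫ t).left := IsOpenImmersion.lift_fac _ _ _
  have hβW₀ : IsOpenImmersion.lift ιW.left (ptHom R r ≫ s).left hrangeW ≫ ιW.left =
      (ptHom R r ≫ s).left := IsOpenImmersion.lift_fac _ _ _
  let βV : ptOver R r ⟶ V' := Over.homMk (IsOpenImmersion.lift ιV.left (ptHom R r ≫ t).left hrangeV)
    (by rw [← CategoryTheory.Over.w ιV, ← Category.assoc, hβV₀, CategoryTheory.Over.w])
  let βW : ptOver R r ⟶ W' := Over.homMk (IsOpenImmersion.lift ιW.left (ptHom R r ≫ s).left hrangeW)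
    (by rw [← CategoryTheory.Over.w ιW, ← Category.assoc, hβW₀, CategoryTheory.Over.w])
  have hβV : βV ≫ ιV = ptHom R r ≫ t := Over.OverMorphism.ext hβV₀
  have hβW : βW ≫ ιW = ptHom R r ≫ s := Over.OverMorphism.ext hβW₀
  obtain ⟨l, hl⟩ := (AlgSp.yon S).map_surjective
    (sqE.lift ((AlgSp.yon S).map βW) ((AlgSp.yon S).map βV) (by
      rw [← Category.assoc, ← Category.assoc, ← Functor.map_comp, ← Functor.map_comp, hβW, hβV,
        Functor.map_comp, Functor.map_comp, Category.assoc, Category.assoc, hR.w]))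
  have hl1 : l ≫ sndE = βW := by
    apply (AlgSp.yon S).map_injective
    rw [Functor.map_comp, hl, sqE.lift_fst]
  have hl2 : l ≫ fstE = βV := by
    apply (AlgSp.yon S).map_injective
    rw [Functor.map_comp, hl, sqE.lift_snd]
  have hlρ : l ≫ ρ = ptHom R r := by
    apply (AlgSp.yon S).map_injective
    apply hR.hom_ext
    · rw [← Functor.map_comp, ← Functor.map_comp, Category.assoc, hρt, ← Category.assoc, hl2, hβV]
    · rw [← Functor.map_comp, ← Functor.map_comp, Category.assoc, hρs, ← Category.assoc, hl1, hβW]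
  refine ⟨l.left c, ?_⟩
  rw [← Scheme.Hom.comp_apply, ← Over.comp_left, hlρ]
  exact hc

/-- the part of `R = U ×_X U` over two affine opens of a locally Noetherian etale chart of a decent
space is a Noetherian topological space. -/
theorem noetherianSpace_inter (X : AlgSp.Space S) (hX : AlgSp.IsDecent X.obj) {U R : Over S}
    [IsLocallyNoetherian U.left] (a : (AlgSp.yon S).obj U ⟶ X.obj) (hae : AlgSp.RepWith @Etale a)
    (s t : R ⟶ U) (hR : IsPullback ((AlgSp.yon S).map t) ((AlgSp.yon S).map s) a a)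
    (V W : U.left.Opens) (hV : IsAffineOpen V) (hW : IsAffineOpen W) :
    NoetherianSpace ↥(t.left ⁻¹' (V : Set ↥U.left) ∩ s.left ⁻¹' (W : Set ↥U.left)) := by
  let V' : Over S := Over.mk (V.ι ≫ U.hom)
  let W' : Over S := Over.mk (W.ι ≫ U.hom)
  let ιV : V' ⟶ U := Over.homMk V.ι rfl
  let ιW : W' ⟶ U := Over.homMk W.ι rfl
  haveI : IsAffine V'.left := hV
  haveI : IsAffine W'.left := hW
  haveI : IsOpenImmersion ιV.left := (inferInstance : IsOpenImmersion V.ι)
  haveI : IsOpenImmersion ιW.left := (inferInstance : IsOpenImmersion W.ι)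
  have haV : AlgSp.RepWith @Etale ((AlgSp.yon S).map ιV ≫ a) :=
    (AlgSp.repWith_isMultiplicative (S := S) @Etale).comp_mem _ _
      ((AlgSp.repWith_yon_map_iff _ _).2 (inferInstance : Etale ιV.left)) hae
  have haW : AlgSp.RepWith @Etale ((AlgSp.yon S).map ιW ≫ a) :=
    (AlgSp.repWith_isMultiplicative (S := S) @Etale).comp_mem _ _
      ((AlgSp.repWith_yon_map_iff _ _).2 (inferInstance : Etale ιW.left)) hae
  obtain ⟨E, fstE, sndE', sqE'⟩ := haW.1 ((AlgSp.yon S).map ιV ≫ a)
  obtain ⟨sndE, rfl⟩ := (AlgSp.yon S).map_surjective sndE'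
  haveI : Etale fstE.left := haW.2 _ _ fstE sqE'
  -- the comparison with `R`
  obtain ⟨ρ, hρ⟩ := (AlgSp.yon S).map_surjective
    (hR.lift ((AlgSp.yon S).map (fstE ≫ ιV)) ((AlgSp.yon S).map (sndE ≫ ιW)) (by
      rw [Functor.map_comp, Functor.map_comp, Category.assoc, Category.assoc]
      exact sqE'.w.symm))
  have hρt : ρ ≫ t = fstE ≫ ιV := by
    apply (AlgSp.yon S).map_injective
    rw [Functor.map_comp, hρ, hR.lift_fst]
  have hρs : ρ ≫ s = sndE ≫ ιW := by
    apply (AlgSp.yon S).map_injective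
    rw [Functor.map_comp, hρ, hR.lift_snd]
  -- separatedness
  haveI : IsSeparated fstE.left := by
    haveI : Mono (prod.lift fstE sndE) := by
      constructor
      intro Z x x' hxx
      apply (AlgSp.yon S).map_injective
      apply sqE'.hom_ext
      · rw [← Functor.map_comp, ← Functor.map_comp]
        congr 1
        have := congrArg (fun m => m ≫ prod.snd) hxx
        simpa only [Category.assoc, prod.lift_snd] using this
      · rw [← Functor.map_comp, ← Functor.map_comp]
        congr 1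
        have := congrArg (fun m => m ≫ prod.fst) hxx
        simpa only [Category.assoc, prod.lift_fst] using this
    have h1 : IsSeparated (prod.fst : V' ⨯ W' ⟶ V').left := by
      rw [← Over.prodLeftIsoPullback_hom_fst]
      infer_instance
    have h2 : (prod.lift fstE sndE).left ≫ (prod.fst : V' ⨯ W' ⟶ V').left = fstE.left := by
      rw [← Over.comp_left, prod.lift_fst]
    rw [← h2]
    infer_instance
  -- finite fibres
  have hfin : ∀ v : ↥V'.left, (fstE.left ⁻¹' {v}).Finite := by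
    intro v
    obtain ⟨q, hqx, -, hq⟩ := hX (AlgSp.Points.ofPt ((AlgSp.yon S).map ιV ≫ a) v)
    have hrel : AlgSp.FieldPt.Rel q (AlgSp.FieldPt.ofPt ((AlgSp.yon S).map ιV ≫ a) v) :=
      AlgSp.Points.mk_eq_mk_iff.1 hqx
    have hqu := Groth.Agent.R2.H25.DecentEquiv.repWith_quasiCompact_of_rel X hrel hq
    obtain ⟨T, w, pr', sqT⟩ := hqu.1 ((AlgSp.yon S).map ιW ≫ a)
    obtain ⟨pr, rfl⟩ := (AlgSp.yon S).map_surjective pr'
    haveI : Finite ↥T.left :=
      Groth.Agent.R2.H25.DecentIff.finite_of_isPullback _ hqu ((AlgSp.yon S).map ιW ≫ a) haW pr w sqT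
    obtain ⟨l, -, hl⟩ := fibre_subset_range₂ ((AlgSp.yon S).map ιV ≫ a) ((AlgSp.yon S).map ιW ≫ a)
      fstE sndE sqE'.flip v pr w sqT
    exact (Set.finite_range l.left).subset hl
  -- the base is Noetherian
  haveI : IsNoetherianRing Γ(U.left, V) := IsLocallyNoetherian.component_noetherian ⟨V, hV⟩
  haveI : NoetherianSpace ↥V'.left := noetherianSpace_of_isAffineOpen V hV
  haveI : IsLocallyNoetherian V'.left := (inferInstance : IsLocallyNoetherian V.toScheme)
  haveI : CompactSpace ↥E.left :=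
    Groth.Agent.R2.H25.EtaleQc.compactSpace_of_etale_isSeparated fstE.left hfin
  haveI : IsLocallyNoetherian E.left := LocallyOfFiniteType.isLocallyNoetherian fstE.left
  haveI : IsNoetherian E.left := {}
  haveI : NoetherianSpace ↥E.left := inferInstance
  have hsub := subset_range_of_lift a s t hR ιV ιW fstE sndE sqE' ρ hρt hρs
  haveI : NoetherianSpace ↥(Set.range ρ.left) := NoetherianSpace.range ρ.left ρ.left.continuous
  have hVr : Set.range ιV.left = (V : Set ↥U.left) := Scheme.Opens.range_ι V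
  have hWr : Set.range ιW.left = (W : Set ↥U.left) := Scheme.Opens.range_ι W
  rw [hVr, hWr] at hsub
  exact NoetherianSpace.of_subset hsub

/-- a locally Noetherian decent algebraic space is quasi-separated. -/
theorem isQuasiSeparatedSp_of_isLocNoethSp (X : AlgSp.Space S) (hN : AlgSp.IsLocNoethSp X.obj)
    (hX : AlgSp.IsDecent X.obj) : AlgSp.IsQuasiSeparatedSp X.obj := by
  obtain ⟨U, a, hae, has, hUN⟩ := hN
  haveI : IsLocallyNoetherian U.left := hUN
  obtain ⟨R, s, t', hR'⟩ := hae.1 a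
  obtain ⟨t, rfl⟩ := (AlgSp.yon S).map_surjective t'
  haveI := Groth.Agent.Lib.Helper12.descendsAlong_quasiCompact.{u}
  refine Groth.Agent.S10182.repWith_diag_of_chart @QuasiCompact X.property.diag a hae has s t hR' ?_
  have hjt : (prod.lift t s).left ≫ (prod.fst : U ⨯ U ⟶ U).left = t.left := by
    rw [← Over.comp_left, prod.lift_fst]
  have hjs : (prod.lift t s).left ≫ (prod.snd : U ⨯ U ⟶ U).left = s.left := by
    rw [← Over.comp_left, prod.lift_snd]
  constructor
  intro K hKo hKc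
  have hVW : ∀ z : ↥(U ⨯ U).left, ∃ V W : U.left.Opens, IsAffineOpen V ∧ IsAffineOpen W ∧
      (prod.fst : U ⨯ U ⟶ U).left z ∈ V ∧ (prod.snd : U ⨯ U ⟶ U).left z ∈ W := by
    intro z
    obtain ⟨V, hV, hzV, -⟩ := TopologicalSpace.Opens.isBasis_iff_nbhd.1 U.left.isBasis_affineOpens
      (TopologicalSpace.Opens.mem_top ((prod.fst : U ⨯ U ⟶ U).left z))
    obtain ⟨W, hW, hzW, -⟩ := TopologicalSpace.Opens.isBasis_iff_nbhd.1 U.left.isBasis_affineOpens
      (TopologicalSpace.Opens.mem_top ((prod.snd : U ⨯ U ⟶ U).left z))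
    exact ⟨V, W, hV, hW, hzV, hzW⟩
  choose V W hV hW hzV hzW using hVW
  let O : ↥(U ⨯ U).left → Set ↥(U ⨯ U).left := fun z =>
    (prod.fst : U ⨯ U ⟶ U).left ⁻¹' (V z : Set ↥U.left) ∩
      (prod.snd : U ⨯ U ⟶ U).left ⁻¹' (W z : Set ↥U.left)
  have hOopen : ∀ z, IsOpen (O z) := fun z =>
    ((V z).isOpen.preimage (prod.fst : U ⨯ U ⟶ U).left.continuous).inter
      ((W z).isOpen.preimage (prod.snd : U ⨯ U ⟶ U).left.continuous)
  have hcov : K ⊆ ⋃ z, O z := fun z _ => Set.mem_iUnion.2 ⟨z, hzV z, hzW z⟩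
  obtain ⟨F, hF⟩ := hKc.elim_finite_subcover O hOopen hcov
  have hpre : (prod.lift t s).left ⁻¹' K = ⋃ z ∈ F, ((prod.lift t s).left ⁻¹' K ∩
      (t.left ⁻¹' (V z : Set ↥U.left) ∩ s.left ⁻¹' (W z : Set ↥U.left))) := by
    ext r
    simp only [Set.mem_iUnion, Set.mem_inter_iff, Set.mem_preimage, exists_prop]
    constructor
    · intro hr
      obtain ⟨z, hzF, hz1, hz2⟩ : ∃ z ∈ F, (prod.lift t s).left r ∈ O z := by
        have := hF hr
        simpa only [Set.mem_iUnion, exists_prop] using this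
      refine ⟨z, hzF, hr, ?_, ?_⟩
      · have : (prod.fst : U ⨯ U ⟶ U).left ((prod.lift t s).left r) = t.left r := by
          rw [← Scheme.Hom.comp_apply, hjt]
        rw [← this]; exact hz1
      · have : (prod.snd : U ⨯ U ⟶ U).left ((prod.lift t s).left r) = s.left r := by
          rw [← Scheme.Hom.comp_apply, hjs]
        rw [← this]; exact hz2
    · rintro ⟨z, -, hr, -⟩
      exact hr
  rw [hpre]
  refine F.finite_toSet.isCompact_biUnion (fun z _ => ?_)
  haveI := noetherianSpace_inter X hX a hae s t hR' (V z) (W z) (hV z) (hW z)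
  exact (noetherianSpace_set_iff _).1 inferInstance _ Set.inter_subset_right

end Groth.Agent.R2.H25.DecentNoeth
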