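import Mathlib
import Groth.Agent.Lib.Helper18PBUnit1

/-!
# Descent of homomorphisms into finite locally free modules (helper25)

Namespace `Groth.Agent.R2.H25.DescHom`.

* `σ h F V : Γ(F, V) → Γ(h^* F, h⁻¹ V)`: pullback of sections (unit of pullback ⊣ pushforward on sections),
  with `σ_add`, `σ_sum`, `σ_smul` (semilinearity), `σ_naturality`, `σ_comp` (compatibility with
  `Scheme.Modules.pullbackComp`), `σ_congr`, `σ_congr_inv` (compatibility with `pullbackCongr`).
* `eq_of_basis`, `hom_eq_zero_of_basis`, `mono_of_basis`: sections / morphisms of `Scheme.Modules` are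
  controlled by a basis of opens.
* `transport`: how a morphism `φ : f^* L ⟶ f^* M` acts after pulling back along `q` (in coordinates).
* `key`, `main`: the statement of S5662 (descent of morphisms `f^*L ⟶ f^*M`, `M` finite locally free,
  given exactness of `O_Y → f_* O_X ⇉ g_* O_{X ×_Y X}`).
-/

set_option autoImplicit false
set_option linter.style.haveILetI false
universe u
open CategoryTheory CategoryTheory.Limits AlgebraicGeometry TopologicalSpace Opposite

namespace Groth.Agent.R2.H25.DescHom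



section Sigma

variable {Z W : Scheme.{u}} (h : Z ⟶ W)

/-- pullback of sections: `Γ(F, V) → Γ(h^* F, h⁻¹ V)`, the unit of the adjunction on sections -/
noncomputable def σ (F : W.Modules) (V : W.Opens) (t : Γ(F, V)) : Γ((Scheme.Modules.pullback h).obj F, h ⁻¹ᵁ V) :=
  ((Scheme.Modules.pullbackPushforwardAdjunction h).unit.app F).app V t

theorem σ_add (F : W.Modules) (V : W.Opens) (t t' : Γ(F, V)) :
    σ h F V (t + t') = σ h F V t + σ h F V t' :=
  map_add _ _ _

theorem σ_zero (F : W.Modules) (V : W.Opens) : σ h F V 0 = 0 := map_zero _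

theorem σ_sum (F : W.Modules) (V : W.Opens) {n : ℕ} (t : Fin n → Γ(F, V)) :
    σ h F V (∑ i, t i) = ∑ i, σ h F V (t i) :=
  map_sum _ _ _

theorem σ_smul (F : W.Modules) (V : W.Opens) (a : Γ(W, V)) (t : Γ(F, V)) :
    σ h F V (a • t) = (h.app V a : Γ(Z, h ⁻¹ᵁ V)) • σ h F V t := by
  have := Scheme.Modules.Hom.app_smul ((Scheme.Modules.pullbackPushforwardAdjunction h).unit.app F) a t
  exact this

theorem σ_naturality {F F' : W.Modules} (α : F ⟶ F') (V : W.Opens) (t : Γ(F, V)) :
    σ h F' V (α.app V t) = ((Scheme.Modules.pullback h).map α).app (h ⁻¹ᵁ V) (σ h F V t) := by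
  have h1 := (Scheme.Modules.pullbackPushforwardAdjunction h).unit.naturality α
  have h2 := congrArg (fun β => (Scheme.Modules.Hom.app β V) t) h1
  simp only [Functor.id_map, Functor.comp_map, Scheme.Modules.Hom.comp_app,
    ConcreteCategory.comp_apply] at h2
  exact h2

theorem σ_comp {Z' : Scheme.{u}} (h' : Z' ⟶ Z) (F : W.Modules) (V : W.Opens) (t : Γ(F, V)) :
    ((Scheme.Modules.pullbackComp h' h).hom.app F).app (h' ⁻¹ᵁ (h ⁻¹ᵁ V))
      (σ h' ((Scheme.Modules.pullback h).obj F) (h ⁻¹ᵁ V) (σ h F V t)) = σ (h' ≫ h) F V t := by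
  have h1 := unit_conjugateEquiv
    ((Scheme.Modules.pullbackPushforwardAdjunction h).comp (Scheme.Modules.pullbackPushforwardAdjunction h'))
    (Scheme.Modules.pullbackPushforwardAdjunction (h' ≫ h)) (Scheme.Modules.pullbackComp h' h).inv F
  rw [Scheme.Modules.conjugateEquiv_pullbackComp_inv] at h1
  have h2 := congrArg (fun β => (Scheme.Modules.Hom.app β V) t) h1
  simp only [Adjunction.comp_unit_app, Scheme.Modules.Hom.comp_app, ConcreteCategory.comp_apply,
    Category.assoc] at h2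
  have h3 : σ h' ((Scheme.Modules.pullback h).obj F) (h ⁻¹ᵁ V) (σ h F V t) =
      ((Scheme.Modules.pullbackComp h' h).inv.app F).app (h' ⁻¹ᵁ (h ⁻¹ᵁ V)) (σ (h' ≫ h) F V t) := by
    rw [Scheme.Modules.pushforwardComp_hom_app_app] at h2
    exact h2
  rw [h3, ← ConcreteCategory.comp_apply, ← Scheme.Modules.Hom.comp_app, Iso.inv_hom_id_app]
  rfl

theorem σ_congr {h₁ h₂ : Z ⟶ W} (e : h₁ = h₂) (F : W.Modules) (V : W.Opens) (t : Γ(F, V))
    (hV : h₁ ⁻¹ᵁ V = h₂ ⁻¹ᵁ V) :
    ((Scheme.Modules.pullbackCongr e).hom.app F).app (h₁ ⁻¹ᵁ V) (σ h₁ F V t) =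
      ((Scheme.Modules.pullback h₂).obj F).presheaf.map (eqToHom hV).op (σ h₂ F V t) := by
  subst e
  simp [Scheme.Modules.pullbackCongr]

theorem σ_congr_inv {h₁ h₂ : Z ⟶ W} (e : h₁ = h₂) (F : W.Modules) (V : W.Opens) (t : Γ(F, V))
    (hV : h₁ ⁻¹ᵁ V = h₂ ⁻¹ᵁ V) :
    ((Scheme.Modules.pullbackCongr e).inv.app F).app (h₁ ⁻¹ᵁ V)
      (((Scheme.Modules.pullback h₂).obj F).presheaf.map (eqToHom hV).op (σ h₂ F V t)) = σ h₁ F V t := by
  subst e
  simp [Scheme.Modules.pullbackCongr]

end Sigma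

section Basis

variable {Y : Scheme.{u}} {ι : Type u} (B : ι → Y.Opens) (hB : Opens.IsBasis (Set.range B))

/-- the sheaf of abelian groups underlying a module. -/
noncomputable def abSheaf (P : Y.Modules) : TopCat.Sheaf AddCommGrpCat.{u} Y.carrier :=
  ⟨P.presheaf, P.isSheaf⟩

include hB in
/-- sections are determined by their restrictions to the members of a basis -/
theorem eq_of_basis (P : Y.Modules) {U : Y.Opens} (s t : Γ(P, U))
    (h : ∀ (i : ι) (hi : B i ≤ U), P.presheaf.map (homOfLE hi).op s = P.presheaf.map (homOfLE hi).op t) :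
    s = t := by
  refine TopCat.Sheaf.eq_of_locally_eq' (abSheaf P) (fun j : {i : ι // B i ≤ U} => B j.1) U
    (fun j => homOfLE j.2) ?_ s t (fun j => h j.1 j.2)
  intro x hx
  obtain ⟨_, ⟨i, rfl⟩, hxi, hiU⟩ := (Opens.isBasis_iff_nbhd.1 hB) hx
  exact Opens.mem_iSup.2 ⟨⟨i, hiU⟩, hxi⟩

theorem app_res {L N : Y.Modules} (α : L ⟶ N) {U V : Y.Opens} (hVU : V ≤ U) (s : Γ(L, U)) :
    α.app V (L.presheaf.map (homOfLE hVU).op s) = N.presheaf.map (homOfLE hVU).op (α.app U s) := by
  have := α.mapPresheaf.naturality (homOfLE hVU).op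
  have h2 := congrArg (fun β => β s) this
  simpa using h2

include hB in
/-- a morphism vanishing on the sections over the members of a basis is zero -/
theorem hom_eq_zero_of_basis {L N : Y.Modules} (α : L ⟶ N)
    (h : ∀ (i : ι) (s : Γ(L, B i)), α.app (B i) s = 0) : α = 0 := by
  apply Scheme.Modules.hom_ext
  intro U
  ext s
  refine eq_of_basis B hB N _ _ fun i hi => ?_
  rw [← app_res, h]
  simp

include hB in
/-- a morphism injective on the sections over the members of a basis is a monomorphism -/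
theorem mono_of_basis {L N : Y.Modules} (α : L ⟶ N)
    (h : ∀ i : ι, Function.Injective (α.app (B i))) : Mono α := by
  have hinj : ∀ U : Y.Opens, Function.Injective (α.app U) := by
    intro U
    rw [injective_iff_map_eq_zero]
    intro s hs
    refine eq_of_basis B hB L _ _ fun i hi => ?_
    apply h i
    rw [app_res, hs]
    simp
  have : Mono ((Scheme.Modules.toPresheaf Y).map α) := by
    apply (config := { allowSynthFailures := true }) NatTrans.mono_of_mono_app
    intro U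
    exact (AddCommGrpCat.mono_iff_injective _).2 (hinj U.unop)
  exact Functor.mono_of_mono_map (Scheme.Modules.toPresheaf Y) this

end Basis

section Transport

theorem app_map {T : Scheme.{u}} {A B : T.Modules} (α : A ⟶ B) {O O' : T.Opens} (i : O ⟶ O')
    (y : Γ(A, O')) :
    α.app O (A.presheaf.map i.op y) = B.presheaf.map i.op (α.app O' y) := by
  have := α.mapPresheaf.naturality i.op
  have h2 := congrArg (fun β => β y) this
  simpa using h2

theorem map_sum_smul {T : Scheme.{u}} (A : T.Modules) {O O' : T.Opens} (i : O ⟶ O') {n : ℕ}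
    (r : Fin n → Γ(T, O')) (x : Fin n → Γ(A, O')) :
    A.presheaf.map i.op (∑ j, r j • x j) =
      ∑ j, (T.presheaf.map i.op (r j) : Γ(T, O)) • A.presheaf.map i.op (x j) := by
  rw [map_sum]
  exact Finset.sum_congr rfl fun j _ => Scheme.Modules.map_smul A i (r j) (x j)

theorem app_sum_smul {T : Scheme.{u}} {A B : T.Modules} (α : A ⟶ B) (O : T.Opens) {n : ℕ}
    (r : Fin n → Γ(T, O)) (x : Fin n → Γ(A, O)) :
    α.app O (∑ j, r j • x j) = ∑ j, r j • α.app O (x j) := by
  rw [map_sum]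
  exact Finset.sum_congr rfl fun j _ => Scheme.Modules.Hom.app_smul α (r j) (x j)

/-- `σ (q ≫ f)` with its value seen over the open `q⁻¹ f⁻¹ W` -/
noncomputable def σ₂ {X Y P : Scheme.{u}} (f : X ⟶ Y) (q : P ⟶ X) (F : Y.Modules) (W : Y.Opens)
    (t : Γ(F, W)) : Γ((Scheme.Modules.pullback (q ≫ f)).obj F, q ⁻¹ᵁ (f ⁻¹ᵁ W)) :=
  σ (q ≫ f) F W t

theorem transport {X Y P : Scheme.{u}} (f : X ⟶ Y) (q : P ⟶ X) {L M : Y.Modules}
    (φ : (Scheme.Modules.pullback f).obj L ⟶ (Scheme.Modules.pullback f).obj M) (W : Y.Opens)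
    (s : Γ(L, W)) {n : ℕ} (b : Fin n → Γ(M, W)) (c : Fin n → Γ(X, f ⁻¹ᵁ W))
    (hc : φ.app (f ⁻¹ᵁ W) (σ f L W s) = ∑ j, c j • σ f M W (b j)) :
    (((Scheme.Modules.pullbackComp q f).app L).inv ≫ (Scheme.Modules.pullback q).map φ ≫
        ((Scheme.Modules.pullbackComp q f).app M).hom).app (q ⁻¹ᵁ (f ⁻¹ᵁ W)) (σ₂ f q L W s) =
      ∑ j, (q.app (f ⁻¹ᵁ W) (c j) : Γ(P, q ⁻¹ᵁ (f ⁻¹ᵁ W))) • σ₂ f q M W (b j) := by
  have h1 : ((Scheme.Modules.pullbackComp q f).app L).inv.app (q ⁻¹ᵁ (f ⁻¹ᵁ W)) (σ₂ f q L W s) =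
      σ q ((Scheme.Modules.pullback f).obj L) (f ⁻¹ᵁ W) (σ f L W s) := by
    unfold σ₂
    rw [← σ_comp f q L W s]
    rw [← ConcreteCategory.comp_apply, ← Scheme.Modules.Hom.comp_app]
    simp
  have h2 : ((Scheme.Modules.pullback q).map φ).app (q ⁻¹ᵁ (f ⁻¹ᵁ W))
      (σ q ((Scheme.Modules.pullback f).obj L) (f ⁻¹ᵁ W) (σ f L W s)) =
      ∑ j, (q.app (f ⁻¹ᵁ W) (c j) : Γ(P, q ⁻¹ᵁ (f ⁻¹ᵁ W))) •
        σ q ((Scheme.Modules.pullback f).obj M) (f ⁻¹ᵁ W) (σ f M W (b j)) := by
    rw [← σ_naturality, hc, σ_sum]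
    exact Finset.sum_congr rfl fun j _ => σ_smul q _ _ _ _
  rw [Scheme.Modules.Hom.comp_app, Scheme.Modules.Hom.comp_app, ConcreteCategory.comp_apply,
    ConcreteCategory.comp_apply, h1, h2, app_sum_smul]
  exact Finset.sum_congr rfl fun j _ => by
    congr 1
    exact σ_comp f q M W (b j)

end Transport

section Main

open Groth.Agent.Helper18PBUnit

variable {X Y : Scheme.{u}} (f : X ⟶ Y)

theorem isBasisLike_σ (M : Y.Modules) [M.IsQuasicoherent] {W : Y.Opens} (hW : IsAffineOpen W)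
    {n : ℕ} (b : Module.Basis (Fin n) Γ(Y, W) Γ(M, W)) :
    IsBasisLike Γ(X, f ⁻¹ᵁ W) (fun j => σ f M W (b j)) :=
  isBasisLike_unit f M hW b

theorem key
    (hU : ∀ U : Y.Opens, (pullback.fst f f) ⁻¹ᵁ (f ⁻¹ᵁ U) = (pullback.snd f f) ⁻¹ᵁ (f ⁻¹ᵁ U))
    (hex : ∀ (U : Y.Opens) (a : Γ(X, f ⁻¹ᵁ U)),
      (pullback.fst f f).app (f ⁻¹ᵁ U) a =
        ((pullback f f).presheaf.map (eqToHom (hU U)).op) ((pullback.snd f f).app (f ⁻¹ᵁ U) a) →
      a ∈ Set.range (f.app U))
    (L M : Y.Modules) [M.IsQuasicoherent]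
    (φ : (Scheme.Modules.pullback f).obj L ⟶ (Scheme.Modules.pullback f).obj M)
    (hφ : ((Scheme.Modules.pullbackComp (pullback.fst f f) f).app L).inv ≫
        (Scheme.Modules.pullback (pullback.fst f f)).map φ ≫ ((Scheme.Modules.pullbackComp (pullback.fst f f) f).app M).hom =
      ((Scheme.Modules.pullbackCongr (pullback.condition (f := f) (g := f))).app L).hom ≫
        ((Scheme.Modules.pullbackComp (pullback.snd f f) f).app L).inv ≫
        (Scheme.Modules.pullback (pullback.snd f f)).map φ ≫ ((Scheme.Modules.pullbackComp (pullback.snd f f) f).app M).hom ≫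
        ((Scheme.Modules.pullbackCongr (pullback.condition (f := f) (g := f))).app M).inv)
    {W : Y.Opens} (hW : IsAffineOpen W) {n : ℕ} (b : Module.Basis (Fin n) Γ(Y, W) Γ(M, W))
    (s : Γ(L, W)) :
    ∃ t : Γ(M, W), σ f M W t = φ.app (f ⁻¹ᵁ W) (σ f L W s) := by
  have hBf := isBasisLike_σ f M hW b
  have hBg := isBasisLike_σ (pullback.fst f f ≫ f) M hW b
  obtain ⟨c, hc⟩ := hBf.2 (φ.app (f ⁻¹ᵁ W) (σ f L W s))
  have hT1 := transport f (pullback.fst f f) φ W s (fun j => b j) c hc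
  have hT2 := transport f (pullback.snd f f) φ W s (fun j => b j) c hc
  -- evaluate `hφ` on the section `σ (p₁ ≫ f) L W s`
  have hφ' := congrArg (fun β => (Scheme.Modules.Hom.app β ((pullback.fst f f) ⁻¹ᵁ (f ⁻¹ᵁ W)))
    (σ₂ f (pullback.fst f f) L W s)) hφ
  simp only [] at hφ'
  rw [hT1] at hφ'
  -- right hand side
  have hR : (Scheme.Modules.Hom.app
      (((Scheme.Modules.pullbackCongr (pullback.condition (f := f) (g := f))).app L).hom ≫
        ((Scheme.Modules.pullbackComp (pullback.snd f f) f).app L).inv ≫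
        (Scheme.Modules.pullback (pullback.snd f f)).map φ ≫
        ((Scheme.Modules.pullbackComp (pullback.snd f f) f).app M).hom ≫
        ((Scheme.Modules.pullbackCongr (pullback.condition (f := f) (g := f))).app M).inv)
      ((pullback.fst f f) ⁻¹ᵁ (f ⁻¹ᵁ W))) (σ₂ f (pullback.fst f f) L W s) =
      ∑ j, ((pullback f f).presheaf.map (eqToHom (hU W)).op
        ((pullback.snd f f).app (f ⁻¹ᵁ W) (c j)) : Γ(pullback f f, (pullback.fst f f) ⁻¹ᵁ (f ⁻¹ᵁ W))) •
        σ₂ f (pullback.fst f f) M W (b j) := by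
    have e1 : ((Scheme.Modules.pullbackCongr (pullback.condition (f := f) (g := f))).hom.app L).app
        ((pullback.fst f f) ⁻¹ᵁ (f ⁻¹ᵁ W)) (σ₂ f (pullback.fst f f) L W s) =
        ((Scheme.Modules.pullback (pullback.snd f f ≫ f)).obj L).presheaf.map (eqToHom (hU W)).op
          (σ₂ f (pullback.snd f f) L W s) :=
      σ_congr (pullback.condition (f := f) (g := f)) L W s (hU W)
    have e2 : ∀ j, ((Scheme.Modules.pullbackCongr (pullback.condition (f := f) (g := f))).inv.app M).app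
        ((pullback.fst f f) ⁻¹ᵁ (f ⁻¹ᵁ W))
        (((Scheme.Modules.pullback (pullback.snd f f ≫ f)).obj M).presheaf.map (eqToHom (hU W)).op
          (σ₂ f (pullback.snd f f) M W (b j))) = σ₂ f (pullback.fst f f) M W (b j) := fun j =>
      σ_congr_inv (pullback.condition (f := f) (g := f)) M W (b j) (hU W)
    have e3 : (((Scheme.Modules.pullbackComp (pullback.snd f f) f).app L).inv ≫
        (Scheme.Modules.pullback (pullback.snd f f)).map φ ≫
        ((Scheme.Modules.pullbackComp (pullback.snd f f) f).app M).hom).app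
          ((pullback.fst f f) ⁻¹ᵁ (f ⁻¹ᵁ W))
        (((Scheme.Modules.pullback (pullback.snd f f ≫ f)).obj L).presheaf.map (eqToHom (hU W)).op
          (σ₂ f (pullback.snd f f) L W s)) =
        ∑ j, ((pullback f f).presheaf.map (eqToHom (hU W)).op
          ((pullback.snd f f).app (f ⁻¹ᵁ W) (c j)) : Γ(pullback f f, (pullback.fst f f) ⁻¹ᵁ (f ⁻¹ᵁ W))) •
          ((Scheme.Modules.pullback (pullback.snd f f ≫ f)).obj M).presheaf.map (eqToHom (hU W)).op
            (σ₂ f (pullback.snd f f) M W (b j)) := by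
      rw [app_map, hT2, map_sum_smul]
    have e4 : ((Scheme.Modules.pullbackCongr (pullback.condition (f := f) (g := f))).app L).hom ≫
        ((Scheme.Modules.pullbackComp (pullback.snd f f) f).app L).inv ≫
        (Scheme.Modules.pullback (pullback.snd f f)).map φ ≫
        ((Scheme.Modules.pullbackComp (pullback.snd f f) f).app M).hom ≫
        ((Scheme.Modules.pullbackCongr (pullback.condition (f := f) (g := f))).app M).inv =
        (Scheme.Modules.pullbackCongr (pullback.condition (f := f) (g := f))).hom.app L ≫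
        (((Scheme.Modules.pullbackComp (pullback.snd f f) f).app L).inv ≫
        (Scheme.Modules.pullback (pullback.snd f f)).map φ ≫
        ((Scheme.Modules.pullbackComp (pullback.snd f f) f).app M).hom) ≫
        (Scheme.Modules.pullbackCongr (pullback.condition (f := f) (g := f))).inv.app M := by
      simp only [Category.assoc, Iso.app_hom, Iso.app_inv]
    rw [e4, Scheme.Modules.Hom.comp_app, Scheme.Modules.Hom.comp_app, ConcreteCategory.comp_apply,
      ConcreteCategory.comp_apply, e1, e3, app_sum_smul]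
    exact Finset.sum_congr rfl fun j _ => by rw [e2 j]
  rw [hR] at hφ'
  -- compare coefficients
  have hcoef : ∀ j, (pullback.fst f f).app (f ⁻¹ᵁ W) (c j) =
      ((pullback f f).presheaf.map (eqToHom (hU W)).op) ((pullback.snd f f).app (f ⁻¹ᵁ W) (c j)) := by
    have hdiff : ∑ j, ((pullback.fst f f).app (f ⁻¹ᵁ W) (c j) -
        ((pullback f f).presheaf.map (eqToHom (hU W)).op) ((pullback.snd f f).app (f ⁻¹ᵁ W) (c j)) :
          Γ(pullback f f, (pullback.fst f f) ⁻¹ᵁ (f ⁻¹ᵁ W))) • σ₂ f (pullback.fst f f) M W (b j) = 0 := by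
      simp_rw [sub_smul]
      rw [Finset.sum_sub_distrib, sub_eq_zero]
      exact hφ'
    have := hBg.1 _ hdiff
    intro j
    exact sub_eq_zero.1 (congrFun this j)
  have hex' : ∀ j, ∃ a : Γ(Y, W), f.app W a = c j := fun j => hex W (c j) (hcoef j)
  choose a ha using hex'
  refine ⟨∑ j, a j • b j, ?_⟩
  rw [σ_sum, hc]
  exact Finset.sum_congr rfl fun j _ => by rw [σ_smul, ha j]


theorem main
    (hU : ∀ U : Y.Opens, (pullback.fst f f) ⁻¹ᵁ (f ⁻¹ᵁ U) = (pullback.snd f f) ⁻¹ᵁ (f ⁻¹ᵁ U))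
    (hinj : ∀ U : Y.Opens, Function.Injective (f.app U))
    (hex : ∀ (U : Y.Opens) (a : Γ(X, f ⁻¹ᵁ U)),
      (pullback.fst f f).app (f ⁻¹ᵁ U) a =
        ((pullback f f).presheaf.map (eqToHom (hU U)).op) ((pullback.snd f f).app (f ⁻¹ᵁ U) a) →
      a ∈ Set.range (f.app U))
    (L M : Y.Modules) (hM : FlatMod.IsFinLocFree M)
    (φ : (Scheme.Modules.pullback f).obj L ⟶ (Scheme.Modules.pullback f).obj M)
    (hφ : ((Scheme.Modules.pullbackComp (pullback.fst f f) f).app L).inv ≫
        (Scheme.Modules.pullback (pullback.fst f f)).map φ ≫ ((Scheme.Modules.pullbackComp (pullback.fst f f) f).app M).hom =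
      ((Scheme.Modules.pullbackCongr (pullback.condition (f := f) (g := f))).app L).hom ≫
        ((Scheme.Modules.pullbackComp (pullback.snd f f) f).app L).inv ≫
        (Scheme.Modules.pullback (pullback.snd f f)).map φ ≫ ((Scheme.Modules.pullbackComp (pullback.snd f f) f).app M).hom ≫
        ((Scheme.Modules.pullbackCongr (pullback.condition (f := f) (g := f))).app M).inv) :
    ∃! ψ : L ⟶ M, (Scheme.Modules.pullback f).map ψ = φ := by
  haveI : M.IsQuasicoherent :=
    Groth.Agent.Helper18Strict.isQCoh_of_isFP M (Groth.Agent.Lib.Helper2.LocFree.isFP_of_isFinLocFree M hM)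
  let ι : Type u := {W : Y.Opens // IsAffineOpen W ∧
    ∃ n : ℕ, Nonempty (Module.Basis (Fin n) Γ(Y, W) Γ(M, W))}
  let B : ι → Y.Opens := fun i => i.1
  have hB : Opens.IsBasis (Set.range B) := by
    rw [Opens.isBasis_iff_nbhd]
    intro U x hx
    obtain ⟨U₀, n, hx₀, ⟨e⟩⟩ := hM x
    obtain ⟨W, hW, hxW, hWU, hb⟩ :=
      Groth.Agent.Helper18Dbl.exists_affine_basis_le M U₀.ι e ⟨x, hx₀⟩ U hx
    exact ⟨W, ⟨⟨W, hW, n, hb⟩, rfl⟩, hxW, hWU⟩
  let adj := Scheme.Modules.pullbackPushforwardAdjunction f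
  have hηM : ∀ (W : Y.Opens) (t : Γ(M, W)), (adj.unit.app M).app W t = σ f M W t := fun W t => rfl
  -- the unit at `M` is a monomorphism
  haveI hmono : Mono (adj.unit.app M) := by
    refine mono_of_basis B hB _ ?_
    rintro ⟨W, hW, n, ⟨b⟩⟩
    rw [injective_iff_map_eq_zero]
    intro m hm
    have hBf := isBasisLike_σ f M hW b
    have h1 : σ f M W m = ∑ j, (f.app W (b.repr m j) : Γ(X, f ⁻¹ᵁ W)) • σ f M W (b j) := by
      conv_lhs => rw [← b.sum_repr m]
      rw [σ_sum]
      exact Finset.sum_congr rfl fun j _ => σ_smul f M W _ _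
    have h2 : ∑ j, (f.app W (b.repr m j) : Γ(X, f ⁻¹ᵁ W)) • σ f M W (b j) = 0 := by
      rw [← h1]
      exact hm
    have h3 := hBf.1 _ h2
    have h4 : ∀ j, b.repr m j = 0 := fun j =>
      hinj W ((congrFun h3 j).trans (map_zero (f.app W).hom).symm)
    rw [← b.sum_repr m]
    exact Finset.sum_eq_zero fun j _ => by rw [h4 j, zero_smul]
  -- the adjoint of `φ`
  let φb : L ⟶ (Scheme.Modules.pushforward f).obj ((Scheme.Modules.pullback f).obj M) :=
    adj.unit.app L ≫ (Scheme.Modules.pushforward f).map φ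
  have hφb : ∀ (W : Y.Opens) (s : Γ(L, W)), φb.app W s = φ.app (f ⁻¹ᵁ W) (σ f L W s) := fun W s => rfl
  have hzero : φb ≫ cokernel.π (adj.unit.app M) = 0 := by
    refine hom_eq_zero_of_basis B hB _ ?_
    rintro ⟨W, hW, n, ⟨b⟩⟩ s
    obtain ⟨t, ht⟩ := key f hU hex L M φ hφ hW b s
    rw [Scheme.Modules.Hom.comp_app, ConcreteCategory.comp_apply, hφb, ← ht, ← hηM,
      ← ConcreteCategory.comp_apply, ← Scheme.Modules.Hom.comp_app, cokernel.condition]
    rfl
  let ψ : L ⟶ M := Abelian.monoLift (adj.unit.app M) φb hzero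
  have hψ : ψ ≫ adj.unit.app M = φb := Abelian.monoLift_comp _ _ _
  have hadj : ∀ ψ' : L ⟶ M, adj.homEquiv L _ ((Scheme.Modules.pullback f).map ψ') =
      ψ' ≫ adj.unit.app M := by
    intro ψ'
    rw [Adjunction.homEquiv_unit]
    exact (adj.unit.naturality ψ').symm
  have hadjφ : adj.homEquiv L _ φ = φb := by
    rw [Adjunction.homEquiv_unit]
  refine ⟨ψ, ?_, ?_⟩
  · apply (adj.homEquiv L _).injective
    rw [hadj, hψ, hadjφ]
  · intro ψ' hψ'
    have : ψ' ≫ adj.unit.app M = ψ ≫ adj.unit.app M := by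
      rw [← hadj, hψ', hadjφ, hψ]
    exact (cancel_mono (adj.unit.app M)).1 this

end Main

end Groth.Agent.R2.H25.DescHom
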