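import Mathlib
import Groth.Prelude
import Groth.Agent.S9633

/-!
# Quasi-separated schemes all of whose points are maximal

A quasi-separated scheme in which no point has a proper generization (a scheme of dimension `0`)
is separated and each of its quasi-compact opens is affine.
-/

set_option autoImplicit false
universe u
open CategoryTheory CategoryTheory.Limits AlgebraicGeometry Topology TopologicalSpace

namespace Groth.Agent.R2.H25.DimZeroSch

/-- no point of `W` has a proper generization. -/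
def AllMax (W : Scheme.{u}) : Prop := ∀ w w' : ↥W, w' ⤳ w → w' = w

lemma AllMax.opens {W : Scheme.{u}} (h : AllMax W) (U : W.Opens) : AllMax (U : Scheme.{u}) := by
  intro w w' hw
  exact Subtype.ext (h _ _ ((subtype_specializes_iff w' w).1 hw))

/-- in an affine scheme without proper generizations, quasi-compact opens are closed. -/
lemma isClosed_of_isCompact_of_isAffine {W : Scheme.{u}} [IsAffine W] (h : AllMax W)
    (O : Set ↥W) (hO : IsOpen O) (hOc : IsCompact O) : IsClosed O := by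
  let e : ↥W ≃ₜ PrimeSpectrum Γ(W, ⊤) := W.isoSpec.hom.homeomorph
  have h5 : ∀ p q : PrimeSpectrum Γ(W, ⊤), p ≤ q → p = q := by
    intro p q hpq
    have h1 : p ⤳ q := (PrimeSpectrum.le_iff_specializes p q).1 hpq
    have h2 : e.symm p ⤳ e.symm q := h1.map e.symm.continuous
    exact e.symm.injective (h _ _ h2)
  have h4 := ((Groth.Agent.S9633.result (R := Γ(W, ⊤))).out 4 3).1 h5
  have h6 : IsClosed (e '' O) := h4 _ (e.isOpenMap O hO) (hOc.image e.continuous)
  have h7 : O = e ⁻¹' (e '' O) := (Set.preimage_image_eq O e.injective).symm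
  rw [h7]
  exact h6.preimage e.continuous

variable {W : Scheme.{u}}

/-- the intersection of two affine opens is relatively closed in each of them. -/
lemma exists_isClosed_inter [QuasiSeparatedSpace ↥W] (h : AllMax W) (U₁ U₂ : W.Opens)
    (hU₁ : IsAffineOpen U₁) (hU₂ : IsAffineOpen U₂) :
    ∃ C : Set ↥W, IsClosed C ∧ C ∩ (U₂ : Set ↥W) = (U₁ : Set ↥W) ∩ (U₂ : Set ↥W) := by
  haveI : IsAffine (U₂ : Scheme.{u}) := hU₂
  have hc : IsCompact ((U₁ : Set ↥W) ∩ (U₂ : Set ↥W)) :=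
    QuasiSeparatedSpace.inter_isCompact _ _ U₁.isOpen hU₁.isCompact U₂.isOpen hU₂.isCompact
  let O : Set ↥(U₂ : Scheme.{u}) := (Subtype.val : ↥U₂ → ↥W) ⁻¹' (U₁ : Set ↥W)
  have hOo : IsOpen O := U₁.isOpen.preimage continuous_subtype_val
  have hOc : IsCompact O := by
    rw [U₂.ι.isOpenEmbedding.isInducing.isCompact_iff]
    convert hc using 1
    ext x
    constructor
    · rintro ⟨y, hy, rfl⟩
      exact ⟨hy, y.2⟩
    · rintro ⟨hx1, hx2⟩
      exact ⟨⟨x, hx2⟩, hx1, rfl⟩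
  have hcl : IsClosed O := isClosed_of_isCompact_of_isAffine (h.opens U₂) O hOo hOc
  obtain ⟨C, hC, hCO⟩ := isClosed_induced_iff.1 hcl
  refine ⟨C, hC, ?_⟩
  ext x
  constructor
  · rintro ⟨hxC, hxU⟩
    exact ⟨(Set.ext_iff.1 hCO ⟨x, hxU⟩).1 hxC, hxU⟩
  · rintro ⟨hx1, hxU⟩
    exact ⟨(Set.ext_iff.1 hCO ⟨x, hxU⟩).2 hx1, hxU⟩

/-- affine opens are closed. -/
lemma isClosed_of_isAffineOpen [QuasiSeparatedSpace ↥W] (h : AllMax W) (U : W.Opens)
    (hU : IsAffineOpen U) : IsClosed (U : Set ↥W) := by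
  rw [← closure_subset_iff_isClosed]
  intro x hx
  obtain ⟨U₂, hU₂, hxU₂, -⟩ : ∃ V : W.Opens, V ∈ W.affineOpens ∧ x ∈ V ∧ V ≤ ⊤ :=
    TopologicalSpace.Opens.isBasis_iff_nbhd.1 W.isBasis_affineOpens
      (TopologicalSpace.Opens.mem_top x)
  obtain ⟨C, hC, hCU⟩ := exists_isClosed_inter h U U₂ hU hU₂
  have h1 : x ∈ closure ((U : Set ↥W) ∩ (U₂ : Set ↥W)) := by
    rw [mem_closure_iff]
    intro N hN hxN
    obtain ⟨y, hyN, hyU⟩ := mem_closure_iff.1 hx (N ∩ (U₂ : Set ↥W)) (hN.inter U₂.isOpen)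
      ⟨hxN, hxU₂⟩
    exact ⟨y, hyN.1, hyU, hyN.2⟩
  have h2 : (U : Set ↥W) ∩ (U₂ : Set ↥W) ⊆ C := by
    rw [← hCU]; exact Set.inter_subset_left
  have h3 : x ∈ C := (closure_minimal h2 hC) h1
  have h4 : x ∈ (U : Set ↥W) ∩ (U₂ : Set ↥W) := by rw [← hCU]; exact ⟨h3, hxU₂⟩
  exact h4.1

/-- an open contained in an affine open and closed is affine. -/
lemma isAffineOpen_of_le_of_isClosed (D U : W.Opens) (hDU : D ≤ U) (hU : IsAffineOpen U)
    (hD : IsClosed (D : Set ↥W)) : IsAffineOpen D := by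
  haveI : IsAffine (U : Scheme.{u}) := hU
  have hr : IsClosed (Set.range (W.homOfLE hDU)) := by
    have : Set.range (W.homOfLE hDU) = (Subtype.val : ↥U → ↥W) ⁻¹' (D : Set ↥W) := by
      ext y
      constructor
      · rintro ⟨z, rfl⟩
        show (U.ι (W.homOfLE hDU z)) ∈ D
        rw [← Scheme.Hom.comp_apply, Scheme.homOfLE_ι]
        exact z.2
      · intro hy
        refine ⟨⟨y.1, hy⟩, ?_⟩
        apply U.ι.injective
        rw [← Scheme.Hom.comp_apply, Scheme.homOfLE_ι]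
        rfl
    rw [this]
    exact hD.preimage continuous_subtype_val
  haveI : IsClosedImmersion (W.homOfLE hDU) := IsClosedImmersion.of_isPreimmersion _ hr
  exact isAffine_of_isAffineHom (W.homOfLE hDU)

/-- quasi-compact opens are affine. -/
theorem isAffineOpen_of_isCompact [QuasiSeparatedSpace ↥W] (h : AllMax W) (V : W.Opens)
    (hV : IsCompact (V : Set ↥W)) : IsAffineOpen V := by
  refine compact_open_induction_on (P := fun V => IsAffineOpen V) V hV (isAffineOpen_bot W) ?_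
  intro S _ U hS
  have hSc : IsClosed (S : Set ↥W) := isClosed_of_isAffineOpen h S hS
  have hUc : IsClosed (U.1 : Set ↥W) := isClosed_of_isAffineOpen h U.1 U.2
  let D : W.Opens := ⟨(U.1 : Set ↥W) ∩ (S : Set ↥W)ᶜ, U.1.isOpen.inter hSc.isOpen_compl⟩
  have hD : IsAffineOpen D :=
    isAffineOpen_of_le_of_isClosed D U.1 (fun x hx => hx.1) U.2
      (hUc.inter S.isOpen.isClosed_compl)
  have hdisj : Disjoint S D := by
    rw [← TopologicalSpace.Opens.coe_disjoint, Set.disjoint_left]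
    exact fun x hxS hxD => hxD.2 hxS
  have heq : S ⊔ U.1 = S ⊔ D := by
    ext x
    simp only [TopologicalSpace.Opens.coe_sup, Set.mem_union, SetLike.mem_coe]
    constructor
    · rintro (hx | hx)
      · exact Or.inl hx
      · by_cases hxS : x ∈ S
        · exact Or.inl hxS
        · exact Or.inr ⟨hx, hxS⟩
    · rintro (hx | hx)
      · exact Or.inl hx
      · exact Or.inr hx.1
  rw [heq]
  exact hS.sup_of_disjoint hD hdisj

/-- a quasi-separated scheme without proper generizations is separated. -/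
theorem isSeparated_of_allMax [QuasiSeparatedSpace ↥W] (h : AllMax W) : W.IsSeparated := by
  constructor
  haveI : QuasiSeparated (terminal.from W) :=
    (quasiSeparatedSpace_iff_quasiSeparated W).1 inferInstance
  apply IsSeparated.of_valuativeCriterion
  intro Sq
  constructor
  rintro ⟨l₁, hl₁, hl₁'⟩ ⟨l₂, hl₂, hl₂'⟩
  ext : 1
  dsimp at *
  let k : ↥(Spec (CommRingCat.of Sq.K)) := IsLocalRing.closedPoint Sq.K
  let ι : Spec (CommRingCat.of Sq.K) ⟶ Spec (CommRingCat.of Sq.R) :=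
    Spec.map (CommRingCat.ofHom (algebraMap Sq.R Sq.K))
  have hη : ∀ p : ↥(Spec (CommRingCat.of Sq.R)), ι k ⤳ p := by
    intro p
    refine (PrimeSpectrum.le_iff_specializes (ι k) p).1 ?_
    intro x hx
    have hx' : algebraMap Sq.R Sq.K x ∈ (k : PrimeSpectrum Sq.K).asIdeal := hx
    have h0 : algebraMap Sq.R Sq.K x = 0 := by
      by_contra hne
      exact (k : PrimeSpectrum Sq.K).isPrime.ne_top
        (Ideal.eq_top_of_isUnit_mem _ hx' (Ne.isUnit hne))
    have : x = 0 := (IsFractionRing.injective Sq.R Sq.K) (by rw [h0, map_zero])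
    rw [this]
    exact p.asIdeal.zero_mem
  let w : ↥W := Sq.i₁ k
  have hconst : ∀ (l : Spec (CommRingCat.of Sq.R) ⟶ W), ι ≫ l = Sq.i₁ → ∀ p, l p = w := by
    intro l hl p
    have h1 : l (ι k) = w := by rw [← Scheme.Hom.comp_apply, hl]
    have h2 : w ⤳ l p := by rw [← h1]; exact (hη p).map l.continuous
    exact (h _ _ h2).symm
  obtain ⟨U, hU, hwU, -⟩ : ∃ V : W.Opens, V ∈ W.affineOpens ∧ w ∈ V ∧ V ≤ ⊤ :=
    TopologicalSpace.Opens.isBasis_iff_nbhd.1 W.isBasis_affineOpens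
      (TopologicalSpace.Opens.mem_top w)
  haveI : IsAffine (U : Scheme.{u}) := hU
  have hr : ∀ (l : Spec (CommRingCat.of Sq.R) ⟶ W), ι ≫ l = Sq.i₁ →
      Set.range l ⊆ Set.range U.ι := by
    rintro l hl _ ⟨p, rfl⟩
    rw [Scheme.Opens.range_ι, hconst l hl p]
    exact hwU
  have hr₁ : Set.range Sq.i₁ ⊆ Set.range U.ι := by
    rintro _ ⟨q, rfl⟩
    rw [← hl₁, Scheme.Hom.comp_apply]
    exact hr l₁ hl₁ ⟨_, rfl⟩
  let l₁' := IsOpenImmersion.lift U.ι l₁ (hr l₁ hl₁)
  let l₂' := IsOpenImmersion.lift U.ι l₂ (hr l₂ hl₂)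
  let i₁' := IsOpenImmersion.lift U.ι Sq.i₁ hr₁
  have e₁ : l₁' ≫ U.ι = l₁ := IsOpenImmersion.lift_fac _ _ _
  have e₂ : l₂' ≫ U.ι = l₂ := IsOpenImmersion.lift_fac _ _ _
  have e₀ : i₁' ≫ U.ι = Sq.i₁ := IsOpenImmersion.lift_fac _ _ _
  let Sq' : ValuativeCommSq (terminal.from (U : Scheme.{u})) :=
    { R := Sq.R, K := Sq.K, i₁ := i₁', i₂ := Sq.i₂, commSq := ⟨Subsingleton.elim _ _⟩ }
  have hsub : Subsingleton Sq'.commSq.LiftStruct :=
    IsSeparated.valuativeCriterion (terminal.from (U : Scheme.{u})) Sq'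
  have hfac₁ : ι ≫ l₁' = i₁' := by
    rw [← cancel_mono U.ι, Category.assoc, e₁, e₀]; exact hl₁
  have hfac₂ : ι ≫ l₂' = i₁' := by
    rw [← cancel_mono U.ι, Category.assoc, e₂, e₀]; exact hl₂
  have key : (⟨l₁', hfac₁, Subsingleton.elim _ _⟩ : Sq'.commSq.LiftStruct) =
      ⟨l₂', hfac₂, Subsingleton.elim _ _⟩ := Subsingleton.elim _ _
  have : l₁' = l₂' := congrArg CommSq.LiftStruct.l key
  rw [← e₁, ← e₂, this]

end Groth.Agent.R2.H25.DimZeroSch
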