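import Mathlib
import Groth.Prelude
import Groth.Agent.R2.H25CodimZero
import Groth.Agent.R2.H25DimZeroSch
import Groth.Agent.Lib.Helper12OpenSub2
import Groth.Agent.Lib.Helper15MonoSep

/-!
# Algebraic spaces all of whose points have codimension `0`

A Zariski locally quasi-separated algebraic space all of whose points have codimension `0` is a
scheme; if moreover it is quasi-separated over a quasi-separated base, it is a separated scheme all
of whose quasi-compact opens are affine.
-/

set_option autoImplicit false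
universe u
open CategoryTheory CategoryTheory.Limits AlgebraicGeometry Topology TopologicalSpace

namespace Groth.Agent.R2.H25.DimZero

/-- in a `T0` space of Krull dimension `≤ 0` there are no proper specializations. -/
lemma eq_of_specializes_of_topologicalKrullDim_le {T : Type*} [TopologicalSpace T] [T0Space T]
    (h : topologicalKrullDim T ≤ 0) (u u' : T) (hs : u' ⤳ u) : u' = u := by
  have hmin := (Order.krullDim_nonpos_iff_forall_isMin (α := IrreducibleCloseds T)).1 h
  let a : IrreducibleCloseds T := ⟨closure {u'}, isIrreducible_singleton.closure, isClosed_closure⟩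
  let b : IrreducibleCloseds T := ⟨closure {u}, isIrreducible_singleton.closure, isClosed_closure⟩
  have hba : b ≤ a := by
    show closure {u} ⊆ closure {u'}
    exact hs.closure_subset
  have hab : a ≤ b := hmin a hba
  have h2 : u ⤳ u' := by
    rw [specializes_iff_mem_closure]
    exact hab (subset_closure rfl)
  exact (hs.antisymm h2).eq

variable {S : Scheme.{u}}

theorem isQuasiSeparatedSp_of_iso {F G : AlgSp.Sp S} (e : F ≅ G) (h : AlgSp.IsQuasiSeparatedSp F) :
    AlgSp.IsQuasiSeparatedSp G := by
  have hd : Limits.diag G = e.inv ≫ Limits.diag F ≫ prod.map e.hom e.hom := by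
    apply Limits.prod.hom_ext <;> simp
  unfold AlgSp.IsQuasiSeparatedSp
  rw [hd]
  exact ((AlgSp.RepWith @QuasiCompact).cancel_left_of_respectsIso e.inv _).2
    (((AlgSp.RepWith @QuasiCompact).cancel_right_of_respectsIso _ (prod.map e.hom e.hom)).2 h)

/-- all points of an algebraic space of dimension `≤ 0` have codimension `0`. -/
lemma hasAt_dim_zero_of_dim_le (X : AlgSp.Space S) (hd : AlgSp.dim X.obj ≤ 0)
    (x : AlgSp.Points X.obj) :
    AlgSp.HasAt (fun U u => ringKrullDim ↥(U.presheaf.stalk u) = 0) X.obj x := by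
  obtain ⟨U, a, hae, has⟩ := X.property.atlas
  obtain ⟨u, hu⟩ := Groth.Agent.S10177.surjective_ofPt a has x
  have hU : topologicalKrullDim ↥U.left ≤ 0 := by
    refine le_trans ?_ hd
    unfold AlgSp.dim
    exact le_iSup_of_le U (le_iSup_of_le a (le_iSup_of_le hae le_rfl))
  exact ⟨U, a, u, hae, hu, Groth.Agent.R2.H25.CodimZero.dim_zero_of_maximal u
    (fun u' hu' => eq_of_specializes_of_topologicalKrullDim_le hU u u' hu')⟩

/-- **a Zariski locally quasi-separated algebraic space all of whose points have codimension `0`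
is a scheme without proper specializations.** -/
theorem exists_iso_of_forall_hasAt (X : AlgSp.Space S)
    (hX : ∃ (ι : Type u) (Xi : ι → AlgSp.Space S) (j : ∀ i, Xi i ⟶ X),
      AlgSp.IsZarCover (fun i => (Xi i).obj) (fun i => (j i).hom) ∧
        ∀ i, AlgSp.IsQuasiSeparatedSp (Xi i).obj)
    (hall : ∀ x : AlgSp.Points X.obj,
      AlgSp.HasAt (fun U u => ringKrullDim ↥(U.presheaf.stalk u) = 0) X.obj x) :
    ∃ (M : Over S) (_ : (AlgSp.yon S).obj M ≅ X.obj),
      Groth.Agent.R2.H25.DimZeroSch.AllMax M.left := by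
  obtain ⟨X', j, hj, hrep, -, hcod⟩ :=
    Groth.Agent.R2.H25.CodimZero.exists_dense_open_subscheme_of_zariskiLocally X hX
  have hrange : Set.range (AlgSp.Points.map j.hom) = Set.range (AlgSp.Points.map (𝟙 X.obj)) := by
    ext x
    constructor
    · intro _
      exact ⟨x, AlgSp.Points.map_id x⟩
    · intro _
      exact hcod x (hall x)
  obtain ⟨e, -⟩ := Groth.Agent.Lib.Helper12.OpenSub.iso_of_range_eq j.hom hj (𝟙 X.obj)
    (Groth.Agent.Lib.Helper15MonoSep.repWith_of_isIso @IsOpenImmersion _) hrange
  obtain ⟨M, ⟨r⟩⟩ := hrep.has_representation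
  let e' : (AlgSp.yon S).obj M ≅ X.obj := AlgSp.isoOfRepresentableBy r ≪≫ e
  refine ⟨M, e', ?_⟩
  intro w w' hw
  have hce : AlgSp.RepWith @Etale e'.hom :=
    Groth.Agent.Lib.Helper15MonoSep.repWith_of_isIso @Etale e'.hom
  obtain ⟨V, b, v, hb, hbv, hdim⟩ := hall (AlgSp.Points.ofPt e'.hom w)
  exact Groth.Agent.R2.H25.DenseOpen.maximal_of_etale_chart e'.hom b hce hb w v hbv.symm
    (Groth.Agent.R2.H25.DenseOpen.eq_of_specializes_of_dim_zero v hdim) w' hw

/-- **a quasi-separated algebraic space of dimension `0` over a quasi-separated base is a separated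
scheme all of whose quasi-compact opens are affine.** -/
theorem exists_iso_isSeparated [QuasiSeparatedSpace ↥S] (X : AlgSp.Space S)
    (hqs : AlgSp.IsQuasiSeparatedSp X.obj)
    (hall : ∀ x : AlgSp.Points X.obj,
      AlgSp.HasAt (fun U u => ringKrullDim ↥(U.presheaf.stalk u) = 0) X.obj x) :
    ∃ (U : Over S) (_ : (AlgSp.yon S).obj U ≅ X.obj), U.left.IsSeparated ∧
      ∀ V : U.left.Opens, IsCompact (V : Set ↥U.left) → IsAffineOpen V := by
  obtain ⟨M, e', hmax⟩ := exists_iso_of_forall_hasAt X
    ⟨PUnit.{u + 1}, fun _ => X, fun _ => 𝟙 X,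
      ⟨fun _ => Groth.Agent.Lib.Helper15MonoSep.repWith_of_isIso @IsOpenImmersion _,
        fun y => ⟨PUnit.unit, y, AlgSp.Points.map_id y⟩⟩,
      fun _ => hqs⟩ hall
  have h2 : AlgSp.IsQuasiSeparatedSp ((AlgSp.yon S).obj M) := isQuasiSeparatedSp_of_iso e'.symm hqs
  have h3 : QuasiCompact (pullback.diagonal M.hom) :=
    (AlgSp.repWith_diag_yon_iff @QuasiCompact M).1 h2
  haveI : QuasiSeparated M.hom := (quasiSeparated_iff _).2 h3
  haveI : QuasiSeparatedSpace ↥M.left := quasiSeparatedSpace_of_quasiSeparated M.hom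
  exact ⟨M, e', Groth.Agent.R2.H25.DimZeroSch.isSeparated_of_allMax hmax,
    fun V hV => Groth.Agent.R2.H25.DimZeroSch.isAffineOpen_of_isCompact hmax V hV⟩

end Groth.Agent.R2.H25.DimZero
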