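import Mathlib
import Groth.Prelude.Def_AlgSpDec
import Groth.Agent.R2.H93ElemNbhd2
import Groth.Agent.R2.H25DecentCore

/-!
# Elementary étale neighbourhoods: the monomorphism criterion (helper25)
-/

set_option autoImplicit false
set_option linter.style.haveILetI false
universe u
open CategoryTheory CategoryTheory.Limits AlgebraicGeometry Topology TopologicalSpace

namespace Groth.Agent.R2.H25.ElemEx

open Groth.Agent.R2.H93.ElemNbhd

variable {S : Scheme.{u}}

/-- a map from a representable sheaf is a monomorphism as soon as it is injective on scheme-valued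
points. -/
lemma mono_of_yon_injective {X : AlgSp.Sp S} {Z : Over S} (f : (AlgSp.yon S).obj Z ⟶ X)
    (h : ∀ (T : Over S) (α β : T ⟶ Z),
      (AlgSp.yon S).map α ≫ f = (AlgSp.yon S).map β ≫ f → α = β) : Mono f := by
  have key : ∀ (T : Over S) (c : T ⟶ Z), (AlgSp.J S).uliftYonedaEquiv ((AlgSp.yon S).map c ≫ f) =
      f.hom.app (Opposite.op T) ⟨c⟩ := by
    intro T c
    rw [GrothendieckTopology.uliftYonedaEquiv_comp,
      GrothendieckTopology.uliftYonedaEquiv_uliftYoneda_map]
  haveI : ∀ T, Mono (f.hom.app T) := by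
    intro T
    rw [mono_iff_injective]
    rintro ⟨α⟩ ⟨β⟩ hαβ
    have h1 : f.hom.app (Opposite.op T.unop) ⟨α⟩ = f.hom.app (Opposite.op T.unop) ⟨β⟩ := hαβ
    rw [← key, ← key] at h1
    exact congrArg ULift.up (h _ α β ((AlgSp.J S).uliftYonedaEquiv.injective h1))
  haveI : Mono f.hom := NatTrans.mono_of_mono_app _
  exact (ObjectProperty.ι _).mono_of_mono_map (inferInstanceAs (Mono f.hom))

/-- the morphism of spectra of a residue field extension is flat. -/
lemma flat_specMap_residueFieldMap {A B : Scheme.{u}} (g : A ⟶ B) (x : ↥A) :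
    Flat (Spec.map (g.residueFieldMap x)) := by
  rw [HasRingHomProperty.Spec_iff (P := @Flat)]
  letI := (g.residueFieldMap x).hom.toAlgebra
  show Module.Flat _ _
  infer_instance

/-- the morphism of spectra of a residue field extension is surjective. -/
lemma surjective_specMap_residueFieldMap {A B : Scheme.{u}} (g : A ⟶ B) (x : ↥A) :
    Surjective (Spec.map (g.residueFieldMap x)) := by
  constructor
  intro y
  haveI : Nonempty (Spec (A.residueField x)) :=
    inferInstanceAs (Nonempty (PrimeSpectrum (A.residueField x)))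
  obtain ⟨z⟩ := ‹Nonempty (Spec (A.residueField x))›
  haveI : Subsingleton (Spec (B.residueField (g x))) :=
    inferInstanceAs (Subsingleton (PrimeSpectrum (B.residueField (g x))))
  exact ⟨z, Subsingleton.elim _ _⟩

/-- **The monomorphism criterion**: if `q : U' ⟶ M` is a cover, `R'` receives all pairs of points of
`U'` with the same image in `X`, and an open `P ⊆ R'` contained in the kernel pair of `q` contains
all points of `R'` over `(u', u')`, then `Spec κ(q u') ⟶ X` is a monomorphism. -/
theorem mono_ofPt_of_cover {X : AlgSp.Sp S} {M U' R' P : Over S} (q : U' ⟶ M)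
    (ā : (AlgSp.yon S).obj M ⟶ X) (s' t' : R' ⟶ U') (ιP : P ⟶ R') [IsOpenImmersion ιP.left]
    (hlift : ∀ (T : Over S) (α β : T ⟶ U'),
      (AlgSp.yon S).map α ≫ (AlgSp.yon S).map q ≫ ā =
        (AlgSp.yon S).map β ≫ (AlgSp.yon S).map q ≫ ā →
        ∃ r : T ⟶ R', r ≫ t' = α ∧ r ≫ s' = β)
    (hcoeq : (ιP ≫ t') ≫ q = (ιP ≫ s') ≫ q) (u' : ↥U'.left)
    (hfib : ∀ r' : ↥R'.left, s'.left r' = u' → t'.left r' = u' → r' ∈ Set.range ιP.left) :
    Mono (AlgSp.FieldPt.ofPt ā (q.left u')).toHom := by
  rw [mono_toHom_ofPt_iff]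
  apply mono_of_yon_injective
  intro T α β hαβ
  obtain ⟨w, hw, hwl⟩ := exists_resHom q u'
  haveI hwf : Flat w.left := by rw [hwl]; exact flat_specMap_residueFieldMap _ _
  haveI hws : Surjective w.left := by rw [hwl]; exact surjective_specMap_residueFieldMap _ _
  -- the first base change
  let π₁ : pullback α w ⟶ T := pullback.fst α w
  let α₁ : pullback α w ⟶ ptOver U' u' := pullback.snd α w
  have hsq₁ : IsPullback π₁.left α₁.left α.left w.left :=
    (IsPullback.of_hasPullback α w).map (Over.forget S)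
  haveI : Flat π₁.left := MorphismProperty.of_isPullback (P := @Flat) hsq₁.flip hwf
  haveI : Surjective π₁.left := MorphismProperty.of_isPullback (P := @Surjective) hsq₁.flip hws
  -- the second base change
  let π₂ : pullback (π₁ ≫ β) w ⟶ pullback α w := pullback.fst (π₁ ≫ β) w
  let β₂ : pullback (π₁ ≫ β) w ⟶ ptOver U' u' := pullback.snd (π₁ ≫ β) w
  have hsq₂ : IsPullback π₂.left β₂.left (π₁ ≫ β).left w.left :=
    (IsPullback.of_hasPullback (π₁ ≫ β) w).map (Over.forget S)
  haveI : Flat π₂.left := MorphismProperty.of_isPullback (P := @Flat) hsq₂.flip hwf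
  haveI : Surjective π₂.left := MorphismProperty.of_isPullback (P := @Surjective) hsq₂.flip hws
  let π := π₂ ≫ π₁
  let α₂ := π₂ ≫ α₁
  have hα₂ : π ≫ α = α₂ ≫ w := by
    show (π₂ ≫ π₁) ≫ α = (π₂ ≫ α₁) ≫ w
    rw [Category.assoc, Category.assoc]
    congr 1
    exact pullback.condition
  have hβ₂ : π ≫ β = β₂ ≫ w := by
    show (π₂ ≫ π₁) ≫ β = β₂ ≫ w
    rw [Category.assoc]
    exact pullback.condition
  haveI : Epi π.left := by
    show Epi ((π₂ ≫ π₁).left)
    rw [Over.comp_left]
    haveI : Flat (π₂.left ≫ π₁.left) := inferInstance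
    haveI : Surjective (π₂.left ≫ π₁.left) := inferInstance
    exact Flat.epi_of_flat_of_surjective _
  haveI : Epi π := Over.epi_of_epi_left π
  clear_value π α₂
  -- the two lifts to `U'` have the same image in `X`
  have hcomm : ∀ γ : pullback (π₁ ≫ β) w ⟶ ptOver U' u',
      (AlgSp.yon S).map (γ ≫ ptHom U' u') ≫ (AlgSp.yon S).map q ≫ ā =
        (AlgSp.yon S).map (γ ≫ w) ≫ (AlgSp.yon S).map (ptHom M (q.left u')) ≫ ā := by
    intro γ
    rw [← Category.assoc, ← Functor.map_comp, Category.assoc, ← hw, ← Category.assoc,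
      Functor.map_comp, Category.assoc]
  have hX : (AlgSp.yon S).map (α₂ ≫ ptHom U' u') ≫ (AlgSp.yon S).map q ≫ ā =
      (AlgSp.yon S).map (β₂ ≫ ptHom U' u') ≫ (AlgSp.yon S).map q ≫ ā := by
    rw [hcomm, hcomm, ← hα₂, ← hβ₂, Functor.map_comp _ π α, Functor.map_comp _ π β, Category.assoc,
      Category.assoc, hαβ]
  obtain ⟨r, hrt, hrs⟩ := hlift _ _ _ hX
  -- `r` factors through `P`
  have hrange : Set.range r.left ⊆ Set.range ιP.left := by
    rintro _ ⟨z, rfl⟩
    apply hfib
    · have h1 : (r ≫ s').left z = (β₂ ≫ ptHom U' u').left z := by rw [hrs]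
      rw [Over.comp_left, Over.comp_left] at h1
      refine h1.trans ?_
      show U'.left.fromSpecResidueField u' (β₂.left z) = u'
      exact Scheme.fromSpecResidueField_apply _ _
    · have h1 : (r ≫ t').left z = (α₂ ≫ ptHom U' u').left z := by rw [hrt]
      rw [Over.comp_left, Over.comp_left] at h1
      refine h1.trans ?_
      show U'.left.fromSpecResidueField u' (α₂.left z) = u'
      exact Scheme.fromSpecResidueField_apply _ _
  let rP₀ := IsOpenImmersion.lift ιP.left r.left hrange
  have hrP₀ : rP₀ ≫ ιP.left = r.left := IsOpenImmersion.lift_fac _ _ _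
  let rP : pullback (π₁ ≫ β) w ⟶ P := Over.homMk rP₀ (by
    rw [← Over.w ιP, ← Category.assoc, hrP₀, Over.w r])
  have hrP : rP ≫ ιP = r := Over.OverMorphism.ext hrP₀
  -- conclusion
  have h1 : (α₂ ≫ ptHom U' u') ≫ q = (β₂ ≫ ptHom U' u') ≫ q := by
    rw [← hrt, ← hrs, ← hrP, Category.assoc, Category.assoc, Category.assoc, Category.assoc,
      ← Category.assoc ιP, ← Category.assoc ιP, hcoeq]
  have h3 : (α₂ ≫ w) ≫ ptHom M (q.left u') = (β₂ ≫ w) ≫ ptHom M (q.left u') := by
    rw [Category.assoc, Category.assoc, hw, ← Category.assoc, ← Category.assoc]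
    exact h1
  have h2 : α₂ ≫ w = β₂ ≫ w := (cancel_mono _).1 h3
  rw [← hα₂, ← hβ₂] at h2
  exact (cancel_epi π).1 h2

end Groth.Agent.R2.H25.ElemEx
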