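import Mathlib
import Groth.Prelude.Def_Grpd
import Groth.Agent.Lib.Helper2Grpd

/-!
# Restriction of a groupoid scheme along monomorphisms, and to an invariant open (helper53)

* `RestrData₂ G ιU ιR`: factorisations of the structure maps of `G` through monomorphisms
  `ιU : U' ⟶ G.U`, `ιR : R' ⟶ G.R`; `restrict₂ D` is the induced groupoid scheme on `(U', R')` and
  `restrictHom₂ D : Hom (restrict₂ D) G`.
* `restrictOpen G W hW` for an open `W ⊆ U` with `s⁻¹ W = t⁻¹ W`: the groupoid on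
  `(W, s⁻¹ W)`; `restrictOpenι`, `restrictOpenHom` (for `W ≤ W'`), cartesian squares.
-/

set_option autoImplicit false
set_option linter.unusedSectionVars false
universe u

open CategoryTheory CategoryTheory.Limits AlgebraicGeometry
open Groth.Agent.Lib.Helper2.Grpd

namespace Groth.Agent.R2.H53.GrpdRestr

variable {S : Scheme.{u}} (G : Grpd.GroupoidScheme S) {U' R' : Scheme.{u}}
  (ιU : U' ⟶ G.U) (ιR : R' ⟶ G.R)

/-- Factorisations of all the structure maps through `ιU`, `ιR`. -/
structure RestrData₂ where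
  s' : R' ⟶ U'
  t' : R' ⟶ U'
  hs : s' ≫ ιU = ιR ≫ G.s
  ht : t' ≫ ιU = ιR ≫ G.t
  e' : U' ⟶ R'
  he : e' ≫ ιR = ιU ≫ G.e
  i' : R' ⟶ R'
  hi : i' ≫ ιR = ιR ≫ G.i
  c' : pullback s' t' ⟶ R'
  hc : c' ≫ ιR = pullback.map s' t' G.s G.t ιR ιR ιU hs ht ≫ G.c

variable {G ιU ιR}

lemma RestrData₂.lift_c_ι (D : RestrData₂ G ιU ιR) {T : Scheme.{u}} (α β : T ⟶ R')
    (h : α ≫ D.s' = β ≫ D.t') :
    (pullback.lift α β h ≫ D.c') ≫ ιR =
      comp G (α ≫ ιR) (β ≫ ιR) (by
        rw [Category.assoc, Category.assoc, ← D.hs, ← D.ht, ← Category.assoc, ← Category.assoc, h]) := by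
  rw [Category.assoc, D.hc, ← Category.assoc]
  unfold comp
  congr 1
  apply pullback.hom_ext
  · rw [Category.assoc, pullback.lift_fst, pullback.lift_fst_assoc, pullback.lift_fst]
  · rw [Category.assoc, pullback.lift_snd, pullback.lift_snd_assoc, pullback.lift_snd]

variable [Mono ιU] [Mono ιR]

/-- The restricted groupoid scheme. -/
noncomputable def restrict₂ (D : RestrData₂ G ιU ιR) : Grpd.GroupoidScheme S where
  U := U'
  R := R'
  pU := ιU ≫ G.pU
  pR := ιR ≫ G.pR
  s := D.s'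
  t := D.t'
  e := D.e'
  i := D.i'
  c := D.c'
  s_over := by rw [← Category.assoc, D.hs, Category.assoc, G.s_over]
  t_over := by rw [← Category.assoc, D.ht, Category.assoc, G.t_over]
  comp_s := fun α β h => by
    rw [← cancel_mono ιU, Category.assoc, D.hs, ← Category.assoc, D.lift_c_ι α β h, comp_s,
      Category.assoc, Category.assoc, D.hs]
  comp_t := fun α β h => by
    rw [← cancel_mono ιU, Category.assoc, D.ht, ← Category.assoc, D.lift_c_ι α β h, comp_t,
      Category.assoc, Category.assoc, D.ht]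
  assoc := fun α β γ h₁ h₂ => by
    rw [← cancel_mono ιR]
    refine (D.lift_c_ι _ _ _).trans (Eq.trans ?_ (D.lift_c_ι _ _ _).symm)
    rw [comp_congr G _ (D.lift_c_ι α β h₁) rfl, comp_congr G _ rfl (D.lift_c_ι β γ h₂)]
    exact comp_assoc G _ _ _ _ _
  e_s := by rw [← cancel_mono ιU, Category.assoc, D.hs, ← Category.assoc, D.he, Category.assoc, G.e_s,
    Category.comp_id, Category.id_comp]
  e_t := by rw [← cancel_mono ιU, Category.assoc, D.ht, ← Category.assoc, D.he, Category.assoc, G.e_t,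
    Category.comp_id, Category.id_comp]
  comp_e := fun α => by
    rw [← cancel_mono ιR, D.lift_c_ι]
    exact comp_e G _ _ (by simp only [Category.assoc, D.he]; rw [← Category.assoc D.s', D.hs,
      Category.assoc]) _
  e_comp := fun α => by
    rw [← cancel_mono ιR, D.lift_c_ι]
    exact e_comp G _ _ (by simp only [Category.assoc, D.he]; rw [← Category.assoc D.t', D.ht,
      Category.assoc]) _
  i_s := by rw [← cancel_mono ιU, Category.assoc, D.hs, ← Category.assoc, D.hi, Category.assoc, G.i_s,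
    D.ht]
  i_t := by rw [← cancel_mono ιU, Category.assoc, D.ht, ← Category.assoc, D.hi, Category.assoc, G.i_t,
    D.hs]
  comp_i := fun α => by
    rw [← cancel_mono ιR, D.lift_c_ι]
    have e1 : (α ≫ D.i') ≫ ιR = (α ≫ ιR) ≫ G.i := by simp only [Category.assoc, D.hi]
    rw [comp_congr G _ rfl e1, comp_i]
    simp only [Category.assoc, D.he]
    rw [← Category.assoc D.t', D.ht, Category.assoc]
  i_comp := fun α => by
    rw [← cancel_mono ιR, D.lift_c_ι]
    have e1 : (α ≫ D.i') ≫ ιR = (α ≫ ιR) ≫ G.i := by simp only [Category.assoc, D.hi]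
    rw [comp_congr G _ e1 rfl, i_comp]
    simp only [Category.assoc, D.he]
    rw [← Category.assoc D.s', D.hs, Category.assoc]

/-- The inclusion of the restricted groupoid scheme. -/
noncomputable def restrictHom₂ (D : RestrData₂ G ιU ιR) :
    Grpd.GroupoidScheme.Hom (restrict₂ D) G where
  fU := ιU
  fR := ιR
  fU_over := rfl
  comm_s := D.hs.symm
  comm_t := D.ht.symm
  comm_c := fun α β h => D.lift_c_ι α β h

section Map
variable {U'' R'' : Scheme.{u}} {ιU' : U'' ⟶ G.U} {ιR' : R'' ⟶ G.R} [Mono ιU'] [Mono ιR']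
  (D : RestrData₂ G ιU ιR) (D' : RestrData₂ G ιU' ιR')
  (a : U' ⟶ U'') (b : R' ⟶ R'') (ha : a ≫ ιU' = ιU) (hb : b ≫ ιR' = ιR)

include ha hb in
lemma restrictMap₂_comm_s : b ≫ D'.s' = D.s' ≫ a := by
  rw [← cancel_mono ιU', Category.assoc, D'.hs, ← Category.assoc, hb, Category.assoc, ha, D.hs]

include ha hb in
lemma restrictMap₂_comm_t : b ≫ D'.t' = D.t' ≫ a := by
  rw [← cancel_mono ιU', Category.assoc, D'.ht, ← Category.assoc, hb, Category.assoc, ha, D.ht]

include hb in
lemma restrictMap₂_comm_c {T : Scheme.{u}} (α β : T ⟶ R') (h : α ≫ D.s' = β ≫ D.t')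
    (h' : (α ≫ b) ≫ D'.s' = (β ≫ b) ≫ D'.t') :
    (pullback.lift α β h ≫ D.c') ≫ b = pullback.lift (α ≫ b) (β ≫ b) h' ≫ D'.c' := by
  rw [← cancel_mono ιR', Category.assoc, hb, D.lift_c_ι α β h, D'.lift_c_ι]
  exact comp_congr G _ (by rw [Category.assoc, hb]) (by rw [Category.assoc, hb])

/-- A morphism between two restrictions, from compatible maps. -/
noncomputable def restrictMap₂ : Grpd.GroupoidScheme.Hom (restrict₂ D) (restrict₂ D') where
  fU := a
  fR := b
  fU_over := by
    show a ≫ ιU' ≫ G.pU = ιU ≫ G.pU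
    rw [← Category.assoc, ha]
  comm_s := restrictMap₂_comm_s D D' a b ha hb
  comm_t := restrictMap₂_comm_t D D' a b ha hb
  comm_c := fun α β h => restrictMap₂_comm_c D D' b hb α β h _

end Map

omit [Mono ιU] in
lemma eq_of_comp_s_t (D : RestrData₂ G ιU ιR) [Mono G.j] {T : Scheme.{u}} (φ ψ : T ⟶ R')
    (ht : φ ≫ D.t' = ψ ≫ D.t') (hs : φ ≫ D.s' = ψ ≫ D.s') : φ = ψ := by
  have key : (φ ≫ ιR) ≫ G.j = (ψ ≫ ιR) ≫ G.j := by
    apply pullback.hom_ext
    · simp only [Category.assoc, Grpd.GroupoidScheme.j, pullback.lift_fst]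
      rw [← D.ht, ← Category.assoc, ← Category.assoc, ht]
    · simp only [Category.assoc, Grpd.GroupoidScheme.j, pullback.lift_snd]
      rw [← D.hs, ← Category.assoc, ← Category.assoc, hs]
  have := (cancel_mono G.j).mp key
  exact (cancel_mono ιR).mp this

/-- `j` of a restriction is a monomorphism if `j` is. -/
theorem mono_j_restrict₂ (D : RestrData₂ G ιU ιR) [Mono G.j] : Mono (restrict₂ D).j := by
  constructor
  intro T φ ψ h
  have ht : φ ≫ (restrict₂ D).t = ψ ≫ (restrict₂ D).t := by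
    have := congrArg (· ≫ pullback.fst _ _) h
    simp only [Category.assoc, Grpd.GroupoidScheme.j, pullback.lift_fst] at this
    exact this
  have hs : φ ≫ (restrict₂ D).s = ψ ≫ (restrict₂ D).s := by
    have := congrArg (· ≫ pullback.snd _ _) h
    simp only [Category.assoc, Grpd.GroupoidScheme.j, pullback.lift_snd] at this
    exact this
  exact eq_of_comp_s_t D φ ψ ht hs

section Open
variable (G) (W : G.U.Opens) (hW : G.s ⁻¹ᵁ W = G.t ⁻¹ᵁ W)

/-- `c (α, β)` has the source of `β`, universally. -/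
lemma c_s_univ : G.c ≫ G.s = pullback.snd G.s G.t ≫ G.s := by
  have h := G.comp_s (pullback.fst G.s G.t) (pullback.snd G.s G.t) pullback.condition
  have e : pullback.lift (pullback.fst G.s G.t) (pullback.snd G.s G.t) pullback.condition =
      𝟙 (pullback G.s G.t) := by
    apply pullback.hom_ext <;> simp
  rw [e, Category.id_comp] at h
  exact h

/-- the restriction data of an invariant open. -/
noncomputable def openData : RestrData₂ G W.ι (G.s ⁻¹ᵁ W).ι where
  s' := G.s.resLE W (G.s ⁻¹ᵁ W) le_rfl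
  t' := G.t.resLE W (G.s ⁻¹ᵁ W) hW.le
  hs := Scheme.Hom.resLE_comp_ι _ _
  ht := Scheme.Hom.resLE_comp_ι _ _
  e' := G.e.resLE (G.s ⁻¹ᵁ W) W (by rw [← Scheme.Hom.comp_preimage, G.e_s, Scheme.Hom.id_preimage])
  he := Scheme.Hom.resLE_comp_ι _ _
  i' := G.i.resLE (G.s ⁻¹ᵁ W) (G.s ⁻¹ᵁ W) (by rw [← Scheme.Hom.comp_preimage, G.i_s, hW])
  hi := Scheme.Hom.resLE_comp_ι _ _
  c' := IsOpenImmersion.lift (G.s ⁻¹ᵁ W).ι
    (pullback.map _ _ G.s G.t (G.s ⁻¹ᵁ W).ι (G.s ⁻¹ᵁ W).ι W.ι (Scheme.Hom.resLE_comp_ι _ _)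
      (Scheme.Hom.resLE_comp_ι _ _) ≫ G.c) (by
      rintro _ ⟨x, rfl⟩
      rw [Scheme.Opens.range_ι]
      show _ ∈ W
      have h1 : (pullback.map (G.s.resLE W (G.s ⁻¹ᵁ W) le_rfl) (G.t.resLE W (G.s ⁻¹ᵁ W) hW.le) G.s G.t
          (G.s ⁻¹ᵁ W).ι (G.s ⁻¹ᵁ W).ι W.ι (Scheme.Hom.resLE_comp_ι _ _)
          (Scheme.Hom.resLE_comp_ι _ _) ≫ G.c) ≫ G.s =
          (pullback.snd _ _ ≫ G.s.resLE W (G.s ⁻¹ᵁ W) le_rfl) ≫ W.ι := by
        rw [Category.assoc, c_s_univ, ← Category.assoc, pullback.lift_snd, Category.assoc,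
          Category.assoc, Scheme.Hom.resLE_comp_ι]
      have h2 := congrArg (fun φ => φ x) h1
      simp only [Scheme.Hom.comp_apply] at h2
      rw [Scheme.Hom.comp_apply]
      rw [h2]
      exact ((pullback.snd _ _ ≫ G.s.resLE W (G.s ⁻¹ᵁ W) le_rfl) x).2)
  hc := IsOpenImmersion.lift_fac _ _ _

/-- the restriction of a groupoid scheme to an invariant open. -/
noncomputable def restrictOpen : Grpd.GroupoidScheme S := restrict₂ (openData G W hW)

/-- the inclusion of the restriction. -/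
noncomputable def restrictOpenι : Grpd.GroupoidScheme.Hom (restrictOpen G W hW) G :=
  restrictHom₂ (openData G W hW)

@[simp] lemma restrictOpen_U : (restrictOpen G W hW).U = (W : Scheme.{u}) := rfl
@[simp] lemma restrictOpen_R : (restrictOpen G W hW).R = ((G.s ⁻¹ᵁ W : G.R.Opens) : Scheme.{u}) := rfl
lemma restrictOpen_s : (restrictOpen G W hW).s = G.s.resLE W (G.s ⁻¹ᵁ W) le_rfl := rfl
lemma restrictOpen_t : (restrictOpen G W hW).t = G.t.resLE W (G.s ⁻¹ᵁ W) hW.le := rfl
lemma restrictOpenι_fU : (restrictOpenι G W hW).fU = W.ι := rfl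
lemma restrictOpenι_fR : (restrictOpenι G W hW).fR = (G.s ⁻¹ᵁ W).ι := rfl

/-- the `s`-square of the restriction is cartesian. -/
theorem isPullback_restrictOpenι_s :
    IsPullback (restrictOpenι G W hW).fR (restrictOpen G W hW).s G.s (restrictOpenι G W hW).fU := by
  refine (IsOpenImmersion.isPullback (G.s.resLE W (G.s ⁻¹ᵁ W) le_rfl) (G.s ⁻¹ᵁ W).ι W.ι G.s
    (Scheme.Hom.resLE_comp_ι _ _).symm ?_).flip
  simp

/-- the `t`-square of the restriction is cartesian. -/
theorem isPullback_restrictOpenι_t :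
    IsPullback (restrictOpenι G W hW).fR (restrictOpen G W hW).t G.t (restrictOpenι G W hW).fU := by
  refine (IsOpenImmersion.isPullback (G.t.resLE W (G.s ⁻¹ᵁ W) hW.le) (G.s ⁻¹ᵁ W).ι W.ι G.t
    (Scheme.Hom.resLE_comp_ι _ _).symm ?_).flip
  simp [hW]

theorem restrictOpen_s_prop (P : MorphismProperty Scheme.{u}) [P.IsStableUnderBaseChange]
    (h : P G.s) : P (restrictOpen G W hW).s :=
  P.of_isPullback (isPullback_restrictOpenι_s G W hW) h

theorem restrictOpen_t_prop (P : MorphismProperty Scheme.{u}) [P.IsStableUnderBaseChange]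
    (h : P G.t) : P (restrictOpen G W hW).t :=
  P.of_isPullback (isPullback_restrictOpenι_t G W hW) h

theorem isAffine_restrictOpen_U (hWa : IsAffineOpen W) : IsAffine (restrictOpen G W hW).U := hWa

theorem isAffine_restrictOpen_R [IsAffineHom G.s] (hWa : IsAffineOpen W) :
    IsAffine (restrictOpen G W hW).R := hWa.preimage G.s

theorem mono_j_restrictOpen [Mono G.j] : Mono (restrictOpen G W hW).j :=
  mono_j_restrict₂ (openData G W hW)

variable {W} {W' : G.U.Opens} (hW' : G.s ⁻¹ᵁ W' = G.t ⁻¹ᵁ W')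

/-- the morphism between the restrictions to `W ≤ W'`. -/
noncomputable def restrictOpenHom (h : W ≤ W') :
    Grpd.GroupoidScheme.Hom (restrictOpen G W hW) (restrictOpen G W' hW') :=
  restrictMap₂ (openData G W hW) (openData G W' hW') (G.U.homOfLE h)
    (G.R.homOfLE (G.s.preimage_mono h)) (Scheme.homOfLE_ι _ _) (Scheme.homOfLE_ι _ _)

lemma restrictOpenHom_fU (h : W ≤ W') : (restrictOpenHom G hW hW' h).fU = G.U.homOfLE h := rfl
lemma restrictOpenHom_fR (h : W ≤ W') :
    (restrictOpenHom G hW hW' h).fR = G.R.homOfLE (G.s.preimage_mono h) := rfl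

theorem isPullback_restrictOpenHom_s (h : W ≤ W') :
    IsPullback (restrictOpenHom G hW hW' h).fR (restrictOpen G W hW).s (restrictOpen G W' hW').s
      (restrictOpenHom G hW hW' h).fU := by
  refine IsPullback.of_right ?_ (restrictOpenHom G hW hW' h).comm_s
    (isPullback_restrictOpenι_s G W' hW')
  have := isPullback_restrictOpenι_s G W hW
  convert this using 1
  · exact Scheme.homOfLE_ι G.R (G.s.preimage_mono h)
  · exact Scheme.homOfLE_ι G.U h

theorem isPullback_restrictOpenHom_t (h : W ≤ W') :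
    IsPullback (restrictOpenHom G hW hW' h).fR (restrictOpen G W hW).t (restrictOpen G W' hW').t
      (restrictOpenHom G hW hW' h).fU := by
  refine IsPullback.of_right ?_ (restrictOpenHom G hW hW' h).comm_t
    (isPullback_restrictOpenι_t G W' hW')
  have := isPullback_restrictOpenι_t G W hW
  convert this using 1
  · exact Scheme.homOfLE_ι G.R (G.s.preimage_mono h)
  · exact Scheme.homOfLE_ι G.U h

end Open

end Groth.Agent.R2.H53.GrpdRestr
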