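import Mathlib
import Groth.Prelude.Def_Grpd

/-!
# PROJ:grpd-split (helper84): package specifications

Goal: S12202, S12203, S19957 (étale localization of a groupoid scheme to a quasi-split / strongly
split / split one).  This file only fixes the statements of the independent packages.

* `LiftRes g p t` / `WRStmt`  — [WR]  the "Weil restriction" `Res ⟶ U₁` of `V ×_{t,U,g} U₁ ⟶ V` along a finite
  locally free `p : V ⟶ U₁` (representing, on affine `U₁`-schemes `T`, morphisms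
  `b : V ×_{U₁} T ⟶ U₁` with `b ≫ g = pr₁ ≫ t`), affine and étale over `U₁` when `g` is étale.
* `PTStmt` — [PT] the fibre of `Res ⟶ U₁` over a point `u₁` with `g⁻¹(g u₁) = {u₁}`, trivial residue
  field extension, all of whose `V`-fibre maps to `g u₁` under `t`, is exactly one point with trivial
  residue field extension.
* `ShrinkStmt` — [SHRINK] from an open `Ω ⊆ R` finite over `U` via `s` that is closed under the groupoid
  operations over one point `u`, to a basic open neighbourhood of `u` over which it is a subgroupoid.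
-/

set_option autoImplicit false
universe u
open CategoryTheory CategoryTheory.Limits AlgebraicGeometry

namespace Groth.Agent.R2.H84.GrpdSplitSpec

/-- [WR] data. -/
structure LiftRes {U U₁ V : Scheme.{u}} (g : U₁ ⟶ U) (p : V ⟶ U₁) (t : V ⟶ U) where
  Res : Scheme.{u}
  r : Res ⟶ U₁
  ev : pullback p r ⟶ U₁
  ev_g : ev ≫ g = pullback.fst p r ≫ t
  isAffine : IsAffine Res
  etale : Etale r
  exists_lift : ∀ (T : Scheme.{u}) [IsAffine T] (a : T ⟶ U₁) (b : pullback p a ⟶ U₁),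
    b ≫ g = pullback.fst p a ≫ t →
    ∃ (c : T ⟶ Res) (hc : c ≫ r = a),
      pullback.map p a p r (𝟙 V) c (𝟙 U₁) (by rw [Category.comp_id, Category.id_comp])
        (by rw [Category.comp_id, hc]) ≫ ev = b
  lift_unique : ∀ (T : Scheme.{u}) [IsAffine T] (c c' : T ⟶ Res) (hcc : c ≫ r = c' ≫ r),
    pullback.map p (c ≫ r) p r (𝟙 V) c (𝟙 U₁) (by rw [Category.comp_id, Category.id_comp])
        (by rw [Category.comp_id]) ≫ ev =
      pullback.map p (c ≫ r) p r (𝟙 V) c' (𝟙 U₁) (by rw [Category.comp_id, Category.id_comp])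
        (by rw [Category.comp_id, hcc]) ≫ ev → c = c'

/-- [WR] -/
def WRStmt : Prop :=
  ∀ {U U₁ V : Scheme.{u}} [IsAffine U] [IsAffine U₁] (g : U₁ ⟶ U) [Etale g]
    (p : V ⟶ U₁) [IsFinite p] [Flat p] [LocallyOfFinitePresentation p] (t : V ⟶ U),
    Nonempty (LiftRes g p t)

/-- [PT] -/
def PTStmt : Prop :=
  ∀ {U U₁ V : Scheme.{u}} [IsAffine U] [IsAffine U₁] (g : U₁ ⟶ U) [Etale g]
    (p : V ⟶ U₁) [IsFinite p] [Flat p] [LocallyOfFinitePresentation p] (t : V ⟶ U)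
    (L : LiftRes g p t) (u₁ : U₁)
    (_ : Function.Bijective (g.residueFieldMap u₁))
    (_ : ∀ x : U₁, g x = g u₁ → x = u₁)
    (_ : ∀ v : V, p v = u₁ → t v = g u₁),
    ∃ u' : L.Res, L.r u' = u₁ ∧ Function.Bijective (L.r.residueFieldMap u') ∧
      ∀ y : L.Res, L.r y = u₁ → y = u'

/-- [SHRINK] -/
def ShrinkStmt : Prop :=
  ∀ {S : Scheme.{u}} (G : Grpd.GroupoidScheme S) [IsAffine G.U] [Flat G.s]
    [LocallyOfFinitePresentation G.s] (Ω : G.R.Opens) [IsFinite (Ω.ι ≫ G.s)] (u : G.U)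
    (_ : G.e u ∈ Ω)
    (_ : ∀ ω ∈ Ω, G.s ω = u → G.t ω = u)
    (_ : ∀ ω ∈ Ω, G.s ω = u → G.i ω ∈ Ω)
    (_ : ∀ z : ↥(pullback G.s G.t), pullback.fst G.s G.t z ∈ Ω → pullback.snd G.s G.t z ∈ Ω →
      G.s (pullback.snd G.s G.t z) = u → G.c z ∈ Ω),
    ∃ f : Γ(G.U, ⊤), u ∈ G.U.basicOpen f ∧
      (∀ x ∈ G.U.basicOpen f, G.e x ∈ Ω) ∧
      (∀ ω ∈ Ω, G.s ω ∈ G.U.basicOpen f → G.t ω ∈ G.U.basicOpen f ∧ G.i ω ∈ Ω) ∧
      (∀ z : ↥(pullback G.s G.t), pullback.fst G.s G.t z ∈ Ω → pullback.snd G.s G.t z ∈ Ω →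
        G.s (pullback.snd G.s G.t z) ∈ G.U.basicOpen f → G.c z ∈ Ω)

end Groth.Agent.R2.H84.GrpdSplitSpec
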