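import Mathlib
import Groth.Prelude.Def_Grpd
import Groth.Agent.R2.H84GrpdSplitSpec
import Groth.Agent.R2.H33GrpdInvOpen

/-!
# PROJ:grpd-split, package [SHRINK] (helper33)

`shrinkStmt : ShrinkStmt` — an open `Ω ⊆ R`, finite (and flat, of finite presentation) over `U` via `s`, which
is closed under the groupoid operations over one point `u`, is a subgroupoid over a basic open
neighbourhood `D(f)` of `u`.

The three "bad loci" (where `e` leaves `Ω`, where `i` leaves `Ω`, where `c` leaves `Ω`) are closed in `U`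
because `Ω ⟶ U` and `Ω ×_{s,U,t} Ω ⟶ U` are finite; choose `D(f₀) ∋ u` missing them and put
`f := f₀ * N`, `N` the norm of `t^♯ f₀` along `Ω ⟶ U` (`GrpdInvOpen.exists_norm_open`).
-/

set_option autoImplicit false
set_option linter.style.haveILetI false
universe u

open CategoryTheory CategoryTheory.Limits AlgebraicGeometry TopologicalSpace

namespace Groth.Agent.R2.H33.GrpdSplitShrink

open Groth.Agent.R2.H84.GrpdSplitSpec Groth.Agent.R2.H33.GrpdInvOpen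

section pts

variable {S : Scheme.{u}} (G : Grpd.GroupoidScheme S)

theorem s_c_pt (z : ↥(pullback G.s G.t)) : G.s (G.c z) = G.s (pullback.snd G.s G.t z) := by
  have := congrArg (fun φ : pullback G.s G.t ⟶ G.U => φ z) (Groth.Agent.R2.H33.GrpdShear.c_s G)
  simpa only [Scheme.Hom.comp_apply] using this

theorem t_c_pt (z : ↥(pullback G.s G.t)) : G.t (G.c z) = G.t (pullback.fst G.s G.t z) := by
  have := congrArg (fun φ : pullback G.s G.t ⟶ G.U => φ z) (Groth.Agent.R2.H33.GrpdShear.c_t G)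
  simpa only [Scheme.Hom.comp_apply] using this

/-- where the identity leaves `Ω` -/
theorem isClosed_badId (Ω : G.R.Opens) : IsClosed {x : G.U | G.e x ∉ Ω} :=
  (isClosed_compl_iff.2 Ω.isOpen).preimage G.e.continuous

/-- where the inverse leaves `Ω` -/
theorem isClosed_badInv (Ω : G.R.Opens) [IsFinite (Ω.ι ≫ G.s)] :
    IsClosed {x : G.U | ∃ ω : G.R, ω ∈ Ω ∧ G.i ω ∉ Ω ∧ G.s ω = x} := by
  have h1 : IsClosed ((Ω.ι ≫ G.i) ⁻¹' ((Ω : Set G.R)ᶜ)) :=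
    (isClosed_compl_iff.2 Ω.isOpen).preimage (Ω.ι ≫ G.i).continuous
  have h2 := (Ω.ι ≫ G.s).isClosedMap _ h1
  convert h2 using 1
  ext x
  constructor
  · rintro ⟨ω, hω, hiω, rfl⟩
    refine ⟨⟨ω, hω⟩, ?_, ?_⟩
    · change (Ω.ι ≫ G.i) ⟨ω, hω⟩ ∉ (Ω : Set G.R)
      rw [Scheme.Hom.comp_apply]
      exact hiω
    · rw [Scheme.Hom.comp_apply]
      rfl
  · rintro ⟨ω', hω', rfl⟩
    refine ⟨Ω.ι ω', ω'.2, ?_, ?_⟩
    · have : (Ω.ι ≫ G.i) ω' ∉ (Ω : Set G.R) := hω'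
      rwa [Scheme.Hom.comp_apply] at this
    · rw [Scheme.Hom.comp_apply]

/-- where the composition leaves `Ω` -/
theorem isClosed_badComp (Ω : G.R.Opens) [IsFinite (Ω.ι ≫ G.s)] :
    IsClosed {x : G.U | ∃ z : ↥(pullback G.s G.t), pullback.fst G.s G.t z ∈ Ω ∧
      pullback.snd G.s G.t z ∈ Ω ∧ G.c z ∉ Ω ∧ G.s (pullback.snd G.s G.t z) = x} := by
  have e₁ : (Ω.ι ≫ G.s) ≫ 𝟙 G.U = Ω.ι ≫ G.s := Category.comp_id _
  have e₂ : (Ω.ι ≫ G.t) ≫ 𝟙 G.U = Ω.ι ≫ G.t := Category.comp_id _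
  haveI : IsFinite (pullback.snd (Ω.ι ≫ G.s) (Ω.ι ≫ G.t)) :=
    MorphismProperty.pullback_snd (P := @IsFinite) _ _ inferInstance
  haveI : IsFinite (pullback.snd (Ω.ι ≫ G.s) (Ω.ι ≫ G.t) ≫ Ω.ι ≫ G.s) := inferInstance
  have hrange := Scheme.Pullback.range_map (f := Ω.ι ≫ G.s) (g := Ω.ι ≫ G.t) G.s G.t Ω.ι Ω.ι
    (𝟙 G.U) e₁ e₂
  have hfst : ∀ z' : ↥(pullback (Ω.ι ≫ G.s) (Ω.ι ≫ G.t)),
      pullback.fst G.s G.t (pullback.map (Ω.ι ≫ G.s) (Ω.ι ≫ G.t) G.s G.t Ω.ι Ω.ι (𝟙 G.U) e₁ e₂ z') =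
        Ω.ι (pullback.fst (Ω.ι ≫ G.s) (Ω.ι ≫ G.t) z') := by
    intro z'
    rw [← Scheme.Hom.comp_apply, ← Scheme.Hom.comp_apply, pullback.lift_fst]
  have hsnd : ∀ z' : ↥(pullback (Ω.ι ≫ G.s) (Ω.ι ≫ G.t)),
      pullback.snd G.s G.t (pullback.map (Ω.ι ≫ G.s) (Ω.ι ≫ G.t) G.s G.t Ω.ι Ω.ι (𝟙 G.U) e₁ e₂ z') =
        Ω.ι (pullback.snd (Ω.ι ≫ G.s) (Ω.ι ≫ G.t) z') := by
    intro z'
    rw [← Scheme.Hom.comp_apply, ← Scheme.Hom.comp_apply, pullback.lift_snd]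
  have h1 : IsClosed ((pullback.map (Ω.ι ≫ G.s) (Ω.ι ≫ G.t) G.s G.t Ω.ι Ω.ι (𝟙 G.U) e₁ e₂ ≫ G.c) ⁻¹'
      ((Ω : Set G.R)ᶜ)) :=
    (isClosed_compl_iff.2 Ω.isOpen).preimage
      (pullback.map (Ω.ι ≫ G.s) (Ω.ι ≫ G.t) G.s G.t Ω.ι Ω.ι (𝟙 G.U) e₁ e₂ ≫ G.c).continuous
  have h2 := (pullback.snd (Ω.ι ≫ G.s) (Ω.ι ≫ G.t) ≫ Ω.ι ≫ G.s).isClosedMap _ h1
  convert h2 using 1
  ext x
  constructor
  · rintro ⟨z, hz1, hz2, hcz, rfl⟩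
    have hz : z ∈ Set.range (pullback.map (Ω.ι ≫ G.s) (Ω.ι ≫ G.t) G.s G.t Ω.ι Ω.ι (𝟙 G.U) e₁ e₂) := by
      rw [hrange]
      refine ⟨?_, ?_⟩
      · change pullback.fst G.s G.t z ∈ Set.range Ω.ι
        rw [Scheme.Opens.range_ι]; exact hz1
      · change pullback.snd G.s G.t z ∈ Set.range Ω.ι
        rw [Scheme.Opens.range_ι]; exact hz2
    obtain ⟨z', rfl⟩ := hz
    refine ⟨z', ?_, ?_⟩
    · change (pullback.map (Ω.ι ≫ G.s) (Ω.ι ≫ G.t) G.s G.t Ω.ι Ω.ι (𝟙 G.U) e₁ e₂ ≫ G.c) z' ∉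
        (Ω : Set G.R)
      rw [Scheme.Hom.comp_apply]
      exact hcz
    · rw [hsnd, Scheme.Hom.comp_apply, Scheme.Hom.comp_apply]
  · rintro ⟨z', hz', rfl⟩
    refine ⟨pullback.map (Ω.ι ≫ G.s) (Ω.ι ≫ G.t) G.s G.t Ω.ι Ω.ι (𝟙 G.U) e₁ e₂ z', ?_, ?_, ?_, ?_⟩
    · rw [hfst]; exact (pullback.fst (Ω.ι ≫ G.s) (Ω.ι ≫ G.t) z').2
    · rw [hsnd]; exact (pullback.snd (Ω.ι ≫ G.s) (Ω.ι ≫ G.t) z').2
    · have : (pullback.map (Ω.ι ≫ G.s) (Ω.ι ≫ G.t) G.s G.t Ω.ι Ω.ι (𝟙 G.U) e₁ e₂ ≫ G.c) z' ∉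
          (Ω : Set G.R) := hz'
      rwa [Scheme.Hom.comp_apply] at this
    · rw [hsnd, Scheme.Hom.comp_apply, Scheme.Hom.comp_apply]

end pts

/-- **[SHRINK]** -/
theorem shrinkStmt : ShrinkStmt.{u} := by
  intro S G _ _ _ Ω _ u heu htu hiu hcu
  classical
  haveI : Flat (Ω.ι ≫ G.s) := inferInstance
  haveI : LocallyOfFinitePresentation (Ω.ι ≫ G.s) := inferInstance
  -- the complement of the bad loci
  let W : G.U.Opens := ⟨({x : G.U | G.e x ∉ Ω} ∪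
      {x : G.U | ∃ ω : G.R, ω ∈ Ω ∧ G.i ω ∉ Ω ∧ G.s ω = x} ∪
      {x : G.U | ∃ z : ↥(pullback G.s G.t), pullback.fst G.s G.t z ∈ Ω ∧
        pullback.snd G.s G.t z ∈ Ω ∧ G.c z ∉ Ω ∧ G.s (pullback.snd G.s G.t z) = x})ᶜ,
    (((isClosed_badId G Ω).union (isClosed_badInv G Ω)).union (isClosed_badComp G Ω)).isOpen_compl⟩
  have huW : u ∈ W := by
    rintro ((h | h) | h)
    · exact h heu
    · obtain ⟨ω, hω, hiω, hsω⟩ := h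
      exact hiω (hiu ω hω hsω)
    · obtain ⟨z, hz1, hz2, hcz, hsz⟩ := h
      exact hcz (hcu z hz1 hz2 hsz)
  obtain ⟨_, ⟨f₀, rfl⟩, huf₀, hf₀W⟩ :=
    Opens.isBasis_iff_nbhd.1 (isBasis_basicOpen G.U) huW
  -- consequences over `D(f₀)`
  have he₀ : ∀ x ∈ G.U.basicOpen f₀, G.e x ∈ Ω := by
    intro x hx
    by_contra hcon
    exact hf₀W hx (Or.inl (Or.inl hcon))
  have hi₀ : ∀ ω ∈ Ω, G.s ω ∈ G.U.basicOpen f₀ → G.i ω ∈ Ω := by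
    intro ω hω hx
    by_contra hcon
    exact hf₀W hx (Or.inl (Or.inr ⟨ω, hω, hcon, rfl⟩))
  have hc₀ : ∀ z : ↥(pullback G.s G.t), pullback.fst G.s G.t z ∈ Ω → pullback.snd G.s G.t z ∈ Ω →
      G.s (pullback.snd G.s G.t z) ∈ G.U.basicOpen f₀ → G.c z ∈ Ω := by
    intro z hz1 hz2 hx
    by_contra hcon
    exact hf₀W hx (Or.inr ⟨z, hz1, hz2, hcon, rfl⟩)
  -- the norm of `t^♯ f₀`
  have hle : (Ω.ι ≫ G.s) ⁻¹ᵁ (⊤ : G.U.Opens) ≤ (Ω.ι ≫ G.t) ⁻¹ᵁ (⊤ : G.U.Opens) := fun _ _ => trivial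
  obtain ⟨N, hN⟩ := exists_norm_open (Ω.ι ≫ G.s) (isAffineOpen_top G.U)
    ((Ω.ι ≫ G.t).appLE ⊤ ((Ω.ι ≫ G.s) ⁻¹ᵁ ⊤) hle f₀)
  have hN' : ∀ x : G.U, x ∈ G.U.basicOpen N ↔
      ∀ ω : G.R, ω ∈ Ω → G.s ω = x → G.t ω ∈ G.U.basicOpen f₀ := by
    intro x
    rw [hN x trivial]
    constructor
    · intro h ω hω hsω
      have h1 := h ⟨ω, hω⟩ (by rw [Scheme.Hom.comp_apply]; exact hsω)
      rw [Scheme.basicOpen_appLE] at h1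
      have h2 : (Ω.ι ≫ G.t) ⟨ω, hω⟩ ∈ G.U.basicOpen f₀ := h1.2
      rwa [Scheme.Hom.comp_apply] at h2
    · intro h y hy
      rw [Scheme.basicOpen_appLE]
      refine ⟨trivial, ?_⟩
      change (Ω.ι ≫ G.t) y ∈ G.U.basicOpen f₀
      rw [Scheme.Hom.comp_apply]
      refine h (Ω.ι y) y.2 ?_
      rw [← hy, Scheme.Hom.comp_apply]
  have hmem : ∀ x : G.U, x ∈ G.U.basicOpen (f₀ * N) ↔
      x ∈ G.U.basicOpen f₀ ∧ x ∈ G.U.basicOpen N := by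
    intro x
    rw [Scheme.basicOpen_mul]
    exact Iff.rfl
  refine ⟨f₀ * N, ?_, ?_, ?_, ?_⟩
  · rw [hmem, hN']
    refine ⟨huf₀, fun ω hω hsω => ?_⟩
    rw [htu ω hω hsω]
    exact huf₀
  · intro x hx
    exact he₀ x ((hmem x).1 hx).1
  · intro ω hω hx
    obtain ⟨hx₀, hxN⟩ := (hmem _).1 hx
    refine ⟨?_, hi₀ ω hω hx₀⟩
    rw [hmem]
    refine ⟨(hN' _).1 hxN ω hω rfl, ?_⟩
    rw [hN']
    intro ω' hω' hsω'
    obtain ⟨z, hz1, hz2⟩ := Scheme.Pullback.exists_preimage_pullback (f := G.s) (g := G.t) ω' ω hsω'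
    have hcz : G.c z ∈ Ω := hc₀ z (by rw [hz1]; exact hω') (by rw [hz2]; exact hω)
      (by rw [hz2]; exact hx₀)
    have h1 := (hN' _).1 hxN (G.c z) hcz (by rw [s_c_pt, hz2])
    rwa [t_c_pt, hz1] at h1
  · intro z hz1 hz2 hx
    exact hc₀ z hz1 hz2 ((hmem _).1 hx).1

end Groth.Agent.R2.H33.GrpdSplitShrink
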