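import Mathlib

set_option autoImplicit false
set_option linter.unusedSectionVars false

open TensorProduct

namespace Groth.Agent.R2.H63.WeilAlg

universe u v

section coord

variable {A : Type*} [CommRing A] {B : Type*} [CommRing B] [Algebra A B]
variable {ι : Type*} [Fintype ι] [DecidableEq ι] (b : ι → B) (β : ι → (B →ₗ[A] A))

/-- `k`-th coordinate `R ⊗ B → R` with respect to a (dual) basis of `B`. -/
noncomputable def coord (R : Type*) [CommRing R] [Algebra A R] (k : ι) : R ⊗[A] B →ₗ[A] R :=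
  (TensorProduct.rid A R).toLinearMap ∘ₗ (LinearMap.lTensor R (β k))

variable (R : Type*) [CommRing R] [Algebra A R]

@[simp]
theorem coord_tmul (k : ι) (r : R) (x : B) : coord β R k (r ⊗ₜ[A] x) = β k x • r := by
  simp [coord]

theorem sum_coord (hb : ∀ x, ∑ k, β k x • b k = x) (y : R ⊗[A] B) :
    ∑ k, coord β R k y ⊗ₜ[A] b k = y := by
  induction y using TensorProduct.induction_on with
  | zero => simp
  | tmul r x =>
    simp only [coord_tmul]
    conv_rhs => rw [← hb x, TensorProduct.tmul_sum]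
    refine Finset.sum_congr rfl fun k _ => ?_
    rw [TensorProduct.smul_tmul]
  | add y z hy hz =>
    simp only [map_add, TensorProduct.add_tmul, Finset.sum_add_distrib, hy, hz]

variable {R} {R' : Type*} [CommRing R'] [Algebra A R']

theorem coord_map (h : R →ₐ[A] R') (k : ι) (y : R ⊗[A] B) :
    coord β R' k (Algebra.TensorProduct.map h (AlgHom.id A B) y) = h (coord β R k y) := by
  induction y using TensorProduct.induction_on with
  | zero => simp
  | tmul r x => simp
  | add y z hy hz => simp only [map_add, hy, hz]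

end coord

section construction

variable {A : Type u} [CommRing A] {B : Type u} [CommRing B] [Algebra A B]
variable {ι : Type} [Fintype ι] [DecidableEq ι] (b : ι → B) (β : ι → (B →ₗ[A] A))
variable (C : Type u) [CommRing C] [Algebra A C]

/-- the polynomial ring on the coordinates of the images of the elements of `C`. -/
abbrev Pol (_β : ι → (B →ₗ[A] A)) (C : Type u) [CommRing C] [Algebra A C] : Type u :=
  MvPolynomial (C × ι) A

/-- tautological (non-additive) map `C → Pol ⊗ B`. -/
noncomputable def θ₀ (c : C) : Pol β C ⊗[A] B := ∑ k, (MvPolynomial.X (c, k) : Pol β C) ⊗ₜ[A] b k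

/-- the relations making `θ₀` an algebra homomorphism (and the coordinates consistent). -/
def rels : Set (Pol β C) :=
  {p | ∃ c c' k, p = coord β (Pol β C) k (θ₀ b β C (c + c') - θ₀ b β C c - θ₀ b β C c')} ∪
  {p | ∃ c c' k, p = coord β (Pol β C) k (θ₀ b β C (c * c') - θ₀ b β C c * θ₀ b β C c')} ∪
  {p | ∃ a k, p = coord β (Pol β C) k (θ₀ b β C (algebraMap A C a) - algebraMap A _ a)} ∪
  {p | ∃ c k, p = MvPolynomial.X (c, k) - coord β (Pol β C) k (θ₀ b β C c)}

/-- the Weil restriction algebra. -/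
abbrev Wt : Type u := Pol β C ⧸ Ideal.span (rels b β C)

/-- the projection. -/
noncomputable abbrev prj : Pol β C →ₐ[A] Wt b β C := Ideal.Quotient.mkₐ A (Ideal.span (rels b β C))

/-- base change of projection -/
noncomputable abbrev bcπ : Pol β C ⊗[A] B →ₐ[A] Wt b β C ⊗[A] B :=
  Algebra.TensorProduct.map (prj b β C) (AlgHom.id A B)

variable (hb : ∀ x, ∑ k, β k x • b k = x)

include hb in
theorem bcπ_eq_zero (y : Pol β C ⊗[A] B)
    (h : ∀ k, coord β (Pol β C) k y ∈ Ideal.span (rels b β C)) :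
    bcπ b β C y = 0 := by
  rw [← sum_coord b β (Pol β C) hb y, map_sum]
  refine Finset.sum_eq_zero fun k _ => ?_
  rw [Algebra.TensorProduct.map_tmul]
  have : prj b β C (coord β (Pol β C) k y) = 0 := by
    rw [Ideal.Quotient.mkₐ_eq_mk]
    exact Ideal.Quotient.eq_zero_iff_mem.mpr (h k)
  rw [this, TensorProduct.zero_tmul]

/-- the universal homomorphism. -/
noncomputable def θ : C →ₐ[A] Wt b β C ⊗[A] B :=
  have hadd : ∀ c c', bcπ b β C (θ₀ b β C (c + c')) = bcπ b β C (θ₀ b β C c) + bcπ b β C (θ₀ b β C c') := by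
    intro c c'
    have := bcπ_eq_zero b β C hb (θ₀ b β C (c + c') - θ₀ b β C c - θ₀ b β C c')
      (fun k => Ideal.subset_span (Or.inl (Or.inl (Or.inl ⟨c, c', k, rfl⟩))))
    rw [map_sub, map_sub, sub_sub, sub_eq_zero] at this
    exact this
  have hmul : ∀ c c', bcπ b β C (θ₀ b β C (c * c')) = bcπ b β C (θ₀ b β C c) * bcπ b β C (θ₀ b β C c') := by
    intro c c'
    have := bcπ_eq_zero b β C hb (θ₀ b β C (c * c') - θ₀ b β C c * θ₀ b β C c')
      (fun k => Ideal.subset_span (Or.inl (Or.inl (Or.inr ⟨c, c', k, rfl⟩))))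
    rw [map_sub, map_mul, sub_eq_zero] at this
    exact this
  have hcomm : ∀ a, bcπ b β C (θ₀ b β C (algebraMap A C a)) = algebraMap A _ a := by
    intro a
    have := bcπ_eq_zero b β C hb (θ₀ b β C (algebraMap A C a) - algebraMap A _ a)
      (fun k => Ideal.subset_span (Or.inl (Or.inr ⟨a, k, rfl⟩)))
    rw [map_sub, sub_eq_zero, AlgHom.commutes] at this
    exact this
  { toFun := fun c => bcπ b β C (θ₀ b β C c)
    map_one' := by rw [← map_one (algebraMap A C), hcomm, map_one]
    map_mul' := hmul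
    map_zero' := by rw [← map_zero (algebraMap A C), hcomm, map_zero]
    map_add' := hadd
    commutes' := hcomm }

theorem θ_apply (c : C) : θ b β C hb c = bcπ b β C (θ₀ b β C c) := rfl

theorem prj_X (c : C) (k : ι) :
    prj b β C (MvPolynomial.X (c, k)) = prj b β C (coord β (Pol β C) k (θ₀ b β C c)) := by
  rw [← sub_eq_zero, ← map_sub, Ideal.Quotient.mkₐ_eq_mk]
  exact Ideal.Quotient.eq_zero_iff_mem.mpr (Ideal.subset_span (Or.inr ⟨c, k, rfl⟩))

section UP

variable {R : Type u} [CommRing R] [Algebra A R] (γ : C →ₐ[A] R ⊗[A] B)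

/-- the map on the polynomial ring induced by `γ`. -/
noncomputable def ψ₀ : Pol β C →ₐ[A] R :=
  MvPolynomial.aeval (fun p : C × ι => coord β R p.2 (γ p.1))

include hb in
theorem map_ψ₀_θ₀ (c : C) :
    Algebra.TensorProduct.map (ψ₀ β C γ) (AlgHom.id A B) (θ₀ b β C c) = γ c := by
  rw [θ₀, map_sum]
  simp only [Algebra.TensorProduct.map_tmul, ψ₀, MvPolynomial.aeval_X, AlgHom.coe_id, id_eq]
  exact sum_coord b β R hb (γ c)

include hb in
theorem ψ₀_mem (p : Pol β C) (hp : p ∈ Ideal.span (rels b β C)) : ψ₀ β C γ p = 0 := by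
  have hle : Ideal.span (rels b β C) ≤ RingHom.ker (ψ₀ β C γ).toRingHom := by
    rw [Ideal.span_le]
    rintro p (((⟨c, c', k, rfl⟩ | ⟨c, c', k, rfl⟩) | ⟨a, k, rfl⟩) | ⟨c, k, rfl⟩)
    · change ψ₀ β C γ _ = 0
      rw [← coord_map]
      simp only [map_sub, map_ψ₀_θ₀ b β C hb, map_add, sub_self, add_sub_cancel_left, map_zero]
    · change ψ₀ β C γ _ = 0
      rw [← coord_map]
      simp only [map_sub, map_mul, map_ψ₀_θ₀ b β C hb, sub_self, map_zero]
    · change ψ₀ β C γ _ = 0
      rw [← coord_map]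
      simp only [map_sub, map_ψ₀_θ₀ b β C hb, AlgHom.commutes, sub_self, map_zero]
    · change ψ₀ β C γ _ = 0
      rw [map_sub, ← coord_map, map_ψ₀_θ₀ b β C hb, ψ₀, MvPolynomial.aeval_X, sub_self]
  exact hle hp

/-- the induced map on the Weil restriction algebra. -/
noncomputable def ψ : Wt b β C →ₐ[A] R :=
  Ideal.Quotient.liftₐ (Ideal.span (rels b β C)) (ψ₀ β C γ) (ψ₀_mem b β C hb γ)

theorem ψ_prj (p : Pol β C) : ψ b β C hb γ (prj b β C p) = ψ₀ β C γ p :=
  Ideal.Quotient.lift_mk _ _ _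

theorem map_bcπ (ψ'' : Wt b β C →ₐ[A] R) (y : Pol β C ⊗[A] B) :
    Algebra.TensorProduct.map ψ'' (AlgHom.id A B) (bcπ b β C y) =
      Algebra.TensorProduct.map (ψ''.comp (prj b β C)) (AlgHom.id A B) y := by
  induction y using TensorProduct.induction_on with
  | zero => simp
  | tmul r x =>
    simp only [Algebra.TensorProduct.map_tmul, AlgHom.coe_id, id_eq, AlgHom.comp_apply]
  | add y z hy hz => simp only [map_add, hy, hz]

theorem ψ_comp_prj : (ψ b β C hb γ).comp (prj b β C) = ψ₀ β C γ := by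
  ext p
  exact ψ_prj b β C hb γ _

theorem map_ψ_bcπ (y : Pol β C ⊗[A] B) :
    Algebra.TensorProduct.map (ψ b β C hb γ) (AlgHom.id A B) (bcπ b β C y) =
      Algebra.TensorProduct.map (ψ₀ β C γ) (AlgHom.id A B) y := by
  rw [map_bcπ, ψ_comp_prj]

theorem map_ψ_θ :
    (Algebra.TensorProduct.map (ψ b β C hb γ) (AlgHom.id A B)).comp (θ b β C hb) = γ := by
  ext c
  rw [AlgHom.comp_apply, θ_apply, map_ψ_bcπ, map_ψ₀_θ₀ b β C hb]

theorem ψ_unique (ψ' : Wt b β C →ₐ[A] R)
    (h : (Algebra.TensorProduct.map ψ' (AlgHom.id A B)).comp (θ b β C hb) = γ) :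
    ψ' = ψ b β C hb γ := by
  apply Ideal.Quotient.algHom_ext
  apply MvPolynomial.algHom_ext
  rintro ⟨c, k⟩
  change ψ' (prj b β C (MvPolynomial.X (c, k))) = ψ b β C hb γ (prj b β C (MvPolynomial.X (c, k)))
  have key : ∀ ψ'' : Wt b β C →ₐ[A] R,
      (Algebra.TensorProduct.map ψ'' (AlgHom.id A B)).comp (θ b β C hb) = γ →
      ψ'' (prj b β C (MvPolynomial.X (c, k))) = coord β R k (γ c) := by
    intro ψ'' h''
    rw [prj_X, ← AlgHom.comp_apply, ← coord_map]
    rw [← map_bcπ, ← θ_apply b β C hb, ← AlgHom.comp_apply, h'']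
  rw [key ψ' h, key _ (map_ψ_θ b β C hb γ)]

end UP

end construction

section FT

variable {A : Type u} [CommRing A] {B : Type u} [CommRing B] [Algebra A B]
variable {ι : Type} [Fintype ι] [DecidableEq ι] (b : ι → B) (β : ι → (B →ₗ[A] A))

section gen

variable {W : Type u} [CommRing W] [Algebra A W] (W' : Subalgebra A W)

theorem coord_mem_of_mem_range (y : W ⊗[A] B)
    (hy : y ∈ (Algebra.TensorProduct.map W'.val (AlgHom.id A B)).range) (k : ι) :
    coord β W k y ∈ W' := by
  obtain ⟨z, rfl⟩ := hy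
  change coord β W k (Algebra.TensorProduct.map W'.val (AlgHom.id A B) z) ∈ W'
  rw [coord_map]
  exact (coord β W' k z).2

theorem mem_range_of_coord_mem (hb : ∀ x, ∑ k, β k x • b k = x) (y : W ⊗[A] B)
    (h : ∀ k, coord β W k y ∈ W') :
    y ∈ (Algebra.TensorProduct.map W'.val (AlgHom.id A B)).range := by
  rw [← sum_coord b β W hb y]
  refine Subalgebra.sum_mem _ fun k _ => ?_
  exact ⟨(⟨coord β W k y, h k⟩ : W') ⊗ₜ[A] b k, by simp⟩

end gen

variable (C : Type u) [CommRing C] [Algebra A C]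
variable (hb : ∀ x, ∑ k, β k x • b k = x)

theorem prj_X_eq_coord (c : C) (k : ι) :
    prj b β C (MvPolynomial.X (c, k)) = coord β (Wt b β C) k (θ b β C hb c) := by
  rw [prj_X, θ_apply, coord_map]

/-- the subalgebra generated by the coordinates of finitely many elements -/
noncomputable abbrev genAlg (s : Finset C) : Subalgebra A (Wt b β C) :=
  Algebra.adjoin A ((fun p : C × ι => prj b β C (MvPolynomial.X p)) ''
    ((s : Set C) ×ˢ (Set.univ : Set ι)))

include hb in
theorem coord_mem_genAlg (s : Finset C) (hs : Algebra.adjoin A (s : Set C) = ⊤) (c : C) (k : ι) :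
    coord β (Wt b β C) k (θ b β C hb c) ∈ genAlg b β C s := by
  have hle : Algebra.adjoin A (s : Set C) ≤ Subalgebra.comap (θ b β C hb)
      (Algebra.TensorProduct.map (genAlg b β C s).val (AlgHom.id A B)).range := by
    refine Algebra.adjoin_le fun x hx => ?_
    refine mem_range_of_coord_mem b β _ hb _ fun k => ?_
    change coord β (Wt b β C) k (θ b β C hb x) ∈ _
    rw [← prj_X_eq_coord]
    exact Algebra.subset_adjoin ⟨(x, k), ⟨hx, Set.mem_univ _⟩, rfl⟩
  rw [hs] at hle
  exact coord_mem_of_mem_range β _ _ (hle (Algebra.mem_top : c ∈ ⊤)) k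

include hb in
theorem genAlg_eq_top (s : Finset C) (hs : Algebra.adjoin A (s : Set C) = ⊤) :
    genAlg b β C s = ⊤ := by
  rw [eq_top_iff]
  rintro w -
  obtain ⟨p, rfl⟩ := Ideal.Quotient.mk_surjective w
  change prj b β C p ∈ _
  induction p using MvPolynomial.induction_on with
  | C a =>
    rw [← MvPolynomial.algebraMap_eq, AlgHom.commutes]
    exact Subalgebra.algebraMap_mem _ _
  | add p q hp hq => rw [map_add]; exact Subalgebra.add_mem _ hp hq
  | mul_X p i hp =>
    rw [map_mul]
    refine Subalgebra.mul_mem _ hp ?_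
    obtain ⟨c, k⟩ := i
    rw [prj_X_eq_coord b β C hb]
    exact coord_mem_genAlg b β C hb s hs c k

include hb in
theorem finiteType_Wt [Algebra.FiniteType A C] : Algebra.FiniteType A (Wt b β C) := by
  obtain ⟨s, hs⟩ := (Algebra.FiniteType.out : (⊤ : Subalgebra A C).FG)
  refine ⟨Subalgebra.fg_def.2 ⟨_, ?_, genAlg_eq_top b β C hb s hs⟩⟩
  exact Set.Finite.image _ ((Finset.finite_toSet s).prod Set.finite_univ)

end FT

/-- a finite dual basis of a finite projective module -/
theorem exists_dualBasis (A B : Type*) [CommRing A] [AddCommGroup B] [Module A B]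
    [Module.Finite A B] [Module.Projective A B] :
    ∃ (n : ℕ) (b : Fin n → B) (β : Fin n → (B →ₗ[A] A)), ∀ x, ∑ k, β k x • b k = x := by
  obtain ⟨n, f, hf⟩ := Module.Finite.exists_fin' A B
  obtain ⟨s, hs⟩ := Module.projective_lifting_property f LinearMap.id hf
  refine ⟨n, fun k => f (Pi.single k 1), fun k => LinearMap.proj k ∘ₗ s, fun x => ?_⟩
  have h1 : f (s x) = x := LinearMap.congr_fun hs x
  conv_rhs => rw [← h1]
  simp only [LinearMap.coe_comp, LinearMap.coe_proj, Function.comp_apply, Function.eval]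
  have h2 : s x = ∑ k, s x k • (Pi.single k (1 : A) : Fin n → A) := by
    ext j
    simp [Finset.sum_apply, Pi.single_apply]
  conv_rhs => rw [h2, map_sum]
  refine Finset.sum_congr rfl fun k _ => ?_
  rw [map_smul]

/-- **Weil restriction of algebras along a finite projective algebra**, with finite type
preserved. -/
theorem exists_weilRestriction_ft (A B C : Type u) [CommRing A] [CommRing B] [Algebra A B]
    [CommRing C] [Algebra A C] [Module.Finite A B] [Module.Projective A B] :
    ∃ (W : Type u) (_ : CommRing W) (_ : Algebra A W) (θ : C →ₐ[A] W ⊗[A] B),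
      (∀ (R : Type u) [CommRing R] [Algebra A R] (γ : C →ₐ[A] R ⊗[A] B),
        ∃! ψ : W →ₐ[A] R, (Algebra.TensorProduct.map ψ (AlgHom.id A B)).comp θ = γ) ∧
      (Algebra.FiniteType A C → Algebra.FiniteType A W) := by
  classical
  obtain ⟨n, b, β, hb⟩ := exists_dualBasis A B
  refine ⟨Wt b β C, inferInstance, inferInstance, θ b β C hb, ?_, ?_⟩
  · intro R _ _ γ
    exact ⟨ψ b β C hb γ, map_ψ_θ b β C hb γ, fun ψ' h => ψ_unique b β C hb γ ψ' h⟩
  · intro h
    exact finiteType_Wt b β C hb

/-- **Weil restriction of algebras along a finite projective algebra.** -/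
theorem exists_weilRestriction (A B C : Type u) [CommRing A] [CommRing B] [Algebra A B]
    [CommRing C] [Algebra A C] [Module.Finite A B] [Module.Projective A B] :
    ∃ (W : Type u) (_ : CommRing W) (_ : Algebra A W) (θ : C →ₐ[A] W ⊗[A] B),
      ∀ (R : Type u) [CommRing R] [Algebra A R] (γ : C →ₐ[A] R ⊗[A] B),
        ∃! ψ : W →ₐ[A] R, (Algebra.TensorProduct.map ψ (AlgHom.id A B)).comp θ = γ := by
  obtain ⟨W, i1, i2, θ, h, -⟩ := exists_weilRestriction_ft A B C
  exact ⟨W, i1, i2, θ, h⟩

end Groth.Agent.R2.H63.WeilAlg
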