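import Mathlib
import Groth.Agent.R2.H63WeilAlg

/-!
# helper63: the Weil restriction algebra of a finitely presented algebra is finitely presented

For `B` a finite projective `A`-algebra with dual basis `(b, β)` and `C = A[x₁..xₙ]/(s)`, the algebra
`WtFP = A[x_{i,k}]/(coordinates of s, consistency)` represents `R ↦ Hom_A(C, R ⊗ B)`.
`exists_weilRestriction_fp`: existence of the Weil restriction algebra with finite type and finite
presentation preserved.
-/

set_option autoImplicit false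
set_option linter.unusedSectionVars false

open TensorProduct

namespace Groth.Agent.R2.H63.WeilAlg

universe u

section generic

variable {A : Type u} [CommRing A] {B : Type u} [CommRing B] [Algebra A B]
variable {ι : Type} [Fintype ι] [DecidableEq ι] (b : ι → B) (β : ι → (B →ₗ[A] A))
variable (hb : ∀ x, ∑ k, β k x • b k = x)

include hb in
/-- an element of `Q ⊗ B` all of whose coordinates lie in `J` dies in `(Q ⧸ J) ⊗ B`. -/
theorem tmap_mk_eq_zero {Q : Type u} [CommRing Q] [Algebra A Q] (J : Ideal Q) (y : Q ⊗[A] B)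
    (h : ∀ k, coord β Q k y ∈ J) :
    Algebra.TensorProduct.map (Ideal.Quotient.mkₐ A J) (AlgHom.id A B) y = 0 := by
  rw [← sum_coord b β Q hb y, map_sum]
  refine Finset.sum_eq_zero fun k _ => ?_
  rw [Algebra.TensorProduct.map_tmul]
  have : Ideal.Quotient.mkₐ A J (coord β Q k y) = 0 := by
    rw [Ideal.Quotient.mkₐ_eq_mk]
    exact Ideal.Quotient.eq_zero_iff_mem.mpr (h k)
  rw [this, TensorProduct.zero_tmul]

end generic

section fp

variable {A : Type u} [CommRing A] {B : Type u} [CommRing B] [Algebra A B]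
variable {ι : Type} [Fintype ι] [DecidableEq ι] (b : ι → B) (β : ι → (B →ₗ[A] A))
variable (n : ℕ)

abbrev Qn (_β : ι → (B →ₗ[A] A)) (n : ℕ) : Type u := MvPolynomial (Fin n × ι) A

noncomputable def τ₀ : MvPolynomial (Fin n) A →ₐ[A] Qn β n ⊗[A] B :=
  MvPolynomial.aeval (fun i => ∑ k, (MvPolynomial.X (i, k) : Qn β n) ⊗ₜ[A] b k)

def relsFP (s : Finset (MvPolynomial (Fin n) A)) : Set (Qn β n) :=
  {p | ∃ g ∈ s, ∃ k, p = coord β (Qn β n) k (τ₀ b β n g)} ∪
  {p | ∃ i k, p = MvPolynomial.X (i, k) - coord β (Qn β n) k (τ₀ b β n (MvPolynomial.X i))}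

abbrev WtFP (s : Finset (MvPolynomial (Fin n) A)) : Type u :=
  Qn β n ⧸ Ideal.span (relsFP b β n s)

theorem relsFP_finite (s : Finset (MvPolynomial (Fin n) A)) : (relsFP b β n s).Finite := by
  refine Set.Finite.union ?_ ?_
  · have : {p | ∃ g ∈ s, ∃ k, p = coord β (Qn β n) k (τ₀ b β n g)} =
        (fun gk : MvPolynomial (Fin n) A × ι => coord β (Qn β n) gk.2 (τ₀ b β n gk.1)) ''
          ((s : Set _) ×ˢ Set.univ) := by
      ext p
      constructor
      · rintro ⟨g, hg, k, rfl⟩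
        exact ⟨(g, k), ⟨hg, Set.mem_univ _⟩, rfl⟩
      · rintro ⟨⟨g, k⟩, ⟨hg, -⟩, rfl⟩
        exact ⟨g, hg, k, rfl⟩
    rw [this]
    exact Set.Finite.image _ ((Finset.finite_toSet s).prod Set.finite_univ)
  · have : {p | ∃ i k, p = MvPolynomial.X (i, k) -
          coord β (Qn β n) k (τ₀ b β n (MvPolynomial.X i))} =
        Set.range (fun ik : Fin n × ι => (MvPolynomial.X (ik.1, ik.2) : Qn β n) -
          coord β (Qn β n) ik.2 (τ₀ b β n (MvPolynomial.X ik.1))) := by
      ext p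
      constructor
      · rintro ⟨i, k, rfl⟩
        exact ⟨(i, k), rfl⟩
      · rintro ⟨⟨i, k⟩, rfl⟩
        exact ⟨i, k, rfl⟩
    rw [this]
    exact Set.finite_range _

instance (s : Finset (MvPolynomial (Fin n) A)) : Algebra.FinitePresentation A (WtFP b β n s) :=
  Algebra.FinitePresentation.quotient ⟨(relsFP_finite b β n s).toFinset, by simp⟩


variable (s : Finset (MvPolynomial (Fin n) A))

/-- projection -/
noncomputable abbrev prjFP : Qn β n →ₐ[A] WtFP b β n s :=
  Ideal.Quotient.mkₐ A (Ideal.span (relsFP b β n s))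

noncomputable abbrev bcπFP : Qn β n ⊗[A] B →ₐ[A] WtFP b β n s ⊗[A] B :=
  Algebra.TensorProduct.map (prjFP b β n s) (AlgHom.id A B)

/-- the composite `A[x] → WtFP ⊗ B`. -/
noncomputable def τ₁ : MvPolynomial (Fin n) A →ₐ[A] WtFP b β n s ⊗[A] B :=
  (bcπFP b β n s).comp (τ₀ b β n)

variable (hb : ∀ x, ∑ k, β k x • b k = x)

/-- the finitely presented algebra `A[x₁..xₙ]/(s)`. -/
abbrev Cn (s : Finset (MvPolynomial (Fin n) A)) : Type u :=
  MvPolynomial (Fin n) A ⧸ Ideal.span (s : Set (MvPolynomial (Fin n) A))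

noncomputable abbrev fC : MvPolynomial (Fin n) A →ₐ[A] Cn n s :=
  Ideal.Quotient.mkₐ A (Ideal.span (s : Set (MvPolynomial (Fin n) A)))

include hb in
theorem τ₁_eq_zero (g : MvPolynomial (Fin n) A)
    (hg : g ∈ Ideal.span (s : Set (MvPolynomial (Fin n) A))) : τ₁ b β n s g = 0 := by
  have hle : Ideal.span (s : Set (MvPolynomial (Fin n) A)) ≤
      RingHom.ker (τ₁ b β n s).toRingHom := by
    rw [Ideal.span_le]
    intro g hg
    change τ₁ b β n s g = 0
    exact tmap_mk_eq_zero b β hb _ _ fun k => Ideal.subset_span (Or.inl ⟨g, hg, k, rfl⟩)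
  exact hle hg

/-- the universal homomorphism -/
noncomputable def θFP : Cn n s →ₐ[A] WtFP b β n s ⊗[A] B :=
  Ideal.Quotient.liftₐ (Ideal.span (s : Set (MvPolynomial (Fin n) A))) (τ₁ b β n s)
    (τ₁_eq_zero b β n s hb)

theorem θFP_apply (p : MvPolynomial (Fin n) A) :
    θFP b β n s hb (fC n s p) = bcπFP b β n s (τ₀ b β n p) :=
  Ideal.Quotient.lift_mk _ _ _

theorem prjFP_X (i : Fin n) (k : ι) :
    prjFP b β n s (MvPolynomial.X (i, k)) =
      prjFP b β n s (coord β (Qn β n) k (τ₀ b β n (MvPolynomial.X i))) := by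
  rw [← sub_eq_zero, ← map_sub, Ideal.Quotient.mkₐ_eq_mk]
  exact Ideal.Quotient.eq_zero_iff_mem.mpr (Ideal.subset_span (Or.inr ⟨i, k, rfl⟩))

section UP

variable {R : Type u} [CommRing R] [Algebra A R] (γ : Cn n s →ₐ[A] R ⊗[A] B)

/-- the map on the polynomial ring induced by `γ`. -/
noncomputable def ψ₀FP : Qn β n →ₐ[A] R :=
  MvPolynomial.aeval (fun p : Fin n × ι => coord β R p.2 (γ (fC n s (MvPolynomial.X p.1))))

include hb in
theorem map_ψ₀FP_τ₀ :
    (Algebra.TensorProduct.map (ψ₀FP β n s γ) (AlgHom.id A B)).comp (τ₀ b β n) =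
      γ.comp (fC n s) := by
  apply MvPolynomial.algHom_ext
  intro i
  rw [AlgHom.comp_apply, AlgHom.comp_apply, τ₀, MvPolynomial.aeval_X, map_sum]
  simp only [Algebra.TensorProduct.map_tmul, ψ₀FP, MvPolynomial.aeval_X, AlgHom.coe_id, id_eq]
  exact sum_coord b β R hb (γ (fC n s (MvPolynomial.X i)))

include hb in
theorem ψ₀FP_mem (p : Qn β n) (hp : p ∈ Ideal.span (relsFP b β n s)) : ψ₀FP β n s γ p = 0 := by
  have key : ∀ q, Algebra.TensorProduct.map (ψ₀FP β n s γ) (AlgHom.id A B) (τ₀ b β n q) =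
      γ (fC n s q) :=
    fun q => AlgHom.congr_fun (map_ψ₀FP_τ₀ b β n s hb γ) q
  have hle : Ideal.span (relsFP b β n s) ≤ RingHom.ker (ψ₀FP β n s γ).toRingHom := by
    rw [Ideal.span_le]
    rintro p (⟨g, hg, k, rfl⟩ | ⟨i, k, rfl⟩)
    · change ψ₀FP β n s γ _ = 0
      rw [← coord_map, key]
      have : fC n s g = 0 := by
        rw [Ideal.Quotient.mkₐ_eq_mk]
        exact Ideal.Quotient.eq_zero_iff_mem.mpr (Ideal.subset_span hg)
      rw [this, map_zero, map_zero]
    · change ψ₀FP β n s γ _ = 0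
      rw [map_sub, ← coord_map, key, ψ₀FP, MvPolynomial.aeval_X, sub_self]
  exact hle hp

/-- the induced map on the Weil restriction algebra. -/
noncomputable def ψFP : WtFP b β n s →ₐ[A] R :=
  Ideal.Quotient.liftₐ (Ideal.span (relsFP b β n s)) (ψ₀FP β n s γ) (ψ₀FP_mem b β n s hb γ)

theorem ψFP_prjFP (p : Qn β n) : ψFP b β n s hb γ (prjFP b β n s p) = ψ₀FP β n s γ p :=
  Ideal.Quotient.lift_mk _ _ _

theorem ψFP_comp_prjFP : (ψFP b β n s hb γ).comp (prjFP b β n s) = ψ₀FP β n s γ :=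
  AlgHom.ext fun p => ψFP_prjFP b β n s hb γ p

theorem map_bcπFP (ψ'' : WtFP b β n s →ₐ[A] R) (y : Qn β n ⊗[A] B) :
    Algebra.TensorProduct.map ψ'' (AlgHom.id A B) (bcπFP b β n s y) =
      Algebra.TensorProduct.map (ψ''.comp (prjFP b β n s)) (AlgHom.id A B) y := by
  induction y using TensorProduct.induction_on with
  | zero => simp
  | tmul r x =>
    simp only [Algebra.TensorProduct.map_tmul, AlgHom.coe_id, id_eq, AlgHom.comp_apply]
  | add y z hy hz => simp only [map_add, hy, hz]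

theorem map_ψFP_θFP :
    (Algebra.TensorProduct.map (ψFP b β n s hb γ) (AlgHom.id A B)).comp (θFP b β n s hb) = γ := by
  refine AlgHom.ext fun c => ?_
  obtain ⟨p, rfl⟩ := Ideal.Quotient.mk_surjective c
  change Algebra.TensorProduct.map (ψFP b β n s hb γ) (AlgHom.id A B)
    (θFP b β n s hb (fC n s p)) = γ (fC n s p)
  rw [θFP_apply, map_bcπFP, ψFP_comp_prjFP]
  exact AlgHom.congr_fun (map_ψ₀FP_τ₀ b β n s hb γ) p

theorem ψFP_unique (ψ' : WtFP b β n s →ₐ[A] R)
    (h : (Algebra.TensorProduct.map ψ' (AlgHom.id A B)).comp (θFP b β n s hb) = γ) :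
    ψ' = ψFP b β n s hb γ := by
  apply Ideal.Quotient.algHom_ext
  apply MvPolynomial.algHom_ext
  rintro ⟨i, k⟩
  change ψ' (prjFP b β n s (MvPolynomial.X (i, k))) =
    ψFP b β n s hb γ (prjFP b β n s (MvPolynomial.X (i, k)))
  have key : ∀ ψ'' : WtFP b β n s →ₐ[A] R,
      (Algebra.TensorProduct.map ψ'' (AlgHom.id A B)).comp (θFP b β n s hb) = γ →
      ψ'' (prjFP b β n s (MvPolynomial.X (i, k))) =
        coord β R k (γ (fC n s (MvPolynomial.X i))) := by
    intro ψ'' h''
    rw [prjFP_X, ← AlgHom.comp_apply, ← coord_map]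
    rw [← map_bcπFP, ← θFP_apply b β n s hb, ← AlgHom.comp_apply, h'']
  rw [key ψ' h, key _ (map_ψFP_θFP b β n s hb γ)]

end UP


end fp

/-- **Weil restriction of algebras along a finite projective algebra**, with finite type and finite
presentation preserved. -/
theorem exists_weilRestriction_fp (A B C : Type u) [CommRing A] [CommRing B] [Algebra A B]
    [CommRing C] [Algebra A C] [Module.Finite A B] [Module.Projective A B] :
    ∃ (W : Type u) (_ : CommRing W) (_ : Algebra A W) (θ : C →ₐ[A] W ⊗[A] B),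
      (∀ (R : Type u) [CommRing R] [Algebra A R] (γ : C →ₐ[A] R ⊗[A] B),
        ∃! ψ : W →ₐ[A] R, (Algebra.TensorProduct.map ψ (AlgHom.id A B)).comp θ = γ) ∧
      (Algebra.FiniteType A C → Algebra.FiniteType A W) ∧
      (Algebra.FinitePresentation A C → Algebra.FinitePresentation A W) := by
  classical
  by_cases hfp : Algebra.FinitePresentation A C
  · obtain ⟨n, b, β, hb⟩ := exists_dualBasis A B
    obtain ⟨m, f, hf, s, hs⟩ := hfp.out
    let e : C ≃ₐ[A] Cn m s :=
      ((Ideal.quotientEquivAlgOfEq A hs).trans (Ideal.quotientKerAlgEquivOfSurjective hf)).symm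
    refine ⟨WtFP b β m s, inferInstance, inferInstance, (θFP b β m s hb).comp e.toAlgHom, ?_,
      fun _ => inferInstance, fun _ => inferInstance⟩
    intro R _ _ γ
    refine ⟨ψFP b β m s hb (γ.comp e.symm.toAlgHom), ?_, fun ψ' h => ?_⟩
    · change (Algebra.TensorProduct.map (ψFP b β m s hb (γ.comp e.symm.toAlgHom))
        (AlgHom.id A B)).comp ((θFP b β m s hb).comp e.toAlgHom) = γ
      rw [← AlgHom.comp_assoc, map_ψFP_θFP]
      refine AlgHom.ext fun c => ?_
      simp
    · apply ψFP_unique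
      rw [← h]
      refine AlgHom.ext fun c => ?_
      simp
  · obtain ⟨W, i1, i2, θ, h, hft⟩ := exists_weilRestriction_ft A B C
    exact ⟨W, i1, i2, θ, h, hft, fun h' => absurd h' hfp⟩

end Groth.Agent.R2.H63.WeilAlg
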