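import Mathlib
import Groth.Agent.R2.H63WeilAlg
import Groth.Agent.R2.H63WeilFPAlg

/-!
# PROJ:grpd-split, package [WR], ring level (helper33)

For `A₀ → A` étale, `A → B` finite projective and an arbitrary ring map `τ : A₀ → B`, the functor on
`A`-algebras
`R ↦ {β : A →+* B ⊗[A] R | β ∘ (A₀ → A) = (B → B ⊗[A] R) ∘ τ}`
is represented by an étale `A`-algebra (`exists_liftRes_alg`).

Construction: helper63's Weil restriction `W₀` of the `A`-algebra `B ⊗[A₀] A` (`A` acting through `B`)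
along `A → B`, cut down by the finitely many equations expressing that the universal map is
`B`-linear (`section cut`); étale = finitely presented + formally étale, the latter through the
universal property and the formal étaleness of `A₀ → A`.
-/

set_option autoImplicit false
set_option linter.unusedSectionVars false
set_option linter.style.haveILetI false

open TensorProduct

namespace Groth.Agent.R2.H33.GrpdSplitWRAlg

open Groth.Agent.R2.H63.WeilAlg

universe u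

section cut

variable {A : Type u} [CommRing A] {B : Type u} [CommRing B] [Algebra A B]
variable {ι : Type} [Fintype ι] [DecidableEq ι] (b : ι → B) (β : ι → (B →ₗ[A] A))
variable (hb : ∀ x, ∑ k, β k x • b k = x)
variable {C : Type u} [CommRing C] [Algebra A C]
variable {W : Type u} [CommRing W] [Algebra A W] (θ : C →ₐ[A] W ⊗[A] B)
variable {J : Type} (c : J → C) (y : J → B)

/-- the ideal of the conditions `θ (c j) = 1 ⊗ y j` -/
def cutIdeal : Ideal W :=
  Ideal.span (Set.range fun p : J × ι => coord β W p.2 (θ (c p.1) - 1 ⊗ₜ[A] y p.1))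

/-- the quotient of `W` by the conditions `θ (c j) = 1 ⊗ y j` -/
abbrev Cut : Type u := W ⧸ cutIdeal β θ c y

/-- the induced map to the cut-down algebra -/
noncomputable def θcut : C →ₐ[A] Cut β θ c y ⊗[A] B :=
  (Algebra.TensorProduct.map (Ideal.Quotient.mkₐ A (cutIdeal β θ c y)) (AlgHom.id A B)).comp θ

include hb in
theorem θcut_apply (j : J) : θcut β θ c y (c j) = 1 ⊗ₜ[A] y j := by
  have h := tmap_mk_eq_zero b β hb (cutIdeal β θ c y) (θ (c j) - 1 ⊗ₜ[A] y j)
    (fun k => Ideal.subset_span ⟨(j, k), rfl⟩)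
  rw [map_sub, sub_eq_zero] at h
  rw [θcut, AlgHom.comp_apply, h, Algebra.TensorProduct.map_tmul, map_one]
  rfl

theorem cut_existsUnique
    (hUP : ∀ (R : Type u) [CommRing R] [Algebra A R] (γ : C →ₐ[A] R ⊗[A] B),
      ∃! ψ : W →ₐ[A] R, (Algebra.TensorProduct.map ψ (AlgHom.id A B)).comp θ = γ)
    (R : Type u) [CommRing R] [Algebra A R] (γ : C →ₐ[A] R ⊗[A] B)
    (hγ : ∀ j, γ (c j) = 1 ⊗ₜ[A] y j) :
    ∃! ψ : Cut β θ c y →ₐ[A] R,
      (Algebra.TensorProduct.map ψ (AlgHom.id A B)).comp (θcut β θ c y) = γ := by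
  obtain ⟨ψ₀, hψ₀, huniq⟩ := hUP R γ
  have hψ₀' : ∀ x, Algebra.TensorProduct.map ψ₀ (AlgHom.id A B) (θ x) = γ x := fun x =>
    AlgHom.congr_fun hψ₀ x
  have hkill : ∀ w ∈ cutIdeal β θ c y, ψ₀ w = 0 := by
    intro w hw
    have hle : cutIdeal β θ c y ≤ RingHom.ker (ψ₀ : W →+* R) := by
      rw [cutIdeal, Ideal.span_le]
      rintro _ ⟨p, rfl⟩
      change ψ₀ _ = 0
      rw [← coord_map β ψ₀ p.2, map_sub, hψ₀', hγ, Algebra.TensorProduct.map_tmul, map_one,
        AlgHom.coe_id, id_eq, sub_self, map_zero]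
    exact hle hw
  have hcomp : (Ideal.Quotient.liftₐ (cutIdeal β θ c y) ψ₀ hkill).comp
      (Ideal.Quotient.mkₐ A (cutIdeal β θ c y)) = ψ₀ := Ideal.Quotient.liftₐ_comp _ _ _
  refine ⟨Ideal.Quotient.liftₐ (cutIdeal β θ c y) ψ₀ hkill, ?_, ?_⟩
  · change (Algebra.TensorProduct.map _ (AlgHom.id A B)).comp
      ((Algebra.TensorProduct.map (Ideal.Quotient.mkₐ A (cutIdeal β θ c y)) (AlgHom.id A B)).comp θ) = γ
    rw [← AlgHom.comp_assoc, ← Algebra.TensorProduct.map_comp, hcomp, AlgHom.comp_id, hψ₀]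
  · intro ψ' hψ'
    have h1 : ψ'.comp (Ideal.Quotient.mkₐ A (cutIdeal β θ c y)) = ψ₀ := by
      apply huniq
      rw [← hψ']
      change _ = (Algebra.TensorProduct.map ψ' (AlgHom.id A B)).comp
        ((Algebra.TensorProduct.map (Ideal.Quotient.mkₐ A (cutIdeal β θ c y)) (AlgHom.id A B)).comp θ)
      rw [← AlgHom.comp_assoc, ← Algebra.TensorProduct.map_comp, AlgHom.comp_id]
    apply AlgHom.ext
    intro x
    obtain ⟨w, rfl⟩ := Ideal.Quotient.mk_surjective x
    have h2 := AlgHom.congr_fun h1 w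
    have h3 := AlgHom.congr_fun hcomp w
    simp only [AlgHom.comp_apply, Ideal.Quotient.mkₐ_eq_mk] at h2 h3
    rw [h2, h3]

theorem cut_finitePresentation [Finite J] [Algebra.FinitePresentation A W] :
    Algebra.FinitePresentation A (Cut β θ c y) := by
  apply Algebra.FinitePresentation.quotient
  exact ⟨(Set.finite_range _).toFinset, by rw [Set.Finite.coe_toFinset]; rfl⟩

end cut

section main

variable (A0 A B : Type u) [CommRing A0] [CommRing A] [CommRing B] [Algebra A0 A] [Algebra A B]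
  [Algebra A0 B]

/-- the two scalar actions on the commutative ring `B` commute (no tower is assumed) -/
local instance smulCommClass_of_comm : SMulCommClass A0 A B :=
  ⟨fun a0 a x => by simp only [Algebra.smul_def]; ring⟩

variable {A0 A B}
variable {ι : Type} [Fintype ι] [DecidableEq ι] (b : ι → B) (β : ι → (B →ₗ[A] A))
variable (hb : ∀ x, ∑ k, β k x • b k = x)

include hb in
/-- an `A`-algebra map out of `B ⊗[A₀] A` which is "`B`-linear" on the generators `b j` is so on `B` -/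
theorem left_of_gens {S : Type u} [CommRing S] [Algebra A S] (γ : B ⊗[A0] A →ₐ[A] S ⊗[A] B)
    (hγ : ∀ j, γ (b j ⊗ₜ[A0] (1 : A)) = (1 : S) ⊗ₜ[A] b j) (x : B) :
    γ (x ⊗ₜ[A0] (1 : A)) = (1 : S) ⊗ₜ[A] x := by
  have h1 : x ⊗ₜ[A0] (1 : A) = ∑ k, β k x • (b k ⊗ₜ[A0] (1 : A)) := by
    conv_lhs => rw [← hb x, TensorProduct.sum_tmul]
    refine Finset.sum_congr rfl fun k _ => ?_
    rw [TensorProduct.smul_tmul']
  have h2 : (1 : S) ⊗ₜ[A] x = ∑ k, β k x • ((1 : S) ⊗ₜ[A] b k) := by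
    conv_lhs => rw [← hb x, TensorProduct.tmul_sum]
    refine Finset.sum_congr rfl fun k _ => ?_
    rw [TensorProduct.tmul_smul]
  rw [h1, h2, map_sum]
  refine Finset.sum_congr rfl fun k _ => ?_
  rw [map_smul, hγ]

/-- the `A`-algebra map out of `B ⊗[A₀] A` attached to a ring map `A → R ⊗[A] B` extending `τ` -/
theorem exists_gamma (R : Type u) [CommRing R] [Algebra A R] (βr : A →+* R ⊗[A] B)
    (hβ : ∀ a0 : A0, βr (algebraMap A0 A a0) = (1 : R) ⊗ₜ[A] algebraMap A0 B a0) :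
    ∃ γ : B ⊗[A0] A →ₐ[A] R ⊗[A] B, ∀ x a, γ (x ⊗ₜ[A0] a) = ((1 : R) ⊗ₜ[A] x) * βr a := by
  letI alg0 : Algebra A0 (R ⊗[A] B) :=
    ((Algebra.TensorProduct.includeRight : B →ₐ[A] R ⊗[A] B).toRingHom.comp
      (algebraMap A0 B)).toAlgebra
  let f : B →ₐ[A0] R ⊗[A] B :=
    { (Algebra.TensorProduct.includeRight : B →ₐ[A] R ⊗[A] B).toRingHom with
      commutes' := fun a0 => rfl }
  let g : A →ₐ[A0] R ⊗[A] B :=
    { βr with commutes' := fun a0 => hβ a0 }
  let γ0 : B ⊗[A0] A →ₐ[A0] R ⊗[A] B :=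
    Algebra.TensorProduct.lift f g (fun _ _ => Commute.all _ _)
  have hγ0 : ∀ x a, γ0 (x ⊗ₜ[A0] a) = ((1 : R) ⊗ₜ[A] x) * βr a := fun x a =>
    Algebra.TensorProduct.lift_tmul f g _ x a
  refine ⟨{ γ0.toRingHom with commutes' := fun a => ?_ }, hγ0⟩
  change γ0 (algebraMap A (B ⊗[A0] A) a) = algebraMap A (R ⊗[A] B) a
  rw [Algebra.TensorProduct.algebraMap_apply, hγ0, map_one, mul_one,
    Algebra.TensorProduct.algebraMap_apply, Algebra.algebraMap_eq_smul_one,
    Algebra.algebraMap_eq_smul_one, TensorProduct.smul_tmul]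

include hb in
/-- representability in the orientation `R ⊗[A] B` -/
theorem rep_right {W : Type u} [CommRing W] [Algebra A W] (θ' : B ⊗[A0] A →ₐ[A] W ⊗[A] B)
    (hθ' : ∀ j, θ' (b j ⊗ₜ[A0] (1 : A)) = (1 : W) ⊗ₜ[A] b j)
    (hUP' : ∀ (R : Type u) [CommRing R] [Algebra A R] (γ : B ⊗[A0] A →ₐ[A] R ⊗[A] B),
      (∀ j, γ (b j ⊗ₜ[A0] (1 : A)) = (1 : R) ⊗ₜ[A] b j) →
      ∃! ψ : W →ₐ[A] R, (Algebra.TensorProduct.map ψ (AlgHom.id A B)).comp θ' = γ) :
    (∀ a0 : A0, θ' ((1 : B) ⊗ₜ[A0] algebraMap A0 A a0) = (1 : W) ⊗ₜ[A] algebraMap A0 B a0) ∧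
    ∀ (R : Type u) [CommRing R] [Algebra A R] (βr : A →+* R ⊗[A] B),
      (∀ a0 : A0, βr (algebraMap A0 A a0) = (1 : R) ⊗ₜ[A] algebraMap A0 B a0) →
      ∃! ψ : W →ₐ[A] R, ∀ a : A,
        Algebra.TensorProduct.map ψ (AlgHom.id A B) (θ' ((1 : B) ⊗ₜ[A0] a)) = βr a := by
  have hleft := left_of_gens b β hb θ' hθ'
  refine ⟨fun a0 => ?_, fun R _ _ βr hβ => ?_⟩
  · have : (1 : B) ⊗ₜ[A0] algebraMap A0 A a0 = algebraMap A0 B a0 ⊗ₜ[A0] (1 : A) := by
      rw [Algebra.algebraMap_eq_smul_one, Algebra.algebraMap_eq_smul_one, TensorProduct.smul_tmul]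
    rw [this, hleft]
  · obtain ⟨γ, hγ⟩ := exists_gamma R βr hβ
    have hγgen : ∀ j, γ (b j ⊗ₜ[A0] (1 : A)) = (1 : R) ⊗ₜ[A] b j := by
      intro j
      rw [hγ, map_one, mul_one]
    obtain ⟨ψ, hψ, huniq⟩ := hUP' R γ hγgen
    refine ⟨ψ, fun a => ?_, fun ψ' hψ' => ?_⟩
    · have := AlgHom.congr_fun hψ ((1 : B) ⊗ₜ[A0] a)
      rw [AlgHom.comp_apply] at this
      rw [this, hγ]
      change (1 : R ⊗[A] B) * βr a = βr a
      rw [one_mul]
    · apply huniq
      apply AlgHom.ext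
      intro z
      induction z using TensorProduct.induction_on with
      | zero => simp
      | tmul x a =>
        have hxa : x ⊗ₜ[A0] a = (x ⊗ₜ[A0] (1 : A)) * ((1 : B) ⊗ₜ[A0] a) := by
          rw [Algebra.TensorProduct.tmul_mul_tmul, mul_one, one_mul]
        rw [hγ, hxa, map_mul, AlgHom.comp_apply, AlgHom.comp_apply, hψ', hleft,
          Algebra.TensorProduct.map_tmul, map_one, AlgHom.coe_id, id_eq]
      | add z w hz hw => rw [map_add, map_add, hz, hw]

end main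

section etale

variable {A0 A : Type u} [CommRing A0] [CommRing A] [Algebra A0 A]

/-- unique lifting of ring maps out of a formally étale algebra along a surjection with nilpotent
kernel, in terms of ring homomorphisms -/
theorem existsUnique_lift_ringHom [Algebra.FormallyEtale A0 A] {S S' : Type u} [CommRing S]
    [CommRing S'] (π : S →+* S') (hπ : Function.Surjective π) (hnil : IsNilpotent (RingHom.ker π))
    (σ : A0 →+* S) (β' : A →+* S') (hβ' : ∀ a0, β' (algebraMap A0 A a0) = π (σ a0)) :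
    ∃! β : A →+* S, (∀ a0, β (algebraMap A0 A a0) = σ a0) ∧ ∀ a, π (β a) = β' a := by
  letI : Algebra A0 S := σ.toAlgebra
  letI : Algebra A0 S' := (π.comp σ).toAlgebra
  let π0 : S →ₐ[A0] S' := { π with commutes' := fun _ => rfl }
  let f : A →ₐ[A0] S' := { β' with commutes' := fun a0 => hβ' a0 }
  have hπ0 : Function.Surjective π0 := hπ
  have hnil0 : IsNilpotent (RingHom.ker (π0 : S →+* S')) := hnil
  refine ⟨(Algebra.FormallySmooth.liftOfSurjective f π0 hπ0 hnil0 : A →ₐ[A0] S).toRingHom,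
    ⟨fun a0 => (Algebra.FormallySmooth.liftOfSurjective f π0 hπ0 hnil0).commutes a0,
      fun a => Algebra.FormallySmooth.liftOfSurjective_apply f π0 hπ0 hnil0 a⟩, ?_⟩
  rintro β ⟨h1, h2⟩
  let g : A →ₐ[A0] S := { β with commutes' := fun a0 => h1 a0 }
  have : g = Algebra.FormallySmooth.liftOfSurjective f π0 hπ0 hnil0 := by
    refine Algebra.FormallyUnramified.ext' π hnil _ _ (fun a => ?_)
    have h3 := Algebra.FormallySmooth.liftOfSurjective_apply f π0 hπ0 hnil0 a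
    exact (h2 a).trans h3.symm
  rw [← this]

variable {B : Type u} [CommRing B] [Algebra A B] [Algebra A0 B]

/-- the kernel of `Q ⊗ B → (Q ⧸ I) ⊗ B` is nilpotent when `I ^ 2 = ⊥` -/
theorem isNilpotent_ker_map_mk {Q : Type u} [CommRing Q] [Algebra A Q] (I : Ideal Q)
    (hI : I ^ 2 = ⊥) :
    IsNilpotent (RingHom.ker ((Algebra.TensorProduct.map (Ideal.Quotient.mkₐ A I)
      (AlgHom.id A B) : Q ⊗[A] B →ₐ[A] (Q ⧸ I) ⊗[A] B) : Q ⊗[A] B →+* (Q ⧸ I) ⊗[A] B)) := by
  have h := Algebra.TensorProduct.rTensor_ker (R := A) (C := B) (Ideal.Quotient.mkₐ A I)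
    (Ideal.Quotient.mkₐ_surjective A I)
  refine ⟨2, ?_⟩
  change RingHom.ker (Algebra.TensorProduct.map (Ideal.Quotient.mkₐ A I) (AlgHom.id A B)) ^ 2 = 0
  have hk : RingHom.ker (Ideal.Quotient.mkₐ A I) = I := Ideal.Quotient.mkₐ_ker A I
  rw [h, hk, ← Ideal.map_pow, hI, Ideal.map_bot]
  rfl

/-- a representing object of the functor `R ↦ {β : A → R ⊗[A] B extending τ}` is formally étale -/
theorem formallyEtale_of_rep [Algebra.FormallyEtale A0 A] {W : Type u} [CommRing W] [Algebra A W]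
    (Θ : A →+* W ⊗[A] B)
    (hΘ : ∀ a0 : A0, Θ (algebraMap A0 A a0) = (1 : W) ⊗ₜ[A] algebraMap A0 B a0)
    (hrep : ∀ (R : Type u) [CommRing R] [Algebra A R] (βr : A →+* R ⊗[A] B),
      (∀ a0 : A0, βr (algebraMap A0 A a0) = (1 : R) ⊗ₜ[A] algebraMap A0 B a0) →
      ∃! ψ : W →ₐ[A] R, ∀ a : A, Algebra.TensorProduct.map ψ (AlgHom.id A B) (Θ a) = βr a) :
    Algebra.FormallyEtale A W := by
  rw [Algebra.FormallyEtale.iff_comp_bijective]
  intro Q _ _ I hI
  -- the surjection with nilpotent kernel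
  have hsurj0 : Function.Surjective (Algebra.TensorProduct.map (Ideal.Quotient.mkₐ A I)
      (AlgHom.id A B) : Q ⊗[A] B →ₐ[A] (Q ⧸ I) ⊗[A] B) :=
    Algebra.TensorProduct.map_surjective (R := A) (S := A) (Ideal.Quotient.mkₐ A I) (AlgHom.id A B)
      (Ideal.Quotient.mkₐ_surjective A I) Function.surjective_id
  have hsurj : Function.Surjective ((Algebra.TensorProduct.map (Ideal.Quotient.mkₐ A I)
      (AlgHom.id A B) : Q ⊗[A] B →ₐ[A] (Q ⧸ I) ⊗[A] B) : Q ⊗[A] B →+* (Q ⧸ I) ⊗[A] B) := hsurj0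
  have hnil := isNilpotent_ker_map_mk (A := A) (B := B) I hI
  -- the section attached to a homomorphism
  have hsec : ∀ {R : Type u} [CommRing R] [Algebra A R] (ψ : W →ₐ[A] R) (a0 : A0),
      Algebra.TensorProduct.map ψ (AlgHom.id A B) (Θ (algebraMap A0 A a0)) =
        (1 : R) ⊗ₜ[A] algebraMap A0 B a0 := by
    intro R _ _ ψ a0
    rw [hΘ, Algebra.TensorProduct.map_tmul, map_one, AlgHom.coe_id, id_eq]
  have hcomp : ∀ (ψ : W →ₐ[A] Q) (z : W ⊗[A] B),
      Algebra.TensorProduct.map (Ideal.Quotient.mkₐ A I) (AlgHom.id A B)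
        (Algebra.TensorProduct.map ψ (AlgHom.id A B) z) =
      Algebra.TensorProduct.map ((Ideal.Quotient.mkₐ A I).comp ψ) (AlgHom.id A B) z := by
    intro ψ z
    rw [← AlgHom.comp_apply, ← Algebra.TensorProduct.map_comp, AlgHom.comp_id]
  constructor
  · intro ψ₁ ψ₂ h
    -- the two sections agree after reduction, hence agree
    have hβ : ∀ a0 : A0, ((Algebra.TensorProduct.map ψ₁ (AlgHom.id A B) : W ⊗[A] B →ₐ[A] Q ⊗[A] B) :
        W ⊗[A] B →+* Q ⊗[A] B).comp Θ (algebraMap A0 A a0) =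
        (1 : Q) ⊗ₜ[A] algebraMap A0 B a0 := fun a0 => hsec ψ₁ a0
    obtain ⟨β, -, huniq⟩ := existsUnique_lift_ringHom (A0 := A0) (A := A) _ hsurj hnil
      ((Algebra.TensorProduct.includeRight : B →ₐ[A] Q ⊗[A] B).toRingHom.comp (algebraMap A0 B))
      ((((Algebra.TensorProduct.map (Ideal.Quotient.mkₐ A I) (AlgHom.id A B) :
        Q ⊗[A] B →ₐ[A] (Q ⧸ I) ⊗[A] B) : Q ⊗[A] B →+* (Q ⧸ I) ⊗[A] B).comp
        ((Algebra.TensorProduct.map ψ₁ (AlgHom.id A B) : W ⊗[A] B →ₐ[A] Q ⊗[A] B) :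
          W ⊗[A] B →+* Q ⊗[A] B)).comp Θ)
      (fun a0 => by
        change Algebra.TensorProduct.map (Ideal.Quotient.mkₐ A I) (AlgHom.id A B)
          (Algebra.TensorProduct.map ψ₁ (AlgHom.id A B) (Θ (algebraMap A0 A a0))) = _
        rw [hsec ψ₁ a0]
        rfl)
    have e₁ := huniq (((Algebra.TensorProduct.map ψ₁ (AlgHom.id A B) :
        W ⊗[A] B →ₐ[A] Q ⊗[A] B) : W ⊗[A] B →+* Q ⊗[A] B).comp Θ)
      ⟨fun a0 => hsec ψ₁ a0, fun a => rfl⟩
    have e₂ := huniq (((Algebra.TensorProduct.map ψ₂ (AlgHom.id A B) :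
        W ⊗[A] B →ₐ[A] Q ⊗[A] B) : W ⊗[A] B →+* Q ⊗[A] B).comp Θ)
      ⟨fun a0 => hsec ψ₂ a0, fun a => by
        change Algebra.TensorProduct.map (Ideal.Quotient.mkₐ A I) (AlgHom.id A B)
          (Algebra.TensorProduct.map ψ₂ (AlgHom.id A B) (Θ a)) =
          Algebra.TensorProduct.map (Ideal.Quotient.mkₐ A I) (AlgHom.id A B)
          (Algebra.TensorProduct.map ψ₁ (AlgHom.id A B) (Θ a))
        rw [hcomp, hcomp, h]⟩
    obtain ⟨ψ, -, hψuniq⟩ := hrep Q β (by
      intro a0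
      rw [← e₁]
      exact hsec ψ₁ a0)
    rw [hψuniq ψ₁ (fun a => by rw [← e₁]; rfl), hψuniq ψ₂ (fun a => by rw [← e₂]; rfl)]
  · intro φ
    obtain ⟨β, ⟨hβ1, hβ2⟩, -⟩ := existsUnique_lift_ringHom (A0 := A0) (A := A) _ hsurj hnil
      ((Algebra.TensorProduct.includeRight : B →ₐ[A] Q ⊗[A] B).toRingHom.comp (algebraMap A0 B))
      (((Algebra.TensorProduct.map φ (AlgHom.id A B) : W ⊗[A] B →ₐ[A] (Q ⧸ I) ⊗[A] B) :
        W ⊗[A] B →+* (Q ⧸ I) ⊗[A] B).comp Θ)
      (fun a0 => by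
        change Algebra.TensorProduct.map φ (AlgHom.id A B) (Θ (algebraMap A0 A a0)) = _
        rw [hsec φ a0]
        rfl)
    obtain ⟨ψ, hψ, -⟩ := hrep Q β hβ1
    refine ⟨ψ, ?_⟩
    obtain ⟨ψ', -, hψ'uniq⟩ := hrep (Q ⧸ I)
      (((Algebra.TensorProduct.map φ (AlgHom.id A B) : W ⊗[A] B →ₐ[A] (Q ⧸ I) ⊗[A] B) :
        W ⊗[A] B →+* (Q ⧸ I) ⊗[A] B).comp Θ) (fun a0 => hsec φ a0)
    rw [hψ'uniq φ (fun a => rfl)]
    apply hψ'uniq
    intro a
    rw [← hcomp, hψ]
    exact hβ2 a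

end etale

section final

/-- representability in the orientation `R ⊗[A] B`, `τ` being given as an algebra structure (no
tower `A₀ → A → B` is assumed) -/
theorem exists_rep_right (A0 A B : Type u) [CommRing A0] [CommRing A] [CommRing B] [Algebra A0 A]
    [Algebra.Etale A0 A] [Algebra A B] [Module.Finite A B] [Module.Projective A B] [Algebra A0 B] :
    ∃ (W : Type u) (_ : CommRing W) (_ : Algebra A W) (_ : Algebra.Etale A W)
      (Θ : A →+* W ⊗[A] B),
      (∀ a0 : A0, Θ (algebraMap A0 A a0) = (1 : W) ⊗ₜ[A] algebraMap A0 B a0) ∧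
      ∀ (R : Type u) [CommRing R] [Algebra A R] (βr : A →+* R ⊗[A] B),
        (∀ a0 : A0, βr (algebraMap A0 A a0) = (1 : R) ⊗ₜ[A] algebraMap A0 B a0) →
        ∃! ψ : W →ₐ[A] R, ∀ a : A,
          Algebra.TensorProduct.map ψ (AlgHom.id A B) (Θ a) = βr a := by
  classical
  obtain ⟨n, b, β, hb⟩ := exists_dualBasis A B
  haveI : SMulCommClass A0 A B := smulCommClass_of_comm A0 A B
  haveI hfpC : Algebra.FinitePresentation A (B ⊗[A0] A) := by
    haveI : Module.FinitePresentation A B := Module.finitePresentation_of_projective A B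
    haveI : Algebra.FinitePresentation A B := inferInstance
    haveI : Algebra.FinitePresentation B (B ⊗[A0] A) := inferInstance
    exact Algebra.FinitePresentation.trans A B (B ⊗[A0] A)
  obtain ⟨W₀, _, _, θ₀, hUP₀, -, hfp₀⟩ := exists_weilRestriction_fp A B (B ⊗[A0] A)
  haveI : Algebra.FinitePresentation A W₀ := hfp₀ hfpC
  have hrep := rep_right b β hb (θcut β θ₀ (fun j => b j ⊗ₜ[A0] (1 : A)) b)
    (θcut_apply b β hb θ₀ (fun j => b j ⊗ₜ[A0] (1 : A)) b)
    (fun R _ _ γ hγ => cut_existsUnique β θ₀ (fun j => b j ⊗ₜ[A0] (1 : A)) b hUP₀ R γ hγ)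
  haveI : Algebra.FinitePresentation A (Cut β θ₀ (fun j => b j ⊗ₜ[A0] (1 : A)) b) :=
    cut_finitePresentation β θ₀ (fun j => b j ⊗ₜ[A0] (1 : A)) b
  obtain ⟨Θ, hΘdef⟩ : ∃ Θ : A →+* Cut β θ₀ (fun j => b j ⊗ₜ[A0] (1 : A)) b ⊗[A] B,
      ∀ a, Θ a = θcut β θ₀ (fun j => b j ⊗ₜ[A0] (1 : A)) b ((1 : B) ⊗ₜ[A0] a) :=
    ⟨((θcut β θ₀ (fun j => b j ⊗ₜ[A0] (1 : A)) b : B ⊗[A0] A →ₐ[A] _) : B ⊗[A0] A →+* _).comp
      (Algebra.TensorProduct.includeRight : A →ₐ[A0] B ⊗[A0] A).toRingHom, fun a => rfl⟩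
  have h1 : ∀ a0 : A0, Θ (algebraMap A0 A a0) =
      (1 : Cut β θ₀ (fun j => b j ⊗ₜ[A0] (1 : A)) b) ⊗ₜ[A] algebraMap A0 B a0 := by
    intro a0
    rw [hΘdef]
    exact hrep.1 a0
  have h2 : ∀ (R : Type u) [CommRing R] [Algebra A R] (βr : A →+* R ⊗[A] B),
      (∀ a0 : A0, βr (algebraMap A0 A a0) = (1 : R) ⊗ₜ[A] algebraMap A0 B a0) →
      ∃! ψ : Cut β θ₀ (fun j => b j ⊗ₜ[A0] (1 : A)) b →ₐ[A] R, ∀ a : A,
        Algebra.TensorProduct.map ψ (AlgHom.id A B) (Θ a) = βr a := by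
    intro R _ _ βr hβr
    simp only [hΘdef]
    exact hrep.2 R βr hβr
  haveI : Algebra.FormallyEtale A (Cut β θ₀ (fun j => b j ⊗ₜ[A0] (1 : A)) b) :=
    formallyEtale_of_rep (A0 := A0) (A := A) (B := B) Θ h1 h2
  exact ⟨Cut β θ₀ (fun j => b j ⊗ₜ[A0] (1 : A)) b, inferInstance, inferInstance,
    ⟨inferInstance, inferInstance⟩, Θ, h1, h2⟩

theorem comm_map {A B W R : Type u} [CommRing A] [CommRing B] [Algebra A B] [CommRing W]
    [Algebra A W] [CommRing R] [Algebra A R] (ψ : W →ₐ[A] R) (z : B ⊗[A] W) :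
    Algebra.TensorProduct.comm A B R (Algebra.TensorProduct.map (AlgHom.id A B) ψ z) =
      Algebra.TensorProduct.map ψ (AlgHom.id A B) (Algebra.TensorProduct.comm A B W z) := by
  induction z using TensorProduct.induction_on with
  | zero => simp
  | tmul x w => simp
  | add z w hz hw => simp only [map_add, hz, hw]

theorem comm_comm {A B W : Type u} [CommRing A] [CommRing B] [Algebra A B] [CommRing W]
    [Algebra A W] (z : W ⊗[A] B) :
    Algebra.TensorProduct.comm A B W (Algebra.TensorProduct.comm A W B z) = z := by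
  induction z using TensorProduct.induction_on with
  | zero => simp
  | tmul x w => simp
  | add z w hz hw => simp only [map_add, hz, hw]

/-- **[WR], ring level.** -/
theorem exists_liftRes_alg (A0 A B : Type u) [CommRing A0] [CommRing A] [CommRing B]
    [Algebra A0 A] [Algebra.Etale A0 A] [Algebra A B] [Module.Finite A B] [Module.Projective A B]
    (τ : A0 →+* B) :
    ∃ (W : Type u) (_ : CommRing W) (_ : Algebra A W) (_ : Algebra.Etale A W)
      (Θ : A →+* B ⊗[A] W),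
      Θ.comp (algebraMap A0 A) =
        (Algebra.TensorProduct.includeLeftRingHom : B →+* B ⊗[A] W).comp τ ∧
      ∀ (R : Type u) [CommRing R] [Algebra A R] (β : A →+* B ⊗[A] R),
        β.comp (algebraMap A0 A) =
          (Algebra.TensorProduct.includeLeftRingHom : B →+* B ⊗[A] R).comp τ →
        ∃! ψ : W →ₐ[A] R,
          ((Algebra.TensorProduct.map (AlgHom.id A B) ψ : B ⊗[A] W →ₐ[A] B ⊗[A] R) :
            B ⊗[A] W →+* B ⊗[A] R).comp Θ = β := by
  letI : Algebra A0 B := τ.toAlgebra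
  obtain ⟨W, _, _, hW, Θr, hΘr, hrep⟩ := exists_rep_right A0 A B
  refine ⟨W, inferInstance, inferInstance, hW,
    ((Algebra.TensorProduct.comm A W B : W ⊗[A] B ≃ₐ[A] B ⊗[A] W) : W ⊗[A] B →+* B ⊗[A] W).comp Θr,
    ?_, ?_⟩
  · ext a0
    change Algebra.TensorProduct.comm A W B (Θr (algebraMap A0 A a0)) = τ a0 ⊗ₜ[A] (1 : W)
    rw [hΘr]
    rfl
  · intro R _ _ β hβ
    obtain ⟨ψ, hψ, huniq⟩ := hrep R
      (((Algebra.TensorProduct.comm A B R : B ⊗[A] R ≃ₐ[A] R ⊗[A] B) :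
        B ⊗[A] R →+* R ⊗[A] B).comp β)
      (fun a0 => by
        change Algebra.TensorProduct.comm A B R (β (algebraMap A0 A a0)) = _
        have := RingHom.congr_fun hβ a0
        change β (algebraMap A0 A a0) = τ a0 ⊗ₜ[A] (1 : R) at this
        rw [this]
        rfl)
    have key : ∀ (ψ' : W →ₐ[A] R),
        (((Algebra.TensorProduct.map (AlgHom.id A B) ψ' : B ⊗[A] W →ₐ[A] B ⊗[A] R) :
          B ⊗[A] W →+* B ⊗[A] R).comp
          (((Algebra.TensorProduct.comm A W B : W ⊗[A] B ≃ₐ[A] B ⊗[A] W) :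
            W ⊗[A] B →+* B ⊗[A] W).comp Θr) = β) ↔
        ∀ a : A, Algebra.TensorProduct.map ψ' (AlgHom.id A B) (Θr a) =
          Algebra.TensorProduct.comm A B R (β a) := by
      intro ψ'
      constructor
      · intro h a
        have h1 := RingHom.congr_fun h a
        change Algebra.TensorProduct.map (AlgHom.id A B) ψ'
          (Algebra.TensorProduct.comm A W B (Θr a)) = β a at h1
        rw [← h1, comm_map, comm_comm]
      · intro h
        ext a
        change Algebra.TensorProduct.map (AlgHom.id A B) ψ'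
          (Algebra.TensorProduct.comm A W B (Θr a)) = β a
        apply (Algebra.TensorProduct.comm A B R).injective
        rw [comm_map, comm_comm, h]
    refine ⟨ψ, (key ψ).2 hψ, fun ψ' hψ' => huniq ψ' ((key ψ').1 hψ')⟩

end final

end Groth.Agent.R2.H33.GrpdSplitWRAlg
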