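import Mathlib
import Groth.Prelude.Def_Grpd
import Groth.Agent.R2.H84GrpdSplitSpec
import Groth.Agent.R2.H33GrpdInvOpen

/-!
# PROJ:grpd-split — [PT] (helper96)

The fibre of the "Weil restriction" `Res ⟶ U₁` over a point `u₁` with `g⁻¹(g u₁) = {u₁}`, trivial
residue field extension, all of whose `V`-fibre maps to `g u₁` under `t`, is exactly one point with
trivial residue field extension.
-/

set_option autoImplicit false
set_option linter.style.haveILetI false
universe u

open CategoryTheory CategoryTheory.Limits AlgebraicGeometry TopologicalSpace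

namespace Groth.Agent.R2.H96.GrpdSplitPT

section Ring

variable {A₀ A B k : Type u} [CommRing A₀] [CommRing A] [CommRing B] [Field k]
  [Algebra A₀ A] [Algebra A₀ B]

/-- Ring-level core: an étale `A₀`-algebra `A` with a "rational point over `𝔭₀`" `ev : A → k`
which is the only prime over `𝔭₀`; `B` an `A₀`-algebra with nilpotent nilradical all of whose primes
lie over `𝔭₀`.  Then there is exactly one `A₀`-algebra map `A → B`. -/
theorem existsUnique_algHom [Algebra.FormallySmooth A₀ A] [Algebra.FormallyUnramified A₀ A]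
    (hnil : IsNilpotent (nilradical B)) (ev : A →+* k)
    (hE : ∀ a : A, ∃ a₀ s₀ : A₀, ev (algebraMap A₀ A s₀) ≠ 0 ∧
      ev (algebraMap A₀ A s₀ * a) = ev (algebraMap A₀ A a₀))
    (h2 : ∀ 𝔮 : Ideal A, 𝔮.IsPrime →
      𝔮.comap (algebraMap A₀ A) = (RingHom.ker ev).comap (algebraMap A₀ A) → 𝔮 = RingHom.ker ev)
    (h3 : ∀ 𝔮 : Ideal B, 𝔮.IsPrime →
      𝔮.comap (algebraMap A₀ B) = (RingHom.ker ev).comap (algebraMap A₀ A)) :
    ∃! _β : A →ₐ[A₀] B, True := by
  set 𝔭₀ : Ideal A₀ := (RingHom.ker ev).comap (algebraMap A₀ A) with h𝔭₀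
  haveI : (RingHom.ker ev).IsPrime := RingHom.ker_isPrime ev
  haveI h𝔭₀prime : 𝔭₀.IsPrime := Ideal.comap_isPrime _ _
  have hmem𝔭₀ : ∀ x : A₀, x ∈ 𝔭₀ ↔ ev (algebraMap A₀ A x) = 0 := fun x => by
    rw [h𝔭₀, Ideal.mem_comap, RingHom.mem_ker]
  -- (i) elements outside `𝔭₀` are units in `B`
  have hunit : ∀ s : A₀, s ∉ 𝔭₀ → IsUnit (algebraMap A₀ B s) := by
    intro s hs
    by_contra hnu
    obtain ⟨𝔪, h𝔪, hs𝔪⟩ := exists_max_ideal_of_mem_nonunits hnu
    have := h3 𝔪 h𝔪.isPrime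
    exact hs (by rw [← this]; exact hs𝔪)
  -- (ii) elements of `𝔭₀` are nilpotent in `B`
  have hnilp : ∀ x : A₀, x ∈ 𝔭₀ → algebraMap A₀ B x ∈ nilradical B := by
    intro x hx
    rw [nilradical_eq_sInf, Ideal.mem_sInf]
    intro 𝔮 h𝔮
    have := h3 𝔮 h𝔮
    have hx' : x ∈ 𝔮.comap (algebraMap A₀ B) := by rw [this]; exact hx
    exact hx'
  -- the two lifts from the residue field of `𝔭₀`
  let lam : 𝔭₀.ResidueField →+* B ⧸ nilradical B :=
    Ideal.ResidueField.lift 𝔭₀ (algebraMap A₀ (B ⧸ nilradical B))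
      (by
        intro x hx
        rw [RingHom.mem_ker, IsScalarTower.algebraMap_apply A₀ B (B ⧸ nilradical B),
          Ideal.Quotient.algebraMap_eq, Ideal.Quotient.eq_zero_iff_mem]
        exact hnilp x hx)
      (by
        intro s hs
        show IsUnit (algebraMap A₀ (B ⧸ nilradical B) s)
        rw [IsScalarTower.algebraMap_apply A₀ B (B ⧸ nilradical B)]
        exact (hunit s hs).map _)
  let rho : 𝔭₀.ResidueField →+* k :=
    Ideal.ResidueField.lift 𝔭₀ (ev.comp (algebraMap A₀ A))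
      (by
        intro x hx
        rw [RingHom.mem_ker, RingHom.comp_apply]
        exact (hmem𝔭₀ x).1 hx)
      (by
        intro s hs
        show IsUnit (ev.comp (algebraMap A₀ A) s)
        rw [isUnit_iff_ne_zero, RingHom.comp_apply]
        exact fun h => hs ((hmem𝔭₀ s).2 h))
  have hrho : ∀ x : A₀, rho (algebraMap A₀ 𝔭₀.ResidueField x) = ev (algebraMap A₀ A x) := fun x =>
    Ideal.ResidueField.lift_algebraMap _ _ _ _ x
  have hlam : ∀ x : A₀, lam (algebraMap A₀ 𝔭₀.ResidueField x) = algebraMap A₀ (B ⧸ nilradical B) x :=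
    fun x => Ideal.ResidueField.lift_algebraMap _ _ _ _ x
  have hrho_inj : Function.Injective rho := rho.injective
  -- `ev` factors through `rho`
  have hrange : ∀ a : A, ev a ∈ rho.range := by
    intro a
    obtain ⟨a₀, s₀, hs₀, h⟩ := hE a
    refine ⟨algebraMap A₀ 𝔭₀.ResidueField a₀ / algebraMap A₀ 𝔭₀.ResidueField s₀, ?_⟩
    rw [map_div₀, hrho, hrho, ← h, map_mul, mul_div_cancel_left₀ _ hs₀]
  let e : 𝔭₀.ResidueField ≃+* rho.range :=
    RingEquiv.ofBijective rho.rangeRestrict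
      ⟨fun x y hxy => hrho_inj (congrArg Subtype.val hxy), rho.rangeRestrict_surjective⟩
  let theta : A →+* 𝔭₀.ResidueField := e.symm.toRingHom.comp (ev.codRestrict rho.range hrange)
  have htheta : ∀ a : A, rho (theta a) = ev a := by
    intro a
    have h1 : e (theta a) = ev.codRestrict rho.range hrange a := e.apply_symm_apply _
    exact congrArg Subtype.val h1
  have htheta_alg : ∀ x : A₀, theta (algebraMap A₀ A x) = algebraMap A₀ 𝔭₀.ResidueField x := by
    intro x
    apply hrho_inj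
    rw [htheta, hrho]
  -- existence
  let βred : A →ₐ[A₀] B ⧸ nilradical B :=
    { toRingHom := lam.comp theta
      commutes' := fun x => by
        show lam (theta (algebraMap A₀ A x)) = _
        rw [htheta_alg, hlam] }
  refine ⟨Algebra.FormallySmooth.lift (nilradical B) hnil βred, trivial, ?_⟩
  -- uniqueness
  intro β₁ _
  refine Algebra.FormallyUnramified.ext (I := nilradical B) hnil ?_
  suffices H : ∀ (γ₁ γ₂ : A →ₐ[A₀] B) (x : A), γ₁ x - γ₂ x ∈ nilradical B by
    intro x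
    rw [Ideal.Quotient.eq]
    exact H _ _ x
  intro γ₁ γ₂ x
  rw [nilradical_eq_sInf, Ideal.mem_sInf]
  intro 𝔮 h𝔮
  haveI : 𝔮.IsPrime := h𝔮
  have hker : ∀ γ : A →ₐ[A₀] B, 𝔮.comap γ.toRingHom = RingHom.ker ev := by
    intro γ
    refine h2 _ (Ideal.comap_isPrime _ _) ?_
    rw [← h3 𝔮 h𝔮, Ideal.comap_comap]
    congr 1
    ext a
    simp
  obtain ⟨a₀, s₀, hs₀, h⟩ := hE x
  have hdiff : algebraMap A₀ A s₀ * x - algebraMap A₀ A a₀ ∈ RingHom.ker ev := by
    rw [RingHom.mem_ker, map_sub, h, sub_self]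
  have hγ : ∀ γ : A →ₐ[A₀] B, algebraMap A₀ B s₀ * γ x - algebraMap A₀ B a₀ ∈ 𝔮 := by
    intro γ
    have := hdiff
    rw [← hker γ, Ideal.mem_comap] at this
    simpa using this
  have hs𝔮 : algebraMap A₀ B s₀ ∉ 𝔮 := by
    intro hmem
    have : s₀ ∈ 𝔮.comap (algebraMap A₀ B) := hmem
    rw [h3 𝔮 h𝔮] at this
    exact hs₀ ((hmem𝔭₀ s₀).1 this)
  have hsub : algebraMap A₀ B s₀ * (γ₁ x - γ₂ x) ∈ 𝔮 := by
    have := 𝔮.sub_mem (hγ γ₁) (hγ γ₂)
    convert this using 1
    ring
  exact (h𝔮.mem_or_mem hsub).resolve_left hs𝔮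

end Ring

section Affine

open Groth.Agent.R2.H33.GrpdInvOpen

/-- the prime ideal of global sections vanishing at `x`. -/
noncomputable def pt (X : Scheme.{u}) (x : X) : Ideal Γ(X, ⊤) :=
  RingHom.ker (X.Γevaluation x).hom

instance (X : Scheme.{u}) (x : X) : (pt X x).IsPrime := RingHom.ker_isPrime _

lemma mem_pt_iff {X : Scheme.{u}} (x : X) (a : Γ(X, ⊤)) : a ∈ pt X x ↔ x ∉ X.basicOpen a := by
  rw [pt, RingHom.mem_ker]
  exact X.evaluation_eq_zero_iff_notMem_basicOpen (U := ⊤) x trivial a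

lemma comap_pt {X Y : Scheme.{u}} (f : X ⟶ Y) (x : X) :
    (pt X x).comap f.appTop.hom = pt Y (f x) := by
  ext a
  rw [Ideal.mem_comap, mem_pt_iff, mem_pt_iff, ← Scheme.preimage_basicOpen_top]
  rfl

lemma exists_pt_eq {X : Scheme.{u}} [IsAffine X] (𝔮 : Ideal Γ(X, ⊤)) [h𝔮 : 𝔮.IsPrime] :
    ∃ x : X, pt X x = 𝔮 := by
  refine ⟨(isAffineOpen_top X).fromSpec ⟨𝔮, h𝔮⟩, ?_⟩
  ext a
  rw [mem_pt_iff, fromSpec_mem_basicOpen_iff]
  simp

lemma pt_injective {X : Scheme.{u}} [IsAffine X] {x y : X} (h : pt X x = pt X y) : x = y := by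
  obtain ⟨p, rfl⟩ := exists_fromSpec_eq (isAffineOpen_top X) x trivial
  obtain ⟨q, rfl⟩ := exists_fromSpec_eq (isAffineOpen_top X) y trivial
  congr 1
  apply PrimeSpectrum.ext
  ext a
  have := Ideal.ext_iff.1 h a
  rw [mem_pt_iff, mem_pt_iff, fromSpec_mem_basicOpen_iff, fromSpec_mem_basicOpen_iff] at this
  simpa using this

/-- elements of the residue field of `u₁` are fractions of global sections of the base, if the
residue field extension is trivial. -/
lemma exists_frac {U U₁ : Scheme.{u}} [IsAffine U] (g : U₁ ⟶ U) (u₁ : U₁)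
    (hsurj : Function.Surjective (g.residueFieldMap u₁).hom) (a : Γ(U₁, ⊤)) :
    ∃ a₀ s₀ : Γ(U, ⊤), (U₁.Γevaluation u₁).hom (g.appTop.hom s₀) ≠ 0 ∧
      (U₁.Γevaluation u₁).hom (g.appTop.hom s₀ * a) = (U₁.Γevaluation u₁).hom (g.appTop.hom a₀) := by
  obtain ⟨η, hη⟩ := hsurj ((U₁.Γevaluation u₁).hom a)
  obtain ⟨σ, rfl⟩ := U.residue_surjective (g u₁) η
  letI := U.presheaf.algebra_section_stalk (U := ⊤) ⟨g u₁, trivial⟩
  haveI := (isAffineOpen_top U).isLocalization_stalk ⟨g u₁, trivial⟩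
  obtain ⟨⟨a₀, s₀⟩, h⟩ := IsLocalization.surj
    ((isAffineOpen_top U).primeIdealOf ⟨g u₁, trivial⟩).asIdeal.primeCompl σ
  have hu : IsUnit (algebraMap Γ(U, ⊤) (U.presheaf.stalk (g u₁)) s₀) :=
    IsLocalization.map_units _ s₀
  have hev : ∀ x : Γ(U, ⊤), (U.Γevaluation (g u₁)).hom x =
      (U.residue (g u₁)).hom (algebraMap Γ(U, ⊤) (U.presheaf.stalk (g u₁)) x) := fun x => rfl
  have hnat : ∀ x : Γ(U, ⊤), (g.residueFieldMap u₁).hom ((U.Γevaluation (g u₁)).hom x) =
      (U₁.Γevaluation u₁).hom (g.appTop.hom x) := fun x =>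
    Scheme.Γevaluation_naturality_apply g u₁ x
  have h0 : (U.Γevaluation (g u₁)).hom s₀ ≠ 0 := by
    rw [hev]
    exact (hu.map _).ne_zero
  refine ⟨a₀, s₀, ?_, ?_⟩
  · rw [← hnat]
    exact fun h => h0 ((g.residueFieldMap u₁).hom.injective (h.trans (map_zero _).symm))
  · have h' := congrArg (fun z => (g.residueFieldMap u₁).hom ((U.residue (g u₁)).hom z)) h
    simp only [map_mul] at h'
    rw [← hev, ← hev, hnat, hnat, hη] at h'
    rw [map_mul, mul_comm]
    exact h'

/-- a morphism into an affine scheme with prescribed map on global sections. -/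
lemma exists_hom_appTop {F Y : Scheme.{u}} [IsAffine F] [IsAffine Y] (β : Γ(Y, ⊤) ⟶ Γ(F, ⊤)) :
    ∃ b : F ⟶ Y, b.appTop = β := by
  refine ⟨F.toSpecΓ ≫ Spec.map β ≫ Y.isoSpec.inv, ?_⟩
  have h1 : (F.toSpecΓ ≫ Spec.map β ≫ Y.isoSpec.inv) ≫ Y.toSpecΓ = F.toSpecΓ ≫ Spec.map β := by
    simp [Scheme.isoSpec_inv_toSpecΓ]
  rw [Scheme.toSpecΓ_naturality] at h1
  have h2 := (cancel_epi F.toSpecΓ).1 h1
  exact Spec.map_injective h2

end Affine

section Lift

/-- **LIFT**: unique lifting through `g` of `pr₁ ≫ t` on the fibre of `p` over a field-valued point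
above `u₁`. -/
theorem existsUnique_lift {U U₁ V : Scheme.{u}} [IsAffine U] [IsAffine U₁] (g : U₁ ⟶ U) [Etale g]
    (p : V ⟶ U₁) [IsFinite p] (t : V ⟶ U) (u₁ : U₁)
    (h1 : Function.Surjective (g.residueFieldMap u₁).hom)
    (h2 : ∀ x : U₁, g x = g u₁ → x = u₁) (h3 : ∀ v : V, p v = u₁ → t v = g u₁)
    (K : Type u) [Field K] (a : Spec (CommRingCat.of K) ⟶ U₁) (ha : ∀ x, a x = u₁) :
    ∃! b : pullback p a ⟶ U₁, b ≫ g = pullback.fst p a ≫ t := by
  haveI : IsAffine (pullback p a) := isAffine_of_isAffineHom (pullback.snd p a)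
  haveI : IsLocallyNoetherian (pullback p a) :=
    LocallyOfFiniteType.isLocallyNoetherian (pullback.snd p a)
  haveI : IsNoetherianRing Γ(pullback p a, ⊤) :=
    IsLocallyNoetherian.component_noetherian ⟨⊤, isAffineOpen_top _⟩
  have hnil : IsNilpotent (nilradical Γ(pullback p a, ⊤)) :=
    IsNoetherianRing.isNilpotent_nilradical _
  letI algA : Algebra Γ(U, ⊤) Γ(U₁, ⊤) := g.appTop.hom.toAlgebra
  letI algB : Algebra Γ(U, ⊤) Γ(pullback p a, ⊤) := (pullback.fst p a ≫ t).appTop.hom.toAlgebra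
  have hEt : Algebra.Etale Γ(U, ⊤) Γ(U₁, ⊤) :=
    (HasRingHomProperty.iff_of_isAffine (P := @Etale)).1 ‹Etale g›
  haveI : Algebra.FormallySmooth Γ(U, ⊤) Γ(U₁, ⊤) := inferInstance
  haveI : Algebra.FormallyUnramified Γ(U, ⊤) Γ(U₁, ⊤) := inferInstance
  have hkerev : RingHom.ker (U₁.Γevaluation u₁).hom = pt U₁ u₁ := rfl
  have h𝔭₀ : (pt U₁ u₁).comap (algebraMap Γ(U, ⊤) Γ(U₁, ⊤)) = pt U (g u₁) := comap_pt g u₁
  obtain ⟨β, -, hβ⟩ := existsUnique_algHom (A₀ := Γ(U, ⊤)) (A := Γ(U₁, ⊤))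
    (B := Γ(pullback p a, ⊤)) hnil (U₁.Γevaluation u₁).hom
    (exists_frac g u₁ h1)
    (by
      intro 𝔮 h𝔮 hcomap
      rw [hkerev, h𝔭₀] at hcomap
      rw [hkerev]
      obtain ⟨x, rfl⟩ := exists_pt_eq 𝔮
      have : (pt U₁ x).comap (algebraMap Γ(U, ⊤) Γ(U₁, ⊤)) = pt U (g x) := comap_pt g x
      rw [this] at hcomap
      rw [h2 x (pt_injective hcomap)])
    (by
      intro 𝔮 h𝔮
      rw [hkerev, h𝔭₀]
      obtain ⟨x, rfl⟩ := exists_pt_eq 𝔮
      have : (pt (pullback p a) x).comap (algebraMap Γ(U, ⊤) Γ(pullback p a, ⊤)) =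
        pt U ((pullback.fst p a ≫ t) x) := comap_pt (pullback.fst p a ≫ t) x
      rw [this]
      congr 1
      rw [Scheme.Hom.comp_apply]
      apply h3
      have hc := congrArg (fun φ : pullback p a ⟶ U₁ => φ x) (pullback.condition (f := p) (g := a))
      simp only [Scheme.Hom.comp_apply] at hc
      rw [hc]
      exact ha _)
  -- translate back to schemes
  have key : ∀ b : pullback p a ⟶ U₁, b ≫ g = pullback.fst p a ≫ t →
      ∃ γ : Γ(U₁, ⊤) →ₐ[Γ(U, ⊤)] Γ(pullback p a, ⊤), γ.toRingHom = b.appTop.hom := by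
    intro b hb
    refine ⟨{ toRingHom := b.appTop.hom, commutes' := ?_ }, rfl⟩
    intro r
    have := congrArg (fun φ => φ.appTop.hom r) hb
    simpa [RingHom.algebraMap_toAlgebra] using this
  obtain ⟨b, hb⟩ := exists_hom_appTop (F := pullback p a) (Y := U₁) (CommRingCat.ofHom β.toRingHom)
  refine ⟨b, ?_, ?_⟩
  · apply ext_of_isAffine
    rw [Scheme.Hom.comp_appTop, hb]
    ext r
    exact β.commutes r
  · intro b' hb'
    obtain ⟨γ', hγ'⟩ := key b' hb'
    have h1 : γ' = β := hβ γ' trivial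
    apply ext_of_isAffine
    rw [hb]
    ext r
    rw [← hγ', h1]
    rfl

end Lift

section Main

open Groth.Agent.R2.H84.GrpdSplitSpec

lemma bijective_desc_of_eq (X : Scheme.{u}) (x : X)
    (a' : Spec (CommRingCat.of (X.residueField x)) ⟶ X) (h : a' = X.fromSpecResidueField x) :
    Function.Bijective (Scheme.descResidueField (Scheme.stalkClosedPointTo a')).hom := by
  have h1 := (Scheme.SpecToEquivOfField (X.residueField x) X).apply_symm_apply ⟨x, 𝟙 _⟩
  have h2 : (Scheme.SpecToEquivOfField (X.residueField x) X).symm ⟨x, 𝟙 _⟩ = a' := by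
    rw [h]
    simp only [Scheme.SpecToEquivOfField, Equiv.coe_fn_symm_mk, Spec.map_id]
    exact Category.id_comp _
  rw [h2] at h1
  obtain ⟨e, he⟩ := Scheme.SpecToEquivOfField_eq_iff.1 h1
  have he' : Scheme.descResidueField (Scheme.stalkClosedPointTo a') =
      (X.residueFieldCongr e).hom ≫ 𝟙 _ := he
  have he'' := congrArg (fun φ => (⇑(CommRingCat.Hom.hom φ) : _ → _)) he'
  simp only at he''
  rw [he'']
  exact ConcreteCategory.bijective_of_isIso ((X.residueFieldCongr e).hom ≫ 𝟙 _)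

lemma map_ev_g {U U₁ V : Scheme.{u}} {g : U₁ ⟶ U} {p : V ⟶ U₁} {t : V ⟶ U} (L : LiftRes g p t)
    {T : Scheme.{u}} (a : T ⟶ U₁) (c : T ⟶ L.Res) (hc : c ≫ L.r = a) :
    (pullback.map p a p L.r (𝟙 V) c (𝟙 U₁) (by rw [Category.comp_id, Category.id_comp])
      (by rw [Category.comp_id, hc]) ≫ L.ev) ≫ g = pullback.fst p a ≫ t := by
  rw [Category.assoc, L.ev_g, ← Category.assoc]
  congr 1
  simp only [pullback.map, Category.comp_id]
  exact pullback.lift_fst _ _ _

theorem ptStmt : PTStmt.{u} := by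
  intro U U₁ V _ _ g _ p _ _ _ t L u₁ hbij hfib hV
  have LIFT := fun (K : Type u) [Field K] (a : Spec (CommRingCat.of K) ⟶ U₁)
    (ha : ∀ x, a x = u₁) => existsUnique_lift g p t u₁ hbij.2 hfib hV K a ha
  haveI := L.isAffine
  -- existence
  obtain ⟨b, hb, -⟩ := LIFT (U₁.residueField u₁) (U₁.fromSpecResidueField u₁)
    (fun x => Scheme.fromSpecResidueField_apply u₁ x)
  obtain ⟨c, hc, hcev⟩ := L.exists_lift (Spec (CommRingCat.of (U₁.residueField u₁)))
    (U₁.fromSpecResidueField u₁) b hb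
  have hcpt : ∀ x, L.r (c x) = u₁ := by
    intro x
    have := congrArg (fun φ : Spec (CommRingCat.of (U₁.residueField u₁)) ⟶ U₁ => φ x) hc
    simp only [Scheme.Hom.comp_apply] at this
    rw [this]
    exact Scheme.fromSpecResidueField_apply u₁ x
  refine ⟨c (IsLocalRing.closedPoint (U₁.residueField u₁)), hcpt _, ?_, ?_⟩
  · -- trivial residue field extension
    have h2 := Scheme.descResidueField_stalkClosedPointTo_comp (f := L.r) c
    have h1 : Function.Bijective (L.r.residueFieldMap (c (IsLocalRing.closedPoint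
        (U₁.residueField u₁))) ≫ Scheme.descResidueField (Scheme.stalkClosedPointTo c)).hom := by
      rw [← h2]
      exact bijective_desc_of_eq U₁ u₁ (c ≫ L.r) hc
    have h3 : Function.Injective
        (Scheme.descResidueField (Scheme.stalkClosedPointTo c)).hom := RingHom.injective _
    rw [CommRingCat.hom_comp, RingHom.coe_comp] at h1
    have h4 : Function.Bijective (Scheme.descResidueField (Scheme.stalkClosedPointTo c)).hom :=
      ⟨h3, Function.Surjective.of_comp h1.2⟩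
    exact (Function.Bijective.of_comp_iff' h4 _).1 h1
  · -- uniqueness
    intro y hy
    let ψ : Spec (L.Res.residueField y) ⟶ Spec (U₁.residueField u₁) :=
      Spec.map ((U₁.residueFieldCongr hy).inv ≫ L.r.residueFieldMap y)
    have hcc : (ψ ≫ c) ≫ L.r = L.Res.fromSpecResidueField y ≫ L.r := by
      rw [Category.assoc, hc, ← Scheme.Hom.SpecMap_residueFieldMap_fromSpecResidueField,
        ← Scheme.residueFieldCongr_fromSpecResidueField hy]
      dsimp only [ψ]
      rw [← Category.assoc, ← Spec.map_comp, Iso.hom_inv_id_assoc]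
    have hK : ∀ x, ((ψ ≫ c) ≫ L.r) x = u₁ := by
      intro x
      rw [Scheme.Hom.comp_apply, Scheme.Hom.comp_apply]
      exact hcpt _
    haveI : IsAffine (Spec (L.Res.residueField y)) := inferInstance
    have hEq : ψ ≫ c = L.Res.fromSpecResidueField y := by
      refine L.lift_unique (Spec (L.Res.residueField y)) (ψ ≫ c) (L.Res.fromSpecResidueField y)
        hcc ?_
      refine (LIFT (L.Res.residueField y) ((ψ ≫ c) ≫ L.r) hK).unique ?_ ?_
      · exact map_ev_g L _ _ rfl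
      · exact map_ev_g L _ _ hcc.symm
    have h1 : y = L.Res.fromSpecResidueField y (IsLocalRing.closedPoint (L.Res.residueField y)) :=
      (Scheme.fromSpecResidueField_apply y _).symm
    rw [h1, ← hEq, Scheme.Hom.comp_apply]
    congr 1
    exact Subsingleton.elim _ _

end Main

end Groth.Agent.R2.H96.GrpdSplitPT
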