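import Mathlib
import Groth.Prelude.Def_Grpd
import Groth.Agent.R2.H84GrpdSplitSpec
import Groth.Agent.R2.H96GrpdSplitPT

/-!
# PROJ:grpd-split — scheme translation of [WR] (helper96)

`WRAlgStmt` is helper33's ring-level statement (existence of the "Weil restriction" algebra `W` with its
universal property on `A`-algebras `R`); `WRCatStmt` is the same statement in `CommRingCat`, with
arbitrary pushouts instead of tensor products; `wrStmt_of` deduces `GrpdSplitSpec.WRStmt`.
-/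

set_option autoImplicit false
set_option linter.style.haveILetI false
universe u

open CategoryTheory CategoryTheory.Limits AlgebraicGeometry TopologicalSpace TensorProduct

namespace Groth.Agent.R2.H96.GrpdSplitWRSch

/-- helper33's ring-level statement (PROJ:grpd-split, board #2743). -/
def WRAlgStmt : Prop :=
  ∀ (A0 A B : Type u) [CommRing A0] [CommRing A] [CommRing B] [Algebra A0 A] [Algebra.Etale A0 A]
    [Algebra A B] [Module.Finite A B] [Module.Projective A B] (τ : A0 →+* B),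
    ∃ (W : Type u) (_ : CommRing W) (_ : Algebra A W) (_ : Algebra.Etale A W)
      (Θ : A →+* B ⊗[A] W),
      Θ.comp (algebraMap A0 A) =
        (Algebra.TensorProduct.includeLeftRingHom : B →+* B ⊗[A] W).comp τ ∧
      ∀ (R : Type u) [CommRing R] [Algebra A R] (β : A →+* B ⊗[A] R),
        β.comp (algebraMap A0 A) =
          (Algebra.TensorProduct.includeLeftRingHom : B →+* B ⊗[A] R).comp τ →
        ∃! ψ : W →ₐ[A] R,
          ((Algebra.TensorProduct.map (AlgHom.id A B) ψ : B ⊗[A] W →ₐ[A] B ⊗[A] R) :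
            B ⊗[A] W →+* B ⊗[A] R).comp Θ = β

/-- the same statement in `CommRingCat`, for arbitrary pushout squares. -/
def WRCatStmt : Prop :=
  ∀ (A0 A B : CommRingCat.{u}) (φ : A0 ⟶ A) (π : A ⟶ B) (τ : A0 ⟶ B), φ.hom.Etale →
    π.hom.Finite → π.hom.Flat → π.hom.FinitePresentation →
    ∃ (W : CommRingCat.{u}) (ω : A ⟶ W), ω.hom.Etale ∧
      ∀ (P : CommRingCat.{u}) (inlW : B ⟶ P) (inrW : W ⟶ P), IsPushout π ω inlW inrW →
        ∃ θ : A ⟶ P, φ ≫ θ = τ ≫ inlW ∧
          ∀ (R : CommRingCat.{u}) (ρ : A ⟶ R) (Q : CommRingCat.{u}) (inl : B ⟶ Q) (inr : R ⟶ Q),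
            IsPushout π ρ inl inr → ∀ β : A ⟶ Q, φ ≫ β = τ ≫ inl →
              ∃! ψ : W ⟶ R, ω ≫ ψ = ρ ∧
                ∀ m : P ⟶ Q, inlW ≫ m = inl → inrW ≫ m = ψ ≫ inr → θ ≫ m = β

theorem wrCat_of (h : WRAlgStmt.{u}) : WRCatStmt.{u} := by
  intro A0 A B φ π τ hφ hfin hflat hfp
  letI : Algebra A0 A := φ.hom.toAlgebra
  letI : Algebra A B := π.hom.toAlgebra
  haveI : Algebra.Etale A0 A := hφ
  haveI : Module.Finite A B := hfin
  haveI : Module.Flat A B := hflat
  haveI : Algebra.FinitePresentation A B := hfp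
  haveI : Module.FinitePresentation A B :=
    Module.FinitePresentation.of_finite_of_finitePresentation _ _
  haveI : Module.Projective A B := Module.Flat.projective_of_finitePresentation
  obtain ⟨W, iW, iAW, hWet, Θ, hΘ, huniv⟩ := h A0 A B τ.hom
  refine ⟨CommRingCat.of W, CommRingCat.ofHom (algebraMap A W), RingHom.etale_algebraMap.2 hWet, ?_⟩
  intro P inlW inrW hP
  have hT : IsPushout π (CommRingCat.ofHom (algebraMap A W))
      (CommRingCat.ofHom (Algebra.TensorProduct.includeLeftRingHom : B →+* B ⊗[A] W))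
      (CommRingCat.ofHom (Algebra.TensorProduct.includeRight.toRingHom : W →+* B ⊗[A] W)) :=
    CommRingCat.isPushout_tensorProduct A B W
  refine ⟨CommRingCat.ofHom Θ ≫ (hT.isoIsPushout _ _ hP).hom, ?_, ?_⟩
  · have h1 : φ ≫ CommRingCat.ofHom Θ = τ ≫ CommRingCat.ofHom
        (Algebra.TensorProduct.includeLeftRingHom : B →+* B ⊗[A] W) := by
      ext x
      exact RingHom.congr_fun hΘ x
    rw [← Category.assoc, h1, Category.assoc, IsPushout.inl_isoIsPushout_hom]
  · intro R ρ Q inl inr hQ β hβ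
    letI : Algebra A R := ρ.hom.toAlgebra
    have hTR : IsPushout π ρ
        (CommRingCat.ofHom (Algebra.TensorProduct.includeLeftRingHom : B →+* B ⊗[A] R))
        (CommRingCat.ofHom (Algebra.TensorProduct.includeRight.toRingHom : R →+* B ⊗[A] R)) :=
      CommRingCat.isPushout_tensorProduct A B R
    have hcond : (β ≫ (hTR.isoIsPushout _ _ hQ).inv).hom.comp (algebraMap A0 A) =
        (Algebra.TensorProduct.includeLeftRingHom : B →+* B ⊗[A] R).comp τ.hom := by
      have h2 : φ ≫ β ≫ (hTR.isoIsPushout _ _ hQ).inv = τ ≫ CommRingCat.ofHom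
          (Algebra.TensorProduct.includeLeftRingHom : B →+* B ⊗[A] R) := by
        rw [← Category.assoc, hβ, Category.assoc, IsPushout.inl_isoIsPushout_inv]
      ext x
      exact congrArg (fun f => f.hom x) h2
    obtain ⟨ψ, hψ, hψuniq⟩ := huniv R (β ≫ (hTR.isoIsPushout _ _ hQ).inv).hom hcond
    -- the key naturality
    have hnat : ∀ (ψ' : W →ₐ[A] R) (m : P ⟶ Q), inlW ≫ m = inl →
        inrW ≫ m = CommRingCat.ofHom ψ'.toRingHom ≫ inr →
        (hT.isoIsPushout _ _ hP).hom ≫ m =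
          CommRingCat.ofHom ((Algebra.TensorProduct.map (AlgHom.id A B) ψ' :
            B ⊗[A] W →ₐ[A] B ⊗[A] R) : B ⊗[A] W →+* B ⊗[A] R) ≫
            (hTR.isoIsPushout _ _ hQ).hom := by
      intro ψ' m hm1 hm2
      apply hT.hom_ext
      · rw [IsPushout.inl_isoIsPushout_hom_assoc, hm1]
        have : CommRingCat.ofHom (Algebra.TensorProduct.includeLeftRingHom : B →+* B ⊗[A] W) ≫
            CommRingCat.ofHom ((Algebra.TensorProduct.map (AlgHom.id A B) ψ' :
              B ⊗[A] W →ₐ[A] B ⊗[A] R) : B ⊗[A] W →+* B ⊗[A] R) =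
            CommRingCat.ofHom (Algebra.TensorProduct.includeLeftRingHom : B →+* B ⊗[A] R) := by
          ext x
          simp
        rw [← Category.assoc, this, IsPushout.inl_isoIsPushout_hom]
      · rw [IsPushout.inr_isoIsPushout_hom_assoc, hm2]
        have : CommRingCat.ofHom (Algebra.TensorProduct.includeRight.toRingHom : W →+* B ⊗[A] W) ≫
            CommRingCat.ofHom ((Algebra.TensorProduct.map (AlgHom.id A B) ψ' :
              B ⊗[A] W →ₐ[A] B ⊗[A] R) : B ⊗[A] W →+* B ⊗[A] R) =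
            CommRingCat.ofHom ψ'.toRingHom ≫
              CommRingCat.ofHom (Algebra.TensorProduct.includeRight.toRingHom : R →+* B ⊗[A] R) := by
          ext x
          simp
        rw [← Category.assoc, this, Category.assoc]
        erw [IsPushout.inr_isoIsPushout_hom]
    refine ⟨CommRingCat.ofHom ψ.toRingHom, ⟨?_, ?_⟩, ?_⟩
    · ext a
      exact ψ.commutes a
    · intro m hm1 hm2
      rw [Category.assoc, hnat ψ m hm1 hm2, ← Category.assoc, ← CommRingCat.ofHom_comp, hψ]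
      simp
    · rintro ψc ⟨hψc1, hψc2⟩
      let ψ' : W →ₐ[A] R :=
        { toRingHom := ψc.hom
          commutes' := fun a => congrArg (fun f => f.hom a) hψc1 }
      have hψ'c : CommRingCat.ofHom ψ'.toRingHom = ψc := rfl
      have key : ((Algebra.TensorProduct.map (AlgHom.id A B) ψ' : B ⊗[A] W →ₐ[A] B ⊗[A] R) :
          B ⊗[A] W →+* B ⊗[A] R).comp Θ = (β ≫ (hTR.isoIsPushout _ _ hQ).inv).hom := by
        have hm := hψc2 ((hT.isoIsPushout _ _ hP).inv ≫
          CommRingCat.ofHom ((Algebra.TensorProduct.map (AlgHom.id A B) ψ' :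
            B ⊗[A] W →ₐ[A] B ⊗[A] R) : B ⊗[A] W →+* B ⊗[A] R) ≫
            (hTR.isoIsPushout _ _ hQ).hom) ?_ ?_
        · rw [Category.assoc, Iso.hom_inv_id_assoc, ← Category.assoc, ← Iso.eq_comp_inv] at hm
          exact congrArg (fun f => f.hom) hm
        · rw [IsPushout.inl_isoIsPushout_inv_assoc]
          have : CommRingCat.ofHom (Algebra.TensorProduct.includeLeftRingHom : B →+* B ⊗[A] W) ≫
              CommRingCat.ofHom ((Algebra.TensorProduct.map (AlgHom.id A B) ψ' :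
                B ⊗[A] W →ₐ[A] B ⊗[A] R) : B ⊗[A] W →+* B ⊗[A] R) =
              CommRingCat.ofHom (Algebra.TensorProduct.includeLeftRingHom : B →+* B ⊗[A] R) := by
            ext x
            simp
          rw [← Category.assoc, this, IsPushout.inl_isoIsPushout_hom]
        · rw [IsPushout.inr_isoIsPushout_inv_assoc]
          have : CommRingCat.ofHom
              (Algebra.TensorProduct.includeRight.toRingHom : W →+* B ⊗[A] W) ≫
              CommRingCat.ofHom ((Algebra.TensorProduct.map (AlgHom.id A B) ψ' :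
                B ⊗[A] W →ₐ[A] B ⊗[A] R) : B ⊗[A] W →+* B ⊗[A] R) =
              CommRingCat.ofHom ψ'.toRingHom ≫ CommRingCat.ofHom
                (Algebra.TensorProduct.includeRight.toRingHom : R →+* B ⊗[A] R) := by
            ext x
            simp
          rw [← Category.assoc, this, Category.assoc]
          erw [IsPushout.inr_isoIsPushout_hom]
          rfl
      have := hψuniq ψ' key
      rw [← hψ'c, this]

section Scheme

open Groth.Agent.R2.H84.GrpdSplitSpec Groth.Agent.R2.H96.GrpdSplitPT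

lemma appTop_specMap_isoSpec_inv {Y : Scheme.{u}} [IsAffine Y] {W : CommRingCat.{u}}
    (ω : Γ(Y, ⊤) ⟶ W) :
    (Spec.map ω ≫ Y.isoSpec.inv).appTop ≫ (Scheme.ΓSpecIso W).hom = ω := by
  have h1 : (Spec.map ω ≫ Y.isoSpec.inv) ≫ Y.toSpecΓ = Spec.map ω := by
    simp [Scheme.isoSpec_inv_toSpecΓ]
  rw [Scheme.toSpecΓ_naturality] at h1
  have h2 : (Spec W).toSpecΓ = Spec.map (Scheme.ΓSpecIso W).hom := by
    rw [← Scheme.isoSpec_Spec_hom]
    rfl
  rw [h2, ← Spec.map_comp] at h1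
  exact Spec.map_injective h1

lemma toSpecΓ_specMap_appTop {T : Scheme.{u}} {W : CommRingCat.{u}} (ψ : W ⟶ Γ(T, ⊤)) :
    (T.toSpecΓ ≫ Spec.map ψ).appTop = (Scheme.ΓSpecIso W).hom ≫ ψ := by
  rw [Scheme.Hom.comp_appTop, Scheme.toSpecΓ_appTop, Scheme.ΓSpecIso_naturality]

lemma map_appTop_fst {U₁ V T Res : Scheme.{u}} (p : V ⟶ U₁) (r : Res ⟶ U₁) (a : T ⟶ U₁)
    (c : T ⟶ Res) (h1 : p ≫ 𝟙 U₁ = 𝟙 V ≫ p) (h2 : a ≫ 𝟙 U₁ = c ≫ r) :
    (pullback.fst p r).appTop ≫ (pullback.map p a p r (𝟙 V) c (𝟙 U₁) h1 h2).appTop =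
      (pullback.fst p a).appTop := by
  rw [← Scheme.Hom.comp_appTop]
  congr 1
  simp only [pullback.map, Category.comp_id]
  exact pullback.lift_fst _ _ _

lemma map_appTop_snd {U₁ V T Res : Scheme.{u}} (p : V ⟶ U₁) (r : Res ⟶ U₁) (a : T ⟶ U₁)
    (c : T ⟶ Res) (h1 : p ≫ 𝟙 U₁ = 𝟙 V ≫ p) (h2 : a ≫ 𝟙 U₁ = c ≫ r) :
    (pullback.snd p r).appTop ≫ (pullback.map p a p r (𝟙 V) c (𝟙 U₁) h1 h2).appTop =
      c.appTop ≫ (pullback.snd p a).appTop := by
  rw [← Scheme.Hom.comp_appTop, ← Scheme.Hom.comp_appTop]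
  congr 1
  simp only [pullback.map]
  exact pullback.lift_snd _ _ _

lemma map_fst_t {U U₁ V T Res : Scheme.{u}} (p : V ⟶ U₁) (r : Res ⟶ U₁) (t : V ⟶ U) (a : T ⟶ U₁)
    (c : T ⟶ Res) (h1 : p ≫ 𝟙 U₁ = 𝟙 V ≫ p) (h2 : a ≫ 𝟙 U₁ = c ≫ r) :
    pullback.map p a p r (𝟙 V) c (𝟙 U₁) h1 h2 ≫ pullback.fst p r ≫ t = pullback.fst p a ≫ t := by
  rw [← Category.assoc]
  congr 1
  simp only [pullback.map, Category.comp_id]
  exact pullback.lift_fst _ _ _

theorem wrStmt_of_cat (h : WRCatStmt.{u}) : WRStmt.{u} := by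
  intro U U₁ V _ _ g _ p _ _ _ t
  haveI : IsAffine V := isAffine_of_isAffineHom p
  have hφ : g.appTop.hom.Etale := (HasRingHomProperty.iff_of_isAffine (P := @Etale)).1 ‹Etale g›
  have hfin : p.appTop.hom.Finite := IsFinite.finite_app (f := p) ⊤ (isAffineOpen_top U₁)
  have hflat : p.appTop.hom.Flat := (HasRingHomProperty.iff_of_isAffine (P := @Flat)).1 ‹Flat p›
  have hfp : p.appTop.hom.FinitePresentation :=
    (HasRingHomProperty.iff_of_isAffine (P := @LocallyOfFinitePresentation)).1 ‹_›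
  obtain ⟨W, ω, hω, hW⟩ := h Γ(U, ⊤) Γ(U₁, ⊤) Γ(V, ⊤) g.appTop p.appTop t.appTop hφ hfin hflat hfp
  let r : Spec W ⟶ U₁ := Spec.map ω ≫ U₁.isoSpec.inv
  have hr : r.appTop ≫ (Scheme.ΓSpecIso W).hom = ω := appTop_specMap_isoSpec_inv ω
  have hr' : ω ≫ (Scheme.ΓSpecIso W).inv = r.appTop := by
    rw [← hr, Category.assoc, Iso.hom_inv_id, Category.comp_id]
  haveI : Etale (Spec.map ω) := (HasRingHomProperty.Spec_iff (P := @Etale)).2 hω
  haveI : Etale r := by dsimp only [r]; infer_instance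
  have sq : ∀ {T : Scheme.{u}} [IsAffine T] (a : T ⟶ U₁),
      IsPushout p.appTop a.appTop (pullback.fst p a).appTop (pullback.snd p a).appTop :=
    fun a => isPushout_appTop_of_isPullback (IsPullback.of_hasPullback p a)
  have hP' : IsPushout p.appTop ω (pullback.fst p r).appTop
      ((Scheme.ΓSpecIso W).inv ≫ (pullback.snd p r).appTop) :=
    (sq r).of_iso (Iso.refl _) (Iso.refl _) (Scheme.ΓSpecIso W) (Iso.refl _) (by simp)
      (by simp [hr]) (by simp) (by simp)
  obtain ⟨θ, hθ, huniv⟩ := hW _ _ _ hP'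
  obtain ⟨ev, hev⟩ := exists_hom_appTop (F := pullback p r) (Y := U₁) θ
  have hevg : ev ≫ g = pullback.fst p r ≫ t := by
    apply ext_of_isAffine
    rw [Scheme.Hom.comp_appTop, Scheme.Hom.comp_appTop, hev, hθ]
  -- leg equations of `pullback.map`
  have legs : ∀ {T : Scheme.{u}} [IsAffine T] (a : T ⟶ U₁) (c : T ⟶ Spec W)
      (h1 : p ≫ 𝟙 U₁ = 𝟙 V ≫ p) (h2 : a ≫ 𝟙 U₁ = c ≫ r),
      (pullback.fst p r).appTop ≫ (pullback.map p a p r (𝟙 V) c (𝟙 U₁) h1 h2).appTop =
        (pullback.fst p a).appTop ∧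
      ((Scheme.ΓSpecIso W).inv ≫ (pullback.snd p r).appTop) ≫
        (pullback.map p a p r (𝟙 V) c (𝟙 U₁) h1 h2).appTop =
        ((Scheme.ΓSpecIso W).inv ≫ c.appTop) ≫ (pullback.snd p a).appTop := by
    intro T _ a c h1 h2
    refine ⟨map_appTop_fst p r a c h1 h2, ?_⟩
    rw [Category.assoc, map_appTop_snd p r a c h1 h2, Category.assoc]
  refine ⟨{ Res := Spec W, r := r, ev := ev, ev_g := hevg, isAffine := inferInstance,
            etale := inferInstance, exists_lift := ?_, lift_unique := ?_ }⟩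
  · intro T _ a b hb
    have hcond : g.appTop ≫ b.appTop = t.appTop ≫ (pullback.fst p a).appTop := by
      rw [← Scheme.Hom.comp_appTop, ← Scheme.Hom.comp_appTop, hb]
    obtain ⟨ψ, ⟨hψ1, hψ2⟩, -⟩ := huniv Γ(T, ⊤) a.appTop _ _ _ (sq a) b.appTop hcond
    have hcapp : (T.toSpecΓ ≫ Spec.map ψ).appTop = (Scheme.ΓSpecIso W).hom ≫ ψ :=
      toSpecΓ_specMap_appTop ψ
    have hc : (T.toSpecΓ ≫ Spec.map ψ) ≫ r = a := by
      apply ext_of_isAffine
      rw [Scheme.Hom.comp_appTop, hcapp, ← Category.assoc, hr, hψ1]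
    refine ⟨T.toSpecΓ ≫ Spec.map ψ, hc, ?_⟩
    apply ext_of_isAffine
    rw [Scheme.Hom.comp_appTop, hev]
    obtain ⟨l1, l2⟩ := legs a (T.toSpecΓ ≫ Spec.map ψ)
      (by rw [Category.comp_id, Category.id_comp]) (by rw [Category.comp_id, hc])
    refine hψ2 _ l1 ?_
    rw [l2, hcapp, Iso.inv_hom_id_assoc]
  · intro T _ c c' hcc heq
    have hcondb : g.appTop ≫ (pullback.map p (c ≫ r) p r (𝟙 V) c (𝟙 U₁)
        (by rw [Category.comp_id, Category.id_comp]) (by rw [Category.comp_id]) ≫ ev).appTop =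
        t.appTop ≫ (pullback.fst p (c ≫ r)).appTop := by
      rw [← Scheme.Hom.comp_appTop, ← Scheme.Hom.comp_appTop, Category.assoc, hevg,
        map_fst_t]
    obtain ⟨ψ, -, hψuniq⟩ := huniv Γ(T, ⊤) (c ≫ r).appTop _ _ _ (sq (c ≫ r)) _ hcondb
    obtain ⟨l1, l2⟩ := legs (c ≫ r) c
      (by rw [Category.comp_id, Category.id_comp]) (by rw [Category.comp_id])
    obtain ⟨l1', l2'⟩ := legs (c ≫ r) c'
      (by rw [Category.comp_id, Category.id_comp]) (by rw [Category.comp_id, hcc])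
    have e1 : (Scheme.ΓSpecIso W).inv ≫ c.appTop = ψ := by
      apply hψuniq
      refine ⟨?_, ?_⟩
      · rw [← Category.assoc, hr', ← Scheme.Hom.comp_appTop]
      · intro m hm1 hm2
        have : m = (pullback.map p (c ≫ r) p r (𝟙 V) c (𝟙 U₁)
            (by rw [Category.comp_id, Category.id_comp]) (by rw [Category.comp_id])).appTop :=
          hP'.hom_ext (hm1.trans l1.symm) (hm2.trans l2.symm)
        rw [this, Scheme.Hom.comp_appTop, hev]
    have e2 : (Scheme.ΓSpecIso W).inv ≫ c'.appTop = ψ := by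
      apply hψuniq
      refine ⟨?_, ?_⟩
      · rw [← Category.assoc, hr', ← Scheme.Hom.comp_appTop, hcc]
      · intro m hm1 hm2
        have : m = (pullback.map p (c ≫ r) p r (𝟙 V) c' (𝟙 U₁)
            (by rw [Category.comp_id, Category.id_comp]) (by rw [Category.comp_id, hcc])).appTop :=
          hP'.hom_ext (hm1.trans l1'.symm) (hm2.trans l2'.symm)
        rw [this, heq, Scheme.Hom.comp_appTop, hev]
    apply ext_of_isAffine
    have := e1.trans e2.symm
    exact (cancel_epi (Scheme.ΓSpecIso W).inv).1 this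

theorem wrStmt_of (h : WRAlgStmt.{u}) : WRStmt.{u} := wrStmt_of_cat (wrCat_of h)

end Scheme

end Groth.Agent.R2.H96.GrpdSplitWRSch
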