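import Mathlib
import Groth.Prelude.Def_Grpd
import Groth.Agent.R2.H84GrpdSplitSpec
import Groth.Agent.R2.H33GrpdSplitWRAlg
import Groth.Agent.R2.H96GrpdSplitWRSch

/-!
# PROJ:grpd-split, package [WR] — final assembly

`wrStmt : GrpdSplitSpec.WRStmt` from the ring-level construction `exists_liftRes_alg`
(`R2/H33GrpdSplitWRAlg.lean`) and helper96's scheme translation `wrStmt_of`
(`R2/H96GrpdSplitWRSch.lean`).
-/

universe u

namespace Groth.Agent.R2.H33.GrpdSplitWR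

open Groth.Agent.R2.H84

theorem wrAlgStmt : Groth.Agent.R2.H96.GrpdSplitWRSch.WRAlgStmt.{u} := by
  intro A0 A B _ _ _ _ _ _ _ _ τ
  exact Groth.Agent.R2.H33.GrpdSplitWRAlg.exists_liftRes_alg A0 A B τ

theorem wrStmt : GrpdSplitSpec.WRStmt.{u} :=
  Groth.Agent.R2.H96.GrpdSplitWRSch.wrStmt_of wrAlgStmt

end Groth.Agent.R2.H33.GrpdSplitWR
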