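import Mathlib
import Groth.Prelude.Def_Grpd
import Groth.Agent.Lib.Helper2Grpd
import Groth.Agent.Lib.Helper20ResFld

/-!
# Restriction of a groupoid scheme along an arbitrary morphism `h : U' ⟶ G.U` (helper84)

`restr G h` is the groupoid scheme on `U'` with arrows `R' = R ×_{U ×_S U} (U' ×_S U')`;
`restrHom G h : Hom (restr G h) G` has `fU = h`, `fR = pullback.fst`, and the `j`-square is
cartesian in exactly the form used by the statements (`isPullback_restr`).
`T`-points: `lift a x y hs ht` (arrow `a` from `x` to `y`), `hom_ext`.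
-/

set_option autoImplicit false
set_option linter.unusedSectionVars false
universe u

open CategoryTheory CategoryTheory.Limits AlgebraicGeometry
open Groth.Agent.Lib.Helper2.Grpd

namespace Groth.Agent.R2.H84.GrpdRestrGen

variable {S : Scheme.{u}} (G : Grpd.GroupoidScheme S) {U' : Scheme.{u}} (h : U' ⟶ G.U)

/-- `U' ×_S U' ⟶ U ×_S U`. -/
noncomputable def hh : pullback (h ≫ G.pU) (h ≫ G.pU) ⟶ pullback G.pU G.pU :=
  pullback.map (h ≫ G.pU) (h ≫ G.pU) G.pU G.pU h h (𝟙 S)
    (Category.comp_id _) (Category.comp_id _)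

/-- arrows of the restriction -/
noncomputable abbrev R' : Scheme.{u} := pullback G.j (hh G h)

noncomputable def fR : R' G h ⟶ G.R := pullback.fst _ _
noncomputable def j' : R' G h ⟶ pullback (h ≫ G.pU) (h ≫ G.pU) := pullback.snd _ _
noncomputable def s' : R' G h ⟶ U' := j' G h ≫ pullback.snd _ _
noncomputable def t' : R' G h ⟶ U' := j' G h ≫ pullback.fst _ _

lemma fR_s : fR G h ≫ G.s = s' G h ≫ h := by
  have hc : fR G h ≫ G.j = j' G h ≫ hh G h := pullback.condition
  have := congrArg (· ≫ pullback.snd G.pU G.pU) hc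
  simp only [Category.assoc, Grpd.GroupoidScheme.j, pullback.lift_snd, hh] at this
  rw [this, s', Category.assoc]

lemma fR_t : fR G h ≫ G.t = t' G h ≫ h := by
  have hc : fR G h ≫ G.j = j' G h ≫ hh G h := pullback.condition
  have := congrArg (· ≫ pullback.fst G.pU G.pU) hc
  simp only [Category.assoc, Grpd.GroupoidScheme.j, pullback.lift_fst, hh] at this
  rw [this, t', Category.assoc]

variable {G h} {T : Scheme.{u}}

/-- a `T`-point of `R'`: an arrow `a` of `G` from `h x` to `h y`. -/
noncomputable def lift (a : T ⟶ G.R) (x y : T ⟶ U') (hs : a ≫ G.s = x ≫ h) (ht : a ≫ G.t = y ≫ h) :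
    T ⟶ R' G h :=
  pullback.lift a (pullback.lift y x (by
    rw [← Category.assoc, ← Category.assoc, ← ht, ← hs, Category.assoc, Category.assoc, G.t_over,
      G.s_over])) (by
    apply pullback.hom_ext
    · simp only [Category.assoc, Grpd.GroupoidScheme.j, pullback.lift_fst, hh,
        pullback.lift_fst_assoc]
      exact ht
    · simp only [Category.assoc, Grpd.GroupoidScheme.j, pullback.lift_snd, hh,
        pullback.lift_snd_assoc]
      exact hs)

@[simp] lemma lift_fR (a : T ⟶ G.R) (x y : T ⟶ U') (hs : a ≫ G.s = x ≫ h) (ht : a ≫ G.t = y ≫ h) :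
    lift a x y hs ht ≫ fR G h = a := pullback.lift_fst _ _ _

@[simp] lemma lift_s (a : T ⟶ G.R) (x y : T ⟶ U') (hs : a ≫ G.s = x ≫ h) (ht : a ≫ G.t = y ≫ h) :
    lift a x y hs ht ≫ s' G h = x := by
  unfold lift s' j'
  rw [pullback.lift_snd_assoc, pullback.lift_snd]

@[simp] lemma lift_t (a : T ⟶ G.R) (x y : T ⟶ U') (hs : a ≫ G.s = x ≫ h) (ht : a ≫ G.t = y ≫ h) :
    lift a x y hs ht ≫ t' G h = y := by
  unfold lift t' j'
  rw [pullback.lift_snd_assoc, pullback.lift_fst]

lemma hom_ext {φ ψ : T ⟶ R' G h} (h1 : φ ≫ fR G h = ψ ≫ fR G h) (h2 : φ ≫ s' G h = ψ ≫ s' G h)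
    (h3 : φ ≫ t' G h = ψ ≫ t' G h) : φ = ψ := by
  apply pullback.hom_ext
  · exact h1
  · apply pullback.hom_ext
    · rw [Category.assoc, Category.assoc]; exact h3
    · rw [Category.assoc, Category.assoc]; exact h2

lemma lift_congr {a a' : T ⟶ G.R} {x x' y y' : T ⟶ U'} (hs : a ≫ G.s = x ≫ h)
    (ht : a ≫ G.t = y ≫ h) (ha : a = a') (hx : x = x') (hy : y = y') :
    lift a x y hs ht = lift a' x' y' (by rw [← ha, ← hx]; exact hs) (by rw [← ha, ← hy]; exact ht) := by
  subst ha hx hy
  rfl

lemma pre_lift {T₁ : Scheme.{u}} (k : T₁ ⟶ T) (a : T ⟶ G.R) (x y : T ⟶ U') (hs : a ≫ G.s = x ≫ h)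
    (ht : a ≫ G.t = y ≫ h) :
    k ≫ lift a x y hs ht = lift (k ≫ a) (k ≫ x) (k ≫ y) (by rw [Category.assoc, hs, Category.assoc])
      (by rw [Category.assoc, ht, Category.assoc]) := by
  apply hom_ext <;> simp only [Category.assoc, lift_fR, lift_s, lift_t]

lemma eq_lift (φ : T ⟶ R' G h) :
    φ = lift (φ ≫ fR G h) (φ ≫ s' G h) (φ ≫ t' G h)
      (by rw [Category.assoc, fR_s, Category.assoc]) (by rw [Category.assoc, fR_t, Category.assoc]) := by
  apply hom_ext <;> simp only [lift_fR, lift_s, lift_t]

variable (G h)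

/-- identity of the restriction -/
noncomputable def e' : U' ⟶ R' G h :=
  lift (h ≫ G.e) (𝟙 U') (𝟙 U') (by rw [Category.assoc, G.e_s, Category.comp_id, Category.id_comp])
    (by rw [Category.assoc, G.e_t, Category.comp_id, Category.id_comp])

/-- inverse of the restriction -/
noncomputable def i' : R' G h ⟶ R' G h :=
  lift (fR G h ≫ G.i) (t' G h) (s' G h) (by rw [Category.assoc, G.i_s, fR_t])
    (by rw [Category.assoc, G.i_t, fR_s])

lemma c'_aux : (pullback.fst (s' G h) (t' G h) ≫ fR G h) ≫ G.s =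
    (pullback.snd (s' G h) (t' G h) ≫ fR G h) ≫ G.t := by
  rw [Category.assoc, fR_s, Category.assoc, fR_t, ← Category.assoc, pullback.condition,
    Category.assoc]

/-- composition of the restriction -/
noncomputable def c' : pullback (s' G h) (t' G h) ⟶ R' G h :=
  lift (comp G (pullback.fst _ _ ≫ fR G h) (pullback.snd _ _ ≫ fR G h) (c'_aux G h))
    (pullback.snd _ _ ≫ s' G h) (pullback.fst _ _ ≫ t' G h)
    (by rw [comp_s, Category.assoc, fR_s, Category.assoc])
    (by rw [comp_t, Category.assoc, fR_t, Category.assoc])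

variable {G h}

lemma lift_c'_aux (α β : T ⟶ R' G h) (hαβ : α ≫ s' G h = β ≫ t' G h) :
    (α ≫ fR G h) ≫ G.s = (β ≫ fR G h) ≫ G.t := by
  rw [Category.assoc, fR_s, Category.assoc, fR_t, ← Category.assoc, hαβ, Category.assoc]

lemma lift_c'_fR (α β : T ⟶ R' G h) (hαβ : α ≫ s' G h = β ≫ t' G h) :
    (pullback.lift α β hαβ ≫ c' G h) ≫ fR G h =
      comp G (α ≫ fR G h) (β ≫ fR G h) (lift_c'_aux α β hαβ) := by
  rw [Category.assoc, c', lift_fR, precomp_comp]
  exact comp_congr G _ (by rw [pullback.lift_fst_assoc]) (by rw [pullback.lift_snd_assoc])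

lemma lift_c'_s (α β : T ⟶ R' G h) (hαβ : α ≫ s' G h = β ≫ t' G h) :
    (pullback.lift α β hαβ ≫ c' G h) ≫ s' G h = β ≫ s' G h := by
  rw [Category.assoc, c', lift_s, pullback.lift_snd_assoc]

lemma lift_c'_t (α β : T ⟶ R' G h) (hαβ : α ≫ s' G h = β ≫ t' G h) :
    (pullback.lift α β hαβ ≫ c' G h) ≫ t' G h = α ≫ t' G h := by
  rw [Category.assoc, c', lift_t, pullback.lift_fst_assoc]

variable (G h)

/-- The restriction of a groupoid scheme along `h : U' ⟶ G.U`. -/
noncomputable def restr : Grpd.GroupoidScheme S where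
  U := U'
  R := R' G h
  pU := h ≫ G.pU
  pR := fR G h ≫ G.pR
  s := s' G h
  t := t' G h
  e := e' G h
  i := i' G h
  c := c' G h
  s_over := by rw [← Category.assoc, ← fR_s, Category.assoc, G.s_over]
  t_over := by rw [← Category.assoc, ← fR_t, Category.assoc, G.t_over]
  comp_s := fun α β hαβ => lift_c'_s α β hαβ
  comp_t := fun α β hαβ => lift_c'_t α β hαβ
  assoc := fun α β γ h₁ h₂ => by
    apply hom_ext
    · refine (lift_c'_fR _ _ _).trans (Eq.trans ?_ (lift_c'_fR _ _ _).symm)
      rw [comp_congr G _ (lift_c'_fR α β h₁) rfl, comp_congr G _ rfl (lift_c'_fR β γ h₂)]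
      exact comp_assoc G _ _ _ _ _
    · rw [lift_c'_s, lift_c'_s, lift_c'_s]
    · rw [lift_c'_t, lift_c'_t, lift_c'_t]
  e_s := lift_s _ _ _ _ _
  e_t := lift_t _ _ _ _ _
  comp_e := fun α => by
    apply hom_ext
    · rw [lift_c'_fR]
      refine comp_e G _ _ ?_ _
      simp only [Category.assoc, e', lift_fR]
      rw [← Category.assoc (s' G h), ← fR_s, Category.assoc]
    · rw [lift_c'_s]
      simp only [Category.assoc, e', lift_s, Category.comp_id]
    · rw [lift_c'_t]
  e_comp := fun α => by
    apply hom_ext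
    · rw [lift_c'_fR]
      refine e_comp G _ _ ?_ _
      simp only [Category.assoc, e', lift_fR]
      rw [← Category.assoc (t' G h), ← fR_t, Category.assoc]
    · rw [lift_c'_s]
    · rw [lift_c'_t]
      simp only [Category.assoc, e', lift_t, Category.comp_id]
  i_s := lift_s _ _ _ _ _
  i_t := lift_t _ _ _ _ _
  comp_i := fun α => by
    apply hom_ext
    · rw [lift_c'_fR]
      have e1 : (α ≫ i' G h) ≫ fR G h = (α ≫ fR G h) ≫ G.i := by
        simp only [Category.assoc, i', lift_fR]
      rw [comp_congr G _ rfl e1, comp_i]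
      simp only [Category.assoc, e', lift_fR]
      rw [← Category.assoc (t' G h), ← fR_t, Category.assoc]
    · rw [lift_c'_s]
      simp only [Category.assoc, e', i', lift_s, Category.comp_id]
    · rw [lift_c'_t]
      simp only [Category.assoc, e', lift_t, Category.comp_id]
  i_comp := fun α => by
    apply hom_ext
    · rw [lift_c'_fR]
      have e1 : (α ≫ i' G h) ≫ fR G h = (α ≫ fR G h) ≫ G.i := by
        simp only [Category.assoc, i', lift_fR]
      rw [comp_congr G _ e1 rfl, i_comp]
      simp only [Category.assoc, e', lift_fR]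
      rw [← Category.assoc (s' G h), ← fR_s, Category.assoc]
    · rw [lift_c'_s]
      simp only [Category.assoc, e', lift_s, Category.comp_id]
    · rw [lift_c'_t]
      simp only [Category.assoc, e', i', lift_t, Category.comp_id]

/-- The canonical morphism from the restriction. -/
noncomputable def restrHom : Grpd.GroupoidScheme.Hom (restr G h) G where
  fU := h
  fR := fR G h
  fU_over := rfl
  comm_s := fR_s G h
  comm_t := fR_t G h
  comm_c := fun α β hαβ => lift_c'_fR α β hαβ

@[simp] lemma restr_U : (restr G h).U = U' := rfl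
@[simp] lemma restr_R : (restr G h).R = R' G h := rfl
lemma restr_s : (restr G h).s = s' G h := rfl
lemma restr_t : (restr G h).t = t' G h := rfl
lemma restr_e : (restr G h).e = e' G h := rfl
lemma restr_i : (restr G h).i = i' G h := rfl
lemma restr_c : (restr G h).c = c' G h := rfl
lemma restr_pU : (restr G h).pU = h ≫ G.pU := rfl
lemma restrHom_fU : (restrHom G h).fU = h := rfl
lemma restrHom_fR : (restrHom G h).fR = fR G h := rfl

lemma restr_j : (restr G h).j = j' G h := by
  apply pullback.hom_ext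
  · rw [Grpd.GroupoidScheme.j, pullback.lift_fst]; rfl
  · rw [Grpd.GroupoidScheme.j, pullback.lift_snd]; rfl

/-- the `j`-square of the restriction is cartesian, in the form of the statements. -/
theorem isPullback_restr :
    IsPullback (restrHom G h).fR (restr G h).j G.j
      (pullback.map (restr G h).pU (restr G h).pU G.pU G.pU (restrHom G h).fU (restrHom G h).fU (𝟙 S)
        ((Category.comp_id _).trans (restrHom G h).fU_over.symm)
        ((Category.comp_id _).trans (restrHom G h).fU_over.symm)) := by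
  rw [restr_j]
  exact IsPullback.of_hasPullback G.j (hh G h)


/-! ### `R'` as an iterated base change of `h` -/

/-- forget the target: `R' ⟶ R ×_{s,U} U'`. -/
noncomputable def q : R' G h ⟶ pullback G.s h := pullback.lift (fR G h) (s' G h) (fR_s G h)

@[simp] lemma q_fst : q G h ≫ pullback.fst G.s h = fR G h := pullback.lift_fst _ _ _
@[simp] lemma q_snd : q G h ≫ pullback.snd G.s h = s' G h := pullback.lift_snd _ _ _

theorem isPullback_q : IsPullback (q G h) (t' G h) (pullback.fst G.s h ≫ G.t) h := by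
  refine ⟨⟨by rw [← Category.assoc, q_fst, fR_t]⟩, ⟨PullbackCone.IsLimit.mk _
    (fun c => lift (c.fst ≫ pullback.fst G.s h) (c.fst ≫ pullback.snd G.s h) c.snd
      (by rw [Category.assoc, pullback.condition, Category.assoc])
      (by rw [Category.assoc]; exact c.condition)) ?_ ?_ ?_⟩⟩
  · intro c
    apply pullback.hom_ext
    · rw [Category.assoc, q_fst, lift_fR]
    · rw [Category.assoc, q_snd, lift_s]
  · intro c
    exact lift_t _ _ _ _ _
  · intro c m h1 h2
    apply hom_ext
    · rw [lift_fR, ← h1, Category.assoc, q_fst]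
    · rw [lift_s, ← h1, Category.assoc, q_snd]
    · rw [lift_t, ← h2]

lemma restr_s_eq : (restr G h).s = q G h ≫ pullback.snd G.s h := (q_snd G h).symm

instance etale_q [Etale h] : Etale (q G h) :=
  MorphismProperty.of_isPullback (P := @Etale) (isPullback_q G h).flip inferInstance

instance flat_s [Etale h] [Flat G.s] : Flat (restr G h).s := by
  have : Flat (q G h ≫ pullback.snd G.s h) := inferInstance
  rw [q_snd] at this
  exact this

instance lfp_s [Etale h] [LocallyOfFinitePresentation G.s] :
    LocallyOfFinitePresentation (restr G h).s := by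
  have : LocallyOfFinitePresentation (q G h ≫ pullback.snd G.s h) := inferInstance
  rw [q_snd] at this
  exact this

/-! ### points -/

lemma fR_s_apply (r' : ↥(R' G h)) : G.s (fR G h r') = h (s' G h r') := by
  rw [← Scheme.Hom.comp_apply, fR_s, Scheme.Hom.comp_apply]

lemma fR_t_apply (r' : ↥(R' G h)) : G.t (fR G h r') = h (t' G h r') := by
  rw [← Scheme.Hom.comp_apply, fR_t, Scheme.Hom.comp_apply]

theorem exists_point (r : ↥G.R) (x y : ↥U') (hx : h x = G.s r) (hy : h y = G.t r) :
    ∃ r' : ↥(R' G h), fR G h r' = r ∧ s' G h r' = x ∧ t' G h r' = y := by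
  obtain ⟨a, ha1, ha2⟩ := Scheme.Pullback.exists_preimage_pullback (f := G.s) (g := h) r x hx.symm
  have hay : (pullback.fst G.s h ≫ G.t) a = h y := by
    rw [Scheme.Hom.comp_apply, ha1, hy]
  obtain ⟨r', hr1, hr2⟩ := Scheme.exists_preimage_of_isPullback (isPullback_q G h) a y hay
  refine ⟨r', ?_, ?_, hr2⟩
  · rw [← q_fst, Scheme.Hom.comp_apply, hr1, ha1]
  · rw [← q_snd, Scheme.Hom.comp_apply, hr1, ha2]

lemma e'_fR_apply (x : ↥U') : fR G h (e' G h x) = G.e (h x) := by
  rw [← Scheme.Hom.comp_apply, e', lift_fR, Scheme.Hom.comp_apply]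

lemma i'_fR_apply (r' : ↥(R' G h)) : fR G h (i' G h r') = G.i (fR G h r') := by
  rw [← Scheme.Hom.comp_apply, i', lift_fR, Scheme.Hom.comp_apply]

lemma i'_s_apply (r' : ↥(R' G h)) : s' G h (i' G h r') = t' G h r' := by
  rw [← Scheme.Hom.comp_apply, i', lift_s]

lemma i'_t_apply (r' : ↥(R' G h)) : t' G h (i' G h r') = s' G h r' := by
  rw [← Scheme.Hom.comp_apply, i', lift_t]


/-- a point of `R'` is determined by its three components when the residue field extensions of `h`
at its source and target are trivial. -/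
theorem eq_of_components (r' r'' : ↥(R' G h)) (h1 : fR G h r' = fR G h r'')
    (h2 : s' G h r' = s' G h r'') (h3 : t' G h r' = t' G h r'')
    (hs : Function.Bijective (h.residueFieldMap (s' G h r'')))
    (ht : Function.Bijective (h.residueFieldMap (t' G h r''))) : r' = r'' := by
  have hqf : ∀ x : ↥(R' G h), pullback.fst G.s h (q G h x) = fR G h x := fun x => by
    rw [← Scheme.Hom.comp_apply, q_fst]
  have hqs : ∀ x : ↥(R' G h), pullback.snd G.s h (q G h x) = s' G h x := fun x => by
    rw [← Scheme.Hom.comp_apply, q_snd]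
  have hq : q G h r' = q G h r'' := by
    apply Groth.Agent.Lib.Helper20.ResFld.eq_of_fst_eq_of_snd_eq
    · rw [hqf, hqf]; exact h1
    · rw [hqs, hqs]; exact h2
    · rw [hqs]; exact hs
  let e := (isPullback_q G h).isoPullback
  have he1 : e.hom ≫ pullback.fst _ _ = q G h := (isPullback_q G h).isoPullback_hom_fst
  have he2 : e.hom ≫ pullback.snd _ _ = t' G h := (isPullback_q G h).isoPullback_hom_snd
  have he1' : ∀ x : ↥(R' G h), pullback.fst (pullback.fst G.s h ≫ G.t) h (e.hom x) = q G h x :=
    fun x => by rw [← Scheme.Hom.comp_apply, he1]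
  have he2' : ∀ x : ↥(R' G h), pullback.snd (pullback.fst G.s h ≫ G.t) h (e.hom x) = t' G h x :=
    fun x => by rw [← Scheme.Hom.comp_apply, he2]
  have hinj : Function.Injective e.hom := by
    intro a b hab
    have h4 : (e.hom ≫ e.inv) a = (e.hom ≫ e.inv) b := by
      rw [Scheme.Hom.comp_apply, Scheme.Hom.comp_apply, hab]
    rw [e.hom_inv_id] at h4
    exact h4
  apply hinj
  apply Groth.Agent.Lib.Helper20.ResFld.eq_of_fst_eq_of_snd_eq
  · rw [he1', he1']; exact hq
  · rw [he2', he2']; exact h3
  · rw [he2']; exact ht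

/-! ### open immersions -/

instance isOpenImmersion_hh [IsOpenImmersion h] : IsOpenImmersion (hh G h) := by
  unfold hh; infer_instance

instance isOpenImmersion_fR [IsOpenImmersion h] : IsOpenImmersion (fR G h) := by
  unfold fR; infer_instance

theorem range_fR [IsOpenImmersion h] :
    Set.range (fR G h) = G.s ⁻¹' Set.range h ∩ G.t ⁻¹' Set.range h := by
  ext r
  constructor
  · rintro ⟨r', rfl⟩
    exact ⟨⟨s' G h r', (fR_s_apply G h r').symm⟩, ⟨t' G h r', (fR_t_apply G h r').symm⟩⟩
  · rintro ⟨⟨x, hx⟩, ⟨y, hy⟩⟩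
    obtain ⟨r', hr, -, -⟩ := exists_point G h r x y hx hy
    exact ⟨r', hr⟩

end Groth.Agent.R2.H84.GrpdRestrGen
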