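import Mathlib
import Groth.Prelude.Def_Grpd
import Groth.Agent.Lib.Helper2Grpd
import Groth.Agent.R2.H84GrpdSplitSpec
import Groth.Agent.R2.H84GrpdRestrGen

/-!
# PROJ:grpd-split, assembly part A (helper84): the clopen `U' ⊆ Res` and the lift `τ̃`
-/

set_option autoImplicit false
set_option linter.unusedSectionVars false
set_option linter.style.haveILetI false
universe u

open CategoryTheory CategoryTheory.Limits AlgebraicGeometry
open Groth.Agent.Lib.Helper2.Grpd
open Groth.Agent.R2.H84.GrpdSplitSpec Groth.Agent.R2.H84.GrpdRestrGen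

namespace Groth.Agent.R2.H84.GrpdSplitAsm

variable {S : Scheme.{u}} (G : Grpd.GroupoidScheme S)

/-- closure properties of a set `F` of arrows from `u₀` to `u₀`. -/
structure FClosed (u₀ : ↥G.U) (F : Set ↥G.R) : Prop where
  s_eq : ∀ r ∈ F, G.s r = u₀
  t_eq : ∀ r ∈ F, G.t r = u₀
  e_mem : G.e u₀ ∈ F
  i_mem : ∀ r ∈ F, G.i r ∈ F
  c_mem : ∀ z : ↥(pullback G.s G.t), pullback.fst G.s G.t z ∈ F → pullback.snd G.s G.t z ∈ F →
    G.c z ∈ F

/-- The output of the first étale localization. -/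
structure Step1 (u₀ : ↥G.U) (F : Set ↥G.R) where
  U₁ : Scheme.{u}
  aff : IsAffine U₁
  g : U₁ ⟶ G.U
  et : Etale g
  u₁ : ↥U₁
  hu₁ : g u₁ = u₀
  hres : Function.Bijective (g.residueFieldMap u₁)
  hfib : ∀ x : ↥U₁, g x = g u₁ → x = u₁
  V : (pullback G.s g).Opens
  hVc : IsClosed (V : Set ↥(pullback G.s g))
  hVfin : IsFinite (V.ι ≫ pullback.snd G.s g)
  hV : ∀ w : ↥(pullback G.s g), pullback.snd G.s g w = u₁ → (w ∈ V ↔ pullback.fst G.s g w ∈ F)

variable {G} {u₀ : ↥G.U} {F : Set ↥G.R} (D : Step1 G u₀ F)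

namespace Step1

/-- the finite morphism `V ⟶ U₁` -/
noncomputable def p : (D.V : Scheme.{u}) ⟶ D.U₁ := D.V.ι ≫ pullback.snd G.s D.g
/-- the arrow `V ⟶ R` -/
noncomputable def ρ : (D.V : Scheme.{u}) ⟶ G.R := D.V.ι ≫ pullback.fst G.s D.g
/-- the target map `V ⟶ U` -/
noncomputable def tV : (D.V : Scheme.{u}) ⟶ G.U := D.ρ ≫ G.t

lemma ρ_s : D.ρ ≫ G.s = D.p ≫ D.g := by
  rw [ρ, p, Category.assoc, Category.assoc, pullback.condition]

instance : IsAffine D.U₁ := D.aff
instance : Etale D.g := D.et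
instance : IsFinite D.p := D.hVfin

instance [Flat G.s] : Flat D.p := by unfold p; infer_instance
instance [LocallyOfFinitePresentation G.s] : LocallyOfFinitePresentation D.p := by
  unfold p; infer_instance

lemma ρ_mem_F (v : ↥(D.V : Scheme.{u})) (hv : D.p v = D.u₁) : D.ρ v ∈ F := by
  have h1 : pullback.snd G.s D.g (D.V.ι v) = D.u₁ := by
    rw [← Scheme.Hom.comp_apply]; exact hv
  have h2 : D.V.ι v ∈ D.V := by
    have := Set.mem_range_self (f := D.V.ι) v
    rwa [Scheme.Opens.range_ι] at this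
  have := (D.hV _ h1).mp h2
  rwa [← Scheme.Hom.comp_apply] at this

lemma tV_of_p (hF : FClosed G u₀ F) (v : ↥(D.V : Scheme.{u})) (hv : D.p v = D.u₁) :
    D.tV v = D.g D.u₁ := by
  rw [tV, Scheme.Hom.comp_apply, hF.t_eq _ (D.ρ_mem_F v hv), D.hu₁]

end Step1

variable (L : LiftRes D.g D.p D.tV)

/-- `T = V ×_{U₁} Res` -/
noncomputable abbrev TT : Scheme.{u} := pullback D.p L.r
/-- `T₂ = V ×_{U₁, ev} T` -/
noncomputable abbrev TT₂ : Scheme.{u} := pullback D.p L.ev

lemma m_aux₁ : (pullback.fst D.p L.ev ≫ D.ρ) ≫ G.s =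
    (pullback.snd D.p L.ev ≫ pullback.fst D.p L.r ≫ D.ρ) ≫ G.t := by
  rw [Category.assoc, D.ρ_s, ← Category.assoc, pullback.condition, Category.assoc, L.ev_g]
  simp only [Category.assoc, Step1.tV]

/-- `(ρ', ρ, x') ↦ (ρ' ∘ ρ, r x')` -/
noncomputable def mm : TT₂ D L ⟶ pullback G.s D.g :=
  pullback.lift (comp G (pullback.fst D.p L.ev ≫ D.ρ)
      (pullback.snd D.p L.ev ≫ pullback.fst D.p L.r ≫ D.ρ) (m_aux₁ D L))
    (pullback.snd D.p L.ev ≫ pullback.snd D.p L.r ≫ L.r) (by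
      rw [comp_s]
      simp only [Category.assoc]
      rw [D.ρ_s, ← Category.assoc (pullback.fst D.p L.r), pullback.condition]
      simp only [Category.assoc])

lemma mm_fst : mm D L ≫ pullback.fst G.s D.g = comp G (pullback.fst D.p L.ev ≫ D.ρ)
    (pullback.snd D.p L.ev ≫ pullback.fst D.p L.r ≫ D.ρ) (m_aux₁ D L) := pullback.lift_fst _ _ _

lemma mm_snd : mm D L ≫ pullback.snd G.s D.g =
    pullback.snd D.p L.ev ≫ pullback.snd D.p L.r ≫ L.r := pullback.lift_snd _ _ _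

/-- `T₂ ⟶ Res` -/
noncomputable def π₂ : TT₂ D L ⟶ L.Res := pullback.snd D.p L.ev ≫ pullback.snd D.p L.r

instance [Flat G.s] [LocallyOfFinitePresentation G.s] : IsFinite (π₂ D L) := by
  unfold π₂; infer_instance
instance [Flat G.s] [LocallyOfFinitePresentation G.s] : Flat (π₂ D L) := by
  unfold π₂; infer_instance
instance [Flat G.s] [LocallyOfFinitePresentation G.s] : LocallyOfFinitePresentation (π₂ D L) := by
  unfold π₂; infer_instance

/-- the bad locus in `Res`. -/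
def bad : Set ↥L.Res := π₂ D L '' ((mm D L ⁻¹ᵁ D.V : (TT₂ D L).Opens) : Set ↥(TT₂ D L))ᶜ

lemma isClosed_bad [Flat G.s] [LocallyOfFinitePresentation G.s] : IsClosed (bad D L) := by
  apply (π₂ D L).isClosedMap
  exact (mm D L ⁻¹ᵁ D.V).isOpen.isClosed_compl

lemma isOpen_bad [Flat G.s] [LocallyOfFinitePresentation G.s] : IsOpen (bad D L) := by
  apply (π₂ D L).isOpenMap
  rw [isOpen_compl_iff]
  exact D.hVc.preimage (mm D L).continuous

/-- the good clopen `U' ⊆ Res`. -/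
def good [Flat G.s] [LocallyOfFinitePresentation G.s] : L.Res.Opens :=
  ⟨(bad D L)ᶜ, (isClosed_bad D L).isOpen_compl⟩

lemma isClosed_good [Flat G.s] [LocallyOfFinitePresentation G.s] :
    IsClosed ((good D L : L.Res.Opens) : Set ↥L.Res) :=
  (isOpen_bad D L).isClosed_compl


section good
variable [Flat G.s] [LocallyOfFinitePresentation G.s]

lemma mem_good_iff (x : ↥L.Res) :
    x ∈ good D L ↔ ∀ w : ↥(TT₂ D L), π₂ D L w = x → mm D L w ∈ D.V := by
  change x ∈ (bad D L)ᶜ ↔ _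
  rw [Set.mem_compl_iff, bad]
  constructor
  · intro hx w hw
    by_contra hcon
    exact hx ⟨w, hcon, hw⟩
  · rintro hx ⟨w, hw, rfl⟩
    exact hw (hx w rfl)

instance isClosedImmersion_good_ι : IsClosedImmersion (good D L).ι :=
  IsClosedImmersion.of_isPreimmersion _ (by
    rw [Scheme.Opens.range_ι]; exact isClosed_good D L)

instance isAffine_good : IsAffine (good D L : Scheme.{u}) :=
  haveI := L.isAffine
  isAffine_of_isAffineHom (good D L).ι

/-- the base point lies in the good locus. -/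
theorem mem_good (hF : FClosed G u₀ F) (u' : ↥L.Res) (hu' : L.r u' = D.u₁) : u' ∈ good D L := by
  rw [mem_good_iff]
  intro w hw
  -- the two arrows
  have hv : D.p ((pullback.snd D.p L.ev ≫ pullback.fst D.p L.r) w) = D.u₁ := by
    rw [← Scheme.Hom.comp_apply, Category.assoc, pullback.condition, ← Category.assoc,
      Scheme.Hom.comp_apply]
    change L.r (π₂ D L w) = _
    rw [hw, hu']
  have hev : L.ev (pullback.snd D.p L.ev w) = D.u₁ := by
    apply D.hfib
    rw [← Scheme.Hom.comp_apply, L.ev_g, Scheme.Hom.comp_apply, ← Scheme.Hom.comp_apply]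
    exact D.tV_of_p hF _ hv
  have hv' : D.p (pullback.fst D.p L.ev w) = D.u₁ := by
    rw [← Scheme.Hom.comp_apply, pullback.condition, Scheme.Hom.comp_apply, hev]
  have h1 : pullback.snd G.s D.g (mm D L w) = D.u₁ := by
    rw [← Scheme.Hom.comp_apply, mm_snd, ← Category.assoc, Scheme.Hom.comp_apply]
    change L.r (π₂ D L w) = _
    rw [hw, hu']
  rw [D.hV _ h1, ← Scheme.Hom.comp_apply, mm_fst, comp, Scheme.Hom.comp_apply]
  apply hF.c_mem
  · rw [← Scheme.Hom.comp_apply, pullback.lift_fst, Scheme.Hom.comp_apply]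
    exact D.ρ_mem_F _ hv'
  · rw [← Scheme.Hom.comp_apply, pullback.lift_snd]
    have := D.ρ_mem_F _ hv
    rwa [← Scheme.Hom.comp_apply, Category.assoc] at this

/-- `T' = V ×_{U₁} U'` -/
noncomputable abbrev TT' : Scheme.{u} := pullback D.p ((good D L).ι ≫ L.r)

/-- `T' ⟶ T` -/
noncomputable def κ' : TT' D L ⟶ TT D L :=
  pullback.map D.p ((good D L).ι ≫ L.r) D.p L.r (𝟙 _) (good D L).ι (𝟙 _)
    (by rw [Category.comp_id, Category.id_comp]) (by rw [Category.comp_id])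

@[simp] lemma κ'_fst : κ' D L ≫ pullback.fst D.p L.r = pullback.fst _ _ := by
  rw [κ', pullback.lift_fst, Category.comp_id]

@[simp] lemma κ'_snd : κ' D L ≫ pullback.snd D.p L.r = pullback.snd _ _ ≫ (good D L).ι := by
  rw [κ', pullback.lift_snd]

/-- the structure map of `T'` for the lifting problem -/
noncomputable def aa : TT' D L ⟶ D.U₁ := κ' D L ≫ L.ev

lemma aa_g : aa D L ≫ D.g = pullback.fst _ _ ≫ D.tV := by
  rw [aa, Category.assoc, L.ev_g, ← Category.assoc, κ'_fst]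

/-- `T₂' ⟶ T₂` -/
noncomputable def κ₂ : pullback D.p (aa D L) ⟶ TT₂ D L :=
  pullback.map D.p (aa D L) D.p L.ev (𝟙 _) (κ' D L) (𝟙 _)
    (by rw [Category.comp_id, Category.id_comp]) (by rw [Category.comp_id, aa])

@[simp] lemma κ₂_fst : κ₂ D L ≫ pullback.fst D.p L.ev = pullback.fst _ _ := by
  rw [κ₂, pullback.lift_fst, Category.comp_id]

@[simp] lemma κ₂_snd : κ₂ D L ≫ pullback.snd D.p L.ev = pullback.snd _ _ ≫ κ' D L := by
  rw [κ₂, pullback.lift_snd]

lemma κ₂_mm_mem (w : ↥(pullback D.p (aa D L))) : mm D L (κ₂ D L w) ∈ D.V := by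
  have hx : π₂ D L (κ₂ D L w) ∈ good D L := by
    rw [π₂, ← Scheme.Hom.comp_apply, ← Category.assoc, κ₂_snd, Category.assoc, κ'_snd,
      ← Category.assoc, Scheme.Hom.comp_apply]
    exact ((pullback.snd D.p (aa D L) ≫ pullback.snd D.p ((good D L).ι ≫ L.r)) w).2
  exact (mem_good_iff D L _).mp hx _ rfl

/-- the composite `(ρ', ρ, x') ↦ ρ' ∘ ρ ∈ V_{r x'}` over the good locus -/
noncomputable def μμ : pullback D.p (aa D L) ⟶ (D.V : Scheme.{u}) :=
  IsOpenImmersion.lift D.V.ι (κ₂ D L ≫ mm D L) (by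
    rintro _ ⟨w, rfl⟩
    rw [Scheme.Opens.range_ι, Scheme.Hom.comp_apply]
    exact κ₂_mm_mem D L w)

lemma μμ_ι : μμ D L ≫ D.V.ι = κ₂ D L ≫ mm D L := IsOpenImmersion.lift_fac _ _ _

lemma μμ_p : μμ D L ≫ D.p =
    (pullback.snd D.p (aa D L) ≫ pullback.snd D.p ((good D L).ι ≫ L.r) ≫ (good D L).ι) ≫ L.r := by
  change μμ D L ≫ (D.V.ι ≫ pullback.snd G.s D.g) = _
  rw [← Category.assoc, μμ_ι, Category.assoc, mm_snd, ← Category.assoc, κ₂_snd,
    Category.assoc, ← Category.assoc (κ' D L), κ'_snd]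
  simp only [Category.assoc]

lemma μμ_tV : μμ D L ≫ D.tV = pullback.fst D.p (aa D L) ≫ D.tV := by
  change μμ D L ≫ ((D.V.ι ≫ pullback.fst G.s D.g) ≫ G.t) = _
  rw [← Category.assoc, ← Category.assoc, μμ_ι, Category.assoc (κ₂ D L), mm_fst,
    Category.assoc, comp_t, ← Category.assoc, ← Category.assoc, κ₂_fst]
  simp only [Category.assoc]
  rfl

/-- **the lift `τ̃ : V ×_{U₁} U' ⟶ Res`** -/
theorem exists_tau : ∃ τ : TT' D L ⟶ L.Res, τ ≫ L.r = aa D L := by
  haveI : IsAffine (TT' D L) :=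
    isAffine_of_isAffineHom (pullback.snd D.p ((good D L).ι ≫ L.r))
  let b : pullback D.p (aa D L) ⟶ D.U₁ :=
    pullback.lift (μμ D L)
      (pullback.snd D.p (aa D L) ≫ pullback.snd D.p ((good D L).ι ≫ L.r) ≫ (good D L).ι)
      (μμ_p D L) ≫ L.ev
  have hb : b ≫ D.g = pullback.fst D.p (aa D L) ≫ D.tV := by
    change (_ ≫ L.ev) ≫ D.g = _
    rw [Category.assoc, L.ev_g, pullback.lift_fst_assoc, μμ_tV]
  obtain ⟨c, hc, -⟩ := L.exists_lift (TT' D L) (aa D L) b hb
  exact ⟨c, hc⟩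

end good

end Groth.Agent.R2.H84.GrpdSplitAsm
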