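import Mathlib
import Groth.Prelude.Def_Grpd
import Groth.Agent.Lib.Helper2Grpd
import Groth.Agent.Lib.Helper20ResFld
import Groth.Agent.R2.H84GrpdSplitSpec
import Groth.Agent.R2.H84GrpdRestrGen
import Groth.Agent.R2.H84GrpdSplitAsmA

/-!
# PROJ:grpd-split, assembly part B (helper84): the open `Ω` of the restricted groupoid on `Res`
-/

set_option autoImplicit false
set_option linter.unusedSectionVars false
set_option linter.style.haveILetI false
universe u

open CategoryTheory CategoryTheory.Limits AlgebraicGeometry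
open Groth.Agent.Lib.Helper2.Grpd Groth.Agent.Lib.Helper20.ResFld
open Groth.Agent.R2.H84.GrpdSplitSpec Groth.Agent.R2.H84.GrpdRestrGen

namespace Groth.Agent.R2.H84.GrpdSplitAsm

theorem isOpenImmersion_of_comp_etale {X Y Z : Scheme.{u}} (f : X ⟶ Y) (g : Y ⟶ Z) [Etale g]
    [IsOpenImmersion (f ≫ g)] : IsOpenImmersion f := by
  have hle : @Etale ≤ (@IsOpenImmersion).diagonal := by
    intro A B k hk
    have : Etale k := hk
    show IsOpenImmersion (pullback.diagonal k)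
    infer_instance
  have := (MorphismProperty.hasOfPostcompProperty_iff_le_diagonal (P := @IsOpenImmersion)
    (Q := @Etale)).mpr hle
  exact MorphismProperty.of_postcomp (W := @IsOpenImmersion) (W' := @Etale) f g ‹_› ‹_›

variable {S : Scheme.{u}} {G : Grpd.GroupoidScheme S} {u₀ : ↥G.U} {F : Set ↥G.R}
  (D : Step1 G u₀ F) (L : LiftRes D.g D.p D.tV) [Flat G.s] [LocallyOfFinitePresentation G.s]

/-- `Res ⟶ U` -/
noncomputable abbrev hR : L.Res ⟶ G.U := L.r ≫ D.g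

instance : Etale L.r := L.etale
instance : IsAffine L.Res := L.isAffine
instance : Etale (hR D L) := by unfold hR; infer_instance

variable (τ : TT' D L ⟶ L.Res) (hτ : τ ≫ L.r = aa D L)

lemma ιΩ_aux₁ : (pullback.fst D.p ((good D L).ι ≫ L.r) ≫ D.ρ) ≫ G.s =
    (pullback.snd D.p ((good D L).ι ≫ L.r) ≫ (good D L).ι) ≫ hR D L := by
  rw [Category.assoc, D.ρ_s, ← Category.assoc, pullback.condition, hR]
  simp only [Category.assoc]

include hτ in
lemma ιΩ_aux₂ : (pullback.fst D.p ((good D L).ι ≫ L.r) ≫ D.ρ) ≫ G.t = τ ≫ hR D L := by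
  rw [hR, ← Category.assoc τ, hτ, aa_g, Category.assoc]
  rfl

/-- `(ρ, x') ↦ (ρ : x' → τ̃(ρ, x'))` -/
noncomputable def ιΩ : TT' D L ⟶ R' G (hR D L) :=
  lift (pullback.fst D.p ((good D L).ι ≫ L.r) ≫ D.ρ)
    (pullback.snd D.p ((good D L).ι ≫ L.r) ≫ (good D L).ι) τ (ιΩ_aux₁ D L) (ιΩ_aux₂ D L τ hτ)

/-- `V ×_{U₁} U' ⟶ R ×_{s,U} Res` -/
noncomputable def oo : TT' D L ⟶ pullback G.s (hR D L) :=
  pullback.lift (pullback.fst D.p ((good D L).ι ≫ L.r) ≫ D.ρ)
    (pullback.snd D.p ((good D L).ι ≫ L.r) ≫ (good D L).ι) (ιΩ_aux₁ D L)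

lemma ιΩ_q : ιΩ D L τ hτ ≫ q G (hR D L) = oo D L := by
  apply pullback.hom_ext
  · rw [Category.assoc, q_fst, ιΩ, lift_fR, oo, pullback.lift_fst]
  · rw [Category.assoc, q_snd, ιΩ, lift_s, oo, pullback.lift_snd]

/-- `V ×_{U₁} U' ⟶ (R ×_{s,U} U₁) ×_{U₁} Res` -/
noncomputable def oo' : TT' D L ⟶ pullback (pullback.snd G.s D.g) L.r :=
  pullback.map D.p ((good D L).ι ≫ L.r) (pullback.snd G.s D.g) L.r D.V.ι (good D L).ι (𝟙 _)
    (by rw [Category.comp_id]; rfl) (by rw [Category.comp_id])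

instance : IsOpenImmersion (oo' D L) := by unfold oo'; infer_instance

lemma oo'_fst : oo' D L ≫ pullback.fst _ _ = pullback.fst _ _ ≫ D.V.ι := pullback.lift_fst _ _ _
lemma oo'_snd : oo' D L ≫ pullback.snd _ _ = pullback.snd _ _ ≫ (good D L).ι :=
  pullback.lift_snd _ _ _

lemma oo_eq : oo D L = oo' D L ≫ (pullbackLeftPullbackSndIso G.s D.g L.r).hom := by
  apply pullback.hom_ext
  · have h1 : oo D L ≫ pullback.fst G.s (hR D L) =
        pullback.fst D.p ((good D L).ι ≫ L.r) ≫ D.ρ := pullback.lift_fst _ _ _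
    have h2 : (pullbackLeftPullbackSndIso G.s D.g L.r).hom ≫ pullback.fst G.s (hR D L) =
        pullback.fst _ _ ≫ pullback.fst _ _ := pullbackLeftPullbackSndIso_hom_fst _ _ _
    rw [h1, Category.assoc, h2, ← Category.assoc, oo'_fst, Category.assoc]
    rfl
  · have h1 : oo D L ≫ pullback.snd G.s (hR D L) =
        pullback.snd D.p ((good D L).ι ≫ L.r) ≫ (good D L).ι := pullback.lift_snd _ _ _
    have h2 : (pullbackLeftPullbackSndIso G.s D.g L.r).hom ≫ pullback.snd G.s (hR D L) =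
        pullback.snd _ _ := pullbackLeftPullbackSndIso_hom_snd _ _ _
    rw [h1, Category.assoc, h2, oo'_snd]

instance isOpenImmersion_oo : IsOpenImmersion (oo D L) := by
  rw [oo_eq]
  infer_instance

instance isOpenImmersion_ιΩ : IsOpenImmersion (ιΩ D L τ hτ) := by
  haveI : IsOpenImmersion (ιΩ D L τ hτ ≫ q G (hR D L)) := by rw [ιΩ_q]; infer_instance
  exact isOpenImmersion_of_comp_etale (ιΩ D L τ hτ) (q G (hR D L))

/-- the open subgroupoid candidate -/
noncomputable abbrev Ω : (R' G (hR D L)).Opens := (ιΩ D L τ hτ).opensRange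

lemma mem_Ω_iff (r' : ↥(R' G (hR D L))) : r' ∈ Ω D L τ hτ ↔ ∃ w, ιΩ D L τ hτ w = r' := Iff.rfl

lemma ιΩ_fR_apply (w : ↥(TT' D L)) :
    fR G (hR D L) (ιΩ D L τ hτ w) = D.ρ (pullback.fst D.p ((good D L).ι ≫ L.r) w) := by
  rw [← Scheme.Hom.comp_apply, ιΩ, lift_fR, Scheme.Hom.comp_apply]

lemma ιΩ_s_apply (w : ↥(TT' D L)) :
    s' G (hR D L) (ιΩ D L τ hτ w) = (good D L).ι (pullback.snd D.p ((good D L).ι ≫ L.r) w) := by
  rw [← Scheme.Hom.comp_apply, ιΩ, lift_s, Scheme.Hom.comp_apply]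

lemma ιΩ_t_apply (w : ↥(TT' D L)) : t' G (hR D L) (ιΩ D L τ hτ w) = τ w := by
  rw [← Scheme.Hom.comp_apply, ιΩ, lift_t]

lemma Ω_ι_s : (Ω D L τ hτ).ι ≫ s' G (hR D L) =
    (ιΩ D L τ hτ).isoOpensRange.inv ≫
      (pullback.snd D.p ((good D L).ι ≫ L.r) ≫ (good D L).ι) := by
  have h1 : (ιΩ D L τ hτ).isoOpensRange.inv ≫ ιΩ D L τ hτ = (Ω D L τ hτ).ι :=
    (ιΩ D L τ hτ).isoOpensRange_inv_comp
  rw [← h1, Category.assoc]
  congr 1
  exact lift_s _ _ _ _ _

instance isFinite_Ω : IsFinite ((Ω D L τ hτ).ι ≫ s' G (hR D L)) := by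
  rw [Ω_ι_s]
  haveI : IsFinite (pullback.snd D.p ((good D L).ι ≫ L.r) ≫ (good D L).ι) := inferInstance
  infer_instance


/-! ### the fibre of `Ω` over the base point -/

section fibre
variable (hF : FClosed G u₀ F) (u' : ↥L.Res) (hu' : L.r u' = D.u₁)
  (hres : Function.Bijective (L.r.residueFieldMap u'))
  (huniq : ∀ y : ↥L.Res, L.r y = D.u₁ → y = u')

include hu' in
lemma hR_u' : hR D L u' = u₀ := by
  rw [hR, Scheme.Hom.comp_apply, hu', D.hu₁]

include hu' hres in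
lemma bijective_hR : Function.Bijective ((hR D L).residueFieldMap u') := by
  apply bijective_residueFieldMap_comp _ _ _ hres
  rw [hu']; exact D.hres

include hF hu' in
lemma aa_of_snd (w : ↥(TT' D L))
    (hw : (good D L).ι (pullback.snd D.p ((good D L).ι ≫ L.r) w) = u') :
    aa D L w = D.u₁ ∧ D.ρ (pullback.fst D.p ((good D L).ι ≫ L.r) w) ∈ F := by
  have hp : D.p (pullback.fst D.p ((good D L).ι ≫ L.r) w) = D.u₁ := by
    rw [← Scheme.Hom.comp_apply, pullback.condition, ← Category.assoc, Scheme.Hom.comp_apply,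
      Scheme.Hom.comp_apply, hw, hu']
  refine ⟨?_, D.ρ_mem_F _ hp⟩
  apply D.hfib
  rw [← Scheme.Hom.comp_apply, aa_g, Scheme.Hom.comp_apply]
  exact D.tV_of_p hF _ hp

include hF hu' huniq hτ in
lemma τ_of_snd (w : ↥(TT' D L))
    (hw : (good D L).ι (pullback.snd D.p ((good D L).ι ≫ L.r) w) = u') : τ w = u' := by
  apply huniq
  rw [← Scheme.Hom.comp_apply, hτ]
  exact (aa_of_snd D L hF u' hu' w hw).1

include hF hu' hres huniq in
/-- every arrow `u' → u'` lying over `F` is in `Ω`. -/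
theorem mem_Ω_of_fibre (r' : ↥(R' G (hR D L))) (h1 : fR G (hR D L) r' ∈ F)
    (h2 : s' G (hR D L) r' = u') (h3 : t' G (hR D L) r' = u') : r' ∈ Ω D L τ hτ := by
  have hu'g : u' ∈ good D L := mem_good D L hF u' hu'
  -- the point of `V`
  obtain ⟨v₀, hv1, hv2⟩ := Scheme.Pullback.exists_preimage_pullback (f := G.s) (g := D.g)
    (fR G (hR D L) r') D.u₁ (by rw [hF.s_eq _ h1, D.hu₁])
  have hv₀ : v₀ ∈ D.V := (D.hV v₀ hv2).mpr (by rw [hv1]; exact h1)
  obtain ⟨w, hw1, hw2⟩ := Scheme.Pullback.exists_preimage_pullback (f := D.p)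
    (g := (good D L).ι ≫ L.r) (⟨v₀, hv₀⟩ : ↥(D.V : Scheme.{u})) (⟨u', hu'g⟩ : ↥(good D L : Scheme.{u}))
    (by
      rw [Scheme.Hom.comp_apply]
      change pullback.snd G.s D.g v₀ = L.r u'
      rw [hv2, hu'])
  have hw2' : (good D L).ι (pullback.snd D.p ((good D L).ι ≫ L.r) w) = u' := by rw [hw2]; rfl
  refine ⟨w, ?_⟩
  have hbij := bijective_hR D L u' hu' hres
  apply eq_of_components
  · rw [ιΩ_fR_apply, hw1]
    exact hv1
  · rw [ιΩ_s_apply, hw2', h2]
  · rw [ιΩ_t_apply, τ_of_snd D L τ hτ hF u' hu' huniq w hw2', h3]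
  · rw [h2]; exact hbij
  · rw [h3]; exact hbij

include hF hu' hres huniq in
theorem e_mem_Ω : (restr G (hR D L)).e u' ∈ Ω D L τ hτ := by
  apply mem_Ω_of_fibre D L τ hτ hF u' hu' hres huniq
  · change fR G (hR D L) (e' G (hR D L) u') ∈ F
    rw [e'_fR_apply, hR_u' D L u' hu']
    exact hF.e_mem
  · change (e' G (hR D L) ≫ s' G (hR D L)) u' = u'
    rw [show e' G (hR D L) ≫ s' G (hR D L) = 𝟙 _ from (restr G (hR D L)).e_s]
    rfl
  · change (e' G (hR D L) ≫ t' G (hR D L)) u' = u'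
    rw [show e' G (hR D L) ≫ t' G (hR D L) = 𝟙 _ from (restr G (hR D L)).e_t]
    rfl

include hF hu' huniq in
theorem t_of_mem_Ω (ω : ↥(R' G (hR D L))) (hω : ω ∈ Ω D L τ hτ) (hs : s' G (hR D L) ω = u') :
    t' G (hR D L) ω = u' ∧ fR G (hR D L) ω ∈ F := by
  obtain ⟨w, rfl⟩ := hω
  rw [ιΩ_s_apply] at hs
  refine ⟨?_, ?_⟩
  · rw [ιΩ_t_apply]
    exact τ_of_snd D L τ hτ hF u' hu' huniq w hs
  · rw [ιΩ_fR_apply]
    exact (aa_of_snd D L hF u' hu' w hs).2

include hF hu' hres huniq in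
theorem i_mem_Ω (ω : ↥(R' G (hR D L))) (hω : ω ∈ Ω D L τ hτ) (hs : s' G (hR D L) ω = u') :
    (restr G (hR D L)).i ω ∈ Ω D L τ hτ := by
  obtain ⟨ht, hf⟩ := t_of_mem_Ω D L τ hτ hF u' hu' huniq ω hω hs
  apply mem_Ω_of_fibre D L τ hτ hF u' hu' hres huniq
  · change fR G (hR D L) (i' G (hR D L) ω) ∈ F
    rw [i'_fR_apply]
    exact hF.i_mem _ hf
  · change s' G (hR D L) (i' G (hR D L) ω) = u'
    rw [i'_s_apply, ht]
  · change t' G (hR D L) (i' G (hR D L) ω) = u'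
    rw [i'_t_apply, hs]

include hF hu' hres huniq in
theorem c_mem_Ω (z : ↥(pullback (restr G (hR D L)).s (restr G (hR D L)).t))
    (h1 : pullback.fst (restr G (hR D L)).s (restr G (hR D L)).t z ∈ Ω D L τ hτ)
    (h2 : pullback.snd (restr G (hR D L)).s (restr G (hR D L)).t z ∈ Ω D L τ hτ)
    (hs : (restr G (hR D L)).s (pullback.snd (restr G (hR D L)).s (restr G (hR D L)).t z) = u') :
    (restr G (hR D L)).c z ∈ Ω D L τ hτ := by
  obtain ⟨ht2, hf2⟩ := t_of_mem_Ω D L τ hτ hF u' hu' huniq _ h2 hs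
  have hs1 : s' G (hR D L) (pullback.fst (s' G (hR D L)) (t' G (hR D L)) z) = u' := by
    rw [← Scheme.Hom.comp_apply, pullback.condition, Scheme.Hom.comp_apply]
    exact ht2
  obtain ⟨ht1, hf1⟩ := t_of_mem_Ω D L τ hτ hF u' hu' huniq _ h1 hs1
  apply mem_Ω_of_fibre D L τ hτ hF u' hu' hres huniq
  · change fR G (hR D L) (c' G (hR D L) z) ∈ F
    rw [← Scheme.Hom.comp_apply, c', lift_fR, comp, Scheme.Hom.comp_apply]
    apply hF.c_mem
    · rw [← Scheme.Hom.comp_apply, pullback.lift_fst, Scheme.Hom.comp_apply]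
      exact hf1
    · rw [← Scheme.Hom.comp_apply, pullback.lift_snd, Scheme.Hom.comp_apply]
      exact hf2
  · change s' G (hR D L) (c' G (hR D L) z) = u'
    rw [← Scheme.Hom.comp_apply, c', lift_s, Scheme.Hom.comp_apply]
    exact hs
  · change t' G (hR D L) (c' G (hR D L) z) = u'
    rw [← Scheme.Hom.comp_apply, c', lift_t, Scheme.Hom.comp_apply]
    exact ht1

end fibre

end Groth.Agent.R2.H84.GrpdSplitAsm
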