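import Mathlib
import Groth.Prelude.Def_Grpd
import Groth.Agent.Lib.Helper2Grpd
import Groth.Agent.R2.H84GrpdRestrGen
import Groth.Agent.S7461

/-!
# PROJ:grpd-split, assembly part C (helper84): from an open `Ω ⊆ R` which is a "subgroupoid over an
open `W ⊆ U`" to an open subgroupoid scheme `P` of the restriction of `G` to `W`.  Also composition of
morphisms of groupoid schemes and pasting of the cartesian `j`-squares.
-/

set_option autoImplicit false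
set_option linter.unusedSectionVars false
set_option linter.style.haveILetI false
universe u

open CategoryTheory CategoryTheory.Limits AlgebraicGeometry
open Groth.Agent.Lib.Helper2.Grpd
open Groth.Agent.R2.H84.GrpdRestrGen

namespace Groth.Agent.R2.H84.GrpdSplitAsm

variable {S : Scheme.{u}}

/-- composition of morphisms of groupoid schemes -/
noncomputable def homComp {G₁ G₂ G₃ : Grpd.GroupoidScheme S} (ψ : Grpd.GroupoidScheme.Hom G₁ G₂)
    (φ : Grpd.GroupoidScheme.Hom G₂ G₃) : Grpd.GroupoidScheme.Hom G₁ G₃ where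
  fU := ψ.fU ≫ φ.fU
  fR := ψ.fR ≫ φ.fR
  fU_over := by rw [Category.assoc, φ.fU_over, ψ.fU_over]
  comm_s := by rw [Category.assoc, φ.comm_s, ← Category.assoc, ψ.comm_s, Category.assoc]
  comm_t := by rw [Category.assoc, φ.comm_t, ← Category.assoc, ψ.comm_t, Category.assoc]
  comm_c := fun α β h => by
    rw [← Category.assoc, ψ.comm_c α β h, φ.comm_c]
    congr 1

/-- pasting of the cartesian `j`-squares -/
theorem isPullback_homComp {G₁ G₂ G₃ : Grpd.GroupoidScheme S} (ψ : Grpd.GroupoidScheme.Hom G₁ G₂)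
    (φ : Grpd.GroupoidScheme.Hom G₂ G₃)
    (hψ : IsPullback ψ.fR G₁.j G₂.j
      (pullback.map G₁.pU G₁.pU G₂.pU G₂.pU ψ.fU ψ.fU (𝟙 S)
        ((Category.comp_id _).trans ψ.fU_over.symm) ((Category.comp_id _).trans ψ.fU_over.symm)))
    (hφ : IsPullback φ.fR G₂.j G₃.j
      (pullback.map G₂.pU G₂.pU G₃.pU G₃.pU φ.fU φ.fU (𝟙 S)
        ((Category.comp_id _).trans φ.fU_over.symm) ((Category.comp_id _).trans φ.fU_over.symm))) :
    IsPullback (homComp ψ φ).fR G₁.j G₃.j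
      (pullback.map G₁.pU G₁.pU G₃.pU G₃.pU (homComp ψ φ).fU (homComp ψ φ).fU (𝟙 S)
        ((Category.comp_id _).trans (homComp ψ φ).fU_over.symm)
        ((Category.comp_id _).trans (homComp ψ φ).fU_over.symm)) := by
  have h := hψ.paste_horiz hφ
  have e2 : pullback.map G₁.pU G₁.pU G₃.pU G₃.pU (homComp ψ φ).fU (homComp ψ φ).fU (𝟙 S)
        ((Category.comp_id _).trans (homComp ψ φ).fU_over.symm)
        ((Category.comp_id _).trans (homComp ψ φ).fU_over.symm) =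
      pullback.map G₁.pU G₁.pU G₂.pU G₂.pU ψ.fU ψ.fU (𝟙 S)
        ((Category.comp_id _).trans ψ.fU_over.symm) ((Category.comp_id _).trans ψ.fU_over.symm) ≫
      pullback.map G₂.pU G₂.pU G₃.pU G₃.pU φ.fU φ.fU (𝟙 S)
        ((Category.comp_id _).trans φ.fU_over.symm) ((Category.comp_id _).trans φ.fU_over.symm) := by
    apply pullback.hom_ext
    · simp only [Category.assoc, pullback.lift_fst, pullback.lift_fst_assoc, homComp]
    · simp only [Category.assoc, pullback.lift_snd, pullback.lift_snd_assoc, homComp]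
  rw [e2]
  exact h

variable (G : Grpd.GroupoidScheme S) (Ω : G.R.Opens) (W : G.U.Opens)

section sub
variable (he : ∀ x ∈ W, G.e x ∈ Ω)
  (hti : ∀ ω ∈ Ω, G.s ω ∈ W → G.t ω ∈ W ∧ G.i ω ∈ Ω)
  (hc : ∀ z : ↥(pullback G.s G.t), pullback.fst G.s G.t z ∈ Ω → pullback.snd G.s G.t z ∈ Ω →
    G.s (pullback.snd G.s G.t z) ∈ W → G.c z ∈ Ω)

/-- the open subscheme `P` of the arrows of the restriction to `W` -/
noncomputable abbrev PP : (R' G W.ι).Opens := fR G W.ι ⁻¹ᵁ Ω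

lemma mem_PP (r : ↥(R' G W.ι)) : r ∈ PP G Ω W ↔ fR G W.ι r ∈ Ω := Iff.rfl

lemma s_mem_W (r : ↥(R' G W.ι)) : G.s (fR G W.ι r) ∈ W := by
  rw [fR_s_apply]; exact (s' G W.ι r).2

lemma t_mem_W (r : ↥(R' G W.ι)) : G.t (fR G W.ι r) ∈ W := by
  rw [fR_t_apply]; exact (t' G W.ι r).2

include he in
theorem exists_eP : ∃ eP : (W : Scheme.{u}) ⟶ (PP G Ω W : Scheme.{u}),
    eP ≫ (PP G Ω W).ι = e' G W.ι := by
  refine ⟨IsOpenImmersion.lift (PP G Ω W).ι (e' G W.ι) ?_, IsOpenImmersion.lift_fac _ _ _⟩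
  rintro _ ⟨x, rfl⟩
  rw [Scheme.Opens.range_ι]
  change fR G W.ι (e' G W.ι x) ∈ Ω
  rw [e'_fR_apply]
  exact he _ x.2

include hti in
theorem exists_iP : ∃ iP : (PP G Ω W : Scheme.{u}) ⟶ (PP G Ω W : Scheme.{u}),
    iP ≫ (PP G Ω W).ι = (PP G Ω W).ι ≫ i' G W.ι := by
  refine ⟨IsOpenImmersion.lift (PP G Ω W).ι ((PP G Ω W).ι ≫ i' G W.ι) ?_,
    IsOpenImmersion.lift_fac _ _ _⟩
  rintro _ ⟨x, rfl⟩
  rw [Scheme.Opens.range_ι, Scheme.Hom.comp_apply]
  change fR G W.ι (i' G W.ι ((PP G Ω W).ι x)) ∈ Ω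
  rw [i'_fR_apply]
  exact (hti _ x.2 (s_mem_W G W _)).2

include hc in
theorem exists_cP : ∃ cP : pullback ((PP G Ω W).ι ≫ s' G W.ι) ((PP G Ω W).ι ≫ t' G W.ι) ⟶
      (PP G Ω W : Scheme.{u}),
    cP ≫ (PP G Ω W).ι = pullback.map ((PP G Ω W).ι ≫ s' G W.ι)
      ((PP G Ω W).ι ≫ t' G W.ι) (s' G W.ι) (t' G W.ι) (PP G Ω W).ι (PP G Ω W).ι
      (𝟙 _) (Category.comp_id _) (Category.comp_id _) ≫ c' G W.ι := by
  refine ⟨IsOpenImmersion.lift (PP G Ω W).ι _ ?_, IsOpenImmersion.lift_fac _ _ _⟩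
  rintro _ ⟨z, rfl⟩
  rw [Scheme.Opens.range_ι, Scheme.Hom.comp_apply]
  set y := (pullback.map ((PP G Ω W).ι ≫ s' G W.ι)
      ((PP G Ω W).ι ≫ t' G W.ι) (s' G W.ι) (t' G W.ι) (PP G Ω W).ι (PP G Ω W).ι
      (𝟙 _) (Category.comp_id _) (Category.comp_id _)) z with hy
  have e1 : pullback.map ((PP G Ω W).ι ≫ s' G W.ι)
      ((PP G Ω W).ι ≫ t' G W.ι) (s' G W.ι) (t' G W.ι) (PP G Ω W).ι (PP G Ω W).ι
      (𝟙 _) (Category.comp_id _) (Category.comp_id _) ≫ pullback.fst (s' G W.ι) (t' G W.ι) =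
      pullback.fst ((PP G Ω W).ι ≫ s' G W.ι) ((PP G Ω W).ι ≫ t' G W.ι) ≫ (PP G Ω W).ι :=
    pullback.lift_fst _ _ _
  have e2 : pullback.map ((PP G Ω W).ι ≫ s' G W.ι)
      ((PP G Ω W).ι ≫ t' G W.ι) (s' G W.ι) (t' G W.ι) (PP G Ω W).ι (PP G Ω W).ι
      (𝟙 _) (Category.comp_id _) (Category.comp_id _) ≫ pullback.snd (s' G W.ι) (t' G W.ι) =
      pullback.snd ((PP G Ω W).ι ≫ s' G W.ι) ((PP G Ω W).ι ≫ t' G W.ι) ≫ (PP G Ω W).ι :=
    pullback.lift_snd _ _ _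
  have hy1 : pullback.fst (s' G W.ι) (t' G W.ι) y = (PP G Ω W).ι
      ((pullback.fst ((PP G Ω W).ι ≫ s' G W.ι) ((PP G Ω W).ι ≫ t' G W.ι)) z) := by
    rw [hy, ← Scheme.Hom.comp_apply, e1, Scheme.Hom.comp_apply]
  have hy2 : pullback.snd (s' G W.ι) (t' G W.ι) y = (PP G Ω W).ι
      ((pullback.snd ((PP G Ω W).ι ≫ s' G W.ι) ((PP G Ω W).ι ≫ t' G W.ι)) z) := by
    rw [hy, ← Scheme.Hom.comp_apply, e2, Scheme.Hom.comp_apply]
  have hfR : fR G W.ι (c' G W.ι y) = G.c (pullback.lift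
      (pullback.fst (s' G W.ι) (t' G W.ι) ≫ fR G W.ι)
      (pullback.snd (s' G W.ι) (t' G W.ι) ≫ fR G W.ι)
      (c'_aux G W.ι) y) := by
    have : c' G W.ι ≫ fR G W.ι = pullback.lift
        (pullback.fst (s' G W.ι) (t' G W.ι) ≫ fR G W.ι)
        (pullback.snd (s' G W.ι) (t' G W.ι) ≫ fR G W.ι) (c'_aux G W.ι) ≫ G.c := by
      rw [c', lift_fR]; rfl
    rw [← Scheme.Hom.comp_apply, this, Scheme.Hom.comp_apply]
  have h1 : ∀ y', pullback.fst G.s G.t (pullback.lift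
      (pullback.fst (s' G W.ι) (t' G W.ι) ≫ fR G W.ι)
      (pullback.snd (s' G W.ι) (t' G W.ι) ≫ fR G W.ι)
      (c'_aux G W.ι) y') = fR G W.ι (pullback.fst (s' G W.ι) (t' G W.ι) y') := fun y' => by
    rw [← Scheme.Hom.comp_apply, pullback.lift_fst, Scheme.Hom.comp_apply]
  have h2 : ∀ y', pullback.snd G.s G.t (pullback.lift
      (pullback.fst (s' G W.ι) (t' G W.ι) ≫ fR G W.ι)
      (pullback.snd (s' G W.ι) (t' G W.ι) ≫ fR G W.ι)
      (c'_aux G W.ι) y') = fR G W.ι (pullback.snd (s' G W.ι) (t' G W.ι) y') := fun y' => by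
    rw [← Scheme.Hom.comp_apply, pullback.lift_snd, Scheme.Hom.comp_apply]
  change fR G W.ι (c' G W.ι y) ∈ Ω
  rw [hfR]
  apply hc
  · rw [h1, hy1]
    exact ((pullback.fst ((PP G Ω W).ι ≫ s' G W.ι) ((PP G Ω W).ι ≫ t' G W.ι)) z).2
  · rw [h2, hy2]
    exact ((pullback.snd ((PP G Ω W).ι ≫ s' G W.ι) ((PP G Ω W).ι ≫ t' G W.ι)) z).2
  · rw [h2]
    exact s_mem_W G W _

/-- `P ⟶ Ω` -/
noncomputable def kk : (PP G Ω W : Scheme.{u}) ⟶ (Ω : Scheme.{u}) :=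
  IsOpenImmersion.lift Ω.ι ((PP G Ω W).ι ≫ fR G W.ι) (by
    rintro _ ⟨x, rfl⟩
    rw [Scheme.Opens.range_ι, Scheme.Hom.comp_apply]
    exact x.2)

lemma kk_ι : kk G Ω W ≫ Ω.ι = (PP G Ω W).ι ≫ fR G W.ι := IsOpenImmersion.lift_fac _ _ _

instance : IsOpenImmersion (kk G Ω W) := by
  haveI : IsOpenImmersion (kk G Ω W ≫ Ω.ι) := by rw [kk_ι]; infer_instance
  exact IsOpenImmersion.of_comp (kk G Ω W) Ω.ι

include hti in
theorem isPullback_kk :
    IsPullback ((PP G Ω W).ι ≫ s' G W.ι) (kk G Ω W) W.ι (Ω.ι ≫ G.s) := by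
  apply IsOpenImmersion.isPullback
  · rw [← Category.assoc, kk_ι, Category.assoc, fR_s, Category.assoc]
  · rw [Scheme.Opens.opensRange_ι]
    apply TopologicalSpace.Opens.ext
    ext x
    simp only [Scheme.Hom.coe_opensRange]
    constructor
    · intro hx
      have hxs : G.s (Ω.ι x) ∈ W := by
        have : (Ω.ι ≫ G.s) x ∈ W := hx
        rwa [Scheme.Hom.comp_apply] at this
      have hxΩ : Ω.ι x ∈ Ω := x.2
      have hxt : G.t (Ω.ι x) ∈ W := (hti _ hxΩ hxs).1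
      have hr : Ω.ι x ∈ Set.range (fR G W.ι) := by
        rw [range_fR, Scheme.Opens.range_ι]
        exact ⟨hxs, hxt⟩
      obtain ⟨r, hr⟩ := hr
      have hrP : r ∈ PP G Ω W := by rw [mem_PP, hr]; exact hxΩ
      refine ⟨⟨r, hrP⟩, ?_⟩
      apply Ω.ι.isOpenEmbedding.injective
      rw [← Scheme.Hom.comp_apply, kk_ι, Scheme.Hom.comp_apply]
      exact hr
    · rintro ⟨p, rfl⟩
      change (Ω.ι ≫ G.s) (kk G Ω W p) ∈ W
      rw [Scheme.Hom.comp_apply, ← Scheme.Hom.comp_apply (kk G Ω W), kk_ι, Scheme.Hom.comp_apply]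
      exact s_mem_W G W _

include hti in
theorem isFinite_PP_s [IsFinite (Ω.ι ≫ G.s)] : IsFinite ((PP G Ω W).ι ≫ s' G W.ι) :=
  MorphismProperty.of_isPullback (P := @IsFinite) (isPullback_kk G Ω W hti).flip inferInstance

include hti in
theorem isFinite_PP_t [IsFinite (Ω.ι ≫ G.s)] : IsFinite ((PP G Ω W).ι ≫ t' G W.ι) := by
  obtain ⟨iP, hiP⟩ := exists_iP G Ω W hti
  have hii : iP ≫ iP = 𝟙 _ := by
    have hi2 : i' G W.ι ≫ i' G W.ι = 𝟙 _ := Groth.Agent.S7461.i_i (restr G W.ι)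
    rw [← cancel_mono (PP G Ω W).ι, Category.assoc, hiP, ← Category.assoc, hiP, Category.assoc,
      hi2, Category.comp_id, Category.id_comp]
  haveI : IsIso iP := ⟨iP, hii, hii⟩
  have h1 : (PP G Ω W).ι ≫ t' G W.ι = iP ≫ ((PP G Ω W).ι ≫ s' G W.ι) := by
    have hi3 : i' G W.ι ≫ s' G W.ι = t' G W.ι := (restr G W.ι).i_s
    rw [← Category.assoc, hiP, Category.assoc, hi3]
  rw [h1]
  haveI := isFinite_PP_s G Ω W hti
  infer_instance

end sub

end Groth.Agent.R2.H84.GrpdSplitAsm
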