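import Mathlib
import Groth.Prelude.Def_Grpd
import Groth.Agent.Lib.Helper2Grpd
import Groth.Agent.Lib.Helper20ResFld
import Groth.Agent.R2.H84GrpdSplitSpec
import Groth.Agent.R2.H84GrpdRestrGen
import Groth.Agent.R2.H84GrpdSplitAsmA
import Groth.Agent.R2.H84GrpdSplitAsmB
import Groth.Agent.R2.H84GrpdSplitAsmC

/-!
# PROJ:grpd-split, assembly part D (helper84): the main theorem modulo [WR], [PT], [SHRINK], [STEP1]
-/

set_option autoImplicit false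
set_option linter.unusedSectionVars false
set_option linter.style.haveILetI false
universe u

open CategoryTheory CategoryTheory.Limits AlgebraicGeometry
open Groth.Agent.Lib.Helper2.Grpd Groth.Agent.Lib.Helper20.ResFld
open Groth.Agent.R2.H84.GrpdSplitSpec Groth.Agent.R2.H84.GrpdRestrGen

namespace Groth.Agent.R2.H84.GrpdSplitAsm

variable {S : Scheme.{u}}

/-- The conclusion of the three statements, relative to a set `F` of arrows `u → u`. -/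
def Concl (G : Grpd.GroupoidScheme S) (u : ↥G.U) (F : Set ↥G.R) : Prop :=
  ∃ (G' : Grpd.GroupoidScheme S) (φ : Grpd.GroupoidScheme.Hom G' G) (u' : ↥G'.U),
      IsAffine G'.U ∧ Etale φ.fU ∧ φ.fU u' = u ∧ IsIso (φ.fU.residueFieldMap u') ∧
      IsPullback φ.fR G'.j G.j
        (pullback.map G'.pU G'.pU G.pU G.pU φ.fU φ.fU (𝟙 S)
          ((Category.comp_id _).trans φ.fU_over.symm) ((Category.comp_id _).trans φ.fU_over.symm)) ∧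
      ∃ (P : Scheme.{u}) (ιP : P ⟶ G'.R), IsOpenImmersion ιP ∧
        (∃ eP : G'.U ⟶ P, eP ≫ ιP = G'.e) ∧ (∃ iP : P ⟶ P, iP ≫ ιP = ιP ≫ G'.i) ∧
        (∃ cP : pullback (ιP ≫ G'.s) (ιP ≫ G'.t) ⟶ P,
          cP ≫ ιP = pullback.map (ιP ≫ G'.s) (ιP ≫ G'.t) G'.s G'.t ιP ιP (𝟙 G'.U)
            (Category.comp_id _) (Category.comp_id _) ≫ G'.c) ∧
        IsFinite (ιP ≫ G'.s) ∧ IsFinite (ιP ≫ G'.t) ∧
        ∀ r' : ↥G'.R, G'.s r' = u' → G'.t r' = u' → φ.fR r' ∈ F → ∃ p : ↥P, ιP p = r'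

theorem shrink_apply (hSH : ShrinkStmt.{u}) (G : Grpd.GroupoidScheme S) (hA : IsAffine G.U)
    (hfl : Flat G.s) (hfp : LocallyOfFinitePresentation G.s) (Ω : G.R.Opens)
    (hfin : IsFinite (Ω.ι ≫ G.s)) (u : ↥G.U)
    (h1 : G.e u ∈ Ω)
    (h2 : ∀ ω ∈ Ω, G.s ω = u → G.t ω = u)
    (h3 : ∀ ω ∈ Ω, G.s ω = u → G.i ω ∈ Ω)
    (h4 : ∀ z : ↥(pullback G.s G.t), pullback.fst G.s G.t z ∈ Ω → pullback.snd G.s G.t z ∈ Ω →
      G.s (pullback.snd G.s G.t z) = u → G.c z ∈ Ω) :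
    ∃ f : Γ(G.U, ⊤), u ∈ G.U.basicOpen f ∧
      (∀ x ∈ G.U.basicOpen f, G.e x ∈ Ω) ∧
      (∀ ω ∈ Ω, G.s ω ∈ G.U.basicOpen f → G.t ω ∈ G.U.basicOpen f ∧ G.i ω ∈ Ω) ∧
      (∀ z : ↥(pullback G.s G.t), pullback.fst G.s G.t z ∈ Ω → pullback.snd G.s G.t z ∈ Ω →
        G.s (pullback.snd G.s G.t z) ∈ G.U.basicOpen f → G.c z ∈ Ω) :=
  hSH G Ω u h1 h2 h3 h4

theorem last_aux (G₀ G₁ : Grpd.GroupoidScheme S) (φ₁ : Grpd.GroupoidScheme.Hom G₁ G₀)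
    (Ω : G₁.R.Opens) (W : G₁.U.Opens) (u' : ↥G₁.U) (hfu' : u' ∈ W) (F : Set ↥G₀.R)
    (hmem : ∀ r' : ↥G₁.R, φ₁.fR r' ∈ F → G₁.s r' = u' → G₁.t r' = u' → r' ∈ Ω)
    (r' : ↥(R' G₁ W.ι)) (hs : s' G₁ W.ι r' = ⟨u', hfu'⟩) (ht : t' G₁ W.ι r' = ⟨u', hfu'⟩)
    (hFr : φ₁.fR (fR G₁ W.ι r') ∈ F) :
    ∃ p : ↥((PP G₁ Ω W : (R' G₁ W.ι).Opens) : Scheme.{u}), (PP G₁ Ω W).ι p = r' := by
  have hr' : r' ∈ PP G₁ Ω W := by
    rw [mem_PP]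
    apply hmem
    · exact hFr
    · rw [fR_s_apply, hs]; rfl
    · rw [fR_t_apply, ht]; rfl
  exact ⟨⟨r', hr'⟩, rfl⟩

theorem concl_of_sub (G₀ G₁ : Grpd.GroupoidScheme S) (φ₁ : Grpd.GroupoidScheme.Hom G₁ G₀)
    (hφ₁ : IsPullback φ₁.fR G₁.j G₀.j
      (pullback.map G₁.pU G₁.pU G₀.pU G₀.pU φ₁.fU φ₁.fU (𝟙 S)
        ((Category.comp_id _).trans φ₁.fU_over.symm) ((Category.comp_id _).trans φ₁.fU_over.symm)))
    (het : Etale φ₁.fU) (haff : IsAffine G₁.U) (Ω : G₁.R.Opens) (hfin : IsFinite (Ω.ι ≫ G₁.s))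
    (f : Γ(G₁.U, ⊤)) (u' : ↥G₁.U) (hfu' : u' ∈ G₁.U.basicOpen f)
    (he : ∀ x ∈ G₁.U.basicOpen f, G₁.e x ∈ Ω)
    (hti : ∀ ω ∈ Ω, G₁.s ω ∈ G₁.U.basicOpen f → G₁.t ω ∈ G₁.U.basicOpen f ∧ G₁.i ω ∈ Ω)
    (hc : ∀ z : ↥(pullback G₁.s G₁.t), pullback.fst G₁.s G₁.t z ∈ Ω →
      pullback.snd G₁.s G₁.t z ∈ Ω → G₁.s (pullback.snd G₁.s G₁.t z) ∈ G₁.U.basicOpen f →
      G₁.c z ∈ Ω)
    (u₀ : ↥G₀.U) (hu : φ₁.fU u' = u₀) (hres : Function.Bijective (φ₁.fU.residueFieldMap u'))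
    (F : Set ↥G₀.R)
    (hmem : ∀ r' : ↥G₁.R, φ₁.fR r' ∈ F → G₁.s r' = u' → G₁.t r' = u' → r' ∈ Ω) :
    Concl G₀ u₀ F := by
  have hW : IsAffine ((G₁.U.basicOpen f : G₁.U.Opens) : Scheme.{u}) :=
    (isAffineOpen_top G₁.U).basicOpen f
  refine ⟨restr G₁ (G₁.U.basicOpen f).ι, homComp (restrHom G₁ (G₁.U.basicOpen f).ι) φ₁,
    (⟨u', hfu'⟩ : ↥((G₁.U.basicOpen f : G₁.U.Opens) : Scheme.{u})), hW, ?_, ?_, ?_, ?_,
    ((PP G₁ Ω (G₁.U.basicOpen f) : (R' G₁ (G₁.U.basicOpen f).ι).Opens) : Scheme.{u}),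
    (PP G₁ Ω (G₁.U.basicOpen f)).ι,
    (show IsOpenImmersion (PP G₁ Ω (G₁.U.basicOpen f)).ι from inferInstance), exists_eP G₁ Ω _ he, exists_iP G₁ Ω _ hti,
    exists_cP G₁ Ω _ hc, isFinite_PP_s G₁ Ω _ hti, isFinite_PP_t G₁ Ω _ hti, ?_⟩
  · change Etale ((G₁.U.basicOpen f).ι ≫ φ₁.fU)
    infer_instance
  · change ((G₁.U.basicOpen f).ι ≫ φ₁.fU) _ = u₀
    rw [Scheme.Hom.comp_apply]
    exact hu
  · have hb : Function.Bijective (((G₁.U.basicOpen f).ι ≫ φ₁.fU).residueFieldMap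
        (⟨u', hfu'⟩ : ↥((G₁.U.basicOpen f : G₁.U.Opens) : Scheme.{u}))) := by
      apply bijective_residueFieldMap_comp
      · exact bijective_residueFieldMap_of_isOpenImmersion _ _
      · exact hres
    exact (ConcreteCategory.isIso_iff_bijective _).mpr hb
  · exact isPullback_homComp _ _ (isPullback_restr G₁ _) hφ₁
  · exact fun r' hs ht hFr => last_aux G₀ G₁ φ₁ Ω _ u' hfu' F hmem r' hs ht hFr

theorem concl_of_step1 (hWR : WRStmt.{u}) (hPT : PTStmt.{u}) (hSH : ShrinkStmt.{u})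
    (G : Grpd.GroupoidScheme S) [IsAffine G.U] [Flat G.s] [LocallyOfFinitePresentation G.s]
    (u₀ : ↥G.U) (F : Set ↥G.R) (hF : FClosed G u₀ F) (D : Step1 G u₀ F) : Concl G u₀ F := by
  obtain ⟨L⟩ := hWR D.g D.p D.tV
  obtain ⟨u', hu', hres, huniq⟩ := hPT D.g D.p D.tV L D.u₁ D.hres D.hfib
    (fun v hv => D.tV_of_p hF v hv)
  obtain ⟨τ, hτ⟩ := exists_tau D L
  -- first restriction
  obtain ⟨f, hfu', he, hti, hc⟩ := shrink_apply hSH (restr G (hR D L)) L.isAffine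
    inferInstance inferInstance (Ω D L τ hτ) (isFinite_Ω D L τ hτ) u'
    (e_mem_Ω D L τ hτ hF u' hu' hres huniq)
    (fun ω hω hs => (t_of_mem_Ω D L τ hτ hF u' hu' huniq ω hω hs).1)
    (i_mem_Ω D L τ hτ hF u' hu' hres huniq)
    (c_mem_Ω D L τ hτ hF u' hu' hres huniq)
  exact concl_of_sub G (restr G (hR D L)) (restrHom G (hR D L)) (isPullback_restr G _)
    (by change Etale (hR D L); infer_instance) L.isAffine (Ω D L τ hτ) (isFinite_Ω D L τ hτ)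
    f u' hfu' he hti hc u₀ (hR_u' D L u' hu') (bijective_hR D L u' hu' hres) F
    (fun r' h1 h2 h3 => mem_Ω_of_fibre D L τ hτ hF u' hu' hres huniq r' h1 h2 h3)

end Groth.Agent.R2.H84.GrpdSplitAsm
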