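import Mathlib
import Groth.Prelude.Def_Grpd
import Groth.Agent.Lib.Helper2Grpd
import Groth.Agent.Lib.Helper20EtFinFibre

/-!
# Étale localization of groupoid schemes: point-set preliminaries (helper84)

* `quasiFiniteAt_comp`, `quasiFiniteAt_iff_exists_opens` (isolated in the fibre);
* `finite_fibre_baseChange`: finiteness of a fibre of a locally finite type morphism is stable
  under base change;
* for a groupoid scheme: `finite_fibre_of_arrow` (if `s⁻¹(s r₀)` is finite so is `s⁻¹(t r₀)`),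
  `exists_arrow_comp`, `quasiFiniteAt_pU_target`.
-/

set_option autoImplicit false
universe u

open CategoryTheory CategoryTheory.Limits AlgebraicGeometry

namespace Groth.Agent.R2.H84.EtLocGrpd

open Groth.Agent.Lib.Helper20.EtSections

theorem quasiFiniteAt_comp {X Y Z : Scheme.{u}} (f : X ⟶ Y) (g : Y ⟶ Z) (x : X)
    (hf : f.QuasiFiniteAt x) (hg : g.QuasiFiniteAt (f x)) : (f ≫ g).QuasiFiniteAt x := by
  simp only [Scheme.Hom.QuasiFiniteAt, Scheme.Hom.stalkMap_comp]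
  exact hf.comp hg

theorem quasiFiniteAt_iff_exists_opens {X Y : Scheme.{u}} (f : X ⟶ Y) [LocallyOfFiniteType f]
    (x : X) :
    f.QuasiFiniteAt x ↔ ∃ V : X.Opens, x ∈ V ∧ ∀ x' ∈ V, f x' = f x → x' = x := by
  rw [Scheme.Hom.quasiFiniteAt_iff_isOpen_singleton_asFiber,
    ← (f.fiberHomeo (f x)).isOpen_image]
  simp only [Set.image_singleton, Scheme.Hom.asFiber, Homeomorph.apply_symm_apply]
  rw [isOpen_induced_iff]
  constructor
  · rintro ⟨t, ht, h⟩
    refine ⟨⟨t, ht⟩, ?_, ?_⟩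
    · have : (⟨x, rfl⟩ : f ⁻¹' {f x}) ∈ Subtype.val ⁻¹' t := by rw [h]; rfl
      exact this
    · intro x' hx' hfx'
      have : (⟨x', hfx'⟩ : f ⁻¹' {f x}) ∈ Subtype.val ⁻¹' t := hx'
      rw [h] at this
      exact congrArg Subtype.val this
  · rintro ⟨V, hxV, hV⟩
    refine ⟨V, V.2, ?_⟩
    ext ⟨x', hx'⟩
    simp only [Set.mem_preimage, Set.mem_singleton_iff, Subtype.mk.injEq]
    exact ⟨fun h => hV x' h hx', fun h => h ▸ hxV⟩

theorem finite_fibre_baseChange {X Y Y' : Scheme.{u}} (f : X ⟶ Y) [LocallyOfFiniteType f]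
    (g : Y' ⟶ Y) (y' : Y') (hfin : (f ⁻¹' {g y'}).Finite) :
    ((pullback.snd f g) ⁻¹' {y'}).Finite := by
  obtain ⟨U, g₁, u₁, hg₁, hu₁, hb, d⟩ := hasFinParts_of_finite (f := f) (g y') (f ⁻¹' {g y'}) hfin
    (fun t ht => ⟨ht, quasiFiniteAt_of_finite_fibre f t
      (by rw [show f t = g y' from ht]; exact hfin)⟩)
  obtain ⟨y'', h1, h2⟩ :=
    Scheme.Pullback.exists_preimage_pullback (f := g) (g := g₁) y' u₁ hu₁.symm
  have d' : ∀ t ∈ f ⁻¹' {g y'}, FinPartData f (pullback.snd g g₁ ≫ g₁) y'' t :=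
    fun t ht => (d t ht).baseChange (pullback.snd g g₁) y'' h2
  rw [← pullback.condition] at d'
  have hF : ((pullback.snd f (pullback.fst g g₁ ≫ g)) ⁻¹' {y''}).Finite := by
    choose! V hV1 hV2 using d'
    have hfinT : ∀ t ∈ f ⁻¹' {g y'}, ((V t : Set ↥(pullback f (pullback.fst g g₁ ≫ g))) ∩
        pullback.snd f (pullback.fst g g₁ ≫ g) ⁻¹' {y''}).Finite := by
      intro t ht
      have := hV1 t ht
      have hfin' := Scheme.Hom.finite_preimage_singleton
        ((V t).ι ≫ pullback.snd f (pullback.fst g g₁ ≫ g)) y''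
      apply (hfin'.image (V t).ι).subset
      rintro w ⟨hwV, hw1⟩
      obtain ⟨w', rfl⟩ : w ∈ Set.range (V t).ι := by rw [Scheme.Opens.range_ι]; exact hwV
      exact ⟨w', hw1, rfl⟩
    apply (hfin.biUnion hfinT).subset
    intro w hw
    have hw' : pullback.snd f (pullback.fst g g₁ ≫ g) w = y'' := hw
    have hmem : pullback.fst f (pullback.fst g g₁ ≫ g) w ∈ f ⁻¹' {g y'} := by
      change f (pullback.fst f (pullback.fst g g₁ ≫ g) w) = g y'
      have hc := pullback.condition (f := f) (g := pullback.fst g g₁ ≫ g)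
      rw [← Scheme.Hom.comp_apply, hc, Scheme.Hom.comp_apply, hw',
        Scheme.Hom.comp_apply, h1]
    exact Set.mem_biUnion hmem ⟨(hV2 _ hmem w hw').mpr rfl, hw'⟩
  apply (hF.image (bcMap f g (pullback.fst g g₁))).subset
  intro w hw
  have hw' : pullback.snd f g w = y' := hw
  obtain ⟨w'', e1, e2⟩ := Scheme.exists_preimage_of_isPullback
    (isPullback_bcMap f g (pullback.fst g g₁)) w y'' (by rw [hw', h1])
  exact ⟨w'', e2, e1⟩

section Groupoid

variable {S : Scheme.{u}} (G : Grpd.GroupoidScheme S)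

open Groth.Agent.Lib.Helper2.Grpd

lemma lift_fst_snd_eq_id : pullback.lift (pullback.fst G.s G.t) (pullback.snd G.s G.t)
    pullback.condition = 𝟙 _ := by
  apply pullback.hom_ext <;> simp

lemma c_eq_comp : G.c = comp G (pullback.fst G.s G.t) (pullback.snd G.s G.t)
    pullback.condition := by
  unfold comp
  rw [lift_fst_snd_eq_id, Category.id_comp]

@[reassoc]
lemma c_s : G.c ≫ G.s = pullback.snd G.s G.t ≫ G.s := by
  rw [c_eq_comp, comp_s]

@[reassoc]
lemma c_t : G.c ≫ G.t = pullback.fst G.s G.t ≫ G.t := by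
  rw [c_eq_comp, comp_t]

/-- `(a, b) ↦ (a ∘ b, b)` -/
noncomputable def Φ : pullback G.s G.t ⟶ pullback G.s G.s :=
  pullback.lift G.c (pullback.snd G.s G.t) (c_s G)

lemma Ψ_aux : pullback.fst G.s G.s ≫ G.s = (pullback.snd G.s G.s ≫ G.i) ≫ G.t := by
  rw [Category.assoc, G.i_t, pullback.condition]

/-- `(a, b) ↦ (a ∘ b⁻¹, b)` -/
noncomputable def Ψ : pullback G.s G.s ⟶ pullback G.s G.t :=
  pullback.lift (comp G (pullback.fst G.s G.s) (pullback.snd G.s G.s ≫ G.i) (Ψ_aux G))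
    (pullback.snd G.s G.s) (by rw [comp_s, Category.assoc, G.i_s])

lemma Φ_snd : Φ G ≫ pullback.snd G.s G.s = pullback.snd G.s G.t := pullback.lift_snd _ _ _

lemma Φ_Ψ : Φ G ≫ Ψ G = 𝟙 _ := by
  apply pullback.hom_ext
  · unfold Ψ
    rw [Category.assoc, pullback.lift_fst, precomp_comp, Category.id_comp]
    have h1 : Φ G ≫ pullback.fst G.s G.s = comp G (pullback.fst G.s G.t) (pullback.snd G.s G.t)
        pullback.condition := by
      unfold Φ
      rw [pullback.lift_fst, ← c_eq_comp]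
    have h2 : Φ G ≫ pullback.snd G.s G.s ≫ G.i = pullback.snd G.s G.t ≫ G.i := by
      rw [← Category.assoc, Φ_snd]
    rw [comp_congr G _ h1 h2]
    exact comp_comp_i G _ _ _ _
  · unfold Ψ
    rw [Category.assoc, pullback.lift_snd, Φ_snd, Category.id_comp]

theorem finite_fibre_of_arrow [LocallyOfFiniteType G.s] (r₀ : G.R)
    (hfin : (G.s ⁻¹' {G.s r₀}).Finite) : (G.s ⁻¹' {G.t r₀}).Finite := by
  have hB : ((pullback.snd G.s G.s) ⁻¹' {r₀}).Finite := finite_fibre_baseChange G.s G.s r₀ hfin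
  have hA : ((pullback.snd G.s G.t) ⁻¹' {r₀}).Finite := by
    apply Set.Finite.of_finite_image (f := Φ G)
    · apply hB.subset
      rintro _ ⟨z, hz, rfl⟩
      change pullback.snd G.s G.s (Φ G z) = r₀
      rw [← Scheme.Hom.comp_apply, Φ_snd]
      exact hz
    · intro z _ z' _ h
      have := congrArg (Ψ G) h
      rwa [← Scheme.Hom.comp_apply, ← Scheme.Hom.comp_apply, Φ_Ψ] at this
  apply (hA.image (pullback.fst G.s G.t)).subset
  intro r hr
  obtain ⟨z, hz1, hz2⟩ := Scheme.Pullback.exists_preimage_pullback (f := G.s) (g := G.t) r r₀ hr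
  exact ⟨z, hz2, hz1⟩

theorem exists_arrow_comp (r r₀ : G.R) (h : G.s r = G.t r₀) :
    ∃ r' : G.R, G.s r' = G.s r₀ ∧ G.t r' = G.t r := by
  obtain ⟨z, hz1, hz2⟩ := Scheme.Pullback.exists_preimage_pullback (f := G.s) (g := G.t) r r₀ h
  refine ⟨G.c z, ?_, ?_⟩
  · rw [← Scheme.Hom.comp_apply, c_s, Scheme.Hom.comp_apply, hz2]
  · rw [← Scheme.Hom.comp_apply, c_t, Scheme.Hom.comp_apply, hz1]

theorem quasiFiniteAt_pU_target [LocallyOfFiniteType G.pU] [LocallyOfFiniteType G.s]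
    [Flat G.t] [LocallyOfFinitePresentation G.t]
    (r : G.R) (hs : G.s.QuasiFiniteAt r) (hu : G.pU.QuasiFiniteAt (G.s r)) :
    G.pU.QuasiFiniteAt (G.t r) := by
  have hpR : (G.s ≫ G.pU).QuasiFiniteAt r := quasiFiniteAt_comp _ _ _ hs hu
  rw [quasiFiniteAt_iff_exists_opens] at hpR ⊢
  obtain ⟨W, hrW, hW⟩ := hpR
  have hopen : IsOpen (G.t '' (W : Set G.R)) := G.t.isOpenMap _ W.2
  have e : G.s ≫ G.pU = G.t ≫ G.pU := G.s_over.trans G.t_over.symm
  refine ⟨⟨_, hopen⟩, ⟨r, hrW, rfl⟩, ?_⟩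
  rintro x' ⟨w, hwW, rfl⟩ hx'
  have : w = r := hW w hwW (by
    rw [e, Scheme.Hom.comp_apply, Scheme.Hom.comp_apply]
    exact hx')
  rw [this]

end Groupoid

end Groth.Agent.R2.H84.EtLocGrpd
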