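import Mathlib
import Groth.Prelude.Def_Grpd
import Groth.Agent.Lib.Helper2Grpd
import Groth.Agent.Lib.Helper20ResFld
import Groth.Agent.R2.H84EtLocGrpdA
import Groth.Agent.R2.H84GrpdSplitAsmA

/-!
# PROJ:grpd-split (helper84): the three sets `F` of arrows `u → u` and their closure properties
-/

set_option autoImplicit false
set_option linter.unusedSectionVars false
set_option linter.style.haveILetI false
universe u

open CategoryTheory CategoryTheory.Limits AlgebraicGeometry
open Groth.Agent.Lib.Helper2.Grpd Groth.Agent.Lib.Helper20.ResFld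
open Groth.Agent.R2.H84.EtLocGrpd

namespace Groth.Agent.R2.H84.GrpdSplitAsm

/-- a retraction induces bijections on residue fields at the points of the section -/
theorem bijective_residueFieldMap_of_section {X Y : Scheme.{u}} (σ : Y ⟶ X) (π : X ⟶ Y)
    (h : σ ≫ π = 𝟙 Y) (y : Y) : Function.Bijective (π.residueFieldMap (σ y)) := by
  refine ⟨(π.residueFieldMap (σ y)).hom.injective, ?_⟩
  have hiso : IsOpenImmersion (σ ≫ π) := by rw [h]; infer_instance
  have hb : Function.Bijective ((σ ≫ π).residueFieldMap y) :=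
    bijective_residueFieldMap_of_isOpenImmersion _ _
  rw [Scheme.residueFieldMap_comp] at hb
  intro b
  obtain ⟨a, ha⟩ := hb.2 (σ.residueFieldMap y b)
  refine ⟨a, ?_⟩
  apply (σ.residueFieldMap y).hom.injective
  exact ha

variable {S : Scheme.{u}} (G : Grpd.GroupoidScheme S)

lemma e_i : G.e ≫ G.i = G.e := by
  have h1 := G.i_comp G.e
  have h2 := G.comp_e (G.e ≫ G.i)
  have e1 : (G.e ≫ G.i) ≫ G.s ≫ G.e = G.e := by
    rw [Category.assoc, ← Category.assoc G.i, G.i_s, ← Category.assoc, G.e_t, Category.id_comp]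
  have e2 : G.e ≫ G.s ≫ G.e = G.e := by rw [← Category.assoc, G.e_s, Category.id_comp]
  rw [← h2]
  rw [e2] at h1
  refine Eq.trans ?_ h1
  congr 1
  apply pullback.hom_ext
  · rw [pullback.lift_fst, pullback.lift_fst]
  · rw [pullback.lift_snd, pullback.lift_snd, e1]

lemma e_i_pt (x : ↥G.U) : G.i (G.e x) = G.e x := by
  rw [← Scheme.Hom.comp_apply, e_i]

lemma s_e_pt (x : ↥G.U) : G.s (G.e x) = x := by
  rw [← Scheme.Hom.comp_apply, G.e_s]; rfl

lemma t_e_pt (x : ↥G.U) : G.t (G.e x) = x := by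
  rw [← Scheme.Hom.comp_apply, G.e_t]; rfl

lemma s_i_pt (r : ↥G.R) : G.s (G.i r) = G.t r := by
  rw [← Scheme.Hom.comp_apply, G.i_s]

lemma t_i_pt (r : ↥G.R) : G.t (G.i r) = G.s r := by
  rw [← Scheme.Hom.comp_apply, G.i_t]

lemma s_c_pt (z : ↥(pullback G.s G.t)) : G.s (G.c z) = G.s (pullback.snd G.s G.t z) := by
  rw [← Scheme.Hom.comp_apply, c_s, Scheme.Hom.comp_apply]

lemma t_c_pt (z : ↥(pullback G.s G.t)) : G.t (G.c z) = G.t (pullback.fst G.s G.t z) := by
  rw [← Scheme.Hom.comp_apply, c_t, Scheme.Hom.comp_apply]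

/-- `(e, e) : U ⟶ R ×_U R` -/
noncomputable def ee : G.U ⟶ pullback G.s G.t :=
  pullback.lift G.e G.e (by rw [G.e_s, G.e_t])

lemma ee_c : ee G ≫ G.c = G.e := by
  have h := G.comp_e G.e
  have e2 : G.e ≫ G.s ≫ G.e = G.e := by rw [← Category.assoc, G.e_s, Category.id_comp]
  rw [← h]
  congr 1
  apply pullback.hom_ext
  · rw [ee, pullback.lift_fst, pullback.lift_fst]
  · rw [ee, pullback.lift_snd, pullback.lift_snd, e2]

/-- `F = {e u}` -/
theorem fclosed_e (u : ↥G.U) : FClosed G u {G.e u} where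
  s_eq := by rintro _ rfl; exact s_e_pt G u
  t_eq := by rintro _ rfl; exact t_e_pt G u
  e_mem := rfl
  i_mem := by rintro _ rfl; exact e_i_pt G u
  c_mem := by
    intro z h1 h2
    have h1' : pullback.fst G.s G.t z = G.e u := h1
    have h2' : pullback.snd G.s G.t z = G.e u := h2
    have hz : z = ee G u := by
      have hf : pullback.fst G.s G.t (ee G u) = G.e u := by
        rw [← Scheme.Hom.comp_apply, ee, pullback.lift_fst]
      have hs : pullback.snd G.s G.t (ee G u) = G.e u := by
        rw [← Scheme.Hom.comp_apply, ee, pullback.lift_snd]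
      apply eq_of_fst_eq_of_snd_eq
      · rw [h1', hf]
      · rw [h2', hs]
      · rw [hs]
        exact bijective_residueFieldMap_of_section G.e G.t G.e_t u
    rw [hz, ← Scheme.Hom.comp_apply, ee_c]
    rfl

/-- `F = {r | s r = u ∧ t r = u}` -/
theorem fclosed_st (u : ↥G.U) : FClosed G u {r | G.s r = u ∧ G.t r = u} where
  s_eq := fun r hr => hr.1
  t_eq := fun r hr => hr.2
  e_mem := ⟨s_e_pt G u, t_e_pt G u⟩
  i_mem := fun r hr => ⟨(s_i_pt G r).trans hr.2, (t_i_pt G r).trans hr.1⟩
  c_mem := fun z h1 h2 => ⟨(s_c_pt G z).trans h2.1, (t_c_pt G z).trans h1.2⟩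

/-! ### the stabilizer -/

lemma j_fst' : G.j ≫ pullback.fst G.pU G.pU = G.t := pullback.lift_fst _ _ _
lemma j_snd' : G.j ≫ pullback.snd G.pU G.pU = G.s := pullback.lift_snd _ _ _
lemma diag_fst : G.diag ≫ pullback.fst G.pU G.pU = 𝟙 _ := pullback.lift_fst _ _ _
lemma diag_snd : G.diag ≫ pullback.snd G.pU G.pU = 𝟙 _ := pullback.lift_snd _ _ _

/-- `F = {r | j r = Δ u}`: the image of the points of the stabilizer over `u`. -/
def Fstab (u : ↥G.U) : Set ↥G.R := {r | G.j r = G.diag u}

lemma mem_Fstab_iff (u : ↥G.U) (r : ↥G.R) : r ∈ Fstab G u ↔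
    ∃ g : ↥G.stabilizer, G.stabilizerToU g = u ∧
      (pullback.fst G.j G.diag : G.stabilizer ⟶ G.R) g = r := by
  constructor
  · intro h
    obtain ⟨g, h1, h2⟩ := Scheme.Pullback.exists_preimage_pullback (f := G.j) (g := G.diag) r u h
    exact ⟨g, h2, h1⟩
  · rintro ⟨g, rfl, rfl⟩
    change G.j (pullback.fst G.j G.diag g) = G.diag (pullback.snd G.j G.diag g)
    rw [← Scheme.Hom.comp_apply, pullback.condition, Scheme.Hom.comp_apply]

lemma e_j : G.e ≫ G.j = G.diag := by
  apply pullback.hom_ext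
  · rw [Category.assoc, j_fst', G.e_t, diag_fst]
  · rw [Category.assoc, j_snd', G.e_s, diag_snd]

/-- the swap of `U ×_S U` -/
noncomputable def sw : pullback G.pU G.pU ⟶ pullback G.pU G.pU :=
  pullback.lift (pullback.snd _ _) (pullback.fst _ _) pullback.condition.symm

lemma i_j : G.i ≫ G.j = G.j ≫ sw G := by
  apply pullback.hom_ext
  · rw [Category.assoc, j_fst', G.i_t, Category.assoc, sw, pullback.lift_fst, j_snd']
  · rw [Category.assoc, j_snd', G.i_s, Category.assoc, sw, pullback.lift_snd, j_fst']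

lemma diag_sw : G.diag ≫ sw G = G.diag := by
  apply pullback.hom_ext
  · rw [Category.assoc, sw, pullback.lift_fst, diag_snd, diag_fst]
  · rw [Category.assoc, sw, pullback.lift_snd, diag_snd, diag_fst]

/-- `U ×_S U ×_S U` -/
noncomputable abbrev U3 : Scheme.{u} :=
  pullback (pullback.snd G.pU G.pU) (pullback.fst G.pU G.pU)

/-- `(j, j) : R ×_U R ⟶ U³` -/
noncomputable def ψ3 : pullback G.s G.t ⟶ U3 G :=
  pullback.map G.s G.t (pullback.snd G.pU G.pU) (pullback.fst G.pU G.pU) G.j G.j (𝟙 _)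
    (by rw [Category.comp_id, j_snd']) (by rw [Category.comp_id, j_fst'])

/-- `pr₁₃` -/
noncomputable def π13 : U3 G ⟶ pullback G.pU G.pU :=
  pullback.lift (pullback.fst _ _ ≫ pullback.fst _ _) (pullback.snd _ _ ≫ pullback.snd _ _) (by
    rw [Category.assoc, Category.assoc, pullback.condition, ← Category.assoc, pullback.condition,
      Category.assoc, pullback.condition])

/-- the small diagonal -/
noncomputable def Δ3 : G.U ⟶ U3 G :=
  pullback.lift G.diag G.diag (by rw [diag_snd, diag_fst])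

lemma c_j : G.c ≫ G.j = ψ3 G ≫ π13 G := by
  apply pullback.hom_ext
  · rw [Category.assoc, j_fst', c_t, Category.assoc, π13, pullback.lift_fst, ψ3,
      pullback.lift_fst_assoc, Category.assoc, j_fst']
  · rw [Category.assoc, j_snd', c_s, Category.assoc, π13, pullback.lift_snd, ψ3,
      pullback.lift_snd_assoc, Category.assoc, j_snd']

lemma Δ3_π13 : Δ3 G ≫ π13 G = G.diag := by
  apply pullback.hom_ext
  · rw [Category.assoc, π13, pullback.lift_fst, Δ3, pullback.lift_fst_assoc]
  · rw [Category.assoc, π13, pullback.lift_snd, Δ3, pullback.lift_snd_assoc]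

theorem fclosed_stab (u : ↥G.U) : FClosed G u (Fstab G u) where
  s_eq := by
    intro r hr
    have hr' : G.j r = G.diag u := hr
    rw [← j_snd', Scheme.Hom.comp_apply, hr', ← Scheme.Hom.comp_apply, diag_snd]
    rfl
  t_eq := by
    intro r hr
    have hr' : G.j r = G.diag u := hr
    rw [← j_fst', Scheme.Hom.comp_apply, hr', ← Scheme.Hom.comp_apply, diag_fst]
    rfl
  e_mem := by
    change G.j (G.e u) = G.diag u
    rw [← Scheme.Hom.comp_apply, e_j]
  i_mem := by
    intro r hr
    have hr' : G.j r = G.diag u := hr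
    change G.j (G.i r) = G.diag u
    rw [← Scheme.Hom.comp_apply, i_j, Scheme.Hom.comp_apply, hr', ← Scheme.Hom.comp_apply,
      diag_sw]
  c_mem := by
    intro z h1 h2
    have h1' : G.j (pullback.fst G.s G.t z) = G.diag u := h1
    have h2' : G.j (pullback.snd G.s G.t z) = G.diag u := h2
    change G.j (G.c z) = G.diag u
    have hf : (pullback.fst (pullback.snd G.pU G.pU) (pullback.fst G.pU G.pU)) (Δ3 G u) =
        G.diag u := by
      rw [← Scheme.Hom.comp_apply, Δ3, pullback.lift_fst]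
    have hs : (pullback.snd (pullback.snd G.pU G.pU) (pullback.fst G.pU G.pU)) (Δ3 G u) =
        G.diag u := by
      rw [← Scheme.Hom.comp_apply, Δ3, pullback.lift_snd]
    have e1 : ψ3 G ≫ pullback.fst (pullback.snd G.pU G.pU) (pullback.fst G.pU G.pU) =
        pullback.fst G.s G.t ≫ G.j := pullback.lift_fst _ _ _
    have e2 : ψ3 G ≫ pullback.snd (pullback.snd G.pU G.pU) (pullback.fst G.pU G.pU) =
        pullback.snd G.s G.t ≫ G.j := pullback.lift_snd _ _ _
    have hψf : (pullback.fst (pullback.snd G.pU G.pU) (pullback.fst G.pU G.pU)) (ψ3 G z) =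
        G.j (pullback.fst G.s G.t z) := by
      rw [← Scheme.Hom.comp_apply, e1, Scheme.Hom.comp_apply]
    have hψs : (pullback.snd (pullback.snd G.pU G.pU) (pullback.fst G.pU G.pU)) (ψ3 G z) =
        G.j (pullback.snd G.s G.t z) := by
      rw [← Scheme.Hom.comp_apply, e2, Scheme.Hom.comp_apply]
    have hz : ψ3 G z = Δ3 G u := by
      apply eq_of_fst_eq_of_snd_eq
      · rw [hψf, h1', hf]
      · rw [hψs, h2', hs]
      · rw [hs]
        exact bijective_residueFieldMap_of_section G.diag (pullback.fst G.pU G.pU) (diag_fst G) u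
    rw [← Scheme.Hom.comp_apply, c_j, Scheme.Hom.comp_apply, hz, ← Scheme.Hom.comp_apply, Δ3_π13]

end Groth.Agent.R2.H84.GrpdSplitAsm
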