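import Mathlib
import Groth.Prelude.Def_Hens2
import Groth.Agent.R2.H84EtLocGrpdA
import Groth.Agent.Lib.Helper20EtSplitClopen

/-!
# Étale localization: splitting off the finite part containing all isolated points (helper84)
-/

set_option autoImplicit false
set_option linter.style.haveILetI false
universe u

open CategoryTheory CategoryTheory.Limits AlgebraicGeometry

namespace Groth.Agent.R2.H84.EtFinRemainder

open Groth.Agent.Lib.Helper20.EtSections Groth.Agent.Lib.Helper20.ResFld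
  Groth.Agent.Lib.Helper20.FinUnion Groth.Agent.R2.H84.EtLocGrpd

theorem apply_fiberι {X Y : Scheme.{u}} (f : X ⟶ Y) (y : Y) (x : ↥(f.fiber y)) :
    f (f.fiberι y x) = y := by
  have : f.fiberι y x ∈ Set.range (f.fiberι y) := ⟨x, rfl⟩
  rw [f.range_fiberι y] at this
  exact this

/-- a point of the scheme-theoretic fibre is isolated iff the morphism is quasi-finite there -/
theorem isOpen_singleton_fiber_iff {X Y : Scheme.{u}} (f : X ⟶ Y) [LocallyOfFiniteType f] (y : Y)
    (x : ↥(f.fiber y)) :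
    IsOpen ({x} : Set ↥(f.fiber y)) ↔ f.QuasiFiniteAt (f.fiberι y x) := by
  rw [quasiFiniteAt_iff_exists_opens, ← (f.fiberHomeo y).isOpen_image, Set.image_singleton,
    isOpen_induced_iff]
  have hfx := apply_fiberι f y x
  constructor
  · rintro ⟨t, ht, h⟩
    refine ⟨⟨t, ht⟩, ?_, ?_⟩
    · have : (f.fiberHomeo y x) ∈ Subtype.val ⁻¹' t := by rw [h]; rfl
      exact this
    · intro x' hx' hfx'
      have hx'y : f x' = y := hfx'.trans hfx
      have : (⟨x', hx'y⟩ : f ⁻¹' {y}) ∈ Subtype.val ⁻¹' t := hx'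
      rw [h] at this
      exact congrArg Subtype.val this
  · rintro ⟨V, hxV, hV⟩
    refine ⟨V, V.2, ?_⟩
    ext ⟨x', hx'⟩
    have hx'y : f x' = y := hx'
    simp only [Set.mem_preimage, Set.mem_singleton_iff]
    constructor
    · intro h
      exact Subtype.ext (hV x' h (hx'y.trans hfx.symm))
    · intro h
      have : x' = f.fiberι y x := congrArg Subtype.val h
      rw [this]
      exact hxV

lemma lqf_of_etale {X Y : Scheme.{u}} (f : X ⟶ Y) [Etale f] : LocallyQuasiFinite f := by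
  constructor
  intro U hU V hV e
  have h1 : (f.appLE U V e).hom.FiniteType :=
    HasRingHomProperty.appLE (P := @LocallyOfFiniteType) f inferInstance ⟨U, hU⟩ ⟨V, hV⟩ e
  have h2 : (f.appLE U V e).hom.FormallyUnramified :=
    HasRingHomProperty.appLE (P := @FormallyUnramified) f inferInstance ⟨U, hU⟩ ⟨V, hV⟩ e
  algebraize [(f.appLE U V e).hom]
  rw [← RingHom.algebraMap_toAlgebra (f.appLE U V e).hom, RingHom.quasiFinite_algebraMap]
  infer_instance

/-- quasi-finiteness at a point descends along étale base change -/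
theorem quasiFiniteAt_fst_of_etale {X S U : Scheme.{u}} (f : X ⟶ S) [LocallyOfFiniteType f]
    (g : U ⟶ S) [Etale g] (w : ↥(pullback f g))
    (hw : (pullback.snd f g).QuasiFiniteAt w) : f.QuasiFiniteAt (pullback.fst f g w) := by
  rw [quasiFiniteAt_iff_exists_opens] at hw ⊢
  obtain ⟨W, hwW, hW⟩ := hw
  have := lqf_of_etale g
  have hg : g.QuasiFiniteAt (pullback.snd f g w) := g.quasiFiniteAt _
  rw [quasiFiniteAt_iff_exists_opens] at hg
  obtain ⟨N, huN, hN⟩ := hg
  have hopen : IsOpen (pullback.fst f g '' ((W ⊓ (pullback.snd f g) ⁻¹ᵁ N : (pullback f g).Opens) :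
      Set ↥(pullback f g))) := (pullback.fst f g).isOpenMap _ (W ⊓ (pullback.snd f g) ⁻¹ᵁ N).2
  refine ⟨⟨_, hopen⟩, ⟨w, ⟨hwW, huN⟩, rfl⟩, ?_⟩
  rintro _ ⟨w'', ⟨hw''W, hw''N⟩, rfl⟩ hfx
  have hc := pullback.condition (f := f) (g := g)
  have h1 : g (pullback.snd f g w'') = g (pullback.snd f g w) := by
    rw [← Scheme.Hom.comp_apply, ← Scheme.Hom.comp_apply, ← hc, Scheme.Hom.comp_apply,
      Scheme.Hom.comp_apply, hfx]
  have h2 : pullback.snd f g w'' = pullback.snd f g w := hN _ hw''N h1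
  rw [hW w'' hw''W h2]

/-- Stacks 02LN-type: split off a finite clopen part containing all isolated points. -/
theorem main {X S : Scheme.{u}} (f : X ⟶ S) [LocallyOfFiniteType f] [IsSeparated f] (s : S)
    (hfin : {x : ↑(f.fiber s) | IsOpen ({x} : Set ↑(f.fiber s))}.Finite) :
    ∃ (U : Scheme.{u}) (g : U ⟶ S) (u : U), Hens2.IsEtaleNbhd g u s ∧
      ∃ V : (pullback f g).Opens, IsClopen (V : Set ↑(pullback f g)) ∧
        IsFinite (V.ι ≫ pullback.snd f g) ∧
        ∀ w : ↑((pullback.snd f g).fiber u), (pullback.snd f g).fiberι u w ∉ V →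
          ¬ IsOpen ({w} : Set ↑((pullback.snd f g).fiber u)) := by
  have hT : {t : X | f t = s ∧ f.QuasiFiniteAt t}.Finite := by
    apply (hfin.image (f.fiberι s)).subset
    rintro t ⟨hts, htq⟩
    have : t ∈ Set.range (f.fiberι s) := by rw [f.range_fiberι s]; exact hts
    obtain ⟨x, rfl⟩ := this
    exact ⟨x, (isOpen_singleton_fiber_iff f s x).mpr htq, rfl⟩
  obtain ⟨U, g, u, hg, hu, hb, d⟩ := hasFinParts_of_finite (f := f) s _ hT (fun t ht => ht)
  choose! V hV1 hV2 using d
  have : Finite {t : X | f t = s ∧ f.QuasiFiniteAt t} := hT.to_subtype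
  have hVc : ∀ t : {t : X | f t = s ∧ f.QuasiFiniteAt t},
      IsClosed (V t.1 : Set ↥(pullback f g)) := by
    intro t
    have := hV1 t.1 t.2
    exact isClosed_of_isFinite (pullback.snd f g) (V t.1)
  obtain ⟨h1, h2⟩ := isFinite_iSup_of_isClosed (pullback.snd f g)
    (fun t : {t : X | f t = s ∧ f.QuasiFiniteAt t} => V t.1) hVc (fun t => hV1 t.1 t.2)
  refine ⟨U, g, u, ⟨hg, hu, hb⟩, ⨆ t : {t : X | f t = s ∧ f.QuasiFiniteAt t}, V t.1,
    ⟨h2, (⨆ t : {t : X | f t = s ∧ f.QuasiFiniteAt t}, V t.1).2⟩, h1, ?_⟩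
  intro w hw hopen
  apply hw
  have hlft : LocallyOfFiniteType (pullback.snd f g) := inferInstance
  have hq := (isOpen_singleton_fiber_iff (pullback.snd f g) u w).mp hopen
  have hsnd := apply_fiberι (pullback.snd f g) u w
  have hq' := quasiFiniteAt_fst_of_etale f g _ hq
  have hmem : pullback.fst f g ((pullback.snd f g).fiberι u w) ∈
      {t : X | f t = s ∧ f.QuasiFiniteAt t} := by
    refine ⟨?_, hq'⟩
    have hc := pullback.condition (f := f) (g := g)
    rw [← Scheme.Hom.comp_apply, hc, Scheme.Hom.comp_apply, hsnd, hu]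
  rw [TopologicalSpace.Opens.mem_iSup]
  exact ⟨⟨_, hmem⟩, (hV2 _ hmem _ hsnd).mpr rfl⟩

end Groth.Agent.R2.H84.EtFinRemainder
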