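import Mathlib
import Groth.Prelude.Def_Grpd
import Groth.Agent.R2.H84EtLocGrpdA
import Groth.Agent.Lib.Helper20EtSplitClopen
import Groth.Agent.Lib.Helper20EtFinParts
import Groth.Agent.Lib.Helper20FinUnion
import Groth.Agent.R2.H84GrpdSplitAsmA
import Groth.Agent.R2.H84EtFinRemainder

/-!
# PROJ:grpd-split, [STEP1] (helper84): the first étale localization
-/

set_option autoImplicit false
set_option linter.unusedSectionVars false
set_option linter.style.haveILetI false
universe u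

open CategoryTheory CategoryTheory.Limits AlgebraicGeometry
open Groth.Agent.Lib.Helper20.EtSections Groth.Agent.Lib.Helper20.ResFld
  Groth.Agent.Lib.Helper20.FinUnion
open Groth.Agent.R2.H84.EtLocGrpd

namespace Groth.Agent.R2.H84.GrpdSplitAsm

variable {S : Scheme.{u}} (G : Grpd.GroupoidScheme S)

theorem exists_step1 [IsSeparated G.s] [LocallyOfFiniteType G.s] (u₀ : ↥G.U) (F : Set ↥G.R)
    (hFfin : F.Finite) (hFs : ∀ r ∈ F, G.s r = u₀) (hqf : ∀ r ∈ F, G.s.QuasiFiniteAt r) :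
    Nonempty (Step1 G u₀ F) := by
  obtain ⟨U', g, u', hg, hu', hb, d⟩ := hasFinParts_of_finite (f := G.s) u₀ F hFfin
    (fun r hr => ⟨hFs r hr, hqf r hr⟩)
  choose! V hV1 hV2 using d
  have : Finite F := hFfin.to_subtype
  have hVc : ∀ t : F, IsClosed (V t.1 : Set ↥(pullback G.s g)) := by
    intro t
    have := hV1 t.1 t.2
    exact isClosed_of_isFinite (pullback.snd G.s g) (V t.1)
  obtain ⟨h1, h2⟩ := isFinite_iSup_of_isClosed (pullback.snd G.s g)
    (fun t : F => V t.1) hVc (fun t => hV1 t.1 t.2)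
  have hVV : ∀ w : ↥(pullback G.s g), pullback.snd G.s g w = u' →
      (w ∈ (⨆ t : F, V t.1) ↔ pullback.fst G.s g w ∈ F) := by
    intro w hw
    rw [TopologicalSpace.Opens.mem_iSup]
    constructor
    · rintro ⟨x, hx⟩
      rw [(hV2 x.1 x.2 w hw).mp hx]
      exact x.2
    · intro hx
      exact ⟨⟨_, hx⟩, (hV2 _ hx w hw).mpr rfl⟩
  -- isolate `u'` in its fibre
  have hqg : g.QuasiFiniteAt u' := by
    haveI : LocallyQuasiFinite g := Groth.Agent.R2.H84.EtFinRemainder.lqf_of_etale g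
    exact Scheme.Hom.quasiFiniteAt g u'
  obtain ⟨O, hu'O, hO⟩ := (quasiFiniteAt_iff_exists_opens g u').mp hqg
  obtain ⟨_, ⟨A₀, hA, rfl⟩, hu'A, hAO⟩ :=
    U'.isBasis_affineOpens.exists_subset_of_mem_open hu'O O.2
  obtain ⟨A, hAA⟩ : ∃ A : U'.Opens, A = A₀ := ⟨A₀, rfl⟩
  subst hAA
  haveI : IsFinite ((⨆ t : F, V t.1).ι ≫ pullback.snd G.s g) := h1
  refine ⟨{
    U₁ := A
    aff := hA
    g := A.ι ≫ g
    et := inferInstance
    u₁ := ⟨u', hu'A⟩
    hu₁ := ?_
    hres := ?_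
    hfib := ?_
    V := (bcMap G.s g A.ι) ⁻¹ᵁ (⨆ t : F, V t.1)
    hVc := h2.preimage (bcMap G.s g A.ι).continuous
    hVfin := isFinite_preimage_bcMap G.s g A.ι (⨆ t : F, V t.1)
    hV := ?_ }⟩
  · rw [Scheme.Hom.comp_apply]; exact hu'
  · apply bijective_residueFieldMap_comp
    · exact bijective_residueFieldMap_of_isOpenImmersion _ _
    · exact hb
  · intro x hx
    apply Subtype.ext
    apply hO _ (hAO x.2)
    rw [Scheme.Hom.comp_apply, Scheme.Hom.comp_apply] at hx
    exact hx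
  · intro w hw
    have := hVV (bcMap G.s g A.ι w) (by rw [bcMap_snd_apply, hw]; rfl)
    rwa [bcMap_fst_apply] at this

end Groth.Agent.R2.H84.GrpdSplitAsm
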