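import Mathlib
import Groth.Prelude.Def_Grpd
import Groth.Prelude.Def_Dual3
import Groth.Agent.R2.H84GrpdSplitSpec
import Groth.Agent.R2.H84GrpdSplitAsmA
import Groth.Agent.R2.H84GrpdSplitAsmD
import Groth.Agent.R2.H84GrpdSplitStep1
import Groth.Agent.R2.H84GrpdSplitF

/-!
# PROJ:grpd-split (helper84): the three statements modulo [WR], [PT], [SHRINK]
-/

set_option autoImplicit false
set_option linter.unusedSectionVars false
set_option linter.style.haveILetI false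
universe u

open CategoryTheory CategoryTheory.Limits AlgebraicGeometry
open Groth.Agent.R2.H84.GrpdSplitSpec

namespace Groth.Agent.R2.H84.GrpdSplitAsm

variable {S : Scheme.{u}}

theorem concl_of_finite (hWR : WRStmt.{u}) (hPT : PTStmt.{u}) (hSH : ShrinkStmt.{u})
    (G : Grpd.GroupoidScheme S) [IsAffine G.U] [IsSeparated G.s] [Flat G.s]
    [LocallyOfFinitePresentation G.s] (u₀ : ↥G.U) (F : Set ↥G.R) (hF : FClosed G u₀ F)
    (hFfin : F.Finite) (hqf : ∀ r ∈ F, Dual3.QuasiFiniteAt G.s r) : Concl G u₀ F := by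
  obtain ⟨D⟩ := exists_step1 G u₀ F hFfin hF.s_eq
    (fun r hr => Scheme.Hom.quasiFiniteAt_iff_isOpen_singleton_asFiber.mpr (hqf r hr))
  exact concl_of_step1 hWR hPT hSH G u₀ F hF D

/-- S12202 modulo the packages -/
theorem quasiSplit (hWR : WRStmt.{u}) (hPT : PTStmt.{u}) (hSH : ShrinkStmt.{u})
    (G : Grpd.GroupoidScheme S) [IsAffine G.U] [IsSeparated G.s] [Flat G.s]
    [LocallyOfFinitePresentation G.s]
    (u : ↥G.U) (hqf : Dual3.QuasiFiniteAt G.s (G.e u)) :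
    ∃ (G' : Grpd.GroupoidScheme S) (φ : Grpd.GroupoidScheme.Hom G' G) (u' : ↥G'.U),
      IsAffine G'.U ∧ Etale φ.fU ∧ φ.fU u' = u ∧ IsIso (φ.fU.residueFieldMap u') ∧
      IsPullback φ.fR G'.j G.j
        (pullback.map G'.pU G'.pU G.pU G.pU φ.fU φ.fU (𝟙 S)
          ((Category.comp_id _).trans φ.fU_over.symm) ((Category.comp_id _).trans φ.fU_over.symm)) ∧
      ∃ (P : Scheme.{u}) (ιP : P ⟶ G'.R), IsOpenImmersion ιP ∧
        (∃ eP : G'.U ⟶ P, eP ≫ ιP = G'.e) ∧ (∃ iP : P ⟶ P, iP ≫ ιP = ιP ≫ G'.i) ∧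
        (∃ cP : pullback (ιP ≫ G'.s) (ιP ≫ G'.t) ⟶ P,
          cP ≫ ιP = pullback.map (ιP ≫ G'.s) (ιP ≫ G'.t) G'.s G'.t ιP ιP (𝟙 G'.U)
            (Category.comp_id _) (Category.comp_id _) ≫ G'.c) ∧
        IsFinite (ιP ≫ G'.s) ∧ IsFinite (ιP ≫ G'.t) := by
  obtain ⟨G', φ, u', h1, h2, h3, h4, h5, P, ιP, h6, h7, h8, h9, h10, h11, -⟩ :=
    concl_of_finite hWR hPT hSH G u {G.e u} (fclosed_e G u) (Set.finite_singleton _)
      (by rintro _ rfl; exact hqf)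
  exact ⟨G', φ, u', h1, h2, h3, h4, h5, P, ιP, h6, h7, h8, h9, h10, h11⟩

/-- S12203 modulo the packages -/
theorem stronglySplit (hWR : WRStmt.{u}) (hPT : PTStmt.{u}) (hSH : ShrinkStmt.{u})
    (G : Grpd.GroupoidScheme S) [IsAffine G.U] [IsSeparated G.s] [Flat G.s]
    [LocallyOfFinitePresentation G.s]
    (u : ↥G.U) (hfin : Set.Finite {r : ↥G.R | G.s r = u ∧ G.t r = u})
    (hqf : ∀ r : ↥G.R, G.s r = u → G.t r = u → Dual3.QuasiFiniteAt G.s r) :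
    ∃ (G' : Grpd.GroupoidScheme S) (φ : Grpd.GroupoidScheme.Hom G' G) (u' : ↥G'.U),
      IsAffine G'.U ∧ Etale φ.fU ∧ φ.fU u' = u ∧ IsIso (φ.fU.residueFieldMap u') ∧
      IsPullback φ.fR G'.j G.j
        (pullback.map G'.pU G'.pU G.pU G.pU φ.fU φ.fU (𝟙 S)
          ((Category.comp_id _).trans φ.fU_over.symm) ((Category.comp_id _).trans φ.fU_over.symm)) ∧
      ∃ (P : Scheme.{u}) (ιP : P ⟶ G'.R), IsOpenImmersion ιP ∧
        (∃ eP : G'.U ⟶ P, eP ≫ ιP = G'.e) ∧ (∃ iP : P ⟶ P, iP ≫ ιP = ιP ≫ G'.i) ∧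
        (∃ cP : pullback (ιP ≫ G'.s) (ιP ≫ G'.t) ⟶ P,
          cP ≫ ιP = pullback.map (ιP ≫ G'.s) (ιP ≫ G'.t) G'.s G'.t ιP ιP (𝟙 G'.U)
            (Category.comp_id _) (Category.comp_id _) ≫ G'.c) ∧
        IsFinite (ιP ≫ G'.s) ∧ IsFinite (ιP ≫ G'.t) ∧
        ∀ r' : ↥G'.R, G'.s r' = u' → G'.t r' = u' → ∃ p : ↥P, ιP p = r' := by
  obtain ⟨G', φ, u', h1, h2, h3, h4, h5, P, ιP, h6, h7, h8, h9, h10, h11, h12⟩ :=
    concl_of_finite hWR hPT hSH G u {r : ↥G.R | G.s r = u ∧ G.t r = u} (fclosed_st G u) hfin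
      (fun r hr => hqf r hr.1 hr.2)
  refine ⟨G', φ, u', h1, h2, h3, h4, h5, P, ιP, h6, h7, h8, h9, h10, h11, ?_⟩
  intro r' hs ht
  apply h12 r' hs ht
  constructor
  · rw [← Scheme.Hom.comp_apply, φ.comm_s, Scheme.Hom.comp_apply, hs, h3]
  · rw [← Scheme.Hom.comp_apply, φ.comm_t, Scheme.Hom.comp_apply, ht, h3]

/-- S19957 modulo the packages -/
theorem split (hWR : WRStmt.{u}) (hPT : PTStmt.{u}) (hSH : ShrinkStmt.{u})
    (G : Grpd.GroupoidScheme S) [IsAffine G.U] [IsSeparated G.s] [Flat G.s]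
    [LocallyOfFinitePresentation G.s]
    (u : ↥G.U) (hfin : Set.Finite {g : ↥G.stabilizer | G.stabilizerToU g = u})
    (hqf : ∀ g : ↥G.stabilizer, G.stabilizerToU g = u →
      Dual3.QuasiFiniteAt G.s ((pullback.fst G.j G.diag : G.stabilizer ⟶ G.R) g)) :
    ∃ (G' : Grpd.GroupoidScheme S) (φ : Grpd.GroupoidScheme.Hom G' G) (u' : ↥G'.U),
      IsAffine G'.U ∧ Etale φ.fU ∧ φ.fU u' = u ∧ IsIso (φ.fU.residueFieldMap u') ∧
      IsPullback φ.fR G'.j G.j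
        (pullback.map G'.pU G'.pU G.pU G.pU φ.fU φ.fU (𝟙 S)
          ((Category.comp_id _).trans φ.fU_over.symm) ((Category.comp_id _).trans φ.fU_over.symm)) ∧
      ∃ (P : Scheme.{u}) (ιP : P ⟶ G'.R), IsOpenImmersion ιP ∧
        (∃ eP : G'.U ⟶ P, eP ≫ ιP = G'.e) ∧ (∃ iP : P ⟶ P, iP ≫ ιP = ιP ≫ G'.i) ∧
        (∃ cP : pullback (ιP ≫ G'.s) (ιP ≫ G'.t) ⟶ P,
          cP ≫ ιP = pullback.map (ιP ≫ G'.s) (ιP ≫ G'.t) G'.s G'.t ιP ιP (𝟙 G'.U)
            (Category.comp_id _) (Category.comp_id _) ≫ G'.c) ∧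
        IsFinite (ιP ≫ G'.s) ∧ IsFinite (ιP ≫ G'.t) ∧
        ∀ g' : ↥G'.stabilizer, G'.stabilizerToU g' = u' →
          ∃ p : ↥P, ιP p = (pullback.fst G'.j G'.diag : G'.stabilizer ⟶ G'.R) g' := by
  have hFfin : (Fstab G u).Finite := by
    have := hfin.image (pullback.fst G.j G.diag : G.stabilizer ⟶ G.R)
    apply this.subset
    intro r hr
    obtain ⟨g, hg1, hg2⟩ := (mem_Fstab_iff G u r).mp hr
    exact ⟨g, hg1, hg2⟩
  obtain ⟨G', φ, u', h1, h2, h3, h4, h5, P, ιP, h6, h7, h8, h9, h10, h11, h12⟩ :=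
    concl_of_finite hWR hPT hSH G u (Fstab G u) (fclosed_stab G u) hFfin
      (by
        intro r hr
        obtain ⟨g, hg1, rfl⟩ := (mem_Fstab_iff G u r).mp hr
        exact hqf g hg1)
  refine ⟨G', φ, u', h1, h2, h3, h4, h5, P, ιP, h6, h7, h8, h9, h10, h11, ?_⟩
  intro g' hg'
  have hmem : (pullback.fst G'.j G'.diag : G'.stabilizer ⟶ G'.R) g' ∈ Fstab G' u' :=
    (mem_Fstab_iff G' u' _).mpr ⟨g', hg', rfl⟩
  have hcl := fclosed_stab G' u'
  apply h12 _ (hcl.s_eq _ hmem) (hcl.t_eq _ hmem)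
  change G.j (φ.fR _) = G.diag u
  have hmem' : G'.j ((pullback.fst G'.j G'.diag : G'.stabilizer ⟶ G'.R) g') = G'.diag u' := hmem
  have hd : G'.diag ≫ pullback.map G'.pU G'.pU G.pU G.pU φ.fU φ.fU (𝟙 S)
      ((Category.comp_id _).trans φ.fU_over.symm) ((Category.comp_id _).trans φ.fU_over.symm) =
      φ.fU ≫ G.diag := by
    apply pullback.hom_ext
    · rw [Category.assoc, pullback.lift_fst, ← Category.assoc, diag_fst, Category.assoc, diag_fst,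
        Category.id_comp, Category.comp_id]
    · rw [Category.assoc, pullback.lift_snd, ← Category.assoc, diag_snd, Category.assoc, diag_snd,
        Category.id_comp, Category.comp_id]
  rw [← Scheme.Hom.comp_apply, h5.w, Scheme.Hom.comp_apply, hmem', ← Scheme.Hom.comp_apply, hd,
    Scheme.Hom.comp_apply, h3]

end Groth.Agent.R2.H84.GrpdSplitAsm
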