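import Mathlib
import Groth.Prelude.Def_AlgSpDec
import Groth.Agent.R2.H25ElemEx
import Groth.Agent.R2.H25OnePoint
import Groth.Agent.R2.H25DecentIff
import Groth.Agent.R2.H53GrpdRestr
import Groth.Agent.R2.H46GenPt
import Groth.Agent.S12203
import Groth.Agent.S10212

/-!
# Existence of elementary étale neighbourhoods on decent spaces (helper25)
-/

set_option autoImplicit false
set_option linter.style.haveILetI false
universe u
open CategoryTheory CategoryTheory.Limits AlgebraicGeometry Topology TopologicalSpace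

namespace Groth.Agent.R2.H25.ElemEx

open Groth.Agent.R2.H93.ElemNbhd

variable {S : Scheme.{u}}

/-- the projections of the kernel pair of a chart from an affine scheme are separated. -/
lemma isSeparated_left {X : AlgSp.Sp S} {U R : Over S} [IsAffine U.left]
    (a : (AlgSp.yon S).obj U ⟶ X) (s t : R ⟶ U)
    (hR : IsPullback ((AlgSp.yon S).map t) ((AlgSp.yon S).map s) a a) : IsSeparated t.left := by
  haveI : Mono (prod.lift t s) := by
    constructor
    intro Z x x' hxx
    apply Groth.Agent.R2.H25.KerGrpd.over_ext a s t hR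
    · have := congrArg (fun m => m ≫ prod.fst) hxx
      simpa only [Category.assoc, prod.lift_fst] using this
    · have := congrArg (fun m => m ≫ prod.snd) hxx
      simpa only [Category.assoc, prod.lift_snd] using this
  have h1 : IsSeparated (prod.fst : U ⨯ U ⟶ U).left := by
    rw [← Over.prodLeftIsoPullback_hom_fst]
    infer_instance
  have h2 : (prod.lift t s).left ≫ (prod.fst : U ⨯ U ⟶ U).left = t.left := by
    rw [← Over.comp_left, prod.lift_fst]
  rw [← h2]
  infer_instance

/-- restriction of an elementary étale neighbourhood along a map inducing an isomorphism of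
residue fields. -/
lemma mono_ofPt_of_isIso_residue {X : AlgSp.Sp S} {M M' : Over S} (j : M' ⟶ M)
    (ā : (AlgSp.yon S).obj M ⟶ X) (v : ↥M'.left) [IsIso (j.left.residueFieldMap v)]
    (h : Mono (AlgSp.FieldPt.ofPt ā (j.left v)).toHom) :
    Mono (AlgSp.FieldPt.ofPt ((AlgSp.yon S).map j ≫ ā) v).toHom := by
  rw [mono_toHom_ofPt_iff] at h ⊢
  obtain ⟨m, hm, hml⟩ := exists_resHom j v
  haveI : IsIso m.left := by rw [hml]; infer_instance
  haveI : IsIso ((Over.forget S).map m) := (inferInstance : IsIso m.left)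
  haveI : IsIso m := isIso_of_reflects_iso m (Over.forget S)
  have e : (AlgSp.yon S).map (ptHom M' v) ≫ (AlgSp.yon S).map j ≫ ā =
      (AlgSp.yon S).map m ≫ (AlgSp.yon S).map (ptHom M (j.left v)) ≫ ā := by
    rw [← Category.assoc, ← Functor.map_comp, ← hm, Functor.map_comp, Category.assoc]
  rw [e]
  haveI := h
  exact mono_comp _ _

open Groth.Agent.R2.H53.GrpdRestr in
/-- the quotient of the objects of a groupoid scheme by an open finite étale subgroupoid. -/
theorem exists_quotient (G' : Grpd.GroupoidScheme S) [IsAffine G'.U] [Etale G'.s] [Etale G'.t]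
    [Mono G'.j] {P : Scheme.{u}} (ιP : P ⟶ G'.R) [IsOpenImmersion ιP]
    (eP : G'.U ⟶ P) (heP : eP ≫ ιP = G'.e) (iP : P ⟶ P) (hiP : iP ≫ ιP = ιP ≫ G'.i)
    (cP : pullback (ιP ≫ G'.s) (ιP ≫ G'.t) ⟶ P)
    (hcP : cP ≫ ιP = pullback.map (ιP ≫ G'.s) (ιP ≫ G'.t) G'.s G'.t ιP ιP (𝟙 G'.U)
      (Category.comp_id _) (Category.comp_id _) ≫ G'.c)
    [IsFinite (ιP ≫ G'.s)] [IsFinite (ιP ≫ G'.t)] :
    ∃ (M : Scheme.{u}) (q : G'.U ⟶ M) (m : M ⟶ S), q ≫ m = G'.pU ∧ IsAffine M ∧ Etale q ∧
      Surjective q ∧ IsPullback (ιP ≫ G'.t) (ιP ≫ G'.s) q q := by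
  let D : RestrData₂ G' (𝟙 G'.U) ιP :=
    { s' := ιP ≫ G'.s
      t' := ιP ≫ G'.t
      hs := Category.comp_id _
      ht := Category.comp_id _
      e' := eP
      he := by rw [heP, Category.id_comp]
      i' := iP
      hi := hiP
      c' := cP
      hc := hcP }
  let GP : Grpd.GroupoidScheme S := restrict₂ D
  haveI : IsAffine GP.U := (inferInstance : IsAffine G'.U)
  haveI : IsFinite GP.s := (inferInstance : IsFinite (ιP ≫ G'.s))
  haveI : IsFinite GP.t := (inferInstance : IsFinite (ιP ≫ G'.t))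
  haveI : Etale GP.s := (inferInstance : Etale (ιP ≫ G'.s))
  haveI : Etale GP.t := (inferInstance : Etale (ιP ≫ G'.t))
  haveI : IsAffine GP.R := isAffine_of_isAffineHom GP.s
  haveI : Flat GP.s := inferInstance
  haveI : Flat GP.t := inferInstance
  haveI : LocallyOfFinitePresentation GP.s := inferInstance
  haveI : LocallyOfFinitePresentation GP.t := inferInstance
  haveI : Mono GP.j := by
    constructor
    intro Z x x' hxx
    have e1 := congrArg (fun k => k ≫ pullback.fst _ _) hxx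
    have e2 := congrArg (fun k => k ≫ pullback.snd _ _) hxx
    simp only [Category.assoc, Grpd.GroupoidScheme.j, pullback.lift_fst, pullback.lift_snd] at e1 e2
    have e1' : (x ≫ ιP) ≫ G'.t = (x' ≫ ιP) ≫ G'.t := by
      rw [Category.assoc, Category.assoc]; exact e1
    have e2' : (x ≫ ιP) ≫ G'.s = (x' ≫ ιP) ≫ G'.s := by
      rw [Category.assoc, Category.assoc]; exact e2
    have e3 : (x ≫ ιP) ≫ G'.j = (x' ≫ ιP) ≫ G'.j := by
      apply pullback.hom_ext
      · simpa only [Category.assoc, Grpd.GroupoidScheme.j, pullback.lift_fst] using e1'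
      · simpa only [Category.assoc, Grpd.GroupoidScheme.j, pullback.lift_snd] using e2'
    exact (cancel_mono ιP).1 ((cancel_mono G'.j).1 e3)
  obtain ⟨⟨hfin, hflat, hlfp⟩, φ, hφ1, hφ2⟩ := Groth.Agent.S1877.result S GP
  obtain ⟨m, ⟨hm, -⟩, -⟩ := Groth.Agent.S7488.result S GP
  have hsurj : Surjective GP.toQuot := ⟨Groth.Agent.R2.H33.GrpdOrbit.toQuot_surjective GP⟩
  have hw : GP.t ≫ GP.toQuot = GP.s ≫ GP.toQuot := Groth.Agent.R2.H33.GrpdOrbit.t_toQuot GP
  have hsch : IsPullback GP.t GP.s GP.toQuot GP.toQuot :=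
    IsPullback.of_iso_pullback ⟨hw⟩ φ hφ1 hφ2
  haveI : IsFinite GP.toQuot := hfin
  have hqc : QuasiCompact GP.toQuot := inferInstance
  have het : Etale GP.toQuot :=
    MorphismProperty.of_isPullback_of_descendsAlong (P := @Etale)
      (Q := @Surjective ⊓ @Flat ⊓ @QuasiCompact) hsch ⟨⟨hsurj, hflat⟩, hqc⟩
      (inferInstance : Etale GP.t)
  refine ⟨Spec (CommRingCat.of GP.invariants), GP.toQuot, m, ?_, inferInstance, het, hsurj, hsch⟩
  exact hm.trans (Category.id_comp _)

set_option maxHeartbeats 1600000 in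
/-- **Existence of elementary étale neighbourhoods** (Stacks 0BBP): every point of a decent space
has an elementary étale neighbourhood from an affine scheme with exactly one point over it. -/
theorem exists_elem (X : AlgSp.Space S) (hX : AlgSp.IsDecent X.obj) (x : AlgSp.Points X.obj) :
    ∃ (U : Over S) (a : (AlgSp.yon S).obj U ⟶ X.obj) (u : ↥U.left), IsAffine U.left ∧
      AlgSp.IsElemEtaleNbhd a u x ∧ AlgSp.Points.ofPt a ⁻¹' {x} = {u} := by
  classical
  -- an affine chart at `x`
  obtain ⟨U₀, a₀, hae₀, has₀⟩ := X.property.atlas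
  obtain ⟨u₀, hu₀⟩ := Groth.Agent.S10177.surjective_ofPt a₀ has₀ x
  obtain ⟨O, hO, hu₀O, -⟩ : ∃ O : U₀.left.Opens, O ∈ U₀.left.affineOpens ∧ u₀ ∈ O ∧ O ≤ ⊤ :=
    TopologicalSpace.Opens.isBasis_iff_nbhd.1 U₀.left.isBasis_affineOpens
      (TopologicalSpace.Opens.mem_top u₀)
  let V : Over S := Over.mk (O.ι ≫ U₀.hom)
  let jV : V ⟶ U₀ := Over.homMk O.ι rfl
  haveI hVaff : IsAffine V.left := hO
  let a : (AlgSp.yon S).obj V ⟶ X.obj := (AlgSp.yon S).map jV ≫ a₀
  have ha : AlgSp.RepWith @Etale a :=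
    (AlgSp.repWith_isMultiplicative (S := S) @Etale).comp_mem _ _
      ((AlgSp.repWith_yon_map_iff _ _).2 (inferInstance : Etale O.ι)) hae₀
  let v : ↥V.left := ⟨u₀, hu₀O⟩
  have hv : AlgSp.Points.ofPt a v = x := by
    show AlgSp.Points.ofPt ((AlgSp.yon S).map jV ≫ a₀) v = x
    rw [Groth.Agent.S10176.ofPt_map_comp]
    exact hu₀
  clear_value a
  -- the kernel pair
  obtain ⟨R, s, t', hR'⟩ := ha.1 a
  obtain ⟨t, rfl⟩ := (AlgSp.yon S).map_surjective t'
  haveI : Etale t.left := ha.2 _ _ t hR'.flip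
  haveI : Etale s.left := ha.2 _ _ s hR'
  haveI : IsSeparated t.left := isSeparated_left a s t hR'
  haveI : IsSeparated s.left := isSeparated_left a t s hR'.flip
  let G := Groth.Agent.R2.H25.KerGrpd.grpd a s t hR'
  haveI : IsAffine G.U := hVaff
  haveI : Etale G.s := (inferInstance : Etale s.left)
  haveI : Etale G.t := (inferInstance : Etale t.left)
  haveI : IsSeparated G.s := (inferInstance : IsSeparated s.left)
  haveI : IsSeparated G.t := (inferInstance : IsSeparated t.left)
  haveI : Flat G.s := inferInstance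
  haveI : Flat G.t := inferInstance
  haveI : LocallyOfFinitePresentation G.s := inferInstance
  haveI : LocallyOfFinitePresentation G.t := inferInstance
  haveI : Mono G.j := Groth.Agent.R2.H25.KerGrpd.mono_j a s t hR'
  -- finiteness of the fibre of `R` over `(v, v)`
  obtain ⟨p, hp, -, hq⟩ := hX x
  have hfin : Set.Finite {r : ↥G.R | G.s r = v ∧ G.t r = v} := by
    have h1 := (Groth.Agent.R2.H25.DecentIff.finite_fibres_of_quasiCompact X p hq a hVaff ha s t hR').2
    refine h1.subset ?_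
    rintro r ⟨-, hr⟩
    show AlgSp.Points.ofPt ((AlgSp.yon S).map t ≫ a) r = AlgSp.Points.mk p
    rw [Groth.Agent.S10176.ofPt_map_comp, hp, ← hv]
    exact congrArg _ hr
  have hqf : ∀ r : ↥G.R, G.s r = v → G.t r = v → Dual3.QuasiFiniteAt G.s r := by
    intro r _ _
    haveI : LocallyQuasiFinite G.s := Groth.Agent.S10265.locallyQuasiFinite_of_unramified _
    exact Scheme.Hom.quasiFiniteAt_iff_isOpen_singleton_asFiber.mp (G.s.quasiFiniteAt r)
  -- strongly split localisation
  obtain ⟨G', φ, u', hG'aff, hφet, hφu, hφres, sq, P, ιP, hιP, ⟨eP, heP⟩, ⟨iP, hiP⟩, ⟨cP, hcP⟩,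
    hsfin, htfin, hPfib⟩ := Groth.Agent.S12203.result S G v hfin hqf
  haveI := hG'aff
  haveI := hφet
  haveI := hιP
  haveI := hsfin
  haveI := htfin
  have hmap : Etale (pullback.map G'.pU G'.pU G.pU G.pU φ.fU φ.fU (𝟙 S)
      ((Category.comp_id _).trans φ.fU_over.symm) ((Category.comp_id _).trans φ.fU_over.symm)) :=
    MorphismProperty.pullbackMap (P := @Etale) hφet hφet φ.fU_over.symm φ.fU_over.symm
  haveI hfR : Etale φ.fR := MorphismProperty.of_isPullback (P := @Etale) sq.flip hmap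
  haveI : Etale G'.s := by
    have h1 : Etale (G'.s ≫ φ.fU) := by rw [← φ.comm_s]; infer_instance
    exact MorphismProperty.of_postcomp (W := @Etale) (W' := @Etale) G'.s φ.fU hφet h1
  haveI : Etale G'.t := by
    have h1 : Etale (G'.t ≫ φ.fU) := by rw [← φ.comm_t]; infer_instance
    exact MorphismProperty.of_postcomp (W := @Etale) (W' := @Etale) G'.t φ.fU hφet h1
  haveI : Mono G'.j :=
    MorphismProperty.of_isPullback (P := MorphismProperty.monomorphisms Scheme.{u}) sq
      (inferInstance : Mono G.j)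
  obtain ⟨M₀, q₀, m₀, hqm, hMaff, hqet, hqsurj, hkp⟩ :=
    exists_quotient G' ιP eP heP iP hiP cP hcP
  haveI := hMaff
  haveI := hqet
  haveI := hqsurj
  -- the objects over `S`
  let U' : Over S := Over.mk G'.pU
  let M : Over S := Over.mk m₀
  let q : U' ⟶ M := Over.homMk q₀ hqm
  let R'ov : Over S := Over.mk G'.pR
  let s' : R'ov ⟶ U' := Over.homMk G'.s G'.s_over
  let t' : R'ov ⟶ U' := Over.homMk G'.t G'.t_over
  let Pov : Over S := Over.mk (ιP ≫ G'.pR)
  let ιPov : Pov ⟶ R'ov := Over.homMk ιP rfl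
  let fU : U' ⟶ V := Over.homMk φ.fU φ.fU_over
  have hfRw : φ.fR ≫ R.hom = G'.pR := by
    have h1 : R.hom = G.s ≫ G.pU := G.s_over.symm
    rw [h1, ← Category.assoc, φ.comm_s, Category.assoc, φ.fU_over, G'.s_over]
  let fR : R'ov ⟶ R := Over.homMk φ.fR hfRw
  let a' : (AlgSp.yon S).obj U' ⟶ X.obj := (AlgSp.yon S).map fU ≫ a
  have ha' : AlgSp.RepWith @Etale a' :=
    (AlgSp.repWith_isMultiplicative (S := S) @Etale).comp_mem _ _
      ((AlgSp.repWith_yon_map_iff _ _).2 (hφet : Etale fU.left)) ha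
  have htf : t' ≫ fU = fR ≫ t := Over.OverMorphism.ext φ.comm_t.symm
  have hsf : s' ≫ fU = fR ≫ s := Over.OverMorphism.ext φ.comm_s.symm
  have hts : (AlgSp.yon S).map t' ≫ a' = (AlgSp.yon S).map s' ≫ a' := by
    show (AlgSp.yon S).map t' ≫ (AlgSp.yon S).map fU ≫ a =
      (AlgSp.yon S).map s' ≫ (AlgSp.yon S).map fU ≫ a
    rw [← Category.assoc, ← Functor.map_comp, htf, ← Category.assoc, ← Functor.map_comp, hsf,
      Functor.map_comp, Functor.map_comp, Category.assoc, Category.assoc, hR'.w]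
  -- the kernel pair of `q`
  have hover : IsPullback (ιPov ≫ t') (ιPov ≫ s') q q :=
    IsPullback.of_map (Over.forget S) (Over.OverMorphism.ext hkp.w) hkp
  have hK : IsPullback ((AlgSp.yon S).map (ιPov ≫ t')) ((AlgSp.yon S).map (ιPov ≫ s'))
      ((AlgSp.yon S).map q) ((AlgSp.yon S).map q) := hover.map (AlgSp.yon S)
  haveI : Flat q.left := (inferInstance : Flat q₀)
  haveI : Surjective q.left := hqsurj
  haveI : LocallyOfFinitePresentation q.left := (inferInstance : LocallyOfFinitePresentation q₀)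
  haveI : Etale q.left := hqet
  haveI : Epi ((AlgSp.yon S).map q) := Groth.Agent.R2.H25.OnePoint.epi_yon_map q
  have hPw : (AlgSp.yon S).map (ιPov ≫ t') ≫ a' = (AlgSp.yon S).map (ιPov ≫ s') ≫ a' := by
    rw [Functor.map_comp, Functor.map_comp, Category.assoc, Category.assoc, hts]
  obtain ⟨ā, hā, -⟩ := Groth.Agent.Lib.Helper9.existsUnique_desc_of_kernelPair
    ((AlgSp.yon S).map q) inferInstance _ _ hK a' hPw
  have hāet : AlgSp.RepWith @Etale ā := Groth.Agent.S10212.result X q ā (hā ▸ ha')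
  -- the point
  have hx₁ : AlgSp.Points.ofPt ā (q.left u') = x := by
    rw [← Groth.Agent.S10176.ofPt_map_comp, ← hā]
    show AlgSp.Points.ofPt ((AlgSp.yon S).map fU ≫ a) u' = x
    rw [Groth.Agent.S10176.ofPt_map_comp, ← hv]
    exact congrArg _ hφu
  -- the monomorphism property at `q u'`
  have hlift : ∀ (T : Over S) (α β : T ⟶ U'),
      (AlgSp.yon S).map α ≫ (AlgSp.yon S).map q ≫ ā =
        (AlgSp.yon S).map β ≫ (AlgSp.yon S).map q ≫ ā →
        ∃ r : T ⟶ R'ov, r ≫ t' = α ∧ r ≫ s' = β := by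
    intro T α β hαβ
    rw [← hā] at hαβ
    have h1 : (AlgSp.yon S).map (α ≫ fU) ≫ a = (AlgSp.yon S).map (β ≫ fU) ≫ a := by
      rw [Functor.map_comp, Functor.map_comp, Category.assoc, Category.assoc]
      exact hαβ
    obtain ⟨r₀, hr₀t, hr₀s⟩ := Groth.Agent.R2.H25.KerGrpd.exists_lift a s t hR' _ _ h1
    have hr₀t' : r₀.left ≫ G.t = α.left ≫ φ.fU := congrArg (fun k => k.left) hr₀t
    have hr₀s' : r₀.left ≫ G.s = β.left ≫ φ.fU := congrArg (fun k => k.left) hr₀s
    have hαβS : α.left ≫ G'.pU = β.left ≫ G'.pU := (Over.w α).trans (Over.w β).symm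
    have hcompat : r₀.left ≫ G.j = pullback.lift α.left β.left hαβS ≫
        pullback.map G'.pU G'.pU G.pU G.pU φ.fU φ.fU (𝟙 S)
          ((Category.comp_id _).trans φ.fU_over.symm)
          ((Category.comp_id _).trans φ.fU_over.symm) := by
      have hjt : G.j ≫ pullback.fst G.pU G.pU = G.t := pullback.lift_fst _ _ _
      have hjs : G.j ≫ pullback.snd G.pU G.pU = G.s := pullback.lift_snd _ _ _
      apply pullback.hom_ext
      · have e1 : (r₀.left ≫ G.j) ≫ pullback.fst G.pU G.pU = α.left ≫ φ.fU := by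
          rw [Category.assoc]
          exact (congrArg (fun k => r₀.left ≫ k) hjt).trans hr₀t'
        refine e1.trans ?_
        simp only [Category.assoc, pullback.map, pullback.lift_fst, pullback.lift_fst_assoc]
      · have e1 : (r₀.left ≫ G.j) ≫ pullback.snd G.pU G.pU = β.left ≫ φ.fU := by
          rw [Category.assoc]
          exact (congrArg (fun k => r₀.left ≫ k) hjs).trans hr₀s'
        refine e1.trans ?_
        simp only [Category.assoc, pullback.map, pullback.lift_snd, pullback.lift_snd_assoc]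
    let l := sq.lift r₀.left (pullback.lift α.left β.left hαβS) hcompat
    have hl2 : l ≫ G'.j = pullback.lift α.left β.left hαβS := sq.lift_snd _ _ _
    have hlt : l ≫ G'.t = α.left := by
      have := congrArg (fun k => k ≫ pullback.fst _ _) hl2
      simpa only [Category.assoc, Grpd.GroupoidScheme.j, pullback.lift_fst] using this
    have hls : l ≫ G'.s = β.left := by
      have := congrArg (fun k => k ≫ pullback.snd _ _) hl2
      simpa only [Category.assoc, Grpd.GroupoidScheme.j, pullback.lift_snd] using this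
    refine ⟨Over.homMk l ?_, Over.OverMorphism.ext hlt, Over.OverMorphism.ext hls⟩
    show l ≫ G'.pR = T.hom
    rw [← G'.t_over, ← Category.assoc, hlt]
    exact Over.w α
  have hfib : ∀ r' : ↥R'ov.left, s'.left r' = u' → t'.left r' = u' →
      r' ∈ Set.range ιPov.left := fun r' h1 h2 => hPfib r' h1 h2
  haveI : IsOpenImmersion ιPov.left := hιP
  have hmono : Mono (AlgSp.FieldPt.ofPt ā (q.left u')).toHom :=
    mono_ofPt_of_cover q ā s' t' ιPov hlift hover.w u' hfib
  -- shrinking `M`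
  have hΦ : (AlgSp.Points.ofPt ā ⁻¹' {x}).Finite :=
    Groth.Agent.S10338.finite_fibre_of_isDecent hX x M ā hMaff hāet
  let C : Set ↥M.left := ⋃ m ∈ (AlgSp.Points.ofPt ā ⁻¹' {x}) \ {q.left u'}, closure {m}
  have hC : IsClosed C := hΦ.sdiff.isClosed_biUnion fun _ _ => isClosed_closure
  have hm₁C : q.left u' ∉ C := by
    intro hmem
    obtain ⟨m, ⟨hm, hmne⟩, hmcl⟩ := Set.mem_iUnion₂.1 hmem
    have hs : m ⤳ q.left u' := specializes_iff_mem_closure.2 hmcl
    have := Groth.Agent.R2.H46.GenPt.eq_of_specializes_of_ofPt_eq X hX ā hāet (q.left u') m hs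
      ((hm : AlgSp.Points.ofPt ā m = x).trans hx₁.symm)
    exact hmne this.symm
  obtain ⟨O', hO', hm₁O', hO'C⟩ : ∃ O' : M.left.Opens, O' ∈ M.left.affineOpens ∧
      q.left u' ∈ O' ∧ O' ≤ ⟨Cᶜ, hC.isOpen_compl⟩ :=
    TopologicalSpace.Opens.isBasis_iff_nbhd.1 M.left.isBasis_affineOpens
      (show q.left u' ∈ (⟨Cᶜ, hC.isOpen_compl⟩ : M.left.Opens) from hm₁C)
  let M' : Over S := Over.mk (O'.ι ≫ M.hom)
  let jM : M' ⟶ M := Over.homMk O'.ι rfl
  let uM : ↥M'.left := ⟨q.left u', hm₁O'⟩
  have hju : jM.left uM = q.left u' := rfl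
  haveI : IsIso (jM.left.residueFieldMap uM) :=
    (inferInstance : IsIso (O'.ι.residueFieldMap uM))
  refine ⟨M', (AlgSp.yon S).map jM ≫ ā, uM, hO', ⟨?_, ?_, ?_⟩, ?_⟩
  · exact (AlgSp.repWith_isMultiplicative (S := S) @Etale).comp_mem _ _
      ((AlgSp.repWith_yon_map_iff _ _).2 (inferInstance : Etale O'.ι)) hāet
  · rw [Groth.Agent.S10176.ofPt_map_comp, hju]
    exact hx₁
  · exact mono_ofPt_of_isIso_residue jM ā uM (hju ▸ hmono)
  · ext w
    simp only [Set.mem_preimage, Set.mem_singleton_iff]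
    constructor
    · intro hw
      rw [Groth.Agent.S10176.ofPt_map_comp] at hw
      by_contra hne
      have hne' : jM.left w ≠ q.left u' := fun h => hne (Subtype.ext h)
      have h1 : jM.left w ∈ C :=
        Set.mem_biUnion (x := jM.left w) ⟨hw, hne'⟩ (subset_closure rfl)
      exact hO'C w.2 h1
    · rintro rfl
      rw [Groth.Agent.S10176.ofPt_map_comp, hju]
      exact hx₁

end Groth.Agent.R2.H25.ElemEx
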