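import Mathlib
import Groth.Agent.R2.H93ElemNbhd2

/-!
# Equalizing two morphisms of elementary etale neighbourhoods (helper25)
-/

set_option autoImplicit false
universe u
open CategoryTheory CategoryTheory.Limits AlgebraicGeometry Topology TopologicalSpace

namespace Groth.Agent.R2.H25.ElemNbhd

open Opposite MorphismProperty Groth.Agent.R2.H93.ElemNbhd

variable {S : Scheme.{u}}

/-- the morphism of residue field spectra over `S` induced by `g`, with a prescribed target point. -/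
theorem exists_resHom' {U U' : Over S} (g : U' ⟶ U) (u' : ↥U'.left) (u : ↥U.left)
    (h : g.left u' = u) :
    ∃ m : ptOver U' u' ⟶ ptOver U u, m ≫ ptHom U u = ptHom U' u' ≫ g := by
  subst h
  obtain ⟨m, hm, -⟩ := exists_resHom g u'
  exact ⟨m, hm⟩

/-- a section of an etale morphism is an open immersion. -/
theorem isOpenImmersion_of_section {X Y : Scheme.{u}} (s : Y ⟶ X) (f : X ⟶ Y) [Etale f]
    (h : s ≫ f = 𝟙 Y) : IsOpenImmersion s := by
  haveI : Etale (s ≫ f) := by rw [h]; infer_instance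
  haveI : Etale s := Etale.of_comp s f
  haveI : Mono s := mono_of_mono_fac h
  exact IsOpenImmersion.of_flat_of_mono s

/-- two morphisms of elementary etale neighbourhoods are equalized by an elementary etale
neighbourhood. -/
theorem exists_equalizing {F : AlgSp.Sp S} (x : AlgSp.Points F) {U₁ U₂ : Over S}
    (a₁ : (AlgSp.yon S).obj U₁ ⟶ F) (a₂ : (AlgSp.yon S).obj U₂ ⟶ F) (u₁ : ↥U₁.left)
    (u₂ : ↥U₂.left) (b c : U₁ ⟶ U₂) (h₁ : AlgSp.IsElemEtaleNbhd a₁ u₁ x)
    (h₂ : AlgSp.IsElemEtaleNbhd a₂ u₂ x)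
    (hb : (AlgSp.yon S).map b ≫ a₂ = a₁) (hc : (AlgSp.yon S).map c ≫ a₂ = a₁)
    (hbu : b.left u₁ = u₂) (hcu : c.left u₁ = u₂) :
    ∃ (U : Over S) (a : (AlgSp.yon S).obj U ⟶ F) (v : ↥U.left) (h : U ⟶ U₁),
      AlgSp.IsElemEtaleNbhd a v x ∧ (AlgSp.yon S).map h ≫ a₁ = a ∧ h.left v = u₁ ∧
        h ≫ b = h ≫ c := by
  -- the fibre product `R = U₂ ×_F U₂`
  obtain ⟨R, q, pr', sqR⟩ := h₂.etale.1 a₂
  obtain ⟨p, rfl⟩ := (AlgSp.yon S).map_surjective pr'
  haveI : Etale q.left := h₂.etale.2 _ _ q sqR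
  -- the diagonal
  obtain ⟨Δ, hΔ⟩ := (AlgSp.yon S).map_surjective (sqR.lift (𝟙 _) (𝟙 _) rfl)
  have hΔp : Δ ≫ p = 𝟙 _ := by
    apply (AlgSp.yon S).map_injective
    rw [Functor.map_comp, hΔ, sqR.lift_fst]
    exact ((AlgSp.yon S).map_id U₂).symm
  have hΔq : Δ ≫ q = 𝟙 _ := by
    apply (AlgSp.yon S).map_injective
    rw [Functor.map_comp, hΔ, sqR.lift_snd]
    exact ((AlgSp.yon S).map_id U₂).symm
  haveI : IsOpenImmersion Δ.left :=
    isOpenImmersion_of_section Δ.left q.left (by rw [← Over.comp_left, hΔq]; rfl)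
  -- the pair `(b, c)`
  obtain ⟨bc, hbc⟩ := (AlgSp.yon S).map_surjective
    (sqR.lift ((AlgSp.yon S).map b) ((AlgSp.yon S).map c) (hb.trans hc.symm))
  have hbcp : bc ≫ p = b := by
    apply (AlgSp.yon S).map_injective
    rw [Functor.map_comp, hbc, sqR.lift_fst]
  have hbcq : bc ≫ q = c := by
    apply (AlgSp.yon S).map_injective
    rw [Functor.map_comp, hbc, sqR.lift_snd]
  -- the two composites through the point agree
  haveI hm₂ : Mono ((AlgSp.yon S).map (ptHom U₂ u₂) ≫ a₂) :=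
    (mono_toHom_ofPt_iff a₂ u₂).mp h₂.mono
  haveI hm₁ : Mono ((AlgSp.yon S).map (ptHom U₁ u₁) ≫ a₁) :=
    (mono_toHom_ofPt_iff a₁ u₁).mp h₁.mono
  have hpt : ptHom U₁ u₁ ≫ b = ptHom U₁ u₁ ≫ c := by
    obtain ⟨mb, hmb⟩ := exists_resHom' b u₁ u₂ hbu
    obtain ⟨mc, hmc⟩ := exists_resHom' c u₁ u₂ hcu
    have e : (AlgSp.yon S).map mb ≫ ((AlgSp.yon S).map (ptHom U₂ u₂) ≫ a₂) =
        (AlgSp.yon S).map mc ≫ ((AlgSp.yon S).map (ptHom U₂ u₂) ≫ a₂) := by
      rw [← Category.assoc, ← Category.assoc, ← Functor.map_comp, ← Functor.map_comp, hmb, hmc,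
        Functor.map_comp, Functor.map_comp, Category.assoc, Category.assoc, hb, hc]
    have e' : mb = mc := (AlgSp.yon S).map_injective ((cancel_mono _).mp e)
    rw [← hmb, ← hmc, e']
  have hptbc : ptHom U₁ u₁ ≫ bc = (ptHom U₁ u₁ ≫ b) ≫ Δ := by
    apply (AlgSp.yon S).map_injective
    apply sqR.hom_ext
    · rw [← Functor.map_comp, ← Functor.map_comp, Category.assoc, Category.assoc, hbcp, hΔp,
        Category.comp_id]
    · rw [← Functor.map_comp, ← Functor.map_comp, Category.assoc, Category.assoc, hbcq, hΔq,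
        Category.comp_id, hpt]
  -- the equalizer as an open subscheme
  let E : Over S := Over.mk (pullback.fst bc.left Δ.left ≫ U₁.hom)
  let h : E ⟶ U₁ := Over.homMk (pullback.fst bc.left Δ.left) rfl
  haveI : IsOpenImmersion h.left := by
    show IsOpenImmersion (pullback.fst bc.left Δ.left)
    infer_instance
  have hu₁ : u₁ ∈ Set.range h.left := by
    show u₁ ∈ Set.range (pullback.fst bc.left Δ.left)
    rw [Scheme.Pullback.range_fst]
    let s : ↥(Spec (U₁.left.residueField u₁)) := IsLocalRing.closedPoint _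
    have hs : (ptHom U₁ u₁).left s = u₁ := Scheme.fromSpecResidueField_apply _ _
    refine ⟨b.left u₁, ?_⟩
    have := congrArg (fun φ => φ.left s) hptbc
    simp only [Over.comp_left, Scheme.Hom.comp_apply] at this
    rw [hs] at this
    exact this.symm
  obtain ⟨v, hv⟩ := hu₁
  have hbceq : h ≫ b = h ≫ c := by
    apply Over.OverMorphism.ext
    have e1 : (h ≫ b).left = pullback.snd bc.left Δ.left := by
      rw [← hbcp]
      simp only [Over.comp_left]
      show pullback.fst bc.left Δ.left ≫ bc.left ≫ p.left = _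
      rw [← Category.assoc, pullback.condition, Category.assoc, ← Over.comp_left, hΔp]
      exact Category.comp_id _
    have e2 : (h ≫ c).left = pullback.snd bc.left Δ.left := by
      rw [← hbcq]
      simp only [Over.comp_left]
      show pullback.fst bc.left Δ.left ≫ bc.left ≫ q.left = _
      rw [← Category.assoc, pullback.condition, Category.assoc, ← Over.comp_left, hΔq]
      exact Category.comp_id _
    rw [e1, e2]
  refine ⟨E, (AlgSp.yon S).map h ≫ a₁, v, h, ⟨?_, ?_, ?_⟩, rfl, hv, hbceq⟩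
  · exact (AlgSp.repWith_isMultiplicative (S := S) @Etale).comp_mem _ _
      ((AlgSp.repWith_yon_map_iff _ _).2 (inferInstance : Etale h.left)) h₁.etale
  · rw [Groth.Agent.S10176.ofPt_map_comp, hv]
    exact h₁.ofPt_eq
  · rw [mono_toHom_ofPt_iff]
    obtain ⟨m, hm⟩ := exists_resHom' h v u₁ hv
    haveI : Mono h := by
      haveI : Mono h.left := inferInstance
      exact Over.mono_of_mono_left _
    haveI : Mono ((AlgSp.yon S).map (ptHom E v ≫ h)) := (AlgSp.yon S).map_mono _
    refine ⟨fun {Z} α β hαβ => ?_⟩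
    have e : (AlgSp.yon S).map (ptHom E v) ≫ (AlgSp.yon S).map h ≫ a₁ =
        (AlgSp.yon S).map m ≫ ((AlgSp.yon S).map (ptHom U₁ u₁) ≫ a₁) := by
      rw [← Category.assoc, ← Functor.map_comp, ← hm, Functor.map_comp, Category.assoc]
    rw [e] at hαβ
    have hαβ' : (α ≫ (AlgSp.yon S).map m) ≫ ((AlgSp.yon S).map (ptHom U₁ u₁) ≫ a₁) =
        (β ≫ (AlgSp.yon S).map m) ≫ ((AlgSp.yon S).map (ptHom U₁ u₁) ≫ a₁) := by
      rw [Category.assoc, Category.assoc]
      exact hαβ
    have h2 := (cancel_mono _).mp hαβ'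
    have h3 : α ≫ (AlgSp.yon S).map (ptHom E v ≫ h) = β ≫ (AlgSp.yon S).map (ptHom E v ≫ h) := by
      rw [← hm, Functor.map_comp, ← Category.assoc, ← Category.assoc, h2]
    exact (cancel_mono _).mp h3

end Groth.Agent.R2.H25.ElemNbhd
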