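import Mathlib
import Groth.Prelude
import Groth.Agent.S10176
import Groth.Agent.S10177
import Groth.Agent.S10265
import Groth.Agent.S9920
import Groth.Agent.R2.H25DenseOpen
import Groth.Agent.R2.H25CodimZero
import Groth.Agent.R2.H46Sober

/-!
# Fibres of `|V| → |X|` for an etale chart with quasi-compact kernel pair

For an etale chart `b : h_V ⟶ X` whose kernel pair `R ⇉ V` has quasi-compact projections:
* the fibres of `|V| → |X|` are finite (`finite_fibre`);
* there are no specializations inside a fibre (`eq_of_specializes_of_ofPt_eq`);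
* generizations lift along `|V| → |X|` (`exists_specializes_of_specializes`).
For a space quasi-separated over `S` every point has such a chart (`exists_good_chart`).
-/

set_option autoImplicit false
universe u
open CategoryTheory CategoryTheory.Limits AlgebraicGeometry Topology TopologicalSpace

namespace Groth.Agent.R2.H25.FibrePts

variable {S : Scheme.{u}}

section KernelPair

variable {X : AlgSp.Sp S} {V R : Over S} (b : (AlgSp.yon S).obj V ⟶ X)
  (s t : R ⟶ V) (hR : IsPullback ((AlgSp.yon S).map t) ((AlgSp.yon S).map s) b b)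

include hR in
lemma ofPt_eq_of_kernelPair (r : ↥R.left) :
    AlgSp.Points.ofPt b (t.left r) = AlgSp.Points.ofPt b (s.left r) := by
  rw [← Groth.Agent.S10176.ofPt_map_comp, ← Groth.Agent.S10176.ofPt_map_comp, hR.w]

include hR in
/-- the fibres of `|V| → |X|` are finite when the kernel pair is quasi-compact. -/
lemma finite_fibre (hb : AlgSp.RepWith @Etale b) [QuasiCompact t.left] (x : AlgSp.Points X) :
    {w : ↥V.left | AlgSp.Points.ofPt b w = x}.Finite := by
  by_cases hne : ∃ v : ↥V.left, AlgSp.Points.ofPt b v = x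
  · obtain ⟨v, hv⟩ := hne
    haveI : Etale t.left := hb.2 b _ t hR.flip
    haveI : LocallyQuasiFinite t.left := Groth.Agent.S10265.locallyQuasiFinite_of_unramified _
    refine ((t.left.finite_preimage_singleton v).image s.left).subset ?_
    intro w hw
    obtain ⟨y, hy1, hy2⟩ := Groth.Agent.S10176.exists_point_of_isPullback_yon hR v w
      (hv.trans hw.symm)
    exact ⟨y, hy1, hy2⟩
  · convert Set.finite_empty
    ext w
    simp only [Set.mem_ofPred_eq, Set.mem_empty_iff_false, iff_false]
    exact fun h => hne ⟨w, h⟩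

include hR in
/-- no specializations inside a fibre of `|V| → |X|` when the kernel pair is quasi-compact. -/
lemma eq_of_specializes_of_ofPt_eq (hb : AlgSp.RepWith @Etale b) [QuasiCompact t.left]
    (v v' : ↥V.left) (h : v' ⤳ v) (he : AlgSp.Points.ofPt b v' = AlgSp.Points.ofPt b v) :
    v' = v := by
  haveI : Etale t.left := hb.2 b _ t hR.flip
  haveI : Etale s.left := hb.2 b _ s hR
  haveI : LocallyQuasiFinite t.left := Groth.Agent.S10265.locallyQuasiFinite_of_unramified _
  -- a most generic point of the fibre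
  have hfin := finite_fibre b s t hR hb (AlgSp.Points.ofPt b v)
  obtain ⟨u₀, hu₀F, hu₀max⟩ : ∃ u₀ : ↥V.left, AlgSp.Points.ofPt b u₀ = AlgSp.Points.ofPt b v ∧
      ∀ w : ↥V.left, AlgSp.Points.ofPt b w = AlgSp.Points.ofPt b v → w ⤳ u₀ → w = u₀ := by
    obtain ⟨u₀, hu₀⟩ := hfin.exists_maximal ⟨v, rfl⟩
    refine ⟨u₀, hu₀.prop, fun w hw hwu => ?_⟩
    have h1 : u₀ ≤ w := (Scheme.le_iff_specializes).2 hwu
    have h2 : u₀ ⤳ w := (Scheme.le_iff_specializes).1 (hu₀.le_of_ge hw h1)
    exact (hwu.antisymm h2).eq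
  obtain ⟨r, hr1, hr2⟩ := Groth.Agent.S10176.exists_point_of_isPullback_yon hR u₀ v hu₀F
  -- `t r = u₀`, `s r = v`
  have hgen : GeneralizingMap s.left := Flat.generalizingMap s.left
  rw [← hr2] at h
  obtain ⟨r', hr', hr's⟩ := hgen h
  have h1 : t.left r' ⤳ u₀ := by rw [← hr1]; exact hr'.map t.left.continuous
  have h2 : AlgSp.Points.ofPt b (t.left r') = AlgSp.Points.ofPt b v := by
    rw [ofPt_eq_of_kernelPair b s t hR, hr's, he]
  have h3 : t.left r' = t.left r := by rw [hu₀max _ h2 h1, hr1]
  have h4 : r' = r := Groth.Agent.R2.H25.DenseOpen.eq_of_specializes_of_fibre t.left r r' hr' h3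
  rw [← hr's, h4, hr2]

include hR in
/-- generizations lift along `|V| → |X|` when the kernel pair is quasi-compact. -/
lemma exists_specializes_of_specializes (hb : AlgSp.RepWith @Etale b) [QuasiCompact t.left]
    (v : ↥V.left) (x' : AlgSp.Points X) (h : x' ⤳ AlgSp.Points.ofPt b v) :
    ∃ v' : ↥V.left, v' ⤳ v ∧ AlgSp.Points.ofPt b v' = x' := by
  have hfin := finite_fibre b s t hR hb x'
  have hopen := Groth.Agent.S10176.isOpenMap_ofPt b hb
  -- `v` lies in the closure of the fibre over `x'`
  have hcl : v ∈ closure {w : ↥V.left | AlgSp.Points.ofPt b w = x'} := by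
    rw [mem_closure_iff]
    intro O hO hvO
    have h1 : x' ∈ AlgSp.Points.ofPt b '' O :=
      h.mem_open (hopen O hO) ⟨v, hvO, rfl⟩
    obtain ⟨w, hwO, hw⟩ := h1
    exact ⟨w, hwO, hw⟩
  rw [← Set.biUnion_of_singleton {w : ↥V.left | AlgSp.Points.ofPt b w = x'},
    hfin.closure_biUnion] at hcl
  obtain ⟨w, hw, hvw⟩ := Set.mem_iUnion₂.1 hcl
  exact ⟨w, specializes_iff_mem_closure.2 hvw, hw⟩

end KernelPair

/-- every point of an algebraic space quasi-separated over `S` lies on an affine etale chart
whose kernel pair has quasi-compact projections. -/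
lemma exists_good_chart {X : AlgSp.Sp S} (hX : AlgSp.IsAlgSpace X)
    (hqs : AlgSp.IsQuasiSeparatedSp X) (x : AlgSp.Points X) :
    ∃ (V R : Over S) (c : (AlgSp.yon S).obj V ⟶ X) (v : ↥V.left) (s t : R ⟶ V),
      IsAffine V.left ∧ AlgSp.RepWith @Etale c ∧ AlgSp.Points.ofPt c v = x ∧
      IsPullback ((AlgSp.yon S).map t) ((AlgSp.yon S).map s) c c ∧
      QuasiCompact s.left ∧ QuasiCompact t.left := by
  obtain ⟨V, c, v, hV, hVc, hce, hcv⟩ := Groth.Agent.R2.H46.Sober.exists_affine_chart_over_affine hX x
  haveI := hV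
  haveI := hVc
  obtain ⟨R, s, t', sq⟩ := hce.1 c
  obtain ⟨t, rfl⟩ := (AlgSp.yon S).map_surjective t'
  have hqc : QuasiCompact (prod.lift t s).left := Groth.Agent.S9920.property_of_repWith_diag hqs sq
  haveI : CompactSpace ↥(V ⨯ V).left :=
    QuasiCompact.compactSpace_of_compactSpace (Over.prodLeftIsoPullback V V).hom
  haveI : CompactSpace ↥R.left := QuasiCompact.compactSpace_of_compactSpace (prod.lift t s).left
  exact ⟨V, R, c, v, s, t, hV, hce, hcv, sq, inferInstance, inferInstance⟩

/-- **codimension 0 points of a quasi-separated algebraic space are the generic points of the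
irreducible components of its space of points.** -/
theorem hasAt_dim_zero_iff_isGenericPoint {X : AlgSp.Sp S} (hX : AlgSp.IsAlgSpace X)
    (hqs : AlgSp.IsQuasiSeparatedSp X) [QuasiSober (AlgSp.Points X)] [T0Space (AlgSp.Points X)]
    (x : AlgSp.Points X) :
    AlgSp.HasAt (fun U u => ringKrullDim ↥(U.presheaf.stalk u) = 0) X x ↔
      ∃ Z ∈ irreducibleComponents (AlgSp.Points X), IsGenericPoint x Z := by
  obtain ⟨V, R, c, v, s, t, hV, hce, hcv, sq, hs, ht⟩ := exists_good_chart hX hqs x
  haveI := hV
  haveI := hs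
  haveI := ht
  constructor
  · rintro ⟨U, a, u, hae, hau, hdim⟩
    have hvmax : ∀ v' : ↥V.left, v' ⤳ v → v' = v :=
      Groth.Agent.R2.H25.DenseOpen.maximal_of_etale_chart c a hce hae v u (hcv.trans hau.symm)
        (Groth.Agent.R2.H25.DenseOpen.eq_of_specializes_of_dim_zero u hdim)
    refine ⟨closure {x}, ⟨isIrreducible_singleton.closure, fun T hT hle => ?_⟩, rfl⟩
    obtain ⟨η, hη⟩ := QuasiSober.sober hT.closure isClosed_closure
    have h1 : η ⤳ x := by
      rw [specializes_iff_mem_closure, hη.def]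
      exact subset_closure (hle (subset_closure rfl))
    rw [← hcv] at h1
    obtain ⟨v', hv', hv'η⟩ := exists_specializes_of_specializes c s t sq hce v η h1
    rw [hvmax v' hv', hcv] at hv'η
    show T ⊆ closure {x}
    rw [hv'η, hη.def]
    exact subset_closure
  · rintro ⟨Z, hZ, hxZ⟩
    have hvmax : ∀ v' : ↥V.left, v' ⤳ v → v' = v := by
      intro v' hv'
      have h1 : AlgSp.Points.ofPt c v' ⤳ x := by
        rw [← hcv]; exact hv'.map (AlgSp.Points.continuous_ofPt c)
      have h2 : closure {AlgSp.Points.ofPt c v'} ≤ Z :=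
        hZ.2 isIrreducible_singleton.closure (by
          rw [← hxZ.def]
          exact h1.closure_subset)
      have h3 : x ⤳ AlgSp.Points.ofPt c v' := by
        rw [specializes_iff_mem_closure, hxZ.def]
        exact h2 (subset_closure rfl)
      have h4 : AlgSp.Points.ofPt c v' = AlgSp.Points.ofPt c v := by
        rw [hcv]; exact (h1.antisymm h3).eq
      exact eq_of_specializes_of_ofPt_eq c s t sq hce v v' hv' h4
    exact ⟨V, c, v, hce, hcv, Groth.Agent.R2.H25.CodimZero.dim_zero_of_maximal v hvmax⟩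

end Groth.Agent.R2.H25.FibrePts
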