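import Mathlib
import Groth.Agent.Lib.Helper18FittSh5
import Groth.Agent.Lib.Helper20FormalPull

/-!
# Factoring morphisms through closed subschemes / open subschemes in terms of `IdealSheafData.comap`,
# and the locally closed Fitting stratum (helper25)

Namespace `Groth.Agent.R2.H25.IdealFactor`.

* `exists_lift_subschemeι_iff` : `g` factors through `K.subschemeι` iff `K.comap g = ⊥`.
* `comap_eq_top_iff` : `I.comap g = ⊤` iff the range of `g` misses the support of `I`.
* `exists_lift_opens_iff` : `g` factors through `U.ι` iff the range of `g` lies in `U`.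
* `isFinLocFreeOfRank_pullback_iff` : for `M` quasi-coherent of finite type, `g^* M` is locally free of
  rank `r` iff `Fit_k(M)` pulls back to `⊥` for `k < r` and `Fit_r(M)` pulls back to `⊤`.
* `fittingStratum` : the existence of the locally closed stratum.
-/

set_option autoImplicit false
set_option linter.style.haveILetI false
universe u
open CategoryTheory AlgebraicGeometry Limits Opposite TopologicalSpace

namespace Groth.Agent.R2.H25.IdealFactor

variable {T S : Scheme.{u}}

/-- `g` factors through the closed subscheme cut out by `K` iff the pullback of `K` along `g` vanishes. -/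
theorem exists_lift_subschemeι_iff (K : S.IdealSheafData) (g : T ⟶ S) :
    (∃ g' : T ⟶ K.subscheme, g' ≫ K.subschemeι = g) ↔ K.comap g = ⊥ := by
  have key : K.comap g = ⊥ ↔ K ≤ g.ker := by
    rw [← Scheme.IdealSheafData.map_bot, Scheme.IdealSheafData.le_map_iff_comap_le, le_bot_iff]
  rw [key]
  constructor
  · rintro ⟨g', rfl⟩
    calc K = K.subschemeι.ker := K.ker_subschemeι.symm
      _ ≤ (g' ≫ K.subschemeι).ker := Scheme.Hom.le_ker_comp g' K.subschemeι
  · intro h
    have h' : K.subschemeι.ker ≤ g.ker := by rw [K.ker_subschemeι]; exact h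
    exact ⟨IsClosedImmersion.lift K.subschemeι g h', IsClosedImmersion.lift_fac _ _ _⟩

/-- the pullback of `I` along `g` is the unit ideal iff `g` misses the support of `I`. -/
theorem comap_eq_top_iff (I : S.IdealSheafData) (g : T ⟶ S) :
    I.comap g = ⊤ ↔ Set.range g.base ⊆ ((I.support : Set S))ᶜ := by
  rw [← Scheme.IdealSheafData.support_eq_bot_iff, Scheme.IdealSheafData.support_comap]
  constructor
  · intro h x hx hxs
    obtain ⟨t, rfl⟩ := hx
    have : t ∈ ((I.support.preimage g.continuous : Closeds T) : Set T) := hxs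
    rw [h] at this
    exact this
  · intro h
    apply Closeds.ext
    ext t
    simp only [Closeds.coe_preimage, Set.mem_preimage, Closeds.coe_bot, Set.mem_empty_iff_false,
      iff_false]
    intro ht
    exact h ⟨t, rfl⟩ ht

/-- `g` factors through the open subscheme `U` iff its range lies in `U`. -/
theorem exists_lift_opens_iff (U : S.Opens) (g : T ⟶ S) :
    (∃ g₁ : T ⟶ (U : Scheme.{u}), g₁ ≫ U.ι = g) ↔ Set.range g.base ⊆ (U : Set S) := by
  constructor
  · rintro ⟨g₁, rfl⟩ x ⟨t, rfl⟩
    have : (g₁ ≫ U.ι).base t = U.ι.base (g₁.base t) := by simp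
    rw [this]
    exact (g₁.base t).2
  · intro h
    have h' : Set.range g.base ⊆ Set.range U.ι.base := by
      rw [Scheme.Opens.range_ι]; exact h
    exact ⟨IsOpenImmersion.lift U.ι g h', IsOpenImmersion.lift_fac _ _ _⟩

section Fitting

open Groth.Agent.Helper18FittSh

/-- for `M` quasi-coherent of finite type, the pullback `g^* M` is locally free of rank `r` iff the
Fitting ideals `Fit_k(M)`, `k < r`, pull back to zero and `Fit_r(M)` pulls back to the unit ideal. -/
theorem isFinLocFreeOfRank_pullback_iff (M : S.Modules) (hM : Coh.IsQCoh M) (hft : CohB1.IsFT M)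
    (r : ℕ) (g : T ⟶ S) :
    FlatMod.IsFinLocFreeOfRank r ((Scheme.Modules.pullback g).obj M) ↔
      (∀ k : ℕ, k < r → (Fitt.sheafIdeal M k).comap g = ⊥) ∧ (Fitt.sheafIdeal M r).comap g = ⊤ := by
  haveI : M.IsQuasicoherent := hM
  haveI : SheafOfModules.IsFiniteType (R := S.ringCatSheaf) M := hft
  have hqc : Coh.IsQCoh ((Scheme.Modules.pullback g).obj M) :=
    (inferInstance : ((Scheme.Modules.pullback g).obj M).IsQuasicoherent)
  have hft' : CohB1.IsFT ((Scheme.Modules.pullback g).obj M) :=
    Groth.Agent.Lib.Helper20.FormalPull.isFiniteType_pullback g M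
  haveI : ((Scheme.Modules.pullback g).obj M).IsQuasicoherent := hqc
  simp only [main_S8872 g M hM hft]
  constructor
  · intro h
    have h' := (main_S8875 T _ hqc hft' r).1 h
    exact ⟨h'.1, h'.2 r le_rfl⟩
  · rintro ⟨h1, h2⟩
    exact isFinLocFreeOfRank_of_fitt _ hft' r h1 h2

/-- the open complement of the support of an ideal sheaf -/
def complOpens (I : S.IdealSheafData) : S.Opens :=
  ⟨((I.support : Set S))ᶜ, I.support.isClosed.isOpen_compl⟩

/-- **The locally closed Fitting stratum**: for `M` quasi-coherent of finite type and `r : ℕ` there is an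
immersion `e : Z ⟶ S` such that `g^* M` is locally free of rank `r` iff `g` factors through `e`; if `M` is
locally generated by `r` sections then `e` is a closed immersion. -/
theorem fittingStratum (M : S.Modules) (hM : Coh.IsQCoh M) (hft : CohB1.IsFT M) (r : ℕ) :
    ∃ (Z : Scheme.{u}) (e : Z ⟶ S), IsImmersion e ∧
      (∀ (T : Scheme.{u}) (g : T ⟶ S),
        FlatMod.IsFinLocFreeOfRank r ((Scheme.Modules.pullback g).obj M) ↔ ∃ g' : T ⟶ Z, g' ≫ e = g) ∧
      ((∀ s : ↥S, ∃ U : S.Opens, s ∈ U ∧ ∃ p : FlatMod.freeMod (↑U) r ⟶ M.restrict U.ι, Epi p) →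
        IsClosedImmersion e) := by
  set J : S.IdealSheafData := ⨆ k : Fin r, Fitt.sheafIdeal M k with hJ
  set U : S.Opens := complOpens (Fitt.sheafIdeal M r) with hU
  set K : (U : Scheme.{u}).IdealSheafData := J.comap U.ι with hK
  refine ⟨K.subscheme, K.subschemeι ≫ U.ι, inferInstance, ?_, ?_⟩
  · intro T g
    rw [isFinLocFreeOfRank_pullback_iff M hM hft r g]
    have hJg : (∀ k : ℕ, k < r → (Fitt.sheafIdeal M k).comap g = ⊥) ↔ J.comap g = ⊥ := by
      rw [hJ, (Scheme.IdealSheafData.map_gc g).l_iSup, iSup_eq_bot]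
      constructor
      · intro h k
        exact h k k.2
      · intro h k hk
        exact h ⟨k, hk⟩
    rw [hJg, comap_eq_top_iff]
    constructor
    · rintro ⟨h1, h2⟩
      obtain ⟨g₁, hg₁⟩ := (exists_lift_opens_iff U g).2 h2
      have hKg : K.comap g₁ = ⊥ := by
        rw [hK, ← Scheme.IdealSheafData.comap_comp, hg₁, h1]
      obtain ⟨g', hg'⟩ := (exists_lift_subschemeι_iff K g₁).2 hKg
      exact ⟨g', by rw [← Category.assoc, hg', hg₁]⟩
    · rintro ⟨g', rfl⟩
      constructor
      · have h : (J.comap U.ι).comap (g' ≫ K.subschemeι) = ⊥ :=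
          (exists_lift_subschemeι_iff K (g' ≫ K.subschemeι)).1 ⟨g', rfl⟩
        rw [← Scheme.IdealSheafData.comap_comp, Category.assoc] at h
        exact h
      · have h := (exists_lift_opens_iff U ((g' ≫ K.subschemeι) ≫ U.ι)).1 ⟨g' ≫ K.subschemeι, rfl⟩
        rw [Category.assoc] at h
        exact h
  · intro hgen
    have hUtop : U = ⊤ := by
      apply TopologicalSpace.Opens.ext
      ext s
      simp only [hU, complOpens, TopologicalSpace.Opens.coe_mk, Set.mem_compl_iff, SetLike.mem_coe,
        TopologicalSpace.Opens.coe_top, Set.mem_univ, iff_true]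
      exact (main_S8874 S M hM hft s r).1 (hgen s)
    have hiso : IsIso U.ι := by
      rw [hUtop]
      exact S.topIso.isIso_hom
    infer_instance

end Fitting

end Groth.Agent.R2.H25.IdealFactor
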