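import Mathlib
import Groth.Prelude
import Groth.Agent.R2.H25CodimZero
import Groth.Agent.R2.H25DimZeroSch
import Groth.Agent.R2.H25KerGrpd
import Groth.Agent.Lib.Helper12OpenSub2
import Groth.Agent.Lib.Helper15MonoSep

/-!
# Algebraic spaces locally of finite type over a field, of dimension `0`

Such a space is a separated scheme with discrete underlying space, all of whose quasi-compact
opens are affine.
-/

set_option autoImplicit false
universe u
open CategoryTheory CategoryTheory.Limits AlgebraicGeometry Topology TopologicalSpace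

namespace Groth.Agent.R2.H25.LftField

variable {S : Scheme.{u}}

/-- **an algebraic space every point of which has an open neighbourhood which is a scheme is a
scheme.** -/
theorem exists_iso_of_nbhds (X : AlgSp.Space S)
    (hnb : ∀ x : AlgSp.Points X.obj, ∃ (M : Over S) (f : (AlgSp.yon S).obj M ⟶ X.obj),
      AlgSp.RepWith @IsOpenImmersion f ∧ x ∈ Set.range (AlgSp.Points.map f)) :
    ∃ M : Over S, Nonempty ((AlgSp.yon S).obj M ≅ X.obj) := by
  obtain ⟨U, a, hae, has⟩ := X.property.atlas
  have key : ∀ u : ↥U.left, ∃ (M : Over S) (f : (AlgSp.yon S).obj M ⟶ X.obj),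
      AlgSp.RepWith @IsOpenImmersion f ∧
        AlgSp.Points.ofPt a u ∈ Set.range (AlgSp.Points.map f) := fun u => hnb _
  choose M f hf hmem using key
  obtain ⟨Wg, ⟨e⟩⟩ := Groth.Agent.R2.H25.CodimZero.exists_iso_openSub_iUnion M f hf
  have hA : IsOpen (⋃ i, Set.range (AlgSp.Points.map (f i))) :=
    isOpen_iUnion (fun i => Groth.Agent.Lib.Helper12.OpenSub.isOpen_range_of_open (f i) (hf i))
  have hrange : Set.range (AlgSp.Points.map (Groth.Agent.Lib.Helper12.OpenSub.incl X.obj
      (⋃ i, Set.range (AlgSp.Points.map (f i))))) =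
      Set.range (AlgSp.Points.map (𝟙 X.obj)) := by
    rw [Groth.Agent.Lib.Helper12.OpenSub.range_map_incl]
    ext x
    constructor
    · intro _
      exact ⟨x, AlgSp.Points.map_id x⟩
    · intro _
      obtain ⟨u, hu⟩ := Groth.Agent.S10177.surjective_ofPt a has x
      exact Set.mem_iUnion.2 ⟨u, hu ▸ hmem u⟩
  obtain ⟨e₂, -⟩ := Groth.Agent.Lib.Helper12.OpenSub.iso_of_range_eq _
    (Groth.Agent.Lib.Helper12.OpenSub.repWith_incl hA) (𝟙 X.obj)
    (Groth.Agent.Lib.Helper15MonoSep.repWith_of_isIso @IsOpenImmersion _) hrange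
  exact ⟨Wg, ⟨e ≪≫ e₂⟩⟩

/-- a fibre product of a finite scheme with a quasi-compact locally quasi-finite morphism is
finite. -/
lemma finite_pullback {A B T : Scheme.{u}} (f : A ⟶ T) (g : B ⟶ T) [Finite ↥A]
    [LocallyQuasiFinite g] [QuasiCompact g] : Finite ↥(pullback f g) := by
  have h : (Set.univ : Set ↥(pullback f g)).Finite := by
    have h1 : ((pullback.fst f g) ⁻¹' (Set.univ : Set ↥A)).Finite :=
      Set.Finite.preimage' Set.finite_univ
        (fun a _ => (pullback.fst f g).finite_preimage_singleton a)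
    simpa using h1
  exact Set.finite_univ_iff.1 h

/-- an affine etale chart with finite self fibre product over `S` has a quasi-compact kernel
pair. -/
lemma compactSpace_kernelPair {X : AlgSp.Sp S} {V R : Over S} (b : (AlgSp.yon S).obj V ⟶ X)
    (s t : R ⟶ V) (hR : IsPullback ((AlgSp.yon S).map t) ((AlgSp.yon S).map s) b b)
    [Finite ↥(pullback V.hom V.hom)] : CompactSpace ↥R.left := by
  haveI := Groth.Agent.R2.H25.KerGrpd.mono_j b s t hR
  have hinj : Function.Injective (Groth.Agent.R2.H25.KerGrpd.grpd b s t hR).j :=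
    (Groth.Agent.R2.H25.KerGrpd.grpd b s t hR).j.injective
  haveI : Finite ↥(pullback (Groth.Agent.R2.H25.KerGrpd.grpd b s t hR).pU
      (Groth.Agent.R2.H25.KerGrpd.grpd b s t hR).pU) :=
    (inferInstance : Finite ↥(pullback V.hom V.hom))
  haveI : Finite ↥R.left := Finite.of_injective _ hinj
  infer_instance

section Field

variable (k : Type u) [Field k]

/-- etale charts of an algebraic space locally of finite type and of dimension `≤ 0` over a field
are discrete. -/
lemma chart_props (X : AlgSp.Space (Spec (CommRingCat.of k)))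
    (p : X.obj ⟶ (AlgSp.yon (Spec (CommRingCat.of k))).obj (Over.mk (𝟙 _)))
    (hp : AlgSp.LocP @LocallyOfFiniteType p) (hd : AlgSp.dim X.obj ≤ 0)
    {V : Over (Spec (CommRingCat.of k))}
    (b : (AlgSp.yon (Spec (CommRingCat.of k))).obj V ⟶ X.obj) (hb : AlgSp.RepWith @Etale b) :
    LocallyOfFiniteType V.hom ∧ DiscreteTopology ↥V.left := by
  have hlft : LocallyOfFiniteType V.hom := by
    have h1 := hp b (𝟙 _) (Over.homMk V.hom (by simp)) hb (AlgSp.repWith_id @Etale _) (by
      obtain ⟨g, hg⟩ := (AlgSp.yon (Spec (CommRingCat.of k))).map_surjective (b ≫ p)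
      rw [Category.comp_id, ← hg]
      congr 1
      exact Over.mkIdTerminal.hom_ext _ _)
    simpa using h1
  refine ⟨hlft, ?_⟩
  haveI : IsLocallyNoetherian V.left := LocallyOfFiniteType.isLocallyNoetherian V.hom
  have hV : topologicalKrullDim ↥V.left ≤ 0 := by
    refine le_trans ?_ hd
    unfold AlgSp.dim
    exact le_iSup_of_le V (le_iSup_of_le b (le_iSup_of_le hb le_rfl))
  haveI : IsLocallyArtinian V.left := IsLocallyArtinian.of_topologicalKrullDim_le_zero hV
  infer_instance

/-- **an algebraic space locally of finite type and of dimension `≤ 0` over a field is a separated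
scheme all of whose quasi-compact opens are affine.** -/
theorem exists_iso_isSeparated (X : AlgSp.Space (Spec (CommRingCat.of k)))
    (p : X.obj ⟶ (AlgSp.yon (Spec (CommRingCat.of k))).obj (Over.mk (𝟙 _)))
    (hp : AlgSp.LocP @LocallyOfFiniteType p) (hd : AlgSp.dim X.obj ≤ 0) :
    ∃ (U : Over (Spec (CommRingCat.of k)))
      (_ : (AlgSp.yon (Spec (CommRingCat.of k))).obj U ≅ X.obj), U.left.IsSeparated ∧
      ∀ V : U.left.Opens, IsCompact (V : Set ↥U.left) → IsAffineOpen V := by
  obtain ⟨U, a, hae, has⟩ := X.property.atlas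
  have hnb : ∀ x : AlgSp.Points X.obj, ∃ (M : Over (Spec (CommRingCat.of k)))
      (f : (AlgSp.yon (Spec (CommRingCat.of k))).obj M ⟶ X.obj),
      AlgSp.RepWith @IsOpenImmersion f ∧ x ∈ Set.range (AlgSp.Points.map f) := by
    intro x
    obtain ⟨u, hu⟩ := Groth.Agent.S10177.surjective_ofPt a has x
    obtain ⟨O, hO, huO, -⟩ : ∃ O : U.left.Opens, O ∈ U.left.affineOpens ∧ u ∈ O ∧ O ≤ ⊤ :=
      TopologicalSpace.Opens.isBasis_iff_nbhd.1 U.left.isBasis_affineOpens
        (TopologicalSpace.Opens.mem_top u)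
    let V : Over (Spec (CommRingCat.of k)) := Over.mk (O.ι ≫ U.hom)
    let ιV : V ⟶ U := Over.homMk O.ι rfl
    haveI : IsAffine V.left := hO
    have hb : AlgSp.RepWith @Etale ((AlgSp.yon (Spec (CommRingCat.of k))).map ιV ≫ a) :=
      (AlgSp.repWith_isMultiplicative (S := Spec (CommRingCat.of k)) @Etale).comp_mem _ _
        ((AlgSp.repWith_yon_map_iff _ _).2 (inferInstance : Etale O.ι)) hae
    obtain ⟨hlft, hdisc⟩ := chart_props k X p hp hd _ hb
    haveI := hlft
    haveI := hdisc
    haveI : Finite ↥V.left := finite_of_compact_of_discrete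
    haveI : LocallyQuasiFinite V.hom :=
      locallyQuasiFinite_iff_isDiscrete_preimage_singleton.2
        (fun y => isDiscrete_iff_discreteTopology.2 inferInstance)
    haveI : Finite ↥(pullback V.hom V.hom) := finite_pullback V.hom V.hom
    obtain ⟨R, s, t', hR'⟩ := hb.1 ((AlgSp.yon (Spec (CommRingCat.of k))).map ιV ≫ a)
    obtain ⟨t, rfl⟩ := (AlgSp.yon (Spec (CommRingCat.of k))).map_surjective t'
    haveI : CompactSpace ↥R.left := compactSpace_kernelPair _ s t hR'
    haveI : QuasiCompact s.left := inferInstance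
    haveI : QuasiCompact t.left := inferInstance
    have hv : ∀ v' : ↥V.left, v' ⤳ (⟨u, huO⟩ : ↥O) → v' = (⟨u, huO⟩ : ↥O) :=
      fun v' h => specializes_iff_eq.1 h
    obtain ⟨X', j', hj', hrep, hmem⟩ :=
      Groth.Agent.R2.H25.CodimZero.exists_open_scheme_nbhd X _ hb s t hR' (⟨u, huO⟩ : ↥O) hv
    obtain ⟨M, ⟨r⟩⟩ := hrep.has_representation
    refine ⟨M, (AlgSp.isoOfRepresentableBy r).hom ≫ j'.hom,
      (AlgSp.repWith_isMultiplicative (S := Spec (CommRingCat.of k)) @IsOpenImmersion).comp_mem _ _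
        (MorphismProperty.of_isIso
          (AlgSp.RepWith (S := Spec (CommRingCat.of k)) @IsOpenImmersion) _) hj', ?_⟩
    rw [Groth.Agent.S10176.ofPt_map_comp] at hmem
    obtain ⟨z, hz⟩ := hmem
    refine ⟨AlgSp.Points.map (AlgSp.isoOfRepresentableBy r).inv z, ?_⟩
    rw [← AlgSp.Points.map_comp, ← Category.assoc, Iso.inv_hom_id, Category.id_comp, hz]
    exact hu
  obtain ⟨M, ⟨e'⟩⟩ := exists_iso_of_nbhds X hnb
  have hce : AlgSp.RepWith @Etale e'.hom :=
    Groth.Agent.Lib.Helper15MonoSep.repWith_of_isIso @Etale e'.hom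
  obtain ⟨-, hdisc⟩ := chart_props k X p hp hd e'.hom hce
  haveI := hdisc
  have hmax : Groth.Agent.R2.H25.DimZeroSch.AllMax M.left :=
    fun w w' hw => specializes_iff_eq.1 hw
  haveI : QuasiSeparatedSpace ↥M.left := inferInstance
  exact ⟨M, e', Groth.Agent.R2.H25.DimZeroSch.isSeparated_of_allMax hmax,
    fun V hV => Groth.Agent.R2.H25.DimZeroSch.isAffineOpen_of_isCompact hmax V hV⟩

end Field

end Groth.Agent.R2.H25.LftField
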