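import Mathlib
import Groth.Prelude.Def_AlgSpDec
import Groth.Agent.S10338
import Groth.Agent.S10339
import Groth.Agent.S9347
import Groth.Agent.S10176
import Groth.Agent.S10177
import Groth.Agent.R2.H46GenPt

/-!
# Normal integral affine étale charts of a normal integral algebraic space (helper25)
-/

set_option autoImplicit false
set_option linter.style.haveILetI false
universe u
open CategoryTheory CategoryTheory.Limits AlgebraicGeometry Topology TopologicalSpace

namespace Groth.Agent.R2.H25.NormChart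

variable {S : Scheme.{u}}

/-- a point whose local ring is a domain lies on the closure of at most one generic point of an
irreducible component. -/
lemma eq_of_isDomain_stalk {Y : Scheme.{u}} (v : ↥Y) [IsDomain ↥(Y.presheaf.stalk v)]
    {ξ₁ ξ₂ : ↥Y} (h₁ : closure {ξ₁} ∈ irreducibleComponents ↥Y)
    (h₂ : closure {ξ₂} ∈ irreducibleComponents ↥Y) (hs₁ : ξ₁ ⤳ v) (hs₂ : ξ₂ ⤳ v) : ξ₁ = ξ₂ := by
  have key : ∀ ξ : ↥Y, closure {ξ} ∈ irreducibleComponents ↥Y → ξ ⤳ v →
      Y.fromSpecStalk v (⟨⊥, Ideal.isPrime_bot⟩ : PrimeSpectrum ↥(Y.presheaf.stalk v)) = ξ := by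
    intro ξ hξ hs
    have hmem : ξ ∈ Set.range (Y.fromSpecStalk v) := by
      rw [Scheme.range_fromSpecStalk]
      exact hs
    obtain ⟨p, rfl⟩ := hmem
    have h1 : (⟨⊥, Ideal.isPrime_bot⟩ : PrimeSpectrum ↥(Y.presheaf.stalk v)) ⤳ p :=
      (PrimeSpectrum.le_iff_specializes _ p).mp bot_le
    have h2 := h1.map (Y.fromSpecStalk v).continuous
    exact Groth.Agent.S9347.eq_of_specializes_of_mem_irreducibleComponents hξ h2
  rw [← key ξ₁ h₁ hs₁, ← key ξ₂ h₂ hs₂]

/-- an affine integral scheme all of whose local rings are integrally closed has integrally closed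
ring of global sections. -/
lemma isIntegrallyClosed_of_stalks (U : Scheme.{u}) [IsAffine U] [IsIntegral U]
    (h : ∀ x : ↥U, IsIntegrallyClosed ↥(U.presheaf.stalk x)) : IsIntegrallyClosed ↥Γ(U, ⊤) := by
  refine IsIntegrallyClosed.of_localization_maximal fun p _ hp => ?_
  have hU := isAffineOpen_top U
  let y : PrimeSpectrum ↥Γ(U, ⊤) := ⟨p, hp.isPrime⟩
  letI := TopCat.Presheaf.algebra_section_stalk U.presheaf
    (⟨hU.fromSpec y, trivial⟩ : ↥(⊤ : U.Opens))
  haveI : IsLocalization.AtPrime ↥(U.presheaf.stalk (hU.fromSpec y)) p :=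
    hU.isLocalization_stalk' y trivial
  haveI := h (hU.fromSpec y)
  exact IsIntegrallyClosed.of_equiv
    (IsLocalization.algEquiv p.primeCompl ↥(U.presheaf.stalk (hU.fromSpec y))
      (Localization.AtPrime p)).toRingEquiv

/-- normality of the local rings passes to open subschemes. -/
lemma normal_stalk_of_open {Y : Scheme.{u}} (O : Y.Opens)
    (h : ∀ y : ↥Y, IsDomain ↥(Y.presheaf.stalk y) ∧ IsIntegrallyClosed ↥(Y.presheaf.stalk y))
    (w : ↥(O : Scheme.{u})) :
    IsDomain ↥((O : Scheme.{u}).presheaf.stalk w) ∧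
      IsIntegrallyClosed ↥((O : Scheme.{u}).presheaf.stalk w) := by
  obtain ⟨h1, h2⟩ := h (O.ι w)
  let e : ↥(Y.presheaf.stalk (O.ι w)) ≃+* ↥((O : Scheme.{u}).presheaf.stalk w) :=
    (asIso (O.ι.stalkMap w)).commRingCatIsoToRingEquiv
  exact ⟨e.symm.toMulEquiv.isDomain, IsIntegrallyClosed.of_equiv e⟩

set_option maxHeartbeats 800000 in
/-- every point of a normal integral algebraic space lies on a normal integral affine étale
chart. -/
theorem exists_normal_chart (X : AlgSp.Space S) (hXi : AlgSp.IsIntegralSp X.obj)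
    (hXn : AlgSp.EtaleLocally (fun U => ∀ u : ↥U, IsDomain ↥(U.presheaf.stalk u) ∧
      IsIntegrallyClosed ↥(U.presheaf.stalk u)) X.obj) (x : AlgSp.Points X.obj) :
    ∃ (U : Over S) (a : (AlgSp.yon S).obj U ⟶ X.obj), AlgSp.RepWith @Etale a ∧ IsAffine U.left ∧
      IsIntegral U.left ∧ IsIntegrallyClosed ↥Γ(U.left, ⊤) ∧
      x ∈ Set.range (AlgSp.Points.ofPt a) := by
  classical
  obtain ⟨-, hdec, hirr⟩ := hXi
  obtain ⟨U₀, a₀, hae₀, has₀, hN₀⟩ := hXn
  obtain ⟨u₀, hu₀⟩ := Groth.Agent.S10177.surjective_ofPt a₀ has₀ x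
  obtain ⟨O, hO, hu₀O, -⟩ : ∃ O : U₀.left.Opens, O ∈ U₀.left.affineOpens ∧ u₀ ∈ O ∧ O ≤ ⊤ :=
    TopologicalSpace.Opens.isBasis_iff_nbhd.1 U₀.left.isBasis_affineOpens
      (TopologicalSpace.Opens.mem_top u₀)
  let V : Over S := Over.mk (O.ι ≫ U₀.hom)
  let jV : V ⟶ U₀ := Over.homMk O.ι rfl
  haveI hVaff : IsAffine V.left := hO
  let a : (AlgSp.yon S).obj V ⟶ X.obj := (AlgSp.yon S).map jV ≫ a₀
  have ha : AlgSp.RepWith @Etale a :=
    (AlgSp.repWith_isMultiplicative (S := S) @Etale).comp_mem _ _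
      ((AlgSp.repWith_yon_map_iff _ _).2 (inferInstance : Etale O.ι)) hae₀
  let v : ↥V.left := ⟨u₀, hu₀O⟩
  have hv : AlgSp.Points.ofPt a v = x := by
    show AlgSp.Points.ofPt ((AlgSp.yon S).map jV ≫ a₀) v = x
    rw [Groth.Agent.S10176.ofPt_map_comp]
    exact hu₀
  clear_value a
  have hNV : ∀ w : ↥V.left, IsDomain ↥(V.left.presheaf.stalk w) ∧
      IsIntegrallyClosed ↥(V.left.presheaf.stalk w) := normal_stalk_of_open O hN₀
  -- the generic point of `|X|`
  haveI : T0Space (AlgSp.Points X.obj) := Groth.Agent.S10338.result X hdec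
  haveI : QuasiSober (AlgSp.Points X.obj) := Groth.Agent.S10339.result X hdec
  haveI := hirr
  obtain ⟨η, hη⟩ := QuasiSober.sober (IrreducibleSpace.isIrreducible_univ (AlgSp.Points X.obj))
    isClosed_univ
  have hΦ : (AlgSp.Points.ofPt a ⁻¹' {η}).Finite :=
    Groth.Agent.S10338.finite_fibre_of_isDecent hdec η V a hVaff ha
  have hgen : ∀ ξ : ↥V.left, closure {ξ} ∈ irreducibleComponents ↥V.left →
      AlgSp.Points.ofPt a ξ = η := by
    intro ξ hξ
    have h1 : η ⤳ AlgSp.Points.ofPt a ξ := hη.specializes (Set.mem_univ _)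
    obtain ⟨ξ', hξ', hξ'η⟩ := Groth.Agent.R2.H46.GenPt.exists_generization X hdec a ha ξ η h1
    rw [← Groth.Agent.S9347.eq_of_specializes_of_mem_irreducibleComponents hξ hξ']
    exact hξ'η
  have hfin : (irreducibleComponents ↥V.left).Finite := by
    have hsub : irreducibleComponents ↥V.left ⊆
        (fun ξ : ↥V.left => closure {ξ}) '' (AlgSp.Points.ofPt a ⁻¹' {η}) := by
      intro T hT
      obtain ⟨ξ, hξ⟩ := QuasiSober.sober hT.1 (isClosed_of_mem_irreducibleComponents T hT)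
      exact ⟨ξ, hgen ξ (by rw [hξ.def]; exact hT), hξ.def⟩
    exact (hΦ.image _).subset hsub
  -- the component through `v`
  let T₀ : Set ↥V.left := irreducibleComponent v
  have hT₀ : T₀ ∈ irreducibleComponents ↥V.left := irreducibleComponent_mem_irreducibleComponents v
  obtain ⟨ξ₀, hξ₀⟩ := QuasiSober.sober hT₀.1 (isClosed_of_mem_irreducibleComponents T₀ hT₀)
  have hξ₀v : ξ₀ ⤳ v := hξ₀.specializes mem_irreducibleComponent
  let C : Set ↥V.left := ⋃ T ∈ irreducibleComponents ↥V.left \ {T₀}, T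
  have hC : IsClosed C := hfin.sdiff.isClosed_biUnion fun T hT =>
    isClosed_of_mem_irreducibleComponents T hT.1
  have hvC : v ∉ C := by
    intro hmem
    obtain ⟨T, ⟨hT, hTne⟩, hvT⟩ := Set.mem_iUnion₂.1 hmem
    obtain ⟨ξ, hξ⟩ := QuasiSober.sober hT.1 (isClosed_of_mem_irreducibleComponents T hT)
    haveI := (hNV v).1
    have h1 : ξ = ξ₀ := eq_of_isDomain_stalk v (by rw [hξ.def]; exact hT)
      (by rw [hξ₀.def]; exact hT₀) (hξ.specializes hvT) hξ₀v
    apply hTne
    show T = T₀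
    rw [← hξ.def, ← hξ₀.def, h1]
  obtain ⟨O', hO', hvO', hO'C⟩ : ∃ O' : V.left.Opens, O' ∈ V.left.affineOpens ∧
      v ∈ O' ∧ O' ≤ ⟨Cᶜ, hC.isOpen_compl⟩ :=
    TopologicalSpace.Opens.isBasis_iff_nbhd.1 V.left.isBasis_affineOpens
      (show v ∈ (⟨Cᶜ, hC.isOpen_compl⟩ : V.left.Opens) from hvC)
  have hO'T₀ : (O' : Set ↥V.left) ⊆ T₀ := by
    intro w hw
    by_contra hwT
    have hne : irreducibleComponent w ≠ T₀ := fun h => hwT (h ▸ mem_irreducibleComponent)
    exact hO'C hw (Set.mem_biUnion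
      (⟨irreducibleComponent_mem_irreducibleComponents w, hne⟩ :
        irreducibleComponent w ∈ irreducibleComponents ↥V.left \ {T₀}) mem_irreducibleComponent)
  have hO'irr : IsIrreducible (O' : Set ↥V.left) :=
    ⟨⟨v, hvO'⟩, hT₀.1.isPreirreducible.open_subset O'.isOpen hO'T₀⟩
  let U : Over S := Over.mk (O'.ι ≫ V.hom)
  let jU : U ⟶ V := Over.homMk O'.ι rfl
  haveI hUaff : IsAffine U.left := hO'
  have hNU : ∀ w : ↥U.left, IsDomain ↥(U.left.presheaf.stalk w) ∧
      IsIntegrallyClosed ↥(U.left.presheaf.stalk w) := normal_stalk_of_open O' hNV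
  haveI : IrreducibleSpace ↥U.left := Subtype.irreducibleSpace hO'irr
  haveI : ∀ w : ↥U.left, _root_.IsReduced ↥(U.left.presheaf.stalk w) := fun w => by
    haveI := (hNU w).1
    infer_instance
  haveI : IsReduced U.left := isReduced_of_isReduced_stalk U.left
  haveI : IsIntegral U.left := isIntegral_of_irreducibleSpace_of_isReduced U.left
  refine ⟨U, (AlgSp.yon S).map jU ≫ a, ?_, hUaff, inferInstance,
    isIntegrallyClosed_of_stalks U.left fun w => (hNU w).2, ⟨⟨v, hvO'⟩, ?_⟩⟩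
  · exact (AlgSp.repWith_isMultiplicative (S := S) @Etale).comp_mem _ _
      ((AlgSp.repWith_yon_map_iff _ _).2 (inferInstance : Etale O'.ι)) ha
  · rw [Groth.Agent.S10176.ofPt_map_comp]
    exact hv

end Groth.Agent.R2.H25.NormChart
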