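import Mathlib
import Groth.Prelude.Def_AlgSpDec
import Groth.Agent.R2.H46GenPt
import Groth.Agent.R2.H45HasAt
import Groth.Agent.R2.H45HasAtMor
import Groth.Agent.S10176
import Groth.Agent.S10338
import Groth.Agent.S10339

/-!
# Punctured generizations of a point of a decent locally Noetherian algebraic space (helper25)

`W = {x' ⤳ x, x' ≠ x}` is Noetherian, spectral, sober and Jacobson.
-/

set_option autoImplicit false

namespace Groth.Agent.R2.H25.PuncGen

/-- In a Noetherian domain, between `⊥ < P₁ < P₂` and for `f ≠ 0`, there is a prime strictly between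
`⊥` and `P₂` not containing `f`. -/
theorem exists_prime_between_domain {B : Type*} [CommRing B] [IsDomain B] [IsNoetherianRing B]
    (P₁ P₂ : Ideal B) [P₁.IsPrime] [P₂.IsPrime] (h01 : P₁ ≠ ⊥) (h12 : P₁ < P₂) (f : B)
    (hf : f ≠ 0) : ∃ q : Ideal B, q.IsPrime ∧ q ≠ ⊥ ∧ q < P₂ ∧ f ∉ q := by
  by_cases hfP : f ∈ P₂
  swap
  · exact ⟨P₁, inferInstance, h01, h12, fun h => hfP (h12.le h)⟩
  haveI : (⊥ : Ideal B).IsPrime := Ideal.isPrime_bot
  have hbot : (⊥ : Ideal B) < P₁ := bot_lt_iff_ne_bot.2 h01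
  have hht2 : (2 : ℕ∞) ≤ P₂.height := by
    have h1 := Ideal.height_add_one_le_of_lt_of_isPrime hbot
    have h2 := Ideal.height_add_one_le_of_lt_of_isPrime h12
    calc (2 : ℕ∞) = 0 + 1 + 1 := by norm_num
      _ ≤ (⊥ : Ideal B).height + 1 + 1 := by gcongr; exact zero_le
      _ ≤ P₁.height + 1 := by gcongr
      _ ≤ P₂.height := h2
  have hnoChain : ∀ q' : Ideal B, q'.IsPrime → q'.height ≤ 1 →
      ∀ q'' : Ideal B, q''.IsPrime → q'' ≠ ⊥ → q'' ≤ q' → q'' = q' := by
    intro q' hq' hht q'' hq'' hne hle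
    by_contra hcon
    have hlt : q'' < q' := lt_of_le_of_ne hle hcon
    have hb : (⊥ : Ideal B) < q'' := bot_lt_iff_ne_bot.2 hne
    have h1 := Ideal.height_add_one_le_of_lt_of_isPrime hb
    have h2 := Ideal.height_add_one_le_of_lt_of_isPrime hlt
    have : (2 : ℕ∞) ≤ 1 := by
      calc (2 : ℕ∞) = 0 + 1 + 1 := by norm_num
        _ ≤ (⊥ : Ideal B).height + 1 + 1 := by gcongr; exact zero_le
        _ ≤ q''.height + 1 := by gcongr
        _ ≤ q'.height := h2
        _ ≤ 1 := hht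
    exact absurd this (by norm_num)
  set Sf := (Ideal.span {f}).minimalPrimes with hSf
  have hfin : Sf.Finite := Ideal.finite_minimalPrimes_of_isNoetherianRing B _
  have hfle : Ideal.span {f} ≤ P₂ := (Ideal.span_singleton_le_iff_mem _).2 hfP
  obtain ⟨q₀, hq₀, hq₀le⟩ := Ideal.exists_minimalPrimes_le hfle
  have hnotle : ∀ q ∈ Sf, ¬ P₂ ≤ q := by
    intro q hq hle
    have hqle : q ≤ P₂ := hq.2 ⟨inferInstance, hfle⟩ hle
    have heq : q = P₂ := le_antisymm hqle hle
    have := Ideal.height_le_one_of_isPrincipal_of_mem_minimalPrimes (Ideal.span {f}) q hq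
    rw [heq] at this
    exact absurd (hht2.trans this) (by norm_num)
  have havoid : ¬ ((P₂ : Set B) ⊆ ⋃ q ∈ (hfin.toFinset : Set (Ideal B)), (q : Set B)) := by
    intro hsub
    have := (Ideal.subset_union_prime (s := hfin.toFinset) (f := fun q : Ideal B => q) ⊥ ⊥
      (fun q hq _ _ => by
        have : q ∈ Sf := hfin.mem_toFinset.1 hq
        exact this.1.1) (I := P₂)).1 hsub
    obtain ⟨q, hq, hle⟩ := this
    exact hnotle q (hfin.mem_toFinset.1 hq) hle
  obtain ⟨g, hgP, hg⟩ := Set.not_subset.1 havoid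
  have hg' : ∀ q ∈ Sf, g ∉ q := by
    intro q hq hgq
    apply hg
    simp only [Set.mem_iUnion]
    exact ⟨q, by simpa using hq, hgq⟩
  have hgle : Ideal.span {g} ≤ P₂ := (Ideal.span_singleton_le_iff_mem _).2 hgP
  obtain ⟨q', hq', hq'le⟩ := Ideal.exists_minimalPrimes_le hgle
  haveI hq'p : q'.IsPrime := hq'.1.1
  have hq'ht := Ideal.height_le_one_of_isPrincipal_of_mem_minimalPrimes (Ideal.span {g}) q' hq'
  have hq'ne : q' ≠ P₂ := by
    intro h
    rw [h] at hq'ht
    exact absurd (hht2.trans hq'ht) (by norm_num)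
  have hgq' : g ∈ q' := hq'.1.2 (Ideal.subset_span rfl)
  have hq'bot : q' ≠ ⊥ := by
    intro h
    rw [h] at hgq'
    have hg0 : g = 0 := by simpa using hgq'
    exact hg' q₀ hq₀ (by rw [hg0]; exact q₀.zero_mem)
  refine ⟨q', hq'p, hq'bot, lt_of_le_of_ne hq'le hq'ne, fun hfq' => ?_⟩
  have hfle' : Ideal.span {f} ≤ q' := (Ideal.span_singleton_le_iff_mem _).2 hfq'
  obtain ⟨q'', hq'', hq''le⟩ := Ideal.exists_minimalPrimes_le hfle'
  have hfq'' : f ∈ q'' := hq''.1.2 (Ideal.subset_span rfl)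
  have hq''bot : q'' ≠ ⊥ := by
    intro h
    rw [h] at hfq''
    exact hf (by simpa using hfq'')
  have := hnoChain q' hq'p hq'ht q'' hq''.1.1 hq''bot hq''le
  exact hg' q'' hq'' (this ▸ hgq')

/-- In a Noetherian ring, given primes `p₀ < p₁ < p₂` and `f ∉ p₀`, there is a prime strictly
between `p₀` and `p₂` not containing `f`. -/
theorem exists_prime_between {A : Type*} [CommRing A] [IsNoetherianRing A]
    (p₀ p₁ p₂ : Ideal A) [p₀.IsPrime] [p₁.IsPrime] [p₂.IsPrime] (h01 : p₀ < p₁) (h12 : p₁ < p₂)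
    (f : A) (hf : f ∉ p₀) : ∃ q : Ideal A, q.IsPrime ∧ p₀ < q ∧ q < p₂ ∧ f ∉ q := by
  let π := Ideal.Quotient.mk p₀
  have hπ : Function.Surjective π := Ideal.Quotient.mk_surjective
  have hker : RingHom.ker π = p₀ := Ideal.mk_ker
  have hcm : ∀ p : Ideal A, p₀ ≤ p → (p.map π).comap π = p := by
    intro p hp
    rw [Ideal.comap_map_of_surjective' π hπ, hker, sup_eq_left.2 hp]
  haveI : (p₁.map π).IsPrime := Ideal.map_isPrime_of_surjective hπ (hker.le.trans h01.le)
  haveI : (p₂.map π).IsPrime :=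
    Ideal.map_isPrime_of_surjective hπ (hker.le.trans (h01.le.trans h12.le))
  have h01' : p₁.map π ≠ ⊥ := by
    intro h
    have := hcm p₁ h01.le
    rw [h, ← RingHom.ker_eq_comap_bot, hker] at this
    exact h01.ne this
  have h12' : p₁.map π < p₂.map π := by
    refine lt_of_le_of_ne (Ideal.map_mono h12.le) fun h => ?_
    have h1 := hcm p₁ h01.le
    have h2 := hcm p₂ (h01.le.trans h12.le)
    rw [h, h2] at h1
    exact h12.ne h1.symm
  have hf' : π f ≠ 0 := fun h => hf (Ideal.Quotient.eq_zero_iff_mem.1 h)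
  obtain ⟨q, hqp, hqbot, hqlt, hfq⟩ := exists_prime_between_domain (p₁.map π) (p₂.map π) h01' h12'
    (π f) hf'
  haveI := hqp
  refine ⟨q.comap π, inferInstance, ?_, ?_, fun h => hfq h⟩
  · refine lt_of_le_of_ne ?_ fun h => ?_
    · exact hker.symm.le.trans (Ideal.ker_le_comap π)
    · apply hqbot
      rw [← Ideal.map_comap_of_surjective π hπ q, ← h, Ideal.map_eq_bot_iff_le_ker]
      exact hker.symm.le
  · have h2 := hcm p₂ (h01.le.trans h12.le)
    refine lt_of_le_of_ne ?_ fun h => ?_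
    · rw [← h2]; exact Ideal.comap_mono hqlt.le
    · apply hqlt.ne
      rw [← Ideal.map_comap_of_surjective π hπ q, h]

open AlgebraicGeometry TopologicalSpace in
/-- In a locally Noetherian scheme, given a chain of strict specializations `z ⤳ w ⤳ u` and an open
neighbourhood `O` of `z`, there is a point of `O` strictly between `z` and `u`. -/
theorem exists_between_scheme (U : Scheme) [IsLocallyNoetherian U] (z w u : U) (hzw : z ⤳ w)
    (hwu : w ⤳ u) (h1 : z ≠ w) (h2 : w ≠ u) (O : Set U) (hO : IsOpen O) (hz : z ∈ O) :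
    ∃ q ∈ O, z ⤳ q ∧ q ⤳ u ∧ q ≠ z ∧ q ≠ u := by
  obtain ⟨V, hV, huV, -⟩ := exists_isAffineOpen_mem_and_subset (x := u) (U := ⊤) trivial
  haveI : IsNoetherianRing Γ(U, V) := IsLocallyNoetherian.component_noetherian ⟨V, hV⟩
  have hwV : w ∈ V := hwu.mem_open V.2 huV
  have hzV : z ∈ V := hzw.mem_open V.2 hwV
  have hemb : Topology.IsOpenEmbedding hV.fromSpec := hV.fromSpec.isOpenEmbedding
  have hrange : Set.range hV.fromSpec = V := hV.range_fromSpec
  obtain ⟨pz, rfl⟩ : z ∈ Set.range hV.fromSpec := hrange ▸ hzV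
  obtain ⟨pw, rfl⟩ : w ∈ Set.range hV.fromSpec := hrange ▸ hwV
  obtain ⟨pu, rfl⟩ : u ∈ Set.range hV.fromSpec := hrange ▸ huV
  have hzw' : pz ⤳ pw := hemb.isInducing.specializes_iff.1 hzw
  have hwu' : pw ⤳ pu := hemb.isInducing.specializes_iff.1 hwu
  have hzw'' : PrimeSpectrum.asIdeal pz ≤ PrimeSpectrum.asIdeal pw :=
    (PrimeSpectrum.le_iff_specializes (R := Γ(U, V)) pz pw).2 hzw'
  have hwu'' : PrimeSpectrum.asIdeal pw ≤ PrimeSpectrum.asIdeal pu :=
    (PrimeSpectrum.le_iff_specializes (R := Γ(U, V)) pw pu).2 hwu'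
  have hne1 : (pz : PrimeSpectrum Γ(U, V)) ≠ pw := fun h => h1 (by rw [h])
  have hne2 : (pw : PrimeSpectrum Γ(U, V)) ≠ pu := fun h => h2 (by rw [h])
  have hOpen : IsOpen (hV.fromSpec ⁻¹' O) := hO.preimage hV.fromSpec.continuous
  obtain ⟨D, ⟨f, rfl⟩, hpzD, hDO⟩ :=
    PrimeSpectrum.isTopologicalBasis_basic_opens.exists_subset_of_mem_open
      (show (pz : PrimeSpectrum Γ(U, V)) ∈ hV.fromSpec ⁻¹' O from hz) hOpen
  have hfz : f ∉ (pz : PrimeSpectrum Γ(U, V)).asIdeal := hpzD
  obtain ⟨q, hqp, hzq, hqu, hfq⟩ := exists_prime_between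
    (pz : PrimeSpectrum Γ(U, V)).asIdeal (pw : PrimeSpectrum Γ(U, V)).asIdeal
    (pu : PrimeSpectrum Γ(U, V)).asIdeal
    (lt_of_le_of_ne hzw'' fun h => hne1 (PrimeSpectrum.ext h))
    (lt_of_le_of_ne hwu'' fun h => hne2 (PrimeSpectrum.ext h)) f hfz
  let pq : PrimeSpectrum Γ(U, V) := ⟨q, hqp⟩
  have hpqD : pq ∈ (PrimeSpectrum.basicOpen f : Set (PrimeSpectrum Γ(U, V))) := hfq
  refine ⟨hV.fromSpec pq, hDO hpqD, ?_, ?_, ?_, ?_⟩
  · exact hemb.isInducing.specializes_iff.2
      ((PrimeSpectrum.le_iff_specializes (R := Γ(U, V)) pz pq).1 hzq.le)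
  · exact hemb.isInducing.specializes_iff.2
      ((PrimeSpectrum.le_iff_specializes (R := Γ(U, V)) pq pu).1 hqu.le)
  · intro h
    have := hemb.injective h
    exact hzq.ne (congrArg PrimeSpectrum.asIdeal this).symm
  · intro h
    have := hemb.injective h
    exact hqu.ne (congrArg PrimeSpectrum.asIdeal this)

section Space

universe u
open CategoryTheory CategoryTheory.Limits AlgebraicGeometry Topology TopologicalSpace

variable {S : Scheme.{u}}

/-- the punctured generizations of `x`. -/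
abbrev W (X : AlgSp.Space S) (x : AlgSp.Points X.obj) : Type _ :=
  {x' : AlgSp.Points X.obj // x' ⤳ x ∧ x' ≠ x}

theorem noetherianSpace_W (X : AlgSp.Space S) (hN : AlgSp.IsLocNoethSp X.obj)
    (x : AlgSp.Points X.obj) : NoetherianSpace (W X x) := by
  obtain ⟨U, a, u, hae, -, hu⟩ := Groth.Agent.R2.H45.HasAt.exists_chart X.property x
  haveI : IsLocallyNoetherian U.left :=
    Groth.Agent.R2.H45.HasAtMor.isLocallyNoetherian_of_chart hN a hae
  obtain ⟨V, hV, huV, -⟩ := exists_isAffineOpen_mem_and_subset (x := u) (U := ⊤) trivial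
  haveI : IsNoetherianRing Γ(U.left, V) := IsLocallyNoetherian.component_noetherian ⟨V, hV⟩
  haveI : NoetherianSpace (Spec Γ(U.left, V)) := inferInstance
  -- the image of `V` in `|X|`
  let φ : Spec Γ(U.left, V) → AlgSp.Points X.obj := fun p => AlgSp.Points.ofPt a (hV.fromSpec p)
  have hφ : Continuous φ := (AlgSp.Points.continuous_ofPt a).comp hV.fromSpec.continuous
  have hopen : IsOpen (Set.range φ) := by
    have h1 : Set.range φ = AlgSp.Points.ofPt a '' (V : Set U.left) := by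
      rw [← hV.range_fromSpec, ← Set.range_comp]; rfl
    rw [h1]
    exact Groth.Agent.S10176.isOpenMap_ofPt a hae _ V.2
  have hx : x ∈ Set.range φ := by
    have : u ∈ Set.range hV.fromSpec := by rw [hV.range_fromSpec]; exact huV
    obtain ⟨p, rfl⟩ := this
    exact ⟨p, hu⟩
  haveI : NoetherianSpace (Set.range φ) :=
    NoetherianSpace.range φ hφ
  let ι : W X x → Set.range φ := fun w => ⟨w.1, w.2.1.mem_open hopen hx⟩
  have hι : IsInducing ι := by
    have h2 : IsInducing ((Subtype.val : Set.range φ → AlgSp.Points X.obj) ∘ ι) :=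
      IsInducing.subtypeVal
    exact IsInducing.of_comp (Continuous.subtype_mk continuous_subtype_val _)
      continuous_subtype_val h2
  exact hι.noetherianSpace

theorem quasiSober_W (X : AlgSp.Space S) (hd : AlgSp.IsDecent X.obj)
    (x : AlgSp.Points X.obj) : QuasiSober (W X x) := by
  haveI : T0Space (AlgSp.Points X.obj) := Groth.Agent.S10338.result X hd
  haveI : QuasiSober (AlgSp.Points X.obj) := Groth.Agent.S10339.result X hd
  refine ⟨fun {Z} hZirr hZcl => ?_⟩
  -- closure of the image of `Z` in `|X|`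
  let Z' : Set (AlgSp.Points X.obj) := closure (Subtype.val '' Z)
  have hZ'irr : IsIrreducible Z' :=
    (hZirr.image _ continuous_subtype_val.continuousOn).closure
  obtain ⟨η, hη⟩ := QuasiSober.sober hZ'irr isClosed_closure
  obtain ⟨z, hz⟩ := hZirr.nonempty
  have hzZ' : z.1 ∈ Z' := subset_closure ⟨z, hz, rfl⟩
  have hηz : η ⤳ z.1 := hη.specializes hzZ'
  have hηx : η ⤳ x := hηz.trans z.2.1
  have hηne : η ≠ x := by
    intro h
    have h1 : x ⤳ z.1 := h ▸ hηz
    exact z.2.2 (h1.antisymm z.2.1).eq.symm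
  let η' : W X x := ⟨η, hηx, hηne⟩
  -- `Z = val ⁻¹' Z'`
  have hZeq : Z = Subtype.val ⁻¹' Z' :=
    calc Z = closure Z := hZcl.closure_eq.symm
      _ = _ := IsInducing.subtypeVal.closure_eq_preimage_closure_image Z
  refine ⟨η', ?_⟩
  rw [IsGenericPoint, IsInducing.subtypeVal.closure_eq_preimage_closure_image, Set.image_singleton,
    hη.def]
  exact hZeq.symm

theorem jacobsonSpace_W (X : AlgSp.Space S) (hd : AlgSp.IsDecent X.obj)
    (hN : AlgSp.IsLocNoethSp X.obj) (x : AlgSp.Points X.obj) : JacobsonSpace (W X x) := by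
  haveI : T0Space (AlgSp.Points X.obj) := Groth.Agent.S10338.result X hd
  haveI : NoetherianSpace (W X x) := noetherianSpace_W X hN x
  rw [jacobsonSpace_iff_locallyClosed]
  intro Z hZne hZlc
  obtain ⟨O, C, hO, hC, rfl⟩ := hZlc
  -- a point of `Z` with minimal closure
  let 𝒮 : Set (Closeds (W X x)) := {T | ∃ z ∈ O ∩ C, T = ⟨closure {z}, isClosed_closure⟩}
  have h𝒮ne : 𝒮.Nonempty := by
    obtain ⟨z, hz⟩ := hZne
    exact ⟨_, z, hz, rfl⟩
  obtain ⟨T, ⟨z, hz, rfl⟩, hTmin⟩ := (wellFounded_lt (α := Closeds (W X x))).has_min 𝒮 h𝒮ne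
  have hmax : ∀ z' ∈ O ∩ C, z ⤳ z' → z' = z := by
    intro z' hz' hzz'
    have hle : (⟨closure {z'}, isClosed_closure⟩ : Closeds (W X x)) ≤ ⟨closure {z}, isClosed_closure⟩ :=
      specializes_iff_closure_subset.1 hzz'
    have hnlt := hTmin _ ⟨z', hz', rfl⟩
    have heq : (⟨closure {z'}, isClosed_closure⟩ : Closeds (W X x)) = ⟨closure {z}, isClosed_closure⟩ :=
      (eq_or_lt_of_le hle).resolve_right hnlt
    have h1 : closure {z} ⊆ closure {z'} := by
      have := congrArg (fun T : Closeds (W X x) => (T : Set (W X x))) heq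
      exact this.ge
    exact ((specializes_iff_closure_subset.2 h1).antisymm hzz').eq
  refine ⟨z, hz, ?_⟩
  rw [mem_closedPoints_iff]
  -- `z` is closed in `W`
  rw [← closure_subset_iff_isClosed]
  intro w hw
  have hzw : z ⤳ w := specializes_iff_mem_closure.2 hw
  by_contra hwz
  have hwz' : w ≠ z := hwz
  have hwC : w ∈ C := hzw.mem_closed hC hz.2
  have hwO : w ∉ O := fun h => hwz' (hmax w ⟨h, hwC⟩ hzw)
  obtain ⟨O', hO', rfl⟩ := isOpen_induced_iff.1 hO
  have hzw1 : z.1 ⤳ w.1 := (subtype_specializes_iff z w).1 hzw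
  -- the chart
  obtain ⟨U, a, u, hae, -, hu⟩ := Groth.Agent.R2.H45.HasAt.exists_chart X.property x
  haveI : IsLocallyNoetherian U.left :=
    Groth.Agent.R2.H45.HasAtMor.isLocallyNoetherian_of_chart hN a hae
  obtain ⟨uw, huw, hauw⟩ := Groth.Agent.R2.H46.GenPt.exists_generization X hd a hae u w.1
    (hu ▸ w.2.1)
  obtain ⟨uz, huz, hauz⟩ := Groth.Agent.R2.H46.GenPt.exists_generization X hd a hae uw z.1
    (hauw ▸ hzw1)
  have hne1 : uz ≠ uw := by
    intro h
    apply hwz'
    apply Subtype.ext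
    rw [← hauw, ← hauz, h]
  have hne2 : uw ≠ u := by
    intro h
    apply w.2.2
    rw [← hauw, h, hu]
  obtain ⟨q, hqO, hzq, hqu, hqz, hqu'⟩ := exists_between_scheme U.left uz uw u huz huw hne1 hne2
    (AlgSp.Points.ofPt a ⁻¹' O') (hO'.preimage (AlgSp.Points.continuous_ofPt a))
    (show AlgSp.Points.ofPt a uz ∈ O' from hauz ▸ hz.1)
  have hyx : AlgSp.Points.ofPt a q ⤳ x := hu ▸ hqu.map (AlgSp.Points.continuous_ofPt a)
  have hyne : AlgSp.Points.ofPt a q ≠ x := by
    intro h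
    exact hqu' (Groth.Agent.R2.H46.GenPt.eq_of_specializes_of_ofPt_eq X hd a hae u q hqu
      (h.trans hu.symm)).symm
  let y : W X x := ⟨AlgSp.Points.ofPt a q, hyx, hyne⟩
  have hzy : z ⤳ y := by
    rw [subtype_specializes_iff]
    change z.1 ⤳ AlgSp.Points.ofPt a q
    rw [← hauz]
    exact hzq.map (AlgSp.Points.continuous_ofPt a)
  have hyO : y ∈ Subtype.val ⁻¹' O' := hqO
  have hyC : y ∈ C := hzy.mem_closed hC hz.2
  have hyz : y = z := hmax y ⟨hyO, hyC⟩ hzy
  have h3 : AlgSp.Points.ofPt a uz = AlgSp.Points.ofPt a q := by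
    rw [hauz]
    exact (congrArg Subtype.val hyz).symm
  exact hqz (Groth.Agent.R2.H46.GenPt.eq_of_specializes_of_ofPt_eq X hd a hae q uz hzq h3)

/-- **Stacks, Decent Spaces**: the punctured generizations of a point of a decent locally Noetherian
algebraic space form a Noetherian, spectral, sober, Jacobson space. -/
theorem punctured_generizations (X : AlgSp.Space S) (hd : AlgSp.IsDecent X.obj)
    (hN : AlgSp.IsLocNoethSp X.obj) (x : AlgSp.Points X.obj) :
    NoetherianSpace (W X x) ∧ SpectralSpace (W X x) ∧ QuasiSober (W X x) ∧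
      JacobsonSpace (W X x) := by
  haveI : T0Space (AlgSp.Points X.obj) := Groth.Agent.S10338.result X hd
  haveI h1 : NoetherianSpace (W X x) := noetherianSpace_W X hN x
  haveI h2 : QuasiSober (W X x) := quasiSober_W X hd x
  exact ⟨h1, { }, h2, jacobsonSpace_W X hd hN x⟩

end Space

end Groth.Agent.R2.H25.PuncGen
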