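import Mathlib
import Groth.Agent.Lib.Helper20SuppBC
import Groth.Agent.Lib.Helper19ComplNoeth

/-!
# helper26: dimension of the adic completion of a Noetherian ring along an ideal in the radical

* `ringKrullDim_eq_of_flat_of_maximal_corr`: a flat map of Noetherian rings under which the maximal
  ideals correspond by extension preserves the Krull dimension.
* `ringKrullDim_quotient_map_adicCompletion`: `dim Â/JÂ = dim A/J` for `I ≤ rad A`.
* `supportDim_adicCompletion_eq`: `dim_Â M̂ = dim_A M`.
-/

set_option autoImplicit false
set_option linter.style.haveILetI false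
universe u

namespace Groth.Agent.R2.H26.ComplDim

open TensorProduct

section General

variable {R S : Type u} [CommRing R] [CommRing S] [Algebra R S]
  [IsNoetherianRing R] [IsNoetherianRing S] [Module.Flat R S]

/-- height of `mS` equals the height of `m` when `mS` is maximal (flat Noetherian extension). -/
theorem height_map_eq_of_isMaximal_map (m : Ideal R) [m.IsMaximal]
    (hmax : (m.map (algebraMap R S)).IsMaximal) :
    (m.map (algebraMap R S)).height = m.height := by
  haveI : (m.map (algebraMap R S)).IsPrime := hmax.isPrime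
  haveI : (m.map (algebraMap R S)).LiesOver m := by
    constructor
    have h1 : m ≤ (m.map (algebraMap R S)).comap (algebraMap R S) := Ideal.le_comap_map
    have h2 : (m.map (algebraMap R S)).comap (algebraMap R S) ≠ ⊤ := by
      intro h
      exact hmax.ne_top (by rw [Ideal.comap_eq_top_iff] at h; exact h)
    exact (Ideal.IsMaximal.eq_of_le inferInstance h2 h1)
  have h := Ideal.height_eq_height_add_of_liesOver_of_hasGoingDown m (m.map (algebraMap R S))
  haveI : Nontrivial (S ⧸ m.map (algebraMap R S)) :=
    Ideal.Quotient.nontrivial_iff.2 hmax.ne_top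
  have h0 : ((m.map (algebraMap R S)).map
      (Ideal.Quotient.mk (m.map (algebraMap R S)))).height = 0 := by
    rw [Ideal.map_quotient_self, Ideal.height_bot]
  rw [h0, add_zero] at h
  exact h

theorem ringKrullDim_eq_of_flat_of_maximal_corr [Nontrivial R] [Nontrivial S]
    (h1 : ∀ m : Ideal R, m.IsMaximal → (m.map (algebraMap R S)).IsMaximal)
    (h2 : ∀ P : Ideal S, P.IsMaximal → ∃ m : Ideal R, m.IsMaximal ∧ m.map (algebraMap R S) = P) :
    ringKrullDim S = ringKrullDim R := by
  rw [← Ideal.sup_isMaximal_height_eq_ringKrullDim, ← Ideal.sup_isMaximal_height_eq_ringKrullDim,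
    WithBot.coe_inj]
  apply le_antisymm
  · refine iSup_le fun P => iSup_le fun hP => ?_
    obtain ⟨m, hm, rfl⟩ := h2 P hP
    rw [height_map_eq_of_isMaximal_map m hP]
    exact le_iSup_of_le m (le_iSup_of_le hm le_rfl)
  · refine iSup_le fun m => iSup_le fun hm => ?_
    have := h1 m hm
    rw [← height_map_eq_of_isMaximal_map m this]
    exact le_iSup_of_le (m.map (algebraMap R S)) (le_iSup_of_le this le_rfl)

end General

section Adic

variable {A : Type u} [CommRing A] (I : Ideal A)

/-- maximal ideals of the `I`-adic completion are extended from maximal ideals of `A`. -/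
theorem comap_isMaximal_and_map_comap_eq (fg : I.FG) (P : Ideal (AdicCompletion I A))
    [hP : P.IsMaximal] :
    (P.comap (algebraMap A (AdicCompletion I A))).IsMaximal ∧
      I ≤ P.comap (algebraMap A (AdicCompletion I A)) ∧
      (P.comap (algebraMap A (AdicCompletion I A))).map (algebraMap A (AdicCompletion I A)) = P := by
  haveI := AdicCompletion.isAdicComplete_self I fg
  have hjac : I.map (algebraMap A (AdicCompletion I A)) ≤ (⊥ : Ideal (AdicCompletion I A)).jacobson :=
    IsAdicComplete.le_jacobson_bot _
  have hIP : I.map (algebraMap A (AdicCompletion I A)) ≤ P := hjac.trans (sInf_le ⟨bot_le, hP⟩)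
  have hsurj : Function.Surjective (AdicCompletion.evalOneₐ I).toRingHom :=
    AdicCompletion.evalOneₐ_surjective I
  have hker : RingHom.ker (AdicCompletion.evalOneₐ I).toRingHom =
      I.map (algebraMap A (AdicCompletion I A)) := AdicCompletion.ker_evalOneₐ_eq_map I fg
  have hcm : (P.map (AdicCompletion.evalOneₐ I).toRingHom).comap (AdicCompletion.evalOneₐ I).toRingHom = P := by
    rw [Ideal.comap_map_of_surjective' _ hsurj, sup_eq_left, hker]
    exact hIP
  have hmax' : (P.map (AdicCompletion.evalOneₐ I).toRingHom).IsMaximal := by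
    rcases Ideal.map_eq_top_or_isMaximal_of_surjective _ hsurj hP with h | h
    · exfalso
      rw [h, Ideal.comap_top] at hcm
      exact hP.ne_top hcm.symm
    · exact h
  have hm : P.comap (algebraMap A (AdicCompletion I A)) =
      (P.map (AdicCompletion.evalOneₐ I).toRingHom).comap (Ideal.Quotient.mk I) := by
    conv_lhs => rw [← hcm]
    rw [Ideal.comap_comap]
    congr 1
  have hmmax : (P.comap (algebraMap A (AdicCompletion I A))).IsMaximal := by
    rw [hm]
    exact Ideal.comap_isMaximal_of_surjective _ Ideal.Quotient.mk_surjective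
  have hIm : I ≤ P.comap (algebraMap A (AdicCompletion I A)) :=
    Ideal.le_comap_map.trans (Ideal.comap_mono hIP)
  refine ⟨hmmax, hIm, ?_⟩
  have h3 := AdicCompletion.isMaximal_map_of_le I (P.comap (algebraMap A (AdicCompletion I A))) hIm fg
  exact h3.eq_of_le hP.ne_top Ideal.map_comap_le

end Adic

section Quot

variable {A B : Type u} [CommRing A] [CommRing B] [Algebra A B]

theorem flat_quotient_map_of_flat [Module.Flat A B] (a : Ideal A) :
    Module.Flat (A ⧸ a) (B ⧸ a.map (algebraMap A B)) :=
  Module.Flat.of_linearEquiv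
    (Algebra.TensorProduct.quotIdealMapEquivQuotTensor B a).toLinearEquiv

/-- the image in `B/aB` of the extension of `m ⊇ a`. -/
theorem map_map_quotient_eq (a m : Ideal A) :
    (m.map (Ideal.Quotient.mk a)).map (algebraMap (A ⧸ a) (B ⧸ a.map (algebraMap A B))) =
      (m.map (algebraMap A B)).map (Ideal.Quotient.mk (a.map (algebraMap A B))) := by
  rw [Ideal.map_map, Ideal.map_map]
  rfl

theorem le_comap_mk {R : Type u} [CommRing R] (a : Ideal R) (m' : Ideal (R ⧸ a)) :
    a ≤ m'.comap (Ideal.Quotient.mk a) := fun x hx => by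
  rw [Ideal.mem_comap, Ideal.Quotient.eq_zero_iff_mem.2 hx]
  exact m'.zero_mem

/-- the image of a maximal ideal containing the kernel of a surjection is maximal. -/
theorem isMaximal_map_mk_of_le {R : Type u} [CommRing R] (a m : Ideal R) [hm : m.IsMaximal] (h : a ≤ m) :
    (m.map (Ideal.Quotient.mk a)).IsMaximal := by
  rcases Ideal.map_eq_top_or_isMaximal_of_surjective (Ideal.Quotient.mk a)
    Ideal.Quotient.mk_surjective hm with h' | h'
  · exfalso
    have h1 : (m.map (Ideal.Quotient.mk a)).comap (Ideal.Quotient.mk a) = m := by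
      rw [Ideal.comap_map_of_surjective' _ Ideal.Quotient.mk_surjective, Ideal.mk_ker, sup_eq_left]
      exact h
    rw [h', Ideal.comap_top] at h1
    exact hm.ne_top h1.symm
  · exact h'

end Quot

section Main

variable {A : Type u} [CommRing A] [IsNoetherianRing A] (I : Ideal A)

/-- `dim Â/JÂ = dim A/J` when `I` lies in the Jacobson radical. -/
theorem ringKrullDim_quotient_map_adicCompletion (hI : I ≤ Ring.jacobson A) (J : Ideal A) :
    ringKrullDim (AdicCompletion I A ⧸ J.map (algebraMap A (AdicCompletion I A))) =
      ringKrullDim (A ⧸ J) := by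
  have fg : I.FG := IsNoetherian.noetherian I
  haveI : IsNoetherianRing (AdicCompletion I A) :=
    Groth.Agent.Lib.Helper19.isNoetherianRing_adicCompletion I
  haveI : Module.Flat A (AdicCompletion I A) := AdicCompletion.flat_of_isNoetherian I
  by_cases hJ : J = ⊤
  · subst hJ
    rw [Ideal.map_top]
    haveI : Subsingleton (A ⧸ (⊤ : Ideal A)) := Ideal.Quotient.subsingleton_iff.2 rfl
    haveI : Subsingleton (AdicCompletion I A ⧸ (⊤ : Ideal (AdicCompletion I A))) :=
      Ideal.Quotient.subsingleton_iff.2 rfl
    rw [ringKrullDim_eq_bot_of_subsingleton, ringKrullDim_eq_bot_of_subsingleton]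
  obtain ⟨m₀, hm₀, hJm₀⟩ := Ideal.exists_le_maximal J hJ
  have hIm : ∀ m : Ideal A, m.IsMaximal → I ≤ m := fun m hm =>
    hI.trans (Ring.jacobson_le_of_isMaximal m)
  have hmaxmap : ∀ m : Ideal A, m.IsMaximal → (m.map (algebraMap A (AdicCompletion I A))).IsMaximal :=
    fun m hm => AdicCompletion.isMaximal_map_of_le I m (hIm m hm) fg
  have hJ' : J.map (algebraMap A (AdicCompletion I A)) ≠ ⊤ := by
    intro h
    have := Ideal.map_mono (f := algebraMap A (AdicCompletion I A)) hJm₀
    rw [h, top_le_iff] at this
    exact (hmaxmap m₀ hm₀).ne_top this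
  haveI : Nontrivial (A ⧸ J) := Ideal.Quotient.nontrivial_iff.2 hJ
  haveI : Nontrivial (AdicCompletion I A ⧸ J.map (algebraMap A (AdicCompletion I A))) :=
    Ideal.Quotient.nontrivial_iff.2 hJ'
  haveI := flat_quotient_map_of_flat (B := AdicCompletion I A) J
  refine ringKrullDim_eq_of_flat_of_maximal_corr ?_ ?_
  · intro m' hm'
    haveI := hm'
    have hm : (m'.comap (Ideal.Quotient.mk J)).IsMaximal :=
      Ideal.comap_isMaximal_of_surjective _ Ideal.Quotient.mk_surjective
    have hJm : J ≤ m'.comap (Ideal.Quotient.mk J) := le_comap_mk J m'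
    have hm'eq : (m'.comap (Ideal.Quotient.mk J)).map (Ideal.Quotient.mk J) = m' :=
      Ideal.map_comap_of_surjective _ Ideal.Quotient.mk_surjective _
    rw [← hm'eq, map_map_quotient_eq]
    haveI := hmaxmap _ hm
    exact isMaximal_map_mk_of_le _ _ (Ideal.map_mono hJm)
  · intro P' hP'
    haveI := hP'
    haveI hM : (P'.comap (Ideal.Quotient.mk (J.map (algebraMap A (AdicCompletion I A))))).IsMaximal :=
      Ideal.comap_isMaximal_of_surjective _ Ideal.Quotient.mk_surjective
    have hJM : J.map (algebraMap A (AdicCompletion I A)) ≤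
        P'.comap (Ideal.Quotient.mk (J.map (algebraMap A (AdicCompletion I A)))) := le_comap_mk _ P'
    have hP'eq : (P'.comap (Ideal.Quotient.mk (J.map (algebraMap A (AdicCompletion I A))))).map
        (Ideal.Quotient.mk (J.map (algebraMap A (AdicCompletion I A)))) = P' :=
      Ideal.map_comap_of_surjective _ Ideal.Quotient.mk_surjective _
    obtain ⟨hmmax, -, hmeq⟩ := comap_isMaximal_and_map_comap_eq I fg
      (P'.comap (Ideal.Quotient.mk (J.map (algebraMap A (AdicCompletion I A)))))
    set m := (P'.comap (Ideal.Quotient.mk (J.map (algebraMap A (AdicCompletion I A))))).comap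
      (algebraMap A (AdicCompletion I A)) with hmdef
    have hJm : J ≤ m := Ideal.le_comap_map.trans (Ideal.comap_mono hJM)
    haveI := hmmax
    refine ⟨m.map (Ideal.Quotient.mk J), isMaximal_map_mk_of_le J m hJm, ?_⟩
    rw [map_map_quotient_eq, hmeq, hP'eq]

/-- **Dimension of the completion of a finite module** along an ideal contained in the radical. -/
theorem supportDim_adicCompletion_eq (hI : I ≤ Ring.jacobson A) (M : Type u) [AddCommGroup M]
    [Module A M] [Module.Finite A M] :
    Module.supportDim (AdicCompletion I A) (AdicCompletion I M) = Module.supportDim A M := by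
  rw [← Module.supportDim_eq_of_equiv (AdicCompletion.ofTensorProductEquivOfFiniteNoetherian I M)]
  have hsupp : Module.support (AdicCompletion I A) (AdicCompletion I A ⊗[A] M) =
      PrimeSpectrum.zeroLocus
        ((Module.annihilator A M).map (algebraMap A (AdicCompletion I A)) : Set (AdicCompletion I A)) := by
    ext q
    rw [Groth.Agent.Lib.Helper20.SuppBC.mem_support_baseChange_iff, Module.support_eq_zeroLocus,
      PrimeSpectrum.mem_zeroLocus, PrimeSpectrum.mem_zeroLocus, SetLike.coe_subset_coe,
      SetLike.coe_subset_coe, Ideal.map_le_iff_le_comap]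
    rfl
  rw [Module.supportDim, hsupp, ← ringKrullDim_quotient,
    ringKrullDim_quotient_map_adicCompletion I hI,
    Module.supportDim_eq_ringKrullDim_quotient_annihilator]

end Main

end Groth.Agent.R2.H26.ComplDim
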