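import Mathlib
import Groth.Prelude.Def_Exal2

/-!
# Λ-trivial extensions are pulled back along `B → C` (helper26, for S5832)

For ring maps `Λ → A → B → C`, a `C`-module `L` and a `Λ`-trivial `A`-extension `Y` of `B` by `L`, the `Λ`-algebra
section of `Y` produces a "derivation" `δ : A → L`, and `Y` is the inverse image of the extension `C ⊕ L` with
`A`-algebra structure `a ↦ (a, δ a)`.
-/

set_option autoImplicit false
universe u u' v

namespace Groth.Agent.R2.H26.ExalPull

open Exal

attribute [local instance] Exal.opModule Exal.isCentralScalar_opModule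

section Der

variable {A : Type u'} {C L : Type v} [CommRing A] [CommRing C] [Algebra A C] [AddCommGroup L] [Module C L]

/-- an additive map `A → L` satisfying the Leibniz rule through `A → C` -/
structure DerData (A : Type u') (C L : Type v) [CommRing A] [CommRing C] [Algebra A C] [AddCommGroup L]
    [Module C L] where
  D : A →+ L
  map_one : D 1 = 0
  leibniz : ∀ a b : A, D (a * b) = algebraMap A C a • D b + algebraMap A C b • D a

/-- the ring map `A → C ⊕ L`, `a ↦ (a, δ a)` -/
noncomputable def derHom (D : DerData A C L) : A →+* TrivSqZeroExt C L where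
  toFun x := TrivSqZeroExt.inl (algebraMap A C x) + TrivSqZeroExt.inr (D.D x)
  map_one' := by
    rw [map_one, D.map_one, TrivSqZeroExt.inr_zero, add_zero, TrivSqZeroExt.inl_one]
  map_mul' x y := by
    apply TrivSqZeroExt.ext
    · simp
    · simp only [TrivSqZeroExt.snd_add, TrivSqZeroExt.snd_inl, TrivSqZeroExt.snd_inr, zero_add,
        TrivSqZeroExt.snd_mul, TrivSqZeroExt.fst_add, TrivSqZeroExt.fst_inl, TrivSqZeroExt.fst_inr, add_zero,
        D.leibniz, op_smul_eq_smul]
  map_zero' := by
    rw [map_zero, map_zero, TrivSqZeroExt.inl_zero, TrivSqZeroExt.inr_zero, add_zero]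
  map_add' x y := by
    rw [map_add, map_add, TrivSqZeroExt.inl_add, TrivSqZeroExt.inr_add]
    abel

/-- carrier `C ⊕ L` with the `A`-algebra structure of `derHom` -/
@[nolint unusedArguments]
def Carrier (_D : DerData A C L) : Type v := TrivSqZeroExt C L

instance (D : DerData A C L) : CommRing (Carrier D) := inferInstanceAs (CommRing (TrivSqZeroExt C L))

noncomputable instance (D : DerData A C L) : Algebra A (Carrier D) :=
  (derHom D : A →+* Carrier D).toAlgebra

/-- the `A`-extension of `C` by `L` attached to `D` -/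
noncomputable def extOf (D : DerData A C L) : Ext A C L where
  E := Carrier D
  proj :=
    { toFun := fun x => TrivSqZeroExt.fst x
      map_one' := TrivSqZeroExt.fst_one
      map_mul' := TrivSqZeroExt.fst_mul
      map_zero' := TrivSqZeroExt.fst_zero
      map_add' := TrivSqZeroExt.fst_add
      commutes' := fun x => by
        change TrivSqZeroExt.fst (TrivSqZeroExt.inl (algebraMap A C x) + TrivSqZeroExt.inr (D.D x)) = _
        rw [TrivSqZeroExt.fst_add, TrivSqZeroExt.fst_inl, TrivSqZeroExt.fst_inr, add_zero] }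
  incl := (TrivSqZeroExt.inrHom C L).toAddMonoidHom
  isExtension :=
    { proj_surjective := fun c => ⟨TrivSqZeroExt.inl c, rfl⟩
      incl_injective := TrivSqZeroExt.inr_injective
      exact := fun x => by
        constructor
        · intro hx
          exact ⟨TrivSqZeroExt.snd x, TrivSqZeroExt.ext hx.symm rfl⟩
        · rintro ⟨z, rfl⟩
          rfl
      mul_incl := fun x z => by
        refine TrivSqZeroExt.ext ?_ ?_
        · change TrivSqZeroExt.fst x * 0 = 0
          exact mul_zero _
        · change TrivSqZeroExt.fst x • z + MulOpposite.op (0 : C) • TrivSqZeroExt.snd x = TrivSqZeroExt.fst x • z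
          rw [MulOpposite.op_zero, zero_smul, add_zero] }

lemma snd_mul' (D : DerData A C L) (x y : (extOf D).E) :
    TrivSqZeroExt.snd (x * y : (extOf D).E) =
      TrivSqZeroExt.fst (x : TrivSqZeroExt C L) • TrivSqZeroExt.snd (y : TrivSqZeroExt C L) +
        TrivSqZeroExt.fst (y : TrivSqZeroExt C L) • TrivSqZeroExt.snd (x : TrivSqZeroExt C L) :=
  (TrivSqZeroExt.snd_mul (x : TrivSqZeroExt C L) y).trans (by rw [op_smul_eq_smul])

lemma snd_add' (D : DerData A C L) (x y : (extOf D).E) :
    TrivSqZeroExt.snd (x + y : (extOf D).E) =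
      TrivSqZeroExt.snd (x : TrivSqZeroExt C L) + TrivSqZeroExt.snd (y : TrivSqZeroExt C L) :=
  TrivSqZeroExt.snd_add (x : TrivSqZeroExt C L) y

lemma snd_one' (D : DerData A C L) : TrivSqZeroExt.snd (1 : (extOf D).E) = 0 :=
  TrivSqZeroExt.snd_one (R := C) (M := L)

lemma snd_zero' (D : DerData A C L) : TrivSqZeroExt.snd (0 : (extOf D).E) = 0 :=
  TrivSqZeroExt.snd_zero (R := C) (M := L)

lemma algebraMap_extOf (D : DerData A C L) (a : A) :
    algebraMap A (extOf D).E a = TrivSqZeroExt.inl (algebraMap A C a) + TrivSqZeroExt.inr (D.D a) := rfl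

end Der

section Main

variable {Λ : Type u} {A : Type u'} {B C L : Type v}
  [CommRing Λ] [CommRing A] [CommRing B] [CommRing C] [Algebra Λ A] [Algebra Λ B] [Algebra Λ C]
  [Algebra A B] [Algebra B C] [Algebra A C] [IsScalarTower Λ A B] [IsScalarTower Λ A C] [IsScalarTower A B C]
  [AddCommGroup L] [Module C L] [Module B L] [IsScalarTower B C L]

variable (Y : Exal.Ext A B L) (s : B →+* Y.E) (hs : ∀ b, Y.proj (s b) = b)

include hs in
lemma proj_sub (a : A) : Y.proj (algebraMap A Y.E a - s (algebraMap A B a)) = 0 := by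
  rw [map_sub, hs, AlgHom.commutes, sub_self]

/-- `δ a` is the element of `L` under `a·1 - s(a)` -/
noncomputable def delta (a : A) : L := Y.kerLift _ (proj_sub Y s hs a)

lemma incl_delta (a : A) : Y.incl (delta Y s hs a) = algebraMap A Y.E a - s (algebraMap A B a) :=
  Y.incl_kerLift _ _

lemma incl_mul_incl (z z' : L) : Y.incl z * Y.incl z' = 0 := by
  rw [Y.isExtension.mul_incl, (Y.isExtension.exact _).2 ⟨z, rfl⟩, zero_smul, map_zero]

include hs in
lemma incl_smul (b : B) (z : L) : Y.incl (b • z) = s b * Y.incl z := by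
  rw [Y.isExtension.mul_incl, hs]

lemma incl_smul' (x : Y.E) (z : L) : Y.incl (Y.proj x • z) = x * Y.incl z :=
  (Y.isExtension.mul_incl x z).symm

variable (C) in
/-- the derivation data attached to a section -/
noncomputable def derData : DerData A C L where
  D :=
    { toFun := delta Y s hs
      map_zero' := by
        apply Y.isExtension.incl_injective
        rw [incl_delta, map_zero, map_zero, map_zero, map_zero, sub_zero]
      map_add' := fun a b => by
        apply Y.isExtension.incl_injective
        rw [map_add, incl_delta, incl_delta, incl_delta, map_add, map_add, map_add]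
        abel }
  map_one := by
    apply Y.isExtension.incl_injective
    show Y.incl (delta Y s hs 1) = Y.incl 0
    rw [incl_delta, map_one, map_one, map_one, sub_self, map_zero]
  leibniz := fun a b => by
    apply Y.isExtension.incl_injective
    show Y.incl (delta Y s hs (a * b)) =
      Y.incl (algebraMap A C a • delta Y s hs b + algebraMap A C b • delta Y s hs a)
    rw [map_add, IsScalarTower.algebraMap_apply A B C a, IsScalarTower.algebraMap_apply A B C b,
      algebraMap_smul C (algebraMap A B a), algebraMap_smul C (algebraMap A B b),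
      incl_smul Y s hs, incl_smul Y s hs, incl_delta, incl_delta,
      incl_delta, map_mul, map_mul, map_mul]
    have h := incl_mul_incl Y (delta Y s hs a) (delta Y s hs b)
    rw [incl_delta, incl_delta] at h
    linear_combination h

end Main

section Equiv

variable {Λ : Type u} {A : Type u'} {B C L : Type v}
  [CommRing Λ] [CommRing A] [CommRing B] [CommRing C] [Algebra Λ A] [Algebra Λ B] [Algebra Λ C]
  [Algebra A B] [Algebra B C] [Algebra A C] [IsScalarTower Λ A B] [IsScalarTower Λ A C] [IsScalarTower A B C]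
  [AddCommGroup L] [Module C L] [Module B L] [IsScalarTower B C L]

variable (C) (Y : Exal.Ext A B L) (s : B →+* Y.E) (hs : ∀ b, Y.proj (s b) = b)

/-- the extension of `C` by `L` -/
noncomputable abbrev XX : Exal.Ext A C L := extOf (derData C Y s hs)

lemma fst_eq (x : ((XX C Y s hs).pullback B).E) :
    TrivSqZeroExt.fst (x.1.1 : TrivSqZeroExt C L) = algebraMap B C x.1.2 := by
  obtain ⟨⟨e, b⟩, hx⟩ := x
  have hx' : (XX C Y s hs).proj e = algebraMap B C b := by
    simpa [Exal.Ext.fiberProd, AlgHom.mem_equalizer] using hx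
  exact hx'

/-- the comparison map `E_X ×_C B → E_Y`, `((c, z), b) ↦ s b + i z` -/
noncomputable def psi : ((XX C Y s hs).pullback B).E →ₐ[A] Y.E where
  toFun x := s x.1.2 + Y.incl (TrivSqZeroExt.snd (x.1.1 : TrivSqZeroExt C L))
  map_one' := by
    show s 1 + Y.incl (TrivSqZeroExt.snd (1 : (XX C Y s hs).E)) = 1
    rw [map_one, snd_one', map_zero, add_zero]
  map_mul' x y := by
    show s (x.1.2 * y.1.2) + Y.incl (TrivSqZeroExt.snd (x.1.1 * y.1.1 : (XX C Y s hs).E)) =
      (s x.1.2 + Y.incl (TrivSqZeroExt.snd (x.1.1 : TrivSqZeroExt C L))) *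
        (s y.1.2 + Y.incl (TrivSqZeroExt.snd (y.1.1 : TrivSqZeroExt C L)))
    rw [snd_mul', fst_eq C Y s hs x, fst_eq C Y s hs y,
      algebraMap_smul C x.1.2, algebraMap_smul C y.1.2, map_add, incl_smul Y s hs, incl_smul Y s hs, map_mul]
    have h := incl_mul_incl Y (TrivSqZeroExt.snd (x.1.1 : TrivSqZeroExt C L))
      (TrivSqZeroExt.snd (y.1.1 : TrivSqZeroExt C L))
    linear_combination -h
  map_zero' := by
    show s 0 + Y.incl (TrivSqZeroExt.snd (0 : (XX C Y s hs).E)) = 0
    rw [map_zero, snd_zero', map_zero, add_zero]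
  map_add' x y := by
    show s (x.1.2 + y.1.2) + Y.incl (TrivSqZeroExt.snd (x.1.1 + y.1.1 : (XX C Y s hs).E)) =
      (s x.1.2 + Y.incl (TrivSqZeroExt.snd (x.1.1 : TrivSqZeroExt C L))) +
        (s y.1.2 + Y.incl (TrivSqZeroExt.snd (y.1.1 : TrivSqZeroExt C L)))
    rw [map_add, snd_add', map_add]
    abel
  commutes' a := by
    show s (algebraMap A B a) + Y.incl (TrivSqZeroExt.snd
      (TrivSqZeroExt.inl (algebraMap A C a) + TrivSqZeroExt.inr (delta Y s hs a) : TrivSqZeroExt C L)) = _
    rw [TrivSqZeroExt.snd_add, TrivSqZeroExt.snd_inl, TrivSqZeroExt.snd_inr, zero_add, incl_delta]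
    abel

lemma psi_apply (x : ((XX C Y s hs).pullback B).E) :
    psi C Y s hs x = s x.1.2 + Y.incl (TrivSqZeroExt.snd (x.1.1 : TrivSqZeroExt C L)) := rfl

lemma proj_incl (z : L) : Y.proj (Y.incl z) = 0 := (Y.isExtension.exact _).2 ⟨z, rfl⟩

lemma proj_psi (x : ((XX C Y s hs).pullback B).E) : Y.proj (psi C Y s hs x) = x.1.2 := by
  rw [psi_apply, map_add, hs, proj_incl, add_zero]

lemma psi_bijective : Function.Bijective (psi C Y s hs) := by
  constructor
  · rw [injective_iff_map_eq_zero]
    intro x hx
    have h1 : x.1.2 = 0 := by rw [← proj_psi C Y s hs x, hx, map_zero]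
    have h2 : TrivSqZeroExt.snd (x.1.1 : TrivSqZeroExt C L) = 0 := by
      rw [psi_apply, h1, map_zero, zero_add] at hx
      exact Y.isExtension.incl_injective (hx.trans (map_zero _).symm)
    have h3 : TrivSqZeroExt.fst (x.1.1 : TrivSqZeroExt C L) = 0 := by
      rw [fst_eq C Y s hs x, h1, map_zero]
    apply Subtype.ext
    apply Prod.ext
    · exact TrivSqZeroExt.ext h3 h2
    · exact h1
  · intro y
    have hy : Y.proj (y - s (Y.proj y)) = 0 := by rw [map_sub, hs, sub_self]
    refine ⟨⟨((TrivSqZeroExt.inl (algebraMap B C (Y.proj y)) +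
      TrivSqZeroExt.inr (Y.kerLift _ hy) : TrivSqZeroExt C L), Y.proj y), ?_⟩, ?_⟩
    · show (XX C Y s hs).proj _ = algebraMap B C (Y.proj y)
      show TrivSqZeroExt.fst (TrivSqZeroExt.inl (algebraMap B C (Y.proj y)) +
        TrivSqZeroExt.inr (Y.kerLift _ hy) : TrivSqZeroExt C L) = _
      rw [TrivSqZeroExt.fst_add, TrivSqZeroExt.fst_inl, TrivSqZeroExt.fst_inr, add_zero]
    · rw [psi_apply]
      show s (Y.proj y) + Y.incl (TrivSqZeroExt.snd (TrivSqZeroExt.inl (algebraMap B C (Y.proj y)) +
        TrivSqZeroExt.inr (Y.kerLift _ hy) : TrivSqZeroExt C L)) = y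
      rw [TrivSqZeroExt.snd_add, TrivSqZeroExt.snd_inl, TrivSqZeroExt.snd_inr, zero_add, Y.incl_kerLift]
      abel

/-- the inverse image of `X` along `B → C` is equivalent to `Y` -/
noncomputable def pullbackEquiv : ((XX C Y s hs).pullback B).Equiv Y where
  toAlgEquiv := AlgEquiv.ofBijective (psi C Y s hs) (psi_bijective C Y s hs)
  proj_apply x := proj_psi C Y s hs x
  apply_incl z := by
    show psi C Y s hs _ = Y.incl z
    rw [psi_apply]
    show s 0 + Y.incl (TrivSqZeroExt.snd (TrivSqZeroExt.inr z : TrivSqZeroExt C L)) = Y.incl z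
    rw [map_zero, zero_add, TrivSqZeroExt.snd_inr]

end Equiv

section Triv

variable {Λ : Type u} {A : Type u'} {B C L : Type v}
  [CommRing Λ] [CommRing A] [CommRing B] [CommRing C] [Algebra Λ A] [Algebra Λ B] [Algebra Λ C]
  [Algebra A B] [Algebra B C] [Algebra A C] [IsScalarTower Λ A B] [IsScalarTower Λ A C] [IsScalarTower A B C]
  [AddCommGroup L] [Module C L] [Module B L] [IsScalarTower B C L]

variable (C) (Y : Exal.Ext A B L) (s : B →ₐ[Λ] (Y.restrictBase Λ).E)
  (hs : ∀ b, (Y.restrictBase Λ).proj (s b) = b)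

/-- the section as a ring map into the middle ring -/
def secRingHom : B →+* Y.E := s.toRingHom

include hs in
lemma proj_secRingHom (b : B) : Y.proj (secRingHom Y s b) = b := hs b

lemma delta_algebraMap (l : Λ) :
    delta Y (secRingHom Y s) (proj_secRingHom Y s hs) (algebraMap Λ A l) = 0 := by
  apply Y.isExtension.incl_injective
  rw [incl_delta, map_zero, ← IsScalarTower.algebraMap_apply Λ A B]
  have h := s.commutes l
  have h' : secRingHom Y s (algebraMap Λ B l) = algebraMap A Y.E (algebraMap Λ A l) := h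
  rw [h', sub_self]

/-- the extension `X` is trivial over `Λ` -/
lemma isTrivialOver_XX :
    (XX C Y (secRingHom Y s) (proj_secRingHom Y s hs)).IsTrivialOver Λ := by
  refine ⟨{ toFun := fun c => (TrivSqZeroExt.inl c : TrivSqZeroExt C L)
            map_one' := TrivSqZeroExt.inl_one L
            map_mul' := fun x y => TrivSqZeroExt.inl_mul L x y
            map_zero' := TrivSqZeroExt.inl_zero L
            map_add' := fun x y => TrivSqZeroExt.inl_add L x y
            commutes' := ?_ }, fun c => rfl⟩
  intro l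
  show (TrivSqZeroExt.inl (algebraMap Λ C l) : TrivSqZeroExt C L) =
    TrivSqZeroExt.inl (algebraMap A C (algebraMap Λ A l)) +
      TrivSqZeroExt.inr (delta Y (secRingHom Y s) (proj_secRingHom Y s hs) (algebraMap Λ A l))
  rw [delta_algebraMap Y s hs, TrivSqZeroExt.inr_zero, add_zero, ← IsScalarTower.algebraMap_apply Λ A C]

/-- S5832 -/
theorem exists_pullback_equiv (hY : Y.IsTrivialOver Λ) :
    ∃ X : Exal.Ext A C L, X.IsTrivialOver Λ ∧ Nonempty ((X.pullback B).Equiv Y) := by
  obtain ⟨s, hs⟩ := hY
  exact ⟨XX C Y (secRingHom Y s) (proj_secRingHom Y s hs), isTrivialOver_XX C Y s hs,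
    ⟨pullbackEquiv C Y (secRingHom Y s) (proj_secRingHom Y s hs)⟩⟩

end Triv

end Groth.Agent.R2.H26.ExalPull
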