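import Mathlib
import Groth.Prelude.Def_DerCA
import Groth.Prelude.Def_Wider
import Groth.Agent.Lib.Helper1ExtCech4
import Groth.Agent.Lib.Helper1ExtCech2
import Groth.Agent.Lib.Helper1Extend
import Groth.Agent.Lib.Helper17ExactAdj

/-!
# Ext base change for power-torsion modules along a flat map inducing `A/I ≅ B/IB` (helper26)

Toolkit for `LocCoh.ext_baseChange_bijective_of_powerTorsion` (S1731), without any `RΓ_I` theory:

* `bijective_comp_shift_mor₁`: in a pretriangulated category, if all maps `X ⟶ T.obj₃⟦j⟧` vanish then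
  composition with `T.mor₁⟦i⟧'` is bijective on maps out of `X`.
* `hom_shift_eq_zero_of_termLocal`: Bousfield-type vanishing `Hom_{D(R)}(X, Y[j]) = 0` when the termwise
  localisation map of `X` is zero and `Y` is termwise `S`-local.
* `nonempty_addEquiv_extCech`: Čech dévissage for a triangulated endofunctor `G` of `D(R)`.
* `bijective_one_tmul`: `T → B ⊗_A T` is bijective for `I`-power torsion `T`.
* `quasiIso_unitCx`: `K → B ⊗_A K` is a quasi-isomorphism when the unit is bijective on cohomology.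
* `nonempty_addEquiv`: the main theorem.
-/

set_option autoImplicit false
universe v u
open CategoryTheory CategoryTheory.Limits CategoryTheory.Pretriangulated
open scoped TensorProduct
attribute [local instance] HasDerivedCategory.standard

namespace Groth.Agent.R2.H26.ExtTors

open DerCA DerivedCategory Groth.Agent.Lib.Helper1.ExtCech Groth.Agent.Lib.Helper1.ExtCech4

section Tri

variable {C : Type u} [Category.{v} C] [Preadditive C] [HasZeroObject C] [HasShift C ℤ]
  [∀ n : ℤ, (shiftFunctor C n).Additive] [Pretriangulated C]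

/-- If all maps from `X` to all shifts of the third vertex of a distinguished triangle vanish, then
composition with (a shift of) the first map of the triangle is bijective on maps out of `X`. -/
theorem bijective_comp_shift_mor₁ (T : Triangle C) (hT : T ∈ distTriang C) (X : C)
    (h : ∀ (j : ℤ) (g : X ⟶ T.obj₃⟦j⟧), g = 0) (i : ℤ) :
    Function.Bijective (fun g : X ⟶ T.obj₁⟦i⟧ => g ≫ T.mor₁⟦i⟧') := by
  have hTi := Triangle.shift_distinguished T hT i
  constructor
  · intro g₁ g₂ hg
    have h0 : (g₁ - g₂) ≫ T.mor₁⟦i⟧' = 0 := by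
      rw [Preadditive.sub_comp]; exact sub_eq_zero.2 hg
    have hinv := inv_rot_of_distTriang _ hTi
    have h1 : (g₁ - g₂) ≫ ((Triangle.shiftFunctor C i).obj T).invRotate.mor₂ = 0 := by
      show (g₁ - g₂) ≫ ((i.negOnePow : ℤ) • T.mor₁⟦i⟧') = 0
      rw [Preadditive.comp_zsmul, h0, smul_zero]
    obtain ⟨(g' : X ⟶ (T.obj₃⟦i⟧)⟦(-1 : ℤ)⟧), hg'⟩ :=
      Triangle.coyoneda_exact₂ _ hinv (g₁ - g₂) h1
    have hg'0 : g' = 0 := by
      have := h (i + (-1)) (g' ≫ (shiftFunctorAdd' C i (-1) (i + (-1)) rfl).inv.app T.obj₃)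
      rw [← cancel_mono ((shiftFunctorAdd' C i (-1) (i + (-1)) rfl).inv.app T.obj₃), this,
        zero_comp]
    rw [hg'0] at hg'
    have hg'' : g₁ - g₂ = 0 := hg'.trans zero_comp
    exact sub_eq_zero.1 hg''
  · intro k
    have h1 : k ≫ ((Triangle.shiftFunctor C i).obj T).mor₂ = 0 := h i _
    obtain ⟨(g : X ⟶ T.obj₁⟦i⟧), hg⟩ := Triangle.coyoneda_exact₂ _ hTi k h1
    refine ⟨(i.negOnePow : ℤ) • g, ?_⟩
    have hg2 : k = g ≫ ((i.negOnePow : ℤ) • T.mor₁⟦i⟧') := hg
    show ((i.negOnePow : ℤ) • g) ≫ T.mor₁⟦i⟧' = k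
    rw [hg2, Preadditive.comp_zsmul, Preadditive.zsmul_comp]


/-- post-composition as an additive equivalence, given bijectivity -/
noncomputable def compAddEquiv {X Y Z : C} (f : Y ⟶ Z)
    (h : Function.Bijective (fun g : X ⟶ Y => g ≫ f)) : (X ⟶ Y) ≃+ (X ⟶ Z) :=
  AddEquiv.ofBijective
    ({ toFun := fun g => g ≫ f
       map_zero' := zero_comp
       map_add' := fun _ _ => Preadditive.add_comp _ _ _ _ _ _ } : (X ⟶ Y) →+ (X ⟶ Z)) h

end Tri

variable {R : Type u} [CommRing R]

/-- A complex is termwise `S`-local: every localisation map of its terms is an isomorphism. -/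
def TermLocal (S : Submonoid R) (Y : DRing.Cx R) : Prop :=
  ∀ i : ℤ, IsIso ((locUnit S).app (Y.X i))

lemma TermLocal.isIso_locCxUnit {S : Submonoid R} {Y : DRing.Cx R} (h : TermLocal S Y) :
    IsIso (locCxUnit S Y) := by
  have : ∀ i, IsIso ((locCxUnit S Y).f i) := fun i => h i
  exact HomologicalComplex.Hom.isIso_of_components _

lemma TermLocal.shift {S : Submonoid R} {Y : DRing.Cx R} (h : TermLocal S Y) (j : ℤ) :
    TermLocal S (Y⟦j⟧) := fun i => h (i + j)

/-- **Bousfield-type vanishing.** If the localisation map of `X` is zero (e.g. `X` is a torsion module in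
degree `0`) and `Y` is termwise `S`-local, every morphism `X ⟶ Y` of `D(R)` vanishes. -/
theorem hom_eq_zero_of_termLocal (S : Submonoid R) (X Y : DRing.Cx R)
    (hX : locCxUnit S X = 0) (hY : TermLocal S Y) (g : Q.obj X ⟶ Q.obj Y) : g = 0 := by
  obtain ⟨Y', a, s, hs, rfl⟩ := left_fac g
  have ha : a ≫ locCxUnit S Y' = 0 := by
    rw [← locCxUnit_naturality, hX, zero_comp]
  have hsq : QuasiIso s := (isIso_Q_map_iff_quasiIso (φ := s)).1 hs
  have := hY.isIso_locCxUnit
  have hs2 : IsIso (Q.map (s ≫ locCxUnit S Y')) := by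
    rw [← locCxUnit_naturality, Functor.map_comp]
    have : QuasiIso ((locCx S).map s) := inferInstance
    have : IsIso (Q.map ((locCx S).map s)) := (isIso_Q_map_iff_quasiIso (φ := (locCx S).map s)).2 inferInstance
    infer_instance
  rw [← cancel_mono (Q.map (s ≫ locCxUnit S Y')), zero_comp, Functor.map_comp, Category.assoc,
    IsIso.inv_hom_id_assoc, ← Functor.map_comp, ha, Functor.map_zero]

/-- Shifted version. -/
theorem hom_shift_eq_zero_of_termLocal (S : Submonoid R) (X Y : DRing.Cx R)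
    (hX : locCxUnit S X = 0) (hY : TermLocal S Y) (j : ℤ) (g : Q.obj X ⟶ (Q.obj Y)⟦j⟧) : g = 0 := by
  have := hom_eq_zero_of_termLocal S X (Y⟦j⟧) hX (hY.shift j)
    (g ≫ ((Q.commShiftIso j).app Y).inv)
  rw [← cancel_mono ((Q.commShiftIso j).app Y).inv, this, zero_comp]



/-- **Čech devissage.** Let `G` be a triangulated endofunctor of `D(R)` and `X` an object such that all maps
from `X` to shifts of `G` of an `f`-localised complex vanish, for every `f` in the list.  Then maps from `X`
to shifts of `G` of the extended Čech complex of `N` are the same as maps to shifts of `G(N[0])`. -/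
theorem nonempty_addEquiv_extCech (G : DerivedCategory (ModuleCat.{u} R) ⥤ DerivedCategory (ModuleCat.{u} R))
    [G.CommShift ℤ] [G.IsTriangulated] (X : DerivedCategory (ModuleCat.{u} R)) (N : ModuleCat.{u} R) :
    ∀ (fs : List R)
    (_ : ∀ f ∈ fs, ∀ (Y : DRing.Cx R) (j : ℤ)
      (g : X ⟶ (G.obj (Q.obj ((locCx (Submonoid.powers f)).obj Y)))⟦j⟧), g = 0) (i : ℤ),
    Nonempty ((X ⟶ (G.obj (Q.obj (extCech N fs)))⟦i⟧) ≃+ (X ⟶ (G.obj (Q.obj (extCech N [])))⟦i⟧))
  | [], _, _ => ⟨AddEquiv.refl _⟩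
  | f :: fs, hvan, i => by
    obtain ⟨e⟩ := nonempty_addEquiv_extCech G X N fs
      (fun f' hf' => hvan f' (List.mem_cons_of_mem _ hf')) i
    let φ := locCxUnit (Submonoid.powers f) (extCech N fs)
    have hT : G.mapTriangle.obj (Q.mapTriangle.obj (CochainComplex.mappingCocone.triangle φ)) ∈
        distTriang _ := G.map_distinguished _ (mappingCocone_triangle_distinguished φ)
    have hb := bijective_comp_shift_mor₁ _ hT X
      (fun j g => hvan f (List.mem_cons_self) (extCech N fs) j g) i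
    exact ⟨(compAddEquiv _ hb).trans e⟩

/-- `s` acts bijectively on the module `Z`. -/
def ActsBij (s : R) (Z : Type u) [AddCommGroup Z] [Module R Z] : Prop :=
  Function.Bijective (fun z : Z => s • z)

lemma isIso_locUnit_of_actsBij (S : Submonoid R) (Z : ModuleCat.{u} R)
    (h : ∀ s ∈ S, ActsBij s Z) : IsIso ((locUnit S).app Z) := by
  rw [ConcreteCategory.isIso_iff_bijective]
  let f := LocalizedModule.mkLinearMap S Z
  show Function.Bijective f
  constructor
  · rw [injective_iff_map_eq_zero]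
    intro z hz
    obtain ⟨s, hs⟩ := (IsLocalizedModule.eq_zero_iff S f).1 hz
    exact (h s s.2).1 (show (s : R) • z = (s : R) • (0 : Z) from hs.trans (smul_zero _).symm)
  · intro y
    obtain ⟨⟨m, s⟩, hms⟩ := IsLocalizedModule.surj S f y
    obtain ⟨m', hm'⟩ := (h s s.2).2 m
    refine ⟨m', ?_⟩
    apply IsLocalizedModule.smul_injective f s
    show s • f m' = s • y
    have hm'' : (s : R) • m' = m := hm'
    have : s • f m' = f m := by
      rw [← hm'', map_smul]; rfl
    rw [this]; exact hms.symm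

lemma actsBij_localizedModule (S : Submonoid R) (Z : Type u) [AddCommGroup Z] [Module R Z]
    (s : R) (hs : s ∈ S) : ActsBij s (LocalizedModule S Z) := by
  have := IsLocalizedModule.map_units (LocalizedModule.mkLinearMap S Z) ⟨s, hs⟩
  exact (Module.End.isUnit_iff _).1 this

lemma termLocal_locCx (S : Submonoid R) (Y : DRing.Cx R) : TermLocal S ((locCx S).obj Y) := fun i =>
  isIso_locUnit_of_actsBij S _ (fun s hs => actsBij_localizedModule S (Y.X i) s hs)

/-- Piece B: the localisation map of a torsion module placed in degree `0` vanishes. -/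
lemma locCxUnit_single_eq_zero (g : R) (M : ModuleCat.{u} R)
    (hM : ∀ m : M, ∃ n : ℕ, g ^ n • m = 0) :
    locCxUnit (Submonoid.powers g)
      ((HomologicalComplex.single (ModuleCat.{u} R) (ComplexShape.up ℤ) 0).obj M) = 0 := by
  apply HomologicalComplex.from_single_hom_ext
  have h0 : (locUnit (Submonoid.powers g)).app M = 0 := by
    ext m
    obtain ⟨n, hn⟩ := hM m
    show LocalizedModule.mkLinearMap (Submonoid.powers g) M m = 0
    rw [IsLocalizedModule.eq_zero_iff (Submonoid.powers g)]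
    exact ⟨⟨g ^ n, n, rfl⟩, hn⟩
  have hnat := (locUnit (Submonoid.powers g)).naturality
    (HomologicalComplex.singleObjXSelf (ComplexShape.up ℤ) (0 : ℤ) M).inv
  rw [h0, zero_comp] at hnat
  have hiso : IsIso ((𝟭 (ModuleCat.{u} R)).map
      (HomologicalComplex.singleObjXSelf (ComplexShape.up ℤ) (0 : ℤ) M).inv) := by
    dsimp; infer_instance
  show (locUnit (Submonoid.powers g)).app _ = 0
  rw [← cancel_epi ((𝟭 (ModuleCat.{u} R)).map
      (HomologicalComplex.singleObjXSelf (ComplexShape.up ℤ) (0 : ℤ) M).inv)]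
  exact hnat.trans comp_zero.symm

lemma actsBij_iff_isIso (s : R) (Z : ModuleCat.{u} R) : ActsBij s Z ↔ IsIso (s • 𝟙 Z) := by
  rw [ConcreteCategory.isIso_iff_bijective]
  rfl

section Ext

variable {A B : Type u} [CommRing A] [CommRing B] [Algebra A B]

open Groth.Agent.Lib.Helper1.Extend ModuleCat ChangeOfRings

/-- `ext` is "linear": it takes multiplication by `a` to multiplication by `φ a`. -/
lemma ext_map_smul_id (a : A) (Z : ModuleCat.{u} A) :
    (ext A B).map (a • 𝟙 Z) = (algebraMap A B a) • 𝟙 ((ext A B).obj Z) := by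
  apply ModuleCat.ExtendScalars.hom_ext
  intro m
  have h1 : ((ext A B).map (a • 𝟙 Z)) ((1 : B) ⊗ₜ[A,(algebraMap A B)] m) =
      (1 : B) ⊗ₜ[A,(algebraMap A B)] (a • m) := rfl
  have h2 : ((algebraMap A B a) • 𝟙 ((ext A B).obj Z)) ((1 : B) ⊗ₜ[A,(algebraMap A B)] m) =
      (algebraMap A B a * 1) ⊗ₜ[A,(algebraMap A B)] m := rfl
  have h3 : (algebraMap A B a * 1) ⊗ₜ[A,(algebraMap A B)] m =
      (1 : B) ⊗ₜ[A,(algebraMap A B)] (a • m) :=
    TensorProduct.smul_tmul (R := A) (R' := A)
      (M := (ModuleCat.restrictScalars (algebraMap A B)).obj (ModuleCat.of B B)) (N := Z) a (show ((ModuleCat.restrictScalars (algebraMap A B)).obj (ModuleCat.of B B)) from (1 : B)) m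
  exact h1.trans (h3.symm.trans h2.symm)

lemma actsBij_ext (a : A) (Z : ModuleCat.{u} A) (h : ActsBij a Z) :
    ActsBij a ((ModuleCat.restrictScalars (algebraMap A B)).obj ((ext A B).obj Z)) := by
  rw [actsBij_iff_isIso] at h
  have h1 : IsIso ((ext A B).map (a • 𝟙 Z)) := inferInstance
  rw [ext_map_smul_id, ← actsBij_iff_isIso] at h1
  exact h1

end Ext

section Fact1

variable {A B : Type u} [CommRing A] [CommRing B] [Algebra A B] (I : Ideal A)

/-- `B = φ(A) + I B` from surjectivity of `A → B/IB`. -/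
lemma top_eq_range_sup_smul
    (hs : Function.Surjective ((Ideal.Quotient.mk (I.map (algebraMap A B))).comp (algebraMap A B))) :
    (⊤ : Submodule A B) = LinearMap.range (Algebra.linearMap A B) ⊔ I • (⊤ : Submodule A B) := by
  refine le_antisymm ?_ le_top
  intro b _
  obtain ⟨a, ha⟩ := hs (Ideal.Quotient.mk _ b)
  have hmem : b - algebraMap A B a ∈ I.map (algebraMap A B) := by
    rw [← Ideal.Quotient.eq]; exact ha.symm
  rw [Submodule.mem_sup]
  refine ⟨algebraMap A B a, ⟨a, rfl⟩, b - algebraMap A B a, ?_, by ring⟩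
  rw [Ideal.smul_top_eq_map]; exact hmem

/-- `B = φ(A) + I^n B`. -/
lemma top_eq_range_sup_pow_smul
    (hs : Function.Surjective ((Ideal.Quotient.mk (I.map (algebraMap A B))).comp (algebraMap A B)))
    (n : ℕ) :
    (⊤ : Submodule A B) = LinearMap.range (Algebra.linearMap A B) ⊔ (I ^ n) • (⊤ : Submodule A B) := by
  induction n with
  | zero =>
    rw [pow_zero, Ideal.one_eq_top, Submodule.top_smul]
    exact (sup_of_le_right le_top).symm
  | succ n ih =>
    refine le_antisymm ?_ le_top
    have h1 := top_eq_range_sup_smul I hs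
    calc (⊤ : Submodule A B) = LinearMap.range (Algebra.linearMap A B) ⊔ I • (⊤ : Submodule A B) := h1
      _ = LinearMap.range (Algebra.linearMap A B) ⊔
            I • (LinearMap.range (Algebra.linearMap A B) ⊔ (I ^ n) • (⊤ : Submodule A B)) := by
          rw [← ih]
      _ ≤ LinearMap.range (Algebra.linearMap A B) ⊔ (I ^ (n + 1)) • (⊤ : Submodule A B) := by
          rw [Submodule.smul_sup, ← Submodule.mul_smul, ← pow_succ']
          refine sup_le le_sup_left (sup_le ?_ le_sup_right)
          exact Submodule.smul_le_right.trans le_sup_left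

variable {I}

lemma surjective_one_tmul
    (hs : Function.Surjective ((Ideal.Quotient.mk (I.map (algebraMap A B))).comp (algebraMap A B)))
    (T : Type u) [AddCommGroup T] [Module A T] (hT : LocCoh.IsPowerTorsion I T) :
    Function.Surjective (fun t : T => (1 : B) ⊗ₜ[A] t) := by
  intro w
  induction w using TensorProduct.induction_on with
  | zero => exact ⟨0, by simp⟩
  | tmul b t =>
    obtain ⟨n, hn⟩ := hT t
    have hb : b ∈ (⊤ : Submodule A B) := trivial
    rw [top_eq_range_sup_pow_smul I hs n, Submodule.mem_sup] at hb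
    obtain ⟨_, ⟨a, rfl⟩, y, hy, rfl⟩ := hb
    refine ⟨a • t, ?_⟩
    have hy0 : y ⊗ₜ[A] t = 0 := by
      refine Submodule.smul_induction_on hy ?_ ?_
      · intro x hx c _
        rw [TensorProduct.smul_tmul, hn x hx, TensorProduct.tmul_zero]
      · intro y1 y2 h1 h2; rw [TensorProduct.add_tmul, h1, h2, add_zero]
    show (1 : B) ⊗ₜ[A] (a • t) = (Algebra.linearMap A B a + y) ⊗ₜ[A] t
    rw [TensorProduct.add_tmul, hy0, add_zero, Algebra.linearMap_apply,
      Algebra.algebraMap_eq_smul_one, TensorProduct.smul_tmul]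
  | add w1 w2 h1 h2 =>
    obtain ⟨t1, rfl⟩ := h1; obtain ⟨t2, rfl⟩ := h2
    exact ⟨t1 + t2, TensorProduct.tmul_add _ _ _⟩

lemma injective_one_tmul [Module.Flat A B]
    (hs : Function.Surjective ((Ideal.Quotient.mk (I.map (algebraMap A B))).comp (algebraMap A B)))
    (hk : RingHom.ker ((Ideal.Quotient.mk (I.map (algebraMap A B))).comp (algebraMap A B)) = I)
    (T : Type u) [AddCommGroup T] [Module A T] (hT : LocCoh.IsPowerTorsion I T) :
    Function.Injective (fun t : T => (1 : B) ⊗ₜ[A] t) := by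
  intro x y hxy
  have h0 : (1 : B) ⊗ₜ[A] (x - y) = 0 := by
    rw [TensorProduct.tmul_sub]; exact sub_eq_zero.2 hxy
  suffices x - y = 0 from sub_eq_zero.1 this
  generalize x - y = z at h0
  let g : A →ₗ[A] T := LinearMap.toSpanSingleton A T z
  let J : Ideal A := LinearMap.ker g
  let g' : (A ⧸ J) →ₗ[A] T := Submodule.liftQ J g le_rfl
  have hg' : Function.Injective g' := by
    rw [← LinearMap.ker_eq_bot]; exact Submodule.ker_liftQ_eq_bot _ _ _ le_rfl
  have hfl : Function.Injective (g'.lTensor B) :=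
    Module.Flat.lTensor_preserves_injective_linearMap g' hg'
  have h1 : (1 : B) ⊗ₜ[A] (Ideal.Quotient.mk J 1) = 0 := by
    apply hfl
    rw [LinearMap.lTensor_tmul, map_zero]
    have : g' (Ideal.Quotient.mk J 1) = z := by
      show g 1 = z
      simp [g]
    rw [this]; exact h0
  have h2 : (1 : B) ∈ J • (⊤ : Submodule A B) := by
    have := congrArg (TensorProduct.tensorQuotEquivQuotSMul B J) h1
    rw [map_zero, TensorProduct.tensorQuotEquivQuotSMul_tmul_mk, one_smul] at this
    exact (Submodule.Quotient.mk_eq_zero _).1 this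
  -- `J B ⊆ φ(J) + I B`
  have h3 : J • (⊤ : Submodule A B) ≤
      Submodule.map (Algebra.linearMap A B) J ⊔ I • (⊤ : Submodule A B) := by
    conv_lhs => rw [top_eq_range_sup_smul I hs, Submodule.smul_sup]
    refine sup_le ?_ ?_
    · rw [Submodule.smul_le]
      rintro j hj _ ⟨a, rfl⟩
      refine Submodule.mem_sup_left ⟨j * a, J.mul_mem_right a hj, ?_⟩
      simp [Algebra.smul_def]
    · exact Submodule.smul_le_right.trans le_sup_right
  obtain ⟨_, ⟨j, hj, rfl⟩, e, he, hje⟩ := Submodule.mem_sup.1 (h3 h2)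
  rw [Ideal.smul_top_eq_map] at he
  have h4 : (1 - j) ∈ I := by
    rw [← hk, RingHom.mem_ker, RingHom.comp_apply, map_sub, map_one]
    have : (1 : B) - algebraMap A B j = e := by
      rw [← hje]; simp
    rw [this]
    exact Ideal.Quotient.eq_zero_iff_mem.2 he
  have h5 : J ⊔ I = ⊤ := by
    rw [Ideal.eq_top_iff_one]
    have : (1 : A) = j + (1 - j) := by ring
    rw [this]
    exact Submodule.add_mem_sup hj h4
  obtain ⟨n, hn⟩ := hT z
  have h6 : I ^ n ≤ J := fun a ha => by
    show g a = 0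
    simpa [g] using hn a ha
  have h7 : J = ⊤ := by
    have := Ideal.sup_pow_eq_top (n := n) h5
    rwa [sup_eq_left.2 h6] at this
  have h8 : (1 : A) ∈ J := by rw [h7]; trivial
  have : g 1 = 0 := h8
  simpa [g] using this

theorem bijective_one_tmul [Module.Flat A B]
    (hs : Function.Surjective ((Ideal.Quotient.mk (I.map (algebraMap A B))).comp (algebraMap A B)))
    (hk : RingHom.ker ((Ideal.Quotient.mk (I.map (algebraMap A B))).comp (algebraMap A B)) = I)
    (T : Type u) [AddCommGroup T] [Module A T] (hT : LocCoh.IsPowerTorsion I T) :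
    Function.Bijective (fun t : T => (1 : B) ⊗ₜ[A] t) :=
  ⟨injective_one_tmul hs hk T hT, surjective_one_tmul hs T hT⟩

end Fact1

section Unit

variable (A B : Type u) [CommRing A] [CommRing B] [Algebra A B]

open Groth.Agent.Lib.Helper1.Extend ModuleCat ChangeOfRings

/-- `Ψ = restrict ∘ ext`, the endofunctor `N ↦ B ⊗_A N` of `A`-modules. -/
noncomputable abbrev Psi : ModuleCat.{u} A ⥤ ModuleCat.{u} A :=
  ext A B ⋙ ModuleCat.restrictScalars.{u} (algebraMap A B)

/-- the unit `N ⟶ B ⊗_A N`. -/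
noncomputable abbrev unitNT : 𝟭 (ModuleCat.{u} A) ⟶ Psi A B :=
  (ModuleCat.extendRestrictScalarsAdj.{u, u, u} (algebraMap A B)).unit

variable {A B}

/-- the termwise unit map `K ⟶ B ⊗_A K` of complexes. -/
noncomputable def unitCx (K : DRing.Cx A) :
    K ⟶ ((Psi A B).mapHomologicalComplex (ComplexShape.up ℤ)).obj K where
  f i := (unitNT A B).app (K.X i)
  comm' i j _ := ((unitNT A B).naturality (K.d i j)).symm

variable [Module.Flat A B]

lemma quasiIso_unitCx (K : DRing.Cx A) (h : ∀ j, IsIso ((unitNT A B).app (K.homology j))) :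
    QuasiIso (unitCx (B := B) K) := by
  rw [quasiIso_iff]
  intro j
  rw [quasiIsoAt_iff_isIso_homologyMap]
  have e : HomologicalComplex.homologyMap (unitCx (B := B) K) j =
      ShortComplex.homologyMap ((K.sc j).mapNatTrans (unitNT A B)) := rfl
  rw [e, ShortComplex.homologyMap_mapNatTrans]
  have h1 : IsIso ((unitNT A B).app (HomologicalComplex.sc K j).homology) := h j
  have h2 : IsIso ((unitNT A B).app (HomologicalComplex.sc K j).homology ≫
        ((HomologicalComplex.sc K j).mapHomologyIso (Psi A B)).inv) :=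
    IsIso.comp_isIso' h1 inferInstance
  exact IsIso.comp_isIso' inferInstance h2

end Unit


section Main

variable {A B : Type u} [CommRing A] [CommRing B] [Algebra A B] [Module.Flat A B]

open Groth.Agent.Lib.Helper1.Extend Groth.Agent.Lib.Helper1.Restrict

/-- post-composition with an isomorphism, as an additive equivalence -/
noncomputable def postIsoAddEquiv {C : Type*} [Category C] [Preadditive C] {X Y Z : C} (e : Y ≅ Z) :
    (X ⟶ Y) ≃+ (X ⟶ Z) where
  toFun g := g ≫ e.hom
  invFun g := g ≫ e.inv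
  left_inv g := by simp
  right_inv g := by simp
  map_add' _ _ := Preadditive.add_comp _ _ _ _ _ _

/-- pre-composition with an isomorphism, as an additive equivalence -/
noncomputable def preIsoAddEquiv {C : Type*} [Category C] [Preadditive C] {X Y Z : C} (e : X ≅ Y) :
    (X ⟶ Z) ≃+ (Y ⟶ Z) where
  toFun g := e.inv ≫ g
  invFun g := e.hom ≫ g
  left_inv g := by simp
  right_inv g := by simp
  map_add' _ _ := Preadditive.comp_add _ _ _ _ _ _

variable (A B) in
/-- `G = restrictD ∘ extD : D(A) ⥤ D(A)`, i.e. `K ↦ B ⊗_A K`. -/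
noncomputable abbrev GD : Dual.D A ⥤ Dual.D A := extD A B ⋙ DRing.restrictD (algebraMap A B)

/-- `G (Q K) ≅ Q (B ⊗_A K)` -/
noncomputable def gdQIso (K : DRing.Cx A) :
    (GD A B).obj (Q.obj K) ≅
      Q.obj (((Psi A B).mapHomologicalComplex (ComplexShape.up ℤ)).obj K) :=
  (DRing.restrictD (algebraMap A B)).mapIso ((ext A B).mapDerivedCategoryFactors.app K) ≪≫
    (ModuleCat.restrictScalars.{u} (algebraMap A B)).mapDerivedCategoryFactors.app
      (((ext A B).mapHomologicalComplex (ComplexShape.up ℤ)).obj K)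

/-- vanishing of maps from a `g`-power torsion module to `B ⊗_A` of a `g`-localised complex -/
lemma hom_GD_locCx_eq_zero (g : A) (M : ModuleCat.{u} A) (hM : ∀ m : M, ∃ n : ℕ, g ^ n • m = 0)
    (Y : DRing.Cx A) (j : ℤ)
    (h : Q.obj ((HomologicalComplex.single (ModuleCat.{u} A) (ComplexShape.up ℤ) 0).obj M) ⟶
      ((GD A B).obj (Q.obj ((locCx (Submonoid.powers g)).obj Y)))⟦j⟧) : h = 0 := by
  let e := gdQIso (B := B) ((locCx (Submonoid.powers g)).obj Y)
  have hY : TermLocal (Submonoid.powers g)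
      (((Psi A B).mapHomologicalComplex (ComplexShape.up ℤ)).obj
        ((locCx (Submonoid.powers g)).obj Y)) := fun i =>
    isIso_locUnit_of_actsBij _ _ (fun s hs => actsBij_ext s _
      (actsBij_localizedModule (Submonoid.powers g) (Y.X i) s hs))
  have := hom_shift_eq_zero_of_termLocal (Submonoid.powers g) _ _
    (locCxUnit_single_eq_zero g M hM) hY j (h ≫ e.hom⟦j⟧')
  rw [← cancel_mono (e.hom⟦j⟧'), this, zero_comp]

/-- vanishing of maps from a `g`-power torsion module to a `g`-localised complex -/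
lemma hom_locCx_eq_zero (g : A) (M : ModuleCat.{u} A) (hM : ∀ m : M, ∃ n : ℕ, g ^ n • m = 0)
    (Y : DRing.Cx A) (j : ℤ)
    (h : Q.obj ((HomologicalComplex.single (ModuleCat.{u} A) (ComplexShape.up ℤ) 0).obj M) ⟶
      ((𝟭 (Dual.D A)).obj (Q.obj ((locCx (Submonoid.powers g)).obj Y)))⟦j⟧) : h = 0 :=
  hom_shift_eq_zero_of_termLocal (Submonoid.powers g) _ _
    (locCxUnit_single_eq_zero g M hM) (termLocal_locCx _ Y) j h

end Main

section Main2

variable {A B : Type u} [CommRing A] [CommRing B] [Algebra A B] [Module.Flat A B]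

open Groth.Agent.Lib.Helper1.Extend Groth.Agent.Lib.Helper1.Restrict

/-- elements killed by powers of all members of a list are power torsion for the ideal they span -/
lemma mem_torsionSub_of_forall_pow (fs : List A) (T : Type u) [AddCommGroup T] [Module A T] (x : T)
    (h : ∀ g ∈ fs, ∃ n : ℕ, g ^ n • x = 0) :
    x ∈ DRing.torsionSub (Ideal.span {a : A | a ∈ fs}) T := by
  induction fs with
  | nil =>
    refine ⟨1, fun a ha => ?_⟩
    have h0 : {a : A | a ∈ ([] : List A)} = ∅ := by ext; simp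
    rw [h0, Ideal.span_empty, pow_one] at ha
    rw [(Submodule.mem_bot A).1 ha, zero_smul]
  | cons f fs ih =>
    rw [span_cons, mem_torsionSub_sup_iff]
    exact ⟨ih (fun g hg => h g (List.mem_cons_of_mem _ hg)), h f List.mem_cons_self⟩

lemma isPowerTorsion_extCechH (fs : List A) (N : ModuleCat.{u} A) (j : ℤ) :
    LocCoh.IsPowerTorsion (Ideal.span {a : A | a ∈ fs}) (extCechH fs N j) := fun x =>
  mem_torsionSub_of_forall_pow fs _ x (fun g hg => pt_extCechH fs N g hg j x)

lemma isIso_unitNT_of_powerTorsion {I : Ideal A}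
    (hs : Function.Surjective ((Ideal.Quotient.mk (I.map (algebraMap A B))).comp (algebraMap A B)))
    (hk : RingHom.ker ((Ideal.Quotient.mk (I.map (algebraMap A B))).comp (algebraMap A B)) = I)
    (T : ModuleCat.{u} A) (hT : LocCoh.IsPowerTorsion I T) : IsIso ((unitNT A B).app T) := by
  rw [ConcreteCategory.isIso_iff_bijective]
  have hb := bijective_one_tmul hs hk T hT
  have hc : Function.Bijective ((c₀ (A := A) (B := B) T) ∘ ((unitNT A B).app T).hom) := hb
  exact (Function.Bijective.of_comp_iff' (c₀ (A := A) (B := B) T).bijective _).1 hc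

/-- **Main theorem** (S1731): `Ext^i_A(M, N) ≅ Ext^i_B(B ⊗ M, B ⊗ N)` for `I`-power torsion `M`,
`A → B` flat with `A/I ≅ B/IB`, `I` finitely generated. -/
theorem nonempty_addEquiv (I : Ideal A) (hI : I.FG)
    (hs : Function.Surjective ((Ideal.Quotient.mk (I.map (algebraMap A B))).comp (algebraMap A B)))
    (hk : RingHom.ker ((Ideal.Quotient.mk (I.map (algebraMap A B))).comp (algebraMap A B)) = I)
    (M N : Type u) [AddCommGroup M] [Module A M] [AddCommGroup N] [Module A N]
    (hM : LocCoh.IsPowerTorsion I M) (i : ℤ) :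
    Nonempty ((Dual.inD A M ⟶ (Dual.inD A N)⟦i⟧) ≃+
      (Dual.inD B (B ⊗[A] M) ⟶ (Dual.inD B (B ⊗[A] N))⟦i⟧)) := by
  obtain ⟨S, hS⟩ := hI
  let fs := S.toList
  have hfs : Ideal.span {a : A | a ∈ fs} = I := by
    rw [← hS]; congr 1; ext a; simp [fs]
  let MM := ModuleCat.of A M
  let NN := ModuleCat.of A N
  have hMg : ∀ g ∈ fs, ∀ m : MM, ∃ n : ℕ, g ^ n • m = 0 := by
    intro g hg m
    obtain ⟨n, hn⟩ := hM m
    refine ⟨n, hn _ (Ideal.pow_mem_pow ?_ n)⟩
    rw [← hfs]; exact Ideal.subset_span hg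
  let X : Dual.D A :=
    Q.obj ((HomologicalComplex.single (ModuleCat.{u} A) (ComplexShape.up ℤ) 0).obj MM)
  obtain ⟨e1⟩ := nonempty_addEquiv_extCech (𝟭 (Dual.D A)) X NN fs
    (fun g hg Y j h => hom_locCx_eq_zero g MM (hMg g hg) Y j h) i
  obtain ⟨e2⟩ := nonempty_addEquiv_extCech (GD A B) X NN fs
    (fun g hg Y j h => hom_GD_locCx_eq_zero g MM (hMg g hg) Y j h) i
  have hq : QuasiIso (unitCx (B := B) (extCech NN fs)) := quasiIso_unitCx _ (fun j =>
    isIso_unitNT_of_powerTorsion hs hk _ (hfs ▸ isPowerTorsion_extCechH fs NN j))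
  have hqi : IsIso (Q.map (unitCx (B := B) (extCech NN fs))) :=
    (isIso_Q_map_iff_quasiIso (φ := unitCx (B := B) (extCech NN fs))).2 hq
  let e3 : Q.obj (extCech NN fs) ≅ (GD A B).obj (Q.obj (extCech NN fs)) :=
    asIso (Q.map (unitCx (B := B) (extCech NN fs))) ≪≫ (gdQIso (extCech NN fs)).symm
  let e4 : (X ⟶ (Q.obj (extCech NN fs))⟦i⟧) ≃+
      (X ⟶ ((GD A B).obj (Q.obj (extCech NN fs)))⟦i⟧) :=
    postIsoAddEquiv ((shiftFunctor (Dual.D A) i).mapIso e3)
  let adj := Groth.Agent.Lib.Helper17.ExactAdj.mapDerivedCategoryAdjunction (ext A B)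
    (ModuleCat.restrictScalars.{u} (algebraMap A B))
    (ModuleCat.extendRestrictScalarsAdj.{u, u, u} (algebraMap A B))
  let N0 : Dual.D A := Q.obj (extCech NN [])
  let e5 : (X ⟶ ((GD A B).obj N0)⟦i⟧) ≃+
      (X ⟶ (DRing.restrictD (algebraMap A B)).obj (((extD A B).obj N0)⟦i⟧)) :=
    postIsoAddEquiv (((DRing.restrictD (algebraMap A B)).commShiftIso i).app
      ((extD A B).obj N0)).symm
  let e6 := (adj.homAddEquiv X (((extD A B).obj N0)⟦i⟧)).symm
  let e7 : ((extD A B).obj X ⟶ ((extD A B).obj N0)⟦i⟧) ≃+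
      (Dual.inD B (B ⊗[A] M) ⟶ ((extD A B).obj N0)⟦i⟧) := preIsoAddEquiv (extDInDIso M)
  let e8 : (Dual.inD B (B ⊗[A] M) ⟶ ((extD A B).obj N0)⟦i⟧) ≃+
      (Dual.inD B (B ⊗[A] M) ⟶ (Dual.inD B (B ⊗[A] N))⟦i⟧) :=
    postIsoAddEquiv ((shiftFunctor (Dual.D B) i).mapIso (extDInDIso N))
  exact ⟨(((((e1.symm.trans e4).trans e2).trans e5).trans e6).trans e7).trans e8⟩

end Main2

end Groth.Agent.R2.H26.ExtTors
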