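import Mathlib
import Groth.Agent.Lib.Helper1ResLen
import Groth.Agent.R2.H26FlatSyz

/-!
# Finite free resolutions of finitely presented modules flat over the base (helper26)

* `FreeRes`: linear-algebra data of a resolution by finite free modules, and the attached
  `ProjectiveResolution` in `ModuleCat` (`FreeRes.res`).
* `exists_freeRes`: for `A → B` flat of finite presentation and `M` a finitely presented `B`-module
  flat over `A`, a `FreeRes B M` exists (iterating `FlatSyz.exists_syzygy`).
-/

set_option autoImplicit false
set_option linter.style.haveILetI false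

universe u

namespace Groth.Agent.R2.H26.PdFlat

open CategoryTheory CategoryTheory.Limits

/-- A resolution of `M` by finitely generated free modules, in linear-algebra terms. -/
structure FreeRes (B : Type u) [CommRing B] (M : Type u) [AddCommGroup M] [Module B M] where
  /-- ranks -/
  rk : ℕ → ℕ
  /-- differentials -/
  dLin : ∀ i, (Fin (rk (i + 1)) → B) →ₗ[B] (Fin (rk i) → B)
  /-- augmentation -/
  augLin : (Fin (rk 0) → B) →ₗ[B] M
  aug_surjective : Function.Surjective augLin
  exact_zero : LinearMap.ker augLin = LinearMap.range (dLin 0)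
  exact_succ : ∀ i, LinearMap.ker (dLin i) = LinearMap.range (dLin (i + 1))

namespace FreeRes

variable {B : Type u} [CommRing B] {M : Type u} [AddCommGroup M] [Module B M] (F : FreeRes B M)

theorem dLin_comp (i : ℕ) (v : Fin (F.rk (i + 1 + 1)) → B) : F.dLin i (F.dLin (i + 1) v) = 0 := by
  have : F.dLin (i + 1) v ∈ LinearMap.ker (F.dLin i) := by
    rw [F.exact_succ i]
    exact ⟨v, rfl⟩
  exact this

theorem aug_dLin (v : Fin (F.rk 1) → B) : F.augLin (F.dLin 0 v) = 0 := by
  have : F.dLin 0 v ∈ LinearMap.ker F.augLin := by
    rw [F.exact_zero]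
    exact ⟨v, rfl⟩
  exact this

/-- the complex of free modules -/
noncomputable def cx : ChainComplex (ModuleCat.{u} B) ℕ :=
  ChainComplex.of (fun i => ModuleCat.of B (Fin (F.rk i) → B))
    (fun i => ModuleCat.ofHom (F.dLin i))
    (fun i => by
      apply ModuleCat.hom_ext
      apply LinearMap.ext
      intro v
      exact dLin_comp F i v)

theorem cx_d (i : ℕ) : (cx F).d (i + 1) i = ModuleCat.ofHom (F.dLin i) := by
  show ChainComplex.of.d (fun i => ModuleCat.of B (Fin (F.rk i) → B))
    (fun i => ModuleCat.ofHom (F.dLin i)) (i + 1) i = _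
  rw [ChainComplex.of_d]

theorem cx_exactAt_succ (n : ℕ) : (cx F).ExactAt (n + 1) := by
  rw [HomologicalComplex.exactAt_iff' _ (n + 2) (n + 1) n (by simp) (by simp),
    ShortComplex.moduleCat_exact_iff]
  intro x hx
  have hx' : ((cx F).d (n + 1) n).hom x = 0 := hx
  rw [cx_d] at hx'
  have hmem : (show Fin (F.rk (n + 1)) → B from x) ∈ LinearMap.ker (F.dLin n) := hx'
  rw [F.exact_succ n] at hmem
  obtain ⟨y, hy⟩ := hmem
  refine ⟨y, ?_⟩
  show ((cx F).d (n + 1 + 1) (n + 1)).hom y = x
  rw [cx_d]
  exact hy

theorem d_aug : (cx F).d 1 0 ≫ ModuleCat.ofHom F.augLin = 0 := by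
  rw [cx_d]
  apply ModuleCat.hom_ext
  apply LinearMap.ext
  intro v
  exact aug_dLin F v

theorem aug_exact :
    (ShortComplex.mk ((cx F).d 1 0) (ModuleCat.ofHom F.augLin) (d_aug F)).Exact := by
  rw [ShortComplex.moduleCat_exact_iff]
  intro x hx
  have hmem : (show Fin (F.rk 0) → B from x) ∈ LinearMap.ker F.augLin := hx
  rw [F.exact_zero] at hmem
  obtain ⟨y, hy⟩ := hmem
  refine ⟨y, ?_⟩
  show ((cx F).d (0 + 1) 0).hom y = x
  rw [cx_d]
  exact hy

instance aug_epi : Epi (ModuleCat.ofHom F.augLin) := by
  rw [ModuleCat.epi_iff_surjective]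
  exact F.aug_surjective

/-- the projective resolution of `M` attached to a free resolution -/
noncomputable def res : ProjectiveResolution (ModuleCat.of B M) :=
  Groth.Agent.Lib.Helper1.ResLen.mkRes (cx F) (ModuleCat.of B M)
    (fun n => by
      show Projective (ModuleCat.of B (Fin (F.rk n) → B))
      exact (IsProjective.iff_projective _).1 inferInstance)
    (ModuleCat.ofHom F.augLin) (d_aug F) (aug_exact F) (aug_epi F) (cx_exactAt_succ F)

theorem res_finite_free (n : ℕ) :
    Module.Finite B ((res F).complex.X n) ∧ Module.Free B ((res F).complex.X n) := by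
  constructor
  · show Module.Finite B (Fin (F.rk n) → B)
    infer_instance
  · show Module.Free B (Fin (F.rk n) → B)
    infer_instance

end FreeRes

section Stages

variable (A B : Type u) [CommRing A] [CommRing B] [Algebra A B]

/-- A finitely presented submodule of a finite free `B`-module which is flat over `A`. -/
structure Stage where
  /-- rank of the ambient free module -/
  r : ℕ
  /-- the submodule -/
  K : Submodule B (Fin r → B)
  fp : Module.FinitePresentation B K
  flat : Module.Flat A K

variable {A B}
variable [Algebra.FinitePresentation A B] [Module.Flat A B]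

theorem exists_next (s : Stage A B) :
    ∃ (t : Stage A B) (d : (Fin t.r → B) →ₗ[B] (Fin s.r → B)),
      LinearMap.range d = s.K ∧ LinearMap.ker d = t.K := by
  haveI := s.fp
  haveI := s.flat
  obtain ⟨r', g, hg, hfp, hfl⟩ := FlatSyz.exists_syzygy A B s.K
  refine ⟨⟨r', LinearMap.ker g, hfp, hfl⟩, s.K.subtype ∘ₗ g, ?_, ?_⟩
  · rw [LinearMap.range_comp, LinearMap.range_eq_top.mpr hg, Submodule.map_top,
      Submodule.range_subtype]
  · rw [LinearMap.ker_comp, Submodule.ker_subtype, Submodule.comap_bot]

/-- the next syzygy -/
noncomputable def next (s : Stage A B) : Stage A B := (exists_next s).choose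

/-- the map from the next free module -/
noncomputable def dmap (s : Stage A B) : (Fin (next s).r → B) →ₗ[B] (Fin s.r → B) :=
  (exists_next s).choose_spec.choose

theorem range_dmap (s : Stage A B) : LinearMap.range (dmap s) = s.K :=
  (exists_next s).choose_spec.choose_spec.1

theorem ker_dmap (s : Stage A B) : LinearMap.ker (dmap s) = (next s).K :=
  (exists_next s).choose_spec.choose_spec.2

/-- the sequence of syzygies -/
noncomputable def stage (s₀ : Stage A B) : ℕ → Stage A B
  | 0 => s₀
  | n + 1 => next (stage s₀ n)

/-- the free resolution built from an initial presentation -/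
noncomputable def freeResOfStage (s₀ : Stage A B) {M : Type u} [AddCommGroup M] [Module B M]
    (g₀ : (Fin s₀.r → B) →ₗ[B] M) (hg₀ : Function.Surjective g₀)
    (hk : LinearMap.ker g₀ = s₀.K) : FreeRes B M where
  rk n := (stage s₀ n).r
  dLin n := dmap (stage s₀ n)
  augLin := g₀
  aug_surjective := hg₀
  exact_zero := hk.trans (range_dmap (stage s₀ 0)).symm
  exact_succ i := (ker_dmap (stage s₀ i)).trans (range_dmap (stage s₀ (i + 1))).symm

end Stages

/-- Existence of a resolution by finite free modules. -/
theorem exists_freeRes (A B M : Type u) [CommRing A] [CommRing B] [Algebra A B]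
    [Algebra.FinitePresentation A B] [Module.Flat A B] [AddCommGroup M] [Module B M] [Module A M]
    [IsScalarTower A B M] [Module.FinitePresentation B M] [Module.Flat A M] :
    Nonempty (FreeRes B M) := by
  obtain ⟨r, g, hg, hfp, hfl⟩ := FlatSyz.exists_syzygy A B M
  exact ⟨freeResOfStage (A := A) ⟨r, LinearMap.ker g, hfp, hfl⟩ g hg rfl⟩

/-- Existence of a projective resolution all of whose terms are finite free. -/
theorem exists_projectiveResolution_finite_free (A B M : Type u) [CommRing A] [CommRing B]
    [Algebra A B] [Algebra.FinitePresentation A B] [Module.Flat A B] [AddCommGroup M] [Module B M]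
    [Module A M] [IsScalarTower A B M] [Module.FinitePresentation B M] [Module.Flat A M] :
    ∃ P : ProjectiveResolution (ModuleCat.of B M),
      ∀ n : ℕ, Module.Finite B (P.complex.X n) ∧ Module.Free B (P.complex.X n) := by
  obtain ⟨F⟩ := exists_freeRes A B M
  exact ⟨F.res, F.res_finite_free⟩

end Groth.Agent.R2.H26.PdFlat
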