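import Mathlib
import Groth.Agent.Lib.Helper3FlatOpenFP
import Groth.Agent.Lib.Helper3FlatLocA
import Groth.Agent.R2.H26FlatSyz

/-!
# Finite free syzygies over a local ring of a flat finitely presented algebra (helper26)

* `exists_fp_isLocalizedModule`: a finitely presented module over `S⁻¹B` is the localization of a
  finitely presented `B`-module.
* `exists_flat_away`: flatness over `V` at a prime spreads out to a basic open (f.p. case).
* `exists_fp_ker_localized`, `exists_syzygy_atPrime`: a f.p. `B_q`-module, flat over `V`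
  (`B` flat f.p. over `V`), has a finite free cover with finitely presented kernel.
-/

set_option autoImplicit false
universe u
open TensorProduct

namespace Groth.Agent.R2.H26.LocSyz

open Groth.Agent.Lib.Helper3.FlatLoc

theorem exists_fp_isLocalizedModule {B : Type u} [CommRing B] (S : Submonoid B) (A : Type u) [CommRing A]
    [Algebra B A] [IsLocalization S A]
    (N : Type u) [AddCommGroup N] [Module A N] [Module B N] [IsScalarTower B A N]
    [Module.FinitePresentation A N] :
    ∃ (N₁ : Type u) (_ : AddCommGroup N₁) (_ : Module B N₁) (_ : Module.FinitePresentation B N₁)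
      (f : N₁ →ₗ[B] N), IsLocalizedModule S f := by
  classical
  obtain ⟨n, K, eK, hker⟩ := Module.FinitePresentation.exists_fin A N
  let f₀ : (Fin n → B) →ₗ[B] (Fin n → A) :=
    LinearMap.pi fun i => Algebra.linearMap B A ∘ₗ LinearMap.proj i
  haveI : IsLocalizedModule S f₀ := inferInstance
  obtain ⟨W, hW⟩ := hker
  have hsurj : ∀ w : (Fin n → A), ∃ (v : Fin n → B) (s : S), s • w = f₀ v := fun w => by
    obtain ⟨⟨v, s⟩, h⟩ := IsLocalizedModule.surj S f₀ w
    exact ⟨v, s, h⟩
  choose v s hvs using hsurj
  let K₁ : Submodule B (Fin n → B) := Submodule.span B (v '' (W : Set (Fin n → A)))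
  have hK₁ : K₁.localized' A S f₀ = K := by
    rw [Submodule.localized'_span, ← hW]
    apply le_antisymm
    · rw [Submodule.span_le]
      rintro _ ⟨_, ⟨w, hw, rfl⟩, rfl⟩
      rw [← hvs w]
      have : (s w : B) • w = (algebraMap B A (s w)) • w := (algebraMap_smul A _ _).symm
      rw [Submonoid.smul_def, this]
      exact Submodule.smul_mem _ _ (Submodule.subset_span hw)
    · rw [Submodule.span_le]
      intro w hw
      have hu : IsUnit (algebraMap B A (s w)) := IsLocalization.map_units A (s w)
      obtain ⟨u, hu'⟩ := hu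
      have h1 : f₀ (v w) ∈ Submodule.span A (f₀ '' (v '' (W : Set (Fin n → A)))) :=
        Submodule.subset_span ⟨v w, ⟨w, hw, rfl⟩, rfl⟩
      have h2 : w = (↑u⁻¹ : A) • f₀ (v w) := by
        rw [← hvs w, Submonoid.smul_def, ← algebraMap_smul A (s w : B) w, ← hu', smul_smul,
          Units.inv_mul, one_smul]
      rw [SetLike.mem_coe, h2]
      exact Submodule.smul_mem _ _ h1
  haveI : Module.FinitePresentation B ((Fin n → B) ⧸ K₁) :=
    Module.finitePresentation_of_surjective K₁.mkQ (Submodule.mkQ_surjective _) (by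
      rw [Submodule.ker_mkQ]
      exact Submodule.fg_span (Set.Finite.image _ W.finite_toSet))
  let e : ((Fin n → A) ⧸ K₁.localized' A S f₀) ≃ₗ[A] N :=
    (Submodule.quotEquivOfEq _ _ hK₁) ≪≫ₗ eK.symm
  refine ⟨(Fin n → B) ⧸ K₁, inferInstance, inferInstance, inferInstance,
    (e.restrictScalars B).toLinearMap ∘ₗ K₁.toLocalizedQuotient' A S f₀, ?_⟩
  exact IsLocalizedModule.of_linearEquiv S (K₁.toLocalizedQuotient' A S f₀) (e.restrictScalars B)

theorem exists_flat_away {V B : Type u} [CommRing V] [CommRing B] [Algebra V B]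
    [Algebra.FinitePresentation V B]
    (N₁ : Type u) [AddCommGroup N₁] [Module B N₁] [Module V N₁] [IsScalarTower V B N₁]
    [Module.FinitePresentation B N₁]
    (q : Ideal B) [q.IsPrime] (hflat : Module.Flat V (LocalizedModule q.primeCompl N₁)) :
    ∃ g : B, g ∉ q ∧ Module.Flat V (LocalizedModule (Submonoid.powers g) N₁) := by
  have hopen := Groth.Agent.Lib.Helper3.FlatOpen.isOpen_flatLocus_of_finitePresentation (R := V) (S := B) (M := N₁)
  have hmem : (⟨q, inferInstance⟩ : PrimeSpectrum B) ∈
      {q : PrimeSpectrum B | Module.Flat V (LocalizedModule q.asIdeal.primeCompl N₁)} := hflat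
  obtain ⟨D, ⟨g, rfl⟩, hqD, hDU⟩ :=
    PrimeSpectrum.isTopologicalBasis_basic_opens.exists_subset_of_mem_open hmem hopen
  refine ⟨g, hqD, ?_⟩
  rw [flat_localizedModule_iff]
  intro I hI z hz
  let Ann : Ideal B := LinearMap.ker (LinearMap.toSpanSingleton B (N₁ ⊗[V] I) z)
  have hAnn : ∀ s : B, s ∈ Ann ↔ s • z = 0 := fun s => by
    simp [Ann, LinearMap.mem_ker, LinearMap.toSpanSingleton_apply]
  have hrad : g ∈ Ann.radical := by
    rw [Ideal.radical_eq_sInf, Submodule.mem_sInf]
    rintro (J : Ideal B) ⟨hJ, hJp⟩
    haveI : J.IsPrime := hJp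
    by_contra hgJ
    have hJD : (⟨J, hJp⟩ : PrimeSpectrum B) ∈ (PrimeSpectrum.basicOpen g : Set (PrimeSpectrum B)) := hgJ
    have hJfl : Module.Flat V (LocalizedModule J.primeCompl N₁) := hDU hJD
    obtain ⟨s, hs, hsz⟩ := (flat_localizedModule_iff J.primeCompl).1 hJfl I hI z hz
    exact hs (hJ ((hAnn s).2 hsz))
  obtain ⟨k, hk⟩ := hrad
  exact ⟨g ^ k, ⟨k, rfl⟩, (hAnn _).1 hk⟩

theorem exists_fp_ker_localized {V B : Type u} [CommRing V] [CommRing B] [Algebra V B]
    [Algebra.FinitePresentation V B] [Module.Flat V B]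
    (g : B) (S : Submonoid B) (hgS : g ∈ S)
    (N₁ : Type u) [AddCommGroup N₁] [Module B N₁] [Module V N₁] [IsScalarTower V B N₁]
    [Module.FinitePresentation B N₁]
    (hflat : Module.Flat V (LocalizedModule (Submonoid.powers g) N₁))
    (A : Type u) [CommRing A] [Algebra B A] [IsLocalization S A]
    (N : Type u) [AddCommGroup N] [Module A N] [Module B N] [IsScalarTower B A N]
    (f : N₁ →ₗ[B] N) [IsLocalizedModule S f] :
    ∃ (r : ℕ) (γ : (Fin r → A) →ₗ[A] N), Function.Surjective γ ∧
      Module.FinitePresentation A (LinearMap.ker γ) := by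
  have hle : Submonoid.powers g ≤ S := (Submonoid.powers_le).2 hgS
  haveI : Algebra.FinitePresentation B (Localization (Submonoid.powers g)) :=
    IsLocalization.Away.finitePresentation g
  haveI : Algebra.FinitePresentation V (Localization (Submonoid.powers g)) :=
    Algebra.FinitePresentation.trans V B (Localization (Submonoid.powers g))
  haveI : Module.Flat V (Localization (Submonoid.powers g)) :=
    Module.Flat.trans V B (Localization (Submonoid.powers g))
  obtain ⟨r, g', hg', hfp, -⟩ := Groth.Agent.R2.H26.FlatSyz.exists_syzygy V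
    (Localization (Submonoid.powers g)) (LocalizedModule (Submonoid.powers g) N₁)
  obtain ⟨m, m₂, π, σ, hπ, hσπ⟩ :=
    Module.FinitePresentation.exists_fin' (Localization (Submonoid.powers g)) (LinearMap.ker g')
  let δ : (Fin m → Localization (Submonoid.powers g)) →ₗ[Localization (Submonoid.powers g)]
      (Fin r → Localization (Submonoid.powers g)) := (LinearMap.ker g').subtype ∘ₗ π
  have hσδ : Function.Exact σ δ := by
    intro x
    rw [← hσπ x]
    constructor
    · intro h
      exact Subtype.ext h
    · intro h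
      exact congrArg Subtype.val h
  have hδg : Function.Exact δ g' := by
    intro y
    constructor
    · intro hy
      obtain ⟨x, hx⟩ := hπ ⟨y, hy⟩
      exact ⟨x, congrArg Subtype.val hx⟩
    · rintro ⟨x, rfl⟩
      exact (π x).2
  -- localization maps over `B`
  let ψ : Localization (Submonoid.powers g) →ₗ[B] A :=
    IsLocalizedModule.liftOfLE (Submonoid.powers g) S hle
      (Algebra.linearMap B (Localization (Submonoid.powers g))) (Algebra.linearMap B A)
  let φ (k : ℕ) : (Fin k → Localization (Submonoid.powers g)) →ₗ[B] (Fin k → A) :=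
    LinearMap.pi fun i => ψ ∘ₗ LinearMap.proj i
  haveI hφ : ∀ k, IsLocalizedModule S (φ k) := fun k => inferInstance
  let hN : LocalizedModule (Submonoid.powers g) N₁ →ₗ[B] N :=
    IsLocalizedModule.liftOfLE (Submonoid.powers g) S hle
      (LocalizedModule.mkLinearMap (Submonoid.powers g) N₁) f
  let γ₀ : (Fin r → A) →ₗ[B] N := IsLocalizedModule.map S (φ r) hN (g'.restrictScalars B)
  let δ₀ : (Fin m → A) →ₗ[B] (Fin r → A) :=
    IsLocalizedModule.map S (φ m) (φ r) (δ.restrictScalars B)
  let σ₀ : (Fin m₂ → A) →ₗ[B] (Fin m → A) :=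
    IsLocalizedModule.map S (φ m₂) (φ m) (σ.restrictScalars B)
  have hγ₀ : Function.Surjective γ₀ :=
    IsLocalizedModule.map_surjective S (φ r) hN (g'.restrictScalars B) hg'
  have hex1 : Function.Exact δ₀ γ₀ :=
    IsLocalizedModule.map_exact S (φ m) (φ r) hN (δ.restrictScalars B) (g'.restrictScalars B) hδg
  have hex2 : Function.Exact σ₀ δ₀ :=
    IsLocalizedModule.map_exact S (φ m₂) (φ m) (φ r) (σ.restrictScalars B) (δ.restrictScalars B) hσδ
  let γ : (Fin r → A) →ₗ[A] N := γ₀.extendScalarsOfIsLocalization S A
  let δA : (Fin m → A) →ₗ[A] (Fin r → A) := δ₀.extendScalarsOfIsLocalization S A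
  let σA : (Fin m₂ → A) →ₗ[A] (Fin m → A) := σ₀.extendScalarsOfIsLocalization S A
  refine ⟨r, γ, hγ₀, ?_⟩
  let ρ : (Fin m → A) →ₗ[A] LinearMap.ker γ :=
    δA.codRestrict (LinearMap.ker γ) (fun x => hex1.apply_apply_eq_zero x)
  have hρ : Function.Surjective ρ := by
    rintro ⟨y, hy⟩
    obtain ⟨x, hx⟩ := (hex1 y).1 hy
    exact ⟨x, Subtype.ext hx⟩
  refine Module.finitePresentation_of_surjective ρ hρ ?_
  have hker : LinearMap.ker ρ = LinearMap.range σA := by
    ext x
    rw [LinearMap.mem_ker, LinearMap.mem_range]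
    constructor
    · intro hx
      have : δ₀ x = 0 := congrArg Subtype.val hx
      exact (hex2 x).1 this
    · intro hx
      exact Subtype.ext ((hex2 x).2 hx)
  rw [hker, LinearMap.range_eq_map]
  exact Submodule.FG.map _ Module.Finite.fg_top


/-- **Local syzygies**: `B` flat of finite presentation over `V`, `q` a prime of `B`, `N` a finitely
presented `B_q`-module flat over `V`.  Then `N` has a finite free cover whose kernel is again
finitely presented (and flat over `V`). -/
theorem exists_syzygy_atPrime {V B : Type u} [CommRing V] [CommRing B] [Algebra V B]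
    [Algebra.FinitePresentation V B] [Module.Flat V B] (q : Ideal B) [q.IsPrime]
    (N : Type u) [AddCommGroup N] [Module (Localization.AtPrime q) N] [Module V N]
    [IsScalarTower V (Localization.AtPrime q) N]
    [Module.FinitePresentation (Localization.AtPrime q) N] [Module.Flat V N] :
    ∃ (r : ℕ) (γ : (Fin r → Localization.AtPrime q) →ₗ[Localization.AtPrime q] N),
      Function.Surjective γ ∧ Module.FinitePresentation (Localization.AtPrime q) (LinearMap.ker γ) ∧
        Module.Flat V (LinearMap.ker γ) := by
  letI : Module B N := Module.compHom N (algebraMap B (Localization.AtPrime q))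
  haveI : IsScalarTower B (Localization.AtPrime q) N :=
    IsScalarTower.of_algebraMap_smul (fun _ _ => rfl)
  haveI : IsScalarTower V B N := by
    refine ⟨fun v b n => ?_⟩
    rw [← algebraMap_smul (Localization.AtPrime q) (v • b) n,
      ← algebraMap_smul (Localization.AtPrime q) b n, Algebra.smul_def, map_mul, mul_smul,
      ← IsScalarTower.algebraMap_apply, algebraMap_smul]
  obtain ⟨N₁, _, _, _, f, hf⟩ :=
    exists_fp_isLocalizedModule q.primeCompl (Localization.AtPrime q) N
  letI : Module V N₁ := Module.compHom N₁ (algebraMap V B)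
  haveI : IsScalarTower V B N₁ := IsScalarTower.of_algebraMap_smul (fun _ _ => rfl)
  have hflat_q : Module.Flat V (LocalizedModule q.primeCompl N₁) :=
    Module.Flat.of_linearEquiv ((IsLocalizedModule.iso q.primeCompl f).restrictScalars V)
  obtain ⟨g, hg, hflat_g⟩ := exists_flat_away N₁ q hflat_q
  obtain ⟨r, γ, hγ, hfp⟩ := exists_fp_ker_localized g q.primeCompl hg N₁ hflat_g
    (Localization.AtPrime q) N f
  refine ⟨r, γ, hγ, hfp, ?_⟩
  haveI : Module.Flat V (Localization.AtPrime q) := Module.Flat.trans V B (Localization.AtPrime q)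
  haveI : Module.Flat V (Fin r → Localization.AtPrime q) :=
    Module.Flat.trans V (Localization.AtPrime q) (Fin r → Localization.AtPrime q)
  exact Groth.Agent.Lib.Helper3.flat_of_exact_of_flat_mid_right (X := LinearMap.ker γ)
    (Y := Fin r → Localization.AtPrime q) (Z := N)
    ((LinearMap.ker γ).subtype.restrictScalars V) (γ.restrictScalars V)
    (Submodule.injective_subtype _) hγ (LinearMap.exact_subtype_ker_map γ)

end Groth.Agent.R2.H26.LocSyz
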