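import Mathlib
import Groth.Agent.Lib.Helper1TorO
import Groth.Agent.Lib.Helper1LBC

/-!
# Base change along a nilpotent thickening of the base (helper26)

For a commutative square `R' → A'`, `R' → R`, `B = R ⊗[R'] A'`, the termwise identification
`(B ⊗[A'] M)|_R ≃ R ⊗[R'] (M|_{R'})`, natural in the `A'`-module `M`, and the induced isomorphism of
complexes `cxIso`.  Also: `A' → R ⊗[R'] A'` is surjective with nilpotent kernel when `R' → R` is.
-/

set_option autoImplicit false
universe u
open CategoryTheory TensorProduct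

namespace Groth.Agent.R2.H26.NilThick

open Groth.Agent.Lib.Helper1.LDer Groth.Agent.Lib.Helper1.Extend
open ChangeOfRings

variable {R' A' R : Type u} [CommRing R'] [CommRing A'] [Algebra R' A'] [CommRing R] [Algebra R' R]

attribute [local instance] Algebra.TensorProduct.rightAlgebra

variable (R' A' R) in
/-- the coprojection `A' → R ⊗[R'] A'` -/
noncomputable abbrev ι : A' →+* R ⊗[R'] A' := Algebra.TensorProduct.includeRight.toRingHom

variable (R' A' R) in
/-- unbundled cancellation `(R ⊗[R'] A') ⊗[A'] M ≃ R ⊗[R'] M` (Mathlib's `IsPushout.cancelBaseChange`) -/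
noncomputable def cbc (M : ModuleCat.{u} A') :
    (R ⊗[R'] A') ⊗[A'] M ≃ₗ[R] R ⊗[R'] ((ModuleCat.restrictScalars (algebraMap R' A')).obj M) :=
  letI : Module R' M := Module.compHom M (algebraMap R' A')
  haveI : IsScalarTower R' A' M := IsScalarTower.of_algebraMap_smul (fun _ _ => rfl)
  Algebra.IsPushout.cancelBaseChange R' R A' (R ⊗[R'] A') M

section
variable {R B : Type u} [CommRing R] [CommRing B] [Algebra R B]
/-- a `B`-linear equivalence out of a bundled `B`-module, viewed `R`-linearly on the restriction -/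
noncomputable def resEquiv {X : ModuleCat.{u} B} {Y : Type u} [AddCommGroup Y] [Module B Y] [Module R Y]
    [IsScalarTower R B Y] (e : X ≃ₗ[B] Y) :
    ((ModuleCat.restrictScalars (algebraMap R B)).obj X) ≃ₗ[R] Y where
  toFun x := e x
  invFun y := e.symm y
  left_inv x := e.symm_apply_apply x
  right_inv y := e.apply_symm_apply y
  map_add' x y := e.map_add x y
  map_smul' r x := by
    have h : e ((algebraMap R B r) • (show X from x)) = r • e (show X from x) := by
      rw [map_smul, algebraMap_smul]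
    exact h
end

variable (R' A' R) in
/-- `((R ⊗[R'] A') ⊗[A'] M)|_R ≃ R ⊗[R'] (M|_{R'})` on the bundled carriers -/
noncomputable def compEquiv (M : ModuleCat.{u} A') :
    ((ModuleCat.restrictScalars (algebraMap R (R ⊗[R'] A'))).obj
      ((ModuleCat.extendScalars.{u,u,u} (ι R' A' R)).obj M)) ≃ₗ[R]
    ((ModuleCat.extendScalars.{u,u,u} (algebraMap R' R)).obj
      ((ModuleCat.restrictScalars (algebraMap R' A')).obj M)) :=
  (resEquiv (bcEquiv (ι R' A' R) M)) ≪≫ₗ cbc R' A' R M ≪≫ₗ
    (extEquiv (A := R') (B := R) ((ModuleCat.restrictScalars (algebraMap R' A')).obj M)).symm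

lemma compEquiv_symm_tmul (M : ModuleCat.{u} A') (r : R) (m : M) :
    (compEquiv R' A' R M).symm
      ((r ⊗ₜ[R', algebraMap R' R] (show ((ModuleCat.restrictScalars (algebraMap R' A')).obj M) from m) :
        ((ModuleCat.extendScalars.{u,u,u} (algebraMap R' R)).obj
          ((ModuleCat.restrictScalars (algebraMap R' A')).obj M)))) =
      ((algebraMap R (R ⊗[R'] A') r) ⊗ₜ[A', ι R' A' R] m :
        ((ModuleCat.extendScalars.{u,u,u} (ι R' A' R)).obj M)) := by
  let _ : Module R' M := Module.compHom M (algebraMap R' A')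
  have : IsScalarTower R' A' M := IsScalarTower.of_algebraMap_smul (fun _ _ => rfl)
  have h2 : (cbc R' A' R M).symm (r ⊗ₜ[R'] m) = (algebraMap R (R ⊗[R'] A') r) ⊗ₜ[A'] m :=
    Algebra.IsPushout.cancelBaseChange_symm_tmul R' R A' (R ⊗[R'] A') M r m
  show (resEquiv (bcEquiv (ι R' A' R) M)).symm ((cbc R' A' R M).symm (r ⊗ₜ[R'] m)) = _
  rw [h2]
  rfl

lemma compEquiv_symm_naturality {M M' : ModuleCat.{u} A'} (f : M ⟶ M') :
    (ModuleCat.extendScalars.{u,u,u} (algebraMap R' R)).map
        ((ModuleCat.restrictScalars (algebraMap R' A')).map f) ≫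
      (compEquiv R' A' R M').symm.toModuleIso.hom =
    (compEquiv R' A' R M).symm.toModuleIso.hom ≫
      (ModuleCat.restrictScalars (algebraMap R (R ⊗[R'] A'))).map
        ((ModuleCat.extendScalars.{u,u,u} (ι R' A' R)).map f) := by
  apply ModuleCat.ExtendScalars.hom_ext
  intro m
  have h1 := compEquiv_symm_tmul (R' := R') (A' := A') (R := R) M 1 m
  have h2 := compEquiv_symm_tmul (R' := R') (A' := A') (R := R) M' 1 (f m)
  refine Eq.trans h2 ?_
  refine Eq.trans ?_ (congrArg (fun z => (ModuleCat.restrictScalars (algebraMap R (R ⊗[R'] A'))).map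
        ((ModuleCat.extendScalars.{u,u,u} (ι R' A' R)).map f) z) h1.symm)
  rfl

variable (R' A' R) in
/-- the isomorphism of complexes of `R`-modules
`R ⊗[R'] (E|_{R'}) ≅ ((R ⊗[R'] A') ⊗[A'] E)|_R`. -/
noncomputable def cxIso (E : DRing.Cx A') :
    (DTen.extCx (algebraMap R' R)).obj ((DTen.resCx (algebraMap R' A')).obj E) ≅
      (DTen.resCx (algebraMap R (R ⊗[R'] A'))).obj ((DTen.extCx (ι R' A' R)).obj E) :=
  HomologicalComplex.Hom.isoOfComponents
    (fun i => (compEquiv R' A' R (E.X i)).symm.toModuleIso)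
    (fun i j _ => (compEquiv_symm_naturality (R' := R') (A' := A') (R := R) (E.d i j)).symm)

/-- `A' → R ⊗[R'] A'` is surjective when `R' → R` is -/
lemma ι_surjective (hs : Function.Surjective (algebraMap R' R)) :
    Function.Surjective (ι R' A' R) :=
  Algebra.TensorProduct.includeRight_surjective A' hs

/-- the kernel of `A' → R ⊗[R'] A'` is the extension of the kernel of `R' → R` -/
lemma ker_ι_le (hs : Function.Surjective (algebraMap R' R)) :
    RingHom.ker (ι R' A' R) ≤ (RingHom.ker (algebraMap R' R)).map (algebraMap R' A') := by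
  intro a ha
  rw [RingHom.mem_ker] at ha
  have hf : Function.Surjective (Algebra.ofId R' R) := hs
  have hk := Algebra.TensorProduct.rTensor_ker (R := R') (S := R') (C := A') (Algebra.ofId R' R) hf
  have hmem : ((1 : R') ⊗ₜ[R'] a) ∈
      RingHom.ker (Algebra.TensorProduct.map (Algebra.ofId R' R) (AlgHom.id R' A')) := by
    rw [RingHom.mem_ker]
    have : (Algebra.TensorProduct.map (Algebra.ofId R' R) (AlgHom.id R' A')) ((1 : R') ⊗ₜ[R'] a) =
        (1 : R) ⊗ₜ[R'] a := by
      rw [Algebra.TensorProduct.map_tmul]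
      simp
    rw [this]
    exact ha
  rw [hk] at hmem
  have hle : Ideal.map (Algebra.TensorProduct.includeLeft : R' →ₐ[R'] R' ⊗[R'] A')
      (RingHom.ker (Algebra.ofId R' R)) ≤
      Ideal.comap ((Algebra.TensorProduct.lid R' A') : R' ⊗[R'] A' →+* A')
        ((RingHom.ker (algebraMap R' R)).map (algebraMap R' A')) := by
    rw [Ideal.map_le_iff_le_comap]
    intro x hx
    rw [Ideal.mem_comap, Ideal.mem_comap]
    have hx' : x ∈ RingHom.ker (algebraMap R' R) := hx
    have : ((Algebra.TensorProduct.lid R' A') : R' ⊗[R'] A' →+* A')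
        ((Algebra.TensorProduct.includeLeft : R' →ₐ[R'] R' ⊗[R'] A') x) = algebraMap R' A' x := by
      simp [Algebra.algebraMap_eq_smul_one]
    rw [this]
    exact Ideal.mem_map_of_mem _ hx'
  have h3 := hle hmem
  rw [Ideal.mem_comap] at h3
  have h4 : ((Algebra.TensorProduct.lid R' A') : R' ⊗[R'] A' →+* A') ((1 : R') ⊗ₜ[R'] a) = a := by
    simp
  rw [h4] at h3
  exact h3

lemma isNilpotent_ker_ι (hs : Function.Surjective (algebraMap R' R))
    (hn : IsNilpotent (RingHom.ker (algebraMap R' R))) :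
    IsNilpotent (RingHom.ker (ι R' A' R)) := by
  obtain ⟨k, hk⟩ := hn
  refine ⟨k, ?_⟩
  have h1 : RingHom.ker (ι R' A' R) ^ k ≤
      ((RingHom.ker (algebraMap R' R)).map (algebraMap R' A')) ^ k :=
    Ideal.pow_right_mono (ker_ι_le hs) k
  rw [← Ideal.map_pow, hk] at h1
  have h0 : (0 : Ideal R') = ⊥ := rfl
  rw [h0, Ideal.map_bot] at h1
  exact le_bot_iff.1 h1

end Groth.Agent.R2.H26.NilThick
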