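import Mathlib
import Groth.Agent.R2.H26PdFibre
import Groth.Agent.Lib.Helper3FlatLocA

/-!
# Fibre stalk modules and upper semicontinuity of the fibre projective dimension (helper26)

`A → B` flat of finite presentation, `M` a finitely presented `B`-module flat over `A`. For a prime
`P` of `B` over `p`, `C_P = B_P / p B_P`. We show that `C_P ⊗_B -` preserves short exact sequences
with `A`-flat cokernel, identify `C_P ⊗_B M` with `M_P / p M_P`, and show that
`{P | pd_{C_P} (C_P ⊗_B M) < n}` is open.
-/

set_option autoImplicit false
set_option linter.style.haveILetI false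

universe u

namespace Groth.Agent.R2.H26.PdFlat

open CategoryTheory CategoryTheory.Limits TensorProduct

section Assoc

variable {A B : Type u} [CommRing A] [CommRing B] [Algebra A B]
  (B' : Type u) [CommRing B'] [Algebra B B'] [Algebra A B'] [IsScalarTower A B B']
  (κ : Type u) [AddCommGroup κ] [Module A κ]

variable {X Y Z : Type u} [AddCommGroup X] [Module B X] [Module A X] [IsScalarTower A B X]
  [AddCommGroup Y] [Module B Y] [Module A Y] [IsScalarTower A B Y]
  [AddCommGroup Z] [Module B Z] [Module A Z] [IsScalarTower A B Z]

/-- Injectivity after `(- ⊗_B B') ⊗_A κ` gives injectivity after `- ⊗_B (B' ⊗_A κ)`. -/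
theorem rTensor_assoc_injective (f : X →ₗ[B] Y)
    (h : Function.Injective (((f.rTensor B').restrictScalars A).rTensor κ)) :
    Function.Injective (f.rTensor (B' ⊗[A] κ)) := by
  have hsq : ∀ t : (X ⊗[B] B') ⊗[A] κ,
      f.rTensor (B' ⊗[A] κ) (AlgebraTensorModule.assoc A B B X B' κ t) =
      AlgebraTensorModule.assoc A B B Y B' κ
        (((f.rTensor B').restrictScalars A).rTensor κ t) := by
    intro t
    induction t using TensorProduct.induction_on with
    | zero => simp
    | tmul x c =>
      induction x using TensorProduct.induction_on with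
      | zero => simp
      | tmul x b => simp
      | add t₁ t₂ h₁ h₂ => simp only [add_tmul, map_add, h₁, h₂]
    | add t₁ t₂ h₁ h₂ => simp only [map_add, h₁, h₂]
  intro a b hab
  obtain ⟨a', rfl⟩ := (AlgebraTensorModule.assoc A B B X B' κ).surjective a
  obtain ⟨b', rfl⟩ := (AlgebraTensorModule.assoc A B B X B' κ).surjective b
  rw [hsq, hsq] at hab
  rw [h ((AlgebraTensorModule.assoc A B B Y B' κ).injective hab)]

/-- A short exact sequence of `B`-modules whose cokernel stays `A`-flat after the flat base change
`B → B'` stays left exact after `- ⊗_B (B' ⊗_A κ)`. -/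
theorem rTensor_injective_of_flat_coker [Module.Flat B B'] (hZ : Module.Flat A (Z ⊗[B] B'))
    (i : X →ₗ[B] Y) (g : Y →ₗ[B] Z)
    (hi : Function.Injective i) (hg : Function.Surjective g) (hex : Function.Exact i g) :
    Function.Injective (i.rTensor (B' ⊗[A] κ)) := by
  apply rTensor_assoc_injective
  exact Groth.Agent.Lib.Helper3.rTensor_injective_of_exact_of_flat
    (X := X ⊗[B] B') (Y := Y ⊗[B] B') (Z := Z ⊗[B] B')
    ((i.rTensor B').restrictScalars A) ((g.rTensor B').restrictScalars A)
    (Module.Flat.rTensor_preserves_injective_linearMap i hi)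
    (LinearMap.rTensor_surjective B' hg) (rTensor_exact B' hex hg) κ

end Assoc

section Congr

variable {B : Type u} [CommRing B] {X Y : Type u} [AddCommGroup X] [Module B X]
  [AddCommGroup Y] [Module B Y] {C C' : Type u} [AddCommGroup C] [Module B C]
  [AddCommGroup C'] [Module B C']

/-- Injectivity of `f ⊗ C` only depends on the isomorphism class of the module `C`. -/
theorem rTensor_injective_of_linearEquiv (e : C ≃ₗ[B] C') (f : X →ₗ[B] Y)
    (h : Function.Injective (f.rTensor C')) : Function.Injective (f.rTensor C) := by
  have hsq : ∀ t : X ⊗[B] C, f.rTensor C' (e.toLinearMap.lTensor X t) =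
      e.toLinearMap.lTensor Y (f.rTensor C t) := by
    intro t
    induction t using TensorProduct.induction_on with
    | zero => simp
    | tmul x c => simp
    | add t₁ t₂ h₁ h₂ => simp only [map_add, h₁, h₂]
  intro a b hab
  have h1 : e.toLinearMap.lTensor X a = e.toLinearMap.lTensor X b := by
    apply h
    rw [hsq, hsq, hab]
  exact (LinearEquiv.lTensor X e).injective h1

end Congr

section Local

variable (A : Type u) {B : Type u} [CommRing A] [CommRing B] [Algebra A B] (P : Ideal B)
  [P.IsPrime]

/-- The ideal `p B_P` of `B_P`, for `p = P ∩ A`. -/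
abbrev fibIdeal : Ideal (Localization.AtPrime P) :=
  (P.under A).map (algebraMap A (Localization.AtPrime P))

/-- The local ring `B_P / p B_P` of the fibre at `P`. -/
abbrev FibStalk : Type u := Localization.AtPrime P ⧸ fibIdeal A P

theorem fibIdeal_le : fibIdeal A P ≤ IsLocalRing.maximalIdeal (Localization.AtPrime P) := by
  rw [Ideal.map_le_iff_le_comap]
  intro a ha
  rw [Ideal.mem_comap, IsScalarTower.algebraMap_apply A B (Localization.AtPrime P),
    ← Ideal.mem_comap]
  have h1 : Ideal.comap (algebraMap B (Localization.AtPrime P))
      (IsLocalRing.maximalIdeal (Localization.AtPrime P)) = P :=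
    IsLocalization.AtPrime.under_maximalIdeal (Localization.AtPrime P) P
  rw [h1]
  exact ha

variable {A}

/-- Localizing at a prime of `B` preserves flatness over `A`. -/
theorem flat_tensor_localization (Z : Type u) [AddCommGroup Z] [Module B Z] [Module A Z]
    [IsScalarTower A B Z] [Module.Flat A Z] :
    Module.Flat A (Z ⊗[B] Localization.AtPrime P) := by
  haveI : Module.Flat A (LocalizedModule P.primeCompl Z) :=
    Groth.Agent.Lib.Helper3.FlatLoc.flat_localizedModule_of_flat (R := A) (M := Z) P.primeCompl
  have hb₁ : IsBaseChange (Localization.AtPrime P)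
      (LocalizedModule.mkLinearMap P.primeCompl Z) :=
    IsLocalizedModule.isBaseChange P.primeCompl _ _
  let e : Z ⊗[B] Localization.AtPrime P ≃ₗ[A] LocalizedModule P.primeCompl Z :=
    (TensorProduct.comm B Z (Localization.AtPrime P)).restrictScalars A ≪≫ₗ
      hb₁.equiv.restrictScalars A
  exact Module.Flat.of_linearEquiv e

variable (A) in
/-- `C_P ⊗_B M ≃ M_P / p M_P`. -/
noncomputable def fibStalkEquiv (M : Type u) [AddCommGroup M] [Module B M] :
    (FibStalk A P) ⊗[B] M ≃ₗ[FibStalk A P]
      (LocalizedModule P.primeCompl M ⧸ (fibIdeal A P) •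
        (⊤ : Submodule (Localization.AtPrime P) (LocalizedModule P.primeCompl M))) :=
  ((IsLocalizedModule.isBaseChange P.primeCompl (Localization.AtPrime P)
    (LocalizedModule.mkLinearMap P.primeCompl M)).comp
    (Groth.Agent.Lib.Helper3.FibreFree.isBaseChange_mkQ (fibIdeal A P))).equiv

variable {X Y Z : Type u} [AddCommGroup X] [Module B X] [Module A X] [IsScalarTower A B X]
  [AddCommGroup Y] [Module B Y] [Module A Y] [IsScalarTower A B Y]
  [AddCommGroup Z] [Module B Z] [Module A Z] [IsScalarTower A B Z]

theorem fibStalk_rTensor_injective [Module.Flat A Z] (i : X →ₗ[B] Y) (g : Y →ₗ[B] Z)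
    (hi : Function.Injective i) (hg : Function.Surjective g) (hex : Function.Exact i g) :
    Function.Injective (i.rTensor (FibStalk A P)) := by
  have hZ : Module.Flat A (Z ⊗[B] Localization.AtPrime P) := flat_tensor_localization P Z
  have h1 := rTensor_injective_of_flat_coker (A := A) (Localization.AtPrime P) (A ⧸ P.under A)
    hZ i g hi hg hex
  let ec : FibStalk A P ≃ₗ[B] Localization.AtPrime P ⊗[A] (A ⧸ P.under A) :=
    (Algebra.TensorProduct.quotIdealMapEquivTensorQuot (Localization.AtPrime P)
      (P.under A)).toLinearEquiv.restrictScalars B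
  exact rTensor_injective_of_linearEquiv ec i h1

/-- A short exact sequence of `B`-modules with `A`-flat cokernel stays short exact after base
change to the local ring of the fibre at `P`. -/
theorem shortExact_fibStalk [Module.Flat A Z] (i : X →ₗ[B] Y) (g : Y →ₗ[B] Z)
    (hi : Function.Injective i) (hg : Function.Surjective g) (hex : Function.Exact i g) :
    ∃ w : ModuleCat.ofHom (i.baseChange (FibStalk A P)) ≫
        ModuleCat.ofHom (g.baseChange (FibStalk A P)) = 0,
      (ShortComplex.mk (ModuleCat.ofHom (i.baseChange (FibStalk A P)))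
        (ModuleCat.ofHom (g.baseChange (FibStalk A P))) w).ShortExact := by
  refine ⟨_, Groth.Agent.Helper13Devissage.shortExact_mk (i.baseChange (FibStalk A P))
    (g.baseChange (FibStalk A P)) ?_ ?_ ?_⟩
  · have h2 := fibStalk_rTensor_injective (A := A) P i g hi hg hex
    rw [← LinearMap.lTensor_inj_iff_rTensor_inj] at h2
    exact h2
  · exact LinearMap.lTensor_surjective (FibStalk A P) hg
  · exact lTensor_exact (FibStalk A P) hex hg

end Local

section LocalFree

variable {A B : Type u} [CommRing A] [CommRing B] [Algebra A B] (P : Ideal B) [P.IsPrime]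
  (M : Type u) [AddCommGroup M] [Module B M] [Module A M] [IsScalarTower A B M]

/-- The fibre stalk module at `P` is projective iff `M_P` is free over `B_P`. -/
theorem projective_fibStalk_iff [Module.FinitePresentation B M] [Module.Flat A M] :
    Module.Projective (FibStalk A P) ((FibStalk A P) ⊗[B] M) ↔
      Module.Free (Localization.AtPrime P) (LocalizedModule P.primeCompl M) := by
  constructor
  · intro h
    haveI : Module.Flat A (LocalizedModule P.primeCompl M) :=
      Groth.Agent.Lib.Helper3.FlatLoc.flat_localizedModule_of_flat (R := A) (M := M) P.primeCompl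
    have hfl : Module.Flat (FibStalk A P) ((FibStalk A P) ⊗[B] M) :=
      @Module.Flat.of_projective _ _ _ _ _ h
    have hfib : Module.Flat (Localization.AtPrime P ⧸ fibIdeal A P)
        (LocalizedModule P.primeCompl M ⧸ (fibIdeal A P) •
          (⊤ : Submodule (Localization.AtPrime P) (LocalizedModule P.primeCompl M))) :=
      @Module.Flat.of_linearEquiv _ _ _ _ _ _ _ _ hfl (fibStalkEquiv A P M).symm
    exact Groth.Agent.Lib.Helper3.FibreFree.free_of_flat_of_flat_quotient (P.under A)
      (fibIdeal_le A P) hfib
  · intro h
    have h1 : Module.Free (Localization.AtPrime P ⧸ fibIdeal A P)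
        (LocalizedModule P.primeCompl M ⧸ (fibIdeal A P) •
          (⊤ : Submodule (Localization.AtPrime P) (LocalizedModule P.primeCompl M))) :=
      Module.Free.of_equiv
        (Groth.Agent.Lib.Helper3.FibreFree.isBaseChange_mkQ (fibIdeal A P)).equiv
    have h2 : Module.Free (FibStalk A P) ((FibStalk A P) ⊗[B] M) :=
      Module.Free.of_equiv (fibStalkEquiv A P M).symm
    infer_instance

omit [Module A M] [IsScalarTower A B M] in
/-- The fibre stalk module at `P` vanishes iff `M_P` does. -/
theorem subsingleton_fibStalk_iff [Module.Finite B M] :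
    Subsingleton ((FibStalk A P) ⊗[B] M) ↔ Subsingleton (LocalizedModule P.primeCompl M) := by
  constructor
  · intro h
    have h1 : Subsingleton (LocalizedModule P.primeCompl M ⧸ (fibIdeal A P) •
        (⊤ : Submodule (Localization.AtPrime P) (LocalizedModule P.primeCompl M))) :=
      (fibStalkEquiv A P M).symm.toEquiv.subsingleton
    rw [Submodule.Quotient.subsingleton_iff] at h1
    have hJjac : fibIdeal A P ≤ Ideal.jacobson (⊥ : Ideal (Localization.AtPrime P)) := by
      rw [IsLocalRing.jacobson_eq_maximalIdeal ⊥ bot_ne_top]
      exact fibIdeal_le A P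
    have h2 := Submodule.eq_bot_of_le_smul_of_le_jacobson_bot (fibIdeal A P)
      (⊤ : Submodule (Localization.AtPrime P) (LocalizedModule P.primeCompl M))
      Module.Finite.fg_top (by rw [h1]) hJjac
    exact (Submodule.subsingleton_iff (Localization.AtPrime P)).1
      (subsingleton_of_bot_eq_top h2.symm)
  · intro h
    exact (fibStalkEquiv A P M).toEquiv.subsingleton

end LocalFree

section Open

variable (A B : Type u) [CommRing A] [CommRing B] [Algebra A B]

theorem projective_baseChange {B : Type u} [CommRing B] (C : Type u) [CommRing C] [Algebra B C]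
    (F : Type u) [AddCommGroup F] [Module B F] [Module.Projective B F] :
    Projective (ModuleCat.of C (C ⊗[B] F)) := by
  have : Module.Projective C (ModuleCat.of C (C ⊗[B] F)) :=
    inferInstanceAs (Module.Projective C (C ⊗[B] F))
  exact (IsProjective.iff_projective _).1 this

/-- The set of primes `P` of `B` at which the fibre stalk module `C_P ⊗_B M` has projective
dimension `< n` over the local ring `C_P = B_P / p B_P` of the fibre. -/
def fibLT (M : Type u) [AddCommGroup M] [Module B M] (n : ℕ) : Set (PrimeSpectrum B) :=
  {P | HasProjectiveDimensionLT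
    (ModuleCat.of (FibStalk A P.asIdeal) ((FibStalk A P.asIdeal) ⊗[B] M)) n}

theorem fibLT_zero_eq (M : Type u) [AddCommGroup M] [Module B M] [Module.Finite B M] :
    fibLT A B M 0 = (Module.support B M)ᶜ := by
  ext P
  change HasProjectiveDimensionLT _ 0 ↔ _
  rw [hasProjectiveDimensionLT_zero_iff_isZero, Set.mem_compl_iff, Module.notMem_support_iff,
    ← subsingleton_fibStalk_iff (A := A)]
  constructor
  · intro h
    exact ModuleCat.subsingleton_of_isZero h
  · intro h
    exact ModuleCat.isZero_of_subsingleton _

theorem fibLT_one_eq (M : Type u) [AddCommGroup M] [Module B M] [Module A M]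
    [IsScalarTower A B M] [Module.FinitePresentation B M] [Module.Flat A M] :
    fibLT A B M 1 = Module.freeLocus B M := by
  ext P
  change HasProjectiveDimensionLT _ 1 ↔ _
  rw [← projective_iff_hasProjectiveDimensionLT_one, Module.mem_freeLocus,
    ← projective_fibStalk_iff (A := A)]
  exact (IsProjective.iff_projective (ModuleCat.of (FibStalk A P.asIdeal)
    ((FibStalk A P.asIdeal) ⊗[B] M))).symm

variable [Algebra.FinitePresentation A B] [Module.Flat A B]

theorem isOpen_fibLT_succ (n : ℕ) :
    ∀ (M : Type u) [AddCommGroup M] [Module B M] [Module A M] [IsScalarTower A B M]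
      [Module.FinitePresentation B M] [Module.Flat A M], IsOpen (fibLT A B M (n + 1)) := by
  induction n with
  | zero =>
    intro M _ _ _ _ _ _
    rw [fibLT_one_eq]
    exact Module.isOpen_freeLocus
  | succ n ih =>
    intro M _ _ _ _ _ _
    obtain ⟨r, g, hg, hfp, hfl⟩ := FlatSyz.exists_syzygy A B M
    have hex : Function.Exact (LinearMap.ker g).subtype g := LinearMap.exact_subtype_ker_map g
    have heq : fibLT A B M (n + 1 + 1) = fibLT A B (LinearMap.ker g) (n + 1) := by
      ext P
      obtain ⟨w, hSp⟩ := shortExact_fibStalk (A := A) P.asIdeal (LinearMap.ker g).subtype g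
        (Submodule.injective_subtype _) hg hex
      have hprojp : Projective (ModuleCat.of (FibStalk A P.asIdeal)
          ((FibStalk A P.asIdeal) ⊗[B] (Fin r → B))) :=
        projective_baseChange (FibStalk A P.asIdeal) _
      exact hSp.hasProjectiveDimensionLT_X₃_iff n hprojp
    rw [heq]
    exact ih (LinearMap.ker g)

/-- **Upper semicontinuity of the fibre projective dimension**: the locus where the fibre stalk
module has projective dimension `< n` is open. -/
theorem isOpen_fibLT (M : Type u) [AddCommGroup M] [Module B M] [Module A M]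
    [IsScalarTower A B M] [Module.FinitePresentation B M] [Module.Flat A M] (n : ℕ) :
    IsOpen (fibLT A B M n) := by
  cases n with
  | zero =>
    rw [fibLT_zero_eq, Module.support_eq_zeroLocus]
    exact (PrimeSpectrum.isClosed_zeroLocus _).isOpen_compl
  | succ n => exact isOpen_fibLT_succ A B n M

end Open

end Groth.Agent.R2.H26.PdFlat
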