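import Mathlib
import Groth.Agent.Lib.Helper13TorMore
import Groth.Agent.Lib.Helper13Devissage
import Groth.Agent.R2.H26FlatSyz

/-!
# Projective dimension versus Tor-dimension for finitely presented modules flat over the base
(helper26)

`A → B` flat of finite presentation, `M` a finitely presented `B`-module flat over `A`. Then
`pd_B M < i` iff `Tor_j^B(M, -) = 0` for all `j ≥ i` (`hasProjectiveDimensionLT_iff_isZero_tor`),
hence the projective dimension equals the Tor-dimension.
-/

set_option autoImplicit false
set_option linter.style.haveILetI false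

universe u

namespace Groth.Agent.R2.H26.PdFlat

open CategoryTheory CategoryTheory.Limits Groth.Agent.Helper13Tor MonoidalCategory

section General

variable {B : Type u} [CommRing B]

/-- `Tor_i(X, N) = 0` for `i > n` whenever `X` has projective dimension `≤ n`. -/
theorem isZero_tor_of_hasProjectiveDimensionLT (n : ℕ) :
    ∀ (X : ModuleCat.{u} B), HasProjectiveDimensionLT X (n + 1) → ∀ (i : ℕ), n < i →
      ∀ N : ModuleCat.{u} B, IsZero (((Tor (ModuleCat.{u} B) i).obj X).obj N) := by
  induction n with
  | zero =>
    intro X hX i hi N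
    have : Projective X := projective_iff_hasProjectiveDimensionLT_one.2 hX
    exact isZero_tor_of_flat N X i hi
  | succ n ih =>
    intro X hX i hi N
    obtain ⟨j, rfl⟩ : ∃ j, i = j + 1 := ⟨i - 1, by omega⟩
    let π := Projective.π X
    let S : ShortComplex (ModuleCat.{u} B) := ShortComplex.mk (kernel.ι π) π (kernel.condition π)
    have hS : S.ShortExact := by
      have hex : S.Exact := ShortComplex.exact_of_f_is_kernel _ (kernelIsKernel π)
      have : Mono S.f := inferInstanceAs (Mono (kernel.ι π))
      have : Epi S.g := inferInstanceAs (Epi (Projective.π X))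
      exact ShortComplex.ShortExact.mk hex
    have hP : Projective S.X₂ := inferInstanceAs (Projective (Projective.over X))
    have hK : HasProjectiveDimensionLT S.X₁ (n + 1) :=
      (hS.hasProjectiveDimensionLT_X₃_iff n hP).1 hX
    refine isZero_tor_X₃ S hS N j ?_ ?_
    · exact isZero_tor_of_flat N S.X₂ (j + 1) (by omega)
    · exact ih S.X₁ hK j (by omega) N

/-- All `Tor_i(X, N)` vanish when `X` is a zero object. -/
theorem isZero_tor_of_isZero (X : ModuleCat.{u} B) (hX : IsZero X) (i : ℕ) (N : ModuleCat.{u} B) :
    IsZero (((Tor (ModuleCat.{u} B) i).obj X).obj N) := by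
  let Q := ProjectiveResolution.of N
  refine IsZero.of_iso ?_ (torIso Q X i)
  rw [← HomologicalComplex.exactAt_iff_isZero_homology]
  apply ShortComplex.exact_of_isZero_X₂
  show IsZero (X ⊗ Q.complex.X i)
  haveI : Subsingleton X := ModuleCat.subsingleton_of_isZero hX
  haveI : Subsingleton (TensorProduct B X (Q.complex.X i)) := inferInstance
  exact ModuleCat.isZero_of_subsingleton (ModuleCat.of B (TensorProduct B X (Q.complex.X i)))

/-- If `Tor_0(X, B) = 0` then `X = 0`. -/
theorem isZero_of_isZero_tor_zero (X : ModuleCat.{u} B)
    (h : IsZero (((Tor (ModuleCat.{u} B) 0).obj X).obj (ModuleCat.of B B))) : IsZero X := by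
  have e₁ : ((Tor (ModuleCat.{u} B) 0).obj X).obj (ModuleCat.of B B) ≅ X ⊗ ModuleCat.of B B :=
    (tL X).leftDerivedZeroIsoSelf.app (ModuleCat.of B B)
  have e₂ : X ⊗ ModuleCat.of B B ≅ X := ρ_ X
  exact IsZero.of_iso h (e₁ ≪≫ e₂).symm

/-- `Tor_1(X, -) = 0` implies `X` flat. -/
theorem flat_of_isZero_tor_one (X : ModuleCat.{u} B)
    (h : ∀ N : ModuleCat.{u} B, IsZero (((Tor (ModuleCat.{u} B) 1).obj X).obj N)) :
    Module.Flat B X := by
  rw [Module.Flat.iff_lTensor_preserves_injective_linearMap'.{u, u, u}]
  intro N N' _ _ _ _ φ hφ
  have hS := Groth.Agent.Helper13Devissage.shortExact_mk φ (LinearMap.range φ).mkQ hφ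
    (Submodule.mkQ_surjective _) (LinearMap.exact_map_mkQ_range φ)
  exact (isZero_tor_one_iff_lTensor_injective X _ hS (h _)).1 (h _)

theorem projective_of_free_fin (r : ℕ) : Projective (ModuleCat.of B (Fin r → B)) := by
  have : Module.Projective B (ModuleCat.of B (Fin r → B)) :=
    inferInstanceAs (Module.Projective B (Fin r → B))
  exact (IsProjective.iff_projective _).1 this

end General

section Good

variable (A B : Type u) [CommRing A] [CommRing B] [Algebra A B]
    [Algebra.FinitePresentation A B] [Module.Flat A B]

/-- For good modules, vanishing of `Tor_i(M, -)` for `i > n` bounds the projective dimension. -/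
theorem hasProjectiveDimensionLT_of_isZero_tor (n : ℕ) :
    ∀ (M : Type u) [AddCommGroup M] [Module B M] [Module A M]
      [IsScalarTower A B M] [Module.FinitePresentation B M] [Module.Flat A M],
      (∀ (i : ℕ), n < i → ∀ N : ModuleCat.{u} B,
        IsZero (((Tor (ModuleCat.{u} B) i).obj (ModuleCat.of B M)).obj N)) →
      HasProjectiveDimensionLT (ModuleCat.of B M) (n + 1) := by
  induction n with
  | zero =>
    intro M _ _ _ _ _ _ h
    have hflat : Module.Flat B M := flat_of_isZero_tor_one (ModuleCat.of B M) (h 1 (by omega))
    have hproj : Module.Projective B M := Module.Flat.projective_of_finitePresentation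
    have : Module.Projective B (ModuleCat.of B M) := hproj
    have hp : Projective (ModuleCat.of B M) := (IsProjective.iff_projective _).1 this
    exact projective_iff_hasProjectiveDimensionLT_one.1 hp
  | succ n ih =>
    intro M _ _ _ _ _ _ h
    obtain ⟨r, g, hg, hfp, hfl⟩ := FlatSyz.exists_syzygy A B M
    let K := LinearMap.ker g
    have hex : Function.Exact K.subtype g := LinearMap.exact_subtype_ker_map g
    have hS := Groth.Agent.Helper13Devissage.shortExact_mk K.subtype g
      (Submodule.injective_subtype _) hg hex
    have hproj := projective_of_free_fin (B := B) r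
    have hK : HasProjectiveDimensionLT (ModuleCat.of B K) (n + 1) := by
      apply ih K
      intro i hi N
      refine isZero_tor_X₁ _ hS N i (h (i + 1) (by omega) N) ?_
      haveI : Module.Flat B (ModuleCat.of B (Fin r → B)) :=
        inferInstanceAs (Module.Flat B (Fin r → B))
      exact isZero_tor_of_flat N (ModuleCat.of B (Fin r → B)) i (by omega)
    exact (hS.hasProjectiveDimensionLT_X₃_iff n hproj).2 hK

/-- For good modules: `pd < i` iff `Tor_j(M, -)` vanishes for all `j ≥ i`. -/
theorem hasProjectiveDimensionLT_iff_isZero_tor (M : Type u) [AddCommGroup M] [Module B M]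
    [Module A M] [IsScalarTower A B M] [Module.FinitePresentation B M] [Module.Flat A M] (i : ℕ) :
    HasProjectiveDimensionLT (ModuleCat.of B M) i ↔
      ∀ (j : ℕ), i ≤ j → ∀ N : ModuleCat.{u} B,
        IsZero (((Tor (ModuleCat.{u} B) j).obj (ModuleCat.of B M)).obj N) := by
  cases i with
  | zero =>
    rw [hasProjectiveDimensionLT_zero_iff_isZero]
    constructor
    · intro h j _ N
      exact isZero_tor_of_isZero _ h j N
    · intro h
      exact isZero_of_isZero_tor_zero _ (h 0 le_rfl _)
  | succ n =>
    constructor
    · intro h j hj N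
      exact isZero_tor_of_hasProjectiveDimensionLT n _ h j (by omega) N
    · intro h
      exact hasProjectiveDimensionLT_of_isZero_tor A B n M (fun j hj N => h j (by omega) N)

/-- Projective dimension equals Tor-dimension for good modules. -/
theorem projectiveDimension_eq_torDimension (M : Type u) [AddCommGroup M] [Module B M]
    [Module A M] [IsScalarTower A B M] [Module.FinitePresentation B M] [Module.Flat A M] :
    projectiveDimension (ModuleCat.of B M) =
      sInf {n : WithBot ℕ∞ | ∀ i : ℕ, n < i → ∀ N : ModuleCat.{u} B,
        Limits.IsZero (((Tor (ModuleCat.{u} B) i).obj (ModuleCat.of B M)).obj N)} := by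
  unfold projectiveDimension
  congr 1
  ext n
  simp only [Set.mem_ofPred_eq]
  constructor
  · intro h i hi N
    exact (hasProjectiveDimensionLT_iff_isZero_tor A B M i).1 (h i hi) i le_rfl N
  · intro h i hi
    rw [hasProjectiveDimensionLT_iff_isZero_tor A B M i]
    intro j hj N
    refine h j (lt_of_lt_of_le hi ?_) N
    exact_mod_cast hj

end Good

end Groth.Agent.R2.H26.PdFlat
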