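import Groth.Prelude.Def_EGA4Misc
import Groth.Agent.Lib.Helper20ResFld
import Mathlib

/-!
# `RadPt.IsBirational` is stable under flat base change (helper26)

Point-level / residue-field-level birationality (`RadPt.IsBirational`) for `f : X ⟶ Y` is
preserved by base change along a flat morphism `g : Y' ⟶ Y`.
-/

set_option autoImplicit false
universe u
open CategoryTheory CategoryTheory.Limits AlgebraicGeometry

namespace Groth.Agent.R2.H26.RadBir

/-! ### Generic points = points without proper generizations -/

/-- A point without proper generizations in a quasi-sober space is the generic point of an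
irreducible component. -/
theorem mem_genericPoints_of_forall_specializes {α : Type*} [TopologicalSpace α] [QuasiSober α]
    (ξ : α) (h : ∀ x' : α, x' ⤳ ξ → x' = ξ) : ξ ∈ genericPoints α := by
  obtain ⟨Z, hZ, hle, hmax⟩ := exists_preirreducible (closure ({ξ} : Set α))
    (isIrreducible_singleton.closure).isPreirreducible
  have hZmem : Z ∈ irreducibleComponents α := by
    refine ⟨⟨⟨ξ, hle (subset_closure rfl)⟩, hZ⟩, fun W hW hZW => ?_⟩
    exact (hmax W hW.2 hZW).le
  have hZirr : IsIrreducible Z := hZmem.1
  have hZcl : IsClosed Z := isClosed_of_mem_irreducibleComponents Z hZmem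
  obtain ⟨η, hη⟩ := QuasiSober.sober hZirr hZcl
  have hξZ : ξ ∈ Z := hle (subset_closure rfl)
  have hspec : η ⤳ ξ := by
    rw [specializes_iff_mem_closure, hη.def]
    exact hξZ
  have : η = ξ := h η hspec
  subst this
  show closure {η} ∈ irreducibleComponents α
  rw [hη.def]
  exact hZmem

/-- The generic point of an irreducible component has no proper generization. -/
theorem eq_of_specializes_of_mem_genericPoints {α : Type*} [TopologicalSpace α] [T0Space α]
    {ξ : α} (hξ : ξ ∈ genericPoints α) {z : α} (hz : z ⤳ ξ) : z = ξ := by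
  have h1 : closure ({ξ} : Set α) ⊆ closure {z} := by
    apply closure_minimal _ isClosed_closure
    rw [Set.singleton_subset_iff]
    exact specializes_iff_mem_closure.mp hz
  have h2 : closure ({z} : Set α) ⊆ closure {ξ} :=
    hξ.2 (isIrreducible_singleton.closure) h1
  have h3 : ξ ⤳ z := by
    rw [specializes_iff_mem_closure]
    exact h2 (subset_closure rfl)
  exact (hz.antisymm h3).eq

/-- Every point of a quasi-sober space has a generization which is the generic point of an
irreducible component. -/
theorem exists_mem_genericPoints_specializes {α : Type*} [TopologicalSpace α] [QuasiSober α]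
    (x : α) : ∃ z ∈ genericPoints α, z ⤳ x := by
  have hmem := irreducibleComponent_mem_irreducibleComponents x
  have hZirr : IsIrreducible (irreducibleComponent x) := hmem.1
  have hZcl : IsClosed (irreducibleComponent x) := isClosed_irreducibleComponent
  obtain ⟨η, hη⟩ := QuasiSober.sober hZirr hZcl
  refine ⟨η, ?_, ?_⟩
  · show closure {η} ∈ irreducibleComponents α
    rw [hη.def]
    exact hmem
  · rw [specializes_iff_mem_closure, hη.def]
    exact mem_irreducibleComponent

/-- A flat morphism maps generic points of irreducible components to generic points of irreducible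
components. -/
theorem mem_genericPoints_of_flat {X Y : Scheme.{u}} (g : X ⟶ Y) [Flat g] {x : X}
    (hx : x ∈ genericPoints X) : g x ∈ genericPoints Y := by
  apply mem_genericPoints_of_forall_specializes
  intro z hz
  obtain ⟨z', hz', rfl⟩ := Flat.generalizingMap g hz
  rw [eq_of_specializes_of_mem_genericPoints hx hz']

/-! ### Points of a cartesian square over a point with trivial residue field extension -/

theorem bijective_residueFieldMap_of_eq {X Y : Scheme.{u}} {a b : X ⟶ Y} (h : a = b) (x : X)
    (hb : Function.Bijective (b.residueFieldMap x)) : Function.Bijective (a.residueFieldMap x) := by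
  subst h; exact hb

variable {X Y X' Y' : Scheme.{u}} {f : X ⟶ Y} {g : Y' ⟶ Y} {f' : X' ⟶ Y'} {g' : X' ⟶ X}

/-- In a cartesian square, there is at most one point over `(x, y')` if `κ(f x) → κ(x)` is
bijective. -/
theorem eq_of_isPullback (sq : IsPullback g' f' f g) (w w' : X') (h1 : g' w = g' w')
    (h2 : f' w = f' w') (hf : Function.Bijective (f.residueFieldMap (g' w'))) : w = w' := by
  let e : X' ≅ pullback g f := sq.flip.isoPullback
  have he1 : e.hom ≫ pullback.fst g f = f' := sq.flip.isoPullback_hom_fst
  have he2 : e.hom ≫ pullback.snd g f = g' := sq.flip.isoPullback_hom_snd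
  have hg'w : ∀ z : X', pullback.snd g f (e.hom z) = g' z := fun z => by
    rw [← he2]; rfl
  have hf'w : ∀ z : X', pullback.fst g f (e.hom z) = f' z := fun z => by
    rw [← he1]; rfl
  have key : e.hom w = e.hom w' := by
    apply Groth.Agent.Lib.Helper20.ResFld.eq_of_fst_eq_of_snd_eq
    · rw [hf'w, hf'w, h2]
    · rw [hg'w, hg'w, h1]
    · rw [hg'w]; exact hf
  have := congrArg e.inv key
  simpa using this

/-- In a cartesian square, `κ(y') → κ(x')` is bijective if `κ(f x) → κ(x)` is, `x = g' x'`. -/
theorem bijective_residueFieldMap_of_isPullback (sq : IsPullback g' f' f g) (w : X')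
    (hf : Function.Bijective (f.residueFieldMap (g' w))) :
    Function.Bijective (f'.residueFieldMap w) := by
  let e : X' ≅ pullback g f := sq.flip.isoPullback
  have he1 : e.hom ≫ pullback.fst g f = f' := sq.flip.isoPullback_hom_fst
  have he2 : e.hom ≫ pullback.snd g f = g' := sq.flip.isoPullback_hom_snd
  have hg'w : ∀ z : X', pullback.snd g f (e.hom z) = g' z := fun z => by
    rw [← he2]; rfl
  apply bijective_residueFieldMap_of_eq he1.symm
  apply Groth.Agent.Lib.Helper20.ResFld.bijective_residueFieldMap_comp
  · exact ConcreteCategory.bijective_of_isIso _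
  · apply Groth.Agent.Lib.Helper20.ResFld.bijective_fst_residueFieldMap
    rw [hg'w]; exact hf

/-- In a cartesian square, if `κ(f x) → κ(x)` is bijective, then `f'` reflects specialization
among the points lying over `x`. -/
theorem specializes_of_isPullback (sq : IsPullback g' f' f g) (w x' : X') (h1 : g' w = g' x')
    (hspec : f' w ⤳ f' x') (hf : Function.Bijective (f.residueFieldMap (g' x'))) : w ⤳ x' := by
  set x : X := g' x' with hx
  have hiso : IsIso (f.residueFieldMap x) := (ConcreteCategory.isIso_iff_bijective _).mpr hf
  have hP := isPullback_fiberToSpecResidueField_of_isPullback sq.flip x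
  set Φ : g'.fiber x ⟶ g.fiber (f x) :=
    pullback.map _ _ _ _ f' (Spec.map (f.residueFieldMap x)) f sq.flip.w.symm (by simp) with hΦ
  have hΦiso : IsIso Φ := hP.isIso_fst_of_isIso
  have hΦι : Φ ≫ g.fiberι (f x) = g'.fiberι x ≫ f' := by
    rw [hΦ]
    exact pullback.lift_fst _ _ _
  -- lift the two points to the fibre
  obtain ⟨a, ha⟩ : w ∈ Set.range (g'.fiberι x) := by
    rw [Scheme.Hom.range_fiberι]; exact h1
  obtain ⟨b, hb⟩ : x' ∈ Set.range (g'.fiberι x) := by
    rw [Scheme.Hom.range_fiberι]; rfl
  have hfa : f' w = g.fiberι (f x) (Φ a) := by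
    rw [← ha]
    change (g'.fiberι x ≫ f') a = (Φ ≫ g.fiberι (f x)) a
    rw [hΦι]
  have hfb : f' x' = g.fiberι (f x) (Φ b) := by
    rw [← hb]
    change (g'.fiberι x ≫ f') b = (Φ ≫ g.fiberι (f x)) b
    rw [hΦι]
  rw [hfa, hfb] at hspec
  have hemb : Topology.IsEmbedding (g.fiberι (f x)) := (g.fiberι (f x)).isEmbedding
  have h2 : Φ a ⤳ Φ b := hemb.isInducing.specializes_iff.mp hspec
  have h3 : a ⤳ b := by
    have := h2.map (inv Φ).continuous
    have e1 : ∀ c, (inv Φ) (Φ c) = c := fun c => by
      change (Φ ≫ inv Φ) c = c
      rw [IsIso.hom_inv_id]; rfl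
    rwa [e1, e1] at this
  rw [← ha, ← hb]
  exact h3.map (g'.fiberι x).continuous

end Groth.Agent.R2.H26.RadBir
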