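import Mathlib
import Groth.Agent.R2.H26PdFibre
import Groth.Agent.Lib.Helper1TorG
import Groth.Agent.Lib.Helper1Restrict

/-!
# Perfectness from fibres of finite global dimension (helper26)

Tools for S7035: transfer of projective dimension along a ring isomorphism, versions of the fibre
lemmas of `H26PdFibre` for `B`-modules with the `A`-structure induced from `B`, and the flatness of
the `d`-th syzygy `F.opcycles (a - d)` of a finite free complex whose restriction to `A` has tor
amplitude in `[a, b]`, when all fibre rings have global dimension `≤ d`.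
-/

set_option autoImplicit false
set_option linter.style.haveILetI false

universe u

namespace Groth.Agent.R2.H26.RelPerf

open CategoryTheory CategoryTheory.Limits TensorProduct

section Transfer

variable {C C' : Type u} [CommRing C] [CommRing C'] (σ : C ≃+* C')

theorem projective_of_ringEquiv (M : Type u) [AddCommGroup M] [Module C M] [Module C' M]
    (hσ : ∀ (c : C) (m : M), σ c • m = c • m) [Module.Projective C' M] :
    Module.Projective C M := by
  letI : RingHomInvPair (σ.symm : C' →+* C) (σ : C →+* C') := RingHomInvPair.of_ringEquiv_symm σ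
  letI : RingHomInvPair (σ : C →+* C') (σ.symm : C' →+* C) := RingHomInvPair.of_ringEquiv σ
  let e : M ≃ₛₗ[(σ.symm : C' →+* C)] M :=
    { toFun := id
      invFun := id
      map_add' := fun _ _ => rfl
      map_smul' := fun c' m => by
        change c' • m = σ.symm c' • m
        rw [← hσ (σ.symm c') m, RingEquiv.apply_symm_apply]
      left_inv := fun _ => rfl
      right_inv := fun _ => rfl }
  exact Module.Projective.of_equiv e

/-- Projective dimension does not depend on the ring up to isomorphism. -/
theorem hasProjectiveDimensionLT_succ_of_ringEquiv (n : ℕ) :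
    ∀ (M : Type u) [AddCommGroup M] [Module C M] [Module C' M]
      (_ : ∀ (c : C) (m : M), σ c • m = c • m),
      HasProjectiveDimensionLT (ModuleCat.of C' M) (n + 1) →
      HasProjectiveDimensionLT (ModuleCat.of C M) (n + 1) := by
  induction n with
  | zero =>
    intro M _ _ _ hσ h
    have hp : Projective (ModuleCat.of C' M) := projective_iff_hasProjectiveDimensionLT_one.2 h
    haveI : Module.Projective C' M := (IsProjective.iff_projective (ModuleCat.of C' M)).2 hp
    haveI := projective_of_ringEquiv σ M hσ
    exact projective_iff_hasProjectiveDimensionLT_one.1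
      (Groth.Agent.R2.H26.PdFlat.projective_of_module_projective M)
  | succ n ih =>
    intro M _ _ _ hσ h
    let g : (M →₀ C) →ₗ[C] M := Finsupp.linearCombination C (id : M → M)
    have hg : Function.Surjective g :=
      Finsupp.linearCombination_surjective _ Function.surjective_id
    let K := LinearMap.ker g
    have hex : Function.Exact K.subtype g := LinearMap.exact_subtype_ker_map g
    -- `C'`-structures
    letI mP : Module C' (M →₀ C) := Module.compHom (M →₀ C) (σ.symm : C' →+* C)
    letI mK : Module C' K := Module.compHom K (σ.symm : C' →+* C)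
    have hσP : ∀ (c : C) (m : M →₀ C), σ c • m = c • m := fun c m => by
      change σ.symm (σ c) • m = c • m
      rw [RingEquiv.symm_apply_apply]
    have hσK : ∀ (c : C) (m : K), σ c • m = c • m := fun c m => by
      change σ.symm (σ c) • m = c • m
      rw [RingEquiv.symm_apply_apply]
    let i' : K →ₗ[C'] (M →₀ C) :=
      { toFun := K.subtype
        map_add' := fun x y => map_add _ x y
        map_smul' := fun c' x => by
          change K.subtype (σ.symm c' • x) = σ.symm c' • K.subtype x
          exact map_smul _ _ _ }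
    let g' : (M →₀ C) →ₗ[C'] M :=
      { toFun := g
        map_add' := fun x y => map_add _ x y
        map_smul' := fun c' x => by
          change g (σ.symm c' • x) = c' • g x
          rw [map_smul, ← hσ (σ.symm c') (g x), RingEquiv.apply_symm_apply] }
    have hS' := Groth.Agent.Helper13Devissage.shortExact_mk (X := K) (Y := M →₀ C) (Z := M)
      i' g' (Submodule.injective_subtype _) hg hex
    haveI hpP : Module.Projective C' (M →₀ C) := by
      letI : RingHomInvPair (σ.symm : C' →+* C) (σ : C →+* C') :=
        RingHomInvPair.of_ringEquiv_symm σ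
      letI : RingHomInvPair (σ : C →+* C') (σ.symm : C' →+* C) := RingHomInvPair.of_ringEquiv σ
      let e : (M →₀ C) ≃ₛₗ[(σ : C →+* C')] (M →₀ C) :=
        { toFun := id
          invFun := id
          map_add' := fun _ _ => rfl
          map_smul' := fun c m => (hσP c m).symm
          left_inv := fun _ => rfl
          right_inv := fun _ => rfl }
      exact Module.Projective.of_equiv e
    have hproj' : Projective (ModuleCat.of C' (M →₀ C)) :=
      Groth.Agent.R2.H26.PdFlat.projective_of_module_projective _
    have hK' : HasProjectiveDimensionLT (ModuleCat.of C' K) (n + 1) :=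
      (hS'.hasProjectiveDimensionLT_X₃_iff n hproj').1 h
    have hK : HasProjectiveDimensionLT (ModuleCat.of C K) (n + 1) := ih K hσK hK'
    have hS := Groth.Agent.Helper13Devissage.shortExact_mk (X := K) (Y := M →₀ C) (Z := M)
      K.subtype g (Submodule.injective_subtype _) hg hex
    have hproj : Projective (ModuleCat.of C (M →₀ C)) :=
      Groth.Agent.R2.H26.PdFlat.projective_of_module_projective _
    exact (hS.hasProjectiveDimensionLT_X₃_iff n hproj).2 hK

end Transfer

section CompHom

variable {A B : Type u} [CommRing A] [CommRing B] [Algebra A B]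

/-- `shortExact_baseChange` with the `A`-structures induced from `B`. -/
theorem shortExact_baseChange_compHom (κ : Type u) [CommRing κ] [Algebra A κ]
    {X Y Z : Type u} [AddCommGroup X] [Module B X] [AddCommGroup Y] [Module B Y]
    [AddCommGroup Z] [Module B Z]
    (hZ : @Module.Flat A Z _ _ (Module.compHom Z (algebraMap A B)))
    (i : X →ₗ[B] Y) (g : Y →ₗ[B] Z) (hi : Function.Injective i) (hg : Function.Surjective g)
    (hex : Function.Exact i g) :
    ∃ w : ModuleCat.ofHom (i.baseChange (B ⊗[A] κ)) ≫
        ModuleCat.ofHom (g.baseChange (B ⊗[A] κ)) = 0,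
      (ShortComplex.mk (ModuleCat.ofHom (i.baseChange (B ⊗[A] κ)))
        (ModuleCat.ofHom (g.baseChange (B ⊗[A] κ))) w).ShortExact := by
  letI : Module A X := Module.compHom X (algebraMap A B)
  letI : Module A Y := Module.compHom Y (algebraMap A B)
  letI : Module A Z := Module.compHom Z (algebraMap A B)
  haveI : IsScalarTower A B X := IsScalarTower.of_algebraMap_smul (fun r m => rfl)
  haveI : IsScalarTower A B Y := IsScalarTower.of_algebraMap_smul (fun r m => rfl)
  haveI : IsScalarTower A B Z := IsScalarTower.of_algebraMap_smul (fun r m => rfl)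
  haveI : Module.Flat A Z := hZ
  exact Groth.Agent.R2.H26.PdFlat.shortExact_baseChange (A := A) κ i g hi hg hex

/-- Fibrewise flatness criterion with the `A`-structure induced from `B`. -/
theorem flat_of_flat_fibres_compHom (M : Type u) [AddCommGroup M] [Module B M]
    [Module.FinitePresentation B M]
    (hM : @Module.Flat A M _ _ (Module.compHom M (algebraMap A B)))
    (h : ∀ p : PrimeSpectrum A, Module.Flat (B ⊗[A] p.asIdeal.ResidueField)
      ((B ⊗[A] p.asIdeal.ResidueField) ⊗[B] M)) : Module.Flat B M := by
  letI : Module A M := Module.compHom M (algebraMap A B)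
  haveI : IsScalarTower A B M := IsScalarTower.of_algebraMap_smul (fun r m => rfl)
  haveI : Module.Flat A M := hM
  exact Groth.Agent.Lib.Helper3.FibreFree.flat_of_flat_fibres (A := A)
    (fun p hp => h ⟨p, hp⟩)

end CompHom

section Opcycles

variable {B : Type u} [CommRing B]

open Groth.Agent.Lib.Helper1.Tor

lemma fexact_d_pOpcycles' (G : DRing.Cx B) (j : ℤ) :
    Function.Exact (G.d j (j + 1)).hom (G.pOpcycles (j + 1)).hom := by
  have hcok := G.opcyclesIsCokernel j (j + 1) (by simp)
  have hS : (ShortComplex.mk (G.d j (j + 1)) (G.pOpcycles (j + 1))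
      (G.d_pOpcycles j (j + 1))).Exact :=
    ShortComplex.exact_of_g_is_cokernel _ hcok
  rw [ShortComplex.ShortExact.moduleCat_exact_iff_function_exact] at hS
  exact hS

lemma fromOpcycles_pOpcycles (G : DRing.Cx B) (j : ℤ) (y : G.X j) :
    (G.fromOpcycles j (j + 1)).hom ((G.pOpcycles j).hom y) = (G.d j (j + 1)).hom y := by
  have := G.p_fromOpcycles j (j + 1)
  exact congrArg (fun f => f.hom y) this

lemma pOpcycles_surjective (G : DRing.Cx B) (j : ℤ) : Function.Surjective (G.pOpcycles j).hom :=
  (ModuleCat.epi_iff_surjective _).1 inferInstance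

lemma fromOpcycles_exact (G : DRing.Cx B) (j : ℤ) :
    Function.Exact (G.fromOpcycles j (j + 1)).hom (G.pOpcycles (j + 1)).hom := by
  intro y
  rw [fexact_d_pOpcycles' G j y]
  constructor
  · rintro ⟨x, rfl⟩
    exact ⟨(G.pOpcycles j).hom x, fromOpcycles_pOpcycles G j x⟩
  · rintro ⟨x, rfl⟩
    obtain ⟨x', rfl⟩ := pOpcycles_surjective G j x
    exact ⟨x', (fromOpcycles_pOpcycles G j x').symm⟩

lemma fromOpcycles_injective (G : DRing.Cx B) (j : ℤ) (hex : G.ExactAt j) :
    Function.Injective (G.fromOpcycles j (j + 1)).hom := by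
  rw [injective_iff_map_eq_zero]
  intro x hx
  obtain ⟨y, rfl⟩ := pOpcycles_surjective G j x
  rw [fromOpcycles_pOpcycles] at hx
  have h1 := (exactAt_iff_fexact G (j - 1) j (j + 1) (by lia) rfl).1 hex
  obtain ⟨z, rfl⟩ := (h1 y).1 hx
  have := G.d_pOpcycles (j - 1) j
  exact congrArg (fun f => f.hom z) this

end Opcycles

section TorAmp

variable {R : Type u} [CommRing R]

attribute [local instance] HasDerivedCategory.standard

open Groth.Agent.Lib.Helper1.Tor DerivedCategory

/-- A bounded above complex of flat modules, exact outside `[a, b]`, whose opcycles in degree `a`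
are flat, has tor amplitude in `[a, b]`. -/
theorem hasTorAmp_of_flat_opcycles (G : DRing.Cx R) (bG : ℤ) (hGb : DRing.VanishesAbove G bG)
    (hG : DRing.TermwiseFlat G) (a b : ℤ) (hlo : ∀ i : ℤ, i < a → G.ExactAt i)
    (hhi : ∀ i : ℤ, b < i → G.ExactAt i) (hflat : Module.Flat R (G.opcycles a)) :
    DRing.HasTorAmplitudeIn R a b (DRing.toD G) := by
  have hGge : CochainComplex.IsGE G a := by
    rw [CochainComplex.isGE_iff]
    exact hlo
  have hq : QuasiIso (G.πTruncGE a) := (G.quasiIso_πTruncGE_iff a).2 hGge
  have hiso : IsIso (Q.map (G.πTruncGE a)) :=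
    (DerivedCategory.isIso_Q_map_iff_quasiIso (φ := G.πTruncGE a)).2 hq
  set G' := G.truncGE a with hG'
  have hG'f : DRing.TermwiseFlat G' := by
    intro i
    obtain hi | rfl | hi := lt_trichotomy i a
    · have := ModuleCat.subsingleton_of_isZero ((G.truncGE a).isZero_of_isStrictlyGE a i hi)
      infer_instance
    · exact Module.Flat.of_linearEquiv (G.truncGEXIsoOpcycles i).toLinearEquiv
    · have := hG i
      exact Module.Flat.of_linearEquiv (G.truncGEXIso a i hi).toLinearEquiv
  have hG'b : DRing.VanishesAbove G' (max bG a) := by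
    intro i hi
    have hi1 : a < i := lt_of_le_of_lt (le_max_right _ _) hi
    have hi2 : bG < i := lt_of_le_of_lt (le_max_left _ _) hi
    exact (hGb i hi2).of_iso (G.truncGEXIso a i hi1)
  have hex' : ∀ j : ℤ, b < j → G'.ExactAt j := fun j hj =>
    exactAt_of_Q_iso (asIso (Q.map (G.πTruncGE a))) j (hhi j hj)
  have hG'le : CochainComplex.IsLE G' b := by
    rw [CochainComplex.isLE_iff]
    exact hex'
  have hq' : QuasiIso (G'.ιTruncLE b) := (G'.quasiIso_ιTruncLE_iff b).2 hG'le
  have hiso' : IsIso (Q.map (G'.ιTruncLE b)) :=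
    (DerivedCategory.isIso_Q_map_iff_quasiIso (φ := G'.ιTruncLE b)).2 hq'
  refine ⟨G'.truncLE b, ?_, termwiseFlat_truncLE G' _ hG'b hG'f b hex',
    ⟨asIso (Q.map (G'.ιTruncLE b)) ≪≫ (asIso (Q.map (G.πTruncGE a))).symm⟩⟩
  intro i hi
  by_cases hib : b < i
  · exact (G'.truncLE b).isZero_of_isStrictlyLE b i hib
  · have hia : i < a := by
      rcases hi with hi | hi
      · exact hi
      · exact absurd hi hib
    have hz : IsZero (G'.X i) := G'.isZero_of_isStrictlyGE a i hia
    obtain hib' | rfl := lt_or_eq_of_le (not_lt.1 hib)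
    · exact hz.of_iso (G'.truncLEXIso b i hib')
    · have : IsZero (G'.cycles i) := IsZero.of_mono (G'.iCycles i) hz
      exact this.of_iso (G'.truncLEXIsoCycles i)

end TorAmp

section Main

variable {A B : Type u} [CommRing A] [CommRing B] [Algebra A B]

open Groth.Agent.Lib.Helper1.Tor

/-- Dimension shifting along the syzygies `F.opcycles j`, `j ≤ a`, in a fibre. -/
theorem hasPdLT_fibre_opcycles (F : DRing.Cx B) (hFproj : ∀ i, Module.Projective B (F.X i))
    (a : ℤ) (hex : ∀ i : ℤ, i < a → F.ExactAt i)
    (hflat : ∀ j : ℤ, j ≤ a →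
      @Module.Flat A (F.opcycles j) _ _ (Module.compHom (F.opcycles j) (algebraMap A B)))
    (κ : Type u) [CommRing κ] [Algebra A κ] (d : ℕ)
    (hgl : ∀ (M : Type u) [AddCommGroup M] [Module (B ⊗[A] κ) M],
      HasProjectiveDimensionLT (ModuleCat.of (B ⊗[A] κ) M) (d + 1)) :
    ∀ k : ℕ, k ≤ d → ∀ j : ℤ, j + k = a →
      HasProjectiveDimensionLT
        (ModuleCat.of (B ⊗[A] κ) ((B ⊗[A] κ) ⊗[B] (F.opcycles j))) (d + 1 - k) := by
  intro k
  induction k with
  | zero =>
    intro _ j _
    exact hgl _
  | succ k ih =>
    intro hk j hj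
    have h1 := ih (by lia) (j + 1) (by push_cast at hj; lia)
    obtain ⟨w, hS⟩ := shortExact_baseChange_compHom (A := A) κ (hflat (j + 1) (by lia))
      (F.fromOpcycles j (j + 1)).hom (F.pOpcycles (j + 1)).hom
      (fromOpcycles_injective F j (hex j (by lia))) (pOpcycles_surjective F (j + 1))
      (fromOpcycles_exact F j)
    haveI := hFproj (j + 1)
    have hproj : Projective (ModuleCat.of (B ⊗[A] κ) ((B ⊗[A] κ) ⊗[B] (F.X (j + 1)))) :=
      Groth.Agent.R2.H26.PdFlat.projective_fibre (A := A) κ (F.X (j + 1))
    have e : d + 1 - k = (d - (k + 1)) + 2 := by lia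
    have e' : d + 1 - (k + 1) = (d - (k + 1)) + 1 := by lia
    rw [e] at h1
    rw [e']
    exact (hS.hasProjectiveDimensionLT_X₃_iff (d - (k + 1)) hproj).1 h1

/-- The `d`-th syzygy below degree `a` is flat over `B` if all fibre rings have global dimension
at most `d`. -/
theorem flat_opcycles_of_fibres (F : DRing.Cx B) (hFf : DRing.TermwiseFiniteFree F)
    (a : ℤ) (hex : ∀ i : ℤ, i < a → F.ExactAt i)
    (hflat : ∀ j : ℤ, j ≤ a →
      @Module.Flat A (F.opcycles j) _ _ (Module.compHom (F.opcycles j) (algebraMap A B)))
    (d : ℕ)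
    (hgl : ∀ (p : PrimeSpectrum A) (M : Type u) [AddCommGroup M]
      [Module (B ⊗[A] p.asIdeal.ResidueField) M],
      HasProjectiveDimensionLT (ModuleCat.of (B ⊗[A] p.asIdeal.ResidueField) M) (d + 1)) :
    Module.Flat B (F.opcycles (a - d)) := by
  have hFproj : ∀ i, Module.Projective B (F.X i) := fun i =>
    have := (hFf i).2
    inferInstance
  have hsurj : Function.Surjective (F.pOpcycles (a - d)).hom := pOpcycles_surjective F _
  have hexd := fexact_d_pOpcycles F (a - d)
  have := (hFf (a - d)).1
  have := (hFf (a - d)).2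
  have := (hFf (a - d - 1)).1
  have : Module.FinitePresentation B (F.X (a - d)) := Module.finitePresentation_of_projective B _
  haveI hfp : Module.FinitePresentation B (F.opcycles (a - d)) := by
    refine Module.finitePresentation_of_surjective (F.pOpcycles (a - d)).hom hsurj ?_
    rw [LinearMap.exact_iff.1 hexd, LinearMap.range_eq_map]
    exact Submodule.FG.map _ Module.Finite.fg_top
  apply flat_of_flat_fibres_compHom (A := A) (F.opcycles (a - d)) (hflat _ (by lia))
  intro p
  have h1 := hasPdLT_fibre_opcycles (A := A) F hFproj a hex hflat p.asIdeal.ResidueField d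
    (hgl p) d le_rfl (a - d) (by lia)
  have e : d + 1 - d = 1 := by lia
  rw [e] at h1
  have hproj : Projective (ModuleCat.of (B ⊗[A] p.asIdeal.ResidueField)
      ((B ⊗[A] p.asIdeal.ResidueField) ⊗[B] (F.opcycles (a - d)))) :=
    projective_iff_hasProjectiveDimensionLT_one.2 h1
  have hmp : Module.Projective (B ⊗[A] p.asIdeal.ResidueField)
      ((B ⊗[A] p.asIdeal.ResidueField) ⊗[B] (F.opcycles (a - d))) :=
    (IsProjective.iff_projective (ModuleCat.of (B ⊗[A] p.asIdeal.ResidueField)
      ((B ⊗[A] p.asIdeal.ResidueField) ⊗[B] (F.opcycles (a - d))))).2 hproj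
  exact @Module.Flat.of_projective _ _ _ _ _ hmp

end Main

end Groth.Agent.R2.H26.RelPerf
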