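import Mathlib
import Groth.Agent.Lib.Helper1TorO
import Groth.Agent.Lib.Helper1DT5
import Groth.Agent.Lib.Helper1TensPerf
import Groth.Agent.R2.H26NilThick
set_option backward.isDefEq.respectTransparency.types false

/-!
# Tensoring an `R`-perfect complex with a bounded complex of flats (helper26)

* `exactAt_tensor_of_bounded_flat`: cohomological amplitude of `G ⊗ E` for `E` bounded flat.
* `TCxTensorIso`: `X ⊗ (F ⊗ E) ≅ (X ⊗ F) ⊗ E` (module `X` tensored termwise).
* `TCResIso`: `N ⊗_R (K|_R) ≅ ((A ⊗_R N) ⊗_A K)|_R` for a complex `K` of `A`-modules.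
-/

set_option autoImplicit false
set_option maxHeartbeats 400000
universe u
open CategoryTheory CategoryTheory.Limits MonoidalCategory HomologicalComplex
attribute [local instance] HasDerivedCategory.standard

namespace Groth.Agent.R2.H26.TensRelPerf

open DerivedCategory Groth.Agent.Lib.Helper1.KF Groth.Agent.Lib.Helper1.Tor
  Groth.Agent.Lib.Helper1.DT Groth.Agent.Lib.Helper1.TensPerf
  Groth.Agent.Lib.Helper1.Extend Groth.Agent.R2.H26.NilThick
open TensorProduct

section generic
variable {A : Type u} [CommRing A]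

lemma exactAt_of_iso {K L : DRing.Cx A} (e : K ≅ L) (i : ℤ) (h : K.ExactAt i) : L.ExactAt i := by
  rw [HomologicalComplex.exactAt_iff_isZero_homology] at h ⊢
  exact h.of_iso ((HomologicalComplex.homologyFunctor _ _ i).mapIso e).symm

lemma exactAt_of_quasiIso {K L : DRing.Cx A} (f : K ⟶ L) [QuasiIso f] (i : ℤ) :
    K.ExactAt i ↔ L.ExactAt i := by
  rw [HomologicalComplex.exactAt_iff_isZero_homology, HomologicalComplex.exactAt_iff_isZero_homology]
  have a1 : IsIso (homologyMap f i) :=
    (quasiIsoAt_iff_isIso_homologyMap _ i).1 (QuasiIso.quasiIsoAt i)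
  exact ⟨fun h => h.of_iso (asIso (homologyMap f i)).symm, fun h => h.of_iso (asIso (homologyMap f i))⟩

/-- tensoring a complex with cohomology in `[c, d]` with a bounded flat complex in `[a, b]` -/
theorem exactAt_tensor_of_bounded_flat (G E : DRing.Cx A) (a b c d : ℤ)
    (hE : DRing.VanishesOutside E a b) (hEf : DRing.TermwiseFlat E)
    (hG : ∀ i : ℤ, i < c ∨ d < i → G.ExactAt i) (i : ℤ) (hi : i < c + a ∨ d + b < i) :
    (G ⊗ E).ExactAt i := by
  have hEK : KFlat E := kflat_of_boundedAbove_flat E b (fun q hq => hE q (Or.inr hq)) hEf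
  rcases hi with hi | hi
  · have hGge : CochainComplex.IsGE G c := by
      rw [CochainComplex.isGE_iff]
      exact fun j hj => hG j (Or.inl hj)
    have hq : QuasiIso (G.πTruncGE c) := (G.quasiIso_πTruncGE_iff c).2 hGge
    have hq' : QuasiIso (G.πTruncGE c ▷ E) := quasiIso_whiskerRight_of_kflat (G.πTruncGE c) E hEK
    rw [exactAt_of_quasiIso (G.πTruncGE c ▷ E) i]
    refine ShortComplex.exact_of_isZero_X₂ _ (isZero_tensor_X _ _ i (fun p q hpq => ?_))
    by_cases hp : p < c
    · exact Or.inl ((G.truncGE c).isZero_of_isStrictlyGE c p hp)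
    · exact Or.inr (hE q (Or.inl (by lia)))
  · have hGle : CochainComplex.IsLE G d := by
      rw [CochainComplex.isLE_iff]
      exact fun j hj => hG j (Or.inr hj)
    have hq : QuasiIso (G.ιTruncLE d) := (G.quasiIso_ιTruncLE_iff d).2 hGle
    have hq' : QuasiIso (G.ιTruncLE d ▷ E) := quasiIso_whiskerRight_of_kflat (G.ιTruncLE d) E hEK
    rw [← exactAt_of_quasiIso (G.ιTruncLE d ▷ E) i]
    refine ShortComplex.exact_of_isZero_X₂ _ (isZero_tensor_X _ _ i (fun p q hpq => ?_))
    by_cases hp : d < p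
    · exact Or.inl ((G.truncLE d).isZero_of_isStrictlyLE d p hp)
    · exact Or.inr (hE q (Or.inr (by lia)))

/-- `X ⊗ (F ⊗ E) ≅ (X ⊗ F) ⊗ E` for a module `X` tensored termwise -/
noncomputable def TCxTensorIso (X : ModuleCat.{u} A) (F E : DRing.Cx A) :
    TCx X (F ⊗ E) ≅ TCx X F ⊗ E :=
  singleTensorIso X (F ⊗ E) ≪≫ (α_ (sgl X) F E).symm ≪≫
    whiskerRightIso (singleTensorIso X F).symm E

end generic

section relative

variable (R A : Type u) [CommRing R] [CommRing A] [Algebra R A]

/-- `A ⊗_R N` as an `A`-module -/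
noncomputable abbrev extN (N : ModuleCat.{u} R) : ModuleCat.{u} A :=
  (ModuleCat.extendScalars.{u,u,u} (algebraMap R A)).obj N

noncomputable def tnEquiv (N : ModuleCat.{u} R) (Y : ModuleCat.{u} A) :
    ((ModuleCat.restrictScalars (algebraMap R A)).obj (extN R A N ⊗ Y)) ≃ₗ[R]
      (N ⊗ (ModuleCat.restrictScalars (algebraMap R A)).obj Y : ModuleCat.{u} R) :=
  letI : Module R Y := Module.compHom Y (algebraMap R A)
  haveI : IsScalarTower R A Y := IsScalarTower.of_algebraMap_smul (fun _ _ => rfl)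
  (resEquiv (R := R) (B := A) (X := extN R A N ⊗ Y) (Y := Y ⊗[R] N)
    ((TensorProduct.congr (extEquiv (A := R) (B := A) N) (LinearEquiv.refl A Y)) ≪≫ₗ
      TensorProduct.comm A (A ⊗[R] N) Y ≪≫ₗ
      TensorProduct.AlgebraTensorModule.cancelBaseChange R A A Y N)) ≪≫ₗ
    TensorProduct.comm R Y N

lemma tnEquiv_symm_tmul (N : ModuleCat.{u} R) (Y : ModuleCat.{u} A) (n : N) (y : Y) :
    (tnEquiv R A N Y).symm (n ⊗ₜ[R] (show ((ModuleCat.restrictScalars (algebraMap R A)).obj Y) from y)) =
      (((1 : A) ⊗ₜ[R] n : extN R A N) ⊗ₜ[A] y : (extN R A N ⊗ Y : ModuleCat.{u} A)) := by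
  let _ : Module R Y := Module.compHom Y (algebraMap R A)
  have : IsScalarTower R A Y := IsScalarTower.of_algebraMap_smul (fun _ _ => rfl)
  have h3 : (TensorProduct.AlgebraTensorModule.cancelBaseChange R A A Y N).symm (y ⊗ₜ[R] n) =
      y ⊗ₜ[A] ((1 : A) ⊗ₜ[R] n) :=
    TensorProduct.AlgebraTensorModule.cancelBaseChange_symm_tmul R A A y n
  show (TensorProduct.congr (extEquiv (A := R) (B := A) N) (LinearEquiv.refl A Y)).symm
    ((TensorProduct.comm A (A ⊗[R] N) Y).symm
      ((TensorProduct.AlgebraTensorModule.cancelBaseChange R A A Y N).symm (y ⊗ₜ[R] n))) = _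
  rw [h3]
  rfl

lemma tnEquiv_symm_naturality (N : ModuleCat.{u} R) {Y Y' : ModuleCat.{u} A} (f : Y ⟶ Y') :
    (N ◁ (ModuleCat.restrictScalars (algebraMap R A)).map f) ≫
        (tnEquiv R A N Y').symm.toModuleIso.hom =
      (tnEquiv R A N Y).symm.toModuleIso.hom ≫
        (ModuleCat.restrictScalars (algebraMap R A)).map (extN R A N ◁ f) := by
  apply ModuleCat.MonoidalCategory.tensor_ext
  intro n y
  have h1 := tnEquiv_symm_tmul R A N Y n y
  have h2 := tnEquiv_symm_tmul R A N Y' n (f y)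
  refine Eq.trans h2 ?_
  refine Eq.trans ?_ (congrArg (fun z => (ModuleCat.restrictScalars (algebraMap R A)).map
    (extN R A N ◁ f) z) h1.symm)
  rfl

/-- `N ⊗_R (K|_R) ≅ ((A ⊗_R N) ⊗_A K)|_R` as complexes of `R`-modules -/
noncomputable def TCResIso (N : ModuleCat.{u} R) (K : DRing.Cx A) :
    (TC N).obj ((DTen.resCx (algebraMap R A)).obj K) ≅
      (DTen.resCx (algebraMap R A)).obj ((TC (extN R A N)).obj K) :=
  HomologicalComplex.Hom.isoOfComponents
    (fun i => (tnEquiv R A N (K.X i)).symm.toModuleIso)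
    (fun i j _ => (tnEquiv_symm_naturality R A N (K.d i j)).symm)

end relative

end Groth.Agent.R2.H26.TensRelPerf
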