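import Mathlib
import Groth.Prelude.Def_Coh
import Groth.Prelude.Def_CohB1
import Groth.Prelude.Def_Curv2

/-!
# Interface for PROJ:thick (S5741 / S5743: uniform Serre vanishing and global generation on the levels of an
adic system of schemes) (helper26)

* `jj X i k : X 0 ⟶ X k` : the composite of the transition maps `i l : X l ⟶ X (l+1)`.
* `ρU X ρ k U` : `ρ k : A →+* Γ(X k, ⊤)` followed by restriction to `U`.
* `Hyp ρ J F q` : the hypotheses on an abstract tower of thickenings with modules `F k` and transition epimorphisms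
  `q k : F (k+1) ⟶ (i k)_* (F k)`.
* `ConcStmt` : package [CONC] — the frozen hypotheses of S5741/S5743 give an abstract tower.
* `GGStmt` : package [GG] — the Nakayama-type step for global generation along a nilpotent closed immersion.
-/

set_option autoImplicit false
universe u

open CategoryTheory CategoryTheory.Limits AlgebraicGeometry Opposite TopologicalSpace

namespace Groth.Agent.R2.H26.ThickSpec

section Tower

variable (X : ℕ → Scheme.{u}) (i : ∀ k, X k ⟶ X (k + 1))

/-- the composite `X 0 ⟶ X k` -/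
noncomputable def jj : ∀ k, X 0 ⟶ X k
  | 0 => 𝟙 _
  | k + 1 => jj k ≫ i k

@[simp] theorem jj_zero : jj X i 0 = 𝟙 _ := rfl

@[simp] theorem jj_succ (k : ℕ) : jj X i (k + 1) = jj X i k ≫ i k := rfl

variable {A : Type u} [CommRing A] (ρ : ∀ k, A →+* Γ(X k, ⊤))

/-- `ρ k` followed by restriction to `U` -/
noncomputable def ρU (k : ℕ) (U : (X k).Opens) : A →+* Γ(X k, U) :=
  ((X k).presheaf.map (homOfLE (le_top : U ≤ ⊤)).op).hom.comp (ρ k)

theorem ρU_apply (k : ℕ) (U : (X k).Opens) (x : A) :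
    ρU X ρ k U x = (X k).presheaf.map (homOfLE (le_top : U ≤ ⊤)).op (ρ k x) := rfl

variable {X i}

/-- the hypotheses on a tower of thickenings with modules:
the transition maps are surjective (closed immersions), the ring maps `ρ k : A →+* Γ(X k, ⊤)` are compatible, the
kernel of `i k` on an affine open is generated by `J^(k+1)`, `J^(k+1)` dies on `X k`, and the kernel of
`q k : F (k+1) ⟶ (i k)_* F k` on sections over an affine open `U` is `ker ((i k).app U) • ⊤`. -/
structure Hyp (J : Ideal A) (F : ∀ k, (X k).Modules)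
    (q : ∀ k, F (k + 1) ⟶ (Scheme.Modules.pushforward (i k)).obj (F k)) : Prop where
  surj : ∀ k, Function.Surjective (i k)
  hρ : ∀ k, (i k).appTop.hom.comp (ρ (k + 1)) = ρ k
  hker : ∀ k (U : (X (k + 1)).Opens), IsAffineOpen U →
    RingHom.ker ((i k).app U).hom = Ideal.map (ρU X ρ (k + 1) U) (J ^ (k + 1))
  hvan : ∀ k, ∀ x ∈ J ^ (k + 1), ρ k x = 0
  hq : ∀ k (U : (X (k + 1)).Opens), IsAffineOpen U → ∀ x : Γ(F (k + 1), U), (q k).app U x = 0 →
    x ∈ (RingHom.ker ((i k).app U).hom • ⊤ : Submodule Γ(X (k + 1), U) Γ(F (k + 1), U))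

end Tower

/-- the ring map `A → Γ(X, ⊤)` attached to `p : X ⟶ Spec (A ⧸ J^(k+1))` -/
noncomputable def rhoOf {A : Type u} [CommRing A] (J : Ideal A) (k : ℕ) {X : Scheme.{u}}
    (p : X ⟶ Spec (CommRingCat.of (A ⧸ J ^ (k + 1)))) : A →+* Γ(X, ⊤) :=
  p.appTop.hom.comp ((Scheme.ΓSpecIso (CommRingCat.of (A ⧸ J ^ (k + 1)))).inv.hom.comp
    (Ideal.Quotient.mk (J ^ (k + 1))))

/-- the transition epimorphism `F (k+1) ⟶ i_* i^* F (k+1) ≅ i_* F k` -/
noncomputable def qOf {Z Y : Scheme.{u}} (t : Z ⟶ Y) {G : Y.Modules} {G' : Z.Modules}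
    (ψ : (Scheme.Modules.pullback t).obj G ≅ G') : G ⟶ (Scheme.Modules.pushforward t).obj G' :=
  (Scheme.Modules.pullbackPushforwardAdjunction t).unit.app G ≫ (Scheme.Modules.pushforward t).map ψ.hom

/-- **[CONC]** the frozen hypotheses of S5741 / S5743 give an abstract tower. -/
def ConcStmt : Prop :=
  ∀ (A : Type u) [CommRing A] [IsNoetherianRing A] (J : Ideal A)
    (Xs : ℕ → Scheme.{u}) (p : (k : ℕ) → (Xs k ⟶ Spec (CommRingCat.of (A ⧸ J ^ (k + 1)))))
    (i : (k : ℕ) → (Xs k ⟶ Xs (k + 1)))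
    (_ : ∀ k, IsPullback (i k) (p k) (p (k + 1)) (CohB1.specQuotTrans J k))
    (F : (k : ℕ) → (Xs k).Modules) (_ : ∀ k, Coh.IsCoh (F k))
    (ψ : ∀ k, (Scheme.Modules.pullback (i k)).obj (F (k + 1)) ≅ F k),
    (∀ k, IsClosedImmersion (i k)) ∧ (∀ k, Epi (qOf (i k) (ψ k))) ∧
      Hyp (fun k => rhoOf J k (p k)) J F (fun k => qOf (i k) (ψ k))

/-- **[GG]** global generation lifts along a closed immersion with nilpotent kernel, when global sections lift. -/
def GGStmt : Prop :=
  ∀ {Z Y : Scheme.{u}} (t : Z ⟶ Y) [IsClosedImmersion t] (G : Y.Modules) [G.IsQuasicoherent],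
    (∀ U : Y.Opens, IsAffineOpen U → ∃ n : ℕ, RingHom.ker (t.app U).hom ^ n = ⊥) →
    Function.Surjective (((Scheme.Modules.pullbackPushforwardAdjunction t).unit.app G).app ⊤) →
    Curv2.IsGloballyGenerated ((Scheme.Modules.pullback t).obj G) →
    Curv2.IsGloballyGenerated G

end Groth.Agent.R2.H26.ThickSpec
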