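import Mathlib
import Groth.Agent.Lib.Helper1TorDim
import Groth.Agent.Lib.Helper1TorH
import Groth.Agent.Lib.Helper1Restrict
import Groth.Agent.Lib.Helper1ProjRes
import Groth.Agent.Lib.Helper14WEFlat
import Groth.Agent.S7073
import Groth.Agent.R2.H26RelPerf

/-!
# Tor amplitude along weakly étale ring maps   (helper26)

For a weakly étale ring map `A → B` and `K ∈ D(B)`: `K` has tor amplitude in `[a, b]` over `B` iff
its restriction of scalars has tor amplitude in `[a, b]` over `A`.
-/

set_option autoImplicit false
universe u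
open CategoryTheory CategoryTheory.Limits
attribute [local instance] HasDerivedCategory.standard

namespace Groth.Agent.R2.H26.TorAmpWE

open DerivedCategory Groth.Agent.Lib.Helper1.Tor Groth.Agent.Lib.Helper1.TorDim
  Groth.Agent.Lib.Helper1.Restrict Groth.Agent.Lib.Helper1.ProjRes

variable (A B : Type u) [CommRing A] [CommRing B] [Algebra A B]

/-- restriction of scalars along a flat map preserves tor amplitude -/
theorem hasTorAmp_restrictD_of_flat [Module.Flat A B] (a b : ℤ) (K : Dual.D B)
    (hK : DRing.HasTorAmplitudeIn B a b K) :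
    DRing.HasTorAmplitudeIn A a b ((DRing.restrictD (algebraMap A B)).obj K) := by
  have hB : DRing.HasTorAmplitudeIn A (-((0 : ℕ) : ℤ)) 0 (Dual.inD A B) :=
    (hasTorDimLE_iff_hasTorAmp B 0).1 ((hasTorDimLE_zero_iff_flat B).2 inferInstance)
  have := hasTorAmp_restrictD 0 hB K a b hK
  simpa using this

/-- **tor amplitude ascends along weakly étale maps** -/
theorem hasTorAmp_of_restrictD_of_weaklyEtale [Algebra.WeaklyEtale A B] (a b : ℤ) (K : Dual.D B)
    (hK : DRing.HasTorAmplitudeIn A a b ((DRing.restrictD (algebraMap A B)).obj K)) :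
    DRing.HasTorAmplitudeIn B a b K := by
  have hflatB : Module.Flat A B := Algebra.WeaklyEtale.flat
  obtain ⟨E, hE, hEf, ⟨e⟩⟩ := hK
  have hEle : E.IsStrictlyLE b := by
    rw [CochainComplex.isStrictlyLE_iff]
    exact fun i hi => hE i (Or.inr hi)
  have hle : ((DRing.restrictD (algebraMap A B)).obj K).IsLE b := by
    have : (Q.obj E).IsLE b := inferInstance
    exact DerivedCategory.TStructure.t.isLE_of_iso e b
  have hKle : K.IsLE b := (isLE_restrictD_iff _ K b).1 hle
  obtain ⟨G, hGle, hGproj, ⟨eG⟩⟩ := exists_iso_Q_proj K b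
  have hGb : DRing.VanishesAbove G b := fun i hi => G.isZero_of_isStrictlyLE b i hi
  have hGf : DRing.TermwiseFlat G := termwiseFlat_of_projective G hGproj
  set G' := (DRing.restrictCx (algebraMap A B)).obj G with hG'
  have hG'b : DRing.VanishesAbove G' b := fun i hi =>
    (ModuleCat.restrictScalars.{u} (algebraMap A B)).map_isZero (hGb i hi)
  have hG'f : DRing.TermwiseFlat G' := fun i => by
    have := hGf i
    exact Groth.Agent.S7073.flat_restrictScalars A B (G.X i)
  have e' : Q.obj E ≅ Q.obj G' :=
    e ≪≫ (DRing.restrictD (algebraMap A B)).mapIso eG.symm ≪≫ restrictQIso _ G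
  have hTV : TorVan G' a b := torVan_of_iso G' E b hG'b hG'f a b hE hEf e'
  have hex : ∀ i : ℤ, (i < a ∨ b < i) → G.ExactAt i := fun i hi =>
    (exactAt_restrict_iff _ G i).1 (hTV.exactAt i hi)
  -- flatness of the opcycles
  letI : Module A (G.opcycles a) := Module.compHom _ (algebraMap A B)
  haveI : IsScalarTower A B (G.opcycles a) := IsScalarTower.of_algebraMap_smul (fun r m => rfl)
  let p : G'.X a →ₗ[A] G.opcycles a :=
    { toFun := fun x => (G.pOpcycles a).hom x
      map_add' := fun x y => map_add _ x y
      map_smul' := fun r x => by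
        show (G.pOpcycles a).hom (algebraMap A B r • (show G.X a from x)) = _
        rw [map_smul]
        rfl }
  have hp : Function.Surjective p := Groth.Agent.R2.H26.RelPerf.pOpcycles_surjective G a
  have hdp : Function.Exact (G'.d (a - 1) a).hom p := by
    have h1 := Groth.Agent.R2.H26.RelPerf.fexact_d_pOpcycles' G (a - 1)
    have h2 : a - 1 + 1 = a := by lia
    intro y
    rw [h2] at h1
    exact h1 y
  have hflatA : Module.Flat A (G.opcycles a) := flat_of_torVan G' hG'f a b hTV p hp hdp
  have hflat : Module.Flat B (G.opcycles a) :=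
    Groth.Agent.Lib.Helper14.WEFlat.flat_of_flat_of_weaklyEtale A B _
  exact hasTorAmp_of_iso eG (hasTorAmp_of_flat_opcycles G b hGb hGf a b
    (fun i hi => hex i (Or.inl hi)) (fun i hi => hex i (Or.inr hi)) hflat)

/-- tor amplitude over `B` and over `A` agree for `K ∈ D(B)` when `A → B` is weakly étale -/
theorem hasTorAmp_restrictD_iff_of_weaklyEtale [Algebra.WeaklyEtale A B] (a b : ℤ) (K : Dual.D B) :
    DRing.HasTorAmplitudeIn A a b ((DRing.restrictD (algebraMap A B)).obj K) ↔
      DRing.HasTorAmplitudeIn B a b K := by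
  have hflatB : Module.Flat A B := Algebra.WeaklyEtale.flat
  exact ⟨hasTorAmp_of_restrictD_of_weaklyEtale A B a b K, hasTorAmp_restrictD_of_flat A B a b K⟩

end Groth.Agent.R2.H26.TorAmpWE
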