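import Mathlib
import Groth.Agent.Lib.Helper13TorMore
import Groth.Agent.Lib.Helper13TorColim
import Groth.Agent.Lib.Helper13TorBC2
import Groth.Agent.Lib.Helper15TorBridge

/-!
# Vanishing of `Tor` : elementary dévissage tools   (helper26)

`TZ A M i N` says `Tor_i^A(M, N) = 0` (Mathlib's `Tor`, left derived in the second variable).
We provide: transport along linear equivalences, the consequences of the long exact sequence in the
second variable in unbundled form, reduction to finitely generated submodules (filtered colimits),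
vanishing on modules killed by `I` from vanishing on `A ⧸ I` plus flatness of `M/IM`,
vanishing on `I`-power torsion modules, vanishing on localizations `N_f` when `M_f` is flat,
and the glueing statement `flat_of_flat_away_of_flat_mod_of_tor_vanishes`.
-/

set_option autoImplicit false
universe u
open CategoryTheory CategoryTheory.Limits MonoidalCategory
open scoped TensorProduct

namespace Groth.Agent.R2.H26.TorGlue

open Groth.Agent.Helper13Tor

variable (A : Type u) [CommRing A] (M : Type u) [AddCommGroup M] [Module A M]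

/-- `Tor_i^A(M, N) = 0`. -/
def TZ (i : ℕ) (N : Type u) [AddCommGroup N] [Module A N] : Prop :=
  IsZero (((Tor (ModuleCat.{u} A) i).obj (ModuleCat.of A M)).obj (ModuleCat.of A N))

variable {A M}

section basic

variable {N N' N₁ N₂ N₃ : Type u} [AddCommGroup N] [Module A N] [AddCommGroup N'] [Module A N']
  [AddCommGroup N₁] [Module A N₁] [AddCommGroup N₂] [Module A N₂] [AddCommGroup N₃] [Module A N₃]

theorem TZ.of_linearEquiv {i : ℕ} (e : N ≃ₗ[A] N') (h : TZ A M i N) : TZ A M i N' :=
  IsZero.of_iso h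
    (((Tor (ModuleCat.{u} A) i).obj (ModuleCat.of A M)).mapIso e.toModuleIso).symm

theorem TZ.of_flat {i : ℕ} (hi : 0 < i) [Module.Flat A N] : TZ A M i N := by
  have : Module.Flat A (ModuleCat.of A N) := inferInstanceAs (Module.Flat A N)
  exact isZero_tor_of_flat_right (ModuleCat.of A M) (ModuleCat.of A N) i hi

theorem TZ.of_subsingleton {i : ℕ} (hi : 0 < i) [Subsingleton N] : TZ A M i N :=
  TZ.of_flat hi

variable (f : N₁ →ₗ[A] N₂) (g : N₂ →ₗ[A] N₃) (hf : Function.Injective f)
  (hg : Function.Surjective g) (hex : Function.Exact f g)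

include hf hg hex

theorem TZ.mid {i : ℕ} (h₁ : TZ A M i N₁) (h₃ : TZ A M i N₃) : TZ A M i N₂ :=
  isZero_tor₂_X₂ (ModuleCat.of A M) _
    (Groth.Agent.Lib.Helper15.shortExact_mk_of_exact f g hf hg hex) i h₁ h₃

theorem TZ.left {i : ℕ} (h₃ : TZ A M (i + 1) N₃) (h₂ : TZ A M i N₂) : TZ A M i N₁ :=
  isZero_tor₂_X₁ (ModuleCat.of A M) _
    (Groth.Agent.Lib.Helper15.shortExact_mk_of_exact f g hf hg hex) i h₃ h₂

theorem TZ.right {i : ℕ} (h₂ : TZ A M (i + 1) N₂) (h₁ : TZ A M i N₁) : TZ A M (i + 1) N₃ :=
  isZero_tor₂_X₃ (ModuleCat.of A M) _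
    (Groth.Agent.Lib.Helper15.shortExact_mk_of_exact f g hf hg hex) i h₂ h₁

theorem TZ.right_one (h₂ : TZ A M 1 N₂) (hinj : Function.Injective (f.lTensor M)) : TZ A M 1 N₃ :=
  (isZero_tor_one_iff_lTensor_injective (ModuleCat.of A M) _
    (Groth.Agent.Lib.Helper15.shortExact_mk_of_exact f g hf hg hex) h₂).2 hinj

theorem TZ.lTensor_injective (h₂ : TZ A M 1 N₂) (h₃ : TZ A M 1 N₃) :
    Function.Injective (f.lTensor M) :=
  (isZero_tor_one_iff_lTensor_injective (ModuleCat.of A M) _
    (Groth.Agent.Lib.Helper15.shortExact_mk_of_exact f g hf hg hex) h₂).1 h₃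

end basic

section sub

variable {N : Type u} [AddCommGroup N] [Module A N] (K : Submodule A N)

theorem TZ.of_sub_quot {i : ℕ} (h₁ : TZ A M i K) (h₃ : TZ A M i (N ⧸ K)) : TZ A M i N :=
  TZ.mid K.subtype K.mkQ K.injective_subtype K.mkQ_surjective
    (LinearMap.exact_subtype_mkQ K) h₁ h₃

theorem TZ.sub_of_quot {i : ℕ} (h₃ : TZ A M (i + 1) (N ⧸ K)) (h₂ : TZ A M i N) : TZ A M i K :=
  TZ.left K.subtype K.mkQ K.injective_subtype K.mkQ_surjective
    (LinearMap.exact_subtype_mkQ K) h₃ h₂

end sub

section fg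

open Classical in
/-- Reduction to finitely generated submodules: `Tor_i(M, N) = 0` as soon as every finitely
generated submodule of `N` is contained in a submodule `N₁` with `Tor_i(M, N₁) = 0`. -/
theorem TZ.of_fg (i : ℕ) (N : Type u) [AddCommGroup N] [Module A N]
    (h : ∀ N₀ : Submodule A N, N₀.FG → ∃ N₁ : Submodule A N, N₀ ≤ N₁ ∧ TZ A M i N₁) :
    TZ A M i N := by
  let F := (Tor (ModuleCat.{u} A) i).obj (ModuleCat.of A M)
  let ι := {N₀ : Submodule A N // N₀.FG}
  let G : ι → Type u := fun j => ↥j.1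
  have hc := ModuleCat.directLimitIsColimit (R := A) G (Module.fgSystem A N)
  have hp : PreservesColimitsOfShape ι F := preservesColimitsOfShape_tor (ModuleCat.of A M) i ι
  have hc' := isColimitOfPreserves F hc
  let e : Module.DirectLimit G (Module.fgSystem A N) ≃ₗ[A] N := Module.fgSystem.equiv A N
  have hz : IsZero (F.obj (ModuleCat.of A (Module.DirectLimit G (Module.fgSystem A N)))) := by
    rw [IsZero.iff_id_eq_zero]
    refine hc'.hom_ext fun j => ?_
    obtain ⟨N₁, hle, hN₁⟩ := h j.1 j.2
    let φ : ModuleCat.of A (G j) ⟶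
        ModuleCat.of A (Module.DirectLimit G (Module.fgSystem A N)) :=
      ModuleCat.ofHom (Module.DirectLimit.of A ι G (Module.fgSystem A N) j)
    have hfac : φ = ModuleCat.ofHom (Submodule.inclusion hle) ≫ ModuleCat.ofHom N₁.subtype ≫
          e.symm.toModuleIso.hom := by
      ext x
      apply e.injective
      have h1 : e (Module.DirectLimit.of A ι G (Module.fgSystem A N) j x) = x.1 :=
        LinearMap.congr_fun (Module.fgSystem.equiv_comp_of j) x
      show e (Module.DirectLimit.of A ι G (Module.fgSystem A N) j x) =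
        e (e.symm (N₁.subtype (Submodule.inclusion hle x)))
      rw [e.apply_symm_apply, h1]
      rfl
    have h0 : F.map φ = 0 := by
      rw [hfac, F.map_comp, F.map_comp]
      have : F.map (ModuleCat.ofHom N₁.subtype) = 0 := hN₁.eq_of_src _ _
      rw [this, zero_comp, comp_zero]
    show F.map φ ≫ 𝟙 _ = F.map φ ≫ 0
    rw [h0, zero_comp, zero_comp]
  exact IsZero.of_iso hz (F.mapIso e.toModuleIso).symm

end fg

section quot

variable {B : Type u} [CommRing B] [Algebra A B]

/-- If `B ⊗_A M` is `B`-flat then `- ⊗_A M` preserves injectivity of `B`-linear maps. -/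
theorem rTensor_injective_of_flat_baseChange [Module.Flat B (B ⊗[A] M)]
    {K F : Type u} [AddCommGroup K] [Module A K] [Module B K] [IsScalarTower A B K]
    [AddCommGroup F] [Module A F] [Module B F] [IsScalarTower A B F]
    (j : K →ₗ[B] F) (hj : Function.Injective j) :
    Function.Injective ((j.restrictScalars A).rTensor M) := by
  have h1 : Function.Injective (j.rTensor (B ⊗[A] M)) :=
    Module.Flat.rTensor_preserves_injective_linearMap j hj
  let eK := TensorProduct.AlgebraTensorModule.cancelBaseChange A B B K M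
  let eF := TensorProduct.AlgebraTensorModule.cancelBaseChange A B B F M
  have hsq : ∀ z, eF (j.rTensor (B ⊗[A] M) z) = ((j.restrictScalars A).rTensor M) (eK z) := by
    intro z
    induction z using TensorProduct.induction_on with
    | zero => simp
    | tmul k y =>
      induction y using TensorProduct.induction_on with
      | zero => simp
      | tmul b m =>
        simp [eK, eF]
      | add y₁ y₂ h₁ h₂ => simp only [TensorProduct.tmul_add, map_add, h₁, h₂]
    | add z₁ z₂ h₁ h₂ => simp only [map_add, h₁, h₂]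
  intro x y hxy
  have : eK.symm x = eK.symm y := by
    apply h1
    apply eF.injective
    rw [hsq, hsq, eK.apply_symm_apply, eK.apply_symm_apply, hxy]
  exact eK.symm.injective this

/-- Submodule version for a surjective `A → B`. -/
theorem lTensor_subtype_injective_of_flat_baseChange
    (hsurj : Function.Surjective (algebraMap A B)) [Module.Flat B (B ⊗[A] M)]
    {F : Type u} [AddCommGroup F] [Module A F] [Module B F] [IsScalarTower A B F]
    (K : Submodule A F) : Function.Injective (K.subtype.lTensor M) := by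
  let K' : Submodule B F :=
    { K.toAddSubmonoid with
      smul_mem' := by
        intro b x hx
        obtain ⟨a, rfl⟩ := hsurj b
        rw [algebraMap_smul]
        exact K.smul_mem a hx }
  have h := rTensor_injective_of_flat_baseChange (A := A) (M := M) K'.subtype K'.injective_subtype
  rw [LinearMap.lTensor_inj_iff_rTensor_inj]
  let e : ↥K ≃ₗ[A] ↥K' :=
    { toFun := fun x => ⟨x.1, x.2⟩
      invFun := fun x => ⟨x.1, x.2⟩
      map_add' := fun _ _ => rfl
      map_smul' := fun _ _ => rfl
      left_inv := fun _ => rfl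
      right_inv := fun _ => rfl }
  have hcomp : K.subtype = (K'.subtype.restrictScalars A) ∘ₗ e.toLinearMap := rfl
  rw [hcomp, LinearMap.rTensor_comp]
  exact h.comp ((e.rTensor M).injective)

end quot
section killed

variable (I : Ideal A)

/-- `Q` is killed by `I`. -/
def Killed (Q : Type u) [AddCommGroup Q] [Module A Q] : Prop := ∀ a ∈ I, ∀ x : Q, a • x = 0

variable {I}

theorem Killed.submodule {Q : Type u} [AddCommGroup Q] [Module A Q] (h : Killed I Q)
    (K : Submodule A Q) : Killed I K := fun a ha x => Subtype.ext (h a ha x.1)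

theorem Killed.quotient {Q : Type u} [AddCommGroup Q] [Module A Q] (h : Killed I Q)
    (K : Submodule A Q) : Killed I (Q ⧸ K) := by
  intro a ha x
  induction x using Submodule.Quotient.induction_on with
  | H x => rw [← Submodule.Quotient.mk_smul, h a ha x, Submodule.Quotient.mk_zero]

theorem killed_quotient_self : Killed I (A ⧸ I) := by
  intro a ha x
  induction x using Submodule.Quotient.induction_on with
  | H x =>
    rw [← Submodule.Quotient.mk_smul]
    exact (Submodule.Quotient.mk_eq_zero I).2 (I.mul_mem_right x ha)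

variable (I) (M)

/-- Hypotheses: `Tor_i(M, A/I) = 0` for `1 ≤ i ≤ n` and `M/IM` is flat over `A/I`. -/
structure Hyp (n : ℕ) : Prop where
  tor : ∀ i, 1 ≤ i → i ≤ n → TZ A M i (A ⧸ I)
  flat : Module.Flat (A ⧸ I) ((A ⧸ I) ⊗[A] M)

variable {I M}

/-- one step: cyclic modules -/
theorem Hyp.cyclic {n : ℕ} (H : Hyp M I n) (i : ℕ) (h1 : 1 ≤ i) (hin : i ≤ n)
    (IH : 2 ≤ i → ∀ (Q : Type u) [AddCommGroup Q] [Module A Q], Killed I Q → TZ A M (i - 1) Q)
    (J : Ideal A) (hIJ : I ≤ J) : TZ A M i (A ⧸ J) := by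
  let φ : (A ⧸ I) →ₗ[A] (A ⧸ J) := Submodule.mapQ I J LinearMap.id (by simpa using hIJ)
  have hφ : Function.Surjective φ := by
    intro y
    induction y using Submodule.Quotient.induction_on with
    | H y => exact ⟨Submodule.Quotient.mk y, rfl⟩
  let K := LinearMap.ker φ
  have hex : Function.Exact K.subtype φ := LinearMap.exact_subtype_ker_map φ
  have hflat := H.flat
  obtain ⟨i', rfl⟩ : ∃ i', i = i' + 1 := ⟨i - 1, by omega⟩
  rcases Nat.eq_zero_or_pos i' with rfl | hpos
  · exact TZ.right_one K.subtype φ K.injective_subtype hφ hex (H.tor 1 le_rfl hin)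
      (lTensor_subtype_injective_of_flat_baseChange (B := A ⧸ I)
        Ideal.Quotient.mk_surjective K)
  · exact TZ.right K.subtype φ K.injective_subtype hφ hex (H.tor (i' + 1) h1 hin)
      (IH (by omega) K (killed_quotient_self.submodule K))

/-- one step: finitely generated modules -/
theorem Hyp.fin {n : ℕ} (H : Hyp M I n) (i : ℕ) (h1 : 1 ≤ i) (hin : i ≤ n)
    (IH : 2 ≤ i → ∀ (Q : Type u) [AddCommGroup Q] [Module A Q], Killed I Q → TZ A M (i - 1) Q) :
    ∀ (m : ℕ) (Q : Type u) [AddCommGroup Q] [Module A Q], Killed I Q →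
      ∀ s : Fin m → Q, Submodule.span A (Set.range s) = ⊤ → TZ A M i Q := by
  intro m
  induction m with
  | zero =>
    intro Q _ _ _ s hs
    have : Subsingleton Q := by
      rw [← Submodule.subsingleton_iff A]
      apply subsingleton_of_bot_eq_top
      rw [← hs]
      simp
    exact TZ.of_subsingleton (by omega)
  | succ m ih =>
    intro Q _ _ hQ s hs
    let N₁ : Submodule A Q := Submodule.span A {s 0}
    have h₁ : TZ A M i N₁ := by
      refine TZ.of_linearEquiv (Ideal.quotTorsionOfEquivSpanSingleton A Q (s 0)) ?_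
      refine H.cyclic i h1 hin IH _ ?_
      intro a ha
      rw [Ideal.mem_torsionOf_iff]
      exact hQ a ha _
    have h₃ : TZ A M i (Q ⧸ N₁) := by
      refine ih (Q ⧸ N₁) (hQ.quotient N₁) (fun k => N₁.mkQ (s k.succ)) ?_
      rw [eq_top_iff, ← Submodule.range_mkQ N₁, ← Submodule.map_top, ← hs, Submodule.map_span,
        Submodule.span_le]
      rintro _ ⟨_, ⟨k, rfl⟩, rfl⟩
      refine Fin.cases ?_ (fun k' => ?_) k
      · have : N₁.mkQ (s 0) = 0 :=
          (Submodule.Quotient.mk_eq_zero N₁).2 (Submodule.mem_span_singleton_self _)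
        rw [this]
        exact zero_mem _
      · exact Submodule.subset_span ⟨k', rfl⟩
    exact TZ.of_sub_quot N₁ h₁ h₃

/-- **Step A**: vanishing of `Tor_i(M, Q)`, `1 ≤ i ≤ n`, for all `Q` killed by `I`. -/
theorem Hyp.killed {n : ℕ} (H : Hyp M I n) :
    ∀ i, 1 ≤ i → i ≤ n → ∀ (Q : Type u) [AddCommGroup Q] [Module A Q], Killed I Q →
      TZ A M i Q := by
  intro i
  induction i using Nat.strong_induction_on with
  | _ i IHi =>
    intro h1 hin Q _ _ hQ
    have IH : 2 ≤ i → ∀ (Q : Type u) [AddCommGroup Q] [Module A Q], Killed I Q →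
        TZ A M (i - 1) Q := fun h2 Q _ _ hQ => IHi (i - 1) (by omega) (by omega) (by omega) Q hQ
    refine TZ.of_fg i Q fun N₀ hN₀ => ⟨N₀, le_rfl, ?_⟩
    have : Module.Finite A N₀ := Module.Finite.iff_fg.2 hN₀
    obtain ⟨m, s, hs⟩ := Module.Finite.exists_fin (R := A) (M := N₀)
    exact H.fin i h1 hin IH m N₀ (hQ.submodule N₀) s hs

/-- modules killed by a power of `I` -/
theorem Hyp.killed_pow {n : ℕ} (H : Hyp M I n) (i : ℕ) (h1 : 1 ≤ i) (hin : i ≤ n) :
    ∀ (k : ℕ) (Q : Type u) [AddCommGroup Q] [Module A Q], Killed (I ^ k) Q → TZ A M i Q := by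
  intro k
  induction k with
  | zero =>
    intro Q _ _ hQ
    have : Subsingleton Q := by
      refine ⟨fun x y => ?_⟩
      have h : ∀ z : Q, z = 0 := fun z => by
        have := hQ 1 (by simp) z
        simpa using this
      rw [h x, h y]
    exact TZ.of_subsingleton (by omega)
  | succ k ih =>
    intro Q _ _ hQ
    let N₁ : Submodule A Q := I • (⊤ : Submodule A Q)
    have hN₁ : Killed (I ^ k) N₁ := by
      intro a ha y
      apply Subtype.ext
      show a • y.1 = 0
      refine Submodule.smul_induction_on y.2 ?_ ?_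
      · intro b hb x _
        rw [smul_smul]
        exact hQ (a * b) (by rw [pow_succ]; exact Ideal.mul_mem_mul ha hb) x
      · intro x y hx hy
        rw [smul_add, hx, hy, add_zero]
    have hq : Killed I (Q ⧸ N₁) := by
      intro a ha x
      induction x using Submodule.Quotient.induction_on with
      | H x =>
        rw [← Submodule.Quotient.mk_smul]
        exact (Submodule.Quotient.mk_eq_zero N₁).2 (Submodule.smul_mem_smul ha Submodule.mem_top)
    exact TZ.of_sub_quot N₁ (ih N₁ hN₁) (H.killed i h1 hin _ hq)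

/-- **Step A'**: `I`-power torsion modules -/
theorem Hyp.torsion {n : ℕ} (H : Hyp M I n) (i : ℕ) (h1 : 1 ≤ i) (hin : i ≤ n)
    (Q : Type u) [AddCommGroup Q] [Module A Q]
    (hQ : ∀ x : Q, ∃ k : ℕ, ∀ a ∈ I ^ k, a • x = 0) : TZ A M i Q := by
  refine TZ.of_fg i Q fun N₀ hN₀ => ?_
  obtain ⟨S, rfl⟩ := hN₀
  choose k hk using hQ
  obtain ⟨K, hK⟩ := (S.image k).exists_le
  refine ⟨Submodule.torsionBySet A Q ((I ^ K : Ideal A) : Set A), ?_, ?_⟩
  · rw [Submodule.span_le]
    intro x hx
    rw [SetLike.mem_coe, Submodule.mem_torsionBySet_iff]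
    rintro ⟨a, ha⟩
    exact hk x a (Ideal.pow_le_pow_right (hK _ (Finset.mem_image_of_mem k hx)) ha)
  · refine H.killed_pow i h1 hin K _ ?_
    intro a ha x
    apply Subtype.ext
    exact (Submodule.mem_torsionBySet_iff _ _).1 x.2 ⟨a, ha⟩

end killed

section loc

open Groth.Agent.Helper13TorBC Groth.Agent.Helper13Tor in
/-- **Step b**: if `M_f` is flat over `A_f` then `Tor_i^A(M, N_f) = 0` for `i > 0`. -/
theorem TZ.localizedModule (f₀ : A)
    (hflat : Module.Flat (Localization.Away f₀) (LocalizedModule (Submonoid.powers f₀) M))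
    (N : Type u) [AddCommGroup N] [Module A N] {i : ℕ} (hi : 0 < i) :
    TZ A M i (LocalizedModule (Submonoid.powers f₀) N) := by
  let A' := Localization.Away f₀
  have hTor : ∀ q : ℕ, 0 < q →
      IsZero (((Tor (ModuleCat.{u} A) q).obj (ModuleCat.of A M)).obj (ModuleCat.of A A')) := by
    intro q hq
    have : Module.Flat A (ModuleCat.of A A') := inferInstanceAs (Module.Flat A A')
    exact isZero_tor_of_flat_right _ _ q hq
  obtain ⟨e⟩ := nonempty_restrict_tor_iso (A := A) A'
    (LocalizedModule (Submonoid.powers f₀) N) (ModuleCat.of A M) hTor i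
  refine IsZero.of_iso ?_ e.symm
  have hE : Module.Flat A' ((E A A').obj (ModuleCat.of A M)) := by
    have e1 : ((E A A').obj (ModuleCat.of A M)) ≃ₗ[A'] A' ⊗[A] M :=
      Groth.Agent.S2380.bridge A A' (ModuleCat.of A M)
    have e2 : A' ⊗[A] M ≃ₗ[A'] LocalizedModule (Submonoid.powers f₀) M :=
      (IsLocalizedModule.isBaseChange (Submonoid.powers f₀) A'
        (LocalizedModule.mkLinearMap (Submonoid.powers f₀) M)).equiv
    exact Module.Flat.of_linearEquiv (e1 ≪≫ₗ e2)
  have hz := isZero_tor_of_flat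
    (Y := ModuleCat.of A' (LocalizedModule (Submonoid.powers f₀) N))
    ((E A A').obj (ModuleCat.of A M)) i hi
  exact Functor.map_isZero (ρ A A') hz

end loc
section glue

/-- the `f₀`-power torsion submodule -/
def powTor (f₀ : A) (N : Type u) [AddCommGroup N] [Module A N] : Submodule A N where
  carrier := {x | ∃ k : ℕ, f₀ ^ k • x = 0}
  add_mem' := by
    rintro x y ⟨k, hk⟩ ⟨l, hl⟩
    refine ⟨k + l, ?_⟩
    have hx : f₀ ^ (k + l) • x = 0 := by rw [pow_add, mul_comm, mul_smul, hk, smul_zero]
    have hy : f₀ ^ (k + l) • y = 0 := by rw [pow_add, mul_smul, hl, smul_zero]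
    rw [smul_add, hx, hy, add_zero]
  zero_mem' := ⟨0, by simp⟩
  smul_mem' := by
    rintro c x ⟨k, hk⟩
    exact ⟨k, by rw [smul_comm, hk, smul_zero]⟩

variable {r : ℕ} (f : Fin r → A)

/-- every element of `N` is killed by a power of `f j`, for each `j < s` -/
def PT (s : ℕ) (N : Type u) [AddCommGroup N] [Module A N] : Prop :=
  ∀ j : Fin r, j.val < s → ∀ x : N, ∃ k : ℕ, f j ^ k • x = 0

variable {f}

theorem PT.quotient {s : ℕ} {N : Type u} [AddCommGroup N] [Module A N] (h : PT f s N)
    (K : Submodule A N) : PT f s (N ⧸ K) := by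
  intro j hj x
  induction x using Submodule.Quotient.induction_on with
  | H x =>
    obtain ⟨k, hk⟩ := h j hj x
    exact ⟨k, by rw [← Submodule.Quotient.mk_smul, hk, Submodule.Quotient.mk_zero]⟩

/-- the descending step -/
theorem step (h1 : ∀ i, Module.Flat (Localization.Away (f i))
      (LocalizedModule (Submonoid.powers (f i)) M)) (s : ℕ) (hs : s < r)
    (IH : ∀ (N : Type u) [AddCommGroup N] [Module A N], PT f (s + 1) N →
      ∀ i, 1 ≤ i → i ≤ s + 2 → TZ A M i N)
    (N : Type u) [AddCommGroup N] [Module A N] (hN : PT f s N) (i : ℕ) (hi1 : 1 ≤ i)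
    (his : i ≤ s + 1) : TZ A M i N := by
  let f₀ := f ⟨s, hs⟩
  let S := Submonoid.powers f₀
  let N₁ := powTor f₀ N
  have hN₁ : PT f (s + 1) N₁ := by
    intro j hj x
    rcases Nat.lt_succ_iff_lt_or_eq.1 hj with hlt | heq
    · obtain ⟨k, hk⟩ := hN j hlt x.1
      exact ⟨k, Subtype.ext hk⟩
    · obtain ⟨k, hk⟩ := x.2
      have : j = ⟨s, hs⟩ := Fin.ext heq
      subst this
      exact ⟨k, Subtype.ext hk⟩
  have hN' : PT f s (N ⧸ N₁) := hN.quotient N₁
  have htf : ∀ y : N ⧸ N₁, (∃ c : S, c • y = 0) → y = 0 := by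
    intro y
    induction y using Submodule.Quotient.induction_on with
    | H x =>
      rintro ⟨⟨_, k, rfl⟩, hc⟩
      have hc' : f₀ ^ k • (Submodule.Quotient.mk x : N ⧸ N₁) = 0 := hc
      rw [← Submodule.Quotient.mk_smul, Submodule.Quotient.mk_eq_zero] at hc'
      obtain ⟨l, hl⟩ := hc'
      rw [Submodule.Quotient.mk_eq_zero]
      exact ⟨l + k, by rw [pow_add, mul_smul, hl]⟩
  let L := LocalizedModule S (N ⧸ N₁)
  let ℓ : (N ⧸ N₁) →ₗ[A] L := LocalizedModule.mkLinearMap S (N ⧸ N₁)
  have hℓ : Function.Injective ℓ := by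
    rw [← LinearMap.ker_eq_bot, LinearMap.ker_eq_bot']
    intro y hy
    exact htf y ((IsLocalizedModule.eq_zero_iff S ℓ).1 hy)
  let C := L ⧸ LinearMap.range ℓ
  have hC : PT f (s + 1) C := by
    intro j hj c
    induction c using Submodule.Quotient.induction_on with
    | H y =>
      induction y using LocalizedModule.induction_on with
      | h x t =>
        rcases Nat.lt_succ_iff_lt_or_eq.1 hj with hlt | heq
        · obtain ⟨k, hk⟩ := hN' j hlt x
          refine ⟨k, ?_⟩
          rw [← Submodule.Quotient.mk_smul, LocalizedModule.smul'_mk, hk, LocalizedModule.zero_mk,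
            Submodule.Quotient.mk_zero]
        · have : j = ⟨s, hs⟩ := Fin.ext heq
          subst this
          obtain ⟨k, hk⟩ := t.2
          refine ⟨k, ?_⟩
          rw [← Submodule.Quotient.mk_smul, Submodule.Quotient.mk_eq_zero]
          refine ⟨x, ?_⟩
          show LocalizedModule.mk x 1 = f₀ ^ k • LocalizedModule.mk x t
          rw [LocalizedModule.smul'_mk, ← LocalizedModule.mk_cancel t x]
          congr 1
          show (t : A) • x = f₀ ^ k • x
          rw [← hk]
  have hL : TZ A M i L := TZ.localizedModule f₀ (h1 ⟨s, hs⟩) (N ⧸ N₁) (by omega)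
  have hC' : TZ A M (i + 1) C := IH C hC (i + 1) (by omega) (by omega)
  have h' : TZ A M i (N ⧸ N₁) :=
    TZ.left ℓ (LinearMap.range ℓ).mkQ hℓ (Submodule.mkQ_surjective _)
      (LinearMap.exact_map_mkQ_range ℓ) hC' hL
  exact TZ.of_sub_quot N₁ (IH N₁ hN₁ i hi1 (by omega)) h'

/-- base of the descending induction -/
theorem base (H : Hyp M (Ideal.span (Set.range f)) (r + 1))
    (N : Type u) [AddCommGroup N] [Module A N] (hN : PT f r N) (i : ℕ) (hi1 : 1 ≤ i)
    (hir : i ≤ r + 1) : TZ A M i N := by
  refine H.torsion i hi1 hir N fun x => ?_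
  have hle : Ideal.span (Set.range f) ≤ (Ideal.torsionOf A N x).radical := by
    rw [Ideal.span_le]
    rintro _ ⟨j, rfl⟩
    obtain ⟨k, hk⟩ := hN j j.2 x
    exact ⟨k, (Ideal.mem_torsionOf_iff x _).2 hk⟩
  obtain ⟨n, hn⟩ := Ideal.exists_pow_le_of_le_radical_of_fg hle
    (Submodule.fg_span (Set.finite_range f))
  exact ⟨n, fun a ha => (Ideal.mem_torsionOf_iff x a).1 (hn ha)⟩

theorem all (h1 : ∀ i, Module.Flat (Localization.Away (f i))
      (LocalizedModule (Submonoid.powers (f i)) M))
    (H : Hyp M (Ideal.span (Set.range f)) (r + 1)) :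
    ∀ d, d ≤ r → ∀ (N : Type u) [AddCommGroup N] [Module A N], PT f (r - d) N →
      ∀ i, 1 ≤ i → i ≤ (r - d) + 1 → TZ A M i N := by
  intro d
  induction d with
  | zero =>
    intro _ N _ _ hN i hi1 hir
    exact base H N hN i hi1 hir
  | succ d ih =>
    intro hd N _ _ hN i hi1 hir
    have e : r - (d + 1) + 1 = r - d := by omega
    refine step h1 (r - (d + 1)) (by omega) ?_ N hN i hi1 hir
    intro N' _ _ hN' i' hi1' hir'
    rw [e] at hN'
    exact ih (by omega) N' hN' i' hi1' (by omega)

/-- **Glueing flatness** along `D(f_1), …, D(f_r)` and `V(f_1, …, f_r)`. -/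
theorem flat_of_glue (h1 : ∀ i, Module.Flat (Localization.Away (f i))
      (LocalizedModule (Submonoid.powers (f i)) M))
    (h2 : Module.Flat (A ⧸ Ideal.span (Set.range f)) ((A ⧸ Ideal.span (Set.range f)) ⊗[A] M))
    (h3 : ∀ i : ℕ, 1 ≤ i → i ≤ r + 1 → TZ A M i (A ⧸ Ideal.span (Set.range f))) :
    Module.Flat A M := by
  have key : ∀ (N : Type u) [AddCommGroup N] [Module A N], TZ A M 1 N := by
    intro N _ _
    have := all h1 ⟨h3, h2⟩ r le_rfl N (by intro j hj; omega) 1 le_rfl (by omega)
    exact this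
  rw [Module.Flat.iff_lTensor_preserves_injective_linearMap]
  intro N N' _ _ _ _ g hg
  exact TZ.lTensor_injective g (LinearMap.range g).mkQ hg (Submodule.mkQ_surjective _)
    (LinearMap.exact_map_mkQ_range g) (key N') (key _)

end glue
end Groth.Agent.R2.H26.TorGlue
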