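import Mathlib
import Groth.Agent.Lib.Helper20ZClos15
import Groth.Agent.Lib.Helper20ZClos6
import Groth.Agent.Lib.Helper20ZClos7
import Groth.Agent.Lib.Helper13QcqsBC
import Groth.Agent.Lib.Helper26FpqcMod

/-!
# Z-closure and flat base change (helper26)

For `f : X' ⟶ X` flat between locally Noetherian schemes, `Z ⊆ X` stable under specialization and
`F` quasi-coherent on `X`: `f^* H⁰_{X/Z}(F) ≅ H⁰_{X'/f⁻¹Z}(f^* F)`.
-/

set_option autoImplicit false
set_option linter.style.haveILetI false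
universe u
open CategoryTheory CategoryTheory.Limits AlgebraicGeometry Opposite TopologicalSpace

namespace Groth.Agent.R2.H26.ZClosFlat

open Groth.Agent.Lib.Helper20.ZClosLib Groth.Agent.Helper13QcqsBC Groth.Agent.Helper13FlatMV
  Groth.Agent.Helper13PullbackUnit Groth.Agent.Lib.Helper6

section BC

variable {X X' : Scheme.{u}} (f : X' ⟶ X) [Flat f] (G : X.Modules) [G.IsQuasicoherent]

omit [Flat f] in
theorem isPullback_id : IsPullback f (𝟙 X') (𝟙 X) f := IsPullback.of_vert_isIso ⟨by simp⟩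

/-- **Flat base change of a bijective restriction map.**  For `V' ≤ f⁻¹V` affine opens and
quasi-compact opens `W₁ ≤ W ≤ V`: if `G(W) → G(W₁)` is bijective then so is
`(f^*G)(f⁻¹W ∩ V') → (f^*G)(f⁻¹W₁ ∩ V')`. -/
theorem bijective_res_pullback {V : X.Opens} (hV : IsAffineOpen V) {V' : X'.Opens}
    (hV' : IsAffineOpen V') (hle : V' ≤ f ⁻¹ᵁ V) {W W₁ : X.Opens} (hW : W ≤ V) (hW₁ : W₁ ≤ W)
    (hWc : IsCompact (W : Set X)) (hW₁c : IsCompact (W₁ : Set X))
    (hbij : Function.Bijective (G.presheaf.map (homOfLE hW₁).op)) :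
    Function.Bijective (((Scheme.Modules.pullback f).obj G).presheaf.map
      (homOfLE (Vp_mono (U' := V') f (𝟙 X') hW₁)).op) := by
  have h := isPullback_id f
  have hflat : (f.appLE V V' hle).hom.Flat := f.flat_appLE hV hV' hle
  have hqs : IsQuasiSeparated (((𝟙 X) ⁻¹ᵁ V : X.Opens) : Set X) := hV.isQuasiSeparated
  have hWV : W ≤ (𝟙 X) ⁻¹ᵁ V := hW
  have hW₁V : W₁ ≤ (𝟙 X) ⁻¹ᵁ V := hW₁.trans hW
  have hK := KBij_of_qcqs (𝟙 X) f f (𝟙 X') h G hle hV hV' hflat hqs W hWc hWV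
  have hK₁ := KBij_of_qcqs (𝟙 X) f f (𝟙 X') h G hle hV hV' hflat hqs W₁ hW₁c hW₁V
  letI : Algebra Γ(X, V) Γ(X', V') := (f.appLE V V' hle).hom.toAlgebra
  let φ := resL (𝟙 X) G V hWV hW₁V hW₁
  let ψ := resL (𝟙 X') ((Scheme.Modules.pullback f).obj G) V'
    (inf_le_right : Vp f (𝟙 X') V' W ≤ (𝟙 X') ⁻¹ᵁ V') (inf_le_right : Vp f (𝟙 X') V' W₁ ≤ _)
    (Vp_mono f (𝟙 X') hW₁)
  have hφ : Function.Bijective φ := hbij
  have hn := kap_nat (R := Γ(X, V)) (R' := Γ(X', V'))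
    (uW (𝟙 X) f (𝟙 X') G hWV (inf_le_left : Vp f (𝟙 X') V' W ≤ f ⁻¹ᵁ W) inf_le_right)
    (uW_smul (𝟙 X) f f (𝟙 X') h G hle hWV inf_le_left inf_le_right)
    (uW (𝟙 X) f (𝟙 X') G hW₁V (inf_le_left : Vp f (𝟙 X') V' W₁ ≤ f ⁻¹ᵁ W₁) inf_le_right)
    (uW_smul (𝟙 X) f f (𝟙 X') h G hle hW₁V inf_le_left inf_le_right)
    φ ψ (fun a => unitSec_res f G _ _ hW₁ (Vp_mono f (𝟙 X') hW₁) a)
  have hφT : Function.Bijective (φ.lTensor Γ(X', V')) :=
    (LinearEquiv.lTensor Γ(X', V') (LinearEquiv.ofBijective φ hφ)).bijective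
  have hcomp : (ψ : _ → _) ∘ (kap (R := Γ(X, V)) (R' := Γ(X', V'))
      (uW (𝟙 X) f (𝟙 X') G hWV (inf_le_left : Vp f (𝟙 X') V' W ≤ f ⁻¹ᵁ W) inf_le_right)
      (uW_smul (𝟙 X) f f (𝟙 X') h G hle hWV inf_le_left inf_le_right)) =
      (kap (R := Γ(X, V)) (R' := Γ(X', V'))
      (uW (𝟙 X) f (𝟙 X') G hW₁V (inf_le_left : Vp f (𝟙 X') V' W₁ ≤ f ⁻¹ᵁ W₁) inf_le_right)
      (uW_smul (𝟙 X) f f (𝟙 X') h G hle hW₁V inf_le_left inf_le_right)) ∘
        (φ.lTensor Γ(X', V')) := funext hn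
  have hb : Function.Bijective ((ψ : _ → _) ∘ (kap (R := Γ(X, V)) (R' := Γ(X', V'))
      (uW (𝟙 X) f (𝟙 X') G hWV (inf_le_left : Vp f (𝟙 X') V' W ≤ f ⁻¹ᵁ W) inf_le_right)
      (uW_smul (𝟙 X) f f (𝟙 X') h G hle hWV inf_le_left inf_le_right))) := by
    rw [hcomp]
    exact hK₁.comp hφT
  exact (Function.Bijective.of_comp_iff _ hK).1 hb

end BC

section Top

/-- Topological core: for a continuous map `f`, a Noetherian quasi-sober open `V` of the source and a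
closed `K`, if `f` maps `K ∩ V` into a specialization-stable set `Z`, then the closure of
`f '' (K ∩ V)` is contained in `Z`. -/
theorem closure_image_subset_of_stableUnderSpecialization {α β : Type*} [TopologicalSpace α]
    [TopologicalSpace β] {f : α → β} (hf : Continuous f) {Z : Set β}
    (hZ : StableUnderSpecialization Z) (V : Opens α) [NoetherianSpace V] [QuasiSober V]
    (K : Set α) (hK : IsClosed K) (hCZ : f '' (K ∩ V) ⊆ Z) :
    closure (f '' (K ∩ V)) ⊆ Z := by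
  have hKV : IsClosed ((Subtype.val : V → α) ⁻¹' K) := hK.preimage continuous_subtype_val
  obtain ⟨S, hSf, hSc, hSi, hSU⟩ := NoetherianSpace.exists_finite_set_isClosed_irreducible hKV
  have hsub : f '' (K ∩ V) ⊆ ⋃ t ∈ S, f '' ((Subtype.val : V → α) '' t) := by
    rintro _ ⟨y, ⟨hyK, hyV⟩, rfl⟩
    have : (⟨y, hyV⟩ : V) ∈ (Subtype.val : V → α) ⁻¹' K := hyK
    rw [hSU] at this
    obtain ⟨t, htS, hyt⟩ := this
    exact Set.mem_biUnion htS ⟨y, ⟨⟨y, hyV⟩, hyt, rfl⟩, rfl⟩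
  intro y hy
  have hy' := closure_mono hsub hy
  rw [hSf.closure_biUnion] at hy'
  obtain ⟨t, htS, hyt⟩ := Set.mem_iUnion₂.mp hy'
  obtain ⟨η, hη⟩ := QuasiSober.sober (hSi t htS) (hSc t htS)
  have hηK : η.1 ∈ K := by
    have : η ∈ (Subtype.val : V → α) ⁻¹' K := by
      rw [hSU]
      exact ⟨t, htS, hη.mem⟩
    exact this
  have hηZ : f η.1 ∈ Z := hCZ ⟨η.1, ⟨hηK, η.2⟩, rfl⟩
  have hsub2 : f '' ((Subtype.val : V → α) '' t) ⊆ closure {f η.1} := by
    rintro _ ⟨_, ⟨v, hvt, rfl⟩, rfl⟩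
    have h1 : η ⤳ v := hη.specializes hvt
    have h2 : f η.1 ⤳ f v.1 := (h1.map continuous_subtype_val).map hf
    exact h2.mem_closure
  have hy2 : y ∈ closure {f η.1} := closure_minimal hsub2 isClosed_closure hyt
  exact hZ (specializes_iff_mem_closure.mpr hy2) hηZ

end Top

section Closed

variable {X X' : Scheme.{u}} [IsLocallyNoetherian X] [IsLocallyNoetherian X'] (f : X' ⟶ X) [Flat f]
  (G : X.Modules) [G.IsQuasicoherent] (Z : Set X)

omit [IsLocallyNoetherian X] [Flat f] [G.IsQuasicoherent] in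
/-- For `V'` affine in `X'` inside `f⁻¹V` and `O' ≤ V'` open with `V' ∖ O' ⊆ f⁻¹Z`, there is an open
`O ≤ V` with `V ∖ O ⊆ Z` and `f⁻¹O ∩ V' ≤ O'`. -/
theorem exists_open_le (hZ : StableUnderSpecialization Z) (V : X.Opens) {V' : X'.Opens}
    (hV' : IsAffineOpen V') (O' : X'.Opens)
    (hO'Z : (V' : Set X') \ (O' : Set X') ⊆ f.base ⁻¹' Z) :
    ∃ O : X.Opens, O ≤ V ∧ ((V : Set X) \ (O : Set X) ⊆ Z) ∧ f ⁻¹ᵁ O ⊓ V' ≤ O' := by
  haveI : IsNoetherianRing Γ(X', V') := IsLocallyNoetherian.component_noetherian ⟨V', hV'⟩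
  have hN : NoetherianSpace ((V' : Set X') : Type u) := noetherianSpace_of_isAffineOpen V' hV'
  have hQ : QuasiSober ((V' : Set X') : Type u) := V'.isOpen.isOpenEmbedding_subtypeVal.quasiSober
  have hK : IsClosed ((O' : Set X')ᶜ) := O'.isOpen.isClosed_compl
  have hS : f.base '' ((O' : Set X')ᶜ ∩ (V' : Set X')) ⊆ Z := by
    rintro _ ⟨y, ⟨hyO, hyV⟩, rfl⟩
    exact hO'Z ⟨hyV, hyO⟩
  have hcl := @closure_image_subset_of_stableUnderSpecialization _ _ _ _ _ f.continuous _ hZ V' hN hQ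
    _ hK hS
  set C : Set X := closure (f.base '' ((O' : Set X')ᶜ ∩ (V' : Set X'))) with hC
  refine ⟨V ⊓ ⟨Cᶜ, isClosed_closure.isOpen_compl⟩, inf_le_left, ?_, ?_⟩
  · rintro y ⟨hyV, hyO⟩
    apply hcl
    by_contra hyC
    exact hyO ⟨hyV, hyC⟩
  · rintro x' ⟨⟨-, hx'C⟩, hx'V⟩
    by_contra hx'O
    exact hx'C (subset_closure ⟨x', ⟨hx'O, hx'V⟩, rfl⟩)

/-- The pullback of a `Z`-closed quasi-coherent module along a flat morphism is `ClosedOn` (for
`f⁻¹Z`) every affine open `V'` of `X'` lying over an affine open of `X`. -/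
theorem closedOn_pullback (hZ : StableUnderSpecialization Z) (hG : ZClos.IsZClosed Z G)
    {V : X.Opens} (hV : IsAffineOpen V) {V' : X'.Opens} (hV' : IsAffineOpen V')
    (hle : V' ≤ f ⁻¹ᵁ V) :
    ClosedOn (f.base ⁻¹' Z) ((Scheme.Modules.pullback f).obj G) V' := by
  intro O' hO' hO'Z
  obtain ⟨O, hOV, hOZ, hOO'⟩ := exists_open_le f Z hZ V hV' O' hO'Z
  set G' := (Scheme.Modules.pullback f).obj G with hG'
  have hGV : Function.Bijective (G.presheaf.map (homOfLE hOV).op) :=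
    closedOn_of_isZClosed Z G hZ hG hV O hOV hOZ
  have hOc : IsCompact (O : Set X) := isCompact_of_le_affine hV O hOV
  -- key: for every affine `V'' ≤ f⁻¹V`, the restriction `G'(V'') → G'(f⁻¹O ⊓ V'')` is bijective
  have key : ∀ (V'' : X'.Opens) (_ : IsAffineOpen V'') (_ : V'' ≤ f ⁻¹ᵁ V),
      Function.Bijective (G'.presheaf.map
        (homOfLE (inf_le_right : f ⁻¹ᵁ O ⊓ V'' ≤ V'')).op) := by
    intro V'' hV'' hle''
    have h0 := bijective_res_pullback f G hV hV'' hle'' le_rfl hOV hV.isCompact hOc hGV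
    refine (bijective_map_congr G' (A := Vp f (𝟙 X') V'' O) (B := Vp f (𝟙 X') V'' V) rfl
      (inf_eq_right.2 hle'') _ _).mp h0
  have hr12 := key V' hV' hle
  -- injectivity of `G'(O') → G'(f⁻¹O ⊓ V')`
  have hinj2 : ∀ t : Γ(G', O'), res G' hOO' t = 0 → t = 0 := by
    intro t ht
    refine eq_zero_of_germ_eq_zero G' t fun y hy => ?_
    obtain ⟨V'', hV'', hyV'', hV''O'⟩ := exists_isAffineOpen_mem_and_subset (x := y) (U := O') hy
    have hle'' : V'' ≤ f ⁻¹ᵁ V := hV''O'.trans (hO'.trans hle)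
    have h1 : res G' (inf_le_right : f ⁻¹ᵁ O ⊓ V'' ≤ V'') (res G' hV''O' t) = 0 := by
      have hsub : f ⁻¹ᵁ O ⊓ V'' ≤ f ⁻¹ᵁ O ⊓ V' :=
        inf_le_inf_left _ (hV''O'.trans hO')
      rw [res_res, ← res_res G' hOO' hsub, ht, res_zero]
    have h2 : res G' hV''O' t = 0 :=
      (injective_iff_map_eq_zero (G'.presheaf.map
        (homOfLE (inf_le_right : f ⁻¹ᵁ O ⊓ V'' ≤ V'')).op).hom).mp (key V'' hV'' hle'').1 _ h1
    have h3 := TopCat.Presheaf.germ_res_apply G'.presheaf (homOfLE hV''O') y hyV'' t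
    rw [← h3]
    exact (congrArg _ h2).trans (map_zero _)
  constructor
  · rw [injective_iff_map_eq_zero]
    intro s hs
    have h1 : res G' (inf_le_right : f ⁻¹ᵁ O ⊓ V' ≤ V') s = 0 := by
      rw [← res_res G' hO' hOO']
      exact (congrArg (res G' hOO') hs).trans (res_zero G' hOO')
    exact (injective_iff_map_eq_zero (G'.presheaf.map
      (homOfLE (inf_le_right : f ⁻¹ᵁ O ⊓ V' ≤ V')).op).hom).mp hr12.1 _ h1
  · intro t
    obtain ⟨s, hs⟩ := hr12.2 (res G' hOO' t)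
    refine ⟨s, ?_⟩
    have hd : res G' hO' s - t = 0 := by
      apply hinj2
      rw [res_sub, res_res]
      exact sub_eq_zero.mpr hs
    exact sub_eq_zero.mp hd

end Closed

section Main

variable {X X' : Scheme.{u}} [IsLocallyNoetherian X] [IsLocallyNoetherian X'] (f : X' ⟶ X) [Flat f]
  (Z : Set X)

/-- **Flat pullback preserves `Z`-closed quasi-coherent modules** (for `Z' = f⁻¹Z`). -/
theorem isZClosed_pullback (G : X.Modules) [G.IsQuasicoherent] (hZ : StableUnderSpecialization Z)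
    (hG : ZClos.IsZClosed Z G) :
    ZClos.IsZClosed (f.base ⁻¹' Z) ((Scheme.Modules.pullback f).obj G) := by
  let ι : Type u :=
    {U' : X'.Opens // IsAffineOpen U' ∧ ∃ U : X.Opens, IsAffineOpen U ∧ U' ≤ f ⁻¹ᵁ U}
  refine isZClosed_of_closedOn _ _ (fun i : ι => i.1) ?_ ?_
  · rw [Opens.isBasis_iff_nbhd]
    intro W y hyW
    obtain ⟨V, hV, hyV, -⟩ := exists_isAffineOpen_mem_and_subset (x := f y) (U := ⊤) trivial
    obtain ⟨U', hU', hyU', hU'W⟩ := exists_isAffineOpen_mem_and_subset (x := y)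
      (U := W ⊓ f ⁻¹ᵁ V) ⟨hyW, hyV⟩
    exact ⟨U', ⟨⟨U', hU', V, hV, hU'W.trans inf_le_right⟩, rfl⟩, hyU', hU'W.trans inf_le_left⟩
  · rintro ⟨U', hU', U, hU, hle⟩
    exact closedOn_pullback f G Z hZ hG hU hU' hle

omit [IsLocallyNoetherian X] [IsLocallyNoetherian X'] in
/-- stalkwise bijectivity is preserved by flat pullback. -/
theorem bijective_stalk_pullback {A B : X.Modules} (a : A ⟶ B) (x' : X')
    (h : Function.Bijective ((stalkF (f.base x')).map a)) :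
    Function.Bijective ((stalkF x').map ((Scheme.Modules.pullback f).map a)) := by
  have h1 : Function.Injective ((Groth.Agent.Lib.Helper1.Sky.stalkFun (f.base x')).map a).hom := h.1
  have h2 : Function.Surjective ((Groth.Agent.Lib.Helper1.Sky.stalkFun (f.base x')).map a).hom :=
    h.2
  have h3 := (Groth.Agent.Lib.Helper26.FpqcMod.injective_iff f x' a).2 h1
  have h4 := (Groth.Agent.Lib.Helper26.FpqcMod.surjective_iff f x' a).2 h2
  exact ⟨h3, h4⟩

/-- **S5853**: `f^* H⁰_{X/Z}(F) ≅ H⁰_{X'/f⁻¹Z}(f^* F)` for `f` flat, `F` quasi-coherent; more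
precisely the canonical map `H⁰_{X'/f⁻¹Z}(f^*F) ⟶ f^*H⁰_{X/Z}(F)` factoring `f^*ρ` is an
isomorphism. -/
theorem exists_isIso_fac (F : X.Modules) [F.IsQuasicoherent] (hZ : StableUnderSpecialization Z) :
    ∃ v : (ZClos.H0 (f.base ⁻¹' Z)).obj ((Scheme.Modules.pullback f).obj F) ⟶
        (Scheme.Modules.pullback f).obj ((ZClos.H0 Z).obj F),
      ZClos.rhoApp (f.base ⁻¹' Z) ((Scheme.Modules.pullback f).obj F) ≫ v =
        (Scheme.Modules.pullback f).map (ZClos.rhoApp Z F) ∧ IsIso v := by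
  have hZ' : StableUnderSpecialization (f.base ⁻¹' Z) := hZ.preimage f.continuous
  haveI := isQuasicoherent_H0 Z F
  have hcl := isZClosed_pullback f Z ((ZClos.H0 Z).obj F) hZ (isZClosed_H0 Z F)
  obtain ⟨v, hv, -⟩ := existsUnique_fac (f.base ⁻¹' Z) _ _ hcl
    ((Scheme.Modules.pullback f).map (ZClos.rhoApp Z F))
  refine ⟨v, hv, ?_⟩
  refine isIso_fac_of_stalk_bijective_off (f.base ⁻¹' Z) hZ' _ _ hcl _ (fun x' hx' => ?_) v hv
  exact bijective_stalk_pullback f _ x' (isZClosedAt_of_notMem Z F (f.base x') hx')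

theorem nonempty_iso (F : X.Modules) [F.IsQuasicoherent] (hZ : StableUnderSpecialization Z) :
    Nonempty ((Scheme.Modules.pullback f).obj ((ZClos.H0 Z).obj F) ≅
      (ZClos.H0 (f.base ⁻¹' Z)).obj ((Scheme.Modules.pullback f).obj F)) := by
  obtain ⟨v, -, hv⟩ := exists_isIso_fac f Z F hZ
  exact ⟨(asIso v).symm⟩

end Main

end Groth.Agent.R2.H26.ZClosFlat
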