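import Mathlib
import Groth.Agent.Lib.Helper22Amitsur

/-!
# Amitsur exactness in degree one, algebra form (helper27)

For a faithfully flat `R`-algebra `A`, an element `γ ∈ A ⊗ A` with
`e12 γ + e23 γ = e13 γ` in `A ⊗ (A ⊗ A)` is of the form `1 ⊗ d - d ⊗ 1`.
-/

set_option autoImplicit false
open TensorProduct

namespace Groth.Agent.R2.H27.AmitsurOne

open Groth.Agent.Lib.Helper22

variable (R A : Type*) [CommRing R] [CommRing A] [Algebra R A]

/-- `a ⊗ b ↦ a ⊗ (b ⊗ 1)` -/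
noncomputable def e12 : A ⊗[R] A →ₐ[R] A ⊗[R] (A ⊗[R] A) :=
  Algebra.TensorProduct.map (AlgHom.id R A) Algebra.TensorProduct.includeLeft

/-- `a ⊗ b ↦ a ⊗ (1 ⊗ b)` -/
noncomputable def e13 : A ⊗[R] A →ₐ[R] A ⊗[R] (A ⊗[R] A) :=
  Algebra.TensorProduct.map (AlgHom.id R A) Algebra.TensorProduct.includeRight

/-- `x ↦ 1 ⊗ x` -/
noncomputable def e23 : A ⊗[R] A →ₐ[R] A ⊗[R] (A ⊗[R] A) :=
  Algebra.TensorProduct.includeRight

@[simp] theorem e12_tmul (a b : A) : e12 R A (a ⊗ₜ[R] b) = a ⊗ₜ[R] (b ⊗ₜ[R] (1 : A)) := by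
  simp [e12]

@[simp] theorem e13_tmul (a b : A) : e13 R A (a ⊗ₜ[R] b) = a ⊗ₜ[R] ((1 : A) ⊗ₜ[R] b) := by
  simp [e13]

@[simp] theorem e23_apply (x : A ⊗[R] A) : e23 R A x = (1 : A) ⊗ₜ[R] x := rfl

/-- `d ↦ 1 ⊗ d - d ⊗ 1` -/
noncomputable def D0 : A →ₗ[R] A ⊗[R] A :=
  TensorProduct.mk R A A 1 - (TensorProduct.mk R A A).flip 1

@[simp] theorem D0_apply (d : A) : D0 R A d = (1 : A) ⊗ₜ[R] d - d ⊗ₜ[R] (1 : A) := by
  simp [D0]

/-- the second differential -/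
noncomputable def D1 : A ⊗[R] A →ₗ[R] A ⊗[R] (A ⊗[R] A) :=
  (e23 R A).toLinearMap - (e13 R A).toLinearMap + (e12 R A).toLinearMap

theorem D1_apply (x : A ⊗[R] A) : D1 R A x = e23 R A x - e13 R A x + e12 R A x := by
  simp [D1]

theorem D1_tmul (a b : A) :
    D1 R A (a ⊗ₜ[R] b) = (1 : A) ⊗ₜ[R] (a ⊗ₜ[R] b) - a ⊗ₜ[R] ((1 : A) ⊗ₜ[R] b) +
      a ⊗ₜ[R] (b ⊗ₜ[R] (1 : A)) := by
  rw [D1_apply, e23_apply, e13_tmul, e12_tmul]

theorem D1_comp_D0 : (D1 R A) ∘ₗ (D0 R A) = 0 := by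
  ext d
  rw [LinearMap.comp_apply, D0_apply, map_sub, D1_tmul, D1_tmul, LinearMap.zero_apply]
  abel

theorem homotopy :
    (mulContract R A (A ⊗[R] A)) ∘ₗ ((D1 R A).lTensor A) +
      ((D0 R A).lTensor A) ∘ₗ (mulContract R A A) = LinearMap.id := by
  apply TensorProduct.ext'
  intro a y
  induction y using TensorProduct.induction_on with
  | zero => simp
  | tmul b c =>
    simp only [LinearMap.add_apply, LinearMap.comp_apply, LinearMap.lTensor_tmul, D1_tmul,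
      mulContract_tmul, D0_apply, LinearMap.id_apply, TensorProduct.tmul_sub,
      TensorProduct.tmul_add, map_sub, map_add, mul_one]
    abel
  | add y1 y2 h1 h2 =>
    rw [TensorProduct.tmul_add, map_add, h1, h2, map_add]

theorem exact [Module.FaithfullyFlat R A] : Function.Exact (D0 R A) (D1 R A) := by
  rw [← Module.FaithfullyFlat.lTensor_exact_iff_exact R A]
  intro w
  constructor
  · intro hw
    have h := LinearMap.congr_fun (homotopy R A) w
    rw [LinearMap.add_apply, LinearMap.comp_apply, hw, map_zero, zero_add,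
      LinearMap.comp_apply, LinearMap.id_apply] at h
    exact ⟨mulContract R A A w, h⟩
  · rintro ⟨v, rfl⟩
    rw [← LinearMap.comp_apply, ← LinearMap.lTensor_comp, D1_comp_D0, LinearMap.lTensor_zero,
      LinearMap.zero_apply]

/-- vanishing of the first Amitsur cohomology of a faithfully flat algebra -/
theorem exists_eq_sub [Module.FaithfullyFlat R A] (γ : A ⊗[R] A)
    (h : e12 R A γ + e23 R A γ = e13 R A γ) :
    ∃ d : A, γ = (1 : A) ⊗ₜ[R] d - d ⊗ₜ[R] (1 : A) := by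
  have h0 : D1 R A γ = 0 := by
    rw [D1_apply, ← h]
    abel
  obtain ⟨d, hd⟩ := (exact R A γ).1 h0
  exact ⟨d, by rw [← hd, D0_apply]⟩

end Groth.Agent.R2.H27.AmitsurOne
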