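import Mathlib
import Groth.Agent.Lib.Helper1KBC4
import Groth.Agent.Lib.Helper1CI7
import Groth.Agent.Lib.Helper1TorO
import Groth.Agent.R2.H27PushStalk
set_option backward.isDefEq.respectTransparency.types false

/-!
# Stalkwise tor amplitude implies flat amplitude on a scheme (helper27)

If at every point `x` the complex of stalks `F_x` has tor amplitude in `[a, b]` over `O_{X,x}`, then `F` is isomorphic in
`D(O_X)` to a complex of flat modules placed in `[a, b]`.  The proof follows `Helper1CI7`, replacing the derived tensor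
functor by stalkwise arguments.
-/

set_option autoImplicit false
universe u
open CategoryTheory CategoryTheory.Limits AlgebraicGeometry HomologicalComplex MonoidalCategory
attribute [local instance] HasDerivedCategory.standard

namespace Groth.Agent.R2.H27.FlatAmp

open Groth.Agent.Lib.Helper1.BKF Groth.Agent.Lib.Helper1.Sky Groth.Agent.Lib.Helper1.StalkTensor
  Groth.Agent.Lib.Helper1.KBC Groth.Agent.Lib.Helper1.CI Groth.Agent.Lib.Helper1.Tor
  Groth.Agent.Lib.Helper1.TorO Groth.Agent.Lib.Helper1.KF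
  Groth.Agent.Lib.Helper21.FlatCalc Groth.Agent.Lib.Helper21.ModTensor5
  Groth.Agent.Lib.Helper21.ModTensor2 Groth.Agent.Lib.Helper21.ModTensor3
  Groth.Agent.Lib.Helper21.ModTensor7
open ZeroObject

variable {X : Scheme.{u}}

lemma exactAt_of_iso {A : Type*} [Category A] [Abelian A] {K L : CochainComplex A ℤ} (e : K ≅ L)
    (n : ℤ) (h : K.ExactAt n) : L.ExactAt n := by
  rw [exactAt_iff_isZero_homology] at h ⊢
  exact h.of_iso ((HomologicalComplex.homologyFunctor _ _ n).mapIso e.symm)

/-- exactness in one degree is detected on stalks -/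
lemma exactAt_of_forall_stalk (C : CochainComplex X.Modules ℤ) (n : ℤ)
    (h : ∀ x : X, ((stalkC x).obj C).ExactAt n) : C.ExactAt n := by
  rw [exactAt_iff_isZero_homology]
  apply isZero_of_forall_isZero_stalk
  intro y
  have h1 := h y
  rw [exactAt_iff_isZero_homology] at h1
  have e := (C.sc n).mapHomologyIso (stalkFun y)
  exact IsZero.of_iso h1 e.symm

/-- the stalk of `L ⊗ G` is `G_x ⊗ L_x`, naturally in `L` -/
noncomputable def stalkTensorRightIso (G : X.Modules) (x : X) :
    DCoh.tensorRightMod G ⋙ stalkFun x ≅ stalkFun x ⋙ tensorLeft ((stalkFun x).obj G) :=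
  NatIso.ofComponents (fun L => stalkTensorApp x L G ≪≫ β_ _ _) (fun {L L'} φ => by
    have h := stalkTensor_naturality_left x φ G
    have hb := BraidedCategory.braiding_naturality_left ((stalkFun x).map φ) ((stalkFun x).obj G)
    show ((G₁ x).map φ).app G ≫ (stalkTensorApp x L' G).hom ≫ (β_ _ _).hom =
      ((stalkTensorApp x L G).hom ≫ (β_ _ _).hom) ≫ ((stalkFun x).obj G ◁ (stalkFun x).map φ)
    calc ((G₁ x).map φ).app G ≫ (stalkTensorApp x L' G).hom ≫ (β_ _ _).hom
        = (((G₁ x).map φ).app G ≫ (stalkTensorApp x L' G).hom) ≫ (β_ _ _).hom :=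
          (Category.assoc _ _ _).symm
      _ = ((stalkTensorApp x L G).hom ≫ ((G₂ x).map φ).app G) ≫ (β_ _ _).hom := by rw [h]
      _ = (stalkTensorApp x L G).hom ≫
            (((stalkFun x).map φ ▷ (stalkFun x).obj G) ≫ (β_ _ _).hom) := Category.assoc _ _ _
      _ = (stalkTensorApp x L G).hom ≫
            ((β_ _ _).hom ≫ ((stalkFun x).obj G ◁ (stalkFun x).map φ)) := by rw [hb]
      _ = _ := (Category.assoc _ _ _).symm)

/-- the stalk complex of the termwise tensor product `K ⊗ G` -/
noncomputable def stalkTtwIso (G : X.Modules) (K : CochainComplex X.Modules ℤ) (x : X) :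
    (stalkC x).obj ((Ttw G).obj K) ≅ (TC ((stalkFun x).obj G)).obj ((stalkC x).obj K) :=
  (NatIso.mapHomologicalComplex (stalkTensorRightIso G x) (ComplexShape.up ℤ)).app K

/-- stalkwise tor amplitude in `[a, b]` -/
def StalkTorAmp (a b : ℤ) (K : CochainComplex X.Modules ℤ) : Prop :=
  ∀ x : X, DRing.HasTorAmplitudeIn (X.presheaf.stalk x) a b
    (DRing.toD (((DerSch.stalkFunctor X x).mapHomologicalComplex (ComplexShape.up ℤ)).obj K))

lemma StalkTorAmp.of_iso {a b : ℤ} {K L : CochainComplex X.Modules ℤ}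
    (e : DCoh.toD X K ≅ DCoh.toD X L) (h : StalkTorAmp a b K) : StalkTorAmp a b L := fun x =>
  hasTorAmp_of_iso (Groth.Agent.R2.H27.PushStalk.stalkDIso x e) (h x)

/-- the stalk complex in terms of `stalkFun` -/
noncomputable def stalkCIso (K : CochainComplex X.Modules ℤ) (x : X) :
    ((DerSch.stalkFunctor X x).mapHomologicalComplex (ComplexShape.up ℤ)).obj K ≅ (stalkC x).obj K :=
  (NatIso.mapHomologicalComplex (stalkFunctorIso x) (ComplexShape.up ℤ)).app K

lemma StalkTorAmp.torVan {a b : ℤ} {K : CochainComplex X.Modules ℤ} (h : StalkTorAmp a b K)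
    (hK : DCoh.IsKFlat K) (x : X) : TorVan ((stalkC x).obj K) a b := by
  obtain ⟨E, hE, hEf, ⟨e⟩⟩ := h x
  exact torVan_of_iso_kflat _ E (rKFlat_stalk_of_isKFlat x K hK) a b hE hEf
    (e ≪≫ DerivedCategory.Q.mapIso (stalkCIso K x))

lemma StalkTorAmp.exactAt {a b : ℤ} {K : CochainComplex X.Modules ℤ} (h : StalkTorAmp a b K)
    (i : ℤ) (hi : i < a ∨ b < i) : K.ExactAt i := by
  apply exactAt_of_forall_stalk
  intro x
  obtain ⟨E, hE, hEf, ⟨e⟩⟩ := h x
  exact exactAt_of_Q_iso (e ≪≫ DerivedCategory.Q.mapIso (stalkCIso K x)) i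
    (exactAt_of_isZero_X E i (hE i hi))

lemma StalkTorAmp.exactAt_Ttw {a b : ℤ} {K : CochainComplex X.Modules ℤ} (h : StalkTorAmp a b K)
    (hK : DCoh.IsKFlat K) (G : X.Modules) (i : ℤ) (hi : i < a ∨ b < i) :
    ((Ttw G).obj K).ExactAt i := by
  apply exactAt_of_forall_stalk
  intro x
  exact exactAt_of_iso (stalkTtwIso G K x).symm i (h.torVan hK x ((stalkFun x).obj G) i hi)

/-- an acyclic complex is zero in the derived category -/
lemma isZero_Q_of_exactAt {A : Type*} [Category A] [Abelian A] [HasDerivedCategory A]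
    (K : CochainComplex A ℤ) (h : ∀ j : ℤ, K.ExactAt j) : IsZero (DerivedCategory.Q.obj K) := by
  have h1 : CochainComplex.IsLE K 0 := by
    rw [CochainComplex.isLE_iff]
    exact fun i _ => h i
  have h2 : CochainComplex.IsGE K 1 := by
    rw [CochainComplex.isGE_iff]
    exact fun i _ => h i
  have : (DerivedCategory.Q.obj K).IsLE 0 := (DerivedCategory.isLE_Q_obj_iff _ _).2 h1
  have : (DerivedCategory.Q.obj K).IsGE 1 := (DerivedCategory.isGE_Q_obj_iff _ _).2 h2
  exact DerivedCategory.TStructure.t.isZero (DerivedCategory.Q.obj K) 0 1 (by simp)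

/-- stalkwise tor amplitude in `[a, b]` with `a ≤ b` gives a flat model placed in `[a, b]` -/
theorem hasFlatAmplitudeIn_of_stalkTorAmp_of_le (F : CochainComplex X.Modules ℤ) (a b : ℤ)
    (hab : a ≤ b) (hF : StalkTorAmp a b F) : DCoh.HasFlatAmplitudeIn a b (DCoh.toD X F) := by
  obtain ⟨K, q, hK, hKfl, hq, -⟩ : ∃ (K : CochainComplex X.Modules ℤ)
      (q : K ⟶ F), DCoh.IsKFlat K ∧
      (∀ n : ℤ, ModSite.IsFlat (O := X.sheaf) (K.X n)) ∧ QuasiIso q ∧ ∀ n : ℤ, Epi (q.f n) :=
    exists_kflat_flat_resolution X.sheaf F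
  have hqi : IsIso (DerivedCategory.Q.map q) := by
    rw [DerivedCategory.isIso_Q_map_iff_quasiIso]; exact hq
  have eK : DCoh.toD X K ≅ DCoh.toD X F := asIso (DerivedCategory.Q.map q)
  have hEK : StalkTorAmp a b K := hF.of_iso eK.symm
  have hexK : ∀ i : ℤ, (i < a ∨ b < i) → K.ExactAt i := fun i hi => hEK.exactAt i hi
  have hexG : ∀ (G : X.Modules) (i : ℤ), (i < a ∨ b < i) → ((Ttw G).obj K).ExactAt i :=
    fun G i hi => hEK.exactAt_Ttw hK G i hi
  -- the cycles in degree `b` are flat
  have hZ : ModSite.IsFlat (O := X.sheaf) (kernel (K.d b (b + 1))) :=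
    isFlat_kernel_of_exact_above X.sheaf (K.d b (b + 1)) (K.d (b + 1) (b + 2))
      (K.d (b + 2) (b + 3)) (K.d (b + 3) (b + 4)) (K.d_comp_d _ _ _) (K.d_comp_d _ _ _)
      (K.d_comp_d _ _ _)
      (exact_sc_of_exactAt K b (b + 1) (b + 2) rfl (by omega) (hexK _ (Or.inr (by omega))))
      (exact_sc_of_exactAt K (b + 1) (b + 2) (b + 3) (by omega) (by omega)
        (hexK _ (Or.inr (by omega))))
      (exact_sc_of_exactAt K (b + 2) (b + 3) (b + 4) (by omega) (by omega)
        (hexK _ (Or.inr (by omega))))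
      (fun G => exact_sc_Ttw_of_exactAt G K b (b + 1) (b + 2) rfl (by omega)
        (hexG G _ (Or.inr (by omega))))
      (hKfl _) (hKfl _) (hKfl _)
  -- truncation above
  have hKle : K.IsLE b := by
    rw [CochainComplex.isLE_iff]
    exact fun i hi => hexK i (Or.inr hi)
  have hK₂fl : ∀ i : ℤ, ModSite.IsFlat (O := X.sheaf) ((K.truncLE b).X i) := by
    intro i
    obtain hi | rfl | hi := lt_trichotomy i b
    · exact isFlat_of_iso X.sheaf (K.truncLEXIso b i hi).symm (hKfl i)
    · have e1 : K.cycles i ≅ kernel (K.d i (i + 1)) :=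
        (K.cyclesIsKernel i (i + 1) (by simp)).conePointUniqueUpToIso (limit.isLimit _)
      exact isFlat_of_iso X.sheaf ((K.truncLEXIsoCycles i).trans e1).symm hZ
    · exact isFlat_of_isZero X.sheaf _ ((K.truncLE b).isZero_of_isStrictlyLE b i hi)
  have hsle : (K.truncLE b).IsStrictlyLE b := inferInstance
  have hK₂ : DCoh.IsKFlat (K.truncLE b) :=
    isKFlat_of_bounded_above_flat (O := X.sheaf) (K.truncLE b) hK₂fl b hsle
  have hιi : IsIso (DerivedCategory.Q.map (K.ιTruncLE b)) := by
    rw [DerivedCategory.isIso_Q_map_iff_quasiIso]; infer_instance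
  have eK₂ : DCoh.toD X (K.truncLE b) ≅ DCoh.toD X F :=
    asIso (DerivedCategory.Q.map (K.ιTruncLE b)) ≪≫ eK
  have hEK₂ : StalkTorAmp a b (K.truncLE b) := hF.of_iso eK₂.symm
  -- the cokernel in degree `a` is flat
  have hC : ModSite.IsFlat (O := X.sheaf) (cokernel ((K.truncLE b).d (a - 1) a)) := by
    refine flat_cokernel_site X.sheaf ((K.truncLE b).d (a - 2) (a - 1)) ((K.truncLE b).d (a - 1) a)
      ((K.truncLE b).d_comp_d _ _ _) ?_ (hK₂fl a)
    intro G
    exact exact_sc_Ttw_of_exactAt G (K.truncLE b) (a - 2) (a - 1) a (by omega) (by omega)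
      (hEK₂.exactAt_Ttw hK₂ G (a - 1) (Or.inl (by omega)))
  -- truncation below
  have hK₂ge : (K.truncLE b).IsGE a := by
    rw [CochainComplex.isGE_iff]
    intro i hi
    exact hEK₂.exactAt i (Or.inl hi)
  have hπi : IsIso (DerivedCategory.Q.map ((K.truncLE b).πTruncGE a)) := by
    rw [DerivedCategory.isIso_Q_map_iff_quasiIso]; infer_instance
  have hK₃fl : ∀ i : ℤ, ModSite.IsFlat (O := X.sheaf) (((K.truncLE b).truncGE a).X i) := by
    intro i
    obtain hi | rfl | hi := lt_trichotomy i a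
    · exact isFlat_of_isZero X.sheaf _ (((K.truncLE b).truncGE a).isZero_of_isStrictlyGE a i hi)
    · have e1 : cokernel ((K.truncLE b).d (i - 1) i) ≅ (K.truncLE b).opcycles i :=
        (colimit.isColimit _).coconePointUniqueUpToIso
          ((K.truncLE b).opcyclesIsCokernel (i - 1) i (by simp))
      exact isFlat_of_iso X.sheaf (((K.truncLE b).truncGEXIsoOpcycles i).trans e1.symm).symm hC
    · exact isFlat_of_iso X.sheaf ((K.truncLE b).truncGEXIso a i hi).symm (hK₂fl i)
  refine ⟨(K.truncLE b).truncGE a, ?_, fun i => Groth.Agent.Lib.Helper1.StalkTensor.isFlat_of_modSite_isFlat _ (hK₃fl i),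
    ⟨(asIso (DerivedCategory.Q.map ((K.truncLE b).πTruncGE a))).symm ≪≫ eK₂⟩⟩
  intro i hi
  rcases hi with hi | hi
  · exact ((K.truncLE b).truncGE a).isZero_of_isStrictlyGE a i hi
  · exact ((K.truncLE b).isZero_of_isStrictlyLE b i hi).of_iso
      ((K.truncLE b).truncGEXIso a i (by omega))

/-- stalkwise tor amplitude in `[a, b]` gives a flat model placed in `[a, b]` -/
theorem hasFlatAmplitudeIn_of_stalkTorAmp (F : CochainComplex X.Modules ℤ) (a b : ℤ)
    (hF : StalkTorAmp a b F) : DCoh.HasFlatAmplitudeIn a b (DCoh.toD X F) := by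
  by_cases hab : a ≤ b
  · exact hasFlatAmplitudeIn_of_stalkTorAmp_of_le F a b hab hF
  · have hz : IsZero (DCoh.toD X F) :=
      isZero_Q_of_exactAt F (fun j => hF.exactAt j (by omega))
    refine ⟨0, fun i _ => ?_, fun i => ?_, ⟨(DerivedCategory.Q.map_isZero (isZero_zero _)).iso hz⟩⟩
    · exact (HomologicalComplex.eval _ _ i).map_isZero (isZero_zero _)
    · exact flatMod_isFlat_of_isZero _ ((HomologicalComplex.eval _ _ i).map_isZero (isZero_zero _))

end Groth.Agent.R2.H27.FlatAmp
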