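import Mathlib
import Groth.Agent.Lib.Helper1TorJ
import Groth.Agent.Lib.Helper1KBC6
import Groth.Agent.R2.H27FlatAmp
set_option backward.isDefEq.respectTransparency.types false

/-!
# Flat amplitude descends along flat surjective morphisms (helper27)
-/

set_option autoImplicit false
set_option linter.style.haveILetI false
universe u
open CategoryTheory CategoryTheory.Limits AlgebraicGeometry HomologicalComplex MonoidalCategory
attribute [local instance] HasDerivedCategory.standard

namespace Groth.Agent.R2.H27.FlatDesc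

open Groth.Agent.Lib.Helper1.Tor Groth.Agent.Lib.Helper1.Extend TensorProduct

section Ring

variable {R B : Type u} [CommRing R] [CommRing B] [Algebra R B]

/-- a faithfully flat algebra is a descent family -/
theorem descFam_of_faithfullyFlat [Module.FaithfullyFlat R B] :
    DescFam (R := R) (fun _ : Unit => B) where
  zero H _ _ hz := by
    have := hz ()
    exact Module.FaithfullyFlat.lTensor_reflects_triviality R B H
  flatD C _ _ hz := by
    have := hz ()
    exact Module.Flat.of_flat_tensorProduct (R := R) (M := C) B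
  fin H _ _ hz := by
    have := hz ()
    exact Module.Finite.of_finite_tensorProduct_of_faithfullyFlat (R := R) B

/-- tor amplitude descends along a faithfully flat ring map (complex level) -/
theorem hasTorAmp_of_extCx [Module.FaithfullyFlat R B] (K : DRing.Cx R) (a b : ℤ)
    (h : DRing.HasTorAmplitudeIn B a b (DRing.toD ((extCx R B).obj K))) :
    DRing.HasTorAmplitudeIn R a b (DRing.toD K) := by
  haveI : ∀ _ : Unit, Module.Flat R ((fun _ : Unit => B) ()) := fun _ => inferInstance
  refine DescFam.hasTorAmp (B := fun _ : Unit => B) descFam_of_faithfullyFlat (DRing.toD K) a b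
    (fun _ => ?_)
  exact hasTorAmp_of_iso (mapQIso (ext R B) K).symm h

end Ring

section Scheme

open Groth.Agent.Lib.Helper1.KBC Groth.Agent.Lib.Helper1.Sky Groth.Agent.Lib.Helper1.BKF
  Groth.Agent.R2.H27.FlatAmp

variable {X Y : Scheme.{u}} (f : X ⟶ Y)

lemma hasFlatAmplitudeIn_of_iso {K K' : DCoh.D X} (e : K ≅ K') (a b : ℤ)
    (h : DCoh.HasFlatAmplitudeIn a b K) : DCoh.HasFlatAmplitudeIn a b K' := by
  obtain ⟨E, hE, hEf, ⟨e'⟩⟩ := h
  exact ⟨E, hE, hEf, ⟨e' ≪≫ e⟩⟩

/-- the stalk complex of a termwise pullback -/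
noncomputable def stalkPullCIso (K : CochainComplex Y.Modules ℤ) (x : X) :
    (stalkC x).obj ((pullC f).obj K) ≅
      ((ModuleCat.extendScalars.{u, u, u} (f.stalkMap x).hom).mapHomologicalComplex
        (ComplexShape.up ℤ)).obj ((stalkC (f x)).obj K) :=
  (NatIso.mapHomologicalComplex (stalkPullbackIso f x) (ComplexShape.up ℤ)).app K

/-- stalkwise tor amplitude descends along flat surjective morphisms -/
theorem stalkTorAmp_of_pullC [Flat f] [Surjective f] (K : CochainComplex Y.Modules ℤ) (a b : ℤ)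
    (h : StalkTorAmp a b ((pullC f).obj K)) : StalkTorAmp a b K := by
  intro y
  obtain ⟨x, rfl⟩ := f.surjective y
  letI := (f.stalkMap x).hom.toAlgebra
  haveI : Module.Flat (Y.presheaf.stalk (f x)) (X.presheaf.stalk x) := Flat.stalkMap f x
  haveI : IsLocalHom (algebraMap (Y.presheaf.stalk (f x)) (X.presheaf.stalk x)) :=
    inferInstanceAs (IsLocalHom (f.stalkMap x).hom)
  haveI : Module.FaithfullyFlat (Y.presheaf.stalk (f x)) (X.presheaf.stalk x) :=
    Module.FaithfullyFlat.of_flat_of_isLocalHom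
  have h1 := h x
  refine hasTorAmp_of_iso (DerivedCategory.Q.mapIso (stalkCIso K (f x)).symm)
    (hasTorAmp_of_extCx (B := X.presheaf.stalk x) ((stalkC (f x)).obj K) a b ?_)
  exact hasTorAmp_of_iso (DerivedCategory.Q.mapIso (stalkCIso _ x ≪≫ stalkPullCIso f K x)) h1

/-- flat amplitude descends along flat surjective morphisms -/
theorem hasFlatAmplitudeIn_of_Lpull [Flat f] [Surjective f] [DCoh.HasLpull f] (E : DCoh.D Y)
    (a b : ℤ) (h : DCoh.HasFlatAmplitudeIn a b ((DCoh.Lpull f).obj E)) :
    DCoh.HasFlatAmplitudeIn a b E := by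
  obtain ⟨K, q, hK, hKfl, hq, -⟩ : ∃ (K : CochainComplex Y.Modules ℤ)
      (q : K ⟶ DerivedCategory.Q.objPreimage E), DCoh.IsKFlat K ∧
      (∀ n : ℤ, ModSite.IsFlat (O := Y.sheaf) (K.X n)) ∧ QuasiIso q ∧ ∀ n : ℤ, Epi (q.f n) :=
    exists_kflat_flat_resolution Y.sheaf (DerivedCategory.Q.objPreimage E)
  have hqi : IsIso (DerivedCategory.Q.map q) := by
    rw [DerivedCategory.isIso_Q_map_iff_quasiIso]; exact hq
  have eK : DCoh.toD Y K ≅ E :=
    asIso (DerivedCategory.Q.map q) ≪≫ DerivedCategory.Q.objObjPreimageIso E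
  have e1 : DCoh.toD X ((pullC f).obj K) ≅ (DCoh.Lpull f).obj E :=
    (lpullIsoK f K hK).symm ≪≫ (DCoh.Lpull f).mapIso eK
  have h1 : DCoh.HasFlatAmplitudeIn a b (DCoh.toD X ((pullC f).obj K)) :=
    hasFlatAmplitudeIn_of_iso e1.symm a b h
  have h2 : StalkTorAmp a b ((pullC f).obj K) := fun x =>
    Groth.Agent.R2.H27.PushStalk.hasTorAmp_stalk_of_hasFlatAmplitudeIn _ a b h1 x
  exact hasFlatAmplitudeIn_of_iso eK a b
    (hasFlatAmplitudeIn_of_stalkTorAmp K a b (stalkTorAmp_of_pullC f K a b h2))

end Scheme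

end Groth.Agent.R2.H27.FlatDesc
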