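import Mathlib
import Groth.Agent.Lib.Helper3FppfDescent
import Groth.Agent.Lib.Helper20EtSrc
import Groth.Agent.Lib.Helper20CompDescSch

/-!
# Descent of `Flat` and `LocallyOfFinitePresentation` along fppf covers of the source

If `f : X' ⟶ X` is surjective, flat and locally of finite presentation and `f ≫ g` is flat
(resp. locally of finite presentation), then so is `g`.
-/

set_option autoImplicit false
universe u

namespace Groth.Agent.R2.H27.FppfSrc

open AlgebraicGeometry CategoryTheory Limits MorphismProperty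

/-- Generic descent along fppf covers of the source. -/
theorem of_fppf_cover_source {P : MorphismProperty Scheme.{u}}
    {Q : ∀ {R S : Type u} [CommRing R] [CommRing S], (R →+* S) → Prop}
    [HasRingHomProperty P Q]
    (hQ : RingHom.StableUnderCompositionWithLocalizationAwaySource Q)
    (hdesc : ∀ {R A B : Type u} [CommRing R] [CommRing A] [CommRing B] (φ : R →+* A)
      (ψ : A →+* B), ψ.Flat → ψ.FinitePresentation →
        Function.Surjective (PrimeSpectrum.comap ψ) → Q (ψ.comp φ) → Q φ)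
    {X' X Y : Scheme.{u}} (f : X' ⟶ X) (g : X ⟶ Y) [Flat f] [LocallyOfFinitePresentation f]
    [Surjective f] (h : P (f ≫ g)) :
    P g := by
  rw [HasRingHomProperty.iff_exists_appLE (P := P) hQ]
  intro x
  obtain ⟨U, hU, hgx, -⟩ := TopologicalSpace.Opens.isBasis_iff_nbhd.mp Y.isBasis_affineOpens
    (TopologicalSpace.Opens.mem_top (g x))
  obtain ⟨V₀, hV₀, hxV₀, eV₀⟩ := TopologicalSpace.Opens.isBasis_iff_nbhd.mp X.isBasis_affineOpens
    (show x ∈ g ⁻¹ᵁ U from hgx)
  obtain ⟨x', rfl⟩ := f.surjective x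
  obtain ⟨W₀, hW₀, hxW₀, eW₀⟩ := TopologicalSpace.Opens.isBasis_iff_nbhd.mp X'.isBasis_affineOpens
    (show x' ∈ f ⁻¹ᵁ V₀ from hxV₀)
  let O : X.Opens := ⟨f '' W₀, f.isOpenMap _ W₀.isOpen⟩
  obtain ⟨a, haO, hxa⟩ := hV₀.exists_basicOpen_le (V := O) ⟨f x', ⟨x', hxW₀, rfl⟩⟩ hxV₀
  let V : X.Opens := X.basicOpen a
  have hV : IsAffineOpen V := hV₀.basicOpen a
  let W : X'.Opens := X'.basicOpen (f.appLE V₀ W₀ eW₀ a)
  have hW : IsAffineOpen W := hW₀.basicOpen _
  have hWeq : W = W₀ ⊓ f ⁻¹ᵁ V := Scheme.basicOpen_appLE f W₀ V₀ eW₀ a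
  have eW : W ≤ f ⁻¹ᵁ V := hWeq ▸ inf_le_right
  have eV : V ≤ g ⁻¹ᵁ U := (X.basicOpen_le a).trans eV₀
  refine ⟨⟨U, hU⟩, ⟨V, hV⟩, hxa, eV, ?_⟩
  apply hdesc (g.appLE U V eV).hom (f.appLE V W eW).hom
  · exact HasRingHomProperty.appLE (P := @Flat) f inferInstance ⟨V, hV⟩ ⟨W, hW⟩ eW
  · exact HasRingHomProperty.appLE (P := @LocallyOfFinitePresentation) f inferInstance
      ⟨V, hV⟩ ⟨W, hW⟩ eW
  · apply Groth.Agent.Lib.Helper20.EtSrc.comap_appLE_surjective f hV hW eW
    intro y hy
    obtain ⟨w, hw, rfl⟩ := haO hy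
    exact ⟨w, hWeq ▸ ⟨hw, hy⟩, rfl⟩
  · rw [← CommRingCat.hom_comp, Scheme.Hom.appLE_comp_appLE]
    exact HasRingHomProperty.appLE (P := P) _ h ⟨U, hU⟩ ⟨W, hW⟩ _

/-- Ring form: finite presentation descends along a faithfully flat finitely presented extension
of the source. -/
theorem finitePresentation_of_fppf {R A B : Type u} [CommRing R] [CommRing A] [CommRing B]
    (φ : R →+* A) (ψ : A →+* B) (hfl : ψ.Flat) (hfp : ψ.FinitePresentation)
    (hs : Function.Surjective (PrimeSpectrum.comap ψ)) (hc : (ψ.comp φ).FinitePresentation) :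
    φ.FinitePresentation := by
  algebraize [φ, ψ, ψ.comp φ]
  have : Module.Flat A B := hfl
  have : Algebra.FinitePresentation A B := hfp
  have : Algebra.FinitePresentation R B := hc
  have : Module.FaithfullyFlat A B := Module.FaithfullyFlat.of_comap_surjective hs
  obtain ⟨A₀, B₀, _, _, _, _, hft, hfp, hff, ⟨e⟩⟩ :=
    Groth.Agent.Lib.Helper3.Fppf.exists_faithfullyFlat_model A B
  exact Groth.Agent.Lib.Helper3.Fppf.finitePresentation_of_model (R := R) e

/-- `LocallyOfFinitePresentation` descends along fppf covers of the source. -/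
theorem locallyOfFinitePresentation_of_fppf_cover_source {X' X Y : Scheme.{u}} (f : X' ⟶ X)
    (g : X ⟶ Y) [Flat f] [LocallyOfFinitePresentation f] [Surjective f]
    [h : LocallyOfFinitePresentation (f ≫ g)] : LocallyOfFinitePresentation g := by
  refine of_fppf_cover_source (P := @LocallyOfFinitePresentation)
    (Q := @RingHom.FinitePresentation) ?_ ?_ f g h
  · intro R S T _ _ _ _ r _ φ hφ
    exact hφ.comp (RingHom.finitePresentation_holdsForLocalizationAway S r)
  · intro R A B _ _ _ φ ψ hfl hfp hs hc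
    exact finitePresentation_of_fppf φ ψ hfl hfp hs hc

/-- `Flat` descends along flat surjective covers of the source. -/
theorem flat_of_flat_cover_source {X' X Y : Scheme.{u}} (f : X' ⟶ X)
    (g : X ⟶ Y) [Flat f] [Surjective f] [h : Flat (f ≫ g)] : Flat g := by
  rw [Flat.iff_flat_stalkMap]
  intro x
  obtain ⟨x', rfl⟩ := f.surjective x
  exact Groth.Agent.Lib.Helper20.FlatDesc.flat_stalkMap_of_flat_comp g f x'
    (Flat.stalkMap f x') (Flat.stalkMap (f ≫ g) x')

end Groth.Agent.R2.H27.FppfSrc
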