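import Groth.Prelude.Def_RedSub
import Groth.Agent.Lib.Helper12QuotGrp
import Groth.Agent.R2.H27FppfSrc

/-!
# Pointwise calculus for fppf quotients of group schemes

* `isPullback_fst_act_iff`: point criterion for `(fst, act) : X ⊗ K ⇉ X` to be the kernel pair of
  `p : X ⟶ Y`.
* `Fppf p`: `p` is an fppf covering in `Over S`; such coverings are effective epimorphisms, are stable
  under base change and composition, points lift locally along them and morphisms descend.
-/

set_option autoImplicit false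
universe v u₁ u

open CategoryTheory Limits MonoidalCategory CartesianMonoidalCategory MonObj GrpObj

namespace Groth.Agent.R2.H27.FppfPts

section Abstract

variable {C : Type u₁} [Category.{v} C] [CartesianMonoidalCategory C]

/-- Point criterion for a square `(fst, act) : X ⊗ K ⇉ X` over `p : X ⟶ Y` to be cartesian. -/
lemma isPullback_fst_act_iff {X K Y : C} (act : X ⊗ K ⟶ X) (p : X ⟶ Y) :
    IsPullback (fst X K) act p p ↔
      (fst X K ≫ p = act ≫ p) ∧
      ∀ (T : C) (x y : T ⟶ X), x ≫ p = y ≫ p → ∃! κ : T ⟶ K, lift x κ ≫ act = y := by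
  constructor
  · intro h
    refine ⟨h.w, fun T x y hxy => ?_⟩
    refine ⟨h.lift x y hxy ≫ snd X K, ?_, ?_⟩
    · have : lift x (h.lift x y hxy ≫ snd X K) = h.lift x y hxy := by
        apply CartesianMonoidalCategory.hom_ext <;> simp
      simp only [this, h.lift_snd]
    · intro κ hκ
      have : lift x κ = h.lift x y hxy := by
        apply h.hom_ext <;> simp [hκ]
      rw [← this, lift_snd]
  · rintro ⟨w, H⟩
    refine ⟨⟨w⟩, ⟨PullbackCone.IsLimit.mk _
      (fun s => lift s.fst (H _ s.fst s.snd s.condition).choose) ?_ ?_ ?_⟩⟩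
    · intro s; simp
    · intro s; exact (H _ s.fst s.snd s.condition).choose_spec.1
    · intro s m h1 h2
      have hm : m = lift s.fst (m ≫ snd X K) := by
        apply CartesianMonoidalCategory.hom_ext <;> simp [h1]
      rw [hm]
      congr 1
      apply (H _ s.fst s.snd s.condition).choose_spec.2
      rw [← hm, h2]

/-- Point criterion for the translation square of a quotient `G ⟶ G/H`. -/
lemma isPullback_quot_iff {G H Q : C} [GrpObj G] [GrpObj H] (i : H ⟶ G) (q : G ⟶ Q) :
    IsPullback (fst G H) ((G ◁ i) ≫ μ[G]) q q ↔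
      (∀ (T : C) (a : T ⟶ G) (h : T ⟶ H), (a * (h ≫ i)) ≫ q = a ≫ q) ∧
      ∀ (T : C) (a b : T ⟶ G), a ≫ q = b ≫ q → ∃! h : T ⟶ H, a * (h ≫ i) = b := by
  rw [isPullback_fst_act_iff]
  have key : ∀ (T : C) (a : T ⟶ G) (h : T ⟶ H), lift a h ≫ (G ◁ i) ≫ μ[G] = a * (h ≫ i) :=
    fun T a h => Groth.Agent.Lib.Helper12.QuotGrp.lift_act i a h
  constructor
  · rintro ⟨w, hH⟩
    refine ⟨fun T a h => ?_, fun T a b hab => ?_⟩
    · rw [← key, Category.assoc, Category.assoc, ← Category.assoc (G ◁ i), ← w, lift_fst_assoc]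
    · obtain ⟨h, h1, h2⟩ := hH T a b hab
      refine ⟨h, ?_, fun h' hh' => h2 h' ?_⟩
      · change a * (h ≫ i) = b
        rw [← key]; exact h1
      · change lift a h' ≫ (G ◁ i) ≫ μ[G] = b
        rw [key]; exact hh'
  · rintro ⟨w, hH⟩
    refine ⟨?_, fun T a b hab => ?_⟩
    · have := w _ (fst G H) (snd G H)
      rw [← key] at this
      simpa using this.symm
    · obtain ⟨h, h1, h2⟩ := hH T a b hab
      refine ⟨h, ?_, fun h' hh' => h2 h' ?_⟩
      · change lift a h ≫ (G ◁ i) ≫ μ[G] = b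
        rw [key]; exact h1
      · change a * (h' ≫ i) = b
        rw [← key]; exact hh'

end Abstract

section Sch

open AlgebraicGeometry

variable {S : Scheme.{u}}

/-- fppf coverings in `Over S`. -/
structure Fppf {X Y : Over S} (p : X ⟶ Y) : Prop where
  surj : Surjective p.left
  flat : Flat p.left
  lfp : LocallyOfFinitePresentation p.left

lemma Fppf.of_isQuotient {G H Q : Over S} [GrpObj G] [GrpObj H] {i : H ⟶ G} {q : G ⟶ Q}
    (h : RedSub.IsQuotient i q) : Fppf q := ⟨h.1, h.2.1, h.2.2.1⟩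

variable {X Y Z T T' W : Over S}

lemma Fppf.comp {p : X ⟶ Y} {r : Y ⟶ Z} (hp : Fppf p) (hr : Fppf r) : Fppf (p ≫ r) := by
  have := hp.surj; have := hp.flat; have := hp.lfp
  have := hr.surj; have := hr.flat; have := hr.lfp
  refine ⟨?_, ?_, ?_⟩ <;> · rw [Over.comp_left]; infer_instance

/-- Base change of an fppf covering. -/
lemma Fppf.of_isPullback {P : Over S} {f' : P ⟶ X} {g' : P ⟶ Y} {f : X ⟶ Z} {g : Y ⟶ Z}
    (h : IsPullback f' g' f g) (hg : Fppf g) : Fppf f' := by
  have hL := (h.map (Over.forget S)).flip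
  simp only [Over.forget_obj, Over.forget_map] at hL
  exact ⟨MorphismProperty.of_isPullback (P := @Surjective) hL hg.surj,
    MorphismProperty.of_isPullback (P := @Flat) hL hg.flat,
    MorphismProperty.of_isPullback (P := @LocallyOfFinitePresentation) hL hg.lfp⟩

lemma Fppf.effectiveEpi {p : X ⟶ Y} (hp : Fppf p) : EffectiveEpi p.left := by
  have := hp.surj; have := hp.flat; have := hp.lfp
  exact (Groth.Agent.Lib.Helper12.QuotGrp.IsCov.of_fppf p).effectiveEpi

lemma Fppf.epi {p : X ⟶ Y} (hp : Fppf p) : Epi p := by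
  have := hp.surj; have := hp.flat; have := hp.lfp
  exact (Groth.Agent.Lib.Helper12.QuotGrp.IsCov.of_fppf p).epi

/-- Points lift locally along an fppf covering. -/
lemma Fppf.exists_lift {p : X ⟶ Y} (hp : Fppf p) (x : T ⟶ Y) :
    ∃ (T' : Over S) (π : T' ⟶ T) (y : T' ⟶ X), Fppf π ∧ π ≫ x = y ≫ p :=
  ⟨pullback x p, pullback.fst x p, pullback.snd x p,
    Fppf.of_isPullback (IsPullback.of_hasPullback x p) hp, pullback.condition⟩

/-- Morphisms descend along an fppf covering. -/
lemma Fppf.exists_desc {π : T' ⟶ T} (hπ : Fppf π) (f' : T' ⟶ W)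
    (h : ∀ (Z : Over S) (u v : Z ⟶ T'), u ≫ π = v ≫ π → u ≫ f' = v ≫ f') :
    ∃ f : T ⟶ W, π ≫ f = f' := by
  have := hπ.effectiveEpi
  exact Groth.Agent.Lib.Helper12.exists_desc_of_isPullback π (IsPullback.of_hasPullback π π) f'
    (h _ _ _ pullback.condition)

/-- A morphism which factors through a monomorphism locally for the fppf topology factors. -/
lemma Fppf.exists_factor_of_mono {π : T' ⟶ T} (hπ : Fppf π) {A B : Over S} (t : A ⟶ B) [Mono t]
    (c : T ⟶ B) (τ' : T' ⟶ A) (h : τ' ≫ t = π ≫ c) : ∃ τ : T ⟶ A, τ ≫ t = c := by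
  obtain ⟨τ, hτ⟩ := hπ.exists_desc τ' (fun Z u v huv => by
    rw [← cancel_mono t, Category.assoc, Category.assoc, h, ← Category.assoc, huv,
      Category.assoc])
  refine ⟨τ, ?_⟩
  have := hπ.epi
  rw [← cancel_epi π, ← Category.assoc, hτ, h]

/-- If `f` and `f ≫ g` are fppf coverings, so is `g`. -/
lemma Fppf.of_comp {f : X ⟶ Y} {g : Y ⟶ Z} (hf : Fppf f) (hfg : Fppf (f ≫ g)) : Fppf g := by
  have := hf.surj; have := hf.flat; have := hf.lfp
  have h1 : Surjective (f.left ≫ g.left) := by rw [← Over.comp_left]; exact hfg.surj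
  have h2 : Flat (f.left ≫ g.left) := by rw [← Over.comp_left]; exact hfg.flat
  have h3 : LocallyOfFinitePresentation (f.left ≫ g.left) := by
    rw [← Over.comp_left]; exact hfg.lfp
  exact ⟨Surjective.of_comp f.left g.left,
    Groth.Agent.R2.H27.FppfSrc.flat_of_flat_cover_source f.left g.left,
    Groth.Agent.R2.H27.FppfSrc.locallyOfFinitePresentation_of_fppf_cover_source f.left g.left⟩

end Sch

end Groth.Agent.R2.H27.FppfPts
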