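import Groth.Agent.R2.H27FppfPts

/-!
# Third isomorphism theorem for fppf quotients: `(G/H)/(K/H) = G/K`
-/

set_option autoImplicit false
set_option linter.unusedSectionVars false
universe u

open CategoryTheory Limits MonoidalCategory CartesianMonoidalCategory MonObj GrpObj AlgebraicGeometry

namespace Groth.Agent.R2.H27.FppfThird

open Groth.Agent.R2.H27.FppfPts

variable {S : Scheme.{u}}

/-- Two points lift simultaneously, locally for the fppf topology. -/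
lemma exists_lift₂ {X Y X' Y' T : Over S} {p : X ⟶ Y} {p' : X' ⟶ Y'} (hp : Fppf p) (hp' : Fppf p')
    (x : T ⟶ Y) (x' : T ⟶ Y') :
    ∃ (T' : Over S) (π : T' ⟶ T) (y : T' ⟶ X) (y' : T' ⟶ X'), Fppf π ∧ π ≫ x = y ≫ p ∧
      π ≫ x' = y' ≫ p' := by
  obtain ⟨T₁, π₁, y₁, hπ₁, h₁⟩ := hp.exists_lift x
  obtain ⟨T₂, π₂, y₂, hπ₂, h₂⟩ := hp'.exists_lift (π₁ ≫ x')
  refine ⟨T₂, π₂ ≫ π₁, π₂ ≫ y₁, y₂, hπ₂.comp hπ₁, ?_, ?_⟩
  · rw [Category.assoc, h₁, Category.assoc]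
  · rw [Category.assoc, h₂]

/-- Three points lift simultaneously, locally for the fppf topology. -/
lemma exists_lift₃ {X Y X' Y' X'' Y'' T : Over S} {p : X ⟶ Y} {p' : X' ⟶ Y'} {p'' : X'' ⟶ Y''}
    (hp : Fppf p) (hp' : Fppf p') (hp'' : Fppf p'')
    (x : T ⟶ Y) (x' : T ⟶ Y') (x'' : T ⟶ Y'') :
    ∃ (T' : Over S) (π : T' ⟶ T) (y : T' ⟶ X) (y' : T' ⟶ X') (y'' : T' ⟶ X''), Fppf π ∧
      π ≫ x = y ≫ p ∧ π ≫ x' = y' ≫ p' ∧ π ≫ x'' = y'' ≫ p'' := by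
  obtain ⟨T₁, π₁, y₁, y₁', hπ₁, h₁, h₁'⟩ := exists_lift₂ hp hp' x x'
  obtain ⟨T₂, π₂, y₂, hπ₂, h₂⟩ := hp''.exists_lift (π₁ ≫ x'')
  refine ⟨T₂, π₂ ≫ π₁, π₂ ≫ y₁, π₂ ≫ y₁', y₂, hπ₂.comp hπ₁, ?_, ?_, ?_⟩
  · rw [Category.assoc, h₁, Category.assoc]
  · rw [Category.assoc, h₁', Category.assoc]
  · rw [Category.assoc, h₂]

section Main

variable {H K G QH Kb : Over S} [GrpObj H] [GrpObj K] [GrpObj G] [GrpObj Kb]
  (h : H ⟶ K) (k : K ⟶ G) [Mono k] [IsMonHom h] [IsMonHom k]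
  (qH : G ⟶ QH) (hqH : RedSub.IsQuotient (h ≫ k) qH)
  (qKb : K ⟶ Kb) (hqKb : RedSub.IsQuotient h qKb)
  (act : QH ⊗ Kb ⟶ QH) (hact : (qH ⊗ₘ qKb) ≫ act = (G ◁ k) ≫ μ[G] ≫ qH)

include hact in
/-- The action on `G/H` of the class of `c` is right translation by `c`. -/
lemma act_pt {T : Over S} (a : T ⟶ G) (c : T ⟶ K) :
    lift (a ≫ qH) (c ≫ qKb) ≫ act = (a * (c ≫ k)) ≫ qH := by
  have : lift (a ≫ qH) (c ≫ qKb) = lift a c ≫ (qH ⊗ₘ qKb) := by
    apply CartesianMonoidalCategory.hom_ext <;> simp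
  rw [this, Category.assoc, hact, ← Groth.Agent.Lib.Helper12.QuotGrp.lift_act]
  simp only [Category.assoc]

include hqH hqKb hact in
/-- The action of `K/H` on `G/H` is free. -/
lemma act_free {T : Over S} (x : T ⟶ QH) (κ₁ κ₂ : T ⟶ Kb)
    (hκ : lift x κ₁ ≫ act = lift x κ₂ ≫ act) : κ₁ = κ₂ := by
  have hfH : Fppf qH := Fppf.of_isQuotient hqH
  have hfK : Fppf qKb := Fppf.of_isQuotient hqKb
  obtain ⟨-, hHu⟩ := (isPullback_quot_iff (h ≫ k) qH).1 hqH.2.2.2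
  obtain ⟨hKw, -⟩ := (isPullback_quot_iff h qKb).1 hqKb.2.2.2
  obtain ⟨T', π, a, c₁, c₂, hπ, ha, hc₁, hc₂⟩ := exists_lift₃ hfH hfK hfK x κ₁ κ₂
  have := hπ.epi
  rw [← cancel_epi π, hc₁, hc₂]
  have e : (a * (c₁ ≫ k)) ≫ qH = (a * (c₂ ≫ k)) ≫ qH := by
    rw [← act_pt k qH qKb act hact, ← act_pt k qH qKb act hact, ← ha, ← hc₁, ← hc₂,
      ← comp_lift, ← comp_lift, Category.assoc, Category.assoc, hκ]
  obtain ⟨n, hn, -⟩ := hHu _ _ _ e
  have e2 : (c₁ * (n ≫ h)) ≫ k = c₂ ≫ k := by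
    rw [MonObj.mul_comp, Category.assoc]
    exact mul_left_cancel ((_root_.mul_assoc _ _ _).symm.trans hn)
  rw [← (cancel_mono k).1 e2, hKw]

include hqH hqKb hact in
/-- Part (i): if `G/K` exists, `G/H ⟶ G/K` is the quotient of `G/H` by `K/H`. -/
theorem part_one {QK : Over S} (qK : G ⟶ QK) (hqK : RedSub.IsQuotient k qK)
    (qbar : QH ⟶ QK) (hbar : qH ≫ qbar = qK) :
    Fppf qbar ∧ IsPullback (fst QH Kb) act qbar qbar := by
  have hfH : Fppf qH := Fppf.of_isQuotient hqH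
  have hfK : Fppf qKb := Fppf.of_isQuotient hqKb
  obtain ⟨hKw, hKu⟩ := (isPullback_quot_iff k qK).1 hqK.2.2.2
  refine ⟨Fppf.of_comp hfH (hbar ▸ Fppf.of_isQuotient hqK), ?_⟩
  have hinv : ∀ (T : Over S) (x : T ⟶ QH) (κ : T ⟶ Kb), x ≫ qbar = lift x κ ≫ act ≫ qbar := by
    intro T x κ
    obtain ⟨T', π, a, c, hπ, ha, hc⟩ := exists_lift₂ hfH hfK x κ
    have := hπ.epi
    rw [← cancel_epi π]
    calc π ≫ x ≫ qbar = a ≫ qK := by rw [← Category.assoc, ha, Category.assoc, hbar]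
      _ = (a * (c ≫ k)) ≫ qH ≫ qbar := by rw [hbar, hKw]
      _ = lift (a ≫ qH) (c ≫ qKb) ≫ act ≫ qbar := by
          rw [← Category.assoc _ act, act_pt k qH qKb act hact, Category.assoc]
      _ = π ≫ lift x κ ≫ act ≫ qbar := by rw [← ha, ← hc, ← comp_lift, Category.assoc]
  rw [isPullback_fst_act_iff]
  refine ⟨?_, fun T x y hxy => ?_⟩
  · have := hinv _ (fst QH Kb) (snd QH Kb)
    simpa using this
  · obtain ⟨T', π, a, b, hπ, ha, hb⟩ := exists_lift₂ hfH hfH x y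
    have e : a ≫ qK = b ≫ qK := by
      rw [← hbar, ← Category.assoc, ← ha, ← Category.assoc, ← hb, Category.assoc, Category.assoc,
        hxy]
    obtain ⟨c, hc, -⟩ := hKu _ _ _ e
    have e1 : lift (π ≫ x) (c ≫ qKb) ≫ act = π ≫ y := by
      rw [ha, act_pt k qH qKb act hact, hc, hb]
    obtain ⟨κ, hκ⟩ := hπ.exists_desc (c ≫ qKb) (fun Z u v huv => by
      apply act_free h k qH hqH qKb hqKb act hact (u ≫ π ≫ x)
      have e2 : lift (u ≫ π ≫ x) (u ≫ c ≫ qKb) ≫ act = u ≫ π ≫ y := by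
        rw [← comp_lift, Category.assoc, e1]
      have e3 : lift (u ≫ π ≫ x) (v ≫ c ≫ qKb) ≫ act = u ≫ π ≫ y := by
        rw [← Category.assoc u π x, huv, ← Category.assoc u π y, huv, Category.assoc,
          Category.assoc, ← comp_lift, Category.assoc, e1]
      rw [e2, e3])
    have := hπ.epi
    refine ⟨κ, ?_, fun κ' hκ' => ?_⟩
    · change lift x κ ≫ act = y
      rw [← cancel_epi π, ← Category.assoc, comp_lift, hκ, e1]
    · exact act_free h k qH hqH qKb hqKb act hact x κ' κ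
        (hκ'.trans (by rw [← cancel_epi π, ← Category.assoc, comp_lift, hκ, e1]))

include hqH hqKb hact in
/-- Part (ii): the quotient of `G/H` by `K/H` is `G/K`. -/
theorem part_two {Y : Over S} (p : QH ⟶ Y) (hp : Fppf p)
    (hpb : IsPullback (fst QH Kb) act p p) : RedSub.IsQuotient k (qH ≫ p) := by
  have hfH : Fppf qH := Fppf.of_isQuotient hqH
  have hfK : Fppf qKb := Fppf.of_isQuotient hqKb
  obtain ⟨-, hHu⟩ := (isPullback_quot_iff (h ≫ k) qH).1 hqH.2.2.2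
  obtain ⟨hpw, hpu⟩ := (isPullback_fst_act_iff act p).1 hpb
  have hc := hfH.comp hp
  refine ⟨hc.surj, hc.flat, hc.lfp, ?_⟩
  rw [isPullback_quot_iff]
  refine ⟨fun T a c => ?_, fun T a b hab => ?_⟩
  · rw [← Category.assoc, ← act_pt k qH qKb act hact, Category.assoc, ← hpw, lift_fst_assoc,
      Category.assoc]
  · have huniq : ∀ c₁ c₂ : T ⟶ K, a * (c₁ ≫ k) = b → a * (c₂ ≫ k) = b → c₁ = c₂ := by
      intro c₁ c₂ h1 h2
      rw [← cancel_mono k]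
      exact mul_left_cancel (h1.trans h2.symm)
    obtain ⟨κ, hκ, -⟩ := hpu T (a ≫ qH) (b ≫ qH) (by simpa using hab)
    obtain ⟨T', π, c, hπ, hcκ⟩ := hfK.exists_lift κ
    have e : ((π ≫ a) * (c ≫ k)) ≫ qH = (π ≫ b) ≫ qH := by
      rw [← act_pt k qH qKb act hact, ← hcκ, Category.assoc, ← comp_lift, Category.assoc, hκ,
        Category.assoc]
    obtain ⟨n, hn, -⟩ := hHu _ _ _ e
    have e2 : (c * (n ≫ h)) ≫ k = π ≫ (a⁻¹ * b) := by
      rw [MonObj.mul_comp, Category.assoc, MonObj.comp_mul, GrpObj.comp_inv, ← hn,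
        ← _root_.mul_assoc, ← _root_.mul_assoc, inv_mul_cancel, _root_.one_mul]
    obtain ⟨c', hc'⟩ := hπ.exists_factor_of_mono k (a⁻¹ * b) _ e2
    refine ⟨c', ?_, fun c'' hc'' => huniq _ _ hc'' ?_⟩
    · change a * (c' ≫ k) = b
      rw [hc', ← _root_.mul_assoc, mul_inv_cancel, _root_.one_mul]
    · rw [hc', ← _root_.mul_assoc, mul_inv_cancel, _root_.one_mul]

end Main

end Groth.Agent.R2.H27.FppfThird
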