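import Mathlib
import Groth.Prelude.Def_NonAbH2
import Groth.Agent.Lib.Helper12Act

/-!
# Torsors and exact sequences of group schemes: descent of morphisms along fpqc coverings (helper27)
-/

set_option autoImplicit false
universe u
open CategoryTheory CategoryTheory.Limits AlgebraicGeometry MonoidalCategory CartesianMonoidalCategory
  MonObj

namespace Groth.Agent.R2.H27.TorsorSeq

section Descent

variable {T Z : Scheme.{u}}

/-- morphisms into a scheme glue along fpqc covering sieves -/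
theorem exists_amalgamation (Sv : Sieve T) (hSv : Sv ∈ Scheme.fpqcTopology T)
    (z : ∀ ⦃W : Scheme.{u}⦄ (w : W ⟶ T), Sv w → (W ⟶ Z))
    (hz : ∀ ⦃W₁ W₂ W' : Scheme.{u}⦄ (a₁ : W' ⟶ W₁) (a₂ : W' ⟶ W₂) ⦃w₁ : W₁ ⟶ T⦄ ⦃w₂ : W₂ ⟶ T⦄
      (h₁ : Sv w₁) (h₂ : Sv w₂), a₁ ≫ w₁ = a₂ ≫ w₂ → a₁ ≫ z w₁ h₁ = a₂ ≫ z w₂ h₂) :
    ∃ t : T ⟶ Z, ∀ ⦃W : Scheme.{u}⦄ (w : W ⟶ T) (h : Sv w), w ≫ t = z w h := by
  have hsh : Presieve.IsSheafFor (yoneda.obj Z) Sv.arrows :=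
    (GrothendieckTopology.Subcanonical.isSheaf_of_isRepresentable (J := Scheme.fpqcTopology)
      (yoneda.obj Z)) Sv hSv
  obtain ⟨t, ht, -⟩ := hsh (fun W w hw => z w hw) (fun W₁ W₂ W' a₁ a₂ w₁ w₂ h₁ h₂ e => hz a₁ a₂ h₁ h₂ e)
  exact ⟨t, fun W w h => ht w h⟩

/-- morphisms into a scheme are determined on an fpqc covering sieve -/
theorem eq_of_forall_comp_eq (Sv : Sieve T) (hSv : Sv ∈ Scheme.fpqcTopology T) (t₁ t₂ : T ⟶ Z)
    (h : ∀ ⦃W : Scheme.{u}⦄ (w : W ⟶ T), Sv w → w ≫ t₁ = w ≫ t₂) : t₁ = t₂ := by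
  have hsh : Presieve.IsSheafFor (yoneda.obj Z) Sv.arrows :=
    (GrothendieckTopology.Subcanonical.isSheaf_of_isRepresentable (J := Scheme.fpqcTopology)
      (yoneda.obj Z)) Sv hSv
  exact hsh.isSeparatedFor.ext (fun W w hw => h w hw)

end Descent

section Sections

variable {S : Scheme.{u}}

/-- the sieve on `T` of those `w : W ⟶ T` over which `X` acquires a section -/
def secSieve (X : Over S) {T : Scheme.{u}} (t : T ⟶ S) : Sieve T where
  arrows W w := ∃ s : W ⟶ X.left, s ≫ X.hom = w ≫ t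
  downward_closed := by
    rintro W W' w ⟨s, hs⟩ b
    exact ⟨b ≫ s, by rw [Category.assoc, hs, Category.assoc]⟩

theorem secSieve_mem {X : Over S} (hX : NonAbH1.IsLocallyTrivialFor Scheme.fpqcPrecoverage X)
    {T : Scheme.{u}} (t : T ⟶ S) : secSieve X t ∈ Scheme.fpqcTopology T := by
  obtain ⟨R, hR, hsec⟩ := hX
  have h1 : Sieve.generate R ∈ Scheme.fpqcTopology S := Precoverage.generate_mem_toGrothendieck hR
  have h2 := (Scheme.fpqcTopology).pullback_stable t h1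
  refine (Scheme.fpqcTopology).superset_covering ?_ h2
  rintro W w ⟨Y, h, g, hg, e⟩
  obtain ⟨s, hs⟩ := hsec g hg
  exact ⟨h ≫ s, by rw [Category.assoc, hs, e]⟩

/-- gluing of morphisms in `Over S`, locally where `X` has sections -/
theorem exists_glue_over {X : Over S} (hX : NonAbH1.IsLocallyTrivialFor Scheme.fpqcPrecoverage X)
    {T Z : Over S} (P : ∀ ⦃W : Over S⦄ (_ : W ⟶ T) (_ : W ⟶ Z), Prop)
    (hP_unique : ∀ ⦃W : Over S⦄ (w : W ⟶ T) (z₁ z₂ : W ⟶ Z), P w z₁ → P w z₂ → z₁ = z₂)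
    (hP_comp : ∀ ⦃W W' : Over S⦄ (b : W' ⟶ W) (w : W ⟶ T) (z : W ⟶ Z), P w z → P (b ≫ w) (b ≫ z))
    (hP_ex : ∀ ⦃W : Over S⦄ (w : W ⟶ T) (_ : W ⟶ X), ∃ z, P w z) :
    ∃ c : T ⟶ Z, ∀ ⦃W : Over S⦄ (w : W ⟶ T) (_ : W ⟶ X), P w (w ≫ c) := by
  classical
  have hSv := secSieve_mem hX T.hom
  -- local data
  have hex : ∀ ⦃W : Scheme.{u}⦄ (w : W ⟶ T.left), secSieve X T.hom w →
      ∃ z : Over.mk (w ≫ T.hom) ⟶ Z, P (Over.homMk w rfl : Over.mk (w ≫ T.hom) ⟶ T) z := by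
    rintro W w ⟨s, hs⟩
    exact hP_ex (Over.homMk w rfl : Over.mk (w ≫ T.hom) ⟶ T) (Over.homMk s hs)
  obtain ⟨t, ht⟩ := exists_amalgamation (secSieve X T.hom) hSv
    (fun W w hw => (hex w hw).choose.left) (by
      intro W₁ W₂ W' a₁ a₂ w₁ w₂ h₁ h₂ e
      have e' : a₂ ≫ w₂ ≫ T.hom = a₁ ≫ w₁ ≫ T.hom := by
        rw [← Category.assoc, ← e, Category.assoc]
      let b₁ : Over.mk (a₁ ≫ w₁ ≫ T.hom) ⟶ Over.mk (w₁ ≫ T.hom) := Over.homMk a₁ rfl
      let b₂ : Over.mk (a₁ ≫ w₁ ≫ T.hom) ⟶ Over.mk (w₂ ≫ T.hom) := Over.homMk a₂ e'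
      have hb : b₁ ≫ (Over.homMk w₁ rfl : Over.mk (w₁ ≫ T.hom) ⟶ T) =
          b₂ ≫ (Over.homMk w₂ rfl : Over.mk (w₂ ≫ T.hom) ⟶ T) := by
        ext
        simpa [b₁, b₂] using e
      have p₁ := hP_comp b₁ _ _ (hex w₁ h₁).choose_spec
      have p₂ := hP_comp b₂ _ _ (hex w₂ h₂).choose_spec
      rw [← hb] at p₂
      have := hP_unique _ _ _ p₁ p₂
      simpa [b₁, b₂] using congrArg CommaMorphism.left this)
  have htZ : t ≫ Z.hom = T.hom := by
    refine eq_of_forall_comp_eq (secSieve X T.hom) hSv _ _ ?_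
    intro W w hw
    rw [← Category.assoc, ht w hw]
    exact Over.w (hex w hw).choose
  refine ⟨Over.homMk t htZ, ?_⟩
  intro W w s
  have hw : secSieve X T.hom w.left := ⟨s.left, by rw [Over.w s, Over.w w]⟩
  let e : W ⟶ Over.mk (w.left ≫ T.hom) := Over.homMk (𝟙 _) (by simp)
  have p := hP_comp e _ _ (hex w.left hw).choose_spec
  have e1 : e ≫ (Over.homMk w.left rfl : Over.mk (w.left ≫ T.hom) ⟶ T) = w := by
    ext; simp [e]
  have e2 : e ≫ (hex w.left hw).choose = w ≫ Over.homMk t htZ := by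
    ext
    simp only [Over.comp_left, Over.homMk_left, e, Category.id_comp]
    exact (ht w.left hw).symm
  rwa [e1, e2] at p

/-- morphisms in `Over S` are determined locally where `X` has sections -/
theorem hom_ext_of_sections {X : Over S}
    (hX : NonAbH1.IsLocallyTrivialFor Scheme.fpqcPrecoverage X) {T Z : Over S} (c₁ c₂ : T ⟶ Z)
    (h : ∀ ⦃W : Over S⦄ (w : W ⟶ T) (_ : W ⟶ X), w ≫ c₁ = w ≫ c₂) : c₁ = c₂ := by
  ext
  refine eq_of_forall_comp_eq (secSieve X T.hom) (secSieve_mem hX T.hom) _ _ ?_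
  rintro W w ⟨s, hs⟩
  have := h (Over.homMk w rfl : Over.mk (w ≫ T.hom) ⟶ T) (Over.homMk s hs)
  simpa using congrArg CommaMorphism.left this

end Sections

section PseudoTorsor

variable {S : Scheme.{u}} {G X : Over S} [GrpObj G] (a : AlgGrp.Action G X)

/-- transitivity on points of a pseudo-torsor -/
theorem exists_translate (h : NonAbH1.IsPseudoTorsorSch a) {T : Over S} (x₁ x₂ : T ⟶ X) :
    ∃ g : T ⟶ G, lift g x₂ ≫ a.act = x₁ := by
  have : IsIso (lift a.act (snd G X)) := h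
  set Φ := lift a.act (snd G X) with hΦ
  have hΦ1 : Φ ≫ fst X X = a.act := by simp [Φ]
  have hΦ2 : Φ ≫ snd X X = snd G X := by simp [Φ]
  have h2 : inv Φ ≫ snd G X = snd X X := by rw [IsIso.inv_comp_eq, hΦ2]
  have h3 : inv Φ ≫ a.act = fst X X := by rw [IsIso.inv_comp_eq, hΦ1]
  refine ⟨lift x₁ x₂ ≫ inv Φ ≫ fst G X, ?_⟩
  have : lift (lift x₁ x₂ ≫ inv Φ ≫ fst G X) x₂ = lift x₁ x₂ ≫ inv Φ := by
    apply CartesianMonoidalCategory.hom_ext
    · simp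
    · simp [h2]
  rw [this, Category.assoc, h3, lift_fst]

/-- freeness on points of a pseudo-torsor -/
theorem translate_unique (h : NonAbH1.IsPseudoTorsorSch a) {T : Over S} (g₁ g₂ : T ⟶ G) (x : T ⟶ X)
    (e : lift g₁ x ≫ a.act = lift g₂ x ≫ a.act) : g₁ = g₂ := by
  have : IsIso (lift a.act (snd G X)) := h
  have h1 : lift g₁ x ≫ lift a.act (snd G X) = lift g₂ x ≫ lift a.act (snd G X) := by
    apply CartesianMonoidalCategory.hom_ext
    · simpa using e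
    · simp
  have h2 := (cancel_mono _).1 h1
  simpa using congrArg (· ≫ fst G X) h2

end PseudoTorsor

section ExactSeq

variable {S : Scheme.{u}} {G G' G'' : Over S} [GrpObj G] [GrpObj G'] [GrpObj G'']
  (u : G' ⟶ G) (v : G ⟶ G'')

omit [GrpObj G'] [GrpObj G''] in
theorem exists_of_isPullback (hsq : IsPullback (fst G G') ((G ◁ u) ≫ μ[G]) v v) {T : Over S}
    (g₁ g₂ : T ⟶ G) (e : g₁ ≫ v = g₂ ≫ v) : ∃ g' : T ⟶ G', g₁ * (g' ≫ u) = g₂ := by
  refine ⟨hsq.lift g₁ g₂ e ≫ snd G G', ?_⟩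
  have h1 := hsq.lift_fst g₁ g₂ e
  have h2 := hsq.lift_snd g₁ g₂ e
  have h3 : hsq.lift g₁ g₂ e ≫ (G ◁ u) = lift g₁ (hsq.lift g₁ g₂ e ≫ snd G G' ≫ u) := by
    apply CartesianMonoidalCategory.hom_ext
    · simp [h1]
    · simp
  rw [Hom.mul_def, Category.assoc, ← h3, Category.assoc, h2]

omit [GrpObj G'] [GrpObj G''] in
theorem cancel_of_isPullback (hsq : IsPullback (fst G G') ((G ◁ u) ≫ μ[G]) v v) {T : Over S}
    (a b : T ⟶ G') (e : a ≫ u = b ≫ u) : a = b := by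
  have h : lift (1 : T ⟶ G) a = lift (1 : T ⟶ G) b := by
    apply hsq.hom_ext
    · simp
    · have : ∀ c : T ⟶ G', lift (1 : T ⟶ G) c ≫ (G ◁ u) ≫ μ[G] = (1 : T ⟶ G) * (c ≫ u) := by
        intro c
        rw [Hom.mul_def, ← Category.assoc]
        congr 1
        apply CartesianMonoidalCategory.hom_ext <;> simp
      rw [this, this, e]
  simpa using congrArg (· ≫ snd G G') h

end ExactSeq

end Groth.Agent.R2.H27.TorsorSeq
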