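import Mathlib
import Groth.Prelude.Def_NonAbH2
import Groth.Prelude.Def_Red2
import Groth.Agent.Lib.Helper12Act
import Groth.Agent.Lib.Helper27GaGm
import Groth.Agent.R2.H27TorsorSeq
import Groth.Agent.R2.H27AmitsurOne

/-!
# Torsors under the additive group are Zariski locally trivial (helper27)
-/

set_option autoImplicit false
universe u
open CategoryTheory CategoryTheory.Limits AlgebraicGeometry MonoidalCategory CartesianMonoidalCategory
  MonObj

namespace Groth.Agent.R2.H27.GaTorsor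

open Groth.Agent.Lib.Helper12 Groth.Agent.R2.H27.TorsorSeq

section Abstract

variable {S : Scheme.{u}} {G X : Over S} [GrpObj G] (a : AlgGrp.Action G X)

/-- the difference of the two pullbacks of a point of a pseudo-torsor is a cocycle -/
theorem cocycle (h : NonAbH1.IsPseudoTorsorSch a) {T T2 T3 : Over S} (p1 p2 : T2 ⟶ T)
    (q12 q13 q23 : T3 ⟶ T2) (h1 : q12 ≫ p1 = q13 ≫ p1) (h2 : q12 ≫ p2 = q23 ≫ p1)
    (h3 : q13 ≫ p2 = q23 ≫ p2) (x : T ⟶ X) (g : T2 ⟶ G)
    (hg : lift g (p2 ≫ x) ≫ a.act = p1 ≫ x) :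
    (q12 ≫ g) * (q23 ≫ g) = q13 ≫ g := by
  have e12 : lift (q12 ≫ g) (q12 ≫ p2 ≫ x) ≫ a.act = q12 ≫ p1 ≫ x := by
    rw [← comp_lift_act, hg]
  have e23 : lift (q23 ≫ g) (q23 ≫ p2 ≫ x) ≫ a.act = q23 ≫ p1 ≫ x := by
    rw [← comp_lift_act, hg]
  have e13 : lift (q13 ≫ g) (q13 ≫ p2 ≫ x) ≫ a.act = q13 ≫ p1 ≫ x := by
    rw [← comp_lift_act, hg]
  apply translate_unique a h _ _ (q13 ≫ p2 ≫ x)
  rw [act_mul, e13, ← Category.assoc q13, h3, Category.assoc, e23, ← Category.assoc q23, ← h2,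
    Category.assoc, e12, ← Category.assoc, h1, Category.assoc]

/-- a coboundary modification of a point has equal pullbacks -/
theorem eq_of_coboundary {T T2 : Over S} (p1 p2 : T2 ⟶ T) (x : T ⟶ X) (g : T2 ⟶ G)
    (hg : lift g (p2 ≫ x) ≫ a.act = p1 ≫ x) (δ : T ⟶ G) (hδ : (p1 ≫ δ) * g = p2 ≫ δ) :
    p1 ≫ lift δ x ≫ a.act = p2 ≫ lift δ x ≫ a.act := by
  rw [comp_lift_act, comp_lift_act, ← hδ, act_mul, hg]

end Abstract

section SpecPts

open TensorProduct Groth.Agent.Lib.Helper27.GaGm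

variable {S : Scheme.{u}} {A : Type u} [CommRing A] (t : Spec (CommRingCat.of A) ⟶ S)

/-- the `S`-scheme `Spec C` for an `A`-algebra `C` -/
noncomputable abbrev W (C : Type u) [CommRing C] [Algebra A C] : Over S :=
  Over.mk (Spec.map (CommRingCat.ofHom (algebraMap A C)) ≫ t)

/-- the `S`-morphism `Spec C' ⟶ Spec C` of a morphism of `A`-algebras -/
noncomputable def Wmap {C C' : Type u} [CommRing C] [CommRing C'] [Algebra A C] [Algebra A C']
    (ψ : C →ₐ[A] C') : W t C' ⟶ W t C :=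
  Over.homMk (Spec.map (CommRingCat.ofHom ψ.toRingHom)) (by
    change _ ≫ Spec.map _ ≫ t = Spec.map _ ≫ t
    rw [← Category.assoc, ← Spec.map_comp]
    congr 2
    ext a
    exact ψ.commutes a)

theorem Wmap_comp {C C' C'' : Type u} [CommRing C] [CommRing C'] [CommRing C''] [Algebra A C]
    [Algebra A C'] [Algebra A C''] (ψ : C →ₐ[A] C') (ψ' : C' →ₐ[A] C'') :
    Wmap t ψ' ≫ Wmap t ψ = Wmap t (ψ'.comp ψ) := by
  ext : 1
  change Spec.map _ ≫ Spec.map _ = Spec.map _
  rw [← Spec.map_comp]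
  rfl

/-- points of the additive group with values in `Spec C` are the elements of `C` -/
noncomputable def ga (C : Type u) [CommRing C] [Algebra A C] : (W t C ⟶ Red.Ga S) ≃ C :=
  (gaEquiv (W t C)).trans
    (Scheme.ΓSpecIso (CommRingCat.of C)).commRingCatIsoToRingEquiv.toEquiv

theorem ga_apply (C : Type u) [CommRing C] [Algebra A C] (x : W t C ⟶ Red.Ga S) :
    ga t C x = (Scheme.ΓSpecIso (CommRingCat.of C)).hom (Red.gaFn x) := rfl

theorem ga_mul (C : Type u) [CommRing C] [Algebra A C] (x y : W t C ⟶ Red.Ga S) :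
    ga t C (x * y) = ga t C x + ga t C y := by
  rw [ga_apply, ga_apply, ga_apply, gaFn_mul, map_add]

theorem ga_comp {C C' : Type u} [CommRing C] [CommRing C'] [Algebra A C] [Algebra A C']
    (ψ : C →ₐ[A] C') (x : W t C ⟶ Red.Ga S) :
    ga t C' (Wmap t ψ ≫ x) = ψ (ga t C x) := by
  rw [ga_apply, ga_apply, gaFn_comp]
  have h := Scheme.ΓSpecIso_naturality (CommRingCat.ofHom ψ.toRingHom)
  exact congrArg (fun k => k.hom (Red.gaFn x)) h

theorem ga_injective (C : Type u) [CommRing C] [Algebra A C] {x y : W t C ⟶ Red.Ga S}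
    (h : ga t C x = ga t C y) : x = y := (ga t C).injective h

variable {X : Over S} (a : AlgGrp.Action (Red.Ga S) X)

open Groth.Agent.R2.H27.AmitsurOne in
/-- a pseudo-torsor under the additive group over an affine base which has a point with values in
a faithfully flat extension has a point -/
theorem exists_section_of_faithfullyFlat (h : NonAbH1.IsPseudoTorsorSch a) (B : Type u)
    [CommRing B] [Algebra A B] [Module.FaithfullyFlat A B] (x : W t B ⟶ X) :
    ∃ y : Spec (CommRingCat.of A) ⟶ X.left, y ≫ X.hom = t := by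
  let p1 : W t (B ⊗[A] B) ⟶ W t B := Wmap t Algebra.TensorProduct.includeLeft
  let p2 : W t (B ⊗[A] B) ⟶ W t B := Wmap t Algebra.TensorProduct.includeRight
  let q12 : W t (B ⊗[A] (B ⊗[A] B)) ⟶ W t (B ⊗[A] B) := Wmap t (e12 A B)
  let q13 : W t (B ⊗[A] (B ⊗[A] B)) ⟶ W t (B ⊗[A] B) := Wmap t (e13 A B)
  let q23 : W t (B ⊗[A] (B ⊗[A] B)) ⟶ W t (B ⊗[A] B) := Wmap t (e23 A B)
  have h1 : q12 ≫ p1 = q13 ≫ p1 := by
    rw [Wmap_comp, Wmap_comp]
    congr 1
  have h2 : q12 ≫ p2 = q23 ≫ p1 := by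
    rw [Wmap_comp, Wmap_comp]
    congr 1
  have h3 : q13 ≫ p2 = q23 ≫ p2 := by
    rw [Wmap_comp, Wmap_comp]
    congr 1
  obtain ⟨g, hg⟩ := exists_translate a h (p1 ≫ x) (p2 ≫ x)
  have hc := cocycle a h p1 p2 q12 q13 q23 h1 h2 h3 x g hg
  have hc' : e12 A B (ga t _ g) + e23 A B (ga t _ g) = e13 A B (ga t _ g) := by
    rw [← ga_comp, ← ga_comp, ← ga_comp, ← ga_mul]
    exact congrArg (ga t _) hc
  obtain ⟨d, hd⟩ := exists_eq_sub A B (ga t _ g) hc'
  let δ : W t B ⟶ Red.Ga S := (ga t B).symm d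
  have hδ : (p1 ≫ δ) * g = p2 ≫ δ := by
    apply ga_injective
    rw [ga_mul, ga_comp, ga_comp, hd, Equiv.apply_symm_apply]
    simp
  have hx' := eq_of_coboundary a p1 p2 x g hg δ hδ
  set x' : W t B ⟶ X := lift δ x ≫ a.act with hx'def
  have hx'' : Spec.map (CommRingCat.ofHom
        (Algebra.TensorProduct.includeLeftRingHom : B →+* B ⊗[A] B)) ≫ x'.left =
      Spec.map (CommRingCat.ofHom
        (Algebra.TensorProduct.includeRight : B →ₐ[A] B ⊗[A] B).toRingHom) ≫ x'.left :=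
    congrArg (fun k => k.left) hx'
  have hpb := isPullback_SpecMap_of_isPushout _ _ _ _ (CommRingCat.isPushout_tensorProduct A B B)
  have hff : (CommRingCat.ofHom (algebraMap A B)).hom.FaithfullyFlat :=
    RingHom.faithfullyFlat_algebraMap_iff.2 inferInstance
  obtain ⟨hflat, hsurj⟩ := (flat_and_surjective_SpecMap_iff _).2 hff
  let y : Spec (CommRingCat.of A) ⟶ X.left :=
    EffectiveEpi.desc (Spec.map (CommRingCat.ofHom (algebraMap A B))) x'.left (by
      intro Z g₁ g₂ e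
      obtain ⟨l, e1, e2⟩ : ∃ l, l ≫ Spec.map (CommRingCat.ofHom
            (Algebra.TensorProduct.includeLeftRingHom : B →+* B ⊗[A] B)) = g₁ ∧
          l ≫ Spec.map (CommRingCat.ofHom
            (Algebra.TensorProduct.includeRight : B →ₐ[A] B ⊗[A] B).toRingHom) = g₂ :=
        ⟨hpb.lift g₁ g₂ e, hpb.lift_fst g₁ g₂ e, hpb.lift_snd g₁ g₂ e⟩
      rw [← e1, ← e2, Category.assoc, Category.assoc, hx''])
  have hy : Spec.map (CommRingCat.ofHom (algebraMap A B)) ≫ y = x'.left :=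
    EffectiveEpi.fac _ _ _
  refine ⟨y, ?_⟩
  rw [← cancel_epi (Spec.map (CommRingCat.ofHom (algebraMap A B))), ← Category.assoc, hy]
  exact Over.w x'

end SpecPts

section Refine

/-- an fpqc covering sieve of an affine scheme which is stable under finite coproducts contains a
flat surjective morphism from an affine scheme -/
theorem exists_affine_flat_surjective {U : Scheme.{u}} [IsAffine U] (Sv : Sieve U)
    (hSv : Sv ∈ Scheme.fpqcTopology U)
    (hsum : ∀ (I : Type u) [Finite I] (Y : I → Scheme.{u}) (f : ∀ i, Y i ⟶ U),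
      (∀ i, Sv (f i)) → Sv (Sigma.desc f)) :
    ∃ (T : Scheme.{u}) (_ : IsAffine T) (π : T ⟶ U), Flat π ∧ Surjective π ∧ Sv π := by
  rw [Precoverage.mem_toGrothendieck_iff_of_isStableUnderComposition] at hSv
  obtain ⟨R, hR, hle⟩ := hSv
  obtain ⟨𝒰, hqc, rfl⟩ := Scheme.mem_propQCPrecoverage_iff_exists_quasiCompactCover.1 hR
  obtain ⟨n, f, V, hV, h⟩ := QuasiCompactCover.exists_isAffineOpen_of_isCompact 𝒰.1
    (show IsCompact ((⊤ : U.Opens) : Set U) from isCompact_univ)
  let Y : ULift.{u} (Fin n) → Scheme.{u} := fun i => (V i.down).toScheme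
  let g : ∀ i, Y i ⟶ U := fun i => (V i.down).ι ≫ 𝒰.f (f i.down)
  have hmem : ∀ i, Sv (g i) := fun i => Sv.downward_closed (hle _ _ (Presieve.ofArrows.mk (f i.down))) _
  have haff : ∀ i, IsAffine (Y i) := fun i => hV i.down
  have hflat : ∀ i, Flat (g i) := fun i => by
    have : Flat (𝒰.f (f i.down)) := 𝒰.map_prop _
    infer_instance
  refine ⟨∐ Y, inferInstance, Sigma.desc g, ?_, ?_, hsum _ _ _ hmem⟩
  · exact IsZariskiLocalAtSource.sigmaDesc hflat
  · refine ⟨fun x => ?_⟩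
    have hx : x ∈ ⋃ i, (𝒰.f (f i)) '' (V i : Set (𝒰.X (f i))) := by
      rw [h]
      trivial
    obtain ⟨i, y, hy, rfl⟩ := Set.mem_iUnion.1 hx
    refine ⟨Sigma.ι Y ⟨i⟩ ⟨y, hy⟩, ?_⟩
    rw [← Scheme.Hom.comp_apply, Sigma.ι_desc]
    rfl

end Refine

section Main

variable {S : Scheme.{u}} {X : Over S}

theorem secSieve_sigma {T : Scheme.{u}} (t : T ⟶ S) (I : Type u) [Finite I] (Y : I → Scheme.{u})
    (f : ∀ i, Y i ⟶ T) (h : ∀ i, secSieve X t (f i)) : secSieve X t (Sigma.desc f) := by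
  choose s hs using h
  refine ⟨Sigma.desc s, Sigma.hom_ext _ _ (fun i => ?_)⟩
  rw [Sigma.ι_desc_assoc, Sigma.ι_desc_assoc, hs]

variable (a : AlgGrp.Action (Red.Ga S) X)

/-- a torsor under the additive group for the fpqc topology has a point with values in every affine
scheme over the base -/
theorem exists_section_Spec (h : NonAbH1.IsTorsorFor Scheme.fpqcPrecoverage a) (A : Type u)
    [CommRing A] (t : Spec (CommRingCat.of A) ⟶ S) :
    ∃ y : Spec (CommRingCat.of A) ⟶ X.left, y ≫ X.hom = t := by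
  obtain ⟨T, hT, π, hflat, hsurj, s, hs⟩ := exists_affine_flat_surjective (secSieve X t)
    (secSieve_mem h.2 t) (secSieve_sigma t)
  let B : CommRingCat.{u} := Γ(T, ⊤)
  let π' : Spec B ⟶ Spec (CommRingCat.of A) := T.isoSpec.inv ≫ π
  obtain ⟨φ, hφ⟩ := Spec.map_surjective π'
  let _inst : Algebra A B := φ.hom.toAlgebra
  have hφ' : CommRingCat.ofHom (algebraMap A B) = φ := rfl
  have hff : Module.FaithfullyFlat A B := by
    rw [← RingHom.faithfullyFlat_algebraMap_iff]
    refine (flat_and_surjective_SpecMap_iff φ).1 ⟨?_, ?_⟩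
    · rw [hφ]; infer_instance
    · rw [hφ]; infer_instance
  let x : W t B ⟶ X := Over.homMk (T.isoSpec.inv ≫ s) (by
    change (T.isoSpec.inv ≫ s) ≫ X.hom = Spec.map (CommRingCat.ofHom (algebraMap A B)) ≫ t
    rw [hφ', hφ, Category.assoc, hs, Category.assoc])
  exact exists_section_of_faithfullyFlat t a h.1 B x

/-- a torsor under the additive group for the fpqc topology is locally trivial for the Zariski
topology -/
theorem isTorsorFor_zariski (h : NonAbH1.IsTorsorFor Scheme.fpqcPrecoverage a) :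
    NonAbH1.IsTorsorFor Scheme.zariskiPrecoverage a := by
  refine ⟨h.1, S.affineCover.presieve₀, S.affineCover.mem₀, ?_⟩
  rintro S' f ⟨i⟩
  exact exists_section_Spec a h _ _

end Main

end Groth.Agent.R2.H27.GaTorsor
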