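import Mathlib
import Groth.Agent.Lib.Helper12FFDescentAlg
import Groth.Agent.R2.H27AmitsurOne
import Groth.Agent.R2.H37AffQuot

/-!
# Multiplicative Amitsur cocycles are Zariski locally coboundaries (helper27)

For a faithfully flat `A`-algebra `B` and a unit `v` of `B ⊗ B` satisfying the cocycle condition,
every prime of `A` has a neighbourhood `D(f)` over which `v` is the coboundary of an element of `B`
which becomes invertible in `B_f`.
-/

set_option autoImplicit false
universe u
open TensorProduct CategoryTheory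

namespace Groth.Agent.R2.H27.GmCocycle

open Groth.Agent.R2.H27.AmitsurOne

variable (A B : Type u) [CommRing A] [CommRing B] [Algebra A B]

/-- the invariants of the descent datum "multiplication by `v`" on `B` -/
def Inv (v : B ⊗[A] B) : Submodule A B where
  carrier := {l | v * (l ⊗ₜ[A] (1 : B)) = (1 : B) ⊗ₜ[A] l}
  add_mem' := by
    intro a b ha hb
    simp only [Set.mem_ofPred_eq] at ha hb ⊢
    rw [add_tmul, tmul_add, mul_add, ha, hb]
  zero_mem' := by simp
  smul_mem' := by
    intro c l hl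
    simp only [Set.mem_ofPred_eq] at hl ⊢
    rw [← smul_tmul', tmul_smul, mul_smul_comm, hl]

variable {A B}

theorem mem_Inv (v : B ⊗[A] B) (l : B) :
    l ∈ Inv A B v ↔ v * (l ⊗ₜ[A] (1 : B)) = (1 : B) ⊗ₜ[A] l := Iff.rfl

theorem rTensor_mulLeft (x : B) (t : B ⊗[A] B) :
    LinearMap.rTensor B (LinearMap.mulLeft A x) t = (x ⊗ₜ[A] (1 : B)) * t := by
  induction t using TensorProduct.induction_on with
  | zero => simp
  | tmul a b => simp
  | add s t hs ht => rw [map_add, hs, ht, mul_add]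

theorem lTensor_lsmul (y : B) (t : B ⊗[A] B) :
    LinearMap.lTensor B (Algebra.lsmul A A B y) t = ((1 : B) ⊗ₜ[A] y) * t := by
  induction t using TensorProduct.induction_on with
  | zero => simp
  | tmul a b => simp
  | add s t hs ht => rw [map_add, hs, ht, mul_add]

theorem assoc_tmul' (t : B ⊗[A] B) (b : B) :
    TensorProduct.assoc A B B B (t ⊗ₜ[A] b) =
      e12 A B t * ((1 : B) ⊗ₜ[A] ((1 : B) ⊗ₜ[A] b)) := by
  induction t using TensorProduct.induction_on with
  | zero => simp
  | tmul a c => simp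
  | add s t hs ht => rw [add_tmul, map_add, hs, ht, map_add, add_mul]

theorem lTensor_mulLeft (v : B ⊗[A] B) (z : B ⊗[A] (B ⊗[A] B)) :
    LinearMap.lTensor B (LinearMap.mulLeft A v) z = ((1 : B) ⊗ₜ[A] v) * z := by
  induction z using TensorProduct.induction_on with
  | zero => simp
  | tmul a s => simp
  | add s t hs ht => rw [map_add, hs, ht, mul_add]

theorem lTensor_mk (a : B) (s : B ⊗[A] B) :
    LinearMap.lTensor B (TensorProduct.mk A B B a) s =
      e13 A B s * ((1 : B) ⊗ₜ[A] (a ⊗ₜ[A] (1 : B))) := by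
  induction s using TensorProduct.induction_on with
  | zero => simp
  | tmul x y => simp
  | add s t hs ht => rw [map_add, hs, ht, map_add, add_mul]

/-- the invariants of a multiplicative cocycle generate the unit ideal of `B` -/
theorem span_Inv_eq_top [Module.FaithfullyFlat A B] (v w : B ⊗[A] B) (hvw : v * w = 1)
    (hcoc : e12 A B v * e23 A B v = e13 A B v) :
    Ideal.span (Inv A B v : Set B) = ⊤ := by
  have hbij := Groth.Agent.Lib.Helper12.FFD.main (A := A) (A' := B) (M' := B)
    (LinearMap.mulLeft A v)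
    (by
      intro x u z
      have e : (x * u) ⊗ₜ[A] z = (x ⊗ₜ[A] (1 : B)) * (u ⊗ₜ[A] z) := by
        rw [Algebra.TensorProduct.tmul_mul_tmul, one_mul]
      rw [rTensor_mulLeft, LinearMap.mulLeft_apply, LinearMap.mulLeft_apply, smul_eq_mul, e]
      ring)
    (by
      intro y u z
      have e : u ⊗ₜ[A] (y * z) = ((1 : B) ⊗ₜ[A] y) * (u ⊗ₜ[A] z) := by
        rw [Algebra.TensorProduct.tmul_mul_tmul, one_mul]
      rw [lTensor_lsmul, LinearMap.mulLeft_apply, LinearMap.mulLeft_apply, e]
      ring)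
    (by
      intro u a b
      have hP1 : e12 A B (u ⊗ₜ[A] a) * ((1 : B) ⊗ₜ[A] ((1 : B) ⊗ₜ[A] b)) =
          u ⊗ₜ[A] (a ⊗ₜ[A] b) := by
        rw [e12_tmul]
        simp only [Algebra.TensorProduct.tmul_mul_tmul, mul_one, one_mul]
      have hP2 : e13 A B (u ⊗ₜ[A] b) * ((1 : B) ⊗ₜ[A] (a ⊗ₜ[A] (1 : B))) =
          u ⊗ₜ[A] (a ⊗ₜ[A] b) := by
        rw [e13_tmul]
        simp only [Algebra.TensorProduct.tmul_mul_tmul, mul_one, one_mul]
      rw [LinearMap.rTensor_tmul, LinearMap.mulLeft_apply, assoc_tmul', lTensor_mulLeft,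
        LinearMap.mulLeft_apply, lTensor_mk, map_mul, map_mul, mul_assoc (e12 A B v), hP1,
        mul_assoc (e13 A B v), hP2, ← hcoc, e23_apply]
      ring)
    (by
      refine Function.bijective_iff_has_inverse.2 ⟨LinearMap.mulLeft A w, ?_, ?_⟩
      · intro t
        rw [LinearMap.mulLeft_apply, LinearMap.mulLeft_apply, ← mul_assoc, mul_comm w v, hvw,
          one_mul]
      · intro t
        rw [LinearMap.mulLeft_apply, LinearMap.mulLeft_apply, ← mul_assoc, hvw, one_mul])
    (Inv A B v)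
    (by
      intro u
      rw [mem_Inv, LinearMap.mulLeft_apply])
  obtain ⟨s, hs⟩ := hbij.2 (1 : B)
  have key : ∀ s : B ⊗[A] (Inv A B v),
      ((TensorProduct.lift (Algebra.lsmul A A B).toLinearMap) ∘ₗ
        (LinearMap.lTensor B (Inv A B v).subtype)) s ∈ Ideal.span (Inv A B v : Set B) := by
    intro s
    induction s using TensorProduct.induction_on with
    | zero => simp
    | tmul x m =>
      simp only [LinearMap.comp_apply, LinearMap.lTensor_tmul, Submodule.subtype_apply,
        TensorProduct.lift.tmul]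
      exact Ideal.mul_mem_left _ _ (Ideal.subset_span m.2)
    | add s t hs ht =>
      rw [map_add]
      exact Ideal.add_mem _ hs ht
  rw [Ideal.eq_top_iff_one, ← hs]
  exact key s

/-- Amitsur exactness in degree zero, elementwise -/
theorem mem_range_of_tmul_one_eq [Module.FaithfullyFlat A B] (b : B)
    (h : b ⊗ₜ[A] (1 : B) = (1 : B) ⊗ₜ[A] b) : b ∈ Set.range (algebraMap A B) := by
  have hff : (CommRingCat.ofHom (algebraMap A B)).hom.FaithfullyFlat :=
    RingHom.faithfullyFlat_algebraMap_iff.2 inferInstance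
  exact (Groth.Agent.R2.H37.AffQuot.eq_iff_mem_range_of_faithfullyFlat _ _ _
    (CommRingCat.isPushout_tensorProduct A B B) hff b).1 h

/-- a multiplicative Amitsur cocycle is, locally on the base, the coboundary of an element which
becomes a unit -/
theorem exists_mul_eq_algebraMap [Module.FaithfullyFlat A B] (v w : B ⊗[A] B) (hvw : v * w = 1)
    (hcoc : e12 A B v * e23 A B v = e13 A B v) (p : Ideal A) [p.IsPrime] :
    ∃ (l l' : B) (f : A), f ∉ p ∧ v * (l ⊗ₜ[A] (1 : B)) = (1 : B) ⊗ₜ[A] l ∧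
      l * l' = algebraMap A B f := by
  have h12 : e12 A B v * e12 A B w = 1 := by rw [← map_mul, hvw, map_one]
  have h23 : e23 A B v * e23 A B w = 1 := by rw [← map_mul, hvw, map_one]
  have h13 : e13 A B v * e13 A B w = 1 := by rw [← map_mul, hvw, map_one]
  have hcocw : e12 A B w * e23 A B w = e13 A B w := by
    calc e12 A B w * e23 A B w
        = e12 A B w * e23 A B w * (e13 A B v * e13 A B w) := by rw [h13, mul_one]
      _ = (e12 A B v * e12 A B w) * (e23 A B v * e23 A B w) * e13 A B w := by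
          rw [← hcoc]; ring
      _ = e13 A B w := by rw [h12, h23, one_mul, one_mul]
  have hv := span_Inv_eq_top v w hvw hcoc
  have hw := span_Inv_eq_top w v (by rw [mul_comm, hvw]) hcocw
  let G : Set A := {a | ∃ l ∈ Inv A B v, ∃ l' ∈ Inv A B w, l * l' = algebraMap A B a}
  have hmap : (Ideal.span G).map (algebraMap A B) = ⊤ := by
    have htt : (⊤ : Ideal B) = Ideal.span (Inv A B v : Set B) * Ideal.span (Inv A B w : Set B) := by
      rw [hv, hw, Ideal.mul_top]
    rw [eq_top_iff, htt, Ideal.span_mul_span', Ideal.span_le]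
    rintro _ ⟨l, hl, l', hl', rfl⟩
    have hb : (l * l') ⊗ₜ[A] (1 : B) = (1 : B) ⊗ₜ[A] (l * l') := by
      have e1 : (l * l') ⊗ₜ[A] (1 : B) = (l ⊗ₜ[A] (1 : B)) * (l' ⊗ₜ[A] (1 : B)) := by
        rw [Algebra.TensorProduct.tmul_mul_tmul, one_mul]
      have e2 : (1 : B) ⊗ₜ[A] (l * l') = ((1 : B) ⊗ₜ[A] l) * ((1 : B) ⊗ₜ[A] l') := by
        rw [Algebra.TensorProduct.tmul_mul_tmul, one_mul]
      rw [e2, ← (mem_Inv v l).1 hl, ← (mem_Inv w l').1 hl', e1]
      calc (l ⊗ₜ[A] (1 : B)) * (l' ⊗ₜ[A] (1 : B))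
          = (v * w) * ((l ⊗ₜ[A] (1 : B)) * (l' ⊗ₜ[A] (1 : B))) := by rw [hvw, one_mul]
        _ = v * l ⊗ₜ[A] (1 : B) * (w * l' ⊗ₜ[A] (1 : B)) := by ring
    obtain ⟨a, ha⟩ := mem_range_of_tmul_one_eq (l * l') hb
    change l * l' ∈ _
    rw [← ha]
    exact Ideal.mem_map_of_mem _ (Ideal.subset_span ⟨l, hl, l', hl', ha.symm⟩)
  have htop : Ideal.span G = ⊤ := by
    rw [← Ideal.comap_map_eq_self_of_faithfullyFlat (B := B) (Ideal.span G), hmap, Ideal.comap_top]
  have hex : ∃ a ∈ G, a ∉ p := by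
    by_contra hcon
    push Not at hcon
    have : Ideal.span G ≤ p := Ideal.span_le.2 hcon
    rw [htop] at this
    exact (Ideal.IsPrime.ne_top ‹p.IsPrime›) (top_le_iff.1 this)
  obtain ⟨a, ⟨l, hl, l', -, hll'⟩, hap⟩ := hex
  exact ⟨l, l', a, hap, (mem_Inv v l).1 hl, hll'⟩

end Groth.Agent.R2.H27.GmCocycle
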