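import Mathlib
import Groth.Agent.R2.H27GaTorsor
import Groth.Agent.R2.H27GmCocycle

/-!
# Torsors under the multiplicative group are Zariski locally trivial (helper27)
-/

set_option autoImplicit false
universe u
open CategoryTheory CategoryTheory.Limits AlgebraicGeometry MonoidalCategory CartesianMonoidalCategory
  MonObj

namespace Groth.Agent.R2.H27.GmTorsor

open Groth.Agent.Lib.Helper12 Groth.Agent.R2.H27.TorsorSeq Groth.Agent.R2.H27.GaTorsor
open Groth.Agent.Lib.Helper27.GaGm TensorProduct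

section SpecV

variable {S : Scheme.{u}}

/-- the function of a point of the multiplicative group with values in `Spec E` -/
noncomputable def gm {E : Type u} [CommRing E] (s : Spec (CommRingCat.of E) ⟶ S)
    (x : Over.mk s ⟶ Red.Gm S) : E :=
  (Scheme.ΓSpecIso (CommRingCat.of E)).hom (Red.gmFn x)

variable {E E' : Type u} [CommRing E] [CommRing E'] (s : Spec (CommRingCat.of E) ⟶ S)
  (s' : Spec (CommRingCat.of E') ⟶ S)

theorem gm_mul (x y : Over.mk s ⟶ Red.Gm S) : gm s (x * y) = gm s x * gm s y := by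
  rw [gm, gm, gm, gmFn_mul, map_mul]

theorem gm_one : gm s (1 : Over.mk s ⟶ Red.Gm S) = 1 := by
  rw [gm, gmFn_one, map_one]

theorem gm_injective {x y : Over.mk s ⟶ Red.Gm S} (h : gm s x = gm s y) : x = y := by
  apply gmFn_injective
  have hinj : Function.Injective (Scheme.ΓSpecIso (CommRingCat.of E)).hom :=
    (ConcreteCategory.bijective_of_isIso (Scheme.ΓSpecIso (CommRingCat.of E)).hom).1
  exact hinj h

theorem exists_gm_eq (e : E) (he : IsUnit e) : ∃ x : Over.mk s ⟶ Red.Gm S, gm s x = e := by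
  obtain ⟨x, hx⟩ := gmFn_surjective (X := Over.mk s)
    ((Scheme.ΓSpecIso (CommRingCat.of E)).inv e) (he.map (Scheme.ΓSpecIso (CommRingCat.of E)).inv.hom)
  refine ⟨x, ?_⟩
  rw [gm, hx]
  exact congrArg (fun k => k.hom e) (Scheme.ΓSpecIso (CommRingCat.of E)).inv_hom_id

theorem gm_comp (ψ : E →+* E') (k : Over.mk s' ⟶ Over.mk s)
    (hk : k.left = Spec.map (CommRingCat.ofHom ψ)) (x : Over.mk s ⟶ Red.Gm S) :
    gm s' (k ≫ x) = ψ (gm s x) := by
  rw [gm, gm, gmFn_comp]
  have h := Scheme.ΓSpecIso_naturality (CommRingCat.ofHom ψ)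
  rw [← hk] at h
  exact congrArg (fun k => k.hom (Red.gmFn x)) h

end SpecV

section Main

variable {S : Scheme.{u}} {A : Type u} [CommRing A] (t : Spec (CommRingCat.of A) ⟶ S) {X : Over S}

/-- descent of points along a faithfully flat algebra -/
theorem exists_section_of_eq (B : Type u) [CommRing B] [Algebra A B] [Module.FaithfullyFlat A B]
    (x' : W t B ⟶ X)
    (hx' : Wmap t (Algebra.TensorProduct.includeLeft : B →ₐ[A] B ⊗[A] B) ≫ x' =
      Wmap t (Algebra.TensorProduct.includeRight : B →ₐ[A] B ⊗[A] B) ≫ x') :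
    ∃ y : Spec (CommRingCat.of A) ⟶ X.left, y ≫ X.hom = t := by
  have hx'' : Spec.map (CommRingCat.ofHom
        (Algebra.TensorProduct.includeLeftRingHom : B →+* B ⊗[A] B)) ≫ x'.left =
      Spec.map (CommRingCat.ofHom
        (Algebra.TensorProduct.includeRight : B →ₐ[A] B ⊗[A] B).toRingHom) ≫ x'.left :=
    congrArg (fun k => k.left) hx'
  have hpb := isPullback_SpecMap_of_isPushout _ _ _ _ (CommRingCat.isPushout_tensorProduct A B B)
  have hff : (CommRingCat.ofHom (algebraMap A B)).hom.FaithfullyFlat :=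
    RingHom.faithfullyFlat_algebraMap_iff.2 inferInstance
  obtain ⟨hflat, hsurj⟩ := (flat_and_surjective_SpecMap_iff _).2 hff
  let y : Spec (CommRingCat.of A) ⟶ X.left :=
    EffectiveEpi.desc (Spec.map (CommRingCat.ofHom (algebraMap A B))) x'.left (by
      intro Z g₁ g₂ e
      obtain ⟨l, e1, e2⟩ : ∃ l, l ≫ Spec.map (CommRingCat.ofHom
            (Algebra.TensorProduct.includeLeftRingHom : B →+* B ⊗[A] B)) = g₁ ∧
          l ≫ Spec.map (CommRingCat.ofHom
            (Algebra.TensorProduct.includeRight : B →ₐ[A] B ⊗[A] B).toRingHom) = g₂ :=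
        ⟨hpb.lift g₁ g₂ e, hpb.lift_fst g₁ g₂ e, hpb.lift_snd g₁ g₂ e⟩
      rw [← e1, ← e2, Category.assoc, Category.assoc, hx''])
  have hy : Spec.map (CommRingCat.ofHom (algebraMap A B)) ≫ y = x'.left :=
    EffectiveEpi.fac _ _ _
  refine ⟨y, ?_⟩
  rw [← cancel_epi (Spec.map (CommRingCat.ofHom (algebraMap A B))), ← Category.assoc, hy]
  exact Over.w x'

variable (a : AlgGrp.Action (Red.Gm S) X)

open Groth.Agent.R2.H27.AmitsurOne Groth.Agent.R2.H27.GmCocycle in
/-- a pseudo-torsor under the multiplicative group over an affine base which has a point with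
values in a faithfully flat extension has points Zariski locally -/
theorem exists_local_section (h : NonAbH1.IsPseudoTorsorSch a) (B : Type u)
    [CommRing B] [Algebra A B] [Module.FaithfullyFlat A B] (x : W t B ⟶ X) (p : Ideal A)
    [p.IsPrime] :
    ∃ f : A, f ∉ p ∧ ∃ y : Spec (CommRingCat.of (Localization.Away f)) ⟶ X.left,
      y ≫ X.hom = Spec.map (CommRingCat.ofHom (algebraMap A (Localization.Away f))) ≫ t := by
  let p1 : W t (B ⊗[A] B) ⟶ W t B := Wmap t Algebra.TensorProduct.includeLeft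
  let p2 : W t (B ⊗[A] B) ⟶ W t B := Wmap t Algebra.TensorProduct.includeRight
  let q12 : W t (B ⊗[A] (B ⊗[A] B)) ⟶ W t (B ⊗[A] B) := Wmap t (e12 A B)
  let q13 : W t (B ⊗[A] (B ⊗[A] B)) ⟶ W t (B ⊗[A] B) := Wmap t (e13 A B)
  let q23 : W t (B ⊗[A] (B ⊗[A] B)) ⟶ W t (B ⊗[A] B) := Wmap t (e23 A B)
  have h1 : q12 ≫ p1 = q13 ≫ p1 := by
    rw [Wmap_comp, Wmap_comp]
    congr 1
  have h2 : q12 ≫ p2 = q23 ≫ p1 := by
    rw [Wmap_comp, Wmap_comp]
    congr 1
  have h3 : q13 ≫ p2 = q23 ≫ p2 := by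
    rw [Wmap_comp, Wmap_comp]
    congr 1
  obtain ⟨g, hg⟩ := exists_translate a h (p1 ≫ x) (p2 ≫ x)
  have hc := cocycle a h p1 p2 q12 q13 q23 h1 h2 h3 x g hg
  let v : B ⊗[A] B := gm _ g
  let w : B ⊗[A] B := gm _ g⁻¹
  have hvw : v * w = 1 := by rw [← gm_mul, mul_inv_cancel, gm_one]
  have hcoc : e12 A B v * e23 A B v = e13 A B v := by
    have e1 := gm_comp _ (W t (B ⊗[A] (B ⊗[A] B))).hom (e12 A B).toRingHom q12 rfl g
    have e2 := gm_comp _ (W t (B ⊗[A] (B ⊗[A] B))).hom (e23 A B).toRingHom q23 rfl g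
    have e3 := gm_comp _ (W t (B ⊗[A] (B ⊗[A] B))).hom (e13 A B).toRingHom q13 rfl g
    have := congrArg (gm _) hc
    rw [gm_mul] at this
    exact (congrArg₂ (· * ·) e1.symm e2.symm).trans (this.trans e3)
  obtain ⟨l, l', f, hfp, hl, hll'⟩ := exists_mul_eq_algebraMap v w hvw hcoc p
  refine ⟨f, hfp, ?_⟩
  -- the localised situation
  let C : Type u := Localization.Away f
  let D : Type u := C ⊗[A] B
  let tC : Spec (CommRingCat.of C) ⟶ S := Spec.map (CommRingCat.ofHom (algebraMap A C)) ≫ t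
  let ιB : B →+* D := (Algebra.TensorProduct.includeRight : B →ₐ[A] C ⊗[A] B).toRingHom
  have hρ : Spec.map (CommRingCat.ofHom ιB) ≫ Spec.map (CommRingCat.ofHom (algebraMap A B)) =
      Spec.map (CommRingCat.ofHom (algebraMap C D)) ≫
        Spec.map (CommRingCat.ofHom (algebraMap A C)) := by
    rw [← Spec.map_comp, ← Spec.map_comp]
    congr 1
    ext r
    change (1 : C) ⊗ₜ[A] (algebraMap A B r) = (algebraMap A C r) ⊗ₜ[A] (1 : B)
    rw [Algebra.algebraMap_eq_smul_one, Algebra.algebraMap_eq_smul_one, smul_tmul]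
  let ρ : W tC D ⟶ W t B := Over.homMk (Spec.map (CommRingCat.ofHom ιB)) (by
    change Spec.map (CommRingCat.ofHom ιB) ≫ Spec.map (CommRingCat.ofHom (algebraMap A B)) ≫ t =
      Spec.map (CommRingCat.ofHom (algebraMap C D)) ≫
        Spec.map (CommRingCat.ofHom (algebraMap A C)) ≫ t
    rw [← Category.assoc, hρ, Category.assoc])
  let p1D : W tC (D ⊗[C] D) ⟶ W tC D := Wmap tC Algebra.TensorProduct.includeLeft
  let p2D : W tC (D ⊗[C] D) ⟶ W tC D := Wmap tC Algebra.TensorProduct.includeRight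
  have hpb := isPullback_SpecMap_of_isPushout _ _ _ _ (CommRingCat.isPushout_tensorProduct A B B)
  have hpbD := isPullback_SpecMap_of_isPushout _ _ _ _ (CommRingCat.isPushout_tensorProduct C D D)
  have hcomm : (p1D.left ≫ ρ.left) ≫ Spec.map (CommRingCat.ofHom (algebraMap A B)) =
      (p2D.left ≫ ρ.left) ≫ Spec.map (CommRingCat.ofHom (algebraMap A B)) := by
    change (p1D.left ≫ Spec.map (CommRingCat.ofHom ιB)) ≫ _ =
      (p2D.left ≫ Spec.map (CommRingCat.ofHom ιB)) ≫ _
    rw [Category.assoc, Category.assoc, hρ, ← Category.assoc, ← Category.assoc]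
    congr 1
    exact hpbD.w
  let θL : Spec (CommRingCat.of (D ⊗[C] D)) ⟶ Spec (CommRingCat.of (B ⊗[A] B)) :=
    hpb.lift (p1D.left ≫ ρ.left) (p2D.left ≫ ρ.left) hcomm
  have hθL1 : θL ≫ p1.left = p1D.left ≫ ρ.left := hpb.lift_fst _ _ _
  have hθL2 : θL ≫ p2.left = p2D.left ≫ ρ.left := hpb.lift_snd _ _ _
  let θ : W tC (D ⊗[C] D) ⟶ W t (B ⊗[A] B) := Over.homMk θL (by
    rw [← Over.w p1, ← Category.assoc, hθL1, Category.assoc, Over.w ρ, Over.w p1D])
  have hθ1 : θ ≫ p1 = p1D ≫ ρ := Over.OverMorphism.ext hθL1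
  have hθ2 : θ ≫ p2 = p2D ≫ ρ := Over.OverMorphism.ext hθL2
  obtain ⟨θr, hθr⟩ := Spec.map_surjective θL
  have hr1 : ∀ b : B, θr.hom (b ⊗ₜ[A] (1 : B)) = (ιB b) ⊗ₜ[C] (1 : D) := by
    have e : Spec.map (CommRingCat.ofHom
          (Algebra.TensorProduct.includeLeftRingHom : B →+* B ⊗[A] B) ≫ θr) =
        Spec.map (CommRingCat.ofHom ιB ≫ CommRingCat.ofHom
          (Algebra.TensorProduct.includeLeftRingHom : D →+* D ⊗[C] D)) := by
      rw [Spec.map_comp, Spec.map_comp, hθr]
      exact hθL1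
    have e' := Spec.map_injective e
    intro b
    exact congrArg (fun k => k.hom b) e'
  have hr2 : ∀ b : B, θr.hom ((1 : B) ⊗ₜ[A] b) = (1 : D) ⊗ₜ[C] (ιB b) := by
    have e : Spec.map (CommRingCat.ofHom
          (Algebra.TensorProduct.includeRight : B →ₐ[A] B ⊗[A] B).toRingHom ≫ θr) =
        Spec.map (CommRingCat.ofHom ιB ≫ CommRingCat.ofHom
          (Algebra.TensorProduct.includeRight : D →ₐ[C] D ⊗[C] D).toRingHom) := by
      rw [Spec.map_comp, Spec.map_comp, hθr]
      exact hθL2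
    have e' := Spec.map_injective e
    intro b
    exact congrArg (fun k => k.hom b) e'
  let xD : W tC D ⟶ X := ρ ≫ x
  let gD : W tC (D ⊗[C] D) ⟶ Red.Gm S := θ ≫ g
  have hgD : lift gD (p2D ≫ xD) ≫ a.act = p1D ≫ xD := by
    have e := congrArg (fun k => θ ≫ k) hg
    simp only [comp_lift_act] at e
    rw [← Category.assoc θ p2, ← Category.assoc θ p1, hθ1, hθ2, Category.assoc,
      Category.assoc] at e
    exact e
  have hunit : IsUnit (ιB l) := by
    have e : ιB l * ιB l' = algebraMap C D (algebraMap A C f) := by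
      rw [← map_mul, hll']
      change (1 : C) ⊗ₜ[A] (algebraMap A B f) = (algebraMap A C f) ⊗ₜ[A] (1 : B)
      rw [Algebra.algebraMap_eq_smul_one, Algebra.algebraMap_eq_smul_one, smul_tmul]
    have hu : IsUnit (algebraMap C D (algebraMap A C f)) :=
      (IsLocalization.Away.algebraMap_isUnit f).map (algebraMap C D)
    rw [← e] at hu
    exact isUnit_of_mul_isUnit_left hu
  obtain ⟨δ, hδ⟩ := exists_gm_eq (W tC D).hom (ιB l) hunit
  have hcob : (p1D ≫ δ) * gD = p2D ≫ δ := by
    apply gm_injective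
    have e1 := gm_comp _ (W tC (D ⊗[C] D)).hom
      (Algebra.TensorProduct.includeLeft : D →ₐ[C] D ⊗[C] D).toRingHom p1D rfl δ
    have e2 := gm_comp _ (W tC (D ⊗[C] D)).hom
      (Algebra.TensorProduct.includeRight : D →ₐ[C] D ⊗[C] D).toRingHom p2D rfl δ
    have e3 := gm_comp _ (W tC (D ⊗[C] D)).hom θr.hom θ hθr.symm g
    rw [gm_mul]
    refine (congrArg₂ (· * ·) e1 e3).trans (Eq.trans ?_ e2.symm)
    have hδ' : gm (Spec.map (CommRingCat.ofHom (algebraMap C D)) ≫ tC) δ = ιB l := hδ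
    rw [hδ']
    change (ιB l) ⊗ₜ[C] (1 : D) * θr.hom v = (1 : D) ⊗ₜ[C] (ιB l)
    rw [← hr1, ← hr2, ← hl, map_mul]
    exact mul_comm (θr.hom (l ⊗ₜ[A] (1 : B)) : D ⊗[C] D) (θr.hom v)
  have hx' := eq_of_coboundary a p1D p2D xD gD hgD δ hcob
  exact exists_section_of_eq tC D _ hx'

end Main

section Assembly

variable {S : Scheme.{u}} {X : Over S}

/-- an fpqc locally trivial `S`-scheme has a point with values in a faithfully flat algebra over
every affine scheme over `S` -/
theorem exists_ff_point (hX : NonAbH1.IsLocallyTrivialFor Scheme.fpqcPrecoverage X) (A : Type u)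
    [CommRing A] (t : Spec (CommRingCat.of A) ⟶ S) :
    ∃ (B : Type u) (_ : CommRing B) (_ : Algebra A B) (_ : Module.FaithfullyFlat A B),
      Nonempty (W t B ⟶ X) := by
  obtain ⟨T, hT, π, hflat, hsurj, s, hs⟩ := exists_affine_flat_surjective (secSieve X t)
    (secSieve_mem hX t) (secSieve_sigma t)
  let B : CommRingCat.{u} := Γ(T, ⊤)
  let π' : Spec B ⟶ Spec (CommRingCat.of A) := T.isoSpec.inv ≫ π
  obtain ⟨φ, hφ⟩ := Spec.map_surjective π'
  let _inst : Algebra A B := φ.hom.toAlgebra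
  have hφ' : CommRingCat.ofHom (algebraMap A B) = φ := rfl
  have hff : Module.FaithfullyFlat A B := by
    rw [← RingHom.faithfullyFlat_algebraMap_iff]
    refine (flat_and_surjective_SpecMap_iff φ).1 ⟨?_, ?_⟩
    · rw [hφ]; infer_instance
    · rw [hφ]; infer_instance
  let x : W t B ⟶ X := Over.homMk (T.isoSpec.inv ≫ s) (by
    change (T.isoSpec.inv ≫ s) ≫ X.hom = Spec.map (CommRingCat.ofHom (algebraMap A B)) ≫ t
    rw [hφ', hφ, Category.assoc, hs, Category.assoc])
  exact ⟨B, inferInstance, _inst, hff, ⟨x⟩⟩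

variable (a : AlgGrp.Action (Red.Gm S) X)

/-- around every point of an affine open, a torsor under the multiplicative group for the fpqc
topology has a section over a basic open -/
theorem exists_open_section (h : NonAbH1.IsTorsorFor Scheme.fpqcPrecoverage a) (A : Type u)
    [CommRing A] (t : Spec (CommRingCat.of A) ⟶ S) (ht : IsOpenImmersion t)
    (z : Spec (CommRingCat.of A)) :
    ∃ (U : Scheme.{u}) (j : U ⟶ S), IsOpenImmersion j ∧ t z ∈ Set.range j ∧
      ∃ y : U ⟶ X.left, y ≫ X.hom = j := by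
  obtain ⟨B, _, _, _, ⟨x⟩⟩ := exists_ff_point h.2 A t
  obtain ⟨f, hfp, y, hy⟩ := exists_local_section t a h.1 B x z.asIdeal
  refine ⟨_, Spec.map (CommRingCat.ofHom (algebraMap A (Localization.Away f))) ≫ t,
    inferInstance, ?_, y, hy⟩
  have hz : z ∈ (Spec.map (CommRingCat.ofHom (algebraMap A (Localization.Away f)))).opensRange := by
    rw [Scheme.Hom.opensRange_localizationAway (R := CommRingCat.of A) f]
    exact hfp
  obtain ⟨z', hz'⟩ := hz
  exact ⟨z', by rw [Scheme.Hom.comp_apply, hz']⟩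

/-- a torsor under the multiplicative group for the fpqc topology is locally trivial for the
Zariski topology -/
theorem isTorsorFor_zariski (h : NonAbH1.IsTorsorFor Scheme.fpqcPrecoverage a) :
    NonAbH1.IsTorsorFor Scheme.zariskiPrecoverage a := by
  have key : ∀ s : S, ∃ (U : Scheme.{u}) (j : U ⟶ S), IsOpenImmersion j ∧ s ∈ Set.range j ∧
      ∃ y : U ⟶ X.left, y ≫ X.hom = j := by
    intro s
    obtain ⟨z, hz⟩ := S.affineOpenCover.covers s
    have hoi : IsOpenImmersion (S.affineOpenCover.f (S.affineOpenCover.idx s)) :=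
      S.affineOpenCover.map_prop _
    obtain ⟨U, j, hj, hmem, y, hy⟩ :=
      exists_open_section a h (S.affineOpenCover.X (S.affineOpenCover.idx s))
        (S.affineOpenCover.f (S.affineOpenCover.idx s)) hoi z
    exact ⟨U, j, hj, hz ▸ hmem, y, hy⟩
  choose U j hj hs y hy using key
  refine ⟨h.1, (Scheme.Cover.mkOfCovers S U j (fun s => ?_) hj).presieve₀,
    (Scheme.Cover.mkOfCovers S U j _ hj).mem₀, ?_⟩
  · obtain ⟨z, hz⟩ := hs s
    exact ⟨s, z, hz⟩
  · rintro S' f ⟨s⟩
    exact ⟨y s, hy s⟩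

end Assembly

end Groth.Agent.R2.H27.GmTorsor
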