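import Mathlib
import Groth.Agent.Lib.Helper1BKF17
import Groth.Agent.Lib.Helper1LDer4
import Groth.Agent.Lib.Helper1CI9
set_option backward.isDefEq.respectTransparency.types false

/-!
# Mixed associativity of the derived tensor product on a ringed site (helper27)

For complexes `K`, `L` of `O`-modules with `L` K-flat, `(- ⊗^L K) ⊗^L L ≅ - ⊗^L (K ⊗ L)` as functors
on `D(O)`.
-/

set_option autoImplicit false
set_option linter.style.haveILetI false
universe u
open CategoryTheory CategoryTheory.Limits HomologicalComplex ZeroObject MonoidalCategory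

attribute [local instance] HasDerivedCategory.standard

namespace Groth.Agent.R2.H27.LTensorAssoc

open Groth.Agent.Lib.Helper1.BKF Groth.Agent.Lib.Helper21.ModTensor3
  Groth.Agent.Lib.Helper21.ModTensor5

variable {C : Type u} [SmallCategory C] {J : GrothendieckTopology C} {O : Sheaf J CommRingCat.{u}}

section Naturality

variable {K₁ K₁' : CochainComplex (ModSite.Mod O) ℤ} (φ : K₁ ⟶ K₁')
  (K₂ K₃ : CochainComplex (ModSite.Mod O) ℤ)

@[reassoc]
lemma ι₁₂_map (i₁ i₂ i₃ j : ℤ)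
    (h : ComplexShape.r (ComplexShape.up ℤ) (ComplexShape.up ℤ) (ComplexShape.up ℤ)
      (ComplexShape.up ℤ) (ComplexShape.up ℤ) (i₁, i₂, i₃) = j) :
    mapBifunctor₁₂.ι (ModSite.tensorBi O) (ModSite.tensorBi O) K₁ K₂ K₃ (ComplexShape.up ℤ)
        (ComplexShape.up ℤ) i₁ i₂ i₃ j h ≫
      (mapBifunctorMap (mapBifunctorMap φ (𝟙 K₂) (ModSite.tensorBi O) (ComplexShape.up ℤ)) (𝟙 K₃)
        (ModSite.tensorBi O) (ComplexShape.up ℤ)).f j =
    ((ModSite.tensorBi O).map (((ModSite.tensorBi O).map (φ.f i₁)).app (K₂.X i₂))).app (K₃.X i₃) ≫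
      mapBifunctor₁₂.ι (ModSite.tensorBi O) (ModSite.tensorBi O) K₁' K₂ K₃ (ComplexShape.up ℤ)
        (ComplexShape.up ℤ) i₁ i₂ i₃ j h := by
  rw [mapBifunctor₁₂.ι_eq _ _ _ _ _ _ _ i₁ i₂ i₃ (i₁ + i₂) j rfl h,
    mapBifunctor₁₂.ι_eq _ _ _ _ _ _ _ i₁ i₂ i₃ (i₁ + i₂) j rfl h, Category.assoc,
    ι_mapBifunctorMap]
  simp only [id_f]
  rw [← NatTrans.comp_app_assoc, ← Functor.map_comp, ι_mapBifunctorMap]
  simp

lemma ι₂₃_map (i₁ i₂ i₃ j : ℤ)
    (h : ComplexShape.r (ComplexShape.up ℤ) (ComplexShape.up ℤ) (ComplexShape.up ℤ)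
      (ComplexShape.up ℤ) (ComplexShape.up ℤ) (i₁, i₂, i₃) = j) :
    mapBifunctor₂₃.ι (ModSite.tensorBi O) (ModSite.tensorBi O) K₁ K₂ K₃ (ComplexShape.up ℤ)
        (ComplexShape.up ℤ) (ComplexShape.up ℤ) i₁ i₂ i₃ j h ≫
      (mapBifunctorMap φ (𝟙 (mapBifunctor K₂ K₃ (ModSite.tensorBi O) (ComplexShape.up ℤ)))
        (ModSite.tensorBi O) (ComplexShape.up ℤ)).f j =
    ((ModSite.tensorBi O).map (φ.f i₁)).app
        (((ModSite.tensorBi O).obj (K₂.X i₂)).obj (K₃.X i₃)) ≫
      mapBifunctor₂₃.ι (ModSite.tensorBi O) (ModSite.tensorBi O) K₁' K₂ K₃ (ComplexShape.up ℤ)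
        (ComplexShape.up ℤ) (ComplexShape.up ℤ) i₁ i₂ i₃ j h := by
  have hj : ComplexShape.π (ComplexShape.up ℤ) (ComplexShape.up ℤ) (ComplexShape.up ℤ)
      (i₁, i₂ + i₃) = j := by
    rw [← h]
    change i₁ + (i₂ + i₃) = i₁ + i₂ + i₃
    ring
  rw [mapBifunctor₂₃.ι_eq _ _ _ _ _ (ComplexShape.up ℤ) _ _ i₁ i₂ i₃ (i₂ + i₃) j rfl hj,
    mapBifunctor₂₃.ι_eq _ _ _ _ _ (ComplexShape.up ℤ) _ _ i₁ i₂ i₃ (i₂ + i₃) j rfl hj,
    Category.assoc, ι_mapBifunctorMap]
  simp only [id_f]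
  rw [← NatTrans.naturality_assoc]
  simp

/-- naturality of the associativity isomorphism of total tensor complexes in the first variable -/
theorem totAssoc_hom_naturality :
    mapBifunctorMap (mapBifunctorMap φ (𝟙 K₂) (ModSite.tensorBi O) (ComplexShape.up ℤ)) (𝟙 K₃)
        (ModSite.tensorBi O) (ComplexShape.up ℤ) ≫ (totAssoc K₁' K₂ K₃).hom =
      (totAssoc K₁ K₂ K₃).hom ≫
        mapBifunctorMap φ (𝟙 (mapBifunctor K₂ K₃ (ModSite.tensorBi O) (ComplexShape.up ℤ)))
          (ModSite.tensorBi O) (ComplexShape.up ℤ) := by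
  ext j : 1
  apply mapBifunctor₁₂.hom_ext
  intro i₁ i₂ i₃ h
  simp only [comp_f, totAssoc, mapBifunctorAssociator, Hom.isoOfComponents_hom_f]
  rw [ι₁₂_map_assoc, ι_mapBifunctorAssociatorX_hom, ι_mapBifunctorAssociatorX_hom_assoc]
  erw [ι₂₃_map φ K₂ K₃ i₁ i₂ i₃ j h]
  have := NatTrans.naturality_app_app (assocT O).hom (φ.f i₁) (K₂.X i₂) (K₃.X i₃)
  exact (Category.assoc _ _ _).symm.trans ((congrArg (· ≫ _) this).trans (Category.assoc _ _ _))

end Naturality

section Derived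

open Groth.Agent.Lib.Helper1

variable (K L : CochainComplex (ModSite.Mod O) ℤ)

/-- `(- ⊗ K) ⊗ L ≅ - ⊗ (K ⊗ L)` as functors on complexes -/
noncomputable def assocNat :
    (ModSite.tensorCx O).flip.obj K ⋙ (ModSite.tensorCx O).flip.obj L ≅
      (ModSite.tensorCx O).flip.obj (((ModSite.tensorCx O).obj K).obj L) :=
  NatIso.ofComponents (fun C => totAssoc C K L) (fun φ => totAssoc_hom_naturality φ K L)

variable [ModSite.HasLTensorCx K] [ModSite.HasLTensorCx L]

/-- the counit of `- ⊗^L L` is an isomorphism when `L` is K-flat -/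
theorem isIso_counit_of_isKFlat_right (hL : ModSite.IsKFlat L) :
    IsIso ((ModSite.tensorCxQ L).totalLeftDerivedCounit DerivedCategory.Q
      (HomologicalComplex.quasiIso (ModSite.Mod O) (ComplexShape.up ℤ))) :=
  Functor.isIso_of_isLeftDerivedFunctor_of_inverts _ _ (inverts_tensorCxQ_of_isKFlat L hL)

/-- the comparison `(C ⊗^L K) ⊗^L L ⟶ C ⊗ (K ⊗ L)` -/
noncomputable def gamma :
    DerivedCategory.Q ⋙ (ModSite.LTensorCx K ⋙ ModSite.LTensorCx L) ⟶
      ModSite.tensorCxQ (((ModSite.tensorCx O).obj K).obj L) :=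
  (Functor.associator _ _ _).inv ≫
    Functor.whiskerRight ((ModSite.tensorCxQ K).totalLeftDerivedCounit DerivedCategory.Q
      (HomologicalComplex.quasiIso (ModSite.Mod O) (ComplexShape.up ℤ))) (ModSite.LTensorCx L) ≫
    (Functor.associator _ _ _).hom ≫
    Functor.whiskerLeft ((ModSite.tensorCx O).flip.obj K)
      ((ModSite.tensorCxQ L).totalLeftDerivedCounit DerivedCategory.Q
        (HomologicalComplex.quasiIso (ModSite.Mod O) (ComplexShape.up ℤ))) ≫
    (Functor.associator _ _ _).inv ≫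
    Functor.whiskerRight (assocNat K L).hom DerivedCategory.Q

lemma isIso_gamma_app (hL : ModSite.IsKFlat L) (X : CochainComplex (ModSite.Mod O) ℤ)
    (hX : ModSite.IsKFlat X) : IsIso ((gamma K L).app X) := by
  haveI := isIso_counit_of_isKFlat K _ ((ModSite.tensorCxQ K).totalLeftDerivedCounit
    DerivedCategory.Q (HomologicalComplex.quasiIso (ModSite.Mod O) (ComplexShape.up ℤ))) X hX
  haveI := isIso_counit_of_isKFlat_right L hL
  dsimp only [gamma]
  simp only [NatTrans.comp_app, Functor.associator_inv_app, Functor.associator_hom_app,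
    Functor.whiskerRight_app, Functor.whiskerLeft_app]
  infer_instance

variable [ModSite.HasLTensorCx (((ModSite.tensorCx O).obj K).obj L)]

theorem isLeftDerivedFunctor_gamma (hL : ModSite.IsKFlat L) :
    (ModSite.LTensorCx K ⋙ ModSite.LTensorCx L).IsLeftDerivedFunctor (gamma K L)
      (HomologicalComplex.quasiIso (ModSite.Mod O) (ComplexShape.up ℤ)) := by
  obtain ⟨R, ψ, hR⟩ := exists_functorial_kflat_flat_resolution O
  exact LDerRes.isLeftDerivedFunctor_of_isIso_good DerivedCategory.Q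
    (HomologicalComplex.quasiIso (ModSite.Mod O) (ComplexShape.up ℤ))
    (ModSite.tensorCxQ (((ModSite.tensorCx O).obj K).obj L)) R ψ
    (fun X => (hR X).2.2.1) (fun X => ModSite.IsKFlat X) (fun X => (hR X).1)
    (fun X Y f hf hX hY => by
      haveI : QuasiIso f := (HomologicalComplex.mem_quasiIso_iff f).1 hf
      haveI := quasiIso_TR_map_of_isKFlat_of_isKFlat X Y hX hY f
        (((ModSite.tensorCx O).obj K).obj L)
      exact inferInstanceAs (IsIso (DerivedCategory.Q.map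
        ((TR (ModSite.tensorBi O) (((ModSite.tensorCx O).obj K).obj L)).map f))))
    (ModSite.LTensorCx K ⋙ ModSite.LTensorCx L) (gamma K L)
    (fun X hX => isIso_gamma_app K L hL X hX)

/-- mixed associativity of the derived tensor product: `(- ⊗^L K) ⊗^L L ≅ - ⊗^L (K ⊗ L)` for `L`
K-flat -/
noncomputable def lTensorAssoc (hL : ModSite.IsKFlat L) :
    ModSite.LTensorCx K ⋙ ModSite.LTensorCx L ≅
      ModSite.LTensorCx (((ModSite.tensorCx O).obj K).obj L) :=
  haveI := isLeftDerivedFunctor_gamma K L hL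
  Functor.leftDerivedUnique (LF := ModSite.LTensorCx K ⋙ ModSite.LTensorCx L)
    (LF' := ModSite.LTensorCx (((ModSite.tensorCx O).obj K).obj L))
    (α := gamma K L)
    (α'₂ := (ModSite.tensorCxQ (((ModSite.tensorCx O).obj K).obj L)).totalLeftDerivedCounit
      DerivedCategory.Q (HomologicalComplex.quasiIso (ModSite.Mod O) (ComplexShape.up ℤ)))
    (HomologicalComplex.quasiIso (ModSite.Mod O) (ComplexShape.up ℤ))

end Derived

end Groth.Agent.R2.H27.LTensorAssoc
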