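import Mathlib

/-!
# A lax comparison map for total complexes (helper27)

Given bifunctors `F : C₁ ⥤ C₂ ⥤ D`, `F' : C₁' ⥤ C₂' ⥤ D'`, functors `G₁ : C₁' ⥤ C₁`, `G₂ : C₂ ⥤ C₂'`,
`G : D' ⥤ D` and a family `τ M N : F(G₁ M, N) ⟶ G(F'(M, G₂ N))` natural in both variables, we construct
the morphism of complexes `Tot F(G₁ K, N) ⟶ G(Tot F'(K, G₂ N))` (no preservation of coproducts by `G` is
needed).  The example is the projection morphism `f_* K ⊗ N ⟶ f_*(K ⊗ f^* N)`.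
-/

set_option autoImplicit false
set_option linter.unusedSectionVars false
universe v₁ v₂ v₃ v₄ v₅ v₆ u₁ u₂ u₃ u₄ u₅ u₆
open CategoryTheory CategoryTheory.Limits HomologicalComplex

namespace Groth.Agent.R2.H27.LaxTot

variable {C₁ : Type u₁} [Category.{v₁} C₁] {C₂ : Type u₂} [Category.{v₂} C₂]
  {D : Type u₃} [Category.{v₃} D]
  {C₁' : Type u₄} [Category.{v₄} C₁'] {C₂' : Type u₅} [Category.{v₅} C₂']
  {D' : Type u₆} [Category.{v₆} D']
  [Preadditive C₁] [Preadditive C₂] [Preadditive D] [Preadditive C₁'] [Preadditive C₂']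
  [Preadditive D']
  (F : C₁ ⥤ C₂ ⥤ D) [F.PreservesZeroMorphisms] [∀ X, (F.obj X).PreservesZeroMorphisms]
  (F' : C₁' ⥤ C₂' ⥤ D') [F'.PreservesZeroMorphisms] [∀ X, (F'.obj X).PreservesZeroMorphisms]
  (G₁ : C₁' ⥤ C₁) [G₁.PreservesZeroMorphisms] (G₂ : C₂ ⥤ C₂') [G₂.PreservesZeroMorphisms]
  (G : D' ⥤ D) [G.Additive]

/-- a family of maps `F(G₁ M, N) ⟶ G(F'(M, G₂ N))`, natural in both variables -/
structure LaxData where
  /-- the maps -/
  τ : ∀ (M : C₁') (N : C₂), (F.obj (G₁.obj M)).obj N ⟶ G.obj ((F'.obj M).obj (G₂.obj N))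
  nat₁ : ∀ {M M' : C₁'} (g : M ⟶ M') (N : C₂),
    (F.map (G₁.map g)).app N ≫ τ M' N = τ M N ≫ G.map ((F'.map g).app (G₂.obj N))
  nat₂ : ∀ (M : C₁') {N N' : C₂} (φ : N ⟶ N'),
    (F.obj (G₁.obj M)).map φ ≫ τ M N' = τ M N ≫ G.map ((F'.obj M).map (G₂.map φ))

variable {F F' G₁ G₂ G} (t : LaxData F F' G₁ G₂ G)
  (K : CochainComplex C₁' ℤ) (N : CochainComplex C₂ ℤ)

/-- `G₁ K` -/
noncomputable abbrev K₁ (G₁ : C₁' ⥤ C₁) [G₁.PreservesZeroMorphisms] (K : CochainComplex C₁' ℤ) :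
    CochainComplex C₁ ℤ := (G₁.mapHomologicalComplex (ComplexShape.up ℤ)).obj K

/-- `G₂ N` -/
noncomputable abbrev N₂ (G₂ : C₂ ⥤ C₂') [G₂.PreservesZeroMorphisms] (N : CochainComplex C₂ ℤ) :
    CochainComplex C₂' ℤ := (G₂.mapHomologicalComplex (ComplexShape.up ℤ)).obj N

/-- `τ` on the terms of the complexes -/
def τX (p q : ℤ) : (F.obj ((K₁ G₁ K).X p)).obj (N.X q) ⟶
    G.obj ((F'.obj (K.X p)).obj ((N₂ G₂ N).X q)) :=
  t.τ (K.X p) (N.X q)

lemma τX_nat₁ (p p' q : ℤ) :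
    (F.map ((K₁ G₁ K).d p p')).app (N.X q) ≫ τX t K N p' q =
      τX t K N p q ≫ G.map ((F'.map (K.d p p')).app ((N₂ G₂ N).X q)) :=
  t.nat₁ (K.d p p') (N.X q)

lemma τX_nat₂ (p q q' : ℤ) :
    (F.obj ((K₁ G₁ K).X p)).map (N.d q q') ≫ τX t K N p q' =
      τX t K N p q ≫ G.map ((F'.obj (K.X p)).map ((N₂ G₂ N).d q q')) :=
  t.nat₂ (K.X p) (N.d q q')

variable [HasMapBifunctor (K₁ G₁ K) N F (ComplexShape.up ℤ)]
  [HasMapBifunctor K (N₂ G₂ N) F' (ComplexShape.up ℤ)]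

/-- the target complex `G(Tot F'(K, G₂ N))` -/
noncomputable abbrev tgt (F' : C₁' ⥤ C₂' ⥤ D') [F'.PreservesZeroMorphisms]
    [∀ X, (F'.obj X).PreservesZeroMorphisms] (G₂ : C₂ ⥤ C₂') [G₂.PreservesZeroMorphisms]
    (G : D' ⥤ D) [G.Additive] (K : CochainComplex C₁' ℤ) (N : CochainComplex C₂ ℤ)
    [HasMapBifunctor K (N₂ G₂ N) F' (ComplexShape.up ℤ)] : CochainComplex D ℤ :=
  (G.mapHomologicalComplex (ComplexShape.up ℤ)).obj
    (mapBifunctor K (N₂ G₂ N) F' (ComplexShape.up ℤ))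

/-- `G.map`, with codomain a term of the target complex -/
noncomputable def GmapX (F' : C₁' ⥤ C₂' ⥤ D') [F'.PreservesZeroMorphisms]
    [∀ X, (F'.obj X).PreservesZeroMorphisms] (G₂ : C₂ ⥤ C₂') [G₂.PreservesZeroMorphisms]
    (G : D' ⥤ D) [G.Additive] (K : CochainComplex C₁' ℤ) (N : CochainComplex C₂ ℤ)
    [HasMapBifunctor K (N₂ G₂ N) F' (ComplexShape.up ℤ)] {A : D'} (n : ℤ)
    (φ : A ⟶ (mapBifunctor K (N₂ G₂ N) F' (ComplexShape.up ℤ)).X n) :
    G.obj A ⟶ (tgt F' G₂ G K N).X n :=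
  G.map φ

section GmapX

variable (F' G₂ G)

lemma GmapX_add {A : D'} (n : ℤ)
    (φ ψ : A ⟶ (mapBifunctor K (N₂ G₂ N) F' (ComplexShape.up ℤ)).X n) :
    GmapX F' G₂ G K N n (φ + ψ) = GmapX F' G₂ G K N n φ + GmapX F' G₂ G K N n ψ :=
  G.map_add

lemma GmapX_units_smul {A : D'} (n : ℤ) (ε : ℤˣ)
    (φ : A ⟶ (mapBifunctor K (N₂ G₂ N) F' (ComplexShape.up ℤ)).X n) :
    GmapX F' G₂ G K N n (ε • φ) = ε • GmapX F' G₂ G K N n φ :=
  G.map_units_smul ε φ

lemma GmapX_comp {A B : D'} (n : ℤ) (ψ : A ⟶ B)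
    (φ : B ⟶ (mapBifunctor K (N₂ G₂ N) F' (ComplexShape.up ℤ)).X n) :
    GmapX F' G₂ G K N n (ψ ≫ φ) = G.map ψ ≫ GmapX F' G₂ G K N n φ :=
  G.map_comp ψ φ

lemma GmapX_d {A : D'} (n n' : ℤ)
    (φ : A ⟶ (mapBifunctor K (N₂ G₂ N) F' (ComplexShape.up ℤ)).X n) :
    GmapX F' G₂ G K N n φ ≫ (tgt F' G₂ G K N).d n n' =
      GmapX F' G₂ G K N n' (φ ≫ (mapBifunctor K (N₂ G₂ N) F' (ComplexShape.up ℤ)).d n n') :=
  (G.map_comp _ _).symm

end GmapX

/-- the components of the lax comparison map -/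
noncomputable def laxTotF (n : ℤ) :
    (mapBifunctor (K₁ G₁ K) N F (ComplexShape.up ℤ)).X n ⟶ (tgt F' G₂ G K N).X n :=
  mapBifunctorDesc (fun p q h => τX t K N p q ≫
    GmapX F' G₂ G K N n (ιMapBifunctor K (N₂ G₂ N) F' (ComplexShape.up ℤ) p q n h))

lemma ι_laxTotF (p q n : ℤ)
    (h : ComplexShape.π (ComplexShape.up ℤ) (ComplexShape.up ℤ) (ComplexShape.up ℤ) (p, q) = n) :
    ιMapBifunctor (K₁ G₁ K) N F (ComplexShape.up ℤ) p q n h ≫ laxTotF t K N n =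
      τX t K N p q ≫
        GmapX F' G₂ G K N n (ιMapBifunctor K (N₂ G₂ N) F' (ComplexShape.up ℤ) p q n h) := by
  unfold laxTotF
  exact ι_mapBifunctorDesc _ p q h

/-- the lax comparison map `Tot F(G₁ K, N) ⟶ G(Tot F'(K, G₂ N))` -/
noncomputable def laxTot :
    mapBifunctor (K₁ G₁ K) N F (ComplexShape.up ℤ) ⟶ tgt F' G₂ G K N where
  f n := laxTotF t K N n
  comm' n n' hnn' := by
    have hn : n + 1 = n' := hnn'
    apply mapBifunctor.hom_ext
    intro p q h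
    have h' : p + q = n := h
    have hp : (ComplexShape.up ℤ).Rel p (p + 1) := rfl
    have hq : (ComplexShape.up ℤ).Rel q (q + 1) := rfl
    have h1 : ComplexShape.π (ComplexShape.up ℤ) (ComplexShape.up ℤ) (ComplexShape.up ℤ)
        (p + 1, q) = n' := by change p + 1 + q = n'; omega
    have h2 : ComplexShape.π (ComplexShape.up ℤ) (ComplexShape.up ℤ) (ComplexShape.up ℤ)
        (p, q + 1) = n' := by change p + (q + 1) = n'; omega
    rw [← Category.assoc, ι_laxTotF t K N p q n h, Category.assoc, GmapX_d,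
      mapBifunctor.d_eq, Preadditive.comp_add, mapBifunctor.ι_D₁,
      mapBifunctor.ι_D₂, mapBifunctor.d₁_eq _ _ _ _ hp q n' h1,
      mapBifunctor.d₂_eq _ _ _ _ p hq n' h2, GmapX_add, GmapX_units_smul, GmapX_units_smul,
      GmapX_comp, GmapX_comp]
    rw [mapBifunctor.d_eq, Preadditive.add_comp, Preadditive.comp_add, Preadditive.comp_add,
      ← Category.assoc, mapBifunctor.ι_D₁, ← Category.assoc, mapBifunctor.ι_D₂,
      mapBifunctor.d₁_eq _ _ _ _ hp q n' h1, mapBifunctor.d₂_eq _ _ _ _ p hq n' h2]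
    rw [Linear.units_smul_comp, Linear.units_smul_comp,
      Linear.comp_units_smul, Linear.comp_units_smul, Category.assoc, Category.assoc,
      ι_laxTotF t K N (p + 1) q n' h1, ι_laxTotF t K N p (q + 1) n' h2,
      ← Category.assoc, ← τX_nat₁, ← Category.assoc (τX t K N p q), ← τX_nat₂]
    simp only [Category.assoc]

@[simp]
lemma laxTot_f (n : ℤ) : (laxTot t K N).f n = laxTotF t K N n := rfl

section Naturality

variable {N} {N' : CochainComplex C₂ ℤ} (a : N ⟶ N')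
  [HasMapBifunctor (K₁ G₁ K) N' F (ComplexShape.up ℤ)]
  [HasMapBifunctor K (N₂ G₂ N') F' (ComplexShape.up ℤ)]

/-- naturality of the lax comparison map in the second variable -/
lemma laxTot_naturality₂ :
    mapBifunctorMap (𝟙 (K₁ G₁ K)) a F (ComplexShape.up ℤ) ≫ laxTot t K N' =
      laxTot t K N ≫ (G.mapHomologicalComplex (ComplexShape.up ℤ)).map
        (mapBifunctorMap (𝟙 K) ((G₂.mapHomologicalComplex (ComplexShape.up ℤ)).map a) F'
          (ComplexShape.up ℤ)) := by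
  ext n p q h
  have e1 : (F.map ((𝟙 (K₁ G₁ K) : K₁ G₁ K ⟶ K₁ G₁ K).f p)).app (N.X q) = 𝟙 _ := by
    rw [HomologicalComplex.id_f, F.map_id]; rfl
  have e2 : (F'.map ((𝟙 K : K ⟶ K).f p)).app ((N₂ G₂ N).X q) = 𝟙 _ := by
    rw [HomologicalComplex.id_f, F'.map_id]; rfl
  have h3 : GmapX F' G₂ G K N n (ιMapBifunctor K (N₂ G₂ N) F' (ComplexShape.up ℤ) p q n h) ≫
      ((G.mapHomologicalComplex (ComplexShape.up ℤ)).map
        (mapBifunctorMap (𝟙 K) ((G₂.mapHomologicalComplex (ComplexShape.up ℤ)).map a) F'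
          (ComplexShape.up ℤ))).f n =
      G.map ((F'.obj (K.X p)).map (((G₂.mapHomologicalComplex (ComplexShape.up ℤ)).map a).f q)) ≫
        GmapX F' G₂ G K N' n (ιMapBifunctor K (N₂ G₂ N') F' (ComplexShape.up ℤ) p q n h) := by
    have := ι_mapBifunctorMap (𝟙 K) ((G₂.mapHomologicalComplex (ComplexShape.up ℤ)).map a) F'
      (ComplexShape.up ℤ) p q n h
    rw [e2, Category.id_comp] at this
    have h4 := congrArg G.map this
    rw [G.map_comp, G.map_comp] at h4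
    exact h4
  rw [HomologicalComplex.comp_f, HomologicalComplex.comp_f, ← Category.assoc,
    ι_mapBifunctorMap, e1, Category.id_comp, Category.assoc, laxTot_f, laxTot_f,
    ι_laxTotF t K N' p q n h, ← Category.assoc (ιMapBifunctor (K₁ G₁ K) N F _ p q n h),
    ι_laxTotF t K N p q n h, Category.assoc, h3, ← Category.assoc, ← Category.assoc]
  congr 1
  exact t.nat₂ (K.X p) (a.f q)

end Naturality

end Groth.Agent.R2.H27.LaxTot
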