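import Mathlib
import Groth.Agent.R2.H27LaxTot

/-!
# When the lax comparison map of total complexes is invertible (helper27)

* `isColimit_mapCocone_of_finite_support`: an additive functor preserves the coproduct of a family
  all of whose members, except finitely many, are zero.
* `isIso_map_laxTotF`: the lax comparison map `Tot F(G₁ K, N) ⟶ G(Tot F'(K, G₂ N))` becomes
  invertible after applying a functor `R` as soon as its components do and the relevant coproducts
  are preserved.
-/

set_option autoImplicit false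
set_option linter.unusedSectionVars false
universe v₁ v₂ v₃ v₄ v₅ v₆ v₇ u₁ u₂ u₃ u₄ u₅ u₆ u₇
open CategoryTheory CategoryTheory.Limits HomologicalComplex

namespace Groth.Agent.R2.H27.LaxTot

section EssFinite

variable {A : Type u₁} [Category.{v₁} A] {B : Type u₂} [Category.{v₂} B]
  [Preadditive A] [Preadditive B] (H : A ⥤ B) [H.Additive]

open Classical in
/-- an additive functor preserves coproducts of families with finite support -/
theorem isColimit_mapCocone_of_finite_support {ι : Type*} (X : ι → A) (S : Finset ι)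
    (hS : ∀ i, i ∉ S → IsZero (X i)) (c : Cofan X) (hc : IsColimit c) :
    Nonempty (IsColimit (H.mapCocone c)) := by
  -- projections
  let π : ∀ i : ι, c.pt ⟶ X i := fun i =>
    Cofan.IsColimit.desc hc (fun j => if h : j = i then eqToHom (by rw [h]) else 0)
  have hπ : ∀ i j, c.inj j ≫ π i = if h : j = i then eqToHom (by rw [h]) else 0 := by
    intro i j
    exact Cofan.IsColimit.fac hc _ j
  have hπ_self : ∀ i, c.inj i ≫ π i = 𝟙 _ := by
    intro i
    rw [hπ, dif_pos rfl]; rfl
  have hπ_ne : ∀ i j, j ≠ i → c.inj j ≫ π i = 0 := by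
    intro i j hji
    rw [hπ, dif_neg hji]
  have hid : 𝟙 c.pt = ∑ i ∈ S, π i ≫ c.inj i := by
    apply Cofan.IsColimit.hom_ext hc
    intro j
    rw [Category.comp_id, Preadditive.comp_sum]
    by_cases hj : j ∈ S
    · rw [Finset.sum_eq_single j]
      · rw [← Category.assoc, hπ_self, Category.id_comp]
      · intro i _ hij
        rw [← Category.assoc, hπ_ne i j (Ne.symm hij), zero_comp]
      · intro h; exact absurd hj h
    · rw [(hS j hj).eq_of_src (c.inj j) 0]
      simp
  refine ⟨{ desc := fun s => ∑ i ∈ S, H.map (π i) ≫ s.ι.app ⟨i⟩, fac := ?_, uniq := ?_ }⟩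
  · rintro s ⟨j⟩
    change H.map (c.inj j) ≫ _ = s.ι.app ⟨j⟩
    rw [Preadditive.comp_sum]
    by_cases hj : j ∈ S
    · rw [Finset.sum_eq_single j]
      · rw [← Category.assoc, ← H.map_comp, hπ_self, H.map_id, Category.id_comp]
      · intro i _ hij
        rw [← Category.assoc, ← H.map_comp, hπ_ne i j (Ne.symm hij), H.map_zero, zero_comp]
      · intro h; exact absurd hj h
    · have hz : IsZero (H.obj (X j)) := H.map_isZero (hS j hj)
      exact hz.eq_of_src _ _
  · intro s m hm
    have h1 : m = H.map (𝟙 c.pt) ≫ m := by rw [H.map_id, Category.id_comp]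
    rw [h1, hid, H.map_sum, Preadditive.sum_comp]
    apply Finset.sum_congr rfl
    intro i _
    rw [H.map_comp, Category.assoc]
    congr 1
    exact hm ⟨i⟩

/-- preservation form -/
theorem preservesColimit_of_finite_support {ι : Type*} (X : ι → A) (S : Finset ι)
    (hS : ∀ i, i ∉ S → IsZero (X i)) [HasColimit (Discrete.functor X)] :
    PreservesColimit (Discrete.functor X) H := by
  obtain ⟨h⟩ := isColimit_mapCocone_of_finite_support H X S hS _ (colimit.isColimit _)
  exact preservesColimit_of_preserves_colimit_cocone (colimit.isColimit _) h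

end EssFinite

section Iso

variable {C₁ : Type u₁} [Category.{v₁} C₁] {C₂ : Type u₂} [Category.{v₂} C₂]
  {D : Type u₃} [Category.{v₃} D]
  {C₁' : Type u₄} [Category.{v₄} C₁'] {C₂' : Type u₅} [Category.{v₅} C₂']
  {D' : Type u₆} [Category.{v₆} D'] {E : Type u₇} [Category.{v₇} E]
  [Preadditive C₁] [Preadditive C₂] [Preadditive D] [Preadditive C₁'] [Preadditive C₂']
  [Preadditive D'] [Preadditive E]
  {F : C₁ ⥤ C₂ ⥤ D} [F.PreservesZeroMorphisms] [∀ X, (F.obj X).PreservesZeroMorphisms]
  {F' : C₁' ⥤ C₂' ⥤ D'} [F'.PreservesZeroMorphisms] [∀ X, (F'.obj X).PreservesZeroMorphisms]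
  {G₁ : C₁' ⥤ C₁} [G₁.PreservesZeroMorphisms] {G₂ : C₂ ⥤ C₂'} [G₂.PreservesZeroMorphisms]
  {G : D' ⥤ D} [G.Additive] (t : LaxData F F' G₁ G₂ G)
  (K : CochainComplex C₁' ℤ) (N : CochainComplex C₂ ℤ)
  [HasMapBifunctor (K₁ G₁ K) N F (ComplexShape.up ℤ)]
  [HasMapBifunctor K (N₂ G₂ N) F' (ComplexShape.up ℤ)]
  (R : D ⥤ E)

/-- the bicomplex `F(G₁ K^p, N^q)` -/
noncomputable abbrev BY : HomologicalComplex₂ D (ComplexShape.up ℤ) (ComplexShape.up ℤ) :=
  ((F.mapBifunctorHomologicalComplex (ComplexShape.up ℤ) (ComplexShape.up ℤ)).obj (K₁ G₁ K)).obj N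

/-- the bicomplex `F'(K^p, G₂ N^q)` -/
noncomputable abbrev BX : HomologicalComplex₂ D' (ComplexShape.up ℤ) (ComplexShape.up ℤ) :=
  ((F'.mapBifunctorHomologicalComplex (ComplexShape.up ℤ) (ComplexShape.up ℤ)).obj K).obj
    (N₂ G₂ N)

/-- the lax comparison map becomes invertible after applying `R` if its components do and the
coproducts involved are preserved -/
theorem isIso_map_laxTotF (n : ℤ)
    [hR : PreservesColimit (Discrete.functor ((BY (F := F) (G₁ := G₁) K N).toGradedObject.mapObjFun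
      (ComplexShape.π (ComplexShape.up ℤ) (ComplexShape.up ℤ) (ComplexShape.up ℤ)) n)) R]
    [hGR : PreservesColimit (Discrete.functor ((BX (F' := F') (G₂ := G₂) K N).toGradedObject.mapObjFun
      (ComplexShape.π (ComplexShape.up ℤ) (ComplexShape.up ℤ) (ComplexShape.up ℤ)) n)) (G ⋙ R)]
    (hτ : ∀ p q : ℤ, p + q = n → IsIso (R.map (t.τ (K.X p) (N.X q)))) :
    IsIso (R.map (laxTotF t K N n)) := by
  let πs := ComplexShape.π (ComplexShape.up ℤ) (ComplexShape.up ℤ) (ComplexShape.up ℤ)
  let cY := (BY (F := F) (G₁ := G₁) K N).toGradedObject.cofanMapObj πs n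
  let cX := (BX (F' := F') (G₂ := G₂) K N).toGradedObject.cofanMapObj πs n
  have hcY : IsColimit (R.mapCocone cY) :=
    isColimitOfPreserves R ((BY (F := F) (G₁ := G₁) K N).toGradedObject.isColimitCofanMapObj πs n)
  have hcX : IsColimit ((G ⋙ R).mapCocone cX) :=
    isColimitOfPreserves (G ⋙ R)
      ((BX (F' := F') (G₂ := G₂) K N).toGradedObject.isColimitCofanMapObj πs n)
  have hτ' : ∀ x : πs ⁻¹' {n}, IsIso (R.map (t.τ (K.X x.1.1) (N.X x.1.2))) :=
    fun x => hτ x.1.1 x.1.2 x.2
  let w : Discrete.functor ((BY (F := F) (G₁ := G₁) K N).toGradedObject.mapObjFun πs n) ⋙ R ≅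
      Discrete.functor ((BX (F' := F') (G₂ := G₂) K N).toGradedObject.mapObjFun πs n) ⋙ (G ⋙ R) :=
    Discrete.natIso (fun x => @asIso _ _ _ _ (R.map (t.τ (K.X x.as.1.1) (N.X x.as.1.2))) (hτ' x.as))
  have he : R.map (laxTotF t K N n) = (IsColimit.coconePointsIsoOfNatIso hcY hcX w).hom := by
    apply hcY.hom_ext
    rintro ⟨⟨⟨p, q⟩, h⟩⟩
    have key := IsColimit.comp_coconePointsIsoOfNatIso_hom hcY hcX w ⟨⟨(p, q), h⟩⟩
    have h1 := ι_laxTotF t K N p q n h
    have h2 := congrArg R.map h1
    rw [R.map_comp, R.map_comp] at h2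
    exact h2.trans key.symm
  rw [he]
  infer_instance

end Iso

end Groth.Agent.R2.H27.LaxTot
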