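import Mathlib
import Groth.Agent.Lib.Helper17KInjD5
import Groth.Agent.Lib.Helper1Sky8
import Groth.Agent.S0484
set_option backward.isDefEq.respectTransparency.types false

/-!
# The derived adjunction `Lf^* ⊣ Rf_*` on `D(O_X)` (helper4, round 2)

For a morphism of schemes `f : X ⟶ Y` the total derived functors `Lf^* : D(O_Y) ⥤ D(O_X)` and
`Rf_* : D(O_X) ⥤ D(O_Y)` (the prelude's `DCoh.Lpull f`, `DCoh.Rpush f`) are adjoint.  Both are
absolute derived functors: `Lf^*` is computed on K-flat complexes with flat terms and `Rf_*` on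
K-injective complexes, so Mathlib's `Adjunction.derived` applies.
-/

set_option autoImplicit false
universe u
open CategoryTheory CategoryTheory.Limits AlgebraicGeometry HomologicalComplex

attribute [local instance] HasDerivedCategory.standard

namespace Groth.Agent.R2.H4.DerivedAdj

open Groth.Agent.Lib.Helper1.BKF Groth.Agent.Lib.Helper1.CI Groth.Agent.Lib.Helper1.Sky
open Groth.Agent.Lib.Helper17.KInj

/-- `O_X`-modules form a Grothendieck abelian category. -/
instance isGrothendieckAbelian_modules (X : Scheme.{u}) : IsGrothendieckAbelian.{u} X.Modules :=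
  Groth.Agent.S0484.result (Opens.grothendieckTopology X) X.ringCatSheaf

variable {X Y : Scheme.{u}} (f : X ⟶ Y)

/-- termwise pushforward of complexes -/
noncomputable abbrev pushC : CochainComplex X.Modules ℤ ⥤ CochainComplex Y.Modules ℤ :=
  (Scheme.Modules.pushforward f).mapHomologicalComplex (ComplexShape.up ℤ)

/-- the adjunction `f^* ⊣ f_*` on complexes -/
noncomputable def adjC : pullC f ⊣ pushC f :=
  Groth.Agent.Lib.Helper17.SerreLoc.adjHC (Scheme.Modules.pullbackPushforwardAdjunction f)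
    (ComplexShape.up ℤ)

section Left

variable [DCoh.HasLpull f]

/-- the counit `Lf^* K ⟶ f^* K`, along the localization functors `Q`. -/
noncomputable def lpullCounitQ :
    (DerivedCategory.Q : CochainComplex Y.Modules ℤ ⥤ DCoh.D Y) ⋙ DCoh.Lpull f ⟶
      pullC f ⋙ (DerivedCategory.Q : CochainComplex X.Modules ℤ ⥤ DCoh.D X) :=
  Functor.whiskerRight (DerivedCategory.quotientCompQhIso Y.Modules).inv (DCoh.Lpull f) ≫
    lpullCounit f ≫ (facIso f).hom ≫
    Functor.whiskerLeft (pullC f) (DerivedCategory.quotientCompQhIso X.Modules).hom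

lemma isIso_lpullCounitQ_app (E : CochainComplex Y.Modules ℤ) (hE : KFFs E) :
    IsIso ((lpullCounitQ f).app E) := by
  haveI := isIso_lpullCounit_app f E hE
  dsimp only [lpullCounitQ]
  simp only [NatTrans.comp_app, Functor.whiskerRight_app, Functor.whiskerLeft_app]
  infer_instance

omit [DCoh.HasLpull f] in
lemma isIso_pullC_Q_map {E E' : CochainComplex Y.Modules ℤ} (q : E ⟶ E') [QuasiIso q]
    (hE : KFFs E) (hE' : KFFs E') :
    IsIso ((pullC f ⋙ (DerivedCategory.Q : CochainComplex X.Modules ℤ ⥤ DCoh.D X)).map q) := by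
  have h1 : QuasiIso ((pullC f).map q) := quasiIso_pullC_map f q hE hE'
  change IsIso (DerivedCategory.Q.map ((pullC f).map q))
  rw [DerivedCategory.isIso_Q_map_iff_quasiIso]
  exact h1

omit [DCoh.HasLpull f] in
/-- a criterion for left derived functors of functors of the form `f^* ⋙ Q ⋙ E`. -/
theorem isLeftDerivedFunctor_of_isIso_kffs {H : Type*} [Category H] (E : DCoh.D X ⥤ H)
    (G : DCoh.D Y ⥤ H)
    (γ : (DerivedCategory.Q : CochainComplex Y.Modules ℤ ⥤ DCoh.D Y) ⋙ G ⟶
      (pullC f ⋙ (DerivedCategory.Q : CochainComplex X.Modules ℤ ⥤ DCoh.D X)) ⋙ E)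
    (hγ : ∀ K, KFFs K → IsIso (γ.app K)) :
    G.IsLeftDerivedFunctor γ (HomologicalComplex.quasiIso Y.Modules (ComplexShape.up ℤ)) := by
  obtain ⟨R, ψ, h⟩ : ∃ (R : CochainComplex Y.Modules ℤ ⥤ CochainComplex Y.Modules ℤ)
      (ψ : R ⟶ 𝟭 (CochainComplex Y.Modules ℤ)),
      ∀ G : CochainComplex Y.Modules ℤ, ModSite.IsKFlat (O := Y.sheaf) (R.obj G) ∧
        (∀ n : ℤ, ModSite.IsFlat (O := Y.sheaf) ((R.obj G).X n)) ∧ QuasiIso (ψ.app G) ∧
        ∀ n : ℤ, Epi ((ψ.app G).f n) := exists_functorial_kflat_flat_resolution Y.sheaf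
  exact isLeftDerivedFunctor_of_isIso_app
    (HomologicalComplex.quasiIso Y.Modules (ComplexShape.up ℤ))
    (DerivedCategory.Q : CochainComplex Y.Modules ℤ ⥤ DCoh.D Y)
    ((pullC f ⋙ (DerivedCategory.Q : CochainComplex X.Modules ℤ ⥤ DCoh.D X)) ⋙ E)
    (fun K => KFFs K) R ψ (fun G => ⟨(h G).1, (h G).2.1⟩) (fun G => (h G).2.2.1)
    (fun {K K'} q hK hK' hq => by
      have : QuasiIso q := hq
      haveI := isIso_pullC_Q_map f q hK hK'
      exact inferInstanceAs (IsIso (E.map ((pullC f ⋙ DerivedCategory.Q).map q))))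
    G γ hγ

instance isLeftDerivedFunctor_lpullQ :
    (DCoh.Lpull f).IsLeftDerivedFunctor (lpullCounitQ f)
      (HomologicalComplex.quasiIso Y.Modules (ComplexShape.up ℤ)) := by
  have := isLeftDerivedFunctor_of_isIso_kffs f (𝟭 (DCoh.D X)) (DCoh.Lpull f)
    (lpullCounitQ f ≫ (Functor.rightUnitor _).inv) (fun K hK => by
      haveI := isIso_lpullCounitQ_app f K hK
      rw [NatTrans.comp_app]
      infer_instance)
  constructor
  have h2 := this.isRightKanExtension
  exact (Functor.isRightKanExtension_iff_of_iso₂ (lpullCounitQ f ≫ (Functor.rightUnitor _).inv)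
    (lpullCounitQ f) (Functor.rightUnitor _) (Iso.refl _) (by
      ext K
      simp only [NatTrans.comp_app, Functor.whiskerLeft_app, Iso.refl_hom, NatTrans.id_app,
        Functor.rightUnitor_hom_app, Functor.rightUnitor_inv_app, Category.assoc]
      erw [Category.id_comp, Category.comp_id])).1 h2

end Left

section Right

variable [DCoh.HasRpush f]

/-- the unit `f_* K ⟶ Rf_* K`, along the localization functors `Q`. -/
noncomputable def rpushUnitQ :
    pushC f ⋙ (DerivedCategory.Q : CochainComplex Y.Modules ℤ ⥤ DCoh.D Y) ⟶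
      (DerivedCategory.Q : CochainComplex X.Modules ℤ ⥤ DCoh.D X) ⋙ DCoh.Rpush f :=
  unitOfK (Scheme.Modules.pushforward f) (DCoh.Rpush f)
    ((DCoh.pushKh f).totalRightDerivedUnit DerivedCategory.Qh
      (HomotopyCategory.quasiIso X.Modules (ComplexShape.up ℤ)))

instance isRightDerivedFunctor_rpushQ :
    (DCoh.Rpush f).IsRightDerivedFunctor (rpushUnitQ f)
      (HomologicalComplex.quasiIso X.Modules (ComplexShape.up ℤ)) :=
  isRightDerivedFunctor_unitOfK _ _ _

/-- `Rf_*` is computed on K-injective complexes. -/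
lemma isIso_rpushUnitQ_app (I : CochainComplex X.Modules ℤ) [I.IsKInjective] :
    IsIso ((rpushUnitQ f).app I) :=
  isIso_app_of_isKInjective.{u} (Scheme.Modules.pushforward f) (DCoh.Rpush f) (rpushUnitQ f) I

omit [DCoh.HasRpush f] in
/-- a criterion for right derived functors of functors of the form `f_* ⋙ Q ⋙ E`. -/
theorem isRightDerivedFunctor_of_isIso_kInjective {H : Type*} [Category H] (E : DCoh.D Y ⥤ H)
    (G : DCoh.D X ⥤ H)
    (γ : (pushC f ⋙ (DerivedCategory.Q : CochainComplex Y.Modules ℤ ⥤ DCoh.D Y)) ⋙ E ⟶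
      (DerivedCategory.Q : CochainComplex X.Modules ℤ ⥤ DCoh.D X) ⋙ G)
    (hγ : ∀ (I : CochainComplex X.Modules ℤ), I.IsKInjective → IsIso (γ.app I)) :
    G.IsRightDerivedFunctor γ (HomologicalComplex.quasiIso X.Modules (ComplexShape.up ℤ)) := by
  refine (fibLocalizerMorphism_derives.{u} _ (isInvertedBy_comp
    (isInvertedBy_mapHomologicalComplex_comp_Q.{u} (Scheme.Modules.pushforward f))
    E)).isRightDerivedFunctor_of_isIso _ (fun I => ?_)
  exact hγ I.obj I.property.isKInjective

end Right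

section Adj

variable [DCoh.HasLpull f] [DCoh.HasRpush f]

instance isLeftDerivedFunctor_lpull_comp_rpush :
    (DCoh.Lpull f ⋙ DCoh.Rpush f).IsLeftDerivedFunctor
      ((Functor.associator _ _ _).inv ≫ Functor.whiskerRight (lpullCounitQ f) (DCoh.Rpush f))
      (HomologicalComplex.quasiIso Y.Modules (ComplexShape.up ℤ)) :=
  isLeftDerivedFunctor_of_isIso_kffs f (DCoh.Rpush f) (DCoh.Lpull f ⋙ DCoh.Rpush f) _
    (fun K hK => by
      haveI := isIso_lpullCounitQ_app f K hK
      rw [NatTrans.comp_app, Functor.associator_inv_app, Functor.whiskerRight_app]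
      infer_instance)

instance isRightDerivedFunctor_rpush_comp_lpull :
    (DCoh.Rpush f ⋙ DCoh.Lpull f).IsRightDerivedFunctor
      (Functor.whiskerRight (rpushUnitQ f) (DCoh.Lpull f) ≫ (Functor.associator _ _ _).hom)
      (HomologicalComplex.quasiIso X.Modules (ComplexShape.up ℤ)) :=
  isRightDerivedFunctor_of_isIso_kInjective f (DCoh.Lpull f) (DCoh.Rpush f ⋙ DCoh.Lpull f) _
    (fun I hI => by
      haveI := isIso_rpushUnitQ_app f I
      rw [NatTrans.comp_app, Functor.associator_hom_app, Functor.whiskerRight_app]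
      infer_instance)

/-- The derived adjunction `Lf^* ⊣ Rf_*`. -/
noncomputable def lpullRpushAdj : DCoh.Lpull f ⊣ DCoh.Rpush f :=
  (adjC f).derived (HomologicalComplex.quasiIso Y.Modules (ComplexShape.up ℤ))
    (HomologicalComplex.quasiIso X.Modules (ComplexShape.up ℤ)) (lpullCounitQ f) (rpushUnitQ f)

end Adj

end Groth.Agent.R2.H4.DerivedAdj
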