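import Mathlib
import Groth.Agent.R2.H27ProjClosed
import Groth.Agent.R2.H27LTensorAssoc
import Groth.Agent.R2.H16ClosedImmAdj
import Groth.Agent.R2.H4DerivedAdj
import Groth.Agent.S0960
set_option backward.isDefEq.respectTransparency.types false

/-!
# The derived projection formula for a closed immersion (helper27)

`f_* K ⊗ P ≅ f_*(K ⊗ f^* P)` for complexes, and `Rf_* E ⊗^L P ≅ Rf_*(E ⊗^L f^* P)` for `P` K-flat.
-/

set_option autoImplicit false
set_option linter.style.haveILetI false
universe u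
open CategoryTheory CategoryTheory.Limits AlgebraicGeometry TopologicalSpace Opposite
  MonoidalCategory TensorProduct HomologicalComplex
attribute [local instance] HasDerivedCategory.standard

namespace Groth.Agent.R2.H27.ProjClosedD

open Groth.Agent.Lib.Helper1.PT Groth.Agent.Lib.Helper1.Sky Groth.Agent.Lib.Helper1.StalkTensor
  Groth.Agent.Lib.Helper21.ModTensor2 Groth.Agent.Lib.Helper1.KBC Groth.Agent.Lib.Helper1.BKF
open Groth.Agent.R2.H27.PushStalk Groth.Agent.R2.H27.ProjClosed
open Groth.Agent.R2.H4.DerivedAdj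

section Complexes

variable {X Y : Scheme.{u}} (f : X ⟶ Y)

/-- `(M, N) ↦ f_* M ⊗ N` -/
noncomputable abbrev HA : X.Modules ⥤ Y.Modules ⥤ Y.Modules :=
  psh f ⋙ DCoh.tensorBi (X := Y) ⋙ (Functor.whiskeringLeft _ _ _).obj (𝟭 Y.Modules)

/-- `(M, N) ↦ M ⊗ f^* N` -/
noncomputable abbrev HB0 : X.Modules ⥤ Y.Modules ⥤ X.Modules :=
  𝟭 X.Modules ⋙ DCoh.tensorBi (X := X) ⋙ (Functor.whiskeringLeft _ _ _).obj (plb f)

/-- `(M, N) ↦ f_*(M ⊗ f^* N)` -/
noncomputable abbrev HB : X.Modules ⥤ Y.Modules ⥤ Y.Modules :=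
  HB0 f ⋙ (Functor.whiskeringRight _ _ _).obj (psh f)

/-- the projection formula as an isomorphism of bifunctors -/
noncomputable def projIso [IsClosedImmersion f] : HA f ≅ HB f :=
  NatIso.ofComponents (fun M => NatIso.ofComponents
      (fun N => haveI := isIso_proj f M N; asIso (proj f M N))
      (fun {_ _} φ => proj_naturality_right f M φ))
    (fun {_ _} g => NatTrans.ext (funext fun N => proj_naturality_left f g N))

theorem preservesTotal_psh [IsClosedImmersion f]
    (B : HomologicalComplex₂ X.Modules (ComplexShape.up ℤ) (ComplexShape.up ℤ)) :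
    TotMap.PreservesTotal (psh f) B (ComplexShape.up ℤ) := fun n => by
  haveI := Groth.Agent.R2.H16.ClosedImmAdj.preservesColimits_pushforward_of_isClosedImmersion f
  haveI : PreservesColimitsOfSize.{0, 0} (psh f) := preservesColimitsOfSize_shrink.{0, u, 0, u} _
  infer_instance

variable [IsClosedImmersion f] (K : CochainComplex X.Modules ℤ) (P : CochainComplex Y.Modules ℤ)

/-- the projection formula for total tensor complexes -/
theorem nonempty_projTotIso :
    Nonempty (mapBifunctor (((psh f).mapHomologicalComplex (ComplexShape.up ℤ)).obj K) P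
        (DCoh.tensorBi (X := Y)) (ComplexShape.up ℤ) ≅
      ((psh f).mapHomologicalComplex (ComplexShape.up ℤ)).obj
        (mapBifunctor K (((plb f).mapHomologicalComplex (ComplexShape.up ℤ)).obj P)
          (DCoh.tensorBi (X := X)) (ComplexShape.up ℤ))) := by
  -- bicomplex on `Y`
  let BY := (((DCoh.tensorBi (X := Y)).mapBifunctorHomologicalComplex (ComplexShape.up ℤ)
    (ComplexShape.up ℤ)).obj (((psh f).mapHomologicalComplex (ComplexShape.up ℤ)).obj K)).obj P
  -- bicomplex on `X`
  let BX := (((DCoh.tensorBi (X := X)).mapBifunctorHomologicalComplex (ComplexShape.up ℤ)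
    (ComplexShape.up ℤ)).obj K).obj (((plb f).mapHomologicalComplex (ComplexShape.up ℤ)).obj P)
  let e₁ : BY ≅ (((HA f).mapBifunctorHomologicalComplex (ComplexShape.up ℤ)
        (ComplexShape.up ℤ)).obj K).obj P :=
    TotMap.mapBifunctorPrecompIso (psh f) (𝟭 Y.Modules) (DCoh.tensorBi (X := Y)) K P
  haveI h1 : HasMapBifunctor K P (HA f) (ComplexShape.up ℤ) :=
    HomologicalComplex₂.hasTotal_of_iso e₁ (ComplexShape.up ℤ)
  let e₂ : BX ≅ (((HB0 f).mapBifunctorHomologicalComplex (ComplexShape.up ℤ)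
        (ComplexShape.up ℤ)).obj K).obj P :=
    TotMap.mapBifunctorPrecompIso (𝟭 X.Modules) (plb f) (DCoh.tensorBi (X := X)) K P
  haveI hp : TotMap.PreservesTotal (psh f) BX (ComplexShape.up ℤ) := preservesTotal_psh f BX
  haveI h2 : ((TotMap.map₂ (psh f) (ComplexShape.up ℤ) (ComplexShape.up ℤ)).obj
      BX).HasTotal (ComplexShape.up ℤ) :=
    TotMap.hasTotal_map₂ (psh f) BX (ComplexShape.up ℤ)
  let e₃ : (((HB f).mapBifunctorHomologicalComplex (ComplexShape.up ℤ)
        (ComplexShape.up ℤ)).obj K).obj P ≅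
      (TotMap.map₂ (psh f) (ComplexShape.up ℤ) (ComplexShape.up ℤ)).obj
        ((((HB0 f).mapBifunctorHomologicalComplex (ComplexShape.up ℤ)
          (ComplexShape.up ℤ)).obj K).obj P) :=
    TotMap.mapBifunctorPostcompIso (HB0 f) (psh f) K P
  let e₄ : (TotMap.map₂ (psh f) (ComplexShape.up ℤ) (ComplexShape.up ℤ)).obj BX ≅
      (TotMap.map₂ (psh f) (ComplexShape.up ℤ) (ComplexShape.up ℤ)).obj
        ((((HB0 f).mapBifunctorHomologicalComplex (ComplexShape.up ℤ)
          (ComplexShape.up ℤ)).obj K).obj P) :=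
    (TotMap.map₂ (psh f) (ComplexShape.up ℤ) (ComplexShape.up ℤ)).mapIso e₂
  haveI h3 : HasMapBifunctor K P (HB f) (ComplexShape.up ℤ) :=
    HomologicalComplex₂.hasTotal_of_iso (e₄ ≪≫ e₃.symm) (ComplexShape.up ℤ)
  exact ⟨HomologicalComplex₂.total.mapIso e₁ (ComplexShape.up ℤ) ≪≫
    TotMap.mapBifunctorNatIso K P (ComplexShape.up ℤ) (projIso f) ≪≫
    (HomologicalComplex₂.total.mapIso (e₄ ≪≫ e₃.symm) (ComplexShape.up ℤ)).symm ≪≫
    (TotMap.mapTotalIso (psh f) BX (ComplexShape.up ℤ)).symm⟩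

end Complexes

section Derived

variable {X Y : Scheme.{u}} (f : X ⟶ Y) [IsClosedImmersion f]

theorem isInvertedBy_pushC_Q :
    (HomologicalComplex.quasiIso X.Modules (ComplexShape.up ℤ)).IsInvertedBy
      (pushC f ⋙ (DerivedCategory.Q : CochainComplex Y.Modules ℤ ⥤ DCoh.D Y)) := by
  haveI : PreservesFiniteLimits (psh f) := by
    haveI := (ppAdj f).rightAdjoint_preservesLimits
    infer_instance
  haveI : PreservesFiniteColimits (psh f) := by
    haveI := Groth.Agent.R2.H16.ClosedImmAdj.preservesColimits_pushforward_of_isClosedImmersion f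
    infer_instance
  intro K L φ hφ
  haveI : QuasiIso φ := (HomologicalComplex.mem_quasiIso_iff φ).1 hφ
  haveI : QuasiIso ((pushC f).map φ) := inferInstance
  change IsIso (DerivedCategory.Q.map ((pushC f).map φ))
  rw [DerivedCategory.isIso_Q_map_iff_quasiIso]
  infer_instance

theorem isIso_rpushUnitQ [DCoh.HasRpush f] : IsIso (rpushUnitQ f) :=
  Functor.isIso_of_isRightDerivedFunctor_of_inverts (DCoh.Rpush f) (rpushUnitQ f)
    (isInvertedBy_pushC_Q f)

end Derived

end Groth.Agent.R2.H27.ProjClosedD
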