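import Mathlib
import Groth.Agent.R2.H27ProjClosed
import Groth.Agent.R2.H27LaxTotIso
import Groth.Agent.R2.H4DerivedAdj
set_option backward.isDefEq.respectTransparency.types false

/-!
# The projection morphism for complexes, `Tot(f_* K ⊗ N) ⟶ f_* Tot(K ⊗ f^* N)` (helper27)

For an arbitrary morphism `f : X ⟶ Y`: the chain map `theta f K N`, its naturality in `N`, and a
criterion for it to be invertible over an open `V` of `Y` (`N` bounded, the module-level projection
maps invertible over `V`).
-/

set_option autoImplicit false
set_option linter.style.haveILetI false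
set_option linter.unusedSectionVars false
universe u
open CategoryTheory CategoryTheory.Limits AlgebraicGeometry TopologicalSpace Opposite
  HomologicalComplex

namespace Groth.Agent.R2.H27.ProjPerfA

open Groth.Agent.Lib.Helper1.PT Groth.Agent.Lib.Helper1.Sky Groth.Agent.Lib.Helper1.KBC
  Groth.Agent.R2.H27.ProjClosed Groth.Agent.R2.H27.LaxTot Groth.Agent.R2.H4.DerivedAdj

variable {X Y : Scheme.{u}} (f : X ⟶ Y)

/-- the projection maps as lax data -/
noncomputable def projLax :
    LaxData (DCoh.tensorBi (X := Y)) (DCoh.tensorBi (X := X)) (psh f) (plb f) (psh f) where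
  τ M N := proj f M N
  nat₁ g N := proj_naturality_left f g N
  nat₂ M _ _ φ := proj_naturality_right f M φ

variable (K : CochainComplex X.Modules ℤ) (N : CochainComplex Y.Modules ℤ)

/-- the projection morphism `Tot(f_* K ⊗ N) ⟶ f_* Tot(K ⊗ f^* N)` -/
noncomputable def theta :
    (DCoh.tensorCx.obj ((pushC f).obj K)).obj N ⟶
      (pushC f).obj ((DCoh.tensorCx.obj K).obj ((pullC f).obj N)) :=
  laxTot (projLax f) K N

/-- naturality of the projection morphism in the second variable -/
lemma theta_naturality {N N' : CochainComplex Y.Modules ℤ} (a : N ⟶ N') :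
    (DCoh.tensorCx.obj ((pushC f).obj K)).map a ≫ theta f K N' =
      theta f K N ≫ (pushC f).map ((DCoh.tensorCx.obj K).map ((pullC f).map a)) :=
  laxTot_naturality₂ (projLax f) K a

/-- the projection morphism is invertible over an open `V` when `N` is bounded and the module-level
projection maps are invertible over `V` -/
theorem isIso_restrict_theta (V : Y.Opens) (a b : ℤ) (hN : DCoh.VanishesOutside N a b)
    (hτ : ∀ p q : ℤ, IsIso ((Scheme.Modules.restrictFunctor V.ι).map (proj f (K.X p) (N.X q)))) :
    IsIso ((DCoh.restrictCx V).map (theta f K N)) := by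
  haveI : ∀ n : ℤ, IsIso (((DCoh.restrictCx V).map (theta f K N)).f n) := by
    intro n
    change IsIso ((Scheme.Modules.restrictFunctor V.ι).map (laxTotF (projLax f) K N n))
    haveI hR : PreservesColimitsOfSize.{0, 0} (Scheme.Modules.restrictFunctor V.ι) :=
      preservesColimitsOfSize_shrink.{0, u, 0, u} _
    let πs := ComplexShape.π (ComplexShape.up ℤ) (ComplexShape.up ℤ) (ComplexShape.up ℤ)
    -- finite support
    let ιq : ℤ → πs ⁻¹' {n} := fun q => ⟨(n - q, q), by
      change n - q + q = n
      omega⟩
    let S : Finset (πs ⁻¹' {n}) := (Finset.Icc a b).image ιq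
    have hS : ∀ x : πs ⁻¹' {n}, x ∉ S →
        IsZero ((BX (F' := DCoh.tensorBi (X := X)) (G₂ := plb f) K N).toGradedObject.mapObjFun
          πs n x) := by
      rintro ⟨⟨p, q⟩, h⟩ hx
      have hq : q < a ∨ b < q := by
        by_contra hcon
        replace hcon : a ≤ q ∧ q ≤ b := by
          rcases not_or.1 hcon with ⟨h1, h2⟩
          exact ⟨not_lt.1 h1, not_lt.1 h2⟩
        apply hx
        refine Finset.mem_image.2 ⟨q, Finset.mem_Icc.2 hcon, ?_⟩
        have h' : p + q = n := h
        apply Subtype.ext
        change (n - q, q) = (p, q)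
        rw [show n - q = p by omega]
      have hz : IsZero (N.X q) := hN q hq
      exact ((DCoh.tensorBi (X := X)).obj (K.X p)).map_isZero ((plb f).map_isZero hz)
    haveI hGR : PreservesColimit (Discrete.functor
        ((BX (F' := DCoh.tensorBi (X := X)) (G₂ := plb f) K N).toGradedObject.mapObjFun πs n))
        (psh f ⋙ Scheme.Modules.restrictFunctor V.ι) :=
      preservesColimit_of_finite_support _ _ S hS
    exact isIso_map_laxTotF (projLax f) K N (Scheme.Modules.restrictFunctor V.ι) n
      (fun p q _ => hτ p q)
  exact HomologicalComplex.Hom.isIso_of_components _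

end Groth.Agent.R2.H27.ProjPerfA
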