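import Groth.Agent.R2.H28HasRDer
import Groth.Agent.R2.H28DerBase

/-!
# `DCoh.HasRpush f` and `DCoh.HasRΓ X` hold for every morphism of schemes / every scheme (helper28)
-/

set_option autoImplicit false
universe u
open CategoryTheory CategoryTheory.Limits AlgebraicGeometry

namespace Groth.Agent.R2.H28.HasRpush

open Groth.Agent.R2.H28.DerBase

attribute [local instance] HasDerivedCategory.standard

theorem hasRpush {X Y : Scheme.{u}} (f : X ⟶ Y) : DCoh.HasRpush f :=
  Groth.Agent.R2.H28.HasRDer.hasRightDerivedFunctor_K.{u} (Scheme.Modules.pushforward f)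

theorem hasRΓ (X : Scheme.{u}) : DCoh.HasRΓ X :=
  Groth.Agent.R2.H28.HasRDer.hasRightDerivedFunctor_K.{u} (DCoh.gammaAb X)

end Groth.Agent.R2.H28.HasRpush
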