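import Mathlib
import Groth.Agent.R2.H27ProjPerfA
import Groth.Agent.R2.H27ProjPerfSpec
import Groth.Agent.R2.H27LTensorAssoc
import Groth.Agent.R2.H28HasRpush
import Groth.Agent.S0960
set_option backward.isDefEq.respectTransparency.types false

/-!
# The derived projection morphism and the reduction of S0961 to its invertibility (helper27)
-/

set_option autoImplicit false
set_option linter.style.haveILetI false
set_option linter.unusedSectionVars false
universe u
open CategoryTheory CategoryTheory.Limits AlgebraicGeometry TopologicalSpace Opposite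
  HomologicalComplex
attribute [local instance] HasDerivedCategory.standard

namespace Groth.Agent.R2.H27.ProjPerfD

open Groth.Agent.Lib.Helper1.PT Groth.Agent.Lib.Helper1.Sky Groth.Agent.Lib.Helper1.KBC
  Groth.Agent.R2.H27.ProjClosed Groth.Agent.R2.H27.ProjPerfA Groth.Agent.R2.H4.DerivedAdj
  Groth.Agent.R2.H28.DerBase Groth.Agent.Lib.Helper17.KInj

variable {X Y : Scheme.{u}} (f : X ⟶ Y) [DCoh.HasRpush f]

/-- the derived projection morphism `Q(Tot(f_* I ⊗ N)) ⟶ Rf_*(Q(Tot(I ⊗ f^* N)))` -/
noncomputable def w (I : CochainComplex X.Modules ℤ) (N : CochainComplex Y.Modules ℤ) :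
    DerivedCategory.Q.obj ((DCoh.tensorCx.obj ((pushC f).obj I)).obj N) ⟶
      (DCoh.Rpush f).obj (DerivedCategory.Q.obj ((DCoh.tensorCx.obj I).obj ((pullC f).obj N))) :=
  DerivedCategory.Q.map (theta f I N) ≫
    (unitC f).app ((DCoh.tensorCx.obj I).obj ((pullC f).obj N))

/-- naturality of the derived projection morphism in the second variable -/
lemma w_naturality (I : CochainComplex X.Modules ℤ) {N N' : CochainComplex Y.Modules ℤ}
    (a : N ⟶ N') :
    DerivedCategory.Q.map ((DCoh.tensorCx.obj ((pushC f).obj I)).map a) ≫ w f I N' =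
      w f I N ≫ (DCoh.Rpush f).map
        (DerivedCategory.Q.map ((DCoh.tensorCx.obj I).map ((pullC f).map a))) := by
  unfold w
  rw [← Category.assoc, ← DerivedCategory.Q.map_comp, theta_naturality, DerivedCategory.Q.map_comp,
    Category.assoc, Category.assoc]
  congr 1
  exact (unitC f).naturality ((DCoh.tensorCx.obj I).map ((pullC f).map a))

/-- S0961 from the invertibility of the derived projection morphism -/
theorem nonempty_iso_of_isIso_w (P : CochainComplex Y.Modules ℤ) (hP : DCoh.IsKFlat P)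
    [DCoh.HasLTensorCx P] [DCoh.HasLTensorCx ((pullC f).obj P)] (E : DCoh.D X)
    (hw : ∀ I : CochainComplex X.Modules ℤ, I.IsKInjective → IsIso (w f I P)) :
    Nonempty ((DCoh.LTensorCx P).obj ((DCoh.Rpush f).obj E) ≅
      (DCoh.Rpush f).obj ((DCoh.LTensorCx ((pullC f).obj P)).obj E)) := by
  classical
  -- a K-injective complex representing `E`
  let K := (DerivedCategory.Q (C := X.Modules)).objPreimage E
  have e0 : DerivedCategory.Q.obj K ≅ E := (DerivedCategory.Q (C := X.Modules)).objObjPreimageIso E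
  let I := (fibRepl₀ X.Modules).obj K
  haveI hI : I.IsKInjective := (fibrant_fibRepl₀ X.Modules K).isKInjective
  have hι := trivCof_fibReplι₀ X.Modules K
  haveI : QuasiIso ((fibReplι₀ X.Modules).app K) := hι.2
  haveI : IsIso (DerivedCategory.Q.map ((fibReplι₀ X.Modules).app K)) := by
    rw [DerivedCategory.isIso_Q_map_iff_quasiIso]; infer_instance
  have e1 : DerivedCategory.Q.obj I ≅ E :=
    (asIso (DerivedCategory.Q.map ((fibReplι₀ X.Modules).app K))).symm ≪≫ e0
  let fP := (pullC f).obj P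
  have hfP : DCoh.IsKFlat fP := Groth.Agent.S0960.isKFlat_pullC f P hP
  have hP' : ModSite.IsKFlat (O := Y.sheaf) P := hP
  have hfP' : ModSite.IsKFlat (O := X.sheaf) fP := hfP
  have hP1 : ModSite.HasLTensorCx (O := Y.sheaf) P := (inferInstance : DCoh.HasLTensorCx P)
  have hfP1 : ModSite.HasLTensorCx (O := X.sheaf) fP := (inferInstance : DCoh.HasLTensorCx fP)
  have hcP : IsIso ((DCoh.tensorCxQ P).totalLeftDerivedCounit DerivedCategory.Q
      (HomologicalComplex.quasiIso Y.Modules (ComplexShape.up ℤ))) :=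
    Groth.Agent.R2.H27.LTensorAssoc.isIso_counit_of_isKFlat_right (O := Y.sheaf) P hP'
  have hcfP : IsIso ((DCoh.tensorCxQ fP).totalLeftDerivedCounit DerivedCategory.Q
      (HomologicalComplex.quasiIso X.Modules (ComplexShape.up ℤ))) :=
    Groth.Agent.R2.H27.LTensorAssoc.isIso_counit_of_isKFlat_right (O := X.sheaf) fP hfP'
  let cP := @asIso _ _ _ _ _ hcP
  let cfP := @asIso _ _ _ _ _ hcfP
  haveI := hw I hI
  let pI := (pushC f).obj I
  have l1 : (DCoh.LTensorCx P).obj ((DCoh.Rpush f).obj E) ≅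
      (DCoh.LTensorCx P).obj (DerivedCategory.Q.obj pI) :=
    (DCoh.LTensorCx P).mapIso ((DCoh.Rpush f).mapIso e1.symm ≪≫ (rpushIso f I).symm)
  have l2 : (DCoh.LTensorCx P).obj (DerivedCategory.Q.obj pI) ≅
      DerivedCategory.Q.obj ((DCoh.tensorCx.obj pI).obj P) := cP.app pI
  have r1 : (DCoh.LTensorCx fP).obj E ≅ DerivedCategory.Q.obj ((DCoh.tensorCx.obj I).obj fP) :=
    (DCoh.LTensorCx fP).mapIso e1.symm ≪≫ cfP.app I
  exact ⟨l1 ≪≫ l2 ≪≫ asIso (w f I P) ≪≫ (DCoh.Rpush f).mapIso r1.symm⟩

end Groth.Agent.R2.H27.ProjPerfD
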