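import Groth.Agent.R2.H28Support
import Groth.Agent.R2.H28ExtZeroMono
import Groth.Agent.Lib.Helper17ExactAdj
import Groth.Agent.Lib.Helper17SerreLoc1
import Groth.Agent.Lib.Helper1KBC2

/-!
# Glueing objects of `D(O_X)` over a cover by two opens (helper28)

Existence part only: `F := cone (j_{W!}(A|_W) ⟶ j_{U!} A ⊞ j_{V!} B)`.
-/

set_option autoImplicit false
set_option linter.style.haveILetI false
universe w v u
open CategoryTheory CategoryTheory.Limits AlgebraicGeometry TopologicalSpace Opposite ZeroObject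

namespace Groth.Agent.R2.H28.GlueTwo

open Groth.Agent.Lib.Helper1.Sky Groth.Agent.Lib.Helper1.StalkTensor
  Groth.Agent.R2.H28.DerBase Groth.Agent.R2.H28.Support
  CategoryTheory.Pretriangulated

attribute [local instance] HasDerivedCategory.standard

section Adj

variable {A : Type*} [Category A] [Abelian A] [HasDerivedCategory A]
  {B : Type*} [Category B] [Abelian B] [HasDerivedCategory B]
  (F : A ⥤ B) (G : B ⥤ A) (adj : F ⊣ G) [F.Additive] [G.Additive]
  [PreservesFiniteLimits F] [PreservesFiniteColimits F]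
  [PreservesFiniteLimits G] [PreservesFiniteColimits G]

/-- the unit of the derived adjunction of an adjunction of exact functors with invertible unit is
invertible -/
theorem isIso_unit_mapDerivedCategoryAdjunction [IsIso adj.unit] :
    IsIso (Groth.Agent.Lib.Helper17.ExactAdj.mapDerivedCategoryAdjunction F G adj).unit := by
  letI : CatCommSq (F.mapHomologicalComplex (ComplexShape.up ℤ)) DerivedCategory.Q
      DerivedCategory.Q F.mapDerivedCategory := ⟨F.mapDerivedCategoryFactors.symm⟩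
  letI : CatCommSq (G.mapHomologicalComplex (ComplexShape.up ℤ)) DerivedCategory.Q
      DerivedCategory.Q G.mapDerivedCategory := ⟨G.mapDerivedCategoryFactors.symm⟩
  haveI : ∀ N : DerivedCategory A, IsIso
      ((Groth.Agent.Lib.Helper17.ExactAdj.mapDerivedCategoryAdjunction F G adj).unit.app N) := by
    intro N
    let K := DerivedCategory.Q.objPreimage N
    let eN : DerivedCategory.Q.obj K ≅ N := DerivedCategory.Q.objObjPreimageIso N
    have h1 : IsIso ((Groth.Agent.Lib.Helper17.ExactAdj.mapDerivedCategoryAdjunction F G adj).unit.app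
        (DerivedCategory.Q.obj K)) := by
      have := Adjunction.localization_unit_app
        (Groth.Agent.Lib.Helper17.SerreLoc.adjHC adj (ComplexShape.up ℤ))
        DerivedCategory.Q (HomologicalComplex.quasiIso A (ComplexShape.up ℤ))
        DerivedCategory.Q (HomologicalComplex.quasiIso B (ComplexShape.up ℤ))
        F.mapDerivedCategory G.mapDerivedCategory K
      change IsIso (((Groth.Agent.Lib.Helper17.SerreLoc.adjHC adj (ComplexShape.up ℤ)).localization
        DerivedCategory.Q (HomologicalComplex.quasiIso A (ComplexShape.up ℤ))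
        DerivedCategory.Q (HomologicalComplex.quasiIso B (ComplexShape.up ℤ))
        F.mapDerivedCategory G.mapDerivedCategory).unit.app (DerivedCategory.Q.obj K))
      rw [this]
      infer_instance
    have hnat := (Groth.Agent.Lib.Helper17.ExactAdj.mapDerivedCategoryAdjunction F G adj).unit.naturality
      eN.inv
    have h2 : (Groth.Agent.Lib.Helper17.ExactAdj.mapDerivedCategoryAdjunction F G adj).unit.app N =
        eN.inv ≫ (Groth.Agent.Lib.Helper17.ExactAdj.mapDerivedCategoryAdjunction F G adj).unit.app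
          (DerivedCategory.Q.obj K) ≫
          (F.mapDerivedCategory ⋙ G.mapDerivedCategory).map eN.hom := by
      have := (Groth.Agent.Lib.Helper17.ExactAdj.mapDerivedCategoryAdjunction F G adj).unit.naturality
        eN.hom
      simp only [Functor.id_obj, Functor.id_map] at this
      rw [← this, Iso.inv_hom_id_assoc]
    rw [h2]
    infer_instance
  exact NatIso.isIso_of_isIso_app _

end Adj

section TL

variable {C : Type*} [Category C] [Preadditive C] [HasZeroObject C] [HasShift C ℤ]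
  [∀ n : ℤ, (shiftFunctor C n).Additive] [Pretriangulated C]

/-- if `P ⟶ Q ⟶ F ⟶ P⟦1⟧` is distinguished, `Q = Q₁ ⊕ Q₂` and the component `P ⟶ Q₂` is invertible,
then `Q₁ ⟶ F` is invertible -/
theorem isIso_inl_comp_mor₂ (T : Triangle C) (hT : T ∈ distTriang C) {Q₁ Q₂ : C}
    (i₁ : Q₁ ⟶ T.obj₂) (i₂ : Q₂ ⟶ T.obj₂) (p₁ : T.obj₂ ⟶ Q₁) (p₂ : T.obj₂ ⟶ Q₂)
    (h11 : i₁ ≫ p₁ = 𝟙 _) (h12 : i₁ ≫ p₂ = 0) (hsum : p₁ ≫ i₁ + p₂ ≫ i₂ = 𝟙 _)
    [IsIso (T.mor₁ ≫ p₂)] : IsIso (i₁ ≫ T.mor₂) := by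
  -- surjectivity of `- ≫ i₁ ≫ mor₂`
  have hsurj : ∀ {Z : C} (x : Z ⟶ T.obj₃), ∃ y : Z ⟶ Q₁, y ≫ i₁ ≫ T.mor₂ = x := by
    intro Z x
    have hx : x ≫ T.mor₃ = 0 := by
      have h0 : (x ≫ T.mor₃) ≫ (T.mor₁ ≫ p₂)⟦(1 : ℤ)⟧' = 0 := by
        rw [Functor.map_comp, Category.assoc, ← Category.assoc T.mor₃,
          comp_distTriang_mor_zero₃₁ _ hT, zero_comp, comp_zero]
      haveI : IsIso ((T.mor₁ ≫ p₂)⟦(1 : ℤ)⟧') := inferInstance
      exact (cancel_mono ((T.mor₁ ≫ p₂)⟦(1 : ℤ)⟧')).1 (by rw [h0, zero_comp])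
    obtain ⟨y, hy⟩ := Triangle.coyoneda_exact₃ _ hT x hx
    let y' := y - (y ≫ p₂ ≫ inv (T.mor₁ ≫ p₂)) ≫ T.mor₁
    have hy'2 : y' ≫ p₂ = 0 := by
      simp only [y', Preadditive.sub_comp, Category.assoc, IsIso.inv_hom_id, Category.comp_id,
        sub_self]
    have hy'g : y' ≫ T.mor₂ = x := by
      simp only [y', Preadditive.sub_comp, Category.assoc, comp_distTriang_mor_zero₁₂ _ hT,
        comp_zero, sub_zero]
      exact hy.symm
    refine ⟨y' ≫ p₁, ?_⟩
    have : y' = (y' ≫ p₁) ≫ i₁ := by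
      calc y' = y' ≫ (p₁ ≫ i₁ + p₂ ≫ i₂) := by rw [hsum, Category.comp_id]
        _ = (y' ≫ p₁) ≫ i₁ := by
          rw [Preadditive.comp_add, ← Category.assoc y' p₂, hy'2, zero_comp, add_zero,
            Category.assoc]
    rw [← Category.assoc, ← this, hy'g]
  have hinj : ∀ {Z : C} (z : Z ⟶ Q₁), z ≫ i₁ ≫ T.mor₂ = 0 → z = 0 := by
    intro Z z hz
    obtain ⟨w', hw'⟩ := Triangle.coyoneda_exact₂ _ hT (z ≫ i₁) (by rw [Category.assoc, hz])
    have hw0 : w' = 0 := by
      have : w' ≫ (T.mor₁ ≫ p₂) = 0 := by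
        rw [← Category.assoc, ← hw', Category.assoc, h12, comp_zero]
      exact (cancel_mono (T.mor₁ ≫ p₂)).1 (by rw [this, zero_comp])
    have : z ≫ i₁ = 0 := by rw [hw', hw0, zero_comp]
    calc z = (z ≫ i₁) ≫ p₁ := by rw [Category.assoc, h11, Category.comp_id]
      _ = 0 := by rw [this, zero_comp]
  obtain ⟨y, hy⟩ := hsurj (𝟙 T.obj₃)
  refine ⟨y, ?_, hy⟩
  have : (i₁ ≫ T.mor₂ ≫ y - 𝟙 Q₁) ≫ i₁ ≫ T.mor₂ = 0 := by
    rw [Preadditive.sub_comp, Category.assoc, Category.assoc, hy, Category.comp_id,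
      Category.id_comp, sub_self]
  have h := hinj _ this
  rw [Category.assoc]
  exact sub_eq_zero.1 h

end TL

section Sch

variable {X : Scheme.{u}}

/-- the derived adjunction `j_! ⊣ j^*` -/
noncomputable def adjD (W : X.Opens) [PreservesFiniteLimits (CxOX.extZero W.ι)] :
    CxOX.extZeroD W.ι ⊣ DCoh.restrictD W.ι :=
  Groth.Agent.Lib.Helper17.ExactAdj.mapDerivedCategoryAdjunction (CxOX.extZero W.ι)
    (Scheme.Modules.restrictFunctor W.ι) (CxOX.extZeroAdj W.ι)

instance isIso_unit_adjD (W : X.Opens) [PreservesFiniteLimits (CxOX.extZero W.ι)] :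
    IsIso (adjD W).unit :=
  isIso_unit_mapDerivedCategoryAdjunction _ _ _

/-- maps out of `j_! P` whose restriction is a prescribed isomorphism (up to the unit) -/
lemma exists_map_extZeroD (W : X.Opens) [PreservesFiniteLimits (CxOX.extZero W.ι)]
    (P : DCoh.D (W : Scheme.{u})) (N : DCoh.D X) (θ : P ≅ (DCoh.restrictD W.ι).obj N) :
    ∃ β : (CxOX.extZeroD W.ι).obj P ⟶ N, IsIso ((DCoh.restrictD W.ι).map β) := by
  refine ⟨((adjD W).homEquiv P N).symm θ.hom, ?_⟩
  have h : (adjD W).unit.app P ≫ (DCoh.restrictD W.ι).map (((adjD W).homEquiv P N).symm θ.hom) =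
      θ.hom := by
    have h0 := (adjD W).homEquiv_unit (f := ((adjD W).homEquiv P N).symm θ.hom)
    rw [Equiv.apply_symm_apply] at h0
    exact h0.symm
  have h2 : (DCoh.restrictD W.ι).map (((adjD W).homEquiv P N).symm θ.hom) =
      inv ((adjD W).unit.app P) ≫ θ.hom := by
    rw [IsIso.eq_inv_comp]
    exact h
  rw [h2]
  infer_instance

/-- a morphism between objects with cohomology supported on `S`, invertible over `W`, is
invertible over every open `V` with `V ∩ S ⊆ W` -/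
theorem isIso_restrict_map_of_support {M N : DCoh.D X} (α : M ⟶ N) (S : Set X)
    (hM : ∀ i : ℤ, CohB1.support (DCoh.HD M i) ⊆ S)
    (hN : ∀ i : ℤ, CohB1.support (DCoh.HD N i) ⊆ S)
    (W V : X.Opens) (hVS : ∀ y : X, y ∈ V → y ∈ S → y ∈ W)
    (hα : IsIso ((DCoh.restrictD W.ι).map α)) : IsIso ((DCoh.restrictD V.ι).map α) := by
  obtain ⟨G, g, h, hT⟩ := distinguished_cocone_triangle α
  have hTW := (DCoh.restrictD W.ι).map_distinguished _ hT
  have hTV := (DCoh.restrictD V.ι).map_distinguished _ hT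
  have hGW : IsZero ((DCoh.restrictD W.ι).obj G) := (Triangle.isZero₃_iff_isIso₁ _ hTW).2 hα
  refine (Triangle.isZero₃_iff_isIso₁ _ hTV).1 ?_
  refine isZero_restrictD_of_support V G ((V : Set X)ᶜ) ?_ (fun y hy => hy y.2)
  intro i x hx hxV
  apply hx
  by_cases hxW : x ∈ W
  · -- stalks at points of `W`
    have hz : IsZero ((Scheme.Modules.restrictFunctor W.ι).obj (DCoh.HD G i)) :=
      IsZero.of_iso ((DerivedCategory.homologyFunctor _ i).map_isZero hGW)
        (Groth.Agent.Lib.Helper17.AdjWay.homologyIso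
          (Scheme.Modules.restrictFunctor W.ι) G i).symm
    let y : (W : Scheme.{u}) := ⟨x, hxW⟩
    have e := (Scheme.Modules.restrictStalkNatIso W.ι y).app (DCoh.HD G i)
    have hs : Subsingleton (((Scheme.Modules.restrictFunctor W.ι).obj
        (DCoh.HD G i)).presheaf.stalk y) :=
      ModuleCat.subsingleton_of_isZero ((stalkFun y).map_isZero hz)
    exact @Equiv.subsingleton _ _ (e.symm.addCommGroupIsoToAddEquiv.toEquiv) hs
  · have hxS : x ∉ S := fun hS => hxW (hVS x hxV hS)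
    have h1 : Subsingleton ((DCoh.HD N i).presheaf.stalk x) := by
      by_contra hne
      exact hxS (hN i hne)
    have h3 : Subsingleton ((DCoh.HD M (i + 1)).presheaf.stalk x) := by
      by_contra hne
      exact hxS (hM (i + 1) hne)
    have hex := (DerivedCategory.HomologySequence.exact₃ _ hT i (i + 1) rfl).map (stalkFun x)
    have hz1 : IsZero ((stalkFun x).obj (DCoh.HD N i)) := by
      haveI : Subsingleton ((stalkFun x).obj (DCoh.HD N i)) := h1
      exact ModuleCat.isZero_of_subsingleton _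
    have hz3 : IsZero ((stalkFun x).obj (DCoh.HD M (i + 1))) := by
      haveI : Subsingleton ((stalkFun x).obj (DCoh.HD M (i + 1))) := h3
      exact ModuleCat.isZero_of_subsingleton _
    have hz2 := hex.isZero_of_both_zeros (hz1.eq_of_src _ _) (hz3.eq_of_tgt _ _)
    exact ModuleCat.subsingleton_of_isZero hz2

/-- `N|_W ≅ (N|_U)|_W` in the derived category -/
noncomputable def restrictCompIso {U W : Scheme.{u}} (j : U ⟶ X) (a : W ⟶ U) (k : W ⟶ X)
    [IsOpenImmersion j] [IsOpenImmersion a] [IsOpenImmersion k] (h : k = a ≫ j) (N : DCoh.D X) :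
    (DCoh.restrictD k).obj N ≅ (DCoh.restrictD a).obj ((DCoh.restrictD j).obj N) :=
  let K := DerivedCategory.Q.objPreimage N
  let eN : DerivedCategory.Q.obj K ≅ N := DerivedCategory.Q.objObjPreimageIso N
  let φ : Scheme.Modules.restrictFunctor k ≅
      Scheme.Modules.restrictFunctor j ⋙ Scheme.Modules.restrictFunctor a :=
    Scheme.Modules.restrictFunctorCongr h ≪≫ Scheme.Modules.restrictFunctorComp a j
  (DCoh.restrictD k).mapIso eN.symm ≪≫
    (Scheme.Modules.restrictFunctor k).mapDerivedCategoryFactors.app K ≪≫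
    DerivedCategory.Q.mapIso ((NatIso.mapHomologicalComplex φ (ComplexShape.up ℤ)).app K ≪≫
      (compCxIso (Scheme.Modules.restrictFunctor j) (Scheme.Modules.restrictFunctor a)).app K) ≪≫
    ((Scheme.Modules.restrictFunctor a).mapDerivedCategoryFactors.app _).symm ≪≫
    (DCoh.restrictD a).mapIso
      (((Scheme.Modules.restrictFunctor j).mapDerivedCategoryFactors.app K).symm) ≪≫
    (DCoh.restrictD a).mapIso ((DCoh.restrictD j).mapIso eN)

/-- the cohomology sheaves of `j_! P` are supported in the open -/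
lemma support_extZeroD_subset (W : X.Opens) [PreservesFiniteLimits (CxOX.extZero W.ι)]
    (P : DCoh.D (W : Scheme.{u})) (i : ℤ) :
    CohB1.support (DCoh.HD ((CxOX.extZeroD W.ι).obj P) i) ⊆ (W : Set X) := by
  refine (support_subset_of_iso (Groth.Agent.Lib.Helper17.AdjWay.homologyIso
    (CxOX.extZero W.ι) P i)).trans ?_
  refine (support_extZero_subset W _).trans ?_
  rintro _ ⟨y, _, rfl⟩
  exact y.2

/-- glueing two objects over a cover by two opens (existence) -/
theorem glue_two_opens (U V : X.Opens) (_hUV : U ⊔ V = ⊤)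
    (A : DCoh.D (U : Scheme.{u})) (B : DCoh.D (V : Scheme.{u}))
    (c : (DCoh.restrictD (X.homOfLE (inf_le_left : U ⊓ V ≤ U))).obj A ≅
      (DCoh.restrictD (X.homOfLE (inf_le_right : U ⊓ V ≤ V))).obj B) :
    ∃ F : DCoh.D X, Nonempty ((DCoh.restrictD U.ι).obj F ≅ A) ∧
      Nonempty ((DCoh.restrictD V.ι).obj F ≅ B) := by
  haveI := pfl_extZero U
  haveI := pfl_extZero V
  haveI := pfl_extZero (U ⊓ V)
  let W : X.Opens := U ⊓ V
  let a := X.homOfLE (inf_le_left : U ⊓ V ≤ U)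
  let b := X.homOfLE (inf_le_right : U ⊓ V ≤ V)
  have ha : W.ι = a ≫ U.ι := (X.homOfLE_ι _).symm
  have hb : W.ι = b ≫ V.ι := (X.homOfLE_ι _).symm
  let P := (DCoh.restrictD a).obj A
  let Q₁ := (CxOX.extZeroD U.ι).obj A
  let Q₂ := (CxOX.extZeroD V.ι).obj B
  let θA : P ≅ (DCoh.restrictD W.ι).obj Q₁ :=
    (DCoh.restrictD a).mapIso (restrictExtZeroIso U A).symm ≪≫
      (restrictCompIso U.ι a W.ι ha Q₁).symm
  let θB : P ≅ (DCoh.restrictD W.ι).obj Q₂ :=
    c ≪≫ (DCoh.restrictD b).mapIso (restrictExtZeroIso V B).symm ≪≫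
      (restrictCompIso V.ι b W.ι hb Q₂).symm
  obtain ⟨α, hα⟩ := exists_map_extZeroD W P Q₁ θA
  obtain ⟨β, hβ⟩ := exists_map_extZeroD W P Q₂ θB
  have hsP : ∀ i : ℤ, CohB1.support (DCoh.HD ((CxOX.extZeroD W.ι).obj P) i) ⊆ (W : Set X) :=
    fun i => support_extZeroD_subset W P i
  have hsQ₁ : ∀ i : ℤ, CohB1.support (DCoh.HD Q₁ i) ⊆ (U : Set X) :=
    fun i => support_extZeroD_subset U A i
  have hsQ₂ : ∀ i : ℤ, CohB1.support (DCoh.HD Q₂ i) ⊆ (V : Set X) :=
    fun i => support_extZeroD_subset V B i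
  have hαV : IsIso ((DCoh.restrictD V.ι).map α) :=
    isIso_restrict_map_of_support α (U : Set X) (fun i => (hsP i).trans (fun y hy => hy.1)) hsQ₁
      W V (fun y hyV hyU => ⟨hyU, hyV⟩) hα
  have hβU : IsIso ((DCoh.restrictD U.ι).map β) :=
    isIso_restrict_map_of_support β (V : Set X) (fun i => (hsP i).trans (fun y hy => hy.2)) hsQ₂
      W U (fun y hyU hyV => ⟨hyU, hyV⟩) hβ
  obtain ⟨F, g, h, hT⟩ := distinguished_cocone_triangle (biprod.lift α β)
  refine ⟨F, ?_, ?_⟩
  · have hTU := (DCoh.restrictD U.ι).map_distinguished _ hT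
    let i₁ : (DCoh.restrictD U.ι).obj Q₁ ⟶ (DCoh.restrictD U.ι).obj (Q₁ ⊞ Q₂) :=
      (DCoh.restrictD U.ι).map biprod.inl
    let i₂ : (DCoh.restrictD U.ι).obj Q₂ ⟶ (DCoh.restrictD U.ι).obj (Q₁ ⊞ Q₂) :=
      (DCoh.restrictD U.ι).map biprod.inr
    let p₁ : (DCoh.restrictD U.ι).obj (Q₁ ⊞ Q₂) ⟶ (DCoh.restrictD U.ι).obj Q₁ :=
      (DCoh.restrictD U.ι).map biprod.fst
    let p₂ : (DCoh.restrictD U.ι).obj (Q₁ ⊞ Q₂) ⟶ (DCoh.restrictD U.ι).obj Q₂ :=
      (DCoh.restrictD U.ι).map biprod.snd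
    have h11 : i₁ ≫ p₁ = 𝟙 _ := by
      simp only [i₁, p₁]
      rw [← CategoryTheory.Functor.map_comp, biprod.inl_fst, CategoryTheory.Functor.map_id]
    have h12 : i₁ ≫ p₂ = 0 := by
      simp only [i₁, p₂]
      rw [← CategoryTheory.Functor.map_comp, biprod.inl_snd, Functor.map_zero]
    have hsum : p₁ ≫ i₁ + p₂ ≫ i₂ = 𝟙 _ := by
      simp only [i₁, i₂, p₁, p₂]
      rw [← CategoryTheory.Functor.map_comp, ← CategoryTheory.Functor.map_comp, ← Functor.map_add, biprod.total,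
        CategoryTheory.Functor.map_id]
    have hi : IsIso ((DCoh.restrictD U.ι).map (biprod.lift α β) ≫ p₂) := by
      simp only [p₂]
      rw [← CategoryTheory.Functor.map_comp, biprod.lift_snd]
      exact hβU
    have hiso : IsIso (i₁ ≫ (DCoh.restrictD U.ι).map g) :=
      @isIso_inl_comp_mor₂ _ _ _ _ _ _ _ _ hTU _ _ i₁ i₂ p₁ p₂ h11 h12 hsum hi
    exact ⟨(asIso (i₁ ≫ (DCoh.restrictD U.ι).map g)).symm ≪≫ restrictExtZeroIso U A⟩
  · have hTV := (DCoh.restrictD V.ι).map_distinguished _ hT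
    let i₁ : (DCoh.restrictD V.ι).obj Q₁ ⟶ (DCoh.restrictD V.ι).obj (Q₁ ⊞ Q₂) :=
      (DCoh.restrictD V.ι).map biprod.inl
    let i₂ : (DCoh.restrictD V.ι).obj Q₂ ⟶ (DCoh.restrictD V.ι).obj (Q₁ ⊞ Q₂) :=
      (DCoh.restrictD V.ι).map biprod.inr
    let p₁ : (DCoh.restrictD V.ι).obj (Q₁ ⊞ Q₂) ⟶ (DCoh.restrictD V.ι).obj Q₁ :=
      (DCoh.restrictD V.ι).map biprod.fst
    let p₂ : (DCoh.restrictD V.ι).obj (Q₁ ⊞ Q₂) ⟶ (DCoh.restrictD V.ι).obj Q₂ :=
      (DCoh.restrictD V.ι).map biprod.snd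
    have h22 : i₂ ≫ p₂ = 𝟙 _ := by
      simp only [i₂, p₂]
      rw [← CategoryTheory.Functor.map_comp, biprod.inr_snd, CategoryTheory.Functor.map_id]
    have h21 : i₂ ≫ p₁ = 0 := by
      simp only [i₂, p₁]
      rw [← CategoryTheory.Functor.map_comp, biprod.inr_fst, Functor.map_zero]
    have hsum : p₂ ≫ i₂ + p₁ ≫ i₁ = 𝟙 _ := by
      simp only [i₁, i₂, p₁, p₂]
      rw [← CategoryTheory.Functor.map_comp, ← CategoryTheory.Functor.map_comp, ← Functor.map_add, add_comm, biprod.total,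
        CategoryTheory.Functor.map_id]
    have hi : IsIso ((DCoh.restrictD V.ι).map (biprod.lift α β) ≫ p₁) := by
      simp only [p₁]
      rw [← CategoryTheory.Functor.map_comp, biprod.lift_fst]
      exact hαV
    have hiso : IsIso (i₂ ≫ (DCoh.restrictD V.ι).map g) :=
      @isIso_inl_comp_mor₂ _ _ _ _ _ _ _ _ hTV _ _ i₂ i₁ p₂ p₁ h22 h21 hsum hi
    exact ⟨(asIso (i₂ ≫ (DCoh.restrictD V.ι).map g)).symm ≪≫ restrictExtZeroIso V B⟩

end Sch

end Groth.Agent.R2.H28.GlueTwo
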