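import Mathlib
import Groth.Agent.R2.H27ProjPerfSpec
import Groth.Agent.R2.H28DerBase
import Groth.Agent.R2.H28OpenBC
import Groth.Agent.R2.H28HasRpush
import Groth.Prelude.Def_CxOX

/-!
# Derived direct images commute with restriction to opens, compatibly with units (helper28)

Packages `Pkg3a`, `Pkg3b` of helper27's mini-project `PROJ:proj-perf` (S0961).

* `unitR j`: the (invertible) unit of `DCoh.restrictD j` as right derived functor of the exact
  restriction functor.
* `unit1 f V`, `unit2 f V`: units exhibiting `Rf_* ⋙ (-)|_V` and `(-)|_{f⁻¹V} ⋙ R(f|_V)_*` as right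
  derived functors of `f_* ⋙ (-)|_V ≅ (-)|_{f⁻¹V} ⋙ (f|_V)_*`.
* `rpushRestrictDIso f V : Rf_* ⋙ restrictD V.ι ≅ restrictD (f⁻¹V).ι ⋙ R(f|_V)_*`, with
  `unit1_comp_rpushRestrictDIso` (compatibility with the units).
* `pkg3a`, `pkg3b`.
-/

set_option autoImplicit false
set_option linter.style.haveILetI false
set_option linter.unusedSectionVars false
universe u
open CategoryTheory CategoryTheory.Limits AlgebraicGeometry TopologicalSpace Opposite
attribute [local instance] HasDerivedCategory.standard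

namespace Groth.Agent.R2.H28.ProjPkg3

open Groth.Agent.R2.H28.DerBase Groth.Agent.R2.H28.OpenBC Groth.Agent.Lib.Helper17.KInj

section Restrict

variable {U X : Scheme.{u}} (j : U ⟶ X) [IsOpenImmersion j]

/-- the unit of `restrictD j` (an isomorphism) -/
noncomputable def unitR :
    (Scheme.Modules.restrictFunctor j).mapHomologicalComplex (ComplexShape.up ℤ) ⋙
        DerivedCategory.Q ⟶
      DerivedCategory.Q ⋙ DCoh.restrictD j :=
  (Scheme.Modules.restrictFunctor j).mapDerivedCategoryFactors.inv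

instance isIso_unitR : IsIso (unitR j) := by
  unfold unitR; infer_instance

instance isIso_unitR_app (T : CochainComplex X.Modules ℤ) : IsIso ((unitR j).app T) := by
  infer_instance

instance isRightDerivedFunctor_unitR :
    (DCoh.restrictD j).IsRightDerivedFunctor (unitR j)
      (HomologicalComplex.quasiIso X.Modules (ComplexShape.up ℤ)) :=
  Functor.isRightDerivedFunctor_of_inverts _ _
    (Scheme.Modules.restrictFunctor j).mapDerivedCategoryFactors

end Restrict

variable {X Y : Scheme.{u}} (f : X ⟶ Y) (V : Y.Opens)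

/-- the unit exhibiting `Rf_* ⋙ (-)|_V` as a right derived functor -/
noncomputable def unit1 [DCoh.HasRpush f] :
    (Scheme.Modules.pushforward f ⋙ Scheme.Modules.restrictFunctor V.ι).mapHomologicalComplex
        (ComplexShape.up ℤ) ⋙ DerivedCategory.Q ⟶
      DerivedCategory.Q ⋙ (DCoh.Rpush f ⋙ DCoh.restrictD V.ι) :=
  compUnit (Scheme.Modules.pushforward f) (DCoh.Rpush f) (unitC f)
    (Scheme.Modules.restrictFunctor V.ι) (DCoh.restrictD V.ι) (unitR V.ι)

instance isRightDerivedFunctor_unit1 [DCoh.HasRpush f] :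
    (DCoh.Rpush f ⋙ DCoh.restrictD V.ι).IsRightDerivedFunctor (unit1 f V)
      (HomologicalComplex.quasiIso X.Modules (ComplexShape.up ℤ)) :=
  isRightDerivedFunctor_comp _ _ _ _ _ _ (fun _ _ => inferInstance)

/-- the unit exhibiting `(-)|_{f⁻¹V} ⋙ R(f|_V)_*` as a right derived functor -/
noncomputable def unit2 [DCoh.HasRpush (f ∣_ V)] :
    (Scheme.Modules.restrictFunctor (f ⁻¹ᵁ V).ι ⋙
        Scheme.Modules.pushforward (f ∣_ V)).mapHomologicalComplex
        (ComplexShape.up ℤ) ⋙ DerivedCategory.Q ⟶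
      DerivedCategory.Q ⋙ (DCoh.restrictD (f ⁻¹ᵁ V).ι ⋙ DCoh.Rpush (f ∣_ V)) :=
  compUnit (Scheme.Modules.restrictFunctor (f ⁻¹ᵁ V).ι) (DCoh.restrictD (f ⁻¹ᵁ V).ι)
    (unitR (f ⁻¹ᵁ V).ι)
    (Scheme.Modules.pushforward (f ∣_ V)) (DCoh.Rpush (f ∣_ V)) (unitC (f ∣_ V))

instance isRightDerivedFunctor_unit2 [DCoh.HasRpush (f ∣_ V)] :
    (DCoh.restrictD (f ⁻¹ᵁ V).ι ⋙ DCoh.Rpush (f ∣_ V)).IsRightDerivedFunctor (unit2 f V)
      (HomologicalComplex.quasiIso X.Modules (ComplexShape.up ℤ)) :=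
  isRightDerivedFunctor_comp _ _ _ _ _ _ (fun I hI => by
    haveI := hI
    haveI := isKInjective_restrict (f ⁻¹ᵁ V) I
    exact isIso_app_of_isKInjective (Scheme.Modules.pushforward (f ∣_ V)) (DCoh.Rpush (f ∣_ V))
      (unitC (f ∣_ V)) _)

/-- the base change isomorphism at the level of complexes, composed with `Q` -/
noncomputable def eF :
    (Scheme.Modules.pushforward f ⋙ Scheme.Modules.restrictFunctor V.ι).mapHomologicalComplex
        (ComplexShape.up ℤ) ⋙ DerivedCategory.Q ≅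
      (Scheme.Modules.restrictFunctor (f ⁻¹ᵁ V).ι ⋙
        Scheme.Modules.pushforward (f ∣_ V)).mapHomologicalComplex
        (ComplexShape.up ℤ) ⋙ DerivedCategory.Q :=
  Functor.isoWhiskerRight (NatIso.mapHomologicalComplex (baseChangeIso f V) (ComplexShape.up ℤ))
    DerivedCategory.Q

/-- `(Rf_* K)|_V ≅ R(f|_V)_* (K|_{f⁻¹V})`, naturally in `K ∈ D(O_X)`. -/
noncomputable def rpushRestrictDIso [DCoh.HasRpush f] [DCoh.HasRpush (f ∣_ V)] :
    DCoh.Rpush f ⋙ DCoh.restrictD V.ι ≅ DCoh.restrictD (f ⁻¹ᵁ V).ι ⋙ DCoh.Rpush (f ∣_ V) :=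
  Functor.rightDerivedNatIso _ _ (unit1 f V) (unit2 f V)
    (HomologicalComplex.quasiIso X.Modules (ComplexShape.up ℤ)) (eF f V)

/-- compatibility of `rpushRestrictDIso` with the units -/
lemma unit1_comp_rpushRestrictDIso [DCoh.HasRpush f] [DCoh.HasRpush (f ∣_ V)]
    (T : CochainComplex X.Modules ℤ) :
    (unit1 f V).app T ≫ (rpushRestrictDIso f V).hom.app (DerivedCategory.Q.obj T) =
      (eF f V).hom.app T ≫ (unit2 f V).app T :=
  Functor.rightDerivedNatTrans_app _ _ (unit1 f V) (unit2 f V)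
    (HomologicalComplex.quasiIso X.Modules (ComplexShape.up ℤ)) (eF f V).hom T

lemma unit1_app [DCoh.HasRpush f] (T : CochainComplex X.Modules ℤ) :
    (unit1 f V).app T =
      DerivedCategory.Q.map ((compCxIso (Scheme.Modules.pushforward f)
        (Scheme.Modules.restrictFunctor V.ι)).hom.app T) ≫
      (unitR V.ι).app (((Scheme.Modules.pushforward f).mapHomologicalComplex
        (ComplexShape.up ℤ)).obj T) ≫ (DCoh.restrictD V.ι).map ((unitC f).app T) :=
  compUnit_app _ _ _ _ _ _ T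

lemma unit2_app [DCoh.HasRpush (f ∣_ V)] (T : CochainComplex X.Modules ℤ) :
    (unit2 f V).app T =
      DerivedCategory.Q.map ((compCxIso (Scheme.Modules.restrictFunctor (f ⁻¹ᵁ V).ι)
        (Scheme.Modules.pushforward (f ∣_ V))).hom.app T) ≫
      (unitC (f ∣_ V)).app ((DCoh.restrictCx (f ⁻¹ᵁ V)).obj T) ≫
      (DCoh.Rpush (f ∣_ V)).map ((unitR (f ⁻¹ᵁ V).ι).app T) :=
  compUnit_app _ _ _ _ _ _ T

lemma isIso_unit1_app_iff [DCoh.HasRpush f] (T : CochainComplex X.Modules ℤ) :
    IsIso ((unit1 f V).app T) ↔ IsIso ((DCoh.restrictD V.ι).map ((unitC f).app T)) := by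
  rw [unit1_app]
  constructor
  · intro h
    have h1 := (isIso_comp_left_iff _ _).1 h
    exact (isIso_comp_left_iff _ _).1 h1
  · intro h
    infer_instance

lemma isIso_unit2_app_iff [DCoh.HasRpush (f ∣_ V)] (T : CochainComplex X.Modules ℤ) :
    IsIso ((unit2 f V).app T) ↔
      IsIso ((unitC (f ∣_ V)).app ((DCoh.restrictCx (f ⁻¹ᵁ V)).obj T)) := by
  rw [unit2_app]
  constructor
  · intro h
    have h1 := (isIso_comp_left_iff _ _).1 h
    exact (isIso_comp_right_iff _ _).1 h1
  · intro h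
    infer_instance

lemma isIso_unit1_app_iff_unit2 [DCoh.HasRpush f] [DCoh.HasRpush (f ∣_ V)]
    (T : CochainComplex X.Modules ℤ) :
    IsIso ((unit1 f V).app T) ↔ IsIso ((unit2 f V).app T) := by
  have h := unit1_comp_rpushRestrictDIso f V T
  constructor
  · intro h1
    have : IsIso ((eF f V).hom.app T ≫ (unit2 f V).app T) := by
      rw [← h]; infer_instance
    exact (isIso_comp_left_iff _ _).1 this
  · intro h2
    have : IsIso ((unit1 f V).app T ≫
        (rpushRestrictDIso f V).hom.app (DerivedCategory.Q.obj T)) := by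
      rw [h]; infer_instance
    exact (isIso_comp_right_iff _ _).1 this

open Groth.Agent.R2.H27.ProjPerfSpec in
theorem pkg3a : Pkg3a.{u} := by
  intro X Y f V _ _ T
  rw [← isIso_unit1_app_iff, ← isIso_unit2_app_iff]
  exact isIso_unit1_app_iff_unit2 f V T

open Groth.Agent.R2.H27.ProjPerfSpec in
theorem pkg3b : Pkg3b.{u} := by
  intro X Y f V _ A B ψ hψ
  haveI := Groth.Agent.R2.H28.HasRpush.hasRpush (f ∣_ V)
  have h1 : IsIso ((DCoh.restrictD (f ⁻¹ᵁ V).ι ⋙ DCoh.Rpush (f ∣_ V)).map ψ) := by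
    haveI := hψ
    change IsIso ((DCoh.Rpush (f ∣_ V)).map ((DCoh.restrictD (f ⁻¹ᵁ V).ι).map ψ))
    infer_instance
  exact (NatIso.isIso_map_iff (rpushRestrictDIso f V) ψ).2 h1

end Groth.Agent.R2.H28.ProjPkg3
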