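import Mathlib
import Groth.Agent.R2.H27ProjPerfD
import Groth.Agent.R2.H28GlueTwo
import Groth.Agent.R2.H28ProjPkg3
set_option backward.isDefEq.respectTransparency.types false

/-!
# Localisation on the base for the derived projection morphism (helper27)

* `isIso_of_forall_exists_isIso_restrictD`: a morphism of `D(O_Y)` is invertible as soon as it is
  invertible over the members of an open covering.
* `isIso_restrict_w_iff`: invertibility of the derived projection morphism over an open `V` only
  depends on the second variable up to morphisms of K-flat complexes which are quasi-isomorphisms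
  over `V` (given the packages `Pkg8a`, `Pkg8b`, `Pkg3b`).
-/

set_option autoImplicit false
set_option linter.style.haveILetI false
set_option linter.unusedSectionVars false
universe u
open CategoryTheory CategoryTheory.Limits AlgebraicGeometry TopologicalSpace Opposite
  HomologicalComplex
attribute [local instance] HasDerivedCategory.standard

namespace Groth.Agent.R2.H27.ProjPerfB

open Groth.Agent.Lib.Helper1.PT Groth.Agent.Lib.Helper1.Sky Groth.Agent.Lib.Helper1.KBC
  Groth.Agent.Lib.Helper1.StalkTensor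
  Groth.Agent.R2.H27.ProjClosed Groth.Agent.R2.H27.ProjPerfA Groth.Agent.R2.H4.DerivedAdj
  Groth.Agent.R2.H28.DerBase Groth.Agent.R2.H27.ProjPerfD Groth.Agent.R2.H27.ProjPerfSpec
  Groth.Agent.R2.H28.Support CategoryTheory.Pretriangulated

section Conservative

variable {Y : Scheme.{u}}

/-- an object of `D(O_Y)` vanishing over the members of an open covering vanishes -/
theorem isZero_of_forall_exists_isZero_restrictD (G : DCoh.D Y)
    (h : ∀ y : Y, ∃ V : Y.Opens, y ∈ V ∧ IsZero ((DCoh.restrictD V.ι).obj G)) : IsZero G := by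
  apply isZero_of_homology
  intro i
  apply isZero_of_subsingleton_stalks
  intro x
  obtain ⟨V, hxV, hGV⟩ := h x
  have hz : IsZero ((Scheme.Modules.restrictFunctor V.ι).obj (DCoh.HD G i)) :=
    IsZero.of_iso ((DerivedCategory.homologyFunctor _ i).map_isZero hGV)
      (Groth.Agent.Lib.Helper17.AdjWay.homologyIso
        (Scheme.Modules.restrictFunctor V.ι) G i).symm
  let y : (V : Scheme.{u}) := ⟨x, hxV⟩
  have e := (Scheme.Modules.restrictStalkNatIso V.ι y).app (DCoh.HD G i)
  have hs : Subsingleton (((Scheme.Modules.restrictFunctor V.ι).obj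
      (DCoh.HD G i)).presheaf.stalk y) :=
    ModuleCat.subsingleton_of_isZero ((stalkFun y).map_isZero hz)
  exact @Equiv.subsingleton _ _ (e.symm.addCommGroupIsoToAddEquiv.toEquiv) hs

/-- a morphism of `D(O_Y)` invertible over the members of an open covering is invertible -/
theorem isIso_of_forall_exists_isIso_restrictD {A B : DCoh.D Y} (α : A ⟶ B)
    (h : ∀ y : Y, ∃ V : Y.Opens, y ∈ V ∧ IsIso ((DCoh.restrictD V.ι).map α)) : IsIso α := by
  obtain ⟨G, g, k, hT⟩ := distinguished_cocone_triangle α
  refine (Triangle.isZero₃_iff_isIso₁ _ hT).1 ?_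
  apply isZero_of_forall_exists_isZero_restrictD
  intro y
  obtain ⟨V, hyV, hα⟩ := h y
  refine ⟨V, hyV, ?_⟩
  have hTV := (DCoh.restrictD V.ι).map_distinguished _ hT
  exact (Triangle.isZero₃_iff_isIso₁ _ hTV).2 hα

end Conservative

section Invariance

variable {X Y : Scheme.{u}} (f : X ⟶ Y) [DCoh.HasRpush f]

/-- invariance of the invertibility of the derived projection morphism over `V` -/
theorem isIso_restrict_w_iff (h8a : Pkg8a.{u}) (h8b : Pkg8b.{u}) (h3b : Pkg3b.{u})
    (V : Y.Opens) (I : CochainComplex X.Modules ℤ)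
    {N₁ N₂ : CochainComplex Y.Modules ℤ} (a : N₁ ⟶ N₂) (h₁ : DCoh.IsKFlat N₁)
    (h₂ : DCoh.IsKFlat N₂)
    (ha : IsIso ((DCoh.restrictD V.ι).map (DerivedCategory.Q.map a))) :
    IsIso ((DCoh.restrictD V.ι).map (w f I N₁)) ↔ IsIso ((DCoh.restrictD V.ι).map (w f I N₂)) := by
  have hnat := congrArg (DCoh.restrictD V.ι).map (w_naturality f I a)
  rw [Functor.map_comp, Functor.map_comp] at hnat
  haveI hL : IsIso ((DCoh.restrictD V.ι).map
      (DerivedCategory.Q.map ((DCoh.tensorCx.obj ((pushC f).obj I)).map a))) :=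
    h8a V ((pushC f).obj I) N₁ N₂ a h₁ h₂ ha
  have hfa : IsIso ((DCoh.restrictD (f ⁻¹ᵁ V).ι).map (DerivedCategory.Q.map ((pullC f).map a))) :=
    h8b f V N₁ N₂ a h₁ h₂ ha
  have hTa : IsIso ((DCoh.restrictD (f ⁻¹ᵁ V).ι).map
      (DerivedCategory.Q.map ((DCoh.tensorCx.obj I).map ((pullC f).map a)))) :=
    h8a (f ⁻¹ᵁ V) I _ _ ((pullC f).map a) (Groth.Agent.S0960.isKFlat_pullC f N₁ h₁)
      (Groth.Agent.S0960.isKFlat_pullC f N₂ h₂) hfa
  haveI hR : IsIso ((DCoh.restrictD V.ι).map ((DCoh.Rpush f).map
      (DerivedCategory.Q.map ((DCoh.tensorCx.obj I).map ((pullC f).map a))))) :=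
    h3b f V _ hTa
  constructor
  · intro h1
    haveI := h1
    have : IsIso ((DCoh.restrictD V.ι).map
        (DerivedCategory.Q.map ((DCoh.tensorCx.obj ((pushC f).obj I)).map a)) ≫
        (DCoh.restrictD V.ι).map (w f I N₂)) := by
      rw [hnat]; infer_instance
    exact IsIso.of_isIso_comp_left ((DCoh.restrictD V.ι).map
      (DerivedCategory.Q.map ((DCoh.tensorCx.obj ((pushC f).obj I)).map a))) _
  · intro h2
    haveI := h2
    have : IsIso ((DCoh.restrictD V.ι).map (w f I N₁) ≫ (DCoh.restrictD V.ι).map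
        ((DCoh.Rpush f).map
          (DerivedCategory.Q.map ((DCoh.tensorCx.obj I).map ((pullC f).map a))))) := by
      rw [← hnat]; infer_instance
    exact IsIso.of_isIso_comp_right _ ((DCoh.restrictD V.ι).map ((DCoh.Rpush f).map
      (DerivedCategory.Q.map ((DCoh.tensorCx.obj I).map ((pullC f).map a)))))

end Invariance

end Groth.Agent.R2.H27.ProjPerfB
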