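import Mathlib
import Groth.Agent.R2.H4Perf
set_option backward.isDefEq.respectTransparency.types false

/-!
# Perfect objects are locally bounded complexes of finite free modules (helper4, round 2)
-/

set_option autoImplicit false
universe u
open CategoryTheory CategoryTheory.Limits AlgebraicGeometry HomologicalComplex
  CategoryTheory.Pretriangulated

attribute [local instance] HasDerivedCategory.standard

namespace Groth.Agent.R2.H4.Perf

open DerivedCategory Groth.Agent.R2.H4.Conn Groth.Agent.R2.H4.LocHtpy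
open Groth.Agent.Lib.Helper1.FLF Groth.Agent.Lib.Helper20.LocFree

/-- `K` is isomorphic to a bounded complex of finite free modules. -/
def SFRep {X : Scheme.{u}} (K : DCoh.D X) : Prop :=
  ∃ (P : CochainComplex X.Modules ℤ) (a b : ℤ), DCoh.VanishesOutside P a b ∧
    (∀ i : ℤ, ∃ n : ℕ, Nonempty (P.X i ≅ FlatMod.freeMod X n)) ∧ Nonempty (Q.obj P ≅ K)

lemma isZero_freeMod_zero (X : Scheme.{u}) : IsZero (FlatMod.freeMod X 0) := by
  rw [IsZero.iff_id_eq_zero]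
  exact Sigma.hom_ext _ _ (fun j => Fin.elim0 j)

lemma isFinLocFree_freeMod (X : Scheme.{u}) (n : ℕ) :
    FlatMod.IsFinLocFree (FlatMod.freeMod X n) := fun _ =>
  ⟨⊤, n, trivial, ⟨restrictFreeMod _ n⟩⟩

lemma SFRep.spRep {X : Scheme.{u}} {K : DCoh.D X} (h : SFRep K) : SPRep K := by
  obtain ⟨P, a, b, hv, hfree, e⟩ := h
  refine ⟨P, ⟨⟨a, b, hv⟩, fun i => ?_⟩, e⟩
  obtain ⟨n, ⟨en⟩⟩ := hfree i
  exact Groth.Agent.R2.H4.LocHtpy.isFinLocFree_of_iso en.symm (isFinLocFree_freeMod X n)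

lemma isLocalPred_sfRep : IsLocalPred (fun U (K : DCoh.D U) => SFRep K) := by
  refine ⟨?_, ?_⟩
  · rintro U K K' e ⟨P, a, b, hv, hfree, ⟨e'⟩⟩
    exact ⟨P, a, b, hv, hfree, ⟨e' ≪≫ e⟩⟩
  · rintro U' U j _ K ⟨P, a, b, hv, hfree, ⟨e⟩⟩
    refine ⟨(resC j).obj P, a, b,
      fun i hi => (Scheme.Modules.restrictFunctor j).map_isZero (hv i hi), fun i => ?_,
      ⟨(restrictDQIso j P).symm ≪≫ (DCoh.restrictD j).mapIso e⟩⟩
    obtain ⟨n, ⟨en⟩⟩ := hfree i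
    exact ⟨n, ⟨(Scheme.Modules.restrictFunctor j).mapIso en ≪≫ restrictFreeMod j n⟩⟩

/-- a strictly perfect complex is locally a bounded complex of finite free modules. -/
theorem SPRep.exists_sfRep {U : Scheme.{u}} {K : DCoh.D U} (h : SPRep K) (y : U) :
    ∃ (U' : Scheme.{u}) (j' : U' ⟶ U) (_ : IsOpenImmersion j') (y' : U'), j' y' = y ∧
      SFRep ((DCoh.restrictD j').obj K) := by
  obtain ⟨P, ⟨⟨a, b, hv⟩, hfl⟩, ⟨e⟩⟩ := h
  obtain ⟨W, n, hyW, hW⟩ := exists_common_open (J := Set.Icc a b) (fun i => P.X i.1)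
    (fun i => hfl i.1) y
  refine ⟨W, W.ι, inferInstance, ⟨y, hyW⟩, rfl, (resC W.ι).obj P, a, b,
    fun i hi => (Scheme.Modules.restrictFunctor W.ι).map_isZero (hv i hi), fun i => ?_,
    ⟨(restrictDQIso W.ι P).symm ≪≫ (DCoh.restrictD W.ι).mapIso e⟩⟩
  by_cases hi : a ≤ i ∧ i ≤ b
  · exact ⟨n ⟨i, hi⟩, hW ⟨i, hi⟩⟩
  · refine ⟨0, ⟨IsZero.iso ?_ (isZero_freeMod_zero _)⟩⟩
    exact (Scheme.Modules.restrictFunctor W.ι).map_isZero (hv i (by omega))

theorem loc_sfRep_iff {X : Scheme.{u}} (K : DCoh.D X) :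
    Loc (fun U (K : DCoh.D U) => SFRep K) K ↔ Loc (fun U (K : DCoh.D U) => SPRep K) K := by
  constructor
  · intro h x
    obtain ⟨U, j, hj, y, hy, hK⟩ := h x
    exact ⟨U, j, hj, y, hy, hK.spRep⟩
  · intro h
    apply loc_of_loc_restrict isLocalPred_sfRep
    intro x
    obtain ⟨U, j, hj, y, hy, hK⟩ := h x
    exact ⟨U, j, hj, y, hy, hK.exists_sfRep y⟩

/-- S0923. -/
theorem isPerfect_iff_locally_finite_free_complex {X : Scheme.{u}} (E : DCoh.D X) :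
    DCoh.IsPerfect E ↔ ∀ x : X, ∃ V : X.Opens, x ∈ V ∧
      ∀ F : CochainComplex X.Modules ℤ, Nonempty (DCoh.toD X F ≅ E) →
        ∃ (P : CochainComplex (V : Scheme.{u}).Modules ℤ) (a b : ℤ), DCoh.VanishesOutside P a b ∧
          (∀ i : ℤ, ∃ n : ℕ, Nonempty (P.X i ≅ FlatMod.freeMod (V : Scheme.{u}) n)) ∧
          Nonempty (DerivedCategory.Q.obj ((DCoh.restrictCx V).obj F) ≅
            DerivedCategory.Q.obj P) := by
  rw [isPerfect_iff, ← loc_sfRep_iff, loc_iff_opens isLocalPred_sfRep]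
  constructor
  · intro h x
    obtain ⟨V, hx, P, a, b, hv, hfree, ⟨e⟩⟩ := h x
    refine ⟨V, hx, fun F ⟨eF⟩ => ⟨P, a, b, hv, hfree, ⟨?_⟩⟩⟩
    exact (restrictDQIso V.ι F).symm ≪≫ (DCoh.restrictD V.ι).mapIso eF ≪≫ e.symm
  · intro h x
    obtain ⟨V, hx, hV⟩ := h x
    refine ⟨V, hx, ?_⟩
    obtain ⟨P, a, b, hv, hfree, ⟨e⟩⟩ := hV (Q.objPreimage E) ⟨Q.objObjPreimageIso E⟩
    exact ⟨P, a, b, hv, hfree, ⟨e.symm ≪≫ (restrictDQIso V.ι _).symm ≪≫
      (DCoh.restrictD V.ι).mapIso (Q.objObjPreimageIso E)⟩⟩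

end Groth.Agent.R2.H4.Perf
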