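import Mathlib
import Groth.Agent.R2.H27ProjPerfB
import Groth.Agent.R2.H4PerfFree
import Groth.Agent.R2.H28GlueTwo
import Groth.Agent.Lib.Helper1BKF11
set_option backward.isDefEq.respectTransparency.types false

/-!
# A local roof for a perfect complex (helper27)

`exists_local_roof`: for a complex `P` with `Q(P)` perfect and a point `y`, there are an open
neighbourhood `V` of `y`, a bounded complex `F` of finite free modules on `V`, a K-flat complex `P₁`
on `Y` and chain maps `s : P₁ ⟶ j_! F`, `g : P₁ ⟶ P` which are both invertible over `V` in the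
derived category.
-/

set_option autoImplicit false
set_option linter.style.haveILetI false
set_option linter.unusedSectionVars false
universe u
open CategoryTheory CategoryTheory.Limits AlgebraicGeometry TopologicalSpace Opposite
  HomologicalComplex
attribute [local instance] HasDerivedCategory.standard

namespace Groth.Agent.R2.H27.ProjPerfC

open Groth.Agent.R2.H28.DerBase Groth.Agent.R2.H28.GlueTwo Groth.Agent.R2.H4.Perf
  Groth.Agent.Lib.Helper1.BKF

variable {Y : Scheme.{u}}

/-- the extension by zero of a complex -/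
noncomputable abbrev extC (V : Y.Opens) :
    CochainComplex (V : Scheme.{u}).Modules ℤ ⥤ CochainComplex Y.Modules ℤ :=
  (CxOX.extZero V.ι).mapHomologicalComplex (ComplexShape.up ℤ)

theorem exists_local_roof (P : CochainComplex Y.Modules ℤ)
    (hperf : DCoh.IsPerfect (DerivedCategory.Q.obj P)) (y : Y) :
    ∃ (V : Y.Opens) (_ : y ∈ V) (F : CochainComplex (V : Scheme.{u}).Modules ℤ) (a b : ℤ)
      (_ : DCoh.VanishesOutside F a b)
      (_ : ∀ i : ℤ, ∃ n : ℕ, Nonempty (F.X i ≅ FlatMod.freeMod (V : Scheme.{u}) n))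
      (P₁ : CochainComplex Y.Modules ℤ) (_ : DCoh.IsKFlat P₁)
      (s : P₁ ⟶ (extC V).obj F) (g : P₁ ⟶ P),
      IsIso ((DCoh.restrictD V.ι).map (DerivedCategory.Q.map s)) ∧
      IsIso ((DCoh.restrictD V.ι).map (DerivedCategory.Q.map g)) := by
  obtain ⟨V, hyV, hV⟩ := (isPerfect_iff_locally_finite_free_complex _).1 hperf y
  obtain ⟨F, a, b, hF, hfree, ⟨e⟩⟩ := hV P ⟨Iso.refl _⟩
  haveI := pfl_extZero V
  let θ : DerivedCategory.Q.obj F ≅ (DCoh.restrictD V.ι).obj (DerivedCategory.Q.obj P) :=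
    e.symm ≪≫ (restrictDQIso V.ι P).symm
  obtain ⟨β, hβ⟩ := exists_map_extZeroD V (DerivedCategory.Q.obj F) (DerivedCategory.Q.obj P) θ
  let c : (CxOX.extZeroD V.ι).obj (DerivedCategory.Q.obj F) ≅
      DerivedCategory.Q.obj ((extC V).obj F) :=
    (CxOX.extZero V.ι).mapDerivedCategoryFactors.app F
  let β' : DerivedCategory.Q.obj ((extC V).obj F) ⟶ DerivedCategory.Q.obj P := c.inv ≫ β
  obtain ⟨A, s, hs, g, hfac⟩ := DerivedCategory.right_fac β'
  obtain ⟨P₁, q, hP₁, -, hq, -⟩ : ∃ (K : CochainComplex Y.Modules ℤ) (q : K ⟶ A),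
      DCoh.IsKFlat K ∧ (∀ n : ℤ, ModSite.IsFlat (O := Y.sheaf) (K.X n)) ∧ QuasiIso q ∧
        ∀ n : ℤ, Epi (q.f n) := exists_kflat_flat_resolution Y.sheaf A
  haveI : QuasiIso q := hq
  haveI hQq : IsIso (DerivedCategory.Q.map q) := by
    rw [DerivedCategory.isIso_Q_map_iff_quasiIso]; exact hq
  haveI := hs
  refine ⟨V, hyV, F, a, b, hF, hfree, P₁, hP₁, q ≫ s, q ≫ g, ?_, ?_⟩
  · rw [DerivedCategory.Q.map_comp]
    infer_instance
  · have h1 : DerivedCategory.Q.map (q ≫ g) =
        (DerivedCategory.Q.map q ≫ DerivedCategory.Q.map s ≫ c.inv) ≫ β := by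
      rw [DerivedCategory.Q.map_comp]
      have : DerivedCategory.Q.map g = DerivedCategory.Q.map s ≫ β' := by
        rw [hfac, IsIso.hom_inv_id_assoc]
      rw [this]
      simp only [β', Category.assoc]
    rw [h1, Functor.map_comp]
    infer_instance

end Groth.Agent.R2.H27.ProjPerfC
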