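import Mathlib
set_option backward.isDefEq.respectTransparency.types false

/-!
# The Euler characteristic of a bounded complex of finite dimensional vector spaces
(helper4, round 2)
-/

set_option autoImplicit false
universe u
open CategoryTheory CategoryTheory.Limits HomologicalComplex

namespace Groth.Agent.R2.H4.Euler

variable {K : Type u} [Field K]

/-- the dimension of the homology of a short complex of finite dimensional vector spaces. -/
lemma finrank_homology (S : ShortComplex (ModuleCat.{u} K)) [Module.Finite K S.X₂] :
    (Module.finrank K S.homology : ℤ) =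
      Module.finrank K (LinearMap.ker S.g.hom) - Module.finrank K (LinearMap.range S.f.hom) := by
  have e := S.moduleCatHomologyIso.toLinearEquiv
  rw [e.finrank_eq]
  show (Module.finrank K
    (LinearMap.ker S.g.hom ⧸ LinearMap.range S.moduleCatToCycles) : ℤ) = _
  have h1 := Submodule.finrank_quotient_add_finrank (LinearMap.range S.moduleCatToCycles)
  have h2 : Module.finrank K (LinearMap.range S.moduleCatToCycles) =
      Module.finrank K (LinearMap.range S.f.hom) := by
    have h3 : (LinearMap.range S.moduleCatToCycles).map (LinearMap.ker S.g.hom).subtype =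
        LinearMap.range S.f.hom := by
      rw [← LinearMap.range_comp]
      rfl
    rw [← h3]
    exact (LinearEquiv.finrank_eq (Submodule.equivMapOfInjective _
      (Submodule.injective_subtype _) _))
  omega

/-- the dimension of the homology of a complex of finite dimensional vector spaces. -/
lemma finrank_homology_complex (D : CochainComplex (ModuleCat.{u} K) ℤ) (i : ℤ)
    [Module.Finite K (D.X i)] :
    (Module.finrank K (D.homology i) : ℤ) =
      Module.finrank K (D.X i) - Module.finrank K (LinearMap.range (D.d i (i + 1)).hom) -
        Module.finrank K (LinearMap.range (D.d (i - 1) i).hom) := by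
  have e : D.homology i ≅ (D.sc' (i - 1) i (i + 1)).homology :=
    ShortComplex.homologyMapIso (D.isoSc' (i - 1) i (i + 1) (by simp) (by simp))
  rw [e.toLinearEquiv.finrank_eq]
  have : Module.Finite K (D.sc' (i - 1) i (i + 1)).X₂ := inferInstanceAs (Module.Finite K (D.X i))
  have h0 : (Module.finrank K (D.sc' (i - 1) i (i + 1)).homology : ℤ) =
      Module.finrank K (LinearMap.ker (D.d i (i + 1)).hom) -
        Module.finrank K (LinearMap.range (D.d (i - 1) i).hom) :=
    finrank_homology (D.sc' (i - 1) i (i + 1))
  have h1 : (Module.finrank K (LinearMap.range (D.d i (i + 1)).hom) : ℤ) +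
      Module.finrank K (LinearMap.ker (D.d i (i + 1)).hom) = Module.finrank K (D.X i) := by
    exact_mod_cast LinearMap.finrank_range_add_finrank_ker (D.d i (i + 1)).hom
  rw [h0]
  linarith

/-- the Euler characteristic of a bounded complex of finite dimensional vector spaces can be
computed on its terms. -/
theorem finsum_homology_eq (D : CochainComplex (ModuleCat.{u} K) ℤ) (a b : ℤ)
    (hD : ∀ i, i < a ∨ b < i → IsZero (D.X i)) (hfin : ∀ i, Module.Finite K (D.X i)) :
    finsum (fun i : ℤ => (i.negOnePow : ℤ) * (Module.finrank K (D.homology i) : ℤ)) =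
      finsum (fun i : ℤ => (i.negOnePow : ℤ) * (Module.finrank K (D.X i) : ℤ)) := by
  let r : ℤ → ℤ := fun i => Module.finrank K (LinearMap.range (D.d i (i + 1)).hom)
  let x : ℤ → ℤ := fun i => Module.finrank K (D.X i)
  have hx : ∀ i, i < a ∨ b < i → x i = 0 := fun i hi => by
    have : Subsingleton (D.X i) := ModuleCat.subsingleton_of_isZero (hD i hi)
    simp only [x]
    rw [Module.finrank_zero_of_subsingleton]
    rfl
  have hr : ∀ i, i < a ∨ b < i → r i = 0 := fun i hi => by
    have : Subsingleton (D.X i) := ModuleCat.subsingleton_of_isZero (hD i hi)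
    have h1 : LinearMap.range (D.d i (i + 1)).hom = ⊥ := by
      rw [LinearMap.range_eq_bot]
      ext y
      rw [Subsingleton.elim y 0, map_zero]
      rfl
    simp only [r]
    rw [h1, finrank_bot]
    rfl
  have hh : ∀ i, (Module.finrank K (D.homology i) : ℤ) = x i - r i - r (i - 1) := fun i => by
    have := hfin i
    have h1 := finrank_homology_complex D i
    have h2 : i - 1 + 1 = i := by omega
    simp only [x, r]
    rw [h1]
    congr 3 <;> rw [h2]
  -- finite supports
  have hsx : Function.HasFiniteSupport (fun i : ℤ => (i.negOnePow : ℤ) * x i) :=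
    (Set.finite_Icc a b).subset (fun i hi => by
      by_contra hc
      rw [Set.mem_Icc, not_and_or, not_le, not_le] at hc
      exact hi (by simp [hx i hc]))
  have hsr : Function.HasFiniteSupport (fun i : ℤ => (i.negOnePow : ℤ) * r i) :=
    (Set.finite_Icc a b).subset (fun i hi => by
      by_contra hc
      rw [Set.mem_Icc, not_and_or, not_le, not_le] at hc
      exact hi (by simp [hr i hc]))
  have hsr' : Function.HasFiniteSupport (fun i : ℤ => (i.negOnePow : ℤ) * r (i - 1)) :=
    (Set.finite_Icc (a + 1) (b + 1)).subset (fun i hi => by
      by_contra hc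
      rw [Set.mem_Icc, not_and_or, not_le, not_le] at hc
      exact hi (by simp [hr (i - 1) (by omega)]))
  have e1 : (fun i : ℤ => (i.negOnePow : ℤ) * (Module.finrank K (D.homology i) : ℤ)) =
      fun i => ((i.negOnePow : ℤ) * x i - (i.negOnePow : ℤ) * r i) -
        (i.negOnePow : ℤ) * r (i - 1) := by
    funext i
    rw [hh i]
    ring
  have hsxr : Function.HasFiniteSupport
      (fun i : ℤ => (i.negOnePow : ℤ) * x i - (i.negOnePow : ℤ) * r i) :=
    (Set.finite_Icc a b).subset (fun i hi => by
      by_contra hc
      rw [Set.mem_Icc, not_and_or, not_le, not_le] at hc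
      exact hi (by simp [hx i hc, hr i hc]))
  rw [e1, finsum_sub_distrib hsxr hsr', finsum_sub_distrib hsx hsr]
  have e2 : finsum (fun i : ℤ => (i.negOnePow : ℤ) * r (i - 1)) =
      - finsum (fun i : ℤ => (i.negOnePow : ℤ) * r i) := by
    rw [← finsum_neg_distrib]
    have h1 := finsum_comp_equiv (Equiv.subRight (1 : ℤ))
      (f := fun j : ℤ => - ((j.negOnePow : ℤ) * r j))
    rw [← h1]
    congr 1
    funext i
    simp only [Equiv.subRight_apply]
    rw [Int.negOnePow_sub, Int.negOnePow_one]
    simp
  rw [e2]
  ring

end Groth.Agent.R2.H4.Euler
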