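import Mathlib
import Groth.Prelude.Def_PerfD
import Groth.Agent.R2.H4Euler
import Groth.Agent.R2.H4PerfFree
import Groth.Agent.Lib.Helper1Sky9
import Groth.Agent.Lib.Helper4ModEpi
import Groth.Agent.Lib.Helper2RankLoc
import Groth.Agent.Lib.Helper23PB
set_option backward.isDefEq.respectTransparency.types false

/-!
# The Euler characteristic of a perfect object is locally constant (helper4, round 2)
-/

set_option autoImplicit false
universe u
open CategoryTheory CategoryTheory.Limits AlgebraicGeometry HomologicalComplex Opposite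
  TopologicalSpace

attribute [local instance] HasDerivedCategory.standard

namespace Groth.Agent.R2.H4.EulerChar

open DerivedCategory Groth.Agent.R2.H4.Perf Groth.Agent.R2.H4.Euler

section Sections

variable (Z : Scheme.{u})

/-- the global sections functor. -/
noncomputable abbrev secTop : Z.Modules ⥤ ModuleCat.{u} (Coh.Γtop Z) :=
  SheafOfModules.evaluation Z.ringCatSheaf (op ⊤)

instance : (secTop Z).Additive :=
  inferInstanceAs ((SheafOfModules.forget _ ⋙ PresheafOfModules.evaluation _ (op ⊤)).Additive)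

instance : PreservesFiniteLimits (secTop Z) :=
  inferInstanceAs (PreservesFiniteLimits (SheafOfModules.evaluation Z.ringCatSheaf (op ⊤)))

variable {Z}

/-- on a scheme in which every open neighbourhood of `z` is everything, epimorphisms are
surjective on global sections. -/
lemma epi_secTop_map (z : Z) (hz : ∀ W : Z.Opens, z ∈ W → W = ⊤) {A B : Z.Modules} (φ : A ⟶ B)
    [Epi φ] : Epi ((secTop Z).map φ) := by
  rw [ModuleCat.epi_iff_surjective]
  intro t
  obtain ⟨W, hWV, hzW, s, hs⟩ := Groth.Agent.Lib.Helper4.ModEpi.exists_app_eq_of_epi φ ⊤ t z trivial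
  obtain rfl := hz W hzW
  refine ⟨s, hs.trans ?_⟩
  have : (homOfLE hWV).op = 𝟙 (op (⊤ : Z.Opens)) := rfl
  rw [this, B.presheaf.map_id]
  rfl

lemma preservesFiniteColimits_secTop (z : Z) (hz : ∀ W : Z.Opens, z ∈ W → W = ⊤) :
    PreservesFiniteColimits (secTop Z) := by
  rw [Functor.preservesFiniteColimits_iff_forall_exact_map_and_epi]
  intro S hS
  have := hS.mono_f
  have := hS.epi_g
  exact ⟨hS.exact.map_of_mono_of_preservesKernel (secTop Z) inferInstance inferInstance,
    epi_secTop_map z hz S.g⟩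

end Sections

theorem finsum_homology_eq' {K : Type u} [inst : Ring K] (hK : IsField K)
    (D : CochainComplex (ModuleCat.{u} K) ℤ) (a b : ℤ)
    (hD : ∀ i, i < a ∨ b < i → IsZero (D.X i)) (hfin : ∀ i, Module.Finite K (D.X i)) :
    finsum (fun i : ℤ => (i.negOnePow : ℤ) * (Module.finrank K (D.homology i) : ℤ)) =
      finsum (fun i : ℤ => (i.negOnePow : ℤ) * (Module.finrank K (D.X i) : ℤ)) := by
  obtain ⟨F, hF⟩ : ∃ F : Field K, F.toDivisionRing.toRing = inst := ⟨hK.toField, rfl⟩
  subst hF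
  exact finsum_homology_eq D a b hD hfin

lemma finrank_finsupp_of_isField {K : Type u} [inst : Ring K] (hK : IsField K) (n : ℕ) :
    Module.finrank K (Fin n →₀ K) = n := by
  obtain ⟨F, hF⟩ : ∃ F : Field K, F.toDivisionRing.toRing = inst := ⟨hK.toField, rfl⟩
  subst hF
  rw [Module.finrank_finsupp_self, Fintype.card_fin]

/-- the pullback of a finite free module is finite free. -/
noncomputable def pullbackFreeModIso {X Y : Scheme.{u}} (f : X ⟶ Y) (n : ℕ) :
    (Scheme.Modules.pullback f).obj (FlatMod.freeMod Y n) ≅ FlatMod.freeMod X n :=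
  haveI := (Scheme.Modules.pullbackPushforwardAdjunction f).leftAdjoint_preservesColimits
  PreservesCoproduct.iso (Scheme.Modules.pullback f) _ ≪≫
    Sigma.mapIso (fun _ => Groth.Agent.Lib.Helper23.PB.pullbackUnitIso f)

section Point

variable {Z : Scheme.{u}} [IsAffine Z]

lemma finrank_sections_of_iso_freeMod (hK : IsField (Coh.Γtop Z)) (N : Z.Modules) {n : ℕ}
    (e : N ≅ FlatMod.freeMod Z n) :
    Module.Finite (Coh.Γtop Z) ((secTop Z).obj N) ∧
      Module.finrank (Coh.Γtop Z) ((secTop Z).obj N) = n := by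
  obtain ⟨E⟩ := Groth.Agent.Lib.Helper2.RankLoc.nonempty_sections_equiv_of_iso_freeMod N e
    (isAffineOpen_top Z)
  let E' : ((secTop Z).obj N) ≃ₗ[Coh.Γtop Z] (Fin n →₀ Coh.Γtop Z) := E
  constructor
  · exact Module.Finite.equiv E'.symm
  · exact E'.finrank_eq.trans (finrank_finsupp_of_isField hK n)

theorem finsum_betti_of_free (z : Z) (hz : ∀ W : Z.Opens, z ∈ W → W = ⊤)
    (hK : IsField (Coh.Γtop Z)) (C : CochainComplex Z.Modules ℤ) (a b : ℤ)
    (hv : DCoh.VanishesOutside C a b) (n : ℤ → ℕ)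
    (e : ∀ i, Nonempty (C.X i ≅ FlatMod.freeMod Z (n i))) (K : DCoh.D Z) (eK : Q.obj C ≅ K) :
    finsum (fun i : ℤ => (i.negOnePow : ℤ) *
      (Module.finrank (Coh.Γtop Z) ((DCoh.HD K i).val.obj (op ⊤)) : ℤ)) =
    finsum (fun i : ℤ => (i.negOnePow : ℤ) * (n i : ℤ)) := by
  haveI := preservesFiniteColimits_secTop z hz
  let D := ((secTop Z).mapHomologicalComplex (ComplexShape.up ℤ)).obj C
  have hD : ∀ i, i < a ∨ b < i → IsZero (D.X i) := fun i hi => (secTop Z).map_isZero (hv i hi)
  have hfr : ∀ i, Module.Finite (Coh.Γtop Z) (D.X i) ∧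
      Module.finrank (Coh.Γtop Z) (D.X i) = n i := fun i => by
    obtain ⟨ei⟩ := e i
    exact finrank_sections_of_iso_freeMod hK (C.X i) ei
  have h1 := finsum_homology_eq' hK D a b hD (fun i => (hfr i).1)
  have h2 : ∀ i, Module.finrank (Coh.Γtop Z) ((DCoh.HD K i).val.obj (op ⊤)) =
      Module.finrank (Coh.Γtop Z) (D.homology i) := fun i => by
    let e1 : DCoh.HD K i ≅ C.homology i :=
      (homologyFunctor _ i).mapIso eK.symm ≪≫ (homologyFunctorFactors _ i).app C
    let e2 : (secTop Z).obj (C.homology i) ≅ D.homology i :=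
      ((C.sc i).mapHomologyIso (secTop Z)).symm
    exact ((secTop Z).mapIso e1 ≪≫ e2).toLinearEquiv.finrank_eq
  simp_rw [h2, h1, (hfr _).2]

end Point

section Global

open Groth.Agent.Lib.Helper1.Sky

variable {X : Scheme.{u}}

lemma isField_Γtop_Spec (R : CommRingCat.{u}) (hR : IsField R) : IsField (Coh.Γtop (Spec R)) :=
  MulEquiv.isField hR (Scheme.ΓSpecIso R).commRingCatIsoToRingEquiv.toMulEquiv

lemma opens_eq_top_of_isField (R : CommRingCat.{u}) (hR : IsField R) (z : Spec R)
    (W : (Spec R).Opens) (hz : z ∈ W) : W = ⊤ := by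
  letI := hR.toField
  haveI : Subsingleton (Spec R) := inferInstanceAs (Subsingleton (PrimeSpectrum R))
  ext w
  simp only [Opens.coe_top, Set.mem_univ, iff_true, SetLike.mem_coe]
  rwa [Subsingleton.elim w z]

theorem eulerChar_eq_of_free [∀ x : X, DCoh.HasLpull (X.fromSpecResidueField x)]
    (E : DCoh.D X) (V : X.Opens) (P : CochainComplex (V : Scheme.{u}).Modules ℤ) (a b : ℤ)
    (hv : DCoh.VanishesOutside P a b) (n : ℤ → ℕ)
    (hn : ∀ i, Nonempty (P.X i ≅ FlatMod.freeMod (V : Scheme.{u}) (n i)))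
    (eP : Q.obj P ≅ (DCoh.restrictD V.ι).obj E) (y : X) (hy : y ∈ V) :
    PerfD.eulerChar E y = finsum (fun i : ℤ => (i.negOnePow : ℤ) * (n i : ℤ)) := by
  let Z : Scheme.{u} := Spec (X.residueField y)
  let iy : Z ⟶ X := X.fromSpecResidueField y
  have hr : Set.range iy ⊆ Set.range V.ι := by
    rw [Scheme.range_fromSpecResidueField, Scheme.Opens.range_ι]
    simpa using hy
  let k : Z ⟶ V := IsOpenImmersion.lift V.ι iy hr
  have fac : k ≫ V.ι = iy := IsOpenImmersion.lift_fac _ _ _
  haveI : DCoh.HasLpull k := hasLpull _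
  haveI : DCoh.HasLpull V.ι := hasLpull _
  haveI : DCoh.HasLpull (k ≫ V.ι) := hasLpull _
  obtain ⟨c1⟩ := nonempty_lpull_comp_iso k V.ι
  obtain ⟨c2⟩ := nonempty_lpull_congr fac
  let F₀ : CochainComplex X.Modules ℤ := Q.objPreimage E
  let e₀ : Q.obj F₀ ≅ E := Q.objObjPreimageIso E
  have hP : DCoh.IsStrictlyPerfect P := by
    refine ⟨⟨a, b, hv⟩, fun i => ?_⟩
    obtain ⟨ei⟩ := hn i
    exact Groth.Agent.R2.H4.LocHtpy.isFinLocFree_of_iso ei.symm (isFinLocFree_freeMod _ (n i))
  let eL : (DCoh.Lpull iy).obj E ≅ Q.obj ((pullC k).obj P) :=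
    (c2.app E).symm ≪≫ (c1.app E).symm ≪≫
      (DCoh.Lpull k).mapIso ((DCoh.Lpull V.ι).mapIso e₀.symm ≪≫ lpullOpenIso V F₀ ≪≫
        (restrictDQIso V.ι F₀).symm ≪≫ (DCoh.restrictD V.ι).mapIso e₀ ≪≫ eP.symm) ≪≫
      lpullIso k P (kffs_of_isStrictlyPerfect P hP)
  have hR : IsField (X.residueField y) := Field.toIsField _
  obtain ⟨z⟩ : Nonempty Z := inferInstance
  have hz : ∀ W : Z.Opens, z ∈ W → W = ⊤ := fun W hW => opens_eq_top_of_isField _ hR z W hW
  have hK : IsField (Coh.Γtop Z) := isField_Γtop_Spec _ hR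
  exact finsum_betti_of_free z hz hK ((pullC k).obj P) a b
    (fun i hi => (Scheme.Modules.pullback k).map_isZero (hv i hi)) n
    (fun i => by
      obtain ⟨ei⟩ := hn i
      exact ⟨(Scheme.Modules.pullback k).mapIso ei ≪≫ pullbackFreeModIso k (n i)⟩)
    ((DCoh.Lpull iy).obj E) eL.symm

/-- S1059: the Euler characteristic of a perfect object is locally constant. -/
theorem eulerChar_isLocallyConstant [∀ x : X, DCoh.HasLpull (X.fromSpecResidueField x)]
    (E : DCoh.D X) (hE : DCoh.IsPerfect E) :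
    IsLocallyConstant (fun x : X => PerfD.eulerChar E x) := by
  rw [IsLocallyConstant.iff_exists_open]
  intro x
  obtain ⟨V, hxV, P, a, b, hv, hfree, ⟨eP⟩⟩ :=
    (loc_iff_opens isLocalPred_sfRep E).1 ((loc_sfRep_iff E).2 ((isPerfect_iff E).1 hE)) x
  choose n hn using hfree
  refine ⟨V, V.2, hxV, fun y hy => ?_⟩
  rw [eulerChar_eq_of_free E V P a b hv n hn eP y hy,
    eulerChar_eq_of_free E V P a b hv n hn eP x hxV]

end Global

end Groth.Agent.R2.H4.EulerChar
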