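import Mathlib
import Groth.Agent.R2.H27ProjPerfC
import Groth.Agent.R2.H28ProjPkg7
import Groth.Agent.R2.H28ExtZeroMono
import Groth.Agent.R2.H4EulerChar
import Groth.Agent.R2.H28HasRpush
import Groth.Agent.Lib.Helper1PT4
import Groth.Agent.Lib.Helper1Sky9
set_option backward.isDefEq.respectTransparency.types false

/-!
# The derived projection morphism for the extension by zero of a bounded finite free complex
(helper27)

`isIso_restrict_w_extZero`: for `F` a bounded complex of finite free modules on an open `V ⊆ Y` and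
`I` K-injective on `X`, the derived projection morphism `w f I (j_! F)` is invertible over `V`
(given the packages `Pkg7`, `Pkg3a`, `Pkg4`).  `isIso_w`: the derived projection morphism is
invertible for every K-flat complex representing a perfect object.
-/

set_option autoImplicit false
set_option linter.style.haveILetI false
set_option linter.unusedSectionVars false
universe u
open CategoryTheory CategoryTheory.Limits AlgebraicGeometry TopologicalSpace Opposite
  HomologicalComplex
attribute [local instance] HasDerivedCategory.standard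

namespace Groth.Agent.R2.H27.ProjPerfE

open Groth.Agent.Lib.Helper1.PT Groth.Agent.Lib.Helper1.Sky Groth.Agent.Lib.Helper1.KBC
  Groth.Agent.R2.H27.ProjClosed Groth.Agent.R2.H27.ProjPerfA Groth.Agent.R2.H4.DerivedAdj
  Groth.Agent.R2.H28.DerBase Groth.Agent.R2.H27.ProjPerfD Groth.Agent.R2.H27.ProjPerfSpec
  Groth.Agent.R2.H27.ProjPerfB Groth.Agent.R2.H27.ProjPerfC Groth.Agent.Lib.Helper17.KInj

variable {X Y : Scheme.{u}} (f : X ⟶ Y)

/-- the restriction of `j_! M` is `M` -/
lemma nonempty_restrict_extZero_iso (V : Y.Opens) (M : (V : Scheme.{u}).Modules) (n : ℕ)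
    (e : M ≅ FlatMod.freeMod (V : Scheme.{u}) n) :
    Nonempty ((Scheme.Modules.restrictFunctor V.ι).obj ((CxOX.extZero V.ι).obj M) ≅
      FlatMod.freeMod (V : Scheme.{u}) n) :=
  ⟨(asIso ((CxOX.extZeroAdj V.ι).unit.app M)).symm ≪≫ e⟩

/-- the restriction to `f⁻¹ V` of the pullback of a module free over `V` is free -/
lemma nonempty_restrict_pullback_iso (V : Y.Opens) (L : Y.Modules) (n : ℕ)
    (e : (Scheme.Modules.restrictFunctor V.ι).obj L ≅ FlatMod.freeMod (V : Scheme.{u}) n) :
    Nonempty ((Scheme.Modules.restrictFunctor (f ⁻¹ᵁ V).ι).obj ((Scheme.Modules.pullback f).obj L) ≅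
      FlatMod.freeMod ((f ⁻¹ᵁ V : X.Opens) : Scheme.{u}) n) :=
  ⟨(Scheme.Modules.restrictFunctorIsoPullback (f ⁻¹ᵁ V).ι).app _ ≪≫
    (Groth.Agent.R2.H28.ProjPkg7.plbRestrictIso f V).app L ≪≫
    (Scheme.Modules.pullback (f ∣_ V)).mapIso
      (((Scheme.Modules.restrictFunctorIsoPullback V.ι).app L).symm ≪≫ e) ≪≫
    Groth.Agent.R2.H4.EulerChar.pullbackFreeModIso (f ∣_ V) n⟩

/-- restriction to an open commutes with the tensor product of complexes -/
lemma nonempty_restrictCx_tensorCx_iso (U : X.Opens) (L K : CochainComplex X.Modules ℤ) :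
    Nonempty ((DCoh.restrictCx U).obj ((DCoh.tensorCx.obj L).obj K) ≅
      (DCoh.tensorCx.obj ((DCoh.restrictCx U).obj L)).obj ((DCoh.restrictCx U).obj K)) := by
  obtain ⟨t⟩ := nonempty_pullTotIso U.ι L K
  exact ⟨(restrictCxIso U).app _ ≪≫ t ≪≫
    (DCoh.tensorCx.mapIso ((restrictCxIso U).app L).symm).app _ ≪≫
    (DCoh.tensorCx.obj _).mapIso ((restrictCxIso U).app K).symm⟩

variable [DCoh.HasRpush f]

theorem isIso_restrict_w_extZero (h7 : Pkg7.{u}) (h3a : Pkg3a.{u}) (h4 : Pkg4.{u})
    (V : Y.Opens) (I : CochainComplex X.Modules ℤ) [I.IsKInjective]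
    (F : CochainComplex (V : Scheme.{u}).Modules ℤ) (a b : ℤ) (hF : DCoh.VanishesOutside F a b)
    (hfree : ∀ i : ℤ, ∃ n : ℕ, Nonempty (F.X i ≅ FlatMod.freeMod (V : Scheme.{u}) n)) :
    IsIso ((DCoh.restrictD V.ι).map (w f I ((extC V).obj F))) := by
  haveI : DCoh.HasRpush (f ∣_ V) := Groth.Agent.R2.H28.HasRpush.hasRpush _
  let N := (extC V).obj F
  have hN : DCoh.VanishesOutside N a b := fun i hi => (CxOX.extZero V.ι).map_isZero (hF i hi)
  have hNfree : ∀ q : ℤ, ∃ n : ℕ, Nonempty ((Scheme.Modules.restrictFunctor V.ι).obj (N.X q) ≅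
      FlatMod.freeMod (V : Scheme.{u}) n) := fun q => by
    obtain ⟨n, ⟨e⟩⟩ := hfree q
    exact ⟨n, nonempty_restrict_extZero_iso V (F.X q) n e⟩
  -- the chain-level part
  have hτ : ∀ p q : ℤ, IsIso ((Scheme.Modules.restrictFunctor V.ι).map
      (proj f (I.X p) (N.X q))) := fun p q => by
    obtain ⟨n, hn⟩ := hNfree q
    exact h7 f V (I.X p) (N.X q) n hn
  have hθ : IsIso ((DCoh.restrictCx V).map (theta f I N)) := isIso_restrict_theta f I N V a b hN hτ
  have hθD : IsIso ((DCoh.restrictD V.ι).map (DerivedCategory.Q.map (theta f I N))) := by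
    have h1 : IsIso (DerivedCategory.Q.map ((DCoh.restrictCx V).map (theta f I N))) := by
      haveI := hθ; infer_instance
    exact (NatIso.isIso_map_iff
      (Scheme.Modules.restrictFunctor V.ι).mapDerivedCategoryFactors (theta f I N)).2 h1
  -- the unit part
  let U : X.Opens := f ⁻¹ᵁ V
  let T := (DCoh.tensorCx.obj I).obj ((pullC f).obj N)
  haveI : ((DCoh.restrictCx U).obj I).IsKInjective := isKInjective_restrict U I
  let G := (DCoh.restrictCx U).obj ((pullC f).obj N)
  have hG : DCoh.VanishesOutside G a b := fun i hi =>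
    (Scheme.Modules.restrictFunctor U.ι).map_isZero
      ((Scheme.Modules.pullback f).map_isZero (hN i hi))
  have hGfree : ∀ q : ℤ, ∃ n : ℕ, Nonempty (G.X q ≅ FlatMod.freeMod (U : Scheme.{u}) n) :=
    fun q => by
      obtain ⟨n, ⟨e⟩⟩ := hNfree q
      exact ⟨n, nonempty_restrict_pullback_iso f V (N.X q) n e⟩
  have hKI : CochainComplex.IsKInjective
      ((DCoh.tensorCx.obj ((DCoh.restrictCx U).obj I)).obj G) :=
    h4 ((DCoh.restrictCx U).obj I) G a b hG hGfree
  obtain ⟨eT⟩ := nonempty_restrictCx_tensorCx_iso U I ((pullC f).obj N)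
  haveI hKT : ((DCoh.restrictCx U).obj T).IsKInjective :=
    CochainComplex.isKInjective_of_iso eT.symm
  have hu : IsIso ((unitC (f ∣_ V)).app ((DCoh.restrictCx U).obj T)) :=
    isIso_app_of_isKInjective (Scheme.Modules.pushforward (f ∣_ V)) (DCoh.Rpush (f ∣_ V))
      (unitC (f ∣_ V)) ((DCoh.restrictCx U).obj T)
  have huD : IsIso ((DCoh.restrictD V.ι).map ((unitC f).app T)) := (h3a f V T).2 hu
  unfold w
  rw [Functor.map_comp]
  haveI := hθD
  haveI := huD
  infer_instance

/-- the derived projection morphism is invertible for K-flat complexes representing a perfect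
object -/
theorem isIso_w (h3a : Pkg3a.{u}) (h3b : Pkg3b.{u}) (h4 : Pkg4.{u}) (h5 : Pkg5.{u})
    (h7 : Pkg7.{u}) (h8a : Pkg8a.{u}) (h8b : Pkg8b.{u})
    (P : CochainComplex Y.Modules ℤ) (hP : DCoh.IsKFlat P)
    (hperf : DCoh.IsPerfect (DerivedCategory.Q.obj P))
    (I : CochainComplex X.Modules ℤ) [I.IsKInjective] : IsIso (w f I P) := by
  apply isIso_of_forall_exists_isIso_restrictD
  intro y
  obtain ⟨V, hyV, F, a, b, hF, hfree, P₁, hP₁, s, g, hs, hg⟩ := exists_local_roof P hperf y
  refine ⟨V, hyV, ?_⟩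
  have hjF : DCoh.IsKFlat ((extC V).obj F) := h5 V F a b hF hfree
  have h1 := isIso_restrict_w_extZero f h7 h3a h4 V I F a b hF hfree
  have h2 := (isIso_restrict_w_iff f h8a h8b h3b V I s hP₁ hjF hs).2 h1
  exact (isIso_restrict_w_iff f h8a h8b h3b V I g hP₁ hP hg).1 h2

end Groth.Agent.R2.H27.ProjPerfE
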