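import Mathlib
import Groth.Prelude.Def_QuotSh
import Groth.Agent.Lib.Helper12QuotSh

/-!
# Sections of sheaves on the big site of `S` as morphisms out of `QuotSh.rep` (helper27)

Namespace `Groth.Agent.R2.H27.QuotSec`.

* `sec K F : (rep K T ⟶ F) ≃ F(T)` with `sec_comp`, `sec_repMap`.
* `eq_of_cover`: two maps `rep K W ⟶ F` that agree on a `K`-covering of `W` are equal.
* `exists_local_lift`: a map `rep K T ⟶ F` lifts, `K`-locally on `T`, through an epimorphism `rep K U ⟶ F`.
* `exists_rel_iff`: for an equivalence relation `s, t : R ⇉ U` and a subcanonical topology, two points `a, b` of `U`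
  have the same image in `U/R` iff they are `R`-related.
-/

set_option autoImplicit false
universe u

open CategoryTheory Limits AlgebraicGeometry Opposite

namespace Groth.Agent.R2.H27.QuotSec

open Groth.Agent.Lib.Helper9 Groth.Agent.Lib.Helper12.QuotShLib

variable (K : Precoverage Scheme.{u}) {S : Scheme.{u}}

/-- Sections of a sheaf `F` over `T` are the morphisms `h_T ⟶ F`. -/
noncomputable def sec {T : Over S} (F : QuotSh.Sh K S) : (QuotSh.rep K T ⟶ F) ≃ F.obj.obj (op T) :=
  ((sheafificationAdjunction (QuotSh.J K S) (Type (u + 1))).homEquiv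
    (yoneda.obj T ⋙ uliftFunctor.{u + 1, u}) F).trans uliftYonedaEquiv.{u + 1}

lemma sec_comp {T : Over S} {F G : QuotSh.Sh K S} (σ : QuotSh.rep K T ⟶ F) (φ : F ⟶ G) :
    sec K G (σ ≫ φ) = φ.hom.app (op T) (sec K F σ) := by
  unfold sec
  simp only [Equiv.trans_apply]
  rw [Adjunction.homEquiv_naturality_right]
  rfl

lemma sec_repMap {T T' : Over S} {F : QuotSh.Sh K S} (g : T' ⟶ T) (σ : QuotSh.rep K T ⟶ F) :
    sec K F (QuotSh.repMap K g ≫ σ) = F.obj.map g.op (sec K F σ) := by
  unfold sec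
  simp only [Equiv.trans_apply]
  rw [Adjunction.homEquiv_naturality_left]
  exact (uliftYonedaEquiv_naturality.{u + 1} (X := op T) (Y := op T')
    ((sheafificationAdjunction (QuotSh.J K S) (Type (u + 1))).homEquiv _ F σ) g.op).symm

/-- the arrow of `Over S` given by a morphism of schemes into the source of `W` -/
abbrev res {W : Over S} {V : Scheme.{u}} (a : V ⟶ W.left) : Over.mk (a ≫ W.hom) ⟶ W := Over.homMk a rfl

/-- Two maps `h_W ⟶ F` that agree on a `K`-covering of `W` are equal. -/
theorem eq_of_cover {W : Over S} {F : QuotSh.Sh K S} (α β : QuotSh.rep K W ⟶ F)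
    (Rc : Presieve W.left) (hRc : Rc ∈ K W.left)
    (h : ∀ ⦃V : Scheme.{u}⦄ (a : V ⟶ W.left), Rc a →
      QuotSh.repMap K (res a) ≫ α = QuotSh.repMap K (res a) ≫ β) : α = β := by
  apply (sec K F).injective
  have hsv : (Sieve.overEquiv W).symm (Sieve.generate Rc) ∈ QuotSh.J K S W := by
    rw [GrothendieckTopology.mem_over_iff, OrderIso.apply_symm_apply]
    exact Precoverage.generate_mem_toGrothendieck hRc
  have hsep := ((isSheaf_iff_isSheaf_of_type _ _).1 F.property).isSeparated _ hsv
  refine hsep.ext (fun W' f hf => ?_)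
  rw [Sieve.overEquiv_symm_iff] at hf
  obtain ⟨V, b, a, ha, hba⟩ := hf
  have hb : b ≫ (Over.mk (a ≫ W.hom)).hom = W'.hom := by
    change b ≫ a ≫ W.hom = _
    rw [← Category.assoc, hba, Over.w]
  have hf' : f = Over.homMk b hb ≫ res a := by
    apply Over.OverMorphism.ext
    simp [hba]
  rw [← sec_repMap, ← sec_repMap, hf', repMap_comp, Category.assoc, Category.assoc, h a ha]

section Subcanonical

variable [(QuotSh.J K S).Subcanonical]

/-- every morphism `h_W ⟶ h_V` comes from a unique morphism of schemes over `S` -/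
lemma exists_repMap_eq {W V : Over S} (τ : QuotSh.rep K W ⟶ QuotSh.rep K V) :
    ∃ l : W ⟶ V, QuotSh.repMap K l = τ :=
  ⟨(repFunctorFullyFaithful K).preimage τ, (repFunctorFullyFaithful K).map_preimage τ⟩

lemma repMap_injective {W V : Over S} {a b : W ⟶ V} (h : QuotSh.repMap K a = QuotSh.repMap K b) :
    a = b :=
  (repFunctorFullyFaithful K (S := S)).map_injective h

/-- A map `h_T ⟶ F` lifts, `K`-locally on `T`, through an epimorphism `h_U ⟶ F`. -/
theorem exists_local_lift [K.IsStableUnderComposition] [K.IsStableUnderBaseChange] [K.HasPullbacks]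
    [K.HasIsos] {T U : Over S} {F : QuotSh.Sh K S} (p : QuotSh.rep K U ⟶ F) (hp : Epi p)
    (σ : QuotSh.rep K T ⟶ F) :
    ∃ Rc ∈ K T.left, ∀ ⦃V : Scheme.{u}⦄ (g : V ⟶ T.left), Rc g →
      ∃ l : Over.mk (g ≫ T.hom) ⟶ U, QuotSh.repMap K l ≫ p = QuotSh.repMap K (res g) ≫ σ := by
  have h1 : Sheaf.IsLocallySurjective p := (Sheaf.isLocallySurjective_iff_epi _).mpr hp
  have h3 := Presheaf.imageSieve_mem (QuotSh.J K S) p.hom (U := op T) (sec K F σ)
  rw [GrothendieckTopology.mem_over_iff,
    Precoverage.mem_toGrothendieck_iff_of_isStableUnderComposition] at h3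
  obtain ⟨Rc, hRc, hle⟩ := h3
  refine ⟨Rc, hRc, fun V g hg => ?_⟩
  have h4 := hle _ _ hg
  rw [Sieve.overEquiv_iff] at h4
  obtain ⟨y, hy⟩ := h4
  obtain ⟨l, hl⟩ := exists_repMap_eq K ((sec K (QuotSh.rep K U)).symm y)
  refine ⟨l, (sec K F).injective ?_⟩
  rw [sec_comp, hl, Equiv.apply_symm_apply, sec_repMap]
  exact hy

omit [(QuotSh.J K S).Subcanonical] in
/-- `h_R ⇉ h_U` is the kernel pair of `h_U ⟶ U/R` for an equivalence relation. -/
lemma isKernelPair_quotπ {R U : Over S} (s t : R ⟶ U) [IsEquivalenceRelation s t] :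
    IsKernelPair (QuotSh.quotπ K s t) (QuotSh.repMap K s) (QuotSh.repMap K t) := by
  obtain ⟨e⟩ := IsEquivalenceRelation.nonempty_equivalenceRelation (p₁ := s) (p₂ := t)
  have : JointlyMono₂ s t := e.toReflexiveRelation.toJointlyMono₂
  have : JointlyMono₂ ((repFunctor K S).map s) ((repFunctor K S).map t) :=
    jointlyMono₂_map (repFunctor K S) s t
  have e' : EquivalenceRelation (QuotSh.repMap K s) (QuotSh.repMap K t) :=
    equivalenceRelationMap (repFunctor K S) s t e
  exact sheaf_isKernelPair_of_isColimit (QuotSh.J K S) e' (QuotSh.quotπ K s t)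
    (QuotSh.quot_condition K s t) (coequalizerIsCoequalizer _ _)

/-- Two points of `U` have the same image in `U/R` iff they are `R`-related. -/
theorem exists_rel_iff {R U : Over S} (s t : R ⟶ U) [IsEquivalenceRelation s t] {W : Over S}
    (a b : W ⟶ U) :
    QuotSh.repMap K a ≫ QuotSh.quotπ K s t = QuotSh.repMap K b ≫ QuotSh.quotπ K s t ↔
      ∃ r : W ⟶ R, r ≫ s = a ∧ r ≫ t = b := by
  constructor
  · intro h
    obtain ⟨l, hl₁, hl₂⟩ := (isKernelPair_quotπ K s t).exists_lift _ _ h
    obtain ⟨r, rfl⟩ := exists_repMap_eq K l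
    refine ⟨r, repMap_injective K ?_, repMap_injective K ?_⟩
    · rw [repMap_comp, hl₁]
    · rw [repMap_comp, hl₂]
  · rintro ⟨r, rfl, rfl⟩
    rw [repMap_comp, repMap_comp, Category.assoc, Category.assoc, QuotSh.quot_condition]

end Subcanonical

end Groth.Agent.R2.H27.QuotSec
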