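import Mathlib
import Groth.Prelude.Def_DescFam
import Groth.Agent.Lib.Helper12Torsor
import Groth.Agent.R2.H27TorsorSeq

/-!
# Representability of fpqc-local subfunctors by descent of subschemes (helper27)

Namespace `Groth.Agent.R2.H27.SubfDesc`.

* `IsLocalPred 𝒵`: a predicate on the points of a scheme `X` that is stable under precomposition and local for the
  fpqc topology (a "local subfunctor" of `h_X`).
* `IsLocalPred.ext_of_cover`: two local predicates that agree on the points factoring through the members of an fpqc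
  covering family agree.
* `isLocalPred_factors`: factoring through a monomorphism is a local predicate.
* `exists_rep`: a local predicate which over the members `Y i` of an fpqc covering family of `X` is represented by
  `P`-subschemes `Z i ⟶ Y i` is represented by a `P`-subscheme of `X`, as soon as descent data of `P`-morphisms
  are effective and `P` descends (for `P` = closed immersions, open immersions).
-/

set_option autoImplicit false
universe u

open CategoryTheory Limits AlgebraicGeometry Opposite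

namespace Groth.Agent.R2.H27.SubfDesc

variable {X : Scheme.{u}}

/-- a predicate on points of `X`, stable under precomposition and fpqc-local -/
structure IsLocalPred (𝒵 : ∀ ⦃W : Scheme.{u}⦄, (W ⟶ X) → Prop) : Prop where
  pre : ∀ ⦃W W' : Scheme.{u}⦄ (a : W' ⟶ W) (x : W ⟶ X), 𝒵 x → 𝒵 (a ≫ x)
  loc : ∀ ⦃W : Scheme.{u}⦄ (x : W ⟶ X) (Rc : Presieve W), Rc ∈ Scheme.fpqcPrecoverage W →
    (∀ ⦃W' : Scheme.{u}⦄ (a : W' ⟶ W), Rc a → 𝒵 (a ≫ x)) → 𝒵 x

/-- two local predicates that agree on points factoring through an fpqc covering family agree -/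
theorem IsLocalPred.ext_of_cover {𝒵₁ 𝒵₂ : ∀ ⦃W : Scheme.{u}⦄, (W ⟶ X) → Prop} (h𝒵₁ : IsLocalPred 𝒵₁)
    (h𝒵₂ : IsLocalPred 𝒵₂) {ι : Type*} {Y : ι → Scheme.{u}} (g : ∀ i, Y i ⟶ X)
    (hg : Presieve.ofArrows Y g ∈ Scheme.fpqcPrecoverage X)
    (h : ∀ (i : ι) ⦃W : Scheme.{u}⦄ (y : W ⟶ Y i), 𝒵₁ (y ≫ g i) ↔ 𝒵₂ (y ≫ g i))
    ⦃W : Scheme.{u}⦄ (x : W ⟶ X) : 𝒵₁ x ↔ 𝒵₂ x := by
  have hc : Presieve.ofArrows (fun i => pullback x (g i)) (fun i => pullback.fst x (g i)) ∈
      Scheme.fpqcPrecoverage W :=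
    Precoverage.mem_coverings_of_isPullback g hg x _ (fun i => pullback.snd x (g i))
      (fun i => IsPullback.of_hasPullback x (g i))
  constructor
  · intro hx
    refine h𝒵₂.loc x _ hc ?_
    rintro W' a ⟨i⟩
    rw [pullback.condition, ← h i]
    rw [← pullback.condition]
    exact h𝒵₁.pre _ _ hx
  · intro hx
    refine h𝒵₁.loc x _ hc ?_
    rintro W' a ⟨i⟩
    rw [pullback.condition, h i]
    rw [← pullback.condition]
    exact h𝒵₂.pre _ _ hx

/-- factoring through a monomorphism is a local predicate -/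
theorem isLocalPred_factors {Z : Scheme.{u}} (j : Z ⟶ X) [Mono j] :
    IsLocalPred (fun W (x : W ⟶ X) => ∃ z : W ⟶ Z, z ≫ j = x) where
  pre := by
    rintro W W' a x ⟨z, rfl⟩
    exact ⟨a ≫ z, Category.assoc _ _ _⟩
  loc := by
    intro W x Rc hRc h
    let Sv : Sieve W :=
      { arrows := fun W' w => ∃ z : W' ⟶ Z, z ≫ j = w ≫ x
        downward_closed := by
          rintro W₁ W₂ w ⟨z, hz⟩ a
          exact ⟨a ≫ z, by rw [Category.assoc, hz, Category.assoc]⟩ }
    have hSv : Sv ∈ Scheme.fpqcTopology W := by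
      refine GrothendieckTopology.superset_covering _ ?_
        (Precoverage.generate_mem_toGrothendieck hRc)
      rw [Sieve.generate_le_iff]
      intro W' a ha
      exact h a ha
    obtain ⟨t, ht⟩ := Groth.Agent.R2.H27.TorsorSeq.exists_amalgamation (Z := Z) Sv hSv
      (fun W' w hw => hw.choose)
      (by
        intro W₁ W₂ W' a₁ a₂ w₁ w₂ h₁ h₂ e
        rw [← cancel_mono j, Category.assoc, Category.assoc, h₁.choose_spec, h₂.choose_spec,
          ← Category.assoc, e, Category.assoc])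
    refine ⟨t, ?_⟩
    refine Groth.Agent.R2.H27.TorsorSeq.eq_of_forall_comp_eq Sv hSv _ _ (fun W' w hw => ?_)
    rw [← Category.assoc, ht w hw, hw.choose_spec]

section Rep

variable {ι : Type u} {Y : ι → Scheme.{u}} (g : ∀ i, Y i ⟶ X)

instance subsingleton_lifts {B A T : Scheme.{u}} (j : A ⟶ B) [Mono j] (x : T ⟶ B) :
    Subsingleton (Desc.Lifts (Over.mk j) x) :=
  ⟨fun v v' => Subtype.ext (by
    rw [← cancel_mono j]
    exact v.2.trans v'.2.symm)⟩

lemma lifts_comp {B A T : Scheme.{u}} (j : A ⟶ B) {x : T ⟶ B} (w : Desc.Lifts (Over.mk j) x) :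
    w.1 ≫ j = x := w.2

/-- the descent datum attached to a family of subschemes representing a predicate on the members of a family -/
noncomputable def ddOfPred (𝒵 : ∀ ⦃W : Scheme.{u}⦄, (W ⟶ X) → Prop) (Zi : ι → Scheme.{u})
    (ji : ∀ i, Zi i ⟶ Y i) [∀ i, Mono (ji i)]
    (hpts : ∀ (i : ι) ⦃W : Scheme.{u}⦄ (y : W ⟶ Y i), 𝒵 (y ≫ g i) ↔ ∃ z : W ⟶ Zi i, z ≫ ji i = y) :
    Desc.SchDDFam g where
  obj i := Over.mk (ji i)
  φ T i j x₀ x₁ h := equivOfSubsingletonOfSubsingleton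
    (fun v => ⟨((hpts j x₁).1 (h ▸ (hpts i x₀).2 ⟨v.1, v.2⟩)).choose,
      ((hpts j x₁).1 (h ▸ (hpts i x₀).2 ⟨v.1, v.2⟩)).choose_spec⟩)
    (fun v => ⟨((hpts i x₀).1 (h ▸ (hpts j x₁).2 ⟨v.1, v.2⟩)).choose,
      ((hpts i x₀).1 (h ▸ (hpts j x₁).2 ⟨v.1, v.2⟩)).choose_spec⟩)
  φ_natural T T' a i j x₀ x₁ h y₀ y₁ hy₀ hy₁ h' v v' hv' := by
    rw [← cancel_mono (ji j), lifts_comp, Category.assoc, lifts_comp, hy₁]
  φ_self T i x v := Subsingleton.elim _ _
  φ_comp T i j k x₀ x₁ x₂ h₀₁ h₁₂ v := Subsingleton.elim _ _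

/-- A local predicate on the points of `X` which over the members of an fpqc covering family is represented by
`P`-subschemes is represented by a `P`-subscheme of `X`. -/
theorem exists_rep (P : MorphismProperty Scheme.{u}) [IsZariskiLocalAtTarget P]
    (hPmono : ∀ ⦃A B : Scheme.{u}⦄ (f : A ⟶ B), P f → Mono f)
    (hPdesc : P.DescendsAlong (@Surjective ⊓ @Flat ⊓ @QuasiCompact : MorphismProperty Scheme.{u}))
    (hg : Presieve.ofArrows Y g ∈ Scheme.fpqcPrecoverage X)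
    (hPeff : ∀ D : Desc.SchDDFam g, (∀ i, P (D.obj i).hom) → D.IsEffective)
    {𝒵 : ∀ ⦃W : Scheme.{u}⦄, (W ⟶ X) → Prop} (h𝒵 : IsLocalPred 𝒵)
    (hloc : ∀ i, ∃ (Zi : Scheme.{u}) (ji : Zi ⟶ Y i), P ji ∧
      ∀ ⦃W : Scheme.{u}⦄ (y : W ⟶ Y i), 𝒵 (y ≫ g i) ↔ ∃ z : W ⟶ Zi, z ≫ ji = y) :
    ∃ (Z : Scheme.{u}) (j : Z ⟶ X), P j ∧
      ∀ ⦃W : Scheme.{u}⦄ (x : W ⟶ X), 𝒵 x ↔ ∃ z : W ⟶ Z, z ≫ j = x := by
  choose Zi ji hPj hpts using hloc
  have hmono : ∀ i, Mono (ji i) := fun i => hPmono _ (hPj i)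
  obtain ⟨Zo, ⟨e⟩⟩ := hPeff (ddOfPred g 𝒵 Zi ji hpts) (fun i => hPj i)
  -- the components of `e`
  have key : ∀ i, ∃ (a : pullback (g i) Zo.hom ⟶ Zi i) (b : Zi i ⟶ pullback (g i) Zo.hom),
      a ≫ b = 𝟙 _ ∧ b ≫ a = 𝟙 _ ∧ a ≫ ji i = pullback.fst (g i) Zo.hom ∧
        b ≫ pullback.fst (g i) Zo.hom = ji i := fun i =>
    ⟨(e.hom.hom i).left, (e.inv.hom i).left,
      congrArg (fun a : (Desc.toDDFam g).obj Zo ⟶ (Desc.toDDFam g).obj Zo => (a.hom i).left)
        e.hom_inv_id,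
      congrArg (fun a : ddOfPred g 𝒵 Zi ji hpts ⟶ ddOfPred g 𝒵 Zi ji hpts => (a.hom i).left)
        e.inv_hom_id,
      Over.w (e.hom.hom i), Over.w (e.inv.hom i)⟩
  choose a b hab hba ha hb using key
  have hPfst : ∀ i, P (pullback.fst (g i) Zo.hom) := fun i => by
    have hiso : IsIso (a i) := ⟨b i, hab i, hba i⟩
    rw [← ha i]
    exact (P.cancel_left_of_respectsIso _ _).2 (hPj i)
  have hPZo : P Zo.hom := by
    refine Groth.Agent.Lib.Helper12.of_mem_fpqcPrecoverage hPdesc Zo.hom _ hg ?_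
    rintro Y' f ⟨i⟩
    rw [← pullbackSymmetry_hom_comp_fst]
    exact (P.cancel_left_of_respectsIso _ _).2 (hPfst i)
  have := hPmono _ hPZo
  refine ⟨Zo.left, Zo.hom, hPZo, ?_⟩
  refine h𝒵.ext_of_cover (isLocalPred_factors Zo.hom) g hg (fun i W y => ?_)
  rw [hpts i y]
  constructor
  · rintro ⟨zi, rfl⟩
    refine ⟨zi ≫ b i ≫ pullback.snd (g i) Zo.hom, ?_⟩
    rw [Category.assoc, Category.assoc, ← pullback.condition, ← Category.assoc (b i), hb i,
      Category.assoc]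
  · rintro ⟨z, hz⟩
    refine ⟨pullback.lift y z hz.symm ≫ a i, ?_⟩
    rw [Category.assoc, ha i, pullback.lift_fst]

end Rep

end Groth.Agent.R2.H27.SubfDesc
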