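import Mathlib
import Groth.Prelude.Def_QuotSh
import Groth.Prelude.Def_DescFam
import Groth.Agent.R2.H27QuotSec
import Groth.Agent.R2.H27SubfDesc

/-!
# Sections of the fpqc quotient sheaf `U/R` as subschemes of `U ×_S T` (helper27)

Namespace `Groth.Agent.R2.H27.QuotCore`.  `s, t : R ⇉ U` an equivalence relation of schemes over `S`,
`σ : h_T ⟶ U/R` a section of the fpqc quotient sheaf.

* `Zp s t σ W x`: the point `x = (u, τ) : W ⟶ U ×_S T` satisfies `π(u) = σ(τ)`.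
-/

set_option autoImplicit false
universe u

open CategoryTheory Limits AlgebraicGeometry MonoidalCategory CartesianMonoidalCategory Opposite

namespace Groth.Agent.R2.H27.QuotCore

open Groth.Agent.Lib.Helper9 Groth.Agent.R2.H27.QuotSec Groth.Agent.R2.H27.SubfDesc

/-- the fpqc precoverage -/
local notation "Kq" => Scheme.fpqcPrecoverage

variable {S : Scheme.{u}} {R U : Over S} (s t : R ⟶ U) {T : Over S}
  (σ : QuotSh.rep Kq T ⟶ QuotSh.quot Kq s t)

/-- the point `x = (u, τ)` of `U ×_S T` satisfies `π(u) = σ(τ)` -/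
def Zp (W : Over S) (x : W ⟶ U ⊗ T) : Prop :=
  QuotSh.repMap Kq (x ≫ fst U T) ≫ QuotSh.quotπ Kq s t = QuotSh.repMap Kq (x ≫ snd U T) ≫ σ

variable {s t σ}

lemma Zp.comp {W W' : Over S} {x : W ⟶ U ⊗ T} (h : Zp s t σ W x) (a : W' ⟶ W) :
    Zp s t σ W' (a ≫ x) := by
  unfold Zp at h ⊢
  rw [Category.assoc, Category.assoc, repMap_comp Kq a (x ≫ fst U T),
    repMap_comp Kq a (x ≫ snd U T), Category.assoc, Category.assoc, h]

lemma Zp.of_cover {W : Over S} (x : W ⟶ U ⊗ T) (Rc : Presieve W.left) (hRc : Rc ∈ Kq W.left)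
    (h : ∀ ⦃V : Scheme.{u}⦄ (a : V ⟶ W.left), Rc a → Zp s t σ _ (res a ≫ x)) : Zp s t σ W x := by
  unfold Zp
  refine eq_of_cover Kq _ _ Rc hRc (fun V a ha => ?_)
  have := h a ha
  unfold Zp at this
  rw [← Category.assoc, ← Category.assoc, ← repMap_comp, ← repMap_comp, ← Category.assoc,
    ← Category.assoc]
  exact this

variable (s t σ) in
/-- `Zp` on points of the scheme `(U ⊗ T).left` -/
def Zs ⦃W : Scheme.{u}⦄ (x : W ⟶ (U ⊗ T).left) : Prop := Zp s t σ _ (res x)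

lemma zs_iff {W : Over S} (x : W ⟶ U ⊗ T) : Zs s t σ x.left ↔ Zp s t σ W x := by
  have e1 : (Over.homMk (𝟙 W.left) ((Category.id_comp _).trans (Over.w x)) :
      W ⟶ Over.mk (x.left ≫ (U ⊗ T).hom)) ≫ res x.left = x := by
    apply Over.OverMorphism.ext
    simp
  have e2 : (Over.homMk (𝟙 W.left) ((Category.id_comp _).trans (Over.w x).symm) :
      Over.mk (x.left ≫ (U ⊗ T).hom) ⟶ W) ≫ x = res x.left := by
    apply Over.OverMorphism.ext
    simp
  constructor
  · intro h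
    rw [← e1]
    exact Zp.comp h _
  · intro h
    unfold Zs
    rw [← e2]
    exact Zp.comp h _

lemma isLocalPred_Zs : IsLocalPred (Zs s t σ) where
  pre := by
    intro W W' a x h
    have e : res (a ≫ x) = (Over.homMk a (by simp) :
        Over.mk ((a ≫ x) ≫ (U ⊗ T).hom) ⟶ Over.mk (x ≫ (U ⊗ T).hom)) ≫ res x := by
      apply Over.OverMorphism.ext
      simp
    unfold Zs
    rw [e]
    exact Zp.comp h _
  loc := by
    intro W x Rc hRc h
    refine Zp.of_cover (res x) Rc hRc (fun V a ha => ?_)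
    exact (zs_iff (res a ≫ res x)).1 (h a ha)

/-- an fpqc covering presieve contains a covering family indexed by a small type -/
lemma exists_small_subfamily {X : Scheme.{u}} {Rc : Presieve X} (hRc : Rc ∈ Kq X) :
    ∃ (ι : Type u) (Y : ι → Scheme.{u}) (g : ∀ i, Y i ⟶ X),
      Presieve.ofArrows Y g ∈ Kq X ∧ ∀ i, Rc (g i) := by
  obtain ⟨E, rfl⟩ := Precoverage.mem_iff_exists_zeroHypercover.1 hRc
  have : Precoverage.Small.{u} Scheme.fpqcPrecoverage.{u} := by
    unfold Scheme.fpqcPrecoverage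
    infer_instance
  exact ⟨_, _, _, (E.restrictIndexOfSmall.{u}).mem₀, fun i => ⟨_⟩⟩

section

variable [IsEquivalenceRelation s t]

omit [IsEquivalenceRelation s t] in
/-- a section of `U/R` lifts to `U` over the members of a small fpqc covering family -/
lemma exists_lifts (σ : QuotSh.rep Kq T ⟶ QuotSh.quot Kq s t) :
    ∃ (ι : Type u) (Ti : ι → Scheme.{u}) (gi : ∀ i, Ti i ⟶ T.left),
      Presieve.ofArrows Ti gi ∈ Kq T.left ∧
      ∀ i, ∃ ui : Over.mk (gi i ≫ T.hom) ⟶ U,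
        QuotSh.repMap Kq ui ≫ QuotSh.quotπ Kq s t = QuotSh.repMap Kq (res (gi i)) ≫ σ := by
  obtain ⟨Rc, hRc, hl⟩ := exists_local_lift Kq (QuotSh.quotπ Kq s t)
    (by unfold QuotSh.quotπ; exact coequalizer.π_epi) σ
  obtain ⟨ι, Ti, gi, hgi, hmem⟩ := exists_small_subfamily hRc
  exact ⟨ι, Ti, gi, hgi, fun i => hl (gi i) (hmem i)⟩

/-- over a scheme `Ti ⟶ T` on which `σ` lifts to `ui : Ti ⟶ U`, the subfunctor `Zp` of `U × Ti` is the pullback of
the graph `R ⟶ U × U` along `(u, τ) ↦ (u, ui τ)` -/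
lemma local_rep {Ti : Over S} (gi : Ti ⟶ T) (ui : Ti ⟶ U)
    (hui : QuotSh.repMap Kq ui ≫ QuotSh.quotπ Kq s t = QuotSh.repMap Kq gi ≫ σ)
    ⦃W : Scheme.{u}⦄ (y : W ⟶ (U ⊗ Ti).left) :
    Zs s t σ (y ≫ (U ◁ gi).left) ↔
      ∃ z : W ⟶ pullback (lift t s).left (lift (fst U Ti) (snd U Ti ≫ ui)).left,
        z ≫ pullback.snd _ _ = y := by
  have h1 : Zs s t σ (y ≫ (U ◁ gi).left) ↔ Zp s t σ _ (res y ≫ (U ◁ gi)) :=
    zs_iff (res y ≫ (U ◁ gi))
  have h2 : Zp s t σ _ (res y ≫ (U ◁ gi)) ↔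
      QuotSh.repMap Kq (res y ≫ snd U Ti ≫ ui) ≫ QuotSh.quotπ Kq s t =
        QuotSh.repMap Kq (res y ≫ fst U Ti) ≫ QuotSh.quotπ Kq s t := by
    unfold Zp
    rw [Category.assoc, Category.assoc, whiskerLeft_fst, whiskerLeft_snd,
      ← Category.assoc (res y) (snd U Ti) gi, repMap_comp Kq (res y ≫ snd U Ti) gi,
      Category.assoc, ← hui, ← Category.assoc, ← repMap_comp, Category.assoc]
    exact eq_comm
  rw [h1, h2, exists_rel_iff]
  constructor
  · rintro ⟨r, hr₁, hr₂⟩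
    refine ⟨pullback.lift r.left y ?_, pullback.lift_snd _ _ _⟩
    have : r ≫ lift t s = res y ≫ lift (fst U Ti) (snd U Ti ≫ ui) := by
      apply CartesianMonoidalCategory.hom_ext
      · simp only [Category.assoc, lift_fst, hr₂]
      · simp only [Category.assoc, lift_snd, hr₁]
    exact congrArg (fun f => f.left) this
  · rintro ⟨z, rfl⟩
    have hw : (z ≫ pullback.fst _ _) ≫ R.hom =
        (z ≫ pullback.snd (lift t s).left (lift (fst U Ti) (snd U Ti ≫ ui)).left) ≫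
          (U ⊗ Ti).hom := by
      rw [← Over.w (lift t s), ← Over.w (lift (fst U Ti) (snd U Ti ≫ ui)), Category.assoc,
        Category.assoc, pullback.condition_assoc]
    have hk : (Over.homMk (z ≫ pullback.fst _ _) hw :
        Over.mk ((z ≫ pullback.snd (lift t s).left (lift (fst U Ti) (snd U Ti ≫ ui)).left) ≫
          (U ⊗ Ti).hom) ⟶ R) ≫ lift t s =
        res (z ≫ pullback.snd _ _) ≫ lift (fst U Ti) (snd U Ti ≫ ui) := by
      apply Over.OverMorphism.ext
      simp only [Over.comp_left, Over.homMk_left, Category.assoc]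
      rw [pullback.condition]
    refine ⟨Over.homMk (z ≫ pullback.fst _ _) hw, ?_, ?_⟩
    · have := congrArg (fun f => f ≫ snd U U) hk
      simpa only [Category.assoc, lift_snd] using this
    · have := congrArg (fun f => f ≫ fst U U) hk
      simpa only [Category.assoc, lift_fst] using this

/-- base change of a covering family of `T` to `U × T` -/
lemma cover_whiskerLeft {ι : Type u} {Ti : ι → Scheme.{u}} (gi : ∀ i, Ti i ⟶ T.left)
    (hgi : Presieve.ofArrows Ti gi ∈ Kq T.left) :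
    Presieve.ofArrows (fun i => (U ⊗ Over.mk (gi i ≫ T.hom)).left)
      (fun i => (U ◁ res (gi i)).left) ∈ Kq (U ⊗ T).left :=
  Precoverage.mem_coverings_of_isPullback gi hgi (snd U T).left _
    (fun i => (snd U (Over.mk (gi i ≫ T.hom))).left)
    (fun i => Functor.map_isPullback (Over.forget S) (isPullback_whiskerLeft U (res (gi i))))

/-- The subfunctor `Zp` of `U ×_S T` attached to a section `σ` of `U/R` is representable by a `P`-subscheme, if the
graph `R ⟶ U ×_S U` has `P` and `P`-subschemes descend along fpqc coverings. -/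
theorem exists_rep_Zp (P : MorphismProperty Scheme.{u}) [IsZariskiLocalAtTarget P]
    [P.IsStableUnderBaseChange]
    (hPmono : ∀ ⦃A B : Scheme.{u}⦄ (f : A ⟶ B), P f → Mono f)
    (hPdesc : P.DescendsAlong (@Surjective ⊓ @Flat ⊓ @QuasiCompact : MorphismProperty Scheme.{u}))
    (hPeff : ∀ {X : Scheme.{u}} {ι : Type u} {Y : ι → Scheme.{u}} (g : ∀ i, Y i ⟶ X),
      Presieve.ofArrows Y g ∈ Kq X → ∀ D : Desc.SchDDFam g, (∀ i, P (D.obj i).hom) → D.IsEffective)
    (hc : P (lift t s).left) (σ : QuotSh.rep Kq T ⟶ QuotSh.quot Kq s t) :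
    ∃ (Z : Over S) (i : Z ⟶ U ⊗ T), P i.left ∧
      ∀ (W : Over S) (x : W ⟶ U ⊗ T), Zp s t σ W x ↔ ∃ z : W ⟶ Z, z ≫ i = x := by
  obtain ⟨ι, Ti, gi, hgi, hl⟩ := exists_lifts σ
  choose ui hui using hl
  have hcov := cover_whiskerLeft (U := U) gi hgi
  obtain ⟨Z, j, hPj, hpts⟩ := exists_rep _ P hPmono hPdesc hcov (hPeff _ hcov)
    (isLocalPred_Zs (s := s) (t := t) (σ := σ))
    (fun i => ⟨_, pullback.snd _ _, P.pullback_snd _ _ hc, local_rep (res (gi i)) (ui i) (hui i)⟩)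
  refine ⟨Over.mk (j ≫ (U ⊗ T).hom), res j, hPj, fun W x => ?_⟩
  rw [← zs_iff, hpts]
  constructor
  · rintro ⟨z, hz⟩
    refine ⟨Over.homMk z ?_, ?_⟩
    · rw [← Over.w x, ← hz, Category.assoc]
      rfl
    · apply Over.OverMorphism.ext
      simpa using hz
  · rintro ⟨z, rfl⟩
    exact ⟨z.left, rfl⟩

end

section Consequences

variable {Z : Over S} {i : Z ⟶ U ⊗ T}

/-- `(Z, i)` represents the subfunctor `Zp` -/
def Represents (s t : R ⟶ U) (σ : QuotSh.rep Kq T ⟶ QuotSh.quot Kq s t) {Z : Over S}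
    (i : Z ⟶ U ⊗ T) : Prop :=
  ∀ (W : Over S) (x : W ⟶ U ⊗ T), Zp s t σ W x ↔ ∃ z : W ⟶ Z, z ≫ i = x

lemma Represents.compat (h : Represents s t σ i) :
    QuotSh.repMap Kq (i ≫ fst U T) ≫ QuotSh.quotπ Kq s t = QuotSh.repMap Kq (i ≫ snd U T) ≫ σ :=
  (h Z i).2 ⟨𝟙 Z, Category.id_comp _⟩

lemma Represents.stable (h : Represents s t σ i) (T' : Over S) (r : T' ⟶ R ⊗ T) :
    (∃ z : T' ⟶ Z, z ≫ i = r ≫ (s ▷ T)) ↔ (∃ z : T' ⟶ Z, z ≫ i = r ≫ (t ▷ T)) := by
  rw [← h, ← h]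
  unfold Zp
  simp only [Category.assoc, whiskerRight_fst, whiskerRight_snd]
  rw [← Category.assoc r, ← Category.assoc r, repMap_comp Kq (r ≫ fst R T) s,
    repMap_comp Kq (r ≫ fst R T) t, Category.assoc, Category.assoc, QuotSh.quot_condition]

lemma Represents.rel [IsEquivalenceRelation s t] (h : Represents s t σ i) (T' : Over S)
    (z₁ z₂ : T' ⟶ Z) (e : z₁ ≫ i ≫ snd U T = z₂ ≫ i ≫ snd U T) :
    ∃ r : T' ⟶ R, r ≫ s = z₁ ≫ i ≫ fst U T ∧ r ≫ t = z₂ ≫ i ≫ fst U T := by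
  rw [← exists_rel_iff Kq s t]
  have h1 := (h _ (z₁ ≫ i)).2 ⟨z₁, rfl⟩
  have h2 := (h _ (z₂ ≫ i)).2 ⟨z₂, rfl⟩
  unfold Zp at h1 h2
  simp only [Category.assoc] at h1 h2
  rw [h1, h2, e]

/-- two representing objects are isomorphic -/
lemma Represents.iso {Z' : Over S} {i' : Z' ⟶ U ⊗ T} (h : Represents s t σ i)
    (h' : Represents s t σ i') [Mono i] [Mono i'] : ∃ e : Z ≅ Z', e.hom ≫ i' = i := by
  obtain ⟨a, ha⟩ := (h' Z i).1 ((h Z i).2 ⟨𝟙 Z, Category.id_comp _⟩)
  obtain ⟨b, hb⟩ := (h Z' i').1 ((h' Z' i').2 ⟨𝟙 Z', Category.id_comp _⟩)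
  refine ⟨⟨a, b, ?_, ?_⟩, ha⟩
  · rw [← cancel_mono i, Category.assoc, hb, ha, Category.id_comp]
  · rw [← cancel_mono i', Category.assoc, ha, hb, Category.id_comp]

/-- A stable monomorphism `i : Z ⟶ U ×_S T` with `Z ⟶ T` an fpqc covering, on which `π ∘ pr₁ = σ ∘ pr₂`, represents
the subfunctor `Zp`. -/
theorem represents_of_props [IsEquivalenceRelation s t] {Z : Over S} (i : Z ⟶ U ⊗ T) [Mono i.left]
    (hstable : ∀ (T' : Over S) (r : T' ⟶ R ⊗ T),
      (∃ z : T' ⟶ Z, z ≫ i = r ≫ (s ▷ T)) ↔ (∃ z : T' ⟶ Z, z ≫ i = r ≫ (t ▷ T)))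
    (hcov : ∀ ⦃W : Scheme.{u}⦄ (w : W ⟶ T.left),
      Presieve.singleton (pullback.fst w (i ≫ snd U T).left) ∈ Kq W)
    (hcompat : QuotSh.repMap Kq (i ≫ fst U T) ≫ QuotSh.quotπ Kq s t =
      QuotSh.repMap Kq (i ≫ snd U T) ≫ σ) : Represents s t σ i := by
  have hZi : Zp s t σ Z i := hcompat
  intro W x
  constructor
  · intro hx
    set w := (x ≫ snd U T).left with hw
    set q := (i ≫ snd U T).left with hq
    have hπ₂ : pullback.snd w q ≫ Z.hom = pullback.fst w q ≫ W.hom := by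
      rw [← Over.w (i ≫ snd U T), ← Over.w (x ≫ snd U T), ← Category.assoc, ← Category.assoc,
        pullback.condition]
    let π₁ : Over.mk (pullback.fst w q ≫ W.hom) ⟶ W := res (pullback.fst w q)
    let π₂ : Over.mk (pullback.fst w q ≫ W.hom) ⟶ Z := Over.homMk (pullback.snd w q) hπ₂
    have hcond : π₁ ≫ x ≫ snd U T = π₂ ≫ i ≫ snd U T := by
      apply Over.OverMorphism.ext
      exact pullback.condition
    have h1 : Zp s t σ _ (π₁ ≫ x) := Zp.comp hx π₁
    have h2 : Zp s t σ _ (π₂ ≫ i) := Zp.comp hZi π₂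
    unfold Zp at h1 h2
    simp only [Category.assoc] at h1 h2
    obtain ⟨r, hr₁, hr₂⟩ := (exists_rel_iff Kq s t (π₂ ≫ i ≫ fst U T) (π₁ ≫ x ≫ fst U T)).1
      (by rw [h1, h2, hcond])
    obtain ⟨z', hz'⟩ := (hstable _ (lift r (π₁ ≫ x ≫ snd U T))).1 ⟨π₂, by
      apply CartesianMonoidalCategory.hom_ext
      · simp only [Category.assoc, whiskerRight_fst, lift_fst_assoc, hr₁]
      · simp only [Category.assoc, whiskerRight_snd, lift_snd, hcond]⟩
    have hz'' : z' ≫ i = π₁ ≫ x := by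
      rw [hz']
      apply CartesianMonoidalCategory.hom_ext
      · simp only [Category.assoc, whiskerRight_fst, lift_fst_assoc, hr₂]
      · simp only [Category.assoc, whiskerRight_snd, lift_snd]
    obtain ⟨z0, hz0⟩ := (isLocalPred_factors i.left).loc x.left _ (hcov w) (by
      rintro W' a ⟨⟩
      exact ⟨z'.left, congrArg (fun f => f.left) hz''⟩)
    refine ⟨Over.homMk z0 ?_, ?_⟩
    · rw [← Over.w i, ← Category.assoc, hz0, Over.w x]
    · apply Over.OverMorphism.ext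
      exact hz0
  · rintro ⟨z, rfl⟩
    exact Zp.comp hZi z

/-- pullback squares from existence and uniqueness of lifts -/
lemma isPullback_of_exists_of_unique {C : Type*} [Category C] {A X Y B : C} {p₁ : A ⟶ X} {p₂ : A ⟶ Y}
    {f : X ⟶ B} {g : Y ⟶ B} (w : p₁ ≫ f = p₂ ≫ g)
    (hex : ∀ ⦃V : C⦄ (a : V ⟶ X) (b : V ⟶ Y), a ≫ f = b ≫ g → ∃ l : V ⟶ A, l ≫ p₁ = a ∧ l ≫ p₂ = b)
    (huniq : ∀ ⦃V : C⦄ (l l' : V ⟶ A), l ≫ p₁ = l' ≫ p₁ → l ≫ p₂ = l' ≫ p₂ → l = l') :
    IsPullback p₁ p₂ f g :=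
  IsPullback.of_isLimit' ⟨w⟩ (PullbackCone.IsLimit.mk _
    (fun c => (hex c.fst c.snd c.condition).choose)
    (fun c => (hex c.fst c.snd c.condition).choose_spec.1)
    (fun c => (hex c.fst c.snd c.condition).choose_spec.2)
    (fun c _ h₁ h₂ => huniq _ _
      (h₁.trans (hex c.fst c.snd c.condition).choose_spec.1.symm)
      (h₂.trans (hex c.fst c.snd c.condition).choose_spec.2.symm)))

/-- Over a scheme `Tj ⟶ T` on which `σ` lifts to `uj : Tj ⟶ U`, the base change of `Z ⟶ T` is the base change of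
`s : R ⟶ U` along `uj`. -/
theorem Represents.exists_isPullback [IsEquivalenceRelation s t] {Z : Over S} {i : Z ⟶ U ⊗ T} [Mono i]
    (hrep : Represents s t σ i) {Tj : Over S} (gj : Tj ⟶ T) (uj : Tj ⟶ U)
    (huj : QuotSh.repMap Kq uj ≫ QuotSh.quotπ Kq s t = QuotSh.repMap Kq gj ≫ σ)
    {A : Over S} {a₁ : A ⟶ Z} {a₂ : A ⟶ Tj} (hA : IsPullback a₁ a₂ (i ≫ snd U T) gj) :
    ∃ rA : A ⟶ R, IsPullback rA a₂ s uj := by
  obtain ⟨e⟩ := IsEquivalenceRelation.nonempty_equivalenceRelation (p₁ := s) (p₂ := t)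
  have hjm : JointlyMono₂ s t := e.toReflexiveRelation.toJointlyMono₂
  have h1 : Zp s t σ A (a₁ ≫ i) := (hrep _ _).2 ⟨a₁, rfl⟩
  unfold Zp at h1
  simp only [Category.assoc] at h1
  obtain ⟨rA, hrA₁, hrA₂⟩ := (exists_rel_iff Kq s t (a₂ ≫ uj) (a₁ ≫ i ≫ fst U T)).1 (by
    rw [h1, hA.w, repMap_comp Kq a₂ gj, Category.assoc, ← huj, repMap_comp Kq a₂ uj,
      Category.assoc])
  refine ⟨rA, isPullback_of_exists_of_unique hrA₁ ?_ ?_⟩
  · intro V a b hab
    have hx : Zp s t σ V (lift (a ≫ t) (b ≫ gj)) := by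
      unfold Zp
      rw [lift_fst, lift_snd, repMap_comp Kq a t, Category.assoc, ← QuotSh.quot_condition,
        ← Category.assoc, ← repMap_comp, hab, repMap_comp Kq b uj, Category.assoc, huj,
        repMap_comp Kq b gj, Category.assoc]
    obtain ⟨z, hz⟩ := (hrep _ _).1 hx
    have hzb : z ≫ i ≫ snd U T = b ≫ gj := by
      rw [← Category.assoc, hz, lift_snd]
    refine ⟨hA.lift z b hzb, ?_, hA.lift_snd _ _ _⟩
    apply hjm.right_cancellation
    · rw [Category.assoc, hrA₁, hA.lift_snd_assoc, hab]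
    · rw [Category.assoc, hrA₂, hA.lift_fst_assoc, ← Category.assoc, hz, lift_fst]
  · intro V l l' h₁ h₂
    apply hA.hom_ext _ h₂
    rw [← cancel_mono i]
    apply CartesianMonoidalCategory.hom_ext
    · simp only [Category.assoc]
      rw [← hrA₂, ← Category.assoc, h₁, Category.assoc]
    · simp only [Category.assoc]
      rw [hA.w, ← Category.assoc, h₂, Category.assoc]

/-- properties of `s` that are fpqc-local on the target pass to `Z ⟶ T` -/
theorem Represents.prop_snd [IsEquivalenceRelation s t] {Z : Over S} {i : Z ⟶ U ⊗ T} [Mono i]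
    (hrep : Represents s t σ i) (P' : MorphismProperty Scheme.{u}) [IsZariskiLocalAtTarget P']
    [P'.IsStableUnderBaseChange]
    (hP'desc : P'.DescendsAlong (@Surjective ⊓ @Flat ⊓ @QuasiCompact : MorphismProperty Scheme.{u}))
    (hs : P' s.left) : P' (i ≫ snd U T).left := by
  obtain ⟨ι, Ti, gi, hgi, hl⟩ := exists_lifts σ
  refine Groth.Agent.Lib.Helper12.of_mem_fpqcPrecoverage hP'desc _ _ hgi ?_
  rintro Y' f ⟨j⟩
  obtain ⟨uj, huj⟩ := hl j
  have hAo := IsPullback.of_hasPullback (i ≫ snd U T) (res (gi j))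
  obtain ⟨rA, hrA⟩ := hrep.exists_isPullback (res (gi j)) uj huj hAo
  have hA := Functor.map_isPullback (Over.forget S) hAo
  have hB := Functor.map_isPullback (Over.forget S) hrA
  have h1 : P' (pullback.snd (i ≫ snd U T) (res (gi j))).left := P'.of_isPullback hB hs
  have h2 : hA.isoPullback.hom ≫ pullback.snd (i ≫ snd U T).left (gi j) =
      (pullback.snd (i ≫ snd U T) (res (gi j))).left := hA.isoPullback_hom_snd
  rw [← h2] at h1
  exact (P'.cancel_left_of_respectsIso _ _).1 h1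

end Consequences

end Groth.Agent.R2.H27.QuotCore
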