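import Mathlib
import Groth.Agent.R2.H37DescBeta

/-!
# PROJ:fpqc-desc — package TRANSFER (helper73)

`betaTransfer : BetaTransferStmt` : if the descent datum induced by a β-structure relative to a
flat, surjective, quasi-compact morphism `p' : X' ⟶ S'` is (isomorphic to) the canonical descent
datum of `Z'` over `S'`, then `Z'` represents `FD D` over `S'`.

Main tool: for `x : T ⟶ X'` and `h : T ⟶ Z'.left` with `x ≫ p' = h ≫ Z'.hom`, the element
`elOf B θ x h hh : El D T` (`B.toEl` of the image under the iso `θ` of the canonical lift `(x, h)`),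
with `elOf_g`, `elOf_res`, `elOf_indep` (independence of `x`), `elOf_inj`, `elOf_surj`.
-/

set_option autoImplicit false
set_option backward.isDefEq.respectTransparency false
set_option backward.isDefEq.respectTransparency.types false
universe u
open CategoryTheory CategoryTheory.Limits AlgebraicGeometry Desc Opposite
open Groth.Agent.R2.H37.DescSheaf

namespace Groth.Agent.R2.H73.DescTransfer

variable {S : Scheme.{u}} {ι : Type u} {X : ι → Scheme.{u}} {f : ∀ i, X i ⟶ S} {D : SchDDFam f}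
  {S' X' : Scheme.{u}} {j : S' ⟶ S} {p' : X' ⟶ S'} {V' : Over X'}

/-- the canonical lift attached to `(x, h)`. -/
noncomputable def canLift (Z' : Over S') {T : Scheme.{u}} (x : T ⟶ X') (h : T ⟶ Z'.left)
    (hh : x ≫ p' = h ≫ Z'.hom) : Lifts ((toDD p').obj Z').obj x :=
  ⟨pullback.lift x h hh, pullback.lift_fst _ _ _⟩

@[simp] lemma canLift_val (Z' : Over S') {T : Scheme.{u}} (x : T ⟶ X') (h : T ⟶ Z'.left)
    (hh : x ≫ p' = h ≫ Z'.hom) : (canLift Z' x h hh).1 = pullback.lift x h hh := rfl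

lemma canLift_φ (Z' : Over S') {T : Scheme.{u}} (x₀ x₁ : T ⟶ X') (h : T ⟶ Z'.left)
    (hh₀ : x₀ ≫ p' = h ≫ Z'.hom) (hh₁ : x₁ ≫ p' = h ≫ Z'.hom) (hx : x₀ ≫ p' = x₁ ≫ p') :
    ((toDD p').obj Z').φ x₀ x₁ hx (canLift Z' x₀ h hh₀) = canLift Z' x₁ h hh₁ := by
  apply Subtype.ext
  change (canMap p' Z' x₀ x₁ hx (canLift Z' x₀ h hh₀)).1 = pullback.lift x₁ h hh₁
  rw [canMap_val]
  apply pullback.hom_ext
  · rw [pullback.lift_fst, pullback.lift_fst]
  · rw [pullback.lift_snd, pullback.lift_snd]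
    exact pullback.lift_snd _ _ _

variable (B : Beta D j p' V') {Z' : Over S'} (θ : (toDD p').obj Z' ≅ B.dd)

/-- the underlying morphism of `θ.hom`. -/
noncomputable def θh : pullback p' Z'.hom ⟶ V'.left := θ.hom.hom.left

/-- the underlying morphism of `θ.inv`. -/
noncomputable def θi : V'.left ⟶ pullback p' Z'.hom := θ.inv.hom.left

lemma θh_θi : θh B θ ≫ θi B θ = 𝟙 (pullback p' Z'.hom) := by
  have h1 : (SchDD.Hom.hom (θ.hom ≫ θ.inv)).left = (SchDD.Hom.hom (𝟙 ((toDD p').obj Z'))).left := by rw [θ.hom_inv_id]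
  exact h1

lemma θi_θh : θi B θ ≫ θh B θ = 𝟙 V'.left := by
  have h1 : (SchDD.Hom.hom (θ.inv ≫ θ.hom)).left = (SchDD.Hom.hom (𝟙 B.dd)).left := by rw [θ.inv_hom_id]
  exact h1

lemma θh_w : θh B θ ≫ V'.hom = pullback.fst p' Z'.hom := Over.w θ.hom.hom

lemma θi_w : θi B θ ≫ pullback.fst p' Z'.hom = V'.hom := Over.w θ.inv.hom

/-- the lift to `V'` attached to `(x, h)`. -/
noncomputable def liftH {T : Scheme.{u}} (x : T ⟶ X') (h : T ⟶ Z'.left)
    (hh : x ≫ p' = h ≫ Z'.hom) : Lifts V' x :=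
  ⟨pullback.lift x h hh ≫ θh B θ, by rw [Category.assoc, θh_w, pullback.lift_fst]⟩

@[simp] lemma liftH_val {T : Scheme.{u}} (x : T ⟶ X') (h : T ⟶ Z'.left)
    (hh : x ≫ p' = h ≫ Z'.hom) : (liftH B θ x h hh).1 = pullback.lift x h hh ≫ θh B θ := rfl

/-- the element of `FD D` attached to `(x, h)`. -/
noncomputable def elOf {T : Scheme.{u}} (x : T ⟶ X') (h : T ⟶ Z'.left)
    (hh : x ≫ p' = h ≫ Z'.hom) : El D T :=
  B.toEl x (liftH B θ x h hh)

lemma elOf_g {T : Scheme.{u}} (x : T ⟶ X') (h : T ⟶ Z'.left) (hh : x ≫ p' = h ≫ Z'.hom) :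
    (elOf B θ x h hh).g = x ≫ p' ≫ j :=
  B.toEl_g _ _

lemma elOf_res {T T₁ : Scheme.{u}} (r : T₁ ⟶ T) (x : T ⟶ X') (h : T ⟶ Z'.left)
    (hh : x ≫ p' = h ≫ Z'.hom) :
    (elOf B θ x h hh).res r =
      elOf B θ (r ≫ x) (r ≫ h) (by rw [Category.assoc, Category.assoc, hh]) := by
  unfold elOf
  rw [← B.nat r x]
  congr 1
  apply Subtype.ext
  change r ≫ (pullback.lift x h hh ≫ θh B θ) = pullback.lift (r ≫ x) (r ≫ h) _ ≫ θh B θ
  rw [← Category.assoc]
  congr 1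
  apply pullback.hom_ext <;> simp

lemma elOf_congr {T : Scheme.{u}} {x x' : T ⟶ X'} {h h' : T ⟶ Z'.left} (hx : x = x') (hh' : h = h')
    (hh : x ≫ p' = h ≫ Z'.hom) :
    elOf B θ x h hh = elOf B θ x' h' (by rw [← hx, ← hh']; exact hh) := by
  subst hx hh'; rfl

lemma elOf_indep {T : Scheme.{u}} (x₀ x₁ : T ⟶ X') (h : T ⟶ Z'.left)
    (hh₀ : x₀ ≫ p' = h ≫ Z'.hom) (hh₁ : x₁ ≫ p' = h ≫ Z'.hom) :
    elOf B θ x₀ h hh₀ = elOf B θ x₁ h hh₁ := by
  have hx : x₀ ≫ p' = x₁ ≫ p' := hh₀.trans hh₁.symm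
  have h1 := θ.hom.comm x₀ x₁ hx (canLift Z' x₀ h hh₀) (liftH B θ x₀ h hh₀) rfl
  rw [canLift_φ Z' x₀ x₁ h hh₀ hh₁ hx] at h1
  have h2 : B.φ x₀ x₁ hx (liftH B θ x₀ h hh₀) = liftH B θ x₁ h hh₁ := Subtype.ext h1
  unfold elOf
  rw [← h2, B.toEl_φ]

lemma elOf_inj {T : Scheme.{u}} (x : T ⟶ X') (h h' : T ⟶ Z'.left)
    (hh : x ≫ p' = h ≫ Z'.hom) (hh' : x ≫ p' = h' ≫ Z'.hom)
    (e : elOf B θ x h hh = elOf B θ x h' hh') : h = h' := by
  have h1 := B.inj x _ _ e
  have h2 : pullback.lift x h hh ≫ θh B θ = pullback.lift x h' hh' ≫ θh B θ :=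
    congrArg Subtype.val h1
  have h3 : pullback.lift x h hh = pullback.lift x h' hh' := by
    have := congrArg (· ≫ θi B θ) h2
    simpa only [Category.assoc, θh_θi B θ, Category.comp_id] using this
  have h4 := congrArg (· ≫ pullback.snd p' Z'.hom) h3
  simpa using h4

/-- injectivity allowing different points of `X'` with the same image in `S'`. -/
lemma elOf_inj' {T : Scheme.{u}} (x₀ x₁ : T ⟶ X') (h₀ h₁ : T ⟶ Z'.left)
    (hh₀ : x₀ ≫ p' = h₀ ≫ Z'.hom) (hh₁ : x₁ ≫ p' = h₁ ≫ Z'.hom) (hx : x₀ ≫ p' = x₁ ≫ p')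
    (e : elOf B θ x₀ h₀ hh₀ = elOf B θ x₁ h₁ hh₁) : h₀ = h₁ := by
  have hh₁' : x₁ ≫ p' = h₀ ≫ Z'.hom := hx.symm.trans hh₀
  rw [elOf_indep B θ x₀ x₁ h₀ hh₀ hh₁'] at e
  exact elOf_inj B θ x₁ h₀ h₁ hh₁' hh₁ e

lemma elOf_surj {T : Scheme.{u}} (x : T ⟶ X') (s : El D T) (hs : s.g = x ≫ p' ≫ j) :
    ∃ (h : T ⟶ Z'.left) (hh : x ≫ p' = h ≫ Z'.hom), elOf B θ x h hh = s := by
  obtain ⟨v, hv⟩ := B.surj x s hs
  have hw : (v.1 ≫ θi B θ) ≫ pullback.fst p' Z'.hom = x := by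
    rw [Category.assoc, θi_w, v.2]
  have hc : x ≫ p' = ((v.1 ≫ θi B θ) ≫ pullback.snd p' Z'.hom) ≫ Z'.hom := by
    rw [Category.assoc _ _ Z'.hom, ← pullback.condition, ← Category.assoc, hw]
  refine ⟨(v.1 ≫ θi B θ) ≫ pullback.snd p' Z'.hom, hc, ?_⟩
  rw [← hv]
  unfold elOf
  congr 1
  apply Subtype.ext
  rw [liftH_val]
  have e1 : pullback.lift x ((v.1 ≫ θi B θ) ≫ pullback.snd p' Z'.hom) hc = v.1 ≫ θi B θ := by
    apply pullback.hom_ext
    · rw [pullback.lift_fst, hw]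
    · rw [pullback.lift_snd]
  rw [e1, Category.assoc, θi_θh B θ, Category.comp_id]

/-- restriction along a cover is injective on elements (consequence of `DescendsFpqc`). -/
lemma res_injective_of_descends (hD : DescendsFpqc D) {T' T : Scheme.{u}} (e : T' ⟶ T) [Flat e]
    [Surjective e] [QuasiCompact e] (s₁ s₂ : El D T) (h : s₁.res e = s₂.res e) : s₁ = s₂ := by
  obtain ⟨s, -, hs⟩ := hD e (s₂.res e) (by
    intro Y a b hab
    rw [← El.res_comp, ← El.res_comp, hab])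
  rw [hs s₁ h, hs s₂ rfl]

/-- **Package TRANSFER.** -/
theorem betaTransfer : BetaTransferStmt.{u} := by
  intro S ι X f D hD S' X' j p' _ _ _ V' B Z' ⟨θ⟩
  -- the element over the cover `X' ×_{S'} Z' ⟶ Z'`
  have hker : ∀ ⦃Y : Scheme.{u}⦄ (a b : Y ⟶ pullback p' Z'.hom),
      a ≫ pullback.snd p' Z'.hom = b ≫ pullback.snd p' Z'.hom →
      (elOf B θ (pullback.fst p' Z'.hom) (pullback.snd p' Z'.hom) pullback.condition).res a =
        (elOf B θ (pullback.fst p' Z'.hom) (pullback.snd p' Z'.hom) pullback.condition).res b := by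
    intro Y a b hab
    rw [elOf_res, elOf_res, elOf_congr B θ rfl hab]
    exact elOf_indep B θ _ _ _ _ _
  obtain ⟨s₀, hs₀, -⟩ := hD (pullback.snd p' Z'.hom) _ hker
  -- key property of `s₀`
  have key : ∀ ⦃T : Scheme.{u}⦄ (x : T ⟶ X') (h : T ⟶ Z'.left) (hh : x ≫ p' = h ≫ Z'.hom),
      s₀.res h = elOf B θ x h hh := by
    intro T x h hh
    have e1 : h = pullback.lift x h hh ≫ pullback.snd p' Z'.hom := (pullback.lift_snd _ _ _).symm
    have e2 : s₀.res h = s₀.res (pullback.lift x h hh ≫ pullback.snd p' Z'.hom) :=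
      congrArg s₀.res e1
    rw [e2, El.res_comp, hs₀, elOf_res]
    exact (elOf_congr B θ (pullback.lift_fst _ _ _) (pullback.lift_snd _ _ _) _)
  have hg₀ : s₀.g = Z'.hom ≫ j := by
    have h1 : (s₀.res (pullback.snd p' Z'.hom)).g = _ := congrArg El.g hs₀
    rw [El.res_g, elOf_g, ← Category.assoc, pullback.condition, Category.assoc] at h1
    exact (cancel_epi (pullback.snd p' Z'.hom)).1 h1
  refine ⟨s₀, hg₀, ?_⟩
  intro T s g' hs
  -- the cover of `T`
  have hsg : (s.res (pullback.snd p' g')).g = pullback.fst p' g' ≫ p' ≫ j := by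
    rw [El.res_g, hs, ← Category.assoc, ← pullback.condition, Category.assoc]
  obtain ⟨h'', hh'', hel⟩ := elOf_surj B θ (pullback.fst p' g') (s.res (pullback.snd p' g')) hsg
  have hdesc : ∀ {Y : Scheme.{u}} (a b : Y ⟶ pullback p' g'),
      a ≫ pullback.snd p' g' = b ≫ pullback.snd p' g' → a ≫ h'' = b ≫ h'' := by
    intro Y a b hab
    have hx : (a ≫ pullback.fst p' g') ≫ p' = (b ≫ pullback.fst p' g') ≫ p' := by
      rw [Category.assoc, Category.assoc, pullback.condition, ← Category.assoc, hab,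
        Category.assoc]
    have ha := elOf_res B θ a (pullback.fst p' g') h'' hh''
    have hb := elOf_res B θ b (pullback.fst p' g') h'' hh''
    have hha : (a ≫ pullback.fst p' g') ≫ p' = (a ≫ h'') ≫ Z'.hom := by
      rw [Category.assoc, Category.assoc, hh'']
    have hhb : (b ≫ pullback.fst p' g') ≫ p' = (b ≫ h'') ≫ Z'.hom := by
      rw [Category.assoc, Category.assoc, hh'']
    refine elOf_inj' B θ (a ≫ pullback.fst p' g') (b ≫ pullback.fst p' g') _ _ hha hhb hx ?_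
    rw [← ha, ← hb, hel, ← El.res_comp, ← El.res_comp, hab]
  refine ⟨EffectiveEpi.desc (pullback.snd p' g') h'' hdesc, ⟨?_, ?_⟩, ?_⟩
  · rw [← cancel_epi (pullback.snd p' g'), EffectiveEpi.fac_assoc, ← hh'', pullback.condition]
  · apply res_injective_of_descends hD (pullback.snd p' g')
    rw [← El.res_comp, EffectiveEpi.fac, key (pullback.fst p' g') h'' hh'', hel]
  · rintro h₁ ⟨hh₁, hs₁⟩
    apply EffectiveEpi.uniq
    have hc : pullback.fst p' g' ≫ p' = (pullback.snd p' g' ≫ h₁) ≫ Z'.hom := by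
      rw [Category.assoc, hh₁, pullback.condition]
    refine elOf_inj B θ (pullback.fst p' g') _ _ hc hh'' ?_
    rw [← key (pullback.fst p' g') _ hc, El.res_comp, hs₁, hel]

end Groth.Agent.R2.H73.DescTransfer
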