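import Groth.Agent.R2.H37DescBeta

/-!
# PROJ:fpqc-desc, package SIGMA (helper76)

β-structures (`Groth.Agent.R2.H37.DescSheaf.Beta`) on the members `X' k` of a finite family give a
β-structure on the coproduct `∐ X'`.

* `isPullback_sigmaι_map` : for `h k : A k ⟶ B k` (finite family of schemes) the square
  `A k ⟶ ∐ A`, `B k ⟶ ∐ B` is a pullback (van Kampen property of finite coproducts).
* `subsingleton_el_of_isEmpty` : the presheaf `FD D` has at most one element over an empty scheme.
* `existsUnique_hom`, `existsUnique_el` : for `x : T ⟶ ∐ X'`, morphisms out of `T` (resp. elements of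
  `FD D` over `T`, given `GluesZariski D`) are exactly the families of morphisms (elements) over the
  preimages `T ×_{∐ X'} X' k` of the components (no compatibility condition: the preimages are disjoint).
* `sigmaBeta`, `betaSigma : BetaSigmaStmt`.
-/

set_option autoImplicit false
set_option backward.isDefEq.respectTransparency false
set_option backward.isDefEq.respectTransparency.types false
universe u
open CategoryTheory CategoryTheory.Limits AlgebraicGeometry Desc Opposite

namespace Groth.Agent.R2.H76.DescSigma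

open Groth.Agent.R2.H37.DescSheaf

lemma isPullback_sigmaι_map {n : ℕ} {A B : Fin n → Scheme.{u}} (h : ∀ k, A k ⟶ B k) (k : Fin n) :
    IsPullback (Sigma.ι A k) (h k) (Limits.Sigma.map h) (Sigma.ι B k) := by
  have hB := FinitaryExtensive.isVanKampen_finiteCoproducts (coproductIsCoproduct B)
  exact (hB (Cofan.mk (∐ A) (Sigma.ι A)) (Discrete.natTrans fun k => h k.as) (Limits.Sigma.map h)
    (by ext ⟨k⟩; simp) (NatTrans.Equifibered.of_discrete _)).mp ⟨coproductIsCoproduct A⟩ ⟨k⟩

section El

variable {S : Scheme.{u}} {ι : Type u} {X : ι → Scheme.{u}} {f : ∀ i, X i ⟶ S}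

lemma subsingleton_el_of_isEmpty (D : SchDDFam f) (T : Scheme.{u}) [IsEmpty T] :
    Subsingleton (El D T) := by
  constructor
  intro s s'
  have hT : IsInitial T := isInitialOfIsEmpty
  refine El.ext_val (hT.hom_ext _ _) ?_
  intro T' t i x h
  have : IsEmpty T' := ⟨fun y => IsEmpty.false (t.base y)⟩
  exact (isInitialOfIsEmpty (X := T')).hom_ext _ _

end El

section cover

variable {n : ℕ} (X' : Fin n → Scheme.{u}) {T : Scheme.{u}} (x : T ⟶ ∐ X')

/-- the open cover of `T` by the preimages of the components. -/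
noncomputable def cov : Scheme.OpenCover.{u} T :=
  ((sigmaOpenCover X').pullback₁ x).reindex (Equiv.ulift : ULift.{u} (Fin n) ≃ Fin n)

lemma fst_eq_snd (k : Fin n) :
    pullback.fst (pullback.fst x (Sigma.ι X' k)) (pullback.fst x (Sigma.ι X' k)) =
      pullback.snd _ _ := by
  rw [← cancel_mono (pullback.fst x (Sigma.ι X' k))]
  exact pullback.condition

lemma isEmpty_overlap {k l : Fin n} (hkl : k ≠ l) :
    IsEmpty ↑(pullback (pullback.fst x (Sigma.ι X' k)) (pullback.fst x (Sigma.ι X' l))) := by
  refine isEmpty_of_commSq_sigmaι_of_ne (g := X')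
    (a := pullback.fst _ _ ≫ pullback.snd x (Sigma.ι X' k))
    (b := pullback.snd _ _ ≫ pullback.snd x (Sigma.ι X' l)) ⟨?_⟩ hkl
  rw [Category.assoc, Category.assoc, ← pullback.condition, ← pullback.condition,
    pullback.condition_assoc]

/-- morphisms out of `T` are families of morphisms out of the preimages of the components. -/
lemma existsUnique_hom {Y : Scheme.{u}} (m : ∀ k, pullback x (Sigma.ι X' k) ⟶ Y) :
    ∃! m' : T ⟶ Y, ∀ k, pullback.fst x (Sigma.ι X' k) ≫ m' = m k := by
  have hm : ∀ k l : ULift.{u} (Fin n), pullback.fst ((cov X' x).f k) ((cov X' x).f l) ≫ m k.down =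
      pullback.snd ((cov X' x).f k) ((cov X' x).f l) ≫ m l.down := by
    rintro ⟨k⟩ ⟨l⟩
    by_cases hkl : k = l
    · subst hkl
      exact congrArg (· ≫ m k) (fst_eq_snd X' x k)
    · have := isEmpty_overlap X' x hkl
      exact (isInitialOfIsEmpty
        (X := pullback (pullback.fst x (Sigma.ι X' k)) (pullback.fst x (Sigma.ι X' l)))).hom_ext _ _
  refine ⟨(cov X' x).glueMorphisms (fun k => m k.down) hm,
    fun k => (cov X' x).ι_glueMorphisms (fun k => m k.down) hm ⟨k⟩, ?_⟩
  intro m'' h
  refine (cov X' x).hom_ext _ _ fun k => ?_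
  exact (h k.down).trans ((cov X' x).ι_glueMorphisms (fun k => m k.down) hm k).symm

variable {S : Scheme.{u}} {ι : Type u} {X : ι → Scheme.{u}} {f : ∀ i, X i ⟶ S} {D : SchDDFam f}

/-- elements over `T` are families of elements over the preimages of the components. -/
lemma existsUnique_el (hD : GluesZariski D) (s : ∀ k, El D (pullback x (Sigma.ι X' k))) :
    ∃! s' : El D T, ∀ k, s'.res (pullback.fst x (Sigma.ι X' k)) = s k := by
  have key := @hD T (cov X' x) (fun k => s k.down) ?_
  · obtain ⟨s', h1, h2⟩ := key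
    exact ⟨s', fun k => h1 ⟨k⟩, fun s'' h => h2 s'' fun k => h k.down⟩
  rintro ⟨k⟩ ⟨l⟩
  by_cases hkl : k = l
  · subst hkl
    exact congrArg (s k).res (fst_eq_snd X' x k)
  · have := isEmpty_overlap X' x hkl
    have := subsingleton_el_of_isEmpty D
      (pullback (pullback.fst x (Sigma.ι X' k)) (pullback.fst x (Sigma.ι X' l)))
    exact this.elim _ _

end cover

section main

variable {S : Scheme.{u}} {ι : Type u} {X : ι → Scheme.{u}} {f : ∀ i, X i ⟶ S} {D : SchDDFam f}
  {S' : Scheme.{u}} {j : S' ⟶ S}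

lemma toEl_congr {X₁ : Scheme.{u}} {p₁ : X₁ ⟶ S'} {V₁ : Over X₁} (B : Beta D j p₁ V₁)
    {T : Scheme.{u}} {x x' : T ⟶ X₁} (hx : x = x') (v : Lifts V₁ x) (v' : Lifts V₁ x')
    (hv : v.1 = v'.1) : B.toEl x v = B.toEl x' v' := by
  subst hx
  congr 1
  exact Subtype.ext hv

variable {n : ℕ} {X' : Fin n → Scheme.{u}} {p' : ∀ k, X' k ⟶ S'} {V' : ∀ k, Over (X' k)}

/-- the coproduct of the `V' k` over the coproduct of the `X' k`. -/
noncomputable abbrev sigV (V' : ∀ k, Over (X' k)) : Over (∐ X') :=
  Over.mk (Limits.Sigma.map fun k => (V' k).hom)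

/-- the component of a lift. -/
noncomputable def comp {T : Scheme.{u}} (x : T ⟶ ∐ X') (v : Lifts (sigV V') x) (k : Fin n) :
    Lifts (V' k) (pullback.snd x (Sigma.ι X' k)) :=
  ⟨(isPullback_sigmaι_map (fun k => (V' k).hom) k).lift (pullback.fst x (Sigma.ι X' k) ≫ v.1)
      (pullback.snd x (Sigma.ι X' k)) (by
        have h := v.2
        dsimp only [Over.mk_hom, Over.mk_left] at h
        rw [Category.assoc, h]
        exact pullback.condition),
    IsPullback.lift_snd _ _ _ _⟩

lemma comp_ι {T : Scheme.{u}} (x : T ⟶ ∐ X') (v : Lifts (sigV V') x) (k : Fin n) :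
    (comp x v k).1 ≫ Sigma.ι (fun k => (V' k).left) k = pullback.fst x (Sigma.ι X' k) ≫ v.1 :=
  IsPullback.lift_fst _ _ _ _

variable (hD : GluesZariski D) (B : ∀ k, Beta D j (p' k) (V' k))

/-- the element attached to a lift to the coproduct. -/
noncomputable def sigmaToEl {T : Scheme.{u}} (x : T ⟶ ∐ X') (v : Lifts (sigV V') x) : El D T :=
  (existsUnique_el X' x hD (fun k => (B k).toEl _ (comp x v k))).exists.choose

lemma sigmaToEl_res {T : Scheme.{u}} (x : T ⟶ ∐ X') (v : Lifts (sigV V') x) (k : Fin n) :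
    (sigmaToEl hD B x v).res (pullback.fst x (Sigma.ι X' k)) = (B k).toEl _ (comp x v k) :=
  (existsUnique_el X' x hD (fun k => (B k).toEl _ (comp x v k))).exists.choose_spec k

lemma eq_sigmaToEl {T : Scheme.{u}} (x : T ⟶ ∐ X') (v : Lifts (sigV V') x) (s : El D T)
    (h : ∀ k, s.res (pullback.fst x (Sigma.ι X' k)) = (B k).toEl _ (comp x v k)) :
    s = sigmaToEl hD B x v :=
  (existsUnique_el X' x hD (fun k => (B k).toEl _ (comp x v k))).unique h
    (sigmaToEl_res hD B x v)

/-- the β-structure on the coproduct. -/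
noncomputable def sigmaBeta : Beta D j (Sigma.desc p') (sigV V') where
  toEl _ x v := sigmaToEl hD B x v
  toEl_g := by
    intro T x v
    obtain ⟨m, -, hm⟩ := existsUnique_hom X' x
      (fun k => pullback.snd x (Sigma.ι X' k) ≫ p' k ≫ j)
    rw [hm (sigmaToEl hD B x v).g ?_, hm (x ≫ Sigma.desc p' ≫ j) ?_]
    · intro k
      rw [pullback.condition_assoc, Sigma.ι_desc_assoc]
    · intro k
      have := congrArg El.g (sigmaToEl_res hD B x v k)
      rw [El.res_g, (B k).toEl_g] at this
      exact this
  inj := by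
    intro T x v v' h
    apply Subtype.ext
    obtain ⟨m, -, hm⟩ := existsUnique_hom X' x (fun k => pullback.fst x (Sigma.ι X' k) ≫ v.1)
    rw [hm v.1 (fun _ => rfl)]
    symm
    apply hm
    intro k
    have h1 : (B k).toEl _ (comp x v k) = (B k).toEl _ (comp x v' k) := by
      rw [← sigmaToEl_res hD B, ← sigmaToEl_res hD B]
      exact congrArg (fun s => El.res s _) h
    have h2 := (B k).inj _ _ _ h1
    rw [← comp_ι, ← comp_ι, h2]
  surj := by
    intro T x s hs
    have hk : ∀ k, ∃ vk, (B k).toEl (pullback.snd x (Sigma.ι X' k)) vk =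
        s.res (pullback.fst x (Sigma.ι X' k)) := by
      intro k
      apply (B k).surj
      rw [El.res_g, hs, pullback.condition_assoc, Sigma.ι_desc_assoc]
    choose vk hvk using hk
    obtain ⟨w, hw, -⟩ := existsUnique_hom X' x
      (fun k => (vk k).1 ≫ Sigma.ι (fun k => (V' k).left) k)
    have hwx : w ≫ Limits.Sigma.map (fun k => (V' k).hom) = x := by
      obtain ⟨m, -, hm⟩ := existsUnique_hom X' x (fun k => pullback.fst x (Sigma.ι X' k) ≫ x)
      rw [hm x (fun _ => rfl)]
      apply hm
      intro k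
      rw [reassoc_of% (hw k), Sigma.ι_map, ← Category.assoc, (vk k).2]
      exact pullback.condition.symm
    refine ⟨⟨w, hwx⟩, ?_⟩
    symm
    apply eq_sigmaToEl
    intro k
    rw [← hvk k]
    congr 1
    apply Subtype.ext
    rw [← cancel_mono (Sigma.ι (fun k => (V' k).left) k), comp_ι]
    exact (hw k).symm
  nat := by
    intro T T₁ r x v
    symm
    apply eq_sigmaToEl
    intro k
    let rk : pullback (r ≫ x) (Sigma.ι X' k) ⟶ pullback x (Sigma.ι X' k) :=
      pullback.lift (pullback.fst _ _ ≫ r) (pullback.snd _ _)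
        (by rw [Category.assoc, pullback.condition])
    have h1 : rk ≫ pullback.fst x (Sigma.ι X' k) = pullback.fst (r ≫ x) (Sigma.ι X' k) ≫ r :=
      pullback.lift_fst _ _ _
    have h2 : rk ≫ pullback.snd x (Sigma.ι X' k) = pullback.snd (r ≫ x) (Sigma.ι X' k) :=
      pullback.lift_snd _ _ _
    rw [← El.res_comp, ← h1, El.res_comp, sigmaToEl_res, ← (B k).nat]
    apply toEl_congr _ h2
    rw [← cancel_mono (Sigma.ι (fun k => (V' k).left) k), Category.assoc, comp_ι, comp_ι,
      reassoc_of% h1]

end main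

/-- **Package SIGMA.** -/
theorem betaSigma : BetaSigmaStmt.{u} := by
  intro S ι X f D hD S' j n X' p' V' B
  exact ⟨sigmaBeta hD B⟩

end Groth.Agent.R2.H76.DescSigma
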