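import Mathlib
import Groth.Agent.R2.H27QuotCore
import Groth.Agent.S6044
import Groth.Agent.Lib.Helper12Descent

/-!
# The fppf quotient sheaf of an fppf equivalence relation with closed graph is an fpqc sheaf (helper27)

Namespace `Groth.Agent.R2.H27.QuotCompare`.  `c s t : (U/R)_fppf ⟶ (U/R)_fpqc` (the target regarded as an fppf sheaf)
is an isomorphism when `s` is flat, surjective, locally of finite presentation and the graph is a closed immersion.
-/

set_option autoImplicit false
universe u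

open CategoryTheory Limits AlgebraicGeometry MonoidalCategory CartesianMonoidalCategory Opposite

namespace Groth.Agent.R2.H27.QuotCompare

open Groth.Agent.Lib.Helper9 Groth.Agent.Lib.Helper12.QuotShLib Groth.Agent.R2.H27.QuotSec
  Groth.Agent.R2.H27.SubfDesc Groth.Agent.R2.H27.QuotCore

local notation "Kq" => Scheme.fpqcPrecoverage
local notation "Kp" => Scheme.fppfPrecoverage

variable {S : Scheme.{u}} {R U : Over S} (s t : R ⟶ U)

lemma J_le : QuotSh.J Kp S ≤ QuotSh.J Kq S := by
  intro X Sv hSv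
  rw [GrothendieckTopology.mem_over_iff] at hSv ⊢
  exact Precoverage.toGrothendieck_mono Scheme.fppfPrecoverage_le_fpqcPrecoverage _ hSv

/-- the fpqc quotient sheaf, regarded as an fppf sheaf -/
noncomputable def G : QuotSh.Sh Kp S :=
  ⟨(QuotSh.quot Kq s t).obj, (isSheaf_iff_isSheaf_of_type _ _).2
    (Presieve.isSheaf_of_le _ J_le
      ((isSheaf_iff_isSheaf_of_type _ _).1 (QuotSh.quot Kq s t).property))⟩

/-- the class of the universal point of `U` in the fpqc quotient -/
noncomputable def xπ : (QuotSh.quot Kq s t).obj.obj (op U) := sec Kq _ (QuotSh.quotπ Kq s t)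

/-- `h_U ⟶ (U/R)_fpqc` in fppf sheaves -/
noncomputable def p : QuotSh.rep Kp U ⟶ G s t := (sec Kp (G s t)).symm (xπ s t)

lemma sec_p : sec Kp (G s t) (p s t) = xπ s t := Equiv.apply_symm_apply _ _

lemma p_cond : QuotSh.repMap Kp s ≫ p s t = QuotSh.repMap Kp t ≫ p s t := by
  apply (sec Kp (G s t)).injective
  rw [sec_repMap, sec_repMap, sec_p]
  change (QuotSh.quot Kq s t).obj.map s.op (xπ s t) = (QuotSh.quot Kq s t).obj.map t.op (xπ s t)
  unfold xπ
  rw [← sec_repMap, ← sec_repMap, QuotSh.quot_condition]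

/-- the comparison map from the fppf quotient to the fpqc quotient -/
noncomputable def c : QuotSh.quot Kp s t ⟶ G s t := coequalizer.desc (p s t) (p_cond s t)

lemma π_c : QuotSh.quotπ Kp s t ≫ c s t = p s t := coequalizer.π_desc _ _

lemma sec_comp_c {W : Over S} (a : W ⟶ U) :
    sec Kp (G s t) (QuotSh.repMap Kp a ≫ QuotSh.quotπ Kp s t ≫ c s t) =
      sec Kq (QuotSh.quot Kq s t) (QuotSh.repMap Kq a ≫ QuotSh.quotπ Kq s t) := by
  rw [π_c, sec_repMap, sec_repMap, sec_p]
  rfl

lemma epi_quotπ (K : Precoverage Scheme.{u}) : Epi (QuotSh.quotπ K s t) := by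
  unfold QuotSh.quotπ
  exact coequalizer.π_epi

section

variable [IsEquivalenceRelation s t]

lemma comp_c_injective {T : Over S} (α₁ α₂ : QuotSh.rep Kp T ⟶ QuotSh.quot Kp s t)
    (h : α₁ ≫ c s t = α₂ ≫ c s t) : α₁ = α₂ := by
  obtain ⟨Rc₁, hRc₁, hl₁⟩ := exists_local_lift Kp (QuotSh.quotπ Kp s t) (epi_quotπ s t Kp) α₁
  refine eq_of_cover Kp α₁ α₂ Rc₁ hRc₁ (fun V g hg => ?_)
  obtain ⟨l₁, hl₁⟩ := hl₁ g hg
  obtain ⟨Rc₂, hRc₂, hl₂⟩ := exists_local_lift Kp (QuotSh.quotπ Kp s t) (epi_quotπ s t Kp)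
    (QuotSh.repMap Kp (res g) ≫ α₂)
  refine eq_of_cover Kp _ _ Rc₂ hRc₂ (fun V' g' hg' => ?_)
  obtain ⟨l₂, hl₂⟩ := hl₂ g' hg'
  rw [← hl₂, ← hl₁, ← Category.assoc, ← repMap_comp, exists_rel_iff Kp s t,
    ← exists_rel_iff Kq s t]
  apply (sec Kq _).injective
  rw [← sec_comp_c, ← sec_comp_c]
  congr 1
  rw [← Category.assoc, ← Category.assoc, repMap_comp, Category.assoc (QuotSh.repMap Kp (res g')),
    hl₁, hl₂, Category.assoc, Category.assoc, Category.assoc, h]
  simp only [Category.assoc]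

lemma mono_c : Mono (c s t) := by
  apply Sheaf.mono_of_injective
  intro X x₁ x₂ hx
  obtain ⟨T⟩ := X
  have h1 : ∀ x : (QuotSh.quot Kp s t).obj.obj (op T),
      sec Kp (G s t) ((sec Kp _).symm x ≫ c s t) = (c s t).hom.app (op T) x := fun x => by
    rw [sec_comp, Equiv.apply_symm_apply]
  have h2 := comp_c_injective s t ((sec Kp _).symm x₁) ((sec Kp _).symm x₂)
    ((sec Kp (G s t)).injective (by rw [h1, h1]; exact hx))
  exact (sec Kp _).symm.injective h2

lemma epi_c [Flat s.left] [Surjective s.left] [LocallyOfFinitePresentation s.left]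
    (hc : IsClosedImmersion (lift t s).left) : Epi (c s t) := by
  have hmono : ∀ ⦃A B : Scheme.{u}⦄ (f : A ⟶ B), IsClosedImmersion f → Mono f :=
    fun _ _ f hf => inferInstance
  rw [← Sheaf.isLocallySurjective_iff_epi]
  constructor
  intro T y
  let σ' : QuotSh.rep Kq T ⟶ QuotSh.quot Kq s t := (sec Kq _).symm y
  obtain ⟨Z, i, hi, hrep0⟩ := exists_rep_Zp (s := s) (t := t)
    @IsClosedImmersion hmono Groth.Agent.Lib.Helper12.descendsAlong_isClosedImmersion
    (fun g hg D hD => Groth.Agent.S6044.result g hg D hD) hc σ'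
  have hrep : Represents s t σ' i := hrep0
  have hm1 : Mono i.left := hmono _ hi
  have hm2 : Mono i := (Over.forget S).mono_of_mono_map hm1
  have hflat : Flat (i ≫ snd U T).left :=
    hrep.prop_snd @Flat Groth.Agent.Lib.Helper12.descendsAlong_flat inferInstance
  have hsurj : Surjective (i ≫ snd U T).left := hrep.prop_snd @Surjective inferInstance inferInstance
  have hlfp : LocallyOfFinitePresentation (i ≫ snd U T).left :=
    hrep.prop_snd @LocallyOfFinitePresentation inferInstance inferInstance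
  have hcov := generate_singleton_mem_J_fppf (i ≫ snd U T)
  refine (QuotSh.J Kp S).superset_covering ?_ hcov
  rw [Sieve.generate_le_iff]
  rintro W f ⟨⟩
  refine ⟨sec Kp _ (QuotSh.repMap Kp (i ≫ fst U T) ≫ QuotSh.quotπ Kp s t), ?_⟩
  rw [← sec_comp, Category.assoc, sec_comp_c, hrep.compat, sec_repMap]
  change _ = (QuotSh.quot Kq s t).obj.map (i ≫ snd U T).op y
  congr 1
  exact Equiv.apply_symm_apply _ _

/-- the fppf quotient sheaf of an fppf equivalence relation with closed graph is an fpqc sheaf -/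
theorem isSheaf_fpqc [Flat s.left] [Surjective s.left] [LocallyOfFinitePresentation s.left]
    (hc : IsClosedImmersion (lift t s).left) :
    Presheaf.IsSheaf (QuotSh.J Kq S) (QuotSh.quot Kp s t).obj := by
  have h3 : IsIso (c s t) := ToposLike.isIso_of_mono_of_epi (c s t) (mono_c s t) (epi_c s t hc)
  exact (Presheaf.isSheaf_of_iso_iff ((sheafToPresheaf _ _).mapIso (asIso (c s t)))).2
    (QuotSh.quot Kq s t).property

end

end Groth.Agent.R2.H27.QuotCompare
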