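import Mathlib
import Groth.Agent.Lib.Helper4DimFormulaAE
import Groth.Agent.Lib.Helper4VarDim4
set_option backward.isDefEq.respectTransparency.types false

/-!
# Irreducible open neighbourhoods of unibranch points (helper27)

* `exists_generic_of_isDomain_stalk`: if the local ring of a scheme at `y` is a domain, there is a
  smallest generization `ξ₀` of `y`.
* `exists_open_subset_closure_of_locallyFinite`: in a quasi-sober space whose irreducible components
  form a locally finite family, a point `y` with a smallest generization `ξ₀` has an open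
  neighbourhood contained in the closure of `ξ₀`.
-/

set_option autoImplicit false
set_option linter.style.haveILetI false
universe u
open CategoryTheory AlgebraicGeometry TopologicalSpace

namespace Groth.Agent.R2.H27.RatSecTop

open Groth.Agent.Lib.Helper4.DimFormula Groth.Agent.Lib.Helper4.VarDim

/-- the generic point of the spectrum of a local domain gives a smallest generization -/
theorem exists_generic_of_isDomain_stalk {Y : Scheme.{u}} (y : Y)
    (hy : IsDomain (Y.presheaf.stalk y)) :
    ∃ ξ₀ : Y, ξ₀ ⤳ y ∧ ∀ ζ : Y, ζ ⤳ y → ξ₀ ⤳ ζ := by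
  haveI : (⊥ : Ideal (Y.presheaf.stalk y)).IsPrime := Ideal.isPrime_bot
  refine ⟨Y.fromSpecStalk y ⟨⊥, inferInstance⟩, fromSpecStalk_specializes y _, ?_⟩
  intro ζ hζ
  obtain ⟨𝔮, h𝔮, rfl⟩ := exists_prime_fromSpecStalk_eq hζ
  haveI := h𝔮
  exact (fromSpecStalk_specializes_iff y ⊥ 𝔮).mpr bot_le

/-- an open neighbourhood inside the closure of the smallest generization -/
theorem exists_open_subset_closure_of_locallyFinite {α : Type*} [TopologicalSpace α]
    [QuasiSober α]
    (hcomp : LocallyFinite (fun Z : ↥(irreducibleComponents α) => (Z : Set α)))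
    (y ξ₀ : α) (h0 : ∀ ζ : α, ζ ⤳ y → ξ₀ ⤳ ζ) :
    ∃ V : Set α, IsOpen V ∧ y ∈ V ∧ V ⊆ closure {ξ₀} := by
  classical
  obtain ⟨N, hN, hfin⟩ := hcomp y
  let S : Set ↥(irreducibleComponents α) := {Z | ((Z : Set α) ∩ N).Nonempty}
  let B : Set α := ⋃ Z ∈ {Z ∈ S | y ∉ (Z : Set α)}, (Z : Set α)
  have hB : IsClosed B := by
    apply Set.Finite.isClosed_biUnion (hfin.subset (fun Z hZ => hZ.1))
    intro Z _
    exact isClosed_of_mem_irreducibleComponents _ Z.2
  refine ⟨interior N \ B, isOpen_interior.sdiff hB, ⟨mem_interior_iff_mem_nhds.mpr hN, ?_⟩, ?_⟩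
  · intro hyB
    simp only [B, Set.mem_iUnion, exists_prop] at hyB
    obtain ⟨Z, ⟨_, hyZ⟩, hy⟩ := hyB
    exact hyZ hy
  · rintro p ⟨hpN, hpB⟩
    obtain ⟨ξ, hξ, hξp⟩ := exists_generic_specializes p
    let Z : ↥(irreducibleComponents α) := ⟨closure {ξ}, hξ⟩
    have hpZ : p ∈ (Z : Set α) := hξp.mem_closure
    have hZS : Z ∈ S := ⟨p, hpZ, interior_subset hpN⟩
    have hyZ : y ∈ (Z : Set α) := by
      by_contra hne
      apply hpB
      simp only [B, Set.mem_iUnion, exists_prop]
      exact ⟨Z, ⟨hZS, hne⟩, hpZ⟩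
    have hξy : ξ ⤳ y := specializes_iff_mem_closure.mpr hyZ
    exact ((h0 ξ hξy).trans hξp).mem_closure

end Groth.Agent.R2.H27.RatSecTop
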