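import Mathlib
import Groth.Agent.R2.H27RatSecTop
import Groth.Agent.Lib.Helper3EtGUSchD
import Groth.Agent.Lib.Helper3IrrTopB
import Groth.Agent.Lib.Helper6UniD
set_option backward.isDefEq.respectTransparency.types false

/-!
# Unramified morphisms near a point over a geometrically unibranch point (helper27)

* `exists_etale_nhd`: `f` locally of finite type and formally unramified, `x` a specialisation of a
  point `x'` over the generic point of an integral open `V₀ ∋ f x`, the local ring at `f x`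
  geometrically unibranch: `f` is étale near `x` (EGA IV 18.10.1 through the Lib).
* `exists_irreducible_nhd`: if moreover the local ring at `x` is a domain, `x` has an open
  neighbourhood all of whose points are specialisations of `x'`.
-/

set_option autoImplicit false
set_option linter.style.haveILetI false
universe u
open CategoryTheory CategoryTheory.Limits AlgebraicGeometry TopologicalSpace

namespace Groth.Agent.R2.H27.RatSecA

open Groth.Agent.R2.H27.RatSecTop Groth.Agent.Lib.Helper3.EtGUSch Groth.Agent.Lib.Helper3.IrrTop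
  Groth.Agent.Lib.Helper6.Uni

variable {X Y : Scheme.{u}} (f : X ⟶ Y) [LocallyOfFiniteType f] [FormallyUnramified f]

theorem exists_etale_nhd (V₀ : Y.Opens) [IsIntegral ↑V₀] (x x' : X) (hx : f x ∈ V₀)
    (hsp : x' ⤳ x) (hη : ∀ p ∈ V₀, f x' ⤳ p)
    (hy : CAlg2.IsGeomUnibranch (Y.presheaf.stalk (f x))) :
    ∃ W : X.Opens, x ∈ W ∧ Etale (W.ι ≫ f) := by
  let X₀ : X.Opens := f ⁻¹ᵁ V₀
  let f₀ : (X₀ : Scheme.{u}) ⟶ V₀ := f ∣_ V₀
  have hx'X₀ : x' ∈ X₀ := hsp.mem_open X₀.isOpen hx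
  let x₀ : (X₀ : Scheme.{u}) := ⟨x, hx⟩
  let x₀' : (X₀ : Scheme.{u}) := ⟨x', hx'X₀⟩
  have hsp₀ : x₀' ⤳ x₀ := (subtype_specializes_iff x₀' x₀).mpr hsp
  have hf₀ : ∀ z : (X₀ : Scheme.{u}), V₀.ι (f₀ z) = f (X₀.ι z) := by
    intro z
    rw [← Scheme.Hom.comp_apply, ← Scheme.Hom.comp_apply, morphismRestrict_ι]
  have hgen : f₀ x₀' = genericPoint ↑V₀ := by
    have h1 : IsGenericPoint (f₀ x₀') (⊤ : Set ↑V₀) := by
      rw [isGenericPoint_def, Set.top_eq_univ, Set.eq_univ_iff_forall]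
      intro p
      rw [← specializes_iff_mem_closure, ← V₀.ι.isOpenEmbedding.isInducing.specializes_iff, hf₀]
      exact hη p.1 p.2
    exact h1.eq (genericPoint_spec ↑V₀)
  have hinj : Function.Injective (f₀.stalkMap x₀).hom :=
    stalkMap_injective_of_specializes f₀ x₀ x₀' hsp₀ hgen
  have hY : CAlg2.IsGeomUnibranch ((V₀ : Scheme.{u}).presheaf.stalk (f₀ x₀)) :=
    isGeomUnibranch_stalk_opens V₀ (f₀ x₀) (f x) (hf₀ x₀) hy
  haveI : FormallyUnramified f₀ := IsZariskiLocalAtTarget.restrict ‹FormallyUnramified f› V₀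
  haveI : LocallyOfFiniteType f₀ := IsZariskiLocalAtTarget.restrict ‹LocallyOfFiniteType f› V₀
  obtain ⟨U', hxU', hét⟩ := exists_etale_nhd_of_integral f₀ x₀ hY hinj
    ⟨⊤, trivial, IsZariskiLocalAtSource.comp (P := @FormallyUnramified) ‹_› _⟩
  refine ⟨X₀.ι ''ᵁ U', ⟨x₀, hxU', rfl⟩, ?_⟩
  have h1 : (X₀.ι ''ᵁ U').ι ≫ f = (X₀.ι.isoImage U').inv ≫ (U'.ι ≫ f₀) ≫ V₀.ι := by
    rw [Category.assoc, morphismRestrict_ι, ← Scheme.Hom.isoImage_inv_ι_assoc]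
  rw [h1]
  infer_instance

/-- cleaning up the generic fibre: an open neighbourhood of `x` all of whose points are
specialisations of `ξ₁` -/
theorem exists_irreducible_nhd (V₀ : Y.Opens) (η : Y) (hηV : ∀ p ∈ V₀, η ⤳ p)
    (W : X.Opens) (hW : Etale (W.ι ≫ f)) (hWV : W ≤ f ⁻¹ᵁ V₀) (hWc : IsCompact (W : Set X))
    (x ξ₁ : X) (hxW : x ∈ W) (hdom : IsDomain (X.presheaf.stalk x)) (hξ : f ξ₁ = η)
    (hsp : ξ₁ ⤳ x) :
    ∃ W' : X.Opens, W' ≤ W ∧ x ∈ W' ∧ ξ₁ ∈ W' ∧ ∀ p ∈ W', ξ₁ ⤳ p := by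
  classical
  haveI : LocallyQuasiFinite f := locallyQuasiFinite_of_unramified f
  -- the part of the generic fibre inside `W` is finite
  let G : Set X := {w | w ∈ W ∧ f w = η}
  have hGfin : G.Finite := by
    choose O hO hwO hOfin using fun w : X => exists_open_finite_fiber f η w
    obtain ⟨t, -, htW⟩ := hWc.elim_nhds_subcover O (fun w _ => (hO w).mem_nhds (hwO w))
    refine Set.Finite.subset (Set.Finite.biUnion t.finite_toSet (fun w _ => hOfin w)) ?_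
    rintro w ⟨hwW, hwη⟩
    obtain ⟨i, hi, hwi⟩ := Set.mem_iUnion₂.mp (htW hwW)
    exact Set.mem_iUnion₂.mpr ⟨i, hi, ⟨hwη, hwi⟩⟩
  -- the smallest generization of `x`
  obtain ⟨ξ₀, hξ₀x, hξ₀⟩ := exists_generic_of_isDomain_stalk x hdom
  have huniq : ∀ ξ : X, f ξ = η → ξ ⤳ x → ξ = ξ₀ := by
    intro ξ hfξ hξx
    have h1 : ξ₀ ⤳ ξ := hξ₀ ξ hξx
    have h2 : f ξ₀ ⤳ η := hfξ ▸ (f.base.hom.map_specializes h1)
    have h3 : η ⤳ f ξ₀ := hηV _ (hWV (hξ₀x.mem_open W.isOpen hxW))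
    have h4 : f ξ₀ = f ξ := by rw [hfξ]; exact (h2.antisymm h3).eq
    exact (eq_of_specializes_of_fiber f h1 h4).symm
  have h10 : ξ₁ = ξ₀ := huniq ξ₁ hξ hsp
  let B : Set X := ⋃ ξ ∈ G \ {ξ₁}, closure {ξ}
  have hB : IsClosed B :=
    Set.Finite.isClosed_biUnion (hGfin.subset Set.sdiff_subset) (fun _ _ => isClosed_closure)
  have hξ₁W : ξ₁ ∈ W := hsp.mem_open W.isOpen hxW
  refine ⟨⟨(W : Set X) \ B, W.isOpen.sdiff hB⟩, fun p hp => hp.1, ⟨hxW, ?_⟩, ⟨hξ₁W, ?_⟩, ?_⟩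
  · intro hxB
    obtain ⟨ξ, ⟨⟨-, hξη⟩, hne⟩, hx⟩ := Set.mem_iUnion₂.mp hxB
    exact hne ((huniq ξ hξη (specializes_iff_mem_closure.mpr hx)).trans h10.symm)
  · intro hB'
    obtain ⟨ξ, ⟨⟨-, hξη⟩, hne⟩, hx⟩ := Set.mem_iUnion₂.mp hB'
    have h1 : ξ ⤳ ξ₁ := specializes_iff_mem_closure.mpr hx
    exact hne (eq_of_specializes_of_fiber f h1 (hξη.trans hξ.symm))
  · rintro p ⟨hpW, hpB⟩
    haveI := hW
    have h1 : η ⤳ (W.ι ≫ f) ⟨p, hpW⟩ := hηV _ (hWV hpW)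
    obtain ⟨ξ', hξ'p, hξ'η⟩ := Flat.generalizingMap (W.ι ≫ f) h1
    have hξp : W.ι ξ' ⤳ p := W.ι.base.hom.map_specializes hξ'p
    have hξη : f (W.ι ξ') = η := hξ'η
    by_cases hne : W.ι ξ' = ξ₁
    · rw [← hne]; exact hξp
    · exfalso
      apply hpB
      exact Set.mem_iUnion₂.mpr ⟨W.ι ξ', ⟨⟨ξ'.2, hξη⟩, hne⟩, hξp.mem_closure⟩

end Groth.Agent.R2.H27.RatSecA
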