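import Mathlib
import Groth.Agent.Lib.Helper20FinHom
set_option backward.isDefEq.respectTransparency.types false

/-!
# An étale separated morphism with a section over a dense open is a monomorphism (helper27)

`isOpenImmersion_of_section`: `h : A ⟶ Y` étale and separated, `A` irreducible, `η` a point of an
open `U₁ ⊆ Y` specialising to every point of the image of `h`, and `s` a section of `h` over `U₁`:
then `h` is an open immersion.
-/

set_option autoImplicit false
set_option linter.style.haveILetI false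
universe u
open CategoryTheory CategoryTheory.Limits AlgebraicGeometry TopologicalSpace

namespace Groth.Agent.R2.H27.RatSecB

open Groth.Agent.Lib.Helper20.FinHom

variable {A Y : Scheme.{u}} (h : A ⟶ Y)

/-- over `U₁` the morphism `h` is an isomorphism -/
theorem isIso_morphismRestrict_of_section [LocallyOfFiniteType h] [FormallyUnramified h]
    [IsSeparated h] (U₁ : Y.Opens) (s : (U₁ : Scheme.{u}) ⟶ A) (hs : s ≫ h = U₁.ι)
    [PreconnectedSpace ↑(h ⁻¹ᵁ U₁)] [Nonempty ↑U₁] : IsIso (h ∣_ U₁) := by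
  let A₁ : A.Opens := h ⁻¹ᵁ U₁
  let h₁ : (A₁ : Scheme.{u}) ⟶ U₁ := h ∣_ U₁
  have hrange : Set.range s ⊆ Set.range A₁.ι := by
    rintro _ ⟨p, rfl⟩
    rw [Scheme.Opens.range_ι]
    show h (s p) ∈ U₁
    rw [← Scheme.Hom.comp_apply, hs]
    exact p.2
  let s₁ : (U₁ : Scheme.{u}) ⟶ A₁ := IsOpenImmersion.lift A₁.ι s hrange
  have hs₁ : s₁ ≫ h₁ = 𝟙 _ := by
    rw [← cancel_mono U₁.ι, Category.assoc, morphismRestrict_ι, IsOpenImmersion.lift_fac_assoc, hs,
      Category.id_comp]
  haveI : FormallyUnramified h₁ := IsZariskiLocalAtTarget.restrict ‹FormallyUnramified h› U₁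
  haveI : LocallyOfFiniteType h₁ := IsZariskiLocalAtTarget.restrict ‹LocallyOfFiniteType h› U₁
  haveI : IsSeparated h₁ := IsZariskiLocalAtTarget.restrict ‹IsSeparated h› U₁
  haveI : IsOpenImmersion s₁ := isOpenImmersion_of_section h₁ s₁ hs₁
  haveI : IsClosedImmersion s₁ := isClosedImmersion_of_section h₁ s₁ hs₁
  have hclopen : IsClopen (Set.range s₁) :=
    ⟨s₁.isClosedEmbedding.isClosed_range, s₁.isOpenEmbedding.isOpen_range⟩
  have huniv : Set.range s₁ = Set.univ :=
    hclopen.eq_univ (Set.range_nonempty _)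
  haveI : Epi s₁.base := by
    rw [TopCat.epi_iff_surjective, ← Set.range_eq_univ]
    exact huniv
  haveI : IsIso s₁ := IsOpenImmersion.isIso s₁
  have : h₁ = inv s₁ := by
    rw [← cancel_epi s₁, hs₁, IsIso.hom_inv_id]
  show IsIso h₁
  rw [this]
  infer_instance

/-- the diagonal argument -/
theorem mono_of_section [Etale h] [IsSeparated h] (U₁ : Y.Opens) (s : (U₁ : Scheme.{u}) ⟶ A)
    (hs : s ≫ h = U₁.ι) [PreconnectedSpace ↑(h ⁻¹ᵁ U₁)] (η : Y) (hηU : η ∈ U₁)
    (hη : ∀ a : A, η ⤳ h a) : Mono h := by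
  haveI : Nonempty ↑U₁ := ⟨⟨η, hηU⟩⟩
  haveI hiso : IsIso (h ∣_ U₁) := isIso_morphismRestrict_of_section h U₁ s hs
  rw [← pullback.isIso_diagonal_iff]
  let Δ := pullback.diagonal h
  let q : pullback h h ⟶ Y := pullback.fst h h ≫ h
  let A₁ : A.Opens := h ⁻¹ᵁ U₁
  let O : (pullback h h).Opens := q ⁻¹ᵁ U₁
  -- the two projections agree over `U₁`
  have hfs : O.ι ≫ pullback.fst h h = O.ι ≫ pullback.snd h h := by
    have hra : Set.range (O.ι ≫ pullback.fst h h) ⊆ Set.range A₁.ι := by
      rintro _ ⟨z, rfl⟩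
      rw [Scheme.Opens.range_ι]
      exact z.2
    have hrb : Set.range (O.ι ≫ pullback.snd h h) ⊆ Set.range A₁.ι := by
      rintro _ ⟨z, rfl⟩
      rw [Scheme.Opens.range_ι]
      show h ((O.ι ≫ pullback.snd h h) z) ∈ U₁
      rw [← Scheme.Hom.comp_apply, Category.assoc, ← pullback.condition]
      exact z.2
    let a := IsOpenImmersion.lift A₁.ι (O.ι ≫ pullback.fst h h) hra
    let b := IsOpenImmersion.lift A₁.ι (O.ι ≫ pullback.snd h h) hrb
    have hab : a = b := by
      rw [← cancel_mono (h ∣_ U₁), ← cancel_mono U₁.ι, Category.assoc, Category.assoc,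
        morphismRestrict_ι, IsOpenImmersion.lift_fac_assoc, IsOpenImmersion.lift_fac_assoc,
        Category.assoc, Category.assoc, pullback.condition]
    calc O.ι ≫ pullback.fst h h = a ≫ A₁.ι := (IsOpenImmersion.lift_fac _ _ _).symm
      _ = b ≫ A₁.ι := by rw [hab]
      _ = O.ι ≫ pullback.snd h h := IsOpenImmersion.lift_fac _ _ _
  have hO : O.ι = (O.ι ≫ pullback.fst h h) ≫ Δ := by
    apply pullback.hom_ext
    · rw [Category.assoc, Category.assoc, pullback.diagonal_fst, Category.comp_id]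
    · rw [Category.assoc, Category.assoc, pullback.diagonal_snd, Category.comp_id, hfs]
  have hOsub : (O : Set ↑(pullback h h)) ⊆ Set.range Δ := by
    intro c hc
    have : c = O.ι ⟨c, hc⟩ := rfl
    rw [this, hO, Scheme.Hom.comp_apply]
    exact ⟨_, rfl⟩
  haveI : IsOpenImmersion Δ := inferInstanceAs (IsOpenImmersion (pullback.diagonal h))
  haveI : IsClosedImmersion Δ := inferInstanceAs (IsClosedImmersion (pullback.diagonal h))
  have hcl : IsClosed (Set.range Δ) := Δ.isClosedEmbedding.isClosed_range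
  have hsurj : Set.range Δ = Set.univ := by
    rw [Set.eq_univ_iff_forall]
    intro c
    by_contra hc
    haveI : Flat q := inferInstanceAs (Flat (pullback.fst h h ≫ h))
    have h1 : η ⤳ q c := hη _
    obtain ⟨c', hc'c, hqc'⟩ := Flat.generalizingMap q h1
    have hc'O : c' ∈ O := by
      show q c' ∈ U₁
      rw [hqc']; exact hηU
    exact hc (hc'c.mem_closed hcl (hOsub hc'O))
  haveI : Epi Δ.base := by
    rw [TopCat.epi_iff_surjective, ← Set.range_eq_univ]
    exact hsurj
  exact IsOpenImmersion.isIso Δ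

/-- an étale separated morphism from an irreducible scheme with a section over a dense open is an
open immersion -/
theorem isOpenImmersion_of_section [Etale h] [IsSeparated h] (U₁ : Y.Opens)
    (s : (U₁ : Scheme.{u}) ⟶ A) (hs : s ≫ h = U₁.ι) [PreconnectedSpace ↑(h ⁻¹ᵁ U₁)] (η : Y)
    (hηU : η ∈ U₁) (hη : ∀ a : A, η ⤳ h a) : IsOpenImmersion h := by
  haveI := mono_of_section h U₁ s hs η hηU hη
  exact IsOpenImmersion.of_flat_of_mono h

end Groth.Agent.R2.H27.RatSecB
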