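import Mathlib
import Groth.Agent.R2.H27RatSecA
import Groth.Agent.R2.H27RatSecB
set_option backward.isDefEq.respectTransparency.types false

/-!
# Rational sections of unramified separated morphisms extend at geometrically unibranch points
(helper27; EGA IV 18.10.x)
-/

set_option autoImplicit false
set_option linter.style.haveILetI false
universe u
open CategoryTheory CategoryTheory.Limits AlgebraicGeometry TopologicalSpace

namespace Groth.Agent.R2.H27.RatSec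

open Groth.Agent.R2.H27.RatSecTop Groth.Agent.R2.H27.RatSecA Groth.Agent.R2.H27.RatSecB
  Groth.Agent.Lib.Helper3.EtGUSch

/-- a reduced unibranch local ring is a domain -/
theorem isDomain_of_isGeomUnibranch (A : Type u) [CommRing A] [IsLocalRing A] [IsReduced A]
    (h : CAlg2.IsGeomUnibranch A) : IsDomain A := by
  haveI : IsDomain (CAlg2.red A) := h.1.1
  have hnil : nilradical A = ⊥ := nilradical_eq_zero A
  let e : A ≃+* CAlg2.red A :=
    (RingEquiv.quotientBot A).symm.trans (Ideal.quotEquivOfEq hnil.symm)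
  exact e.toMulEquiv.isDomain (CAlg2.red A)

variable {X Y : Scheme.{u}}

theorem exists_section_nhd [IsReduced Y]
    (hcomp : LocallyFinite (fun Z : ↥(irreducibleComponents ↥Y) => (Z : Set ↥Y)))
    (f : X ⟶ Y) [IsSeparated f] [LocallyOfFiniteType f] [FormallyUnramified f]
    (U : Y.Opens) (hU : Dense (U : Set ↥Y)) (u : (U : Scheme.{u}) ⟶ X) (hu : u ≫ f = U.ι)
    (x : X) (hy : CAlg2.IsGeomUnibranch (Y.presheaf.stalk (f x)))
    (hx : x ∈ closure (Set.range u)) :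
    ∃ (V : Y.Opens) (v : (V : Scheme.{u}) ⟶ X), f x ∈ V ∧ v ≫ f = V.ι ∧
      Y.homOfLE (inf_le_left : U ⊓ V ≤ U) ≫ u = Y.homOfLE (inf_le_right : U ⊓ V ≤ V) ≫ v := by
  -- the local ring at `f x` is a domain
  have hdomY : IsDomain (Y.presheaf.stalk (f x)) := isDomain_of_isGeomUnibranch _ hy
  -- an integral open neighbourhood of `f x`
  obtain ⟨η, hηy, hη0⟩ := exists_generic_of_isDomain_stalk (f x) hdomY
  obtain ⟨V₀s, hV₀o, hyV₀, hV₀sub⟩ := exists_open_subset_closure_of_locallyFinite hcomp (f x) η hη0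
  let V₀ : Y.Opens := ⟨V₀s, hV₀o⟩
  have hηV₀ : ∀ p ∈ V₀, η ⤳ p := fun p hp => specializes_iff_mem_closure.mpr (hV₀sub hp)
  haveI : IrreducibleSpace ↑V₀ :=
    Subtype.irreducibleSpace
      ⟨⟨_, hyV₀⟩, (isIrreducible_singleton.closure).2.open_subset V₀.isOpen hV₀sub⟩
  haveI : IsIntegral ↑V₀ := isIntegral_of_irreducibleSpace_of_isReduced ↑V₀
  -- the generic point lies in `U`
  have hηU : η ∈ U := by
    obtain ⟨p, hpV, hpU⟩ := hU.inter_open_nonempty V₀s hV₀o ⟨_, hyV₀⟩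
    exact (hηV₀ p hpV).mem_open U.isOpen hpU
  let ηU : (U : Scheme.{u}) := ⟨η, hηU⟩
  let x' : X := u ηU
  have hfx' : f x' = η := by
    show f (u ηU) = η
    rw [← Scheme.Hom.comp_apply, hu]; rfl
  -- `x` is a specialisation of `x'`
  have hsp : x' ⤳ x := by
    rw [specializes_iff_mem_closure]
    have h1 : x ∈ closure ((f ⁻¹ᵁ V₀ : Set X) ∩ Set.range u) :=
      (f ⁻¹ᵁ V₀).isOpen.inter_closure ⟨hyV₀, hx⟩
    refine closure_minimal ?_ isClosed_closure h1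
    rintro _ ⟨hpV, p, rfl⟩
    have hfp : f (u p) = p.1 := by
      rw [← Scheme.Hom.comp_apply, hu]; rfl
    have h2 : η ⤳ p.1 := hηV₀ _ (by rw [← hfp]; exact hpV)
    have h3 : ηU ⤳ p := (subtype_specializes_iff ηU p).mpr h2
    exact (u.base.hom.map_specializes h3).mem_closure
  -- `f` is étale near `x`
  obtain ⟨W₀, hxW₀, hW₀⟩ := exists_etale_nhd f V₀ x x' hyV₀ hsp (fun p hp => hfx' ▸ hηV₀ p hp) hy
  obtain ⟨W, hWaff, hxW, hWle⟩ :=
    exists_isAffineOpen_mem_and_subset (x := x) (U := W₀ ⊓ f ⁻¹ᵁ V₀) ⟨hxW₀, hyV₀⟩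
  have hW : Etale (W.ι ≫ f) := by
    have : W.ι ≫ f = X.homOfLE (hWle.trans inf_le_left) ≫ W₀.ι ≫ f := by
      rw [Scheme.homOfLE_ι_assoc]
    rw [this]
    infer_instance
  have hdomX : IsDomain (X.presheaf.stalk x) :=
    (isDomain_and_isGeomUnibranch_stalk_of_etale_nhd f x hdomY hy ⟨W, hxW, hW⟩).1
  obtain ⟨W', hW'W, hxW', hx'W', hW'gen⟩ := exists_irreducible_nhd f V₀ η hηV₀ W hW
    (hWle.trans inf_le_right) hWaff.isCompact x x' hxW hdomX hfx' hsp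
  -- the étale separated morphism `h`
  let h : (W' : Scheme.{u}) ⟶ Y := W'.ι ≫ f
  haveI : Etale h := by
    have : h = X.homOfLE hW'W ≫ W.ι ≫ f := by
      show W'.ι ≫ f = _
      rw [Scheme.homOfLE_ι_assoc]
    rw [this]
    infer_instance
  haveI : IsSeparated h := inferInstanceAs (IsSeparated (W'.ι ≫ f))
  -- the section over `U₁`
  let U' : (U : Scheme.{u}).Opens := u ⁻¹ᵁ W'
  let U₁ : Y.Opens := U.ι ''ᵁ U'
  have hηU₁ : η ∈ U₁ := ⟨ηU, hx'W', rfl⟩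
  let s : (U₁ : Scheme.{u}) ⟶ W' := (U.ι.isoImage U').inv ≫ (u ∣_ W')
  have hs : s ≫ h = U₁.ι := by
    show ((U.ι.isoImage U').inv ≫ (u ∣_ W')) ≫ W'.ι ≫ f = _
    rw [Category.assoc, morphismRestrict_ι_assoc, hu, Scheme.Hom.isoImage_inv_ι]
  have hhV₀ : ∀ a : (W' : Scheme.{u}), η ⤳ h a := fun a =>
    hηV₀ _ ((hWle.trans inf_le_right) (hW'W a.2))
  -- irreducibility
  haveI : PreconnectedSpace ↑(h ⁻¹ᵁ U₁) := by
    let e : (↑(h ⁻¹ᵁ U₁) : Scheme.{u}) ⟶ X := (h ⁻¹ᵁ U₁).ι ≫ W'.ι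
    let z₀ : ↑(h ⁻¹ᵁ U₁) := ⟨⟨x', hx'W'⟩, by
      show h ⟨x', hx'W'⟩ ∈ U₁
      have : h ⟨x', hx'W'⟩ = η := hfx'
      rw [this]; exact hηU₁⟩
    have hz : ∀ z : ↑(h ⁻¹ᵁ U₁), z₀ ⤳ z := by
      intro z
      rw [← e.isOpenEmbedding.isInducing.specializes_iff]
      exact hW'gen _ z.1.2
    have huniv : (Set.univ : Set ↑(h ⁻¹ᵁ U₁)) = closure {z₀} := by
      symm
      rw [Set.eq_univ_iff_forall]
      exact fun z => (hz z).mem_closure
    haveI : PreirreducibleSpace ↑(h ⁻¹ᵁ U₁) :=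
      ⟨by rw [huniv]; exact isIrreducible_singleton.closure.2⟩
    infer_instance
  haveI hoi : IsOpenImmersion h := isOpenImmersion_of_section h U₁ s hs η hηU₁ hhV₀
  -- the section
  let V : Y.Opens := h.opensRange
  let v : (V : Scheme.{u}) ⟶ X := h.isoOpensRange.inv ≫ W'.ι
  have hv : v ≫ f = V.ι := by
    show (h.isoOpensRange.inv ≫ W'.ι) ≫ f = _
    rw [Category.assoc]
    exact h.isoOpensRange_inv_comp
  have hyV : f x ∈ V := ⟨⟨x, hxW'⟩, rfl⟩
  have hηV : η ∈ V := ⟨⟨x', hx'W'⟩, hfx'⟩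
  refine ⟨V, v, hyV, hv, ?_⟩
  -- agreement
  have hU₁U : U₁ ≤ U := by
    rintro _ ⟨p, -, rfl⟩
    exact p.2
  have hle : U₁ ⊓ V ≤ U ⊓ V := inf_le_inf_right V hU₁U
  let ι := Y.homOfLE hle
  haveI : IsDominant ι := by
    constructor
    intro p
    have hpV₀ : p.1 ∈ V₀ := by
      obtain ⟨a, ha⟩ := p.2.2
      rw [← ha]
      exact (hWle.trans inf_le_right) (hW'W a.2)
    let η' : ↑(U₁ ⊓ V) := ⟨η, hηU₁, hηV⟩
    have h1 : ι η' ⤳ p := by
      rw [← (U ⊓ V).ι.isOpenEmbedding.isInducing.specializes_iff]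
      have : (U ⊓ V).ι (ι η') = η := by
        rw [← Scheme.Hom.comp_apply, Scheme.homOfLE_ι]; rfl
      rw [this]
      exact hηV₀ _ hpV₀
    exact closure_mono (Set.singleton_subset_iff.mpr (Set.mem_range_self η')) h1.mem_closure
  haveI : IsReduced ↑(U ⊓ V) := inferInstance
  refine ext_of_isDominant_of_isSeparated f ?_ ι ?_
  · rw [Category.assoc, Category.assoc, hu, hv, Scheme.homOfLE_ι, Scheme.homOfLE_ι]
  · -- both sides factor through `W'`
    let t₁ : (↑(U₁ ⊓ V) : Scheme.{u}) ⟶ W' := Y.homOfLE (inf_le_left : U₁ ⊓ V ≤ U₁) ≫ s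
    let t₂ : (↑(U₁ ⊓ V) : Scheme.{u}) ⟶ W' :=
      Y.homOfLE (inf_le_right : U₁ ⊓ V ≤ V) ≫ h.isoOpensRange.inv
    have ht : t₁ = t₂ := by
      rw [← cancel_mono h]
      have e1 : t₁ ≫ h = (U₁ ⊓ V).ι := by
        show (Y.homOfLE _ ≫ s) ≫ h = _
        rw [Category.assoc, hs, Scheme.homOfLE_ι]
      have e2 : t₂ ≫ h = (U₁ ⊓ V).ι := by
        show (Y.homOfLE _ ≫ h.isoOpensRange.inv) ≫ h = _
        rw [Category.assoc, h.isoOpensRange_inv_comp, Scheme.homOfLE_ι]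
      rw [e1, e2]
    have hsU : s ≫ W'.ι = Y.homOfLE hU₁U ≫ u := by
      show ((U.ι.isoImage U').inv ≫ (u ∣_ W')) ≫ W'.ι = _
      rw [Category.assoc, morphismRestrict_ι, ← Category.assoc]
      congr 1
      rw [← cancel_mono U.ι, Category.assoc, Scheme.Hom.isoImage_inv_ι, Scheme.homOfLE_ι]
    have h1 : ι ≫ Y.homOfLE (inf_le_left : U ⊓ V ≤ U) ≫ u = t₁ ≫ W'.ι := by
      show Y.homOfLE hle ≫ _ = (Y.homOfLE _ ≫ s) ≫ W'.ι
      rw [Category.assoc, hsU, Scheme.homOfLE_homOfLE_assoc, Scheme.homOfLE_homOfLE_assoc]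
    have h2 : ι ≫ Y.homOfLE (inf_le_right : U ⊓ V ≤ V) ≫ v = t₂ ≫ W'.ι := by
      show Y.homOfLE hle ≫ _ ≫ (h.isoOpensRange.inv ≫ W'.ι) =
        (Y.homOfLE _ ≫ h.isoOpensRange.inv) ≫ W'.ι
      rw [Scheme.homOfLE_homOfLE_assoc, Category.assoc]
    rw [h1, h2, ht]

end Groth.Agent.R2.H27.RatSec
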