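import Mathlib
import Groth.Agent.Lib.Helper1KBC5
import Groth.Agent.Lib.Helper1TorK
import Groth.Agent.R2.H27FlatAmp
set_option backward.isDefEq.respectTransparency.types false

/-!
# Tor amplitude of `M~` on `Spec A` versus tor amplitude of `M` (helper27)
-/

set_option autoImplicit false
set_option linter.style.haveILetI false
universe u
open CategoryTheory CategoryTheory.Limits AlgebraicGeometry HomologicalComplex MonoidalCategory
attribute [local instance] HasDerivedCategory.standard

namespace Groth.Agent.R2.H27.TildeAmp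

open Groth.Agent.Lib.Helper1.Tor Groth.Agent.Lib.Helper1.Extend TensorProduct
  Groth.Agent.Lib.Helper1.KBC Groth.Agent.Lib.Helper1.Sky Groth.Agent.Lib.Helper1.BKF
  Groth.Agent.R2.H27.FlatAmp

variable (A : CommRingCat.{u})

/-- the local ring of `Spec A` at `x` as an `A`-algebra -/
noncomputable instance algOx (x : Spec A) : Algebra A (Ox x) :=
  (toOx A x).toAlgebra

instance isLocalization_Ox (x : Spec A) :
    IsLocalization.AtPrime (Ox x) x.asIdeal :=
  StructureSheaf.IsLocalization.to_stalk (R := A) x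

instance flat_Ox (x : Spec A) : Module.Flat A (Ox x) :=
  IsLocalization.flat (Ox x) x.asIdeal.primeCompl

instance isLocalizedModule_mk_Ox (x : Spec A) (H : Type u) [AddCommGroup H]
    [Module A H] :
    IsLocalizedModule x.asIdeal.primeCompl (TensorProduct.mk A (Ox x) H 1) :=
  (isLocalizedModule_iff_isBaseChange x.asIdeal.primeCompl (Ox x) _).2
    (TensorProduct.isBaseChange A H (Ox x))

/-- the point of `Spec A` given by a prime ideal -/
def pt (P : Ideal A) [hP : P.IsPrime] : Spec A := (⟨P, hP⟩ : PrimeSpectrum A)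

instance isLocalizedModule_mk_Ox_pt (P : Ideal A) [P.IsPrime] (H : Type u) [AddCommGroup H]
    [Module A H] :
    IsLocalizedModule P.primeCompl (TensorProduct.mk A (Ox (pt A P)) H 1) :=
  isLocalizedModule_mk_Ox A (pt A P) H

/-- the local rings of `Spec A` form a descent family -/
theorem descFam'_stalks :
    DescFam' (R := A) (fun x : Spec A => Ox x) where
  zero H _ _ hz := by
    refine Module.subsingleton_of_localization_maximal (R := A) (M := H)
      (fun P hP => TensorProduct A (Ox (@pt A P hP.isPrime)) H)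
      (fun P hP => TensorProduct.mk A (Ox (@pt A P hP.isPrime)) H 1) (fun P hP => ?_)
    exact hz (@pt A P hP.isPrime)
  flatD C _ _ hz := by
    refine Module.flat_of_isLocalized_maximal (R := A) (S := A) (M := C)
      (fun P hP => TensorProduct A (Ox (@pt A P hP.isPrime)) C)
      (fun P hP => TensorProduct.mk A (Ox (@pt A P hP.isPrime)) C 1) (fun P hP => ?_)
    have := hz (@pt A P hP.isPrime)
    exact Module.Flat.trans A (Ox (@pt A P hP.isPrime)) _

/-- termwise tilde of a complex -/
noncomputable abbrev tildeC :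
    DRing.Cx A ⥤ CochainComplex (Spec A).Modules ℤ :=
  (tilde.functor A).mapHomologicalComplex (ComplexShape.up ℤ)

/-- the stalk complex of `P~` at `x` is `O_x ⊗_A P` -/
noncomputable def stalkTildeCIso (P : DRing.Cx A) (x : Spec A) :
    (stalkC x).obj ((tildeC A).obj P) ≅ (extCx A (Ox x)).obj P :=
  (NatIso.mapHomologicalComplex (tildeStalkIso A x) (ComplexShape.up ℤ)).app P

/-- if `P~` has flat amplitude in `[a, b]` then `P` has tor amplitude in `[a, b]` -/
theorem hasTorAmp_of_tildeC (P : DRing.Cx A) (a b : ℤ)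
    (h : DCoh.HasFlatAmplitudeIn a b (DCoh.toD _ ((tildeC A).obj P))) :
    DRing.HasTorAmplitudeIn A a b (DRing.toD P) := by
  refine DescFam'.hasTorAmp (descFam'_stalks A) (DRing.toD P) a b (fun x => ?_)
  have h1 := Groth.Agent.R2.H27.PushStalk.hasTorAmp_stalk_of_hasFlatAmplitudeIn _ a b h x
  exact hasTorAmp_of_iso
    (DerivedCategory.Q.mapIso (stalkCIso _ x ≪≫ stalkTildeCIso A P x) ≪≫
      (mapQIso (ext A (Ox x)) P).symm) h1

/-- the tilde of a flat module is a flat `O`-module -/
theorem isFlat_tilde (M : ModuleCat.{u} A) [Module.Flat A M] :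
    FlatMod.IsFlat ((tilde.functor A).obj M) := by
  intro x
  have e := (tildeStalkIso A x).app M
  have hfl : Module.Flat (Ox x) ((ext A (Ox x)).obj M) :=
    Module.Flat.of_linearEquiv (extEquiv (A := A) (B := Ox x) M)
  exact Module.Flat.of_linearEquiv (R := Ox x) e.toLinearEquiv

/-- if `P` is a complex of flat modules placed in `[a, b]` then `P~` has flat amplitude in `[a, b]` -/
theorem hasFlatAmplitudeIn_tildeC (E : DRing.Cx A) (a b : ℤ) (hE : DRing.VanishesOutside E a b)
    (hEf : DRing.TermwiseFlat E) :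
    DCoh.HasFlatAmplitudeIn a b (DCoh.toD _ ((tildeC A).obj E)) := by
  refine ⟨(tildeC A).obj E, fun i hi => ?_, fun i => ?_, ⟨Iso.refl _⟩⟩
  · exact (tilde.functor A).map_isZero (hE i hi)
  · have := hEf i
    exact isFlat_tilde A (E.X i)

lemma hasFlatAmplitudeIn_of_iso' {X : Scheme.{u}} {K K' : DCoh.D X} (e : K ≅ K') (a b : ℤ)
    (h : DCoh.HasFlatAmplitudeIn a b K) : DCoh.HasFlatAmplitudeIn a b K' := by
  obtain ⟨E, hE, hEf, ⟨e'⟩⟩ := h
  exact ⟨E, hE, hEf, ⟨e' ≪≫ e⟩⟩

/-- tor amplitude of `M~` on `Spec A` is tor amplitude of `M` -/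
theorem hasFlatAmplitudeIn_tildeD_iff [PreservesFiniteLimits (tilde.functor A)]
    (M : DerivedCategory (ModuleCat.{u} A)) (a b : ℤ) :
    DCoh.HasFlatAmplitudeIn a b ((DCoh.tildeD A).obj M) ↔ DRing.HasTorAmplitudeIn A a b M := by
  let P : DRing.Cx A := DerivedCategory.Q.objPreimage M
  have eM : DRing.toD P ≅ M := DerivedCategory.Q.objObjPreimageIso M
  have eT : (DCoh.tildeD A).obj M ≅ DCoh.toD (Spec A) ((tildeC A).obj P) :=
    (DCoh.tildeD A).mapIso eM.symm ≪≫ (tilde.functor A).mapDerivedCategoryFactors.app P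
  constructor
  · intro h
    exact hasTorAmp_of_iso eM (hasTorAmp_of_tildeC A P a b (hasFlatAmplitudeIn_of_iso' eT a b h))
  · rintro ⟨E, hE, hEf, ⟨e⟩⟩
    have e2 : DCoh.toD (Spec A) ((tildeC A).obj E) ≅ (DCoh.tildeD A).obj M :=
      ((tilde.functor A).mapDerivedCategoryFactors.app E).symm ≪≫ (DCoh.tildeD A).mapIso e
    exact hasFlatAmplitudeIn_of_iso' e2 a b (hasFlatAmplitudeIn_tildeC A E a b hE hEf)

end Groth.Agent.R2.H27.TildeAmp
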