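import Mathlib
import Groth.Prelude.Def_DerSch
import Groth.Agent.Lib.Helper1TorDim
import Groth.Agent.Lib.Helper23UnitStalk

/-!
# Tor amplitude relative to a composite morphism (helper27)

Ring level: for ring maps `φ : C → B`, `ψ : B → A'` with `B` of tor dimension `≤ n` over `C`, a complex of
`A'`-modules which has tor amplitude in `[a, b]` over `B` has tor amplitude in `[a - n, b]` over `C`.
Scheme level: the stalkwise statement for `f : X ⟶ Y`, `g : Y ⟶ Z`.
-/

set_option autoImplicit false
universe u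
open CategoryTheory CategoryTheory.Limits AlgebraicGeometry
attribute [local instance] HasDerivedCategory.standard

namespace Groth.Agent.R2.H27.TorComp

section Ring

variable {C B A' : Type u} [CommRing C] [CommRing B] [CommRing A']

/-- Double restriction of scalars of a complex is restriction along the composite. -/
noncomputable def restrictCxCompIso (φ : C →+* B) (ψ : B →+* A') (χ : C →+* A') (hχ : χ = ψ.comp φ)
    (K : DRing.Cx A') :
    (DRing.restrictCx φ).obj ((DRing.restrictCx ψ).obj K) ≅ (DRing.restrictCx χ).obj K :=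
  (NatIso.mapHomologicalComplex (ModuleCat.restrictScalarsComp' φ ψ χ hχ).symm (ComplexShape.up ℤ)).app K

theorem hasTorAmp_restrict_comp (φ : C →+* B) (ψ : B →+* A') (χ : C →+* A') (hχ : χ = ψ.comp φ) (n : ℕ)
    (hB : letI := φ.toAlgebra; DRing.HasTorAmplitudeIn C (-(n : ℤ)) 0 (Dual.inD C B))
    (K : DRing.Cx A') (a b : ℤ)
    (hK : DRing.HasTorAmplitudeIn B a b (DRing.toD ((DRing.restrictCx ψ).obj K))) :
    DRing.HasTorAmplitudeIn C (a - n) b (DRing.toD ((DRing.restrictCx χ).obj K)) := by
  let _ := φ.toAlgebra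
  have h := Groth.Agent.Lib.Helper1.TorDim.hasTorAmp_restrictD n hB _ a b hK
  exact Groth.Agent.Lib.Helper1.Tor.hasTorAmp_of_iso
    (Groth.Agent.Lib.Helper1.Restrict.restrictQIso φ _ ≪≫
      DerivedCategory.Q.mapIso (restrictCxCompIso φ ψ χ hχ K)) h

end Ring

variable {X Y Z : Scheme.{u}}

/-- The stalk of the structure module over the base local ring, as the local ring with its algebra structure. -/
noncomputable def unitStalkOverIso (g : Y ⟶ Z) (y : Y) :
    letI := (g.stalkMap y).hom.toAlgebra
    (DerSch.stalkOver g y).obj (Coh.structureModule Y) ≅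
      ModuleCat.of (Z.presheaf.stalk (g.base y)) (Y.presheaf.stalk y) :=
  letI := (g.stalkMap y).hom.toAlgebra
  (ModuleCat.restrictScalars (g.stalkMap y).hom).mapIso
      (Groth.Agent.Lib.Helper23.UnitStalk.unitStalkEquiv y).symm.toModuleIso ≪≫
    (AddEquiv.toLinearEquiv
      (M := ↑((ModuleCat.restrictScalars (g.stalkMap y).hom).obj (ModuleCat.of _ (Y.presheaf.stalk y))))
      (M₂ := ↑(ModuleCat.of (Z.presheaf.stalk (g.base y)) (Y.presheaf.stalk y)))
      (by rfl) (fun _ _ => rfl)).toModuleIso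

/-- In `D(O_{Z, g y})`, the complex of stalks of `O_Y[0]` is the local ring `O_{Y,y}` in degree `0`. -/
noncomputable def toDUnitIso (g : Y ⟶ Z) (y : Y) :
    letI := (g.stalkMap y).hom.toAlgebra
    DRing.toD ((DerSch.stalkCxOver g y).obj (DerSch.unitCx Y)) ≅
      Dual.inD (Z.presheaf.stalk (g.base y)) (Y.presheaf.stalk y) :=
  letI := (g.stalkMap y).hom.toAlgebra
  DerivedCategory.Q.mapIso
      ((HomologicalComplex.singleMapHomologicalComplex (DerSch.stalkOver g y) (ComplexShape.up ℤ) 0).app
        (Coh.structureModule Y) ≪≫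
        (HomologicalComplex.single _ (ComplexShape.up ℤ) 0).mapIso (unitStalkOverIso g y)) ≪≫
    ((DerivedCategory.singleFunctorIsoCompQ (ModuleCat.{u} (Z.presheaf.stalk (g.base y))) 0).app _).symm

/-- Tor amplitude along a composite, at one point. -/
theorem hasTorAmplitudeAt_comp (f : X ⟶ Y) (g : Y ⟶ Z) (n : ℕ) (x : X)
    (hg : DerSch.HasTorAmplitudeAt g (-(n : ℤ)) 0 (DerSch.unitCx Y) (f.base x))
    (F : CochainComplex X.Modules ℤ) (a b : ℤ) (hF : DerSch.HasTorAmplitudeAt f a b F x) :
    DerSch.HasTorAmplitudeAt (f ≫ g) (a - n) b F x := by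
  have hB : letI := (g.stalkMap (f.base x)).hom.toAlgebra
      DRing.HasTorAmplitudeIn (Z.presheaf.stalk (g.base (f.base x))) (-(n : ℤ)) 0
      (Dual.inD (Z.presheaf.stalk (g.base (f.base x))) (Y.presheaf.stalk (f.base x))) :=
    Groth.Agent.Lib.Helper1.Tor.hasTorAmp_of_iso (toDUnitIso g (f.base x)) hg
  change DRing.HasTorAmplitudeIn (Z.presheaf.stalk (g.base (f.base x))) (a - n) b
    (DRing.toD ((DRing.restrictCx ((f ≫ g).stalkMap x).hom).obj
      (((DerSch.stalkFunctor X x).mapHomologicalComplex (ComplexShape.up ℤ)).obj F)))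
  exact hasTorAmp_restrict_comp (g.stalkMap (f.base x)).hom (f.stalkMap x).hom
    ((f ≫ g).stalkMap x).hom (by rw [Scheme.Hom.stalkMap_comp]; rfl) n hB _ a b hF

end Groth.Agent.R2.H27.TorComp
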