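import Mathlib

/-!
# An elementwise criterion for quasi-isomorphisms of short complexes of abelian groups (helper28)
(adapted from helper30's `quasiIso_moduleCat_of`)
-/

set_option autoImplicit false
universe u
open CategoryTheory CategoryTheory.Limits

namespace Groth.Agent.R2.H28.AbQuasiIso

variable {S₁ S₂ : ShortComplex Ab.{u}} (φ : S₁ ⟶ S₂)

/-- Elementwise criterion for a morphism of short complexes of abelian groups to be a
quasi-isomorphism. -/
theorem quasiIso_ab_of
    (hA : ∀ y : S₂.X₂, S₂.g y = 0 → ∃ (x : S₁.X₂) (w : S₂.X₁), S₁.g x = 0 ∧ y = φ.τ₂ x + S₂.f w)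
    (hB : ∀ x : S₁.X₂, S₁.g x = 0 → (∃ w' : S₂.X₁, φ.τ₂ x = S₂.f w') → ∃ w : S₁.X₁, x = S₁.f w) :
    ShortComplex.QuasiIso φ := by
  have hker : ∀ x : AddMonoidHom.ker S₁.g.hom, φ.τ₂.hom x.1 ∈ AddMonoidHom.ker S₂.g.hom := by
    intro x
    have h1 : S₁.g x.1 = 0 := x.2
    have := congrArg (fun t => t.hom x.1) φ.comm₂₃
    simp only [AddCommGrpCat.hom_comp, AddMonoidHom.comp_apply] at this
    rw [AddMonoidHom.mem_ker, this]
    change φ.τ₃.hom (S₁.g x.1) = 0
    rw [h1, map_zero]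
  let φK : AddMonoidHom.ker S₁.g.hom →+ AddMonoidHom.ker S₂.g.hom :=
    (φ.τ₂.hom.comp (AddMonoidHom.ker S₁.g.hom).subtype).codRestrict _ hker
  have hrange : AddMonoidHom.range S₁.abToCycles ≤
      (AddMonoidHom.range S₂.abToCycles).comap φK := by
    rintro _ ⟨w, rfl⟩
    refine ⟨φ.τ₁.hom w, ?_⟩
    apply Subtype.ext
    have := congrArg (fun t => t.hom w) φ.comm₁₂
    simp only [AddCommGrpCat.hom_comp, AddMonoidHom.comp_apply] at this
    change S₂.f.hom (φ.τ₁.hom w) = φ.τ₂.hom (S₁.f.hom w)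
    exact this
  let φH := QuotientAddGroup.map _ _ φK hrange
  let γ : ShortComplex.LeftHomologyMapData φ S₁.abLeftHomologyData S₂.abLeftHomologyData :=
    { φK := AddCommGrpCat.ofHom φK
      φH := AddCommGrpCat.ofHom φH
      commi := by ext x; rfl
      commf' := by
        ext w
        apply Subtype.ext
        have := congrArg (fun t => t.hom w) φ.comm₁₂
        simp only [AddCommGrpCat.hom_comp, AddMonoidHom.comp_apply] at this
        exact this.symm
      commπ := by ext x; rfl }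
  rw [γ.quasiIso_iff]
  rw [ConcreteCategory.isIso_iff_bijective]
  constructor
  · rw [injective_iff_map_eq_zero]
    intro h hh
    obtain ⟨c, rfl⟩ := QuotientAddGroup.mk_surjective h
    change φH (QuotientAddGroup.mk c) = 0 at hh
    rw [QuotientAddGroup.map_mk, QuotientAddGroup.eq_zero_iff] at hh
    obtain ⟨w', hw'⟩ := hh
    have hw'' : S₂.f w' = φ.τ₂ c.1 := congrArg Subtype.val hw'
    obtain ⟨w, hw⟩ := hB c.1 c.2 ⟨w', hw''.symm⟩
    change (QuotientAddGroup.mk c : _ ⧸ AddMonoidHom.range S₁.abToCycles) = 0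
    rw [QuotientAddGroup.eq_zero_iff]
    exact ⟨w, Subtype.ext hw.symm⟩
  · intro h
    obtain ⟨c, rfl⟩ := QuotientAddGroup.mk_surjective h
    obtain ⟨x, w, hx, hy⟩ := hA c.1 c.2
    refine ⟨QuotientAddGroup.mk ⟨x, hx⟩, ?_⟩
    change φH (QuotientAddGroup.mk _) = QuotientAddGroup.mk c
    rw [QuotientAddGroup.map_mk, QuotientAddGroup.eq]
    refine ⟨w, ?_⟩
    apply Subtype.ext
    change S₂.f w = -φ.τ₂ x + c.1
    rw [hy]; abel

end Groth.Agent.R2.H28.AbQuasiIso
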