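import Groth.Agent.R2.H75C1Cap
import Groth.Agent.Lib.Helper23TensorUnit
import Groth.Agent.Lib.Helper23SecTw6

/-!
# `c₁(O_X) ∩ α ∼ 0` (helper28; on top of helper75's `H75C1Cap`)
-/

set_option autoImplicit false

universe u

namespace Groth.Agent.R2.H28.C1Unit

open AlgebraicGeometry CategoryTheory TopologicalSpace
open Groth.Agent.R2.H75.OrdTensor Groth.Agent.R2.H75.C1Cap Groth.Agent.Lib.Helper23.SecTw
  Groth.Agent.Lib.Helper23.GenLocus

variable {X : Scheme.{u}}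

/-- the canonical rational section `1` of `O_X` at `ξ` -/
noncomputable def oneSec (ξ : X) : Cyc.secFibre (Coh.structureModule X) ξ :=
  Submodule.Quotient.mk ((Coh.structureModule X).presheaf.germ ⊤ ξ trivial (toS ⊤ 1))

lemma oneSec_ne_zero (ξ : X) : oneSec ξ ≠ 0 := by
  intro h0
  have hγ := bijective_germ_of_isGen (Coh.structureModule X) ⊤ (toS ⊤ 1) (isGen_one ⊤) ξ trivial
  have h1 : (1 : X.presheaf.stalk ξ) • oneSec ξ = 0 := by rw [h0, smul_zero]
  have h2 := (mk_eq_zero_iff (Coh.structureModule X) ξ _ hγ 1).1 h1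
  exact (IsLocalRing.maximalIdeal (X.presheaf.stalk ξ)).ne_top_iff_one.1
    (IsLocalRing.maximalIdeal.isMaximal _).ne_top h2

lemma secOrdAt_oneSec (ξ x : X) (h : ξ ⤳ x) :
    Cyc.secOrdAt (Coh.structureModule X) ξ x h (oneSec ξ) = 0 := by
  have hg := bijective_germ_of_isGen (Coh.structureModule X) ⊤ (toS ⊤ 1) (isGen_one ⊤) x trivial
  have hg' := bijective_germ_of_isGen (Coh.structureModule X) ⊤ (toS ⊤ 1) (isGen_one ⊤) ξ trivial
  have hsp := sp_germ (Coh.structureModule X) h (U := ⊤) trivial (toS ⊤ 1)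
  rw [secOrdAt_eq (Coh.structureModule X) ξ x h
    ((Coh.structureModule X).presheaf.germ ⊤ x trivial (toS ⊤ 1)) hg (by rw [hsp]; exact hg')
    (oneSec ξ) 1 (by rw [hsp, one_smul]; rfl)]
  have h1 : X.residue ξ (1 : X.presheaf.stalk ξ) = Cyc.specMap x ξ h 1 := by
    rw [map_one, map_one]
  rw [h1]
  exact ordAt_specMap_unit x ξ h isUnit_one

theorem main (δ : X → ℤ) (k : ℤ) (α : AlgebraicCycle X ℤ)
    (hα : α ∈ Cyc.Zk X δ (k + 1)) (s : (ξ : X) → Cyc.secFibre (Coh.structureModule X) ξ)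
    (hs : ∀ ξ, s ξ ≠ 0) (γ : AlgebraicCycle X ℤ)
    (hγ : ⇑γ = Cyc.c1CapFun δ (Coh.structureModule X) ⇑α s) : Cyc.RatEquivZero δ k γ := by
  classical
  have hO : PicF.IsInvertible (Coh.structureModule X) :=
    Groth.Agent.Lib.Helper23.TensorUnit.isInvertible_structureModule X
  have hu : ∀ ξ : X, ∃ u : X.residueField ξ, u ≠ 0 ∧ ∀ (x : X) (h : ξ ⤳ x),
      Cyc.secOrdAt (Coh.structureModule X) ξ x h (s ξ) = Cyc.ordAt x ξ h u := by
    intro ξ
    obtain ⟨u, hu0, huo⟩ := exists_ratio _ hO ξ (oneSec ξ) (s ξ) (oneSec_ne_zero ξ) (hs ξ)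
    exact ⟨u, hu0, fun x h => by rw [huo x h, secOrdAt_oneSec, add_zero]⟩
  choose u hu0 huo using hu
  have hdiv : ∀ ξ x, Cyc.secDivFun δ (Coh.structureModule X) ξ (s ξ) x =
      Cyc.divFun δ ξ (u ξ) x := by
    intro ξ x
    unfold Cyc.secDivFun Cyc.divFun
    split_ifs with h
    · exact huo ξ x h.1
    · rfl
  refine ⟨{ξ : X // α ξ ≠ 0}, fun i => i.1, fun i => (u i.1) ^ (α i.1), ?_, ?_, ?_, ?_⟩
  · intro i
    by_contra hne
    exact i.2 (hα i.1 hne)
  · intro i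
    exact zpow_ne_zero _ (hu0 i.1)
  · intro x
    obtain ⟨t, ht, hfin⟩ := α.supportLocallyFiniteWithinDomain x (Set.mem_univ x)
    obtain ⟨U, hUt, hUo, hxU⟩ := mem_nhds_iff.mp ht
    refine ⟨U, hUo, hxU, ?_⟩
    have hfin' : (Subtype.val ⁻¹' (t ∩ Function.support ⇑α) : Set {ξ : X // α ξ ≠ 0}).Finite :=
      hfin.preimage Subtype.val_injective.injOn
    refine hfin'.subset ?_
    rintro i ⟨y, hy, hyU⟩
    have hsp : i.1 ⤳ y := specializes_iff_mem_closure.mpr hy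
    exact ⟨hUt (hsp.mem_open hUo hyU), i.2⟩
  · intro x
    have e1 : γ x = ∑ᶠ ξ, α ξ * Cyc.secDivFun δ (Coh.structureModule X) ξ (s ξ) x := by
      rw [hγ]
      rfl
    rw [e1]
    have e2 : ∀ ξ, α ξ * Cyc.secDivFun δ (Coh.structureModule X) ξ (s ξ) x =
        Cyc.divFun δ ξ ((u ξ) ^ (α ξ)) x := by
      intro ξ
      rw [hdiv, divFun_zpow δ ξ (hu0 ξ)]
    rw [finsum_congr e2, finsum_subtype_eq_finsum_cond
      (f := fun ξ => Cyc.divFun δ ξ ((u ξ) ^ (α ξ)) x) (fun ξ => α ξ ≠ 0)]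
    apply finsum_congr
    intro ξ
    rw [finsum_eq_if]
    by_cases h0 : α ξ = 0
    · rw [if_neg (not_not.mpr h0), h0, zpow_zero]
      unfold Cyc.divFun
      split_ifs with h
      · have := ordAt_zpow x ξ h.1 (one_ne_zero) (0 : ℤ)
        rw [zpow_zero, zero_mul] at this
        exact this
      · rfl
    · rw [if_pos h0]

end Groth.Agent.R2.H28.C1Unit
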