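import Mathlib
import Groth.Prelude.Def_CechOX
import Groth.Agent.Lib.Helper16CechLow
import Groth.Agent.R2.H75CechAugA
import Groth.Agent.Lib.Helper23Serre
import Groth.Agent.Lib.Helper2ModExact

/-!
# The Čech complex of sheaves is a resolution (helper28)

* generic: components `prA`, `d_prA` of Mathlib's Čech complex for presheaves with values in any
  preadditive category with products; comparison `cmpX` with the Čech complex of `Q ⋙ G` for an additive
  product-preserving functor `G`.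
* `exact_of_locally_sections`: a short complex of `O_X`-modules whose sections are exact over all small opens
  is exact.
* `cechSh_resolution` (= S6531).
-/

set_option autoImplicit false
set_option linter.unusedSectionVars false
set_option linter.style.haveILetI false
universe u

open CategoryTheory CategoryTheory.Limits AlgebraicGeometry Opposite TopologicalSpace

namespace Groth.Agent.R2.H28.CechSh

open Groth.Agent.Lib.Helper16.CechLow Groth.Agent.Lib.Helper16.Cech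

section Generic

universe w v u₁ v' u' v'' u''
variable {C : Type u₁} [Category.{v} C] [HasFiniteProducts C] {ι : Type w} (U : ι → C)
  {A : Type u'} [Category.{v'} A] [Preadditive A] [HasZeroObject A] [HasProducts.{w} A] (Q : Cᵒᵖ ⥤ A)

/-- the Čech complex with values in `A` -/
noncomputable abbrev CKA : CochainComplex A ℕ := (cechComplexFunctor U).obj Q

/-- the projection to the component `x`. -/
noncomputable def prA (n : ℕ) (x : Fin (n + 1) → ι) : (CKA U Q).X n ⟶ Q.obj (op (Ux U x)) :=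
  Pi.π (fun x : Fin (n + 1) → ι => Q.obj (op (Ux U x))) x

/-- the Cech cosimplicial object -/
noncomputable abbrev YKA : CosimplicialObject A :=
  (FormalCoproduct.mk ι U).cech.rightOp ⋙ (FormalCoproduct.evalOp.{w} C A).obj Q

lemma δ_prA (n : ℕ) (x : Fin (n + 2) → ι) (i : Fin (n + 2)) :
    (YKA U Q).δ i ≫ prA U Q (n + 1) x =
      prA U Q n (x ∘ Fin.succAbove i) ≫ Q.map (face U x i).op := by
  exact limit.lift_π _ _

lemma d_prA (n : ℕ) (x : Fin (n + 2) → ι) :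
    (CKA U Q).d n (n + 1) ≫ prA U Q (n + 1) x =
      ∑ i : Fin (n + 2), (-1 : ℤ) ^ (i : ℕ) •
        (prA U Q n (x ∘ Fin.succAbove i) ≫ Q.map (face U x i).op) := by
  have h : (CKA U Q).d n (n + 1) = ∑ i : Fin (n + 2), (-1 : ℤ) ^ (i : ℕ) • (YKA U Q).δ i :=
    altCoface_d (YKA U Q) n
  rw [h]
  refine (Preadditive.sum_comp Finset.univ (fun i : Fin (n + 2) => (-1 : ℤ) ^ (i : ℕ) • (YKA U Q).δ i)
    (prA U Q (n + 1) x)).trans ?_
  refine Finset.sum_congr rfl (fun i _ => ?_)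
  refine (Preadditive.zsmul_comp _ _ _).trans ?_
  exact congrArg (fun z => (-1 : ℤ) ^ (i : ℕ) • z) (δ_prA U Q n x i)

lemma hom_extA {n : ℕ} {Z : A} (a b : Z ⟶ (CKA U Q).X n)
    (h : ∀ x, a ≫ prA U Q n x = b ≫ prA U Q n x) : a = b :=
  Pi.hom_ext _ _ h

variable {B : Type u''} [Category.{v''} B] [Preadditive B] [HasZeroObject B] [HasProducts.{w} B]
  (G : A ⥤ B) [G.Additive] [∀ J : Type w, PreservesLimitsOfShape (Discrete J) G]

/-- `G` of the Čech cochains is the Čech cochains of `Q ⋙ G`. -/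
noncomputable def cmpX (n : ℕ) : G.obj ((CKA U Q).X n) ≅ (CKA U (Q ⋙ G)).X n :=
  PreservesProduct.iso G (fun x : Fin (n + 1) → ι => Q.obj (op (Ux U x)))

lemma cmpX_hom_pr (n : ℕ) (x : Fin (n + 1) → ι) :
    (cmpX U Q G n).hom ≫ prA U (Q ⋙ G) n x = G.map (prA U Q n x) :=
  piComparison_comp_π G _ x

lemma cmpX_d (n : ℕ) :
    G.map ((CKA U Q).d n (n + 1)) ≫ (cmpX U Q G (n + 1)).hom =
      (cmpX U Q G n).hom ≫ (CKA U (Q ⋙ G)).d n (n + 1) := by
  apply hom_extA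
  intro x
  rw [Category.assoc, Category.assoc, cmpX_hom_pr, ← G.map_comp, d_prA, d_prA,
    Functor.map_sum, Preadditive.comp_sum]
  refine Finset.sum_congr rfl (fun i _ => ?_)
  rw [Functor.map_zsmul, Preadditive.comp_zsmul, G.map_comp, ← Category.assoc, cmpX_hom_pr]
  rfl

end Generic

section Exact

variable {X : Scheme.{u}}

open Groth.Agent.Lib.Helper2.ModExact Groth.Agent.Lib.Helper23.Serre

/-- a short complex of `O_X`-modules whose sections over all small opens are exact is exact -/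
theorem exact_of_locally_sections (S : ShortComplex X.Modules)
    (h : ∀ y : X, ∃ W₀ : X.Opens, y ∈ W₀ ∧ ∀ W : X.Opens, W ≤ W₀ → ∀ b : Γ(S.X₂, W),
      S.g.app W b = 0 → ∃ a : Γ(S.X₁, W), S.f.app W a = b) : S.Exact := by
  rw [S.exact_iff_epi_toCycles]
  apply epi_of_locally_surjective
  intro V t x hx
  obtain ⟨W₀, hxW₀, hW₀⟩ := h x
  refine ⟨V ⊓ W₀, inf_le_left, ⟨hx, hxW₀⟩, ?_⟩
  have hb : S.g.app V (S.iCycles.app V t) = 0 := by
    have h1 : S.iCycles.app V ≫ S.g.app V = 0 := by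
      rw [← Scheme.Modules.Hom.comp_app, S.iCycles_g]
      rfl
    exact congrArg (fun k => k.hom t) h1
  have hb' : S.g.app (V ⊓ W₀) (S.X₂.presheaf.map (homOfLE (inf_le_left : V ⊓ W₀ ≤ V)).op
      (S.iCycles.app V t)) = 0 := by
    rw [app_map, hb, map_zero]
  obtain ⟨a, ha⟩ := hW₀ _ inf_le_right _ hb'
  refine ⟨a, ?_⟩
  apply app_injective_of_mono S.iCycles
  rw [app_map]
  have h2 : S.toCycles.app (V ⊓ W₀) ≫ S.iCycles.app (V ⊓ W₀) = S.f.app (V ⊓ W₀) := by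
    rw [← Scheme.Modules.Hom.comp_app, S.toCycles_i]
  exact (congrArg (fun k => k.hom a) h2).trans ha

end Exact

section Sections

open Groth.Agent.R2.H75.CechAugA

variable {X : Scheme.{u}} {ι : Type u} (𝒰 : ι → X.Opens) (F : X.Modules)

/-- sections over `W` as a functor to abelian groups -/
noncomputable abbrev secAb (W : X.Opens) : X.Modules ⥤ AddCommGrpCat.{u} :=
  Scheme.Modules.toPresheaf X ⋙ (evaluation _ _).obj (op W)

instance additive_secAb (W : X.Opens) : (secAb W).Additive := ⟨fun {_ _ _ _} => rfl⟩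

/-- the presheaf `V ↦ (j_V)_*(F|_V)` -/
noncomputable abbrev QF : (X.Opens)ᵒᵖ ⥤ X.Modules := CechOX.pushRestrFam.flip.obj F

/-- the presheaf of abelian groups `V ↦ Γ(W, (j_V)_*(F|_V)) = F(V ∩ W)` -/
noncomputable abbrev PW (W : X.Opens) : (X.Opens)ᵒᵖ ⥤ AddCommGrpCat.{u} := QF F ⋙ secAb W

lemma cechSh_obj : (CechOX.cechSh 𝒰).obj F = CKA 𝒰 (QF F) := rfl

lemma res_PW (W : X.Opens) {V' V : X.Opens} (h : V' ≤ V) (s : (PW F W).obj (op V)) :
    res (PW F W) h s = res F.presheaf (CechOX.image_preimage_mono h W) s := rfl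

lemma bijective_map_of_le_of_le {a b : X.Opens} (h : a ≤ b) (h' : b ≤ a) :
    Function.Bijective (F.presheaf.map (homOfLE h).op) := by
  have : IsIso (homOfLE h) := ⟨homOfLE h', Subsingleton.elim _ _, Subsingleton.elim _ _⟩
  exact ConcreteCategory.bijective_of_isIso (F.presheaf.map (homOfLE h).op)

lemma image_preimage_eq (V W : X.Opens) : V.ι ''ᵁ (V.ι ⁻¹ᵁ W) = V ⊓ W := by
  rw [Scheme.Hom.image_preimage_eq_opensRange_inf, Scheme.Opens.opensRange_ι]

lemma bijective_res_PW (W : X.Opens) {V' V : X.Opens} (h : V' ≤ V) (h' : V ⊓ W ≤ V') :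
    Function.Bijective (res (PW F W) h) := by
  refine bijective_map_of_le_of_le F (CechOX.image_preimage_mono h W) ?_
  rw [image_preimage_eq, image_preimage_eq]
  exact le_inf h' inf_le_right

variable {𝒰} in
lemma contraction_h (W : X.Opens) (k : ι) (hW : W ≤ 𝒰 k) (n : ℕ) (x : Fin (n + 1) → ι) :
    Function.Bijective (res (PW F W) (cons_le 𝒰 k x)) := by
  apply bijective_res_PW
  apply le_Ux
  intro a
  refine Fin.cases ?_ (fun b => ?_) a
  · exact inf_le_right.trans hW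
  · exact inf_le_left.trans (Ux_le 𝒰 x b)

variable {𝒰} in
lemma contraction_h0 (W : X.Opens) (k : ι) (hW : W ≤ 𝒰 k) :
    Function.Bijective (res (PW F W) (le_top : Ux 𝒰 (fun _ : Fin 1 => k) ≤ ⊤)) := by
  apply bijective_res_PW
  apply le_Ux
  intro a
  exact inf_le_right.trans hW

/-- the comparison on sections commutes with the differentials -/
lemma cmp_d_apply (W : X.Opens) (n : ℕ) (c : (secAb W).obj ((CKA 𝒰 (QF F)).X n)) :
    (CK 𝒰 (PW F W)).d n (n + 1) ((cmpX 𝒰 (QF F) (secAb W) n).hom c) =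
      (cmpX 𝒰 (QF F) (secAb W) (n + 1)).hom ((secAb W).map ((CKA 𝒰 (QF F)).d n (n + 1)) c) :=
  (congrArg (fun k => k.hom c) (cmpX_d 𝒰 (QF F) (secAb W) n)).symm

/-- exactness of the sections of the Čech complex of sheaves over small opens, positive degrees -/
theorem exists_d_eq_of_le (W : X.Opens) (k : ι) (hW : W ≤ 𝒰 k) (n : ℕ)
    (c : (secAb W).obj ((CKA 𝒰 (QF F)).X (n + 1)))
    (hc : (secAb W).map ((CKA 𝒰 (QF F)).d (n + 1) (n + 2)) c = 0) :
    ∃ b : (secAb W).obj ((CKA 𝒰 (QF F)).X n),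
      (secAb W).map ((CKA 𝒰 (QF F)).d n (n + 1)) b = c := by
  have hc' : (CK 𝒰 (PW F W)).d (n + 1) (n + 2)
      ((cmpX 𝒰 (QF F) (secAb W) (n + 1)).hom c) = 0 := by
    rw [cmp_d_apply, hc, map_zero]
  obtain ⟨b', hb'⟩ := exists_d_eq_succ 𝒰 (PW F W) k (contraction_h F W k hW) n _ hc'
  refine ⟨(cmpX 𝒰 (QF F) (secAb W) n).inv b', ?_⟩
  apply (ConcreteCategory.bijective_of_isIso (cmpX 𝒰 (QF F) (secAb W) (n + 1)).hom).1
  rw [← cmp_d_apply, Iso.inv_hom_id_apply, hb']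

/-- the restriction `Γ(F, W) → Γ(F, ⊤ ∩ W)` -/
noncomputable def rho (W : X.Opens) : (secAb W).obj F ⟶ (PW F W).obj (op ⊤) :=
  (secAb W).map ((Scheme.Modules.restrictAdjunction (⊤ : X.Opens).ι).unit.app F)

lemma rho_apply (W : X.Opens) (s : (secAb W).obj F) :
    rho F W s = res F.presheaf ((⊤ : X.Opens).ι.image_preimage_le W) s := rfl

lemma bijective_rho (W : X.Opens) : Function.Bijective (rho F W) := by
  refine bijective_map_of_le_of_le F ((⊤ : X.Opens).ι.image_preimage_le W) ?_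
  rw [image_preimage_eq]
  exact le_inf le_top le_rfl

/-- the coaugmentation, with target written as `CKA` -/
noncomputable def augF : F ⟶ (CKA 𝒰 (QF F)).X 0 := CechOX.cechShAug 𝒰 F

/-- the unit `F ⟶ (j_V)_*(F|_V)` with `V = U_x`, with target written via `QF` -/
noncomputable def unitF {n : ℕ} (x : Fin (n + 1) → ι) : F ⟶ (QF F).obj (op (Ux 𝒰 x)) :=
  (Scheme.Modules.restrictAdjunction (Ux 𝒰 x).ι).unit.app F

lemma unitF_apply (W : X.Opens) {n : ℕ} (x : Fin (n + 1) → ι) (s : (secAb W).obj F) :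
    (secAb W).map (unitF 𝒰 F x) s =
      res F.presheaf ((Ux 𝒰 x).ι.image_preimage_le W) (show F.presheaf.obj (op W) from s) := rfl

lemma aug_prA (x : Fin 1 → ι) : augF 𝒰 F ≫ prA 𝒰 (QF F) 0 x = unitF 𝒰 F x := by
  exact Pi.lift_π _ _

lemma pr_cmp (W : X.Opens) (n : ℕ) (x : Fin (n + 1) → ι)
    (c : (secAb W).obj ((CKA 𝒰 (QF F)).X n)) :
    pr 𝒰 (PW F W) n x ((cmpX 𝒰 (QF F) (secAb W) n).hom c) =
      (secAb W).map (prA 𝒰 (QF F) n x) c :=
  congrArg (fun k => k.hom c) (cmpX_hom_pr 𝒰 (QF F) (secAb W) n x)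

/-- the comparison on sections is compatible with the augmentations -/
lemma cmp_aug (W : X.Opens) (s : (secAb W).obj F) :
    (cmpX 𝒰 (QF F) (secAb W) 0).hom ((secAb W).map (augF 𝒰 F) s) =
      (aug 𝒰 (PW F W)).hom (rho F W s) := by
  apply elt_ext 𝒰 (PW F W) 0
  intro x
  rw [pr_cmp, pr_aug, res_PW]
  have h1 : (secAb W).map (prA 𝒰 (QF F) 0 x) ((secAb W).map (augF 𝒰 F) s) =
      (secAb W).map (augF 𝒰 F ≫ prA 𝒰 (QF F) 0 x) s := by
    rw [Functor.map_comp]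
    rfl
  have h2 : res F.presheaf (CechOX.image_preimage_mono (le_top : Ux 𝒰 x ≤ ⊤) W)
      (res F.presheaf ((⊤ : X.Opens).ι.image_preimage_le W)
        (show F.presheaf.obj (op W) from s)) =
      res F.presheaf ((Ux 𝒰 x).ι.image_preimage_le W) (show F.presheaf.obj (op W) from s) :=
    res_res F.presheaf (CechOX.image_preimage_mono (le_top : Ux 𝒰 x ≤ ⊤) W)
      ((⊤ : X.Opens).ι.image_preimage_le W) _
  rw [h1, aug_prA, unitF_apply]
  exact h2.symm

theorem aug_injective_of_le (W : X.Opens) (k : ι) (hW : W ≤ 𝒰 k) (s : (secAb W).obj F)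
    (hs : (secAb W).map (augF 𝒰 F) s = 0) : s = 0 := by
  have h1 : (aug 𝒰 (PW F W)).hom (rho F W s) = 0 := by
    rw [← cmp_aug, hs, map_zero]
  have h2 : rho F W s = 0 :=
    aug_injective 𝒰 (PW F W) k (contraction_h0 F W k hW) (h1.trans (map_zero _).symm)
  exact (bijective_rho F W).1 (h2.trans (map_zero _).symm)

theorem exists_aug_eq_of_le (W : X.Opens) (k : ι) (hW : W ≤ 𝒰 k)
    (c : (secAb W).obj ((CKA 𝒰 (QF F)).X 0))
    (hc : (secAb W).map ((CKA 𝒰 (QF F)).d 0 1) c = 0) :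
    ∃ s : (secAb W).obj F, (secAb W).map (augF 𝒰 F) s = c := by
  have hc' : (CK 𝒰 (PW F W)).d 0 1 ((cmpX 𝒰 (QF F) (secAb W) 0).hom c) = 0 := by
    rw [cmp_d_apply, hc, map_zero]
  obtain ⟨s', hs'⟩ := exists_aug_eq 𝒰 (PW F W) k (contraction_h0 F W k hW)
    (contraction_h F W k hW) _ hc'
  obtain ⟨s, rfl⟩ := (bijective_rho F W).2 s'
  refine ⟨s, ?_⟩
  apply (ConcreteCategory.bijective_of_isIso (cmpX 𝒰 (QF F) (secAb W) 0).hom).1
  rw [cmp_aug, hs']

theorem augF_d : augF 𝒰 F ≫ (CKA 𝒰 (QF F)).d 0 1 = 0 := by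
  have key : ∀ (W : X.Opens) (s : (secAb W).obj F),
      (secAb W).map (augF 𝒰 F ≫ (CKA 𝒰 (QF F)).d 0 1) s = 0 := by
    intro W s
    apply (ConcreteCategory.bijective_of_isIso (cmpX 𝒰 (QF F) (secAb W) 1).hom).1
    rw [map_zero, Functor.map_comp]
    change (cmpX 𝒰 (QF F) (secAb W) 1).hom ((secAb W).map ((CKA 𝒰 (QF F)).d 0 1)
      ((secAb W).map (augF 𝒰 F) s)) = 0
    rw [← cmp_d_apply, cmp_aug]
    exact congrArg (fun k => k.hom (rho F W s)) (aug_d 𝒰 (PW F W))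
  apply Scheme.Modules.hom_ext
  intro W
  ext s
  exact key W s

include 𝒰 in
lemma exists_mem_of_iSup_eq_top (h𝒰 : ⨆ i, 𝒰 i = ⊤) (y : X) : ∃ k, y ∈ 𝒰 k := by
  have hy : y ∈ (⨆ i, 𝒰 i : X.Opens) := by rw [h𝒰]; trivial
  exact Opens.mem_iSup.1 hy

theorem mono_augF (h𝒰 : ⨆ i, 𝒰 i = ⊤) : Mono (augF 𝒰 F) := by
  let S₀ : ShortComplex X.Modules :=
    ShortComplex.mk (0 : F ⟶ F) (augF 𝒰 F) zero_comp
  have hS₀ : S₀.Exact := by
    apply exact_of_locally_sections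
    intro y
    obtain ⟨k, hk⟩ := exists_mem_of_iSup_eq_top 𝒰 h𝒰 y
    refine ⟨𝒰 k, hk, fun W hW b hb => ⟨0, ?_⟩⟩
    have hb0 : b = 0 := aug_injective_of_le 𝒰 F W k hW b hb
    rw [hb0]
    exact map_zero _
  exact (S₀.exact_iff_mono rfl).1 hS₀

theorem exact_augF (h𝒰 : ⨆ i, 𝒰 i = ⊤) :
    (ShortComplex.mk (augF 𝒰 F) ((CKA 𝒰 (QF F)).d 0 1) (augF_d 𝒰 F)).Exact := by
  apply exact_of_locally_sections
  intro y
  obtain ⟨k, hk⟩ := exists_mem_of_iSup_eq_top 𝒰 h𝒰 y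
  exact ⟨𝒰 k, hk, fun W hW b hb => exists_aug_eq_of_le 𝒰 F W k hW b hb⟩

theorem exactAt_succ (h𝒰 : ⨆ i, 𝒰 i = ⊤) (p : ℕ) : (CKA 𝒰 (QF F)).ExactAt (p + 1) := by
  rw [HomologicalComplex.exactAt_iff' (CKA 𝒰 (QF F)) p (p + 1) (p + 2) (by simp) (by simp)]
  apply exact_of_locally_sections
  intro y
  obtain ⟨k, hk⟩ := exists_mem_of_iSup_eq_top 𝒰 h𝒰 y
  exact ⟨𝒰 k, hk, fun W hW b hb => exists_d_eq_of_le 𝒰 F W k hW p b hb⟩

/-- **S6531**: the Čech complex of sheaves is a resolution. -/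
theorem cechSh_resolution (h𝒰 : ⨆ i, 𝒰 i = ⊤) :
    Mono (CechOX.cechShAug 𝒰 F) ∧
    CechOX.cechShAug 𝒰 F ≫ ((CechOX.cechSh 𝒰).obj F).d 0 1 = 0 ∧
    (∀ (G : X.Modules) (g : G ⟶ ((CechOX.cechSh 𝒰).obj F).X 0),
      g ≫ ((CechOX.cechSh 𝒰).obj F).d 0 1 = 0 →
      ∃! g' : G ⟶ F, g' ≫ CechOX.cechShAug 𝒰 F = g) ∧
    ∀ p : ℕ, IsZero (((CechOX.cechSh 𝒰).obj F).homology (p + 1)) := by
  have hm := mono_augF 𝒰 F h𝒰
  refine ⟨hm, augF_d 𝒰 F, fun G g hg => ?_, fun p => ?_⟩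
  · have hS := exact_augF 𝒰 F h𝒰
    haveI : Mono (ShortComplex.mk (augF 𝒰 F) ((CKA 𝒰 (QF F)).d 0 1) (augF_d 𝒰 F)).f := hm
    refine ⟨hS.lift g hg, hS.lift_f g hg, fun g'' hg'' => ?_⟩
    haveI : Mono (augF 𝒰 F) := hm
    rw [← cancel_mono (augF 𝒰 F)]
    exact hg''.trans (hS.lift_f g hg).symm
  · exact (HomologicalComplex.exactAt_iff_isZero_homology _ _).1 (exactAt_succ 𝒰 F h𝒰 p)

end Sections

end Groth.Agent.R2.H28.CechSh
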