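import Mathlib
import Groth.Agent.Lib.Helper6SepBC
import Groth.Agent.S2821

/-!
# Unramified quasi-sections through a smooth point over a discrete valuation ring (helper28)
-/

set_option autoImplicit false
universe u
open IsLocalRing

namespace Groth.Agent.R2.H28.DvrSection

section Generators

variable {R : Type u} [CommRing R] [IsLocalRing R] [IsNoetherianRing R]

/-- an element of `m ∖ m²` is part of a minimal system of generators of `m` -/
theorem exists_ideal_of_notMem_sq (x : R) (hx : x ∈ maximalIdeal R)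
    (hx2 : x ∉ maximalIdeal R ^ 2) :
    ∃ I : Ideal R, I ≤ maximalIdeal R ∧
      I.spanFinrank + 1 ≤ Module.finrank (ResidueField R) (CotangentSpace R) ∧
      maximalIdeal R = Ideal.span {x} ⊔ I := by
  classical
  let v : CotangentSpace R := (maximalIdeal R).toCotangent ⟨x, hx⟩
  have hv : v ≠ 0 := by
    intro h
    rw [Ideal.toCotangent_eq_zero] at h
    exact hx2 h
  let n := Module.finrank (ResidueField R)
    (CotangentSpace R ⧸ (Submodule.span (ResidueField R) {v}))
  have hn : n + 1 = Module.finrank (ResidueField R) (CotangentSpace R) := by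
    have := Submodule.finrank_quotient_add_finrank (Submodule.span (ResidueField R) {v})
    rw [finrank_span_singleton hv] at this
    exact this
  let b := Module.finBasis (ResidueField R)
    (CotangentSpace R ⧸ (Submodule.span (ResidueField R) {v}))
  have hw : ∀ i, ∃ t : maximalIdeal R,
      Submodule.mkQ (Submodule.span (ResidueField R) {v}) ((maximalIdeal R).toCotangent t) = b i := by
    intro i
    obtain ⟨w, hw⟩ := Submodule.mkQ_surjective _ (b i)
    obtain ⟨t, ht⟩ := (maximalIdeal R).toCotangent_surjective w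
    exact ⟨t, by rw [ht, hw]⟩
  choose t ht using hw
  let s : Set (maximalIdeal R) := {⟨x, hx⟩} ∪ Set.range t
  have hs : Submodule.span (ResidueField R) ((maximalIdeal R).toCotangent '' s) = ⊤ := by
    have h1 : Submodule.span (ResidueField R) {v} ≤
        Submodule.span (ResidueField R) ((maximalIdeal R).toCotangent '' s) := by
      rw [Submodule.span_singleton_le_iff_mem]
      exact Submodule.subset_span ⟨⟨x, hx⟩, Or.inl rfl, rfl⟩
    have h2 : (Submodule.span (ResidueField R) ((maximalIdeal R).toCotangent '' s)).map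
        (Submodule.mkQ (Submodule.span (ResidueField R) {v})) = ⊤ := by
      rw [eq_top_iff, ← b.span_eq, Submodule.span_le]
      rintro _ ⟨i, rfl⟩
      exact ⟨_, Submodule.subset_span ⟨t i, Or.inr ⟨i, rfl⟩, rfl⟩, ht i⟩
    rw [Submodule.map_mkQ_eq_top] at h2
    rwa [sup_eq_right.2 h1] at h2
  rw [CotangentSpace.span_image_eq_top_iff] at hs
  refine ⟨Ideal.span (Set.range (fun i => (t i : R))), ?_, ?_, ?_⟩
  · rw [Ideal.span_le]; rintro _ ⟨i, rfl⟩; exact (t i).2
  · have h1 := Submodule.spanFinrank_span_le_ncard_of_finite (R := R)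
      (Set.finite_range (fun i => (t i : R)))
    have h2 : (Set.range (fun i => (t i : R))).ncard ≤ n := by
      have := Set.ncard_image_le (f := fun i => (t i : R)) (Set.finite_univ (α := Fin n))
      rw [Set.image_univ] at this
      simpa using this
    change (Submodule.span R (Set.range (fun i => (t i : R)))).spanFinrank + 1 ≤ _
    omega
  · have h3 := congrArg (Submodule.map (Submodule.subtype (maximalIdeal R))) hs
    rw [Submodule.map_span, Submodule.map_top, Submodule.range_subtype] at h3
    refine h3.symm.trans ?_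
    rw [← Ideal.span_union]
    change Ideal.span _ = Ideal.span _
    congr 1
    ext y
    simp only [s, Set.mem_image, Set.mem_union, Set.mem_singleton_iff, Set.mem_range,
      Submodule.subtype_apply]
    constructor
    · rintro ⟨z, hz | ⟨i, rfl⟩, rfl⟩
      · left; rw [hz]
      · right; exact ⟨i, rfl⟩
    · rintro (rfl | ⟨i, rfl⟩)
      · exact ⟨⟨y, hx⟩, Or.inl rfl, rfl⟩
      · exact ⟨t i, Or.inr ⟨i, rfl⟩, rfl⟩

end Generators

section Quotient

lemma one_le_of_le_add (d : WithBot ℕ∞) (c n : ℕ) (h1 : (n : WithBot ℕ∞) ≤ d + c)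
    (h2 : c + 1 ≤ n) : 1 ≤ d := by
  induction d using WithBot.recBotCoe with
  | bot => simp at h1
  | coe e =>
    induction e using ENat.recTopCoe with
    | top => exact WithBot.coe_le_coe.2 le_top
    | coe m =>
      have h3 : ((n : ℕ) : WithBot ℕ∞) ≤ ((m + c : ℕ) : WithBot ℕ∞) := by
        simpa using h1
      have h4 : n ≤ m + c := by exact_mod_cast h3
      have h5 : 1 ≤ m := by omega
      exact_mod_cast h5

variable {R : Type u} [CommRing R] [IsRegularLocalRing R]

/-- the quotient of a regular local ring by a suitable ideal complementary to `x ∈ m ∖ m²` is a discrete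
valuation ring with uniformizer the image of `x` -/
theorem exists_dvr_quotient (x : R) (hx : x ∈ maximalIdeal R) (hx2 : x ∉ maximalIdeal R ^ 2) :
    ∃ I : Ideal R, I ≤ maximalIdeal R ∧ ∃ (_ : IsDomain (R ⧸ I))
      (_ : IsDiscreteValuationRing (R ⧸ I)),
      maximalIdeal (R ⧸ I) = Ideal.span {Ideal.Quotient.mk I x} := by
  obtain ⟨I, hI, hrank, hm⟩ := exists_ideal_of_notMem_sq x hx hx2
  have hne : I ≠ ⊤ := ne_top_of_le_ne_top (maximalIdeal.isMaximal R).ne_top hI
  haveI : Nontrivial (R ⧸ I) := Ideal.Quotient.nontrivial_iff.2 hne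
  haveI : IsLocalRing (R ⧸ I) :=
    IsLocalRing.of_surjective' (Ideal.Quotient.mk I) Ideal.Quotient.mk_surjective
  have hmax : maximalIdeal (R ⧸ I) = Ideal.span {Ideal.Quotient.mk I x} := by
    have h0 : (maximalIdeal (R ⧸ I)).comap (Ideal.Quotient.mk I) = maximalIdeal R := by
      haveI := Ideal.comap_isMaximal_of_surjective (Ideal.Quotient.mk I)
        Ideal.Quotient.mk_surjective (K := maximalIdeal (R ⧸ I))
      exact IsLocalRing.eq_maximalIdeal inferInstance
    have h1 : maximalIdeal (R ⧸ I) = (maximalIdeal R).map (Ideal.Quotient.mk I) := by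
      rw [← h0, Ideal.map_comap_of_surjective _ Ideal.Quotient.mk_surjective]
    rw [h1, hm, Ideal.map_sup, Ideal.map_span, Set.image_singleton, Ideal.map_quotient_self,
      sup_bot_eq]
  have hdim : (1 : WithBot ℕ∞) ≤ ringKrullDim (R ⧸ I) := by
    have h1 := ringKrullDim_le_ringKrullDim_quotient_add_spanFinrank I (by
      rw [IsLocalRing.ringJacobson_eq_maximalIdeal]; exact hI)
    have h2 : ringKrullDim R = ((maximalIdeal R).spanFinrank : WithBot ℕ∞) :=
      (IsRegularLocalRing.spanFinrank_maximalIdeal).symm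
    rw [h2, spanFinrank_maximalIdeal_eq_finrank_cotangentSpace] at h1
    exact one_le_of_le_add _ _ _ h1 hrank
  haveI : IsRegularLocalRing (R ⧸ I) := IsRegularLocalRing.of_spanFinrank_maximalIdeal_le _ (by
    have h1 : (maximalIdeal (R ⧸ I)).spanFinrank ≤ 1 := by
      rw [hmax]
      exact (Submodule.spanFinrank_span_le_ncard_of_finite (Set.finite_singleton _)).trans
        (by simp)
    have h2 : (((maximalIdeal (R ⧸ I)).spanFinrank : ℕ) : WithBot ℕ∞) ≤ ((1 : ℕ) : WithBot ℕ∞) := by
      exact_mod_cast h1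
    exact h2.trans (by simpa using hdim))
  haveI hdom : IsDomain (R ⧸ I) := Groth.Agent.Lib.Helper5.isDomain_of_isRegularLocalRing _
  have hnf : ¬ IsField (R ⧸ I) := fun hf => by
    have h1 := ringKrullDim_eq_zero_of_isField hf
    rw [h1] at hdim
    exact absurd hdim (by norm_num)
  have hdvr : IsDiscreteValuationRing (R ⧸ I) :=
    ((IsDiscreteValuationRing.TFAE (R ⧸ I) hnf).out 0 4).mpr
      (⟨⟨_, hmax⟩⟩ : (maximalIdeal (R ⧸ I)).IsPrincipal)
  exact ⟨I, hI, hdom, hdvr, hmax⟩

end Quotient

section Smooth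

variable {B R : Type u} [CommRing B] [IsLocalRing B] [CommRing R] [IsLocalRing R] [Algebra B R]
  [Algebra.FormallySmooth B R]

/-- If `R` is a local formally smooth `B`-algebra with trivial residue field extension, the induced map on
cotangent spaces is injective: an element of `B` whose image lies in `m_R ^ 2` lies in `m_B ^ 2`. -/
theorem mem_sq_of_map_mem_sq (hloc : ∀ b ∈ maximalIdeal B, algebraMap B R b ∈ maximalIdeal R)
    (hsurj : Function.Surjective (fun b : B => residue R (algebraMap B R b)))
    (b : B) (hb : algebraMap B R b ∈ maximalIdeal R ^ 2) : b ∈ maximalIdeal B ^ 2 := by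
  let φ : B →ₐ[B] ResidueField R := Algebra.ofId B (ResidueField R)
  have hφ : ∀ a : B, φ a = residue R (algebraMap B R a) := fun _ => rfl
  have hφ0 : ∀ a ∈ maximalIdeal B, φ a = 0 := by
    intro a ha
    rw [hφ]
    exact (residue_eq_zero_iff _).2 (hloc a ha)
  have hφ1 : ∀ a : B, φ a = 0 → a ∈ maximalIdeal B := by
    intro a ha
    by_contra hna
    have hu : IsUnit a := by
      by_contra h; exact hna ((mem_maximalIdeal a).2 h)
    have : IsUnit (φ a) := hu.map φ
    rw [ha] at this
    exact not_isUnit_zero this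
  let C := B ⧸ (maximalIdeal B ^ 2)
  let q : C →ₐ[B] ResidueField R := Ideal.Quotient.liftₐ (maximalIdeal B ^ 2) φ (fun a ha =>
    hφ0 a (Ideal.pow_le_self two_ne_zero ha))
  have hq : Function.Surjective q := by
    intro y
    obtain ⟨a, ha⟩ := hsurj y
    exact ⟨Ideal.Quotient.mk _ a, ha⟩
  let J : Ideal C := RingHom.ker q.toRingHom
  have hJ2 : J ^ 2 = ⊥ := by
    rw [eq_bot_iff, sq J, Ideal.mul_le]
    intro x hx y hy
    obtain ⟨a, rfl⟩ := Ideal.Quotient.mk_surjective x
    obtain ⟨a', rfl⟩ := Ideal.Quotient.mk_surjective y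
    have ha : a ∈ maximalIdeal B := hφ1 a hx
    have ha' : a' ∈ maximalIdeal B := hφ1 a' hy
    rw [Ideal.mem_bot, ← map_mul, Ideal.Quotient.eq_zero_iff_mem, sq (maximalIdeal B)]
    exact Ideal.mul_mem_mul ha ha'
  let e : (C ⧸ J) ≃ₐ[B] ResidueField R := Ideal.quotientKerAlgEquivOfSurjective hq
  let g : R →ₐ[B] C ⧸ J := e.symm.toAlgHom.comp (IsScalarTower.toAlgHom B R (ResidueField R))
  obtain ⟨σ, hσ⟩ := Algebra.FormallySmooth.exists_lift J ⟨2, hJ2⟩ g
  have hσJ : ∀ r ∈ maximalIdeal R, σ r ∈ J := by
    intro r hr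
    have h1 : g r = 0 := by
      change e.symm (residue R r) = 0
      rw [(residue_eq_zero_iff r).2 hr, map_zero]
    have h2 : (Ideal.Quotient.mkₐ B J) (σ r) = g r := by
      rw [← hσ]; rfl
    rw [h1] at h2
    exact Ideal.Quotient.eq_zero_iff_mem.1 h2
  have hmap : Ideal.map σ.toRingHom (maximalIdeal R ^ 2) ≤ ⊥ := by
    rw [Ideal.map_pow, ← hJ2]
    apply Ideal.pow_right_mono
    rw [Ideal.map_le_iff_le_comap]
    intro r hr
    exact hσJ r hr
  have h3 : σ (algebraMap B R b) = 0 := by
    have := hmap (Ideal.mem_map_of_mem σ.toRingHom hb)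
    exact this
  rw [σ.commutes] at h3
  exact Ideal.Quotient.eq_zero_iff_mem.1 h3

end Smooth

section Main

lemma comap_mk_maximalIdeal {R : Type u} [CommRing R] [IsLocalRing R] (I : Ideal R)
    [IsLocalRing (R ⧸ I)] :
    (maximalIdeal (R ⧸ I)).comap (Ideal.Quotient.mk I) = maximalIdeal R := by
  haveI := Ideal.comap_isMaximal_of_surjective (Ideal.Quotient.mk I)
    Ideal.Quotient.mk_surjective (K := maximalIdeal (R ⧸ I))
  exact IsLocalRing.eq_maximalIdeal inferInstance

theorem main (B : Type u) [CommRing B] [IsDomain B] [IsDiscreteValuationRing B]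
    (A : Type u) [CommRing A] [Algebra B A] [Algebra.FiniteType B A]
    (p : Ideal A) [p.IsPrime] (hp : p.comap (algebraMap B A) = IsLocalRing.maximalIdeal B)
    [Algebra.IsSmoothAt B p]
    (hres : Function.Surjective ((algebraMap A p.ResidueField).comp (algebraMap B A))) :
    ∃ (B' : Type u) (_ : CommRing B') (_ : IsDomain B') (_ : IsDiscreteValuationRing B')
      (ψ : A →+* B'),
      Ideal.comap ψ (IsLocalRing.maximalIdeal B') = p ∧
      Function.Injective (ψ.comp (algebraMap B A)) ∧
      Ideal.map (ψ.comp (algebraMap B A)) (IsLocalRing.maximalIdeal B) =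
        IsLocalRing.maximalIdeal B' ∧
      Function.Surjective ((IsLocalRing.residue B').comp (ψ.comp (algebraMap B A))) := by
  haveI : IsNoetherianRing A := Algebra.FiniteType.isNoetherianRing B A
  haveI : IsNoetherianRing (Localization.AtPrime p) :=
    IsLocalization.isNoetherianRing p.primeCompl _ inferInstance
  haveI : Algebra.FormallySmooth B (Localization.AtPrime p) := ‹Algebra.IsSmoothAt B p›
  haveI : IsRegularRing (Localization.AtPrime p) :=
    Groth.Agent.Lib.Helper6.SepBC.isRegularRing_of_formallySmooth B (Localization.AtPrime p)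
  haveI : IsRegularLocalRing (Localization.AtPrime p) :=
    IsRegularLocalRing.of_isRegularRing_of_isLocalRing _
  obtain ⟨ϖ, hϖ⟩ := IsDiscreteValuationRing.exists_irreducible B
  have hmB : maximalIdeal B = Ideal.span {ϖ} := hϖ.maximalIdeal_eq
  have hloc : ∀ b ∈ maximalIdeal B,
      algebraMap B (Localization.AtPrime p) b ∈ maximalIdeal (Localization.AtPrime p) := by
    intro b hb
    rw [IsScalarTower.algebraMap_apply B A (Localization.AtPrime p)]
    rw [← hp] at hb
    exact (IsLocalization.AtPrime.to_map_mem_maximal_iff _ p _).2 hb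
  have hsurj : Function.Surjective (fun b : B =>
      residue (Localization.AtPrime p) (algebraMap B (Localization.AtPrime p) b)) := by
    intro y
    obtain ⟨b, hb⟩ := hres y
    refine ⟨b, ?_⟩
    change residue _ (algebraMap B (Localization.AtPrime p) b) = _
    rw [← hb, IsScalarTower.algebraMap_apply B A (Localization.AtPrime p)]
    rfl
  have hϖ2 : ϖ ∉ maximalIdeal B ^ 2 := by
    rw [hmB, Ideal.span_singleton_pow, Ideal.mem_span_singleton]
    rintro ⟨c, hc⟩
    have h0 : ϖ * 1 = ϖ * (ϖ * c) := by rw [mul_one, ← mul_assoc, ← pow_two]; exact hc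
    have h1 := mul_left_cancel₀ hϖ.ne_zero h0
    exact hϖ.not_isUnit (IsUnit.of_mul_eq_one c h1.symm)
  have hx : algebraMap B (Localization.AtPrime p) ϖ ∈ maximalIdeal (Localization.AtPrime p) :=
    hloc ϖ (by rw [hmB]; exact Ideal.mem_span_singleton_self ϖ)
  have hx2 : algebraMap B (Localization.AtPrime p) ϖ ∉ maximalIdeal (Localization.AtPrime p) ^ 2 :=
    fun h => hϖ2 (mem_sq_of_map_mem_sq hloc hsurj ϖ h)
  obtain ⟨I, hI, hdom, hdvr, hmax⟩ := exists_dvr_quotient _ hx hx2
  let ψ : A →+* Localization.AtPrime p ⧸ I :=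
    (Ideal.Quotient.mk I).comp (algebraMap A (Localization.AtPrime p))
  have hχ : ∀ b : B, (ψ.comp (algebraMap B A)) b =
      Ideal.Quotient.mk I (algebraMap B (Localization.AtPrime p) b) := by
    intro b
    rw [IsScalarTower.algebraMap_apply B A (Localization.AtPrime p)]
    rfl
  have hπ0 : Ideal.Quotient.mk I (algebraMap B (Localization.AtPrime p) ϖ) ≠ 0 := by
    intro h0
    have h1 := IsDiscreteValuationRing.not_a_field (Localization.AtPrime p ⧸ I)
    apply h1
    rw [hmax, h0, Ideal.span_singleton_eq_bot]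
  refine ⟨Localization.AtPrime p ⧸ I, inferInstance, hdom, hdvr, ψ, ?_, ?_, ?_, ?_⟩
  · rw [← Ideal.comap_comap, comap_mk_maximalIdeal]
    exact IsLocalization.AtPrime.under_maximalIdeal _ p
  · rw [injective_iff_map_eq_zero]
    intro b hb
    by_contra hb0
    obtain ⟨n, u, rfl⟩ := IsDiscreteValuationRing.eq_unit_mul_pow_irreducible hb0 hϖ
    rw [map_mul, map_pow, hχ ϖ] at hb
    rcases mul_eq_zero.1 hb with h | h
    · exact (u.isUnit.map (ψ.comp (algebraMap B A))).ne_zero h
    · exact pow_ne_zero n hπ0 h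
  · rw [hmB, Ideal.map_span, Set.image_singleton, hmax, hχ ϖ]
  · intro y
    obtain ⟨z, rfl⟩ := IsLocalRing.residue_surjective y
    obtain ⟨r, rfl⟩ := Ideal.Quotient.mk_surjective z
    obtain ⟨b, hb⟩ := hsurj (residue _ r)
    refine ⟨b, ?_⟩
    change residue _ ((ψ.comp (algebraMap B A)) b) = _
    rw [hχ b, ← sub_eq_zero, ← map_sub, ← map_sub, residue_eq_zero_iff]
    have h1 : algebraMap B (Localization.AtPrime p) b - r ∈ maximalIdeal (Localization.AtPrime p) := by
      rw [← residue_eq_zero_iff, map_sub, sub_eq_zero]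
      exact hb
    rw [← comap_mk_maximalIdeal I] at h1
    exact h1

end Main

end Groth.Agent.R2.H28.DvrSection
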