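import Mathlib
import Groth.Prelude.Def_Cyc

/-!
# Generic points of fibres (helper28)

For a morphism `f : X' ⟶ X` and a point `x'` of `X'`:
* `exists_maximal_in_fibre`: there is a generalization `y` of `x'` in the fibre of `f` through `x'`
  which is maximal under generalization inside that fibre.
* `length_fibre_ne_zero`: if `X'` is locally Noetherian and `y` is maximal under generalization in its
  fibre, the length of `O_{X',y}/𝔪_{f y} O_{X',y}` is finite and nonzero.
-/

set_option autoImplicit false
universe u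
open CategoryTheory AlgebraicGeometry IsLocalRing

namespace Groth.Agent.R2.H28.FibreGeneric

variable {X' X : Scheme.{u}} (f : X' ⟶ X)

/-- the ideal `𝔪_{f y} O_{X',y}` -/
noncomputable abbrev fibreIdeal (y : X') : Ideal (X'.presheaf.stalk y) :=
  Ideal.map (f.stalkMap y).hom (IsLocalRing.maximalIdeal (X.presheaf.stalk (f y)))

lemma fibreIdeal_le_maximalIdeal (y : X') :
    fibreIdeal f y ≤ IsLocalRing.maximalIdeal (X'.presheaf.stalk y) := by
  rw [fibreIdeal, Ideal.map_le_iff_le_comap]
  intro a ha
  rw [Ideal.mem_comap, IsLocalRing.mem_maximalIdeal, mem_nonunits_iff] at *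
  intro h
  exact ha ((isUnit_map_iff (f.stalkMap y).hom a).1 h)

/-- the image under `f` of the point of `X'` given by a prime of the local ring at `y` -/
lemma map_fromSpecStalk (y : X') (q : Spec (X'.presheaf.stalk y)) :
    f (X'.fromSpecStalk y q) = X.fromSpecStalk (f y) (Spec.map (f.stalkMap y) q) := by
  have h := Scheme.SpecMap_stalkMap_fromSpecStalk (f := f) (x := y)
  have h2 := congrArg (fun g => g q) h
  simp only [Scheme.Hom.comp_apply] at h2
  exact h2.symm

/-- a point given by a prime `q` of the local ring at `y` lies in the fibre through `y` iff `q` contains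
the fibre ideal -/
lemma map_fromSpecStalk_eq_iff (y : X') (q : Spec (X'.presheaf.stalk y)) :
    f (X'.fromSpecStalk y q) = f y ↔ fibreIdeal f y ≤ q.asIdeal := by
  rw [map_fromSpecStalk]
  have hinj : Function.Injective (X.fromSpecStalk (f y)) :=
    (X.fromSpecStalk (f y)).isEmbedding.injective
  constructor
  · intro h
    have h1 : Spec.map (f.stalkMap y) q = closedPoint (X.presheaf.stalk (f y)) := by
      apply hinj
      rw [h, Scheme.fromSpecStalk_closedPoint]
    have h2 : (Spec.map (f.stalkMap y) q).asIdeal =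
        IsLocalRing.maximalIdeal (X.presheaf.stalk (f y)) := by
      rw [h1]; rfl
    rw [fibreIdeal, Ideal.map_le_iff_le_comap, ← h2]
    exact le_of_eq rfl
  · intro h
    have h2 : IsLocalRing.maximalIdeal (X.presheaf.stalk (f y)) ≤
        (Spec.map (f.stalkMap y) q).asIdeal := by
      rw [fibreIdeal, Ideal.map_le_iff_le_comap] at h
      exact h
    have h3 : (Spec.map (f.stalkMap y) q).asIdeal =
        IsLocalRing.maximalIdeal (X.presheaf.stalk (f y)) :=
      ((IsLocalRing.maximalIdeal.isMaximal _).eq_of_le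
        (Spec.map (f.stalkMap y) q).isPrime.ne_top h2).symm
    have h1 : Spec.map (f.stalkMap y) q = closedPoint (X.presheaf.stalk (f y)) :=
      PrimeSpectrum.ext h3
    rw [h1, Scheme.fromSpecStalk_closedPoint]


/-- every point `x'` has a generalization `y` in the same fibre which is maximal under generalization
inside the fibre; moreover `y` comes from a minimal prime over the fibre ideal. -/
lemma exists_maximal_in_fibre (x' : X') :
    ∃ y : X', y ⤳ x' ∧ f y = f x' ∧ (∀ z, f z = f y → z ⤳ y → z = y) := by
  have hle := fibreIdeal_le_maximalIdeal f x'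
  obtain ⟨p, hp, -⟩ := Ideal.exists_minimalPrimes_le hle
  have hpprime : p.IsPrime := hp.1.1
  let q : Spec (X'.presheaf.stalk x') := ⟨p, hpprime⟩
  have hIq : fibreIdeal f x' ≤ q.asIdeal := hp.1.2
  have hy : f (X'.fromSpecStalk x' q) = f x' := (map_fromSpecStalk_eq_iff f x' q).2 hIq
  have hgen : X'.fromSpecStalk x' q ⤳ x' := by
    have : X'.fromSpecStalk x' q ∈ Set.range (X'.fromSpecStalk x') := ⟨q, rfl⟩
    rw [Scheme.range_fromSpecStalk] at this
    exact this
  refine ⟨X'.fromSpecStalk x' q, hgen, hy, ?_⟩
  intro z hz hzy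
  have hzx : z ⤳ x' := hzy.trans hgen
  have hzr : z ∈ Set.range (X'.fromSpecStalk x') := by
    rw [Scheme.range_fromSpecStalk]; exact hzx
  obtain ⟨q', rfl⟩ := hzr
  have hIq' : fibreIdeal f x' ≤ q'.asIdeal :=
    (map_fromSpecStalk_eq_iff f x' q').1 (hz.trans hy)
  have hspec : q' ⤳ q :=
    ((X'.fromSpecStalk x').isEmbedding.toIsInducing.specializes_iff).1 hzy
  have hle'' : q'.asIdeal ≤ p :=
    (PrimeSpectrum.le_iff_specializes
      (show PrimeSpectrum (X'.presheaf.stalk x') from q')
      (show PrimeSpectrum (X'.presheaf.stalk x') from q)).2 hspec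
  have hge : p ≤ q'.asIdeal := hp.2 ⟨q'.isPrime, hIq'⟩ hle''
  have : q' = q := PrimeSpectrum.ext (le_antisymm hle'' hge)
  rw [this]


/-- if `y` is maximal under generalization in its fibre then the only prime of `O_{X',y}` containing
the fibre ideal is the maximal ideal. -/
lemma eq_maximalIdeal_of_fibreIdeal_le (y : X')
    (hy : ∀ z, f z = f y → z ⤳ y → z = y) (q : Ideal (X'.presheaf.stalk y)) [hq : q.IsPrime]
    (hle : fibreIdeal f y ≤ q) : q = IsLocalRing.maximalIdeal (X'.presheaf.stalk y) := by
  let q' : Spec (X'.presheaf.stalk y) := ⟨q, hq⟩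
  have h1 : f (X'.fromSpecStalk y q') = f y := (map_fromSpecStalk_eq_iff f y q').2 hle
  have h2 : X'.fromSpecStalk y q' ⤳ y := by
    have : X'.fromSpecStalk y q' ∈ Set.range (X'.fromSpecStalk y) := ⟨q', rfl⟩
    rw [Scheme.range_fromSpecStalk] at this
    exact this
  have h3 : X'.fromSpecStalk y q' = y := hy _ h1 h2
  have h4 : q' = closedPoint (X'.presheaf.stalk y) := by
    apply (X'.fromSpecStalk y).isEmbedding.injective
    rw [h3, Scheme.fromSpecStalk_closedPoint]
  have h5 : q'.asIdeal = IsLocalRing.maximalIdeal (X'.presheaf.stalk y) := by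
    rw [h4]; rfl
  exact h5

/-- the length of `O_{X',y} ⧸ 𝔪_{f y} O_{X',y}` is finite and nonzero at a point `y` maximal under
generalization in its fibre, for `X'` locally Noetherian. -/
lemma length_fibre_toNat_ne_zero [IsLocallyNoetherian X'] (y : X')
    (hy : ∀ z, f z = f y → z ⤳ y → z = y) :
    (Module.length (X'.presheaf.stalk y)
      (X'.presheaf.stalk y ⧸ fibreIdeal f y)).toNat ≠ 0 := by
  set R := X'.presheaf.stalk y
  set I := fibreIdeal f y with hI
  have hIle : I ≤ IsLocalRing.maximalIdeal R := fibreIdeal_le_maximalIdeal f y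
  have hItop : I ≠ ⊤ := fun h => (IsLocalRing.maximalIdeal.isMaximal R).ne_top
    (top_le_iff.1 (h ▸ hIle))
  haveI : Nontrivial (R ⧸ I) := Ideal.Quotient.nontrivial_iff.2 hItop
  have hsurj : Function.Surjective (algebraMap R (R ⧸ I)) := Ideal.Quotient.mk_surjective
  have hdim : Ring.KrullDimLE 0 (R ⧸ I) := by
    rw [Ring.krullDimLE_zero_iff]
    intro P hP
    have hcomap : (P.comap (Ideal.Quotient.mk I)).IsPrime := Ideal.comap_isPrime _ P
    have hle : I ≤ P.comap (Ideal.Quotient.mk I) := by
      intro a ha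
      rw [Ideal.mem_comap, Ideal.Quotient.eq_zero_iff_mem.2 ha]
      exact P.zero_mem
    have hmax := eq_maximalIdeal_of_fibreIdeal_le f y hy _ hle
    have hP' : P = (IsLocalRing.maximalIdeal R).map (Ideal.Quotient.mk I) := by
      rw [← hmax, Ideal.map_comap_of_surjective _ Ideal.Quotient.mk_surjective]
    rcases Ideal.map_eq_top_or_isMaximal_of_surjective (Ideal.Quotient.mk I)
      Ideal.Quotient.mk_surjective (IsLocalRing.maximalIdeal.isMaximal R) with h | h
    · exact absurd (hP'.trans h) hP.ne_top
    · rw [hP']; exact h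
  haveI : IsNoetherianRing (R ⧸ I) := inferInstance
  haveI : IsArtinianRing (R ⧸ I) :=
    isArtinianRing_iff_isNoetherianRing_krullDimLE_zero.2 ⟨inferInstance, hdim⟩
  have hlen : Module.length R (R ⧸ I) = Module.length (R ⧸ I) (R ⧸ I) :=
    Module.length_eq_of_surjective hsurj
  have hfin : Module.length R (R ⧸ I) ≠ ⊤ := by
    rw [hlen]; exact Module.length_ne_top
  have hne : Module.length R (R ⧸ I) ≠ 0 := by
    rw [Ne, Module.length_eq_zero_iff]
    exact not_subsingleton _
  intro h
  rcases (ENat.toNat_eq_zero.1 h) with h | h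
  · exact hne h
  · exact hfin h

end Groth.Agent.R2.H28.FibreGeneric
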