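import Mathlib
import Groth.Agent.R2.H4DerivedAdj
import Groth.Agent.R2.H28DerBase

/-!
# Direct images of K-injective complexes are acyclic for global sections (helper28)

For `f : X ⟶ Y` and a K-injective complex `I` of `O_X`-modules, morphisms in `D(O_Y)` from a
complex `P` on which `Lf^*` is computed termwise (e.g. K-flat with flat terms) to `f_* I` are
homotopy classes of chain maps.  This is deduced from the derived adjunction `Lf^* ⊣ Rf_*` (helper4).
-/

set_option autoImplicit false
set_option linter.style.haveILetI false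
set_option linter.unusedSectionVars false
universe u
open CategoryTheory CategoryTheory.Limits AlgebraicGeometry HomologicalComplex

attribute [local instance] HasDerivedCategory.standard

namespace Groth.Agent.R2.H28.GammaAcyc

open Groth.Agent.R2.H4.DerivedAdj Groth.Agent.Lib.Helper1.Sky

section General

variable {C : Type*} [Category C] [Abelian C] [HasDerivedCategory C]

/-- morphisms in the derived category to a K-injective complex are represented by chain maps -/
lemma exists_map_eq_of_isKInjective (K I : CochainComplex C ℤ) [I.IsKInjective]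
    (φ : DerivedCategory.Q.obj K ⟶ DerivedCategory.Q.obj I) :
    ∃ θ : K ⟶ I, DerivedCategory.Q.map θ = φ := by
  obtain ⟨g, hg⟩ := (CochainComplex.IsKInjective.Qh_map_bijective
    ((HomotopyCategory.quotient C _).obj K) I).2
    ((DerivedCategory.quotientCompQhIso C).hom.app K ≫ φ ≫
      (DerivedCategory.quotientCompQhIso C).inv.app I)
  obtain ⟨θ, rfl⟩ := (HomotopyCategory.quotient C _).map_surjective g
  refine ⟨θ, ?_⟩
  have h := (DerivedCategory.quotientCompQhIso C).hom.naturality θ
  dsimp at h
  rw [hg] at h
  simp only [Category.assoc, Iso.inv_hom_id_app, Category.comp_id] at h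
  exact ((cancel_epi _).1 h).symm

/-- a chain map to a K-injective complex which vanishes in the derived category is null-homotopic -/
lemma nonempty_homotopy_of_Q_map_eq_zero (K I : CochainComplex C ℤ) [I.IsKInjective]
    (θ : K ⟶ I) (h : DerivedCategory.Q.map θ = 0) : Nonempty (Homotopy θ 0) := by
  rw [← HomotopyCategory.quotient_map_eq_zero_iff]
  apply (CochainComplex.IsKInjective.Qh_map_bijective
    ((HomotopyCategory.quotient C _).obj K) I).1
  have h1 := (DerivedCategory.quotientCompQhIso C).hom.naturality θ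
  dsimp at h1
  rw [h, comp_zero] at h1
  rw [Functor.map_zero]
  exact (cancel_mono ((DerivedCategory.quotientCompQhIso C).hom.app I)).1 (by rw [h1, zero_comp])

end General

variable {X Y : Scheme.{u}} (f : X ⟶ Y) [DCoh.HasLpull f] [DCoh.HasRpush f]

/-- the compatibility of the derived adjunction with the adjunction on complexes -/
lemma Q_map_homEquiv (P : CochainComplex Y.Modules ℤ) (I : CochainComplex X.Modules ℤ)
    (θ : (pullC f).obj P ⟶ I) :
    DerivedCategory.Q.map ((adjC f).homEquiv P I θ) ≫ (rpushUnitQ f).app I =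
      (lpullRpushAdj f).homEquiv _ _ ((lpullCounitQ f).app P ≫ DerivedCategory.Q.map θ) := by
  have h1 := (rpushUnitQ f).naturality θ
  have h2 := (adjC f).derivedη_fac_app (HomologicalComplex.quasiIso Y.Modules (ComplexShape.up ℤ))
    (lpullCounitQ f) (rpushUnitQ f) P
  dsimp at h1 h2
  rw [Adjunction.homEquiv_unit, Adjunction.homEquiv_unit, Functor.map_comp, Category.assoc, h1,
    ← reassoc_of% h2, Functor.map_comp]
  rfl

/-- morphisms `P ⟶ f_* I` in `D(O_Y)` are represented by chain maps -/
theorem exists_Q_map_eq (P : CochainComplex Y.Modules ℤ) (I : CochainComplex X.Modules ℤ)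
    [I.IsKInjective] (hP : IsIso ((lpullCounitQ f).app P))
    (φ : DerivedCategory.Q.obj P ⟶ DerivedCategory.Q.obj ((pushC f).obj I)) :
    ∃ ψ : P ⟶ (pushC f).obj I, DerivedCategory.Q.map ψ = φ := by
  haveI := hP
  haveI := isIso_rpushUnitQ_app f I
  let g := ((lpullRpushAdj f).homEquiv _ _).symm (φ ≫ (rpushUnitQ f).app I)
  obtain ⟨θ, hθ⟩ := exists_map_eq_of_isKInjective ((pullC f).obj P) I
    (inv ((lpullCounitQ f).app P) ≫ g)
  refine ⟨(adjC f).homEquiv P I θ, ?_⟩
  rw [← cancel_mono ((rpushUnitQ f).app I), Q_map_homEquiv, hθ, IsIso.hom_inv_id_assoc,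
    Equiv.apply_symm_apply]

/-- a chain map `P ⟶ f_* I` which vanishes in `D(O_Y)` is null-homotopic -/
theorem nonempty_homotopy_zero (P : CochainComplex Y.Modules ℤ) (I : CochainComplex X.Modules ℤ)
    [I.IsKInjective] (hP : IsIso ((lpullCounitQ f).app P))
    (ψ : P ⟶ (pushC f).obj I) (h : DerivedCategory.Q.map ψ = 0) : Nonempty (Homotopy ψ 0) := by
  haveI := hP
  let θ := ((adjC f).homEquiv P I).symm ψ
  have h1 := Q_map_homEquiv f P I θ
  rw [Equiv.apply_symm_apply, h, zero_comp] at h1
  have h2 : (lpullCounitQ f).app P ≫ DerivedCategory.Q.map θ = 0 := by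
    apply ((lpullRpushAdj f).homEquiv _ _).injective
    rw [← h1]
    haveI : (DCoh.Rpush f).IsRightAdjoint := (lpullRpushAdj f).isRightAdjoint
    rw [Adjunction.homEquiv_unit, Functor.map_zero, comp_zero]
  have h3 : DerivedCategory.Q.map θ = 0 := by
    rw [← cancel_epi ((lpullCounitQ f).app P), h2, comp_zero]
  obtain ⟨hθ⟩ := nonempty_homotopy_of_Q_map_eq_zero _ _ θ h3
  have e : ψ = (adjC f).homEquiv P I θ := (Equiv.apply_symm_apply _ _).symm
  rw [e, Adjunction.homEquiv_unit]
  have h4 : Homotopy ((pushC f).map θ) ((pushC f).map 0) :=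
    (Scheme.Modules.pushforward f).mapHomotopy hθ
  have h5 : Homotopy ((adjC f).unit.app P ≫ (pushC f).map θ)
      ((adjC f).unit.app P ≫ (pushC f).map 0) := h4.compLeft _
  rw [Functor.map_zero, comp_zero] at h5
  exact ⟨h5⟩

end Groth.Agent.R2.H28.GammaAcyc
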