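import Groth.Prelude.Def_DRing4
import Mathlib.Algebra.Homology.DerivedCategory.KProjective
import Mathlib.Algebra.Homology.HomotopyCategory.HomComplexCohomology
import Mathlib.Algebra.Homology.ShortComplex.ModuleCat
import Mathlib.CategoryTheory.Functor.Derived.PointwiseRightDerived

/-!
# `Hom•(K, -)` preserves quasi-isomorphisms for K-projective `K` (helper30)

* `ShortComplex.quasiIso_moduleCat_of`: elementwise criterion for quasi-isomorphisms of short complexes of modules.
* `postcompClass_bijective`: for `K` K-projective and `f : L ⟶ L'` a quasi-iso, postcomposition with `f` is bijective on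
  `HomComplex.CohomologyClass K - n`.
* `quasiIso_homCxMap`: `DRing.homCxMap K f` is a quasi-isomorphism.
* `rhomCx_iso`: `RHom(K, L) ≅ Q(Hom•(K, L))` for `K` K-projective.
-/

set_option autoImplicit false
universe u
open CategoryTheory CategoryTheory.Limits CochainComplex CochainComplex.HomComplex
attribute [local instance] HasDerivedCategory.standard

namespace Groth.Agent.R2.H30.HomCx

section Criterion

variable {R : Type u} [Ring R] {S₁ S₂ : ShortComplex (ModuleCat.{u} R)} (φ : S₁ ⟶ S₂)

/-- Elementwise criterion for a morphism of short complexes of modules to be a quasi-isomorphism. -/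
theorem quasiIso_moduleCat_of
    (hA : ∀ y : S₂.X₂, S₂.g y = 0 → ∃ (x : S₁.X₂) (w : S₂.X₁), S₁.g x = 0 ∧ y = φ.τ₂ x + S₂.f w)
    (hB : ∀ x : S₁.X₂, S₁.g x = 0 → (∃ w' : S₂.X₁, φ.τ₂ x = S₂.f w') → ∃ w : S₁.X₁, x = S₁.f w) :
    ShortComplex.QuasiIso φ := by
  have hker : ∀ x : LinearMap.ker S₁.g.hom, φ.τ₂.hom x.1 ∈ LinearMap.ker S₂.g.hom := by
    intro x
    have h1 : S₁.g x.1 = 0 := x.2
    have := congrArg (fun t => t.hom x.1) φ.comm₂₃
    simp only [ModuleCat.hom_comp, LinearMap.comp_apply] at this
    rw [LinearMap.mem_ker, this]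
    change φ.τ₃.hom (S₁.g x.1) = 0
    rw [h1, map_zero]
  let φK : LinearMap.ker S₁.g.hom →ₗ[R] LinearMap.ker S₂.g.hom :=
    (φ.τ₂.hom.comp (LinearMap.ker S₁.g.hom).subtype).codRestrict _ hker
  have hrange : LinearMap.range S₁.moduleCatToCycles ≤
      (LinearMap.range S₂.moduleCatToCycles).comap φK := by
    rintro _ ⟨w, rfl⟩
    refine ⟨φ.τ₁.hom w, ?_⟩
    apply Subtype.ext
    have := congrArg (fun t => t.hom w) φ.comm₁₂
    simp only [ModuleCat.hom_comp, LinearMap.comp_apply] at this
    change S₂.f.hom (φ.τ₁.hom w) = φ.τ₂.hom (S₁.f.hom w)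
    exact this
  let φH := Submodule.mapQ _ _ φK hrange
  let γ : ShortComplex.LeftHomologyMapData φ S₁.moduleCatLeftHomologyData S₂.moduleCatLeftHomologyData :=
    { φK := ModuleCat.ofHom φK
      φH := ModuleCat.ofHom φH
      commi := by ext x; rfl
      commf' := by
        ext w
        apply Subtype.ext
        have := congrArg (fun t => t.hom w) φ.comm₁₂
        simp only [ModuleCat.hom_comp, LinearMap.comp_apply] at this
        exact this.symm
      commπ := by ext x; rfl }
  rw [γ.quasiIso_iff]
  rw [ConcreteCategory.isIso_iff_bijective]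
  constructor
  · rw [injective_iff_map_eq_zero]
    intro h hh
    obtain ⟨c, rfl⟩ := Submodule.mkQ_surjective _ h
    change φH (Submodule.Quotient.mk c) = 0 at hh
    rw [Submodule.mapQ_apply, Submodule.Quotient.mk_eq_zero] at hh
    obtain ⟨w', hw'⟩ := hh
    have hw'' : S₂.f w' = φ.τ₂ c.1 := congrArg Subtype.val hw'
    obtain ⟨w, hw⟩ := hB c.1 c.2 ⟨w', hw''.symm⟩
    change Submodule.Quotient.mk c = 0
    rw [Submodule.Quotient.mk_eq_zero]
    exact ⟨w, Subtype.ext hw.symm⟩
  · intro h
    obtain ⟨c, rfl⟩ := Submodule.mkQ_surjective _ h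
    obtain ⟨x, w, hx, hy⟩ := hA c.1 c.2
    refine ⟨Submodule.Quotient.mk ⟨x, hx⟩, ?_⟩
    change φH (Submodule.Quotient.mk _) = Submodule.Quotient.mk c
    rw [Submodule.mapQ_apply, eq_comm, Submodule.Quotient.eq]
    refine ⟨w, ?_⟩
    apply Subtype.ext
    change S₂.f w = c.1 - φ.τ₂ x
    rw [hy]; abel

end Criterion

section General

variable {C : Type*} [Category C] [Abelian C] [HasDerivedCategory C]
variable (K : CochainComplex C ℤ) {L L' : CochainComplex C ℤ} (f : L ⟶ L') (n : ℤ)

/-- postcomposition on cocycles, as an additive map -/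
def postcompCocycle : Cocycle K L n →+ Cocycle K L' n where
  toFun z := z.postcomp f
  map_zero' := by ext p q hpq; simp
  map_add' z z' := by ext p q hpq; simp

lemma postcomp_mem_coboundaries (z : Cocycle K L n) (hz : z ∈ coboundaries K L n) :
    z.postcomp f ∈ coboundaries K L' n := by
  rw [mem_coboundaries_iff z (n - 1) (by simp)] at hz
  obtain ⟨β, hβ⟩ := hz
  rw [mem_coboundaries_iff _ (n - 1) (by simp)]
  refine ⟨β.comp (Cochain.ofHom f) (add_zero _), ?_⟩
  rw [δ_comp_ofHom, hβ]
  rfl

/-- postcomposition on cohomology classes -/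
def postcompClass : CohomologyClass K L n →+ CohomologyClass K L' n :=
  CohomologyClass.descAddMonoidHom ((CohomologyClass.mkAddMonoidHom K L' n).comp (postcompCocycle K f n)) (by
    intro z hz
    rw [AddMonoidHom.mem_ker, AddMonoidHom.comp_apply]
    exact (CohomologyClass.mk_eq_zero_iff _).2 (postcomp_mem_coboundaries K f n z hz))

lemma postcompClass_mk (z : Cocycle K L n) :
    postcompClass K f n (CohomologyClass.mk z) = CohomologyClass.mk (z.postcomp f) := rfl

lemma toHom_postcompClass (x : CohomologyClass K L n) :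
    CohomologyClass.toHom (postcompClass K f n x) =
      CohomologyClass.toHom x ≫ (HomotopyCategory.quotient C _).map (f⟦n⟧') := by
  obtain ⟨z, rfl⟩ := x.mk_surjective
  rw [postcompClass_mk, CohomologyClass.toHom_mk, CohomologyClass.toHom_mk,
    Cocycle.equivHomShift_symm_postcomp, Functor.map_comp]

theorem postcompClass_bijective [K.IsKProjective] [QuasiIso f] :
    Function.Bijective (postcompClass K f n) := by
  have : QuasiIso (f⟦n⟧') := inferInstance
  have hiso : IsIso (DerivedCategory.Qh.map ((HomotopyCategory.quotient C _).map (f⟦n⟧'))) := by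
    have h := DerivedCategory.quotientCompQhIso_hom_naturality (f⟦n⟧')
    have : DerivedCategory.Qh.map ((HomotopyCategory.quotient C _).map (f⟦n⟧')) =
        (DerivedCategory.quotientCompQhIso C).hom.app _ ≫ DerivedCategory.Q.map (f⟦n⟧') ≫
          (DerivedCategory.quotientCompQhIso C).inv.app _ := by
      rw [← reassoc_of% h]; simp
    rw [this]; infer_instance
  have hsq : ∀ x, DerivedCategory.Qh.map (CohomologyClass.toHom (postcompClass K f n x)) =
      DerivedCategory.Qh.map (CohomologyClass.toHom x) ≫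
        DerivedCategory.Qh.map ((HomotopyCategory.quotient C _).map (f⟦n⟧')) := by
    intro x; rw [toHom_postcompClass, Functor.map_comp]
  have b1 := (CochainComplex.IsKProjective.Qh_map_bijective K
    ((HomotopyCategory.quotient C _).obj (L⟦n⟧))).comp (CohomologyClass.toHom_bijective K L n)
  have b2 := (CochainComplex.IsKProjective.Qh_map_bijective K
    ((HomotopyCategory.quotient C _).obj (L'⟦n⟧))).comp (CohomologyClass.toHom_bijective K L' n)
  constructor
  · intro x y hxy
    apply b1.1
    have := congrArg (fun t => DerivedCategory.Qh.map (CohomologyClass.toHom t)) hxy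
    simp only [hsq] at this
    exact (cancel_mono _).1 this
  · intro y
    obtain ⟨x, hx⟩ := b1.2 (DerivedCategory.Qh.map (CohomologyClass.toHom y) ≫
      inv (DerivedCategory.Qh.map ((HomotopyCategory.quotient C _).map (f⟦n⟧'))))
    refine ⟨x, b2.1 ?_⟩
    change DerivedCategory.Qh.map (CohomologyClass.toHom (postcompClass K f n x)) = _
    rw [hsq]
    change DerivedCategory.Qh.map (CohomologyClass.toHom x) = _ at hx
    rw [hx]; simp

end General

section ModuleCat

variable {A : Type u} [CommRing A]

lemma homCx_d_apply (K L : DRing.Cx A) (i j : ℤ) (y : Cochain K L i) :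
    ((DRing.homCx K L).d i j).hom y = δ i j y := rfl

lemma homCxMap_f_apply (K : DRing.Cx A) {L L' : DRing.Cx A} (f : L ⟶ L') (i : ℤ) (y : Cochain K L i) :
    ((DRing.homCxMap K f).f i).hom y = y.comp (Cochain.ofHom f) (add_zero i) := rfl

theorem quasiIso_homCxMap (K : DRing.Cx A) [K.IsKProjective] {L L' : DRing.Cx A} (f : L ⟶ L')
    [QuasiIso f] : QuasiIso (DRing.homCxMap K f) := by
  rw [quasiIso_iff]
  intro n
  rw [quasiIsoAt_iff]
  have hb := postcompClass_bijective K f n
  have hm : (ComplexShape.up ℤ).prev n + 1 = n := by simp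
  have hp : n + 1 = (ComplexShape.up ℤ).next n := by simp
  apply quasiIso_moduleCat_of
  · intro y hy
    -- `y` is a cocycle of degree `n`
    change Cochain K L' n at y
    have hy' : δ n (n + 1) y = 0 := by
      have h1 : ((DRing.homCx K L').d n ((ComplexShape.up ℤ).next n)).hom y = 0 := hy
      rw [homCx_d_apply] at h1
      rwa [CochainComplex.next] at h1
    obtain ⟨x, hx⟩ := hb.2 (CohomologyClass.mk (Cocycle.mk y (n + 1) rfl hy'))
    obtain ⟨z, rfl⟩ := x.mk_surjective
    rw [postcompClass_mk, ← sub_eq_zero, ← CohomologyClass.mk_sub, CohomologyClass.mk_eq_zero_iff,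
      mem_coboundaries_iff _ _ hm] at hx
    obtain ⟨β, hβ⟩ := hx
    refine ⟨z.1, -β, ?_, ?_⟩
    · change δ n ((ComplexShape.up ℤ).next n) z.1 = 0
      exact z.δ_eq_zero _
    · change y = z.1.comp (Cochain.ofHom f) (add_zero n) + δ _ n (-β)
      rw [δ_neg, hβ]
      simp
  · intro x hx hw
    change Cochain K L n at x
    have hx' : δ n (n + 1) x = 0 := by
      have h1 : ((DRing.homCx K L).d n ((ComplexShape.up ℤ).next n)).hom x = 0 := hx
      rw [homCx_d_apply] at h1
      rwa [CochainComplex.next] at h1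
    obtain ⟨w', hw'⟩ := hw
    change x.comp (Cochain.ofHom f) (add_zero n) = δ _ n w' at hw'
    have h0 : postcompClass K f n (CohomologyClass.mk (Cocycle.mk x (n + 1) rfl hx')) = 0 := by
      rw [postcompClass_mk, CohomologyClass.mk_eq_zero_iff, mem_coboundaries_iff _ _ hm]
      exact ⟨w', hw'.symm⟩
    have h1 : CohomologyClass.mk (Cocycle.mk x (n + 1) rfl hx') = 0 := hb.1 (by rw [h0, map_zero])
    rw [CohomologyClass.mk_eq_zero_iff, mem_coboundaries_iff _ _ hm] at h1
    obtain ⟨β, hβ⟩ := h1
    exact ⟨β, hβ.symm⟩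

lemma homCxQ_inverts (K : DRing.Cx A) [K.IsKProjective] :
    (HomologicalComplex.quasiIso (ModuleCat.{u} A) (ComplexShape.up ℤ)).IsInvertedBy (DRing.homCxQ K) := by
  intro L L' f hf
  rw [HomologicalComplex.mem_quasiIso_iff] at hf
  have := quasiIso_homCxMap K f
  change IsIso (DerivedCategory.Q.map (DRing.homCxMap K f))
  infer_instance

/-- For `K` K-projective, `RHom(K, L)` is computed by the Hom complex. -/
theorem rhomCx_iso (K : DRing.Cx A) [K.IsKProjective] [DRing.HasRHomCx K] (L : DRing.Cx A) :
    Nonempty ((DRing.RHomCx K).obj (DRing.toD L) ≅ DRing.toD (DRing.homCx K L)) := by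
  have h := Functor.isIso_of_isRightDerivedFunctor_of_inverts (L := DerivedCategory.Q)
    ((DRing.homCxQ K).totalRightDerived DerivedCategory.Q
      (HomologicalComplex.quasiIso (ModuleCat.{u} A) (ComplexShape.up ℤ)))
    ((DRing.homCxQ K).totalRightDerivedUnit DerivedCategory.Q
      (HomologicalComplex.quasiIso (ModuleCat.{u} A) (ComplexShape.up ℤ))) (homCxQ_inverts K)
  exact ⟨(asIso (((DRing.homCxQ K).totalRightDerivedUnit DerivedCategory.Q
      (HomologicalComplex.quasiIso (ModuleCat.{u} A) (ComplexShape.up ℤ))).app L)).symm⟩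

end ModuleCat

end Groth.Agent.R2.H30.HomCx
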