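import Mathlib
import Groth.Prelude.Def_DCoh2
import Groth.Agent.Lib.Helper21RetractFree
import Groth.Agent.R2.H30HomCx
import Groth.Agent.R2.H28AbQuasiIso

/-!
# The complex of global sections as a Hom complex out of `O_X` (helper28)

`Γ(X, M•) ≅ Hom•(O_X[0], M•)` degreewise, compatibly with differentials and postcomposition; hence
`Γ(X, -)` applied to a chain map `s` is a quasi-isomorphism as soon as postcomposition with `s` is bijective
on the cohomology classes `H^n Hom•(O_X[0], -)`.
-/

set_option autoImplicit false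
universe u
open CategoryTheory CategoryTheory.Limits AlgebraicGeometry CochainComplex CochainComplex.HomComplex
attribute [local instance] HasDerivedCategory.standard

namespace Groth.Agent.R2.H28.GammaCx

open Groth.Agent.Lib.Helper21.RetractFree Groth.Agent.R2.H30.HomCx

variable (X : Scheme.{u})

/-- `O_X` placed in degree `0` -/
noncomputable abbrev PO : CochainComplex X.Modules ℤ :=
  (CochainComplex.singleFunctor X.Modules 0).obj (Coh.structureModule X)

/-- global sections of complexes -/
noncomputable abbrev ΓC : CochainComplex X.Modules ℤ ⥤ CochainComplex Ab.{u} ℤ :=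
  (DCoh.gammaAb X).mapHomologicalComplex (ComplexShape.up ℤ)

variable {X}

/-- sections as morphisms out of `O_X` -/
noncomputable def secHom (M : X.Modules) : ((DCoh.gammaAb X).obj M) ≃+ (Coh.structureModule X ⟶ M) :=
  (unitEquiv X M).symm

lemma secHom_naturality {M N : X.Modules} (φ : M ⟶ N) (y : (DCoh.gammaAb X).obj M) :
    secHom N ((DCoh.gammaAb X).map φ y) = secHom M y ≫ φ := by
  apply (unitEquiv X N).injective
  have h1 : unitEquiv X N (secHom M y ≫ φ) = φ.app ⊤ (unitEquiv X M (secHom M y)) :=
    unitEquiv_comp X _ _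
  have h2 : unitEquiv X M (secHom M y) = y := (unitEquiv X M).apply_symm_apply y
  have h3 : unitEquiv X N (secHom N ((DCoh.gammaAb X).map φ y)) = (DCoh.gammaAb X).map φ y :=
    (unitEquiv X N).apply_symm_apply _
  refine h3.trans (Eq.trans ?_ h1.symm)
  exact (congrArg (fun t => φ.app ⊤ t) h2).symm

/-- sections as cochains out of `O_X[0]` -/
noncomputable def toCochain (M : CochainComplex X.Modules ℤ) (n : ℤ) :
    (((ΓC X).obj M).X n) ≃+ Cochain (PO X) M n :=
  (secHom (M.X n)).trans (Cochain.fromSingleEquiv (zero_add n)).symm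

lemma toCochain_apply (M : CochainComplex X.Modules ℤ) (n : ℤ) (y : ((ΓC X).obj M).X n) :
    toCochain M n y = Cochain.fromSingleMk (secHom (M.X n) y) (zero_add n) := rfl

lemma δ_toCochain (M : CochainComplex X.Modules ℤ) (n m : ℤ) (y : ((ΓC X).obj M).X n) :
    δ n m (toCochain M n y) = toCochain M m (((ΓC X).obj M).d n m y) := by
  rw [toCochain_apply, toCochain_apply, Cochain.δ_fromSingleMk _ _ m m (zero_add m)]
  congr 1
  exact (secHom_naturality (M.d n m) y).symm

lemma toCochain_comp {M N : CochainComplex X.Modules ℤ} (s : M ⟶ N) (n : ℤ)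
    (y : ((ΓC X).obj M).X n) :
    (toCochain M n y).comp (Cochain.ofHom s) (add_zero n) =
      toCochain N n (((ΓC X).map s).f n y) := by
  rw [toCochain_apply, toCochain_apply, ← Cochain.fromSingleMk_postcomp]
  congr 1
  exact (secHom_naturality (s.f n) y).symm

/-- `Γ(X, s)` is a quasi-isomorphism if postcomposition with `s` is bijective on the cohomology classes of
the Hom complexes out of `O_X[0]`. -/
theorem quasiIso_gamma_map {M N : CochainComplex X.Modules ℤ} (s : M ⟶ N)
    (hb : ∀ n, Function.Bijective (postcompClass (PO X) s n)) : QuasiIso ((ΓC X).map s) := by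
  rw [quasiIso_iff]
  intro n
  rw [quasiIsoAt_iff]
  have hb := hb n
  have hm : (ComplexShape.up ℤ).prev n + 1 = n := by simp
  have hp : n + 1 = (ComplexShape.up ℤ).next n := by simp
  apply AbQuasiIso.quasiIso_ab_of
  · intro y hy
    change ((ΓC X).obj N).X n at y
    have hy' : δ n (n + 1) (toCochain N n y) = 0 := by
      have h1 : ((ΓC X).obj N).d n ((ComplexShape.up ℤ).next n) y = 0 := hy
      rw [CochainComplex.next] at h1
      rw [δ_toCochain, h1, map_zero]
    obtain ⟨x, hx⟩ := hb.2 (CohomologyClass.mk (Cocycle.mk (toCochain N n y) (n + 1) rfl hy'))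
    obtain ⟨z, rfl⟩ := x.mk_surjective
    rw [postcompClass_mk, ← sub_eq_zero, ← CohomologyClass.mk_sub, CohomologyClass.mk_eq_zero_iff,
      mem_coboundaries_iff _ _ hm] at hx
    obtain ⟨β, hβ⟩ := hx
    obtain ⟨x, hx⟩ := (toCochain M n).surjective z.1
    obtain ⟨w, hw⟩ := (toCochain N _).surjective (-β)
    refine ⟨x, w, ?_, ?_⟩
    · change ((ΓC X).obj M).d n ((ComplexShape.up ℤ).next n) x = 0
      apply (toCochain M _).injective
      rw [← δ_toCochain, hx, map_zero]
      exact z.δ_eq_zero _
    · change y = ((ΓC X).map s).f n x + ((ΓC X).obj N).d _ n w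
      apply (toCochain N n).injective
      rw [map_add, ← δ_toCochain, ← toCochain_comp, hx, hw, δ_neg, hβ]
      simp
  · intro x hx hw
    change ((ΓC X).obj M).X n at x
    have hx' : δ n (n + 1) (toCochain M n x) = 0 := by
      have h1 : ((ΓC X).obj M).d n ((ComplexShape.up ℤ).next n) x = 0 := hx
      rw [CochainComplex.next] at h1
      rw [δ_toCochain, h1, map_zero]
    obtain ⟨w', hw'⟩ := hw
    change ((ΓC X).obj N).X ((ComplexShape.up ℤ).prev n) at w'
    change ((ΓC X).map s).f n x = ((ΓC X).obj N).d _ n w' at hw'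
    have h0 : postcompClass (PO X) s n
        (CohomologyClass.mk (Cocycle.mk (toCochain M n x) (n + 1) rfl hx')) = 0 := by
      rw [postcompClass_mk, CohomologyClass.mk_eq_zero_iff, mem_coboundaries_iff _ _ hm]
      refine ⟨toCochain N _ w', ?_⟩
      rw [δ_toCochain, ← hw', ← toCochain_comp]
      rfl
    have h1 : CohomologyClass.mk (Cocycle.mk (toCochain M n x) (n + 1) rfl hx') = 0 :=
      hb.1 (by rw [h0, map_zero])
    rw [CohomologyClass.mk_eq_zero_iff, mem_coboundaries_iff _ _ hm] at h1
    obtain ⟨β, hβ⟩ := h1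
    obtain ⟨w, hw⟩ := (toCochain M _).surjective β
    refine ⟨w, ?_⟩
    change x = ((ΓC X).obj M).d _ n w
    apply (toCochain M n).injective
    rw [← δ_toCochain, hw, hβ]
    rfl

end Groth.Agent.R2.H28.GammaCx
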