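import Mathlib
import Groth.Agent.R2.H28GammaAcyc
import Groth.Agent.R2.H28GammaCx
import Groth.Agent.Lib.Helper1Sky9
import Groth.Agent.Lib.Helper20LocFree

/-!
# `f_*` of a K-injective complex is acyclic for `Γ(Y, -)` (helper28)

For `f : X ⟶ Y` and `I` a K-injective complex of `O_X`-modules, the unit `Γ(Y, f_* I) ⟶ RΓ(Y, f_* I)` is an
isomorphism.
-/

set_option autoImplicit false
set_option linter.style.haveILetI false
set_option linter.unusedSectionVars false
universe u
open CategoryTheory CategoryTheory.Limits AlgebraicGeometry CochainComplex CochainComplex.HomComplex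

attribute [local instance] HasDerivedCategory.standard

namespace Groth.Agent.R2.H28.GammaKey

open Groth.Agent.R2.H4.DerivedAdj Groth.Agent.Lib.Helper1.Sky Groth.Agent.R2.H30.HomCx
  Groth.Agent.R2.H28.GammaAcyc Groth.Agent.R2.H28.GammaCx Groth.Agent.R2.H28.DerBase
  Groth.Agent.Lib.Helper17.KInj

section General

variable {C : Type*} [Category C] [Abelian C] [HasDerivedCategory C]

/-- bijectivity of `Qh` on morphisms between two complexes, in terms of chain maps -/
lemma Qh_map_bijective_of (P A : CochainComplex C ℤ)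
    (h1 : ∀ φ : DerivedCategory.Q.obj P ⟶ DerivedCategory.Q.obj A,
      ∃ ψ : P ⟶ A, DerivedCategory.Q.map ψ = φ)
    (h2 : ∀ ψ : P ⟶ A, DerivedCategory.Q.map ψ = 0 → Nonempty (Homotopy ψ 0)) :
    Function.Bijective (DerivedCategory.Qh.map :
      ((HomotopyCategory.quotient C (ComplexShape.up ℤ)).obj P ⟶
        (HomotopyCategory.quotient C (ComplexShape.up ℤ)).obj A) → _) := by
  constructor
  · intro g1 g2 h
    obtain ⟨ψ1, rfl⟩ := (HomotopyCategory.quotient C _).map_surjective g1
    obtain ⟨ψ2, rfl⟩ := (HomotopyCategory.quotient C _).map_surjective g2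
    have n1 := DerivedCategory.quotientCompQhIso_hom_naturality ψ1
    have n2 := DerivedCategory.quotientCompQhIso_hom_naturality ψ2
    have h3 : DerivedCategory.Q.map ψ1 = DerivedCategory.Q.map ψ2 := by
      rw [← cancel_epi ((DerivedCategory.quotientCompQhIso C).hom.app P), ← n1, ← n2, h]
    have h4 : DerivedCategory.Q.map (ψ1 - ψ2) = 0 := by
      rw [Functor.map_sub, h3, sub_self]
    obtain ⟨ho⟩ := h2 _ h4
    exact HomotopyCategory.eq_of_homotopy _ _ (Homotopy.equivSubZero.symm ho)
  · intro φ'
    obtain ⟨ψ, hψ⟩ := h1 ((DerivedCategory.quotientCompQhIso C).inv.app P ≫ φ' ≫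
      (DerivedCategory.quotientCompQhIso C).hom.app A)
    refine ⟨(HomotopyCategory.quotient C _).map ψ, ?_⟩
    have n1 := DerivedCategory.quotientCompQhIso_hom_naturality ψ
    rw [hψ, Iso.hom_inv_id_app_assoc] at n1
    exact (cancel_mono _).1 n1

/-- transport of the bijectivity of `Qh` along an isomorphism of complexes -/
lemma Qh_map_bijective_of_iso (K : HomotopyCategory C (ComplexShape.up ℤ))
    {A B : CochainComplex C ℤ} (e : A ≅ B)
    (h : Function.Bijective (DerivedCategory.Qh.map :
      (K ⟶ (HomotopyCategory.quotient C (ComplexShape.up ℤ)).obj A) → _)) :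
    Function.Bijective (DerivedCategory.Qh.map :
      (K ⟶ (HomotopyCategory.quotient C (ComplexShape.up ℤ)).obj B) → _) := by
  let e' := (HomotopyCategory.quotient C (ComplexShape.up ℤ)).mapIso e
  constructor
  · intro g1 g2 hg
    have h1 : DerivedCategory.Qh.map (g1 ≫ e'.inv) = DerivedCategory.Qh.map (g2 ≫ e'.inv) := by
      rw [Functor.map_comp, Functor.map_comp, hg]
    exact (cancel_mono e'.inv).1 (h.1 h1)
  · intro φ
    obtain ⟨g, hg⟩ := h.2 (φ ≫ DerivedCategory.Qh.map e'.inv)
    refine ⟨g ≫ e'.hom, ?_⟩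
    rw [Functor.map_comp, hg, Category.assoc, ← Functor.map_comp, Iso.inv_hom_id,
      CategoryTheory.Functor.map_id, Category.comp_id]

/-- postcomposition with a quasi-isomorphism to a K-injective complex is bijective on cohomology classes of
Hom complexes out of `P`, provided morphisms from `P` to the shifts of the source are the same in the homotopy
category and in the derived category. -/
theorem postcompClass_bijective_of (P : CochainComplex C ℤ) {M J : CochainComplex C ℤ} (s : M ⟶ J)
    [QuasiIso s] [J.IsKInjective] (n : ℤ)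
    (hM : Function.Bijective (DerivedCategory.Qh.map :
      ((HomotopyCategory.quotient C (ComplexShape.up ℤ)).obj P ⟶
        (HomotopyCategory.quotient C (ComplexShape.up ℤ)).obj (M⟦n⟧)) → _)) :
    Function.Bijective (postcompClass P s n) := by
  have : QuasiIso (s⟦n⟧') := inferInstance
  have hiso : IsIso (DerivedCategory.Qh.map ((HomotopyCategory.quotient C _).map (s⟦n⟧'))) := by
    have h := DerivedCategory.quotientCompQhIso_hom_naturality (s⟦n⟧')
    have : DerivedCategory.Qh.map ((HomotopyCategory.quotient C _).map (s⟦n⟧')) =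
        (DerivedCategory.quotientCompQhIso C).hom.app _ ≫ DerivedCategory.Q.map (s⟦n⟧') ≫
          (DerivedCategory.quotientCompQhIso C).inv.app _ := by
      rw [← reassoc_of% h]; simp
    rw [this]; infer_instance
  have hsq : ∀ x, DerivedCategory.Qh.map (CohomologyClass.toHom (postcompClass P s n x)) =
      DerivedCategory.Qh.map (CohomologyClass.toHom x) ≫
        DerivedCategory.Qh.map ((HomotopyCategory.quotient C _).map (s⟦n⟧')) := by
    intro x; rw [toHom_postcompClass, Functor.map_comp]
  have b1 := hM.comp (CohomologyClass.toHom_bijective P M n)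
  have b2 := (CochainComplex.IsKInjective.Qh_map_bijective
    ((HomotopyCategory.quotient C _).obj P) (J⟦n⟧)).comp (CohomologyClass.toHom_bijective P J n)
  constructor
  · intro x y hxy
    apply b1.1
    have := congrArg (fun t => DerivedCategory.Qh.map (CohomologyClass.toHom t)) hxy
    simp only [hsq] at this
    exact (cancel_mono _).1 this
  · intro y
    obtain ⟨x, hx⟩ := b1.2 (DerivedCategory.Qh.map (CohomologyClass.toHom y) ≫
      inv (DerivedCategory.Qh.map ((HomotopyCategory.quotient C _).map (s⟦n⟧'))))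
    refine ⟨x, b2.1 ?_⟩
    change DerivedCategory.Qh.map (CohomologyClass.toHom (postcompClass P s n x)) = _
    rw [hsq]
    change DerivedCategory.Qh.map (CohomologyClass.toHom x) = _ at hx
    rw [hx]; simp

end General

section Scheme

open Groth.Agent.Lib.Helper20.LocFree

variable {X Y : Scheme.{u}}

lemma isFinLocFree_structureModule (Y : Scheme.{u}) :
    FlatMod.IsFinLocFree (Coh.structureModule Y) :=
  isFinLocFree_of_retract (n := 1) (Sigma.ι (fun _ : Fin 1 => Coh.structureModule Y) 0)
    (Sigma.desc (fun _ => 𝟙 _)) (by simp)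

lemma isFinLocFree_of_isZero {M : Y.Modules} (h : IsZero M) : FlatMod.IsFinLocFree M :=
  isFinLocFree_of_retract (n := 0) 0 0 (h.eq_of_src _ _)

lemma isFinLocFree_of_iso {M N : Y.Modules} (e : M ≅ N) (h : FlatMod.IsFinLocFree M) :
    FlatMod.IsFinLocFree N := fun x => by
  obtain ⟨U, n, hx, ⟨i⟩⟩ := h x
  exact ⟨U, n, hx, ⟨(Scheme.Modules.restrictFunctor U.ι).mapIso e.symm ≪≫ i⟩⟩

lemma isStrictlyPerfect_PO (Y : Scheme.{u}) : DCoh.IsStrictlyPerfect (PO Y) := by
  refine ⟨⟨0, 0, fun i hi => ?_⟩, fun i => ?_⟩
  · exact HomologicalComplex.isZero_single_obj_X _ _ _ _ (by rcases hi with h | h <;> omega)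
  · by_cases hi : i = 0
    · subst hi
      exact isFinLocFree_of_iso
        (HomologicalComplex.singleObjXSelf (ComplexShape.up ℤ) 0 (Coh.structureModule Y)).symm
        (isFinLocFree_structureModule Y)
    · exact isFinLocFree_of_isZero (HomologicalComplex.isZero_single_obj_X _ _ _ _ hi)

variable (f : X ⟶ Y) [DCoh.HasLpull f] [DCoh.HasRpush f]

lemma isIso_lpullCounitQ_PO : IsIso ((lpullCounitQ f).app (PO Y)) :=
  isIso_lpullCounitQ_app f (PO Y) (kffs_of_isStrictlyPerfect (PO Y) (isStrictlyPerfect_PO Y))

/-- morphisms from `O_Y` to the shifts of `f_* I`, `I` K-injective, are the same in the homotopy category and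
in the derived category -/
theorem Qh_map_bijective_push (I : CochainComplex X.Modules ℤ) [I.IsKInjective] (n : ℤ) :
    Function.Bijective (DerivedCategory.Qh.map :
      ((HomotopyCategory.quotient Y.Modules (ComplexShape.up ℤ)).obj (PO Y) ⟶
        (HomotopyCategory.quotient Y.Modules (ComplexShape.up ℤ)).obj
          (((pushC f).obj I)⟦n⟧)) → _) := by
  have hP := isIso_lpullCounitQ_PO f
  have h := Qh_map_bijective_of (PO Y) ((pushC f).obj (I⟦n⟧)) (exists_Q_map_eq f _ _ hP)
    (nonempty_homotopy_zero f _ _ hP)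
  exact Qh_map_bijective_of_iso _
    (((Scheme.Modules.pushforward f).mapCochainComplexShiftIso n).app I) h

/-- global sections of a K-injective resolution of `f_* I` -/
theorem quasiIso_gamma_map_of_resolution (I : CochainComplex X.Modules ℤ) [I.IsKInjective]
    {J : CochainComplex Y.Modules ℤ} (s : (pushC f).obj I ⟶ J) [QuasiIso s] [J.IsKInjective] :
    QuasiIso ((ΓC Y).map s) :=
  quasiIso_gamma_map s (fun n => postcompClass_bijective_of (PO Y) s n (Qh_map_bijective_push f I n))

/-- `f_*` of a K-injective complex is acyclic for global sections -/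
theorem isIso_unitΓ_push [DCoh.HasRΓ Y] (I : CochainComplex X.Modules ℤ) [I.IsKInjective] :
    IsIso ((unitΓ Y).app ((pushC f).obj I)) := by
  obtain ⟨J, s, hK, hq, -, -⟩ := exists_kInjective_resolution.{u} Y.Modules ((pushC f).obj I)
  haveI := hK
  haveI := hq
  have nat := (unitΓ Y).naturality s
  haveI h1 : IsIso ((unitΓ Y).app J) :=
    isIso_app_of_isKInjective (DCoh.gammaAb Y) (DCoh.RΓ Y) (unitΓ Y) J
  haveI h2 : IsIso (DerivedCategory.Q.map s) := by
    rw [DerivedCategory.isIso_Q_map_iff_quasiIso]; exact hq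
  haveI h3 : IsIso ((DerivedCategory.Q ⋙ DCoh.RΓ Y).map s) := by
    change IsIso ((DCoh.RΓ Y).map (DerivedCategory.Q.map s))
    infer_instance
  haveI h4 : IsIso (((DCoh.gammaAb Y).mapHomologicalComplex (ComplexShape.up ℤ) ⋙
      DerivedCategory.Q).map s) := by
    change IsIso (DerivedCategory.Q.map ((ΓC Y).map s))
    rw [DerivedCategory.isIso_Q_map_iff_quasiIso]
    exact quasiIso_gamma_map_of_resolution f I s
  have h5 : IsIso ((unitΓ Y).app ((pushC f).obj I) ≫ (DerivedCategory.Q ⋙ DCoh.RΓ Y).map s) := by
    rw [← nat]; infer_instance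
  exact IsIso.of_isIso_comp_right _ ((DerivedCategory.Q ⋙ DCoh.RΓ Y).map s)

end Scheme

end Groth.Agent.R2.H28.GammaKey
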