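import Groth.Agent.Lib.Helper17KInjD4

/-!
# Existence of unbounded right derived functors on the homotopy category (helper28)

For an additive functor `G : B ⥤ A` out of a Grothendieck abelian category, the functor
`K(B) ⥤ D(A)` induced by `G` has a total right derived functor with respect to quasi-isomorphisms
(so that e.g. `DCoh.HasRpush f` and `DCoh.HasRΓ X` hold for all morphisms of schemes / schemes).
-/

set_option autoImplicit false
set_option linter.style.haveILetI false
set_option linter.unusedSimpArgs false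
universe w w₁ w₂ v v' u u'
open CategoryTheory CategoryTheory.Limits

namespace Groth.Agent.R2.H28.HasRDer

open Groth.Agent.Lib.Helper17.KInj

variable {A : Type u} [Category.{v} A] [Abelian A] {B : Type u'} [Category.{v'} B] [Abelian B]
  [IsGrothendieckAbelian.{w} B] [HasDerivedCategory.{w₁} A] [HasDerivedCategory.{w₂} B]
  (G : B ⥤ A) [G.Additive]

theorem hasRightDerivedFunctor_K :
    (G.mapHomotopyCategory (ComplexShape.up ℤ) ⋙ DerivedCategory.Qh).HasRightDerivedFunctor
      (HomotopyCategory.quasiIso B (ComplexShape.up ℤ)) := by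
  have hD := fibLocalizerMorphism_derives
    (G.mapHomologicalComplex (ComplexShape.up ℤ) ⋙ DerivedCategory.Q)
    (isInvertedBy_mapHomologicalComplex_comp_Q G)
  haveI := hD.hasPointwiseRightDerivedFunctor
  let F' := G.mapHomologicalComplex (ComplexShape.up ℤ) ⋙ DerivedCategory.Q (C := A)
  let W := HomologicalComplex.quasiIso B (ComplexShape.up ℤ)
  let RG := F'.totalRightDerived DerivedCategory.Q W
  let α : F' ⟶ DerivedCategory.Q ⋙ RG := F'.totalRightDerivedUnit DerivedCategory.Q W
  haveI hα : RG.IsLeftKanExtension α :=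
    Functor.IsRightDerivedFunctor.isLeftKanExtension RG α W
  let τ : HomotopyCategory.quotient B (ComplexShape.up ℤ) ⋙
        (G.mapHomotopyCategory (ComplexShape.up ℤ) ⋙ DerivedCategory.Qh) ⟶
      HomotopyCategory.quotient B (ComplexShape.up ℤ) ⋙ (DerivedCategory.Qh ⋙ RG) :=
    (isoF₀ G).hom ≫ α ≫ Functor.whiskerRight (DerivedCategory.quotientCompQhIso B).inv RG ≫
      (Functor.associator _ _ _).hom
  let βK : G.mapHomotopyCategory (ComplexShape.up ℤ) ⋙ DerivedCategory.Qh ⟶
      DerivedCategory.Qh ⋙ RG :=
    Localization.liftNatTrans (HomotopyCategory.quotient B (ComplexShape.up ℤ))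
      (HomologicalComplex.homotopyEquivalences B (ComplexShape.up ℤ)) _ _
      (G.mapHomotopyCategory (ComplexShape.up ℤ) ⋙ DerivedCategory.Qh) (DerivedCategory.Qh ⋙ RG) τ
  have hβ : ∀ K, βK.app ((HomotopyCategory.quotient B (ComplexShape.up ℤ)).obj K) = τ.app K := by
    intro K
    have := Localization.liftNatTrans_app (HomotopyCategory.quotient B (ComplexShape.up ℤ))
      (HomologicalComplex.homotopyEquivalences B (ComplexShape.up ℤ)) _ _
      (G.mapHomotopyCategory (ComplexShape.up ℤ) ⋙ DerivedCategory.Qh) (DerivedCategory.Qh ⋙ RG) τ K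
    refine this.trans ?_
    change 𝟙 _ ≫ τ.app K ≫ 𝟙 _ = τ.app K
    rw [Category.id_comp, Category.comp_id]
  have hγ : γOfK G RG βK = (isoF₀ G).hom ≫ α := by
    ext K
    simp only [γOfK, NatTrans.comp_app, NatTrans.id_app, Functor.whiskerLeft_app,
      Functor.associator_inv_app, Functor.whiskerRight_app, Category.id_comp]
    rw [hβ K]
    simp only [τ, NatTrans.comp_app, Functor.whiskerRight_app, Functor.associator_hom_app,
      Category.assoc, Category.comp_id, Category.id_comp]
    rw [← RG.map_comp, Iso.inv_hom_id_app]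
    simp
  haveI h1 : (G.mapHomotopyCategory (ComplexShape.up ℤ) ⋙
      DerivedCategory.Qh (C := A)).IsLeftKanExtension
      (𝟙 (HomotopyCategory.quotient B (ComplexShape.up ℤ) ⋙
        (G.mapHomotopyCategory (ComplexShape.up ℤ) ⋙ DerivedCategory.Qh))) :=
    (Functor.isRightDerivedFunctor_of_inverts
      (HomologicalComplex.homotopyEquivalences B (ComplexShape.up ℤ))
      (G.mapHomotopyCategory (ComplexShape.up ℤ) ⋙ DerivedCategory.Qh (C := A))
      (Iso.refl _)).isLeftKanExtension
  have h3 : RG.IsLeftKanExtension (γOfK G RG βK) :=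
    (Functor.isLeftKanExtension_iff_of_iso₂ (γOfK G RG βK) α (isoF₀ G)
      (Iso.refl RG) (by rw [hγ]; simp)).2 hα
  have h2 : RG.IsLeftKanExtension βK :=
    (Functor.isLeftKanExtension_iff_postcompose
      (𝟙 (HomotopyCategory.quotient B (ComplexShape.up ℤ) ⋙
        (G.mapHomotopyCategory (ComplexShape.up ℤ) ⋙ DerivedCategory.Qh)))
      (L' := DerivedCategory.Qh) (L'' := DerivedCategory.Q)
      (DerivedCategory.quotientCompQhIso B) βK (γOfK G RG βK) rfl).2 h3
  rw [Functor.hasRightDerivedFunctor_iff _ DerivedCategory.Qh]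
  exact Functor.HasLeftKanExtension.mk RG βK

end Groth.Agent.R2.H28.HasRDer
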