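import Mathlib

/-!
# An abstract Mayer–Vietoris split exact sequence (helper28)

`AU AV : 𝒜 ⥤ 𝒜` additive endofunctors with `ηU : 𝟭 ⟶ AU`, `ηV : 𝟭 ⟶ AV` (think `j_* j^*` for two
opens).  For an object `J` such that `ηU.app J` has a section and `ηV` is invertible on a kernel of
`ηU.app J`, the sequence `0 ⟶ J ⟶ AU J ⊞ AV J ⟶ AV (AU J) ⟶ 0` is split exact.
-/

set_option autoImplicit false
set_option linter.unusedSectionVars false
set_option linter.unusedSimpArgs false
universe v u
open CategoryTheory CategoryTheory.Limits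

namespace Groth.Agent.R2.H28.MVAbstract

variable {𝒜 : Type u} [Category.{v} 𝒜] [Preadditive 𝒜] [HasBinaryBiproducts 𝒜]
  (AU AV : 𝒜 ⥤ 𝒜) [AU.Additive] [AV.Additive] (ηU : 𝟭 𝒜 ⟶ AU) (ηV : 𝟭 𝒜 ⟶ AV)

/-- the middle functor `J ↦ AU J ⊞ AV J` -/
@[simps]
noncomputable def Mid : 𝒜 ⥤ 𝒜 where
  obj J := AU.obj J ⊞ AV.obj J
  map f := biprod.map (AU.map f) (AV.map f)

instance : (Mid AU AV).Additive where
  map_add {X Y f g} := by
    change biprod.map (AU.map (f + g)) (AV.map (f + g)) =
      biprod.map (AU.map f) (AV.map f) + biprod.map (AU.map g) (AV.map g)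
    apply biprod.hom_ext <;> apply biprod.hom_ext' <;> simp [Functor.map_add]

/-- `J ⟶ AU J ⊞ AV J` -/
@[simps]
noncomputable def aNat : 𝟭 𝒜 ⟶ Mid AU AV where
  app J := biprod.lift (ηU.app J) (ηV.app J)
  naturality X Y f := by
    change f ≫ biprod.lift (ηU.app Y) (ηV.app Y) =
      biprod.lift (ηU.app X) (ηV.app X) ≫ biprod.map (AU.map f) (AV.map f)
    apply biprod.hom_ext
    · simpa using ηU.naturality f
    · simpa using ηV.naturality f

/-- `AU J ⊞ AV J ⟶ AV (AU J)` -/
@[simps]
noncomputable def bNat : Mid AU AV ⟶ AU ⋙ AV where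
  app J := biprod.desc (ηV.app (AU.obj J)) (-(AV.map (ηU.app J)))
  naturality X Y f := by
    change biprod.map (AU.map f) (AV.map f) ≫ biprod.desc (ηV.app (AU.obj Y)) (-(AV.map (ηU.app Y))) =
      biprod.desc (ηV.app (AU.obj X)) (-(AV.map (ηU.app X))) ≫ AV.map (AU.map f)
    apply biprod.hom_ext'
    · simpa using ηV.naturality (AU.map f)
    · have h := ηU.naturality f
      dsimp at h
      simp only [biprod.inr_map_assoc, biprod.inr_desc, Preadditive.comp_neg, biprod.inr_desc_assoc,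
        Preadditive.neg_comp, ← AV.map_comp, h]

lemma aNat_bNat : aNat AU AV ηU ηV ≫ bNat AU AV ηU ηV = 0 := by
  ext J
  have h := ηV.naturality (ηU.app J)
  dsimp at h
  change biprod.lift (ηU.app J) (ηV.app J) ≫
    biprod.desc (ηV.app (AU.obj J)) (-(AV.map (ηU.app J))) = 0
  rw [biprod.lift_desc, h, Preadditive.comp_neg, add_neg_cancel]

/-- the Mayer–Vietoris short complex at `J` -/
@[simps]
noncomputable def mvSC (J : 𝒜) : ShortComplex 𝒜 :=
  ShortComplex.mk ((aNat AU AV ηU ηV).app J) ((bNat AU AV ηU ηV).app J)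
    (by rw [← NatTrans.comp_app, aNat_bNat]; rfl)


section Splitting

variable {AU AV ηU ηV} {J K : 𝒜} (s : AU.obj J ⟶ J) (hs : s ≫ ηU.app J = 𝟙 _)
  (κ : K ⟶ J) (π : J ⟶ K) (hκπ : κ ≫ π = 𝟙 K) (hπκ : π ≫ κ = 𝟙 J - (ηU.app J ≫ s : J ⟶ J))
  [IsIso (ηV.app K)]

include hs hκπ hπκ in
lemma κ_comp_ηU : κ ≫ ηU.app J = 0 := by
  have h1 : κ ≫ ηU.app J = κ ≫ (π ≫ κ) ≫ ηU.app J := by
    rw [← Category.assoc, ← Category.assoc, hκπ, Category.id_comp]
  rw [h1, hπκ, Preadditive.sub_comp, Category.id_comp, Category.assoc, hs, Category.comp_id,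
    sub_self, comp_zero]

/-- the splitting of the Mayer–Vietoris short complex -/
noncomputable def splitting : (mvSC AU AV ηU ηV J).Splitting where
  r := biprod.desc s (AV.map π ≫ inv (ηV.app K) ≫ κ)
  s := -(AV.map s ≫ biprod.inr)
  f_r := by
    change biprod.lift (ηU.app J) (ηV.app J) ≫
      biprod.desc s (AV.map π ≫ inv (ηV.app K) ≫ κ) = 𝟙 J
    have h1 : ηV.app J ≫ AV.map π = π ≫ ηV.app K := (ηV.naturality π).symm
    rw [biprod.lift_desc, ← Category.assoc (ηV.app J), h1, Category.assoc,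
      IsIso.hom_inv_id_assoc, hπκ]
    abel
  s_g := by
    change (-(AV.map s ≫ biprod.inr)) ≫
      biprod.desc (ηV.app (AU.obj J)) (-(AV.map (ηU.app J))) = 𝟙 (AV.obj (AU.obj J))
    rw [Preadditive.neg_comp, Category.assoc, biprod.inr_desc, Preadditive.comp_neg, neg_neg,
      ← AV.map_comp, hs, AV.map_id]
  id := by
    let p : J ⟶ AU.obj J := ηU.app J
    let q : J ⟶ AV.obj J := ηV.app J
    let vP : AU.obj J ⟶ AV.obj (AU.obj J) := ηV.app (AU.obj J)
    let θ : K ⟶ AV.obj K := ηV.app K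
    have hκη : κ ≫ p = 0 := κ_comp_ηU s hs κ π hκπ hπκ
    have hs' : s ≫ p = 𝟙 _ := hs
    have h2 : s ≫ q = vP ≫ AV.map s := ηV.naturality s
    have h3 : κ ≫ q = θ ≫ AV.map κ := ηV.naturality κ
    have h4 : AV.map π ≫ AV.map κ = 𝟙 _ - AV.map p ≫ AV.map s := by
      rw [← AV.map_comp, hπκ, AV.map_sub, AV.map_id, AV.map_comp]
    have key : biprod.desc s (AV.map π ≫ inv θ ≫ κ) ≫ biprod.lift p q +
        biprod.desc vP (-(AV.map p)) ≫ (-(AV.map s ≫ biprod.inr)) =
        𝟙 (AU.obj J ⊞ AV.obj J) := by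
      apply biprod.hom_ext' <;> apply biprod.hom_ext
      · simp [hs']
      · simp only [Preadditive.comp_add, biprod.inl_desc_assoc, Preadditive.add_comp,
          Category.assoc, biprod.lift_snd, Preadditive.comp_neg, Preadditive.neg_comp,
          biprod.inr_snd, Category.comp_id, biprod.inl_snd, Category.id_comp]
        rw [h2]
        simp
      · simp only [Preadditive.comp_add, biprod.inr_desc_assoc, Preadditive.add_comp,
          Category.assoc, biprod.lift_fst, Preadditive.comp_neg, Preadditive.neg_comp,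
          biprod.inr_fst, comp_zero, neg_zero, add_zero, Category.id_comp]
        rw [hκη]
        simp
      · simp only [Preadditive.comp_add, biprod.inr_desc_assoc, Preadditive.add_comp,
          Category.assoc, biprod.lift_snd, Preadditive.comp_neg, Preadditive.neg_comp,
          biprod.inr_snd, Category.comp_id, neg_neg, Category.id_comp]
        rw [h3, IsIso.inv_hom_id_assoc, h4]
        abel
    exact key

end Splitting


section Proj

/-- the projection `AU J ⊞ AV J ⟶ AU J` -/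
@[simps]
noncomputable def fstN : Mid AU AV ⟶ AU where
  app J := biprod.fst
  naturality X Y f := by
    change biprod.map (AU.map f) (AV.map f) ≫ biprod.fst = biprod.fst ≫ AU.map f
    simp

/-- the projection `AU J ⊞ AV J ⟶ AV J` -/
@[simps]
noncomputable def sndN : Mid AU AV ⟶ AV where
  app J := biprod.snd
  naturality X Y f := by
    change biprod.map (AU.map f) (AV.map f) ≫ biprod.snd = biprod.snd ≫ AV.map f
    simp

/-- the inclusion `AU J ⟶ AU J ⊞ AV J` -/
@[simps]
noncomputable def inlN : AU ⟶ Mid AU AV where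
  app J := biprod.inl
  naturality X Y f := by
    change AU.map f ≫ biprod.inl = biprod.inl ≫ biprod.map (AU.map f) (AV.map f)
    simp

/-- the inclusion `AV J ⟶ AU J ⊞ AV J` -/
@[simps]
noncomputable def inrN : AV ⟶ Mid AU AV where
  app J := biprod.inr
  naturality X Y f := by
    change AV.map f ≫ biprod.inr = biprod.inr ≫ biprod.map (AU.map f) (AV.map f)
    simp

lemma inlN_fstN : inlN AU AV ≫ fstN AU AV = 𝟙 AU := by
  ext J; exact biprod.inl_fst

lemma inlN_sndN : inlN AU AV ≫ sndN AU AV = 0 := by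
  ext J; exact biprod.inl_snd

lemma inrN_fstN : inrN AU AV ≫ fstN AU AV = 0 := by
  ext J; exact biprod.inr_fst

lemma inrN_sndN : inrN AU AV ≫ sndN AU AV = 𝟙 AV := by
  ext J; exact biprod.inr_snd

lemma totalN : fstN AU AV ≫ inlN AU AV + sndN AU AV ≫ inrN AU AV = 𝟙 (Mid AU AV) := by
  ext J; exact biprod.total

end Proj

end Groth.Agent.R2.H28.MVAbstract
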