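import Mathlib

/-!
# Adjoint triples: the unit `J ⟶ H G J` is a split epimorphism on injective objects (helper28)

For an adjoint triple `F ⊣ G ⊣ H` (think `j_! ⊣ j^* ⊣ j_*`) and an injective object `J` such that the
counit `F G K ⟶ K` is a monomorphism at `K = H G J`, the unit `J ⟶ H G J` has a section.
-/

set_option autoImplicit false
universe v₁ v₂ u₁ u₂
open CategoryTheory CategoryTheory.Limits

namespace Groth.Agent.R2.H28.TripleSplit

variable {C : Type u₁} [Category.{v₁} C] {D : Type u₂} [Category.{v₂} D]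
  {F : C ⥤ D} {G : D ⥤ C} {H : C ⥤ D} (t : Adjunction.Triple F G H)

theorem exists_section_unit (J : D) [Injective J]
    [Mono (t.adj₁.counit.app (H.obj (G.obj J)))] :
    ∃ s : H.obj (G.obj J) ⟶ J, s ≫ t.adj₂.unit.app J = 𝟙 _ := by
  let K := H.obj (G.obj J)
  let c : G.obj K ⟶ G.obj J := t.adj₂.counit.app (G.obj J)
  let φ : F.obj (G.obj K) ⟶ J := F.map c ≫ t.adj₁.counit.app J
  let ε : F.obj (G.obj K) ⟶ K := t.adj₁.counit.app K
  let s : K ⟶ J := Injective.factorThru φ ε
  have hs : ε ≫ s = φ := Injective.comp_factorThru φ ε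
  have hGs : G.map s = c := by
    have h1 : G.map ε ≫ G.map s = G.map (F.map c) ≫ G.map (t.adj₁.counit.app J) := by
      rw [← G.map_comp, hs, G.map_comp]
    have h2 : t.adj₁.unit.app (G.obj K) ≫ G.map ε = 𝟙 _ := t.adj₁.right_triangle_components K
    have h3 : t.adj₁.unit.app (G.obj K) ≫ G.map (F.map c) = c ≫ t.adj₁.unit.app (G.obj J) :=
      (t.adj₁.unit.naturality c).symm
    have h4 : t.adj₁.unit.app (G.obj J) ≫ G.map (t.adj₁.counit.app J) = 𝟙 _ :=
      t.adj₁.right_triangle_components J
    calc G.map s = (t.adj₁.unit.app (G.obj K) ≫ G.map ε) ≫ G.map s := by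
            rw [h2, Category.id_comp]
      _ = t.adj₁.unit.app (G.obj K) ≫ G.map (F.map c) ≫ G.map (t.adj₁.counit.app J) := by
            rw [Category.assoc, h1]
      _ = c ≫ t.adj₁.unit.app (G.obj J) ≫ G.map (t.adj₁.counit.app J) := by
            rw [← Category.assoc, h3, Category.assoc]
      _ = c := by rw [h4]; exact Category.comp_id c
  refine ⟨s, ?_⟩
  apply (t.adj₂.homEquiv K (G.obj J)).symm.injective
  rw [Adjunction.homEquiv_symm_apply, Adjunction.homEquiv_symm_apply, G.map_comp, hGs,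
    Category.assoc, G.map_id, Category.id_comp]
  have h5 : G.map (t.adj₂.unit.app J) ≫ t.adj₂.counit.app (G.obj J) = 𝟙 _ :=
    t.adj₂.left_triangle_components J
  rw [h5]; exact Category.comp_id c

end Groth.Agent.R2.H28.TripleSplit
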