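import Mathlib
import Groth.Agent.R2.H28ExtZeroMono
import Groth.Agent.R2.H28TripleSplit
import Groth.Agent.R2.H28MVAbstract

/-!
# The Mayer–Vietoris sequence of an injective module on a scheme covered by two opens (helper28)
-/

set_option autoImplicit false
set_option linter.style.haveILetI false
universe u
open CategoryTheory CategoryTheory.Limits AlgebraicGeometry TopologicalSpace Opposite

namespace Groth.Agent.R2.H28.MVSheaf

open Groth.Agent.Lib.Helper1.Sky Groth.Agent.Lib.Helper1.StalkTensor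
  Groth.Agent.Lib.Helper26.FpqcMod Groth.Agent.R2.H28.ExtZeroMono Groth.Agent.R2.H28.MVAbstract

variable {X : Scheme.{u}}

/-- `M ↦ j_* (M|_U)` -/
noncomputable abbrev AOp (U : X.Opens) : X.Modules ⥤ X.Modules :=
  Scheme.Modules.restrictFunctor U.ι ⋙ Scheme.Modules.pushforward U.ι

/-- the unit `M ⟶ j_* (M|_U)` -/
noncomputable abbrev ηOp (U : X.Opens) : 𝟭 X.Modules ⟶ AOp U :=
  (Scheme.Modules.restrictAdjunction U.ι).unit

instance isIso_restrict_unit (U : X.Opens) (M : X.Modules) :
    IsIso ((Scheme.Modules.restrictFunctor U.ι).map ((ηOp U).app M)) := by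
  have h := (Scheme.Modules.restrictAdjunction U.ι).left_triangle_components M
  haveI : IsIso ((Scheme.Modules.restrictAdjunction U.ι).counit.app
      ((Scheme.Modules.restrictFunctor U.ι).obj M)) := inferInstance
  exact IsIso.of_isIso_fac_right h

/-- a morphism of modules is an isomorphism if its restrictions to two covering opens are -/
lemma isIso_of_restrict (U V : X.Opens) (hUV : U ⊔ V = ⊤) {M N : X.Modules} (φ : M ⟶ N)
    (hU : IsIso ((Scheme.Modules.restrictFunctor U.ι).map φ))
    (hV : IsIso ((Scheme.Modules.restrictFunctor V.ι).map φ)) : IsIso φ := by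
  rw [isIso_iff_stalk]
  intro x
  have key : ∀ W : X.Opens, x ∈ W → IsIso ((Scheme.Modules.restrictFunctor W.ι).map φ) →
      Function.Bijective ((stalkFun x).map φ).hom := by
    intro W hx hW
    have h2 : IsIso ((Scheme.Modules.pullback W.ι).map φ) :=
      (NatIso.isIso_map_iff (Scheme.Modules.restrictFunctorIsoPullback W.ι) _).1 hW
    have h3 := ConcreteCategory.bijective_of_isIso
      ((stalkFun (⟨x, hx⟩ : W)).map ((Scheme.Modules.pullback W.ι).map φ))
    exact ⟨(injective_iff W.ι ⟨x, hx⟩ φ).1 h3.1, (surjective_iff W.ι ⟨x, hx⟩ φ).1 h3.2⟩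
  have hx : x ∈ U ⊔ V := by rw [hUV]; trivial
  rcases hx with hx | hx
  · exact key U hx hU
  · exact key V hx hV

/-- sections of a module whose restriction to `U` vanishes, over an open contained in `U` -/
lemma subsingleton_sections_of_le (U : X.Opens) (K : X.Modules)
    (hK : IsZero ((Scheme.Modules.restrictFunctor U.ι).obj K)) (O : X.Opens) (hO : O ≤ U) :
    Subsingleton Γ(K, O) := by
  have h1 : Subsingleton Γ((Scheme.Modules.restrictFunctor U.ι).obj K, U.ι ⁻¹ᵁ O) := by
    have h0 : 𝟙 ((Scheme.Modules.restrictFunctor U.ι).obj K) = 0 := hK.eq_of_src _ _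
    constructor
    intro a b
    have ha := congrArg (fun f => (Scheme.Modules.Hom.app f (U.ι ⁻¹ᵁ O)).hom a) h0
    have hb := congrArg (fun f => (Scheme.Modules.Hom.app f (U.ι ⁻¹ᵁ O)).hom b) h0
    have ha' : a = 0 := ha
    have hb' : b = 0 := hb
    rw [ha', hb']
  have e : U.ι ''ᵁ (U.ι ⁻¹ᵁ O) = O := by
    rw [Scheme.Hom.image_preimage_eq_opensRange_inf, Scheme.Opens.opensRange_ι]
    exact inf_eq_right.2 hO
  have h2 : Subsingleton Γ(K, U.ι ''ᵁ (U.ι ⁻¹ᵁ O)) := h1
  rw [e] at h2
  exact h2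


/-- if `K|_U = 0` then `(j_{V*}(K|_V))|_U = 0` -/
lemma isZero_restrict_AOp (U V : X.Opens) (K : X.Modules)
    (hK : IsZero ((Scheme.Modules.restrictFunctor U.ι).obj K)) :
    IsZero ((Scheme.Modules.restrictFunctor U.ι).obj ((AOp V).obj K)) := by
  apply isZero_of_subsingleton_sections
  intro W
  change Subsingleton Γ(K, V.ι ''ᵁ (V.ι ⁻¹ᵁ (U.ι ''ᵁ W)))
  apply subsingleton_sections_of_le U K hK
  refine (V.ι.image_preimage_le _).trans ?_
  exact (U.ι.image_le_opensRange W).trans (by simp)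

/-- the unit `K ⟶ j_{V*}(K|_V)` is an isomorphism if `K|_U = 0` and `U ∪ V = X` -/
lemma isIso_ηOp_of_isZero_restrict (U V : X.Opens) (hUV : U ⊔ V = ⊤) (K : X.Modules)
    (hK : IsZero ((Scheme.Modules.restrictFunctor U.ι).obj K)) : IsIso ((ηOp V).app K) := by
  apply isIso_of_restrict U V hUV
  · exact isIso_of_source_target_iso_zero _ hK.isoZero (isZero_restrict_AOp U V K hK).isoZero
  · infer_instance

/-- the Mayer–Vietoris sequence `0 ⟶ J ⟶ j_{U*}J|_U ⊞ j_{V*}J|_V ⟶ j_{V*}(j_{U*}J|_U)|_V ⟶ 0` of an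
injective module is split exact -/
theorem nonempty_splitting (U V : X.Opens) (hUV : U ⊔ V = ⊤) (J : X.Modules) [Injective J] :
    Nonempty (mvSC (AOp U) (AOp V) (ηOp U) (ηOp V) J).Splitting := by
  haveI : Mono ((triple U).adj₁.counit.app ((Scheme.Modules.pushforward U.ι).obj
      ((Scheme.Modules.restrictFunctor U.ι).obj J))) :=
    mono_extZero_counit U ((Scheme.Modules.pushforward U.ι).obj
      ((Scheme.Modules.restrictFunctor U.ι).obj J))
  obtain ⟨s, hs⟩ := Groth.Agent.R2.H28.TripleSplit.exists_section_unit (triple U) J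
  have hs' : s ≫ (ηOp U).app J = 𝟙 _ := hs
  let p : J ⟶ (AOp U).obj J := (ηOp U).app J
  have hsp : s ≫ p = 𝟙 _ := hs'
  have h0 : (𝟙 J - p ≫ s) ≫ p = 0 := by
    rw [Preadditive.sub_comp, Category.id_comp, Category.assoc, hsp]
    exact sub_eq_zero.2 (Category.comp_id p).symm
  let κ : kernel p ⟶ J := kernel.ι p
  let π : J ⟶ kernel p := kernel.lift p (𝟙 J - p ≫ s) h0
  have hπκ : π ≫ κ = 𝟙 J - p ≫ s := kernel.lift_ι _ _ _
  have hκπ : κ ≫ π = 𝟙 _ := by
    rw [← cancel_mono κ, Category.assoc, hπκ, Preadditive.comp_sub, Category.comp_id,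
      Category.id_comp, ← Category.assoc, kernel.condition, zero_comp, sub_zero]
  have hK : IsZero ((Scheme.Modules.restrictFunctor U.ι).obj (kernel p)) := by
    rw [IsZero.iff_id_eq_zero]
    have h1 : (Scheme.Modules.restrictFunctor U.ι).map κ ≫
        (Scheme.Modules.restrictFunctor U.ι).map p = 0 := by
      rw [← Functor.map_comp, kernel.condition, Functor.map_zero]
    haveI : IsIso ((Scheme.Modules.restrictFunctor U.ι).map p) := isIso_restrict_unit U J
    have h2 : (Scheme.Modules.restrictFunctor U.ι).map κ = 0 := by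
      rw [← cancel_mono ((Scheme.Modules.restrictFunctor U.ι).map p), h1, zero_comp]
    rw [← (Scheme.Modules.restrictFunctor U.ι).map_id, ← hκπ, Functor.map_comp, h2, zero_comp]
  haveI : IsIso ((ηOp V).app (kernel p)) := isIso_ηOp_of_isZero_restrict U V hUV _ hK
  exact ⟨splitting s hs' κ π hκπ hπκ⟩

end Groth.Agent.R2.H28.MVSheaf
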