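import Mathlib
import Groth.Agent.R2.H28MVAbstract

/-!
# From termwise split Mayer–Vietoris sequences to distinguished triangles (helper28)
-/

set_option autoImplicit false
set_option linter.unusedSectionVars false
universe w v v' u u'
open CategoryTheory CategoryTheory.Limits CategoryTheory.Pretriangulated

namespace Groth.Agent.R2.H28.MVTriangle

open Groth.Agent.R2.H28.MVAbstract

section Replace

variable {T : Type u} [Category.{v} T] [Preadditive T] [HasZeroObject T] [HasShift T ℤ]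
  [∀ n : ℤ, (shiftFunctor T n).Additive] [Pretriangulated T]

/-- replacing the vertices of a distinguished triangle by isomorphic objects -/
theorem exists_triangle_of_isos (Tr : Triangle T) (hT : Tr ∈ distTriang T) {Y₁ Y₂ Y₃ : T}
    (e₁ : Tr.obj₁ ≅ Y₁) (e₂ : Tr.obj₂ ≅ Y₂) (e₃ : Tr.obj₃ ≅ Y₃) :
    ∃ (a : Y₁ ⟶ Y₂) (b : Y₂ ⟶ Y₃) (c : Y₃ ⟶ Y₁⟦(1 : ℤ)⟧), Triangle.mk a b c ∈ distTriang T := by
  refine ⟨e₁.inv ≫ Tr.mor₁ ≫ e₂.hom, e₂.inv ≫ Tr.mor₂ ≫ e₃.hom,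
    e₃.inv ≫ Tr.mor₃ ≫ e₁.hom⟦(1 : ℤ)⟧', ?_⟩
  refine isomorphic_distinguished _ hT _ ?_
  refine Triangle.isoMk _ _ e₁.symm e₂.symm e₃.symm ?_ ?_ ?_
  · change (e₁.inv ≫ Tr.mor₁ ≫ e₂.hom) ≫ e₂.inv = e₁.inv ≫ Tr.mor₁
    rw [Category.assoc, Category.assoc, Iso.hom_inv_id, Category.comp_id]
  · change (e₂.inv ≫ Tr.mor₂ ≫ e₃.hom) ≫ e₃.inv = e₂.inv ≫ Tr.mor₂
    rw [Category.assoc, Category.assoc, Iso.hom_inv_id, Category.comp_id]
  · change (e₃.inv ≫ Tr.mor₃ ≫ e₁.hom⟦(1 : ℤ)⟧') ≫ e₁.inv⟦(1 : ℤ)⟧' = e₃.inv ≫ Tr.mor₃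
    rw [Category.assoc, Category.assoc, ← Functor.map_comp, Iso.hom_inv_id,
      CategoryTheory.Functor.map_id,
      Category.comp_id]

end Replace


section Cx

variable {𝒜 : Type u} [Category.{v} 𝒜] [Abelian 𝒜] (AU AV : 𝒜 ⥤ 𝒜) [AU.Additive] [AV.Additive]
  (ηU : 𝟭 𝒜 ⟶ AU) (ηV : 𝟭 𝒜 ⟶ AV)
  {ℬ : Type u'} [Category.{v'} ℬ] [Abelian ℬ] (G : 𝒜 ⥤ ℬ) [G.Additive]

/-- the Mayer–Vietoris short complex of complexes -/
noncomputable def mvCx (I : CochainComplex 𝒜 ℤ) : ShortComplex (CochainComplex ℬ ℤ) :=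
  ShortComplex.mk
    ((NatTrans.mapHomologicalComplex (Functor.whiskerRight (aNat AU AV ηU ηV) G)
      (ComplexShape.up ℤ)).app I)
    ((NatTrans.mapHomologicalComplex (Functor.whiskerRight (bNat AU AV ηU ηV) G)
      (ComplexShape.up ℤ)).app I)
    (by
      rw [← NatTrans.comp_app, ← NatTrans.mapHomologicalComplex_comp,
        ← Functor.whiskerRight_comp, aNat_bNat]
      ext n
      simp
      rfl)

theorem mvCx_shortExact (I : CochainComplex 𝒜 ℤ)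
    (hI : ∀ n, Nonempty (mvSC AU AV ηU ηV (I.X n)).Splitting) :
    (mvCx AU AV ηU ηV G I).ShortExact := by
  apply HomologicalComplex.shortExact_of_degreewise_shortExact
  intro n
  obtain ⟨σ⟩ := hI n
  exact (σ.map G).shortExact

end Cx


section Derived

variable {𝒜 : Type u} [Category.{v} 𝒜] [Abelian 𝒜]
  {ℬ : Type u'} [Category.{v'} ℬ] [Abelian ℬ] [HasDerivedCategory.{w} ℬ]
  (G : 𝒜 ⥤ ℬ) [G.Additive] (I : CochainComplex 𝒜 ℤ)

/-- the object `Q((F ⋙ G)• I)` of the derived category -/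
noncomputable abbrev qobj (F : 𝒜 ⥤ 𝒜) [F.Additive] : DerivedCategory ℬ :=
  DerivedCategory.Q.obj (((F ⋙ G).mapHomologicalComplex (ComplexShape.up ℤ)).obj I)

/-- the morphism induced by a natural transformation -/
noncomputable def qmap {F F' : 𝒜 ⥤ 𝒜} [F.Additive] [F'.Additive] (τ : F ⟶ F') :
    qobj G I F ⟶ qobj G I F' :=
  DerivedCategory.Q.map ((NatTrans.mapHomologicalComplex (Functor.whiskerRight τ G)
    (ComplexShape.up ℤ)).app I)

lemma qmap_id (F : 𝒜 ⥤ 𝒜) [F.Additive] : qmap G I (𝟙 F) = 𝟙 _ := by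
  unfold qmap
  rw [Functor.whiskerRight_id', NatTrans.mapHomologicalComplex_id, NatTrans.id_app,
    CategoryTheory.Functor.map_id]

lemma qmap_comp {F F' F'' : 𝒜 ⥤ 𝒜} [F.Additive] [F'.Additive] [F''.Additive] (τ : F ⟶ F')
    (τ' : F' ⟶ F'') : qmap G I (τ ≫ τ') = qmap G I τ ≫ qmap G I τ' := by
  unfold qmap
  rw [Functor.whiskerRight_comp, NatTrans.mapHomologicalComplex_comp, NatTrans.comp_app,
    Functor.map_comp]

lemma qmap_zero {F F' : 𝒜 ⥤ 𝒜} [F.Additive] [F'.Additive] :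
    qmap G I (0 : F ⟶ F') = 0 := by
  unfold qmap
  have : (NatTrans.mapHomologicalComplex (Functor.whiskerRight (0 : F ⟶ F') G)
      (ComplexShape.up ℤ)).app I = 0 := by
    ext n
    simp
    rfl
  rw [this, Functor.map_zero]

lemma qmap_add {F F' : 𝒜 ⥤ 𝒜} [F.Additive] [F'.Additive] (τ τ' : F ⟶ F') :
    qmap G I (τ + τ') = qmap G I τ + qmap G I τ' := by
  unfold qmap
  have : (NatTrans.mapHomologicalComplex (Functor.whiskerRight (τ + τ') G)
      (ComplexShape.up ℤ)).app I =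
      (NatTrans.mapHomologicalComplex (Functor.whiskerRight τ G) (ComplexShape.up ℤ)).app I +
      (NatTrans.mapHomologicalComplex (Functor.whiskerRight τ' G) (ComplexShape.up ℤ)).app I := by
    ext n
    simp [Functor.map_add]
    rfl
  rw [this, Functor.map_add]

variable (AU AV : 𝒜 ⥤ 𝒜) [AU.Additive] [AV.Additive]

/-- `Q((Mid ⋙ G)• I)` is a biproduct of `Q((AU ⋙ G)• I)` and `Q((AV ⋙ G)• I)` -/
noncomputable def midBicone : BinaryBicone (qobj G I AU) (qobj G I AV) where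
  pt := qobj G I (Mid AU AV)
  fst := qmap G I (fstN AU AV)
  snd := qmap G I (sndN AU AV)
  inl := qmap G I (inlN AU AV)
  inr := qmap G I (inrN AU AV)
  inl_fst := by rw [← qmap_comp, inlN_fstN, qmap_id]
  inl_snd := by rw [← qmap_comp, inlN_sndN, qmap_zero]
  inr_fst := by rw [← qmap_comp, inrN_fstN, qmap_zero]
  inr_snd := by rw [← qmap_comp, inrN_sndN, qmap_id]

/-- the middle vertex -/
noncomputable def midIso : qobj G I (Mid AU AV) ≅ qobj G I AU ⊞ qobj G I AV :=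
  biprod.uniqueUpToIso _ _ (b := midBicone G I AU AV)
    (isBinaryBilimitOfTotal _ (by
      change qmap G I (fstN AU AV) ≫ qmap G I (inlN AU AV) +
        qmap G I (sndN AU AV) ≫ qmap G I (inrN AU AV) = 𝟙 _
      rw [← qmap_comp, ← qmap_comp, ← qmap_add, totalN, qmap_id]))

variable (ηU : 𝟭 𝒜 ⟶ AU) (ηV : 𝟭 𝒜 ⟶ AV)

/-- the abstract Mayer–Vietoris triangle -/
theorem exists_mv_triangle (hI : ∀ n, Nonempty (mvSC AU AV ηU ηV (I.X n)).Splitting)
    {Y₁ Y₂ Y₃ : DerivedCategory ℬ} (e₁ : qobj G I (𝟭 𝒜) ≅ Y₁)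
    (e₂ : qobj G I AU ⊞ qobj G I AV ≅ Y₂) (e₃ : qobj G I (AU ⋙ AV) ≅ Y₃) :
    ∃ (a : Y₁ ⟶ Y₂) (b : Y₂ ⟶ Y₃) (c : Y₃ ⟶ Y₁⟦(1 : ℤ)⟧),
      Triangle.mk a b c ∈ distTriang (DerivedCategory ℬ) :=
  exists_triangle_of_isos _
    (DerivedCategory.triangleOfSES_distinguished (mvCx_shortExact AU AV ηU ηV G I hI))
    e₁ (midIso G I AU AV ≪≫ e₂) e₃

end Derived

end Groth.Agent.R2.H28.MVTriangle
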