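import Mathlib
import Groth.Agent.R2.H28MVSheaf
import Groth.Agent.R2.H28MVTriangle
import Groth.Agent.R2.H28DerBase

/-!
# Mayer–Vietoris triangles for `Rf_*` and `RΓ` on a scheme covered by two opens (helper28)
-/

set_option autoImplicit false
set_option linter.style.haveILetI false
universe u
open CategoryTheory CategoryTheory.Limits AlgebraicGeometry TopologicalSpace Opposite

namespace Groth.Agent.R2.H28.MVScheme

open Groth.Agent.R2.H28.MVSheaf Groth.Agent.R2.H28.MVTriangle Groth.Agent.R2.H28.MVAbstract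
  Groth.Agent.R2.H28.DerBase Groth.Agent.Lib.Helper17.KInj CategoryTheory.Pretriangulated

variable {X : Scheme.{u}}

@[reassoc]
lemma app_appIso_inv' {X Y : Scheme.{u}} (f : X ⟶ Y) [IsOpenImmersion f] (U : Y.Opens) :
    f.app U ≫ (f.appIso (f ⁻¹ᵁ U)).inv = Y.presheaf.map (homOfLE (f.image_preimage_le U)).op :=
  f.app_appIso_inv U

lemma opens_eq (U V W : X.Opens) :
    (U ⊓ V).ι ''ᵁ ((U ⊓ V).ι ⁻¹ᵁ W) = U.ι ''ᵁ (U.ι ⁻¹ᵁ (V.ι ''ᵁ (V.ι ⁻¹ᵁ W))) := by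
  simp only [Scheme.Hom.image_preimage_eq_opensRange_inf, Scheme.Opens.opensRange_ι]
  rw [inf_assoc]

/-- `j_{V*}((j_{U*}(M|_U))|_V) ≅ j_{UV*}(M|_{U ∩ V})` -/
noncomputable def AOpCompIso (U V : X.Opens) : AOp U ⋙ AOp V ≅ AOp (U ⊓ V) :=
  letI iU := CategoryTheory.Functor.isContinuous_comp.{u} (Opens.map U.ι.base) U.ι.opensFunctor
    (Opens.grothendieckTopology X) (Opens.grothendieckTopology U) (Opens.grothendieckTopology X)
  letI iV := CategoryTheory.Functor.isContinuous_comp.{u} (Opens.map V.ι.base) V.ι.opensFunctor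
    (Opens.grothendieckTopology X) (Opens.grothendieckTopology V) (Opens.grothendieckTopology X)
  letI iUV := CategoryTheory.Functor.isContinuous_comp.{u} (Opens.map (U ⊓ V).ι.base)
    (U ⊓ V).ι.opensFunctor
    (Opens.grothendieckTopology X) (Opens.grothendieckTopology (U ⊓ V : X.Opens))
    (Opens.grothendieckTopology X)
  letI i4 := CategoryTheory.Functor.isContinuous_comp.{u}
    (Opens.map V.ι.base ⋙ V.ι.opensFunctor) (Opens.map U.ι.base ⋙ U.ι.opensFunctor)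
    (Opens.grothendieckTopology X) (Opens.grothendieckTopology X) (Opens.grothendieckTopology X)
  (Functor.isoWhiskerRight (SheafOfModules.pushforwardComp _ _) (AOp V)) ≪≫
  (Functor.isoWhiskerLeft _ (SheafOfModules.pushforwardComp _ _)) ≪≫
  SheafOfModules.pushforwardComp _ _ ≪≫
  SheafOfModules.pushforwardCongr₂ _
    (NatIso.ofComponents (fun W => eqToIso (opens_eq U V W)) (fun _ => rfl))
    (by
      ext W x
      have key : V.ι.app W.unop ≫ (V.ι.appIso (V.ι ⁻¹ᵁ W.unop)).inv ≫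
          U.ι.app (V.ι ''ᵁ (V.ι ⁻¹ᵁ W.unop)) ≫
          (U.ι.appIso (U.ι ⁻¹ᵁ (V.ι ''ᵁ (V.ι ⁻¹ᵁ W.unop)))).inv ≫
          X.presheaf.map (eqToHom (opens_eq U V W.unop)).op =
          (U ⊓ V).ι.app W.unop ≫ ((U ⊓ V).ι.appIso ((U ⊓ V).ι ⁻¹ᵁ W.unop)).inv := by
        rw [app_appIso_inv', app_appIso_inv'_assoc, app_appIso_inv'_assoc,
          ← Functor.map_comp, ← Functor.map_comp]
        rfl
      exact congr($(key).hom x)) ≪≫
  (SheafOfModules.pushforwardComp _ _).symm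


attribute [local instance] HasDerivedCategory.standard

section Vertex

variable {Y : Scheme.{u}}

/-- the vertex `Rh_*(E|_W)` computed from a K-injective complex -/
noncomputable def vertexIso (W : X.Opens) (h : (W : Scheme.{u}) ⟶ Y) [DCoh.HasRpush h]
    (F : X.Modules ⥤ Y.Modules) [F.Additive]
    (φ : F ≅ Scheme.Modules.restrictFunctor W.ι ⋙ Scheme.Modules.pushforward h)
    (I : CochainComplex X.Modules ℤ) [I.IsKInjective] :
    DerivedCategory.Q.obj ((F.mapHomologicalComplex (ComplexShape.up ℤ)).obj I) ≅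
      (DCoh.Rpush h).obj ((DCoh.restrictD W.ι).obj (DerivedCategory.Q.obj I)) :=
  haveI := isKInjective_restrict W I
  DerivedCategory.Q.mapIso ((NatIso.mapHomologicalComplex φ (ComplexShape.up ℤ)).app I) ≪≫
    DerivedCategory.Q.mapIso ((compCxIso (Scheme.Modules.restrictFunctor W.ι)
      (Scheme.Modules.pushforward h)).app I) ≪≫
    rpushIso h (((Scheme.Modules.restrictFunctor W.ι).mapHomologicalComplex
      (ComplexShape.up ℤ)).obj I) ≪≫
    (DCoh.Rpush h).mapIso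
      (((Scheme.Modules.restrictFunctor W.ι).mapDerivedCategoryFactors).app I).symm

/-- global sections of a direct image -/
noncomputable def pushGammaIso {U X : Scheme.{u}} (j : U ⟶ X) :
    Scheme.Modules.pushforward j ⋙ DCoh.gammaAb X ≅ DCoh.gammaAb U :=
  NatIso.ofComponents (fun M => Iso.refl _) (fun f => by
    simp only [Iso.refl_hom, Category.comp_id, Category.id_comp]
    rfl)

/-- the vertex `RΓ(W, E|_W)` computed from a K-injective complex -/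
noncomputable def vertexIsoΓ (W : X.Opens) [DCoh.HasRΓ (W : Scheme.{u})]
    (F : X.Modules ⥤ AddCommGrpCat.{u}) [F.Additive]
    (φ : F ≅ Scheme.Modules.restrictFunctor W.ι ⋙ DCoh.gammaAb (W : Scheme.{u}))
    (I : CochainComplex X.Modules ℤ) [I.IsKInjective] :
    DerivedCategory.Q.obj ((F.mapHomologicalComplex (ComplexShape.up ℤ)).obj I) ≅
      (DCoh.RΓ (W : Scheme.{u})).obj ((DCoh.restrictD W.ι).obj (DerivedCategory.Q.obj I)) :=
  haveI := isKInjective_restrict W I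
  DerivedCategory.Q.mapIso ((NatIso.mapHomologicalComplex φ (ComplexShape.up ℤ)).app I) ≪≫
    DerivedCategory.Q.mapIso ((compCxIso (Scheme.Modules.restrictFunctor W.ι)
      (DCoh.gammaAb (W : Scheme.{u}))).app I) ≪≫
    rΓIso (W : Scheme.{u}) (((Scheme.Modules.restrictFunctor W.ι).mapHomologicalComplex
      (ComplexShape.up ℤ)).obj I) ≪≫
    (DCoh.RΓ (W : Scheme.{u})).mapIso
      (((Scheme.Modules.restrictFunctor W.ι).mapDerivedCategoryFactors).app I).symm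

end Vertex

/-- a K-injective resolution with injective terms of an object of `D(O_X)` -/
theorem exists_resolution (E : DCoh.D X) :
    ∃ (I : CochainComplex X.Modules ℤ), I.IsKInjective ∧ (∀ n, Injective (I.X n)) ∧
      Nonempty (DerivedCategory.Q.obj I ≅ E) := by
  obtain ⟨I, ι, hK, hq, -, hinj⟩ :=
    exists_kInjective_resolution.{u} X.Modules (DerivedCategory.Q.objPreimage E)
  haveI : IsIso (DerivedCategory.Q.map ι) := by
    rw [DerivedCategory.isIso_Q_map_iff_quasiIso]; exact hq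
  exact ⟨I, hK, hinj, ⟨(asIso (DerivedCategory.Q.map ι)).symm ≪≫
    DerivedCategory.Q.objObjPreimageIso E⟩⟩


section Main

variable {Y : Scheme.{u}} (U V : X.Opens) (hUV : U ⊔ V = ⊤)

include hUV in
/-- relative Mayer–Vietoris -/
theorem mv_rpush (f : X ⟶ Y) [DCoh.HasRpush f] [DCoh.HasRpush (U.ι ≫ f)]
    [DCoh.HasRpush (V.ι ≫ f)] [DCoh.HasRpush ((U ⊓ V).ι ≫ f)] (E : DCoh.D X) :
    ∃ (a : (DCoh.Rpush f).obj E ⟶
        ((DCoh.Rpush (U.ι ≫ f)).obj ((DCoh.restrictD U.ι).obj E) ⊞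
          (DCoh.Rpush (V.ι ≫ f)).obj ((DCoh.restrictD V.ι).obj E)))
      (b : ((DCoh.Rpush (U.ι ≫ f)).obj ((DCoh.restrictD U.ι).obj E) ⊞
          (DCoh.Rpush (V.ι ≫ f)).obj ((DCoh.restrictD V.ι).obj E)) ⟶
        (DCoh.Rpush ((U ⊓ V).ι ≫ f)).obj ((DCoh.restrictD (U ⊓ V).ι).obj E))
      (c : (DCoh.Rpush ((U ⊓ V).ι ≫ f)).obj ((DCoh.restrictD (U ⊓ V).ι).obj E) ⟶
        ((DCoh.Rpush f).obj E)⟦(1 : ℤ)⟧),
      Triangle.mk a b c ∈ distTriang (DCoh.D Y) := by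
  obtain ⟨I, hK, hinj, ⟨eE⟩⟩ := exists_resolution E
  haveI := hK
  have hI : ∀ n, Nonempty (mvSC (AOp U) (AOp V) (ηOp U) (ηOp V) (I.X n)).Splitting :=
    fun n => haveI := hinj n; nonempty_splitting U V hUV (I.X n)
  let G := Scheme.Modules.pushforward f
  have φ : ∀ W : X.Opens, AOp W ⋙ G ≅
      Scheme.Modules.restrictFunctor W.ι ⋙ Scheme.Modules.pushforward (W.ι ≫ f) := fun W =>
    Functor.associator _ _ _ ≪≫
      Functor.isoWhiskerLeft _ (Scheme.Modules.pushforwardComp W.ι f)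
  let e₁ : qobj G I (𝟭 X.Modules) ≅ (DCoh.Rpush f).obj E :=
    DerivedCategory.Q.mapIso ((NatIso.mapHomologicalComplex (Functor.leftUnitor G)
      (ComplexShape.up ℤ)).app I) ≪≫ rpushIso f I ≪≫ (DCoh.Rpush f).mapIso eE
  let eU : qobj G I (AOp U) ≅ (DCoh.Rpush (U.ι ≫ f)).obj ((DCoh.restrictD U.ι).obj E) :=
    vertexIso U (U.ι ≫ f) _ (φ U) I ≪≫
      (DCoh.Rpush (U.ι ≫ f)).mapIso ((DCoh.restrictD U.ι).mapIso eE)
  let eV : qobj G I (AOp V) ≅ (DCoh.Rpush (V.ι ≫ f)).obj ((DCoh.restrictD V.ι).obj E) :=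
    vertexIso V (V.ι ≫ f) _ (φ V) I ≪≫
      (DCoh.Rpush (V.ι ≫ f)).mapIso ((DCoh.restrictD V.ι).mapIso eE)
  let e₃ : qobj G I (AOp U ⋙ AOp V) ≅
      (DCoh.Rpush ((U ⊓ V).ι ≫ f)).obj ((DCoh.restrictD (U ⊓ V).ι).obj E) :=
    vertexIso (U ⊓ V) ((U ⊓ V).ι ≫ f) _
      (Functor.isoWhiskerRight (AOpCompIso U V) G ≪≫ φ (U ⊓ V)) I ≪≫
      (DCoh.Rpush ((U ⊓ V).ι ≫ f)).mapIso ((DCoh.restrictD (U ⊓ V).ι).mapIso eE)
  exact exists_mv_triangle G I (AOp U) (AOp V) (ηOp U) (ηOp V) hI e₁ (biprod.mapIso eU eV) e₃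

include hUV in
/-- Mayer–Vietoris for `Rj_*` -/
theorem mv_rpush_open [DCoh.HasRpush U.ι] [DCoh.HasRpush V.ι] [DCoh.HasRpush (U ⊓ V).ι]
    (E : DCoh.D X) :
    ∃ (a : E ⟶ ((DCoh.Rpush U.ι).obj ((DCoh.restrictD U.ι).obj E) ⊞
          (DCoh.Rpush V.ι).obj ((DCoh.restrictD V.ι).obj E)))
      (b : ((DCoh.Rpush U.ι).obj ((DCoh.restrictD U.ι).obj E) ⊞
          (DCoh.Rpush V.ι).obj ((DCoh.restrictD V.ι).obj E)) ⟶
        (DCoh.Rpush (U ⊓ V).ι).obj ((DCoh.restrictD (U ⊓ V).ι).obj E))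
      (c : (DCoh.Rpush (U ⊓ V).ι).obj ((DCoh.restrictD (U ⊓ V).ι).obj E) ⟶ E⟦(1 : ℤ)⟧),
      Triangle.mk a b c ∈ distTriang (DCoh.D X) := by
  obtain ⟨I, hK, hinj, ⟨eE⟩⟩ := exists_resolution E
  haveI := hK
  have hI : ∀ n, Nonempty (mvSC (AOp U) (AOp V) (ηOp U) (ηOp V) (I.X n)).Splitting :=
    fun n => haveI := hinj n; nonempty_splitting U V hUV (I.X n)
  let G := 𝟭 X.Modules
  have φ : ∀ W : X.Opens, AOp W ⋙ G ≅
      Scheme.Modules.restrictFunctor W.ι ⋙ Scheme.Modules.pushforward W.ι := fun W =>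
    Functor.rightUnitor _
  let e₁ : qobj G I (𝟭 X.Modules) ≅ E :=
    DerivedCategory.Q.mapIso ((NatIso.mapHomologicalComplex (Functor.leftUnitor G)
      (ComplexShape.up ℤ)).app I) ≪≫
    DerivedCategory.Q.mapIso ((Functor.mapHomologicalComplexIdIso X.Modules
      (ComplexShape.up ℤ)).app I) ≪≫ eE
  let eU : qobj G I (AOp U) ≅ (DCoh.Rpush U.ι).obj ((DCoh.restrictD U.ι).obj E) :=
    vertexIso U U.ι _ (φ U) I ≪≫ (DCoh.Rpush U.ι).mapIso ((DCoh.restrictD U.ι).mapIso eE)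
  let eV : qobj G I (AOp V) ≅ (DCoh.Rpush V.ι).obj ((DCoh.restrictD V.ι).obj E) :=
    vertexIso V V.ι _ (φ V) I ≪≫ (DCoh.Rpush V.ι).mapIso ((DCoh.restrictD V.ι).mapIso eE)
  let e₃ : qobj G I (AOp U ⋙ AOp V) ≅
      (DCoh.Rpush (U ⊓ V).ι).obj ((DCoh.restrictD (U ⊓ V).ι).obj E) :=
    vertexIso (U ⊓ V) (U ⊓ V).ι _
      (Functor.isoWhiskerRight (AOpCompIso U V) G ≪≫ φ (U ⊓ V)) I ≪≫
      (DCoh.Rpush (U ⊓ V).ι).mapIso ((DCoh.restrictD (U ⊓ V).ι).mapIso eE)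
  exact exists_mv_triangle G I (AOp U) (AOp V) (ηOp U) (ηOp V) hI e₁ (biprod.mapIso eU eV) e₃

include hUV in
/-- Mayer–Vietoris for `RΓ` -/
theorem mv_rΓ [DCoh.HasRΓ X] [DCoh.HasRΓ (U : Scheme.{u})] [DCoh.HasRΓ (V : Scheme.{u})]
    [DCoh.HasRΓ (U ⊓ V : X.Opens)] (E : DCoh.D X) :
    ∃ (a : (DCoh.RΓ X).obj E ⟶
        ((DCoh.RΓ (U : Scheme.{u})).obj ((DCoh.restrictD U.ι).obj E) ⊞
          (DCoh.RΓ (V : Scheme.{u})).obj ((DCoh.restrictD V.ι).obj E)))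
      (b : ((DCoh.RΓ (U : Scheme.{u})).obj ((DCoh.restrictD U.ι).obj E) ⊞
          (DCoh.RΓ (V : Scheme.{u})).obj ((DCoh.restrictD V.ι).obj E)) ⟶
        (DCoh.RΓ (U ⊓ V : X.Opens)).obj ((DCoh.restrictD (U ⊓ V).ι).obj E))
      (c : (DCoh.RΓ (U ⊓ V : X.Opens)).obj ((DCoh.restrictD (U ⊓ V).ι).obj E) ⟶
        ((DCoh.RΓ X).obj E)⟦(1 : ℤ)⟧),
      Triangle.mk a b c ∈ distTriang (DerivedCategory AddCommGrpCat.{u}) := by
  obtain ⟨I, hK, hinj, ⟨eE⟩⟩ := exists_resolution E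
  haveI := hK
  have hI : ∀ n, Nonempty (mvSC (AOp U) (AOp V) (ηOp U) (ηOp V) (I.X n)).Splitting :=
    fun n => haveI := hinj n; nonempty_splitting U V hUV (I.X n)
  let G := DCoh.gammaAb X
  have φ : ∀ W : X.Opens, AOp W ⋙ G ≅
      Scheme.Modules.restrictFunctor W.ι ⋙ DCoh.gammaAb (W : Scheme.{u}) := fun W =>
    Functor.associator _ _ _ ≪≫ Functor.isoWhiskerLeft _ (pushGammaIso W.ι)
  let e₁ : qobj G I (𝟭 X.Modules) ≅ (DCoh.RΓ X).obj E :=
    DerivedCategory.Q.mapIso ((NatIso.mapHomologicalComplex (Functor.leftUnitor G)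
      (ComplexShape.up ℤ)).app I) ≪≫ rΓIso X I ≪≫ (DCoh.RΓ X).mapIso eE
  let eU : qobj G I (AOp U) ≅ (DCoh.RΓ (U : Scheme.{u})).obj ((DCoh.restrictD U.ι).obj E) :=
    vertexIsoΓ U _ (φ U) I ≪≫
      (DCoh.RΓ (U : Scheme.{u})).mapIso ((DCoh.restrictD U.ι).mapIso eE)
  let eV : qobj G I (AOp V) ≅ (DCoh.RΓ (V : Scheme.{u})).obj ((DCoh.restrictD V.ι).obj E) :=
    vertexIsoΓ V _ (φ V) I ≪≫
      (DCoh.RΓ (V : Scheme.{u})).mapIso ((DCoh.restrictD V.ι).mapIso eE)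
  let e₃ : qobj G I (AOp U ⋙ AOp V) ≅
      (DCoh.RΓ (U ⊓ V : X.Opens)).obj ((DCoh.restrictD (U ⊓ V).ι).obj E) :=
    vertexIsoΓ (U ⊓ V) _
      (Functor.isoWhiskerRight (AOpCompIso U V) G ≪≫ φ (U ⊓ V)) I ≪≫
      (DCoh.RΓ (U ⊓ V : X.Opens)).mapIso ((DCoh.restrictD (U ⊓ V).ι).mapIso eE)
  exact exists_mv_triangle G I (AOp U) (AOp V) (ηOp U) (ηOp V) hI e₁ (biprod.mapIso eU eV) e₃

end Main

end Groth.Agent.R2.H28.MVScheme
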