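import Mathlib
import Groth.Agent.R2.H28DerBase
import Groth.Agent.R2.H28HasRpush
import Groth.Agent.R2.H28MVScheme
import Groth.Agent.R2.H28RpushRestrict
import Groth.Agent.Lib.Helper23SS3
import Groth.Agent.Lib.Helper23QCohAbelian
import Groth.Agent.S2384

/-!
# Higher direct images of quasi-coherent modules, part A (helper28)

* `mid_of_exact`: five-term exact sequences and classes closed under kernels, cokernels, extensions;
* `hdRpushSingle`: `H^q(Rf_*(M[0])) ≅ R^q f_* M`;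
* `mv_good`: Mayer–Vietoris step for "`R^q f_*` preserves quasi-coherence".
-/

set_option autoImplicit false
set_option linter.style.haveILetI false
universe u
open CategoryTheory CategoryTheory.Limits AlgebraicGeometry TopologicalSpace Opposite

namespace Groth.Agent.R2.H28.RpushQCoh

section Abstract

variable {𝒜 : Type*} [Category 𝒜] [Abelian 𝒜]

/-- In an exact sequence `A ⟶ B ⟶ C ⟶ D ⟶ E`, if `A, B, D, E` lie in a class closed under
isomorphisms, kernels, cokernels and extensions, then so does `C`. -/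
theorem mid_of_exact (P : 𝒜 → Prop) (hiso : ∀ {M N : 𝒜}, (M ≅ N) → P M → P N)
    (hker : ∀ {M N : 𝒜} (φ : M ⟶ N), P M → P N → P (kernel φ))
    (hcoker : ∀ {M N : 𝒜} (φ : M ⟶ N), P M → P N → P (cokernel φ))
    (hext : ∀ (S : ShortComplex 𝒜), S.ShortExact → P S.X₁ → P S.X₃ → P S.X₂)
    {A B C D E : 𝒜} (f : A ⟶ B) (g : B ⟶ C) (h : C ⟶ D) (i : D ⟶ E)
    (w₁ : f ≫ g = 0) (w₂ : g ≫ h = 0) (w₃ : h ≫ i = 0)
    (e₁ : (ShortComplex.mk f g w₁).Exact) (e₂ : (ShortComplex.mk g h w₂).Exact)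
    (e₃ : (ShortComplex.mk h i w₃).Exact)
    (hA : P A) (hB : P B) (hD : P D) (hE : P E) : P C := by
  -- `kernel h ≅ cokernel f`
  have hK : P (kernel h) := by
    let φ : cokernel f ⟶ kernel h :=
      kernel.lift h (cokernel.desc f g w₁) (by ext; simp [w₂])
    have h1 : φ ≫ kernel.ι h = cokernel.desc f g w₁ := kernel.lift_ι _ _ _
    have h2 : cokernel.π f ≫ φ = kernel.lift h g w₂ := by
      ext; simp [φ]
    haveI : Mono (cokernel.desc f g w₁) := e₁.mono_cokernelDesc
    haveI : Epi (kernel.lift h g w₂) := e₂.epi_kernelLift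
    haveI : Mono φ := mono_of_mono_fac h1
    haveI : Epi φ := epi_of_epi_fac h2
    haveI : IsIso φ := isIso_of_mono_of_epi φ
    exact hiso (asIso φ) (hcoker f hA hB)
  -- `cokernel (kernel.ι h) ≅ kernel i`
  have hQ : P (cokernel (kernel.ι h)) := by
    let ψ₀ : cokernel (kernel.ι h) ⟶ D := cokernel.desc (kernel.ι h) h (kernel.condition h)
    haveI : Mono ψ₀ :=
      (ShortComplex.exact_kernel h).mono_cokernelDesc
    let ψ : cokernel (kernel.ι h) ⟶ kernel i :=
      kernel.lift i ψ₀ (by ext; simp [ψ₀, w₃])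
    have h1 : ψ ≫ kernel.ι i = ψ₀ := kernel.lift_ι _ _ _
    have h2 : cokernel.π (kernel.ι h) ≫ ψ = kernel.lift i h w₃ := by
      ext; simp [ψ, ψ₀]
    haveI : Epi (kernel.lift i h w₃) := e₃.epi_kernelLift
    haveI : Mono ψ := mono_of_mono_fac h1
    haveI : Epi ψ := epi_of_epi_fac h2
    haveI : IsIso ψ := isIso_of_mono_of_epi ψ
    exact hiso (asIso ψ).symm (hker i hD hE)
  exact hext (ShortComplex.mk (kernel.ι h) (cokernel.π (kernel.ι h)) (cokernel.condition _))
    { exact := ShortComplex.exact_cokernel _ } hK hQ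

end Abstract

section Single

attribute [local instance] HasDerivedCategory.standard

open Groth.Agent.R2.H28.DerBase Groth.Agent.R2.H28.RpushRestrict Groth.Agent.R2.H28.HasRpush

variable {X Y : Scheme.{u}} (f : X ⟶ Y)

/-- `M[0] ≅ Q(I)` for an injective resolution `I` of `M`. -/
noncomputable def inDIso {M : X.Modules} (I : InjectiveResolution M) :
    DCoh.inD X M ≅ DerivedCategory.Q.obj I.cochainComplex :=
  (DerivedCategory.singleFunctorIsoCompQ X.Modules 0).app M ≪≫ asIso (DerivedCategory.Q.map I.ι')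

instance isKInjective_cochainComplex {M : X.Modules} (I : InjectiveResolution M) :
    I.cochainComplex.IsKInjective :=
  CochainComplex.isKInjective_of_injective I.cochainComplex 0

/-- `H^k(Rf_*(M[0]))` is the `k`-th cohomology of `f_* I`. -/
noncomputable def hdRpushIso [DCoh.HasRpush f] {M : X.Modules} (I : InjectiveResolution M) (k : ℤ) :
    DCoh.HD ((DCoh.Rpush f).obj (DCoh.inD X M)) k ≅
      (((Scheme.Modules.pushforward f).mapHomologicalComplex (ComplexShape.up ℤ)).obj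
        I.cochainComplex).homology k :=
  (DerivedCategory.homologyFunctor Y.Modules k).mapIso
      ((DCoh.Rpush f).mapIso (inDIso I) ≪≫ (rpushIso f I.cochainComplex).symm) ≪≫
    (DerivedCategory.homologyFunctorFactors Y.Modules k).app _

/-- `H^q(Rf_*(M[0])) ≅ R^q f_* M` -/
theorem hdRpushSingle [DCoh.HasRpush f] (M : X.Modules) (q : ℕ) :
    Nonempty (DCoh.HD ((DCoh.Rpush f).obj (DCoh.inD X M)) (q : ℤ) ≅ (Coh.Rpush f q).obj M) := by
  let I : InjectiveResolution M := injectiveResolution M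
  obtain ⟨e⟩ := Groth.Agent.Lib.Helper23SS3.homology_map_cochainComplex
    (Scheme.Modules.pushforward f) I q (q : ℤ) rfl
  exact ⟨hdRpushIso f I _ ≪≫ e⟩

/-- `H^k(Rf_*(M[0])) = 0` for `k < 0` -/
theorem isZero_hdRpushSingle [DCoh.HasRpush f] (M : X.Modules) (k : ℤ) (hk : k < 0) :
    IsZero (DCoh.HD ((DCoh.Rpush f).obj (DCoh.inD X M)) k) := by
  let I : InjectiveResolution M := injectiveResolution M
  exact (Groth.Agent.Lib.Helper23SS3.isZero_homology_map_cochainComplex
    (Scheme.Modules.pushforward f) I k hk).of_iso (hdRpushIso f I k)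

/-- restriction to an open subscheme commutes with `M ↦ M[0]` -/
noncomputable def restrictInDIso {U : Scheme.{u}} (j : U ⟶ X) [IsOpenImmersion j] (M : X.Modules) :
    (DCoh.restrictD j).obj (DCoh.inD X M) ≅
      DCoh.inD U ((Scheme.Modules.restrictFunctor j).obj M) :=
  (DCoh.restrictD j).mapIso ((DerivedCategory.singleFunctorIsoCompQ X.Modules 0).app M) ≪≫
    ((Scheme.Modules.restrictFunctor j).mapDerivedCategoryFactors).app _ ≪≫
    DerivedCategory.Q.mapIso ((HomologicalComplex.singleMapHomologicalComplex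
      (Scheme.Modules.restrictFunctor j) (ComplexShape.up ℤ) 0).app M) ≪≫
    ((DerivedCategory.singleFunctorIsoCompQ U.Modules 0).app _).symm

end Single

section MV

attribute [local instance] HasDerivedCategory.standard

open Groth.Agent.R2.H28.DerBase Groth.Agent.R2.H28.RpushRestrict Groth.Agent.R2.H28.HasRpush
  Groth.Agent.R2.H28.MVScheme CategoryTheory.Pretriangulated

variable {X Y : Scheme.{u}}

/-- `R^q g_*` preserves quasi-coherence for all `q`. -/
def Good {W Y : Scheme.{u}} (g : W ⟶ Y) : Prop :=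
  ∀ (q : ℕ) (N : W.Modules), Coh.IsQCoh N → Coh.IsQCoh ((Coh.Rpush g q).obj N)

lemma isQCoh_of_iso {M N : X.Modules} (e : M ≅ N) (hM : Coh.IsQCoh M) : Coh.IsQCoh N :=
  (SheafOfModules.isQuasicoherent X.ringCatSheaf).prop_of_iso e hM

lemma isQCoh_of_isZero_spec {R : CommRingCat.{u}} {N : (Spec R).Modules} (hN : IsZero N) :
    N.IsQuasicoherent := by
  let Z : ModuleCat.{u} R := ModuleCat.of R PUnit
  have hZ : IsZero Z := ModuleCat.isZero_of_subsingleton Z
  have h1 : ((tilde.functor R).obj Z).IsQuasicoherent := inferInstance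
  exact (SheafOfModules.isQuasicoherent (Spec R).ringCatSheaf).prop_of_iso
    (IsZero.iso (Functor.map_isZero (tilde.functor R) hZ) hN) h1

lemma isQCoh_of_isZero {M : X.Modules} (hM : IsZero M) : Coh.IsQCoh M :=
  Groth.Agent.Lib.Helper23.QCohLocal.isQuasicoherent_of_forall_affine M fun _ hV =>
    isQCoh_of_isZero_spec (Functor.map_isZero (Scheme.Modules.restrictFunctor hV.fromSpec) hM)

/-- the class of quasi-coherent modules satisfies the hypotheses of `mid_of_exact` -/
theorem isQCoh_mid {A B C D E : X.Modules} (f : A ⟶ B) (g : B ⟶ C) (h : C ⟶ D) (i : D ⟶ E)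
    (w₁ : f ≫ g = 0) (w₂ : g ≫ h = 0) (w₃ : h ≫ i = 0)
    (e₁ : (ShortComplex.mk f g w₁).Exact) (e₂ : (ShortComplex.mk g h w₂).Exact)
    (e₃ : (ShortComplex.mk h i w₃).Exact)
    (hA : Coh.IsQCoh A) (hB : Coh.IsQCoh B) (hD : Coh.IsQCoh D) (hE : Coh.IsQCoh E) :
    Coh.IsQCoh C :=
  mid_of_exact (fun M : X.Modules => Coh.IsQCoh M) (fun e hM => isQCoh_of_iso e hM)
    (fun {M N} φ hM hN => by
      haveI : M.IsQuasicoherent := hM
      haveI : N.IsQuasicoherent := hN
      exact Groth.Agent.Lib.Helper23.QCohLocal.isQuasicoherent_kernel φ)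
    (fun {M N} φ hM hN => by
      haveI : M.IsQuasicoherent := hM
      haveI : N.IsQuasicoherent := hN
      exact Groth.Agent.Lib.Helper23.QCohLocal.isQuasicoherent_cokernel φ)
    (fun S hS h1 h3 => Groth.Agent.S2384.result S hS h1 h3)
    f g h i w₁ w₂ w₃ e₁ e₂ e₃ hA hB hD hE

lemma good_hd {W : Scheme.{u}} (g : W ⟶ Y) [DCoh.HasRpush g] (hg : Good g) (N : W.Modules)
    (hN : Coh.IsQCoh N) (k : ℤ) :
    Coh.IsQCoh (DCoh.HD ((DCoh.Rpush g).obj (DCoh.inD W N)) k) := by
  by_cases hk : k < 0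
  · exact isQCoh_of_isZero (isZero_hdRpushSingle g N k hk)
  · obtain ⟨q, rfl⟩ : ∃ q : ℕ, k = (q : ℤ) := ⟨k.toNat, (Int.toNat_of_nonneg (by omega)).symm⟩
    obtain ⟨e⟩ := hdRpushSingle g N q
    exact isQCoh_of_iso e.symm (hg q N hN)

lemma good_hd_restrict (f : X ⟶ Y) (W : X.Opens) [DCoh.HasRpush (W.ι ≫ f)]
    (hg : Good (W.ι ≫ f)) (N : X.Modules) (hN : Coh.IsQCoh N) (k : ℤ) :
    Coh.IsQCoh (DCoh.HD ((DCoh.Rpush (W.ι ≫ f)).obj
      ((DCoh.restrictD W.ι).obj (DCoh.inD X N))) k) := by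
  have hN' : Coh.IsQCoh ((Scheme.Modules.restrictFunctor W.ι).obj N) := by
    haveI : N.IsQuasicoherent := hN
    exact Scheme.Modules.isQuasicoherent_restrictFunctor W.ι N
  exact isQCoh_of_iso ((DerivedCategory.homologyFunctor Y.Modules k).mapIso
    ((DCoh.Rpush (W.ι ≫ f)).mapIso (restrictInDIso W.ι N))).symm
    (good_hd (W.ι ≫ f) hg _ hN' k)

/-- Mayer–Vietoris step -/
theorem mv_good (f : X ⟶ Y) (U V : X.Opens) (hUV : U ⊔ V = ⊤) (hU : Good (U.ι ≫ f))
    (hV : Good (V.ι ≫ f)) (hW : Good ((U ⊓ V).ι ≫ f)) : Good f := by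
  intro q N hN
  haveI := hasRpush f
  haveI := hasRpush (U.ι ≫ f)
  haveI := hasRpush (V.ι ≫ f)
  haveI := hasRpush ((U ⊓ V).ι ≫ f)
  obtain ⟨a, b, c, hT⟩ := mv_rpush U V hUV f (DCoh.inD X N)
  obtain ⟨e⟩ := hdRpushSingle f N q
  refine isQCoh_of_iso e ?_
  have h2 : ∀ k : ℤ, Coh.IsQCoh (DCoh.HD
      ((DCoh.Rpush (U.ι ≫ f)).obj ((DCoh.restrictD U.ι).obj (DCoh.inD X N)) ⊞
        (DCoh.Rpush (V.ι ≫ f)).obj ((DCoh.restrictD V.ι).obj (DCoh.inD X N))) k) := by
    intro k
    have hA := good_hd_restrict f U hU N hN k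
    have hB := good_hd_restrict f V hV N hN k
    haveI : (DCoh.HD ((DCoh.Rpush (U.ι ≫ f)).obj
      ((DCoh.restrictD U.ι).obj (DCoh.inD X N))) k).IsQuasicoherent := hA
    haveI : (DCoh.HD ((DCoh.Rpush (V.ι ≫ f)).obj
      ((DCoh.restrictD V.ι).obj (DCoh.inD X N))) k).IsQuasicoherent := hB
    haveI : PreservesBinaryBiproducts (DerivedCategory.homologyFunctor Y.Modules k) :=
      preservesBinaryBiproducts_of_preservesBiproducts _
    exact isQCoh_of_iso ((DerivedCategory.homologyFunctor Y.Modules k).mapBiprod _ _).symm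
      (Groth.Agent.Lib.Helper23.QCohLocal.isQuasicoherent_biprod _ _)
  have h3 : ∀ k : ℤ, Coh.IsQCoh (DCoh.HD ((DCoh.Rpush ((U ⊓ V).ι ≫ f)).obj
      ((DCoh.restrictD (U ⊓ V).ι).obj (DCoh.inD X N))) k) :=
    fun k => good_hd_restrict f (U ⊓ V) hW N hN k
  have hq : ((q : ℤ) - 1) + 1 = (q : ℤ) := by omega
  exact isQCoh_mid _ _ _ _ _ _ _
    (DerivedCategory.HomologySequence.exact₃ _ hT ((q : ℤ) - 1) q hq)
    (DerivedCategory.HomologySequence.exact₁ _ hT ((q : ℤ) - 1) q hq)
    (DerivedCategory.HomologySequence.exact₂ _ hT q)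
    (h2 _) (h3 _) (h2 _) (h3 _)

end MV

end Groth.Agent.R2.H28.RpushQCoh
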