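import Mathlib
import Groth.Agent.R2.H4PerfTri
set_option backward.isDefEq.respectTransparency.types false

/-!
# Direct summands of pseudo-coherent objects of `D(O_X)` (helper4, round 2)
-/

set_option autoImplicit false
universe u
open CategoryTheory CategoryTheory.Limits AlgebraicGeometry HomologicalComplex
  CategoryTheory.Pretriangulated

attribute [local instance] HasDerivedCategory.standard

namespace Groth.Agent.R2.H4.Perf

open DerivedCategory Groth.Agent.R2.H4.Conn Groth.Agent.R2.H4.LocHtpy ZeroObject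

section Tri

variable {C : Type*} [Category C] [Preadditive C] [HasZeroObject C] [HasShift C ℤ]
  [∀ n : ℤ, (shiftFunctor C n).Additive] [Pretriangulated C] [HasBinaryBiproducts C]

/-- the split triangle `B ⟶ A ⊞ B ⟶ A ⟶ B⟦1⟧`. -/
lemma binaryBiproductTriangle'_distinguished (A B : C) :
    Triangle.mk (biprod.inr : B ⟶ A ⊞ B) (biprod.fst : A ⊞ B ⟶ A) 0 ∈ distTriang C := by
  refine isomorphic_distinguished _ (binaryBiproductTriangle_distinguished B A) _ ?_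
  refine Triangle.isoMk _ _ (Iso.refl B) (biprod.braiding A B) (Iso.refl A) ?_ ?_ ?_
  · show biprod.inr ≫ (biprod.braiding A B).hom = 𝟙 B ≫ biprod.inl
    apply biprod.hom_ext <;> simp
  · show biprod.fst ≫ 𝟙 A = (biprod.braiding A B).hom ≫ biprod.snd
    simp
  · show (0 : A ⟶ B⟦(1 : ℤ)⟧) ≫ (shiftFunctor C (1 : ℤ)).map (𝟙 B) = 𝟙 A ≫ 0
    simp

/-- the cone `C` of the idempotent of `A ⊞ B` with image `A` sits in a distinguished triangle
`B⟦1⟧ ⟶ C ⟶ B ⟶ B⟦1⟧⟦1⟧`. -/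
lemma exists_triangle_of_cone_idempotent [IsTriangulated C] (A B : C) {Z : C}
    (g : A ⊞ B ⟶ Z) (h : Z ⟶ (A ⊞ B)⟦(1 : ℤ)⟧)
    (hT : Triangle.mk (biprod.fst ≫ biprod.inl : A ⊞ B ⟶ A ⊞ B) g h ∈ distTriang C) :
    ∃ (a : B⟦(1 : ℤ)⟧ ⟶ Z) (b : Z ⟶ B) (c : B ⟶ B⟦(1 : ℤ)⟧⟦(1 : ℤ)⟧),
      Triangle.mk a b c ∈ distTriang C := by
  have h₁₂ := rot_of_distTriang _ (binaryBiproductTriangle'_distinguished A B)
  have h₂₃ := binaryBiproductTriangle_distinguished A B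
  have oct := Triangulated.someOctahedron (u₁₂ := (biprod.fst : A ⊞ B ⟶ A))
    (u₂₃ := (biprod.inl : A ⟶ A ⊞ B)) rfl h₁₂ h₂₃ hT
  exact ⟨oct.m₁, oct.m₃, _, oct.mem⟩

end Tri

section Bounded

variable {U : Scheme.{u}}

lemma SPRep.exists_isLE {P : DCoh.D U} (h : SPRep P) : ∃ b : ℤ, P.IsLE b := by
  obtain ⟨E, ⟨⟨a, b, hv⟩, -⟩, ⟨e⟩⟩ := h
  refine ⟨b, ?_⟩
  have : E.IsStrictlyLE b := by
    rw [CochainComplex.isStrictlyLE_iff]
    exact fun i hi => hv i (Or.inr hi)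
  have : (Q.obj E).IsLE b := inferInstance
  exact DerivedCategory.TStructure.t.isLE_of_iso e b

lemma SPApprox.exists_isLE {m : ℤ} {K : DCoh.D U} (h : SPApprox m K) : ∃ b : ℤ, K.IsLE b := by
  obtain ⟨P, α, hP, hα⟩ := h
  obtain ⟨b, hb⟩ := hP.exists_isLE
  refine ⟨max b m, ?_⟩
  rw [DerivedCategory.isLE_iff]
  intro i hi
  have h1 : IsZero ((homologyFunctor _ i).obj P) :=
    DerivedCategory.isZero_of_isLE P b i (lt_of_le_of_lt (le_max_left b m) hi)
  have := hα.1 i (lt_of_le_of_lt (le_max_right b m) hi)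
  exact IsZero.of_iso h1 (asIso ((homologyFunctor _ i).map α)).symm

lemma isLE_of_retract {K L : DCoh.D U} (i : L ⟶ K) (r : K ⟶ L) (hir : i ≫ r = 𝟙 L) (b : ℤ)
    (hK : K.IsLE b) : L.IsLE b := by
  rw [DerivedCategory.isLE_iff] at hK ⊢
  intro n hn
  rw [IsZero.iff_id_eq_zero, ← CategoryTheory.Functor.map_id, ← hir,
    CategoryTheory.Functor.map_comp,
    (hK n hn).eq_of_tgt ((homologyFunctor _ n).map i) 0, zero_comp]

lemma spRep_zero : SPRep (0 : DCoh.D U) := by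
  refine ⟨0, ⟨⟨0, 0, fun i _ => ?_⟩, fun i => ?_⟩, ⟨?_⟩⟩
  · exact (HomologicalComplex.eval _ _ i).map_isZero (isZero_zero _)
  · exact isFinLocFree_of_isZero _ ((HomologicalComplex.eval _ _ i).map_isZero (isZero_zero _))
  · exact (Q.map_isZero (isZero_zero _)).iso (isZero_zero _)

lemma spApprox_of_isLE (m : ℤ) (K : DCoh.D U) (hK : K.IsLE (m - 1)) : SPApprox m K :=
  ⟨0, 0, spRep_zero, conn_zero_of_isLE m K⟩

end Bounded

section Summand

variable {U : Scheme.{u}}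

/-- local pseudo-coherence -/
abbrev PC (m : ℤ) {X : Scheme.{u}} (K : DCoh.D X) : Prop :=
  Loc (fun U (K : DCoh.D U) => SPApprox m K) K

lemma PC.mono {m m' : ℤ} (hm : m ≤ m') {K : DCoh.D U} (h : PC m K) : PC m' K := by
  intro x
  obtain ⟨V, j, hj, y, hy, hK⟩ := h x
  exact ⟨V, j, hj, y, hy, hK.mono hm⟩

lemma pc_of_spApprox {m : ℤ} {K : DCoh.D U} (h : SPApprox m K) : PC m K := by
  intro x
  exact ⟨U, 𝟙 U, inferInstance, x, rfl, h.restrict (𝟙 U)⟩

/-- the descending induction. -/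
theorem pc_of_pc_biprod (m : ℤ) (N : ℕ) : ∀ (A B : DCoh.D U), PC m (A ⊞ B) →
    (B⟦(N : ℤ)⟧).IsLE (m - 1) → PC m B := by
  induction N with
  | zero =>
    intro A B _ hB
    have hB' : B.IsLE (m - 1) :=
      DerivedCategory.TStructure.t.isLE_of_iso ((shiftFunctorZero (DCoh.D U) ℤ).app B) (m - 1)
    exact pc_of_spApprox (spApprox_of_isLE m B hB')
  | succ N ih =>
    intro A B hAB hB
    have : PreservesBinaryBiproducts (shiftFunctor (DCoh.D U) (1 : ℤ)) :=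
      preservesBinaryBiproducts_of_preservesBiproducts _
    -- `B⟦1⟧` is `m`-pseudo-coherent
    have h1 : PC m (B⟦(1 : ℤ)⟧) := by
      apply ih (A⟦(1 : ℤ)⟧) (B⟦(1 : ℤ)⟧)
      · have h2 : PC (m - 1) ((A ⊞ B)⟦(1 : ℤ)⟧) := loc_spApprox_shift hAB 1 (m - 1) (by omega)
        exact Loc.of_iso (isLocalPred_spApprox m) ((shiftFunctor (DCoh.D U) (1 : ℤ)).mapBiprod A B)
          (h2.mono (by omega))
      · have e : (B⟦(1 : ℤ)⟧)⟦(N : ℤ)⟧ ≅ B⟦((N + 1 : ℕ) : ℤ)⟧ :=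
          ((shiftFunctorAdd' (DCoh.D U) (1 : ℤ) (N : ℤ) ((N + 1 : ℕ) : ℤ)
            (by push_cast; ring)).app B).symm
        exact DerivedCategory.TStructure.t.isLE_of_iso e.symm (m - 1)
    -- the cone of the idempotent
    obtain ⟨Z, g, h, hT⟩ := distinguished_cocone_triangle
      (biprod.fst ≫ biprod.inl : A ⊞ B ⟶ A ⊞ B)
    have hZ : PC m Z := loc_spApprox_obj₃ _ hT m (hAB.mono (by omega)) hAB
    obtain ⟨a, b, c, hΔ⟩ := exists_triangle_of_cone_idempotent A B g h hT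
    exact loc_spApprox_obj₃ _ hΔ m (h1.mono (by omega)) hZ

end Summand

section Main

variable {X : Scheme.{u}}

theorem pc_snd_of_biprod (m : ℤ) (K L : DCoh.D X) [HasBinaryBiproduct K L]
    (h : PC m (K ⊞ L)) : PC m L := by
  have h' := (loc_iff_opens (isLocalPred_spApprox m) _).1 h
  apply loc_of_loc_restrict (isLocalPred_spApprox m)
  intro x
  obtain ⟨V, hx, hV⟩ := h' x
  refine ⟨V, V.ι, inferInstance, ⟨x, hx⟩, rfl, ?_⟩
  have : PreservesBinaryBiproducts (DCoh.restrictD V.ι) :=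
    preservesBinaryBiproducts_of_preservesBiproducts _
  have hV' : SPApprox m ((DCoh.restrictD V.ι).obj K ⊞ (DCoh.restrictD V.ι).obj L) :=
    hV.of_iso ((DCoh.restrictD V.ι).mapBiprod K L)
  obtain ⟨b, hb⟩ := hV'.exists_isLE
  have hL : ((DCoh.restrictD V.ι).obj L).IsLE b :=
    isLE_of_retract biprod.inr biprod.snd (by simp) b hb
  obtain ⟨N, hN⟩ : ∃ N : ℕ, b - N ≤ m - 1 := ⟨(b - m + 1).toNat, by omega⟩
  have hL' : (((DCoh.restrictD V.ι).obj L)⟦(N : ℤ)⟧).IsLE (m - 1) := by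
    have : (((DCoh.restrictD V.ι).obj L)⟦(N : ℤ)⟧).IsLE (b - N) :=
      DerivedCategory.TStructure.t.isLE_shift _ b N (b - N) (by omega)
    exact DerivedCategory.TStructure.t.isLE_of_le _ (b - N) (m - 1) hN
  exact pc_of_pc_biprod m N _ _ (pc_of_spApprox hV') hL' ⟨x, hx⟩

/-- direct summands of `m`-pseudo-coherent objects are `m`-pseudo-coherent. -/
theorem isPseudoCoherentD_of_biprod (m : ℤ) (K L : DCoh.D X) [HasBinaryBiproduct K L]
    (h : DCoh.IsPseudoCoherentD m (K ⊞ L)) :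
    DCoh.IsPseudoCoherentD m K ∧ DCoh.IsPseudoCoherentD m L := by
  rw [isPseudoCoherentD_iff] at h
  rw [isPseudoCoherentD_iff, isPseudoCoherentD_iff]
  refine ⟨?_, pc_snd_of_biprod m K L h⟩
  exact pc_snd_of_biprod m L K (Loc.of_iso (isLocalPred_spApprox m) (biprod.braiding K L) h)

end Main

end Groth.Agent.R2.H4.Perf
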