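import Groth.Agent.R2.H5LpullQCoh
import Groth.Agent.S6960
import Groth.Agent.Lib.Helper2FPAff
import Groth.Agent.Lib.Helper17DCompare4
set_option backward.isDefEq.respectTransparency.types false

/-!
# Perfect objects of `D(O_{Spec A})` versus perfect objects of `D(A)` (helper5, project dqcoh, stage C)

* `isPerfect_iff_lpull` : reformulation of `DCoh.IsPerfect` through the derived restriction.
* `isPerfect_Q_of_isStrictlyPerfect`.
* `isPerfect_tildeD_iff` : `M~` is perfect iff `M` is perfect.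
-/

set_option autoImplicit false
set_option linter.style.haveILetI false
universe u
open CategoryTheory CategoryTheory.Limits AlgebraicGeometry Opposite
attribute [local instance] HasDerivedCategory.standard

namespace Groth.Agent.R2.H5.PerfTilde

open Groth.Agent.Lib.Helper1.Sky Groth.Agent.R2.H5.DQCoh Groth.Agent.R2.H5.DQCohAff
  Groth.Agent.R2.H5.LpullQCoh

attribute [local instance] Groth.Agent.Lib.Helper1.Sky.hasLpull

section general

variable {X : Scheme.{u}}

lemma isFinLocFree_of_iso {M N : X.Modules} (e : M ≅ N) (h : FlatMod.IsFinLocFree M) :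
    FlatMod.IsFinLocFree N := fun x => by
  obtain ⟨U, n, hx, ⟨i⟩⟩ := h x
  exact ⟨U, n, hx, ⟨(Scheme.Modules.restrictFunctor U.ι).mapIso e.symm ≪≫ i⟩⟩

lemma isStrictlyPerfect_of_iso {E E' : CochainComplex X.Modules ℤ} (e : E ≅ E')
    (h : DCoh.IsStrictlyPerfect E) : DCoh.IsStrictlyPerfect E' := by
  obtain ⟨⟨a, b, hv⟩, hfl⟩ := h
  exact ⟨⟨a, b, fun i hi => (hv i hi).of_iso
      ((HomologicalComplex.eval _ _ i).mapIso e.symm)⟩,
    fun i => isFinLocFree_of_iso ((HomologicalComplex.eval _ _ i).mapIso e) (hfl i)⟩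

lemma isStrictlyPerfect_restrictCx (V : X.Opens) (E : CochainComplex X.Modules ℤ)
    (h : DCoh.IsStrictlyPerfect E) : DCoh.IsStrictlyPerfect ((DCoh.restrictCx V).obj E) :=
  isStrictlyPerfect_of_iso ((restrictCxIso V).app E).symm (isStrictlyPerfect_pullC V.ι E h)

/-- reformulation of perfectness through the derived restriction. -/
theorem isPerfect_iff_lpull (K : DCoh.D X) :
    DCoh.IsPerfect K ↔ ∀ x : X, ∃ V : X.Opens, x ∈ V ∧
      ∃ E : CochainComplex (V : Scheme.{u}).Modules ℤ, DCoh.IsStrictlyPerfect E ∧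
        Nonempty ((DCoh.Lpull V.ι).obj K ≅ DerivedCategory.Q.obj E) := by
  constructor
  · intro h x
    obtain ⟨V, hxV, hV⟩ := h x
    let F₀ : CochainComplex X.Modules ℤ := DerivedCategory.Q.objPreimage K
    let e₀ : DCoh.toD X F₀ ≅ K := DerivedCategory.Q.objObjPreimageIso K
    obtain ⟨P, hP, ⟨eP⟩⟩ := hV F₀ ⟨e₀⟩
    exact ⟨V, hxV, P, hP, ⟨(DCoh.Lpull V.ι).mapIso e₀.symm ≪≫ lpullOpenIso V F₀ ≪≫ eP⟩⟩
  · intro h x
    obtain ⟨V, hxV, E, hE, ⟨e⟩⟩ := h x
    exact ⟨V, hxV, fun F ⟨eF⟩ => ⟨E, hE,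
      ⟨(lpullOpenIso V F).symm ≪≫ (DCoh.Lpull V.ι).mapIso eF ≪≫ e⟩⟩⟩

lemma isPerfect_of_iso {K K' : DCoh.D X} (e : K ≅ K') (h : DCoh.IsPerfect K) :
    DCoh.IsPerfect K' := by
  rw [isPerfect_iff_lpull] at h ⊢
  intro x
  obtain ⟨V, hxV, E, hE, ⟨i⟩⟩ := h x
  exact ⟨V, hxV, E, hE, ⟨(DCoh.Lpull V.ι).mapIso e.symm ≪≫ i⟩⟩

/-- a strictly perfect complex is perfect. -/
theorem isPerfect_Q_of_isStrictlyPerfect (G : CochainComplex X.Modules ℤ)
    (hG : DCoh.IsStrictlyPerfect G) : DCoh.IsPerfect (DerivedCategory.Q.obj G) := by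
  rw [isPerfect_iff_lpull]
  intro x
  exact ⟨⊤, trivial, (DCoh.restrictCx ⊤).obj G, isStrictlyPerfect_restrictCx ⊤ G hG,
    ⟨lpullOpenIso ⊤ G⟩⟩

end general

section affine

open Groth.Agent.S1055 Groth.Agent.Lib.Helper1.KF Groth.Agent.Lib.Helper1.LDer

variable (R : CommRingCat.{u})

/-- termwise global sections. -/
noncomputable abbrev ΓC : CochainComplex (Spec (CommRingCat.of R)).Modules ℤ ⥤
    CochainComplex (ModuleCat.{u} R) ℤ :=
  (ΓR R).mapHomologicalComplex (ComplexShape.up ℤ)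

/-- a complex with quasi-coherent terms on `Spec R` is the tilde of its complex of global sections. -/
noncomputable def tildeΓCIso (G : CochainComplex (Spec (CommRingCat.of R)).Modules ℤ)
    (hG : ∀ i, (G.X i).IsQuasicoherent) : (TC R).obj ((ΓC R).obj G) ≅ G :=
  HomologicalComplex.Hom.isoOfComponents
    (fun i => haveI := hG i
      @asIso _ _ _ _ (Scheme.Modules.fromTildeΓ (G.X i))
        (Scheme.Modules.isIso_fromTildeΓ_of_isQuasicoherent (R := R) (G.X i)))
    (fun i j _ => ((Scheme.Modules.fromTildeΓNatTrans (R := R)).naturality (G.d i j)).symm)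

lemma isQuasicoherent_of_isFinLocFree {X : Scheme.{u}} (M : X.Modules)
    (h : FlatMod.IsFinLocFree M) : M.IsQuasicoherent :=
  Groth.Agent.Helper18Strict.isQCoh_of_isFP M
    (Groth.Agent.Lib.Helper2.LocFree.isFP_of_isFinLocFree M h)

/-- A strictly perfect complex on `Spec R` is the tilde of a bounded complex of finite projective
modules. -/
theorem exists_of_isStrictlyPerfect (G : CochainComplex (Spec (CommRingCat.of R)).Modules ℤ)
    (hG : DCoh.IsStrictlyPerfect G) :
    ∃ (E : DRing.Cx R) (a b : ℤ), DRing.VanishesOutside E a b ∧ DRing.TermwiseFiniteProjective E ∧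
      Nonempty ((TC R).obj E ≅ G) := by
  obtain ⟨⟨a, b, hv⟩, hfl⟩ := hG
  have hq : ∀ i, (G.X i).IsQuasicoherent := fun i => isQuasicoherent_of_isFinLocFree _ (hfl i)
  refine ⟨(ΓC R).obj G, a, b, fun i hi => (ΓR R).map_isZero (hv i hi), fun i => ?_,
    ⟨tildeΓCIso R G hq⟩⟩
  haveI := hq i
  haveI := Scheme.Modules.isIso_fromTildeΓ_of_isQuasicoherent (R := R) (G.X i)
  exact (Groth.Agent.Lib.Helper2.FPAff.isFinLocFree_tilde_iff R ((ΓR R).obj (G.X i))).1
    (isFinLocFree_of_iso (@asIso _ _ _ _ (Scheme.Modules.fromTildeΓ (G.X i))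
      (Scheme.Modules.isIso_fromTildeΓ_of_isQuasicoherent (R := R) (G.X i))).symm (hfl i))

/-- `tildeD` is fully faithful. -/
noncomputable def tildeDFullyFaithful [PreservesFiniteLimits (tilde.functor R)] :
    (DCoh.tildeD R).FullyFaithful :=
  haveI : ∀ Y, IsIso ((adjD R).unit.app Y) := fun Y => ((tildeD_equivalence R).1 Y).2
  haveI : IsIso (adjD R).unit := NatIso.isIso_of_isIso_app _
  (adjD R).fullyFaithfulLOfIsIsoUnit

variable {A : Type u} [CommRing A] [PreservesFiniteLimits (tilde.functor (CommRingCat.of A))]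

/-- (⇐) -/
theorem isPerfect_tildeD_of_isPerfect (M : Dual.D A) (h : DRing.IsPerfect A M) :
    DCoh.IsPerfect ((DCoh.tildeD (CommRingCat.of A)).obj M) := by
  obtain ⟨E, a, b, hv, hp, ⟨e⟩⟩ := h
  have hS : DCoh.IsStrictlyPerfect ((TC (CommRingCat.of A)).obj E) :=
    ⟨⟨a, b, fun i hi => (tilde.functor (CommRingCat.of A)).map_isZero (hv i hi)⟩,
      fun i => (Groth.Agent.Lib.Helper2.FPAff.isFinLocFree_tilde_iff (CommRingCat.of A) (E.X i)).2 (hp i)⟩
  exact isPerfect_of_iso (((facT (CommRingCat.of A)).app E).symm ≪≫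
    (DCoh.tildeD (CommRingCat.of A)).mapIso e) (isPerfect_Q_of_isStrictlyPerfect _ hS)

/-- local form of (⇒) for a K-projective complex. -/
theorem exists_isPerfect_bcCx (P : CochainComplex (ModuleCat.{u} A) ℤ) [P.IsKProjective]
    (h : DCoh.IsPerfect ((DCoh.tildeD (CommRingCat.of A)).obj (DerivedCategory.Q.obj P)))
    (x : PrimeSpectrum A) :
    ∃ f : A, f ∉ x.asIdeal ∧ DRing.IsPerfect (Localization.Away f)
      (DRing.toD ((bcCx (algebraMap A (Localization.Away f))).obj P)) := by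
  rw [isPerfect_iff_lpull] at h
  obtain ⟨V, hxV, E, hE, ⟨e⟩⟩ := h x
  obtain ⟨_, ⟨f, rfl⟩, hxf, hfV⟩ :=
    TopologicalSpace.Opens.isBasis_iff_nbhd.1 PrimeSpectrum.isBasis_basic_opens hxV
  refine ⟨f, hxf, ?_⟩
  haveI := (Groth.Agent.S9498.aux (CommRingCat.of (Localization.Away f))).1
  let φ : A →+* Localization.Away f := algebraMap A (Localization.Away f)
  have hr : Set.range (ff φ).base ⊆ Set.range V.ι.base := by
    have h1 : Set.range (ff φ).base = (PrimeSpectrum.basicOpen f : Set (PrimeSpectrum A)) :=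
      PrimeSpectrum.localization_away_comap_range _ f
    rw [h1]
    intro y hy
    exact ⟨⟨y, hfV hy⟩, rfl⟩
  let j' : Spec (CommRingCat.of (Localization.Away f)) ⟶ (V : Scheme.{u}) :=
    IsOpenImmersion.lift V.ι (ff φ) hr
  have hj' : j' ≫ V.ι = ff φ := IsOpenImmersion.lift_fac _ _ _
  obtain ⟨c1⟩ := nonempty_lpull_comp_iso j' V.ι
  obtain ⟨c2⟩ := nonempty_lpull_congr hj'
  let K := (DCoh.tildeD (CommRingCat.of A)).obj (DerivedCategory.Q.obj P)
  let G := (pullC j').obj E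
  have hG : DCoh.IsStrictlyPerfect G := isStrictlyPerfect_pullC j' E hE
  let e1 : (DCoh.Lpull (ff φ)).obj K ≅ DerivedCategory.Q.obj G :=
    (c2.app K).symm ≪≫ (c1.app K).symm ≪≫ (DCoh.Lpull j').mapIso e ≪≫
      lpullIso j' E (kffs_of_isStrictlyPerfect E hE)
  haveI := isIso_α2_app φ P
  let e2 : (DCoh.Lpull (ff φ)).obj K ≅ (FF φ).obj P := asIso ((α2 φ).app P)
  obtain ⟨E', a, b, hv, hp, ⟨t⟩⟩ :=
    exists_of_isStrictlyPerfect (CommRingCat.of (Localization.Away f)) G hG
  let i : (DCoh.tildeD (CommRingCat.of (Localization.Away f))).obj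
        (DerivedCategory.Q.obj ((bcCx φ).obj P)) ≅
      (DCoh.tildeD (CommRingCat.of (Localization.Away f))).obj (DerivedCategory.Q.obj E') :=
    (facT (CommRingCat.of (Localization.Away f))).app _ ≪≫ e2.symm ≪≫ e1 ≪≫
      DerivedCategory.Q.mapIso t.symm ≪≫
      ((facT (CommRingCat.of (Localization.Away f))).app E').symm
  exact ⟨E', a, b, hv, hp,
    ⟨((tildeDFullyFaithful (CommRingCat.of (Localization.Away f))).preimageIso i).symm⟩⟩

/-- (⇒) -/
theorem isPerfect_of_isPerfect_tildeD (M : Dual.D A)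
    (h : DCoh.IsPerfect ((DCoh.tildeD (CommRingCat.of A)).obj M)) : DRing.IsPerfect A M := by
  obtain ⟨P, π, hP, -, hπ, -⟩ := exists_kprojective_resolution (DerivedCategory.Q.objPreimage M)
  haveI : P.IsKProjective := hP
  haveI : IsIso (DerivedCategory.Q.map π) := (DerivedCategory.isIso_Q_map_iff_quasiIso (φ := π)).2 hπ
  let eP : DerivedCategory.Q.obj P ≅ M :=
    asIso (DerivedCategory.Q.map π) ≪≫ DerivedCategory.Q.objObjPreimageIso M
  have h' : DCoh.IsPerfect ((DCoh.tildeD (CommRingCat.of A)).obj (DerivedCategory.Q.obj P)) :=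
    isPerfect_of_iso ((DCoh.tildeD (CommRingCat.of A)).mapIso eP.symm) h
  choose f hf1 hf2 using exists_isPerfect_bcCx P h'
  have hspan : Ideal.span (Set.range f) = ⊤ := by
    by_contra hne
    obtain ⟨m, hm, hle⟩ := Ideal.exists_le_maximal _ hne
    exact hf1 ⟨m, hm.isPrime⟩ (hle (Ideal.subset_span ⟨_, rfl⟩))
  obtain ⟨s, hs1, hs2⟩ := (Ideal.span_eq_top_iff_finite _).1 hspan
  let g : Fin s.card → A := fun i => ((s.equivFin.symm i : s) : A)
  have hg : Set.range g = (s : Set A) := by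
    ext a
    constructor
    · rintro ⟨i, rfl⟩
      exact (s.equivFin.symm i).2
    · intro ha
      exact ⟨s.equivFin ⟨a, ha⟩, by simp [g]⟩
  have key := Groth.Agent.S6960.result g (by rw [hg]; exact hs2) P (fun i => by
    obtain ⟨x, hx⟩ : ∃ x, f x = g i := hs1 (s.equivFin.symm i).2
    exact hx ▸ hf2 x)
  exact Groth.Agent.Lib.Helper17.DCompare.isPerfect_of_iso eP key

/-- **`M~` is perfect iff `M` is perfect.** -/
theorem isPerfect_tildeD_iff (M : Dual.D A) :
    DCoh.IsPerfect ((DCoh.tildeD (CommRingCat.of A)).obj M) ↔ DRing.IsPerfect A M :=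
  ⟨isPerfect_of_isPerfect_tildeD M, isPerfect_tildeD_of_isPerfect M⟩

end affine

end Groth.Agent.R2.H5.PerfTilde
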