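import Groth.Agent.R2.H5PerfTilde
import Groth.Agent.S2087
import Groth.Agent.S2066
import Groth.Agent.Lib.Helper1Sky11
import Groth.Agent.Lib.Helper1PC
set_option backward.isDefEq.respectTransparency.types false

/-!
# Pseudo-coherent objects of `D(O_{Spec A})` versus pseudo-coherent objects of `D(A)`
(helper5, project dqcoh, stage C)

* `isPseudoCoherentD_iff_lpull` : reformulation of `DCoh.IsPseudoCoherentD` through the derived restriction.
* `propM_mapDerivedCategory_iff` : an exact fully faithful functor detects `PropM`.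
* `isPseudoCoherentD_tildeD_iff` : `M~` is `m`-pseudo-coherent iff `M` is.
-/

set_option autoImplicit false
set_option linter.style.haveILetI false
universe w w' v v' u u'
open CategoryTheory CategoryTheory.Limits AlgebraicGeometry Opposite
attribute [local instance] HasDerivedCategory.standard

namespace Groth.Agent.R2.H5.PCTilde

open Groth.Agent.Lib.Helper1.Sky Groth.Agent.R2.H5.DQCoh Groth.Agent.R2.H5.DQCohAff
  Groth.Agent.R2.H5.LpullQCoh Groth.Agent.R2.H5.PerfTilde

attribute [local instance] Groth.Agent.Lib.Helper1.Sky.hasLpull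

section abstract

variable {A : Type u} [Category.{v} A] [Abelian A] [HasDerivedCategory.{w} A]

lemma propM_comp_iso_iff (m : ℤ) {K L L' : DerivedCategory A} (α : K ⟶ L) (θ : L ≅ L') :
    PropM m (α ≫ θ.hom) ↔ PropM m α :=
  (propM_iff_of_arrow_iso m (show Arrow.mk α ≅ Arrow.mk (α ≫ θ.hom) from
    Arrow.isoMk (Iso.refl _) θ (by simp))).symm

lemma propM_iso_comp_iff (m : ℤ) {K K' L : DerivedCategory A} (θ : K' ≅ K) (α : K ⟶ L) :
    PropM m (θ.hom ≫ α) ↔ PropM m α :=
  propM_iff_of_arrow_iso m (show Arrow.mk (θ.hom ≫ α) ≅ Arrow.mk α from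
    Arrow.isoMk θ (Iso.refl _) (by simp))

variable {B : Type u'} [Category.{v'} B] [Abelian B] [HasDerivedCategory.{w'} B]
  (F : A ⥤ B) [F.Additive] [PreservesFiniteLimits F] [PreservesFiniteColimits F]

open Groth.Agent.Lib.Helper17.Hyp in
/-- an exact, fully faithful functor detects `PropM`. -/
lemma propM_mapDerivedCategory_iff [F.Full] [F.Faithful] (m : ℤ) {K L : DerivedCategory A}
    (α : K ⟶ L) : PropM m (F.mapDerivedCategory.map α) ↔ PropM m α := by
  have e : ∀ i : ℤ, Arrow.mk ((DerivedCategory.homologyFunctor B i).map (F.mapDerivedCategory.map α)) ≅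
      Arrow.mk (F.map ((DerivedCategory.homologyFunctor A i).map α)) := fun i =>
    Arrow.isoMk ((homologyNatIso F i).app K) ((homologyNatIso F i).app L)
      ((homologyNatIso F i).hom.naturality α).symm
  have h1 : ∀ i : ℤ, IsIso ((DerivedCategory.homologyFunctor B i).map (F.mapDerivedCategory.map α)) ↔
      IsIso ((DerivedCategory.homologyFunctor A i).map α) := fun i =>
    ((MorphismProperty.isomorphisms B).arrow_mk_iso_iff (e i)).trans
      ⟨fun h => by
        haveI : IsIso (F.map ((DerivedCategory.homologyFunctor A i).map α)) := h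
        exact isIso_of_fully_faithful F _,
       fun h => by
        haveI : IsIso ((DerivedCategory.homologyFunctor A i).map α) := h
        exact (inferInstance : IsIso (F.map ((DerivedCategory.homologyFunctor A i).map α)))⟩
  have h2 : Epi ((DerivedCategory.homologyFunctor B m).map (F.mapDerivedCategory.map α)) ↔
      Epi ((DerivedCategory.homologyFunctor A m).map α) :=
    ((MorphismProperty.epimorphisms B).arrow_mk_iso_iff (e m)).trans
      ⟨fun h => by
        haveI : Epi (F.map ((DerivedCategory.homologyFunctor A m).map α)) := h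
        exact F.epi_of_epi_map h,
       fun h => by
        haveI : Epi ((DerivedCategory.homologyFunctor A m).map α) := h
        exact (inferInstance : Epi (F.map ((DerivedCategory.homologyFunctor A m).map α)))⟩
  exact ⟨fun h => ⟨fun i hi => (h1 i).1 (h.1 i hi), h2.1 h.2⟩,
    fun h => ⟨fun i hi => (h1 i).2 (h.1 i hi), h2.2 h.2⟩⟩

end abstract

section general

variable {X : Scheme.{u}}

/-- reformulation of `m`-pseudo-coherence through the derived restriction. -/
theorem isPseudoCoherentD_iff_lpull (m : ℤ) (K : DCoh.D X) :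
    DCoh.IsPseudoCoherentD m K ↔ ∀ x : X, ∃ V : X.Opens, x ∈ V ∧
      ∃ (E : CochainComplex (V : Scheme.{u}).Modules ℤ)
        (α : DerivedCategory.Q.obj E ⟶ (DCoh.Lpull V.ι).obj K),
        DCoh.IsStrictlyPerfect E ∧ PropM m α := by
  constructor
  · intro h x
    obtain ⟨V, hxV, hV⟩ := h x
    let F₀ : CochainComplex X.Modules ℤ := DerivedCategory.Q.objPreimage K
    let e₀ : DCoh.toD X F₀ ≅ K := DerivedCategory.Q.objObjPreimageIso K
    obtain ⟨P, α, hP, h1, h2⟩ := hV F₀ ⟨e₀⟩
    let θ : DerivedCategory.Q.obj ((DCoh.restrictCx V).obj F₀) ≅ (DCoh.Lpull V.ι).obj K :=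
      (lpullOpenIso V F₀).symm ≪≫ (DCoh.Lpull V.ι).mapIso e₀
    exact ⟨V, hxV, P, α ≫ θ.hom, hP, (propM_comp_iso_iff m α θ).2 ⟨h1, h2⟩⟩
  · intro h x
    obtain ⟨V, hxV, E, α, hE, hα⟩ := h x
    refine ⟨V, hxV, fun F ⟨eF⟩ => ?_⟩
    let θ : (DCoh.Lpull V.ι).obj K ≅ DerivedCategory.Q.obj ((DCoh.restrictCx V).obj F) :=
      (DCoh.Lpull V.ι).mapIso eF.symm ≪≫ lpullOpenIso V F
    have h' := (propM_comp_iso_iff m α θ).2 hα
    exact ⟨E, α ≫ θ.hom, hE, h'.1, h'.2⟩

lemma isPseudoCoherentD_of_iso (m : ℤ) {K K' : DCoh.D X} (e : K ≅ K')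
    (h : DCoh.IsPseudoCoherentD m K) : DCoh.IsPseudoCoherentD m K' := by
  rw [isPseudoCoherentD_iff_lpull] at h ⊢
  intro x
  obtain ⟨V, hxV, E, α, hE, hα⟩ := h x
  exact ⟨V, hxV, E, α ≫ ((DCoh.Lpull V.ι).mapIso e).hom, hE, (propM_comp_iso_iff m α _).2 hα⟩

/-- a map from a strictly perfect complex with `PropM m` exhibits `m`-pseudo-coherence. -/
theorem isPseudoCoherentD_of_propM (m : ℤ) (K : DCoh.D X) (G : CochainComplex X.Modules ℤ)
    (hG : DCoh.IsStrictlyPerfect G) (α : DerivedCategory.Q.obj G ⟶ K) (hα : PropM m α) :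
    DCoh.IsPseudoCoherentD m K := by
  rw [isPseudoCoherentD_iff_lpull]
  intro x
  refine ⟨⊤, trivial, (DCoh.restrictCx ⊤).obj G, (lpullOpenIso ⊤ G).inv ≫ (DCoh.Lpull (⊤ : X.Opens).ι).map α,
    isStrictlyPerfect_restrictCx ⊤ G hG, ?_⟩
  exact (propM_iso_comp_iff m (lpullOpenIso ⊤ G).symm _).2 (propM_lpull_map _ m α hα)

end general

section affine

open Groth.Agent.S1055 Groth.Agent.Lib.Helper1.KF Groth.Agent.Lib.Helper1.LDer
  Groth.Agent.Lib.Helper1.PC

/-- `tildeD` detects `PropM`. -/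
lemma propM_tildeD_map_iff (R : CommRingCat.{u}) [PreservesFiniteLimits (tilde.functor R)] (m : ℤ)
    {K L : DerivedCategory (ModuleCat.{u} R)} (α : K ⟶ L) :
    PropM m ((DCoh.tildeD R).map α) ↔ PropM m α :=
  propM_mapDerivedCategory_iff (tilde.functor R) m α

variable {A : Type u} [CommRing A]

/-- ring level: an approximation by a bounded complex of finite projective modules suffices. -/
theorem isPseudoCoherent_of_projective (m : ℤ) (K : Dual.D A) (E : DRing.Cx A) (a b : ℤ)
    (hv : DRing.VanishesOutside E a b) (hp : DRing.TermwiseFiniteProjective E)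
    (α : DRing.toD E ⟶ K) (hα : PropM m α) : DRing.IsPseudoCoherent A m K := by
  have h1 : ∀ m', DRing.IsPseudoCoherent A m' (DRing.toD E) :=
    ((Groth.Agent.S2066.result (DRing.toD E)).2).2
      ⟨E, b, fun i hi => hv i (Or.inr hi), hp, ⟨Iso.refl _⟩⟩
  obtain ⟨P, α', hP, hα'⟩ := (isPC_iff m _).1 (h1 m)
  exact (isPC_iff m K).2 ⟨P, α' ≫ α, hP, hα'.comp hα⟩

variable [PreservesFiniteLimits (tilde.functor (CommRingCat.of A))]

/-- (⇐) -/
theorem isPseudoCoherentD_tildeD_of (M : Dual.D A) (m : ℤ) (h : DRing.IsPseudoCoherent A m M) :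
    DCoh.IsPseudoCoherentD m ((DCoh.tildeD (CommRingCat.of A)).obj M) := by
  obtain ⟨E, a, b, α, hv, hff, h1, h2⟩ := h
  have hS : DCoh.IsStrictlyPerfect ((TC (CommRingCat.of A)).obj E) :=
    ⟨⟨a, b, fun i hi => (tilde.functor (CommRingCat.of A)).map_isZero (hv i hi)⟩,
      fun i => (Groth.Agent.Lib.Helper2.FPAff.isFinLocFree_tilde_iff (CommRingCat.of A) (E.X i)).2
        ⟨(hff i).1, haveI := (hff i).2; inferInstance⟩⟩
  refine isPseudoCoherentD_of_propM m _ _ hS
    (((facT (CommRingCat.of A)).app E).inv ≫ (DCoh.tildeD (CommRingCat.of A)).map α) ?_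
  exact (propM_iso_comp_iff m ((facT (CommRingCat.of A)).app E).symm _).2
    ((propM_tildeD_map_iff (CommRingCat.of A) m α).2 ⟨h1, h2⟩)

/-- local form of (⇒) for a K-projective complex. -/
theorem exists_isPseudoCoherent_bcCx (m : ℤ) (P : CochainComplex (ModuleCat.{u} A) ℤ)
    [P.IsKProjective]
    (h : DCoh.IsPseudoCoherentD m
      ((DCoh.tildeD (CommRingCat.of A)).obj (DerivedCategory.Q.obj P)))
    (x : PrimeSpectrum A) :
    ∃ f : A, f ∉ x.asIdeal ∧ DRing.IsPseudoCoherent (Localization.Away f) m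
      (DRing.toD ((bcCx (algebraMap A (Localization.Away f))).obj P)) := by
  rw [isPseudoCoherentD_iff_lpull] at h
  obtain ⟨V, hxV, E, α, hE, hα⟩ := h x
  obtain ⟨_, ⟨f, rfl⟩, hxf, hfV⟩ :=
    TopologicalSpace.Opens.isBasis_iff_nbhd.1 PrimeSpectrum.isBasis_basic_opens hxV
  refine ⟨f, hxf, ?_⟩
  haveI := (Groth.Agent.S9498.aux (CommRingCat.of (Localization.Away f))).1
  let φ : A →+* Localization.Away f := algebraMap A (Localization.Away f)
  have hr : Set.range (ff φ).base ⊆ Set.range V.ι.base := by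
    have h1 : Set.range (ff φ).base = (PrimeSpectrum.basicOpen f : Set (PrimeSpectrum A)) :=
      PrimeSpectrum.localization_away_comap_range _ f
    rw [h1]
    intro y hy
    exact ⟨⟨y, hfV hy⟩, rfl⟩
  let j' : Spec (CommRingCat.of (Localization.Away f)) ⟶ (V : Scheme.{u}) :=
    IsOpenImmersion.lift V.ι (ff φ) hr
  have hj' : j' ≫ V.ι = ff φ := IsOpenImmersion.lift_fac _ _ _
  obtain ⟨c1⟩ := nonempty_lpull_comp_iso j' V.ι
  obtain ⟨c2⟩ := nonempty_lpull_congr hj'
  let K := (DCoh.tildeD (CommRingCat.of A)).obj (DerivedCategory.Q.obj P)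
  let G := (pullC j').obj E
  have hG : DCoh.IsStrictlyPerfect G := isStrictlyPerfect_pullC j' E hE
  have hβ : PropM m ((DCoh.Lpull j').map α) := propM_lpull_map j' m α hα
  haveI := isIso_α2_app φ P
  let e2 : (DCoh.Lpull (ff φ)).obj K ≅ (FF φ).obj P := asIso ((α2 φ).app P)
  obtain ⟨E', a, b, hv, hp, ⟨t⟩⟩ :=
    exists_of_isStrictlyPerfect (CommRingCat.of (Localization.Away f)) G hG
  let s : (DCoh.tildeD (CommRingCat.of (Localization.Away f))).obj (DerivedCategory.Q.obj E') ≅
      (DCoh.Lpull j').obj (DerivedCategory.Q.obj E) :=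
    (facT (CommRingCat.of (Localization.Away f))).app E' ≪≫ DerivedCategory.Q.mapIso t ≪≫
      (lpullIso j' E (kffs_of_isStrictlyPerfect E hE)).symm
  let r : (DCoh.Lpull j').obj ((DCoh.Lpull V.ι).obj K) ≅
      (DCoh.tildeD (CommRingCat.of (Localization.Away f))).obj
        (DerivedCategory.Q.obj ((bcCx φ).obj P)) :=
    c1.app K ≪≫ c2.app K ≪≫ e2 ≪≫
      ((facT (CommRingCat.of (Localization.Away f))).app ((bcCx φ).obj P)).symm
  have hγ : PropM m (s.hom ≫ ((DCoh.Lpull j').map α ≫ r.hom)) :=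
    (propM_iso_comp_iff m s _).2 ((propM_comp_iso_iff m _ r).2 hβ)
  let γ' := (tildeDFullyFaithful (CommRingCat.of (Localization.Away f))).preimage
    (s.hom ≫ ((DCoh.Lpull j').map α ≫ r.hom))
  have hγ' : PropM m γ' := by
    refine (propM_tildeD_map_iff (CommRingCat.of (Localization.Away f)) m γ').1 ?_
    have e : (DCoh.tildeD (CommRingCat.of (Localization.Away f))).map γ' =
        s.hom ≫ ((DCoh.Lpull j').map α ≫ r.hom) :=
      (tildeDFullyFaithful (CommRingCat.of (Localization.Away f))).map_preimage _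
    rw [e]
    exact hγ
  exact isPseudoCoherent_of_projective m _ E' a b hv hp γ' hγ'

/-- (⇒) -/
theorem isPseudoCoherent_of_tildeD (M : Dual.D A) (m : ℤ)
    (h : DCoh.IsPseudoCoherentD m ((DCoh.tildeD (CommRingCat.of A)).obj M)) :
    DRing.IsPseudoCoherent A m M := by
  obtain ⟨P, π, hP, -, hπ, -⟩ := exists_kprojective_resolution (DerivedCategory.Q.objPreimage M)
  haveI : P.IsKProjective := hP
  haveI : IsIso (DerivedCategory.Q.map π) := (DerivedCategory.isIso_Q_map_iff_quasiIso (φ := π)).2 hπ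
  let eP : DerivedCategory.Q.obj P ≅ M :=
    asIso (DerivedCategory.Q.map π) ≪≫ DerivedCategory.Q.objObjPreimageIso M
  have h' : DCoh.IsPseudoCoherentD m
      ((DCoh.tildeD (CommRingCat.of A)).obj (DerivedCategory.Q.obj P)) :=
    isPseudoCoherentD_of_iso m ((DCoh.tildeD (CommRingCat.of A)).mapIso eP.symm) h
  choose f hf1 hf2 using exists_isPseudoCoherent_bcCx m P h'
  have hspan : Ideal.span (Set.range f) = ⊤ := by
    by_contra hne
    obtain ⟨I, hI, hle⟩ := Ideal.exists_le_maximal _ hne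
    exact hf1 ⟨I, hI.isPrime⟩ (hle (Ideal.subset_span ⟨_, rfl⟩))
  obtain ⟨s, hs1, hs2⟩ := (Ideal.span_eq_top_iff_finite _).1 hspan
  let g : Fin s.card → A := fun i => ((s.equivFin.symm i : s) : A)
  have hg : Set.range g = (s : Set A) := by
    ext a
    constructor
    · rintro ⟨i, rfl⟩
      exact (s.equivFin.symm i).2
    · intro ha
      exact ⟨s.equivFin ⟨a, ha⟩, by simp [g]⟩
  have key := Groth.Agent.S2087.result g (by rw [hg]; exact hs2) P m (fun i => by
    obtain ⟨x, hx⟩ : ∃ x, f x = g i := hs1 (s.equivFin.symm i).2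
    exact hx ▸ hf2 x)
  exact isPC_of_iso eP key

/-- **`M~` is `m`-pseudo-coherent iff `M` is.** -/
theorem isPseudoCoherentD_tildeD_iff (M : Dual.D A) (m : ℤ) :
    DCoh.IsPseudoCoherentD m ((DCoh.tildeD (CommRingCat.of A)).obj M) ↔
      DRing.IsPseudoCoherent A m M :=
  ⟨isPseudoCoherent_of_tildeD M m, isPseudoCoherentD_tildeD_of M m⟩

end affine

end Groth.Agent.R2.H5.PCTilde
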