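import Groth.Prelude.Def_DCoh2
import Groth.Agent.R2.H5CohThick
import Groth.Agent.Lib.Helper17Hyp23
import Groth.Agent.Lib.Helper23AffOpen2

/-!
# `D_QCoh`: quasi-coherent modules form a weak Serre subcategory; `E = R lim τ_{≥ -n} E` (helper5, dqcoh A.4)

* `qcP X` : the class of quasi-coherent modules on `X` (`= Coh.IsQCoh`), with `WSerre.IsWeakSerre (qcP X)`.
* `isRlimVia_truncTower_of_isQCohD` : for `E ∈ D_QCoh(O_X)` on any scheme, `E` is the derived limit of its
  truncations `τ_{≥ -n} E` (this is S1007).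
-/

set_option autoImplicit false
set_option linter.style.haveILetI false
universe u
open CategoryTheory CategoryTheory.Limits AlgebraicGeometry TopologicalSpace Opposite ZeroObject
attribute [local instance] HasDerivedCategory.standard

namespace Groth.Agent.R2.H5.DQCoh

open Groth.Agent.Lib.Helper23.QCohLocal

variable (X : Scheme.{u})

/-- the class of quasi-coherent modules -/
abbrev qcP : ObjectProperty X.Modules := fun M => Coh.IsQCoh M

instance qcP_isClosedUnderIsomorphisms : (qcP X).IsClosedUnderIsomorphisms where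
  of_iso := fun e h => (SheafOfModules.isQuasicoherent X.ringCatSheaf).prop_of_iso e h

theorem isQCoh_of_isZero {Z : X.Modules} (hZ : IsZero Z) : Coh.IsQCoh Z :=
  (Groth.Agent.R2.H5.CohThick.isCoh_of_isZero X hZ).1

instance qcP_containsZero : (qcP X).ContainsZero where
  exists_zero := ⟨0, isZero_zero _, isQCoh_of_isZero X (isZero_zero _)⟩

instance qcP_isClosedUnderCokernels : (qcP X).IsClosedUnderCokernels where
  cokernels_le := by
    rintro _ ⟨f, k, hk, ⟨hq1, hq2⟩⟩
    change SheafOfModules.IsQuasicoherent (R := X.ringCatSheaf) _ at hq1 hq2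
    haveI := hq1
    haveI := hq2
    have hq : (cokernel f).IsQuasicoherent := isQuasicoherent_cokernel f
    let e : cokernel f ≅ k.pt := (colimit.isColimit _).coconePointUniqueUpToIso hk
    exact (qcP X).prop_of_iso e hq

instance qcP_isClosedUnderKernels : (qcP X).IsClosedUnderKernels where
  kernels_le := by
    rintro _ ⟨f, k, hk, ⟨hq1, hq2⟩⟩
    change SheafOfModules.IsQuasicoherent (R := X.ringCatSheaf) _ at hq1 hq2
    haveI := hq1
    haveI := hq2
    have hq : (kernel f).IsQuasicoherent := isQuasicoherent_kernel f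
    let e : kernel f ≅ k.pt := (limit.isLimit _).conePointUniqueUpToIso hk
    exact (qcP X).prop_of_iso e hq

instance qcP_isClosedUnderExtensions : (qcP X).IsClosedUnderExtensions where
  prop_X₂_of_shortExact := fun {S} hS h1 h3 => isQuasicoherent_of_shortExact S hS h1 h3

instance qcP_isWeakSerre : WSerre.IsWeakSerre (qcP X) where

lemma isQCohD_eq : (DCoh.IsQCohD : ObjectProperty (DCoh.D X)) = WSerre.cohIn (qcP X) := rfl

/-- every open is covered by affine opens (site form). -/
lemma exists_affine_cover (U : X.Opens) :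
    ∃ (ι : Type u) (Y : ι → X.Opens) (g : ∀ i, Y i ⟶ U),
      Sieve.ofArrows Y g ∈ Opens.grothendieckTopology X U ∧ ∀ i, Y i ∈ {V : X.Opens | IsAffineOpen V} := by
  refine ⟨{V : X.Opens // IsAffineOpen V ∧ V ≤ U}, fun V => V.1, fun V => homOfLE V.2.2, ?_,
    fun V => V.2.1⟩
  intro x hx
  obtain ⟨V, hV, hxV, hVU⟩ := (Opens.isBasis_iff_nbhd.1 X.isBasis_affineOpens) hx
  exact ⟨V, homOfLE hVU, ⟨V, 𝟙 _, homOfLE hVU,
    Presieve.ofArrows.mk (⟨V, hV, hVU⟩ : {V : X.Opens // IsAffineOpen V ∧ V ≤ U}),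
    Category.id_comp _⟩, hxV⟩

/-- affine opens have cohomological dimension `0` for quasi-coherent modules, cofinally (site form). -/
lemma affine_vanishing_cofinal (V : X.Opens) (_ : V ∈ {V : X.Opens | IsAffineOpen V}) :
    ∃ d : ℕ, ∀ T ∈ Opens.grothendieckTopology X V, ∃ (ι : Type u) (Y : ι → X.Opens) (g : ∀ i, Y i ⟶ V),
      (∀ i, T.arrows (g i)) ∧ Sieve.ofArrows Y g ∈ Opens.grothendieckTopology X V ∧
      ∀ (i : ι) (F : ModSite.Mod X.sheaf), qcP X F → ∀ k : ℕ, d < k →
        Subsingleton (ModSite.HU X.sheaf F k (Y i)) := by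
  refine ⟨0, fun T hT => ?_⟩
  refine ⟨{W : X.Opens // IsAffineOpen W ∧ ∃ h : W ≤ V, T.arrows (homOfLE h)}, fun W => W.1,
    fun W => homOfLE W.2.2.choose, fun W => W.2.2.choose_spec, ?_, ?_⟩
  · intro x hx
    obtain ⟨W', f, hf, hxW'⟩ := hT x hx
    obtain ⟨W, hW, hxW, hWW'⟩ := (Opens.isBasis_iff_nbhd.1 X.isBasis_affineOpens) hxW'
    have hWV : W ≤ V := hWW'.trans (leOfHom f)
    have hTW : T.arrows (homOfLE hWV) := by
      have := T.downward_closed hf (homOfLE hWW')
      exact (Subsingleton.elim _ _ : homOfLE hWW' ≫ f = homOfLE hWV) ▸ this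
    exact ⟨W, homOfLE hWV, ⟨W, 𝟙 _, homOfLE hWV,
      Presieve.ofArrows.mk
        (⟨W, hW, hWV, hTW⟩ : {W : X.Opens // IsAffineOpen W ∧ ∃ h : W ≤ V, T.arrows (homOfLE h)}),
      Category.id_comp _⟩, hxW⟩
  · intro W F hF k hk
    obtain ⟨i, rfl⟩ : ∃ i, k = i + 1 := ⟨k - 1, by omega⟩
    change SheafOfModules.IsQuasicoherent (R := X.ringCatSheaf) _ at hF
    haveI := hF
    exact Groth.Agent.Lib.Helper23.AffVanish.subsingleton_HE_of_isAffineOpen W.2.1 F i

/-- `E = R lim τ_{≥ -n} E` for `E ∈ D_QCoh(O_X)`. -/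
theorem isRlimVia_truncTower_of_isQCohD (E : DCoh.D X) (hE : DCoh.IsQCohD E)
    [HasProduct (CohCx.truncTower E)] :
    CohCx.IsRlimVia (CohCx.truncTower E) (CohCx.truncTowerMap E) E (CohCx.toTruncTower E) :=
  @Groth.Agent.Lib.Helper17.Hyp.isRlimVia_truncTower_of_wserre _ _ _ X.sheaf _ (qcP X)
    {V : X.Opens | IsAffineOpen V} (exists_affine_cover X) (affine_vanishing_cofinal X) E hE ‹_›

/-- countable products exist in `D(O_X)`. -/
theorem hasLimitsOfShape_nat : HasLimitsOfShape (Discrete ℕ) (DCoh.D X) :=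
  Groth.Agent.Lib.Helper17.Hyp.hasLimitsOfShape_nat_mod X.sheaf

end Groth.Agent.R2.H5.DQCoh
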