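import Groth.Agent.R2.H5DQCohAff3
import Groth.Agent.R2.H5DQCohRlim
import Groth.Agent.Lib.Helper17Hyp24
import Groth.Agent.Lib.Helper17Hyp18

/-!
# `D(R) ≃ D_QCoh(O_{Spec R})` (helper5, project dqcoh, stage A.5)

* `isIso_homology_rlim_moduleCat`: cohomology of a derived limit of a tower in `D^+(R)` with eventually
  constant cohomology (the analogue of S9064 for module categories).
* `tildeD_equivalence`: unit and counit of `tildeD ⊣ RΓ` are isomorphisms on `D(R)`, resp. `D_QCoh`.
-/

set_option autoImplicit false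
set_option linter.style.haveILetI false
universe u
open CategoryTheory CategoryTheory.Limits AlgebraicGeometry ZeroObject
attribute [local instance] HasDerivedCategory.standard

namespace Groth.Agent.R2.H5.DQCohAff

open DerivedCategory Abelian Groth.Agent.Lib.Helper17.Hyp Groth.Agent.R2.H5.DQCoh

section Top

universe v' u'

variable {C : Type u'} [Category.{v'} C] [Abelian C]

instance isWeakSerre_top : WSerre.IsWeakSerre (⊤ : ObjectProperty C) where
  exists_zero := ⟨0, isZero_zero _, trivial⟩
  kernels_le := fun _ _ => trivial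
  cokernels_le := fun _ _ => trivial
  prop_X₂_of_shortExact := fun _ _ _ => trivial

end Top

section ModuleCat

variable (R : Type u) [Ring R]

/-- the constant functor with value `R` on the one-point category. -/
noncomputable def frR : Discrete PUnit.{1} ⥤ ModuleCat.{u} R := (Functor.const _).obj (ModuleCat.of R R)

lemma locFr_frR : LocFr (GrothendieckTopology.trivial (Discrete PUnit.{1})) (frR R) where
  lift := by
    intro F G π _ U s
    refine ⟨⊤, (GrothendieckTopology.trivial_covering).2 rfl, fun V f _ => ?_⟩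
    haveI : Projective (ModuleCat.of R R) := ModuleCat.projective_of_categoryTheory_projective _
    let s' : ModuleCat.of R R ⟶ G := s
    let l : ModuleCat.of R R ⟶ F := Projective.factorThru s' π
    have h1 : l ≫ π = s' := Projective.factorThru_comp s' π
    have h2 : (frR R).map f ≫ s = s' := Category.id_comp _
    exact ⟨l, h1.trans h2.symm⟩
  sep := by
    intro G U s T hT h
    rw [GrothendieckTopology.trivial_covering] at hT
    subst hT
    have := h (𝟙 U) trivial
    rwa [CategoryTheory.Functor.map_id, Category.id_comp] at this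
  gen := by
    intro G G' π h
    refine (isSeparator_self R).def _ _ (fun s => ?_)
    rw [comp_zero]
    exact h ⟨PUnit.unit⟩ s

variable [HasDerivedCategory.{u + 1} (ModuleCat.{u} R)]

/-- analogue of S9064 for `D(R)`. -/
theorem isIso_homology_rlim_moduleCat
    (K : ℕ → DerivedCategory (ModuleCat.{u} R)) (t : ∀ n, K (n + 1) ⟶ K n) [HasProduct K]
    (hK : ∀ n, WSerre.cohInPlus (⊤ : ObjectProperty (ModuleCat.{u} R)) (K n))
    (hconst : ∀ j : ℤ, ∃ n₀ : ℕ, ∀ n, n₀ ≤ n →
      IsIso ((homologyFunctor (ModuleCat.{u} R) j).map (t n)))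
    (L : DerivedCategory (ModuleCat.{u} R)) (a : ∀ n, L ⟶ K n) (hL : CohCx.IsRlimVia K t L a)
    (j : ℤ) :
    ∃ n₀ : ℕ, ∀ n, n₀ ≤ n → IsIso ((homologyFunctor (ModuleCat.{u} R) j).map (a n)) := by
  haveI : Projective (ModuleCat.of R R) := ModuleCat.projective_of_categoryTheory_projective _
  haveI : HasExt.{u + 1} (ModuleCat.{u} R) := HasExt.standard _
  choose n₀ hn₀ using hconst
  refine ⟨n₀ j, fun n hn => ?_⟩
  apply isIso_homology_of_evBij.{_, u} (locFr_frR R) hL j n
    (fun n' hn' => hn₀ j n' (le_trans hn hn'))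
  intro U
  refine ⟨(⊤ : Sieve U).arrows, ?_, ?_⟩
  · rw [Sieve.generate_sieve]
    exact (GrothendieckTopology.trivial_covering).2 rfl
  intro V g _
  let N := max n ((Finset.Icc (j - 2) (j + 1)).sup n₀)
  have hN : ∀ q : ℤ, j - 2 ≤ q → q ≤ j + 1 → n₀ q ≤ N := fun q h1 h2 =>
    le_trans (Finset.le_sup (f := n₀) (Finset.mem_Icc.2 ⟨h1, h2⟩)) (le_max_right _ _)
  refine ⟨N, le_max_left _ _, fun T hT => ?_⟩
  refine ⟨T.arrows, le_rfl, ?_, ?_⟩
  · rw [Sieve.generate_sieve]
    exact hT
  intro W g' _
  have hP : ∀ F : ModuleCat.{u} R, (⊤ : ObjectProperty (ModuleCat.{u} R)) F → ∀ k : ℕ, 0 < k →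
      Subsingleton (dsgl ((frR R).obj W) ⟶
        ((DerivedCategory.singleFunctor (ModuleCat.{u} R) 0).obj F)⟦(k : ℤ)⟧) := by
    intro F _ k hk
    exact subsingleton_single_shift.{u + 1} (ModuleCat.of R R) F
      (fun k => Ext.subsingleton_of_projective _ _ k) (k : ℤ) (by omega)
  haveI : (dsgl ((frR R).obj W)).IsLE 0 :=
    inferInstanceAs (((DerivedCategory.singleFunctor (ModuleCat.{u} R) 0).obj
      ((frR R).obj W)).IsLE 0)
  constructor
  · intro n' hn'
    exact bijective_postcomp_of_homology (⊤ : ObjectProperty (ModuleCat.{u} R)) _ 0 hP (t n')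
      (hK _) (hK _) (j - 1)
      (fun q h1 h2 => hn₀ q n' (le_trans (hN q (by push_cast at h1; omega) (by omega)) hn'))
  · intro n' hn'
    exact bijective_postcomp_of_homology (⊤ : ObjectProperty (ModuleCat.{u} R)) _ 0 hP (t n')
      (hK _) (hK _) j
      (fun q h1 h2 => hn₀ q n' (le_trans (hN q (by push_cast at h1; omega) (by omega)) hn'))

end ModuleCat

variable (R : CommRingCat.{u}) [PreservesFiniteLimits (tilde.functor R)]

omit [PreservesFiniteLimits (tilde.functor R)] in
theorem hasLimitsOfShape_nat_moduleCat :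
    HasLimitsOfShape (Discrete ℕ) (DerivedCategory (ModuleCat.{u} R)) := by
  haveI : HasProducts.{u} (DerivedCategory (ModuleCat.{u} R)) :=
    Groth.Agent.Lib.Helper17.KInj.hasProducts_derivedCategory
  haveI : HasLimitsOfShape (Discrete (ULift.{u} ℕ)) (DerivedCategory (ModuleCat.{u} R)) :=
    inferInstance
  exact hasLimitsOfShape_of_equivalence (Discrete.equivalence Equiv.ulift.{u, 0})

/-- **`D(R) ≃ D_QCoh(O_{Spec R})`**: the unit of `tildeD ⊣ RΓ` is an isomorphism on all of `D(R)`, `tildeD` lands in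
`D_QCoh`, and the counit is an isomorphism on `D_QCoh`. -/
theorem tildeD_equivalence :
    (∀ Y : DerivedCategory (ModuleCat.{u} R),
      DCoh.IsQCohD ((DCoh.tildeD R).obj Y) ∧ IsIso ((adjD R).unit.app Y)) ∧
    (∀ K : DCoh.D (Spec (CommRingCat.of R)), DCoh.IsQCohD K → IsIso ((adjD R).counit.app K)) := by
  haveI := hasLimitsOfShape_nat_moduleCat R
  haveI := hasLimitsOfShape_nat (Spec (CommRingCat.of R))
  have h2a : ∀ M : ModuleCat.{u} R, (⊤ : ObjectProperty (ModuleCat.{u} R)) M →
      qcP (Spec (CommRingCat.of R)) ((tilde.functor R).obj M) := fun M _ => inferInstance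
  have h2b : ∀ M N : ModuleCat.{u} R, (⊤ : ObjectProperty (ModuleCat.{u} R)) M →
      (⊤ : ObjectProperty (ModuleCat.{u} R)) N →
      Function.Bijective (fun φ : M ⟶ N => (tilde.functor R).map φ) := fun M N _ _ =>
    ⟨(tilde.functor R).map_injective, (tilde.functor R).map_surjective⟩
  have h2c : ∀ N : (Spec (CommRingCat.of R)).Modules, qcP (Spec (CommRingCat.of R)) N →
      ∃ M : ModuleCat.{u} R, (⊤ : ObjectProperty (ModuleCat.{u} R)) M ∧
        Nonempty ((tilde.functor R).obj M ≅ N) := by
    intro N hN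
    have hN' : (tilde.functor R).essImage N := (essImage_tilde (R := R)).ge _ hN
    obtain ⟨M, ⟨e⟩⟩ := hN'
    exact ⟨M, trivial, ⟨e⟩⟩
  have h3 : ∀ M : ModuleCat.{u} R, (⊤ : ObjectProperty (ModuleCat.{u} R)) M →
      IsIso ((adjD R).unit.app ((singleFunctor (ModuleCat.{u} R) 0).obj M)) :=
    fun M _ => isIso_unit_tilde R M
  have main := unbounded_equivalence (tilde.functor R) (RΓd R) (adjD R)
    (⊤ : ObjectProperty (ModuleCat.{u} R)) (qcP (Spec (CommRingCat.of R))) h2a h2c h3
    (fun X hX => isRlimVia_truncTower_of_isQCohD _ X hX) ?_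
  · exact ⟨fun Y => main.1 Y (fun _ => trivial), fun K hK => (main.2 K hK).2⟩
  · intro X t hXn hconst L a hL j
    refine isIso_homology_rlim_moduleCat R (fun n => (RΓd R).obj (X n))
      (fun n => (RΓd R).map (t n)) ?_ ?_ L a hL j
    · intro n
      exact ((Groth.Agent.Lib.Helper17.AdjWay.plus_equivalence (tilde.functor R) (RΓd R) (adjD R)
        (⊤ : ObjectProperty (ModuleCat.{u} R)) (qcP (Spec (CommRingCat.of R))) h2c h3 h2a).2 _
        (hXn n)).1
    · intro j'
      obtain ⟨n₀, hn₀⟩ := hconst j'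
      exact ⟨n₀, fun n hn => isIso_homology_right_map (tilde.functor R) (RΓd R) (adjD R)
        (⊤ : ObjectProperty (ModuleCat.{u} R)) (qcP (Spec (CommRingCat.of R)))
        h2a h2b h2c h3 (hXn (n + 1)) (hXn n) (t n) j' (hn₀ n hn)⟩

end Groth.Agent.R2.H5.DQCohAff
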