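import Mathlib
import Groth.Prelude.Def_CxOX
import Groth.Prelude.Def_DCoh3
import Groth.Agent.S0997
import Groth.Agent.S6942
import Groth.Agent.S9498
import Groth.Agent.R2.H4Perf
import Groth.Agent.R2.H5PCTilde
import Groth.Agent.R2.H12DevF
import Groth.Agent.R2.H12DevH
import Groth.Agent.Lib.Helper17AdjWay1
import Groth.Agent.Lib.Helper23FinType2

/-!
# Pseudo-coherence on Noetherian schemes via coherent cohomology (helper99, round 2)

Namespace `Groth.Agent.R2.H99.PCNoeth`.

* `loc_restrict` : helper4's `Loc Φ` is stable under restriction along open immersions.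
* `exists_affine_model` : for `E ∈ D_QCoh(X)` and an affine open `V`, `E|_{Spec Γ(X,V)} ≅ M~` with
  `(H^i M)~ ≅ H^i(E)|_{Spec Γ(X,V)}`.
* `isPseudoCoherentD_iff_coherent` : S1039.
-/

set_option autoImplicit false
set_option linter.style.haveILetI false
universe u
open CategoryTheory CategoryTheory.Limits AlgebraicGeometry TopologicalSpace

attribute [local instance] HasDerivedCategory.standard

namespace Groth.Agent.R2.H99.PCNoeth

open DerivedCategory Groth.Agent.R2.H4.Perf Groth.Agent.Lib.Helper17.AdjWay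
  Groth.Agent.Lib.Helper23.FinType

instance (R : CommRingCat.{u}) : PreservesFiniteLimits (tilde.functor R) :=
  (Groth.Agent.S9498.aux R).1

section Loc

variable {Φ : ∀ (U : Scheme.{u}), DCoh.D U → Prop}

/-- `Loc Φ` is stable under restriction along open immersions. -/
lemma loc_restrict (hΦ : IsLocalPred Φ) {U X : Scheme.{u}} (j : U ⟶ X) [IsOpenImmersion j]
    (K : DCoh.D X) (h : Loc Φ K) : Loc Φ ((DCoh.restrictD j).obj K) := by
  rw [loc_iff_opens hΦ] at h ⊢
  intro y
  obtain ⟨V, hxV, hV⟩ := h (j y)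
  refine ⟨j ⁻¹ᵁ V, hxV, ?_⟩
  -- `k : j⁻¹V ⟶ V`
  let k : ((j ⁻¹ᵁ V : U.Opens) : Scheme.{u}) ⟶ (V : Scheme.{u}) := j.resLE V (j ⁻¹ᵁ V) le_rfl
  have fac : k ≫ V.ι = (j ⁻¹ᵁ V).ι ≫ j := Scheme.Hom.resLE_comp_ι _ _
  haveI : IsOpenImmersion (k ≫ V.ι) := by rw [fac]; infer_instance
  haveI : IsOpenImmersion k := IsOpenImmersion.of_comp k V.ι
  have h1 : Φ _ ((DCoh.restrictD k).obj ((DCoh.restrictD V.ι).obj K)) := hΦ.restrict k _ hV
  refine hΦ.of_iso ?_ h1
  exact ((restrictDComp k V.ι).app K).symm ≪≫ (restrictDCongr fac).app K ≪≫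
    (restrictDComp (j ⁻¹ᵁ V).ι j).app K

end Loc

section Model

variable {X : Scheme.{u}}

/-- the affine model of an object of `D_QCoh(X)` over an affine open `V`. -/
theorem exists_affine_model (E : DCoh.D X) (hE : DCoh.IsQCohD E) {V : X.Opens}
    (hV : IsAffineOpen V) :
    ∃ M : DerivedCategory (ModuleCat.{u} Γ(X, V)),
      Nonempty ((DCoh.tildeD Γ(X, V)).obj M ≅ (DCoh.restrictD hV.fromSpec).obj E) ∧
      ∀ i : ℤ, Nonempty ((tilde.functor Γ(X, V)).obj ((homologyFunctor (ModuleCat.{u} Γ(X, V)) i).obj M) ≅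
        (Scheme.Modules.restrictFunctor hV.fromSpec).obj (DCoh.HD E i)) := by
  let A : CommRingCat.{u} := Γ(X, V)
  let j : Spec A ⟶ X := hV.fromSpec
  let K' : DCoh.D (Spec A) := (DCoh.restrictD j).obj E
  have iso3 : ∀ i : ℤ, DCoh.HD K' i ≅ (Scheme.Modules.restrictFunctor j).obj (DCoh.HD E i) :=
    fun i => homologyIso (Scheme.Modules.restrictFunctor j) E i
  have hq : DCoh.IsQCohD K' := by
    intro i
    haveI : (DCoh.HD E i).IsQuasicoherent := hE i
    exact Groth.Agent.R2.H12.Dev.qcoh_of_iso (iso3 i).symm inferInstance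
  obtain ⟨M, ⟨e⟩⟩ := ((Groth.Agent.S0997.result A).2.2 K').1 hq
  exact ⟨M, ⟨e⟩, fun i => ⟨(homologyIso (tilde.functor A) M i).symm ≪≫
    (homologyFunctor _ i).mapIso e ≪≫ iso3 i⟩⟩

/-- sections form. -/
noncomputable def homologyIsoΓU {V : X.Opens} (hV : IsAffineOpen V) (N : ModuleCat.{u} Γ(X, V))
    (F : X.Modules)
    (ε : (tilde.functor Γ(X, V)).obj N ≅ (Scheme.Modules.restrictFunctor hV.fromSpec).obj F) :
    N ≅ ΓU F hV :=
  (tilde.toTildeΓNatIso (R := Γ(X, V))).app _ ≪≫ (moduleSpecΓFunctor (R := Γ(X, V))).mapIso ε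

end Model

section Main

variable {X : Scheme.{u}}

lemma isZero_of_forall_affine_restrict (F : X.Modules)
    (h : ∀ (V : X.Opens) (hV : IsAffineOpen V),
      IsZero ((Scheme.Modules.restrictFunctor hV.fromSpec).obj F)) : IsZero F := by
  apply Groth.Agent.R2.H12.Dev.isZero_of_vanOn_top
  have h1 : Groth.Agent.R2.H12.Dev.VanOn F (sSup {W : X.Opens | IsAffineOpen W}) := by
    apply Groth.Agent.R2.H12.Dev.vanOn_sSup
    intro W hW
    have := Groth.Agent.R2.H12.Dev.vanOn_of_isZero_restrict (IsAffineOpen.fromSpec hW) F (h W hW)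
    rwa [IsAffineOpen.opensRange_fromSpec] at this
  have h2 : sSup {W : X.Opens | IsAffineOpen W} = ⊤ := by
    rw [eq_top_iff]
    intro x _
    obtain ⟨_, ⟨V, hV, rfl⟩, hxV, -⟩ :=
      X.isBasis_affineOpens.exists_subset_of_mem_open (Set.mem_univ x) isOpen_univ
    exact (Opens.mem_sSup).2 ⟨V, hV, hxV⟩
  rwa [h2] at h1

/-- **S1039**. -/
theorem isPseudoCoherentD_iff_coherent [IsNoetherian X] (E : DCoh.D X) (hE : DCoh.IsQCohD E) (m : ℤ) :
    DCoh.IsPseudoCoherentD m E ↔
      (∀ i : ℤ, m ≤ i → Coh.IsCoh (DCoh.HD E i)) ∧ ∃ b : ℤ, E.IsLE b := by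
  constructor
  · intro hpc
    have hloc := (isPseudoCoherentD_iff m E).1 hpc
    -- affine-local information
    have key : ∀ (V : X.Opens) (hV : IsAffineOpen V),
        (∃ b : ℤ, ∀ i : ℤ, b < i →
          IsZero ((Scheme.Modules.restrictFunctor hV.fromSpec).obj (DCoh.HD E i))) ∧
        ∀ i : ℤ, m ≤ i → Module.Finite Γ(X, V) Γ(DCoh.HD E i, V) := by
      intro V hV
      haveI : IsNoetherianRing Γ(X, V) := IsLocallyNoetherian.component_noetherian ⟨V, hV⟩
      obtain ⟨M, ⟨e⟩, hM⟩ := exists_affine_model E hE hV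
      have h1 : DCoh.IsPseudoCoherentD m ((DCoh.restrictD hV.fromSpec).obj E) :=
        (isPseudoCoherentD_iff m _).2 (loc_restrict (isLocalPred_spApprox m) hV.fromSpec E hloc)
      have h2 : DCoh.IsPseudoCoherentD m ((DCoh.tildeD Γ(X, V)).obj M) :=
        Groth.Agent.R2.H5.PCTilde.isPseudoCoherentD_of_iso m e.symm h1
      have h3 : DRing.IsPseudoCoherent Γ(X, V) m M :=
        (Groth.Agent.R2.H5.PCTilde.isPseudoCoherentD_tildeD_iff M m).1 h2
      obtain ⟨⟨b, hb⟩, hfin⟩ := ((Groth.Agent.S6942.result Γ(X, V) m M PUnit.{u + 1}).1).1 h3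
      refine ⟨⟨b, fun i hi => ?_⟩, fun i hi => ?_⟩
      · obtain ⟨ε⟩ := hM i
        haveI := hb i hi
        exact IsZero.of_iso ((tilde.functor Γ(X, V)).map_isZero
          (ModuleCat.isZero_of_subsingleton _)) ε.symm
      · obtain ⟨ε⟩ := hM i
        haveI := hfin i hi
        have h4 : Module.Finite Γ(X, V) (ΓU (DCoh.HD E i) hV) :=
          Module.Finite.equiv (homologyIsoΓU hV _ _ ε).toLinearEquiv
        exact (finite_ΓU_iff _ hV).1 h4
    refine ⟨fun i hi => ?_, ?_⟩
    · haveI : (DCoh.HD E i).IsQuasicoherent := hE i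
      refine ⟨hE i, ?_⟩
      exact isFiniteType_of_finite (DCoh.HD E i) (fun V : X.affineOpens => (V : X.Opens))
        (iSup_affineOpens_eq_top X) (fun V => V.2) (fun V => (key V.1 V.2).2 i hi)
    · -- boundedness: finite affine cover
      have key' : ∀ V : X.affineOpens, ∃ b : ℤ, ∀ i : ℤ, b < i →
          IsZero ((Scheme.Modules.restrictFunctor
            (IsAffineOpen.fromSpec (show IsAffineOpen (V : X.Opens) from V.2))).obj
              (DCoh.HD E i)) := fun V => (key V.1 V.2).1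
      choose b hb using key'
      have hcov : (Set.univ : Set X) ⊆ ⋃ V : X.affineOpens, ((V : X.Opens) : Set X) := by
        intro x _
        obtain ⟨_, ⟨V, hV, rfl⟩, hxV, -⟩ :=
          X.isBasis_affineOpens.exists_subset_of_mem_open (Set.mem_univ x) isOpen_univ
        exact Set.mem_iUnion.2 ⟨⟨V, hV⟩, hxV⟩
      obtain ⟨t, ht⟩ := isCompact_univ.elim_finite_subcover
        (fun V : X.affineOpens => ((V : X.Opens) : Set X)) (fun V => V.1.2) hcov
      obtain ⟨B, hB⟩ := (t.image b).exists_le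
      refine ⟨B, ?_⟩
      rw [DerivedCategory.isLE_iff]
      intro i hi
      apply Groth.Agent.R2.H12.Dev.isZero_of_vanOn_top
      have h1 : Groth.Agent.R2.H12.Dev.VanOn (DCoh.HD E i)
          (sSup {W : X.Opens | ∃ V ∈ t, W = (V : X.Opens)}) := by
        apply Groth.Agent.R2.H12.Dev.vanOn_sSup
        rintro W ⟨V, hVt, rfl⟩
        have hbi : b V < i := lt_of_le_of_lt (hB _ (Finset.mem_image_of_mem b hVt)) hi
        have hVa : IsAffineOpen (V : X.Opens) := V.2
        have := Groth.Agent.R2.H12.Dev.vanOn_of_isZero_restrict (IsAffineOpen.fromSpec hVa)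
          (DCoh.HD E i) (hb V i hbi)
        rwa [IsAffineOpen.opensRange_fromSpec] at this
      have h2 : sSup {W : X.Opens | ∃ V ∈ t, W = (V : X.Opens)} = ⊤ := by
        rw [eq_top_iff]
        intro x _
        have hx := ht (Set.mem_univ x)
        simp only [Set.mem_iUnion] at hx
        obtain ⟨V, hVt, hxV⟩ := hx
        exact (Opens.mem_sSup).2 ⟨V, ⟨V, hVt, rfl⟩, hxV⟩
      rwa [h2] at h1
  · rintro ⟨hcoh, b, hb⟩
    rw [isPseudoCoherentD_iff]
    apply loc_of_loc_restrict (isLocalPred_spApprox m)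
    intro x
    obtain ⟨_, ⟨V, hV, rfl⟩, hxV, -⟩ :=
      X.isBasis_affineOpens.exists_subset_of_mem_open (Set.mem_univ x) isOpen_univ
    have hV : IsAffineOpen V := hV
    haveI : IsNoetherianRing Γ(X, V) := IsLocallyNoetherian.component_noetherian ⟨V, hV⟩
    let y : Spec Γ(X, V) := hV.primeIdealOf ⟨x, hxV⟩
    have hy : hV.fromSpec y = x := hV.fromSpec_primeIdealOf ⟨x, hxV⟩
    refine ⟨Spec Γ(X, V), hV.fromSpec, inferInstance, y, hy, ?_⟩
    obtain ⟨M, ⟨e⟩, hM⟩ := exists_affine_model E hE hV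
    have h3 : DRing.IsPseudoCoherent Γ(X, V) m M := by
      refine ((Groth.Agent.S6942.result Γ(X, V) m M PUnit.{u + 1}).1).2 ⟨⟨b, fun i hi => ?_⟩,
        fun i hi => ?_⟩
      · obtain ⟨ε⟩ := hM i
        have hz : IsZero (DCoh.HD E i) := DerivedCategory.isZero_of_isLE E b i hi
        have hz' : IsZero ((homologyFunctor (ModuleCat.{u} Γ(X, V)) i).obj M) :=
          IsZero.of_iso ((moduleSpecΓFunctor (R := Γ(X, V))).map_isZero
            ((Scheme.Modules.restrictFunctor hV.fromSpec).map_isZero hz)) (homologyIsoΓU hV _ _ ε)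
        exact ModuleCat.subsingleton_of_isZero hz'
      · obtain ⟨ε⟩ := hM i
        haveI : (DCoh.HD E i).IsQuasicoherent := hE i
        haveI : SheafOfModules.IsFiniteType (R := X.ringCatSheaf) (DCoh.HD E i) := (hcoh i hi).2
        have h1 : Module.Finite Γ(X, V) Γ(DCoh.HD E i, V) := finite_of_isFiniteType _ hV
        have h2 : Module.Finite Γ(X, V) (ΓU (DCoh.HD E i) hV) := (finite_ΓU_iff _ hV).2 h1
        exact Module.Finite.equiv (homologyIsoΓU hV _ _ ε).toLinearEquiv.symm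
    have h2 : DCoh.IsPseudoCoherentD m ((DCoh.tildeD Γ(X, V)).obj M) :=
      (Groth.Agent.R2.H5.PCTilde.isPseudoCoherentD_tildeD_iff M m).2 h3
    have h1 : DCoh.IsPseudoCoherentD m ((DCoh.restrictD hV.fromSpec).obj E) :=
      Groth.Agent.R2.H5.PCTilde.isPseudoCoherentD_of_iso m e h2
    exact (isPseudoCoherentD_iff m _).1 h1 y

end Main

end Groth.Agent.R2.H99.PCNoeth
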