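import Mathlib
import Groth.Prelude.Def_DCoh2
import Groth.Prelude.Def_RegImm
import Groth.Agent.R2.H99PCNoeth
import Groth.Agent.R2.H31KoszulPerf
import Groth.Agent.R2.H5PerfTilde
import Groth.Agent.R2.H4PerfSummand
import Groth.Agent.R2.H28RpushQCohA
import Groth.Agent.Lib.Helper20PullbackAff
import Groth.Agent.R2.H12Dev3A
import Groth.Agent.R2.H5CohThick

/-!
# `i_* O_Z` is perfect for a Koszul-regular closed immersion (helper28)
-/

set_option autoImplicit false
set_option linter.style.haveILetI false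
set_option linter.unusedSectionVars false
universe u
open CategoryTheory CategoryTheory.Limits AlgebraicGeometry Opposite TopologicalSpace
attribute [local instance] HasDerivedCategory.standard

namespace Groth.Agent.R2.H28.KoszulPerf

open DerivedCategory

section Sections

variable {Z X : Scheme.{u}} (i : Z ⟶ X)

/-- the unit section of `i_* O_Z` over `U` -/
noncomputable def one (U : X.Opens) :
    Γ((Scheme.Modules.pushforward i).obj (Coh.structureModule Z), U) :=
  (1 : Γ(Z, i ⁻¹ᵁ U))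

lemma smul_one (U : X.Opens) (a : Γ(X, U)) :
    a • one i U = (i.app U a : Γ(Z, i ⁻¹ᵁ U)) := by
  show (i.app U a) • (1 : Γ(Z, i ⁻¹ᵁ U)) = _
  simp

/-- `Γ(X,U) ⧸ ker(i^♯) ≃ Γ(i_*O_Z, U)` for a closed immersion and an affine open `U`. -/
theorem nonempty_quotEquiv [IsClosedImmersion i] {U : X.Opens} (hU : IsAffineOpen U) :
    Nonempty ((Γ(X, U) ⧸ RingHom.ker (i.app U).hom) ≃ₗ[Γ(X, U)]
      Γ((Scheme.Modules.pushforward i).obj (Coh.structureModule Z), U)) := by
  let φ : Γ(X, U) →ₗ[Γ(X, U)]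
      Γ((Scheme.Modules.pushforward i).obj (Coh.structureModule Z), U) :=
    LinearMap.toSpanSingleton _ _ (one i U)
  have hφ : ∀ a, φ a = (i.app U a : Γ(Z, i ⁻¹ᵁ U)) := fun a => smul_one i U a
  have hsurj : Function.Surjective φ := by
    intro s
    obtain ⟨a, ha⟩ := i.app_surjective U hU (show Γ(Z, i ⁻¹ᵁ U) from s)
    exact ⟨a, (hφ a).trans ha⟩
  have hker : LinearMap.ker φ = RingHom.ker (i.app U).hom := by
    ext a
    rw [LinearMap.mem_ker, RingHom.mem_ker, hφ]
    rfl
  exact ⟨(Submodule.quotEquivOfEq _ _ hker.symm).trans (φ.quotKerEquivOfSurjective hsurj)⟩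

end Sections

section Main

open Groth.Agent.R2.H4.Perf Groth.Agent.R2.H99.PCNoeth Groth.Agent.Lib.Helper23.FinType
  Groth.Agent.R2.H28.RpushQCoh

variable {X : Scheme.{u}}

lemma isQCohD_inD (M : X.Modules) (hM : Coh.IsQCoh M) : DCoh.IsQCohD (DCoh.inD X M) := by
  intro j
  by_cases hj : j = 0
  · subst hj
    exact isQCoh_of_iso ((singleFunctorCompHomologyFunctorIso X.Modules 0).app M).symm hM
  · rcases lt_or_gt_of_ne hj with h | h
    · exact isQCoh_of_isZero (isZero_of_isGE _ 0 j h)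
    · exact isQCoh_of_isZero (isZero_of_isLE _ 0 j h)

/-- an object of `D(A)` concentrated in degree `0` is its `H^0` in degree `0` -/
lemma nonempty_iso_inD_of_homology {A : Type u} [CommRing A]
    (M : DerivedCategory (ModuleCat.{u} A))
    (hz : ∀ j : ℤ, j ≠ 0 → IsZero ((homologyFunctor (ModuleCat.{u} A) j).obj M)) :
    Nonempty (M ≅ (singleFunctor (ModuleCat.{u} A) 0).obj
      ((homologyFunctor (ModuleCat.{u} A) 0).obj M)) := by
  haveI : M.IsGE 0 := (DerivedCategory.isGE_iff M 0).2 (fun j hj => hz j (by omega))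
  haveI : M.IsLE 0 := (DerivedCategory.isLE_iff M 0).2 (fun j hj => hz j (by omega))
  obtain ⟨Y, ⟨e⟩⟩ := exists_iso_singleFunctor_obj_of_isGE_of_isLE M 0
  have e1 : (homologyFunctor (ModuleCat.{u} A) 0).obj M ≅ Y :=
    (homologyFunctor (ModuleCat.{u} A) 0).mapIso e ≪≫
      (singleFunctorCompHomologyFunctorIso (ModuleCat.{u} A) 0).app Y
  exact ⟨e ≪≫ (singleFunctor (ModuleCat.{u} A) 0).mapIso e1.symm⟩

variable {Z : Scheme.{u}} (i : Z ⟶ X)

/-- `i_* O_Z` -/
noncomputable abbrev pushO : X.Modules :=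
  (Scheme.Modules.pushforward i).obj (Coh.structureModule Z)

lemma isQuasicoherent_pushO [IsClosedImmersion i] : (pushO i).IsQuasicoherent :=
  haveI := Groth.Agent.R2.H5.CohThick.isQuasicoherent_structureModule Z
  Groth.Agent.Lib.Helper23.QCohLocal.isQuasicoherent_pushforward i _

open Groth.Agent.Lib.Helper20.PullbackAff Groth.Agent.Lib.Helper20.Thickening
  Groth.Agent.R2.H31.KoszulPerf Groth.Agent.Lib.Helper17.DCompare in
/-- chart-level perfection -/
theorem isPerfect_restrict_of_koszul [IsClosedImmersion i] {U : X.Opens} (hU : IsAffineOpen U)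
    (rs : List Γ(X, U)) (hrs : LCI.IsKoszulRegularSeq Γ(X, U) rs)
    (hker : RingHom.ker (i.app U).hom = Ideal.ofList rs) :
    DCoh.IsPerfect ((DCoh.restrictD hU.fromSpec).obj (DCoh.inD X (pushO i))) := by
  have hq : DCoh.IsQCohD (DCoh.inD X (pushO i)) := isQCohD_inD _ (isQuasicoherent_pushO i)
  obtain ⟨M, ⟨e⟩, hM⟩ := exists_affine_model (DCoh.inD X (pushO i)) hq hU
  have hz : ∀ j : ℤ, j ≠ 0 →
      IsZero ((homologyFunctor (ModuleCat.{u} Γ(X, U)) j).obj M) := by
    intro j hj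
    obtain ⟨ε⟩ := hM j
    have h0 : IsZero (DCoh.HD (DCoh.inD X (pushO i)) j) := by
      rcases lt_or_gt_of_ne hj with h | h
      · exact isZero_of_isGE _ 0 j h
      · exact isZero_of_isLE _ 0 j h
    exact IsZero.of_iso ((moduleSpecΓFunctor (R := Γ(X, U))).map_isZero
      ((Scheme.Modules.restrictFunctor hU.fromSpec).map_isZero h0)) (homologyIsoΓU hU _ _ ε)
  obtain ⟨e0⟩ := nonempty_iso_inD_of_homology M hz
  obtain ⟨ε⟩ := hM 0
  let e1 : (homologyFunctor (ModuleCat.{u} Γ(X, U)) 0).obj M ≅ (ΓUF hU).obj (pushO i) :=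
    homologyIsoΓU hU _ _ ε ≪≫
      (ΓUF hU).mapIso ((singleFunctorCompHomologyFunctorIso X.Modules 0).app (pushO i))
  obtain ⟨q⟩ := nonempty_quotEquiv i hU
  have h1 : DRing.IsPerfectModule Γ(X, U) (Γ(X, U) ⧸ Ideal.span {x | x ∈ rs}) :=
    isPerfectModule_quot_of_regular Γ(X, U) rs hrs
  have h2 : DRing.IsPerfectModule Γ(X, U) ((ΓUF hU).obj (pushO i)) :=
    isPerfectModule_of_linearEquiv Γ(X, U)
      ((Submodule.quotEquivOfEq _ _ hker.symm).trans (q.trans (ΓUEquiv hU (pushO i)))) h1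
  have h3 : DRing.IsPerfect Γ(X, U) M :=
    isPerfect_of_iso ((singleFunctor (ModuleCat.{u} Γ(X, U)) 0).mapIso e1.symm ≪≫ e0.symm) h2
  exact Groth.Agent.R2.H5.PerfTilde.isPerfect_of_iso e
    (Groth.Agent.R2.H5.PerfTilde.isPerfect_tildeD_of_isPerfect M h3)

/-- `i_* O_Z` vanishes on the complement of the image of `i`. -/
lemma isZero_restrict_pushO_compl (V : X.Opens)
    (hV : ∀ x ∈ V, x ∉ Set.range i.base) :
    IsZero ((Scheme.Modules.restrictFunctor V.ι).obj (pushO i)) := by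
  apply Groth.Agent.R2.H12.Dev.isZero_restrict_of_vanOn
  rw [Scheme.Opens.opensRange_ι]
  intro W hW s
  have hs : (show Γ(Coh.structureModule Z, i ⁻¹ᵁ W) from s) = 0 :=
    Groth.Agent.Lib.Helper2.QcPush.section_eq_zero_of_cover _ _ _
      (fun z hz => absurd ⟨z, rfl⟩ (hV _ (hW hz)))
  exact hs

/-- **S6237**: for a Koszul-regular closed immersion, `i_* O_Z` is perfect. -/
theorem isPerfect_pushO [IsClosedImmersion i]
    (hi : RegImm.IsRegularImmersion RegImm.Kind.koszul i) :
    DCoh.IsPerfect (DCoh.inD X (pushO i)) := by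
  rw [isPerfect_iff]
  intro x
  by_cases hx : x ∈ Set.range i.base
  · obtain ⟨z, rfl⟩ := hx
    obtain ⟨U, hzU, -, rs, hrs, hker⟩ := hi.2 z
    have hU : IsAffineOpen U.1 := U.2
    have hP := isPerfect_restrict_of_koszul i hU rs hrs hker
    rw [isPerfect_iff] at hP
    have hy : i.base z ∈ Set.range hU.fromSpec.base := by
      rw [hU.range_fromSpec]; exact hzU
    obtain ⟨y, hy⟩ := hy
    obtain ⟨U', j', hj', y', hy', hSP⟩ := hP y
    haveI := hj'
    refine ⟨U', j' ≫ hU.fromSpec, inferInstance, y', ?_,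
      isLocalPred_spRep.of_iso ((restrictDComp j' hU.fromSpec).app _).symm hSP⟩
    rw [Scheme.Hom.comp_base, TopCat.comp_app, hy', hy]
  · have hcl : IsClosed (Set.range i.base) := i.isClosedEmbedding.isClosed_range
    let V : X.Opens := ⟨(Set.range i.base)ᶜ, hcl.isOpen_compl⟩
    refine ⟨V, V.ι, inferInstance, ⟨x, hx⟩, rfl, ?_⟩
    have hzero : IsZero ((Scheme.Modules.restrictFunctor V.ι).obj (pushO i)) :=
      isZero_restrict_pushO_compl i V (fun x hx => hx)
    have h0 : IsZero ((DCoh.restrictD V.ι).obj (DCoh.inD X (pushO i))) :=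
      IsZero.of_iso (Functor.map_isZero _ hzero) (restrictInDIso V.ι (pushO i))
    exact Groth.Agent.R2.H4.Perf.spRep_zero.of_iso (h0.isoZero).symm

end Main

end Groth.Agent.R2.H28.KoszulPerf
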