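import Groth.Agent.R2.H28RpushRestrict
import Groth.Agent.R2.H28TripleSplit
import Groth.Agent.Lib.Helper23DerLES
import Groth.Agent.Lib.Helper23QCohLocal
import Groth.Agent.Lib.Helper23QCohAbelian
import Groth.Agent.Lib.Helper23DerComp
import Groth.Agent.Lib.Helper23TensorQCoh
import Groth.Prelude.Def_LocCohZ

/-!
# Local cohomology sheaves of `O`-modules: `ℋ^1_Z = coker(M ⟶ j_* j^* M)`,
`ℋ^{q+1}_Z = R^q j_* (M|_U)` (helper28)
-/

set_option autoImplicit false
set_option linter.style.haveILetI false
universe u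
open CategoryTheory CategoryTheory.Limits AlgebraicGeometry TopologicalSpace Opposite

namespace Groth.Agent.R2.H28.LocCohMod

open Groth.Agent.Lib.Helper1.Sky Groth.Agent.Lib.Helper1.StalkTensor
  Groth.Agent.Lib.Helper26.FpqcMod
  Groth.Agent.R2.H28.DerBase Groth.Agent.R2.H28.RGammaZ Groth.Agent.R2.H28.RpushRestrict
  Groth.Agent.Lib.Helper23DerLES

variable {U Y : Scheme.{u}} (j : U ⟶ Y) [IsOpenImmersion j]

/-- the restriction to `U` of the skyscraper at a point outside `j(U)` vanishes -/
lemma isZero_restrict_sky' (x : Y) (hx : x ∉ Set.range j.base) (N : ModuleCat.{u} (Ox x)) :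
    IsZero ((Scheme.Modules.restrictFunctor j).obj ((skyFun x).obj N)) := by
  apply Groth.Agent.R2.H28.ExtZeroMono.isZero_of_subsingleton_sections
  intro W
  have hW : x ∉ j ''ᵁ W := fun h => hx (by
    obtain ⟨y, -, rfl⟩ := h
    exact ⟨y, rfl⟩)
  change Subsingleton (PLift (x ∈ j ''ᵁ W) → N)
  haveI : IsEmpty (PLift (x ∈ j ''ᵁ W)) := ⟨fun h => hW h.down⟩
  infer_instance

/-- the stalk of `j_! P` at a point outside `j(U)` vanishes -/
lemma isZero_stalk_extZero' (x : Y) (hx : x ∉ Set.range j.base) (P : U.Modules) :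
    IsZero ((stalkFun x).obj ((CxOX.extZero j).obj P)) := by
  rw [IsZero.iff_id_eq_zero]
  let adj := (CxOX.extZeroAdj j).comp (stalkSkyAdj x)
  apply (adj.homEquiv P _).injective
  exact (isZero_restrict_sky' j x hx _).eq_of_tgt _ _

instance isIso_restrict_counit' (K : Y.Modules) :
    IsIso ((Scheme.Modules.restrictFunctor j).map ((CxOX.extZeroAdj j).counit.app K)) := by
  have h := (CxOX.extZeroAdj j).right_triangle_components K
  haveI : IsIso ((CxOX.extZeroAdj j).unit.app ((Scheme.Modules.restrictFunctor j).obj K)) :=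
    inferInstance
  exact IsIso.of_isIso_fac_left h

/-- the counit `j_! j^* K ⟶ K` is a monomorphism -/
theorem mono_extZero_counit' (K : Y.Modules) :
    Mono ((CxOX.extZeroAdj j).counit.app K) := by
  rw [mono_iff_stalk]
  intro x
  by_cases hx : x ∈ Set.range j.base
  · obtain ⟨y, rfl⟩ := hx
    have h1 := injective_iff j y ((CxOX.extZeroAdj j).counit.app K)
    have h2 : IsIso ((Scheme.Modules.pullback j).map ((CxOX.extZeroAdj j).counit.app K)) :=
      (NatIso.isIso_map_iff (Scheme.Modules.restrictFunctorIsoPullback j) _).1 inferInstance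
    have h3 : Function.Injective ((stalkFun y).map
        ((Scheme.Modules.pullback j).map ((CxOX.extZeroAdj j).counit.app K))).hom :=
      (ConcreteCategory.bijective_of_isIso _).1
    exact h1.1 h3
  · have hz := isZero_stalk_extZero' j x hx ((Scheme.Modules.restrictFunctor j).obj K)
    haveI : Subsingleton ((stalkFun x).obj ((CxOX.extZero j).obj
        ((Scheme.Modules.restrictFunctor j).obj K))) :=
      ModuleCat.subsingleton_of_isZero hz
    intro a b _
    exact Subsingleton.elim (α := ((stalkFun x).obj ((CxOX.extZero j).obj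
        ((Scheme.Modules.restrictFunctor j).obj K)))) a b

/-- `0 → Γ_Z J → J → j_* j^* J → 0` is exact for injective `J` -/
lemma shortExact_of_injective (J : Y.Modules) [Injective J] :
    (ShortComplex.mk ((CxOX.gammaZι j).app J)
      ((Scheme.Modules.restrictAdjunction j).unit.app J) (kernel.condition _)).ShortExact := by
  haveI : Mono ((CxOX.gammaZι j).app J) := by
    change Mono (kernel.ι ((Scheme.Modules.restrictAdjunction j).unit.app J))
    infer_instance
  haveI : Epi ((Scheme.Modules.restrictAdjunction j).unit.app J) := by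
    haveI : Mono ((triple' j).adj₁.counit.app
        ((Scheme.Modules.pushforward j).obj ((Scheme.Modules.restrictFunctor j).obj J))) :=
      mono_extZero_counit' j _
    obtain ⟨s, hs⟩ := Groth.Agent.R2.H28.TripleSplit.exists_section_unit (triple' j) J
    haveI : IsSplitEpi ((Scheme.Modules.restrictAdjunction j).unit.app J) :=
      IsSplitEpi.mk' ⟨s, hs⟩
    infer_instance
  refine ShortComplex.ShortExact.mk ?_
  exact ShortComplex.exact_of_f_is_kernel _ (kernelIsKernel _)

section LeftExact

/-- the inclusion `Γ_Z F ⟶ F` -/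
noncomputable def gzι (F : Y.Modules) : (DCoh.gammaZ j).obj F ⟶ F := (CxOX.gammaZι j).app F

instance mono_gzι (F : Y.Modules) : Mono (gzι j F) := by
  change Mono (kernel.ι ((Scheme.Modules.restrictAdjunction j).unit.app F))
  infer_instance

lemma gzι_unit (F : Y.Modules) :
    gzι j F ≫ (Scheme.Modules.restrictAdjunction j).unit.app F = 0 :=
  kernel.condition _

lemma gzι_naturality {F G : Y.Modules} (φ : F ⟶ G) :
    (DCoh.gammaZ j).map φ ≫ gzι j G = gzι j F ≫ φ :=
  (CxOX.gammaZι j).naturality φ

/-- lifting through `Γ_Z F ⟶ F` -/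
noncomputable def gzLift {T F : Y.Modules} (s : T ⟶ F)
    (hs : s ≫ (Scheme.Modules.restrictAdjunction j).unit.app F = 0) :
    T ⟶ (DCoh.gammaZ j).obj F :=
  kernel.lift _ s hs

lemma gzLift_ι {T F : Y.Modules} (s : T ⟶ F)
    (hs : s ≫ (Scheme.Modules.restrictAdjunction j).unit.app F = 0) :
    gzLift j s hs ≫ gzι j F = s :=
  kernel.lift_ι _ _ _

/-- `Γ_Z` is left exact -/
instance preservesFiniteLimits_gammaZ : PreservesFiniteLimits (DCoh.gammaZ j) := by
  refine ((DCoh.gammaZ j).preservesFiniteLimits_tfae.out 0 3).1 ?_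
  intro S hS
  haveI := hS.mono_f
  let η := (Scheme.Modules.restrictAdjunction j).unit
  haveI hmono : Mono ((DCoh.gammaZ j).map S.f) := by
    haveI : Mono ((DCoh.gammaZ j).map S.f ≫ gzι j S.X₂) := by
      rw [gzι_naturality]
      exact mono_comp _ _
    exact mono_of_mono ((DCoh.gammaZ j).map S.f) (gzι j S.X₂)
  refine ⟨?_, hmono⟩
  have hzero : (DCoh.gammaZ j).map S.f ≫ (DCoh.gammaZ j).map S.g = 0 := by
    rw [← Functor.map_comp, S.zero, Functor.map_zero]
  haveI : Mono ((Scheme.Modules.restrictFunctor j ⋙ Scheme.Modules.pushforward j).map S.f) :=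
    inferInstance
  -- the lift
  have key : ∀ {T : Y.Modules} (t : T ⟶ (DCoh.gammaZ j).obj S.X₂),
      t ≫ (DCoh.gammaZ j).map S.g = 0 →
      ∃ l : T ⟶ (DCoh.gammaZ j).obj S.X₁, l ≫ (DCoh.gammaZ j).map S.f = t := by
    intro T t ht
    have h1 : (t ≫ gzι j S.X₂) ≫ S.g = 0 := by
      rw [Category.assoc, ← gzι_naturality, ← Category.assoc, ht, zero_comp]
    let s : T ⟶ S.X₁ := hS.fIsKernel.lift (KernelFork.ofι _ h1)
    have hs : s ≫ S.f = t ≫ gzι j S.X₂ := hS.fIsKernel.fac _ WalkingParallelPair.zero
    have h2 : s ≫ η.app S.X₁ = 0 := by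
      rw [← cancel_mono ((Scheme.Modules.restrictFunctor j ⋙ Scheme.Modules.pushforward j).map S.f),
        Category.assoc, zero_comp]
      have := η.naturality S.f
      simp only [Functor.id_obj, Functor.id_map] at this
      rw [← this, ← Category.assoc, hs, Category.assoc, gzι_unit, comp_zero]
    refine ⟨gzLift j s h2, ?_⟩
    rw [← cancel_mono (gzι j S.X₂), Category.assoc, gzι_naturality, ← Category.assoc, gzLift_ι, hs]
  refine ShortComplex.exact_of_f_is_kernel _ (KernelFork.IsLimit.ofι _ hzero
    (fun {T} t ht => (key t ht).choose) (fun {T} t ht => (key t ht).choose_spec)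
    (fun {T} t ht m hm => ?_))
  rw [← cancel_mono ((DCoh.gammaZ j).map S.f)]
  exact hm.trans (key t ht).choose_spec.symm

end LeftExact

section LES

lemma gammaZι_comp_unit :
    CxOX.gammaZι j ≫ (Scheme.Modules.restrictAdjunction j).unit = 0 := by
  ext F : 2
  exact kernel.condition _

lemma hex (Q : Y.Modules) (hQ : Injective Q) :
    (ShortComplex.mk ((CxOX.gammaZι j).app Q)
      ((Scheme.Modules.restrictAdjunction j).unit.app Q) (by
        rw [← NatTrans.comp_app, gammaZι_comp_unit]; rfl)).ShortExact :=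
  shortExact_of_injective j Q

theorem isZero_rightDerived_id {C : Type*} [Category C] [Abelian C] [HasInjectiveResolutions C]
    (X : C) (n : ℕ) : IsZero (((𝟭 C).rightDerived (n + 1)).obj X) := by
  let I : InjectiveResolution X := injectiveResolution X
  refine IsZero.of_iso ?_ (I.isoRightDerivedObj (𝟭 C) (n + 1))
  change IsZero ((((𝟭 C).mapHomologicalComplex _).obj I.cocomplex).homology (n + 1))
  rw [← HomologicalComplex.exactAt_iff_isZero_homology,
    HomologicalComplex.exactAt_iff' _ n (n + 1) (n + 2) (by simp)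
      (by simp only [CochainComplex.next]; rfl)]
  exact I.exact_succ n

/-- `ℋ^1_Z ≅ coker(𝟭 ⟶ j_* j^*)` -/
noncomputable def hzOneIso :
    LocCohZ.HZshM j 1 ≅ cokernel (Scheme.Modules.restrictAdjunction j).unit :=
  haveI := isIso_cokernel_desc (CxOX.gammaZι j) (Scheme.Modules.restrictAdjunction j).unit
    (gammaZι_comp_unit j) (hex j) (fun X => isZero_rightDerived_id X 0)
  (asIso (cokernel.desc (Scheme.Modules.restrictAdjunction j).unit
    (γ (CxOX.gammaZι j) (Scheme.Modules.restrictAdjunction j).unit (gammaZι_comp_unit j) (hex j))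
    (β_γ (CxOX.gammaZι j) (Scheme.Modules.restrictAdjunction j).unit
      (gammaZι_comp_unit j) (hex j)))).symm

/-- `ℋ^{k+2}_Z ≅ R^{k+1} j_* (-|_U)` -/
noncomputable def hzSuccIso (k : ℕ) :
    LocCohZ.HZshM j (k + 2) ≅ Scheme.Modules.restrictFunctor j ⋙ Coh.Rpush j (k + 1) :=
  haveI := isIso_δ (CxOX.gammaZι j) (Scheme.Modules.restrictAdjunction j).unit
    (gammaZι_comp_unit j) (hex j) (k + 1) (fun X => isZero_rightDerived_id X k)
    (fun X => isZero_rightDerived_id X (k + 1))
  (asIso (δ (CxOX.gammaZι j) (Scheme.Modules.restrictAdjunction j).unit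
    (gammaZι_comp_unit j) (hex j) (k + 1))).symm ≪≫
    Groth.Agent.Lib.Helper23DerComp.compIso (Scheme.Modules.restrictFunctor j)
      (Scheme.Modules.pushforward j) (k + 1)

end LES

section Main

open Groth.Agent.Lib.Helper23.QCohLocal

/-- the local cohomology sheaves of a quasi-coherent module are quasi-coherent, provided the higher
direct images `R^q j_*` preserve quasi-coherence -/
theorem isQCoh_HZshM_of [QuasiCompact j]
    (hpush : ∀ (q : ℕ) (N : U.Modules), Coh.IsQCoh N → Coh.IsQCoh ((Coh.Rpush j q).obj N))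
    (M : Y.Modules) (hM : Coh.IsQCoh M) (q : ℕ) :
    Coh.IsQCoh ((LocCohZ.HZshM j q).obj M) := by
  haveI : M.IsQuasicoherent := hM
  haveI h2 : ((Scheme.Modules.pushforward j).obj
      ((Scheme.Modules.restrictFunctor j).obj M)).IsQuasicoherent :=
    isQuasicoherent_pushforward j _
  match q with
  | 0 =>
    have h0 : ((DCoh.gammaZ j).obj M).IsQuasicoherent :=
      @isQuasicoherent_kernel Y M _ hM h2 ((Scheme.Modules.restrictAdjunction j).unit.app M)
    exact @Groth.Agent.Lib.Helper23.TensorQCoh.isQuasicoherent_of_iso Y _ _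
      (((DCoh.gammaZ j).rightDerivedZeroIsoSelf).app M).symm h0
  | 1 =>
    have h1 : (cokernel ((Scheme.Modules.restrictAdjunction j).unit.app M)).IsQuasicoherent :=
      @isQuasicoherent_cokernel Y M _ hM h2 ((Scheme.Modules.restrictAdjunction j).unit.app M)
    have e : (cokernel (Scheme.Modules.restrictAdjunction j).unit).obj M ≅
        cokernel ((Scheme.Modules.restrictAdjunction j).unit.app M) :=
      PreservesCokernel.iso ((evaluation _ _).obj M) (Scheme.Modules.restrictAdjunction j).unit
    exact @Groth.Agent.Lib.Helper23.TensorQCoh.isQuasicoherent_of_iso Y _ _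
      (((hzOneIso j).app M) ≪≫ e).symm h1
  | k + 2 =>
    have h3 : ((Scheme.Modules.restrictFunctor j).obj M).IsQuasicoherent := inferInstance
    have h4 : ((Coh.Rpush j (k + 1)).obj
        ((Scheme.Modules.restrictFunctor j).obj M)).IsQuasicoherent :=
      hpush (k + 1) _ h3
    exact @Groth.Agent.Lib.Helper23.TensorQCoh.isQuasicoherent_of_iso Y _ _
      ((hzSuccIso j k).app M).symm h4

end Main

end Groth.Agent.R2.H28.LocCohMod
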