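import Mathlib
import Groth.Agent.S0010
import Groth.Agent.R2.H28LocCohMod
import Groth.Agent.Lib.Helper23PushBound
import Groth.Agent.Lib.Helper23ModAbBridge
import Groth.Agent.Lib.Helper23AffOpen2
import Groth.Agent.Lib.Helper16Restr
import Groth.Agent.Lib.Helper23ModLocal
import Groth.Agent.Lib.Helper2QcPush

/-!
# Vanishing of local cohomology sheaves above the number of equations (helper28)

* `subsingleton_HE_of_affine_cover`: `H^n(O, N) = 0` for `n ≥ t` when the open `O` is the union of `t`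
  affine opens and affine opens inside `O` have affine intersections;
* `isZero_Rpush_of_equations`: `R^p j_* N = 0` for `p ≥ max c 1` when the complement of `U` is locally
  cut out by at most `c` equations;
* `isZero_HZshM_of_equations`: `ℋ^i_T(F) = 0` for `i > c` (S7252).
-/

set_option autoImplicit false
set_option linter.style.haveILetI false
universe u
open CategoryTheory CategoryTheory.Limits AlgebraicGeometry TopologicalSpace Opposite

namespace Groth.Agent.R2.H28.LocCohVanish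

open Groth.Agent.Lib.Helper23.AffVanish Groth.Agent.Lib.Helper23.PushBound

/-- a faithful functor preserving zero morphisms reflects zero objects -/
theorem isZero_of_faithful_obj {C D : Type*} [Category C] [Category D] [HasZeroMorphisms C]
    [HasZeroMorphisms D] (G : C ⥤ D) [G.Faithful] [G.PreservesZeroMorphisms] (Z : C)
    (h : IsZero (G.obj Z)) : IsZero Z := by
  rw [IsZero.iff_id_eq_zero]
  apply G.map_injective
  rw [G.map_id, G.map_zero]
  exact (IsZero.iff_id_eq_zero _).mp h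

lemma image_inf_of_isOpenImmersion {Z W : Scheme.{u}} (f : Z ⟶ W) [IsOpenImmersion f]
    (A B : Z.Opens) : f ''ᵁ (A ⊓ B) = f ''ᵁ A ⊓ f ''ᵁ B := by
  apply Opens.ext
  simp only [Scheme.Hom.coe_image, Opens.coe_inf]
  exact Set.image_inter f.isOpenEmbedding.injective

/-- two affine opens inside an affine open have affine intersection -/
lemma isAffineOpen_inf_of_le {X : Scheme.{u}} {V A B : X.Opens} (hV : IsAffineOpen V)
    (hA : IsAffineOpen A) (hB : IsAffineOpen B) (hAV : A ≤ V) (hBV : B ≤ V) :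
    IsAffineOpen (A ⊓ B) := by
  have h : IsAffineHom (pullback.diagonal (𝟙 X)) := inferInstance
  exact isAffineHom_diagonal_iff.mp h V hV A (by simpa using hAV) B (by simpa using hBV) hA hB

variable {Y : Scheme.{u}}

/-- `H^n(O, N) = 0` for `n ≥ t` when `O` is a union of `t` affine opens, with affine intersections
of affine opens inside `O`. -/
theorem subsingleton_HE_of_affine_cover (N : Y.Modules) [N.IsQuasicoherent] (O : Y.Opens) (t : ℕ)
    (D : Fin t → Y.Opens) (hD : ∀ k, IsAffineOpen (D k)) (hcov : ⨆ k, D k = O)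
    (hsep : ∀ A B : Y.Opens, A ≤ O → B ≤ O → IsAffineOpen A → IsAffineOpen B →
      IsAffineOpen (A ⊓ B))
    (n : ℕ) (hn : t ≤ n) : Subsingleton (HE (ab' N) n O) := by
  haveI : (N.restrict O.ι).IsQuasicoherent := Scheme.Modules.isQuasicoherent_restrictFunctor O.ι N
  have hle : ∀ k, D k ≤ O := fun k => hcov ▸ le_iSup D k
  have h1 : Subsingleton (Coh.HH (O : Scheme.{u}) (N.restrict O.ι) n) := by
    refine Groth.Agent.S0010.result (O : Scheme.{u}) t (fun k => O.ι ⁻¹ᵁ D k) ?_ ?_ ?_
      (N.restrict O.ι) n hn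
    · intro k
      rw [← O.ι.isAffineOpen_iff_of_isOpenImmersion, Scheme.Hom.image_preimage_eq_opensRange_inf,
        Scheme.Opens.opensRange_ι, inf_eq_right.2 (hle k)]
      exact hD k
    · apply Opens.ext
      ext x
      simp only [Opens.coe_iSup, Set.mem_iUnion, Opens.coe_top, Set.mem_univ, iff_true]
      have hx : (O.ι x) ∈ ⨆ k, D k := hcov ▸ x.2
      obtain ⟨k, hk⟩ := Opens.mem_iSup.1 hx
      exact ⟨k, hk⟩
    · intro A B hA hB
      rw [← O.ι.isAffineOpen_iff_of_isOpenImmersion, image_inf_of_isOpenImmersion]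
      refine hsep _ _ ?_ ?_ (hA.image_of_isOpenImmersion O.ι) (hB.image_of_isOpenImmersion O.ι)
      · exact (O.ι.image_le_opensRange A).trans (Scheme.Opens.opensRange_ι O).le
      · exact (O.ι.image_le_opensRange B).trans (Scheme.Opens.opensRange_ι O).le
  obtain ⟨e2⟩ := Groth.Agent.Lib.Helper16.Restr.nonempty_HU_equiv (X := Y.carrier) O (Coh.toAb N) n
  have e2' : HE (ab' N) n O ≃+ Coh.HHon Y N O n := e2
  exact e2'.toEquiv.subsingleton

variable {X : Scheme.{u}}

/-- the family of affine opens on which the complement of `U` is cut out by at most `c` functions -/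
def goodOpens (U : X.Opens) (c : ℕ) : Set X.Opens :=
  {V | IsAffineOpen V ∧ ∃ fs : Finset Γ(X, V), fs.card ≤ c ∧
    X.zeroLocus (U := V) (↑fs : Set Γ(X, V)) ∩ (V : Set ↥X) = (U : Set ↥X)ᶜ ∩ (V : Set ↥X)}

theorem isBasis_goodOpens (U : X.Opens) (c : ℕ)
    (hT : ∀ x : X, ∃ (V : X.Opens) (fs : Finset Γ(X, V)), x ∈ V ∧ fs.card ≤ c ∧
      X.zeroLocus (U := V) (↑fs : Set Γ(X, V)) ∩ (V : Set ↥X) = (U : Set ↥X)ᶜ ∩ (V : Set ↥X)) :
    Opens.IsBasis (goodOpens U c) := by
  classical
  rw [Opens.isBasis_iff_nbhd]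
  intro O x hx
  obtain ⟨V, fs, hxV, hcard, hz⟩ := hT x
  obtain ⟨V', hV', hxV', hle⟩ := (Opens.isBasis_iff_nbhd.1 X.isBasis_affineOpens)
    (show x ∈ O ⊓ V from ⟨hx, hxV⟩)
  have hV'V : V' ≤ V := hle.trans inf_le_right
  refine ⟨V', ⟨hV', fs.image (X.presheaf.map (homOfLE hV'V).op).hom, ?_, ?_⟩, hxV',
    hle.trans inf_le_left⟩
  · exact Finset.card_image_le.trans hcard
  · rw [Finset.coe_image, Scheme.zeroLocus_map]
    have hsub : (V' : Set X) ⊆ (V : Set X) := hV'V
    ext y
    constructor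
    · rintro ⟨hy | hy, hyV'⟩
      · have : y ∈ X.zeroLocus (U := V) (↑fs : Set Γ(X, V)) ∩ (V : Set X) := ⟨hy, hsub hyV'⟩
        rw [hz] at this
        exact ⟨this.1, hyV'⟩
      · exact absurd hyV' hy
    · rintro ⟨hyU, hyV'⟩
      have : y ∈ (U : Set X)ᶜ ∩ (V : Set X) := ⟨hyU, hsub hyV'⟩
      rw [← hz] at this
      exact ⟨Or.inl this.1, hyV'⟩

/-- `R^{p+1} j_* N = 0` for `c ≤ p + 1` when the complement of `U` is locally cut out by at most `c`
equations and `N` is quasi-coherent. -/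
theorem isZero_Rpush_of_equations (U : X.Opens) (c : ℕ)
    (hT : ∀ x : X, ∃ (V : X.Opens) (fs : Finset Γ(X, V)), x ∈ V ∧ fs.card ≤ c ∧
      X.zeroLocus (U := V) (↑fs : Set Γ(X, V)) ∩ (V : Set ↥X) = (U : Set ↥X)ᶜ ∩ (V : Set ↥X))
    [HasInjectiveResolutions (U : Scheme.{u}).Modules]
    (N : (U : Scheme.{u}).Modules) (hN : Coh.IsQCoh N) (p : ℕ) (hp : c ≤ p + 1) :
    IsZero ((Coh.Rpush U.ι (p + 1)).obj N) := by
  haveI : N.IsQuasicoherent := hN
  obtain ⟨e⟩ := Groth.Agent.Lib.Helper23.ModAbBridge.nonempty_toAb_Rpush_iso U.ι N (p + 1)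
  suffices h0 : IsZero ((Coh.RpushAb U.ι (p + 1)).obj (Coh.toAb N)) from
    isZero_of_faithful_obj (SheafOfModules.toSheaf _) _ (h0.of_iso e)
  refine isZero_Rpush_of_basis_bound U.ι.base (goodOpens U c) (isBasis_goodOpens U c hT) (ab' N)
    (c - 1) ?_ p (by omega)
  rintro V ⟨hV, fs, hcard, hz⟩ i hi
  have hbU : ∀ s ∈ fs, X.basicOpen s ≤ U := by
    intro s hs y hy
    by_contra hyU
    have : y ∈ (U : Set X)ᶜ ∩ (V : Set X) := ⟨hyU, X.basicOpen_le s hy⟩
    rw [← hz] at this
    exact (X.mem_zeroLocus_iff _ y).1 this.1 s hs hy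
  refine subsingleton_HE_of_affine_cover N (U.ι ⁻¹ᵁ V) fs.card
    (fun k => U.ι ⁻¹ᵁ X.basicOpen (fs.equivFin.symm k).1) ?_ ?_ ?_ (i + 1) (by omega)
  · intro k
    rw [← U.ι.isAffineOpen_iff_of_isOpenImmersion, Scheme.Hom.image_preimage_eq_opensRange_inf,
      Scheme.Opens.opensRange_ι, inf_eq_right.2 (hbU _ (fs.equivFin.symm k).2)]
    exact hV.basicOpen _
  · apply Opens.ext
    ext x
    simp only [Opens.coe_iSup, Set.mem_iUnion, SetLike.mem_coe, Scheme.Hom.mem_preimage]
    constructor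
    · rintro ⟨k, hk⟩
      exact X.basicOpen_le _ hk
    · intro hxV
      have hx : (U.ι x) ∉ X.zeroLocus (U := V) (↑fs : Set Γ(X, V)) := by
        intro hx0
        have : (U.ι x) ∈ (U : Set X)ᶜ ∩ (V : Set X) := hz ▸ ⟨hx0, hxV⟩
        exact this.1 x.2
      rw [Scheme.mem_zeroLocus_iff] at hx
      push Not at hx
      obtain ⟨s, hs, hxs⟩ := hx
      exact ⟨fs.equivFin ⟨s, hs⟩, by simpa using hxs⟩
  · intro A B hA hB hA' hB'
    rw [← U.ι.isAffineOpen_iff_of_isOpenImmersion, image_inf_of_isOpenImmersion]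
    refine isAffineOpen_inf_of_le hV (hA'.image_of_isOpenImmersion U.ι)
      (hB'.image_of_isOpenImmersion U.ι) ?_ ?_
    · rintro _ ⟨y, hy, rfl⟩
      exact hA hy
    · rintro _ ⟨y, hy, rfl⟩
      exact hB hy

/-- modules on an empty scheme vanish. -/
lemma isZero_modules_of_isEmpty {Z : Scheme.{u}} [IsEmpty Z] (M : Z.Modules) : IsZero M :=
  Groth.Agent.Lib.Helper23.ModLocal.isZero_of_forall_eq_zero fun U s =>
    Groth.Agent.Lib.Helper2.QcPush.section_eq_zero_of_cover M U s fun x _ => isEmptyElim x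

open Groth.Agent.R2.H28.LocCohMod Groth.Agent.R2.H28.RpushRestrict in
/-- **S7252**: the local cohomology sheaves `ℋ^i_T(F)` of a quasi-coherent module vanish for `i > c`
when `T` is locally cut out by at most `c` equations. -/
theorem isZero_HZshM_of_equations (U : X.Opens) [HasInjectiveResolutions X.Modules] (c : ℕ)
    (hT : ∀ x : X, ∃ (V : X.Opens) (fs : Finset Γ(X, V)), x ∈ V ∧ fs.card ≤ c ∧
      X.zeroLocus (U := V) (↑fs : Set Γ(X, V)) ∩ (V : Set ↥X) = (U : Set ↥X)ᶜ ∩ (V : Set ↥X))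
    (F : X.Modules) (hF : Coh.IsQCoh F) (i : ℕ) (hi : c < i) :
    IsZero (((DCoh.gammaZ U.ι).rightDerived i).obj F) := by
  haveI : F.IsQuasicoherent := hF
  match i, hi with
  | 0, hi => exact absurd hi (Nat.not_lt_zero _)
  | 1, hi =>
    have hc : c = 0 := by omega
    subst hc
    haveI : IsEmpty (U : Scheme.{u}) := by
      refine ⟨fun x => ?_⟩
      obtain ⟨V, fs, hxV, hcard, hz⟩ := hT (U.ι x)
      have hfs : fs = ∅ := Finset.card_eq_zero.1 (Nat.le_zero.1 hcard)
      subst hfs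
      rw [Finset.coe_empty, Scheme.zeroLocus_empty_eq_univ, Set.univ_inter] at hz
      have : U.ι x ∈ (U : Set X)ᶜ ∩ (V : Set X) := hz ▸ hxV
      exact this.1 x.2
    have hz : IsZero ((Scheme.Modules.pushforward U.ι).obj
        ((Scheme.Modules.restrictFunctor U.ι).obj F)) :=
      Functor.map_isZero _ (isZero_modules_of_isEmpty _)
    have h1 : IsZero (cokernel ((Scheme.Modules.restrictAdjunction U.ι).unit.app F)) :=
      IsZero.of_epi (cokernel.π ((Scheme.Modules.restrictAdjunction U.ι).unit.app F)) hz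
    have e : (cokernel (Scheme.Modules.restrictAdjunction U.ι).unit).obj F ≅
        cokernel ((Scheme.Modules.restrictAdjunction U.ι).unit.app F) :=
      PreservesCokernel.iso ((evaluation _ _).obj F) (Scheme.Modules.restrictAdjunction U.ι).unit
    exact h1.of_iso (((hzOneIso U.ι).app F) ≪≫ e)
  | k + 2, hi =>
    have h3 : ((Scheme.Modules.restrictFunctor U.ι).obj F).IsQuasicoherent := inferInstance
    have h4 := isZero_Rpush_of_equations U c hT ((Scheme.Modules.restrictFunctor U.ι).obj F) h3 k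
      (by omega)
    exact h4.of_iso ((hzSuccIso U.ι k).app F)

end Groth.Agent.R2.H28.LocCohVanish
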