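import Groth.Agent.R2.H28MVScheme
import Groth.Agent.R2.H28HasRpush
import Groth.Agent.Lib.Helper17AdjWay1
import Groth.Prelude.Def_CohB1

/-!
# Objects of `D(O_X)` with cohomology supported on a closed subset of an open (helper28)
-/

set_option autoImplicit false
set_option linter.style.haveILetI false
universe w v u
open CategoryTheory CategoryTheory.Limits AlgebraicGeometry TopologicalSpace Opposite ZeroObject

namespace Groth.Agent.R2.H28.Support

open Groth.Agent.Lib.Helper1.Sky Groth.Agent.Lib.Helper1.StalkTensor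
  Groth.Agent.Lib.Helper26.FpqcMod Groth.Agent.R2.H28.DerBase Groth.Agent.R2.H28.MVScheme
  Groth.Agent.Lib.Helper17.KInj CategoryTheory.Pretriangulated

attribute [local instance] HasDerivedCategory.standard

section General

variable {C : Type u} [Category.{v} C] [Abelian C] [HasDerivedCategory.{w} C]

/-- an object of the derived category all of whose cohomology objects vanish is zero -/
lemma isZero_of_homology (K : DerivedCategory C)
    (h : ∀ n : ℤ, IsZero ((DerivedCategory.homologyFunctor C n).obj K)) : IsZero K := by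
  have h0 : IsIso (0 : K ⟶ 0) := by
    rw [DerivedCategory.isIso_iff]
    intro n
    exact isIso_of_source_target_iso_zero _ (h n).isoZero
      (((DerivedCategory.homologyFunctor C n).map_isZero (isZero_zero _)).isoZero)
  exact IsZero.of_iso (isZero_zero _) (asIso (0 : K ⟶ 0))

end General

variable {X : Scheme.{u}}

/-- a module all of whose stalks vanish is zero -/
lemma isZero_of_subsingleton_stalks (N : X.Modules)
    (h : ∀ x : X, Subsingleton (N.presheaf.stalk x)) : IsZero N := by
  rw [IsZero.iff_id_eq_zero]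
  apply eq_zero_of_stalk
  intro x
  ext a
  haveI : Subsingleton ((stalkFun x).obj N) := h x
  exact Subsingleton.elim _ _


/-- the restriction of a module to an open disjoint from its support vanishes -/
lemma isZero_restrict_of_support (W : X.Opens) (M : X.Modules)
    (h : ∀ y : W, W.ι y ∉ CohB1.support M) :
    IsZero ((Scheme.Modules.restrictFunctor W.ι).obj M) := by
  apply isZero_of_subsingleton_stalks
  intro y
  have e := (Scheme.Modules.restrictStalkNatIso W.ι y).app M
  have h1 : Subsingleton (M.presheaf.stalk (W.ι y)) := by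
    have := h y
    simp only [CohB1.support, Set.mem_ofPred_eq, not_not] at this
    exact this
  exact @Equiv.subsingleton _ _ (e.addCommGroupIsoToAddEquiv.toEquiv) h1

/-- an object of `D(O_X)` whose cohomology sheaves are supported on `T` restricts to zero on an open
disjoint from `T` -/
lemma isZero_restrictD_of_support (W : X.Opens) (E : DCoh.D X) (T : Set X)
    (hE : ∀ i : ℤ, CohB1.support (DCoh.HD E i) ⊆ T) (hW : ∀ y : W, W.ι y ∉ T) :
    IsZero ((DCoh.restrictD W.ι).obj E) := by
  apply isZero_of_homology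
  intro n
  refine IsZero.of_iso ?_ (Groth.Agent.Lib.Helper17.AdjWay.homologyIso
    (Scheme.Modules.restrictFunctor W.ι) E n)
  exact isZero_restrict_of_support W _ (fun y hy => hW y (hE n hy))


/-- a zero complex is K-injective -/
lemma isKInjective_of_isZero {C : Type*} [Category C] [Abelian C] (L : CochainComplex C ℤ)
    (hL : IsZero L) : L.IsKInjective where
  nonempty_homotopy_zero _ _ := ⟨Homotopy.ofEq (hL.eq_of_tgt _ _)⟩

/-- `Rh_*` sends zero objects to zero objects -/
lemma isZero_rpush_obj {Y : Scheme.{u}} (h : X ⟶ Y) [DCoh.HasRpush h] (Z : DCoh.D X)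
    (hZ : IsZero Z) : IsZero ((DCoh.Rpush h).obj Z) := by
  have h0 : IsZero (0 : CochainComplex X.Modules ℤ) := isZero_zero _
  haveI := isKInjective_of_isZero _ h0
  have h1 : IsZero (DerivedCategory.Q.obj (0 : CochainComplex X.Modules ℤ)) :=
    DerivedCategory.Q.map_isZero h0
  have e : Z ≅ DerivedCategory.Q.obj (0 : CochainComplex X.Modules ℤ) := hZ.iso h1
  refine IsZero.of_iso ?_ ((DCoh.Rpush h).mapIso e ≪≫ (rpushIso h 0).symm)
  exact DerivedCategory.Q.map_isZero
    (((Scheme.Modules.pushforward h).mapHomologicalComplex (ComplexShape.up ℤ)).map_isZero h0)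

/-- part (1): an object with cohomology supported on a closed `T ⊆ U` is `Rj_*` of its
restriction to `U` -/
theorem iso_rpush_restrict_of_support (U : X.Opens) [DCoh.HasRpush U.ι] (T : Set X)
    (hT : IsClosed T) (hTU : T ⊆ (U : Set X)) (E : DCoh.D X)
    (hE : ∀ i : ℤ, CohB1.support (DCoh.HD E i) ⊆ T) :
    Nonempty (E ≅ (DCoh.Rpush U.ι).obj ((DCoh.restrictD U.ι).obj E)) := by
  let V : X.Opens := ⟨Tᶜ, hT.isOpen_compl⟩
  have hUV : U ⊔ V = ⊤ := by
    rw [eq_top_iff]
    intro x _
    by_cases hx : x ∈ T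
    · exact Or.inl (hTU hx)
    · exact Or.inr hx
  haveI := Groth.Agent.R2.H28.HasRpush.hasRpush V.ι
  haveI := Groth.Agent.R2.H28.HasRpush.hasRpush (U ⊓ V).ι
  obtain ⟨a, b, c, hTr⟩ := mv_rpush_open U V hUV E
  have hV : IsZero ((DCoh.restrictD V.ι).obj E) :=
    isZero_restrictD_of_support V E T hE (fun y => y.2)
  have hUV' : IsZero ((DCoh.restrictD (U ⊓ V).ι).obj E) :=
    isZero_restrictD_of_support (U ⊓ V) E T hE (fun y => y.2.2)
  have h3 : IsZero ((DCoh.Rpush (U ⊓ V).ι).obj ((DCoh.restrictD (U ⊓ V).ι).obj E)) :=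
    isZero_rpush_obj _ _ hUV'
  have h2 : IsZero ((DCoh.Rpush V.ι).obj ((DCoh.restrictD V.ι).obj E)) :=
    isZero_rpush_obj _ _ hV
  haveI : IsIso a := (Triangle.isZero₃_iff_isIso₁ _ hTr).1 h3
  exact ⟨asIso a ≪≫ (isoBiprodZero h2).symm⟩


/-- the support of an extension by zero -/
lemma support_extZero_subset (U : X.Opens) (M : (U : Scheme.{u}).Modules) :
    CohB1.support ((CxOX.extZero U.ι).obj M) ⊆
      (fun x : (U : Scheme.{u}) => U.ι.base x) '' CohB1.support M := by
  intro x hx
  simp only [CohB1.support, Set.mem_ofPred_eq] at hx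
  by_cases hxU : x ∈ U
  · refine ⟨⟨x, hxU⟩, ?_, rfl⟩
    simp only [CohB1.support, Set.mem_ofPred_eq]
    intro hsub
    apply hx
    have e1 := (Scheme.Modules.restrictStalkNatIso U.ι (⟨x, hxU⟩ : U)).app
      ((CxOX.extZero U.ι).obj M)
    have e2 := (Scheme.Modules.toPresheaf (U : Scheme.{u}) ⋙
      TopCat.Presheaf.stalkFunctor Ab.{u} (⟨x, hxU⟩ : U)).mapIso
      (asIso ((CxOX.extZeroAdj U.ι).unit.app M))
    exact @Equiv.subsingleton _ _ ((e2 ≪≫ e1).symm.addCommGroupIsoToAddEquiv.toEquiv) hsub
  · exfalso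
    apply hx
    have hz := Groth.Agent.R2.H28.ExtZeroMono.isZero_stalk_extZero U x hxU M
    exact ModuleCat.subsingleton_of_isZero hz

/-- the support only depends on the isomorphism class -/
lemma support_subset_of_iso {M N : X.Modules} (e : M ≅ N) :
    CohB1.support M ⊆ CohB1.support N := by
  intro x hx
  simp only [CohB1.support, Set.mem_ofPred_eq] at hx ⊢
  intro hsub
  apply hx
  have e2 := (Scheme.Modules.toPresheaf X ⋙ TopCat.Presheaf.stalkFunctor Ab.{u} x).mapIso e
  exact @Equiv.subsingleton _ _ (e2.addCommGroupIsoToAddEquiv.toEquiv) hsub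


/-- `(j_! F)|_U ≅ F` in the derived category -/
noncomputable def restrictExtZeroIso (U : X.Opens) [PreservesFiniteLimits (CxOX.extZero U.ι)]
    (F : DCoh.D (U : Scheme.{u})) :
    (DCoh.restrictD U.ι).obj ((CxOX.extZeroD U.ι).obj F) ≅ F :=
  let K := DerivedCategory.Q.objPreimage F
  let eF : DerivedCategory.Q.obj K ≅ F := DerivedCategory.Q.objObjPreimageIso F
  (DCoh.restrictD U.ι).mapIso ((CxOX.extZeroD U.ι).mapIso eF.symm) ≪≫
    (DCoh.restrictD U.ι).mapIso ((CxOX.extZero U.ι).mapDerivedCategoryFactors.app K) ≪≫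
    (Scheme.Modules.restrictFunctor U.ι).mapDerivedCategoryFactors.app _ ≪≫
    DerivedCategory.Q.mapIso ((compCxIso (CxOX.extZero U.ι)
      (Scheme.Modules.restrictFunctor U.ι)).app K).symm ≪≫
    DerivedCategory.Q.mapIso ((NatIso.mapHomologicalComplex
      (asIso (CxOX.extZeroAdj U.ι).unit).symm (ComplexShape.up ℤ)).app K) ≪≫
    DerivedCategory.Q.mapIso ((Functor.mapHomologicalComplexIdIso _ (ComplexShape.up ℤ)).app K) ≪≫
    eF

/-- part (2): for `F` on `U` with cohomology supported on a closed subset of `X`, `j_! F ≅ Rj_* F` -/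
theorem extZero_iso_rpush_of_support (U : X.Opens) [DCoh.HasRpush U.ι]
    [PreservesFiniteLimits (CxOX.extZero U.ι)] (T : Set X)
    (hT : IsClosed T) (hTU : T ⊆ (U : Set X)) (F : DCoh.D (U : Scheme.{u}))
    (hF : ∀ i : ℤ, (fun x : (U : Scheme.{u}) => U.ι.base x) '' CohB1.support (DCoh.HD F i) ⊆ T) :
    Nonempty ((CxOX.extZeroD U.ι).obj F ≅ (DCoh.Rpush U.ι).obj F) := by
  have hE : ∀ i : ℤ, CohB1.support (DCoh.HD ((CxOX.extZeroD U.ι).obj F) i) ⊆ T := by
    intro i
    refine (support_subset_of_iso (Groth.Agent.Lib.Helper17.AdjWay.homologyIso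
      (CxOX.extZero U.ι) F i)).trans ?_
    exact (support_extZero_subset U _).trans (hF i)
  obtain ⟨e⟩ := iso_rpush_restrict_of_support U T hT hTU _ hE
  exact ⟨e ≪≫ (DCoh.Rpush U.ι).mapIso (restrictExtZeroIso U F)⟩

end Groth.Agent.R2.H28.Support
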