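import Mathlib
import Groth.Agent.R2.H28MVScheme
import Groth.Agent.R2.H28Support

/-!
# The Mayer–Vietoris triangle for extension by zero (helper28)

`BU BV : 𝒜 ⥤ 𝒜` additive endofunctors with `εU : BU ⟶ 𝟭`, `εV : BV ⟶ 𝟭` (think `j_! j^*` for two
opens).  If `εU.app M` is a monomorphism, `BV` is exact and `εV` is invertible on the cokernel of
`εU.app M`, then `0 ⟶ BV (BU M) ⟶ BU M ⊞ BV M ⟶ M ⟶ 0` is short exact.
-/

set_option autoImplicit false
set_option linter.unusedSectionVars false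
set_option linter.unusedSimpArgs false
set_option linter.style.haveILetI false
universe w v v' u u'
open CategoryTheory CategoryTheory.Limits

namespace Groth.Agent.R2.H28.MVShriek

open Groth.Agent.R2.H28.MVAbstract

section Defs

variable {𝒜 : Type u} [Category.{v} 𝒜] [Preadditive 𝒜] [HasBinaryBiproducts 𝒜]
  (BU BV : 𝒜 ⥤ 𝒜) [BU.Additive] [BV.Additive] (εU : BU ⟶ 𝟭 𝒜) (εV : BV ⟶ 𝟭 𝒜)

/-- `BV (BU M) ⟶ BU M ⊞ BV M` -/
@[simps]
noncomputable def aNat' : BU ⋙ BV ⟶ Mid BU BV where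
  app M := biprod.lift (εV.app (BU.obj M)) (-(BV.map (εU.app M)) : BV.obj (BU.obj M) ⟶ BV.obj M)
  naturality X Y f := by
    change BV.map (BU.map f) ≫ biprod.lift (εV.app (BU.obj Y)) (-(BV.map (εU.app Y)) : BV.obj (BU.obj Y) ⟶ BV.obj Y) =
      biprod.lift (εV.app (BU.obj X)) (-(BV.map (εU.app X)) : BV.obj (BU.obj X) ⟶ BV.obj X) ≫ biprod.map (BU.map f) (BV.map f)
    apply biprod.hom_ext
    · simpa using εV.naturality (BU.map f)
    · have h := εU.naturality f
      dsimp at h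
      dsimp only [Functor.id_obj]
      rw [Category.assoc, Category.assoc, biprod.lift_snd, biprod.map_snd, biprod.lift_snd_assoc,
        Preadditive.comp_neg, Preadditive.neg_comp, ← BV.map_comp, ← BV.map_comp, h]

/-- `BU M ⊞ BV M ⟶ M` -/
@[simps]
noncomputable def bNat' : Mid BU BV ⟶ 𝟭 𝒜 where
  app M := biprod.desc (εU.app M : BU.obj M ⟶ M) (εV.app M : BV.obj M ⟶ M)
  naturality X Y f := by
    change biprod.map (BU.map f) (BV.map f) ≫ biprod.desc (εU.app Y : BU.obj Y ⟶ Y) (εV.app Y : BV.obj Y ⟶ Y) =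
      biprod.desc (εU.app X : BU.obj X ⟶ X) (εV.app X : BV.obj X ⟶ X) ≫ f
    apply biprod.hom_ext'
    · simpa using εU.naturality f
    · simpa using εV.naturality f

lemma aNat'_bNat' : aNat' BU BV εU εV ≫ bNat' BU BV εU εV = 0 := by
  ext M
  have h := εV.naturality (εU.app M)
  dsimp at h
  change biprod.lift (εV.app (BU.obj M)) (-(BV.map (εU.app M)) : BV.obj (BU.obj M) ⟶ BV.obj M) ≫
    biprod.desc (εU.app M : BU.obj M ⟶ M) (εV.app M : BV.obj M ⟶ M) = 0
  rw [biprod.lift_desc, Preadditive.neg_comp, h, add_neg_cancel]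

/-- the Mayer–Vietoris short complex at `M` -/
@[simps]
noncomputable def mvSC' (M : 𝒜) : ShortComplex 𝒜 :=
  ShortComplex.mk ((aNat' BU BV εU εV).app M) ((bNat' BU BV εU εV).app M)
    (by rw [← NatTrans.comp_app, aNat'_bNat']; rfl)

end Defs

section Abstract

variable {𝒜 : Type u} [Category.{v} 𝒜] [Abelian 𝒜]
  {BU BV : 𝒜 ⥤ 𝒜} [BU.Additive] [BV.Additive] {εU : BU ⟶ 𝟭 𝒜} {εV : BV ⟶ 𝟭 𝒜}

theorem mvSC'_shortExact (M : 𝒜) [Mono (εU.app M)] [Mono (εV.app (BU.obj M))]
    [PreservesFiniteLimits BV] [PreservesFiniteColimits BV]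
    (h : IsIso (εV.app (cokernel (εU.app M)))) : (mvSC' BU BV εU εV M).ShortExact := by
  let π : M ⟶ cokernel (εU.app M) := cokernel.π (εU.app M)
  have hnat : BV.map π ≫ εV.app (cokernel (εU.app M)) = εV.app M ≫ π := εV.naturality π
  have hnat2 : BV.map (εU.app M) ≫ εV.app M = εV.app (BU.obj M) ≫ εU.app M :=
    εV.naturality (εU.app M)
  -- the short exact sequence `0 → BU M → M → C → 0` and its image under `BV`
  let S : ShortComplex 𝒜 := ShortComplex.mk (εU.app M) π (cokernel.condition _)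
  have hS : S.ShortExact :=
    { exact := ShortComplex.exact_of_g_is_cokernel _ (cokernelIsCokernel _)
      mono_f := inferInstanceAs (Mono (εU.app M))
      epi_g := inferInstanceAs (Epi (cokernel.π (εU.app M))) }
  have hS' : (S.map BV).ShortExact := hS.map_of_exact BV
  haveI : Epi (BV.map π) := hS'.epi_g
  haveI : Mono (BV.map (εU.app M)) := hS'.mono_f
  refine
    { exact := ?_
      mono_f := ?_
      epi_g := ?_ }
  · rw [ShortComplex.exact_iff_exact_up_to_refinements]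
    intro T k hk
    change T ⟶ BU.obj M ⊞ BV.obj M at k
    -- components of `k`
    let x : T ⟶ BU.obj M := k ≫ biprod.fst
    let y : T ⟶ BV.obj M := k ≫ biprod.snd
    have hk' : x ≫ εU.app M + y ≫ εV.app M = 0 := by
      have : k ≫ biprod.desc (εU.app M : BU.obj M ⟶ M) (εV.app M : BV.obj M ⟶ M) = 0 := hk
      rw [← this]
      have e : biprod.desc (εU.app M : BU.obj M ⟶ M) (εV.app M : BV.obj M ⟶ M) =
          biprod.fst ≫ εU.app M + biprod.snd ≫ εV.app M := by
        apply biprod.hom_ext' <;> simp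
      rw [e, Preadditive.comp_add]
      simp [x, y]
    have hy : y ≫ BV.map π = 0 := by
      haveI := h
      rw [← cancel_mono (εV.app (cokernel (εU.app M))), Category.assoc, hnat, zero_comp,
        ← Category.assoc]
      have : y ≫ εV.app M = -(x ≫ εU.app M) := by
        rw [eq_neg_iff_add_eq_zero, add_comm]; exact hk'
      rw [this, Preadditive.neg_comp, Category.assoc, cokernel.condition, comp_zero, neg_zero]
    obtain ⟨T', p, hp, z, hz⟩ := (ShortComplex.exact_iff_exact_up_to_refinements _).1 hS'.exact y hy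
    change T' ⟶ BV.obj (BU.obj M) at z
    refine ⟨T', p, hp, -z, ?_⟩
    change p ≫ k = (-z) ≫ biprod.lift (εV.app (BU.obj M)) (-(BV.map (εU.app M)) : BV.obj (BU.obj M) ⟶ BV.obj M)
    have hz' : p ≫ y = z ≫ BV.map (εU.app M) := hz
    apply biprod.hom_ext
    · dsimp only [Functor.id_obj]
      rw [Category.assoc, Category.assoc, biprod.lift_fst, ← cancel_mono (εU.app M)]
      change (p ≫ x) ≫ εU.app M = _
      have h1 : x ≫ εU.app M = -(y ≫ εV.app M) := by
        rw [eq_neg_iff_add_eq_zero]; exact hk'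
      rw [Category.assoc, h1, Preadditive.comp_neg, ← Category.assoc, hz', Category.assoc, hnat2]
      simp
    · dsimp only [Functor.id_obj]
      rw [Category.assoc, Category.assoc, biprod.lift_snd, Preadditive.neg_comp,
        Preadditive.comp_neg, neg_neg]
      exact hz'
  · change Mono (biprod.lift (εV.app (BU.obj M)) (-(BV.map (εU.app M)) : BV.obj (BU.obj M) ⟶ BV.obj M))
    have : biprod.lift (εV.app (BU.obj M)) (-(BV.map (εU.app M)) : BV.obj (BU.obj M) ⟶ BV.obj M) ≫ biprod.fst =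
      εV.app (BU.obj M) := biprod.lift_fst _ _
    exact mono_of_mono_fac this
  · change Epi (biprod.desc (εU.app M : BU.obj M ⟶ M) (εV.app M : BV.obj M ⟶ M))
    constructor
    intro Z g g' hg
    rw [← sub_eq_zero]
    have h0 : biprod.desc (εU.app M : BU.obj M ⟶ M) (εV.app M : BV.obj M ⟶ M) ≫ (g - g') = 0 := by
      rw [Preadditive.comp_sub, hg, sub_self]
    generalize g - g' = d at h0
    have h1 : εU.app M ≫ d = 0 := by
      have := congrArg (fun t => biprod.inl ≫ t) h0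
      simpa using this
    have h2 : εV.app M ≫ d = 0 := by
      have := congrArg (fun t => biprod.inr ≫ t) h0
      simpa using this
    have h3 : d = π ≫ cokernel.desc (εU.app M) d h1 := (cokernel.π_desc _ _ _).symm
    haveI := h
    have h4 : cokernel.desc (εU.app M) d h1 = 0 := by
      rw [← cancel_epi (εV.app (cokernel (εU.app M))), ← cancel_epi (BV.map π), comp_zero,
        comp_zero, ← Category.assoc, hnat, Category.assoc, cokernel.π_desc, h2]
    rw [h3, h4, comp_zero]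

end Abstract


section Cx

open Groth.Agent.R2.H28.MVTriangle CategoryTheory.Pretriangulated

variable {𝒜 : Type u} [Category.{v} 𝒜] [Abelian 𝒜] [HasDerivedCategory.{w} 𝒜]
  (BU BV : 𝒜 ⥤ 𝒜) [BU.Additive] [BV.Additive] (εU : BU ⟶ 𝟭 𝒜) (εV : BV ⟶ 𝟭 𝒜)

/-- the Mayer–Vietoris short complex of complexes -/
noncomputable def mvCx' (I : CochainComplex 𝒜 ℤ) : ShortComplex (CochainComplex 𝒜 ℤ) :=
  ShortComplex.mk
    ((NatTrans.mapHomologicalComplex (Functor.whiskerRight (aNat' BU BV εU εV) (𝟭 𝒜))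
      (ComplexShape.up ℤ)).app I)
    ((NatTrans.mapHomologicalComplex (Functor.whiskerRight (bNat' BU BV εU εV) (𝟭 𝒜))
      (ComplexShape.up ℤ)).app I)
    (by
      rw [← NatTrans.comp_app, ← NatTrans.mapHomologicalComplex_comp,
        ← Functor.whiskerRight_comp, aNat'_bNat']
      ext n
      simp
      rfl)

theorem mvCx'_shortExact (I : CochainComplex 𝒜 ℤ)
    (hI : ∀ n, (mvSC' BU BV εU εV (I.X n)).ShortExact) :
    (mvCx' BU BV εU εV I).ShortExact := by
  apply HomologicalComplex.shortExact_of_degreewise_shortExact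
  intro n
  exact hI n

/-- the abstract Mayer–Vietoris triangle for extension by zero -/
theorem exists_mv_triangle' (I : CochainComplex 𝒜 ℤ)
    (hI : ∀ n, (mvSC' BU BV εU εV (I.X n)).ShortExact)
    {Y₁ Y₂ Y₃ : DerivedCategory 𝒜} (e₁ : qobj (𝟭 𝒜) I (BU ⋙ BV) ≅ Y₁)
    (e₂ : qobj (𝟭 𝒜) I BU ⊞ qobj (𝟭 𝒜) I BV ≅ Y₂) (e₃ : qobj (𝟭 𝒜) I (𝟭 𝒜) ≅ Y₃) :
    ∃ (a : Y₁ ⟶ Y₂) (b : Y₂ ⟶ Y₃) (c : Y₃ ⟶ Y₁⟦(1 : ℤ)⟧),
      Triangle.mk a b c ∈ distTriang (DerivedCategory 𝒜) :=
  exists_triangle_of_isos _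
    (DerivedCategory.triangleOfSES_distinguished (mvCx'_shortExact BU BV εU εV I hI))
    e₁ (midIso (𝟭 𝒜) I BU BV ≪≫ e₂) e₃

end Cx


section Sheaf

open AlgebraicGeometry TopologicalSpace Opposite
open Groth.Agent.R2.H28.ExtZeroMono Groth.Agent.R2.H28.MVSheaf Groth.Agent.R2.H28.MVScheme
  Groth.Agent.R2.H28.MVTriangle Groth.Agent.R2.H28.DerBase CategoryTheory.Pretriangulated

variable {X : Scheme.{u}}

/-- `M ↦ j_! (M|_U)` -/
noncomputable abbrev BOp (U : X.Opens) : X.Modules ⥤ X.Modules :=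
  Scheme.Modules.restrictFunctor U.ι ⋙ CxOX.extZero U.ι

/-- the counit `j_! (M|_U) ⟶ M` -/
noncomputable abbrev εOp (U : X.Opens) : BOp U ⟶ 𝟭 X.Modules :=
  (CxOX.extZeroAdj U.ι).counit

/-- the adjunction `j_! j^* ⊣ j_* j^*` -/
noncomputable def adjB (U : X.Opens) : BOp U ⊣ AOp U :=
  (Scheme.Modules.restrictAdjunction U.ι).comp (CxOX.extZeroAdj U.ι)

/-- `j_{V!}((j_{U!}(M|_U))|_V) ≅ j_{UV!}(M|_{U ∩ V})` -/
noncomputable def BOpCompIso (U V : X.Opens) : BOp U ⋙ BOp V ≅ BOp (U ⊓ V) :=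
  ((adjB U).comp (adjB V)).leftAdjointUniq
    ((adjB (U ⊓ V)).ofNatIsoRight
      (eqToIso (congrArg AOp (inf_comm U V)) ≪≫ (AOpCompIso V U).symm))

instance mono_restrict_map (U : X.Opens) {M N : X.Modules} (φ : M ⟶ N) [Mono φ] :
    Mono ((Scheme.Modules.restrictFunctor U.ι).map φ) :=
  haveI : (Scheme.Modules.restrictFunctor U.ι).PreservesMonomorphisms :=
    Functor.preservesMonomorphisms_of_adjunction (CxOX.extZeroAdj U.ι)
  inferInstance

/-- if `K|_U = 0` then `(j_{V!}(K|_V))|_U = 0` -/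
lemma isZero_restrict_BOp (U V : X.Opens) (K : X.Modules)
    (hK : IsZero ((Scheme.Modules.restrictFunctor U.ι).obj K)) :
    IsZero ((Scheme.Modules.restrictFunctor U.ι).obj ((BOp V).obj K)) := by
  haveI : Mono ((εOp V).app K) := mono_extZero_counit V K
  exact IsZero.of_mono ((Scheme.Modules.restrictFunctor U.ι).map ((εOp V).app K)) hK

/-- the counit `j_{V!}(K|_V) ⟶ K` is an isomorphism if `K|_U = 0` and `U ∪ V = X` -/
lemma isIso_εOp_of_isZero_restrict (U V : X.Opens) (hUV : U ⊔ V = ⊤) (K : X.Modules)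
    (hK : IsZero ((Scheme.Modules.restrictFunctor U.ι).obj K)) : IsIso ((εOp V).app K) := by
  apply isIso_of_restrict U V hUV
  · exact isIso_of_source_target_iso_zero _ (isZero_restrict_BOp U V K hK).isoZero hK.isoZero
  · exact isIso_restrict_counit V K

/-- the Mayer–Vietoris sequence `0 ⟶ j_{V!}(j_{U!}M|_U)|_V ⟶ j_{U!}M|_U ⊞ j_{V!}M|_V ⟶ M ⟶ 0` is
short exact -/
theorem mvSC'_shortExact_sheaf (U V : X.Opens) (hUV : U ⊔ V = ⊤)
    [PreservesFiniteLimits (CxOX.extZero V.ι)] (M : X.Modules) :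
    (mvSC' (BOp U) (BOp V) (εOp U) (εOp V) M).ShortExact := by
  haveI : Mono ((εOp U).app M) := mono_extZero_counit U M
  haveI : Mono ((εOp V).app ((BOp U).obj M)) := mono_extZero_counit V _
  apply mvSC'_shortExact M
  apply isIso_εOp_of_isZero_restrict U V hUV
  -- the cokernel of `j_{U!}(M|_U) ⟶ M` restricts to zero on `U`
  let R := Scheme.Modules.restrictFunctor U.ι
  haveI : IsIso (R.map ((εOp U).app M)) := isIso_restrict_counit U M
  rw [IsZero.iff_id_eq_zero]
  haveI : Epi (R.map (cokernel.π ((εOp U).app M))) := inferInstance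
  rw [← cancel_epi (R.map (cokernel.π ((εOp U).app M))), comp_zero, Category.comp_id,
    ← cancel_epi (R.map ((εOp U).app M)), comp_zero, ← Functor.map_comp, cokernel.condition,
    Functor.map_zero]

attribute [local instance] HasDerivedCategory.standard

/-- the vertex `j_!(E|_W)` computed from a complex -/
noncomputable def vertexIso' (W : X.Opens) [PreservesFiniteLimits (CxOX.extZero W.ι)]
    (F : X.Modules ⥤ X.Modules) [F.Additive]
    (φ : F ≅ Scheme.Modules.restrictFunctor W.ι ⋙ CxOX.extZero W.ι)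
    (K : CochainComplex X.Modules ℤ) :
    DerivedCategory.Q.obj ((F.mapHomologicalComplex (ComplexShape.up ℤ)).obj K) ≅
      (CxOX.extZeroD W.ι).obj ((DCoh.restrictD W.ι).obj (DerivedCategory.Q.obj K)) :=
  DerivedCategory.Q.mapIso ((NatIso.mapHomologicalComplex φ (ComplexShape.up ℤ)).app K) ≪≫
    DerivedCategory.Q.mapIso ((compCxIso (Scheme.Modules.restrictFunctor W.ι)
      (CxOX.extZero W.ι)).app K) ≪≫
    ((CxOX.extZero W.ι).mapDerivedCategoryFactors.app
      (((Scheme.Modules.restrictFunctor W.ι).mapHomologicalComplex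
        (ComplexShape.up ℤ)).obj K)).symm ≪≫
    (CxOX.extZeroD W.ι).mapIso
      (((Scheme.Modules.restrictFunctor W.ι).mapDerivedCategoryFactors).app K).symm

/-- Mayer–Vietoris for `j_!` -/
theorem mv_extZero (U V : X.Opens) (hUV : U ⊔ V = ⊤)
    [PreservesFiniteLimits (CxOX.extZero U.ι)] [PreservesFiniteLimits (CxOX.extZero V.ι)]
    [PreservesFiniteLimits (CxOX.extZero (U ⊓ V).ι)] (E : DCoh.D X) :
    ∃ (a : (CxOX.extZeroD (U ⊓ V).ι).obj ((DCoh.restrictD (U ⊓ V).ι).obj E) ⟶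
        ((CxOX.extZeroD U.ι).obj ((DCoh.restrictD U.ι).obj E) ⊞
          (CxOX.extZeroD V.ι).obj ((DCoh.restrictD V.ι).obj E)))
      (b : ((CxOX.extZeroD U.ι).obj ((DCoh.restrictD U.ι).obj E) ⊞
          (CxOX.extZeroD V.ι).obj ((DCoh.restrictD V.ι).obj E)) ⟶ E)
      (c : E ⟶ ((CxOX.extZeroD (U ⊓ V).ι).obj ((DCoh.restrictD (U ⊓ V).ι).obj E))⟦(1 : ℤ)⟧),
      Triangle.mk a b c ∈ distTriang (DCoh.D X) := by
  let K := DerivedCategory.Q.objPreimage E
  let eE : DerivedCategory.Q.obj K ≅ E := DerivedCategory.Q.objObjPreimageIso E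
  have hI : ∀ n, (mvSC' (BOp U) (BOp V) (εOp U) (εOp V) (K.X n)).ShortExact :=
    fun n => mvSC'_shortExact_sheaf U V hUV (K.X n)
  let G := 𝟭 X.Modules
  let e₃ : qobj G K (𝟭 X.Modules) ≅ E :=
    DerivedCategory.Q.mapIso ((NatIso.mapHomologicalComplex (Functor.leftUnitor G)
      (ComplexShape.up ℤ)).app K) ≪≫
    DerivedCategory.Q.mapIso ((Functor.mapHomologicalComplexIdIso X.Modules
      (ComplexShape.up ℤ)).app K) ≪≫ eE
  let eU : qobj G K (BOp U) ≅ (CxOX.extZeroD U.ι).obj ((DCoh.restrictD U.ι).obj E) :=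
    vertexIso' U _ (Functor.rightUnitor _) K ≪≫
      (CxOX.extZeroD U.ι).mapIso ((DCoh.restrictD U.ι).mapIso eE)
  let eV : qobj G K (BOp V) ≅ (CxOX.extZeroD V.ι).obj ((DCoh.restrictD V.ι).obj E) :=
    vertexIso' V _ (Functor.rightUnitor _) K ≪≫
      (CxOX.extZeroD V.ι).mapIso ((DCoh.restrictD V.ι).mapIso eE)
  let e₁ : qobj G K (BOp U ⋙ BOp V) ≅
      (CxOX.extZeroD (U ⊓ V).ι).obj ((DCoh.restrictD (U ⊓ V).ι).obj E) :=
    vertexIso' (U ⊓ V) _
      (Functor.isoWhiskerRight (BOpCompIso U V) G ≪≫ Functor.rightUnitor _) K ≪≫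
      (CxOX.extZeroD (U ⊓ V).ι).mapIso ((DCoh.restrictD (U ⊓ V).ι).mapIso eE)
  exact exists_mv_triangle' (BOp U) (BOp V) (εOp U) (εOp V) K hI e₁ (biprod.mapIso eU eV) e₃

end Sheaf

end Groth.Agent.R2.H28.MVShriek
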