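import Mathlib
import Groth.Agent.R2.H54ClosedImm
import Groth.Agent.Lib.Helper21Dual9
import Groth.Agent.Lib.Helper21Dual10
import Groth.Agent.Lib.Helper21Dual12
import Groth.Agent.Lib.Helper21ExtShDelta
import Groth.Agent.Lib.Helper21FreeConst
set_option backward.isDefEq.respectTransparency.types false

/-!
# Closed immersions and internal Hom of `O`-modules (helper54)

For a closed immersion `i : X ⟶ P` of schemes and an `O_X`-module `E`:

* `ish i` : the right adjoint `i^!` of `i_*` (exists by helper16's `H16ClosedImmAdj`);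
* `TT i E = i^! ⋙ Hom_X(E, -)`, right adjoint of `F ↦ i_* (F ⊗ E)`;
* `bIso i E : Hom_P(i_* E, -) ≅ TT i E ⋙ i_*` (from the projection formula `pfIso`);
* exactness and additivity of `i_*`; `TT i E` preserves injectives for `E` finite locally free.
-/

set_option autoImplicit false
set_option linter.style.haveILetI false
universe u
open CategoryTheory CategoryTheory.Limits AlgebraicGeometry TopologicalSpace Opposite

namespace Groth.Agent.R2.H54.ClosedImmHom

open Groth.Agent.Lib.Helper1.PT Groth.Agent.R2.H54.ClosedImm
  Groth.Agent.Lib.Helper21.ModTensor3 Groth.Agent.Lib.Helper21.ModTensor5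
  Groth.Agent.Lib.Helper21.Dual

attribute [local instance] Groth.Agent.Lib.Helper21.ExtShDelta.hasSheafHom

variable {X P : Scheme.{u}} (i : X ⟶ P) [IsClosedImmersion i]

instance isLeftAdjoint_psh : (psh i).IsLeftAdjoint :=
  Groth.Agent.R2.H16.ClosedImmAdj.isLeftAdjoint_pushforward_of_isClosedImmersion i

/-- the right adjoint `i^!` of `i_*` -/
noncomputable def ish : P.Modules ⥤ X.Modules := (psh i).rightAdjoint

/-- the adjunction `i_* ⊣ i^!` -/
noncomputable def pshIshAdj : psh i ⊣ ish i := Adjunction.ofIsLeftAdjoint (psh i)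

instance preservesFiniteLimits_psh : PreservesFiniteLimits (psh i) := by
  haveI : PreservesLimitsOfSize.{0, 0} (psh i) := (ppAdj i).rightAdjoint_preservesLimits
  exact PreservesLimitsOfSize.preservesFiniteLimits.{0, 0} _

instance preservesFiniteColimits_psh : PreservesFiniteColimits (psh i) := by
  haveI : PreservesColimitsOfSize.{0, 0} (psh i) := (pshIshAdj i).leftAdjoint_preservesColimits
  exact PreservesColimitsOfSize.preservesFiniteColimits.{0, 0} _

instance additive_psh : (psh i).Additive :=
  Functor.additive_of_preserves_binary_products _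

instance additive_ish : (ish i).Additive :=
  (pshIshAdj i).right_adjoint_additive

variable (E : X.Modules)

/-- `i^! ⋙ Hom_X(E, -)` -/
noncomputable def TT : P.Modules ⥤ X.Modules := ish i ⋙ ModSite.sheafHom (O := X.sheaf) E

/-- `TT i E` is right adjoint to `F ↦ i_* (F ⊗ E)` -/
noncomputable def TTAdj : (ModSite.tensorBi X.sheaf).flip.obj E ⋙ psh i ⊣ TT i E :=
  (ModSite.sheafHomAdj (O := X.sheaf) E).comp (pshIshAdj i)

instance additive_TT : (TT i E).Additive := by
  haveI h1 : (ModSite.sheafHom (O := X.sheaf) E).Additive := ModSite.sheafHom_additive X.sheaf E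
  haveI h2 : (ish i).Additive := additive_ish i
  constructor
  intro A B f g
  change (ModSite.sheafHom (O := X.sheaf) E).map ((ish i).map (f + g)) =
    (ModSite.sheafHom (O := X.sheaf) E).map ((ish i).map f) +
      (ModSite.sheafHom (O := X.sheaf) E).map ((ish i).map g)
  rw [Functor.map_add]
  exact h1.map_add

instance additive_TT_psh : (TT i E ⋙ psh i).Additive := by
  constructor
  intro A B f g
  change (psh i).map ((TT i E).map (f + g)) = (psh i).map ((TT i E).map f) + (psh i).map ((TT i E).map g)
  rw [Functor.map_add, Functor.map_add]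

instance additive_tR_psh : ((ModSite.tensorBi X.sheaf).flip.obj E ⋙ psh i).Additive := by
  haveI h1 : ((ModSite.tensorBi X.sheaf).flip.obj E).Additive := tR_additive X.sheaf E
  constructor
  intro A B f g
  change (psh i).map (((ModSite.tensorBi X.sheaf).flip.obj E).map (f + g)) =
    (psh i).map (((ModSite.tensorBi X.sheaf).flip.obj E).map f) +
      (psh i).map (((ModSite.tensorBi X.sheaf).flip.obj E).map g)
  rw [← Functor.map_add]
  congr 1
  exact h1.map_add

/-- `Hom_P(i_* E, -) ≅ i^! ⋙ Hom_X(E, -) ⋙ i_*` -/
noncomputable def bIso [ModSite.HasSheafHom (O := P.sheaf) ((psh i).obj E)] :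
    ModSite.sheafHom (O := P.sheaf) ((psh i).obj E) ≅ TT i E ⋙ psh i :=
  Adjunction.rightAdjointUniq (ModSite.sheafHomAdj (O := P.sheaf) ((psh i).obj E))
    (((ppAdj i).comp (TTAdj i E)).ofNatIsoLeft (pfIso i E).symm)

/-- `TT i E` preserves injective objects when `E` is finite locally free -/
theorem injective_TT_obj (hE : FlatMod.IsFinLocFree E) (Q : P.Modules) [Injective Q] :
    Injective ((TT i E).obj Q) := by
  have hflat : ModSite.IsFlat (O := X.sheaf) E :=
    isFlat_of_isLocFF (O := X.sheaf) E (isLocFF_of_isFinLocFree E hE)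
  haveI : PreservesFiniteLimits ((ModSite.tensorBi X.sheaf).flip.obj E) := hflat.1
  haveI h1 : ((ModSite.tensorBi X.sheaf).flip.obj E).PreservesMonomorphisms := inferInstance
  haveI h2 : (psh i).PreservesMonomorphisms := inferInstance
  haveI : ((ModSite.tensorBi X.sheaf).flip.obj E ⋙ psh i).PreservesMonomorphisms :=
    @Functor.preservesMonomorphisms_comp _ _ _ _ _ _ _ _ h1 h2
  exact (TTAdj i E).map_injective Q inferInstance

end Groth.Agent.R2.H54.ClosedImmHom
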