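import Mathlib
import Groth.Agent.Lib.Helper26FpqcMod
import Groth.Agent.Lib.Helper21UnitHom
import Groth.Agent.R2.H30FreeSec
import Groth.Agent.R2.H20FTGerms
import Groth.Agent.Lib.Helper23FinTypeLocal
import Groth.Agent.S0020
open CategoryTheory CategoryTheory.Limits AlgebraicGeometry TopologicalSpace Opposite
open Groth.Agent.Lib.Helper1.Sky Groth.Agent.Lib.Helper1.StalkTensor
  Groth.Agent.Lib.Helper26.FpqcMod Groth.Agent.Lib.Helper23.FinType
universe u
set_option linter.style.haveILetI false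

/-!
# helper99: finite type descends along flat surjective quasi-compact morphisms (module level)

Main result `isFT_of_pullback`: if `f : X' ⟶ X` is flat, surjective and quasi-compact and `G` is an
ARBITRARY `𝒪_X`-module with `f^* G` of finite type, then `G` is of finite type.
-/

namespace Groth.Agent.R2.H99.FTDescent

variable {X : Scheme.{u}}

theorem finite_stalk_of_isFT (M : X.Modules) (hM : CohB1.IsFT M) (x : X) :
    Module.Finite (Ox x) ((stalkFun x).obj M) := by
  haveI : SheafOfModules.IsFiniteType (R := X.ringCatSheaf) M := hM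
  obtain ⟨W, hxW, K, hK, t, ht⟩ := Groth.Agent.R2.H20.FTGerms.exists_generating_germs M x
  haveI := hK
  refine ⟨Submodule.fg_def.2 ⟨Set.range fun k => (M.presheaf.germ W x hxW (t k) :
    ((stalkFun x).obj M)), Set.finite_range _, ?_⟩⟩
  rw [eq_top_iff]
  intro a _
  exact ht x hxW a

/-- a quotient of a module of finite type is of finite type. -/
theorem isFT_of_epi {M N : X.Modules} (p : M ⟶ N) [Epi p] (hM : CohB1.IsFT M) : CohB1.IsFT N := by
  haveI : SheafOfModules.IsFiniteType (R := X.ringCatSheaf) M := hM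
  obtain ⟨ι, U, gen, hgen, hU, -⟩ := exists_isOpenCover_generatingSections M
  refine isFiniteType_of_generatingSections N U hU (fun i => ?_)
  haveI : @Epi (SheafOfModules.{u} ((U i : Scheme.{u}).ringCatSheaf)) _ _ _
      ((Scheme.Modules.restrictFunctor (U i).ι).map p) :=
    (Scheme.Modules.restrictFunctor (U i).ι).map_epi p
  exact ⟨(gen i).ofEpi ((Scheme.Modules.restrictFunctor (U i).ι).map p), ⟨(hgen i).finite⟩⟩

set_option backward.isDefEq.respectTransparency false in
/-- the restriction of a module of finite type to an open subscheme is of finite type. -/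
theorem isFT_restrict {Y : Scheme.{u}} (j : Y ⟶ X) [IsOpenImmersion j] (M : X.Modules)
    (hM : CohB1.IsFT M) : CohB1.IsFT (M.restrict j) := by
  haveI : SheafOfModules.IsFiniteType (R := X.ringCatSheaf) M := hM
  obtain ⟨ι, U, gen, hgen, hU, -⟩ := exists_isOpenCover_generatingSections M
  have hV : IsOpenCover (fun i => j ⁻¹ᵁ U i) := by
    rw [IsOpenCover, eq_top_iff]
    intro y _
    have : j y ∈ (⨆ i, U i : X.Opens) := by rw [hU.iSup_eq_top]; trivial
    obtain ⟨i, hi⟩ := Opens.mem_iSup.1 this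
    exact Opens.mem_iSup.2 ⟨i, hi⟩
  refine isFiniteType_of_generatingSections (M.restrict j) (fun i => j ⁻¹ᵁ U i) hV (fun i => ?_)
  let G₁ := generatingSectionsOfComp M (j ∣_ U i) (U i).ι ((j ⁻¹ᵁ U i).ι ≫ j)
    (morphismRestrict_ι j (U i)) (gen i)
  let e : M.restrict ((j ⁻¹ᵁ U i).ι ≫ j) ≅ (M.restrict j).restrict (j ⁻¹ᵁ U i).ι :=
    (Scheme.Modules.restrictFunctorComp (j ⁻¹ᵁ U i).ι j).app M
  exact ⟨G₁.ofEpi e.hom, ⟨(hgen i).finite⟩⟩


set_option backward.isDefEq.respectTransparency false in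
/-- finite type is a local property (after helper4, `R2/H4PCTop`). -/
theorem isFT_of_locally (M : X.Modules)
    (h : ∀ x : X, ∃ V : X.Opens, x ∈ V ∧ CohB1.IsFT (M.restrict V.ι)) : CohB1.IsFT M := by
  have key : ∀ x : X, ∃ W : X.Opens, x ∈ W ∧
      ∃ G : (M.restrict W.ι).GeneratingSections, G.IsFiniteType := by
    intro x
    obtain ⟨V, hxV, hV⟩ := h x
    have : SheafOfModules.IsFiniteType (R := (V : Scheme.{u}).ringCatSheaf)
      (M.restrict V.ι) := hV
    obtain ⟨ι', U, G, hG, hU, -⟩ := exists_isOpenCover_generatingSections (M.restrict V.ι)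
    obtain ⟨i, hi⟩ : ∃ i, (⟨x, hxV⟩ : V) ∈ U i := by
      have h1 : (⟨x, hxV⟩ : V) ∈ (⨆ i, U i) := by
        rw [hU.iSup_eq_top]
        trivial
      exact Opens.mem_iSup.1 h1
    refine ⟨V.ι ''ᵁ U i, ⟨⟨x, hxV⟩, hi, rfl⟩, ?_⟩
    have := hG i
    let G₁ : (M.restrict ((U i).ι ≫ V.ι)).GeneratingSections :=
      (G i).ofEpi ((Scheme.Modules.restrictFunctorComp (U i).ι V.ι).app M).inv
    have hG₁ : G₁.IsFiniteType := ⟨(hG i).finite⟩
    exact ⟨generatingSectionsOfComp M (V.ι.isoImage (U i)).inv ((U i).ι ≫ V.ι) (V.ι ''ᵁ U i).ι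
      (V.ι.isoImage_inv_ι (U i)) G₁, inferInstance⟩
  choose W hxW G hG using key
  have hW : IsOpenCover W := by
    rw [IsOpenCover, eq_top_iff]
    intro x _
    exact Opens.mem_iSup.2 ⟨x, hxW x⟩
  exact isFiniteType_of_generatingSections M W hW (fun x => ⟨G x, hG x⟩)

/-- a module with finitely many global generating sections is of finite type. -/
theorem isFT_of_generatingSections (M : X.Modules) (G : M.GeneratingSections)
    [hG : G.IsFiniteType] : CohB1.IsFT M := by
  refine isFiniteType_of_generatingSections M (fun _ : PUnit.{u + 1} => (⊤ : X.Opens)) ?_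
    (fun _ => ⟨generatingSectionsRestrict (⊤ : X.Opens).ι G, inferInstance⟩)
  rw [IsOpenCover, eq_top_iff]
  intro x _
  exact Opens.mem_iSup.2 ⟨PUnit.unit, trivial⟩

theorem subsingleton_stalk_cokernel_iff {A B : X.Modules} (a : A ⟶ B) (x : X) :
    Subsingleton ((cokernel a).presheaf.stalk x) ↔
      Function.Surjective ((stalkFun x).map a).hom := by
  have e : (stalkFun x).obj (cokernel a) ≅ cokernel ((stalkFun x).map a) :=
    PreservesCokernel.iso (stalkFun x) a
  have h1 : Subsingleton ((cokernel a).presheaf.stalk x) ↔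
      IsZero ((stalkFun x).obj (cokernel a)) :=
    (ModuleCat.isZero_iff_subsingleton (M := (stalkFun x).obj (cokernel a))).symm
  rw [h1, e.isZero_iff, ← ModuleCat.epi_iff_surjective]
  exact ⟨fun h => Preadditive.epi_of_isZero_cokernel _ h, fun h => isZero_cokernel_of_epi _⟩

lemma restrict_smul (G : X.Modules) (W : X.Opens) (V : (W : Scheme.{u}).Opens)
    (r : ((W : Scheme.{u}).presheaf.obj (op V)))
    (p : (toPM (G.restrict W.ι)).obj (op V)) :
    r • p = (show (toPM G).obj (op (W.ι ''ᵁ V)) from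
      (((W.ι.appIso V).inv.hom r : X.presheaf.obj (op (W.ι ''ᵁ V))) •
        (show (toPM G).obj (op (W.ι ''ᵁ V)) from p))) := rfl

lemma restrict_rs (G : X.Modules) (W : X.Opens) {V V' : (W : Scheme.{u}).Opens} (i : V' ⟶ V)
    (p : (toPM (G.restrict W.ι)).obj (op V)) :
    rs (toPM (G.restrict W.ι)) i p =
      (show (toPM (G.restrict W.ι)).obj (op V') from
        rs (toPM G) (homOfLE (W.ι.image_mono i.le)) (show (toPM G).obj (op (W.ι ''ᵁ V)) from p)) := rfl

lemma mem_finset_inf_opens {α : Type*} [TopologicalSpace α] {ι : Type*} (s : Finset ι)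
    (N : ι → Opens α) (x : α) : x ∈ s.inf N ↔ ∀ k ∈ s, x ∈ N k := by
  rw [← SetLike.mem_coe, Opens.coe_finset_inf, Finset.inf_set_eq_iInter]
  simp

lemma rs_rs' {P : PMod X.presheaf} {U V W : X.Opens} (i : V ⟶ U) (j : W ⟶ V) (k : W ⟶ U)
    (p : P.obj (op U)) : rs P j (rs P i p) = rs P k p := by
  have : k = j ≫ i := Subsingleton.elim _ _
  rw [this]
  exact rs_rs i j p

lemma rr_rr' {U V W : X.Opens} (i : V ⟶ U) (j : W ⟶ V) (k : W ⟶ U)
    (r : X.presheaf.obj (op U)) : rr X.presheaf j (rr X.presheaf i r) = rr X.presheaf k r := by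
  have : k = j ≫ i := Subsingleton.elim _ _
  rw [this]
  change (X.presheaf.map j.op).hom ((X.presheaf.map i.op).hom r) = (X.presheaf.map (j ≫ i).op).hom r
  rw [op_comp, X.presheaf.map_comp]
  rfl

theorem span_germs_restrict (G : X.Modules) (W : X.Opens) {K : Type u} [Finite K]
    (y : (W : Scheme.{u})) (x : X) (hxy : W.ι y = x) (t : K → (toPM G).obj (op (W.ι ''ᵁ ⊤)))
    (hx : x ∈ W.ι ''ᵁ ⊤)
    (h : Submodule.span (Ox x)
      (Set.range fun k => gm (toPM G) x (W.ι ''ᵁ ⊤) hx (t k)) = ⊤) :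
    Submodule.span (Ox y) (Set.range fun k =>
      gm (toPM (G.restrict W.ι)) y ⊤ trivial
        (show (toPM (G.restrict W.ι)).obj (op ⊤) from t k)) = ⊤ := by
  classical
  haveI : Fintype K := Fintype.ofFinite K
  rw [eq_top_iff]
  intro m _
  obtain ⟨V, hyV, p, rfl⟩ := exists_gm_eq m
  subst hxy
  set x : X := W.ι y with hxdef
  have hxV : x ∈ W.ι ''ᵁ V := ⟨y, hyV, rfl⟩
  let p' : (toPM G).obj (op (W.ι ''ᵁ V)) := p
  have hp : gm (toPM G) x (W.ι ''ᵁ V) hxV p' ∈ Submodule.span (Ox x)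
      (Set.range fun k => gm (toPM G) x (W.ι ''ᵁ ⊤) hx (t k)) := by
    rw [h]; trivial
  obtain ⟨c, hc⟩ := (Submodule.mem_span_range_iff_exists_fun (Ox x)).1 hp
  have hcs : ∀ k, ∃ (N : X.Opens) (hN : x ∈ N) (s : X.presheaf.obj (op N)),
      gr X.presheaf x N hN s = c k := fun k => exists_gr_eq (c k)
  choose N hN s hs using hcs
  let N₀ : X.Opens := (Finset.univ.inf N) ⊓ (W.ι ''ᵁ V)
  have hxN₀ : x ∈ N₀ := ⟨(mem_finset_inf_opens _ _ _).2 (fun k _ => hN k), hxV⟩
  have hN₀N : ∀ k, N₀ ≤ N k := fun k => inf_le_left.trans (Finset.inf_le (Finset.mem_univ k))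
  have hN₀V : N₀ ≤ W.ι ''ᵁ V := inf_le_right
  have hVtop : W.ι ''ᵁ V ≤ W.ι ''ᵁ ⊤ := W.ι.image_mono le_top
  have hN₀top : N₀ ≤ W.ι ''ᵁ ⊤ := hN₀V.trans hVtop
  -- the combination, as a section over `N₀`
  let q : (toPM G).obj (op N₀) :=
    ∑ k, rr X.presheaf (homOfLE (hN₀N k)) (s k) • rs (toPM G) (homOfLE hN₀top) (t k)
  have hq : gm (toPM G) x N₀ hxN₀ q = gm (toPM G) x N₀ hxN₀ (rs (toPM G) (homOfLE hN₀V) p') := by
    rw [gm_rs, ← hc, map_sum]
    refine Finset.sum_congr rfl (fun k _ => ?_)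
    rw [gm_smul, gr_rr, gm_rs, hs]
  obtain ⟨N₁, hxN₁, iU, iV, hN₁⟩ := gm_eq hxN₀ hxN₀ _ _ hq
  -- back to `W`
  let V' : (W : Scheme.{u}).Opens := W.ι ⁻¹ᵁ N₁
  have hyV' : y ∈ V' := hxN₁
  have hV'N₁ : W.ι ''ᵁ V' ≤ N₁ := by
    rintro _ ⟨z, hz, rfl⟩
    exact hz
  have hV'V : V' ≤ V := by
    intro z hz
    have h1 : W.ι z ∈ W.ι ''ᵁ V := hN₀V (iU.le hz)
    obtain ⟨z', hz', hzz⟩ := h1
    have : z' = z := W.ι.isOpenEmbedding.injective hzz
    rwa [← this]
  have hle0 : W.ι ''ᵁ V' ≤ N₀ := hV'N₁.trans iU.le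
  -- the equation over `ι(V')`
  have heq : rs (toPM G) (homOfLE (W.ι.image_mono hV'V)) p' =
      ∑ k, rr X.presheaf (homOfLE (hle0.trans (hN₀N k))) (s k) •
        rs (toPM G) (homOfLE (hle0.trans hN₀top)) (t k) := by
    have h1 := congrArg (rs (toPM G) (homOfLE hV'N₁)) hN₁
    rw [rs_rs' iV (homOfLE hV'N₁) (homOfLE hle0), rs_rs' iU (homOfLE hV'N₁) (homOfLE hle0)] at h1
    rw [rs_rs' (homOfLE hN₀V) (homOfLE hle0) (homOfLE (W.ι.image_mono hV'V))] at h1
    rw [← h1]
    simp only [q, map_sum]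
    refine Finset.sum_congr rfl (fun k _ => ?_)
    rw [rs_smul, rs_rs' (homOfLE hN₀top) (homOfLE hle0) (homOfLE (hle0.trans hN₀top))]
    rw [rr_rr' (homOfLE (hN₀N k)) (homOfLE hle0) (homOfLE (hle0.trans (hN₀N k)))]
  -- translate to `G|_W`
  let M := G.restrict W.ι
  let r : K → (W : Scheme.{u}).presheaf.obj (op V') := fun k =>
    (W.ι.appIso V').hom.hom (rr X.presheaf (homOfLE (hle0.trans (hN₀N k))) (s k))
  have hr : ∀ k, (W.ι.appIso V').inv.hom (r k) =
      rr X.presheaf (homOfLE (hle0.trans (hN₀N k))) (s k) := by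
    intro k
    change ((W.ι.appIso V').hom ≫ (W.ι.appIso V').inv).hom _ = _
    rw [Iso.hom_inv_id]
    rfl
  have heqM : rs (toPM M) (homOfLE hV'V) p =
      ∑ k, r k • rs (toPM M) (homOfLE (le_top : V' ≤ ⊤))
        (show (toPM M).obj (op ⊤) from t k) := by
    rw [restrict_rs]
    refine heq.trans ?_
    refine Finset.sum_congr rfl (fun k _ => ?_)
    rw [restrict_smul, hr k, restrict_rs]
  have h2 : gm (toPM M) y V hyV p = ∑ k, gr (W : Scheme.{u}).presheaf y V' hyV' (r k) •
      gm (toPM M) y ⊤ trivial (show (toPM M).obj (op ⊤) from t k) := by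
    rw [← gm_rs (homOfLE hV'V) hyV' p, heqM, map_sum]
    refine Finset.sum_congr rfl (fun k _ => ?_)
    rw [gm_smul, gm_rs]
  rw [h2]
  refine Submodule.sum_mem _ (fun k _ => Submodule.smul_mem _ _ (Submodule.subset_span ⟨k, rfl⟩))

open Groth.Agent.Lib.Helper21.UnitHom in
theorem exists_free_hom_stalk_surjective (G : X.Modules) (x : X)
    (hfin : Module.Finite (Ox x) ((stalkFun x).obj G)) :
    ∃ (W : X.Opens) (hx : x ∈ W) (K : Type u) (_ : Finite K)
      (τ : SheafOfModules.free K ⟶ G.restrict W.ι),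
      Function.Surjective ((stalkFun (⟨x, hx⟩ : (W : Scheme.{u}))).map τ).hom := by
  classical
  obtain ⟨S, hS⟩ := hfin.fg_top
  let K : Type u := ↥S
  have hk : ∀ k : K, ∃ (U : X.Opens) (hU : x ∈ U) (p : (toPM G).obj (op U)),
      gm (toPM G) x U hU p = k.1 := fun k => exists_gm_eq k.1
  choose U hU p hp using hk
  let W : X.Opens := Finset.univ.inf U
  have hxW : x ∈ W := (mem_finset_inf_opens _ _ _).2 (fun k _ => hU k)
  have hWU : ∀ k, W ≤ U k := fun k => Finset.inf_le (Finset.mem_univ k)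
  have hWtop : W.ι ''ᵁ ⊤ = W := by
    rw [Scheme.Hom.image_top_eq_opensRange, Scheme.Opens.opensRange_ι]
  have hle : ∀ k, W.ι ''ᵁ ⊤ ≤ U k := fun k => hWtop.le.trans (hWU k)
  let t : K → (toPM G).obj (op (W.ι ''ᵁ ⊤)) := fun k => rs (toPM G) (homOfLE (hle k)) (p k)
  let y : (W : Scheme.{u}) := ⟨x, hxW⟩
  have hxy : W.ι y = x := rfl
  have hxt : x ∈ W.ι ''ᵁ ⊤ := ⟨y, trivial, hxy⟩
  have hspan : Submodule.span (Ox x)
      (Set.range fun k => gm (toPM G) x (W.ι ''ᵁ ⊤) hxt (t k)) = ⊤ := by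
    have h0 : (fun k => gm (toPM G) x (W.ι ''ᵁ ⊤) hxt (t k)) = fun k : K => k.1 := by
      funext k
      exact (gm_rs (homOfLE (hle k)) hxt (p k)).trans (hp k)
    rw [h0]
    have h1 : (Set.range fun k : K => (k.1 : ((stalkFun x).obj G))) =
        (S : Set ((stalkFun x).obj G)) := Subtype.range_coe
    have h2 : Submodule.span (Ox x) (Set.range fun k : K => (k.1 : ((stalkFun x).obj G))) = ⊤ := by
      rw [h1]; exact hS
    exact h2
  have hspan' := span_germs_restrict G W y x hxy t hxt hspan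
  let M := G.restrict W.ι
  let hT : Limits.IsTerminal (⊤ : (W : Scheme.{u}).Opens) := Limits.isTerminalTop
  let σ : K → M.sections := fun k => secOf hT M (show M.val.obj (op ⊤) from t k)
  let τ : SheafOfModules.free K ⟶ M := M.freeHomEquiv.symm σ
  refine ⟨W, hxW, K, inferInstance, τ, ?_⟩
  have hmem : ∀ k, gm (toPM M) y ⊤ trivial (show (toPM M).obj (op ⊤) from t k) ∈
      LinearMap.range ((stalkFun y).map τ).hom := by
    intro k
    have h1 : SheafOfModules.ιFree k ≫ τ = M.unitHomEquiv.symm (σ k) := by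
      have := SheafOfModules.unitHomEquiv_symm_freeHomEquiv_apply τ k
      rw [Equiv.apply_symm_apply] at this
      exact this.symm
    have h2 : ((SheafOfModules.ιFree k ≫ τ).val.app (op ⊤)).hom
        (1 : (W : Scheme.{u}).ringCatSheaf.obj.obj (op ⊤)) =
        (show M.val.obj (op ⊤) from t k) := by
      rw [h1]
      exact (unitHomAddEquiv hT M).right_inv (show M.val.obj (op ⊤) from t k)
    let e : (toPM (SheafOfModules.free (R := (W : Scheme.{u}).ringCatSheaf) K)).obj (op ⊤) :=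
      ((SheafOfModules.ιFree (R := (W : Scheme.{u}).ringCatSheaf) k).val.app (op ⊤)).hom
        (1 : (W : Scheme.{u}).ringCatSheaf.obj.obj (op ⊤))
    refine ⟨gm (toPM (SheafOfModules.free (R := (W : Scheme.{u}).ringCatSheaf) K)) y ⊤ trivial e, ?_⟩
    change sm (toPMMap τ) y (gm (toPM (SheafOfModules.free
      (R := (W : Scheme.{u}).ringCatSheaf) K)) y ⊤ trivial e) = _
    refine (sm_gm (x := y) (toPMMap τ) (U := ⊤) trivial e).trans ?_
    exact congrArg (gm (toPM M) y ⊤ trivial) h2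
  intro m
  have hm : m ∈ Submodule.span (Ox y) (Set.range fun k =>
      gm (toPM M) y ⊤ trivial (show (toPM M).obj (op ⊤) from t k)) := by
    rw [hspan']; trivial
  have hle2 : Submodule.span (Ox y) (Set.range fun k =>
      gm (toPM M) y ⊤ trivial (show (toPM M).obj (op ⊤) from t k)) ≤
      LinearMap.range ((stalkFun y).map τ).hom := by
    refine Submodule.span_le.2 ?_
    rintro _ ⟨k, rfl⟩
    exact hmem k
  exact hle2 hm

section Main

variable {X' : Scheme.{u}} (f : X' ⟶ X)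

/-- pullback commutes with restriction to an open of the base. -/
noncomputable def pullbackRestrictIso (L : X.Modules) (U : X.Opens) :
    ((Scheme.Modules.pullback f).obj L).restrict (f ⁻¹ᵁ U).ι ≅
      (Scheme.Modules.pullback (f ∣_ U)).obj (L.restrict U.ι) :=
  (Scheme.Modules.restrictFunctorIsoPullback (f ⁻¹ᵁ U).ι).app _ ≪≫
    (Scheme.Modules.pullbackComp (f ⁻¹ᵁ U).ι f).app L ≪≫
    (Scheme.Modules.pullbackCongr (morphismRestrict_ι f U).symm).app L ≪≫
    ((Scheme.Modules.pullbackComp (f ∣_ U) U.ι).app L).symm ≪≫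
    (Scheme.Modules.pullback (f ∣_ U)).mapIso
      ((Scheme.Modules.restrictFunctorIsoPullback U.ι).app L).symm

theorem finite_stalk_of_pullback [Flat f] (G : X.Modules)
    (h : CohB1.IsFT ((Scheme.Modules.pullback f).obj G)) (x' : X') :
    Module.Finite (Ox (f x')) ((stalkFun (f x')).obj G) := by
  haveI hfin' : Module.Finite (Ox x') ((Scheme.Modules.pullback f ⋙ stalkFun x').obj G) :=
    finite_stalk_of_isFT _ h x'
  letI := (f.stalkMap x').hom.toAlgebra
  haveI := faithfullyFlat_stalkMap f x'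
  have e := ((stalkPullbackIso f x').app G).toLinearEquiv
  haveI : Module.Finite (Ox x') (TensorProduct (Ox (f x')) (Ox x') ((stalkFun (f x')).obj G)) :=
    Module.Finite.equiv e
  exact Module.Finite.of_finite_tensorProduct_of_faithfullyFlat (Ox x')

set_option backward.isDefEq.respectTransparency false in
/-- **fpqc descent of finite type, for arbitrary modules.** -/
theorem isFT_of_pullback [Flat f] [Surjective f] [QuasiCompact f] (G : X.Modules)
    (h : CohB1.IsFT ((Scheme.Modules.pullback f).obj G)) : CohB1.IsFT G := by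
  apply isFT_of_locally
  intro x
  obtain ⟨x', rfl⟩ := f.surjective x
  obtain ⟨W, hxW, K, hK, τ, hτ⟩ :=
    exists_free_hom_stalk_surjective G (f x') (finite_stalk_of_pullback f G h x')
  haveI := hK
  -- base change to `W`
  let g := f ∣_ W
  haveI : Surjective g := IsZariskiLocalAtTarget.restrict ‹_› W
  let M := G.restrict W.ι
  have hM' : CohB1.IsFT ((Scheme.Modules.pullback g).obj M) :=
    @Groth.Agent.Lib.Helper23.FinType.isFiniteType_of_iso _ _ _ (pullbackRestrictIso f G W)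
      (isFT_restrict (f ⁻¹ᵁ W).ι _ h)
  let τ' := (Scheme.Modules.pullback g).map τ
  have hC' : CohB1.IsFT (cokernel τ') := isFT_of_epi (cokernel.π τ') hM'
  have hcl : IsClosed (CohB1.support (cokernel τ')) := Groth.Agent.S0020.result _ _ hC'
  let S : Set (W : Scheme.{u}) := {y | ¬ Function.Surjective ((stalkFun y).map τ).hom}
  have hpre : g ⁻¹' S = CohB1.support (cokernel τ') := by
    ext y'
    change ¬ Function.Surjective ((stalkFun (g y')).map τ).hom ↔
      ¬ Subsingleton ((cokernel τ').presheaf.stalk y')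
    rw [subsingleton_stalk_cokernel_iff, surjective_iff g y' τ]
  have hS : IsClosed S := by
    rw [← (Flat.isQuotientMap_of_surjective g).isClosed_preimage, hpre]
    exact hcl
  let W₁ : (W : Scheme.{u}).Opens := ⟨Sᶜ, hS.isOpen_compl⟩
  let y₀ : (W : Scheme.{u}) := ⟨f x', hxW⟩
  have hy₀ : y₀ ∈ W₁ := fun hne => hne hτ
  have hepi : Epi ((Scheme.Modules.pullback W₁.ι).map τ) := by
    refine (epi_iff_stalk _).2 (fun z => ?_)
    rw [surjective_iff W₁.ι z τ]
    have hz : W₁.ι z ∈ W₁ := z.2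
    exact not_not.1 hz
  let F := Scheme.Modules.restrictFunctor.{u} W₁.ι
  have hepi₁ : Epi (F.map τ) := by
    let e := Scheme.Modules.restrictFunctorIsoPullback W₁.ι
    have h1 : F.map τ = e.hom.app _ ≫ (Scheme.Modules.pullback W₁.ι).map τ ≫ e.inv.app _ := by
      rw [← e.hom.naturality_assoc]
      simp only [Iso.hom_inv_id_app, Category.comp_id]
      rfl
    rw [h1]
    infer_instance
  have hpres : PreservesColimitsOfSize.{u, u} F := inferInstance
  haveI : PreservesColimitsOfSize.{0, 0} F := preservesColimitsOfSize_shrink _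
  let η := (Scheme.Modules.restrictUnitIso W₁.ι).symm
  let π : SheafOfModules.free K ⟶ M.restrict W₁.ι :=
    (SheafOfModules.mapFreeIso F K η).hom ≫ F.map τ
  haveI : Epi π := epi_comp _ _
  let G₀ : (M.restrict W₁.ι).GeneratingSections :=
    { I := K
      s := (M.restrict W₁.ι).freeHomEquiv π
      epi := by rw [Equiv.symm_apply_apply]; infer_instance }
  haveI : G₀.IsFiniteType := ⟨hK⟩
  let G₁ : (G.restrict (W₁.ι ≫ W.ι)).GeneratingSections :=
    G₀.ofEpi ((Scheme.Modules.restrictFunctorComp W₁.ι W.ι).app G).inv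
  haveI : G₁.IsFiniteType := ⟨hK⟩
  refine ⟨W.ι ''ᵁ W₁, ⟨y₀, hy₀, rfl⟩, ?_⟩
  exact isFT_of_generatingSections _ (generatingSectionsOfComp G (W.ι.isoImage W₁).inv
    (W₁.ι ≫ W.ι) (W.ι ''ᵁ W₁).ι (W.ι.isoImage_inv_ι W₁) G₁)

end Main

end Groth.Agent.R2.H99.FTDescent
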