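import Mathlib
import Groth.Agent.Lib.Helper1KBC2
import Groth.Agent.Lib.Helper1StalkTensorC
set_option backward.isDefEq.respectTransparency.types false

/-!
# Flat `O_X`-modules: kernels, extensions, and the terms of acyclic complexes (helper4, round 2)
-/

set_option autoImplicit false
universe u
open CategoryTheory CategoryTheory.Limits AlgebraicGeometry HomologicalComplex

namespace Groth.Agent.R2.H4.Flat

open Groth.Agent.Lib.Helper1.Sky Groth.Agent.Lib.Helper1.KBC Groth.Agent.Lib.Helper1.StalkTensor

section Module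

open TensorProduct

variable {R : Type*} [CommRing R]

/-- the kernel of a surjection between flat modules is flat. -/
theorem flat_of_exact_left {M' M M'' : Type*} [AddCommGroup M'] [AddCommGroup M]
    [AddCommGroup M''] [Module R M'] [Module R M] [Module R M''] [Module.Flat R M]
    [Module.Flat R M''] (ι : M' →ₗ[R] M) (δ : M →ₗ[R] M'') (hι : Function.Injective ι)
    (hδ : Function.Surjective δ) (hex : Function.Exact ι δ) : Module.Flat R M' := by
  rw [Module.Flat.iff_rTensor_injective']
  intro I
  have h1 : Function.Injective (ι.lTensor I) :=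
    LinearMap.lTensor_injective_of_exact_of_flat δ hδ ι hι hex I
  have h2 : Function.Injective (LinearMap.rTensor M (Submodule.subtype I)) :=
    Module.Flat.rTensor_preserves_injective_linearMap _ (Submodule.subtype_injective I)
  have h3 : (ι.lTensor R).comp (LinearMap.rTensor M' (Submodule.subtype I)) =
      (LinearMap.rTensor M (Submodule.subtype I)).comp (ι.lTensor I) := by
    rw [LinearMap.lTensor_comp_rTensor, LinearMap.rTensor_comp_lTensor]
  have h4 : Function.Injective ((ι.lTensor R).comp (LinearMap.rTensor M' (Submodule.subtype I))) := by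
    rw [h3]
    exact h2.comp h1
  exact Function.Injective.of_comp h4

/-- an extension of flat modules is flat. -/
theorem flat_of_exact_mid {M' M M'' : Type*} [AddCommGroup M'] [AddCommGroup M]
    [AddCommGroup M''] [Module R M'] [Module R M] [Module R M''] [Module.Flat R M']
    [Module.Flat R M''] (ι : M' →ₗ[R] M) (δ : M →ₗ[R] M'') (hι : Function.Injective ι)
    (hδ : Function.Surjective δ) (hex : Function.Exact ι δ) : Module.Flat R M := by
  rw [Module.Flat.iff_rTensor_injective']
  intro I
  have hex2 : Function.Exact (ι.lTensor I) (δ.lTensor I) := lTensor_exact I hex hδ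
  have h1 : Function.Injective (LinearMap.rTensor M' (Submodule.subtype I)) :=
    Module.Flat.rTensor_preserves_injective_linearMap _ (Submodule.subtype_injective I)
  have h2 : Function.Injective (LinearMap.rTensor M'' (Submodule.subtype I)) :=
    Module.Flat.rTensor_preserves_injective_linearMap _ (Submodule.subtype_injective I)
  have hιR : Function.Injective (ι.lTensor R) :=
    Module.Flat.lTensor_preserves_injective_linearMap _ hι
  rw [injective_iff_map_eq_zero]
  intro x hx
  have e1 : (LinearMap.rTensor M'' (Submodule.subtype I)) ((δ.lTensor I) x) = 0 := by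
    rw [← LinearMap.comp_apply, LinearMap.rTensor_comp_lTensor, ← LinearMap.lTensor_comp_rTensor,
      LinearMap.comp_apply, hx, map_zero]
  have e2 : (δ.lTensor I) x = 0 := h2 (by rw [e1, map_zero])
  obtain ⟨y, rfl⟩ := (hex2 x).mp e2
  have e3 : (ι.lTensor R) ((LinearMap.rTensor M' (Submodule.subtype I)) y) = 0 := by
    rw [← LinearMap.comp_apply, LinearMap.lTensor_comp_rTensor, ← LinearMap.rTensor_comp_lTensor,
      LinearMap.comp_apply, hx]
  have e4 : y = 0 := h1 (by rw [map_zero]; exact hιR (by rw [e3, map_zero]))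
  rw [e4, map_zero]

end Module

section Sheaf

variable {X : Scheme.{u}}

lemma isFlat_iff_stalkFun (M : X.Modules) :
    FlatMod.IsFlat M ↔ ∀ x : X, Module.Flat (Groth.Agent.Lib.Helper1.Sky.Ox x)
      ((stalkFun x).obj M) := Iff.rfl

lemma isFlat_of_iso {M N : X.Modules} (e : M ≅ N) (h : FlatMod.IsFlat M) : FlatMod.IsFlat N := by
  rw [isFlat_iff_stalkFun] at h ⊢
  intro x
  have := h x
  exact Module.Flat.of_linearEquiv ((stalkFun x).mapIso e).toLinearEquiv.symm

lemma isFlat_of_isZero {M : X.Modules} (h : IsZero M) : FlatMod.IsFlat M := by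
  rw [isFlat_iff_stalkFun]
  intro x
  have : Subsingleton ((stalkFun x).obj M) :=
    ModuleCat.subsingleton_of_isZero ((stalkFun x).map_isZero h)
  infer_instance

/-- kernels of epimorphisms of flat modules are flat. -/
theorem isFlat_X₁ (S : ShortComplex X.Modules) (hS : S.ShortExact) (h₂ : FlatMod.IsFlat S.X₂)
    (h₃ : FlatMod.IsFlat S.X₃) : FlatMod.IsFlat S.X₁ := by
  rw [isFlat_iff_stalkFun] at h₂ h₃ ⊢
  intro x
  have hS' := hS.map_of_exact (stalkFun x)
  have := h₂ x
  have := h₃ x
  have hm := hS'.mono_f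
  have he := hS'.epi_g
  exact flat_of_exact_left ((stalkFun x).map S.f).hom ((stalkFun x).map S.g).hom
    ((ModuleCat.mono_iff_injective _).1 hm) ((ModuleCat.epi_iff_surjective _).1 he)
    ((ShortComplex.ShortExact.moduleCat_exact_iff_function_exact _).1 hS'.exact)

/-- extensions of flat modules are flat. -/
theorem isFlat_X₂ (S : ShortComplex X.Modules) (hS : S.ShortExact) (h₁ : FlatMod.IsFlat S.X₁)
    (h₃ : FlatMod.IsFlat S.X₃) : FlatMod.IsFlat S.X₂ := by
  rw [isFlat_iff_stalkFun] at h₁ h₃ ⊢
  intro x
  have hS' := hS.map_of_exact (stalkFun x)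
  have := h₁ x
  have := h₃ x
  have hm := hS'.mono_f
  have he := hS'.epi_g
  exact flat_of_exact_mid ((stalkFun x).map S.f).hom ((stalkFun x).map S.g).hom
    ((ModuleCat.mono_iff_injective _).1 hm) ((ModuleCat.epi_iff_surjective _).1 he)
    ((ShortComplex.ShortExact.moduleCat_exact_iff_function_exact _).1 hS'.exact)

theorem isFlat_biprod (M N : X.Modules) (hM : FlatMod.IsFlat M) (hN : FlatMod.IsFlat N) :
    FlatMod.IsFlat (M ⊞ N) := by
  have hS : (ShortComplex.mk (biprod.inl : M ⟶ M ⊞ N) biprod.snd (by simp)).ShortExact :=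
    (ShortComplex.Splitting.ofHasBinaryBiproduct M N).shortExact
  exact isFlat_X₂ _ hS hM hN

end Sheaf

section Complex

variable {X : Scheme.{u}}

/-- the short complex `opcycles i ⟶ X (i+1) ⟶ opcycles (i+1)`. -/
noncomputable def opcyclesSC (C : CochainComplex X.Modules ℤ) (i : ℤ) : ShortComplex X.Modules :=
  ShortComplex.mk (C.fromOpcycles i (i + 1)) (C.pOpcycles (i + 1)) (by
    rw [← cancel_epi (C.pOpcycles i), p_fromOpcycles_assoc, comp_zero]
    exact C.d_pOpcycles i (i + 1))

lemma opcyclesSC_shortExact (C : CochainComplex X.Modules ℤ) (i : ℤ) (h : C.ExactAt i) :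
    (opcyclesSC C i).ShortExact := by
  have hm : Mono (C.fromOpcycles i (i + 1)) := by
    have hk := C.homologyIsKernel i (i + 1) (by simp)
    have hz : IsZero (C.homology i) := (exactAt_iff_isZero_homology C i).1 h
    exact Preadditive.mono_of_cancel_zero _ (fun {Z} g hg => by
      obtain ⟨l, hl⟩ := KernelFork.IsLimit.lift' hk g hg
      rw [← hl]
      exact (hz.eq_of_tgt l 0).symm ▸ zero_comp)
  have hc : IsColimit (CokernelCofork.ofπ (C.pOpcycles (i + 1)) (C.d_pOpcycles i (i + 1))) :=
    C.opcyclesIsCokernel i (i + 1) (by simp)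
  refine ShortComplex.ShortExact.mk' ?_ hm (by dsimp [opcyclesSC]; infer_instance)
  -- exactness at the middle: `pOpcycles (i+1)` is the cokernel of `fromOpcycles i (i+1)`
  refine ShortComplex.exact_of_g_is_cokernel _ ?_
  exact CokernelCofork.IsColimit.ofπ _ _
    (fun {Z} (g : C.X (i + 1) ⟶ Z) (hg : C.fromOpcycles i (i + 1) ≫ g = 0) =>
      hc.desc (CokernelCofork.ofπ g (by
        rw [← p_fromOpcycles C i (i + 1), Category.assoc, hg, comp_zero])))
    (fun {Z} (g : C.X (i + 1) ⟶ Z) (hg : C.fromOpcycles i (i + 1) ≫ g = 0) =>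
      hc.fac _ WalkingParallelPair.one)
    (fun {Z} (g : C.X (i + 1) ⟶ Z) (hg : C.fromOpcycles i (i + 1) ≫ g = 0) m hm' => by
      apply Cofork.IsColimit.hom_ext hc
      have h1 : C.pOpcycles (i + 1) ≫ hc.desc (CokernelCofork.ofπ g (by
          rw [← p_fromOpcycles C i (i + 1), Category.assoc, hg, comp_zero])) = g :=
        hc.fac _ WalkingParallelPair.one
      exact hm'.trans h1.symm)

/-- in a complex which vanishes in degrees `> b`, is exact in degrees `≥ n` and has flat terms in
degrees `> n`, the modules `opcycles i` are flat for `i ≥ n`. -/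
theorem isFlat_opcycles (C : CochainComplex X.Modules ℤ) (b : ℤ)
    (hb : ∀ i, b < i → IsZero (C.X i)) (n : ℤ) (hfl : ∀ i, n < i → FlatMod.IsFlat (C.X i))
    (hex : ∀ i, n ≤ i → C.ExactAt i) :
    ∀ (k : ℕ) (i : ℤ), n ≤ i → b < i + k → FlatMod.IsFlat (C.opcycles i) := by
  intro k
  induction k with
  | zero =>
    intro i _ hi
    have hz : IsZero (C.X i) := hb i (by simpa using hi)
    exact isFlat_of_isZero (IsZero.of_epi (C.pOpcycles i) hz)
  | succ k ih =>
    intro i hni hi
    have h1 := ih (i + 1) (by omega) (by push_cast at hi ⊢; omega)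
    exact isFlat_X₁ _ (opcyclesSC_shortExact C i (hex i hni)) (hfl (i + 1) (by omega)) h1

theorem isFlat_opcycles' (C : CochainComplex X.Modules ℤ) (b : ℤ)
    (hb : ∀ i, b < i → IsZero (C.X i)) (n : ℤ) (hfl : ∀ i, n < i → FlatMod.IsFlat (C.X i))
    (hex : ∀ i, n ≤ i → C.ExactAt i) : FlatMod.IsFlat (C.opcycles n) := by
  obtain ⟨k, hk⟩ : ∃ k : ℕ, b < n + k := ⟨(b - n + 1).toNat, by omega⟩
  exact isFlat_opcycles C b hb n hfl hex k n le_rfl hk

end Complex

end Groth.Agent.R2.H4.Flat
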