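import Mathlib
import Groth.Agent.R2.H4Flat
import Groth.Agent.Lib.Helper2LocFree
import Groth.Agent.Lib.Helper1FLF1
import Groth.Agent.Lib.Helper1Sky4
set_option backward.isDefEq.respectTransparency.types false

/-!
# Flat cokernels of maps of finite locally free modules are finite locally free (helper4, round 2)
-/

set_option autoImplicit false
universe u
open CategoryTheory CategoryTheory.Limits AlgebraicGeometry HomologicalComplex

namespace Groth.Agent.R2.H4.Flat

open Groth.Agent.Lib.Helper1.Sky Groth.Agent.Lib.Helper1.FLF Groth.Agent.Lib.Helper20.LocFree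
  Groth.Agent.Lib.Helper2.LocFree Groth.Agent.Lib.Helper23.FinType

lemma isCokernel_conj {C : Type*} [Category C] [HasZeroMorphisms C] {A B M A' B' : C}
    (f : A ⟶ B) (g : B ⟶ M) (w : f ≫ g = 0) (hc : IsColimit (CokernelCofork.ofπ g w))
    (eA : A' ≅ A) (eB : B' ≅ B) :
    ∃ (w'' : (eA.hom ≫ f ≫ eB.inv) ≫ (eB.hom ≫ g) = 0),
      Nonempty (IsColimit (CokernelCofork.ofπ (eB.hom ≫ g) w'')) := by
  have w'' : (eA.hom ≫ f ≫ eB.inv) ≫ (eB.hom ≫ g) = 0 := by
    simp only [Category.assoc, Iso.inv_hom_id_assoc, w, comp_zero]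
  exact ⟨w'', ⟨IsCokernel.ofIso _ hc (CokernelCofork.ofπ (eB.hom ≫ g) w'') eA.symm eB.symm
    (Iso.refl _) (by simp) (by simp)⟩⟩

variable {X : Scheme.{u}}

/-- restriction to an open subscheme preserves flatness. -/
lemma isFlat_restrict {U : Scheme.{u}} (j : U ⟶ X) [IsOpenImmersion j] (M : X.Modules)
    (h : FlatMod.IsFlat M) : FlatMod.IsFlat ((Scheme.Modules.restrictFunctor j).obj M) :=
  isFlat_of_iso ((Scheme.Modules.restrictFunctorIsoPullback j).app M).symm (isFlat_pullback j M h)

/-- finite locally free modules are flat. -/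
lemma isFlat_of_isFinLocFree' (M : X.Modules) (h : FlatMod.IsFinLocFree M) : FlatMod.IsFlat M := by
  have := isFP_of_isFinLocFree M h
  exact isFlat_of_isFinLocFree M h

/-- the cokernel of a morphism of finite locally free modules is of finite presentation. -/
theorem isFP_of_isCokernel {A B M : X.Modules} (f : A ⟶ B) (g : B ⟶ M) (w : f ≫ g = 0)
    (hc : IsColimit (CokernelCofork.ofπ g w)) (hA : FlatMod.IsFinLocFree A)
    (hB : FlatMod.IsFinLocFree B) :
    SheafOfModules.IsFinitePresentation (R := X.ringCatSheaf) M := by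
  have key : ∀ x : X, ∃ (V : X.Opens) (m n : ℕ), x ∈ V ∧
      Nonempty (A.restrict V.ι ≅ FlatMod.freeMod (↑V) m) ∧
      Nonempty (B.restrict V.ι ≅ FlatMod.freeMod (↑V) n) := by
    intro x
    obtain ⟨V, n, hx, e⟩ := exists_common_open (J := Bool) (fun b => if b then A else B)
      (fun b => by cases b <;> simpa) x
    exact ⟨V, n true, n false, hx, by simpa using e true, by simpa using e false⟩
  choose V m n hxV eA eB using key
  have hV : TopologicalSpace.IsOpenCover V := by
    rw [TopologicalSpace.IsOpenCover, eq_top_iff]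
    intro x _
    exact TopologicalSpace.Opens.mem_iSup.2 ⟨x, hxV x⟩
  refine isFinitePresentation_of_presentation M V hV (fun x => ?_)
  let R := Scheme.Modules.restrictFunctor (V x).ι
  have w' : R.map f ≫ R.map g = 0 := by rw [← R.map_comp, w, R.map_zero]
  have hc' : IsColimit (CokernelCofork.ofπ (R.map g) w') :=
    CokernelCofork.mapIsColimit _ hc R
  let FA : (V x : Scheme.{u}).Modules :=
    SheafOfModules.free (R := ((V x : Scheme.{u})).ringCatSheaf) (ULift.{u} (Fin (m x)))
  let FB : (V x : Scheme.{u}).Modules :=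
    SheafOfModules.free (R := ((V x : Scheme.{u})).ringCatSheaf) (ULift.{u} (Fin (n x)))
  let eA' : FA ≅ R.obj A := (freeModIsoFree _ _).symm ≪≫ (eA x).some.symm
  let eB' : FB ≅ R.obj B := (freeModIsoFree _ _).symm ≪≫ (eB x).some.symm
  obtain ⟨w'', ⟨hc''⟩⟩ := isCokernel_conj (R.map f) (R.map g) w' hc' eA' eB'
  exact ⟨SheafOfModules.presentationOfIsCokernelFree
      (show SheafOfModules.free (R := ((V x : Scheme.{u})).ringCatSheaf) (ULift.{u} (Fin (m x))) ⟶
        SheafOfModules.free (R := ((V x : Scheme.{u})).ringCatSheaf) (ULift.{u} (Fin (n x))) from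
          eA'.hom ≫ R.map f ≫ eB'.inv) (eB'.hom ≫ R.map g) w'' hc'',
    ⟨⟨inferInstanceAs (Finite (ULift.{u} (Fin (n x))))⟩,
      ⟨inferInstanceAs (Finite (ULift.{u} (Fin (m x))))⟩⟩⟩

/-- a flat cokernel of a morphism of finite locally free modules is finite locally free. -/
theorem isFinLocFree_of_isCokernel {A B M : X.Modules} (f : A ⟶ B) (g : B ⟶ M) (w : f ≫ g = 0)
    (hc : IsColimit (CokernelCofork.ofπ g w)) (hA : FlatMod.IsFinLocFree A)
    (hB : FlatMod.IsFinLocFree B) (hM : FlatMod.IsFlat M) : FlatMod.IsFinLocFree M := by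
  have := isFP_of_isCokernel f g w hc hA hB
  intro x
  exact exists_restrict_iso_freeMod_of_isFlatAt M x (hM x)

end Groth.Agent.R2.H4.Flat
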