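import Mathlib
import Groth.Agent.R2.H4FlatFP
import Groth.Agent.R2.H4LocHtpy
set_option backward.isDefEq.respectTransparency.types false

/-!
# Kernels of epimorphisms of finite locally free modules (helper4, round 2)
-/

set_option autoImplicit false
universe u
open CategoryTheory CategoryTheory.Limits AlgebraicGeometry HomologicalComplex

namespace Groth.Agent.R2.H4.Flat

open Groth.Agent.Lib.Helper1.Sky Groth.Agent.Lib.Helper1.FLF Groth.Agent.Lib.Helper20.LocFree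
  Groth.Agent.Lib.Helper2.LocFree Groth.Agent.R2.H4.LocHtpy

variable {X : Scheme.{u}}

/-- finite local freeness is a local property. -/
theorem isFinLocFree_of_locally (M : X.Modules)
    (h : ∀ x : X, ∃ V : X.Opens, x ∈ V ∧
      FlatMod.IsFinLocFree ((Scheme.Modules.restrictFunctor V.ι).obj M)) :
    FlatMod.IsFinLocFree M := by
  intro x
  obtain ⟨V, hxV, hV⟩ := h x
  obtain ⟨D, n, hxD, ⟨e⟩⟩ := hV ⟨x, hxV⟩
  refine ⟨V.ι ''ᵁ D, n, ⟨⟨x, hxV⟩, hxD, rfl⟩, ⟨?_⟩⟩
  let g : ((V.ι ''ᵁ D : X.Opens) : Scheme.{u}) ⟶ (D : Scheme.{u}) := (V.ι.isoImage D).inv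
  have hg : g ≫ (D.ι ≫ V.ι) = (V.ι ''ᵁ D).ι := V.ι.isoImage_inv_ι D
  exact (Scheme.Modules.restrictFunctorCongr hg.symm).app M ≪≫
    (Scheme.Modules.restrictFunctorComp g (D.ι ≫ V.ι)).app M ≪≫
    (Scheme.Modules.restrictFunctor g).mapIso
      ((Scheme.Modules.restrictFunctorComp D.ι V.ι).app M ≪≫ e) ≪≫ restrictFreeMod g n

/-- in a split short exact sequence, the retraction is a cokernel of the section. -/
lemma isCokernel_of_splitting {C : Type*} [Category C] [Preadditive C] {S : ShortComplex C}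
    (σ : S.Splitting) :
    ∃ (w : σ.s ≫ σ.r = 0), Nonempty (IsColimit (CokernelCofork.ofπ σ.r w)) := by
  have w : σ.s ≫ σ.r = 0 := σ.s_r
  refine ⟨w, ⟨CokernelCofork.IsColimit.ofπ _ _ (fun {Z} (g : S.X₂ ⟶ Z) _ => S.f ≫ g) ?_ ?_⟩⟩
  · intro Z g hg
    have h1 := σ.id
    calc σ.r ≫ S.f ≫ g = (σ.r ≫ S.f) ≫ g := (Category.assoc _ _ _).symm
      _ = (𝟙 _ - S.g ≫ σ.s) ≫ g := by rw [← h1]; simp
      _ = g := by simp [hg]
  · intro Z g hg m hm
    rw [← hm, ← Category.assoc, σ.f_r, Category.id_comp]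

/-- the kernel of an epimorphism of finite locally free modules is finite locally free. -/
theorem isFinLocFree_X₁ (S : ShortComplex X.Modules) (hS : S.ShortExact)
    (h₂ : FlatMod.IsFinLocFree S.X₂) (h₃ : FlatMod.IsFinLocFree S.X₃) :
    FlatMod.IsFinLocFree S.X₁ := by
  have hfl : FlatMod.IsFlat S.X₁ :=
    isFlat_X₁ S hS (isFlat_of_isFinLocFree' _ h₂) (isFlat_of_isFinLocFree' _ h₃)
  apply isFinLocFree_of_locally
  intro x
  have := hS.epi_g
  obtain ⟨V, s, hxV, hs⟩ := exists_local_lift S.g (𝟙 S.X₃) h₃ x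
  refine ⟨V, hxV, ?_⟩
  let R := Scheme.Modules.restrictFunctor V.ι
  have hS' : (S.map R).ShortExact := hS.map_of_exact R
  have hs' : s ≫ (S.map R).g = 𝟙 _ := hs.trans (R.map_id _)
  let σ : (S.map R).Splitting := ShortComplex.Splitting.ofExactOfSection _ hS'.exact s hs'
    hS'.mono_f
  obtain ⟨w, ⟨hc⟩⟩ := isCokernel_of_splitting σ
  exact isFinLocFree_of_isCokernel σ.s σ.r w hc (isFinLocFree_restrict V.ι _ h₃)
    (isFinLocFree_restrict V.ι _ h₂) (isFlat_restrict V.ι _ hfl)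

end Groth.Agent.R2.H4.Flat
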