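import Mathlib
import Groth.Agent.R2.H4Perf
import Groth.Agent.R2.H4PerfTri
import Groth.Agent.R2.H4FlatKer
import Groth.Agent.R2.H4FlatFP
import Groth.Agent.R2.H4PerfFree
import Groth.Agent.R2.H28RpushQCohA
import Groth.Agent.Lib.Helper23FinType
import Groth.Agent.Lib.Helper23FinPres
import Groth.Agent.Lib.Helper2FinPres
import Groth.Agent.Lib.Helper20Nakayama
import Groth.Agent.Lib.Helper18Strict6
import Groth.Agent.Lib.Helper2LocFree
set_option backward.isDefEq.respectTransparency.types false

/-!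
# Pseudo-coherence of a single module (helper28)

`F[0]` is `0`-pseudo-coherent iff `F` is of finite type; `(-1)`-pseudo-coherent iff `F` is of finite
presentation.
-/

set_option autoImplicit false
set_option linter.style.haveILetI false
universe u
open CategoryTheory CategoryTheory.Limits AlgebraicGeometry TopologicalSpace Opposite
  HomologicalComplex CategoryTheory.Pretriangulated

attribute [local instance] HasDerivedCategory.standard

namespace Groth.Agent.R2.H28.PCSingle

open DerivedCategory Groth.Agent.R2.H4.Conn Groth.Agent.R2.H4.Perf Groth.Agent.R2.H4.Flat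
  Groth.Agent.Lib.Helper23.FinType Groth.Agent.Lib.Helper23.QCohLocal
  Groth.Agent.Lib.Helper2.FinPres

variable {X : Scheme.{u}}

section Locality

/-- finite type is a local property (no quasi-coherence needed) -/
theorem isFT_of_locally (F : X.Modules)
    (h : ∀ x : X, ∃ V : X.Opens, x ∈ V ∧
      SheafOfModules.IsFiniteType (R := (V : Scheme.{u}).ringCatSheaf) (F.restrict V.ι)) :
    SheafOfModules.IsFiniteType (R := X.ringCatSheaf) F := by
  have key : ∀ x : X, ∃ W : X.Opens, x ∈ W ∧
      ∃ G : (F.restrict W.ι).GeneratingSections, G.IsFiniteType := by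
    intro x
    obtain ⟨V, hxV, hV⟩ := h x
    haveI := hV
    obtain ⟨ι, U, G, hG, hU, -⟩ := exists_isOpenCover_generatingSections (F.restrict V.ι)
    let y : (V : Scheme.{u}) := ⟨x, hxV⟩
    have hy : y ∈ (⨆ i, U i : (V : Scheme.{u}).Opens) := by rw [hU.iSup_eq_top]; trivial
    obtain ⟨i, hyi⟩ := Opens.mem_iSup.1 hy
    let j : ((U i : (V : Scheme.{u}).Opens) : Scheme.{u}) ⟶ X := (U i).ι ≫ V.ι
    let e₁ : (F.restrict V.ι).restrict (U i).ι ≅ F.restrict j :=
      ((Scheme.Modules.restrictFunctorComp (U i).ι V.ι).app F).symm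
    haveI := hG i
    let G₁ : (F.restrict j).GeneratingSections := (G i).ofEpi e₁.hom
    haveI : G₁.IsFiniteType := ⟨(hG i).finite⟩
    let g := IsOpenImmersion.isoOfRangeEq j.opensRange.ι j (by simp)
    have fac : g.hom ≫ j = j.opensRange.ι := IsOpenImmersion.isoOfRangeEq_hom_fac _ _ _
    refine ⟨j.opensRange, ⟨⟨y, hyi⟩, rfl⟩, generatingSectionsOfComp F g.hom j _ fac G₁, ?_⟩
    infer_instance
  choose W hxW G using key
  have hW : IsOpenCover W := by
    rw [IsOpenCover, eq_top_iff]
    intro x _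
    exact Opens.mem_iSup.2 ⟨x, hxW x⟩
  exact isFiniteType_of_generatingSections F W hW G

/-- finite presentation is a local property -/
theorem isFP_of_locally (F : X.Modules)
    (h : ∀ x : X, ∃ V : X.Opens, x ∈ V ∧
      SheafOfModules.IsFinitePresentation (R := (V : Scheme.{u}).ringCatSheaf) (F.restrict V.ι)) :
    SheafOfModules.IsFinitePresentation (R := X.ringCatSheaf) F := by
  have key : ∀ x : X, ∃ W : X.Opens, x ∈ W ∧
      ∃ P : (F.restrict W.ι).Presentation, P.IsFinite := by
    intro x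
    obtain ⟨V, hxV, hV⟩ := h x
    haveI := hV
    obtain ⟨ι, U, P, hP, hU, -⟩ := exists_isOpenCover_presentation_isFinite (F.restrict V.ι)
    let y : (V : Scheme.{u}) := ⟨x, hxV⟩
    have hy : y ∈ (⨆ i, U i : (V : Scheme.{u}).Opens) := by rw [hU.iSup_eq_top]; trivial
    obtain ⟨i, hyi⟩ := Opens.mem_iSup.1 hy
    let j : ((U i : (V : Scheme.{u}).Opens) : Scheme.{u}) ⟶ X := (U i).ι ≫ V.ι
    let e₁ : (F.restrict V.ι).restrict (U i).ι ≅ F.restrict j :=
      ((Scheme.Modules.restrictFunctorComp (U i).ι V.ι).app F).symm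
    haveI := hP i
    let P₁ : (F.restrict j).Presentation :=
      SheafOfModules.Presentation.ofIsIso.{u, u, u} e₁.hom (P i)
    have hP₁ : P₁.IsFinite := ⟨⟨(hP i).isFiniteType_generators.finite⟩,
      ⟨(hP i).isFiniteType_relations.finite⟩⟩
    let g := IsOpenImmersion.isoOfRangeEq j.opensRange.ι j (by simp)
    have fac : g.hom ≫ j = j.opensRange.ι := IsOpenImmersion.isoOfRangeEq_hom_fac _ _ _
    refine ⟨j.opensRange, ⟨⟨y, hyi⟩, rfl⟩, presentationOfComp F g.hom j _ fac P₁, ?_⟩
    exact ⟨⟨hP₁.isFiniteType_generators.finite⟩, ⟨hP₁.isFiniteType_relations.finite⟩⟩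
  choose W hxW P using key
  have hW : IsOpenCover W := by
    rw [IsOpenCover, eq_top_iff]
    intro x _
    exact Opens.mem_iSup.2 ⟨x, hxW x⟩
  exact isFinitePresentation_of_presentation F W hW P

end Locality

section Converse

open Groth.Agent.R2.H28.RpushQCoh

/-- a finite locally free module in degree `0` is strictly perfect -/
lemma spRep_inD_of_isFinLocFree (N : X.Modules) (hN : FlatMod.IsFinLocFree N) :
    SPRep (DCoh.inD X N) := by
  refine ⟨(CochainComplex.singleFunctor X.Modules 0).obj N, ⟨⟨0, 0, fun i hi => ?_⟩, fun i => ?_⟩,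
    ⟨((DerivedCategory.singleFunctorIsoCompQ X.Modules 0).app N).symm⟩⟩
  · exact HomologicalComplex.isZero_single_obj_X (ComplexShape.up ℤ) 0 N i (by omega)
  · by_cases hi : i = 0
    · subst hi
      exact Groth.Agent.R2.H4.LocHtpy.isFinLocFree_of_iso
        (HomologicalComplex.singleObjXSelf (ComplexShape.up ℤ) 0 N).symm hN
    · exact isFinLocFree_of_isZero _
        (HomologicalComplex.isZero_single_obj_X (ComplexShape.up ℤ) 0 N i hi)

/-- `H^i` of a map between modules placed in degree `0` -/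
lemma conn_zero_single_map {N M : X.Modules} (π : N ⟶ M) [Epi π] :
    Conn 0 ((DerivedCategory.singleFunctor X.Modules 0).map π) := by
  refine ⟨fun i hi => ?_, ?_⟩
  · have h1 : IsZero ((homologyFunctor X.Modules i).obj
        ((DerivedCategory.singleFunctor X.Modules 0).obj N)) :=
      DerivedCategory.isZero_of_isLE _ 0 i hi
    have h2 : IsZero ((homologyFunctor X.Modules i).obj
        ((DerivedCategory.singleFunctor X.Modules 0).obj M)) :=
      DerivedCategory.isZero_of_isLE _ 0 i hi
    exact ⟨⟨0, h1.eq_of_src _ _, h2.eq_of_src _ _⟩⟩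
  · exact (epi_map_iff_of_natIso
      (DerivedCategory.singleFunctorCompHomologyFunctorIso X.Modules 0) π).2
      (by simpa using (inferInstance : Epi π))

/-- a quotient of a finite locally free module is `0`-pseudo-coherent, locally -/
lemma spApprox_zero_of_epi {N M : X.Modules} (π : N ⟶ M) [Epi π]
    (hN : FlatMod.IsFinLocFree N) : SPApprox 0 (DCoh.inD X M) :=
  ⟨DCoh.inD X N, (DerivedCategory.singleFunctor X.Modules 0).map π,
    spRep_inD_of_isFinLocFree N hN, conn_zero_single_map π⟩

end Converse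

section Cycles

variable {𝒜 : Type*} [Category 𝒜] [Abelian 𝒜]

lemma iCycles_toCycles (E : CochainComplex 𝒜 ℤ) (i j : ℤ) :
    E.iCycles i ≫ E.toCycles i j = 0 := by
  rw [← cancel_mono (E.iCycles j), Category.assoc, E.toCycles_i, E.iCycles_d, zero_comp]

lemma comp_d_eq_zero (E : CochainComplex 𝒜 ℤ) (i j : ℤ) {A : 𝒜} (g : A ⟶ E.X i)
    (hg : g ≫ E.toCycles i j = 0) : g ≫ E.d i j = 0 := by
  rw [← E.toCycles_i i j, ← Category.assoc, hg, zero_comp]

/-- `0 → Z^i → E^i → Z^j → 0` is short exact when `E` is exact at `j = i + 1` -/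
lemma shortExact_cycles (E : CochainComplex 𝒜 ℤ) (i j : ℤ) (hij : i + 1 = j)
    (h : E.ExactAt j) :
    (ShortComplex.mk (E.iCycles i) (E.toCycles i j) (iCycles_toCycles E i j)).ShortExact := by
  have hnext : (ComplexShape.up ℤ).next i = j := by simp [hij]
  have hprev : (ComplexShape.up ℤ).prev j = i := by simp [← hij]
  have hepi : Epi (E.toCycles i j) :=
    Preadditive.epi_of_isZero_cokernel' _ (E.homologyIsCokernel i j hprev)
      ((E.exactAt_iff_isZero_homology j).1 h)
  refine ShortComplex.ShortExact.mk' (ShortComplex.exact_of_f_is_kernel _ ?_)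
    (inferInstanceAs (Mono (E.iCycles i))) hepi
  exact KernelFork.IsLimit.ofι (E.iCycles i) (iCycles_toCycles E i j)
    (fun {A} (g : A ⟶ E.X i) (hg : g ≫ E.toCycles i j = 0) =>
      (E.cyclesIsKernel i j hnext).lift (KernelFork.ofι g (comp_d_eq_zero E i j g hg)))
    (fun {A} (g : A ⟶ E.X i) (hg : g ≫ E.toCycles i j = 0) =>
      (E.cyclesIsKernel i j hnext).fac (KernelFork.ofι g (comp_d_eq_zero E i j g hg))
        WalkingParallelPair.zero)
    (fun {A} (g : A ⟶ E.X i) (hg : g ≫ E.toCycles i j = 0) m hm => by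
      rw [← cancel_mono (E.iCycles i), hm]
      exact ((E.cyclesIsKernel i j hnext).fac (KernelFork.ofι g (comp_d_eq_zero E i j g hg))
        WalkingParallelPair.zero).symm)

end Cycles

section Direct

open Groth.Agent.R2.H28.RpushQCoh

/-- cycles of a strictly perfect complex which is exact in degrees `> n` are finite locally free -/
lemma isFinLocFree_cycles (E : CochainComplex X.Modules ℤ) (hE : DCoh.IsStrictlyPerfect E)
    (n : ℤ) (hex : ∀ i : ℤ, n < i → E.ExactAt i) : FlatMod.IsFinLocFree (E.cycles n) := by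
  obtain ⟨⟨a, b, hv⟩, hfl⟩ := hE
  suffices H : ∀ (k : ℕ) (n : ℤ), b + 1 - n ≤ k → (∀ i, n < i → E.ExactAt i) →
      FlatMod.IsFinLocFree (E.cycles n) from H (b + 1 - n).toNat n (by omega) hex
  intro k
  induction k with
  | zero =>
    intro n hn _
    have hz : IsZero (E.X n) := hv n (Or.inr (by omega))
    have hc : IsZero (E.cycles n) := by
      rw [IsZero.iff_id_eq_zero, ← cancel_mono (E.iCycles n)]
      exact hz.eq_of_tgt _ _
    exact isFinLocFree_of_isZero _ hc
  | succ k ih =>
    intro n hn hex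
    have h1 := ih (n + 1) (by omega) (fun i hi => hex i (by omega))
    have hS := shortExact_cycles E n (n + 1) rfl (hex (n + 1) (by omega))
    exact isFinLocFree_X₁ _ hS (hfl n) h1

/-- exactness of `E` from connectivity of a map to a module in degree `0` -/
lemma exactAt_of_conn {m : ℤ} (hm : m ≤ 0) (E : CochainComplex X.Modules ℤ) (M : X.Modules)
    {P : DCoh.D X} (e : Q.obj E ≅ P) (α : P ⟶ DCoh.inD X M) (hα : Conn m α) (i : ℤ) (hi : 0 < i) :
    E.ExactAt i := by
  rw [HomologicalComplex.exactAt_iff_isZero_homology]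
  haveI := hα.1 i (by omega)
  have h2 : IsZero ((homologyFunctor X.Modules i).obj (DCoh.inD X M)) :=
    DerivedCategory.isZero_of_isLE _ 0 i hi
  exact h2.of_iso (((DerivedCategory.homologyFunctorFactors X.Modules i).app E).symm ≪≫
    (homologyFunctor X.Modules i).mapIso e ≪≫ asIso ((homologyFunctor X.Modules i).map α))

/-- `SPApprox 0 (M[0])` implies that `M` is of finite type -/
theorem isFT_of_spApprox (M : X.Modules) (h : SPApprox 0 (DCoh.inD X M)) :
    SheafOfModules.IsFiniteType (R := X.ringCatSheaf) M := by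
  obtain ⟨P, α, ⟨E, hE, -, ⟨e⟩⟩, hα⟩ := h.exists_GE
  have hZ : FlatMod.IsFinLocFree (E.cycles 0) :=
    isFinLocFree_cycles E hE 0 (fun i hi => exactAt_of_conn le_rfl E M e α hα i hi)
  haveI : SheafOfModules.IsFinitePresentation (R := X.ringCatSheaf) (E.cycles 0) :=
    Groth.Agent.Lib.Helper2.LocFree.isFP_of_isFinLocFree _ hZ
  haveI : SheafOfModules.IsFiniteType (R := X.ringCatSheaf) (E.cycles 0) := inferInstance
  let φ : E.homology 0 ⟶ M :=
    ((DerivedCategory.homologyFunctorFactors X.Modules 0).app E).inv ≫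
      (homologyFunctor X.Modules 0).map (e.hom ≫ α) ≫
      (DerivedCategory.singleFunctorCompHomologyFunctorIso X.Modules 0).hom.app M
  haveI : Epi ((homologyFunctor X.Modules 0).map α) := hα.2
  haveI : Epi ((homologyFunctor X.Modules 0).map (e.hom ≫ α)) := by
    rw [Functor.map_comp]; infer_instance
  haveI : Epi φ := by dsimp only [φ]; infer_instance
  exact Groth.Agent.Lib.Helper20.Nakayama.isFiniteType_of_epi (E.homologyπ 0 ≫ φ)

/-- `SPApprox (-1) (M[0])` implies that `M` is of finite presentation -/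
theorem isFP_of_spApprox (M : X.Modules) (h : SPApprox (-1) (DCoh.inD X M)) :
    SheafOfModules.IsFinitePresentation (R := X.ringCatSheaf) M := by
  obtain ⟨P, α, ⟨E, hE, -, ⟨e⟩⟩, hα⟩ := h.exists_GE
  have hZ : FlatMod.IsFinLocFree (E.cycles 0) :=
    isFinLocFree_cycles E hE 0 (fun i hi => exactAt_of_conn (by norm_num) E M e α hα i hi)
  have hfp : SheafOfModules.IsFinitePresentation (R := X.ringCatSheaf) (E.homology 0) :=
    isFP_of_isCokernel (E.toCycles (-1) 0) (E.homologyπ 0) (E.toCycles_comp_homologyπ (-1) 0)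
      (E.homologyIsCokernel (-1) 0 (by simp)) (hE.2 (-1)) hZ
  haveI : IsIso ((homologyFunctor X.Modules 0).map α) := hα.1 0 (by norm_num)
  let φ : E.homology 0 ≅ M :=
    ((DerivedCategory.homologyFunctorFactors X.Modules 0).app E).symm ≪≫
      (homologyFunctor X.Modules 0).mapIso e ≪≫
      asIso ((homologyFunctor X.Modules 0).map α) ≪≫
      (DerivedCategory.singleFunctorCompHomologyFunctorIso X.Modules 0).app M
  exact (SheafOfModules.isFinitePresentation X.ringCatSheaf).prop_of_iso φ hfp

end Direct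

section Main

open Groth.Agent.R2.H28.RpushQCoh Groth.Agent.Lib.Helper20.LocFree

/-- a free module on a finite index type is finite locally free -/
lemma isFinLocFree_free (Y : Scheme.{u}) (I : Type u) [Finite I] :
    FlatMod.IsFinLocFree (SheafOfModules.free (R := Y.ringCatSheaf) I) := by
  obtain ⟨n, ⟨e⟩⟩ := Finite.exists_equiv_fin I
  let e' : I ≃ ULift.{u} (Fin n) := e.trans Equiv.ulift.symm
  let φ : SheafOfModules.free (R := Y.ringCatSheaf) I ≅
      SheafOfModules.free (R := Y.ringCatSheaf) (ULift.{u} (Fin n)) :=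
    (SheafOfModules.freeFunctor (R := Y.ringCatSheaf)).mapIso e'.toIso
  exact Groth.Agent.R2.H4.LocHtpy.isFinLocFree_of_iso
    ((freeModIsoFree Y n) ≪≫ φ.symm) (isFinLocFree_freeMod Y n)

/-- pseudo-coherence is local -/
theorem isPseudoCoherentD_of_locally (m : ℤ) (K : DCoh.D X)
    (h : ∀ x : X, ∃ V : X.Opens, x ∈ V ∧
      DCoh.IsPseudoCoherentD m ((DCoh.restrictD V.ι).obj K)) : DCoh.IsPseudoCoherentD m K := by
  rw [isPseudoCoherentD_iff]
  refine loc_of_loc_restrict (isLocalPred_spApprox m) K (fun x => ?_)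
  obtain ⟨V, hxV, hV⟩ := h x
  rw [isPseudoCoherentD_iff] at hV
  let y : (V : Scheme.{u}) := ⟨x, hxV⟩
  obtain ⟨U', j', hj', y', hy', hΦ⟩ := hV y
  exact ⟨V, V.ι, inferInstance, y, rfl, U', j', hj', y', hy', hΦ⟩

/-- a quotient of a finite locally free module is `0`-pseudo-coherent -/
theorem isPC_zero_of_epi {N M : X.Modules} (π : N ⟶ M) [Epi π] (hN : FlatMod.IsFinLocFree N) :
    DCoh.IsPseudoCoherentD 0 (DCoh.inD X M) := by
  rw [isPseudoCoherentD_iff, loc_iff_opens (isLocalPred_spApprox 0)]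
  intro x
  exact ⟨⊤, trivial, (spApprox_zero_of_epi π hN).restrict _⟩

/-- finite type ⇒ `0`-pseudo-coherent -/
theorem isPC_zero_of_isFT (F : X.Modules)
    (hF : SheafOfModules.IsFiniteType (R := X.ringCatSheaf) F) :
    DCoh.IsPseudoCoherentD 0 (DCoh.inD X F) := by
  haveI := hF
  obtain ⟨ι, U, G, hG, hU, -⟩ := exists_isOpenCover_generatingSections F
  refine isPseudoCoherentD_of_locally 0 _ (fun x => ?_)
  have hx : x ∈ (⨆ i, U i : X.Opens) := by rw [hU.iSup_eq_top]; trivial
  obtain ⟨i, hxi⟩ := Opens.mem_iSup.1 hx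
  refine ⟨U i, hxi, ?_⟩
  haveI : Finite (G i).I := (hG i).finite
  have hepi : Epi (G i).π := (G i).epi
  have h1 := @isPC_zero_of_epi (U i) _ _ (G i).π hepi (isFinLocFree_free _ (G i).I)
  rw [isPseudoCoherentD_iff] at h1 ⊢
  exact Loc.of_iso (isLocalPred_spApprox 0) (restrictInDIso (U i).ι F).symm h1

/-- a strictly perfect object is `m`-pseudo-coherent for all `m` -/
theorem isPC_of_spRep (m : ℤ) (K : DCoh.D X) (h : SPRep K) : DCoh.IsPseudoCoherentD m K := by
  rw [isPseudoCoherentD_iff, loc_iff_opens (isLocalPred_spApprox m)]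
  intro x
  exact ⟨⊤, trivial, (h.spApprox m).restrict _⟩

/-- finite presentation ⇒ `(-1)`-pseudo-coherent -/
theorem isPC_neg_one_of_isFP (F : X.Modules)
    (hF : SheafOfModules.IsFinitePresentation (R := X.ringCatSheaf) F) :
    DCoh.IsPseudoCoherentD (-1) (DCoh.inD X F) := by
  haveI := hF
  obtain ⟨ι, U, P, hP, hU, -⟩ := exists_isOpenCover_presentation_isFinite F
  refine isPseudoCoherentD_of_locally (-1) _ (fun x => ?_)
  have hx : x ∈ (⨆ i, U i : X.Opens) := by rw [hU.iSup_eq_top]; trivial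
  obtain ⟨i, hxi⟩ := Opens.mem_iSup.1 hx
  refine ⟨U i, hxi, ?_⟩
  haveI : Finite (P i).generators.I := (hP i).isFiniteType_generators.finite
  haveI : Finite (P i).relations.I := (hP i).isFiniteType_relations.finite
  let M : ((U i : X.Opens) : Scheme.{u}).Modules := F.restrict (U i).ι
  let π : SheafOfModules.free (R := ((U i : X.Opens) : Scheme.{u}).ringCatSheaf)
      (P i).generators.I ⟶ M := (P i).generators.π
  have hπ : Epi π := (P i).generators.epi
  let ρ : SheafOfModules.free (R := ((U i : X.Opens) : Scheme.{u}).ringCatSheaf)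
      (P i).relations.I ⟶ kernel π := (P i).relations.π
  have hρ : Epi ρ := (P i).relations.epi
  let S : ShortComplex ((U i : X.Opens) : Scheme.{u}).Modules :=
    ShortComplex.mk (kernel.ι π) π (kernel.condition π)
  have hS : S.ShortExact :=
    { exact := ShortComplex.exact_kernel π
      mono_f := inferInstanceAs (Mono (kernel.ι π))
      epi_g := hπ }
  have hT := hS.singleTriangle_distinguished
  have h1 : DCoh.IsPseudoCoherentD ((-1 : ℤ) + 1) hS.singleTriangle.obj₁ := by
    have := @isPC_zero_of_epi (U i) _ _ ρ hρ (isFinLocFree_free _ (P i).relations.I)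
    simpa using this
  have h2 : DCoh.IsPseudoCoherentD (-1) hS.singleTriangle.obj₂ :=
    isPC_of_spRep (-1) _ (spRep_inD_of_isFinLocFree _ (isFinLocFree_free _ (P i).generators.I))
  have h3 := (isPseudoCoherentD_triangle (-1) _ hT).1 h1 h2
  have h3' : DCoh.IsPseudoCoherentD (-1) (DCoh.inD _ M) := h3
  rw [isPseudoCoherentD_iff] at h3' ⊢
  exact Loc.of_iso (isLocalPred_spApprox (-1)) (restrictInDIso (U i).ι F).symm h3'

/-- `0`-pseudo-coherent ⇒ finite type -/
theorem isFT_of_isPC_zero (F : X.Modules) (h : DCoh.IsPseudoCoherentD 0 (DCoh.inD X F)) :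
    SheafOfModules.IsFiniteType (R := X.ringCatSheaf) F := by
  rw [isPseudoCoherentD_iff, loc_iff_opens (isLocalPred_spApprox 0)] at h
  refine isFT_of_locally F (fun x => ?_)
  obtain ⟨V, hxV, hV⟩ := h x
  exact ⟨V, hxV, isFT_of_spApprox _ (hV.of_iso (restrictInDIso V.ι F))⟩

/-- `(-1)`-pseudo-coherent ⇒ finite presentation -/
theorem isFP_of_isPC_neg_one (F : X.Modules)
    (h : DCoh.IsPseudoCoherentD (-1) (DCoh.inD X F)) :
    SheafOfModules.IsFinitePresentation (R := X.ringCatSheaf) F := by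
  rw [isPseudoCoherentD_iff, loc_iff_opens (isLocalPred_spApprox (-1))] at h
  refine isFP_of_locally F (fun x => ?_)
  obtain ⟨V, hxV, hV⟩ := h x
  exact ⟨V, hxV, isFP_of_spApprox _ (hV.of_iso (restrictInDIso V.ι F))⟩

/-- **S6518** -/
theorem isPseudoCoherentD_single_iff (F : X.Modules) :
    (DCoh.IsPseudoCoherentD 0 (DCoh.inD X F) ↔ CohB1.IsFT F) ∧
    (DCoh.IsPseudoCoherentD (-1) (DCoh.inD X F) ↔ CohB1.IsFP F) :=
  ⟨⟨isFT_of_isPC_zero F, isPC_zero_of_isFT F⟩, ⟨isFP_of_isPC_neg_one F, isPC_neg_one_of_isFP F⟩⟩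

end Main

end Groth.Agent.R2.H28.PCSingle
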