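import Mathlib
import Groth.Agent.R2.H4FlatKer
import Groth.Agent.R2.H4Perf
import Groth.Agent.Lib.Helper20Nakayama
set_option backward.isDefEq.respectTransparency.types false

/-!
# The top cohomology sheaf of a pseudo-coherent object (helper4, round 2)
-/

set_option autoImplicit false
universe u
open CategoryTheory CategoryTheory.Limits AlgebraicGeometry HomologicalComplex

attribute [local instance] HasDerivedCategory.standard

namespace Groth.Agent.R2.H4.PCTop

open DerivedCategory Groth.Agent.R2.H4.Conn Groth.Agent.R2.H4.LocHtpy Groth.Agent.R2.H4.Perf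
  Groth.Agent.R2.H4.Flat
open Groth.Agent.Lib.Helper23.FinType Groth.Agent.Lib.Helper23.QCohLocal
  Groth.Agent.Lib.Helper2.FinPres TopologicalSpace

variable {X : Scheme.{u}}

section Local

/-- finite presentation is a local property. -/
theorem isFP_of_locally (M : X.Modules)
    (h : ∀ x : X, ∃ V : X.Opens, x ∈ V ∧ CohB1.IsFP (M.restrict V.ι)) : CohB1.IsFP M := by
  have key : ∀ x : X, ∃ W : X.Opens, x ∈ W ∧ ∃ P : (M.restrict W.ι).Presentation, P.IsFinite := by
    intro x
    obtain ⟨V, hxV, hV⟩ := h x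
    have : SheafOfModules.IsFinitePresentation (R := (V : Scheme.{u}).ringCatSheaf)
      (M.restrict V.ι) := hV
    obtain ⟨ι', U, P, hP, hU, -⟩ := exists_isOpenCover_presentation_isFinite (M.restrict V.ι)
    obtain ⟨i, hi⟩ : ∃ i, (⟨x, hxV⟩ : V) ∈ U i := by
      have h1 : (⟨x, hxV⟩ : V) ∈ (⨆ i, U i) := by
        rw [hU.iSup_eq_top]
        trivial
      exact Opens.mem_iSup.1 h1
    refine ⟨V.ι ''ᵁ U i, ⟨⟨x, hxV⟩, hi, rfl⟩, ?_⟩
    have := hP i
    let P₁ : (M.restrict ((U i).ι ≫ V.ι)).Presentation :=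
      SheafOfModules.Presentation.ofIsIso.{u, u, u}
        ((Scheme.Modules.restrictFunctorComp (U i).ι V.ι).app M).inv (P i)
    have hP₁ : P₁.IsFinite := inferInstanceAs
      ((P i).ofIsIso ((Scheme.Modules.restrictFunctorComp (U i).ι V.ι).app M).inv).IsFinite
    exact ⟨presentationOfComp M (V.ι.isoImage (U i)).inv ((U i).ι ≫ V.ι) (V.ι ''ᵁ U i).ι
      (V.ι.isoImage_inv_ι (U i)) P₁, presentationOfComp_isFinite M _ _ _ _ P₁⟩
  choose W hxW P hP using key
  have hW : IsOpenCover W := by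
    rw [IsOpenCover, eq_top_iff]
    intro x _
    exact Opens.mem_iSup.2 ⟨x, hxW x⟩
  exact isFinitePresentation_of_presentation M W hW (fun x => ⟨P x, hP x⟩)

/-- finite type is a local property. -/
theorem isFT_of_locally (M : X.Modules)
    (h : ∀ x : X, ∃ V : X.Opens, x ∈ V ∧ CohB1.IsFT (M.restrict V.ι)) : CohB1.IsFT M := by
  have key : ∀ x : X, ∃ W : X.Opens, x ∈ W ∧
      ∃ G : (M.restrict W.ι).GeneratingSections, G.IsFiniteType := by
    intro x
    obtain ⟨V, hxV, hV⟩ := h x
    have : SheafOfModules.IsFiniteType (R := (V : Scheme.{u}).ringCatSheaf)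
      (M.restrict V.ι) := hV
    obtain ⟨ι', U, G, hG, hU, -⟩ := exists_isOpenCover_generatingSections (M.restrict V.ι)
    obtain ⟨i, hi⟩ : ∃ i, (⟨x, hxV⟩ : V) ∈ U i := by
      have h1 : (⟨x, hxV⟩ : V) ∈ (⨆ i, U i) := by
        rw [hU.iSup_eq_top]
        trivial
      exact Opens.mem_iSup.1 h1
    refine ⟨V.ι ''ᵁ U i, ⟨⟨x, hxV⟩, hi, rfl⟩, ?_⟩
    have := hG i
    let G₁ : (M.restrict ((U i).ι ≫ V.ι)).GeneratingSections :=
      (G i).ofEpi ((Scheme.Modules.restrictFunctorComp (U i).ι V.ι).app M).inv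
    have hG₁ : G₁.IsFiniteType := ⟨(hG i).finite⟩
    exact ⟨generatingSectionsOfComp M (V.ι.isoImage (U i)).inv ((U i).ι ≫ V.ι) (V.ι ''ᵁ U i).ι
      (V.ι.isoImage_inv_ι (U i)) G₁, inferInstance⟩
  choose W hxW G hG using key
  have hW : IsOpenCover W := by
    rw [IsOpenCover, eq_top_iff]
    intro x _
    exact Opens.mem_iSup.2 ⟨x, hxW x⟩
  exact isFiniteType_of_generatingSections M W hW (fun x => ⟨G x, hG x⟩)

end Local

section Cycles

/-- the short complex `cycles i ⟶ X i ⟶ cycles (i+1)`. -/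
noncomputable def cyclesSC (C : CochainComplex X.Modules ℤ) (i : ℤ) : ShortComplex X.Modules :=
  ShortComplex.mk (C.iCycles i) (C.toCycles i (i + 1)) (by
    rw [← cancel_mono (C.iCycles (i + 1)), Category.assoc, toCycles_i, zero_comp]
    exact C.iCycles_d i (i + 1))

lemma cyclesSC_shortExact (C : CochainComplex X.Modules ℤ) (i : ℤ) (h : C.ExactAt (i + 1)) :
    (cyclesSC C i).ShortExact := by
  have he : Epi (C.toCycles i (i + 1)) := by
    have hc := C.homologyIsCokernel i (i + 1) (by simp)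
    have hz : IsZero (C.homology (i + 1)) := (exactAt_iff_isZero_homology C (i + 1)).1 h
    exact Preadditive.epi_of_cancel_zero _ (fun {Z} g hg => by
      obtain ⟨l, hl⟩ := CokernelCofork.IsColimit.desc' hc g hg
      rw [← hl]
      exact (hz.eq_of_src l 0).symm ▸ comp_zero)
  have hk : IsLimit (KernelFork.ofι (C.iCycles i) (C.iCycles_d i (i + 1))) :=
    C.cyclesIsKernel i (i + 1) (by simp)
  refine ShortComplex.ShortExact.mk' ?_ (by dsimp [cyclesSC]; infer_instance) he
  refine ShortComplex.exact_of_f_is_kernel _ ?_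
  have hd : ∀ {Z : X.Modules} (g : Z ⟶ C.X i), g ≫ C.toCycles i (i + 1) = 0 →
      g ≫ C.d i (i + 1) = 0 := fun g hg => by
    rw [← C.toCycles_i i (i + 1), ← Category.assoc, hg, zero_comp]
  exact KernelFork.IsLimit.ofι _ _
    (fun {Z} (g : Z ⟶ C.X i) (hg : g ≫ C.toCycles i (i + 1) = 0) =>
      hk.lift (KernelFork.ofι g (hd g hg)))
    (fun {Z} (g : Z ⟶ C.X i) (hg : g ≫ C.toCycles i (i + 1) = 0) =>
      hk.fac _ WalkingParallelPair.zero)
    (fun {Z} (g : Z ⟶ C.X i) (hg : g ≫ C.toCycles i (i + 1) = 0) l hl => by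
      apply Fork.IsLimit.hom_ext hk
      have h1 : hk.lift (KernelFork.ofι g (hd g hg)) ≫ C.iCycles i = g :=
        hk.fac _ WalkingParallelPair.zero
      exact hl.trans h1.symm)

/-- in a bounded above complex of finite locally free modules which is exact in degrees `> m`, the
modules of cycles are finite locally free in degrees `≥ m`. -/
theorem isFinLocFree_cycles (C : CochainComplex X.Modules ℤ)
    (hfl : ∀ i, FlatMod.IsFinLocFree (C.X i)) (b : ℤ) (hb : ∀ i, b < i → IsZero (C.X i)) (m : ℤ)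
    (hex : ∀ i, m < i → C.ExactAt i) :
    ∀ (k : ℕ) (i : ℤ), m ≤ i → b < i + k → FlatMod.IsFinLocFree (C.cycles i) := by
  intro k
  induction k with
  | zero =>
    intro i _ hi
    have hz : IsZero (C.X i) := hb i (by simpa using hi)
    exact isFinLocFree_of_isZero _ (IsZero.of_mono (C.iCycles i) hz)
  | succ k ih =>
    intro i hmi hi
    have h1 := ih (i + 1) (by omega) (by push_cast at hi ⊢; omega)
    exact isFinLocFree_X₁ _ (cyclesSC_shortExact C i (hex (i + 1) (by omega))) (hfl i) h1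

theorem isFinLocFree_cycles' (C : CochainComplex X.Modules ℤ)
    (hfl : ∀ i, FlatMod.IsFinLocFree (C.X i)) (b : ℤ) (hb : ∀ i, b < i → IsZero (C.X i)) (m : ℤ)
    (hex : ∀ i, m < i → C.ExactAt i) : FlatMod.IsFinLocFree (C.cycles m) := by
  obtain ⟨k, hk⟩ : ∃ k : ℕ, b < m + k := ⟨(b - m + 1).toNat, by omega⟩
  exact isFinLocFree_cycles C hfl b hb m hex k m le_rfl hk

end Cycles

section Main

lemma isFP_of_iso {M N : X.Modules} (e : M ≅ N) (h : CohB1.IsFP M) : CohB1.IsFP N :=
  (SheafOfModules.isFinitePresentation X.ringCatSheaf).prop_of_iso e h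

/-- cohomology sheaves commute with restriction to open subschemes. -/
lemma nonempty_HD_restrict_iso {U : Scheme.{u}} (j : U ⟶ X) [IsOpenImmersion j] (K : DCoh.D X)
    (n : ℤ) : Nonempty (DCoh.HD ((DCoh.restrictD j).obj K) n ≅
      (Scheme.Modules.restrictFunctor j).obj (DCoh.HD K n)) := by
  let E := Q.objPreimage K
  let e : Q.obj E ≅ K := Q.objObjPreimageIso K
  let F := Scheme.Modules.restrictFunctor j
  have e1 : DCoh.HD ((DCoh.restrictD j).obj K) n ≅ DCoh.HD (Q.obj ((resC j).obj E)) n :=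
    (DerivedCategory.homologyFunctor _ n).mapIso
      ((DCoh.restrictD j).mapIso e.symm ≪≫ restrictDQIso j E)
  have e2 : DCoh.HD (Q.obj ((resC j).obj E)) n ≅ ((resC j).obj E).homology n :=
    (DerivedCategory.homologyFunctorFactors _ n).app _
  have e3 : ((resC j).obj E).homology n ≅ F.obj (E.homology n) := (E.sc n).mapHomologyIso F
  have e4 : E.homology n ≅ DCoh.HD K n :=
    ((DerivedCategory.homologyFunctorFactors _ n).app E).symm ≪≫
      (DerivedCategory.homologyFunctor _ n).mapIso e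
  exact ⟨e1 ≪≫ e2 ≪≫ e3 ≪≫ F.mapIso e4⟩

/-- S0890. -/
theorem finiteType_top_cohomology_of_pseudoCoherent (m : ℤ) (K : DCoh.D X)
    (hK : DCoh.IsPseudoCoherentD m K) :
    ((∀ i : ℤ, m < i → IsZero (DCoh.HD K i)) → CohB1.IsFT (DCoh.HD K m)) ∧
    ((∀ i : ℤ, m + 1 < i → IsZero (DCoh.HD K i)) → CohB1.IsFP (DCoh.HD K (m + 1))) := by
  rw [isPseudoCoherentD_iff, loc_iff_opens (isLocalPred_spApprox m)] at hK
  have hz' : ∀ (V : X.Opens) (i : ℤ), IsZero (DCoh.HD K i) →
      IsZero (DCoh.HD ((DCoh.restrictD V.ι).obj K) i) := fun V i hi => by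
    obtain ⟨e⟩ := nonempty_HD_restrict_iso V.ι K i
    exact ((Scheme.Modules.restrictFunctor V.ι).map_isZero hi).of_iso e
  constructor
  · intro hz
    apply isFT_of_locally
    intro x
    obtain ⟨V, hxV, P₀, α, ⟨P, hP, ⟨eP⟩⟩, hα⟩ := hK x
    refine ⟨V, hxV, ?_⟩
    obtain ⟨eH⟩ := nonempty_HD_restrict_iso V.ι K m
    have hPex : ∀ i, m < i → P.ExactAt i := fun i hi => by
      rw [exactAt_iff_isZero_homology]
      have h1 := hα.1 i hi
      exact (hz' V i (hz i hi)).of_iso
        (((DerivedCategory.homologyFunctorFactors _ i).app P).symm ≪≫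
          (DerivedCategory.homologyFunctor _ i).mapIso eP ≪≫
          asIso ((DerivedCategory.homologyFunctor _ i).map α))
    obtain ⟨⟨a, b, hv⟩, hflf⟩ := hP
    have hcyc := isFinLocFree_cycles' P hflf b (fun i hi => hv i (Or.inr hi)) m hPex
    have hfp : SheafOfModules.IsFinitePresentation (R := (V : Scheme.{u}).ringCatSheaf)
        (P.cycles m) := Groth.Agent.Lib.Helper2.LocFree.isFP_of_isFinLocFree _ hcyc
    have h2 : Epi ((DerivedCategory.homologyFunctor _ m).map α) := hα.2
    let π : P.cycles m ⟶ (Scheme.Modules.restrictFunctor V.ι).obj (DCoh.HD K m) :=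
      P.homologyπ m ≫ ((DerivedCategory.homologyFunctorFactors _ m).app P).inv ≫
        (DerivedCategory.homologyFunctor _ m).map eP.hom ≫
        (DerivedCategory.homologyFunctor _ m).map α ≫ eH.hom
    have : Epi π := by
      dsimp only [π]
      infer_instance
    exact Groth.Agent.Lib.Helper20.Nakayama.isFiniteType_of_epi π
  · intro hz
    apply isFP_of_locally
    intro x
    obtain ⟨V, hxV, P₀, α, ⟨P, hP, ⟨eP⟩⟩, hα⟩ := hK x
    refine ⟨V, hxV, ?_⟩
    obtain ⟨eH⟩ := nonempty_HD_restrict_iso V.ι K (m + 1)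
    have hPex : ∀ i, m + 1 < i → P.ExactAt i := fun i hi => by
      rw [exactAt_iff_isZero_homology]
      have h1 := hα.1 i (by omega)
      exact (hz' V i (hz i hi)).of_iso
        (((DerivedCategory.homologyFunctorFactors _ i).app P).symm ≪≫
          (DerivedCategory.homologyFunctor _ i).mapIso eP ≪≫
          asIso ((DerivedCategory.homologyFunctor _ i).map α))
    obtain ⟨⟨a, b, hv⟩, hflf⟩ := hP
    have hcyc := isFinLocFree_cycles' P hflf b (fun i hi => hv i (Or.inr hi)) (m + 1) hPex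
    have hfp : CohB1.IsFP (P.homology (m + 1)) :=
      isFP_of_isCokernel (P.toCycles m (m + 1)) (P.homologyπ (m + 1))
        (P.toCycles_comp_homologyπ m (m + 1)) (P.homologyIsCokernel m (m + 1) (by simp))
        (hflf m) hcyc
    have h1 := hα.1 (m + 1) (by omega)
    exact isFP_of_iso (((DerivedCategory.homologyFunctorFactors _ (m + 1)).app P).symm ≪≫
      (DerivedCategory.homologyFunctor _ (m + 1)).mapIso eP ≪≫
      asIso ((DerivedCategory.homologyFunctor _ (m + 1)).map α) ≪≫ eH) hfp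

end Main

end Groth.Agent.R2.H4.PCTop
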