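import Groth.Agent.R2.H5DQCohAff4
import Groth.Agent.S1055
import Groth.Agent.S9498
import Groth.Agent.Lib.Helper1Sky9
import Groth.Agent.Lib.Helper23FinTypeLocal
import Groth.Agent.Lib.Helper20PullbackAff
import Groth.Prelude.Def_CxOX

/-!
# `Lf^*` preserves `D_QCoh` (helper5, project dqcoh, stage B)

* `PQ f` : `Lf^*` sends `D_QCoh` to `D_QCoh`.
* `lpullObjIsoOfExact` : `Lf^* K ≅ f^* K` (termwise) when `f^*` is exact.
* `pq_of_exact`, `pq_openImmersion`, `pq_comp`, `pq_of_cover`, `pq_specMap`, `pq` (all morphisms).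
-/

set_option autoImplicit false
set_option linter.style.haveILetI false
universe u
open CategoryTheory CategoryTheory.Limits AlgebraicGeometry Opposite
attribute [local instance] HasDerivedCategory.standard

namespace Groth.Agent.R2.H5.LpullQCoh

open Groth.Agent.Lib.Helper1.Sky Groth.Agent.R2.H5.DQCoh Groth.Agent.R2.H5.DQCohAff
  Groth.Agent.Lib.Helper17.Hyp

attribute [local instance] Groth.Agent.Lib.Helper1.Sky.hasLpull

/-- `Lf^*` preserves `D_QCoh`. -/
def PQ {Y X : Scheme.{u}} (f : Y ⟶ X) : Prop :=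
  ∀ K : DCoh.D X, DCoh.IsQCohD K → DCoh.IsQCohD ((DCoh.Lpull f).obj K)

lemma isQCohD_of_iso {X : Scheme.{u}} {K K' : DCoh.D X} (e : K ≅ K') (h : DCoh.IsQCohD K) :
    DCoh.IsQCohD K' :=
  fun i => (qcP X).prop_of_iso ((DerivedCategory.homologyFunctor _ i).mapIso e) (h i)

lemma pq_congr {Y X : Scheme.{u}} {f g : Y ⟶ X} (e : f = g) (h : PQ f) : PQ g := by
  subst e
  exact h

section exact

variable {Y X : Scheme.{u}} (f : Y ⟶ X) [PreservesFiniteLimits (Scheme.Modules.pullback f)]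

/-- `Lf^* K ≅ f^* K` when `f^*` is exact. -/
noncomputable def lpullObjIsoOfExact (K : DCoh.D X) :
    (DCoh.Lpull f).obj K ≅ (Scheme.Modules.pullback f).mapDerivedCategory.obj K :=
  (DCoh.Lpull f).mapIso (DerivedCategory.Q.objObjPreimageIso K).symm ≪≫
    lpullIsoOfExact f (DerivedCategory.Q.objPreimage K) ≪≫
    ((Scheme.Modules.pullback f).mapDerivedCategoryFactors.app
      (DerivedCategory.Q.objPreimage K)).symm ≪≫
    (Scheme.Modules.pullback f).mapDerivedCategory.mapIso (DerivedCategory.Q.objObjPreimageIso K)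

/-- cohomology of `Lf^* K` for exact `f^*`. -/
noncomputable def homologyLpullIsoOfExact (K : DCoh.D X) (n : ℤ) :
    DCoh.HD ((DCoh.Lpull f).obj K) n ≅ (Scheme.Modules.pullback f).obj (DCoh.HD K n) :=
  (DerivedCategory.homologyFunctor _ n).mapIso (lpullObjIsoOfExact f K) ≪≫
    (homologyNatIso (Scheme.Modules.pullback f) n).app K

theorem pq_of_exact : PQ f := by
  intro K hK n
  haveI : SheafOfModules.IsQuasicoherent (R := X.ringCatSheaf) (DCoh.HD K n) := hK n
  exact (qcP Y).prop_of_iso (homologyLpullIsoOfExact f K n).symm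
    (Groth.Agent.Lib.Helper20.PullbackAff.isQuasicoherent_pullback (f := f) (F := DCoh.HD K n))

end exact

section openImmersion

variable {U X : Scheme.{u}} (j : U ⟶ X) [IsOpenImmersion j]

instance preservesFiniteLimits_pullback_openImmersion :
    PreservesFiniteLimits (Scheme.Modules.pullback j) :=
  Limits.preservesFiniteLimits_of_natIso (Scheme.Modules.restrictFunctorIsoPullback j)

theorem pq_openImmersion : PQ j := pq_of_exact j

/-- cohomology of the derived restriction to an open. -/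
noncomputable def homologyLpullOpenIso (K : DCoh.D X) (n : ℤ) :
    DCoh.HD ((DCoh.Lpull j).obj K) n ≅ (DCoh.HD K n).restrict j :=
  homologyLpullIsoOfExact j K n ≪≫ ((Scheme.Modules.restrictFunctorIsoPullback j).app _).symm

end openImmersion

section comp

variable {Z Y X : Scheme.{u}} (f : Z ⟶ Y) (g : Y ⟶ X)

theorem pq_comp (hf : PQ f) (hg : PQ g) : PQ (f ≫ g) := by
  intro K hK
  obtain ⟨e⟩ := nonempty_lpull_comp_iso f g
  exact isQCohD_of_iso (e.app K) (hf _ (hg K hK))

end comp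

section cover

variable {Y X : Scheme.{u}} (f : Y ⟶ X)

theorem pq_of_cover {ι : Type*} (V : ι → Y.Opens) (hV : TopologicalSpace.IsOpenCover V)
    (h : ∀ i, PQ ((V i).ι ≫ f)) : PQ f := by
  intro K hK n
  refine Groth.Agent.Lib.Helper23.FinType.isQuasicoherent_of_open_cover _ V hV (fun i => ?_)
  obtain ⟨e⟩ := nonempty_lpull_comp_iso (V i).ι f
  have h1 : DCoh.IsQCohD ((DCoh.Lpull (V i).ι).obj ((DCoh.Lpull f).obj K)) :=
    isQCohD_of_iso (e.app K).symm (h i K hK)
  exact (qcP _).prop_of_iso (homologyLpullOpenIso (V i).ι ((DCoh.Lpull f).obj K) n) (h1 n)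

end cover

section affine

open Groth.Agent.S1055 Groth.Agent.Lib.Helper1.KF

theorem pq_specMap_type {A B : Type u} [CommRing A] [CommRing B] (φ : A →+* B) :
    PQ (Spec.map (CommRingCat.ofHom φ)) := by
  haveI := (Groth.Agent.S9498.aux (CommRingCat.of A)).1
  haveI := (Groth.Agent.S9498.aux (CommRingCat.of B)).1
  intro K hK
  obtain ⟨hA1, hA2⟩ := tildeD_equivalence (CommRingCat.of A)
  obtain ⟨hB1, -⟩ := tildeD_equivalence (CommRingCat.of B)
  haveI := hA2 K hK
  -- `K ≅ tildeD Y`, `Y ≅ Q P` with `P` K-projective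
  let Y := (RΓd (CommRingCat.of A)).obj K
  obtain ⟨P, π, hP, -, hπ, -⟩ := exists_kprojective_resolution (DerivedCategory.Q.objPreimage Y)
  haveI : P.IsKProjective := hP
  haveI : IsIso (DerivedCategory.Q.map π) := (DerivedCategory.isIso_Q_map_iff_quasiIso (φ := π)).2 hπ
  let eP : DerivedCategory.Q.obj P ≅ Y :=
    asIso (DerivedCategory.Q.map π) ≪≫ DerivedCategory.Q.objObjPreimageIso Y
  let eK : (DCoh.tildeD (CommRingCat.of A)).obj (DerivedCategory.Q.obj P) ≅ K :=
    (DCoh.tildeD (CommRingCat.of A)).mapIso eP ≪≫ asIso ((adjD (CommRingCat.of A)).counit.app K)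
  haveI := isIso_α2_app φ P
  let e2 : (DCoh.Lpull (ff φ)).obj ((DCoh.tildeD (CommRingCat.of A)).obj (DerivedCategory.Q.obj P)) ≅
      (FF φ).obj P := asIso ((α2 φ).app P)
  let e3 : (FF φ).obj P ≅ (DCoh.tildeD (CommRingCat.of B)).obj
      (DerivedCategory.Q.obj ((Groth.Agent.Lib.Helper1.LDer.bcCx φ).obj P)) :=
    ((facT (CommRingCat.of B)).app _).symm
  exact isQCohD_of_iso (((DCoh.Lpull (ff φ)).mapIso eK).symm ≪≫ e2 ≪≫ e3).symm (hB1 _).1

theorem pq_specMap {R S : CommRingCat.{u}} (φ : R ⟶ S) : PQ (Spec.map φ) :=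
  pq_specMap_type φ.hom

end affine

section general

theorem pq_of_isAffine {V U : Scheme.{u}} [IsAffine V] [IsAffine U] (g : V ⟶ U) : PQ g := by
  have e : g = V.isoSpec.hom ≫ Spec.map g.appTop ≫ U.isoSpec.inv := by
    rw [← Category.assoc, Scheme.isoSpec_hom_naturality, Category.assoc, Iso.hom_inv_id,
      Category.comp_id]
  exact pq_congr e.symm (pq_comp _ _ (pq_openImmersion _)
    (pq_comp _ _ (pq_specMap _) (pq_openImmersion _)))

/-- **`Lf^*` preserves `D_QCoh`** for every morphism of schemes. -/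
theorem pq {Y X : Scheme.{u}} (f : Y ⟶ X) : PQ f := by
  let ι := {p : Y.Opens × X.Opens // IsAffineOpen p.1 ∧ IsAffineOpen p.2 ∧ p.1 ≤ f ⁻¹ᵁ p.2}
  refine pq_of_cover f (fun p : ι => p.1.1) ?_ (fun p => ?_)
  · rw [TopologicalSpace.IsOpenCover, eq_top_iff]
    intro y _
    obtain ⟨U, hU, hyU, -⟩ := (TopologicalSpace.Opens.isBasis_iff_nbhd.1 X.isBasis_affineOpens)
      (show f y ∈ (⊤ : X.Opens) from trivial)
    obtain ⟨V, hV, hyV, hVU⟩ := (TopologicalSpace.Opens.isBasis_iff_nbhd.1 Y.isBasis_affineOpens)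
      (show y ∈ f ⁻¹ᵁ U from hyU)
    exact TopologicalSpace.Opens.mem_iSup.2 ⟨⟨(V, U), hV, hU, hVU⟩, hyV⟩
  · obtain ⟨⟨V, U⟩, hV, hU, hVU⟩ := p
    haveI : IsAffine (V : Scheme.{u}) := hV
    haveI : IsAffine (U : Scheme.{u}) := hU
    exact pq_congr (Scheme.Hom.resLE_comp_ι f hVU)
      (pq_comp _ _ (pq_of_isAffine (f.resLE U V hVU)) (pq_openImmersion U.ι))

end general

end Groth.Agent.R2.H5.LpullQCoh
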