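import Mathlib
import Groth.Agent.R2.H99PCNoeth
import Groth.Agent.R2.H5LpullQCoh
import Groth.Agent.S1055
import Groth.Agent.S6941
import Groth.Agent.Lib.Helper1Sky11

/-!
# fpqc descent of pseudo-coherence on `D_QCoh` (helper99, round 2)

Namespace `Groth.Agent.R2.H99.PCDescent`.
-/

set_option autoImplicit false
set_option linter.style.haveILetI false
universe u
open CategoryTheory CategoryTheory.Limits AlgebraicGeometry TopologicalSpace

attribute [local instance] HasDerivedCategory.standard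

namespace Groth.Agent.R2.H99.PCDescent

open DerivedCategory Groth.Agent.R2.H4.Perf Groth.Agent.R2.H4.Conn Groth.Agent.R2.H99.PCNoeth
  Groth.Agent.Lib.Helper1.Sky Groth.Agent.R2.H5.LpullQCoh

attribute [local instance] Groth.Agent.Lib.Helper1.Sky.hasLpull

section Basic

variable {X : Scheme.{u}}

/-- pseudo-coherence can be checked locally, along arbitrary open immersions. -/
lemma isPC_of_locally (m : ℤ) (K : DCoh.D X)
    (h : ∀ x : X, ∃ (U : Scheme.{u}) (j : U ⟶ X) (_ : IsOpenImmersion j) (y : U), j y = x ∧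
      DCoh.IsPseudoCoherentD m ((DCoh.restrictD j).obj K)) : DCoh.IsPseudoCoherentD m K := by
  rw [isPseudoCoherentD_iff]
  apply loc_of_loc_restrict (isLocalPred_spApprox m)
  intro x
  obtain ⟨U, j, hj, y, hy, hK⟩ := h x
  rw [isPseudoCoherentD_iff] at hK
  obtain ⟨U', j', hj', y', hy', hK'⟩ := hK y
  exact ⟨U, j, hj, y, hy, U', j', hj', y', hy', hK'⟩

/-- pseudo-coherence restricts along open immersions. -/
lemma isPC_restrict (m : ℤ) {U : Scheme.{u}} (j : U ⟶ X) [IsOpenImmersion j] (K : DCoh.D X)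
    (h : DCoh.IsPseudoCoherentD m K) : DCoh.IsPseudoCoherentD m ((DCoh.restrictD j).obj K) :=
  (isPseudoCoherentD_iff m _).2
    (loc_restrict (isLocalPred_spApprox m) j K ((isPseudoCoherentD_iff m K).1 h))

/-- restriction along an open immersion is the derived pullback. -/
noncomputable def restrictDIsoLpull {U : Scheme.{u}} (j : U ⟶ X) [IsOpenImmersion j]
    (K : DCoh.D X) : (DCoh.restrictD j).obj K ≅ (DCoh.Lpull j).obj K :=
  (mapDerivedCategoryCongr (Scheme.Modules.restrictFunctorIsoPullback j)).app K ≪≫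
    (lpullObjIsoOfExact j K).symm

end Basic

section Affine

open Groth.Agent.S1055 Groth.Agent.Lib.Helper1.LDer

variable {A : Type u} [CommRing A] {ι : Type u} [Finite ι] (B : ι → Type u) [∀ k, CommRing (B k)]
  (ψ : ∀ k, A →+* B k)

/-- the map to the product. -/
noncomputable abbrev phi : A →+* (∀ k, B k) := RingHom.pi ψ

omit [Finite ι] in
lemma evalRingHom_comp_phi (k : ι) : (Pi.evalRingHom B k).comp (phi B ψ) = ψ k := by
  ext a
  rfl

lemma faithfullyFlat_pi (hflat : ∀ k, (ψ k).Flat)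
    (hsurj : ∀ p : PrimeSpectrum A, ∃ (k : ι) (q : PrimeSpectrum (B k)),
      PrimeSpectrum.comap (ψ k) q = p) :
    letI := (phi B ψ).toAlgebra
    Module.FaithfullyFlat A (∀ k, B k) := by
  classical
  letI := (phi B ψ).toAlgebra
  letI : ∀ k, Algebra A (B k) := fun k => (ψ k).toAlgebra
  haveI : ∀ k, Module.Flat A (B k) := fun k => hflat k
  haveI : Fintype ι := Fintype.ofFinite ι
  haveI h1 : Module.Flat A (∀ k, B k) :=
    Module.Flat.of_linearEquiv (DFinsupp.linearEquivFunOnFintype (R := A) (M := B)).symm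
  haveI h2 : @Module.Flat A (∀ k, B k) _ _ (phi B ψ).toAlgebra.toModule := h1
  refine Module.FaithfullyFlat.of_comap_surjective (fun p => ?_)
  obtain ⟨k, q, rfl⟩ := hsurj p
  refine ⟨PrimeSpectrum.comap (Pi.evalRingHom B k) q, ?_⟩
  rw [← PrimeSpectrum.comap_comp_apply]
  congr 1

variable [PreservesFiniteLimits (tilde.functor (CommRingCat.of A))]

/-- affine fpqc descent of pseudo-coherence along a finite jointly surjective flat family. -/
theorem isPseudoCoherent_of_cover (P : CochainComplex (ModuleCat.{u} A) ℤ) [P.IsKProjective]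
    (m : ℤ) (hflat : ∀ k, (ψ k).Flat)
    (hsurj : ∀ p : PrimeSpectrum A, ∃ (k : ι) (q : PrimeSpectrum (B k)),
      PrimeSpectrum.comap (ψ k) q = p)
    (h : ∀ k, DCoh.IsPseudoCoherentD m
      ((DCoh.Lpull (Spec.map (CommRingCat.ofHom (ψ k)))).obj
        ((DCoh.tildeD (CommRingCat.of A)).obj (DerivedCategory.Q.obj P)))) :
    DRing.IsPseudoCoherent A m (DerivedCategory.Q.obj P) := by
  haveI : PreservesFiniteLimits (tilde.functor (CommRingCat.of (∀ k, B k))) :=
    (Groth.Agent.S9498.aux (CommRingCat.of (∀ k, B k))).1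
  let φ : A →+* (∀ k, B k) := phi B ψ
  let T : DCoh.D (Spec (CommRingCat.of A)) :=
    (DCoh.tildeD (CommRingCat.of A)).obj (DerivedCategory.Q.obj P)
  let G : DCoh.D (Spec (CommRingCat.of (∀ k, B k))) := (DCoh.Lpull (ff φ)).obj T
  let c : ∀ k, Spec (CommRingCat.of (B k)) ⟶ Spec (CommRingCat.of (∀ k, B k)) := fun k =>
    Spec.map (CommRingCat.ofHom (Pi.evalRingHom B k))
  have hc : ∀ k, c k ≫ ff φ = Spec.map (CommRingCat.ofHom (ψ k)) := by
    intro k
    rw [← Spec.map_comp, ← CommRingCat.ofHom_comp, evalRingHom_comp_phi]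
  -- Claim 1
  have h1 : ∀ k, DCoh.IsPseudoCoherentD m ((DCoh.restrictD (c k)).obj G) := by
    intro k
    obtain ⟨e1⟩ := nonempty_lpull_comp_iso (c k) (ff φ)
    obtain ⟨e2⟩ := nonempty_lpull_congr (hc k)
    exact Groth.Agent.R2.H5.PCTilde.isPseudoCoherentD_of_iso m
      (restrictDIsoLpull (c k) G ≪≫ e1.app T ≪≫ e2.app T).symm (h k)
  -- Claim 2
  have h2 : DCoh.IsPseudoCoherentD m G := by
    apply isPC_of_locally
    intro y
    obtain ⟨k, q, hq⟩ := PrimeSpectrum.exists_comap_evalRingHom_eq (R := B) y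
    exact ⟨Spec (CommRingCat.of (B k)), c k, inferInstance, q, hq, h1 k⟩
  -- Claim 3
  haveI := isIso_α2_app φ P
  let e : G ≅ (DCoh.tildeD (CommRingCat.of (∀ k, B k))).obj
      (DerivedCategory.Q.obj ((bcCx φ).obj P)) :=
    asIso ((α2 φ).app P) ≪≫ ((facT (CommRingCat.of (∀ k, B k))).app _).symm
  have h4 : DRing.IsPseudoCoherent (∀ k, B k) m (DerivedCategory.Q.obj ((bcCx φ).obj P)) :=
    (Groth.Agent.R2.H5.PCTilde.isPseudoCoherentD_tildeD_iff _ m).1
      (Groth.Agent.R2.H5.PCTilde.isPseudoCoherentD_of_iso m e h2)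
  letI := φ.toAlgebra
  haveI := faithfullyFlat_pi B ψ hflat hsurj
  exact (Groth.Agent.S6941.result (R := A) (R' := ∀ k, B k) P m).1 h4

end Affine

section Main

open Groth.Agent.Lib.Helper1.KF

variable {X' X : Scheme.{u}} (f : X' ⟶ X)

/-- finite affine cover of the preimage of an affine open under a quasi-compact morphism. -/
lemma exists_finite_affine_cover [QuasiCompact f] {V : X.Opens} (hV : IsAffineOpen V) :
    ∃ t : Finset {W : X'.affineOpens // (W : X'.Opens) ≤ f ⁻¹ᵁ V},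
      ((f ⁻¹ᵁ V : X'.Opens) : Set X') ⊆ ⋃ W ∈ t, ((W.1 : X'.Opens) : Set X') := by
  have hcomp : IsCompact ((f ⁻¹ᵁ V : X'.Opens) : Set X') :=
    QuasiCompact.isCompact_preimage (f := f) _ V.2 hV.isCompact
  have hcov : ((f ⁻¹ᵁ V : X'.Opens) : Set X') ⊆
      ⋃ W : {W : X'.affineOpens // (W : X'.Opens) ≤ f ⁻¹ᵁ V}, ((W.1 : X'.Opens) : Set X') := by
    intro x' hx'
    obtain ⟨_, ⟨W, hW, rfl⟩, hxW, hWV⟩ :=
      X'.isBasis_affineOpens.exists_subset_of_mem_open hx' (f ⁻¹ᵁ V).2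
    exact Set.mem_iUnion.2 ⟨⟨⟨W, hW⟩, hWV⟩, hxW⟩
  exact hcomp.elim_finite_subcover _ (fun W => W.1.1.2) hcov

/-- **fpqc descent of pseudo-coherence** for objects of `D_QCoh`. -/
theorem isPseudoCoherentD_of_lpull [Flat f] [Surjective f] [QuasiCompact f]
    (E : DCoh.D X) (hE : DCoh.IsQCohD E) (m : ℤ)
    (h : DCoh.IsPseudoCoherentD m ((DCoh.Lpull f).obj E)) : DCoh.IsPseudoCoherentD m E := by
  apply isPC_of_locally
  intro x
  obtain ⟨_, ⟨V, hV, rfl⟩, hxV, -⟩ :=
    X.isBasis_affineOpens.exists_subset_of_mem_open (Set.mem_univ x) isOpen_univ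
  have hV : IsAffineOpen V := hV
  let y : Spec Γ(X, V) := hV.primeIdealOf ⟨x, hxV⟩
  have hy : hV.fromSpec y = x := hV.fromSpec_primeIdealOf ⟨x, hxV⟩
  refine ⟨Spec Γ(X, V), hV.fromSpec, inferInstance, y, hy, ?_⟩
  obtain ⟨M, ⟨e⟩, -⟩ := exists_affine_model E hE hV
  obtain ⟨P, π, hP, -, hπ, -⟩ := exists_kprojective_resolution (DerivedCategory.Q.objPreimage M)
  haveI : P.IsKProjective := hP
  haveI : IsIso (DerivedCategory.Q.map π) := (DerivedCategory.isIso_Q_map_iff_quasiIso (φ := π)).2 hπ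
  let eP : DerivedCategory.Q.obj P ≅ M :=
    asIso (DerivedCategory.Q.map π) ≪≫ DerivedCategory.Q.objObjPreimageIso M
  obtain ⟨t, ht⟩ := exists_finite_affine_cover f hV
  -- the data of the cover
  let ι : Type u := ↥t
  let Wk : ι → X'.Opens := fun k => (k.1.1 : X'.Opens)
  have hWk : ∀ k : ι, IsAffineOpen (Wk k) := fun k => k.1.1.2
  have hle : ∀ k : ι, Wk k ≤ f ⁻¹ᵁ V := fun k => k.1.2
  let ψ : ∀ k : ι, Γ(X, V) ⟶ Γ(X', Wk k) := fun k => f.appLE V (Wk k) (hle k)
  have hsq : ∀ k : ι, Spec.map (ψ k) ≫ hV.fromSpec = (hWk k).fromSpec ≫ f := fun k =>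
    IsAffineOpen.SpecMap_appLE_fromSpec f hV (hWk k) (hle k)
  have key : DRing.IsPseudoCoherent Γ(X, V) m (DerivedCategory.Q.obj P) := by
    refine isPseudoCoherent_of_cover (A := Γ(X, V)) (ι := ι) (fun k => Γ(X', Wk k))
      (fun k => (ψ k).hom) P m (fun k => f.flat_appLE hV (hWk k) (hle k)) ?_ ?_
    · -- surjectivity on spectra
      intro p
      obtain ⟨x', hx'⟩ := Surjective.surj (f := f) (hV.fromSpec p)
      have hx'V : x' ∈ f ⁻¹ᵁ V := by
        change f x' ∈ V
        rw [hx']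
        have h0 : hV.fromSpec p ∈ hV.fromSpec.opensRange := ⟨p, rfl⟩
        rwa [hV.opensRange_fromSpec] at h0
      have := ht hx'V
      simp only [Set.mem_iUnion] at this
      obtain ⟨W, hWt, hxW⟩ := this
      let k : ι := ⟨W, hWt⟩
      let q : Spec Γ(X', Wk k) := (hWk k).primeIdealOf ⟨x', hxW⟩
      have hq : (hWk k).fromSpec q = x' := (hWk k).fromSpec_primeIdealOf ⟨x', hxW⟩
      refine ⟨k, q, ?_⟩
      have h1 : hV.fromSpec ((Spec.map (ψ k)) q) = hV.fromSpec p := by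
        rw [← Scheme.Hom.comp_apply, hsq k, Scheme.Hom.comp_apply, hq, hx']
      exact hV.fromSpec.isOpenEmbedding.injective h1
    · intro k
      obtain ⟨e1⟩ := nonempty_lpull_comp_iso (Spec.map (ψ k)) hV.fromSpec
      obtain ⟨e2⟩ := nonempty_lpull_congr (hsq k)
      obtain ⟨e3⟩ := nonempty_lpull_comp_iso (hWk k).fromSpec f
      have h1 : DCoh.IsPseudoCoherentD m
          ((DCoh.Lpull (hWk k).fromSpec).obj ((DCoh.Lpull f).obj E)) :=
        isPseudoCoherentD_lpull _ m _ h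
      let eT : (DCoh.tildeD Γ(X, V)).obj (DerivedCategory.Q.obj P) ≅
          (DCoh.Lpull hV.fromSpec).obj E :=
        (DCoh.tildeD Γ(X, V)).mapIso eP ≪≫ e ≪≫ restrictDIsoLpull hV.fromSpec E
      exact Groth.Agent.R2.H5.PCTilde.isPseudoCoherentD_of_iso m
        ((DCoh.Lpull (Spec.map (ψ k))).mapIso eT ≪≫ e1.app E ≪≫ e2.app E ≪≫
          (e3.app E).symm).symm h1
  have h2 : DRing.IsPseudoCoherent Γ(X, V) m M := by
    obtain ⟨E', a, b, α, h1, h2, h3, h4⟩ := key
    refine ⟨E', a, b, α ≫ eP.hom, h1, h2, fun i hi => ?_, ?_⟩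
    · haveI := h3 i hi
      rw [Functor.map_comp]
      infer_instance
    · haveI := h4
      rw [Functor.map_comp]
      infer_instance
  exact Groth.Agent.R2.H5.PCTilde.isPseudoCoherentD_of_iso m e
    ((Groth.Agent.R2.H5.PCTilde.isPseudoCoherentD_tildeD_iff M m).2 h2)

end Main

end Groth.Agent.R2.H99.PCDescent
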