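import Mathlib
import Groth.Agent.R2.H4PerfSummand
import Groth.Agent.R2.H28PCSingle
import Groth.Agent.R2.H4PCTop
import Groth.Agent.R2.H99PCDescent
import Groth.Agent.Lib.Helper17Hyp19
set_option backward.isDefEq.respectTransparency.types false

/-!
# helper99: the "top cohomology" induction engine for pseudo-coherence

* `isPC_top`: `K ∈ D^{≤ b}(O_U)` with `H^b(K)` of finite type is `b`-pseudo-coherent.
* `Engine m H`: axioms on a predicate `H` on objects of the `D(O_U)` (local, bounded above on
  affines, top cohomology of finite type, stable under cones with strictly perfect objects) which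
  force `H U K → K` is `m`-pseudo-coherent (`Engine.main`).
-/

set_option autoImplicit false
set_option linter.style.haveILetI false
universe u
open CategoryTheory CategoryTheory.Limits AlgebraicGeometry HomologicalComplex
  CategoryTheory.Pretriangulated

attribute [local instance] HasDerivedCategory.standard

namespace Groth.Agent.R2.H99.PCEngine

open DerivedCategory Groth.Agent.R2.H4.Conn Groth.Agent.R2.H4.Perf

section Top

variable {U : Scheme.{u}}

/-- the canonical map to the top truncation. -/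
lemma exists_top_map (K : DCoh.D U) (b : ℤ) (hK : K.IsLE b) :
    ∃ (S : DCoh.D U) (p : K ⟶ S), S.IsGE b ∧ S.IsLE b ∧
      ∀ i : ℤ, b ≤ i → IsIso ((homologyFunctor U.Modules i).map p) := by
  let E := Q.objPreimage K
  let e : Q.obj E ≅ K := Q.objObjPreimageIso K
  have hp : ∀ i : ℤ, b ≤ i → IsIso ((homologyFunctor U.Modules i).map
      (e.inv ≫ Q.map (E.πTruncGE b))) := by
    intro i hi
    have h1 : QuasiIsoAt (E.πTruncGE b) i := E.quasiIsoAt_πTruncGE b i hi
    rw [quasiIsoAt_iff_isIso_homologyMap] at h1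
    have h2 : IsIso ((homologyFunctor U.Modules i).map (Q.map (E.πTruncGE b))) :=
      (NatIso.isIso_map_iff (homologyFunctorFactors U.Modules i) (E.πTruncGE b)).2 h1
    rw [Functor.map_comp]
    infer_instance
  refine ⟨Q.obj (E.truncGE b), e.inv ≫ Q.map (E.πTruncGE b), inferInstance, ?_, hp⟩
  rw [DerivedCategory.isLE_iff]
  intro i hi
  have := hp i hi.le
  exact (DerivedCategory.isZero_of_isLE K b i hi).of_iso
    (asIso ((homologyFunctor U.Modules i).map (e.inv ≫ Q.map (E.πTruncGE b)))).symm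

lemma isFT_of_iso' {M N : U.Modules} (e : M ≅ N) (h : CohB1.IsFT M) : CohB1.IsFT N :=
  @Groth.Agent.Lib.Helper23.FinType.isFiniteType_of_iso _ _ _ e h

/-- an object of `D^{≤ b}` whose top cohomology sheaf is of finite type is `b`-pseudo-coherent. -/
theorem isPC_top (K : DCoh.D U) (b : ℤ) (hK : K.IsLE b) (hF : CohB1.IsFT (DCoh.HD K b)) :
    DCoh.IsPseudoCoherentD b K := by
  obtain ⟨S, p, hGE, hLE, hp⟩ := exists_top_map K b hK
  obtain ⟨F₀, ⟨eS⟩⟩ := exists_iso_singleFunctor_obj_of_isGE_of_isLE S b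
  have hpb := hp b le_rfl
  have eF : F₀ ≅ DCoh.HD K b :=
    ((singleFunctorCompHomologyFunctorIso U.Modules b).app F₀).symm ≪≫
      (homologyFunctor U.Modules b).mapIso eS.symm ≪≫
      (asIso ((homologyFunctor U.Modules b).map p)).symm
  have hF₀ : CohB1.IsFT F₀ := isFT_of_iso' eF.symm hF
  -- `S` is `b`-pseudo-coherent
  have hS : Loc (fun V (L : DCoh.D V) => SPApprox b L) S := by
    have h0 := Groth.Agent.R2.H28.PCSingle.isPC_zero_of_isFT F₀ hF₀
    rw [isPseudoCoherentD_iff] at h0
    have h1 := loc_spApprox_shift h0 (-b) b (by omega)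
    exact Loc.of_iso (isLocalPred_spApprox b)
      (((singleFunctors U.Modules).shiftIso (-b) b 0 (by omega)).app F₀ ≪≫ eS.symm) h1
  -- the cone of `p`
  obtain ⟨C, q, r, hT⟩ := distinguished_cocone_triangle p
  have hpc : Conn b p := ⟨fun i hi => hp i hi.le, by have := hp b le_rfl; infer_instance⟩
  have hC : C.IsLE (b - 1) := (conn_iff_of_distTriang _ hT b).1 hpc
  apply Groth.Agent.R2.H99.PCDescent.isPC_of_locally
  intro x
  rw [loc_iff_opens (isLocalPred_spApprox b)] at hS
  obtain ⟨V, hxV, hV⟩ := hS x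
  obtain ⟨P, β, hP, hβ⟩ := hV.exists_GE
  have hCV : ((DCoh.restrictD V.ι).obj C).IsLE (b - 1) := isLE_map _ C (b - 1) hC
  obtain ⟨U', j', hj', y', hy', hz⟩ :=
    exists_restrict_map_eq_zero b hP hCV (β ≫ (DCoh.restrictD V.ι).map q) ⟨x, hxV⟩
  refine ⟨U', j' ≫ V.ι, inferInstance, y', ?_, ?_⟩
  · rw [Scheme.Hom.comp_base, TopCat.comp_app, hy']
    rfl
  · let R := DCoh.restrictD j'
    let RV := DCoh.restrictD V.ι
    have hT' : R.mapTriangle.obj (RV.mapTriangle.obj (Triangle.mk p q r)) ∈ distTriang _ :=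
      R.map_distinguished _ (RV.map_distinguished _ hT)
    obtain ⟨α, hα⟩ : ∃ α : R.obj P ⟶ R.obj (RV.obj K), R.map β = α ≫ R.map (RV.map p) :=
      Triangle.coyoneda_exact₂ _ hT' (R.map β) (by
        show R.map β ≫ R.map (RV.map q) = 0
        rw [← Functor.map_comp]
        exact hz)
    have hβ' : Conn b (R.map β) := conn_map _ β b hβ
    have hp' : ∀ i : ℤ, b ≤ i → IsIso ((homologyFunctor _ i).map (R.map (RV.map p))) := by
      intro i hi
      have := hp i hi
      rw [Groth.Agent.Lib.Helper17.Hyp.isIso_homology_map_iff]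
      have h1 : IsIso ((homologyFunctor _ i).map (RV.map p)) := by
        rw [Groth.Agent.Lib.Helper17.Hyp.isIso_homology_map_iff]
        infer_instance
      infer_instance
    have hαc : Conn b α := by
      refine ⟨fun i hi => ?_, ?_⟩
      · have h1 := hβ'.1 i hi
        rw [hα, Functor.map_comp] at h1
        have := hp' i hi.le
        exact IsIso.of_isIso_comp_right ((homologyFunctor _ i).map α)
          ((homologyFunctor _ i).map (R.map (RV.map p)))
      · have h1 := hβ'.2
        rw [hα, Functor.map_comp] at h1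
        have := hp' b le_rfl
        have h2 : (homologyFunctor _ b).map α =
            ((homologyFunctor _ b).map α ≫ (homologyFunctor _ b).map (R.map (RV.map p))) ≫
              inv ((homologyFunctor _ b).map (R.map (RV.map p))) := by
          rw [Category.assoc, IsIso.hom_inv_id, Category.comp_id]
        rw [h2]
        infer_instance
    have h4 : SPApprox b (R.obj (RV.obj K)) := ⟨_, α, hP.spRep.restrict j', hαc⟩
    exact (isPseudoCoherentD_iff b _).2
      (pc_of_spApprox (h4.of_iso ((restrictDComp j' V.ι).app K).symm))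

end Top

section Engine

variable (m : ℤ) (H : ∀ (U : Scheme.{u}), DCoh.D U → Prop)

/-- the axioms making the top-cohomology induction work. -/
structure Engine : Prop where
  loc : IsLocalPred H
  bdd : ∀ {U : Scheme.{u}} (K : DCoh.D U), IsAffine U → H U K → ∃ b : ℤ, K.IsLE b
  ft : ∀ {U : Scheme.{u}} (K : DCoh.D U) (b : ℤ), m ≤ b → K.IsLE b → H U K →
    CohB1.IsFT (DCoh.HD K b)
  cone : ∀ {U : Scheme.{u}} (T : Triangle (DCoh.D U)), T ∈ distTriang _ → SPRep T.obj₁ →
    H U T.obj₂ → H U T.obj₃

variable {m H}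

theorem Engine.core (hH : Engine m H) : ∀ (n : ℕ) {U : Scheme.{u}} (K : DCoh.D U),
    K.IsLE (m - 1 + n) → H U K → DCoh.IsPseudoCoherentD m K := by
  intro n
  induction n with
  | zero =>
    intro U K hK _
    have hK' : K.IsLE (m - 1) :=
      DerivedCategory.TStructure.t.isLE_of_le K (m - 1 + (0 : ℕ)) (m - 1) (by simp)
    exact (isPseudoCoherentD_iff m K).2 (pc_of_spApprox (spApprox_of_isLE m K hK'))
  | succ n ih =>
    intro U K hK hHK
    have hK' : K.IsLE (m + n) :=
      DerivedCategory.TStructure.t.isLE_of_le K (m - 1 + ((n + 1 : ℕ) : ℤ)) (m + n)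
        (by push_cast; omega)
    have hF := hH.ft K (m + n) (by omega) hK' hHK
    have hpc := isPC_top K (m + n) hK' hF
    apply Groth.Agent.R2.H99.PCDescent.isPC_of_locally
    intro x
    obtain ⟨U', j, hj, y, hy, P, α, hP, hα⟩ := (isPseudoCoherentD_iff (m + n) K).1 hpc x
    refine ⟨U', j, hj, y, hy, ?_⟩
    obtain ⟨C, v, w, hT⟩ := distinguished_cocone_triangle α
    have hC : C.IsLE (m + n - 1) := (conn_iff_of_distTriang _ hT (m + n)).1 hα
    have hC' : C.IsLE (m - 1 + (n : ℤ)) :=
      DerivedCategory.TStructure.t.isLE_of_le C (m + n - 1) (m - 1 + n) (by omega)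
    have h1 : H U' ((DCoh.restrictD j).obj K) := hH.loc.restrict j K hHK
    have h2 : H U' C := hH.cone _ hT hP h1
    have h3 : DCoh.IsPseudoCoherentD m C := ih C hC' h2
    have h4 : DCoh.IsPseudoCoherentD m P := Groth.Agent.R2.H28.PCSingle.isPC_of_spRep m P hP
    exact (isPseudoCoherentD_triangle m _ hT).2.1 h4 h3

theorem Engine.main (hH : Engine m H) {U : Scheme.{u}} (K : DCoh.D U) (h : H U K) :
    DCoh.IsPseudoCoherentD m K := by
  apply Groth.Agent.R2.H99.PCDescent.isPC_of_locally
  intro x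
  obtain ⟨V, hV, hxV⟩ : ∃ V : U.Opens, IsAffineOpen V ∧ x ∈ V := by
    obtain ⟨_, ⟨V, hV, rfl⟩, hxV, -⟩ :=
      U.isBasis_affineOpens.exists_subset_of_mem_open (Set.mem_univ x) isOpen_univ
    exact ⟨V, hV, hxV⟩
  refine ⟨V, V.ι, inferInstance, ⟨x, hxV⟩, rfl, ?_⟩
  have h' : H V ((DCoh.restrictD V.ι).obj K) := hH.loc.restrict V.ι K h
  haveI : IsAffine (V : Scheme.{u}) := hV
  obtain ⟨b, hb⟩ := hH.bdd _ inferInstance h'
  have hb' : ((DCoh.restrictD V.ι).obj K).IsLE (m - 1 + ((b - m + 1).toNat : ℤ)) :=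
    DerivedCategory.TStructure.t.isLE_of_le _ b _ (by omega)
  exact hH.core _ _ hb' h'

end Engine

end Groth.Agent.R2.H99.PCEngine
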