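import Mathlib
import Groth.Agent.R2.H99PCEngine
import Groth.Agent.R2.H99FTDescent
import Groth.Agent.Lib.Helper21FlatCalc
set_option backward.isDefEq.respectTransparency.types false

/-!
# helper99: fpqc and fppf descent of pseudo-coherence for ARBITRARY objects of `D(O_X)`

* `isPseudoCoherentD_of_lpull_flat` (Theorem F): `f` flat, surjective, quasi-compact,
  `Lf^* E` `m`-pseudo-coherent ⇒ `E` `m`-pseudo-coherent (no quasi-coherence assumption).
* `isPseudoCoherentD_of_lpull_fppf`: the same for `f` flat, surjective, locally of finite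
  presentation.
-/

set_option autoImplicit false
set_option linter.style.haveILetI false
universe u
open CategoryTheory CategoryTheory.Limits AlgebraicGeometry HomologicalComplex
  CategoryTheory.Pretriangulated

attribute [local instance] HasDerivedCategory.standard

namespace Groth.Agent.R2.H99.PCDescent2

open DerivedCategory Groth.Agent.R2.H4.Conn Groth.Agent.R2.H4.Perf
  Groth.Agent.Lib.Helper1.Sky Groth.Agent.R2.H5.LpullQCoh Groth.Agent.R2.H99.PCEngine
  Groth.Agent.R2.H99.PCDescent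

attribute [local instance] Groth.Agent.Lib.Helper1.Sky.hasLpull

section Flat

variable {Y U : Scheme.{u}} (g : Y ⟶ U) [Flat g]

/-- the pullback along a flat morphism is exact. -/
instance preservesFiniteLimits_pullback_of_flat :
    PreservesFiniteLimits (Scheme.Modules.pullback g) := by
  have : (Scheme.Modules.pullback g).IsLeftAdjoint :=
    (Scheme.Modules.pullbackPushforwardAdjunction g).isLeftAdjoint
  have h : ∀ (S : ShortComplex U.Modules), S.ShortExact →
      (S.map (Scheme.Modules.pullback g)).ShortExact := by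
    intro S hS
    have h := Groth.Agent.Lib.Helper21.FlatCalc.exact_and_epi_of_rightExact
      (Scheme.Modules.pullback g) S hS
    have := hS.mono_f
    exact { exact := h.1
            mono_f := Groth.Agent.Lib.Helper26.FpqcMod.mono_pullback_of_flat g S.f
            epi_g := h.2 }
  have h3 : PreservesFiniteLimits (Scheme.Modules.pullback g) ∧
      PreservesFiniteColimits (Scheme.Modules.pullback g) :=
    ((Functor.exact_tfae (Scheme.Modules.pullback g)).out 0 3).1 h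
  exact h3.1

end Flat

section Basic

variable {X : Scheme.{u}}

lemma isPC_of_iso {m : ℤ} {K K' : DCoh.D X} (e : K ≅ K') (h : DCoh.IsPseudoCoherentD m K) :
    DCoh.IsPseudoCoherentD m K' := by
  rw [isPseudoCoherentD_iff] at h ⊢
  exact Loc.of_iso (isLocalPred_spApprox m) e h

lemma isPC_mono {m m' : ℤ} (hm : m ≤ m') {K : DCoh.D X} (h : DCoh.IsPseudoCoherentD m K) :
    DCoh.IsPseudoCoherentD m' K := by
  rw [isPseudoCoherentD_iff] at h ⊢
  exact PC.mono hm h

end Basic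

/-- the descent predicate. -/
def Hfp (m : ℤ) (U : Scheme.{u}) (K : DCoh.D U) : Prop :=
  ∃ (Y : Scheme.{u}) (g : Y ⟶ U), Flat g ∧ Surjective g ∧ QuasiCompact g ∧
    DCoh.IsPseudoCoherentD m ((DCoh.Lpull g).obj K)

section Axioms

variable (m : ℤ)

lemma hfp_of_iso {U : Scheme.{u}} {K K' : DCoh.D U} (e : K ≅ K') (h : Hfp m U K) :
    Hfp m U K' := by
  obtain ⟨Y, g, h1, h2, h3, h4⟩ := h
  exact ⟨Y, g, h1, h2, h3, isPC_of_iso ((DCoh.Lpull g).mapIso e) h4⟩

lemma hfp_restrict {U' U : Scheme.{u}} (j : U' ⟶ U) [IsOpenImmersion j] (K : DCoh.D U)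
    (h : Hfp m U K) : Hfp m U' ((DCoh.restrictD j).obj K) := by
  obtain ⟨Y, g, h1, h2, h3, h4⟩ := h
  refine ⟨pullback g j, pullback.snd g j, inferInstance, inferInstance, inferInstance, ?_⟩
  obtain ⟨c1⟩ := nonempty_lpull_comp_iso (pullback.snd g j) j
  obtain ⟨c2⟩ := nonempty_lpull_comp_iso (pullback.fst g j) g
  obtain ⟨c3⟩ := nonempty_lpull_congr (pullback.condition (f := g) (g := j))
  have h5 : DCoh.IsPseudoCoherentD m
      ((DCoh.restrictD (pullback.fst g j)).obj ((DCoh.Lpull g).obj K)) :=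
    isPC_restrict m (pullback.fst g j) _ h4
  refine isPC_of_iso ?_ h5
  exact restrictDIsoLpull (pullback.fst g j) _ ≪≫ c2.app K ≪≫ c3.app K ≪≫ (c1.app K).symm ≪≫
    (DCoh.Lpull (pullback.snd g j)).mapIso (restrictDIsoLpull j K).symm

lemma hfp_ft {U : Scheme.{u}} (K : DCoh.D U) (b : ℤ) (hb : m ≤ b) (hK : K.IsLE b)
    (h : Hfp m U K) : CohB1.IsFT (DCoh.HD K b) := by
  obtain ⟨Y, g, h1, h2, h3, h4⟩ := h
  have h5 : DCoh.IsPseudoCoherentD b ((DCoh.Lpull g).obj K) := isPC_mono hb h4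
  have hz : ∀ i : ℤ, b < i → IsZero (DCoh.HD ((DCoh.Lpull g).obj K) i) := fun i hi =>
    ((Scheme.Modules.pullback g).map_isZero (DerivedCategory.isZero_of_isLE K b i hi)).of_iso
      (homologyLpullIsoOfExact g K i)
  have h6 := (Groth.Agent.R2.H4.PCTop.finiteType_top_cohomology_of_pseudoCoherent b _ h5).1 hz
  exact Groth.Agent.R2.H99.FTDescent.isFT_of_pullback g _
    (isFT_of_iso' (homologyLpullIsoOfExact g K b) h6)

lemma hfp_cone {U : Scheme.{u}} (T : Triangle (DCoh.D U)) (hT : T ∈ distTriang _)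
    (hP : SPRep T.obj₁) (h : Hfp m U T.obj₂) : Hfp m U T.obj₃ := by
  obtain ⟨Y, g, h1, h2, h3, h4⟩ := h
  refine ⟨Y, g, h1, h2, h3, ?_⟩
  let G := (Scheme.Modules.pullback g).mapDerivedCategory
  have hT' := G.map_distinguished T hT
  have p1 : DCoh.IsPseudoCoherentD (m + 1) (G.obj T.obj₁) :=
    isPC_of_iso (lpullObjIsoOfExact g T.obj₁)
      (isPseudoCoherentD_lpull g (m + 1) _
        (Groth.Agent.R2.H28.PCSingle.isPC_of_spRep (m + 1) _ hP))
  have p2 : DCoh.IsPseudoCoherentD m (G.obj T.obj₂) :=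
    isPC_of_iso (lpullObjIsoOfExact g T.obj₂) h4
  have p3 : DCoh.IsPseudoCoherentD m (G.obj T.obj₃) :=
    (isPseudoCoherentD_triangle m _ hT').1 p1 p2
  exact isPC_of_iso (lpullObjIsoOfExact g T.obj₃).symm p3

lemma hfp_bdd {U : Scheme.{u}} (K : DCoh.D U) (hU : IsAffine U) (h : Hfp m U K) :
    ∃ b : ℤ, K.IsLE b := by
  obtain ⟨Y, g, h1, h2, h3, h4⟩ := h
  haveI : CompactSpace Y := QuasiCompact.compactSpace_of_compactSpace g
  rw [isPseudoCoherentD_iff, loc_iff_opens (isLocalPred_spApprox m)] at h4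
  choose W hyW hW using h4
  choose bb hbb using fun y => (hW y).exists_isLE
  obtain ⟨t, ht⟩ := isCompact_univ.elim_finite_subcover (fun y => ((W y : Y.Opens) : Set Y))
    (fun y => (W y).isOpen) (fun y _ => Set.mem_iUnion.2 ⟨y, hyW y⟩)
  obtain ⟨b, hb⟩ := (t.image bb).exists_le
  refine ⟨b, ?_⟩
  rw [DerivedCategory.isLE_iff]
  intro i hi
  rw [IsZero.iff_id_eq_zero]
  let hh : ∀ y : t, ((W y.1 : Y.Opens) : Scheme.{u}) ⟶ U := fun y => (W y.1).ι ≫ g
  refine Groth.Agent.Lib.Helper26.FpqcMod.eq_zero_of_family hh ?_ _ ?_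
  · intro x
    obtain ⟨y₀, rfl⟩ := g.surjective x
    have h5 := ht (Set.mem_univ y₀)
    simp only [Set.mem_iUnion] at h5
    obtain ⟨y, hyt, hy⟩ := h5
    exact ⟨⟨y, hyt⟩, ⟨y₀, hy⟩, rfl⟩
  · intro y
    obtain ⟨c1⟩ := nonempty_lpull_comp_iso (W y.1).ι g
    have hle : ((DCoh.Lpull ((W y.1).ι ≫ g)).obj K).IsLE b := by
      have h6 : ((DCoh.restrictD (W y.1).ι).obj ((DCoh.Lpull g).obj K)).IsLE b :=
        DerivedCategory.TStructure.t.isLE_of_le _ (bb y.1) b
          (hb _ (Finset.mem_image_of_mem bb y.2))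
      exact DerivedCategory.TStructure.t.isLE_of_iso
        (restrictDIsoLpull (W y.1).ι _ ≪≫ c1.app K) b
    have hzero : IsZero ((Scheme.Modules.pullback (hh y)).obj (DCoh.HD K i)) :=
      (DerivedCategory.isZero_of_isLE _ b i hi).of_iso
        (homologyLpullIsoOfExact ((W y.1).ι ≫ g) K i).symm
    exact hzero.eq_of_src _ _

/-- the descent predicate satisfies the axioms of the engine. -/
theorem engine_hfp : Engine m (Hfp m) where
  loc := ⟨fun e h => hfp_of_iso m e h, fun j _ K h => hfp_restrict m j K h⟩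
  bdd := fun K hU h => hfp_bdd m K hU h
  ft := fun K b hb hK h => hfp_ft m K b hb hK h
  cone := fun T hT hP h => hfp_cone m T hT hP h

end Axioms

/-- **Theorem F**: pseudo-coherence descends along flat, surjective, quasi-compact morphisms,
for arbitrary objects of `D(O_X)`. -/
theorem isPseudoCoherentD_of_lpull_flat {X' X : Scheme.{u}} (f : X' ⟶ X) [Flat f] [Surjective f]
    [QuasiCompact f] (m : ℤ) (E : DCoh.D X)
    (h : DCoh.IsPseudoCoherentD m ((DCoh.Lpull f).obj E)) : DCoh.IsPseudoCoherentD m E :=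
  (engine_hfp m).main E ⟨X', f, inferInstance, inferInstance, inferInstance, h⟩

section Fppf

/-- **fppf descent of pseudo-coherence**, for arbitrary objects of `D(O_X)`. -/
theorem isPseudoCoherentD_of_lpull_fppf {X' X : Scheme.{u}} (f : X' ⟶ X) [Flat f] [Surjective f]
    [LocallyOfFinitePresentation f] (m : ℤ) (E : DCoh.D X)
    (h : DCoh.IsPseudoCoherentD m ((DCoh.Lpull f).obj E)) : DCoh.IsPseudoCoherentD m E := by
  apply isPC_of_locally
  intro x
  obtain ⟨x', rfl⟩ := f.surjective x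
  obtain ⟨U₀, hU₀, hxU₀⟩ : ∃ V : X.Opens, IsAffineOpen V ∧ f x' ∈ V := by
    obtain ⟨_, ⟨V, hV, rfl⟩, hxV, -⟩ :=
      X.isBasis_affineOpens.exists_subset_of_mem_open (Set.mem_univ (f x')) isOpen_univ
    exact ⟨V, hV, hxV⟩
  obtain ⟨V', hV', hxV', hV'U₀⟩ : ∃ V' : X'.Opens, IsAffineOpen V' ∧ x' ∈ V' ∧ V' ≤ f ⁻¹ᵁ U₀ := by
    obtain ⟨_, ⟨V, hV, rfl⟩, hxV, hle⟩ :=
      X'.isBasis_affineOpens.exists_subset_of_mem_open (show x' ∈ f ⁻¹ᵁ U₀ from hxU₀)
        (f ⁻¹ᵁ U₀).isOpen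
    exact ⟨V, hV, hxV, hle⟩
  let U : X.Opens := ⟨f '' (V' : Set X'), f.isOpenMap _ V'.isOpen⟩
  have hle : V' ≤ f ⁻¹ᵁ U := fun y hy => ⟨y, hy, rfl⟩
  have hUU₀ : U ≤ U₀ := by
    rintro _ ⟨y, hy, rfl⟩
    exact hV'U₀ hy
  let g : (V' : Scheme.{u}) ⟶ (U : Scheme.{u}) := f.resLE U V' hle
  have hg : g ≫ U.ι = V'.ι ≫ f := Scheme.Hom.resLE_comp_ι f hle
  haveI : Surjective g := by
    refine ⟨fun u => ?_⟩
    obtain ⟨y, hy, hyu⟩ := u.2
    refine ⟨⟨y, hy⟩, ?_⟩
    apply U.ι.isOpenEmbedding.injective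
    rw [← Scheme.Hom.comp_apply, hg]
    exact hyu
  haveI : CompactSpace (V' : Scheme.{u}) := isCompact_iff_compactSpace.1 hV'.isCompact
  haveI : QuasiSeparatedSpace (U : Scheme.{u}) :=
    (isQuasiSeparated_iff_quasiSeparatedSpace _ U.isOpen).1
      (hU₀.isQuasiSeparated.of_subset hUU₀)
  haveI : QuasiCompact g := inferInstance
  refine ⟨U, U.ι, inferInstance, ⟨f x', ⟨x', hxV', rfl⟩⟩, rfl, ?_⟩
  refine (engine_hfp m).main _ ⟨V', g, inferInstance, inferInstance, inferInstance, ?_⟩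
  obtain ⟨c1⟩ := nonempty_lpull_comp_iso g U.ι
  obtain ⟨c2⟩ := nonempty_lpull_comp_iso V'.ι f
  obtain ⟨c3⟩ := nonempty_lpull_congr hg.symm
  have h5 : DCoh.IsPseudoCoherentD m ((DCoh.restrictD V'.ι).obj ((DCoh.Lpull f).obj E)) :=
    isPC_restrict m V'.ι _ h
  refine isPC_of_iso ?_ h5
  exact restrictDIsoLpull V'.ι _ ≪≫ c2.app E ≪≫ c3.app E ≪≫ (c1.app E).symm ≪≫
    (DCoh.Lpull g).mapIso (restrictDIsoLpull U.ι E).symm

end Fppf

end Groth.Agent.R2.H99.PCDescent2
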