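import Mathlib
import Groth.Agent.R2.H4PerfTri
import Groth.Agent.R2.H4PerfSummand
import Groth.Agent.R2.H99PCDescent2
import Groth.Agent.Lib.Helper1Devissage
import Groth.Agent.R2.H1PushRestrict
import Groth.Agent.R2.H54ClosedImmHom
import Groth.Agent.R2.H28RpushQCohA
import Groth.Agent.R2.H12Dev3A
import Groth.Agent.Lib.Helper2QcPush
import Groth.Agent.Lib.Helper23ModLocal
set_option backward.isDefEq.respectTransparency.types false

/-!
# helper28: pseudo-coherent (for all `m`) objects form a triangulated subcategory; bounded complexes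
with pseudo-coherent terms; pushforward of strictly perfect complexes along a closed immersion
with pseudo-coherent `j_* O_W`.

* `pcAll X : ObjectProperty (DCoh.D X)`: `K` is `m`-pseudo-coherent for all `m`;
  instances `IsClosedUnderIsomorphisms`, `IsTriangulated` (hence finite products).
* `pcAll_Q_of_terms`: bounded complex `E` with `pcAll (single_j (E.X j))` ⇒ `pcAll (Q E)`.
-/

set_option autoImplicit false
universe u
open CategoryTheory CategoryTheory.Limits AlgebraicGeometry HomologicalComplex ZeroObject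
  CategoryTheory.Pretriangulated

attribute [local instance] HasDerivedCategory.standard

namespace Groth.Agent.R2.H28.PCPush

open DerivedCategory Groth.Agent.R2.H4.Conn Groth.Agent.R2.H4.Perf
  Groth.Agent.R2.H99.PCDescent Groth.Agent.R2.H99.PCDescent2

section PcAll

variable (X : Scheme.{u})

/-- pseudo-coherent objects of `D(O_X)`: `m`-pseudo-coherent for every `m`. -/
def pcAll : ObjectProperty (DCoh.D X) := fun K => ∀ m : ℤ, DCoh.IsPseudoCoherentD m K

variable {X}

lemma pcAll_iff (K : DCoh.D X) : pcAll X K ↔ ∀ m : ℤ, DCoh.IsPseudoCoherentD m K := Iff.rfl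

instance : (pcAll X).IsClosedUnderIsomorphisms := ⟨fun e h m => isPC_of_iso e (h m)⟩

lemma pcAll_of_isLE (K : DCoh.D X) (m : ℤ) (hK : K.IsLE (m - 1)) :
    DCoh.IsPseudoCoherentD m K :=
  (isPseudoCoherentD_iff m K).2 (pc_of_spApprox (spApprox_of_isLE m K hK))

lemma pcAll_of_isZero (K : DCoh.D X) (hK : IsZero K) : pcAll X K := fun m =>
  pcAll_of_isLE K m (DerivedCategory.TStructure.t.isLE_of_isZero hK _)

instance : (pcAll X).ContainsZero :=
  ⟨⟨(0 : DerivedCategory X.Modules), isZero_zero _, pcAll_of_isZero _ (isZero_zero _)⟩⟩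

lemma isPC_shift {m : ℤ} {K : DCoh.D X} (h : DCoh.IsPseudoCoherentD m K) (n m' : ℤ)
    (hm' : m' + n = m) : DCoh.IsPseudoCoherentD m' (K⟦n⟧) := by
  rw [isPseudoCoherentD_iff] at h ⊢
  exact loc_spApprox_shift h n m' hm'

lemma pcAll_shift {K : DCoh.D X} (h : pcAll X K) (n : ℤ) : pcAll X (K⟦n⟧) := fun m' =>
  isPC_shift (h (m' + n)) n m' rfl

instance : (pcAll X).IsStableUnderShift ℤ where
  isStableUnderShiftBy n := ⟨fun _ h => pcAll_shift h n⟩

lemma pcAll_ext₂ (T : Triangle (DCoh.D X)) (hT : T ∈ distTriang _)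
    (h₁ : pcAll X T.obj₁) (h₃ : pcAll X T.obj₃) : pcAll X T.obj₂ := fun m =>
  (isPseudoCoherentD_triangle m T hT).2.1 (h₁ m) (h₃ m)

lemma pcAll_ext₃ (T : Triangle (DCoh.D X)) (hT : T ∈ distTriang _)
    (h₁ : pcAll X T.obj₁) (h₂ : pcAll X T.obj₂) : pcAll X T.obj₃ := fun m =>
  (isPseudoCoherentD_triangle m T hT).1 (h₁ (m + 1)) (h₂ m)

lemma pcAll_ext₁ (T : Triangle (DCoh.D X)) (hT : T ∈ distTriang _)
    (h₂ : pcAll X T.obj₂) (h₃ : pcAll X T.obj₃) : pcAll X T.obj₁ := fun m => by
  have := (isPseudoCoherentD_triangle (m - 1) T hT).2.2 (by simpa using h₂ (m - 1 + 1)) (h₃ (m - 1))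
  simpa using this

instance : (pcAll X).IsTriangulatedClosed₂ :=
  ObjectProperty.IsTriangulatedClosed₂.mk' (fun T hT h₁ h₃ => pcAll_ext₂ T hT h₁ h₃)

instance : (pcAll X).IsTriangulated where

/-- a bounded complex whose terms are pseudo-coherent (as objects of `D(O_X)` in one degree)
is pseudo-coherent. -/
theorem pcAll_Q_of_terms (E : CochainComplex X.Modules ℤ) (a b : ℤ)
    (hE : ∀ i : ℤ, (i < a ∨ b < i) → IsZero (E.X i))
    (hP : ∀ j : ℤ, a ≤ j → j ≤ b → pcAll X ((singleFunctor X.Modules j).obj (E.X j))) :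
    pcAll X (Q.obj E) :=
  Groth.Agent.Lib.Helper1.Devissage.induction_terms' (pcAll X) pcAll_of_isZero
    (fun T hT h₁ h₃ => pcAll_ext₂ T hT h₁ h₃)
    (fun j _ _ ⟨e⟩ h => (pcAll X).prop_of_iso ((singleFunctor X.Modules j).mapIso e) h)
    E a b hE hP

/-- variant with the terms placed in degree `0`. -/
theorem pcAll_Q_of_terms' (E : CochainComplex X.Modules ℤ) (a b : ℤ)
    (hE : ∀ i : ℤ, (i < a ∨ b < i) → IsZero (E.X i))
    (hP : ∀ j : ℤ, a ≤ j → j ≤ b → pcAll X (DCoh.inD X (E.X j))) :
    pcAll X (Q.obj E) := by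
  apply pcAll_Q_of_terms E a b hE
  intro j h1 h2
  have e : (DCoh.inD X (E.X j))⟦-j⟧ ≅ (singleFunctor X.Modules j).obj (E.X j) :=
    ((DerivedCategory.singleFunctors X.Modules).shiftIso (-j) j 0 (by omega)).app (E.X j)
  exact (pcAll X).prop_of_iso e (pcAll_shift (hP j h1 h2) (-j))

end PcAll

section Push

open Scheme.Modules Groth.Agent.R2.H1.PushRestrict Groth.Agent.R2.H28.RpushQCoh

variable {W V : Scheme.{u}} (j : W ⟶ V)

/-- `(j_* F)|_U [0] ≅ (j|_U)_* (F|_{j⁻¹U}) [0]` -/
noncomputable def restrictPushInDIso (U : V.Opens) (F : W.Modules) :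
    (DCoh.restrictD U.ι).obj (DCoh.inD V ((pushforward j).obj F)) ≅
      DCoh.inD U ((pushforward (j ∣_ U)).obj ((restrictFunctor (j ⁻¹ᵁ U).ι).obj F)) :=
  restrictInDIso U.ι _ ≪≫ (singleFunctor _ 0).mapIso ((pushRestrictIso j U).app F)

/-- free case: `j_* (O^n)` is pseudo-coherent if `j_* O` is. -/
lemma pcAll_push_freeMod [(pushforward j).Additive]
    (hO : pcAll V (DCoh.inD V ((pushforward j).obj (Coh.structureModule W)))) (n : ℕ) :
    pcAll V (DCoh.inD V ((pushforward j).obj (FlatMod.freeMod W n))) := by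
  let G : W.Modules ⥤ DCoh.D V := pushforward j ⋙ singleFunctor V.Modules 0
  have e1 : G.obj (FlatMod.freeMod W n) ≅ ∐ fun _ : Fin n => G.obj (Coh.structureModule W) :=
    PreservesCoproduct.iso G (fun _ : Fin n => Coh.structureModule W)
  have e2 : (∐ fun _ : Fin n => G.obj (Coh.structureModule W)) ≅
      ∏ᶜ fun _ : Fin n => G.obj (Coh.structureModule W) :=
    (biproduct.isoCoproduct _).symm ≪≫ biproduct.isoProduct _
  have h : pcAll V (∏ᶜ fun _ : Fin n => G.obj (Coh.structureModule W)) :=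
    (pcAll V).prop_product (fun _ => hO)
  exact (pcAll V).prop_of_iso (e1 ≪≫ e2).symm h

/-- sections of a module over an open with empty preimage. -/
lemma isZero_restrict_push_compl (F : W.Modules) (U : V.Opens)
    (hU : ∀ x ∈ U, x ∉ Set.range j.base) :
    IsZero ((restrictFunctor U.ι).obj ((pushforward j).obj F)) := by
  apply Groth.Agent.R2.H12.Dev.isZero_restrict_of_vanOn
  rw [Scheme.Opens.opensRange_ι]
  intro W' hW' s
  have hs : (show Γ(F, j ⁻¹ᵁ W') from s) = 0 :=
    Groth.Agent.Lib.Helper2.QcPush.section_eq_zero_of_cover _ _ _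
      (fun z hz => absurd ⟨z, rfl⟩ (hU _ (hW' hz)))
  exact hs

variable [IsClosedImmersion j]

/-- **finite locally free modules push forward to pseudo-coherent objects** along a closed
immersion `j` with `j_* O_W` pseudo-coherent. -/
theorem pcAll_push_of_isFinLocFree
    (hO : pcAll V (DCoh.inD V ((pushforward j).obj (Coh.structureModule W))))
    (F : W.Modules) (hF : FlatMod.IsFinLocFree F) :
    pcAll V (DCoh.inD V ((pushforward j).obj F)) := by
  intro m
  apply isPC_of_locally
  intro x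
  by_cases hx : x ∈ Set.range j.base
  · obtain ⟨w, rfl⟩ := hx
    obtain ⟨W', n, hw, ⟨e⟩⟩ := hF w
    obtain ⟨U, hU⟩ : ∃ U : V.Opens, j ⁻¹ᵁ U = W' := by
      obtain ⟨U₀, hU₀, hU₀'⟩ := j.isClosedEmbedding.isInducing.isOpen_iff.1 W'.2
      exact ⟨⟨U₀, hU₀⟩, TopologicalSpace.Opens.ext hU₀'⟩
    subst hU
    refine ⟨U, U.ι, inferInstance, ⟨j.base w, hw⟩, rfl, ?_⟩
    have : IsClosedImmersion (j ∣_ U) := inferInstance
    have hO' : pcAll U (DCoh.inD U ((pushforward (j ∣_ U)).obj
        (Coh.structureModule (j ⁻¹ᵁ U)))) := by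
      have h1 : pcAll U ((DCoh.restrictD U.ι).obj
          (DCoh.inD V ((pushforward j).obj (Coh.structureModule W)))) :=
        fun m' => isPC_restrict m' U.ι _ (hO m')
      exact (pcAll U).prop_of_iso (restrictPushInDIso j U _ ≪≫
        (singleFunctor _ 0).mapIso ((pushforward (j ∣_ U)).mapIso
          (restrictUnitIso (j ⁻¹ᵁ U).ι))) h1
    have h2 := pcAll_push_freeMod (j ∣_ U) hO' n
    exact (pcAll U).prop_of_iso ((restrictPushInDIso j U F ≪≫
      (singleFunctor _ 0).mapIso ((pushforward (j ∣_ U)).mapIso e)).symm) h2 m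
  · have hcl : IsClosed (Set.range j.base) := j.isClosedEmbedding.isClosed_range
    let U : V.Opens := ⟨(Set.range j.base)ᶜ, hcl.isOpen_compl⟩
    refine ⟨U, U.ι, inferInstance, ⟨x, hx⟩, rfl, ?_⟩
    have hzero := isZero_restrict_push_compl j F U (fun x hx => hx)
    have h0 : IsZero ((DCoh.restrictD U.ι).obj (DCoh.inD V ((pushforward j).obj F))) :=
      IsZero.of_iso (Functor.map_isZero _ hzero) (restrictInDIso U.ι _)
    exact pcAll_of_isZero _ h0 m

/-- **strictly perfect complexes push forward to pseudo-coherent objects** along a closed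
immersion `j` with `j_* O_W` pseudo-coherent. -/
theorem pcAll_push_of_isStrictlyPerfect [(pushforward j).Additive]
    [PreservesFiniteLimits (pushforward j)] [PreservesFiniteColimits (pushforward j)]
    (hO : pcAll V (DCoh.inD V ((pushforward j).obj (Coh.structureModule W))))
    (P : CochainComplex W.Modules ℤ) (hP : DCoh.IsStrictlyPerfect P) :
    pcAll V ((pushforward j).mapDerivedCategory.obj (Q.obj P)) := by
  obtain ⟨⟨a, b, hab⟩, hlf⟩ := hP
  have h : pcAll V (Q.obj (((pushforward j).mapHomologicalComplex (ComplexShape.up ℤ)).obj P)) := by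
    apply pcAll_Q_of_terms' _ a b
    · intro i hi
      exact (pushforward j).map_isZero (hab i hi)
    · intro i _ _
      exact pcAll_push_of_isFinLocFree j hO (P.X i) (hlf i)
  exact (pcAll V).prop_of_iso ((pushforward j).mapDerivedCategoryFactors.app P).symm h

/-- objects isomorphic to the image of a strictly perfect complex push forward to pseudo-coherent
objects. -/
theorem pcAll_push_of_spRep [(pushforward j).Additive]
    [PreservesFiniteLimits (pushforward j)] [PreservesFiniteColimits (pushforward j)]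
    (hO : pcAll V (DCoh.inD V ((pushforward j).obj (Coh.structureModule W))))
    (K : DCoh.D W) (hK : SPRep K) :
    pcAll V ((pushforward j).mapDerivedCategory.obj K) := by
  obtain ⟨P, hP, ⟨e⟩⟩ := hK
  exact (pcAll V).prop_of_iso ((pushforward j).mapDerivedCategory.mapIso e)
    (pcAll_push_of_isStrictlyPerfect j hO P hP)

end Push

section PushRestrict

open Scheme.Modules Groth.Agent.R2.H1.PushRestrict

variable {W V : Scheme.{u}} (j : W ⟶ V) (U : V.Opens)
  [(pushforward j).Additive] [PreservesFiniteLimits (pushforward j)]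
  [PreservesFiniteColimits (pushforward j)]
  [(pushforward (j ∣_ U)).Additive] [PreservesFiniteLimits (pushforward (j ∣_ U))]
  [PreservesFiniteColimits (pushforward (j ∣_ U))]

/-- the (exact) direct image on derived categories commutes with restriction to an open of the
base. -/
noncomputable def pushRestrictDIso :
    (pushforward j).mapDerivedCategory ⋙ DCoh.restrictD U.ι ≅
      DCoh.restrictD (j ⁻¹ᵁ U).ι ⋙ (pushforward (j ∣_ U)).mapDerivedCategory :=
  (mapDerivedCategoryComp (pushforward j) (restrictFunctor U.ι)).symm ≪≫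
    mapDerivedCategoryCongr (pushRestrictIso j U) ≪≫
    mapDerivedCategoryComp (restrictFunctor (j ⁻¹ᵁ U).ι) (pushforward (j ∣_ U))

end PushRestrict

section Forward

open Scheme.Modules Groth.Agent.R2.H1.PushRestrict

/-- the target of an `m`-connected map from an `m`-pseudo-coherent object is
`m`-pseudo-coherent. -/
lemma isPC_of_conn {X : Scheme.{u}} {m : ℤ} {P K : DCoh.D X} (α : P ⟶ K) (hα : Conn m α)
    (hP : DCoh.IsPseudoCoherentD m P) : DCoh.IsPseudoCoherentD m K := by
  obtain ⟨C, v, w, hT⟩ := distinguished_cocone_triangle α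
  have hC : C.IsLE (m - 1) := (conn_iff_of_distTriang _ hT m).1 hα
  exact (isPseudoCoherentD_triangle m _ hT).2.1 hP (pcAll_of_isLE C m hC)

/-- modules on an empty scheme vanish. -/
lemma isZero_modules_of_isEmpty {Y : Scheme.{u}} [IsEmpty Y] (M : Y.Modules) : IsZero M :=
  Groth.Agent.Lib.Helper23.ModLocal.isZero_of_forall_eq_zero fun U s =>
    Groth.Agent.Lib.Helper2.QcPush.section_eq_zero_of_cover M U s fun x _ => isEmptyElim x

/-- the derived category of modules on an empty scheme is trivial. -/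
lemma isZero_D_of_isEmpty {Y : Scheme.{u}} [IsEmpty Y] (K : DCoh.D Y) : IsZero K := by
  have hF : IsZero (Q.objPreimage K) := by
    rw [IsZero.iff_id_eq_zero]
    ext i : 1
    exact (isZero_modules_of_isEmpty _).eq_of_src _ _
  exact IsZero.of_iso (Q.map_isZero hF) (Q.objObjPreimageIso K).symm

variable {Z X : Scheme.{u}} (i : Z ⟶ X)

/-- `(i|_U)_* O` is pseudo-coherent when `i_* O` is. -/
lemma pcAll_pushO_restrict
    (hO : pcAll X (DCoh.inD X ((pushforward i).obj (Coh.structureModule Z)))) (U : X.Opens) :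
    pcAll U (DCoh.inD U ((pushforward (i ∣_ U)).obj (Coh.structureModule (i ⁻¹ᵁ U)))) := by
  have h1 : pcAll U ((DCoh.restrictD U.ι).obj
      (DCoh.inD X ((pushforward i).obj (Coh.structureModule Z)))) :=
    fun m' => isPC_restrict m' U.ι _ (hO m')
  exact (pcAll U).prop_of_iso (restrictPushInDIso i U _ ≪≫
    (singleFunctor _ 0).mapIso ((pushforward (i ∣_ U)).mapIso
      (restrictUnitIso (i ⁻¹ᵁ U).ι))) h1

variable [IsClosedImmersion i] [(pushforward i).Additive] [PreservesFiniteLimits (pushforward i)]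
  [PreservesFiniteColimits (pushforward i)]

/-- **forward direction of S1102**: for a closed immersion `i` with `i_* O_Z` pseudo-coherent,
the direct image of an `m`-pseudo-coherent object is `m`-pseudo-coherent. -/
theorem isPC_push_of_isPC
    (hO : pcAll X (DCoh.inD X ((pushforward i).obj (Coh.structureModule Z))))
    (E : DCoh.D Z) (m : ℤ) (hE : DCoh.IsPseudoCoherentD m E) :
    DCoh.IsPseudoCoherentD m ((pushforward i).mapDerivedCategory.obj E) := by
  apply isPC_of_locally
  intro x
  by_cases hx : x ∈ Set.range i.base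
  · obtain ⟨z, rfl⟩ := hx
    obtain ⟨Z', hz, hZ'⟩ :=
      (loc_iff_opens (isLocalPred_spApprox m) E).1 ((isPseudoCoherentD_iff m E).1 hE) z
    obtain ⟨U, hU⟩ : ∃ U : X.Opens, i ⁻¹ᵁ U = Z' := by
      obtain ⟨U₀, hU₀, hU₀'⟩ := i.isClosedEmbedding.isInducing.isOpen_iff.1 Z'.2
      exact ⟨⟨U₀, hU₀⟩, TopologicalSpace.Opens.ext hU₀'⟩
    subst hU
    refine ⟨U, U.ι, inferInstance, ⟨i.base z, hz⟩, rfl, ?_⟩
    have : IsClosedImmersion (i ∣_ U) := inferInstance
    obtain ⟨P, α, hP, hα⟩ := hZ'
    have h1 := pcAll_push_of_spRep (i ∣_ U) (pcAll_pushO_restrict i hO U) P hP m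
    have h2 := isPC_of_conn _ (conn_map (pushforward (i ∣_ U)) α m hα) h1
    exact isPC_of_iso ((pushRestrictDIso i U).app E).symm h2
  · have hcl : IsClosed (Set.range i.base) := i.isClosedEmbedding.isClosed_range
    let U : X.Opens := ⟨(Set.range i.base)ᶜ, hcl.isOpen_compl⟩
    refine ⟨U, U.ι, inferInstance, ⟨x, hx⟩, rfl, ?_⟩
    have : IsClosedImmersion (i ∣_ U) := inferInstance
    have : IsEmpty ↥(i ⁻¹ᵁ U : Scheme.{u}) := ⟨fun z => z.2 ⟨z.1, rfl⟩⟩
    have hz : IsZero ((DCoh.restrictD (i ⁻¹ᵁ U).ι).obj E) := isZero_D_of_isEmpty _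
    have h0 : IsZero ((DCoh.restrictD U.ι).obj ((pushforward i).mapDerivedCategory.obj E)) :=
      IsZero.of_iso ((pushforward (i ∣_ U)).mapDerivedCategory.map_isZero hz)
        ((pushRestrictDIso i U).app E)
    exact pcAll_of_isZero _ h0 m

end Forward

end Groth.Agent.R2.H28.PCPush
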