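import Groth.Agent.R2.H28RGammaZ
import Groth.Agent.R2.H28TripleSplit
import Groth.Agent.Lib.Helper23TensorQCoh

/-!
# `Rj_*` and `j^*` between supported objects (helper28)
-/

set_option autoImplicit false
set_option linter.style.haveILetI false
universe w v u
open CategoryTheory CategoryTheory.Limits AlgebraicGeometry TopologicalSpace Opposite ZeroObject

namespace Groth.Agent.R2.H28.RGammaZ

open Groth.Agent.Lib.Helper1.Sky Groth.Agent.Lib.Helper1.StalkTensor
  Groth.Agent.R2.H28.DerBase Groth.Agent.R2.H28.Support Groth.Agent.R2.H28.GlueTwo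
  Groth.Agent.Lib.Helper17.KInj CategoryTheory.Pretriangulated

attribute [local instance] HasDerivedCategory.standard

section SuppRestrict

variable {X Y : Scheme.{u}}

/-- the support of the cohomology sheaves of a restriction -/
lemma support_restrictD_subset (j : X ⟶ Y) [IsOpenImmersion j] (E : DCoh.D Y) (i : ℤ) :
    CohB1.support (DCoh.HD ((DCoh.restrictD j).obj E) i) ⊆
      j.base ⁻¹' CohB1.support (DCoh.HD E i) := by
  intro x hx hsub
  apply hx
  have e1 := (Scheme.Modules.toPresheaf X ⋙ TopCat.Presheaf.stalkFunctor Ab.{u} x).mapIso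
    (Groth.Agent.Lib.Helper17.AdjWay.homologyIso (Scheme.Modules.restrictFunctor j) E i)
  have e2 := (Scheme.Modules.restrictStalkNatIso j x).app (DCoh.HD E i)
  exact @Equiv.subsingleton _ _ ((e1 ≪≫ e2).addCommGroupIsoToAddEquiv.toEquiv) hsub

/-- restriction preserves quasi-coherence of the cohomology sheaves -/
lemma isQCohD_restrictD (j : X ⟶ Y) [IsOpenImmersion j] (E : DCoh.D Y) (hE : DCoh.IsQCohD E) :
    DCoh.IsQCohD ((DCoh.restrictD j).obj E) := by
  intro i
  haveI : (DCoh.HD E i).IsQuasicoherent := hE i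
  exact Groth.Agent.Lib.Helper23.TensorQCoh.isQuasicoherent_of_iso
    (Groth.Agent.Lib.Helper17.AdjWay.homologyIso (Scheme.Modules.restrictFunctor j) E i).symm

end SuppRestrict

section Part1

variable {X Xbar : Scheme.{u}} (j : X ⟶ Xbar)

/-- `Rj_* F` is supported on the closure of `j(Z)` if `F` is supported on `Z` -/
lemma isSuppD_rpush (U : X.Opens) (U' : Xbar.Opens)
    (hU' : (U' : Set Xbar) = (closure (j.base '' ((U : Set X)ᶜ)))ᶜ)
    [DCoh.HasRpush j] (F : DCoh.D X) (hF : CxOX.IsSuppD U.ι F) :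
    CxOX.IsSuppD U'.ι ((DCoh.Rpush j).obj F) := by
  haveI := Groth.Agent.R2.H28.HasRpush.hasRpush (j ∣_ U')
  obtain ⟨e⟩ := Groth.Agent.S6508.result j U'
  have hz1 : IsZero ((DCoh.restrictD (j ⁻¹ᵁ U').ι).obj F) := by
    refine isZero_restrictD_of_support (j ⁻¹ᵁ U') F ((U : Set X)ᶜ) ?_ ?_
    · intro i
      refine (hF i).trans ?_
      rw [Scheme.Opens.range_ι]
    · intro y hy
      have h1 : j.base y.1 ∈ (U' : Set Xbar) := y.2
      rw [hU'] at h1
      exact h1 (subset_closure ⟨y.1, hy, rfl⟩)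
  have hz2 : IsZero ((DCoh.restrictD U'.ι).obj ((DCoh.Rpush j).obj F)) :=
    IsZero.of_iso (isZero_rpush_obj _ _ hz1) (e.app F)
  intro i
  refine (support_subset_of_isZero_restrictD U' _ hz2 i).trans ?_
  rw [Scheme.Opens.range_ι]

/-- the unit of `t^* ⊣ t_*` is a monomorphism on the image of `j_*` when `j` factors through `t` -/
lemma mono_unit_pushforward (T : Xbar.Opens) (hT : Set.range j.base ⊆ (T : Set Xbar))
    (M : X.Modules) :
    Mono ((Scheme.Modules.restrictAdjunction T.ι).unit.app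
      ((Scheme.Modules.pushforward j).obj M)) := by
  have hrange : Set.range j.base ⊆ Set.range T.ι.base := by
    rw [Scheme.Opens.range_ι]; exact hT
  let j' : X ⟶ (T : Scheme.{u}) := IsOpenImmersion.lift T.ι j hrange
  have hfac : j' ≫ T.ι = j := IsOpenImmersion.lift_fac _ _ _
  let e : (Scheme.Modules.pushforward j).obj M ≅
      (Scheme.Modules.pushforward T.ι).obj ((Scheme.Modules.pushforward j').obj M) :=
    ((Scheme.Modules.pushforwardCongr hfac).app M).symm ≪≫
      ((Scheme.Modules.pushforwardComp j' T.ι).app M).symm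
  let adj := Scheme.Modules.restrictAdjunction T.ι
  haveI h1 : Mono (adj.unit.app ((Scheme.Modules.pushforward T.ι).obj
      ((Scheme.Modules.pushforward j').obj M))) :=
    mono_of_mono_fac (adj.right_triangle_components ((Scheme.Modules.pushforward j').obj M))
  have h2 : adj.unit.app ((Scheme.Modules.pushforward j).obj M) =
      e.hom ≫ adj.unit.app ((Scheme.Modules.pushforward T.ι).obj
        ((Scheme.Modules.pushforward j').obj M)) ≫
        (Scheme.Modules.restrictFunctor T.ι ⋙ Scheme.Modules.pushforward T.ι).map e.inv := by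
    have := adj.unit.naturality e.inv
    simp only [Functor.id_obj, Functor.id_map] at this
    rw [← this, Iso.hom_inv_id_assoc]
  rw [h2]
  infer_instance

/-- `RΓ_{Z̄ ∖ j(X)}(Rj_* F) = 0` -/
lemma isZero_rgammaZ_rpush [IsOpenImmersion j] (T : Xbar.Opens) (hT : Set.range j.base ⊆ (T : Set Xbar))
    [DCoh.HasRpush j] [CxOX.HasRgammaZ T.ι] (F : DCoh.D X) :
    IsZero ((CxOX.RgammaZ T.ι).obj ((DCoh.Rpush j).obj F)) := by
  obtain ⟨I, hI, -, ⟨eI⟩⟩ := Groth.Agent.R2.H28.MVScheme.exists_resolution F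
  haveI := hI
  haveI := isKInjective_pushforward_open j I
  have e : (CxOX.RgammaZ T.ι).obj ((DCoh.Rpush j).obj F) ≅
      DerivedCategory.Q.obj (((DCoh.gammaZ T.ι).mapHomologicalComplex (ComplexShape.up ℤ)).obj
        (((Scheme.Modules.pushforward j).mapHomologicalComplex (ComplexShape.up ℤ)).obj I)) :=
    (CxOX.RgammaZ T.ι).mapIso ((DCoh.Rpush j).mapIso eI.symm ≪≫ (rpushIso j I).symm) ≪≫
      (rgammaZIso T.ι _).symm
  refine IsZero.of_iso (DerivedCategory.Q.map_isZero ?_) e
  refine isZero_of_forall_isZero_X _ (fun n => ?_)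
  haveI := mono_unit_pushforward j T hT (I.X n)
  change IsZero (kernel ((Scheme.Modules.restrictAdjunction T.ι).unit.app
    ((Scheme.Modules.pushforward j).obj (I.X n))))
  exact isZero_kernel_of_mono _

end Part1

section Part3

variable {X : Scheme.{u}} (T : X.Opens)

/-- the short complex `0 → Γ_Z J → J → t_* t^* J → 0` -/
noncomputable def gzSC (J : X.Modules) : ShortComplex X.Modules :=
  ShortComplex.mk ((CxOX.gammaZι T.ι).app J)
    ((Scheme.Modules.restrictAdjunction T.ι).unit.app J) (kernel.condition _)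

lemma gzSC_shortExact (J : X.Modules) [Injective J] : (gzSC T J).ShortExact := by
  haveI : Mono (gzSC T J).f := by
    change Mono (kernel.ι ((Scheme.Modules.restrictAdjunction T.ι).unit.app J))
    infer_instance
  haveI : Epi (gzSC T J).g := by
    haveI : Mono ((Groth.Agent.R2.H28.ExtZeroMono.triple T).adj₁.counit.app
        ((Scheme.Modules.pushforward T.ι).obj ((Scheme.Modules.restrictFunctor T.ι).obj J))) :=
      Groth.Agent.R2.H28.ExtZeroMono.mono_extZero_counit T
        ((Scheme.Modules.pushforward T.ι).obj ((Scheme.Modules.restrictFunctor T.ι).obj J))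
    obtain ⟨s, hs⟩ := Groth.Agent.R2.H28.TripleSplit.exists_section_unit
      (Groth.Agent.R2.H28.ExtZeroMono.triple T) J
    haveI : IsSplitEpi (gzSC T J).g := IsSplitEpi.mk' ⟨s, hs⟩
    infer_instance
  refine ShortComplex.ShortExact.mk ?_
  exact ShortComplex.exact_of_f_is_kernel _ (kernelIsKernel _)

/-- the short complex of complexes `0 → Γ_Z I → I → t_* t^* I → 0` -/
noncomputable def gzCx (I : CochainComplex X.Modules ℤ) :
    ShortComplex (CochainComplex X.Modules ℤ) :=
  ShortComplex.mk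
    ((NatTrans.mapHomologicalComplex (CxOX.gammaZι T.ι) (ComplexShape.up ℤ)).app I)
    ((NatTrans.mapHomologicalComplex (Scheme.Modules.restrictAdjunction T.ι).unit
      (ComplexShape.up ℤ)).app I)
    (by
      refine HomologicalComplex.hom_ext _ _ (fun n => ?_)
      simp only [HomologicalComplex.comp_f, NatTrans.mapHomologicalComplex_app_f,
        HomologicalComplex.zero_f]
      exact kernel.condition ((Scheme.Modules.restrictAdjunction T.ι).unit.app (I.X n)))

lemma gzCx_shortExact (I : CochainComplex X.Modules ℤ) (hI : ∀ n, Injective (I.X n)) :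
    (gzCx T I).ShortExact := by
  apply HomologicalComplex.shortExact_of_degreewise_shortExact
  intro n
  haveI := hI n
  exact gzSC_shortExact T (I.X n)

/-- if `RΓ_Z(G) = 0` then `G ≅ Rt_*(G|_T)` -/
theorem nonempty_iso_rpush_of_isZero_rgammaZ [DCoh.HasRpush T.ι] [CxOX.HasRgammaZ T.ι]
    (G : DCoh.D X) (hz : IsZero ((CxOX.RgammaZ T.ι).obj G)) :
    Nonempty (G ≅ (DCoh.Rpush T.ι).obj ((DCoh.restrictD T.ι).obj G)) := by
  obtain ⟨I, hI, hinj, ⟨eI⟩⟩ := Groth.Agent.R2.H28.MVScheme.exists_resolution G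
  haveI := hI
  haveI := isKInjective_restrict T I
  have hS := gzCx_shortExact T I hinj
  have hT := DerivedCategory.triangleOfSES_distinguished hS
  have hz1 : IsZero (DerivedCategory.Q.obj (gzCx T I).X₁) :=
    IsZero.of_iso hz (rgammaZIso T.ι I ≪≫ (CxOX.RgammaZ T.ι).mapIso eI)
  have hiso : IsIso (DerivedCategory.Q.map (gzCx T I).g) :=
    (Triangle.isZero₁_iff_isIso₂ _ hT).1 hz1
  let e3 : DerivedCategory.Q.obj (((𝟭 X.Modules).mapHomologicalComplex (ComplexShape.up ℤ)).obj I) ≅
      DerivedCategory.Q.obj (((Scheme.Modules.restrictFunctor T.ι ⋙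
        Scheme.Modules.pushforward T.ι).mapHomologicalComplex (ComplexShape.up ℤ)).obj I) :=
    @asIso _ _ _ _ (DerivedCategory.Q.map (gzCx T I).g) hiso
  let M : DCoh.D (T : Scheme.{u}) := DerivedCategory.Q.obj
    (((Scheme.Modules.restrictFunctor T.ι).mapHomologicalComplex (ComplexShape.up ℤ)).obj I)
  let eM : M ≅ (DCoh.restrictD T.ι).obj G :=
    ((Scheme.Modules.restrictFunctor T.ι).mapDerivedCategoryFactors.app I).symm ≪≫
      (DCoh.restrictD T.ι).mapIso eI
  exact ⟨eI.symm ≪≫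
    DerivedCategory.Q.mapIso ((Functor.mapHomologicalComplexIdIso _ (ComplexShape.up ℤ)).app I).symm ≪≫
    e3 ≪≫
    DerivedCategory.Q.mapIso ((compCxIso (Scheme.Modules.restrictFunctor T.ι)
      (Scheme.Modules.pushforward T.ι)).app I) ≪≫
    rpushIso T.ι _ ≪≫ (DCoh.Rpush T.ι).mapIso eM⟩

end Part3

section Main66

variable {X Xbar : Scheme.{u}} (j : X ⟶ Xbar) [IsOpenImmersion j] (U : X.Opens)
  (U' T : Xbar.Opens)

/-- the unit `G ⟶ Rj_* j^* G` is invertible for `G` supported on `Z̄` with `RΓ_{Z̄ ∖ j(X)}(G) = 0` -/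
theorem isIso_unit_of_isSuppD (hT : (T : Set Xbar) = (U' : Set Xbar) ∪ Set.range j.base)
    [DCoh.HasRpush j] [CxOX.HasRgammaZ T.ι] (adj : DCoh.restrictD j ⊣ DCoh.Rpush j)
    (G : DCoh.D Xbar) (hG : CxOX.IsSuppD U'.ι G) (hz : IsZero ((CxOX.RgammaZ T.ι).obj G)) :
    IsIso (adj.unit.app G) := by
  haveI := Groth.Agent.R2.H28.HasRpush.hasRpush T.ι
  have hrange : Set.range j.base ⊆ Set.range T.ι.base := by
    rw [Scheme.Opens.range_ι, hT]; exact Set.subset_union_right
  let j' : X ⟶ (T : Scheme.{u}) := IsOpenImmersion.lift T.ι j hrange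
  have hfac : j' ≫ T.ι = j := IsOpenImmersion.lift_fac _ _ _
  haveI : IsOpenImmersion j' := by
    haveI : IsOpenImmersion (j' ≫ T.ι) := by rw [hfac]; infer_instance
    exact IsOpenImmersion.of_comp j' T.ι
  haveI := Groth.Agent.R2.H28.HasRpush.hasRpush j'
  obtain ⟨e1⟩ := nonempty_iso_rpush_of_isZero_rgammaZ T G hz
  let T'' : Set (T : Scheme.{u}) := T.ι.base ⁻¹' ((U' : Set Xbar)ᶜ)
  have hcl : IsClosed T'' := (U'.isOpen.isClosed_compl).preimage T.ι.continuous
  have hsub : T'' ⊆ Set.range j'.base := by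
    intro y hy
    have hyT : T.ι.base y ∈ (T : Set Xbar) := y.2
    rw [hT] at hyT
    rcases hyT with h | ⟨x, hx⟩
    · exact absurd h hy
    · refine ⟨x, ?_⟩
      apply T.ι.isOpenEmbedding.injective
      rw [← hx, ← hfac]
      rfl
  have hM : ∀ i : ℤ, CohB1.support (DCoh.HD ((DCoh.restrictD T.ι).obj G) i) ⊆ T'' := fun i =>
    (support_restrictD_subset T.ι G i).trans
      (Set.preimage_mono ((hG i).trans (by rw [Scheme.Opens.range_ι])))
  obtain ⟨N, ⟨e2⟩⟩ := exists_iso_rpush_of_support j' T'' hcl hsub _ hM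
  obtain ⟨e3⟩ := exists_rpush_comp_iso j' T.ι j hfac N
  exact isIso_unit_app_of_iso j adj G N (e1 ≪≫ (DCoh.Rpush T.ι).mapIso e2 ≪≫ e3)

/-- `j^* G` is supported on `Z` when `G` is supported on the closure of `j(Z)` -/
lemma isSuppD_restrictD (hU' : (U' : Set Xbar) = (closure (j.base '' ((U : Set X)ᶜ)))ᶜ)
    (G : DCoh.D Xbar) (hG : CxOX.IsSuppD U'.ι G) :
    CxOX.IsSuppD U.ι ((DCoh.restrictD j).obj G) := by
  intro i x hx
  have h1 := support_restrictD_subset j G i hx
  have h2 := hG i h1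
  rw [Scheme.Opens.range_ι] at h2 ⊢
  intro hxU
  apply h2
  rw [hU']
  intro hcl
  have hopen : IsOpen (j.base '' (U : Set X)) := j.isOpenEmbedding.isOpenMap _ U.isOpen
  obtain ⟨z, hz1, hz2⟩ := mem_closure_iff.1 hcl _ hopen ⟨x, hxU, rfl⟩
  obtain ⟨a, ha, rfl⟩ := hz1
  obtain ⟨b, hb, hab⟩ := hz2
  have hba := j.isOpenEmbedding.injective hab
  subst hba
  exact hb ha

/-- `Rj_*` and `j^*` between objects supported on `Z` and objects supported on `Z̄` with vanishing
`RΓ_{Z̄ ∖ j(X)}` -/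
theorem rpush_openImmersion_equiv_supported
    (hU' : (U' : Set Xbar) = (closure (j.base '' ((U : Set X)ᶜ)))ᶜ)
    (hT : (T : Set Xbar) = (U' : Set Xbar) ∪ Set.range j.base)
    [DCoh.HasRpush j] [CxOX.HasRgammaZ T.ι] (adj : DCoh.restrictD j ⊣ DCoh.Rpush j) :
    (∀ F : DCoh.D X, DCoh.IsQCohD F → CxOX.IsSuppD U.ι F →
        CxOX.IsSuppD U'.ι ((DCoh.Rpush j).obj F) ∧
          IsZero ((CxOX.RgammaZ T.ι).obj ((DCoh.Rpush j).obj F))) ∧
    (∀ F : DCoh.D X, IsIso (adj.counit.app F)) ∧
    (∀ G : DCoh.D Xbar, DCoh.IsQCohD G → CxOX.IsSuppD U'.ι G →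
        IsZero ((CxOX.RgammaZ T.ι).obj G) →
        IsIso (adj.unit.app G) ∧ DCoh.IsQCohD ((DCoh.restrictD j).obj G) ∧
          CxOX.IsSuppD U.ι ((DCoh.restrictD j).obj G)) := by
  refine ⟨fun F _ hF => ⟨isSuppD_rpush j U U' hU' F hF, ?_⟩, ?_, fun G hG hsG hz => ⟨?_, ?_, ?_⟩⟩
  · exact isZero_rgammaZ_rpush j T (by rw [hT]; exact Set.subset_union_right) F
  · haveI := isIso_counit_of_adj j adj
    intro F
    infer_instance
  · exact isIso_unit_of_isSuppD j U' T hT adj G hsG hz
  · exact isQCohD_restrictD j G hG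
  · exact isSuppD_restrictD j U U' hU' G hsG

end Main66

end Groth.Agent.R2.H28.RGammaZ
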