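import Mathlib
import Groth.Agent.R2.H4FlatFP
import Groth.Agent.R2.H4Perf
import Groth.Agent.R2.H4LocLift
set_option backward.isDefEq.respectTransparency.types false

/-!
# Finite flat amplitude and pseudo-coherence give perfectness (helper4, round 2)
-/

set_option autoImplicit false
universe u
open CategoryTheory CategoryTheory.Limits AlgebraicGeometry HomologicalComplex
  CategoryTheory.Pretriangulated

attribute [local instance] HasDerivedCategory.standard

namespace Groth.Agent.R2.H4.FlatPerf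

open DerivedCategory Groth.Agent.R2.H4.Conn Groth.Agent.R2.H4.LocHtpy Groth.Agent.R2.H4.Perf
  Groth.Agent.R2.H4.Flat

variable {X : Scheme.{u}}

lemma quasiIsoAt_of_conn {P F : CochainComplex X.Modules ℤ} (β : P ⟶ F) (m : ℤ)
    (hβ : Conn m (Q.map β)) (i : ℤ) (hi : m < i) : QuasiIsoAt β i := by
  rw [quasiIsoAt_iff_isIso_homologyMap]
  exact (NatIso.isIso_map_iff (DerivedCategory.homologyFunctorFactors X.Modules i) β).1
    (hβ.1 i hi)

/-- the key step: a complex of flat modules in degrees `[a, b]` receiving an `(a-1)`-connected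
map from a strictly perfect complex is quasi-isomorphic to a strictly perfect complex. -/
theorem spRep_of_flat_of_conn {P F : CochainComplex X.Modules ℤ}
    (hP : DCoh.IsStrictlyPerfect P) (a b : ℤ) (hF : DCoh.VanishesOutside F a b)
    (hfl : ∀ i, FlatMod.IsFlat (F.X i)) (β : P ⟶ F) (hβ : Conn (a - 1) (Q.map β)) :
    SPRep (Q.obj F) := by
  obtain ⟨⟨a₀, b₀, hv⟩, hflf⟩ := hP
  have : F.IsStrictlyGE a := (F.isStrictlyGE_iff a).2 (fun i hi => hF i (Or.inl hi))
  have h1 : QuasiIso (CochainComplex.truncGEMap β a) := by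
    rw [CochainComplex.quasiIso_truncGEMap_iff]
    intro i hi
    exact quasiIsoAt_of_conn β (a - 1) hβ i (by omega)
  let P' := P.truncGE a
  let β' : P' ⟶ F := CochainComplex.truncGEMap β a ≫ inv (F.πTruncGE a)
  have h2 : QuasiIso β' := by
    dsimp only [β']
    infer_instance
  let C' := CochainComplex.mappingCone β'
  have hex : ∀ i, C'.ExactAt i := by
    intro i
    rw [exactAt_iff_isZero_homology]
    refine isZero_homology_mappingCone β' (i - 1) (fun j _ => ?_) ?_ i (by omega)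
    · exact (quasiIsoAt_iff_isIso_homologyMap β' j).1 inferInstance
    · have : IsIso (homologyMap β' (i - 1)) :=
        (quasiIsoAt_iff_isIso_homologyMap β' (i - 1)).1 inferInstance
      infer_instance
  have hP'X : ∀ i, a < i → Nonempty (P'.X i ≅ P.X i) := fun i hi => ⟨P.truncGEXIso a i hi⟩
  have hP'0 : ∀ i, i < a → IsZero (P'.X i) := fun i hi =>
    CochainComplex.isZero_of_isStrictlyGE P' a i hi
  -- vanishing of the cone in high degrees
  have hC'b : ∀ i, max (max b b₀) a < i → IsZero (C'.X i) := by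
    intro i hi
    have h3 := le_max_left (max b b₀) a
    have h4 := le_max_right (max b b₀) a
    have h5 := le_max_left b b₀
    have h6 := le_max_right b b₀
    rw [CochainComplex.mappingCone.isZero_X_iff]
    constructor
    · obtain ⟨e⟩ := hP'X (i + 1) (by omega)
      exact (hv (i + 1) (Or.inr (by omega))).of_iso e
    · exact hF i (Or.inr (by omega))
  -- flatness of the terms of the cone in degrees `≥ a`
  have hC'fl : ∀ i, a - 1 < i → FlatMod.IsFlat (C'.X i) := by
    intro i hi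
    have := HomologicalComplex.HasHomotopyCofiber.hasBinaryBiproduct β' i (i + 1) rfl
    refine isFlat_of_iso (HomologicalComplex.homotopyCofiber.XIsoBiprod β' i (i + 1) rfl).symm ?_
    refine isFlat_biprod _ _ ?_ (hfl i)
    obtain ⟨e⟩ := hP'X (i + 1) (by omega)
    exact isFlat_of_iso e.symm (isFlat_of_isFinLocFree' _ (hflf (i + 1)))
  have h7 : FlatMod.IsFlat (C'.opcycles (a - 1)) :=
    isFlat_opcycles' C' _ hC'b (a - 1) hC'fl (fun i _ => hex i)
  -- identification of `opcycles (a - 1)` of the cone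
  have h8 : IsZero (C'.X (a - 2)) := by
    rw [CochainComplex.mappingCone.isZero_X_iff]
    exact ⟨hP'0 _ (by omega), hF _ (Or.inl (by omega))⟩
  have h9 : IsIso (C'.pOpcycles (a - 1)) :=
    C'.isIso_pOpcycles (a - 2) (a - 1) (by simp; omega) (h8.eq_of_src _ _)
  have h10 : FlatMod.IsFlat (C'.X (a - 1)) := isFlat_of_iso (asIso (C'.pOpcycles (a - 1))).symm h7
  have hrel : (ComplexShape.up ℤ).Rel (a - 1) a := by simp
  have := HomologicalComplex.HasHomotopyCofiber.hasBinaryBiproduct β' (a - 1) a hrel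
  have h11 : FlatMod.IsFlat (P'.X a) :=
    isFlat_of_iso ((HomologicalComplex.homotopyCofiber.XIsoBiprod β' (a - 1) a hrel) ≪≫
      (isoBiprodZero (hF (a - 1) (Or.inl (by omega)))).symm) h10
  have h12 : FlatMod.IsFlat (P.opcycles a) := isFlat_of_iso (P.truncGEXIsoOpcycles a) h11
  have h13 : FlatMod.IsFinLocFree (P.opcycles a) :=
    isFinLocFree_of_isCokernel (P.d (a - 1) a) (P.pOpcycles a) (P.d_pOpcycles (a - 1) a)
      (P.opcyclesIsCokernel (a - 1) a (by simp)) (hflf _) (hflf _) h12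
  have hP' : DCoh.IsStrictlyPerfect P' := by
    refine ⟨⟨a, max a b₀, fun i hi => ?_⟩, fun i => ?_⟩
    · rcases hi with hi | hi
      · exact hP'0 i hi
      · have h3 := le_max_left a b₀
        have h4 := le_max_right a b₀
        obtain ⟨e⟩ := hP'X i (by omega)
        exact (hv i (Or.inr (by omega))).of_iso e
    · rcases lt_trichotomy i a with hi | rfl | hi
      · exact isFinLocFree_of_isZero _ (hP'0 i hi)
      · exact isFinLocFree_of_iso (P.truncGEXIsoOpcycles i).symm h13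
      · obtain ⟨e⟩ := hP'X i hi
        exact isFinLocFree_of_iso e.symm (hflf i)
  have h14 : IsIso (Q.map β') := (DerivedCategory.isIso_Q_map_iff_quasiIso (C := X.Modules) β').2 h2
  exact ⟨P', hP', ⟨asIso (Q.map β')⟩⟩

/-- local form of S0913 for a complex of flat modules. -/
theorem loc_spRep_of_flat_of_loc_spApprox (F : CochainComplex X.Modules ℤ) (a b : ℤ)
    (hF : DCoh.VanishesOutside F a b) (hfl : ∀ i, FlatMod.IsFlat (F.X i))
    (h2 : Loc (fun U (K : DCoh.D U) => SPApprox (a - 1) K) (Q.obj F)) :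
    Loc (fun U (K : DCoh.D U) => SPRep K) (Q.obj F) := by
  apply loc_of_loc_restrict isLocalPred_spRep
  intro x
  obtain ⟨U, j, hj, y, hy, P₀, α₀, ⟨P, hP, ⟨eP⟩⟩, hα₀⟩ := h2 x
  refine ⟨U, j, hj, y, hy, ?_⟩
  let FU := (resC j).obj F
  let α : Q.obj P ⟶ Q.obj FU := eP.hom ≫ α₀ ≫ (restrictDQIso j F).hom
  have hα : Conn (a - 1) α :=
    (Conn.of_isIso _ eP.hom).comp (hα₀.comp (Conn.of_isIso _ (restrictDQIso j F).hom))
  obtain ⟨V, hyV, hV⟩ := exists_local_chain_map hP α y
  obtain ⟨β, hβ⟩ := hV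
  refine ⟨V, V.ι, inferInstance, ⟨y, hyV⟩, rfl, ?_⟩
  have h3 : Conn (a - 1) ((DCoh.restrictD V.ι).map α) := conn_map _ α (a - 1) hα
  have h4 : Conn (a - 1) (Q.map β) := by
    have e1 : Q.map β = (Scheme.Modules.restrictFunctor V.ι).mapDerivedCategoryFactors.inv.app P ≫
        (DCoh.restrictD V.ι).map α ≫
          (Scheme.Modules.restrictFunctor V.ι).mapDerivedCategoryFactors.hom.app FU := by
      rw [hβ]
      simp
    rw [e1]
    exact (Conn.of_isIso _ _).comp (h3.comp (Conn.of_isIso _ _))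
  have h5 : SPRep (Q.obj ((resC V.ι).obj FU)) :=
    spRep_of_flat_of_conn (isStrictlyPerfect_resC V.ι hP) a b
      (fun i hi => (Scheme.Modules.restrictFunctor V.ι).map_isZero
        ((Scheme.Modules.restrictFunctor j).map_isZero (hF i hi)))
      (fun i => isFlat_restrict V.ι _ (isFlat_restrict j _ (hfl i))) β h4
  exact h5.of_iso ((restrictDQIso V.ι FU).symm ≪≫
    (DCoh.restrictD V.ι).mapIso (restrictDQIso j F).symm)

/-- S0913. -/
theorem isPerfect_of_flatAmplitude_of_pseudoCoherent (E : DCoh.D X) (a b : ℤ)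
    (h1 : DCoh.HasFlatAmplitudeIn a b E) (h2 : DCoh.IsPseudoCoherentD (a - 1) E) :
    DCoh.IsPerfect E := by
  obtain ⟨F, hF, hfl, ⟨e⟩⟩ := h1
  rw [isPerfect_iff]
  rw [isPseudoCoherentD_iff] at h2
  refine Loc.of_iso isLocalPred_spRep e ?_
  exact loc_spRep_of_flat_of_loc_spApprox F a b hF hfl
    (Loc.of_iso (isLocalPred_spApprox (a - 1)) e.symm h2)

/-- a local property restricts to open subschemes. -/
lemma Loc.restrict {Φ : ∀ (U : Scheme.{u}), DCoh.D U → Prop} (hΦ : IsLocalPred Φ)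
    {U : Scheme.{u}} (j : U ⟶ X) [IsOpenImmersion j] {K : DCoh.D X} (h : Loc Φ K) :
    Loc Φ ((DCoh.restrictD j).obj K) := by
  intro y
  obtain ⟨U₁, j₁, hj₁, y₁, hy₁, hK⟩ := h (j y)
  obtain ⟨w, hw1, hw2⟩ := Scheme.Pullback.exists_preimage_pullback y₁ y hy₁
  refine ⟨pullback j₁ j, pullback.snd j₁ j, inferInstance, w, hw2, ?_⟩
  have h1 := hΦ.of_fac (pullback.fst j₁ j) j₁ (pullback.snd j₁ j ≫ j) pullback.condition K hK
  exact hΦ.of_iso ((restrictDComp _ _).app K) h1

/-- perfect objects are pseudo-coherent. -/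
lemma isPseudoCoherentD_of_isPerfect (E : DCoh.D X) (h : DCoh.IsPerfect E) (m : ℤ) :
    DCoh.IsPseudoCoherentD m E := by
  rw [isPerfect_iff] at h
  rw [isPseudoCoherentD_iff]
  intro x
  obtain ⟨U, j, hj, y, hy, hK⟩ := h x
  exact ⟨U, j, hj, y, hy, hK.spApprox m⟩

/-- S0914. -/
theorem isPerfect_iff_pseudoCoherent_locFiniteTorDim (E : DCoh.D X) :
    DCoh.IsPerfect E ↔ (∀ m : ℤ, DCoh.IsPseudoCoherentD m E) ∧ DCoh.LocHasFiniteTorDim E := by
  constructor
  · intro h
    refine ⟨isPseudoCoherentD_of_isPerfect E h, ?_⟩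
    rw [isPerfect_iff, loc_iff_opens isLocalPred_spRep] at h
    intro x
    obtain ⟨V, hx, P, ⟨⟨a, b, hv⟩, hflf⟩, ⟨e⟩⟩ := h x
    refine ⟨V, a, b, hx, fun F' ⟨eF'⟩ => ⟨P, hv, fun i => isFlat_of_isFinLocFree' _ (hflf i), ⟨?_⟩⟩⟩
    exact e ≪≫ (DCoh.restrictD V.ι).mapIso eF'.symm ≪≫ restrictDQIso V.ι F'
  · rintro ⟨h1, h2⟩
    rw [isPerfect_iff]
    apply loc_of_loc_restrict isLocalPred_spRep
    intro x
    obtain ⟨V, a, b, hx, hV⟩ := h2 x
    have h3 := hV (Q.objPreimage E) ⟨Q.objObjPreimageIso E⟩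
    have e : Q.obj ((DCoh.restrictCx V).obj (Q.objPreimage E)) ≅ (DCoh.restrictD V.ι).obj E :=
      (restrictDQIso V.ι _).symm ≪≫ (DCoh.restrictD V.ι).mapIso (Q.objObjPreimageIso E)
    obtain ⟨F, hF, hfl, ⟨eF⟩⟩ := h3
    have h4 : DCoh.IsPerfect ((DCoh.restrictD V.ι).obj E) := by
      refine isPerfect_of_flatAmplitude_of_pseudoCoherent _ a b ⟨F, hF, hfl, ⟨eF ≪≫ e⟩⟩ ?_
      rw [isPseudoCoherentD_iff]
      exact Loc.restrict (isLocalPred_spApprox (a - 1)) V.ι
        ((isPseudoCoherentD_iff (a - 1) E).1 (h1 (a - 1)))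
    rw [isPerfect_iff] at h4
    obtain ⟨U', j', hj', y', hy', hK⟩ := h4 ⟨x, hx⟩
    exact ⟨V, V.ι, inferInstance, ⟨x, hx⟩, rfl, U', j', hj', y', hy', hK⟩

end Groth.Agent.R2.H4.FlatPerf
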