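import Groth.Agent.R2.H28RpushQCohA
import Groth.Agent.S0028
import Groth.Agent.Lib.Helper23ModAbBridge
import Groth.Agent.Lib.Helper23QCohLocal
import Groth.Agent.Lib.Helper21DerPost
import Groth.Agent.Lib.Helper23DerComp

/-!
# Higher direct images of quasi-coherent modules, part B (helper28)

Base case (affine morphisms), transport along isomorphisms of the source, and the induction over
quasi-compact opens.
-/

set_option autoImplicit false
set_option linter.style.haveILetI false
universe u
open CategoryTheory CategoryTheory.Limits AlgebraicGeometry TopologicalSpace Opposite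

namespace Groth.Agent.R2.H28.RpushQCoh

open Groth.Agent.R2.H28.RpushRestrict

theorem isZero_of_faithful_obj {C D : Type*} [Category C] [Category D] [HasZeroMorphisms C]
    [HasZeroMorphisms D] (G : C ⥤ D) [G.Faithful] [G.PreservesZeroMorphisms] (Z : C)
    (h : IsZero (G.obj Z)) : IsZero Z := by
  rw [IsZero.iff_id_eq_zero]
  apply G.map_injective
  rw [G.map_id, G.map_zero]
  exact (IsZero.iff_id_eq_zero _).mp h

/-- base case: affine morphisms -/
theorem good_of_isAffineHom {W Y : Scheme.{u}} (g : W ⟶ Y) [IsAffineHom g] : Good g := by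
  intro q N hN
  haveI : N.IsQuasicoherent := hN
  rcases q with _ | q
  · haveI : PreservesFiniteLimits (Scheme.Modules.pushforward g) := inferInstance
    exact isQCoh_of_iso
      ((Functor.rightDerivedZeroIsoSelf (Scheme.Modules.pushforward g)).app N).symm
      (Groth.Agent.Lib.Helper23.QCohLocal.isQuasicoherent_pushforward g N)
  · have h0 := Groth.Agent.S0028.result g N (q + 1) (Nat.succ_pos q)
    obtain ⟨e⟩ := Groth.Agent.Lib.Helper23.ModAbBridge.nonempty_toAb_Rpush_iso g N (q + 1)
    have h1 : IsZero (Coh.toAb ((Coh.Rpush g (q + 1)).obj N)) := h0.of_iso e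
    exact isQCoh_of_isZero (isZero_of_faithful_obj (SheafOfModules.toSheaf _) _ h1)

section Transport

variable {W' W Y : Scheme.{u}}

/-- direct image along an isomorphism of schemes is an equivalence -/
noncomputable def pushEquiv (e : W' ⟶ W) [IsIso e] : W'.Modules ≌ W.Modules :=
  CategoryTheory.Equivalence.mk (Scheme.Modules.pushforward e) (Scheme.Modules.pushforward (inv e))
    ((Scheme.Modules.pushforwardId W').symm ≪≫
      Scheme.Modules.pushforwardCongr (by simp : 𝟙 W' = e ≫ inv e) ≪≫
      (Scheme.Modules.pushforwardComp e (inv e)).symm)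
    (Scheme.Modules.pushforwardComp (inv e) e ≪≫
      Scheme.Modules.pushforwardCongr (by simp : inv e ≫ e = 𝟙 W) ≪≫
      Scheme.Modules.pushforwardId W)

instance isEquivalence_pushforward (e : W' ⟶ W) [IsIso e] :
    (Scheme.Modules.pushforward e).IsEquivalence :=
  (pushEquiv e).isEquivalence_functor

instance preservesInjectiveObjects_pushforward_iso (e : W' ⟶ W) [IsIso e] :
    (Scheme.Modules.pushforward e).PreservesInjectiveObjects :=
  Functor.preservesInjectiveObjects_of_adjunction_of_preservesMonomorphisms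
    (pushEquiv e).symm.toAdjunction

/-- transport of `Good` along an isomorphism of the source -/
theorem good_of_iso (e : W' ⟶ W) [IsIso e] (g : W ⟶ Y) (hg : Good g) : Good (e ≫ g) := by
  intro q N hN
  haveI : N.IsQuasicoherent := hN
  let E := Scheme.Modules.pushforward e
  let G := Scheme.Modules.pushforward g
  have e1 : (Coh.Rpush (e ≫ g) q).obj N ≅ (Coh.Rpush g q).obj (E.obj N) :=
    (Groth.Agent.Lib.Helper21.DerPost.natIsoRightDerived
      (Scheme.Modules.pushforwardComp e g).symm q ≪≫
      Groth.Agent.Lib.Helper23DerComp.compIso E G q).app N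
  refine isQCoh_of_iso e1.symm (hg q _ ?_)
  exact Groth.Agent.Lib.Helper23.QCohLocal.isQuasicoherent_pushforward e N

end Transport

section Induction

variable {X Y : Scheme.{u}}

/-- transport of `Good` between open immersions with the same range -/
theorem good_of_range_eq {Z Z' : Scheme.{u}} (h : Z ⟶ X) (h' : Z' ⟶ X) [IsOpenImmersion h]
    [IsOpenImmersion h'] (hr : Set.range h' = Set.range h) (g : X ⟶ Y)
    (hg : Good (h ≫ g)) : Good (h' ≫ g) := by
  let i := IsOpenImmersion.isoOfRangeEq h' h hr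
  have : h' ≫ g = i.hom ≫ (h ≫ g) := by
    rw [← Category.assoc, IsOpenImmersion.isoOfRangeEq_hom_fac]
  rw [this]
  exact good_of_iso i.hom (h ≫ g) hg

/-- Mayer–Vietoris step, for open immersions -/
theorem mv_good' (f : X ⟶ Y) {A B C : Scheme.{u}} (a : A ⟶ X) (b : B ⟶ X) (c : C ⟶ X)
    [IsOpenImmersion a] [IsOpenImmersion b] [IsOpenImmersion c]
    (hab : Set.range a ∪ Set.range b = Set.univ)
    (hc : Set.range c = Set.range a ∩ Set.range b)
    (ha : Good (a ≫ f)) (hb : Good (b ≫ f)) (hc' : Good (c ≫ f)) : Good f := by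
  refine mv_good f a.opensRange b.opensRange ?_ ?_ ?_ ?_
  · ext x
    simp only [Opens.coe_sup, Scheme.Hom.coe_opensRange, Opens.coe_top]
    rw [hab]
  · exact good_of_range_eq a a.opensRange.ι (by rw [Scheme.Opens.range_ι]; rfl) f ha
  · exact good_of_range_eq b b.opensRange.ι (by rw [Scheme.Opens.range_ι]; rfl) f hb
  · refine good_of_range_eq c (a.opensRange ⊓ b.opensRange).ι ?_ f hc'
    rw [Scheme.Opens.range_ι, hc]
    rfl

lemma range_homOfLE {U V : X.Opens} (e : U ≤ V) :
    Set.range (X.homOfLE e) = V.ι ⁻¹' (U : Set X) := by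
  ext x
  constructor
  · rintro ⟨y, rfl⟩
    show V.ι (X.homOfLE e y) ∈ U
    have h : V.ι (X.homOfLE e y) = U.ι y := by
      rw [← Scheme.Hom.comp_apply, Scheme.homOfLE_ι]
    rw [h]
    exact y.2
  · intro hx
    let y : (U : Scheme.{u}) := ⟨V.ι x, hx⟩
    refine ⟨y, ?_⟩
    apply V.ι.injective
    have h : V.ι (X.homOfLE e y) = U.ι y := by
      rw [← Scheme.Hom.comp_apply, Scheme.homOfLE_ι]
    rw [h]
    rfl

/-- Lemma A: quasi-compact opens of a scheme with affine diagonal, over an affine base. -/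
theorem good_inf_of_isCompact {W : Scheme.{u}}
    [IsAffineHom (pullback.diagonal (terminal.from W))] [IsAffine Y] (g : W ⟶ Y)
    (S : W.Opens) (hS : IsCompact (S : Set W)) :
    ∀ V : W.Opens, IsAffineOpen V → Good ((S ⊓ V).ι ≫ g) := by
  refine compact_open_induction_on
    (P := fun S : W.Opens => ∀ V : W.Opens, IsAffineOpen V → Good ((S ⊓ V).ι ≫ g)) S hS ?_ ?_
  · intro V hV
    have h : IsAffineOpen ((⊥ : W.Opens) ⊓ V) := by
      rw [bot_inf_eq]; exact isAffineOpen_bot W
    haveI : IsAffine (((⊥ : W.Opens) ⊓ V : W.Opens) : Scheme.{u}) := h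
    exact good_of_isAffineHom _
  · intro S _ U IH V hV
    have hA : S ⊓ V ≤ (S ⊔ U.1) ⊓ V := inf_le_inf_right V le_sup_left
    have hB : U.1 ⊓ V ≤ (S ⊔ U.1) ⊓ V := inf_le_inf_right V le_sup_right
    have hC : S ⊓ (U.1 ⊓ V) ≤ (S ⊔ U.1) ⊓ V :=
      le_inf (inf_le_left.trans le_sup_left) (inf_le_right.trans inf_le_right)
    have hUV : IsAffineOpen (U.1 ⊓ V) := U.2.inf hV
    refine mv_good' (((S ⊔ U.1) ⊓ V).ι ≫ g) (W.homOfLE hA) (W.homOfLE hB) (W.homOfLE hC)
      ?_ ?_ ?_ ?_ ?_
    · rw [range_homOfLE, range_homOfLE]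
      ext x
      have hx : ((S ⊔ U.1) ⊓ V).ι x ∈ (S ⊔ U.1) ⊓ V := x.2
      simp only [Set.mem_union, Set.mem_preimage, SetLike.mem_coe, Set.mem_univ, iff_true]
      rcases hx with ⟨h1 | h1, h2⟩
      · exact Or.inl ⟨h1, h2⟩
      · exact Or.inr ⟨h1, h2⟩
    · rw [range_homOfLE, range_homOfLE, range_homOfLE]
      ext x
      simp only [Set.mem_inter_iff, Set.mem_preimage, SetLike.mem_coe]
      constructor
      · rintro ⟨h1, h2, h3⟩
        exact ⟨⟨h1, h3⟩, ⟨h2, h3⟩⟩
      · rintro ⟨⟨h1, h3⟩, ⟨h2, -⟩⟩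
        exact ⟨h1, h2, h3⟩
    · rw [← Category.assoc, Scheme.homOfLE_ι]
      exact IH V hV
    · rw [← Category.assoc, Scheme.homOfLE_ι]
      haveI : IsAffine ((U.1 ⊓ V : W.Opens) : Scheme.{u}) := hUV
      exact good_of_isAffineHom _
    · rw [← Category.assoc, Scheme.homOfLE_ι]
      exact IH (U.1 ⊓ V) hUV

/-- Lemma A': quasi-compact opens of an affine scheme, over an affine base. -/
theorem good_of_isCompact_of_isAffine {W : Scheme.{u}} [IsAffine W] [IsAffine Y] (g : W ⟶ Y)
    (S : W.Opens) (hS : IsCompact (S : Set W)) : Good (S.ι ≫ g) := by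
  have h := good_inf_of_isCompact g S hS ⊤ (isAffineOpen_top W)
  refine good_of_range_eq (S ⊓ ⊤).ι S.ι ?_ g h
  rw [Scheme.Opens.range_ι, Scheme.Opens.range_ι, inf_top_eq]

/-- Lemma B: quasi-compact opens of a quasi-separated scheme, over an affine base. -/
theorem good_of_isCompact [QuasiSeparatedSpace X] [IsAffine Y] (g : X ⟶ Y)
    (S : X.Opens) (hS : IsCompact (S : Set X)) : Good (S.ι ≫ g) := by
  refine compact_open_induction_on (P := fun S : X.Opens => Good (S.ι ≫ g)) S hS ?_ ?_
  · haveI : IsAffine ((⊥ : X.Opens) : Scheme.{u}) := isAffineOpen_bot X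
    exact good_of_isAffineHom _
  · intro S hS U IH
    have hA : S ≤ S ⊔ U.1 := le_sup_left
    have hB : U.1 ≤ S ⊔ U.1 := le_sup_right
    have hC : S ⊓ U.1 ≤ S ⊔ U.1 := inf_le_left.trans le_sup_left
    refine mv_good' ((S ⊔ U.1).ι ≫ g) (X.homOfLE hA) (X.homOfLE hB) (X.homOfLE hC)
      ?_ ?_ ?_ ?_ ?_
    · rw [range_homOfLE, range_homOfLE]
      ext x
      have hx : (S ⊔ U.1).ι x ∈ S ⊔ U.1 := x.2
      simp only [Set.mem_union, Set.mem_preimage, SetLike.mem_coe, Set.mem_univ, iff_true]
      exact hx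
    · rw [range_homOfLE, range_homOfLE, range_homOfLE]
      ext x
      simp only [Set.mem_inter_iff, Set.mem_preimage, SetLike.mem_coe]
      rfl
    · rw [← Category.assoc, Scheme.homOfLE_ι]
      exact IH
    · rw [← Category.assoc, Scheme.homOfLE_ι]
      haveI : IsAffine ((U.1 : X.Opens) : Scheme.{u}) := U.2
      exact good_of_isAffineHom _
    · rw [← Category.assoc, Scheme.homOfLE_ι]
      -- `S ⊓ U` is a quasi-compact open of the affine scheme `U`
      haveI : IsAffine ((U.1 : X.Opens) : Scheme.{u}) := U.2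
      let S' : (U.1 : Scheme.{u}).Opens := U.1.ι ⁻¹ᵁ S
      have himg : U.1.ι ''ᵁ S' = S ⊓ U.1 := by
        rw [Scheme.Hom.image_preimage_eq_opensRange_inf, Scheme.Opens.opensRange_ι, inf_comm]
      have hS' : IsCompact (S' : Set (U.1 : Scheme.{u})) := by
        rw [U.1.ι.isOpenEmbedding.isInducing.isCompact_iff]
        have h2 : (U.1.ι '' (S' : Set (U.1 : Scheme.{u}))) = ((S ⊓ U.1 : X.Opens) : Set X) :=
          congrArg (fun O : X.Opens => (O : Set X)) himg
        rw [h2]
        exact QuasiSeparatedSpace.inter_isCompact _ _ S.2 hS U.1.2 U.2.isCompact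
      have h := good_of_isCompact_of_isAffine (U.1.ι ≫ g) S' hS'
      rw [← Category.assoc] at h
      refine good_of_range_eq (S'.ι ≫ U.1.ι) (S ⊓ U.1).ι ?_ g h
      rw [Scheme.Opens.range_ι, Scheme.Hom.comp_base, TopCat.coe_comp, Set.range_comp,
        Scheme.Opens.range_ι]
      exact (congrArg (fun O : X.Opens => (O : Set X)) himg).symm

end Induction

section Main

variable {X Y : Scheme.{u}}

/-- quasi-coherence can be checked on the affine opens -/
theorem isQCoh_of_forall_affine_restrict (M : Y.Modules)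
    (h : ∀ V : Y.Opens, IsAffineOpen V →
      Coh.IsQCoh ((Scheme.Modules.restrictFunctor V.ι).obj M)) : Coh.IsQCoh M := by
  refine Groth.Agent.Lib.Helper23.QCohLocal.isQuasicoherent_of_forall_affine M (fun V hV => ?_)
  haveI : ((Scheme.Modules.restrictFunctor V.ι).obj M).IsQuasicoherent := h V hV
  let e : (M.restrict V.ι).restrict hV.isoSpec.inv ≅ M.restrict hV.fromSpec :=
    ((Scheme.Modules.restrictFunctorComp hV.isoSpec.inv V.ι).app M).symm ≪≫
      (Scheme.Modules.restrictFunctorCongr hV.isoSpec_inv_ι).app M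
  exact isQCoh_of_iso e
    (Scheme.Modules.isQuasicoherent_restrictFunctor hV.isoSpec.inv (M.restrict V.ι))

/-- over an affine base -/
theorem good_of_isAffine [IsAffine Y] (f : X ⟶ Y) [QuasiCompact f] [QuasiSeparated f] :
    Good f := by
  haveI : CompactSpace X := QuasiCompact.compactSpace_of_compactSpace f
  haveI : QuasiSeparatedSpace X := quasiSeparatedSpace_of_quasiSeparated f
  have h := good_of_isCompact f ⊤ isCompact_univ
  have h2 := good_of_range_eq (⊤ : X.Opens).ι (𝟙 X) (by rw [Scheme.Opens.range_ι]; simp) f h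
  rwa [Category.id_comp] at h2

/-- **Higher direct images of quasi-coherent modules along a quasi-compact quasi-separated
morphism are quasi-coherent.** -/
theorem rpush_isQCoh (f : X ⟶ Y) [QuasiCompact f] [QuasiSeparated f] : Good f := by
  intro q N hN
  haveI : N.IsQuasicoherent := hN
  refine isQCoh_of_forall_affine_restrict _ (fun V hV => ?_)
  haveI : IsAffine (V : Scheme.{u}) := hV
  refine isQCoh_of_iso ((rpushRestrictIso f V q).app N).symm ?_
  exact good_of_isAffine (f ∣_ V) q _
    (Scheme.Modules.isQuasicoherent_restrictFunctor (f ⁻¹ᵁ V).ι N)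

end Main

end Groth.Agent.R2.H28.RpushQCoh
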