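import Mathlib

/-!
# Yoneda-exact functors on a pretriangulated category and a five-lemma dévissage (helper61)

* `YEx F`: the functor `F : C ⥤ D` (`C` pretriangulated, `D` preadditive) sends the first two maps of
  every distinguished triangle to a sequence which is exact after `Hom(W, -)` for every `W`.
* `YEx.of_weak`: a functor sending distinguished triangles to distinguished triangles *for some
  third map* is Yoneda-exact.
* `isIso_app_obj₂`: five lemma for a natural transformation between Yoneda-exact functors.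
* `ShIso τ K`: `τ` is an isomorphism at all shifts of `K`; closure properties.
-/

set_option autoImplicit false
universe v₁ v₂ u₁ u₂
open CategoryTheory CategoryTheory.Limits CategoryTheory.Pretriangulated

namespace Groth.Agent.R2.H61.DT1

variable {C : Type u₁} {D : Type u₂} [Category.{v₁} C] [Category.{v₂} D] [Preadditive C]
  [HasZeroObject C] [HasShift C ℤ] [∀ n : ℤ, (shiftFunctor C n).Additive] [Pretriangulated C]
  [Preadditive D]

/-- Yoneda-exactness of a functor on distinguished triangles (first two maps only). -/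
structure YEx (F : C ⥤ D) : Prop where
  zero : ∀ T ∈ distTriang C, F.map T.mor₁ ≫ F.map T.mor₂ = 0
  exact : ∀ T ∈ distTriang C, ∀ {W : D} (x : W ⟶ F.obj T.obj₂), x ≫ F.map T.mor₂ = 0 →
    ∃ y : W ⟶ F.obj T.obj₁, x = y ≫ F.map T.mor₁

lemma YEx.of_iso {F G : C ⥤ D} (e : F ≅ G) (h : YEx F) : YEx G where
  zero T hT := by
    have := h.zero T hT
    rw [← cancel_epi (e.hom.app T.obj₁), ← e.hom.naturality_assoc, ← e.hom.naturality,
      reassoc_of% this]
    simp
  exact T hT W x hx := by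
    have h1 : (x ≫ e.inv.app _) ≫ F.map T.mor₂ = 0 := by
      rw [Category.assoc, ← e.inv.naturality, reassoc_of% hx]
      simp
    obtain ⟨y, hy⟩ := h.exact T hT _ h1
    refine ⟨y ≫ e.hom.app _, ?_⟩
    rw [Category.assoc, ← e.hom.naturality, ← reassoc_of% hy]
    simp

section Weak

variable [HasZeroObject D] [HasShift D ℤ] [∀ n : ℤ, (shiftFunctor D n).Additive] [Pretriangulated D]

/-- A functor sending the first two maps of a distinguished triangle to the first two maps of a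
distinguished triangle is Yoneda-exact. -/
lemma YEx.of_weak (F : C ⥤ D)
    (h : ∀ T ∈ distTriang C, ∃ δ : F.obj T.obj₃ ⟶ (F.obj T.obj₁)⟦(1 : ℤ)⟧,
      Triangle.mk (F.map T.mor₁) (F.map T.mor₂) δ ∈ distTriang D) : YEx F where
  zero T hT := by
    obtain ⟨δ, hδ⟩ := h T hT
    exact comp_distTriang_mor_zero₁₂ _ hδ
  exact T hT W x hx := by
    obtain ⟨δ, hδ⟩ := h T hT
    exact Triangle.coyoneda_exact₂ _ hδ x hx

end Weak

/-- Precomposition of a Yoneda-exact functor with a functor which is weakly exact (preserves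
distinguished triangles up to the choice of the third map). -/
lemma YEx.comp_weak {E : Type*} [Category E] [Preadditive E] [HasZeroObject E] [HasShift E ℤ]
    [∀ n : ℤ, (shiftFunctor E n).Additive] [Pretriangulated E] (H : E ⥤ C) {F : C ⥤ D}
    (hH : ∀ T ∈ distTriang E, ∃ δ : H.obj T.obj₃ ⟶ (H.obj T.obj₁)⟦(1 : ℤ)⟧,
      Triangle.mk (H.map T.mor₁) (H.map T.mor₂) δ ∈ distTriang C) (hF : YEx F) : YEx (H ⋙ F) where
  zero T hT := by
    obtain ⟨δ, hδ⟩ := hH T hT
    exact hF.zero _ hδ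
  exact T hT W x hx := by
    obtain ⟨δ, hδ⟩ := hH T hT
    exact hF.exact _ hδ x hx

/-- The five lemma for a natural transformation between Yoneda-exact functors. -/
theorem isIso_app_obj₂ {F G : C ⥤ D} (hF : YEx F) (hG : YEx G) (τ : F ⟶ G) (T : Triangle C)
    (hT : T ∈ distTriang C) (h0 : IsIso (τ.app (T.obj₃⟦(-1 : ℤ)⟧))) (h1 : IsIso (τ.app T.obj₁))
    (h3 : IsIso (τ.app T.obj₃)) (h4 : IsIso (τ.app (T.obj₁⟦(1 : ℤ)⟧))) :
    IsIso (τ.app T.obj₂) := by
  have hTi := inv_rot_of_distTriang _ hT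
  have hTr := rot_of_distTriang _ hT
  obtain ⟨u, hu⟩ : ∃ u : T.obj₃⟦(-1 : ℤ)⟧ ⟶ T.obj₁, u = T.invRotate.mor₁ := ⟨_, rfl⟩
  have hFu : F.map u ≫ F.map T.mor₁ = 0 := by
    rw [hu]; exact hF.zero T.invRotate hTi
  have hGu : ∀ {W : D} (x : W ⟶ G.obj T.obj₁), x ≫ G.map T.mor₁ = 0 →
      ∃ z : W ⟶ G.obj (T.obj₃⟦(-1 : ℤ)⟧), x = z ≫ G.map u := by
    intro W x hx
    rw [hu]; exact hG.exact T.invRotate hTi x hx
  have hGr : G.map T.mor₂ ≫ G.map T.mor₃ = 0 := hG.zero T.rotate hTr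
  have hFr : ∀ {W : D} (x : W ⟶ F.obj T.obj₃), x ≫ F.map T.mor₃ = 0 →
      ∃ y : W ⟶ F.obj T.obj₂, x = y ≫ F.map T.mor₂ := fun x hx => hF.exact T.rotate hTr x hx
  -- injectivity of postcomposition
  have hinj : ∀ {W : D} (x : W ⟶ F.obj T.obj₂), x ≫ τ.app T.obj₂ = 0 → x = 0 := by
    intro W x hx
    have e1 : x ≫ F.map T.mor₂ = 0 := by
      rw [← cancel_mono (τ.app T.obj₃), Category.assoc, τ.naturality, reassoc_of% hx]
      simp
    obtain ⟨y, hy⟩ := hF.exact T hT x e1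
    have e2 : (y ≫ τ.app T.obj₁) ≫ G.map T.mor₁ = 0 := by
      rw [Category.assoc, ← τ.naturality, ← reassoc_of% hy, hx]
    obtain ⟨z, hz⟩ := hGu (y ≫ τ.app T.obj₁) e2
    have e3 : y = (z ≫ inv (τ.app (T.obj₃⟦(-1 : ℤ)⟧))) ≫ F.map u := by
      rw [← cancel_mono (τ.app T.obj₁), hz, Category.assoc, Category.assoc, τ.naturality u,
        IsIso.inv_hom_id_assoc]
    rw [hy, e3, Category.assoc, hFu, comp_zero]
  -- surjectivity of postcomposition
  have hsurj : ∀ {W : D} (w : W ⟶ G.obj T.obj₂), ∃ x : W ⟶ F.obj T.obj₂, x ≫ τ.app T.obj₂ = w := by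
    intro W w
    have e1 : (w ≫ G.map T.mor₂ ≫ inv (τ.app T.obj₃)) ≫ F.map T.mor₃ = 0 := by
      rw [← cancel_mono (τ.app (T.obj₁⟦(1 : ℤ)⟧))]
      simp only [Category.assoc, zero_comp]
      rw [τ.naturality, IsIso.inv_hom_id_assoc, hGr, comp_zero]
    obtain ⟨x, hx⟩ := hFr (w ≫ G.map T.mor₂ ≫ inv (τ.app T.obj₃)) e1
    have e2 : (w - x ≫ τ.app T.obj₂) ≫ G.map T.mor₂ = 0 := by
      have hx' : x ≫ F.map T.mor₂ = w ≫ G.map T.mor₂ ≫ inv (τ.app T.obj₃) := hx.symm
      rw [Preadditive.sub_comp, Category.assoc x, ← τ.naturality, reassoc_of% hx']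
      simp
    obtain ⟨y, hy⟩ := hG.exact T hT _ e2
    refine ⟨x + (y ≫ inv (τ.app T.obj₁)) ≫ F.map T.mor₁, ?_⟩
    rw [Preadditive.add_comp, Category.assoc, Category.assoc, τ.naturality,
      IsIso.inv_hom_id_assoc, ← hy]
    abel
  obtain ⟨s, hs⟩ := hsurj (𝟙 (G.obj T.obj₂))
  refine ⟨s, ?_, hs⟩
  have : (τ.app T.obj₂ ≫ s - 𝟙 _) = 0 := by
    apply hinj
    rw [Preadditive.sub_comp, Category.assoc, hs]
    simp
  exact sub_eq_zero.1 this

/-- `τ` is an isomorphism at all shifts of `K`. -/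
def ShIso {F G : C ⥤ D} (τ : F ⟶ G) (K : C) : Prop := ∀ n : ℤ, IsIso (τ.app (K⟦n⟧))

lemma isIso_app_of_iso {F G : C ⥤ D} (τ : F ⟶ G) {K K' : C} (e : K ≅ K') (h : IsIso (τ.app K)) :
    IsIso (τ.app K') := by
  have : τ.app K' = F.map e.inv ≫ τ.app K ≫ G.map e.hom := by
    rw [← τ.naturality e.hom, ← F.map_comp_assoc, e.inv_hom_id, CategoryTheory.Functor.map_id,
      Category.id_comp]
  rw [this]
  infer_instance

lemma ShIso.of_iso {F G : C ⥤ D} (τ : F ⟶ G) {K K' : C} (e : K ≅ K') (h : ShIso τ K) :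
    ShIso τ K' := fun n => isIso_app_of_iso τ ((shiftFunctor C n).mapIso e) (h n)

lemma ShIso.shift {F G : C ⥤ D} (τ : F ⟶ G) {K : C} (h : ShIso τ K) (m : ℤ) :
    ShIso τ (K⟦m⟧) := fun n =>
  isIso_app_of_iso τ ((shiftFunctorAdd' C m n (m + n) rfl).app K) (h (m + n))

lemma ShIso.zero {F G : C ⥤ D} (τ : F ⟶ G) {K : C} (h : ShIso τ K) : IsIso (τ.app K) :=
  isIso_app_of_iso τ ((shiftFunctorZero C ℤ).app K) (h 0)

lemma isIso_app_of_retract {F G : C ⥤ D} (τ : F ⟶ G) {K K' : C} (i : K ⟶ K') (p : K' ⟶ K)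
    (hip : i ≫ p = 𝟙 K) (h : IsIso (τ.app K')) : IsIso (τ.app K) := by
  refine ⟨G.map i ≫ inv (τ.app K') ≫ F.map p, ?_, ?_⟩
  · rw [← τ.naturality_assoc, IsIso.hom_inv_id_assoc, ← F.map_comp, hip,
      CategoryTheory.Functor.map_id]
  · rw [Category.assoc, Category.assoc, τ.naturality, IsIso.inv_hom_id_assoc, ← G.map_comp,
      hip, CategoryTheory.Functor.map_id]

lemma ShIso.of_retract {F G : C ⥤ D} (τ : F ⟶ G) {K K' : C} (i : K ⟶ K') (p : K' ⟶ K)
    (hip : i ≫ p = 𝟙 K) (h : ShIso τ K') : ShIso τ K := fun n =>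
  isIso_app_of_retract τ (i⟦n⟧') (p⟦n⟧')
    (by rw [← (shiftFunctor C n).map_comp, hip, CategoryTheory.Functor.map_id]) (h n)

/-- Extension closure: if `τ` is an isomorphism at all shifts of the outer terms of a distinguished
triangle, then also at all shifts of the middle term. -/
theorem ShIso.ext {F G : C ⥤ D} (hF : YEx F) (hG : YEx G) (τ : F ⟶ G) (T : Triangle C)
    (hT : T ∈ distTriang C) (h1 : ShIso τ T.obj₁) (h3 : ShIso τ T.obj₃) : ShIso τ T.obj₂ := by
  intro n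
  have hTn := Triangle.shift_distinguished T hT n
  exact isIso_app_obj₂ hF hG τ _ hTn ((h3.shift τ n) (-1)) (h1 n) (h3 n) ((h1.shift τ n) 1)

end Groth.Agent.R2.H61.DT1
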