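import Mathlib
import Groth.Prelude.Def_DTen3
import Groth.Agent.Lib.Helper1DT3
import Groth.Agent.R2.H61DT1
set_option backward.isDefEq.respectTransparency.types false

/-!
# Weak exactness of the derived tensor product `- ⊗^L N` on `D(A)` (helper61)

* `exists_dist_of_iso`: transport of distinguished triangles along isomorphisms of the first two maps.
* `exists_cone_model`: the first two maps of a distinguished triangle of a derived category are
  isomorphic to `Q(inr φ)`, `Q(δ φ)` for a map of complexes `φ`.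
* `weak_tensorRightD`: `- ⊗^L N` preserves distinguished triangles up to the choice of the third map.
* `yex_tensorRightD`, `yex_of_adjunction`.
-/

set_option autoImplicit false
set_option linter.style.haveILetI false
universe u
open CategoryTheory CategoryTheory.Limits MonoidalCategory HomologicalComplex
  CategoryTheory.Pretriangulated
attribute [local instance] HasDerivedCategory.standard

namespace Groth.Agent.R2.H61.DT2

open DerivedCategory DTen Groth.Agent.Lib.Helper1.KF Groth.Agent.Lib.Helper1.DT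
  Groth.Agent.R2.H61.DT1

section General

variable {C : Type*} [Category C] [Preadditive C] [HasZeroObject C] [HasShift C ℤ]
  [∀ n : ℤ, (shiftFunctor C n).Additive] [Pretriangulated C]

/-- Weak exactness: distinguished triangles go to distinguished triangles for some third map. -/
def Weak {D : Type*} [Category D] [Preadditive D] [HasZeroObject D] [HasShift D ℤ]
    [∀ n : ℤ, (shiftFunctor D n).Additive] [Pretriangulated D] (F : C ⥤ D) : Prop :=
  ∀ T ∈ distTriang C, ∃ δ : F.obj T.obj₃ ⟶ (F.obj T.obj₁)⟦(1 : ℤ)⟧,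
    Triangle.mk (F.map T.mor₁) (F.map T.mor₂) δ ∈ distTriang D

lemma exists_dist_of_iso (T' : Triangle C) (hT' : T' ∈ distTriang C) {A₁ A₂ A₃ : C}
    (f : A₁ ⟶ A₂) (g : A₂ ⟶ A₃) (a₁ : A₁ ≅ T'.obj₁) (a₂ : A₂ ≅ T'.obj₂) (a₃ : A₃ ≅ T'.obj₃)
    (h₁ : f ≫ a₂.hom = a₁.hom ≫ T'.mor₁) (h₂ : g ≫ a₃.hom = a₂.hom ≫ T'.mor₂) :
    ∃ δ : A₃ ⟶ A₁⟦(1 : ℤ)⟧, Triangle.mk f g δ ∈ distTriang C := by
  refine ⟨a₃.hom ≫ T'.mor₃ ≫ a₁.inv⟦(1 : ℤ)⟧', isomorphic_distinguished _ hT' _
    (Triangle.isoMk _ _ a₁ a₂ a₃ h₁ h₂ ?_)⟩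
  change (a₃.hom ≫ T'.mor₃ ≫ a₁.inv⟦(1 : ℤ)⟧') ≫ a₁.hom⟦(1 : ℤ)⟧' = a₃.hom ≫ T'.mor₃
  simp only [Category.assoc, ← Functor.map_comp, Iso.inv_hom_id, CategoryTheory.Functor.map_id,
    Category.comp_id]

variable {D : Type*} [Category D] [Preadditive D] [HasZeroObject D] [HasShift D ℤ]
    [∀ n : ℤ, (shiftFunctor D n).Additive] [Pretriangulated D]

lemma Weak.of_iso {F G : C ⥤ D} (e : F ≅ G) (h : Weak F) : Weak G := by
  intro T hT
  obtain ⟨δ, hδ⟩ := h T hT
  exact exists_dist_of_iso _ hδ _ _ (e.symm.app _) (e.symm.app _) (e.symm.app _)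
    (e.inv.naturality _) (e.inv.naturality _)

lemma Weak.yex {F : C ⥤ D} (h : Weak F) : YEx F := YEx.of_weak F h

end General

section Adj

variable {C : Type*} [Category C] [Preadditive C] [HasZeroObject C] [HasShift C ℤ]
  [∀ n : ℤ, (shiftFunctor C n).Additive] [Pretriangulated C]
  {D : Type*} [Category D] [Preadditive D]

/-- A right adjoint out of a pretriangulated category is Yoneda-exact. -/
lemma yex_of_adjunction {L : D ⥤ C} {R : C ⥤ D} (adj : L ⊣ R) : YEx R := by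
  haveI : R.IsRightAdjoint := adj.isRightAdjoint
  haveI : L.IsLeftAdjoint := adj.isLeftAdjoint
  haveI : R.PreservesZeroMorphisms := Functor.preservesZeroMorphisms_of_isRightAdjoint R
  haveI : L.PreservesZeroMorphisms := Functor.preservesZeroMorphisms_of_isLeftAdjoint L
  refine ⟨fun T hT => ?_, fun T hT W x hx => ?_⟩
  · rw [← R.map_comp, comp_distTriang_mor_zero₁₂ _ hT, R.map_zero]
  · have h1 : (adj.homEquiv _ _).symm x ≫ T.mor₂ = 0 := by
      rw [← adj.homEquiv_naturality_right_symm, hx]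
      simp [Adjunction.homEquiv_symm_apply]
    obtain ⟨y, hy⟩ := Triangle.coyoneda_exact₂ _ hT _ h1
    refine ⟨adj.homEquiv _ _ y, ?_⟩
    rw [← adj.homEquiv_naturality_right, ← hy]
    simp

end Adj

section Cone

lemma aux_cancel {C : Type*} [Category C] {X₁ X₂ X₃ X₄ Y Z : C} (t : X₁ ⟶ X₂) (c : X₂ ⟶ X₃)
    (s : X₃ ⟶ X₄) (h : X₁ ⟶ Y) (d : Y ⟶ Z) (ι : Z ≅ X₄) (H : (t ≫ c) ≫ s = h ≫ d ≫ ι.hom) :
    t ≫ (c ≫ s ≫ ι.inv) = h ≫ d := by
  rw [← Category.assoc, ← Category.assoc, H]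
  simp

variable {C : Type*} [Category C] [Abelian C] [HasDerivedCategory C]

open CochainComplex in
/-- The first two maps of a distinguished triangle in the derived category are isomorphic to
`Q(inr φ)` and `Q(δ φ)` for some map of complexes `φ`. -/
lemma exists_cone_model (T : Triangle (DerivedCategory C)) (hT : T ∈ distTriang _) :
    ∃ (X Y : CochainComplex C ℤ) (φ : X ⟶ Y) (e₁ : T.obj₁ ≅ Q.obj Y)
      (e₂ : T.obj₂ ≅ Q.obj (mappingCone φ)) (e₃ : T.obj₃ ≅ Q.obj (X⟦(1 : ℤ)⟧)),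
      T.mor₁ ≫ e₂.hom = e₁.hom ≫ Q.map (mappingCone.inr φ) ∧
        T.mor₂ ≫ e₃.hom = e₂.hom ≫ Q.map (mappingCone.triangle φ).mor₃ := by
  obtain ⟨X, Y, φ, ⟨e⟩⟩ := (mem_distTriang_iff _).1 (inv_rot_of_distTriang _ hT)
  refine ⟨X, Y, φ, Triangle.π₂.mapIso e, Triangle.π₃.mapIso e,
    ((shiftEquiv (DerivedCategory C) (1 : ℤ)).counitIso.symm.app T.obj₃) ≪≫
      (CategoryTheory.shiftFunctor _ (1 : ℤ)).mapIso (Triangle.π₁.mapIso e) ≪≫
      ((Q.commShiftIso (1 : ℤ)).app X).symm, ?_, ?_⟩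
  · exact e.hom.comm₂
  · have h3 : (T.mor₂ ≫ (shiftEquiv (DerivedCategory C) (1 : ℤ)).counitIso.inv.app T.obj₃) ≫
        (e.hom.hom₁)⟦(1 : ℤ)⟧' = e.hom.hom₃ ≫ Q.map (mappingCone.triangle φ).mor₃ ≫
          ((Q.commShiftIso (1 : ℤ)).app X).hom := e.hom.comm₃
    exact aux_cancel _ _ _ _ _ ((Q.commShiftIso (1 : ℤ)).app X) h3

end Cone

section Tensor

variable {A : Type u} [CommRing A] [HasLTen A]

/-- `QK ⊗^L QP ≅ Q(K ⊗ P)` naturally in the complex `K`, for `P` K-flat. -/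
noncomputable def θ (P : Cx A) (hP : KFlat P) :
    Q ⋙ tensorRightD A (Q.obj P) ≅ tensorRight P ⋙ Q :=
  haveI : ∀ K, IsIso ((εRight A P).app K) := fun K => isIso_ε_of_kflat K P (Or.inr hP)
  haveI := NatIso.isIso_of_isIso_app (εRight A P)
  asIso (εRight A P)

lemma θ_comm (P : Cx A) (hP : KFlat P) {K K' : Cx A} (k : K ⟶ K') {T₁ T₂ : Dual.D A}
    (t : T₁ ⟶ T₂) (e₁ : T₁ ≅ Q.obj K) (e₂ : T₂ ≅ Q.obj K') (h : t ≫ e₂.hom = e₁.hom ≫ Q.map k) :
    (tensorRightD A (Q.obj P)).map t ≫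
      ((tensorRightD A (Q.obj P)).mapIso e₂ ≪≫ (θ P hP).app K').hom =
    ((tensorRightD A (Q.obj P)).mapIso e₁ ≪≫ (θ P hP).app K).hom ≫
      Q.map ((tensorRight P).map k) := by
  simp only [Iso.trans_hom, Functor.mapIso_hom, Iso.app_hom, Category.assoc]
  rw [← Functor.map_comp_assoc, h, Functor.map_comp_assoc]
  congr 1
  exact (θ P hP).hom.naturality k

open CochainComplex in
theorem weak_tensorRightD_Q (P : Cx A) (hP : KFlat P) : Weak (tensorRightD A (Q.obj P)) := by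
  intro T hT
  obtain ⟨X, Y, φ, e₁, e₂, e₃, h₁, h₂⟩ := exists_cone_model T hT
  have hS := cone_tensorRight_shortExact φ P
  exact exists_dist_of_iso _ (triangleOfSES_distinguished hS) _ _
    ((tensorRightD A (Q.obj P)).mapIso e₁ ≪≫ (θ P hP).app _)
    ((tensorRightD A (Q.obj P)).mapIso e₂ ≪≫ (θ P hP).app _)
    ((tensorRightD A (Q.obj P)).mapIso e₃ ≪≫ (θ P hP).app _)
    (θ_comm P hP _ _ e₁ e₂ h₁) (θ_comm P hP _ _ e₂ e₃ h₂)

theorem weak_tensorRightD (N : Dual.D A) : Weak (tensorRightD A N) := by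
  obtain ⟨P, hP, -, ⟨e⟩⟩ := exists_kproj_iso N
  exact (weak_tensorRightD_Q P (kflat_of_isKProjective P)).of_iso ((LTen A).flip.mapIso e)

theorem yex_tensorRightD (N : Dual.D A) : YEx (tensorRightD A N) := (weak_tensorRightD N).yex

end Tensor

end Groth.Agent.R2.H61.DT2
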