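import Mathlib
import Groth.Prelude.Def_CohCx
import Groth.Agent.Lib.Helper17KInjD5
import Groth.Agent.R2.H28GammaAcyc
import Groth.Agent.R2.H61DT2

/-!
# Total right derived functors computed on K-injective complexes are weakly triangulated (helper5)

Setting: `G : B ⥤ A` additive between abelian categories, `B` Grothendieck abelian, `RG` a total right
derived functor of `G` with unit `β` (as in `Groth.Agent.Lib.Helper17.KInj.isIso_app_of_isKInjective`).
No `CommShift`/`IsTriangulated` structure on `RG` is constructed; instead: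

* `exists_kinj`, `exists_kinj_cone_model`: K-injective models of objects and distinguished triangles;
* `rgIso`, `rgIso_naturality`: `RG (Q I) ≅ Q (G I)` for `I` K-injective;
* `weak_RG : Weak RG` (helper61's notion: distinguished triangles go to distinguished triangles for some
  third map);
* `nonempty_shift_iso : RG (E⟦n⟧) ≅ (RG E)⟦n⟧` (object level);
* `isGE_RG`: left t-exactness;
* `isRlimVia_map_weak`: a weakly exact additive functor preserving countable products preserves derived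
  limits in the sense of `CohCx.IsRlimVia`.
-/

set_option autoImplicit false
set_option linter.style.haveILetI false
set_option linter.unusedSectionVars false
universe w w₁ w₂ v v' u u'
open CategoryTheory CategoryTheory.Limits CategoryTheory.Pretriangulated

namespace Groth.Agent.R2.H5.RpushTri

open Groth.Agent.Lib.Helper17.KInj Groth.Agent.R2.H61.DT2 DerivedCategory CochainComplex

section Abstract

variable {B : Type u} [Category.{v} B] [Abelian B] [IsGrothendieckAbelian.{w} B]
  [HasDerivedCategory.{w₁} B]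
  {A : Type u'} [Category.{v'} A] [Abelian A] [HasDerivedCategory.{w₂} A]

/-- every object of the derived category of a Grothendieck abelian category is represented by a
K-injective complex -/
theorem exists_kinj (E : DerivedCategory B) :
    ∃ (I : CochainComplex B ℤ) (_ : I.IsKInjective), Nonempty (E ≅ Q.obj I) := by
  obtain ⟨I, f, hI, hf, -, -⟩ := exists_kInjective_resolution.{w} B (Q.objPreimage E)
  haveI := hf
  exact ⟨I, hI, ⟨(Q.objObjPreimageIso E).symm ≪≫ asIso (Q.map f)⟩⟩

/-- a distinguished triangle is isomorphic (in its first two maps) to the cone triangle of a map of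
K-injective complexes -/
theorem exists_kinj_cone_model (T : Triangle (DerivedCategory B)) (hT : T ∈ distTriang _) :
    ∃ (I J : CochainComplex B ℤ) (_ : I.IsKInjective) (_ : J.IsKInjective) (φ : I ⟶ J)
      (e₁ : T.obj₁ ≅ Q.obj I) (e₂ : T.obj₂ ≅ Q.obj J) (e₃ : T.obj₃ ≅ Q.obj (mappingCone φ)),
      T.mor₁ ≫ e₂.hom = e₁.hom ≫ Q.map φ ∧
        T.mor₂ ≫ e₃.hom = e₂.hom ≫ Q.map (mappingCone.inr φ) := by
  obtain ⟨I, hI, ⟨e₁⟩⟩ := exists_kinj.{w} T.obj₁
  obtain ⟨J, hJ, ⟨e₂⟩⟩ := exists_kinj.{w} T.obj₂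
  haveI := hI
  haveI := hJ
  obtain ⟨φ, hφ⟩ := Groth.Agent.R2.H28.GammaAcyc.exists_map_eq_of_isKInjective I J
    (e₁.inv ≫ T.mor₁ ≫ e₂.hom)
  have hT' := DerivedCategory.mappingCone_triangle_distinguished φ
  have comm : T.mor₁ ≫ e₂.hom = e₁.hom ≫ Q.map φ := by
    rw [hφ, Iso.hom_inv_id_assoc]
  let e := isoTriangleOfIso₁₂ T _ hT hT' e₁ e₂ comm
  refine ⟨I, J, hI, hJ, φ, e₁, e₂, Triangle.π₃.mapIso e, comm, ?_⟩
  have h := e.hom.comm₂
  have h2 : e.hom.hom₂ = e₂.hom := isoTriangleOfIso₁₂_hom_hom₂ T _ hT hT' e₁ e₂ comm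
  rw [h2] at h
  exact h

variable (G : B ⥤ A) [G.Additive] (RG : DerivedCategory B ⥤ DerivedCategory A)
  (β : G.mapHomologicalComplex (ComplexShape.up ℤ) ⋙ Q ⟶ Q ⋙ RG)
  [RG.IsRightDerivedFunctor β (HomologicalComplex.quasiIso B (ComplexShape.up ℤ))]

/-- `RG (Q I) ≅ Q (G I)` for a K-injective complex `I`. -/
noncomputable def rgIso (I : CochainComplex B ℤ) [I.IsKInjective] :
    RG.obj (Q.obj I) ≅ Q.obj ((G.mapHomologicalComplex (ComplexShape.up ℤ)).obj I) :=
  haveI := isIso_app_of_isKInjective.{w} G RG β I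
  (asIso (β.app I)).symm

lemma rgIso_naturality {I J : CochainComplex B ℤ} [I.IsKInjective] [J.IsKInjective] (φ : I ⟶ J) :
    RG.map (Q.map φ) ≫ (rgIso.{w} G RG β J).hom =
      (rgIso.{w} G RG β I).hom ≫ Q.map ((G.mapHomologicalComplex (ComplexShape.up ℤ)).map φ) := by
  haveI := isIso_app_of_isKInjective.{w} G RG β I
  haveI := isIso_app_of_isKInjective.{w} G RG β J
  have nat : Q.map ((G.mapHomologicalComplex (ComplexShape.up ℤ)).map φ) ≫ β.app J =
      β.app I ≫ RG.map (Q.map φ) := β.naturality φ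
  change RG.map (Q.map φ) ≫ inv (β.app J) = inv (β.app I) ≫ _
  rw [IsIso.comp_inv_eq, Category.assoc, nat, IsIso.inv_hom_id_assoc]

lemma rgIso_comm {I J : CochainComplex B ℤ} [I.IsKInjective] [J.IsKInjective] (φ : I ⟶ J)
    {T₁ T₂ : DerivedCategory B} (t : T₁ ⟶ T₂) (e₁ : T₁ ≅ Q.obj I) (e₂ : T₂ ≅ Q.obj J)
    (h : t ≫ e₂.hom = e₁.hom ≫ Q.map φ) :
    RG.map t ≫ (RG.mapIso e₂ ≪≫ rgIso.{w} G RG β J).hom =
      (RG.mapIso e₁ ≪≫ rgIso.{w} G RG β I).hom ≫
        Q.map ((G.mapHomologicalComplex (ComplexShape.up ℤ)).map φ) := by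
  simp only [Iso.trans_hom, Functor.mapIso_hom, Category.assoc]
  rw [← Functor.map_comp_assoc, h, Functor.map_comp_assoc, rgIso_naturality]

include G β in
/-- A total right derived functor (computed on K-injective complexes) sends distinguished triangles
to distinguished triangles, for some third map. -/
theorem weak_RG : Weak RG := by
  intro T hT
  obtain ⟨I, J, hI, hJ, φ, e₁, e₂, e₃, h₁, h₂⟩ := exists_kinj_cone_model.{w} T hT
  haveI := hI
  haveI := hJ
  haveI := isKInjective_mappingCone φ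
  have hT' := DerivedCategory.mappingCone_triangle_distinguished
    ((G.mapHomologicalComplex (ComplexShape.up ℤ)).map φ)
  refine exists_dist_of_iso _ hT' _ _
    (RG.mapIso e₁ ≪≫ rgIso.{w} G RG β I) (RG.mapIso e₂ ≪≫ rgIso.{w} G RG β J)
    ((RG.mapIso e₃ ≪≫ rgIso.{w} G RG β (mappingCone φ)) ≪≫
      Q.mapIso (mappingCone.mapHomologicalComplexIso φ G)) ?_ ?_
  · exact rgIso_comm.{w} G RG β φ T.mor₁ e₁ e₂ h₁
  · have h := rgIso_comm.{w} G RG β (mappingCone.inr φ) T.mor₂ e₂ e₃ h₂
    change RG.map T.mor₂ ≫ ((RG.mapIso e₃ ≪≫ rgIso.{w} G RG β (mappingCone φ)).hom ≫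
      Q.map (mappingCone.mapHomologicalComplexIso φ G).hom) =
      (RG.mapIso e₂ ≪≫ rgIso.{w} G RG β J).hom ≫
        Q.map (mappingCone.inr ((G.mapHomologicalComplex (ComplexShape.up ℤ)).map φ))
    rw [← Category.assoc, h, Category.assoc, ← Functor.map_comp, mappingCone.map_inr]

include G β in
/-- `RG` commutes with shifts on objects. -/
theorem nonempty_shift_iso (E : DerivedCategory B) (n : ℤ) :
    Nonempty (RG.obj (E⟦n⟧) ≅ (RG.obj E)⟦n⟧) := by
  obtain ⟨I, hI, ⟨e⟩⟩ := exists_kinj.{w} E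
  haveI := hI
  exact ⟨RG.mapIso ((CategoryTheory.shiftFunctor _ n).mapIso e ≪≫ ((Q.commShiftIso n).app I).symm) ≪≫
    rgIso.{w} G RG β (I⟦n⟧) ≪≫
    Q.mapIso (((G.mapHomologicalComplex (ComplexShape.up ℤ)).commShiftIso n).app I) ≪≫
    (Q.commShiftIso n).app ((G.mapHomologicalComplex (ComplexShape.up ℤ)).obj I) ≪≫
    (CategoryTheory.shiftFunctor _ n).mapIso ((rgIso.{w} G RG β I).symm ≪≫ RG.mapIso e.symm)⟩

include G β in
/-- `RG` is left t-exact. -/
theorem isGE_RG [EnoughInjectives B] (E : DerivedCategory B) (a : ℤ) [E.IsGE a] :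
    (RG.obj E).IsGE a := by
  obtain ⟨L, hL, ⟨e⟩⟩ := DerivedCategory.exists_iso_Q_obj_of_isGE E a
  haveI := hL
  obtain ⟨M, i, hi, hM, hMa⟩ :=
    CochainComplex.Plus.modelCategoryQuillen.exists_quasiIso_injective L a
  haveI := hM
  haveI := hMa
  haveI := hi
  haveI : M.IsKInjective := CochainComplex.isKInjective_of_injective M a
  have hGM : CochainComplex.IsStrictlyGE ((G.mapHomologicalComplex (ComplexShape.up ℤ)).obj M) a := by
    rw [CochainComplex.isStrictlyGE_iff]
    intro i hi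
    exact Functor.map_isZero G (M.isZero_of_isStrictlyGE a i hi)
  haveI : (Q.obj ((G.mapHomologicalComplex (ComplexShape.up ℤ)).obj M)).IsGE a := by
    rw [isGE_Q_obj_iff]
    infer_instance
  exact TStructure.t.isGE_of_iso
    ((rgIso.{w} G RG β M).symm ≪≫ RG.mapIso ((asIso (Q.map i)).symm ≪≫ e.symm)) a

end Abstract

section Rlim

variable {T : Type u} [Category.{v} T] [Preadditive T] [HasZeroObject T] [HasShift T ℤ]
    [∀ n : ℤ, (CategoryTheory.shiftFunctor T n).Additive] [Pretriangulated T]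
  {T' : Type u'} [Category.{v'} T'] [Preadditive T'] [HasZeroObject T'] [HasShift T' ℤ]
    [∀ n : ℤ, (CategoryTheory.shiftFunctor T' n).Additive] [Pretriangulated T']

/-- a weakly exact additive functor which preserves the relevant product preserves derived limits. -/
theorem isRlimVia_map_weak (G : T ⥤ T') [G.Additive] (hG : Weak G)
    {K : ℕ → T} {t : ∀ n, K (n + 1) ⟶ K n} [HasProduct K]
    [HasProduct (fun n => G.obj (K n))] [PreservesLimit (Discrete.functor K) G]
    {L : T} {a : ∀ n, L ⟶ K n} (hL : CohCx.IsRlimVia K t L a) :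
    CohCx.IsRlimVia (fun n => G.obj (K n)) (fun n => G.map (t n)) (G.obj L)
      (fun n => G.map (a n)) := by
  obtain ⟨c, hc⟩ := hL
  obtain ⟨δ, hδ⟩ := hG _ hc
  let E : G.obj (∏ᶜ K) ≅ ∏ᶜ fun n => G.obj (K n) := PreservesProduct.iso G K
  have hE : ∀ n, E.hom ≫ Pi.π (fun n => G.obj (K n)) n = G.map (Pi.π K n) := fun n =>
    piComparison_comp_π G K n
  refine ⟨E.inv ≫ δ, isomorphic_distinguished _ hδ _
      (Triangle.isoMk _ _ (Iso.refl _) E.symm E.symm ?_ ?_ ?_)⟩
  · change Pi.lift (fun n => G.map (a n)) ≫ E.inv = 𝟙 _ ≫ G.map (Pi.lift a)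
    rw [Category.id_comp, ← cancel_mono E.hom, Category.assoc, Iso.inv_hom_id, Category.comp_id]
    exact (map_lift_piComparison G K L a).symm
  · change (Pi.lift fun n => Pi.π (fun n => G.obj (K n)) n -
        Pi.π (fun n => G.obj (K n)) (n + 1) ≫ G.map (t n)) ≫ E.inv =
      E.inv ≫ G.map (Pi.lift fun n => Pi.π K n - Pi.π K (n + 1) ≫ t n)
    rw [← cancel_mono E.hom, Category.assoc, Iso.inv_hom_id, Category.comp_id, Category.assoc]
    rw [← cancel_epi E.hom, Iso.hom_inv_id_assoc]
    apply Pi.hom_ext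
    intro n
    rw [Category.assoc, Category.assoc, hE, ← Functor.map_comp, Pi.lift_π, Pi.lift_π,
      Functor.map_sub, Functor.map_comp, Preadditive.comp_sub, hE, ← Category.assoc, hE]
  · change (E.inv ≫ δ) ≫ (𝟙 _)⟦(1 : ℤ)⟧' = E.inv ≫ δ
    erw [CategoryTheory.Functor.map_id, Category.comp_id]

end Rlim

end Groth.Agent.R2.H5.RpushTri
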