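import Mathlib
import Groth.Prelude.Def_DCoh2
import Groth.Agent.R2.H5RpushTri
import Groth.Agent.R2.H28RpushQCohB
import Groth.Agent.R2.H4DerivedAdj
import Groth.Agent.R2.H5DQCohRlim
import Groth.Agent.Lib.Helper1Sky5
import Groth.Agent.Lib.Helper1Devissage
import Groth.Agent.Lib.Helper17Hyp8
import Groth.Agent.S0031

/-!
# `Rf_*` on bounded (below) objects of `D_QCoh` (helper5)

For `f : X ⟶ S` with `Good f` (all `R^q f_*` preserve quasi-coherence; helper28: true for qcqs `f`) and a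
uniform bound `Bd f d` (`R^q f_* F = 0` for `q ≥ d`, `F` quasi-coherent; S0031: exists when `S` is
quasi-compact):

* `weak_rpush`, `nonempty_rpush_shift_iso`, `isGE_rpush`, `additive_rpush`, `preservesLimits_rpush`;
* `exists_trunc_step_triangle`: the fibre of `τ_{≥a}E ⟶ τ_{≥a+1}E` is `H^a(E)[-a]`;
* `isQCoh_hd_rpush_single`, `isZero_hd_rpush_single_of_lt`, `isZero_hd_rpush_single_of_ge`;
* `rpush_bounded`: `Rf_*` of a bounded object of `D_QCoh` is in `D_QCoh`, with vanishing above `b + d`;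
* `rpush_boundedBelow`: `Rf_*` of a bounded below object of `D_QCoh` is in `D_QCoh`.
-/

set_option autoImplicit false
set_option linter.style.haveILetI false
set_option linter.unusedSectionVars false
universe w v u
open CategoryTheory CategoryTheory.Limits CategoryTheory.Pretriangulated AlgebraicGeometry

attribute [local instance] HasDerivedCategory.standard

namespace Groth.Agent.R2.H5.RpushBdd

open Groth.Agent.R2.H5.RpushTri Groth.Agent.R2.H61.DT2 Groth.Agent.R2.H28.DerBase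
  Groth.Agent.R2.H28.RpushQCoh DerivedCategory

section TT

open Groth.Agent.S14388 Groth.Agent.Lib.Helper17.Hyp

variable {A : Type u} [Category.{v} A] [Abelian A] [HasDerivedCategory.{w} A]

/-- `H^i(K⟦m⟧) ≅ H^{m+i}(K)`. -/
noncomputable def hShiftIso (K : DerivedCategory A) (m i k : ℤ) (h : m + i = k) :
    (homologyFunctor A i).obj (K⟦m⟧) ≅ (homologyFunctor A k).obj K :=
  ((homologyFunctor A 0).shiftIso m i k h).app K

/-- the single functor in degree `a` is the shift by `-a` of the single functor in degree `0`. -/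
noncomputable def singleIso (F : A) (a : ℤ) :
    (singleFunctor A a).obj F ≅ ((singleFunctor A 0).obj F)⟦-a⟧ :=
  (((singleFunctors A).shiftIso (-a) a 0 (by omega)).app F).symm

/-- the fibre of the transition map `τ_{≥a}E ⟶ τ_{≥a+1}E` is `H^a(E)[-a]`. -/
theorem exists_trunc_step_triangle (E : DerivedCategory A) (a b : ℤ) (hab : a + 1 = b) :
    ∃ (Y₀ : A) (_ : Nonempty (Y₀ ≅ (homologyFunctor A a).obj E))
      (ι : (singleFunctor A a).obj Y₀ ⟶ (tt.truncGE a).obj E)
      (δ : (tt.truncGE b).obj E ⟶ ((singleFunctor A a).obj Y₀)⟦(1 : ℤ)⟧),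
      Triangle.mk ι ((tt.natTransTruncGEOfLE a b (by omega)).app E) δ ∈ distTriang _ := by
  subst hab
  let Y := (tt.truncGE a).obj E
  let X := (tt.truncLT (a + 1)).obj Y
  have hT := tt.triangleLTGE_distinguished (a + 1) Y
  have hX : ∀ i : ℤ, (i < a ∨ a < i) → IsZero ((homologyFunctor A i).obj X) := by
    rintro i (hi | hi)
    · have := isIso_homology_truncLTι (a + 1) i (by omega) Y
      exact IsZero.of_iso (isZero_of_isGE Y a i hi)
        (asIso ((homologyFunctor A i).map ((tt.truncLTι (a + 1)).app Y)))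
    · exact isZero_of_isLE X a i hi
  have := isIso_homology_truncLTι (a + 1) a (by omega) Y
  have := isIso_homology_truncGEπ a a le_rfl E
  let eH : (homologyFunctor A a).obj X ≅ (homologyFunctor A a).obj E :=
    asIso ((homologyFunctor A a).map ((tt.truncLTι (a + 1)).app Y)) ≪≫
      (asIso ((homologyFunctor A a).map ((tt.truncGEπ a).app E))).symm
  haveI : X.IsGE a := (DerivedCategory.isGE_iff X a).2 (fun i hi => hX i (Or.inl hi))
  haveI : X.IsLE a := (DerivedCategory.isLE_iff X a).2 (fun i hi => hX i (Or.inr hi))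
  obtain ⟨Y₀, ⟨e⟩⟩ := exists_iso_singleFunctor_obj_of_isGE_of_isLE X a
  have eY : Y₀ ≅ (homologyFunctor A a).obj E :=
    ((singleFunctorCompHomologyFunctorIso A a).app Y₀).symm ≪≫
      (homologyFunctor A a).mapIso e.symm ≪≫ eH
  haveI : IsIso ((tt.truncGE (a + 1)).map ((tt.truncGEπ a).app E)) :=
    tt.isIso_truncGE_map_truncGEπ_app (a + 1) a (by omega) E
  have hcomp : (tt.natTransTruncGEOfLE a (a + 1) (by omega)).app E ≫
      (tt.truncGE (a + 1)).map ((tt.truncGEπ a).app E) = (tt.truncGEπ (a + 1)).app Y := by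
    apply tt.from_truncGE_obj_ext
    have h3 := tt.π_natTransTruncGEOfLE_app a (a + 1) (by omega) E
    rw [← Category.assoc, h3]
    exact ((tt.truncGEπ (a + 1)).naturality ((tt.truncGEπ a).app E)).symm
  let θ := asIso ((tt.truncGE (a + 1)).map ((tt.truncGEπ a).app E))
  obtain ⟨δ, hδ⟩ := exists_dist_of_iso _ hT (e.inv ≫ (tt.truncLTι (a + 1)).app Y)
    ((tt.natTransTruncGEOfLE a (a + 1) (by omega)).app E) e.symm (Iso.refl _) θ
    (by
      change (e.inv ≫ (tt.truncLTι (a + 1)).app Y) ≫ 𝟙 _ = e.inv ≫ (tt.truncLTι (a + 1)).app Y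
      rw [Category.comp_id])
    (by
      change (tt.natTransTruncGEOfLE a (a + 1) (by omega)).app E ≫
        (tt.truncGE (a + 1)).map ((tt.truncGEπ a).app E) = 𝟙 _ ≫ (tt.truncGEπ (a + 1)).app Y
      rw [Category.id_comp, hcomp])
  exact ⟨Y₀, ⟨eY⟩, _, δ, hδ⟩

end TT

section Basic

variable {X S : Scheme.{u}} (f : X ⟶ S) [DCoh.HasRpush f]

theorem weak_rpush : Weak (DCoh.Rpush f) :=
  weak_RG.{u} (Scheme.Modules.pushforward f) (DCoh.Rpush f) (unitC f)

theorem nonempty_rpush_shift_iso (E : DCoh.D X) (n : ℤ) :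
    Nonempty ((DCoh.Rpush f).obj (E⟦n⟧) ≅ ((DCoh.Rpush f).obj E)⟦n⟧) :=
  nonempty_shift_iso.{u} (Scheme.Modules.pushforward f) (DCoh.Rpush f) (unitC f) E n

theorem isGE_rpush (E : DCoh.D X) (a : ℤ) [E.IsGE a] : ((DCoh.Rpush f).obj E).IsGE a :=
  isGE_RG.{u} (Scheme.Modules.pushforward f) (DCoh.Rpush f) (unitC f) E a

theorem isRightAdjoint_rpush : (DCoh.Rpush f).IsRightAdjoint :=
  haveI := Groth.Agent.Lib.Helper1.Sky.hasLpull f
  (Groth.Agent.R2.H4.DerivedAdj.lpullRpushAdj f).isRightAdjoint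

theorem preservesZeroMorphisms_rpush : (DCoh.Rpush f).PreservesZeroMorphisms :=
  haveI := isRightAdjoint_rpush f
  Functor.preservesZeroMorphisms_of_isRightAdjoint _

theorem additive_rpush : (DCoh.Rpush f).Additive := by
  haveI := isRightAdjoint_rpush f
  haveI := preservesZeroMorphisms_rpush f
  haveI : PreservesBinaryBiproducts (DCoh.Rpush f) :=
    preservesBinaryBiproducts_of_preservesBinaryProducts (DCoh.Rpush f)
  exact Functor.additive_of_preservesBinaryBiproducts _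

theorem isZero_rpush_obj {K : DCoh.D X} (hK : IsZero K) : IsZero ((DCoh.Rpush f).obj K) :=
  haveI := preservesZeroMorphisms_rpush f
  Functor.map_isZero _ hK

end Basic

section Single

variable {X S : Scheme.{u}} (f : X ⟶ S) [DCoh.HasRpush f]

/-- uniform vanishing bound for the higher direct images of quasi-coherent modules -/
def Bd (d : ℕ) : Prop :=
  ∀ F : X.Modules, Coh.IsQCoh F → ∀ q : ℕ, d ≤ q → IsZero ((Coh.Rpush f q).obj F)

omit [DCoh.HasRpush f] in
theorem exists_bd [QuasiCompact f] [QuasiSeparated f] [CompactSpace S] : ∃ d : ℕ, Bd f d := by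
  obtain ⟨n, hn⟩ := Groth.Agent.S0031.result f
  refine ⟨n, fun F hF q hq => ?_⟩
  obtain ⟨e⟩ := Groth.Agent.Lib.Helper23.ModAbBridge.nonempty_toAb_Rpush_iso f F q
  have h1 : IsZero (Coh.toAb ((Coh.Rpush f q).obj F)) := (hn F hF q hq).of_iso e
  exact isZero_of_faithful_obj (SheafOfModules.toSheaf _) _ h1

theorem nonempty_rpush_single_iso (F : X.Modules) (a : ℤ) :
    Nonempty ((DCoh.Rpush f).obj ((singleFunctor X.Modules a).obj F) ≅
      ((DCoh.Rpush f).obj (DCoh.inD X F))⟦-a⟧) := by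
  obtain ⟨e⟩ := nonempty_rpush_shift_iso f (DCoh.inD X F) (-a)
  exact ⟨(DCoh.Rpush f).mapIso (singleIso F a) ≪≫ e⟩

/-- `H^i(Rf_*(F[-a])) ≅ H^{i-a}(Rf_*(F[0]))`. -/
theorem nonempty_hd_rpush_single_iso (F : X.Modules) (a i k : ℤ) (h : -a + i = k) :
    Nonempty (DCoh.HD ((DCoh.Rpush f).obj ((singleFunctor X.Modules a).obj F)) i ≅
      DCoh.HD ((DCoh.Rpush f).obj (DCoh.inD X F)) k) := by
  obtain ⟨e⟩ := nonempty_rpush_single_iso f F a
  exact ⟨(homologyFunctor _ i).mapIso e ≪≫ hShiftIso _ (-a) i k h⟩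

theorem isQCoh_hd_rpush_single (hg : Good f) (F : X.Modules) (hF : Coh.IsQCoh F) (a i : ℤ) :
    Coh.IsQCoh (DCoh.HD ((DCoh.Rpush f).obj ((singleFunctor X.Modules a).obj F)) i) := by
  obtain ⟨e⟩ := nonempty_hd_rpush_single_iso f F a i (-a + i) rfl
  exact isQCoh_of_iso e.symm (good_hd f hg F hF _)

theorem isZero_hd_rpush_single_of_lt (F : X.Modules) (a i : ℤ) (h : i < a) :
    IsZero (DCoh.HD ((DCoh.Rpush f).obj ((singleFunctor X.Modules a).obj F)) i) := by
  obtain ⟨e⟩ := nonempty_hd_rpush_single_iso f F a i (-a + i) rfl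
  exact (isZero_hdRpushSingle f F _ (by omega)).of_iso e

theorem isZero_hd_rpush_single_of_ge {d : ℕ} (hd : Bd f d) (F : X.Modules) (hF : Coh.IsQCoh F)
    (a i : ℤ) (h : a + d ≤ i) :
    IsZero (DCoh.HD ((DCoh.Rpush f).obj ((singleFunctor X.Modules a).obj F)) i) := by
  obtain ⟨q, hq⟩ : ∃ q : ℕ, -a + i = (q : ℤ) :=
    ⟨(-a + i).toNat, (Int.toNat_of_nonneg (by omega)).symm⟩
  obtain ⟨e⟩ := nonempty_hd_rpush_single_iso f F a i (q : ℤ) hq
  obtain ⟨e'⟩ := hdRpushSingle f F q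
  exact ((hd F hF q (by omega)).of_iso e').of_iso e

end Single

section Bounded

variable {X S : Scheme.{u}} (f : X ⟶ S) [DCoh.HasRpush f]

omit [DCoh.HasRpush f] in
/-- `D_QCoh` is closed under extensions. -/
theorem isQCohD_obj₂ (T : Triangle (DCoh.D S)) (hT : T ∈ distTriang _)
    (h₁ : DCoh.IsQCohD T.obj₁) (h₃ : DCoh.IsQCohD T.obj₃) : DCoh.IsQCohD T.obj₂ := by
  intro i
  exact isQCoh_mid _ _ _ _ _ _ _
    (HomologySequence.exact₁ _ hT (i - 1) i (by omega))
    (HomologySequence.exact₂ _ hT i)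
    (HomologySequence.exact₃ _ hT i (i + 1) rfl)
    (h₃ _) (h₁ _) (h₃ _) (h₁ _)

/-- `Rf_*` of a bounded object of `D_QCoh`. -/
theorem rpush_bounded (hg : Good f) {d : ℕ} (hd : Bd f d) (K : DCoh.D X) (hK : DCoh.IsQCohD K)
    (a b : ℤ) (hab : ∀ i : ℤ, (i < a ∨ b < i) → IsZero (DCoh.HD K i)) :
    DCoh.IsQCohD ((DCoh.Rpush f).obj K) ∧
      ∀ m : ℤ, b + d ≤ m → IsZero (DCoh.HD ((DCoh.Rpush f).obj K) m) := by
  let P : ObjectProperty (DCoh.D X) := fun K => DCoh.IsQCohD ((DCoh.Rpush f).obj K) ∧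
    ∀ m : ℤ, b + d ≤ m → IsZero (DCoh.HD ((DCoh.Rpush f).obj K) m)
  haveI : P.IsClosedUnderIsomorphisms := ⟨fun {K K'} e hK =>
    ⟨fun i => isQCoh_of_iso ((homologyFunctor _ i).mapIso ((DCoh.Rpush f).mapIso e)) (hK.1 i),
      fun m hm => (hK.2 m hm).of_iso
        ((homologyFunctor _ m).mapIso ((DCoh.Rpush f).mapIso e.symm))⟩⟩
  refine Groth.Agent.Lib.Helper1.Devissage.induction_homology' P ?_ ?_ K a b hab ?_
  · intro Z hZ
    have hZ' := isZero_rpush_obj f hZ
    exact ⟨fun i => isQCoh_of_isZero (Functor.map_isZero _ hZ'),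
      fun m _ => Functor.map_isZero _ hZ'⟩
  · intro T hT h1 h3
    obtain ⟨δ, hδ⟩ := weak_rpush f T hT
    refine ⟨isQCohD_obj₂ _ hδ h1.1 h3.1, fun m hm => ?_⟩
    exact (HomologySequence.exact₂ _ hδ m).isZero_of_both_zeros
      ((h1.2 m hm).eq_of_src _ _) ((h3.2 m hm).eq_of_tgt _ _)
  · intro j hj1 hj2
    exact ⟨fun i => isQCoh_hd_rpush_single f hg _ (hK j) j i,
      fun m hm => isZero_hd_rpush_single_of_ge f hd _ (hK j) j m (by omega)⟩

open Groth.Agent.S14388 in
/-- `Rf_*` of a bounded below object of `D_QCoh`. -/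
theorem rpush_boundedBelow (hg : Good f) {d : ℕ} (hd : Bd f d) (K : DCoh.D X)
    (hK : DCoh.IsQCohD K) (a : ℤ) [K.IsGE a] : DCoh.IsQCohD ((DCoh.Rpush f).obj K) := by
  intro q
  have hT := tt.triangleLTGE_distinguished ((q + 1) + 1) K
  obtain ⟨δ, hδ⟩ := weak_rpush f _ hT
  have hiso : ∀ i : ℤ, i < (q + 1) + 1 →
      IsIso ((homologyFunctor X.Modules i).map ((tt.truncLTι ((q + 1) + 1)).app K)) :=
    fun i hi => isIso_homology_truncLTι ((q + 1) + 1) i hi K
  have hK' : DCoh.IsQCohD ((tt.truncLT ((q + 1) + 1)).obj K) := by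
    intro i
    by_cases hi : i < (q + 1) + 1
    · haveI := hiso i hi
      exact isQCoh_of_iso
        (asIso ((homologyFunctor X.Modules i).map ((tt.truncLTι ((q + 1) + 1)).app K))).symm (hK i)
    · exact isQCoh_of_isZero (isZero_of_isLE _ (q + 1) i (by omega))
  have hab : ∀ i : ℤ, (i < a ∨ q + 1 < i) →
      IsZero (DCoh.HD ((tt.truncLT ((q + 1) + 1)).obj K) i) := by
    rintro i (hi | hi)
    · by_cases hi' : i < (q + 1) + 1
      · haveI := hiso i hi'
        exact IsZero.of_iso (isZero_of_isGE K a i hi)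
          (asIso ((homologyFunctor X.Modules i).map ((tt.truncLTι ((q + 1) + 1)).app K)))
      · exact isZero_of_isLE _ (q + 1) i (by omega)
    · exact isZero_of_isLE _ (q + 1) i hi
  have h1 := (rpush_bounded f hg hd _ hK' a (q + 1) hab).1
  haveI : ((DCoh.Rpush f).obj ((tt.truncGE ((q + 1) + 1)).obj K)).IsGE ((q + 1) + 1) :=
    isGE_rpush f _ _
  have hge : ∀ i : ℤ, i < (q + 1) + 1 →
      IsZero (DCoh.HD ((DCoh.Rpush f).obj ((tt.truncGE ((q + 1) + 1)).obj K)) i) :=
    fun i hi => isZero_of_isGE _ ((q + 1) + 1) i hi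
  exact isQCoh_mid _ _ _ _ _ _ _
    (HomologySequence.exact₁ _ hδ (q - 1) q (by omega))
    (HomologySequence.exact₂ _ hδ q)
    (HomologySequence.exact₃ _ hδ q (q + 1) rfl)
    (isQCoh_of_isZero (hge (q - 1) (by omega))) (h1 q)
    (isQCoh_of_isZero (hge q (by omega))) (h1 (q + 1))

end Bounded

end Groth.Agent.R2.H5.RpushBdd
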