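import Mathlib
import Groth.Agent.R2.H4Conn

/-!
# Homotopy classes vs. derived-category morphisms through an exact fully faithful functor
(helper99, round 2)

Namespace `Groth.Agent.R2.H99.QhBij`.

* `mapDerivedCategoryId`, `mapDerivedCategoryEquivalence` : an equivalence of abelian categories
  induces an equivalence of derived categories.
* `bijective_map_of_iso` : bijectivity of `G.map` on a hom-set is invariant under isomorphisms of
  source and target.
* `qh_map_bijective` : if `T : A ⥤ B` is exact, fully faithful with `T.mapDerivedCategory` fully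
  faithful and `P` is K-projective, then `Hom_{K(B)}(T P, T N) → Hom_{D(B)}(T P, T N)` is bijective.
-/

set_option autoImplicit false
set_option linter.style.haveILetI false
universe w v u
open CategoryTheory CategoryTheory.Limits

namespace Groth.Agent.R2.H99.QhBij

open Groth.Agent.R2.H4.Conn

section Conj

variable {C : Type*} [Category C] {D : Type*} [Category D]

/-- bijectivity of `G.map` on a hom-set is invariant under isomorphisms of source and target. -/
lemma bijective_map_of_iso (G : C ⥤ D) {X X' Y Y' : C} (a : X' ≅ X) (b : Y ≅ Y')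
    (key : Function.Bijective (fun φ : X ⟶ Y => G.map φ)) :
    Function.Bijective (fun φ : X' ⟶ Y' => G.map φ) := by
  constructor
  · intro φ₁ φ₂ h
    dsimp only at h
    have h1 : G.map (a.inv ≫ φ₁ ≫ b.inv) = G.map (a.inv ≫ φ₂ ≫ b.inv) := by
      simp only [Functor.map_comp, h]
    have h2 := key.1 h1
    have h3 : a.hom ≫ (a.inv ≫ φ₁ ≫ b.inv) ≫ b.hom = a.hom ≫ (a.inv ≫ φ₂ ≫ b.inv) ≫ b.hom := by
      rw [h2]
    simpa using h3
  · intro y
    obtain ⟨φ, hφ⟩ := key.2 (G.map a.inv ≫ y ≫ G.map b.inv)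
    refine ⟨a.hom ≫ φ ≫ b.hom, ?_⟩
    dsimp only at hφ ⊢
    rw [Functor.map_comp, Functor.map_comp, hφ]
    simp only [Category.assoc, ← Functor.map_comp, Iso.inv_hom_id]
    rw [← Category.assoc, ← Functor.map_comp, Iso.hom_inv_id, G.map_id, G.map_id,
      Category.id_comp, Category.comp_id]

end Conj

section MapId

variable {A B : Type u} [Category.{v} A] [Category.{v} B] [Abelian A] [Abelian B]
  [HasDerivedCategory.{w} A] [HasDerivedCategory.{w} B]

/-- the identity functor induces the identity on derived categories. -/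
noncomputable def mapDerivedCategoryId : (𝟭 A).mapDerivedCategory ≅ 𝟭 (DerivedCategory A) := by
  letI : Localization.Lifting DerivedCategory.Q (HomologicalComplex.quasiIso A (ComplexShape.up ℤ))
      ((𝟭 A).mapHomologicalComplex (ComplexShape.up ℤ) ⋙ DerivedCategory.Q)
      (𝟭 (DerivedCategory A)) :=
    ⟨Functor.rightUnitor _ ≪≫ (Functor.leftUnitor _).symm ≪≫
      Functor.isoWhiskerRight (Functor.mapHomologicalComplexIdIso A (ComplexShape.up ℤ)).symm _⟩
  exact Localization.liftNatIso DerivedCategory.Q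
    (HomologicalComplex.quasiIso A (ComplexShape.up ℤ))
    ((𝟭 A).mapHomologicalComplex _ ⋙ DerivedCategory.Q)
    ((𝟭 A).mapHomologicalComplex _ ⋙ DerivedCategory.Q) _ _ (Iso.refl _)

variable (Φ : A ⥤ B) (Ψ : B ⥤ A) [Φ.Additive] [Ψ.Additive]
  [PreservesFiniteLimits Φ] [PreservesFiniteColimits Φ]
  [PreservesFiniteLimits Ψ] [PreservesFiniteColimits Ψ]

/-- mutually inverse exact functors induce an equivalence of derived categories. -/
noncomputable def mapDerivedCategoryEquivalence (η : 𝟭 A ≅ Φ ⋙ Ψ) (ε : Ψ ⋙ Φ ≅ 𝟭 B) :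
    DerivedCategory A ≌ DerivedCategory B :=
  CategoryTheory.Equivalence.mk Φ.mapDerivedCategory Ψ.mapDerivedCategory
    (mapDerivedCategoryId.symm ≪≫ mapDerivedCategoryCongr η ≪≫ mapDerivedCategoryComp Φ Ψ)
    ((mapDerivedCategoryComp Ψ Φ).symm ≪≫ mapDerivedCategoryCongr ε ≪≫ mapDerivedCategoryId)

lemma full_mapDerivedCategory (η : 𝟭 A ≅ Φ ⋙ Ψ) (ε : Ψ ⋙ Φ ≅ 𝟭 B) :
    Φ.mapDerivedCategory.Full :=
  inferInstanceAs (mapDerivedCategoryEquivalence Φ Ψ η ε).functor.Full

lemma faithful_mapDerivedCategory (η : 𝟭 A ≅ Φ ⋙ Ψ) (ε : Ψ ⋙ Φ ≅ 𝟭 B) :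
    Φ.mapDerivedCategory.Faithful :=
  inferInstanceAs (mapDerivedCategoryEquivalence Φ Ψ η ε).functor.Faithful

end MapId

section Main

variable {A B : Type u} [Category.{v} A] [Category.{v} B] [Abelian A] [Abelian B]
  [HasDerivedCategory.{w} A] [HasDerivedCategory.{w} B]

/-- **Key abstract lemma.** `T` exact and fully faithful, `T.mapDerivedCategory` fully faithful, `P`
K-projective: homotopy classes of maps `T P → T N` are the morphisms in the derived category. -/
theorem qh_map_bijective (T : A ⥤ B) [T.Additive] [PreservesFiniteLimits T]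
    [PreservesFiniteColimits T] [T.Full] [T.Faithful]
    [T.mapDerivedCategory.Full] [T.mapDerivedCategory.Faithful]
    (P N : CochainComplex A ℤ) [P.IsKProjective] :
    Function.Bijective (fun φ : (HomotopyCategory.quotient B (ComplexShape.up ℤ)).obj
        ((T.mapHomologicalComplex (ComplexShape.up ℤ)).obj P) ⟶
        (HomotopyCategory.quotient B (ComplexShape.up ℤ)).obj
          ((T.mapHomologicalComplex (ComplexShape.up ℤ)).obj N) =>
      (DerivedCategory.Qh (C := B)).map φ) := by
  let x := (HomotopyCategory.quotient A (ComplexShape.up ℤ)).obj P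
  let y := (HomotopyCategory.quotient A (ComplexShape.up ℤ)).obj N
  let Tk := T.mapHomotopyCategory (ComplexShape.up ℤ)
  let Td := T.mapDerivedCategory
  let e := T.mapDerivedCategoryFactorsh
  have h1 : Function.Bijective (fun φ : x ⟶ y => Tk.map φ) :=
    ⟨Tk.map_injective, Tk.map_surjective⟩
  have h2 : Function.Bijective (fun φ : x ⟶ y => (DerivedCategory.Qh (C := A)).map φ) :=
    CochainComplex.IsKProjective.Qh_map_bijective P y
  have h3 : Function.Bijective (fun ψ : DerivedCategory.Qh.obj x ⟶ DerivedCategory.Qh.obj y =>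
      Td.map ψ) := ⟨Td.map_injective, Td.map_surjective⟩
  have h4 : Function.Bijective (fun ψ : Td.obj (DerivedCategory.Qh.obj x) ⟶
      Td.obj (DerivedCategory.Qh.obj y) => e.inv.app x ≫ ψ ≫ e.hom.app y) := by
    constructor
    · intro ψ₁ ψ₂ h
      dsimp only at h
      have h' := (cancel_epi (e.inv.app x)).1 h
      exact (cancel_mono (e.hom.app y)).1 h'
    · intro ψ
      refine ⟨e.hom.app x ≫ ψ ≫ e.inv.app y, ?_⟩
      simp
  have hcomp : (fun φ : x ⟶ y => (DerivedCategory.Qh (C := B)).map (Tk.map φ)) =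
      (fun ψ : Td.obj (DerivedCategory.Qh.obj x) ⟶ Td.obj (DerivedCategory.Qh.obj y) =>
        e.inv.app x ≫ ψ ≫ e.hom.app y) ∘
      (fun ψ : DerivedCategory.Qh.obj x ⟶ DerivedCategory.Qh.obj y => Td.map ψ) ∘
      (fun φ : x ⟶ y => (DerivedCategory.Qh (C := A)).map φ) := by
    funext φ
    have := e.hom.naturality φ
    dsimp at this ⊢
    rw [this, Iso.inv_hom_id_app_assoc]
  have h5 : Function.Bijective
      (fun φ : x ⟶ y => (DerivedCategory.Qh (C := B)).map (Tk.map φ)) := by
    rw [hcomp]
    exact h4.comp (h3.comp h2)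
  -- cancel the bijection `Tk.map`
  have h6 : (fun φ : x ⟶ y => (DerivedCategory.Qh (C := B)).map (Tk.map φ)) =
      (fun φ : Tk.obj x ⟶ Tk.obj y => (DerivedCategory.Qh (C := B)).map φ) ∘
        (fun φ : x ⟶ y => Tk.map φ) := rfl
  rw [h6] at h5
  exact (Function.Bijective.of_comp_iff _ h1).1 h5

end Main

end Groth.Agent.R2.H99.QhBij
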