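import Mathlib
import Groth.Prelude.Def_CxOX
import Groth.Prelude.Def_DCoh3
import Groth.Agent.S0997
import Groth.Agent.S9498
import Groth.Agent.R2.H99QhBij
import Groth.Agent.R2.H4LocHtpy
import Groth.Agent.Lib.Helper2FPAff
import Groth.Agent.Lib.Helper2LocFree

/-!
# Bounded above complexes of finite locally free modules on an affine scheme are "K-projective
# against complexes of quasi-coherent modules" (helper99, round 2)

Namespace `Groth.Agent.R2.H99.AffKProj`.

Main result `qh_map_bijective_of_isAffine` : on an affine scheme `X`, for `E` a bounded above complex of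
finite locally free modules and `F` a complex of quasi-coherent modules, the map
`Hom_{K(O_X)}(E, F) → Hom_{D(O_X)}(E, F)` is bijective.  (Via `D(A) ⥤ D(O_{Spec A})` fully faithful,
helper5's `S0997`.)
-/

set_option autoImplicit false
set_option linter.style.haveILetI false
set_option linter.unusedSectionVars false
universe u
open CategoryTheory CategoryTheory.Limits AlgebraicGeometry

attribute [local instance] HasDerivedCategory.standard

namespace Groth.Agent.R2.H99.AffKProj

open Groth.Agent.R2.H99.QhBij Groth.Agent.R2.H4.Conn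

section Equiv

variable {X Y : Scheme.{u}} (e : X ≅ Y)

/-- restriction along the inverse of an isomorphism. -/
noncomputable abbrev Φ : X.Modules ⥤ Y.Modules := Scheme.Modules.restrictFunctor e.inv

/-- restriction along an isomorphism. -/
noncomputable abbrev Ψ : Y.Modules ⥤ X.Modules := Scheme.Modules.restrictFunctor e.hom

noncomputable def resUnit : 𝟭 X.Modules ≅ Φ e ⋙ Ψ e :=
  (Scheme.Modules.restrictFunctorId (X := X)).symm ≪≫
    Scheme.Modules.restrictFunctorCongr e.hom_inv_id.symm ≪≫
    Scheme.Modules.restrictFunctorComp e.hom e.inv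

noncomputable def resCounit : Ψ e ⋙ Φ e ≅ 𝟭 Y.Modules :=
  (Scheme.Modules.restrictFunctorComp e.inv e.hom).symm ≪≫
    Scheme.Modules.restrictFunctorCongr e.inv_hom_id ≪≫
    Scheme.Modules.restrictFunctorId (X := Y)

/-- modules on isomorphic schemes. -/
noncomputable def resEquiv : X.Modules ≌ Y.Modules :=
  CategoryTheory.Equivalence.mk (Φ e) (Ψ e) (resUnit e) (resCounit e)

instance : (Ψ e).Full := inferInstanceAs (resEquiv e).inverse.Full
instance : (Ψ e).Faithful := inferInstanceAs (resEquiv e).inverse.Faithful

instance : (Ψ e).mapDerivedCategory.Full :=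
  full_mapDerivedCategory (Ψ e) (Φ e) (resCounit e).symm (resUnit e).symm

instance : (Ψ e).mapDerivedCategory.Faithful :=
  faithful_mapDerivedCategory (Ψ e) (Φ e) (resCounit e).symm (resUnit e).symm

end Equiv

section Spec

variable {X : Scheme.{u}} (R : CommRingCat.{u}) (e : X ≅ Spec R)

instance : PreservesFiniteLimits (tilde.functor R) := (Groth.Agent.S9498.aux R).1

/-- `M ↦ M~` transported to `X`. -/
noncomputable abbrev T : ModuleCat.{u} R ⥤ X.Modules := tilde.functor R ⋙ Ψ e

/-- global sections transported to `X`. -/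
noncomputable abbrev G : X.Modules ⥤ ModuleCat.{u} R := Φ e ⋙ moduleSpecΓFunctor (R := R)

/-- `T ⊣ G`. -/
noncomputable def adj : T R e ⊣ G R e :=
  (tilde.adjunction (R := R)).comp (resEquiv e).symm.toAdjunction

instance : (T R e).mapDerivedCategory.Full := by
  haveI : (DCoh.tildeD R).Full := (Groth.Agent.S0997.result R).1
  haveI : ((tilde.functor R).mapDerivedCategory).Full := ‹(DCoh.tildeD R).Full›
  exact Functor.Full.of_iso (mapDerivedCategoryComp (tilde.functor R) (Ψ e)).symm

instance : (T R e).mapDerivedCategory.Faithful := by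
  haveI : (DCoh.tildeD R).Faithful := (Groth.Agent.S0997.result R).2.1
  haveI : ((tilde.functor R).mapDerivedCategory).Faithful := ‹(DCoh.tildeD R).Faithful›
  exact Functor.Faithful.of_iso (mapDerivedCategoryComp (tilde.functor R) (Ψ e)).symm

lemma isIso_counit (M : X.Modules) [M.IsQuasicoherent] : IsIso ((adj R e).counit.app M) := by
  haveI : ((Φ e).obj M).IsQuasicoherent := inferInstance
  haveI : IsIso ((tilde.adjunction (R := R)).counit.app ((Φ e).obj M)) :=
    (inferInstance : IsIso ((Φ e).obj M).fromTildeΓ)
  have h := Adjunction.comp_counit_app (tilde.adjunction (R := R)) (resEquiv e).symm.toAdjunction M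
  have h' : (adj R e).counit.app M = (Ψ e).map ((tilde.adjunction (R := R)).counit.app ((Φ e).obj M)) ≫
      (resEquiv e).symm.toAdjunction.counit.app M := h
  rw [h']
  haveI h1 : IsIso ((Ψ e).map ((tilde.adjunction (R := R)).counit.app ((Φ e).obj M))) :=
    Functor.map_isIso _ _
  haveI h2 : IsIso ((resEquiv e).symm.toAdjunction.counit.app M) :=
    (inferInstance : IsIso ((resEquiv e).symm.counitIso.app M).hom)
  exact IsIso.comp_isIso' h1 h2

lemma isQuasicoherent_of_isFinLocFree {Y : Scheme.{u}} (M : Y.Modules)
    (h : FlatMod.IsFinLocFree M) : M.IsQuasicoherent := by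
  have hfp := Groth.Agent.Lib.Helper2.LocFree.isFP_of_isFinLocFree M h
  exact { nonempty_quasicoherentData :=
      ⟨(SheafOfModules.IsFinitePresentation.exists_quasicoherentData (R := Y.ringCatSheaf) M).choose⟩ }

lemma projective_G_obj (M : X.Modules) (h : FlatMod.IsFinLocFree M) :
    Projective ((G R e).obj M) := by
  have h1 : FlatMod.IsFinLocFree ((Φ e).obj M) :=
    Groth.Agent.R2.H4.LocHtpy.isFinLocFree_restrict e.inv M h
  haveI := isQuasicoherent_of_isFinLocFree _ h1
  have h2 : FlatMod.IsFinLocFree (tilde ((G R e).obj M)) :=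
    Groth.Agent.R2.H4.LocHtpy.isFinLocFree_of_iso (asIso ((Φ e).obj M).fromTildeΓ).symm h1
  obtain ⟨_, hp⟩ := (Groth.Agent.Lib.Helper2.FPAff.isFinLocFree_tilde_iff R _).1 h2
  have hp' : Module.Projective R ((G R e).obj M) := hp
  exact (IsProjective.iff_projective (R := R) ((G R e).obj M)).1 hp'

/-- **Main theorem**, for a scheme isomorphic to `Spec R`. -/
theorem qh_map_bijective_of_iso_spec {X : Scheme.{u}} (R : CommRingCat.{u}) (e : X ≅ Spec R)
    (E F : CochainComplex X.Modules ℤ) (b : ℤ)
    (hEb : ∀ i : ℤ, b < i → IsZero (E.X i))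
    (hE : ∀ i : ℤ, FlatMod.IsFinLocFree (E.X i)) (hF : ∀ i : ℤ, (F.X i).IsQuasicoherent) :
    Function.Bijective (fun φ : (HomotopyCategory.quotient X.Modules (ComplexShape.up ℤ)).obj E ⟶
        (HomotopyCategory.quotient X.Modules (ComplexShape.up ℤ)).obj F =>
      (DerivedCategory.Qh (C := X.Modules)).map φ) := by
  let P : CochainComplex (ModuleCat.{u} R) ℤ :=
    ((G R e).mapHomologicalComplex (ComplexShape.up ℤ)).obj E
  let N : CochainComplex (ModuleCat.{u} R) ℤ :=
    ((G R e).mapHomologicalComplex (ComplexShape.up ℤ)).obj F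
  haveI : ∀ i, (E.X i).IsQuasicoherent := fun i => isQuasicoherent_of_isFinLocFree _ (hE i)
  haveI : ∀ i, (F.X i).IsQuasicoherent := hF
  have hcE : ∀ i, IsIso ((adj R e).counit.app (E.X i)) := fun i => isIso_counit R e _
  have hcF : ∀ i, IsIso ((adj R e).counit.app (F.X i)) := fun i => isIso_counit R e _
  let isoE : ((T R e).mapHomologicalComplex (ComplexShape.up ℤ)).obj P ≅ E :=
    HomologicalComplex.Hom.isoOfComponents (fun i => @asIso _ _ _ _ ((adj R e).counit.app (E.X i)) (hcE i))
      (fun i j _ => ((adj R e).counit.naturality (E.d i j)).symm)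
  let isoF : ((T R e).mapHomologicalComplex (ComplexShape.up ℤ)).obj N ≅ F :=
    HomologicalComplex.Hom.isoOfComponents (fun i => @asIso _ _ _ _ ((adj R e).counit.app (F.X i)) (hcF i))
      (fun i j _ => ((adj R e).counit.naturality (F.d i j)).symm)
  haveI : ∀ i, Projective (P.X i) := fun i => projective_G_obj R e _ (hE i)
  haveI : P.IsStrictlyLE b := by
    rw [CochainComplex.isStrictlyLE_iff]
    intro i hi
    exact (G R e).map_isZero (hEb i hi)
  haveI : P.IsKProjective := CochainComplex.isKProjective_of_projective P b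
  exact bijective_map_of_iso (DerivedCategory.Qh (C := X.Modules))
    ((HomotopyCategory.quotient X.Modules (ComplexShape.up ℤ)).mapIso isoE.symm)
    ((HomotopyCategory.quotient X.Modules (ComplexShape.up ℤ)).mapIso isoF)
    (qh_map_bijective (T R e) P N)

end Spec

/-- **Main theorem**: on an affine scheme, homotopy classes of maps from a bounded above complex of
finite locally free modules to a complex of quasi-coherent modules are the morphisms in `D(O_X)`. -/
theorem qh_map_bijective_of_isAffine {X : Scheme.{u}} [IsAffine X]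
    (E F : CochainComplex X.Modules ℤ) (b : ℤ)
    (hEb : ∀ i : ℤ, b < i → IsZero (E.X i))
    (hE : ∀ i : ℤ, FlatMod.IsFinLocFree (E.X i)) (hF : ∀ i : ℤ, (F.X i).IsQuasicoherent) :
    Function.Bijective (fun φ : (HomotopyCategory.quotient X.Modules (ComplexShape.up ℤ)).obj E ⟶
        (HomotopyCategory.quotient X.Modules (ComplexShape.up ℤ)).obj F =>
      (DerivedCategory.Qh (C := X.Modules)).map φ) :=
  qh_map_bijective_of_iso_spec Γ(X, ⊤) (Scheme.isoSpec X) E F b hEb hE hF

end Groth.Agent.R2.H99.AffKProj
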