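import Mathlib
import Groth.Prelude.Def_CxOX
import Groth.Prelude.Def_DCoh3
import Groth.Agent.R2.H4Perf
import Groth.Agent.R2.H12DevH
import Groth.Agent.Lib.Helper17AdjWay1
import Groth.Agent.Lib.Helper23QCohAbelian
import Groth.Agent.Lib.Helper23QCohLocal

/-!
# Cohomology sheaves of pseudo-coherent objects (helper99, round 2)

Namespace `Groth.Agent.R2.H99.PCQCoh`.

* `isQuasicoherent_homology` : the homology of a complex with quasi-coherent terms is quasi-coherent.
* `isQuasicoherent_HD_of_spRep` : cohomology sheaves of (the image of) a strictly perfect complex.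
* `isQCoh_HD_of_isPseudoCoherentD` / `exists_qcoh_epi` : S7240.
-/

set_option autoImplicit false
set_option linter.style.haveILetI false
universe u
open CategoryTheory CategoryTheory.Limits AlgebraicGeometry TopologicalSpace

attribute [local instance] HasDerivedCategory.standard

namespace Groth.Agent.R2.H99.PCQCoh

open DerivedCategory Groth.Agent.R2.H4.Perf Groth.Agent.R2.H4.Conn Groth.Agent.Lib.Helper17.AdjWay

variable {X : Scheme.{u}}

lemma isQuasicoherent_of_isFinLocFree' (M : X.Modules) (h : FlatMod.IsFinLocFree M) :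
    M.IsQuasicoherent := by
  have hfp := Groth.Agent.Lib.Helper2.LocFree.isFP_of_isFinLocFree M h
  exact { nonempty_quasicoherentData :=
      ⟨(SheafOfModules.IsFinitePresentation.exists_quasicoherentData (R := X.ringCatSheaf) M).choose⟩ }

/-- the homology of a complex with quasi-coherent terms is quasi-coherent. -/
lemma isQuasicoherent_homology (G : CochainComplex X.Modules ℤ)
    (h : ∀ i : ℤ, (G.X i).IsQuasicoherent) (i : ℤ) : (G.homology i).IsQuasicoherent := by
  haveI : ((G.sc i).X₁).IsQuasicoherent := h _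
  haveI : ((G.sc i).X₂).IsQuasicoherent := h _
  haveI : ((G.sc i).X₃).IsQuasicoherent := h _
  haveI : (kernel (G.sc i).g).IsQuasicoherent :=
    Groth.Agent.Lib.Helper23.QCohLocal.isQuasicoherent_kernel _
  haveI : (cokernel (kernel.lift (G.sc i).g (G.sc i).f (G.sc i).zero)).IsQuasicoherent :=
    Groth.Agent.Lib.Helper23.QCohLocal.isQuasicoherent_cokernel _
  exact Groth.Agent.R2.H12.Dev.qcoh_of_iso (G.sc i).homologyIsoCokernelLift.symm inferInstance

/-- cohomology sheaves of an object represented by a strictly perfect complex are quasi-coherent. -/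
lemma isQuasicoherent_HD_of_spRep (P : DCoh.D X) (hP : SPRep P) (i : ℤ) :
    (DCoh.HD P i).IsQuasicoherent := by
  obtain ⟨G, hG, ⟨e⟩⟩ := hP
  have h1 : (G.homology i).IsQuasicoherent :=
    isQuasicoherent_homology G (fun k => isQuasicoherent_of_isFinLocFree' _ (hG.2 k)) i
  exact Groth.Agent.R2.H12.Dev.qcoh_of_iso
    (((homologyFunctorFactors X.Modules i).app G).symm ≪≫ (homologyFunctor _ i).mapIso e) h1

/-- affine-local approximations. -/
lemma exists_affine_spApprox (m : ℤ) (E : DCoh.D X) (hE : DCoh.IsPseudoCoherentD m E) (x : X) :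
    ∃ (V : X.Opens) (hV : IsAffineOpen V), x ∈ V ∧
      SPApprox m ((DCoh.restrictD hV.fromSpec).obj E) := by
  have hloc := (isPseudoCoherentD_iff m E).1 hE
  rw [loc_iff_opens (isLocalPred_spApprox m)] at hloc
  obtain ⟨W, hxW, hW⟩ := hloc x
  obtain ⟨_, ⟨V', hV', rfl⟩, hxV, hVW⟩ :=
    X.isBasis_affineOpens.exists_subset_of_mem_open hxW W.2
  let V : X.Opens := V'
  have hV : IsAffineOpen V := hV'
  have hVW' : V ≤ W := hVW
  refine ⟨V, hV, hxV, ?_⟩
  have h1 : SPApprox m ((DCoh.restrictD V.ι).obj E) :=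
    (isLocalPred_spApprox m).of_le hVW' E hW
  exact IsLocalPred.of_fac (Φ := fun U (K : DCoh.D U) => SPApprox m K) (isLocalPred_spApprox m)
    hV.isoSpec.inv V.ι hV.fromSpec hV.isoSpec_inv_ι E h1

/-- **S7240 (1)**. -/
theorem isQCoh_HD_of_isPseudoCoherentD (m : ℤ) (E : DCoh.D X) (hE : DCoh.IsPseudoCoherentD m E)
    (i : ℤ) (hi : m < i) : Coh.IsQCoh (DCoh.HD E i) := by
  choose V hV hxV hS using exists_affine_spApprox m E hE
  have hcov : IsOpenCover V := by
    rw [IsOpenCover, eq_top_iff]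
    intro x _
    exact Opens.mem_iSup.2 ⟨x, hxV x⟩
  refine Groth.Agent.Lib.Helper23.QCohLocal.isQuasicoherent_of_affine_cover (DCoh.HD E i) V hcov hV
    (fun x => ?_)
  obtain ⟨P, α, hP, hα⟩ := hS x
  haveI := hα.1 i hi
  have h1 : (DCoh.HD P i).IsQuasicoherent := isQuasicoherent_HD_of_spRep P hP i
  exact Groth.Agent.R2.H12.Dev.qcoh_of_iso
    (asIso ((homologyFunctor _ i).map α) ≪≫
      homologyIso (Scheme.Modules.restrictFunctor (hV x).fromSpec) E i) h1

/-- **S7240 (2)**. -/
theorem exists_qcoh_epi (m : ℤ) (E : DCoh.D X) (hE : DCoh.IsPseudoCoherentD m E) (x : X) :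
    ∃ (V : X.Opens) (Q : (V : Scheme.{u}).Modules)
      (π : Q ⟶ (Scheme.Modules.restrictFunctor V.ι).obj (DCoh.HD E m)), x ∈ V ∧ Coh.IsQCoh Q ∧ Epi π := by
  have hloc := (isPseudoCoherentD_iff m E).1 hE
  rw [loc_iff_opens (isLocalPred_spApprox m)] at hloc
  obtain ⟨V, hxV, P, α, hP, hα⟩ := hloc x
  haveI := hα.2
  refine ⟨V, DCoh.HD P m, (homologyFunctor _ m).map α ≫
    (homologyIso (Scheme.Modules.restrictFunctor V.ι) E m).hom, hxV,
    isQuasicoherent_HD_of_spRep P hP m, ?_⟩
  infer_instance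

end Groth.Agent.R2.H99.PCQCoh
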