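import Mathlib
import Groth.Agent.R2.H28MVShriek
import Groth.Agent.R2.H28GlueTwo
import Groth.Agent.R2.H28PCPush
import Groth.Agent.R2.H99AffKProj
import Groth.Agent.R2.H5RpushBdd
import Groth.Agent.R2.H5PerfTilde
import Groth.Agent.R2.H99PCQCoh
import Groth.Agent.R2.H4FlatPerf
import Groth.Agent.S0997
import Groth.Agent.R2.H28RGammaZ2
import Groth.Agent.S9498
set_option backward.isDefEq.respectTransparency.types false

/-!
# helper28: vanishing of `Hom(P, M)` for `P` perfect and `M ∈ D_QCoh^{≤ c}`, `c ≪ 0`, on a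
quasi-compact quasi-separated scheme (Mayer–Vietoris induction)
-/

set_option autoImplicit false
set_option linter.style.haveILetI false
universe u
open CategoryTheory CategoryTheory.Limits AlgebraicGeometry HomologicalComplex ZeroObject
  CategoryTheory.Pretriangulated

attribute [local instance] HasDerivedCategory.standard

namespace Groth.Agent.R2.H28.PerfHomVanish

open DerivedCategory Groth.Agent.R2.H28.MVShriek Groth.Agent.R2.H28.GlueTwo
  Groth.Agent.R2.H28.DerBase Groth.Agent.R2.H4.Perf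

section MV

variable {Z : Scheme.{u}}

/-- **Mayer–Vietoris for vanishing of `Hom`**: if `Z = U ∪ V`, then a morphism `P ⟶ M` in
`D(O_Z)` vanishes as soon as all morphisms `P|_U ⟶ M|_U`, `P|_V ⟶ M|_V` and
`P|_{U∩V} ⟶ M[-1]|_{U∩V}` do. -/
theorem hom_eq_zero_of_mv (U V : Z.Opens) (hUV : U ⊔ V = ⊤) (P M : DCoh.D Z)
    (hU : ∀ ψ : (DCoh.restrictD U.ι).obj P ⟶ (DCoh.restrictD U.ι).obj M, ψ = 0)
    (hV : ∀ ψ : (DCoh.restrictD V.ι).obj P ⟶ (DCoh.restrictD V.ι).obj M, ψ = 0)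
    (hW : ∀ ψ : (DCoh.restrictD (U ⊓ V).ι).obj P ⟶
      (DCoh.restrictD (U ⊓ V).ι).obj (M⟦(-1 : ℤ)⟧), ψ = 0)
    (φ : P ⟶ M) : φ = 0 := by
  haveI := pfl_extZero U
  haveI := pfl_extZero V
  haveI := pfl_extZero (U ⊓ V)
  obtain ⟨a, b, c, hT⟩ := mv_extZero U V hUV P
  have hadj : ∀ (W : Z.Opens) [PreservesFiniteLimits (CxOX.extZero W.ι)] (N : DCoh.D Z)
      (_ : ∀ ψ : (DCoh.restrictD W.ι).obj P ⟶ (DCoh.restrictD W.ι).obj N, ψ = 0)
      (g : (CxOX.extZeroD W.ι).obj ((DCoh.restrictD W.ι).obj P) ⟶ N), g = 0 := by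
    intro W _ N hN g
    apply ((adjD W).homEquiv _ _).injective
    rw [hN (((adjD W).homEquiv _ _) g)]
    exact (hN _).symm
  have hb : b ≫ φ = 0 := by
    apply biprod.hom_ext'
    · rw [comp_zero]
      exact hadj U M hU _
    · rw [comp_zero]
      exact hadj V M hV _
  obtain ⟨g, hg⟩ := Triangle.yoneda_exact₃ _ hT φ hb
  have hg0 : g = 0 := by
    apply (shiftFunctor (DCoh.D Z) (-1 : ℤ)).map_injective
    rw [Functor.map_zero]
    have h1 := hadj (U ⊓ V) (M⟦(-1 : ℤ)⟧) hW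
      ((shiftEquiv (DCoh.D Z) (1 : ℤ)).unitIso.hom.app _ ≫ g⟦(-1 : ℤ)⟧')
    exact (cancel_epi ((shiftEquiv (DCoh.D Z) (1 : ℤ)).unitIso.hom.app _)).1
      (h1.trans comp_zero.symm)
  rw [hg, hg0]
  exact comp_zero

end MV

section HZ

variable {X : Scheme.{u}}

/-- all morphisms `j^* P ⟶ j^* M` vanish. -/
def HZ {W : Scheme.{u}} (j : W ⟶ X) [IsOpenImmersion j] (P M : DCoh.D X) : Prop :=
  ∀ ψ : (DCoh.restrictD j).obj P ⟶ (DCoh.restrictD j).obj M, ψ = 0

/-- vanishing of `Hom` between objects isomorphic to given ones. -/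
lemma eq_zero_of_isos {C : Type*} [Category C] [HasZeroMorphisms C] {A B A' B' : C}
    (eA : A ≅ A') (eB : B ≅ B') (h : ∀ ψ : A ⟶ B, ψ = 0) (ψ' : A' ⟶ B') : ψ' = 0 := by
  have h0 := h (eA.hom ≫ ψ' ≫ eB.inv)
  have h1 : ψ' = eA.inv ≫ (eA.hom ≫ ψ' ≫ eB.inv) ≫ eB.hom := by simp
  rw [h1, h0, zero_comp, comp_zero]

lemma HZ.of_iso {W : Scheme.{u}} {j : W ⟶ X} [IsOpenImmersion j] {P M P' M' : DCoh.D X}
    (h : HZ j P M) (eP : P ≅ P') (eM : M ≅ M') : HZ j P' M' :=
  eq_zero_of_isos ((DCoh.restrictD j).mapIso eP) ((DCoh.restrictD j).mapIso eM) h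

lemma hz_comp_iff {W' W : Scheme.{u}} (k : W' ⟶ W) (j : W ⟶ X) [IsOpenImmersion k]
    [IsOpenImmersion j] (P M : DCoh.D X) :
    HZ (k ≫ j) P M ↔ HZ k ((DCoh.restrictD j).obj P) ((DCoh.restrictD j).obj M) :=
  ⟨fun h => eq_zero_of_isos ((restrictDComp k j).app P) ((restrictDComp k j).app M) h,
    fun h => eq_zero_of_isos ((restrictDComp k j).app P).symm ((restrictDComp k j).app M).symm h⟩

lemma hz_congr {W : Scheme.{u}} {j j' : W ⟶ X} (hjj : j = j') [IsOpenImmersion j]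
    [IsOpenImmersion j'] (P M : DCoh.D X) (h : HZ j P M) : HZ j' P M := by
  subst hjj
  exact h

/-- restriction along an isomorphism is full on derived categories. -/
lemma hz_of_iso_comp {W' W : Scheme.{u}} (e : W' ≅ W) (j : W ⟶ X) [IsOpenImmersion j]
    (P M : DCoh.D X) (h : HZ j P M) : HZ (e.hom ≫ j) P M := by
  rw [hz_comp_iff]
  intro ψ
  haveI : (DCoh.restrictD e.hom).Full :=
    inferInstanceAs (Groth.Agent.R2.H99.AffKProj.Ψ e).mapDerivedCategory.Full
  obtain ⟨ψ₀, rfl⟩ := (DCoh.restrictD e.hom).map_surjective ψ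
  rw [h ψ₀, Functor.map_zero]

/-- `HZ` only depends on the image of the open immersion. -/
lemma hz_of_range_eq {W W' : Scheme.{u}} (j : W ⟶ X) (j' : W' ⟶ X) [IsOpenImmersion j]
    [IsOpenImmersion j'] (hr : Set.range j'.base = Set.range j.base) (P M : DCoh.D X)
    (h : HZ j P M) : HZ j' P M :=
  hz_congr (IsOpenImmersion.isoOfRangeEq_hom_fac j' j hr) P M
    (hz_of_iso_comp (IsOpenImmersion.isoOfRangeEq j' j hr) j P M h)

/-- **Mayer–Vietoris for `HZ`** on opens of `X`. -/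
theorem hz_sup (U V : X.Opens) (P M : DCoh.D X) (hU : HZ U.ι P M) (hV : HZ V.ι P M)
    (hW : HZ (U ⊓ V).ι P (M⟦(-1 : ℤ)⟧)) : HZ (U ⊔ V).ι P M := by
  set W : X.Opens := U ⊔ V with hWdef
  let U' : (W : Scheme.{u}).Opens := W.ι ⁻¹ᵁ U
  let V' : (W : Scheme.{u}).Opens := W.ι ⁻¹ᵁ V
  have hUV' : U' ⊔ V' = ⊤ := by
    ext x
    simp only [U', V', TopologicalSpace.Opens.coe_sup, Set.mem_union, SetLike.mem_coe,
      TopologicalSpace.Opens.coe_top, Set.mem_univ, iff_true]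
    exact x.2
  have hrange : ∀ (T : X.Opens), T ≤ W →
      Set.range ((W.ι ⁻¹ᵁ T).ι ≫ W.ι).base = Set.range T.ι.base := by
    intro T hT
    ext x
    simp only [Scheme.Hom.comp_base, TopCat.hom_comp, ContinuousMap.coe_comp, Set.mem_range,
      Function.comp_apply]
    constructor
    · rintro ⟨y, rfl⟩
      exact ⟨⟨_, y.2⟩, rfl⟩
    · rintro ⟨y, rfl⟩
      exact ⟨⟨⟨y.1, hT y.2⟩, y.2⟩, rfl⟩
  intro φ
  apply hom_eq_zero_of_mv U' V' hUV'
  · exact (hz_comp_iff _ _ P M).1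
      (hz_of_range_eq U.ι _ (hrange U le_sup_left) P M hU)
  · exact (hz_comp_iff _ _ P M).1
      (hz_of_range_eq V.ι _ (hrange V le_sup_right) P M hV)
  · have h1 : HZ ((W.ι ⁻¹ᵁ (U ⊓ V)).ι ≫ W.ι) P (M⟦(-1 : ℤ)⟧) :=
      hz_of_range_eq (U ⊓ V).ι _ (hrange (U ⊓ V) (inf_le_left.trans le_sup_left)) P _ hW
    have h2 := (hz_comp_iff _ _ P (M⟦(-1 : ℤ)⟧)).1 h1
    exact eq_zero_of_isos (Iso.refl _)
      ((DCoh.restrictD (U' ⊓ V').ι).mapIso (((DCoh.restrictD W.ι).commShiftIso (-1 : ℤ)).app M)) h2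

end HZ

section Induction

open Groth.Agent.R2.H28.PCPush Groth.Agent.R2.H28.RpushQCoh Groth.Agent.R2.H5.RpushBdd
  Groth.Agent.S14388

variable {X : Scheme.{u}} (Pr : DCoh.D X → Prop)

/-- uniform vanishing of `Hom(P|_W, M|_W)` for `P ∈ Pr` and `M ∈ D_QCoh^{≤ c}(X)`. -/
def Van (W : X.Opens) (c : ℤ) : Prop :=
  ∀ P, Pr P → ∀ M : DCoh.D X, DCoh.IsQCohD M → M.IsLE c → HZ W.ι P M

variable {Pr}

lemma Van.mono {W : X.Opens} {c c' : ℤ} (h : c' ≤ c) (hv : Van Pr W c) : Van Pr W c' :=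
  fun P hP M hM hc' => hv P hP M hM (haveI := hc'; tt.isLE_of_le M c' c h)

lemma van_of_isEmpty (W : X.Opens) (hW : IsEmpty ↥(W : Scheme.{u})) (c : ℤ) : Van Pr W c :=
  fun _ _ _ _ _ _ => (isZero_D_of_isEmpty _).eq_of_src _ _

lemma van_bot (c : ℤ) : Van Pr (⊥ : X.Opens) c :=
  van_of_isEmpty (⊥ : X.Opens) ⟨fun (x : ↥((⊥ : X.Opens) : Scheme.{u})) => x.2.elim⟩ c

lemma isQCohD_shift {M : DCoh.D X} (hM : DCoh.IsQCohD M) (n : ℤ) : DCoh.IsQCohD (M⟦n⟧) :=
  fun j => isQCoh_of_iso (hShiftIso M n j (n + j) rfl).symm (hM _)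

lemma van_sup {U V : X.Opens} {c₁ c₂ c₃ : ℤ} (hU : Van Pr U c₁) (hV : Van Pr V c₂)
    (hW : Van Pr (U ⊓ V) c₃) : Van Pr (U ⊔ V) (min (min c₁ c₂) (c₃ - 1)) := by
  intro P hP M hM hc
  haveI := hc
  have h1 : M.IsLE c₁ := tt.isLE_of_le M (min (min c₁ c₂) (c₃ - 1)) c₁
    ((min_le_left _ _).trans (min_le_left _ _))
  have h2 : M.IsLE c₂ := tt.isLE_of_le M (min (min c₁ c₂) (c₃ - 1)) c₂
    ((min_le_left _ _).trans (min_le_right _ _))
  have h3 : M.IsLE (c₃ - 1) := tt.isLE_of_le M (min (min c₁ c₂) (c₃ - 1)) (c₃ - 1)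
    (min_le_right _ _)
  have h3' : (M⟦(-1 : ℤ)⟧).IsLE c₃ := tt.isLE_shift M (c₃ - 1) (-1) c₃ (by omega)
  exact hz_sup U V P M (hU P hP M hM h1) (hV P hP M hM h2)
    (hW P hP (M⟦(-1 : ℤ)⟧) (isQCohD_shift hM _) h3')

/-- unions of finitely many basic opens of an affine open. -/
theorem exists_van_sup_basicOpen (hbase : ∀ U : X.Opens, IsAffineOpen U → ∃ c, Van Pr U c) :
    ∀ (n : ℕ) (U : X.Opens) (_ : IsAffineOpen U) (s : Finset Γ(X, U)), s.card ≤ n →
      ∃ c, Van Pr (s.sup fun f => X.basicOpen f) c := by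
  classical
  intro n
  induction n with
  | zero =>
    intro U hU s hs
    have : s = ∅ := Finset.card_eq_zero.1 (Nat.le_zero.1 hs)
    subst this
    rw [Finset.sup_empty]
    exact ⟨0, van_bot 0⟩
  | succ n ih =>
    intro U hU s hs
    rcases s.eq_empty_or_nonempty with rfl | ⟨f, hf⟩
    · rw [Finset.sup_empty]
      exact ⟨0, van_bot 0⟩
    · have hs' : (s.erase f).card ≤ n := by
        rw [Finset.card_erase_of_mem hf]; omega
      obtain ⟨c₁, h₁⟩ := ih U hU (s.erase f) hs'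
      obtain ⟨c₂, h₂⟩ := hbase (X.basicOpen f) (hU.basicOpen f)
      have hs'' : ((s.erase f).image (fun g => g * f)).card ≤ n :=
        Finset.card_image_le.trans hs'
      obtain ⟨c₃, h₃⟩ := ih U hU ((s.erase f).image (fun g => g * f)) hs''
      have e1 : (s.sup fun f => X.basicOpen f) =
          ((s.erase f).sup fun g => X.basicOpen g) ⊔ X.basicOpen f := by
        conv_lhs => rw [← Finset.insert_erase hf]
        rw [Finset.sup_insert, sup_comm]
      have e2 : (((s.erase f).image (fun g => g * f)).sup fun g => X.basicOpen g) =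
          ((s.erase f).sup fun g => X.basicOpen g) ⊓ X.basicOpen f := by
        rw [Finset.sup_image, Finset.sup_inf_distrib_right]
        congr 1
        ext1 g
        exact X.basicOpen_mul g f
      rw [e2] at h₃
      rw [e1]
      exact ⟨_, van_sup h₁ h₂ h₃⟩

/-- quasi-compact opens of an affine open. -/
theorem exists_van_of_le_affine (hbase : ∀ U : X.Opens, IsAffineOpen U → ∃ c, Van Pr U c)
    (U : X.Opens) (hU : IsAffineOpen U) (W : X.Opens) (hWU : W ≤ U)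
    (hW : IsCompact (W : Set X)) : ∃ c, Van Pr W c := by
  have hcov : ∀ x : W, ∃ f : Γ(X, U), X.basicOpen f ≤ W ∧ ↑x ∈ X.basicOpen f :=
    fun x => hU.exists_basicOpen_le x (hWU x.2)
  choose f hf1 hf2 using hcov
  obtain ⟨t, ht⟩ := hW.elim_finite_subcover (fun x : W => (X.basicOpen (f x) : Set X))
    (fun x => (X.basicOpen (f x)).2) (fun x hx => Set.mem_iUnion.2 ⟨⟨x, hx⟩, hf2 ⟨x, hx⟩⟩)
  classical
  have hW' : W = (t.image f).sup fun g => X.basicOpen g := by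
    rw [Finset.sup_image]
    apply le_antisymm
    · intro x hx
      obtain ⟨i, hi⟩ := Set.mem_iUnion.1 (ht hx)
      obtain ⟨hit, hxi⟩ := Set.mem_iUnion.1 hi
      exact (Finset.le_sup (f := (fun g => X.basicOpen g) ∘ f) hit) hxi
    · exact Finset.sup_le fun i _ => hf1 i
  rw [hW']
  exact exists_van_sup_basicOpen hbase _ U hU _ le_rfl

/-- **the induction**: on a quasi-compact quasi-separated scheme, uniform vanishing over the
affine opens gives uniform vanishing on `X`. -/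
theorem exists_van_top [CompactSpace ↥X] [QuasiSeparatedSpace ↥X]
    (hbase : ∀ U : X.Opens, IsAffineOpen U → ∃ c, Van Pr U c) : ∃ c, Van Pr ⊤ c := by
  have key : ∀ W : X.Opens, W ≤ (⊤ : X.Opens) → IsCompact (W : Set X) → ∃ c, Van Pr W c := by
    refine compact_open_induction_on (P := fun S : X.Opens =>
      ∀ W : X.Opens, W ≤ S → IsCompact (W : Set X) → ∃ c, Van Pr W c) ⊤ isCompact_univ ?_ ?_
    · intro W hW _
      exact ⟨0, van_of_isEmpty _ ⟨fun x => (hW x.2).elim⟩ 0⟩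
    · intro S hS U ih W hW hWc
      have hq := QuasiSeparatedSpace.inter_isCompact (α := ↥X)
      have hWS : IsCompact ((W ⊓ S : X.Opens) : Set X) := hq _ _ W.2 hWc S.2 hS
      have hWU : IsCompact ((W ⊓ U.1 : X.Opens) : Set X) :=
        hq _ _ W.2 hWc U.1.2 U.2.isCompact
      have hWSU : IsCompact (((W ⊓ S) ⊓ (W ⊓ U.1) : X.Opens) : Set X) :=
        hq _ _ (W ⊓ S).2 hWS (W ⊓ U.1).2 hWU
      obtain ⟨c₁, h₁⟩ := ih (W ⊓ S) inf_le_right hWS
      obtain ⟨c₂, h₂⟩ := exists_van_of_le_affine hbase U.1 U.2 (W ⊓ U.1) inf_le_right hWU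
      obtain ⟨c₃, h₃⟩ := exists_van_of_le_affine hbase U.1 U.2 ((W ⊓ S) ⊓ (W ⊓ U.1))
        (inf_le_right.trans inf_le_right) hWSU
      have e : W = (W ⊓ S) ⊔ (W ⊓ U.1) := by
        rw [← inf_sup_left]
        exact (inf_eq_left.2 hW).symm
      rw [e]
      exact ⟨_, van_sup h₁ h₂ h₃⟩
  exact key ⊤ le_rfl isCompact_univ

/-- restriction to `⊤` is faithful. -/
lemma eq_zero_of_hz_top {P M : DCoh.D X} (h : HZ (⊤ : X.Opens).ι P M) (φ : P ⟶ M) : φ = 0 := by
  haveI : (DCoh.restrictD (X.topIso).hom).Faithful :=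
    inferInstanceAs (Groth.Agent.R2.H99.AffKProj.Ψ X.topIso).mapDerivedCategory.Faithful
  apply (DCoh.restrictD (X.topIso).hom).map_injective
  rw [Functor.map_zero]
  exact h _

/-- **main theorem (abstract form)**. -/
theorem exists_hom_eq_zero [CompactSpace ↥X] [QuasiSeparatedSpace ↥X]
    (hbase : ∀ U : X.Opens, IsAffineOpen U → ∃ c, Van Pr U c) :
    ∃ c : ℤ, ∀ P, Pr P → ∀ M : DCoh.D X, DCoh.IsQCohD M → M.IsLE c → ∀ φ : P ⟶ M, φ = 0 := by
  obtain ⟨c, hc⟩ := exists_van_top hbase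
  exact ⟨c, fun P hP M hM hMc φ => eq_zero_of_hz_top (hc P hP M hM hMc) φ⟩

end Induction

section Base

/-- ring-level base case: no maps in the derived category from a bounded above complex of
projectives placed in degrees `≥ a` to an object of `D^{≤ a - 1}`. -/
theorem hom_eq_zero_of_projective {A : Type*} [Category A] [Abelian A]
    [HasDerivedCategory A] (E : CochainComplex A ℤ) (a b : ℤ) [∀ i, Projective (E.X i)]
    [E.IsStrictlyLE b] [E.IsStrictlyGE a] (N : DerivedCategory A) [N.IsLE (a - 1)]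
    (φ : Q.obj E ⟶ N) : φ = 0 := by
  obtain ⟨K, hK, ⟨e⟩⟩ := N.exists_iso_Q_obj_of_isLE (a - 1)
  haveI : E.IsKProjective := CochainComplex.isKProjective_of_projective E b
  suffices h : φ ≫ e.hom = 0 by
    rw [← cancel_mono e.hom, h, zero_comp]
  obtain ⟨g, hg⟩ := (CochainComplex.IsKProjective.Qh_map_bijective E
    ((HomotopyCategory.quotient _ _).obj K)).surjective
      ((quotientCompQhIso A).hom.app E ≫ (φ ≫ e.hom) ≫ (quotientCompQhIso A).inv.app K)
  obtain ⟨f, rfl⟩ := (HomotopyCategory.quotient _ _).map_surjective g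
  have hf : f = 0 := by
    ext i : 1
    by_cases hi : i < a
    · exact (CochainComplex.isZero_of_isStrictlyGE E a i hi).eq_of_src _ _
    · exact (CochainComplex.isZero_of_isStrictlyLE K (a - 1) i (by omega)).eq_of_tgt _ _
  rw [hf, Functor.map_zero, Functor.map_zero] at hg
  have h2 : (φ ≫ e.hom) = (quotientCompQhIso A).inv.app E ≫
      ((quotientCompQhIso A).hom.app E ≫ (φ ≫ e.hom) ≫ (quotientCompQhIso A).inv.app K) ≫
        (quotientCompQhIso A).hom.app K := by simp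
  rw [h2, ← hg, zero_comp, comp_zero]

end Base

section SpecBase

open Groth.Agent.Lib.Helper17.AdjWay Groth.Agent.R2.H28.RpushQCoh

variable (R : CommRingCat.{u})

/-- base case on `Spec R`. -/
theorem hom_eq_zero_spec (E₀ : CochainComplex (ModuleCat.{u} R) ℤ) (a b : ℤ)
    [∀ i, Projective (E₀.X i)] [E₀.IsStrictlyLE b] [E₀.IsStrictlyGE a]
    (P M : DCoh.D (Spec (CommRingCat.of R)))
    (eP : P ≅ (DCoh.tildeD R).obj (Q.obj E₀)) (hM : DCoh.IsQCohD M) (hMle : M.IsLE (a - 1))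
    (ψ : P ⟶ M) : ψ = 0 := by
  obtain ⟨hfull, -, hess⟩ := Groth.Agent.S0997.result R
  obtain ⟨M₀, ⟨eM⟩⟩ := (hess M).1 hM
  haveI : M₀.IsLE (a - 1) := by
    rw [DerivedCategory.isLE_iff]
    intro i hi
    apply isZero_of_faithful_obj (tilde.functor R)
    refine IsZero.of_iso ?_ (homologyIso (tilde.functor R) M₀ i).symm
    exact IsZero.of_iso (DerivedCategory.isZero_of_isLE M (a - 1) i hi)
      ((homologyFunctor _ i).mapIso eM)
  haveI := hfull
  refine eq_zero_of_isos eP.symm eM (fun ψ' => ?_) ψ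
  obtain ⟨ψ₀, rfl⟩ := (DCoh.tildeD R).map_surjective ψ'
  rw [hom_eq_zero_of_projective E₀ a b M₀ ψ₀, Functor.map_zero]

/-- base case on an affine open of a scheme. -/
theorem hz_of_affine {X : Scheme.{u}} {U : X.Opens} (hU : IsAffineOpen U) (P M : DCoh.D X)
    (E₀ : CochainComplex (ModuleCat.{u} Γ(X, U)) ℤ) (a b : ℤ)
    [∀ i, Projective (E₀.X i)] [E₀.IsStrictlyLE b] [E₀.IsStrictlyGE a]
    (eP : (DCoh.restrictD hU.fromSpec).obj P ≅ (DCoh.tildeD Γ(X, U)).obj (Q.obj E₀))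
    (hM : DCoh.IsQCohD M) (hMle : M.IsLE (a - 1)) : HZ U.ι P M := by
  refine hz_of_range_eq hU.fromSpec U.ι ?_ P M (fun ψ => ?_)
  · rw [hU.range_fromSpec]
    exact Subtype.range_coe
  · exact hom_eq_zero_spec Γ(X, U) E₀ a b _ _ eP
      (Groth.Agent.R2.H28.RGammaZ.isQCohD_restrictD hU.fromSpec M hM)
      (Groth.Agent.R2.H4.Conn.isLE_map _ M (a - 1) hMle) ψ

end SpecBase

section Perfect

open Groth.Agent.R2.H99.PCNoeth Groth.Agent.R2.H99.PCQCoh Groth.Agent.R2.H4.FlatPerf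
  Groth.Agent.R2.H5.PerfTilde

variable {X : Scheme.{u}}

/-- perfect objects restrict to perfect objects. -/
lemma isPerfect_restrictD {W : Scheme.{u}} (j : W ⟶ X) [IsOpenImmersion j] (P : DCoh.D X)
    (hP : DCoh.IsPerfect P) : DCoh.IsPerfect ((DCoh.restrictD j).obj P) :=
  (isPerfect_iff _).2 (loc_restrict isLocalPred_spRep j P ((isPerfect_iff P).1 hP))

/-- perfect objects have quasi-coherent cohomology. -/
lemma isQCohD_of_isPerfect (P : DCoh.D X) (hP : DCoh.IsPerfect P) : DCoh.IsQCohD P := fun i =>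
  isQCoh_HD_of_isPseudoCoherentD (i - 1) P (isPseudoCoherentD_of_isPerfect P hP (i - 1)) i
    (by omega)

/-- a perfect object over an affine open is the tilde of a bounded complex of finite projective
modules. -/
theorem exists_model_of_isPerfect {U : X.Opens} (hU : IsAffineOpen U) (P : DCoh.D X)
    (hP : DCoh.IsPerfect P) :
    ∃ (E₀ : CochainComplex (ModuleCat.{u} Γ(X, U)) ℤ) (a b : ℤ), (∀ i, Projective (E₀.X i)) ∧
      E₀.IsStrictlyLE b ∧ E₀.IsStrictlyGE a ∧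
      Nonempty ((DCoh.restrictD hU.fromSpec).obj P ≅ (DCoh.tildeD Γ(X, U)).obj (Q.obj E₀)) := by
  have hP' := isPerfect_restrictD hU.fromSpec P hP
  obtain ⟨-, -, hess⟩ := Groth.Agent.S0997.result Γ(X, U)
  obtain ⟨P₀, ⟨e⟩⟩ := (hess _).1 (isQCohD_of_isPerfect _ hP')
  obtain ⟨E, a, b, hv, hp, ⟨e'⟩⟩ := isPerfect_of_isPerfect_tildeD (A := Γ(X, U)) P₀
    (isPerfect_of_iso e.symm hP')
  refine ⟨E, a, b, fun i => ?_, ?_, ?_, ⟨e.symm ≪≫ (DCoh.tildeD Γ(X, U)).mapIso e'.symm⟩⟩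
  · exact (IsProjective.iff_projective (R := Γ(X, U)) (E.X i)).1 (hp i).2
  · rw [CochainComplex.isStrictlyLE_iff]
    exact fun i hi => hv i (Or.inr hi)
  · rw [CochainComplex.isStrictlyGE_iff]
    exact fun i hi => hv i (Or.inl hi)

/-- **`Hom(P, M) = 0` for `P` perfect and `M ∈ D_QCoh^{≤ c}`, `c ≪ 0`**, on a quasi-compact
quasi-separated scheme. -/
theorem exists_hom_eq_zero_of_isPerfect [CompactSpace ↥X] [QuasiSeparatedSpace ↥X]
    (P : DCoh.D X) (hP : DCoh.IsPerfect P) :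
    ∃ c : ℤ, ∀ M : DCoh.D X, DCoh.IsQCohD M → M.IsLE c → ∀ φ : P ⟶ M, φ = 0 := by
  obtain ⟨c, hc⟩ := exists_hom_eq_zero (Pr := fun P' => P' = P) (fun U hU => by
    obtain ⟨E₀, a, b, h1, h2, h3, ⟨e⟩⟩ := exists_model_of_isPerfect hU P hP
    refine ⟨a - 1, ?_⟩
    rintro P' rfl M hM hMle
    exact hz_of_affine hU _ M E₀ a b e hM hMle)
  exact ⟨c, fun M hM hMc φ => hc P rfl M hM hMc φ⟩

end Perfect

section FinLocFree

open Groth.Agent.R2.H28.RpushQCoh Groth.Agent.R2.H5.PerfTilde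

variable {X : Scheme.{u}}

/-- a finite locally free module over an affine open, placed in degree `0`, is the tilde of a
finite projective module placed in degree `0`. -/
theorem exists_model_of_isFinLocFree {U : X.Opens} (hU : IsAffineOpen U) (F : X.Modules)
    (hF : FlatMod.IsFinLocFree F) :
    ∃ (E₀ : CochainComplex (ModuleCat.{u} Γ(X, U)) ℤ), (∀ i, Projective (E₀.X i)) ∧
      E₀.IsStrictlyLE 0 ∧ E₀.IsStrictlyGE 0 ∧
      Nonempty ((DCoh.restrictD hU.fromSpec).obj (DCoh.inD X F) ≅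
        (DCoh.tildeD Γ(X, U)).obj (Q.obj E₀)) := by
  set R : CommRingCat.{u} := Γ(X, U) with hR
  let F' : (Spec R).Modules := (Scheme.Modules.restrictFunctor hU.fromSpec).obj F
  have hF' : FlatMod.IsFinLocFree F' :=
    Groth.Agent.R2.H4.LocHtpy.isFinLocFree_restrict hU.fromSpec F hF
  haveI : F'.IsQuasicoherent := isQuasicoherent_of_isFinLocFree F' hF'
  let F₀ : ModuleCat.{u} R := (moduleSpecΓFunctor (R := R)).obj F'
  let eF : (tilde.functor R).obj F₀ ≅ F' :=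
    @asIso _ _ _ _ (Scheme.Modules.fromTildeΓ F')
      (Scheme.Modules.isIso_fromTildeΓ_of_isQuasicoherent (R := R) F')
  have hproj : Module.Projective R F₀ :=
    ((Groth.Agent.Lib.Helper2.FPAff.isFinLocFree_tilde_iff R F₀).1
      (isFinLocFree_of_iso eF.symm hF')).2
  haveI : Projective F₀ := (IsProjective.iff_projective (R := R) F₀).1 hproj
  let E₀ : CochainComplex (ModuleCat.{u} R) ℤ := (CochainComplex.singleFunctor _ 0).obj F₀
  refine ⟨E₀, fun i => ?_, inferInstance, inferInstance, ⟨?_⟩⟩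
  · by_cases hi : i = 0
    · subst hi
      exact Projective.of_iso (HomologicalComplex.singleObjXSelf (ComplexShape.up ℤ) 0 F₀).symm
        inferInstance
    · have hz : IsZero (E₀.X i) := HomologicalComplex.isZero_single_obj_X (ComplexShape.up ℤ) 0 F₀ i hi
      exact Projective.of_iso hz.isoZero.symm inferInstance
  · exact restrictInDIso hU.fromSpec F ≪≫ (singleFunctor _ 0).mapIso eF.symm ≪≫
      (((tilde.functor R).mapDerivedCategorySingleFunctor 0).app F₀).symm ≪≫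
      (DCoh.tildeD R).mapIso ((singleFunctorIsoCompQ (ModuleCat.{u} R) 0).app F₀)

/-- **uniform vanishing of `Hom(F[0], M)`** for `F` finite locally free and `M ∈ D_QCoh^{≤ c}`,
on a quasi-compact quasi-separated scheme. -/
theorem exists_hom_eq_zero_of_isFinLocFree (X : Scheme.{u}) [CompactSpace ↥X]
    [QuasiSeparatedSpace ↥X] :
    ∃ c : ℤ, ∀ (F : X.Modules), FlatMod.IsFinLocFree F → ∀ M : DCoh.D X, DCoh.IsQCohD M →
      M.IsLE c → ∀ φ : DCoh.inD X F ⟶ M, φ = 0 := by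
  obtain ⟨c, hc⟩ := exists_hom_eq_zero
    (Pr := fun P' => ∃ F : X.Modules, FlatMod.IsFinLocFree F ∧ P' = DCoh.inD X F) (fun U hU => by
    refine ⟨-1, ?_⟩
    rintro P' ⟨F, hF, rfl⟩ M hM hMle
    obtain ⟨E₀, h1, h2, h3, ⟨e⟩⟩ := exists_model_of_isFinLocFree hU F hF
    exact hz_of_affine hU _ M E₀ 0 0 e hM hMle)
  exact ⟨c, fun F hF M hM hMc φ => hc _ ⟨F, hF, rfl⟩ M hM hMc φ⟩

end FinLocFree

section Aux

open Groth.Agent.R2.H28.RpushQCoh Groth.Agent.S14388

variable {X : Scheme.{u}}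

lemma isQCohD_truncLT (E : DCoh.D X) (hE : DCoh.IsQCohD E) (a : ℤ) :
    DCoh.IsQCohD ((tt.truncLT a).obj E) := by
  intro j
  by_cases hj : j < a
  · have := isIso_homology_truncLTι a j hj E
    exact isQCoh_of_iso
      (asIso ((homologyFunctor X.Modules j).map ((tt.truncLTι a).app E))).symm (hE j)
  · exact isQCoh_of_isZero (isZero_of_isLE ((tt.truncLT a).obj E) (a - 1) j (by omega))

/-- `Hom(P[-i], Y) = 0` as soon as `Hom(P, Y[i]) = 0`. -/
lemma hom_shift_eq_zero {C : Type*} [Category C] [Preadditive C] [HasShift C ℤ]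
    [∀ n : ℤ, (shiftFunctor C n).Additive] (P Y : C) (i : ℤ)
    (h : ∀ ψ : P ⟶ Y⟦i⟧, ψ = 0) (φ : P⟦-i⟧ ⟶ Y) : φ = 0 := by
  apply (shiftFunctor C i).map_injective
  rw [Functor.map_zero]
  have h1 := h ((shiftFunctorCompIsoId C (-i) i (by omega)).inv.app P ≫ φ⟦i⟧')
  exact (cancel_epi ((shiftFunctorCompIsoId C (-i) i (by omega)).inv.app P)).1
    (h1.trans comp_zero.symm)

end Aux

end Groth.Agent.R2.H28.PerfHomVanish
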