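import Mathlib
import Groth.Agent.R2.H27ProjPerfSpec
import Groth.Agent.Lib.Helper1BKF15
import Groth.Agent.Lib.Helper1BKF4b
import Groth.Agent.Lib.Helper17KInjD5
import Groth.Agent.Lib.Helper16KInjAdj
import Groth.Agent.Lib.Helper21Dual12
import Groth.Agent.Lib.Helper21Dual9
import Groth.Agent.R2.H4PerfFree
set_option backward.isDefEq.respectTransparency.types false

/-!
# `Tot(I ⊗ G)` is K-injective for `I` K-injective and `G` a bounded complex of finite free modules
(helper28)

Package `Pkg4` of helper27's mini-project `PROJ:proj-perf` (S0961).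
-/

set_option autoImplicit false
set_option linter.style.haveILetI false
set_option linter.unusedSectionVars false
universe u
open CategoryTheory CategoryTheory.Limits HomologicalComplex

namespace Groth.Agent.R2.H28.ProjPkg4

open Groth.Agent.Lib.Helper1.BKF

section Abstract

variable {C : Type*} [Category C] [Abelian C]

/-- the middle term of a degreewise split short exact sequence of complexes with K-injective
ends is K-injective -/
theorem isKInjective_X₂_of_splitting (S : ShortComplex (CochainComplex C ℤ))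
    (σ : ∀ n, (S.map (eval C _ n)).Splitting) [S.X₁.IsKInjective] [S.X₃.IsKInjective] :
    S.X₂.IsKInjective := by
  have e := CochainComplex.mappingConeHomOfDegreewiseSplitIso S σ
  haveI : (S.X₁⟦(1 : ℤ)⟧).IsKInjective := inferInstance
  haveI := Groth.Agent.Lib.Helper17.KInj.isKInjective_mappingCone
    (CochainComplex.homOfDegreewiseSplit S σ)
  haveI : (S.X₂⟦(1 : ℤ)⟧).IsKInjective := CochainComplex.isKInjective_of_iso e
  exact (CochainComplex.isKInjective_shift_iff S.X₂ 1).1 inferInstance

end Abstract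

section Bifunctor

variable {C₁ C₂ D : Type*} [Category C₁] [Category C₂] [Category D]
  [Abelian C₁] [Abelian C₂] [Abelian D]
  (F : C₁ ⥤ C₂ ⥤ D) [F.Additive] [∀ X, (F.obj X).Additive]
  [∀ (K₁ : CochainComplex C₁ ℤ) (K₂ : CochainComplex C₂ ℤ),
    HasMapBifunctor K₁ K₂ F (ComplexShape.up ℤ)]
  [∀ ι : Type, HasColimitsOfShape (Discrete ι) D]
  [∀ ι : Type, HasExactColimitsOfShape (Discrete ι) D]

variable (L : CochainComplex C₁ ℤ) (S : ShortComplex (CochainComplex C₂ ℤ))
  (σ : ∀ n, (S.map (eval _ _ n)).Splitting)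

/-- the retraction of `Tot(L ⊗ S.f)` in degree `n` -/
noncomputable def retr (n : ℤ) : ((TL F L).obj S.X₂).X n ⟶ ((TL F L).obj S.X₁).X n :=
  mapBifunctorDesc (fun p q hpq =>
    (F.obj (L.X p)).map (σ q).r ≫ ιMapBifunctor L S.X₁ F (ComplexShape.up ℤ) p q n hpq)

lemma f_retr (n : ℤ) : ((TL F L).map S.f).f n ≫ retr F L S σ n = 𝟙 _ := by
  apply mapBifunctor.hom_ext
  intro p q hpq
  have h1 := ι_TL_map F L S.f p q n hpq
  have h2 : ιMapBifunctor L S.X₂ F (ComplexShape.up ℤ) p q n hpq ≫ retr F L S σ n =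
      (F.obj (L.X p)).map (σ q).r ≫ ιMapBifunctor L S.X₁ F (ComplexShape.up ℤ) p q n hpq := by
    unfold retr
    rw [ι_mapBifunctorDesc]
    rfl
  have h3 : S.f.f q ≫ (σ q).r = 𝟙 _ := (σ q).f_r
  calc ιMapBifunctor L S.X₁ F (ComplexShape.up ℤ) p q n hpq ≫
        ((TL F L).map S.f).f n ≫ retr F L S σ n
      = (ιMapBifunctor L S.X₁ F (ComplexShape.up ℤ) p q n hpq ≫
        ((TL F L).map S.f).f n) ≫ retr F L S σ n := (Category.assoc _ _ _).symm
    _ = ((F.obj (L.X p)).map (S.f.f q) ≫
        ιMapBifunctor L S.X₂ F (ComplexShape.up ℤ) p q n hpq) ≫ retr F L S σ n := by rw [h1]; rfl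
    _ = (F.obj (L.X p)).map (S.f.f q) ≫ (F.obj (L.X p)).map (σ q).r ≫
        ιMapBifunctor L S.X₁ F (ComplexShape.up ℤ) p q n hpq := by
        rw [Category.assoc, h2]; rfl
    _ = ιMapBifunctor L S.X₁ F (ComplexShape.up ℤ) p q n hpq := by
        rw [← Category.assoc, ← CategoryTheory.Functor.map_comp, h3]
        erw [CategoryTheory.Functor.map_id, Category.id_comp]
    _ = _ := (Category.comp_id _).symm

/-- `Tot(L ⊗ -)` sends degreewise split short exact sequences to degreewise split short exact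
sequences -/
noncomputable def splittingTL (n : ℤ) : ((S.map (TL F L)).map (eval _ _ n)).Splitting := by
  have hS : (S.map (TL F L)).ShortExact := TL_shortExact_of_splitting F L S (fun q => ⟨σ q⟩)
  have hn : ((S.map (TL F L)).map (eval _ _ n)).ShortExact := hS.map_of_exact _
  haveI := hn.epi_g
  exact ShortComplex.Splitting.ofExactOfRetraction _ hn.exact (retr F L S σ n)
    (f_retr F L S σ n) inferInstance

include σ in
theorem isKInjective_TL_X₂ (h₁ : ((TL F L).obj S.X₁).IsKInjective)
    (h₃ : ((TL F L).obj S.X₃).IsKInjective) :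
    ((TL F L).obj S.X₂).IsKInjective := by
  haveI : (S.map (TL F L)).X₁.IsKInjective := h₁
  haveI : (S.map (TL F L)).X₃.IsKInjective := h₃
  exact isKInjective_X₂_of_splitting (S.map (TL F L)) (splittingTL F L S σ)

section Concentrated

/-- scaling an isomorphism by a unit of `ℤ` -/
def unitsSmulIso {E : Type*} [Category E] [Preadditive E] (ε : ℤˣ) {A B : E} (e : A ≅ B) :
    A ≅ B where
  hom := ε • e.hom
  inv := ε⁻¹ • e.inv
  hom_inv_id := by
    rw [Linear.units_smul_comp, Linear.comp_units_smul, smul_smul, mul_inv_cancel, one_smul,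
      Iso.hom_inv_id]
  inv_hom_id := by
    rw [Linear.units_smul_comp, Linear.comp_units_smul, smul_smul, inv_mul_cancel, one_smul,
      Iso.inv_hom_id]

variable (Pc : CochainComplex C₂ ℤ) (m : ℤ) (hPc : ∀ q : ℤ, q ≠ m → IsZero (Pc.X q))

/-- `L ⊗ P^m`, termwise -/
noncomputable abbrev Wc : CochainComplex D ℤ :=
  ((F.flip.obj (Pc.X m)).mapHomologicalComplex (ComplexShape.up ℤ)).obj L

/-- the sign `(-1)^{mn}` -/
def eps (n : ℤ) : ℤˣ := (m * n).negOnePow

lemma eps_succ (n n' : ℤ) (h : n + 1 = n') : eps m n' = eps m n * m.negOnePow := by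
  subst h
  unfold eps
  rw [mul_add, mul_one, Int.negOnePow_add]

include hPc in
/-- the components of `concIso`, without signs -/
noncomputable def concXIso (n : ℤ) :
    (Wc F L Pc m).X n ≅ ((CategoryTheory.shiftFunctor (CochainComplex D ℤ) m).obj
      ((TL F L).obj Pc)).X n :=
  cIso F L Pc m hPc (n + m) n rfl

include hPc in
lemma conc_key (n n' : ℤ) (h' : n + 1 = n') :
    (eps m n • cι F L Pc m (n + m) n rfl) ≫
      (m.negOnePow • (mapBifunctor L Pc F (ComplexShape.up ℤ)).d (n + m) (n' + m)) =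
    (F.map (L.d n n')).app (Pc.X m) ≫ (eps m n' • cι F L Pc m (n' + m) n' rfl) := by
  have hc := cι_comm F L Pc m hPc (n + m) n (n' + m) n' rfl (by omega) h'
  rw [Linear.units_smul_comp, Linear.comp_units_smul, Linear.comp_units_smul, smul_smul,
    eps_succ m n n' h', hc]

include hPc in
/-- `Tot(L ⊗ P)` shifted by `m` is `L ⊗ P^m` when `P` is concentrated in degree `m` -/
noncomputable def concIso : Wc F L Pc m ≅
    (CategoryTheory.shiftFunctor (CochainComplex D ℤ) m).obj ((TL F L).obj Pc) :=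
  HomologicalComplex.Hom.isoOfComponents
    (fun n => unitsSmulIso (eps m n) (concXIso F L Pc m hPc n))
    (fun n n' h => by
      have hd : ((CategoryTheory.shiftFunctor (CochainComplex D ℤ) m).obj
          ((TL F L).obj Pc)).d n n' = m.negOnePow • ((TL F L).obj Pc).d (n + m) (n' + m) :=
        CochainComplex.shiftFunctor_obj_d' _ _ _ _
      rw [hd]
      exact conc_key F L Pc m hPc n n' h)

include hPc in
theorem isKInjective_TL_concentrated (hW : (Wc F L Pc m).IsKInjective) :
    ((TL F L).obj Pc).IsKInjective := by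
  haveI := hW
  haveI : (((TL F L).obj Pc)⟦m⟧).IsKInjective :=
    CochainComplex.isKInjective_of_iso (concIso F L Pc m hPc)
  exact (CochainComplex.isKInjective_shift_iff _ m).1 inferInstance

end Concentrated

section Induction

/-- `L ⊗ Y`, termwise -/
noncomputable abbrev Wt (Y : C₂) : CochainComplex D ℤ :=
  ((F.flip.obj Y).mapHomologicalComplex (ComplexShape.up ℤ)).obj L

lemma isKInjective_Wt_of_iso {Y Y' : C₂} (e : Y ≅ Y') (h : (Wt F L Y).IsKInjective) :
    (Wt F L Y').IsKInjective := by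
  haveI := h
  exact CochainComplex.isKInjective_of_iso
    ((NatIso.mapHomologicalComplex (F.flip.mapIso e) (ComplexShape.up ℤ)).app L)

lemma isKInjective_of_isZero' {E : Type*} [Category E] [Abelian E] (T : CochainComplex E ℤ)
    (hT : IsZero T) : T.IsKInjective where
  nonempty_homotopy_zero _ _ := ⟨Homotopy.ofEq (hT.eq_of_tgt _ _)⟩

variable (G : CochainComplex C₂ ℤ)

/-- the short exact sequence `0 → σ_{≥ m} G → σ_{≥ m-1} G → Q → 0` -/
noncomputable abbrev sesσ (m : ℤ) : ShortComplex (CochainComplex C₂ ℤ) :=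
  ShortComplex.mk (sigmaGEMap G (show m - 1 ≤ m by omega)) (cokernel.π _) (cokernel.condition _)

lemma sesσ_shortExact (m : ℤ) : (sesσ G m).ShortExact :=
  ShortComplex.ShortExact.mk' (ShortComplex.exact_cokernel _) inferInstance inferInstance

lemma nonempty_splitting_sesσ (m q : ℤ) :
    Nonempty ((sesσ G m).map (eval _ _ q)).Splitting := by
  have hq : ((sesσ G m).map (eval _ _ q)).ShortExact := (sesσ_shortExact G m).map_of_exact _
  haveI := hq.epi_g
  by_cases hq' : m ≤ q
  · have hle : m - 1 ≤ m := by omega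
    have hi : IsIso ((sigmaGEMap G hle).f q) := isIso_sigmaGEMap_f G hle hq'
    exact ⟨ShortComplex.Splitting.ofExactOfRetraction _ hq.exact
      (@inv _ _ _ _ ((sigmaGEMap G hle).f q) hi) (@IsIso.hom_inv_id _ _ _ _ _ hi) inferInstance⟩
  · exact ⟨ShortComplex.Splitting.ofExactOfRetraction _ hq.exact 0
      ((isZero_sigmaGE_X G m (by omega)).eq_of_src _ _) inferInstance⟩

lemma isZero_cokernel_sigmaGEMap_X (m q : ℤ) (hq : q ≠ m - 1) :
    IsZero ((cokernel (sigmaGEMap G (show m - 1 ≤ m by omega))).X q) := by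
  refine IsZero.of_iso ?_
    (PreservesCokernel.iso (HomologicalComplex.eval _ (ComplexShape.up ℤ) q) _)
  by_cases hq' : m ≤ q
  · haveI : IsIso ((HomologicalComplex.eval _ (ComplexShape.up ℤ) q).map
        (sigmaGEMap G (show m - 1 ≤ m by omega))) :=
      isIso_sigmaGEMap_f G (show m - 1 ≤ m by omega) hq'
    exact isZero_cokernel_of_epi _
  · exact IsZero.of_epi (cokernel.π _) (isZero_sigmaGE_X G (m - 1) (by omega))

/-- the only nonzero term of the cokernel -/
noncomputable def cokernelSigmaGEMapXIso (m : ℤ) :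
    (cokernel (sigmaGEMap G (show m - 1 ≤ m by omega))).X (m - 1) ≅ G.X (m - 1) :=
  haveI hiso := isIso_sigmaGEι_f G (m - 1) (le_refl (m - 1))
  PreservesCokernel.iso (HomologicalComplex.eval _ (ComplexShape.up ℤ) (m - 1)) _ ≪≫
    cokernelIsoOfEq (show (HomologicalComplex.eval _ (ComplexShape.up ℤ) (m - 1)).map
      (sigmaGEMap G (show m - 1 ≤ m by omega)) = 0 from
        (isZero_sigmaGE_X G m (by omega)).eq_of_src _ _) ≪≫
    cokernelZeroIsoTarget ≪≫ @asIso _ _ _ _ ((sigmaGEι G (m - 1)).f (m - 1)) hiso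

variable (hW : ∀ q : ℤ, (Wt F L (G.X q)).IsKInjective)

include hW in
lemma isKInjective_TL_sigmaGE (b : ℤ) (hb : ∀ q, b < q → IsZero (G.X q)) (j : ℕ) :
    ((TL F L).obj (sigmaGE G (b + 1 - j))).IsKInjective := by
  induction j with
  | zero =>
    exact isKInjective_of_isZero' _ ((TL F L).map_isZero (isZero_sigmaGE G _ b hb (by simp)))
  | succ j ih =>
    have hm : b + 1 - ((j + 1 : ℕ) : ℤ) = (b + 1 - j) - 1 := by push_cast; ring
    rw [hm]
    generalize b + 1 - (j : ℤ) = m at ih ⊢
    have hQ : ((TL F L).obj (cokernel (sigmaGEMap G (show m - 1 ≤ m by omega)))).IsKInjective := by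
      refine isKInjective_TL_concentrated F L _ (m - 1)
        (fun q hq => isZero_cokernel_sigmaGEMap_X G m q hq) ?_
      exact isKInjective_Wt_of_iso F L (cokernelSigmaGEMapXIso G m).symm (hW (m - 1))
    exact isKInjective_TL_X₂ F L (sesσ G m) (fun q => (nonempty_splitting_sesσ G m q).some) ih hQ

include hW in
/-- `Tot(L ⊗ G)` is K-injective when `G` is bounded and all `L ⊗ G^q` are K-injective -/
theorem isKInjective_TL_of_bounded (a b : ℤ) (hG : ∀ q : ℤ, q < a ∨ b < q → IsZero (G.X q)) :
    ((TL F L).obj G).IsKInjective := by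
  obtain ⟨j, hj⟩ : ∃ j : ℕ, b + 1 - (j : ℤ) ≤ a := ⟨(b + 1 - a).toNat, by omega⟩
  haveI := isKInjective_TL_sigmaGE F L G hW b (fun q hq => hG q (Or.inr hq)) j
  haveI : IsIso (sigmaGEι G (b + 1 - j)) := by
    apply (config := { allowSynthFailures := true }) HomologicalComplex.Hom.isIso_of_components
    intro q
    by_cases hq : b + 1 - (j : ℤ) ≤ q
    · exact isIso_sigmaGEι_f G _ hq
    · exact ⟨0, (isZero_sigmaGE_X G _ (by omega)).eq_of_src _ _,
        (hG q (Or.inl (by omega))).eq_of_src _ _⟩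
  exact CochainComplex.isKInjective_of_iso ((TL F L).mapIso (asIso (sigmaGEι G (b + 1 - j))))

end Induction

end Bifunctor

section Scheme

open AlgebraicGeometry Groth.Agent.Lib.Helper21.Dual Groth.Agent.Lib.Helper21.ModTensor3
  Groth.Agent.Lib.Helper21.ModTensor5

attribute [local instance] Groth.Agent.Lib.Helper21.ExtShDelta.hasSheafHom

/-- `I ⊗ Y` (termwise) is K-injective for `I` K-injective and `Y` finite locally free -/
theorem isKInjective_Wt_of_isFinLocFree {U : Scheme.{u}} (I : CochainComplex U.Modules ℤ)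
    [hI : I.IsKInjective] (Y : U.Modules) (hY : FlatMod.IsFinLocFree Y) :
    (Wt (DCoh.tensorBi (X := U)) I Y).IsKInjective := by
  have hlf := isLocFF_of_isFinLocFree Y hY
  haveI := preservesFiniteLimits_tR_dual Y hlf
  haveI : PreservesFiniteColimits (tR U.sheaf (dual Y)) := tR_preservesFiniteColimits U.sheaf _
  haveI : (tR U.sheaf (dual Y)).PreservesHomology := inferInstance
  let I' : CochainComplex (ModSite.Mod U.sheaf) ℤ := I
  haveI h' : I'.IsKInjective := hI
  exact Groth.Agent.Lib.Helper16.KInjAdj.isKInjective_map (dualAdjSw Y hlf) I'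

open Groth.Agent.R2.H27.ProjPerfSpec in
theorem pkg4 : Pkg4.{u} := by
  intro U I G hI a b hv hfree
  refine isKInjective_TL_of_bounded (DCoh.tensorBi (X := U)) I G (fun q => ?_) a b hv
  obtain ⟨n, ⟨e⟩⟩ := hfree q
  exact isKInjective_Wt_of_isFinLocFree I (G.X q)
    (Groth.Agent.Lib.Helper1.FLF.isFinLocFree_of_iso e.symm
      (Groth.Agent.R2.H4.Perf.isFinLocFree_freeMod U n))

end Scheme

end Groth.Agent.R2.H28.ProjPkg4
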