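import Mathlib
import Groth.Agent.R2.H27ProjPerfSpec
import Groth.Agent.Lib.Helper1KBC6
import Groth.Agent.Lib.Helper1BKF16
import Groth.Agent.Lib.Helper1BKF18
import Groth.Agent.Lib.Helper1PT4
import Groth.Agent.Lib.Helper1Sky9
import Groth.Agent.Lib.Helper1CI5
import Groth.Agent.S0960
import Groth.Agent.R2.H28ProjPkg7
set_option backward.isDefEq.respectTransparency.types false

/-!
# Quasi-isomorphisms over an open between K-flat complexes are preserved by `Tot(B ⊗ -)` and `f^*`
(helper28)

Packages `Pkg8a`, `Pkg8b` of helper27's mini-project `PROJ:proj-perf` (S0961).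
-/

set_option autoImplicit false
set_option linter.style.haveILetI false
set_option linter.unusedSectionVars false
universe u
open CategoryTheory CategoryTheory.Limits HomologicalComplex AlgebraicGeometry

attribute [local instance] HasDerivedCategory.standard

namespace Groth.Agent.R2.H28.ProjPkg8

open Groth.Agent.Lib.Helper1.BKF Groth.Agent.Lib.Helper1.Sky Groth.Agent.Lib.Helper1.KBC
  Groth.Agent.Lib.Helper1.PT

section Abstract

variable {A B C : Type*} [Category A] [Category B] [Category C] [Abelian A] [Abelian B] [Abelian C]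

/-- a cone functor followed by the termwise application of an exact functor is a cone functor -/
theorem coneFunctor_comp_exact {G : CochainComplex A ℤ ⥤ CochainComplex B ℤ}
    [G.PreservesZeroMorphisms] (hG : ConeFunctor G) (E : B ⥤ C) [E.Additive]
    [PreservesFiniteLimits E] [PreservesFiniteColimits E] :
    ConeFunctor (G ⋙ E.mapHomologicalComplex (ComplexShape.up ℤ)) where
  ses S hS := by
    have h1 := hG.ses S hS
    rw [HomologicalComplex.shortExact_iff_degreewise_shortExact] at h1 ⊢
    intro i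
    exact (h1 i).map_of_exact E
  shift X := by
    obtain ⟨e⟩ := hG.shift X
    exact ⟨(E.mapHomologicalComplex (ComplexShape.up ℤ)).mapIso e ≪≫
      ((E.mapCochainComplexShiftIso 1).app (G.obj X))⟩
  coneId X := acyc_map_of_acyc E _ (hG.coneId X)

end Abstract

section Scheme

variable {Y : Scheme.{u}} (V : Y.Opens)

/-- invertibility of the restriction of `Q.map a` to `V` means `a|_V` is a quasi-isomorphism -/
lemma isIso_restrictD_Q_map_iff {N₁ N₂ : CochainComplex Y.Modules ℤ} (a : N₁ ⟶ N₂) :
    IsIso ((DCoh.restrictD V.ι).map (DerivedCategory.Q.map a)) ↔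
      QuasiIso ((DCoh.restrictCx V).map a) := by
  rw [← DerivedCategory.isIso_Q_map_iff_quasiIso]
  exact NatIso.isIso_map_iff
    (Scheme.Modules.restrictFunctor V.ι).mapDerivedCategoryFactors a

/-- the restriction to `V` of a K-flat complex is K-flat -/
lemma isKFlat_restrictCx (N : CochainComplex Y.Modules ℤ) (hN : DCoh.IsKFlat N) :
    DCoh.IsKFlat ((pullC V.ι).obj N) :=
  Groth.Agent.S0960.isKFlat_pullC V.ι N hN

/-- the cone of a morphism of K-flat complexes which is a quasi-isomorphism over `V` restricts to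
an acyclic K-flat complex on `V` -/
lemma acyc_pullC_cone {N₁ N₂ : CochainComplex Y.Modules ℤ} (a : N₁ ⟶ N₂)
    (ha : QuasiIso ((DCoh.restrictCx V).map a)) :
    Acyc ((pullC V.ι).obj (CochainComplex.mappingCone a)) := by
  refine Acyc.of_iso ((restrictCxIso V).app (CochainComplex.mappingCone a)) ?_
  refine Acyc.of_iso (CochainComplex.mappingCone.mapHomologicalComplexIso a
    (Scheme.Modules.restrictFunctor V.ι)).symm ?_
  haveI := ha
  exact acyc_cone_of_quasiIso ((DCoh.restrictCx V).map a)

/-- tensoring with any complex preserves morphisms of K-flat complexes which are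
quasi-isomorphisms over `V` -/
theorem quasiIso_restrictCx_tensorCx_map (B N₁ N₂ : CochainComplex Y.Modules ℤ) (a : N₁ ⟶ N₂)
    (h₁ : DCoh.IsKFlat N₁) (h₂ : DCoh.IsKFlat N₂) (ha : QuasiIso ((DCoh.restrictCx V).map a)) :
    QuasiIso ((DCoh.restrictCx V).map ((DCoh.tensorCx.obj B).map a)) := by
  have hG : ConeFunctor (TL (DCoh.tensorBi (X := Y)) B ⋙ DCoh.restrictCx V) :=
    coneFunctor_comp_exact (coneFunctor_TL _ B) (Scheme.Modules.restrictFunctor V.ι)
  refine hG.quasiIso_map_of_acyc_cone a ?_
  have hK : DCoh.IsKFlat (CochainComplex.mappingCone a) :=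
    Groth.Agent.Lib.Helper1.CI.isKFlat_mappingCone a h₁ h₂
  have hK' := isKFlat_restrictCx V _ hK
  have hac := acyc_pullC_cone V a ha
  obtain ⟨e⟩ := nonempty_pullTotIso V.ι B (CochainComplex.mappingCone a)
  refine Acyc.of_iso ((restrictCxIso V).app _).symm ?_
  refine Acyc.of_iso e.symm ?_
  exact acyc_TL_of_acyc_isKFlat (O := (V : Scheme.{u}).sheaf) _ hK' hac _

/-- PKG-8a -/
theorem pkg8a : Groth.Agent.R2.H27.ProjPerfSpec.Pkg8a := by
  intro Y V B N₁ N₂ a h₁ h₂ ha
  rw [isIso_restrictD_Q_map_iff] at ha ⊢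
  exact quasiIso_restrictCx_tensorCx_map V B N₁ N₂ a h₁ h₂ ha

end Scheme

section Pullback

variable {X Y : Scheme.{u}} (f : X ⟶ Y) (V : Y.Opens)

/-- the pullback preserves morphisms of K-flat complexes which are quasi-isomorphisms over `V` -/
theorem quasiIso_restrictCx_pullC_map (N₁ N₂ : CochainComplex Y.Modules ℤ) (a : N₁ ⟶ N₂)
    (h₁ : DCoh.IsKFlat N₁) (h₂ : DCoh.IsKFlat N₂) (ha : QuasiIso ((DCoh.restrictCx V).map a)) :
    QuasiIso ((DCoh.restrictCx (f ⁻¹ᵁ V)).map ((pullC f).map a)) := by
  apply quasiIso_of_acyc_cone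
  refine Acyc.of_iso (CochainComplex.mappingCone.mapHomologicalComplexIso ((pullC f).map a)
    (Scheme.Modules.restrictFunctor (f ⁻¹ᵁ V).ι)) ?_
  refine Acyc.of_iso ((DCoh.restrictCx (f ⁻¹ᵁ V)).mapIso
    (CochainComplex.mappingCone.mapHomologicalComplexIso a (Scheme.Modules.pullback f))) ?_
  have hK : DCoh.IsKFlat (CochainComplex.mappingCone a) :=
    Groth.Agent.Lib.Helper1.CI.isKFlat_mappingCone a h₁ h₂
  have hK' := isKFlat_restrictCx V _ hK
  have hac := acyc_pullC_cone V a ha
  refine Acyc.of_iso ((restrictCxIso (f ⁻¹ᵁ V)).app _).symm ?_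
  let e : (pullC (f ⁻¹ᵁ V).ι).obj ((pullC f).obj (CochainComplex.mappingCone a)) ≅
      (pullC (f ∣_ V)).obj ((pullC V.ι).obj (CochainComplex.mappingCone a)) :=
    HomologicalComplex.Hom.isoOfComponents
      (fun i => (Groth.Agent.R2.H28.ProjPkg7.plbRestrictIso f V).app
        ((CochainComplex.mappingCone a).X i))
      (fun i j _ => ((Groth.Agent.R2.H28.ProjPkg7.plbRestrictIso f V).hom.naturality
        ((CochainComplex.mappingCone a).d i j)).symm)
  refine Acyc.of_iso e.symm ?_
  exact acyc_pullC_of_isKFlat (f ∣_ V) _ hK' hac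

/-- PKG-8b -/
theorem pkg8b : Groth.Agent.R2.H27.ProjPerfSpec.Pkg8b := by
  intro X Y f V N₁ N₂ a h₁ h₂ ha
  rw [isIso_restrictD_Q_map_iff] at ha ⊢
  exact quasiIso_restrictCx_pullC_map f V N₁ N₂ a h₁ h₂ ha

end Pullback

end Groth.Agent.R2.H28.ProjPkg8
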