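import Mathlib
import Groth.Prelude.Def_DCoh2
import Groth.Agent.R2.H5RpushBdd

/-!
# Cohomological amplitude of a total right derived functor on bounded objects (helper28)

`F : X.Modules ⥤ Ab` additive with a total right derived functor `RF` (homotopy-category form).
If `RᵖF(G) = 0` for `p ≥ N` and all quasi-coherent `G`, then for `E ∈ D_QCoh` with cohomology in
`[a, b]`, `RF(E)` has cohomology in `[a, b + N - 1]`.
-/

set_option autoImplicit false
set_option linter.style.haveILetI false
set_option linter.unusedSectionVars false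
universe u
open CategoryTheory CategoryTheory.Limits AlgebraicGeometry CategoryTheory.Pretriangulated
attribute [local instance] HasDerivedCategory.standard

namespace Groth.Agent.R2.H28.RFBound

open Groth.Agent.R2.H5.RpushTri Groth.Agent.R2.H61.DT2 Groth.Agent.R2.H28.DerBase
  Groth.Agent.R2.H28.RpushQCoh Groth.Agent.R2.H5.RpushBdd DerivedCategory
  Groth.Agent.Lib.Helper17.KInj

variable {X : Scheme.{u}} (F : X.Modules ⥤ AddCommGrpCat.{u}) [F.Additive]
  [(F.mapHomotopyCategory (ComplexShape.up ℤ) ⋙ DerivedCategory.Qh).HasRightDerivedFunctor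
    (HomotopyCategory.quasiIso X.Modules (ComplexShape.up ℤ))]

/-- the total right derived functor of `F` -/
noncomputable abbrev RF : DCoh.D X ⥤ DerivedCategory AddCommGrpCat.{u} :=
  (F.mapHomotopyCategory (ComplexShape.up ℤ) ⋙ DerivedCategory.Qh).totalRightDerived
    DerivedCategory.Qh (HomotopyCategory.quasiIso X.Modules (ComplexShape.up ℤ))

/-- the unit at the level of complexes -/
noncomputable def unitRF :
    F.mapHomologicalComplex (ComplexShape.up ℤ) ⋙ DerivedCategory.Q ⟶ DerivedCategory.Q ⋙ RF F :=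
  unitOfK F (RF F)
    ((F.mapHomotopyCategory (ComplexShape.up ℤ) ⋙ DerivedCategory.Qh).totalRightDerivedUnit
      DerivedCategory.Qh (HomotopyCategory.quasiIso X.Modules (ComplexShape.up ℤ)))

instance isRightDerivedFunctor_unitRF :
    (RF F).IsRightDerivedFunctor (unitRF F)
      (HomologicalComplex.quasiIso X.Modules (ComplexShape.up ℤ)) :=
  isRightDerivedFunctor_unitOfK _ _ _

theorem weak_RF : Weak (RF F) :=
  weak_RG.{u} F (RF F) (unitRF F)

theorem nonempty_RF_shift_iso (E : DCoh.D X) (n : ℤ) :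
    Nonempty ((RF F).obj (E⟦n⟧) ≅ ((RF F).obj E)⟦n⟧) :=
  nonempty_shift_iso.{u} F (RF F) (unitRF F) E n

theorem isGE_RF (E : DCoh.D X) (a : ℤ) [E.IsGE a] : ((RF F).obj E).IsGE a :=
  isGE_RG.{u} F (RF F) (unitRF F) E a

theorem isZero_homology_RF_of_isZero {K : DCoh.D X} (hK : IsZero K) (i : ℤ) :
    IsZero ((homologyFunctor AddCommGrpCat.{u} i).obj ((RF F).obj K)) := by
  haveI : K.IsGE (i + 1) := (DerivedCategory.isGE_iff K (i + 1)).2
    (fun j _ => Functor.map_isZero _ hK)
  haveI := isGE_RF F K (i + 1)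
  exact isZero_of_isGE _ (i + 1) i (by omega)

/-- `H^k(RF(G[0]))` is the `k`-th cohomology of `F I` for an injective resolution `I` of `G`. -/
noncomputable def hRFIso {G : X.Modules} (I : InjectiveResolution G) (k : ℤ) :
    (homologyFunctor AddCommGrpCat.{u} k).obj ((RF F).obj (DCoh.inD X G)) ≅
      ((F.mapHomologicalComplex (ComplexShape.up ℤ)).obj I.cochainComplex).homology k :=
  (homologyFunctor AddCommGrpCat.{u} k).mapIso
      ((RF F).mapIso (inDIso I) ≪≫ rgIso.{u} F (RF F) (unitRF F) I.cochainComplex) ≪≫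
    (homologyFunctorFactors AddCommGrpCat.{u} k).app _

variable [HasInjectiveResolutions X.Modules]

theorem nonempty_hRF_single_iso (G : X.Modules) (q : ℕ) :
    Nonempty ((homologyFunctor AddCommGrpCat.{u} (q : ℤ)).obj ((RF F).obj (DCoh.inD X G)) ≅
      (F.rightDerived q).obj G) := by
  let I : InjectiveResolution G := injectiveResolution G
  obtain ⟨e⟩ := Groth.Agent.Lib.Helper23SS3.homology_map_cochainComplex F I q (q : ℤ) rfl
  exact ⟨hRFIso F I _ ≪≫ e⟩

theorem isZero_hRF_single_of_neg (G : X.Modules) (k : ℤ) (hk : k < 0) :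
    IsZero ((homologyFunctor AddCommGrpCat.{u} k).obj ((RF F).obj (DCoh.inD X G))) := by
  let I : InjectiveResolution G := injectiveResolution G
  exact (Groth.Agent.Lib.Helper23SS3.isZero_homology_map_cochainComplex F I k hk).of_iso
    (hRFIso F I k)

/-- `H^i(RF(G[-a])) ≅ H^{i-a}(RF(G[0]))`. -/
theorem nonempty_hRF_singleFunctor_iso (G : X.Modules) (a i k : ℤ) (h : -a + i = k) :
    Nonempty ((homologyFunctor AddCommGrpCat.{u} i).obj
        ((RF F).obj ((singleFunctor X.Modules a).obj G)) ≅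
      (homologyFunctor AddCommGrpCat.{u} k).obj ((RF F).obj (DCoh.inD X G))) := by
  obtain ⟨e⟩ := nonempty_RF_shift_iso F (DCoh.inD X G) (-a)
  exact ⟨(homologyFunctor _ i).mapIso ((RF F).mapIso (singleIso G a) ≪≫ e) ≪≫
    hShiftIso _ (-a) i k h⟩

/-- the amplitude bound -/
theorem main (N : ℕ)
    (hF : ∀ G : X.Modules, Coh.IsQCoh G → ∀ p : ℕ, N ≤ p → IsZero ((F.rightDerived p).obj G))
    (E : DCoh.D X) (hE : DCoh.IsQCohD E) (a b : ℤ)
    (hab : ∀ i : ℤ, i < a ∨ b < i → IsZero (DCoh.HD E i))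
    (i : ℤ) (hi : i < a ∨ b + N - 1 < i) :
    IsZero ((homologyFunctor AddCommGrpCat.{u} i).obj ((RF F).obj E)) := by
  let P : ObjectProperty (DCoh.D X) := fun K =>
    ∀ i : ℤ, (i < a ∨ b + N - 1 < i) →
      IsZero ((homologyFunctor AddCommGrpCat.{u} i).obj ((RF F).obj K))
  haveI : P.IsClosedUnderIsomorphisms := ⟨fun {K K'} e hK i hi =>
    (hK i hi).of_iso ((homologyFunctor _ i).mapIso ((RF F).mapIso e.symm))⟩
  have hP : P E := by
    refine Groth.Agent.Lib.Helper1.Devissage.induction_homology' P ?_ ?_ E a b hab ?_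
    · intro Z hZ i _
      exact isZero_homology_RF_of_isZero F hZ i
    · intro T hT h1 h3 i hi
      obtain ⟨δ, hδ⟩ := weak_RF F T hT
      exact (HomologySequence.exact₂ _ hδ i).isZero_of_both_zeros
        ((h1 i hi).eq_of_src _ _) ((h3 i hi).eq_of_tgt _ _)
    · intro j hj1 hj2 i hi
      obtain ⟨e⟩ := nonempty_hRF_singleFunctor_iso F ((homologyFunctor X.Modules j).obj E) j i
        (-j + i) rfl
      refine IsZero.of_iso ?_ e
      rcases hi with hi | hi
      · exact isZero_hRF_single_of_neg F _ _ (by omega)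
      · obtain ⟨q, hq⟩ : ∃ q : ℕ, -j + i = (q : ℤ) :=
          ⟨(-j + i).toNat, (Int.toNat_of_nonneg (by omega)).symm⟩
        rw [hq]
        obtain ⟨e'⟩ := nonempty_hRF_single_iso F ((homologyFunctor X.Modules j).obj E) q
        exact (hF _ (hE j) q (by omega)).of_iso e'
  exact hP i hi

end Groth.Agent.R2.H28.RFBound
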