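import Groth.Agent.R2.H28RGammaZ2
import Groth.Agent.R2.H28ProjPkg3
import Groth.Agent.R2.H4DerivedAdj
import Groth.Agent.Lib.Helper17KInjD4
import Groth.Agent.Lib.Helper1Sky5
import Groth.Agent.Lib.Helper1Sky9
import Groth.Agent.Lib.Helper1Sky11

/-!
# `RΓ_Z` as a coreflection, and `Rf_* RΓ_{f⁻¹Z} ≅ RΓ_Z Rf_*` (helper28)
-/

set_option autoImplicit false
set_option linter.style.haveILetI false
universe w v u
open CategoryTheory CategoryTheory.Limits AlgebraicGeometry TopologicalSpace Opposite ZeroObject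

namespace Groth.Agent.R2.H28.RGammaZ

open Groth.Agent.Lib.Helper1.Sky Groth.Agent.Lib.Helper1.StalkTensor
  Groth.Agent.R2.H28.DerBase Groth.Agent.R2.H28.Support Groth.Agent.R2.H28.GlueTwo
  Groth.Agent.Lib.Helper17.KInj CategoryTheory.Pretriangulated

attribute [local instance] HasDerivedCategory.standard

lemma bijective_comp_iso_hom {C : Type*} [Category C] {A B B' : C} (e : B ≅ B') :
    Function.Bijective (fun α : A ⟶ B => α ≫ e.hom) :=
  ⟨fun _ _ h => (cancel_mono e.hom).1 h, fun β => ⟨β ≫ e.inv, by simp⟩⟩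

section ToId

variable {X : Scheme.{u}} (T : X.Opens)

/-- the canonical map `RΓ_Z ⟶ 𝟭` on models -/
lemma unitZ_app_comp_toId [CxOX.HasRgammaZ T.ι] (I : CochainComplex X.Modules ℤ) :
    (unitZ T.ι).app I ≫ (CxOX.RgammaZToId T.ι).app (DerivedCategory.Q.obj I) =
      DerivedCategory.Q.map ((gzCx T I).f ≫
        (Functor.mapHomologicalComplexIdIso X.Modules (ComplexShape.up ℤ)).hom.app I) := by
  have hfac := Functor.rightDerived_fac_app (CxOX.RgammaZ T.ι)
    ((CxOX.gammaZKh T.ι).totalRightDerivedUnit DerivedCategory.Qh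
      (HomotopyCategory.quasiIso X.Modules (ComplexShape.up ℤ)))
    (HomotopyCategory.quasiIso X.Modules (ComplexShape.up ℤ)) (𝟭 (DCoh.D X))
    (CxOX.gammaZKhι T.ι ≫ (Functor.rightUnitor _).inv)
    ((HomotopyCategory.quotient X.Modules (ComplexShape.up ℤ)).obj I)
  have hnat := (CxOX.RgammaZToId T.ι).naturality
    ((DerivedCategory.quotientCompQhIso X.Modules).hom.app I)
  have hι : (CxOX.gammaZKhι T.ι).app ((HomotopyCategory.quotient _ _).obj I) =
      DerivedCategory.Qh.map (((DCoh.gammaZ T.ι).mapHomotopyCategoryFactors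
        (ComplexShape.up ℤ)).hom.app I) ≫
      DerivedCategory.Qh.map ((HomotopyCategory.quotient _ _).map ((gzCx T I).f ≫
        (Functor.mapHomologicalComplexIdIso X.Modules (ComplexShape.up ℤ)).hom.app I)) := by
    unfold CxOX.gammaZKhι
    refine (CategoryTheory.Quotient.natTransLift_app
      (homotopic X.Modules (ComplexShape.up ℤ)) _ _ _ I).trans ?_
    simp only [gzCx, Functor.map_comp]
    simp only [NatTrans.comp_app]
    erw [Functor.associator_inv_app, Category.id_comp]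
  have hu : (unitZ T.ι).app I =
      (DerivedCategory.quotientCompQhIso X.Modules).inv.app
        (((DCoh.gammaZ T.ι).mapHomologicalComplex (ComplexShape.up ℤ)).obj I) ≫
      DerivedCategory.Qh.map (((DCoh.gammaZ T.ι).mapHomotopyCategoryFactors
        (ComplexShape.up ℤ)).inv.app I) ≫
      ((CxOX.gammaZKh T.ι).totalRightDerivedUnit DerivedCategory.Qh
        (HomotopyCategory.quasiIso X.Modules (ComplexShape.up ℤ))).app
          ((HomotopyCategory.quotient X.Modules (ComplexShape.up ℤ)).obj I) ≫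
      (CxOX.RgammaZ T.ι).map ((DerivedCategory.quotientCompQhIso X.Modules).hom.app I) := by
    simp [unitZ, unitOfK, γOfK, isoF₀]
  have hq := (DerivedCategory.quotientCompQhIso X.Modules).hom.naturality ((gzCx T I).f ≫
    (Functor.mapHomologicalComplexIdIso X.Modules (ComplexShape.up ℤ)).hom.app I)
  simp only [Functor.comp_obj, Functor.id_map] at hnat
  rw [hu]
  simp only [Category.assoc]
  rw [hnat]
  unfold CxOX.RgammaZToId
  rw [reassoc_of% hfac, NatTrans.comp_app, hι]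
  simp only [Functor.rightUnitor_inv_app, Category.assoc, Category.id_comp]
  have h1 : DerivedCategory.Qh.map (((DCoh.gammaZ T.ι).mapHomotopyCategoryFactors
      (ComplexShape.up ℤ)).inv.app I) ≫
      DerivedCategory.Qh.map (((DCoh.gammaZ T.ι).mapHomotopyCategoryFactors
        (ComplexShape.up ℤ)).hom.app I) = 𝟙 _ := by
    rw [← Functor.map_comp, Iso.inv_hom_id_app]
    exact DerivedCategory.Qh.map_id _
  rw [reassoc_of% h1]
  simp only [Functor.comp_map] at hq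
  erw [hq]
  exact Category.id_comp _

end ToId

section Adj

variable {U X : Scheme.{u}} (j : U ⟶ X) [IsOpenImmersion j]

/-- the derived adjunction `j^* ⊣ Rj_*` for an open immersion -/
noncomputable def restrictRpushAdj [DCoh.HasRpush j] : DCoh.restrictD j ⊣ DCoh.Rpush j :=
  derivedAdjunction (Scheme.Modules.restrictFunctor j) (Scheme.Modules.pushforward j)
    (Scheme.Modules.restrictAdjunction j) (DCoh.Rpush j) (unitC j)

/-- there are no nonzero maps from an object vanishing on `U` to an object `Rj_* N` -/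
lemma eq_zero_of_isZero_restrictD [DCoh.HasRpush j] (A : DCoh.D X)
    (hA : IsZero ((DCoh.restrictD j).obj A)) (N : DCoh.D U) (g : A ⟶ (DCoh.Rpush j).obj N) :
    g = 0 := by
  apply ((restrictRpushAdj j).homEquiv A N).symm.injective
  exact hA.eq_of_src _ _

end Adj

section Coreflection

variable {X : Scheme.{u}} (T : X.Opens)

/-- objects of the form `Q (t_* t^* I)` receive no nonzero maps from objects vanishing on `T` -/
lemma eq_zero_of_isZero_restrictD_X₃ (A : DCoh.D X)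
    (hA : IsZero ((DCoh.restrictD T.ι).obj A))
    (I : CochainComplex X.Modules ℤ) [I.IsKInjective]
    (g : A ⟶ DerivedCategory.Q.obj (gzCx T I).X₃) : g = 0 := by
  haveI := Groth.Agent.R2.H28.HasRpush.hasRpush T.ι
  haveI := isKInjective_restrict T I
  let e : DerivedCategory.Q.obj (gzCx T I).X₃ ≅ (DCoh.Rpush T.ι).obj (DerivedCategory.Q.obj
      (((Scheme.Modules.restrictFunctor T.ι).mapHomologicalComplex (ComplexShape.up ℤ)).obj I)) :=
    DerivedCategory.Q.mapIso ((compCxIso (Scheme.Modules.restrictFunctor T.ι)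
      (Scheme.Modules.pushforward T.ι)).app I) ≪≫ rpushIso T.ι _
  have h := eq_zero_of_isZero_restrictD T.ι A hA _ (g ≫ e.hom)
  rw [← cancel_mono e.hom, h, zero_comp]

lemma isZero_restrictD_shift (A : DCoh.D X) (hA : IsZero ((DCoh.restrictD T.ι).obj A)) (n : ℤ) :
    IsZero ((DCoh.restrictD T.ι).obj (A⟦n⟧)) :=
  IsZero.of_iso ((shiftFunctor (DCoh.D (T : Scheme.{u})) n).map_isZero hA)
    (((DCoh.restrictD T.ι).commShiftIso n).app A)

variable [CxOX.HasRgammaZ T.ι]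

/-- `RΓ_Z(B) ⟶ B` is the universal map from an object vanishing on `T`, on models -/
theorem bijective_comp_toId_Q (A : DCoh.D X) (hA : IsZero ((DCoh.restrictD T.ι).obj A))
    (I : CochainComplex X.Modules ℤ) [I.IsKInjective] (hinj : ∀ n, Injective (I.X n)) :
    Function.Bijective (fun α : A ⟶ (CxOX.RgammaZ T.ι).obj (DerivedCategory.Q.obj I) =>
      α ≫ (CxOX.RgammaZToId T.ι).app (DerivedCategory.Q.obj I)) := by
  have hS := gzCx_shortExact T I hinj
  have hT := DerivedCategory.triangleOfSES_distinguished hS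
  let e₁ : DerivedCategory.Q.obj (gzCx T I).X₁ ≅
      (CxOX.RgammaZ T.ι).obj (DerivedCategory.Q.obj I) := rgammaZIso T.ι I
  let e₂ : DerivedCategory.Q.obj (gzCx T I).X₂ ≅ DerivedCategory.Q.obj I :=
    DerivedCategory.Q.mapIso
      ((Functor.mapHomologicalComplexIdIso X.Modules (ComplexShape.up ℤ)).app I)
  let m₁ : DerivedCategory.Q.obj (gzCx T I).X₁ ⟶ DerivedCategory.Q.obj (gzCx T I).X₂ :=
    DerivedCategory.Q.map (gzCx T I).f
  have hc' : e₁.hom ≫ (CxOX.RgammaZToId T.ι).app (DerivedCategory.Q.obj I) = m₁ ≫ e₂.hom := by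
    have h5 : DerivedCategory.Q.map ((gzCx T I).f ≫
        (Functor.mapHomologicalComplexIdIso X.Modules (ComplexShape.up ℤ)).hom.app I) =
        m₁ ≫ e₂.hom := DerivedCategory.Q.map_comp _ _
    exact (unitZ_app_comp_toId T I).trans h5
  have hc : (CxOX.RgammaZToId T.ι).app (DerivedCategory.Q.obj I) = e₁.inv ≫ m₁ ≫ e₂.hom := by
    rw [← hc', Iso.inv_hom_id_assoc]
  -- injectivity of composition with `mor₁`
  have hinj₁ : ∀ δ : A ⟶ DerivedCategory.Q.obj (gzCx T I).X₁, δ ≫ m₁ = 0 → δ = 0 := by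
    intro δ hδ
    obtain ⟨h, hh⟩ := Pretriangulated.Triangle.coyoneda_exact₁ _ hT (δ⟦(1 : ℤ)⟧') (by
      change δ⟦(1 : ℤ)⟧' ≫ m₁⟦(1 : ℤ)⟧' = 0
      rw [← Functor.map_comp, hδ, Functor.map_zero])
    have h0 : h = 0 := eq_zero_of_isZero_restrictD_X₃ T _ (isZero_restrictD_shift T A hA 1) I h
    rw [h0, zero_comp] at hh
    exact (shiftFunctor (DCoh.D X) (1 : ℤ)).map_injective (hh.trans (Functor.map_zero _ _ _).symm)
  constructor
  · intro α α' h
    dsimp only at h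
    have h3 : (α - α') ≫ (CxOX.RgammaZToId T.ι).app (DerivedCategory.Q.obj I) = 0 := by
      rw [Preadditive.sub_comp, h, sub_self]
    have h2 : (α - α') ≫ e₁.inv = 0 := by
      apply hinj₁
      rw [hc] at h3
      have h6 : (((α - α') ≫ e₁.inv) ≫ m₁) ≫ e₂.hom = 0 := by
        rw [Category.assoc, Category.assoc]; exact h3
      rw [← cancel_mono e₂.hom, zero_comp]
      exact h6
    have h4 : α - α' = 0 := by
      rw [← cancel_mono e₁.inv, h2, zero_comp]
    exact sub_eq_zero.1 h4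
  · intro u
    obtain ⟨g, hg⟩ := Pretriangulated.Triangle.coyoneda_exact₂ _ hT (u ≫ e₂.inv)
      (eq_zero_of_isZero_restrictD_X₃ T A hA I _)
    let g' : A ⟶ DerivedCategory.Q.obj (gzCx T I).X₁ := g
    have hg' : u ≫ e₂.inv = g' ≫ m₁ := hg
    refine ⟨g' ≫ e₁.hom, ?_⟩
    dsimp only
    rw [hc]
    calc (g' ≫ e₁.hom) ≫ e₁.inv ≫ m₁ ≫ e₂.hom = (g' ≫ m₁) ≫ e₂.hom := by
          simp only [Category.assoc, Iso.hom_inv_id_assoc]
      _ = u := by rw [← hg', Category.assoc, Iso.inv_hom_id, Category.comp_id]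

/-- `RΓ_Z(B) ⟶ B` is the universal map from an object vanishing on `T` -/
theorem bijective_comp_toId (A B : DCoh.D X) (hA : IsZero ((DCoh.restrictD T.ι).obj A)) :
    Function.Bijective (fun α : A ⟶ (CxOX.RgammaZ T.ι).obj B =>
      α ≫ (CxOX.RgammaZToId T.ι).app B) := by
  obtain ⟨I, hI, hinj, ⟨eI⟩⟩ := Groth.Agent.R2.H28.MVScheme.exists_resolution B
  haveI := hI
  have h := bijective_comp_toId_Q T A hA I hinj
  have hnat : (CxOX.RgammaZ T.ι).map eI.inv ≫
      (CxOX.RgammaZToId T.ι).app (DerivedCategory.Q.obj I) =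
      (CxOX.RgammaZToId T.ι).app B ≫ eI.inv := (CxOX.RgammaZToId T.ι).naturality eI.inv
  have h1 : Function.Bijective (fun α : A ⟶ (CxOX.RgammaZ T.ι).obj B =>
      α ≫ ((CxOX.RgammaZ T.ι).mapIso eI.symm).hom) := bijective_comp_iso_hom _
  have h2 : Function.Bijective (fun γ : A ⟶ DerivedCategory.Q.obj I => γ ≫ eI.hom) :=
    bijective_comp_iso_hom _
  have h3 := h2.comp (h.comp h1)
  refine (congrArg Function.Bijective (funext fun α => ?_)).mp h3
  dsimp only [Function.comp_apply, Functor.mapIso_hom, Iso.symm_hom]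
  rw [Category.assoc, Category.assoc, reassoc_of% hnat, Iso.inv_hom_id, Category.comp_id]

end Coreflection

section Main

variable {X Y : Scheme.{u}} (f : X ⟶ Y) (U : Y.Opens)

/-- `Rf_*` is a right adjoint, hence preserves zero objects -/
lemma isZero_rpush_obj [DCoh.HasRpush f] (M : DCoh.D X) (hM : IsZero M) :
    IsZero ((DCoh.Rpush f).obj M) := by
  haveI := hasLpull f
  haveI : (DCoh.Rpush f).IsRightAdjoint :=
    (Groth.Agent.R2.H4.DerivedAdj.lpullRpushAdj f).isRightAdjoint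
  exact (DCoh.Rpush f).map_isZero hM

/-- `Lf^*` is a left adjoint, hence preserves zero objects -/
lemma isZero_lpull_obj [DCoh.HasLpull f] (M : DCoh.D Y) (hM : IsZero M) :
    IsZero ((DCoh.Lpull f).obj M) := by
  haveI := Groth.Agent.R2.H28.HasRpush.hasRpush f
  haveI : (DCoh.Lpull f).IsLeftAdjoint :=
    (Groth.Agent.R2.H4.DerivedAdj.lpullRpushAdj f).isLeftAdjoint
  exact (DCoh.Lpull f).map_isZero hM

/-- if `M` vanishes on `f⁻¹U` then `Rf_* M` vanishes on `U` -/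
lemma isZero_restrictD_rpush [DCoh.HasRpush f] (M : DCoh.D X)
    (hM : IsZero ((DCoh.restrictD (f ⁻¹ᵁ U).ι).obj M)) :
    IsZero ((DCoh.restrictD U.ι).obj ((DCoh.Rpush f).obj M)) := by
  haveI := Groth.Agent.R2.H28.HasRpush.hasRpush (f ∣_ U)
  exact IsZero.of_iso (isZero_rpush_obj (f ∣_ U) _ hM)
    ((Groth.Agent.R2.H28.ProjPkg3.rpushRestrictDIso f U).app M)

/-- if `A` vanishes on `U` then `Lf^* A` vanishes on `f⁻¹U` -/
lemma isZero_restrictD_lpull [DCoh.HasLpull f] (A : DCoh.D Y)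
    (hA : IsZero ((DCoh.restrictD U.ι).obj A)) :
    IsZero ((DCoh.restrictD (f ⁻¹ᵁ U).ι).obj ((DCoh.Lpull f).obj A)) := by
  let F₀ : CochainComplex Y.Modules ℤ := DerivedCategory.Q.objPreimage A
  let e₀ : DCoh.toD Y F₀ ≅ A := DerivedCategory.Q.objObjPreimageIso A
  let F : CochainComplex X.Modules ℤ := DerivedCategory.Q.objPreimage ((DCoh.Lpull f).obj A)
  let eF : DCoh.toD X F ≅ (DCoh.Lpull f).obj A := DerivedCategory.Q.objObjPreimageIso _
  haveI : DCoh.HasLpull (f ∣_ U) := hasLpull _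
  haveI : DCoh.HasLpull U.ι := hasLpull _
  haveI : DCoh.HasLpull (f ⁻¹ᵁ U).ι := hasLpull _
  haveI : DCoh.HasLpull ((f ⁻¹ᵁ U).ι ≫ f) := hasLpull _
  haveI : DCoh.HasLpull ((f ∣_ U) ≫ U.ι) := hasLpull _
  obtain ⟨c1⟩ := nonempty_lpull_comp_iso (f ⁻¹ᵁ U).ι f
  obtain ⟨c2⟩ := nonempty_lpull_comp_iso (f ∣_ U) U.ι
  obtain ⟨c3⟩ := nonempty_lpull_congr (morphismRestrict_ι f U).symm
  have e1 : DerivedCategory.Q.obj ((DCoh.restrictCx (f ⁻¹ᵁ U)).obj F) ≅
      (DCoh.Lpull (f ∣_ U)).obj ((DCoh.Lpull U.ι).obj A) :=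
    (lpullOpenIso (f ⁻¹ᵁ U) F).symm ≪≫ (DCoh.Lpull (f ⁻¹ᵁ U).ι).mapIso eF ≪≫ c1.app A ≪≫
      c3.app A ≪≫ (c2.app A).symm
  have e2 : (DCoh.Lpull U.ι).obj A ≅ (DCoh.restrictD U.ι).obj A :=
    (DCoh.Lpull U.ι).mapIso e₀.symm ≪≫ lpullOpenIso U F₀ ≪≫
      ((Scheme.Modules.restrictFunctor U.ι).mapDerivedCategoryFactors.app F₀).symm ≪≫
      (DCoh.restrictD U.ι).mapIso e₀
  have e3 : (DCoh.restrictD (f ⁻¹ᵁ U).ι).obj ((DCoh.Lpull f).obj A) ≅
      DerivedCategory.Q.obj ((DCoh.restrictCx (f ⁻¹ᵁ U)).obj F) :=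
    (DCoh.restrictD (f ⁻¹ᵁ U).ι).mapIso eF.symm ≪≫
      (Scheme.Modules.restrictFunctor (f ⁻¹ᵁ U).ι).mapDerivedCategoryFactors.app F
  have hz : IsZero ((DCoh.Lpull U.ι).obj A) := IsZero.of_iso hA e2
  exact IsZero.of_iso (isZero_lpull_obj (f ∣_ U) _ hz) (e3 ≪≫ e1)

/-- `Rf_*(RΓ_{f⁻¹Z} K ⟶ K)` is the universal map to `Rf_* K` from an object vanishing on `U` -/
theorem bijective_comp_rpush_toId [DCoh.HasRpush f] [CxOX.HasRgammaZ (f ⁻¹ᵁ U).ι]
    (A : DCoh.D Y) (hA : IsZero ((DCoh.restrictD U.ι).obj A)) (K : DCoh.D X) :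
    Function.Bijective (fun α : A ⟶ (DCoh.Rpush f).obj ((CxOX.RgammaZ (f ⁻¹ᵁ U).ι).obj K) =>
      α ≫ (DCoh.Rpush f).map ((CxOX.RgammaZToId (f ⁻¹ᵁ U).ι).app K)) := by
  haveI := hasLpull f
  let adj := Groth.Agent.R2.H4.DerivedAdj.lpullRpushAdj f
  have h := bijective_comp_toId (f ⁻¹ᵁ U) ((DCoh.Lpull f).obj A) K
    (isZero_restrictD_lpull f U A hA)
  have h3 := (adj.homEquiv A K).bijective.comp
    (h.comp (adj.homEquiv A ((CxOX.RgammaZ (f ⁻¹ᵁ U).ι).obj K)).symm.bijective)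
  refine (congrArg Function.Bijective (funext fun α => ?_)).mp h3
  dsimp only [Function.comp_apply]
  rw [Adjunction.homEquiv_naturality_right, Equiv.apply_symm_apply]

/-- two universal arrows are uniquely isomorphic -/
lemma isIso_of_universal {C : Type*} [Category C] (P : C → Prop) {G A' B : C} (c : G ⟶ B)
    (u : A' ⟶ B) (hG : P G) (hA' : P A')
    (hc : ∀ A, P A → Function.Bijective (fun α : A ⟶ G => α ≫ c))
    (hu : ∀ A, P A → Function.Bijective (fun α : A ⟶ A' => α ≫ u))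
    (α : A' ⟶ G) (hα : α ≫ c = u) : IsIso α := by
  obtain ⟨β, hβ⟩ := (hu G hG).2 c
  dsimp only at hβ
  refine ⟨β, ?_, ?_⟩
  · apply (hu A' hA').1
    dsimp only
    rw [Category.assoc, hβ, hα, Category.id_comp]
  · apply (hc G hG).1
    dsimp only
    rw [Category.assoc, hα, hβ, Category.id_comp]

/-- **S14364**: `Rf_* RΓ_{f⁻¹Z} K ⟶ Rf_* K` factors through `RΓ_Z Rf_* K ⟶ Rf_* K`, and every
factorisation is an isomorphism. -/
theorem rpush_rgammaZ_factors [DCoh.HasRpush f] [CxOX.HasRgammaZ U.ι]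
    [CxOX.HasRgammaZ (f ⁻¹ᵁ U).ι] (K : DCoh.D X) :
    (∃ α : (DCoh.Rpush f).obj ((CxOX.RgammaZ (f ⁻¹ᵁ U).ι).obj K) ⟶
        (CxOX.RgammaZ U.ι).obj ((DCoh.Rpush f).obj K),
        α ≫ (CxOX.RgammaZToId U.ι).app ((DCoh.Rpush f).obj K) =
          (DCoh.Rpush f).map ((CxOX.RgammaZToId (f ⁻¹ᵁ U).ι).app K)) ∧
    ∀ α : (DCoh.Rpush f).obj ((CxOX.RgammaZ (f ⁻¹ᵁ U).ι).obj K) ⟶
        (CxOX.RgammaZ U.ι).obj ((DCoh.Rpush f).obj K),
        α ≫ (CxOX.RgammaZToId U.ι).app ((DCoh.Rpush f).obj K) =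
          (DCoh.Rpush f).map ((CxOX.RgammaZToId (f ⁻¹ᵁ U).ι).app K) → IsIso α := by
  have hA' : IsZero ((DCoh.restrictD U.ι).obj
      ((DCoh.Rpush f).obj ((CxOX.RgammaZ (f ⁻¹ᵁ U).ι).obj K))) :=
    isZero_restrictD_rpush f U _ (isZero_restrictD_rgammaZ (f ⁻¹ᵁ U).ι K)
  have hG : IsZero ((DCoh.restrictD U.ι).obj ((CxOX.RgammaZ U.ι).obj ((DCoh.Rpush f).obj K))) :=
    isZero_restrictD_rgammaZ U.ι _
  refine ⟨(bijective_comp_toId U _ ((DCoh.Rpush f).obj K) hA').2 _, fun α hα => ?_⟩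
  exact isIso_of_universal (fun A : DCoh.D Y => IsZero ((DCoh.restrictD U.ι).obj A))
    ((CxOX.RgammaZToId U.ι).app ((DCoh.Rpush f).obj K))
    ((DCoh.Rpush f).map ((CxOX.RgammaZToId (f ⁻¹ᵁ U).ι).app K)) hG hA'
    (fun A hA => bijective_comp_toId U A _ hA)
    (fun A hA => bijective_comp_rpush_toId f U A hA K) α hα

end Main

end Groth.Agent.R2.H28.RGammaZ
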