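import Groth.Agent.R2.H28CechSh
import Groth.Agent.R2.H28RpushQCohC
import Groth.Agent.Lib.Helper23Leray
import Groth.Agent.Lib.Helper23QCohLocal
import Groth.Agent.Lib.Helper23QCohSum
import Groth.Prelude.Def_RDerDelta

/-!
# The relative Čech complex computes `Rf_*` (helper28)

* `augZ`: the quasi-isomorphism `F[0] ⟶ 𝔠(𝒰, F)` (ℤ-indexed), from `H28CechSh`.
* `nonempty_rpush_iso_of_acyclic`: `Rf_*(Q K) ≅ Q(f_* K)` for a bounded below complex `K` with
  `f_*`-acyclic terms (helper23's Leray lemma transported to the unbounded `DCoh.Rpush`).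
* `relCech_qcoh_iso_Rpush` (= S9518).
-/

set_option autoImplicit false
set_option linter.unusedSectionVars false
set_option linter.style.haveILetI false
universe u

open CategoryTheory CategoryTheory.Limits AlgebraicGeometry Opposite TopologicalSpace

namespace Groth.Agent.R2.H28.RelCech

open Groth.Agent.Lib.Helper16.CechLow Groth.Agent.R2.H28.CechSh Groth.Agent.R2.H75.CechAugA
  Groth.Agent.R2.H28.DerBase Groth.Agent.R2.H28.HasRpush

attribute [local instance] HasDerivedCategory.standard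

section Aug

variable {X : Scheme.{u}} {ι : Type u} (𝒰 : ι → X.Opens) (F : X.Modules)

/-- the coaugmentation as a morphism of complexes -/
noncomputable def augC : (CochainComplex.single₀ X.Modules).obj F ⟶ CKA 𝒰 (QF F) :=
  (CochainComplex.fromSingle₀Equiv _ _).symm ⟨augF 𝒰 F, augF_d 𝒰 F⟩

lemma augC_f_zero : (augC 𝒰 F).f 0 = augF 𝒰 F :=
  CochainComplex.fromSingle₀Equiv_symm_apply_f_zero _ _

theorem quasiIso_augC (h𝒰 : ⨆ i, 𝒰 i = ⊤) : QuasiIso (augC 𝒰 F) := ⟨fun n => by
  cases n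
  · rw [CochainComplex.quasiIsoAt₀_iff, ShortComplex.quasiIso_iff_of_zeros]
    · refine (ShortComplex.exact_and_mono_f_iff_of_iso ?_).2
        ⟨exact_augF 𝒰 F h𝒰, mono_augF 𝒰 F h𝒰⟩
      exact ShortComplex.isoMk (Iso.refl _) (Iso.refl _) (Iso.refl _)
        ((Category.id_comp _).trans ((augC_f_zero 𝒰 F).symm.trans (Category.comp_id _).symm))
        ((Category.id_comp _).trans (Category.comp_id _).symm)
    all_goals rfl
  · rw [quasiIsoAt_iff_exactAt]
    · exact exactAt_succ 𝒰 F h𝒰 _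
    · apply CochainComplex.exactAt_succ_single_obj⟩

/-- the ℤ-indexed Čech complex of sheaves -/
noncomputable abbrev CZ : CochainComplex X.Modules ℤ :=
  (CKA 𝒰 (QF F)).extend ComplexShape.embeddingUpNat

/-- the ℤ-indexed coaugmentation -/
noncomputable def augZ : (HomologicalComplex.single X.Modules (ComplexShape.up ℤ) 0).obj F ⟶ CZ 𝒰 F :=
  (HomologicalComplex.extendSingleIso ComplexShape.embeddingUpNat F 0 0 (by simp)).inv ≫
    HomologicalComplex.extendMap (augC 𝒰 F) ComplexShape.embeddingUpNat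

theorem quasiIso_augZ (h𝒰 : ⨆ i, 𝒰 i = ⊤) : QuasiIso (augZ 𝒰 F) := by
  haveI := quasiIso_augC 𝒰 F h𝒰
  haveI : QuasiIso (HomologicalComplex.extendMap (augC 𝒰 F) ComplexShape.embeddingUpNat) :=
    (HomologicalComplex.quasiIso_extendMap_iff _ ComplexShape.embeddingUpNat).2 inferInstance
  unfold augZ
  infer_instance

/-- `F[0] ≅ 𝔠(𝒰, F)` in `D(O_X)` -/
noncomputable def inDIsoCech (h𝒰 : ⨆ i, 𝒰 i = ⊤) :
    DCoh.inD X F ≅ DerivedCategory.Q.obj (CZ 𝒰 F) :=
  (DerivedCategory.singleFunctorIsoCompQ X.Modules 0).app F ≪≫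
    @asIso _ _ _ _ (DerivedCategory.Q.map (augZ 𝒰 F))
      ((DerivedCategory.isIso_Q_map_iff_quasiIso (φ := augZ 𝒰 F)).2 (quasiIso_augZ 𝒰 F h𝒰))

end Aug

section Leray

open Groth.Agent.S12229 Groth.Agent.Lib.Helper23Bridge Groth.Agent.Lib.Helper23Acyclic
  Groth.Agent.Lib.Helper23Leray Groth.Agent.R2.H28.RpushRestrict

variable {X S : Scheme.{u}} (f : X ⟶ S)

/-- **Leray's acyclicity lemma for `Rf_*`**: for a bounded below complex `K` of `f_*`-acyclic modules,
`Rf_*(Q K) ≅ Q(f_* K)`. -/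
theorem nonempty_rpush_iso_of_acyclic [DCoh.HasRpush f] (K : CochainComplex X.Modules ℤ) (n : ℤ)
    [K.IsStrictlyGE n]
    (hac : ∀ (m : ℤ) (q : ℕ), 0 < q → IsZero ((Coh.Rpush f q).obj (K.X m))) :
    Nonempty ((DCoh.Rpush f).obj (DerivedCategory.Q.obj K) ≅
      DerivedCategory.Q.obj (((Scheme.Modules.pushforward f).mapHomologicalComplex
        (ComplexShape.up ℤ)).obj K)) := by
  haveI : EnoughInjectives X.Modules := inferInstance
  let K' : CochainComplex.Plus X.Modules := ⟨K, n, inferInstance⟩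
  have hac' : ∀ m, IsIso (τ (Scheme.Modules.pushforward f) (sgl (K.X m))) :=
    fun m => (acyclic_iff (Scheme.Modules.pushforward f) (K.X m)).2 (hac m)
  have hτ : IsIso (τ (Scheme.Modules.pushforward f) K') :=
    leray (Scheme.Modules.pushforward f) K' hac'
  obtain ⟨J, q, hq, hJ, hJb⟩ :=
    CochainComplex.Plus.modelCategoryQuillen.exists_quasiIso_injective K n
  let a : K' ⟶ ⟨J, n, hJb⟩ := ObjectProperty.homMk q
  have hFq : QuasiIso (((Scheme.Modules.pushforward f).mapHomologicalComplex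
      (ComplexShape.up ℤ)).map q) :=
    (isIso_τ_iff_quasiIso (Scheme.Modules.pushforward f) J n hJb hJ a hq).1 hτ
  haveI : J.IsKInjective := CochainComplex.isKInjective_of_injective J n
  haveI : IsIso (DerivedCategory.Q.map q) :=
    (DerivedCategory.isIso_Q_map_iff_quasiIso (φ := q)).2 hq
  haveI : IsIso (DerivedCategory.Q.map (((Scheme.Modules.pushforward f).mapHomologicalComplex
      (ComplexShape.up ℤ)).map q)) :=
    (DerivedCategory.isIso_Q_map_iff_quasiIso (φ := _)).2 hFq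
  exact ⟨(DCoh.Rpush f).mapIso (asIso (DerivedCategory.Q.map q)) ≪≫ (rpushIso f J).symm ≪≫
    (asIso (DerivedCategory.Q.map (((Scheme.Modules.pushforward f).mapHomologicalComplex
      (ComplexShape.up ℤ)).map q))).symm⟩

end Leray

section Terms

open Groth.Agent.Lib.Helper23.QCohLocal Groth.Agent.R2.H28.RpushQCoh

attribute [local instance] Abelian.hasFiniteBiproducts

/-- a morphism from an affine scheme to a scheme with affine diagonal is affine -/
lemma isAffineHom_of_isAffine_source {W Y : Scheme.{u}} [IsAffine W]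
    [IsAffineHom (pullback.diagonal (terminal.from Y))] (g : W ⟶ Y) : IsAffineHom g := by
  let P : MorphismProperty Scheme.{u} := @IsAffineHom
  haveI : P.IsStableUnderBaseChange := isAffineHom_isStableUnderBaseChange
  haveI : P.IsMultiplicative := inferInstanceAs (MorphismProperty.IsMultiplicative @IsAffineHom)
  haveI : P.RespectsIso := inferInstance
  haveI : P.diagonal.IsStableUnderBaseChange := MorphismProperty.IsStableUnderBaseChange.diagonal
  haveI : P.HasOfPostcompProperty P.diagonal :=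
    MorphismProperty.hasOfPostcompProperty_iff_le_diagonal.mpr le_rfl
  have h1 : P (g ≫ terminal.from Y) := inferInstanceAs (IsAffineHom (g ≫ terminal.from Y))
  have h2 : P.diagonal (terminal.from Y) :=
    inferInstanceAs (IsAffineHom (pullback.diagonal (terminal.from Y)))
  exact MorphismProperty.of_postcomp (W := P) (W' := P.diagonal) g (terminal.from Y) h2 h1

variable {X S : Scheme.{u}} (f : X ⟶ S)

/-- finite products of quasi-coherent modules are quasi-coherent -/
lemma isQuasicoherent_pi {J : Type u} [Finite J] (A : J → S.Modules)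
    (hA : ∀ j, (A j).IsQuasicoherent) : (∏ᶜ A).IsQuasicoherent := by
  obtain ⟨n, ⟨e⟩⟩ := Finite.exists_equiv_fin J
  have h1 : (⨁ (A ∘ e.symm)).IsQuasicoherent :=
    isQuasicoherent_biproduct (A ∘ e.symm) (fun k => hA _)
  exact (SheafOfModules.isQuasicoherent S.ringCatSheaf).prop_of_iso
    (biproduct.isoProduct (A ∘ e.symm) ≪≫ Pi.reindex e.symm A) h1

/-- an additive functor kills finite products of objects it kills -/
lemma isZero_map_pi {C D : Type*} [Category C] [Category D] [Abelian C] [Preadditive D]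
    (G : C ⥤ D) [G.Additive] {J : Type*} [Finite J] (A : J → C) [HasProduct A]
    (h : ∀ j, IsZero (G.obj (A j))) : IsZero (G.obj (∏ᶜ A)) := by
  obtain ⟨n, ⟨e⟩⟩ := Finite.exists_equiv_fin J
  refine IsZero.of_iso ?_ (G.mapIso
    (biproduct.isoProduct (A ∘ e.symm) ≪≫ Pi.reindex e.symm A).symm)
  rw [IsZero.iff_id_eq_zero, ← G.map_id, ← biproduct.total, G.map_sum]
  refine Finset.sum_eq_zero (fun j _ => ?_)
  rw [G.map_comp, (h (e.symm j)).eq_of_tgt (G.map (biproduct.π (A ∘ e.symm) j)) 0, zero_comp]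

end Terms

section Main

open Groth.Agent.Lib.Helper23.QCohLocal Groth.Agent.R2.H28.RpushQCoh
  Groth.Agent.Lib.Helper23Bridge

variable {X S : Scheme.{u}} (f : X ⟶ S) {ι : Type u} (𝒰 : ι → X.Opens) (F : X.Modules)

lemma Ux_eq_iInf {n : ℕ} (x : Fin (n + 1) → ι) : Ux 𝒰 x = ⨅ a, 𝒰 (x a) :=
  le_antisymm (le_iInf (Ux_le 𝒰 x)) (le_Ux 𝒰 x _ (fun a => iInf_le _ a))

lemma isAffineOpen_Ux [IsAffineHom (pullback.diagonal (terminal.from X))]
    (h𝒰 : ∀ i, IsAffineOpen (𝒰 i)) {n : ℕ} (x : Fin (n + 1) → ι) : IsAffineOpen (Ux 𝒰 x) := by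
  rw [Ux_eq_iInf]
  exact IsAffineOpen.iInf (fun a => h𝒰 (x a))

variable [IsAffineHom (pullback.diagonal (terminal.from X))]
  [IsAffineHom (pullback.diagonal (terminal.from S))]

/-- `(j_V)_*(F|_V)` is `f_*`-acyclic for `V` affine, `F` quasi-coherent -/
lemma isZero_rpush_pushRestr (V : X.Opens) (hV : IsAffineOpen V) (hF : F.IsQuasicoherent)
    (q : ℕ) (hq : 0 < q) :
    IsZero ((Coh.Rpush f q).obj ((CechOX.pushRestr V).obj F)) := by
  haveI : IsAffine (V : Scheme.{u}) := hV
  haveI : IsAffineHom V.ι := isAffineHom_of_isAffine_source V.ι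
  haveI : IsAffineHom (V.ι ≫ f) := isAffineHom_of_isAffine_source _
  have hG : Coh.IsQCoh ((Scheme.Modules.restrictFunctor V.ι).obj F) :=
    Scheme.Modules.isQuasicoherent_restrictFunctor V.ι F
  obtain ⟨e⟩ := nonempty_rpush_push_iso V.ι f ((Scheme.Modules.restrictFunctor V.ι).obj F)
    (fun q hq => isZero_rpush_of_isAffineHom V.ι _ hG q hq) q
  exact (isZero_rpush_of_isAffineHom (V.ι ≫ f) _ hG q hq).of_iso e

/-- `f_*(j_V)_*(F|_V)` is quasi-coherent for `V` affine, `F` quasi-coherent -/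
lemma isQuasicoherent_push_pushRestr (V : X.Opens) (hV : IsAffineOpen V)
    (hF : F.IsQuasicoherent) :
    ((Scheme.Modules.pushforward f).obj ((CechOX.pushRestr V).obj F)).IsQuasicoherent := by
  haveI : IsAffine (V : Scheme.{u}) := hV
  haveI : IsAffineHom (V.ι ≫ f) := isAffineHom_of_isAffine_source _
  haveI : ((Scheme.Modules.restrictFunctor V.ι).obj F).IsQuasicoherent :=
    Scheme.Modules.isQuasicoherent_restrictFunctor V.ι F
  have h := isQuasicoherent_pushforward (V.ι ≫ f) ((Scheme.Modules.restrictFunctor V.ι).obj F)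
  exact (SheafOfModules.isQuasicoherent S.ringCatSheaf).prop_of_iso
    ((Scheme.Modules.pushforwardComp V.ι f).app _).symm h

variable [Finite ι]

/-- **S9518** -/
theorem relCech_qcoh_iso_Rpush (hF : Coh.IsQCoh F) (h𝒰 : ∀ i, IsAffineOpen (𝒰 i))
    (hcov : ⨆ i, 𝒰 i = ⊤) [DCoh.HasRpush f] :
    (∀ p : ℕ, Coh.IsQCoh (((CechOX.relCech 𝒰 f).obj F).X p)) ∧
      Nonempty (DCoh.toD S (CechOX.relCechZ 𝒰 f F) ≅ (DCoh.Rpush f).obj (DCoh.inD X F)) := by
  haveI : F.IsQuasicoherent := hF
  constructor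
  · intro p
    haveI : PreservesLimitsOfSize.{u, u} (Scheme.Modules.pushforward f) :=
      (Scheme.Modules.pullbackPushforwardAdjunction f).rightAdjoint_preservesLimits
    let A : (Fin (p + 1) → ι) → X.Modules := fun x => (QF F).obj (op (Ux 𝒰 x))
    let e : (Scheme.Modules.pushforward f).obj (∏ᶜ A) ≅
        ∏ᶜ fun x => (Scheme.Modules.pushforward f).obj (A x) :=
      PreservesProduct.iso (Scheme.Modules.pushforward f) A
    have h1 : (∏ᶜ fun x => (Scheme.Modules.pushforward f).obj (A x)).IsQuasicoherent :=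
      isQuasicoherent_pi _ (fun x =>
        isQuasicoherent_push_pushRestr f F (Ux 𝒰 x) (isAffineOpen_Ux 𝒰 h𝒰 x) hF)
    exact (SheafOfModules.isQuasicoherent S.ringCatSheaf).prop_of_iso e.symm h1
  · have hac : ∀ (m : ℤ) (q : ℕ), 0 < q →
        IsZero ((Coh.Rpush f q).obj ((CZ 𝒰 F).X m)) := by
      intro m q hq
      haveI : (Coh.Rpush f q).Additive :=
        RDer.rightDerived_additive (Scheme.Modules.pushforward f) q
      by_cases hm : m < 0
      · exact (Coh.Rpush f q).map_isZero ((CZ 𝒰 F).isZero_of_isStrictlyGE 0 m hm)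
      · obtain ⟨p, rfl⟩ : ∃ p : ℕ, m = (p : ℤ) :=
          ⟨m.toNat, (Int.toNat_of_nonneg (by omega)).symm⟩
        let e := HomologicalComplex.extendXIso (CKA 𝒰 (QF F)) ComplexShape.embeddingUpNat
          (show ComplexShape.embeddingUpNat.f p = (p : ℤ) from rfl)
        refine IsZero.of_iso ?_ ((Coh.Rpush f q).mapIso e)
        exact isZero_map_pi (Coh.Rpush f q) (fun x => (QF F).obj (op (Ux 𝒰 x)))
          (fun x => isZero_rpush_pushRestr f F (Ux 𝒰 x) (isAffineOpen_Ux 𝒰 h𝒰 x) hF q hq)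
    obtain ⟨e2⟩ := nonempty_rpush_iso_of_acyclic f (CZ 𝒰 F) 0 hac
    let e1 := inDIsoCech 𝒰 F hcov
    let e3 := extendMapIso (Scheme.Modules.pushforward f) (CKA 𝒰 (QF F))
      ComplexShape.embeddingUpNat
    exact ⟨(DerivedCategory.Q.mapIso e3).symm ≪≫ e2.symm ≪≫ (DCoh.Rpush f).mapIso e1.symm⟩

end Main

end Groth.Agent.R2.H28.RelCech
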