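import Mathlib
import Groth.Agent.R2.H28ProjRq
import Groth.Agent.Lib.Helper21ModTensor6
import Groth.Agent.Lib.Helper21Dual12
set_option backward.isDefEq.respectTransparency.types false

/-!
# Relative Ext sheaves and twists by finite locally free modules (helper28)

`Ext^p_f(F ⊗ L, G ⊗ f^*N) ≅ Ext^p_f(F, G ⊗ L^∨) ⊗ N` (S16282), where
`Ext^p_f(M, -) = R^p(f_* Hom(M, -))`.
-/

set_option autoImplicit false
set_option linter.style.haveILetI false
set_option linter.unusedSectionVars false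
universe u
open CategoryTheory CategoryTheory.Limits AlgebraicGeometry

namespace Groth.Agent.R2.H28.RelExtTwist

open Groth.Agent.Lib.Helper21.ModTensor3 Groth.Agent.Lib.Helper21.ModTensor5
  Groth.Agent.Lib.Helper21.ModTensor6 Groth.Agent.Lib.Helper21.Dual

section Site

variable {C : Type u} [SmallCategory C] {J : GrothendieckTopology C} {O : Sheaf J CommRingCat.{u}}

/-- `Hom(F ⊗ L, -) ≅ Hom(F, Hom(L, -))` -/
noncomputable def sheafHomTensorIso (F L : ModSite.Mod O) [ModSite.HasSheafHom F]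
    [ModSite.HasSheafHom L] [ModSite.HasSheafHom (((ModSite.tensorBi O).obj F).obj L)] :
    ModSite.sheafHom (((ModSite.tensorBi O).obj F).obj L) ≅
      ModSite.sheafHom L ⋙ ModSite.sheafHom F :=
  ((((ModSite.sheafHomAdj F).comp (ModSite.sheafHomAdj L)).ofNatIsoLeft
    (tRTensorIso O F L)).rightAdjointUniq
      (ModSite.sheafHomAdj (((ModSite.tensorBi O).obj F).obj L))).symm

/-- `Hom(F ⊗ L, -) ≅ Hom(F, - ⊗ L^∨)` for `L` locally finite free -/
noncomputable def sheafHomTwistIso (F L : ModSite.Mod O) (hL : IsLocFF L) [ModSite.HasSheafHom F]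
    [ModSite.HasSheafHom L] [ModSite.HasSheafHom (((ModSite.tensorBi O).obj F).obj L)] :
    ModSite.sheafHom (((ModSite.tensorBi O).obj F).obj L) ≅
      tR O ((ModSite.sheafHom L).obj (ModSite.unit O)) ⋙ ModSite.sheafHom F :=
  sheafHomTensorIso F L ≪≫ Functor.isoWhiskerRight (cIso L hL).symm (ModSite.sheafHom F)

/-- `- ⊗ (A ⊗ B) ≅ - ⊗ (B ⊗ A)` -/
noncomputable def tRBrdIso (A B : ModSite.Mod O) :
    tR O (((ModSite.tensorBi O).obj A).obj B) ≅ tR O (((ModSite.tensorBi O).obj B).obj A) :=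
  (ModSite.tensorBi O).flip.mapIso (brdApp O A B)

/-- `(- ⊗ A) ⊗ B ≅ (- ⊗ B) ⊗ A` -/
noncomputable def tRSwapIso (A B : ModSite.Mod O) : tR O A ⋙ tR O B ≅ tR O B ⋙ tR O A :=
  tRTensorIso O A B ≪≫ tRBrdIso A B ≪≫ (tRTensorIso O B A).symm

/-- `Hom(F, -) ⊗ E ≅ Hom(F, - ⊗ E)` for `E` locally finite free -/
noncomputable def tRSheafHomComm (F E : ModSite.Mod O) (hE : IsLocFF E) [ModSite.HasSheafHom F] :
    tR O E ⋙ ModSite.sheafHom F ≅ ModSite.sheafHom F ⋙ tR O E :=
  (((ModSite.sheafHomAdj F).comp (dualAdjSw E hE)).ofNatIsoLeft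
    (tRSwapIso F (dual E))).rightAdjointUniq ((dualAdjSw E hE).comp (ModSite.sheafHomAdj F))

end Site

section Scheme

open Groth.Agent.Lib.Helper1.PT Groth.Agent.R2.H28.ProjRq Groth.Agent.Lib.Helper21.DerPost
  Groth.Agent.Lib.Helper21.DerAcyc Groth.Agent.R2.H28.RpushRestrict Groth.Agent.R2.H28.DerBase

variable {X Y : Scheme.{u}} (f : X ⟶ Y)

/-- `M ↦ f_* Hom(F, M)` -/
noncomputable abbrev relHom (F : X.Modules) [ModSite.HasSheafHom (O := X.sheaf) F] :
    X.Modules ⥤ Y.Modules :=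
  ModSite.sheafHom (O := X.sheaf) F ⋙ Scheme.Modules.pushforward f

/-- `f_* Hom(F ⊗ L, -) ≅ f_* Hom(F, - ⊗ L^∨)` -/
noncomputable def relHomTwistIso (F L : X.Modules) (hL : IsLocFF (O := X.sheaf) L)
    [ModSite.HasSheafHom (O := X.sheaf) F] [ModSite.HasSheafHom (O := X.sheaf) L]
    [h3 : ModSite.HasSheafHom (O := X.sheaf) (CohB1.tensorMod F L)] :
    relHom f (CohB1.tensorMod F L) ≅
      tRX ((ModSite.sheafHom (O := X.sheaf) L).obj (Coh.structureModule X)) ⋙ relHom f F :=
  haveI : ModSite.HasSheafHom (O := X.sheaf) (((ModSite.tensorBi X.sheaf).obj F).obj L) := h3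
  Functor.isoWhiskerRight (sheafHomTwistIso (O := X.sheaf) F L hL)
    (Scheme.Modules.pushforward f) ≪≫ Functor.associator _ _ _

/-- `f_* Hom(F, - ⊗ f^*N) ≅ f_* Hom(F, -) ⊗ N` -/
noncomputable def relHomProjIso (F : X.Modules) (N : Y.Modules) (hN : FlatMod.IsFinLocFree N)
    [ModSite.HasSheafHom (O := X.sheaf) F] :
    tRX ((plb f).obj N) ⋙ relHom f F ≅ relHom f F ⋙ tRX N :=
  (Functor.associator _ _ _).symm ≪≫
    Functor.isoWhiskerRight (tRSheafHomComm (O := X.sheaf) F ((plb f).obj N)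
      (isLocFF_of_isFinLocFree _ (Groth.Agent.Lib.Helper1.Sky.isFinLocFree_pullback f N hN)))
      (Scheme.Modules.pushforward f) ≪≫
    Functor.associator _ _ _ ≪≫
    Functor.isoWhiskerLeft (ModSite.sheafHom (O := X.sheaf) F) (projIso f N hN).symm ≪≫
    (Functor.associator _ _ _).symm

lemma preservesFiniteLimits_relHom (F : X.Modules) [ModSite.HasSheafHom (O := X.sheaf) F] :
    PreservesFiniteLimits (relHom f F) := by
  haveI : (psh f).IsRightAdjoint := (ppAdj f).isRightAdjoint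
  have h1 : PreservesFiniteLimits (Scheme.Modules.pushforward f) :=
    (inferInstance : PreservesFiniteLimits (psh f))
  have h2 : PreservesFiniteLimits (ModSite.sheafHom (O := X.sheaf) F) := by
    haveI : PreservesLimitsOfSize.{0, 0} (ModSite.sheafHom (O := X.sheaf) F) :=
      (ModSite.sheafHomAdj (O := X.sheaf) F).rightAdjoint_preservesLimits
    exact PreservesLimitsOfSize.preservesFiniteLimits.{0, 0} _
  exact @comp_preservesFiniteLimits _ _ _ _ _ _ (ModSite.sheafHom (O := X.sheaf) F)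
    (Scheme.Modules.pushforward f) h2 h1

/-- for `D` locally finite free and `T` left exact additive: `R^p(- ⊗ D ⋙ T) = (- ⊗ D) ⋙ R^p T`,
objectwise -/
lemma nonempty_rightDerived_tR_comp_iso {𝒟 : Type*} [Category 𝒟] [Abelian 𝒟]
    (D : X.Modules) (hD : IsLocFF (O := X.sheaf) D)
    (T : X.Modules ⥤ 𝒟) [T.Additive] [PreservesFiniteLimits T] (M : X.Modules) (p : ℕ) :
    Nonempty (((tRX D ⋙ T).rightDerived p).obj M ≅ (T.rightDerived p).obj ((tRX D).obj M)) := by
  haveI : PreservesFiniteLimits (tRX D) := preservesFiniteLimits_tR_of_isLocFF (O := X.sheaf) D hD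
  haveI := preservesFiniteColimits_tRX D
  haveI : (tRX D).PreservesHomology := inferInstance
  exact nonempty_rightDerived_comp_iso (tRX D) T
    (fun I hI n hn => by
      haveI := hI
      haveI : Injective ((tRX D).obj I) := @injective_tR_obj _ _ _ X.sheaf D hD I hI
      obtain ⟨n, rfl⟩ : ∃ k, n = k + 1 := ⟨n - 1, by omega⟩
      exact Functor.isZero_rightDerived_obj_injective_succ _ n _) M p

/-- S16282 -/
theorem nonempty_relExt_twist_iso (F G L : X.Modules) (N : Y.Modules)
    (hL : FlatMod.IsFinLocFree L) (hN : FlatMod.IsFinLocFree N) (p : ℕ)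
    [ModSite.HasSheafHom (O := X.sheaf) F] [ModSite.HasSheafHom (O := X.sheaf) L]
    [ModSite.HasSheafHom (O := X.sheaf) (CohB1.tensorMod F L)]
    [(relHom f F).Additive] [(relHom f (CohB1.tensorMod F L)).Additive] :
    Nonempty (((relHom f (CohB1.tensorMod F L)).rightDerived p).obj
        (CohB1.tensorMod G ((Scheme.Modules.pullback f).obj N)) ≅
      CohB1.tensorMod (((relHom f F).rightDerived p).obj
        (CohB1.tensorMod G ((ModSite.sheafHom (O := X.sheaf) L).obj (Coh.structureModule X)))) N) := by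
  have hL' : IsLocFF (O := X.sheaf) L := isLocFF_of_isFinLocFree L hL
  have hD : IsLocFF (O := X.sheaf) ((ModSite.sheafHom (O := X.sheaf) L).obj (Coh.structureModule X)) :=
    isLocFF_dual L hL'
  have hE' : FlatMod.IsFinLocFree ((plb f).obj N) :=
    Groth.Agent.Lib.Helper1.Sky.isFinLocFree_pullback f N hN
  have hE : IsLocFF (O := X.sheaf) ((plb f).obj N) := isLocFF_of_isFinLocFree _ hE'
  haveI := preservesFiniteLimits_relHom f F
  haveI := preservesFiniteLimits_tRX N hN
  haveI := preservesFiniteColimits_tRX N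
  haveI : (tRX N).PreservesHomology := inferInstance
  set D := (ModSite.sheafHom (O := X.sheaf) L).obj (Coh.structureModule X) with hDdef
  let E := (plb f).obj N
  let e1 := (natIsoRightDerived (relHomTwistIso f F L hL') p).app ((tRX E).obj G)
  obtain ⟨e2⟩ := nonempty_rightDerived_tR_comp_iso D hD (relHom f F) ((tRX E).obj G) p
  let e3 := ((relHom f F).rightDerived p).mapIso ((tRSwapIso (O := X.sheaf) E D).app G)
  obtain ⟨e4⟩ := nonempty_rightDerived_tR_comp_iso E hE (relHom f F) ((tRX D).obj G) p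
  let e5 := (natIsoRightDerived (relHomProjIso f F N hN) p).app ((tRX D).obj G)
  let e6 := (postIso (relHom f F) (tRX N) p).app ((tRX D).obj G)
  exact ⟨e1 ≪≫ e2 ≪≫ e3 ≪≫ e4.symm ≪≫ e5 ≪≫ e6⟩

end Scheme

end Groth.Agent.R2.H28.RelExtTwist
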