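/-
helper28: chart-level toolkit for relative pseudo-coherence (`DerSch.IsPseudoCoherentRel`).

* `isClosedImmersion_chartImm` : for `U` affine and `φ` surjective, `DerSch.chartImm U φ` is a closed immersion;
* `chartHomologyIso` : `H^i(ι_*(G|_U)) ≅ ι_*((H^i G)|_U)` for a closed immersion `ι : U ⟶ A`;
* `isQuasicoherent_of_push` : `ι_* N` quasi-coherent ⇒ `N` quasi-coherent (closed immersion);
* `isQCohD_of_isPseudoCoherentRelAll` (= S6235), `exists_isLE_of_isPseudoCoherentRel` (= S6236).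
-/
import Groth.Prelude.Def_DerSch2
import Groth.Agent.R2.H99PCQCoh
import Groth.Agent.R2.H54ClosedImmHom
import Groth.Agent.R2.H4PerfSummand
import Groth.Agent.R2.H12DevH
import Groth.Agent.Lib.Helper2PullbackSec
import Groth.Agent.Lib.Helper23FinTypeLocal
import Groth.Agent.Lib.Helper17AdjWay1

set_option autoImplicit false
set_option linter.style.haveILetI false
universe u
open CategoryTheory CategoryTheory.Limits AlgebraicGeometry TopologicalSpace

attribute [local instance] HasDerivedCategory.standard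

namespace Groth.Agent.R2.H28.RelPC

open DerivedCategory

variable {X Y : Scheme.{u}}

/-- For an affine open `U` and a surjective `φ`, the chart morphism is a closed immersion. -/
theorem isClosedImmersion_chartImm (U : X.Opens) (hU : IsAffineOpen U) {R : Type u} [CommRing R]
    {n : ℕ} (φ : MvPolynomial (Fin n) R →+* Γ(X, U)) (hφ : Function.Surjective φ) :
    IsClosedImmersion (DerSch.chartImm U φ) := by
  haveI : IsIso U.toSpecΓ := by rw [← hU.isoSpec_hom]; infer_instance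
  haveI : IsClosedImmersion (Spec.map (CommRingCat.ofHom φ)) :=
    IsClosedImmersion.spec_of_surjective _ hφ
  unfold DerSch.chartImm
  infer_instance

open Groth.Agent.Lib.Helper17.AdjWay Groth.Agent.R2.H54.ClosedImmHom Groth.Agent.R2.H54.ClosedImm in
/-- `H^i` of the chart complex `ι_*(G|_U)` is `ι_*((H^i G)|_U)` (both functors are exact). -/
noncomputable def chartHomologyIso {A : Scheme.{u}} (U : X.Opens) (ι' : (U : Scheme.{u}) ⟶ A)
    [IsClosedImmersion ι'] (G : CochainComplex X.Modules ℤ) (i : ℤ) :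
    DCoh.HD (DCoh.toD A ((DerSch.pushCx ι').obj ((DCoh.restrictCx U).obj G))) i ≅
      (Scheme.Modules.pushforward ι').obj
        ((Scheme.Modules.restrictFunctor U.ι).obj (DCoh.HD (DCoh.toD X G) i)) :=
  (homologyFunctor _ i).mapIso
      ((Scheme.Modules.pushforward ι').mapDerivedCategoryFactors.app
        ((DCoh.restrictCx U).obj G)).symm ≪≫
    homologyIso (Scheme.Modules.pushforward ι') (Q.obj ((DCoh.restrictCx U).obj G)) i ≪≫
    (Scheme.Modules.pushforward ι').mapIso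
      ((homologyFunctor _ i).mapIso
          ((Scheme.Modules.restrictFunctor U.ι).mapDerivedCategoryFactors.app G).symm ≪≫
        homologyIso (Scheme.Modules.restrictFunctor U.ι) (Q.obj G) i)

open Groth.Agent.R2.H54.ClosedImm in
/-- For a closed immersion `ι`, a module with quasi-coherent direct image is quasi-coherent. -/
theorem isQuasicoherent_of_push {Z A : Scheme.{u}} (ι' : Z ⟶ A) [IsClosedImmersion ι']
    (N : Z.Modules) (h : ((Scheme.Modules.pushforward ι').obj N).IsQuasicoherent) :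
    N.IsQuasicoherent := by
  haveI := h
  have h1 : ((Scheme.Modules.pullback ι').obj
      ((Scheme.Modules.pushforward ι').obj N)).IsQuasicoherent :=
    Groth.Agent.Lib.Helper2.PullbackSec.isQuasicoherent_pullback ι' _
  haveI : IsIso ((Scheme.Modules.pullbackPushforwardAdjunction ι').counit.app N) :=
    isIso_counit_app ι' N
  exact Groth.Agent.R2.H12.Dev.qcoh_of_iso
    (asIso ((Scheme.Modules.pullbackPushforwardAdjunction ι').counit.app N)) h1

/-- **S6235**: an object pseudo-coherent relative to `f` (all degrees, chart form) has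
quasi-coherent cohomology sheaves. -/
theorem isQCohD_of_isPseudoCoherentRelAll (f : X ⟶ Y) (E : DCoh.D X)
    (hE : DerSch.IsPseudoCoherentRelAll f E) : DCoh.IsQCohD E := by
  intro i
  obtain ⟨-, 𝒱, h𝒱, h⟩ := hE (i - 1)
  let G : CochainComplex X.Modules ℤ := Q.objPreimage E
  let e : Q.obj G ≅ E := Q.objObjPreimageIso E
  -- the cover by all chart opens
  let J : Type u := {p : Y.affineOpens × X.affineOpens // p.1 ∈ 𝒱 ∧
    (p.2 : X.Opens) ≤ f ⁻¹ᵁ (p.1 : Y.Opens) ∧
    ∃ (n : ℕ) (φ : MvPolynomial (Fin n) Γ(Y, (p.1 : Y.Opens)) →+* Γ(X, (p.2 : X.Opens))),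
      Function.Surjective φ ∧ DerSch.ChartPC (i - 1) E (p.2 : X.Opens) (p.1 : Y.Opens) φ}
  have hcov : IsOpenCover (fun j : J => (j.1.2 : X.Opens)) := by
    rw [IsOpenCover, eq_top_iff]
    intro x _
    have hx : f x ∈ (⨆ V ∈ 𝒱, (V : Y.Opens)) := by rw [h𝒱]; trivial
    simp only [Opens.mem_iSup] at hx
    obtain ⟨V, hV, hxV⟩ := hx
    obtain ⟨𝒰, h𝒰, hch⟩ := h V hV
    have hx' : x ∈ (⨆ U ∈ 𝒰, (U : X.Opens)) := by rw [h𝒰]; exact hxV
    simp only [Opens.mem_iSup] at hx'
    obtain ⟨U, hU, hxU⟩ := hx'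
    have hUV : (U : X.Opens) ≤ f ⁻¹ᵁ (V : Y.Opens) := by
      rw [← h𝒰]
      exact le_iSup₂ (f := fun (U : X.affineOpens) (_ : U ∈ 𝒰) => (U : X.Opens)) U hU
    obtain ⟨n, φ, hφ, hpc⟩ := hch U hU hUV
    exact Opens.mem_iSup.2 ⟨⟨(V, U), hV, hUV, n, φ, hφ.1, hpc⟩, hxU⟩
  have hM : (DCoh.HD (Q.obj G) i).IsQuasicoherent := by
    refine Groth.Agent.Lib.Helper23.FinType.isQuasicoherent_of_open_cover _
      (fun j : J => (j.1.2 : X.Opens)) hcov (fun j => ?_)
    obtain ⟨⟨V, U⟩, hV, hUV, n, φ, hφ, hpc⟩ := j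
    haveI : IsClosedImmersion (DerSch.chartImm (U : X.Opens) φ) :=
      isClosedImmersion_chartImm (U : X.Opens) U.2 φ hφ
    have h1 := hpc G ⟨e⟩
    have h2 := Groth.Agent.R2.H99.PCQCoh.isQCoh_HD_of_isPseudoCoherentD (i - 1) _ h1 i (by omega)
    have h3 := Groth.Agent.R2.H12.Dev.qcoh_of_iso
      (chartHomologyIso (U : X.Opens) (DerSch.chartImm (U : X.Opens) φ) G i) h2
    exact isQuasicoherent_of_push (DerSch.chartImm (U : X.Opens) φ) _ h3
  exact Groth.Agent.R2.H12.Dev.qcoh_of_iso ((homologyFunctor _ i).mapIso e) hM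

/-- A module vanishing on the members of an open cover is zero. -/
lemma isZero_of_cover (K : X.Modules) {ι : Type*} (V : ι → X.Opens) (hV : ⨆ i, V i = ⊤)
    (h : ∀ i, IsZero ((Scheme.Modules.restrictFunctor (V i).ι).obj K)) : IsZero K := by
  apply Groth.Agent.R2.H12.Dev.isZero_of_vanOn_top
  have h1 : Groth.Agent.R2.H12.Dev.VanOn K (sSup (Set.range V)) := by
    apply Groth.Agent.R2.H12.Dev.vanOn_sSup
    rintro W ⟨i, rfl⟩
    have := Groth.Agent.R2.H12.Dev.vanOn_of_isZero_restrict (V i).ι K (h i)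
    rwa [Scheme.Opens.opensRange_ι] at this
  have h2 : sSup (Set.range V) = ⊤ := by rw [sSup_range]; exact hV
  rwa [h2] at h1

open Groth.Agent.Lib.Helper17.AdjWay in
/-- On a quasi-compact scheme, an object whose cohomology vanishes above a bound (depending on the
member) on each member of an open cover is bounded above. -/
lemma exists_isLE_of_cover [CompactSpace X] (K : DCoh.D X) {ι : Type*} (V : ι → X.Opens)
    (hV : ⨆ i, V i = ⊤) (b : ι → ℤ)
    (h : ∀ (j : ι) (i : ℤ), b j < i →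
      IsZero ((Scheme.Modules.restrictFunctor (V j).ι).obj (DCoh.HD K i))) :
    ∃ B : ℤ, K.IsLE B := by
  have hcov : (Set.univ : Set X) ⊆ ⋃ j : ι, ((V j : X.Opens) : Set X) := by
    intro x _
    have hx : x ∈ (⨆ i, V i) := by rw [hV]; trivial
    rw [Opens.mem_iSup] at hx
    obtain ⟨j, hj⟩ := hx
    exact Set.mem_iUnion.2 ⟨j, hj⟩
  obtain ⟨t, ht⟩ := isCompact_univ.elim_finite_subcover
    (fun j : ι => ((V j : X.Opens) : Set X)) (fun j => (V j).2) hcov
  obtain ⟨B, hB⟩ := (t.image b).exists_le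
  refine ⟨B, ?_⟩
  rw [DerivedCategory.isLE_iff]
  intro i hi
  refine isZero_of_cover (DCoh.HD K i) (fun j : {j : ι // j ∈ t} => V j.1) ?_ (fun j => ?_)
  · rw [eq_top_iff]
    intro x _
    have hx := ht (Set.mem_univ x)
    simp only [Set.mem_iUnion] at hx
    obtain ⟨j, hjt, hxj⟩ := hx
    exact Opens.mem_iSup.2 ⟨⟨j, hjt⟩, hxj⟩
  · exact h j.1 i (lt_of_le_of_lt (hB _ (Finset.mem_image_of_mem b j.2)) hi)

open Groth.Agent.Lib.Helper17.AdjWay Groth.Agent.R2.H4.Perf in
/-- A pseudo-coherent object on a quasi-compact scheme is bounded above. -/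
theorem exists_isLE_of_isPseudoCoherentD [CompactSpace X] (m : ℤ) (K : DCoh.D X)
    (hK : DCoh.IsPseudoCoherentD m K) : ∃ B : ℤ, K.IsLE B := by
  have hloc := (isPseudoCoherentD_iff m K).1 hK
  rw [loc_iff_opens (isLocalPred_spApprox m)] at hloc
  choose W hxW hW using hloc
  have hb : ∀ x : X, ∃ b : ℤ, ((DCoh.restrictD (W x).ι).obj K).IsLE b := fun x => (hW x).exists_isLE
  choose b hb using hb
  refine exists_isLE_of_cover K W ?_ b (fun x i hi => ?_)
  · rw [eq_top_iff]
    intro x _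
    exact Opens.mem_iSup.2 ⟨x, hxW x⟩
  · haveI := hb x
    exact IsZero.of_iso (DerivedCategory.isZero_of_isLE _ (b x) i hi)
      (homologyIso (Scheme.Modules.restrictFunctor (W x).ι) K i).symm

/-- **S6236**: on a quasi-compact `X`, an object `n`-pseudo-coherent relative to `f` (chart form)
is bounded above. -/
theorem exists_isLE_of_isPseudoCoherentRel [CompactSpace X] (f : X ⟶ Y) (n : ℤ) (E : DCoh.D X)
    (hE : DerSch.IsPseudoCoherentRel f n E) : ∃ b : ℤ, E.IsLE b := by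
  obtain ⟨-, 𝒱, h𝒱, h⟩ := hE
  let G : CochainComplex X.Modules ℤ := Q.objPreimage E
  let e : Q.obj G ≅ E := Q.objObjPreimageIso E
  let J : Type u := {p : Y.affineOpens × X.affineOpens // p.1 ∈ 𝒱 ∧
    (p.2 : X.Opens) ≤ f ⁻¹ᵁ (p.1 : Y.Opens) ∧
    ∃ (k : ℕ) (φ : MvPolynomial (Fin k) Γ(Y, (p.1 : Y.Opens)) →+* Γ(X, (p.2 : X.Opens))),
      Function.Surjective φ ∧ DerSch.ChartPC n E (p.2 : X.Opens) (p.1 : Y.Opens) φ}
  have hcov : (⨆ j : J, (j.1.2 : X.Opens)) = ⊤ := by
    rw [eq_top_iff]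
    intro x _
    have hx : f x ∈ (⨆ V ∈ 𝒱, (V : Y.Opens)) := by rw [h𝒱]; trivial
    simp only [Opens.mem_iSup] at hx
    obtain ⟨V, hV, hxV⟩ := hx
    obtain ⟨𝒰, h𝒰, hch⟩ := h V hV
    have hx' : x ∈ (⨆ U ∈ 𝒰, (U : X.Opens)) := by rw [h𝒰]; exact hxV
    simp only [Opens.mem_iSup] at hx'
    obtain ⟨U, hU, hxU⟩ := hx'
    have hUV : (U : X.Opens) ≤ f ⁻¹ᵁ (V : Y.Opens) := by
      rw [← h𝒰]
      exact le_iSup₂ (f := fun (U : X.affineOpens) (_ : U ∈ 𝒰) => (U : X.Opens)) U hU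
    obtain ⟨k, φ, hφ, hpc⟩ := hch U hU hUV
    exact Opens.mem_iSup.2 ⟨⟨(V, U), hV, hUV, k, φ, hφ.1, hpc⟩, hxU⟩
  have hb : ∀ j : J, ∃ b : ℤ, ∀ i : ℤ, b < i →
      IsZero ((Scheme.Modules.restrictFunctor (j.1.2 : X.Opens).ι).obj (DCoh.HD (Q.obj G) i)) := by
    rintro ⟨⟨V, U⟩, hV, hUV, k, φ, hφ, hpc⟩
    haveI : IsClosedImmersion (DerSch.chartImm (U : X.Opens) φ) :=
      isClosedImmersion_chartImm (U : X.Opens) U.2 φ hφ
    have h1 := hpc G ⟨e⟩
    obtain ⟨b, hb⟩ := exists_isLE_of_isPseudoCoherentD n _ h1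
    refine ⟨b, fun i hi => ?_⟩
    haveI := hb
    have h2 := DerivedCategory.isZero_of_isLE (DCoh.toD _
      ((DerSch.pushCx (DerSch.chartImm (U : X.Opens) φ)).obj ((DCoh.restrictCx (U : X.Opens)).obj G)))
      b i hi
    exact Groth.Agent.R2.H12.Dev.isZero_of_isZero_push (DerSch.chartImm (U : X.Opens) φ) _
      (IsZero.of_iso h2 (chartHomologyIso (U : X.Opens) (DerSch.chartImm (U : X.Opens) φ) G i).symm)
  choose b hb using hb
  obtain ⟨B, hB⟩ := exists_isLE_of_cover (Q.obj G) (fun j : J => (j.1.2 : X.Opens)) hcov b hb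
  exact ⟨B, DerivedCategory.TStructure.t.isLE_of_iso e B⟩

end Groth.Agent.R2.H28.RelPC
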