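/-
helper28: special fibre of a scheme over a local ring `R` (pullback along `Spec (R/m) → Spec R`):
* sections of `X` over an affine open dying on the special fibre lie in `m · Γ(X, V)`;
* the kernel of the stalk map `O_{X, g ξ} → O_{Xs, ξ}` is `m · O_{X, g ξ}`;
* if `Xs` is reduced and `ξ` is the generic point of an irreducible component, then the maximal
  ideal of `O_{X, g ξ}` is `m · O_{X, g ξ}`.
-/
import Mathlib.AlgebraicGeometry.Morphisms.Flat
import Mathlib.AlgebraicGeometry.Properties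
import Mathlib.AlgebraicGeometry.Morphisms.ClosedImmersion
import Groth.Prelude.Def_Coh
set_option autoImplicit false
universe u
open CategoryTheory CategoryTheory.Limits AlgebraicGeometry

namespace Groth.Agent.R2.H28.SpecialFibre

variable (R : Type u) [CommRing R] [IsLocalRing R]

theorem mem_map_of_app_eq_zero {X Xs : Scheme.{u}} (f : X ⟶ Spec (CommRingCat.of R)) (gs : Xs ⟶ X)
    (fs : Xs ⟶ Spec (CommRingCat.of (IsLocalRing.ResidueField R)))
    (hs : IsPullback gs fs f (Spec.map (CommRingCat.ofHom (IsLocalRing.residue R))))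
    (V : X.Opens) (hV : IsAffineOpen V) (s : Γ(X, V)) (h0 : gs.app V s = 0) :
    s ∈ Ideal.map ((f.appLE ⊤ V le_top).hom.comp (Scheme.ΓSpecIso (CommRingCat.of R)).inv.hom)
      (IsLocalRing.maximalIdeal R) := by
  set ρ : R →+* Γ(X, V) :=
    (f.appLE ⊤ V le_top).hom.comp (Scheme.ΓSpecIso (CommRingCat.of R)).inv.hom with hρ
  set I := Ideal.map ρ (IsLocalRing.maximalIdeal R) with hI
  have hpo := (isIso_pushoutSection_iff hs (US := ⊤) (UT := ⊤) (UX := V) le_top le_top rfl).mp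
    (isIso_pushoutSection_of_isAffineOpen hs _ _ rfl (isAffineOpen_top _) (isAffineOpen_top _) hV)
  let q : Γ(X, V) ⟶ CommRingCat.of (Γ(X, V) ⧸ I) := CommRingCat.ofHom (Ideal.Quotient.mk I)
  have hkill : ∀ a ∈ IsLocalRing.maximalIdeal R, ((Ideal.Quotient.mk I).comp ρ) a = 0 := by
    intro a ha
    rw [RingHom.comp_apply, Ideal.Quotient.eq_zero_iff_mem]
    exact Ideal.mem_map_of_mem _ ha
  let k : Γ(Spec (CommRingCat.of (IsLocalRing.ResidueField R)), ⊤) ⟶ CommRingCat.of (Γ(X, V) ⧸ I) :=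
    (Scheme.ΓSpecIso _).hom ≫ CommRingCat.ofHom
      (Ideal.Quotient.lift (IsLocalRing.maximalIdeal R) ((Ideal.Quotient.mk I).comp ρ) hkill)
  have hqk : f.appLE ⊤ V le_top ≫ q =
      (Spec.map (CommRingCat.ofHom (IsLocalRing.residue R))).appLE ⊤ ⊤ le_top ≫ k := by
    rw [← cancel_epi (Scheme.ΓSpecIso (CommRingCat.of R)).inv]
    have h1 : (Spec.map (CommRingCat.ofHom (IsLocalRing.residue R))).appLE ⊤ ⊤ le_top =
        (Spec.map (CommRingCat.ofHom (IsLocalRing.residue R))).appTop := by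
      simp only [Scheme.Hom.appLE]
      erw [CategoryTheory.Functor.map_id]
      exact Category.comp_id _
    rw [h1]
    dsimp only [k]
    rw [← Category.assoc, ← Category.assoc, ← Scheme.ΓSpecIso_inv_naturality, Category.assoc,
      Category.assoc, Iso.inv_hom_id_assoc]
    ext a
    rfl
  have h2 := hpo.inl_desc q k hqk
  have h3 : q s = 0 := by
    rw [← h2]
    rw [CommRingCat.comp_apply]
    have : (gs.appLE V (gs ⁻¹ᵁ V ⊓ fs ⁻¹ᵁ ⊤) (by simp)) s = 0 := by
      rw [Scheme.Hom.appLE, CommRingCat.comp_apply, h0, map_zero]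
    rw [this, map_zero]
  exact Ideal.Quotient.eq_zero_iff_mem.mp h3

theorem isClosedImmersion_of_isPullback {X Xs : Scheme.{u}} (f : X ⟶ Spec (CommRingCat.of R))
    (gs : Xs ⟶ X) (fs : Xs ⟶ Spec (CommRingCat.of (IsLocalRing.ResidueField R)))
    (hs : IsPullback gs fs f (Spec.map (CommRingCat.ofHom (IsLocalRing.residue R)))) :
    IsClosedImmersion gs := by
  have : IsClosedImmersion (Spec.map (CommRingCat.ofHom (IsLocalRing.residue R))) :=
    IsClosedImmersion.spec_of_surjective _ Ideal.Quotient.mk_surjective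
  exact MorphismProperty.of_isPullback hs.flip inferInstance

theorem mem_map_of_stalkMap_eq_zero {X Xs : Scheme.{u}} (f : X ⟶ Spec (CommRingCat.of R))
    (gs : Xs ⟶ X) (fs : Xs ⟶ Spec (CommRingCat.of (IsLocalRing.ResidueField R)))
    (hs : IsPullback gs fs f (Spec.map (CommRingCat.ofHom (IsLocalRing.residue R))))
    (ξ : Xs) (a : X.presheaf.stalk (gs ξ)) (ha : gs.stalkMap ξ a = 0) :
    a ∈ Ideal.map ((X.presheaf.germ ⊤ (gs ξ) trivial).hom.comp (Coh.toGlobal f))
      (IsLocalRing.maximalIdeal R) := by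
  have : IsClosedImmersion gs := isClosedImmersion_of_isPullback R f gs fs hs
  obtain ⟨U, hxU, s, rfl⟩ := X.presheaf.exists_germ_eq a
  rw [Scheme.Hom.germ_stalkMap_apply] at ha
  have ha' : Xs.presheaf.germ (gs ⁻¹ᵁ U) ξ hxU (gs.app U s) =
      Xs.presheaf.germ (gs ⁻¹ᵁ U) ξ hxU 0 := by rw [ha, map_zero]
  obtain ⟨W, hξW, iU, iV, hW⟩ := Xs.presheaf.germ_eq ξ hxU hxU _ _ ha'
  rw [map_zero] at hW
  obtain ⟨W₀, hW₀, hW₀eq⟩ := gs.isEmbedding.isInducing.isOpen_iff.mp W.2
  have hξW₀ : gs ξ ∈ W₀ := by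
    have : ξ ∈ gs ⁻¹' W₀ := by rw [hW₀eq]; exact hξW
    exact this
  obtain ⟨_, ⟨V, hV, rfl⟩, hxV, hVsub⟩ := X.isBasis_affineOpens.exists_subset_of_mem_open
    (show gs ξ ∈ ((U ⊓ ⟨W₀, hW₀⟩ : X.Opens) : Set X) from ⟨hxU, hξW₀⟩) (U ⊓ ⟨W₀, hW₀⟩).isOpen
  have hVU : V ≤ U := fun y hy => (hVsub hy).1
  have hVW : gs ⁻¹ᵁ V ≤ W := by
    intro y hy
    have h1 : gs y ∈ W₀ := (hVsub hy).2
    have h2 : y ∈ gs ⁻¹' W₀ := h1
    rw [hW₀eq] at h2
    exact h2
  have hs'0 : gs.app V (X.presheaf.map (homOfLE hVU).op s) = 0 := by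
    rw [← CommRingCat.comp_apply, gs.naturality, CommRingCat.comp_apply]
    have e : ((TopologicalSpace.Opens.map gs.base).map (homOfLE hVU).op.unop).op =
        iU.op ≫ (homOfLE hVW).op := Subsingleton.elim _ _
    rw [e, Functor.map_comp, CommRingCat.comp_apply, hW, map_zero]
  have hmem := mem_map_of_app_eq_zero R f gs fs hs V hV _ hs'0
  rw [← X.presheaf.germ_res_apply (homOfLE hVU) (gs ξ) hxV s]
  have hcomp : (X.presheaf.germ V (gs ξ) hxV).hom.comp ((f.appLE ⊤ V le_top).hom.comp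
      (Scheme.ΓSpecIso (CommRingCat.of R)).inv.hom) =
      (X.presheaf.germ ⊤ (gs ξ) trivial).hom.comp (Coh.toGlobal f) := by
    unfold Coh.toGlobal
    rw [← RingHom.comp_assoc, ← RingHom.comp_assoc]
    congr 1
    rw [← CommRingCat.hom_comp, ← CommRingCat.hom_comp]
    congr 1
    simp only [Scheme.Hom.appLE, Category.assoc]
    rw [X.presheaf.germ_res]
    rfl
  rw [← hcomp, ← Ideal.map_map]
  exact Ideal.mem_map_of_mem _ hmem

theorem stalkMap_germ_toGlobal_eq_zero {X Xs : Scheme.{u}} (f : X ⟶ Spec (CommRingCat.of R))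
    (gs : Xs ⟶ X) (fs : Xs ⟶ Spec (CommRingCat.of (IsLocalRing.ResidueField R)))
    (hs : IsPullback gs fs f (Spec.map (CommRingCat.ofHom (IsLocalRing.residue R))))
    (ξ : Xs) (r : R) (hr : r ∈ IsLocalRing.maximalIdeal R) :
    gs.stalkMap ξ ((X.presheaf.germ ⊤ (gs ξ) trivial).hom (Coh.toGlobal f r)) = 0 := by
  have h1 : gs.stalkMap ξ ((X.presheaf.germ ⊤ (gs ξ) trivial).hom (Coh.toGlobal f r)) =
      Xs.presheaf.germ (gs ⁻¹ᵁ ⊤) ξ trivial (gs.app ⊤ (Coh.toGlobal f r)) :=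
    Scheme.Hom.germ_stalkMap_apply gs ⊤ ξ trivial _
  rw [h1]
  have h2 : gs.app ⊤ (Coh.toGlobal f r) = 0 := by
    have h3 : f.appTop ≫ gs.appTop = (Spec.map (CommRingCat.ofHom (IsLocalRing.residue R))).appTop ≫
        fs.appTop := by
      rw [← Scheme.Hom.comp_appTop, ← Scheme.Hom.comp_appTop, hs.w]
    have h4 : gs.app ⊤ (f.appTop ((Scheme.ΓSpecIso (CommRingCat.of R)).inv r)) =
        (f.appTop ≫ gs.appTop) ((Scheme.ΓSpecIso (CommRingCat.of R)).inv r) := rfl
    have h4' : gs.app ⊤ (Coh.toGlobal f r) =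
        gs.app ⊤ (f.appTop ((Scheme.ΓSpecIso (CommRingCat.of R)).inv r)) := rfl
    rw [h4', h4, h3, CommRingCat.comp_apply]
    have h5 : (Spec.map (CommRingCat.ofHom (IsLocalRing.residue R))).appTop
        ((Scheme.ΓSpecIso (CommRingCat.of R)).inv r) =
        (Scheme.ΓSpecIso (CommRingCat.of (IsLocalRing.ResidueField R))).inv
          (IsLocalRing.residue R r) := by
      have := Scheme.ΓSpecIso_inv_naturality (CommRingCat.ofHom (IsLocalRing.residue R))
      exact (congrArg (fun φ => φ r) this).symm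
    rw [h5, (IsLocalRing.residue_eq_zero_iff r).mpr hr, map_zero, map_zero]
    rfl
  rw [h2, map_zero]

theorem maximalIdeal_stalk_eq_map {X Xs : Scheme.{u}} (f : X ⟶ Spec (CommRingCat.of R))
    (gs : Xs ⟶ X) (fs : Xs ⟶ Spec (CommRingCat.of (IsLocalRing.ResidueField R)))
    (hs : IsPullback gs fs f (Spec.map (CommRingCat.ofHom (IsLocalRing.residue R))))
    [IsReduced Xs] (ξ : Xs) (hξ : closure ({ξ} : Set Xs) ∈ irreducibleComponents Xs) :
    IsLocalRing.maximalIdeal (X.presheaf.stalk (gs ξ)) =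
      Ideal.map ((X.presheaf.germ ⊤ (gs ξ) trivial).hom.comp (Coh.toGlobal f))
        (IsLocalRing.maximalIdeal R) := by
  have : IsClosedImmersion gs := isClosedImmersion_of_isPullback R f gs fs hs
  set φ : R →+* X.presheaf.stalk (gs ξ) :=
    (X.presheaf.germ ⊤ (gs ξ) trivial).hom.comp (Coh.toGlobal f) with hφ
  set ψ : X.presheaf.stalk (gs ξ) →+* Xs.presheaf.stalk ξ := (gs.stalkMap ξ).hom with hψ
  have hker : RingHom.ker ψ = Ideal.map φ (IsLocalRing.maximalIdeal R) := by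
    apply le_antisymm
    · intro a ha
      exact mem_map_of_stalkMap_eq_zero R f gs fs hs ξ a ha
    · rw [Ideal.map_le_iff_le_comap]
      intro r hr
      exact stalkMap_germ_toGlobal_eq_zero R f gs fs hs ξ r hr
  have hsurj : Function.Surjective ψ := gs.stalkMap_surjective ξ
  have hfield : IsField (Xs.presheaf.stalk ξ) :=
    isField_stalk_of_closure_mem_irreducibleComponents Xs ξ hξ
  let _ := hfield.toField
  have hmax : (RingHom.ker ψ).IsMaximal := RingHom.ker_isMaximal_of_surjective ψ hsurj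
  rw [← hker]
  exact (IsLocalRing.eq_maximalIdeal hmax).symm

end Groth.Agent.R2.H28.SpecialFibre
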