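import Groth.Agent.Lib.Helper23TildeTensor
import Groth.Agent.Lib.Helper1PT4
import Groth.Prelude.Def_TotMap
set_option backward.isDefEq.respectTransparency.types false

/-!
# `M ↦ M~` commutes with tensor products of complexes (helper5, project dqcoh)

* `aHom_naturality_right`, `αApp_naturality_right` : the comparison `(M ⊗ N)~ ⟶ M~ ⊗ N~` of helper23 is natural
  in `N` as well.
* `tildeTensorBiIso` : the isomorphism of bifunctors `(M, N) ↦ (M ⊗ N)~` and `(M, N) ↦ M~ ⊗ N~`.
* `nonempty_tildeTotIso` : `(K ⊗ L)~ ≅ K~ ⊗ L~` for complexes of modules.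
-/

set_option autoImplicit false
set_option linter.style.haveILetI false
universe u
open CategoryTheory CategoryTheory.Limits AlgebraicGeometry TopologicalSpace Opposite
  MonoidalCategory TensorProduct HomologicalComplex

namespace Groth.Agent.R2.H5.TildeTensor2

open Groth.Agent.Lib.Helper23.TildeTensor Groth.Agent.Lib.Helper1.PT
  Groth.Agent.Lib.Helper1.StalkTensor Groth.Agent.Lib.Helper21.ModTensor2
  Groth.Agent.Lib.Helper21.ModTensor3 Groth.Agent.Lib.Helper21.ModTensor7

variable (R : CommRingCat.{u})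

section right

variable (M : ModuleCat.{u} R) {N N' : ModuleCat.{u} R} (g : N ⟶ N')

lemma aHom_naturality_right :
    (tensorLeft M).map g ≫ aHom R N' M =
      aHom R N M ≫ (Γf R).map ((DCoh.tensorBi.obj (tilde M)).map (tilde.map g)) := by
  apply ModuleCat.MonoidalCategory.tensor_ext
  intro m n
  have hL : ((tensorLeft M).map g ≫ aHom R N' M).hom (m ⊗ₜ[R] n) = bilFun R N' M m (g.hom n) := by
    rw [ModuleCat.hom_comp, LinearMap.comp_apply]
    have : ((tensorLeft M).map g).hom (m ⊗ₜ[R] n) = m ⊗ₜ[R] (g.hom n) := rfl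
    rw [this, aHom_tmul]
  have hR : (aHom R N M ≫ (Γf R).map ((DCoh.tensorBi.obj (tilde M)).map (tilde.map g))).hom
        (m ⊗ₜ[R] n) =
      (toPMMap ((DCoh.tensorBi.obj (tilde M)).map (tilde.map g))).app (op ⊤)
        (bilFun R N M m n) := by
    rw [ModuleCat.hom_comp, LinearMap.comp_apply, aHom_tmul]
    rfl
  refine hL.trans (Eq.trans ?_ hR.symm)
  unfold bilFun
  rw [etaX_app_whiskerLeft, whiskerLeft_app_tm, sec_map]

lemma αApp_naturality_right :
    tilde.map (M ◁ g) ≫ αApp R N' M =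
      αApp R N M ≫ (DCoh.tensorBi.obj (tilde M)).map (tilde.map g) := by
  unfold αApp
  have h1 := (tadj R).homEquiv_naturality_left_symm ((tensorLeft M).map g) (aHom R N' M)
  have h2 := (tadj R).homEquiv_naturality_right_symm (aHom R N M)
    ((DCoh.tensorBi.obj (tilde M)).map (tilde.map g))
  rw [aHom_naturality_right] at h1
  exact h1.symm.trans h2

end right

/-- `(M, N) ↦ (M ⊗ N)~` -/
noncomputable abbrev T₁ : ModuleCat.{u} R ⥤ ModuleCat.{u} R ⥤ (Spec (.of R)).Modules :=
  curriedTensor (ModuleCat.{u} R) ⋙ (Functor.whiskeringRight _ _ _).obj (tilde.functor R)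

/-- `(M, N) ↦ M~ ⊗ N~` -/
noncomputable abbrev T₂ : ModuleCat.{u} R ⥤ ModuleCat.{u} R ⥤ (Spec (.of R)).Modules :=
  tilde.functor R ⋙ DCoh.tensorBi (X := Spec (.of R)) ⋙
    (Functor.whiskeringLeft _ _ _).obj (tilde.functor R)

/-- `M ↦ M~` is monoidal: the isomorphism of bifunctors. -/
noncomputable def tildeTensorBiIso : T₁ R ≅ T₂ R :=
  NatIso.ofComponents (fun M => NatIso.ofComponents
      (fun N => @asIso _ _ _ _ (αApp R N M) (isIso_αApp R N M))
      (fun {N N'} g => αApp_naturality_right R M g))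
    (fun {M M'} φ => NatTrans.ext (funext fun N => (α R N).naturality φ))

/-- termwise tilde -/
noncomputable abbrev TC : CochainComplex (ModuleCat.{u} R) ℤ ⥤
    CochainComplex (Spec (.of R)).Modules ℤ :=
  (tilde.functor R).mapHomologicalComplex (ComplexShape.up ℤ)

instance preservesTotal_tilde
    (B : HomologicalComplex₂ (ModuleCat.{u} R) (ComplexShape.up ℤ) (ComplexShape.up ℤ)) :
    TotMap.PreservesTotal (tilde.functor R) B (ComplexShape.up ℤ) := fun n => by
  haveI : PreservesColimitsOfSize.{0, 0} (tilde.functor R) :=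
    (tilde.adjunction (R := R)).leftAdjoint_preservesColimits
  infer_instance

instance (A : ModuleCat.{u} R) : ((T₁ R).obj A).PreservesZeroMorphisms :=
  (inferInstance : ((curriedTensor (ModuleCat.{u} R)).obj A ⋙
    tilde.functor R).PreservesZeroMorphisms)

instance (A : ModuleCat.{u} R) : ((T₂ R).obj A).PreservesZeroMorphisms :=
  (inferInstance : (tilde.functor R ⋙
    (DCoh.tensorBi (X := Spec (.of R))).obj ((tilde.functor R).obj A)).PreservesZeroMorphisms)

variable (K L : CochainComplex (ModuleCat.{u} R) ℤ)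

/-- tilde of the tensor product of two complexes -/
theorem nonempty_tildeTotIso :
    Nonempty ((TC R).obj (mapBifunctor K L (curriedTensor (ModuleCat.{u} R)) (ComplexShape.up ℤ)) ≅
      mapBifunctor ((TC R).obj K) ((TC R).obj L) (DCoh.tensorBi (X := Spec (.of R)))
        (ComplexShape.up ℤ)) := by
  let BY := (((curriedTensor (ModuleCat.{u} R)).mapBifunctorHomologicalComplex (ComplexShape.up ℤ)
    (ComplexShape.up ℤ)).obj K).obj L
  let BXX := (((DCoh.tensorBi (X := Spec (.of R))).mapBifunctorHomologicalComplex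
    (ComplexShape.up ℤ) (ComplexShape.up ℤ)).obj ((TC R).obj K)).obj ((TC R).obj L)
  haveI h1 : ((TotMap.map₂ (tilde.functor R) (ComplexShape.up ℤ) (ComplexShape.up ℤ)).obj
      BY).HasTotal (ComplexShape.up ℤ) :=
    TotMap.hasTotal_map₂ (tilde.functor R) BY (ComplexShape.up ℤ)
  let e₂ : (TotMap.map₂ (tilde.functor R) (ComplexShape.up ℤ) (ComplexShape.up ℤ)).obj BY ≅
      (((T₁ R).mapBifunctorHomologicalComplex (ComplexShape.up ℤ)
        (ComplexShape.up ℤ)).obj K).obj L :=
    (TotMap.mapBifunctorPostcompIso (curriedTensor (ModuleCat.{u} R)) (tilde.functor R) K L).symm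
  haveI h2 : HasMapBifunctor K L (T₁ R) (ComplexShape.up ℤ) :=
    HomologicalComplex₂.hasTotal_of_iso e₂ (ComplexShape.up ℤ)
  let e₄ : BXX ≅ (((T₂ R).mapBifunctorHomologicalComplex (ComplexShape.up ℤ)
        (ComplexShape.up ℤ)).obj K).obj L :=
    TotMap.mapBifunctorPrecompIso (tilde.functor R) (tilde.functor R)
      (DCoh.tensorBi (X := Spec (.of R))) K L
  haveI h3 : HasMapBifunctor K L (T₂ R) (ComplexShape.up ℤ) :=
    HomologicalComplex₂.hasTotal_of_iso e₄ (ComplexShape.up ℤ)
  exact ⟨TotMap.mapTotalIso (tilde.functor R) BY (ComplexShape.up ℤ) ≪≫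
    HomologicalComplex₂.total.mapIso e₂ (ComplexShape.up ℤ) ≪≫
    TotMap.mapBifunctorNatIso K L (ComplexShape.up ℤ) (tildeTensorBiIso R) ≪≫
    (HomologicalComplex₂.total.mapIso e₄ (ComplexShape.up ℤ)).symm⟩

end Groth.Agent.R2.H5.TildeTensor2
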