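import Groth.Agent.R2.H5LpullQCoh
import Groth.Agent.R2.H5TildeTensor2
import Groth.Agent.Lib.Helper1FLF2
import Groth.Agent.Lib.Helper23QCohAbelian
set_option backward.isDefEq.respectTransparency.types false

/-!
# `- ⊗^L -` preserves `D_QCoh` (helper5, project dqcoh)

* `isQCohD_tensor_affine` : on `Spec R`, `Q (P ⊗ F) ∈ D_QCoh` when `P` is K-flat and `Q P, Q F ∈ D_QCoh`.
* `isQCohD_LTensorCx` : statement S1062.
-/

set_option autoImplicit false
set_option linter.style.haveILetI false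
universe u
open CategoryTheory CategoryTheory.Limits AlgebraicGeometry Opposite
attribute [local instance] HasDerivedCategory.standard

namespace Groth.Agent.R2.H5.LTensorQCoh

open Groth.Agent.Lib.Helper1.Sky Groth.Agent.R2.H5.DQCoh Groth.Agent.R2.H5.DQCohAff
  Groth.Agent.R2.H5.LpullQCoh Groth.Agent.Lib.Helper1.KBC Groth.Agent.Lib.Helper1.BKF
  Groth.Agent.Lib.Helper1.PT Groth.Agent.Lib.Helper1.FLF Groth.Agent.Lib.Helper1.KF
  Groth.Agent.Lib.Helper21.ModTensor3 Groth.Agent.Lib.Helper21.ModTensor5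

attribute [local instance] Groth.Agent.Lib.Helper1.Sky.hasLpull

section affine

variable (R : CommRingCat.{u}) [PreservesFiniteLimits (tilde.functor R)]

/-- an object of `D_QCoh(Spec R)` is represented by the tilde of a K-projective complex. -/
theorem exists_tilde_kprojective (K : DCoh.D (Spec (CommRingCat.of R))) (hK : DCoh.IsQCohD K) :
    ∃ P : CochainComplex (ModuleCat.{u} R) ℤ, P.IsKProjective ∧
      Nonempty (K ≅ DerivedCategory.Q.obj ((TildeTensor2.TC R).obj P)) := by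
  haveI := (tildeD_equivalence R).2 K hK
  let Y := (RΓd R).obj K
  obtain ⟨P, π, hP, -, hπ, -⟩ := exists_kprojective_resolution (DerivedCategory.Q.objPreimage Y)
  haveI : IsIso (DerivedCategory.Q.map π) := (DerivedCategory.isIso_Q_map_iff_quasiIso (φ := π)).2 hπ
  let eP : DerivedCategory.Q.obj P ≅ Y :=
    asIso (DerivedCategory.Q.map π) ≪≫ DerivedCategory.Q.objObjPreimageIso Y
  exact ⟨P, hP, ⟨(asIso ((adjD R).counit.app K)).symm ≪≫ (DCoh.tildeD R).mapIso eP.symm ≪≫
    (tilde.functor R).mapDerivedCategoryFactors.app P⟩⟩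

/-- the affine case. -/
theorem isQCohD_tensor_affine (P F : CochainComplex (Spec (CommRingCat.of R)).Modules ℤ)
    (hP : DCoh.IsKFlat P) (hPq : DCoh.IsQCohD (DerivedCategory.Q.obj P))
    (hFq : DCoh.IsQCohD (DerivedCategory.Q.obj F)) :
    DCoh.IsQCohD (DerivedCategory.Q.obj ((DCoh.tensorCx.obj P).obj F)) := by
  obtain ⟨P₁, hP₁, ⟨eP⟩⟩ := exists_tilde_kprojective R _ hPq
  obtain ⟨F₁, hF₁, ⟨eF⟩⟩ := exists_tilde_kprojective R _ hFq
  haveI := hP₁
  haveI := hF₁
  have hF₁' : DCoh.IsKFlat ((TildeTensor2.TC R).obj F₁) :=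
    isKFlat_tilde R F₁ (fun M hM => kflat_of_isKProjective F₁ M hM)
  obtain ⟨c⟩ := nonempty_Q_tensor_iso (O := (Spec (CommRingCat.of R)).sheaf) F
    ((TildeTensor2.TC R).obj F₁) P ((TildeTensor2.TC R).obj P₁) hP hF₁' eF eP
  obtain ⟨t⟩ := TildeTensor2.nonempty_tildeTotIso R F₁ P₁
  let s : DerivedCategory.Q.obj ((DCoh.tensorCx.obj P).obj F) ≅
      DerivedCategory.Q.obj ((DCoh.tensorCx.obj F).obj P) :=
    DerivedCategory.Q.mapIso (symIso (ModSite.tensorBi (Spec (CommRingCat.of R)).sheaf)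
      (brd (Spec (CommRingCat.of R)).sheaf) P F)
  let C := HomologicalComplex.mapBifunctor F₁ P₁ (MonoidalCategory.curriedTensor (ModuleCat.{u} R))
    (ComplexShape.up ℤ)
  have hC : DCoh.IsQCohD ((DCoh.tildeD R).obj (DerivedCategory.Q.obj C)) :=
    ((tildeD_equivalence R).1 _).1
  exact isQCohD_of_iso ((tilde.functor R).mapDerivedCategoryFactors.app C ≪≫
    DerivedCategory.Q.mapIso t ≪≫ c.symm ≪≫ s.symm) hC

end affine

section general

variable (X : Scheme.{u})

/-- `Q (P ⊗ F) ∈ D_QCoh` when `P` is K-flat and `Q P, Q F ∈ D_QCoh`. -/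
theorem isQCohD_tensor (P F : CochainComplex X.Modules ℤ)
    (hP : DCoh.IsKFlat P) (hPq : DCoh.IsQCohD (DerivedCategory.Q.obj P))
    (hFq : DCoh.IsQCohD (DerivedCategory.Q.obj F)) :
    DCoh.IsQCohD (DerivedCategory.Q.obj ((DCoh.tensorCx.obj P).obj F)) := by
  intro n
  refine Groth.Agent.Lib.Helper23.QCohLocal.isQuasicoherent_of_forall_affine _ (fun V hV => ?_)
  haveI := (Groth.Agent.S9498.aux Γ(X, V)).1
  let j := hV.fromSpec
  let T := DerivedCategory.Q.obj ((DCoh.tensorCx.obj P).obj F)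
  obtain ⟨t⟩ := nonempty_pullTotIso j P F
  have hP' : DCoh.IsKFlat ((pullC j).obj P) := Groth.Agent.S0960.isKFlat_pullC j P hP
  have hPq' : DCoh.IsQCohD (DerivedCategory.Q.obj ((pullC j).obj P)) :=
    isQCohD_of_iso (lpullIsoOfExact j P) (pq j _ hPq)
  have hFq' : DCoh.IsQCohD (DerivedCategory.Q.obj ((pullC j).obj F)) :=
    isQCohD_of_iso (lpullIsoOfExact j F) (pq j _ hFq)
  have h1 := isQCohD_tensor_affine Γ(X, V) ((pullC j).obj P) ((pullC j).obj F) hP' hPq' hFq'
  have h2 : DCoh.IsQCohD ((DCoh.Lpull j).obj T) :=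
    isQCohD_of_iso (DerivedCategory.Q.mapIso t.symm ≪≫
      (lpullIsoOfExact j ((DCoh.tensorCx.obj P).obj F)).symm) h1
  exact (qcP _).prop_of_iso (homologyLpullOpenIso j T n) (h2 n)

/-- **`E ⊗^L F ∈ D_QCoh` for `E, F ∈ D_QCoh`.** -/
theorem isQCohD_LTensorCx (F : CochainComplex X.Modules ℤ) (hF : DCoh.IsQCohD (DCoh.toD X F))
    [DCoh.HasLTensorCx F] (E : DCoh.D X) (hE : DCoh.IsQCohD E) :
    DCoh.IsQCohD ((DCoh.LTensorCx F).obj E) := by
  let F0 := (DerivedCategory.Q (C := X.Modules)).objPreimage E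
  have e0 : DerivedCategory.Q.obj F0 ≅ E := (DerivedCategory.Q (C := X.Modules)).objObjPreimageIso E
  obtain ⟨P, q, hP, -, hq, -⟩ := exists_kflat_flat_resolution (O := X.sheaf) F0
  haveI : QuasiIso q := hq
  have hP' : DCoh.IsKFlat P := hP
  haveI : IsIso (DerivedCategory.Q.map q) := by
    rw [DerivedCategory.isIso_Q_map_iff_quasiIso]; exact hq
  have eK : E ≅ DerivedCategory.Q.obj P := e0.symm ≪≫ (asIso (DerivedCategory.Q.map q)).symm
  haveI hI1 : ModSite.HasLTensorCx (O := X.sheaf) F := (inferInstance : DCoh.HasLTensorCx F)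
  have i : (DCoh.LTensorCx F).obj (DerivedCategory.Q.obj P) ≅
      DerivedCategory.Q.obj ((DCoh.tensorCx.obj P).obj F) :=
    lTensorCxIsoOfIsKFlat (O := X.sheaf) F P hP
  exact isQCohD_of_iso ((DCoh.LTensorCx F).mapIso eK ≪≫ i).symm
    (isQCohD_tensor X P F hP' (isQCohD_of_iso eK hE) hF)

end general

end Groth.Agent.R2.H5.LTensorQCoh
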