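/-
helper28: `D^-_Coh` is stable under `⊗^L` on a locally Noetherian scheme (S6498), following
helper5's proof that `⊗^L` preserves `D_QCoh` (R2/H5LTensorQCoh), with finite free affine models
(helper99 `exists_affine_model`, helper1 `exists_bddAbove_ff`).
-/
import Groth.Agent.R2.H5LTensorQCoh
import Groth.Agent.R2.H99PCNoeth
import Groth.Agent.R2.H99PCDescent
import Groth.Agent.Lib.Helper1PCTower
import Groth.Agent.Lib.Helper1TensPerf
import Groth.Agent.R2.H12Dev3A
set_option backward.isDefEq.respectTransparency.types false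

set_option autoImplicit false
set_option linter.style.haveILetI false
universe u
open CategoryTheory CategoryTheory.Limits AlgebraicGeometry Opposite TopologicalSpace
attribute [local instance] HasDerivedCategory.standard

namespace Groth.Agent.R2.H28.TensorCoh

open DerivedCategory Groth.Agent.Lib.Helper1.Sky Groth.Agent.R2.H5.DQCoh Groth.Agent.R2.H5.DQCohAff
  Groth.Agent.R2.H5.LpullQCoh Groth.Agent.Lib.Helper1.KBC Groth.Agent.Lib.Helper1.BKF
  Groth.Agent.Lib.Helper1.PT Groth.Agent.Lib.Helper1.FLF Groth.Agent.Lib.Helper1.KF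
  Groth.Agent.Lib.Helper21.ModTensor3 Groth.Agent.Lib.Helper21.ModTensor5
  Groth.Agent.R2.H99.PCNoeth Groth.Agent.Lib.Helper23.FinType Groth.Agent.S7017
  Groth.Agent.R2.H5.TildeTensor2

attribute [local instance] Groth.Agent.Lib.Helper1.Sky.hasLpull

variable {X : Scheme.{u}}

/-- Finite free affine model of an object of `D^{≤ a}_Coh` over an affine open of a locally
Noetherian scheme. -/
theorem exists_ff_model [IsLocallyNoetherian X] (K : DCoh.D X) (hK : DCoh.IsCohD K) (a : ℤ)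
    (hKa : ∀ i, a < i → IsZero (DCoh.HD K i)) {V : X.Opens} (hV : IsAffineOpen V) :
    ∃ E : DRing.Cx Γ(X, V), (∀ i, a < i → IsZero (E.X i)) ∧ (∀ i, FF (E.X i)) ∧
      Nonempty (Q.obj ((TC Γ(X, V)).obj E) ≅ (DCoh.Lpull hV.fromSpec).obj K) := by
  haveI : IsNoetherianRing Γ(X, V) := IsLocallyNoetherian.component_noetherian ⟨V, hV⟩
  have hq : DCoh.IsQCohD K := fun i => (hK i).1
  obtain ⟨M, ⟨e⟩, hM⟩ := exists_affine_model K hq hV
  have hz : ∀ i, a < i → IsZero ((homologyFunctor (ModuleCat.{u} Γ(X, V)) i).obj M) := by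
    intro i hi
    obtain ⟨ε⟩ := hM i
    exact IsZero.of_iso ((moduleSpecΓFunctor (R := Γ(X, V))).map_isZero
      ((Scheme.Modules.restrictFunctor hV.fromSpec).map_isZero (hKa i hi))) (homologyIsoΓU hV _ _ ε)
  have hpc : ∀ m : ℤ, DRing.IsPseudoCoherent Γ(X, V) m M := by
    intro m
    refine ((Groth.Agent.S6942.result Γ(X, V) m M PUnit.{u + 1}).1).2 ⟨⟨a, fun i hi => ?_⟩,
      fun i _ => ?_⟩
    · exact ModuleCat.subsingleton_of_isZero (hz i hi)
    · obtain ⟨ε⟩ := hM i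
      haveI : (DCoh.HD K i).IsQuasicoherent := hq i
      haveI : SheafOfModules.IsFiniteType (R := X.ringCatSheaf) (DCoh.HD K i) := (hK i).2
      have h1 : Module.Finite Γ(X, V) Γ(DCoh.HD K i, V) := finite_of_isFiniteType _ hV
      have h2 : Module.Finite Γ(X, V) (ΓU (DCoh.HD K i) hV) := (finite_ΓU_iff _ hV).2 h1
      exact Module.Finite.equiv (homologyIsoΓU hV _ _ ε).toLinearEquiv.symm
  have hle : M.IsLE a := by
    rw [DerivedCategory.isLE_iff]
    exact hz
  let K' := Q.objPreimage M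
  let e' : Q.obj K' ≅ M := Q.objObjPreimageIso M
  have hle' : (Q.obj K').IsLE a := DerivedCategory.TStructure.t.isLE_of_iso e'.symm a
  have hpc' : ∀ m : ℤ, DRing.IsPseudoCoherent Γ(X, V) m (Q.obj K') := fun m =>
    Groth.Agent.Lib.Helper1.PC.isPC_of_iso e'.symm (hpc m)
  obtain ⟨E, h1, h2, ⟨e''⟩⟩ := Groth.Agent.Lib.Helper1.PCTower.exists_bddAbove_ff K' a hle' hpc'
  refine ⟨E, h1, h2, ⟨?_⟩⟩
  exact ((tilde.functor Γ(X, V)).mapDerivedCategoryFactors.app E).symm ≪≫
    (DCoh.tildeD Γ(X, V)).mapIso (e'' ≪≫ e') ≪≫ e ≪≫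
    Groth.Agent.R2.H99.PCDescent.restrictDIsoLpull hV.fromSpec K

section affine

open MonoidalCategory Groth.Agent.Lib.Helper1.TensPerf
  Groth.Agent.Lib.Helper1.Tor Groth.Agent.Lib.Helper1.DT Groth.Agent.Lib.Helper1.LDer
  Groth.Agent.Lib.Helper1.TorL

variable (R : CommRingCat.{u})

/-- The affine computation: `P ⊗ F` is the tilde of a complex of finite modules vanishing above
`a + b`, when `P` (K-flat) and `F` are the tildes of bounded above complexes of finite free modules. -/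
theorem exists_tensor_model (P F : CochainComplex (Spec (CommRingCat.of R)).Modules ℤ)
    (hP : DCoh.IsKFlat P) (E₁ E₂ : DRing.Cx R) (a b : ℤ)
    (h1 : ∀ i, a < i → IsZero (E₁.X i)) (h1' : ∀ i, FF (E₁.X i))
    (h2 : ∀ i, b < i → IsZero (E₂.X i)) (h2' : ∀ i, FF (E₂.X i))
    (eP : Q.obj P ≅ Q.obj ((TC R).obj E₁)) (eF : Q.obj F ≅ Q.obj ((TC R).obj E₂)) :
    ∃ C : DRing.Cx R, (∀ n, a + b < n → IsZero (C.X n)) ∧ (∀ n, Module.Finite R (C.X n)) ∧
      Nonempty (Q.obj ((DCoh.tensorCx.obj P).obj F) ≅ Q.obj ((TC R).obj C)) := by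
  haveI : E₁.IsKProjective :=
    isKProjective_of_vanishesAbove E₁ a h1 (fun i => FF_proj _ (h1' i))
  haveI : E₂.IsKProjective :=
    isKProjective_of_vanishesAbove E₂ b h2 (fun i => FF_proj _ (h2' i))
  have hE₂' : DCoh.IsKFlat ((TC R).obj E₂) :=
    isKFlat_tilde R E₂ (fun M hM => kflat_of_isKProjective E₂ M hM)
  obtain ⟨c⟩ := nonempty_Q_tensor_iso (O := (Spec (CommRingCat.of R)).sheaf) F
    ((TC R).obj E₂) P ((TC R).obj E₁) hP hE₂' eF eP
  obtain ⟨t⟩ := nonempty_tildeTotIso R E₂ E₁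
  let s : Q.obj ((DCoh.tensorCx.obj P).obj F) ≅ Q.obj ((DCoh.tensorCx.obj F).obj P) :=
    Q.mapIso (symIso (ModSite.tensorBi (Spec (CommRingCat.of R)).sheaf)
      (brd (Spec (CommRingCat.of R)).sheaf) P F)
  refine ⟨E₂ ⊗ E₁, fun n hn => ?_, fun n => ?_, ⟨s ≪≫ c ≪≫ (Q.mapIso t).symm⟩⟩
  · apply isZero_tensor_X
    intro p q hpq
    by_cases hp : b < p
    · exact Or.inl (h2 p hp)
    · exact Or.inr (h1 q (by lia))
  · refine finite_tensor_X E₂ E₁ (fun i => (h2' i).1) (fun i => (h1' i).1) n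
      (Finset.Icc (n - a) b) ?_
    intro p q hpq hp
    rw [Finset.mem_Icc] at hp
    by_cases hp' : b < p
    · exact Or.inl (h2 p hp')
    · exact Or.inr (h1 q (by lia))

end affine

section ring

/-- Homology of a complex of finite modules over a Noetherian ring is finite. -/
lemma finite_homology {R : Type u} [CommRing R] [IsNoetherianRing R] (C : DRing.Cx R) (n : ℤ)
    (h : Module.Finite R (C.X n)) : Module.Finite R (C.homology n) := by
  haveI : IsNoetherian R (C.X n) := isNoetherian_of_isNoetherianRing_of_finite R (C.X n)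
  have h1 : Function.Injective (C.iCycles n) :=
    (ModuleCat.mono_iff_injective _).1 inferInstance
  have h2 : Function.Surjective (C.homologyπ n) :=
    (ModuleCat.epi_iff_surjective _).1 inferInstance
  haveI : Module.Finite R (C.cycles n) := Module.Finite.of_injective (C.iCycles n).hom h1
  exact Module.Finite.of_surjective (C.homologyπ n).hom h2

end ring

section general

open Groth.Agent.Lib.Helper17.AdjWay

variable (X) in
/-- The local computation: for `P` K-flat with `Q P ∈ D^{≤a}_Coh` and `Q E ∈ D^{≤b}_Coh`, the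
cohomology of `P ⊗ E` restricted to an affine open is the tilde of a finite module, zero above
`a + b`. -/
theorem exists_local_model [IsLocallyNoetherian X] (P E : CochainComplex X.Modules ℤ)
    (hP : DCoh.IsKFlat P) (hPc : DCoh.IsCohD (Q.obj P)) (a : ℤ)
    (hPa : ∀ i, a < i → IsZero (DCoh.HD (Q.obj P) i))
    (hEc : DCoh.IsCohD (Q.obj E)) (b : ℤ) (hEb : ∀ i, b < i → IsZero (DCoh.HD (Q.obj E) i))
    {V : X.Opens} (hV : IsAffineOpen V) (n : ℤ) :
    ∃ N : ModuleCat.{u} Γ(X, V), Module.Finite Γ(X, V) N ∧ (a + b < n → IsZero N) ∧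
      Nonempty ((tilde.functor Γ(X, V)).obj N ≅
        (Scheme.Modules.restrictFunctor hV.fromSpec).obj
          (DCoh.HD (Q.obj ((DCoh.tensorCx.obj P).obj E)) n)) := by
  haveI : IsNoetherianRing Γ(X, V) := IsLocallyNoetherian.component_noetherian ⟨V, hV⟩
  haveI := (Groth.Agent.S9498.aux Γ(X, V)).1
  let j := hV.fromSpec
  let T := Q.obj ((DCoh.tensorCx.obj P).obj E)
  obtain ⟨E₁, h1, h1', ⟨e₁⟩⟩ := exists_ff_model (Q.obj P) hPc a hPa hV
  obtain ⟨E₂, h2, h2', ⟨e₂⟩⟩ := exists_ff_model (Q.obj E) hEc b hEb hV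
  obtain ⟨t⟩ := nonempty_pullTotIso j P E
  have hP' : DCoh.IsKFlat ((pullC j).obj P) := Groth.Agent.S0960.isKFlat_pullC j P hP
  have eP : Q.obj ((pullC j).obj P) ≅ Q.obj ((TC Γ(X, V)).obj E₁) :=
    (lpullIsoOfExact j P).symm ≪≫ e₁.symm
  have eF : Q.obj ((pullC j).obj E) ≅ Q.obj ((TC Γ(X, V)).obj E₂) :=
    (lpullIsoOfExact j E).symm ≪≫ e₂.symm
  obtain ⟨C, hC1, hC2, ⟨c⟩⟩ := exists_tensor_model Γ(X, V) ((pullC j).obj P) ((pullC j).obj E) hP'
    E₁ E₂ a b h1 h1' h2 h2' eP eF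
  have eT : (DCoh.Lpull j).obj T ≅ Q.obj ((TC Γ(X, V)).obj C) :=
    lpullIsoOfExact j ((DCoh.tensorCx.obj P).obj E) ≪≫ Q.mapIso t ≪≫ c
  refine ⟨(homologyFunctor _ n).obj (Q.obj C), ?_, fun hn => ?_, ⟨?_⟩⟩
  · have h0 : Module.Finite Γ(X, V)
        ((HomologicalComplex.homologyFunctor (ModuleCat.{u} Γ(X, V)) (ComplexShape.up ℤ) n).obj C) :=
      finite_homology C n (hC2 n)
    exact Module.Finite.equiv ((homologyFunctorFactors _ n).app C).toLinearEquiv.symm
  · refine IsZero.of_iso ?_ ((homologyFunctorFactors _ n).app C)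
    exact ShortComplex.isZero_homology_of_isZero_X₂ _ (hC1 n hn)
  · exact (homologyIso (tilde.functor Γ(X, V)) (Q.obj C) n).symm ≪≫
      (homologyFunctor _ n).mapIso ((tilde.functor Γ(X, V)).mapDerivedCategoryFactors.app C) ≪≫
      (homologyFunctor _ n).mapIso eT.symm ≪≫ homologyLpullOpenIso j T n

variable (X) in
/-- **S6498**: `D^-_Coh` is stable under the derived tensor product on a locally Noetherian scheme. -/
theorem main [IsLocallyNoetherian X] (E : CochainComplex X.Modules ℤ) [DCoh.HasLTensorCx E]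
    (L : DCoh.D X) (hL : DCoh.IsCohD L) (hLb : ∃ a : ℤ, ∀ i, a < i → IsZero (DCoh.HD L i))
    (hE : DCoh.IsCohD (DCoh.toD X E))
    (hEb : ∃ b : ℤ, ∀ i, b < i → IsZero (DCoh.HD (DCoh.toD X E) i)) :
    DCoh.IsCohD ((DCoh.LTensorCx E).obj L) ∧
      ∃ n : ℤ, ∀ i, n < i → IsZero (DCoh.HD ((DCoh.LTensorCx E).obj L) i) := by
  obtain ⟨a, ha⟩ := hLb
  obtain ⟨b, hb⟩ := hEb
  let F0 := (DerivedCategory.Q (C := X.Modules)).objPreimage L
  have e0 : Q.obj F0 ≅ L := (DerivedCategory.Q (C := X.Modules)).objObjPreimageIso L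
  obtain ⟨P, q, hP, -, hq, -⟩ := exists_kflat_flat_resolution (O := X.sheaf) F0
  haveI : QuasiIso q := hq
  have hP' : DCoh.IsKFlat P := hP
  haveI : IsIso (Q.map q) := by
    rw [DerivedCategory.isIso_Q_map_iff_quasiIso]; exact hq
  have eK : L ≅ Q.obj P := e0.symm ≪≫ (asIso (Q.map q)).symm
  haveI hI1 : ModSite.HasLTensorCx (O := X.sheaf) E := (inferInstance : DCoh.HasLTensorCx E)
  have i : (DCoh.LTensorCx E).obj (Q.obj P) ≅ Q.obj ((DCoh.tensorCx.obj P).obj E) :=
    lTensorCxIsoOfIsKFlat (O := X.sheaf) E P hP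
  let T := Q.obj ((DCoh.tensorCx.obj P).obj E)
  have eT : (DCoh.LTensorCx E).obj L ≅ T := (DCoh.LTensorCx E).mapIso eK ≪≫ i
  have hPc : DCoh.IsCohD (Q.obj P) := fun n =>
    Groth.Agent.R2.H12.Dev.isCoh_of_iso ((homologyFunctor _ n).mapIso eK) (hL n)
  have hPa : ∀ n, a < n → IsZero (DCoh.HD (Q.obj P) n) := fun n hn =>
    IsZero.of_iso (ha n hn) ((homologyFunctor _ n).mapIso eK).symm
  have hTq : DCoh.IsQCohD T :=
    Groth.Agent.R2.H5.LTensorQCoh.isQCohD_tensor X P E hP' (fun n => (hPc n).1) (fun n => (hE n).1)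
  have key := fun (V : X.Opens) (hV : IsAffineOpen V) (n : ℤ) =>
    exists_local_model X P E hP' hPc a hPa hE b hb hV n
  have hcoh : ∀ n, Coh.IsCoh (DCoh.HD T n) := by
    intro n
    haveI : (DCoh.HD T n).IsQuasicoherent := hTq n
    refine ⟨hTq n, ?_⟩
    refine isFiniteType_of_finite (DCoh.HD T n) (fun V : X.affineOpens => (V : X.Opens))
      (iSup_affineOpens_eq_top X) (fun V => V.2) (fun V => ?_)
    obtain ⟨N, hN, -, ⟨ε⟩⟩ := key V.1 V.2 n
    have h4 : Module.Finite Γ(X, (V : X.Opens)) (ΓU (DCoh.HD T n) V.2) :=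
      Module.Finite.equiv (homologyIsoΓU V.2 _ _ ε).toLinearEquiv
    exact (finite_ΓU_iff _ V.2).1 h4
  have hvan : ∀ n, a + b < n → IsZero (DCoh.HD T n) := by
    intro n hn
    refine isZero_of_forall_affine_restrict _ (fun V hV => ?_)
    obtain ⟨N, -, hN, ⟨ε⟩⟩ := key V hV n
    exact IsZero.of_iso ((tilde.functor Γ(X, V)).map_isZero (hN hn)) ε.symm
  refine ⟨fun n => ?_, a + b, fun n hn => ?_⟩
  · exact Groth.Agent.R2.H12.Dev.isCoh_of_iso ((homologyFunctor _ n).mapIso eT).symm (hcoh n)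
  · exact IsZero.of_iso (hvan n hn) ((homologyFunctor _ n).mapIso eT)

end general

end Groth.Agent.R2.H28.TensorCoh
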