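import Groth.Agent.R2.H29ARConstr
import Groth.Agent.S3164
import Groth.Agent.Lib.Helper17ARSys11
import Groth.Agent.Lib.Helper17ARSys24

/-!
# Chains of AR-adic subsystems of an adic Noetherian system become stationary up to translation
-/

set_option autoImplicit false
open CategoryTheory CategoryTheory.Limits AlgebraicGeometry Opposite
universe u v w u'

namespace Groth.Agent.R2.H29.ARChain

open Groth.Agent.Lib.Helper17.ARSys1 Groth.Agent.Lib.Helper17.ARSys3
  Groth.Agent.Lib.Helper17.ARSys8 Groth.Agent.Lib.Helper17.ARSys11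

section Abstract

variable {C : Type u'} [Category.{v} C] [Abelian C]

omit [Abelian C] in
lemma epi_sigma_of_isStrict (r : ℕ) {Y : ARSys.PS C} (hY : ARSys.IsStrict Y) :
    Epi ((sigma r).app Y) := by
  have : ∀ n : ℕᵒᵖ, Epi (((sigma r).app Y).app n) := fun n => by
    induction n using Opposite.rec with | _ n => ?_
    exact hY n (n + r) (Nat.le_add_right n r)
  exact NatTrans.epi_of_epi_app _

variable {X : ARSys.PS C} (Z : ℕ →o Subobject X)
  (Y : ℕ → ARSys.PS C) (v : ∀ k, Y k ⟶ (Subobject.underlying.obj (Z k) : ARSys.PS C))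
  (hY : ∀ k, ARSys.IsStrict (Y k)) (hv : ∀ k, ARSys.IsARIso (v k))

/-- the image in `X` of the strict model of `Z k` -/
noncomputable def Z' (k : ℕ) : Subobject X := imageSubobject (v k ≫ (Z k).arrow)

lemma Z'_le (k : ℕ) : Z' Z Y v k ≤ Z k := by
  refine (imageSubobject_comp_le (v k) (Z k).arrow).trans ?_
  rw [imageSubobject_mono, Subobject.mk_arrow]

include hY in
lemma isStrict_Z' (k : ℕ) :
    ARSys.IsStrict (Subobject.underlying.obj (Z' Z Y v k) : ARSys.PS C) := by
  show ARSys.IsStrict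
    (Subobject.underlying.obj (imageSubobject (v k ≫ (Z k).arrow)) : ARSys.PS C)
  exact Groth.Agent.Lib.Helper17.ARSys24.isStrict_of_epi
    (factorThruImageSubobject (v k ≫ (Z k).arrow)) (hY k)

include hY hv in
lemma Z'_mono {k k' : ℕ} (h : k ≤ k') : Z' Z Y v k ≤ Z' Z Y v k' := by
  obtain ⟨r, w, hw, -⟩ := exists_inv (v k') (hv k')
  have hepi := epi_sigma_of_isStrict r (hY k)
  let g₀ : Y k ⟶ (Subobject.underlying.obj (Z k') : ARSys.PS C) :=
    v k ≫ Subobject.ofLE (Z k) (Z k') (Z.monotone h)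
  have nat : (ARSys.shift C r).map g₀ ≫ (sigma r).app _ = (sigma r).app (Y k) ≫ g₀ :=
    (sigma (C := C) r).naturality g₀
  refine imageSubobject_le_of_lift _ _ ((sigma r).app (Y k)) ((ARSys.shift C r).map g₀ ≫ w) ?_
  calc (sigma r).app (Y k) ≫ v k ≫ (Z k).arrow
      = ((sigma r).app (Y k) ≫ g₀) ≫ (Z k').arrow := by
        simp only [g₀, Category.assoc, Subobject.ofLE_arrow]
    _ = ((ARSys.shift C r).map g₀ ≫ (sigma r).app _) ≫ (Z k').arrow := by rw [nat]
    _ = ((ARSys.shift C r).map g₀ ≫ w) ≫ v k' ≫ (Z k').arrow := by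
        rw [← hw]
        simp only [Category.assoc]

include hv in
/-- once the strict images are stationary, the inclusions are isomorphisms up to translation -/
lemma isARIso_ofLE_of_eq {k₀ k : ℕ} (hk : k₀ ≤ k) (h : Z' Z Y v (k + 1) = Z' Z Y v k₀) :
    ARSys.IsARIso (Subobject.ofLE (Z k) (Z (k + 1)) (Z.monotone (Nat.le_succ k))) := by
  apply isARIso_of_mono_of_cokernel_null
  have hle : Z' Z Y v (k + 1) ≤ Z k := by
    rw [h]
    exact (Z'_le Z Y v k₀).trans (Z.monotone hk)
  let g : Y (k + 1) ⟶ (Subobject.underlying.obj (Z k) : ARSys.PS C) :=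
    factorThruImageSubobject (v (k + 1) ≫ (Z (k + 1)).arrow) ≫ Subobject.ofLE _ _ hle
  have hg : g ≫ Subobject.ofLE (Z k) (Z (k + 1)) (Z.monotone (Nat.le_succ k)) = v (k + 1) := by
    rw [← cancel_mono (Z (k + 1)).arrow]
    simp only [g, Category.assoc, Subobject.ofLE_arrow]
    exact imageSubobject_arrow_comp _
  let q : cokernel (v (k + 1)) ⟶
      cokernel (Subobject.ofLE (Z k) (Z (k + 1)) (Z.monotone (Nat.le_succ k))) :=
    cokernel.desc (v (k + 1)) (cokernel.π _) (by
      rw [← hg, Category.assoc, cokernel.condition, comp_zero])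
  have hq : cokernel.π (v (k + 1)) ≫ q = cokernel.π _ := cokernel.π_desc _ _ _
  have : Epi q := by
    have : Epi (cokernel.π (v (k + 1)) ≫ q) := by rw [hq]; infer_instance
    exact epi_of_epi (cokernel.π (v (k + 1))) q
  exact isARNull_of_epi q (hv (k + 1)).2

end Abstract

section Main

variable {C : Type u'} [Category.{v} C] [Abelian C] {A : Type w} [CommRing A]
  [IsNoetherianRing A] [Linear A C]

/-- abstract form: an increasing chain of subsystems of an adic Noetherian system, each admitting an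
AR-isomorphism from a strict system, is stationary up to translation -/
theorem chain_eventually_isARIso (J : Ideal A) (X : ARSys.PS C) (hX : ARSys.IsAdicNoeth J X)
    (Z : ℕ →o Subobject X)
    (hZ : ∀ k : ℕ, ∃ (Y : ARSys.PS C) (v : Y ⟶ (Subobject.underlying.obj (Z k) : ARSys.PS C)),
      ARSys.IsStrict Y ∧ ARSys.IsARIso v) :
    ∃ k₀ : ℕ, ∀ k : ℕ, k₀ ≤ k →
      ARSys.IsARIso (Subobject.ofLE (Z k) (Z (k + 1)) (Z.monotone (Nat.le_succ k))) := by
  choose Y v hY hv using hZ
  let W : ℕ →o Subobject X :=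
    ⟨Z' Z Y v, fun k k' h => Z'_mono Z Y v hY hv h⟩
  obtain ⟨k₀, hk₀⟩ := Groth.Agent.S3164.result J X hX W (fun k => isStrict_Z' Z Y v hY k)
  exact ⟨k₀, fun k hk => isARIso_ofLE_of_eq Z Y v hv hk (hk₀ (k + 1) (hk.trans (Nat.le_succ k)))⟩

end Main

section Sheaf

variable (Λ : Type (u + 1)) [CommRing Λ] [IsNoetherianRing Λ] {X : Scheme.{u}} [IsNoetherian X]

open Groth.Agent.R2.H29.SubChainMod

theorem subobject_chain_eventually_isARIso (I : Ideal Λ) (F : ARSys.PS (EtModW.Mod Λ X))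
    (hF : ARSys.IsAdic I F) (hFc : ∀ n : ℕ, EtModW.IsConstructible Λ (F.obj (op n)))
    (Z : ℕ →o Subobject F)
    (hZ : ∀ k : ℕ, ∃ (Y : ARSys.PS (EtModW.Mod Λ X))
      (v : Y ⟶ (Subobject.underlying.obj (Z k) : ARSys.PS (EtModW.Mod Λ X))),
      ARSys.IsAdic I Y ∧ ARSys.IsARIso v) :
    ∃ k₀ : ℕ, ∀ k : ℕ, k₀ ≤ k →
      ARSys.IsARIso (Subobject.ofLE (Z k) (Z (k + 1)) (Z.monotone (Nat.le_succ k))) := by
  refine chain_eventually_isARIso I F
    ⟨hF, fun n => isNoetherianObject_of_isConstructible (hFc n)⟩ Z (fun k => ?_)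
  obtain ⟨Y, v, hY, hv⟩ := hZ k
  exact ⟨Y, v, fun n m h => Groth.Agent.R2.H29.ARFunctor.IsQuot.epi (hY.2 n m h), hv⟩

end Sheaf

end Groth.Agent.R2.H29.ARChain
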