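import Mathlib
import Groth.Prelude.Def_ARSys

/-!
# Exact linear functors preserve adic / AR-adic projective systems
-/

set_option autoImplicit false
open CategoryTheory CategoryTheory.Limits Opposite
universe w v v' u u'

namespace Groth.Agent.R2.H29.ARFunctor

section Quot

variable {C : Type u} [Category.{v} C] [Abelian C] {A : Type w} [CommRing A] [Linear A C]

lemma IsQuot.epi {I : Ideal A} {X Q : C} {p : X ⟶ Q} (h : ARSys.IsQuot I p) : Epi p := by
  constructor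
  intro Z g g' hgg
  have hk : ARSys.HomKilledBy I (p ≫ g) := fun a ha => by
    have : a • (p ≫ g) = p ≫ (a • 𝟙 Q) ≫ g := by simp
    rw [this, h.1 a ha]; simp
  obtain ⟨ψ, _, hu⟩ := h.2 Z (p ≫ g) hk
  exact (hu g rfl).trans (hu g' hgg.symm).symm

lemma homKilledBy_of_killedBy_tgt {I : Ideal A} {X Q : C} (p : X ⟶ Q) (h : ARSys.KilledBy I Q) :
    ARSys.HomKilledBy I p := fun a ha => by
  have : a • p = p ≫ (a • 𝟙 Q) := by simp
  rw [this, h a ha, comp_zero]

/-- recognition of quotient maps: an epimorphism onto a killed object through which killed maps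
factor -/
lemma isQuot_of_epi {I : Ideal A} {X Q : C} (p : X ⟶ Q) [Epi p] (hQ : ARSys.KilledBy I Q)
    (hf : ∀ (Y : C) (φ : X ⟶ Y), ARSys.HomKilledBy I φ → ∃ ψ : Q ⟶ Y, p ≫ ψ = φ) :
    ARSys.IsQuot I p := by
  refine ⟨hQ, fun Y φ hφ => ?_⟩
  obtain ⟨ψ, hψ⟩ := hf Y φ hφ
  exact ⟨ψ, hψ, fun ψ' hψ' => by rw [← cancel_epi p, hψ, hψ']⟩

lemma isQuot_id_bot (X : C) : ARSys.IsQuot (⊥ : Ideal A) (𝟙 X) := by
  refine isQuot_of_epi _ (fun a ha => ?_) (fun Y φ _ => ⟨φ, Category.id_comp _⟩)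
  rw [Ideal.mem_bot] at ha
  rw [ha, zero_smul]

/-- an epimorphism `p` with `a • 𝟙 X, p` exact is a quotient map modulo `(a)` -/
lemma isQuot_span_of_exact (a : A) {X Q : C} (p : X ⟶ Q) [Epi p] (hz : (a • 𝟙 X) ≫ p = 0)
    (hex : (ShortComplex.mk (a • 𝟙 X) p hz).Exact) : ARSys.IsQuot (Ideal.span {a}) p := by
  have hcok := hex.gIsCokernel
  refine isQuot_of_epi _ (fun b hb => ?_) (fun Y φ hφ => ?_)
  · obtain ⟨c, rfl⟩ := Ideal.mem_span_singleton'.1 hb
    rw [← cancel_epi p, comp_zero]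
    have : p ≫ ((c * a) • 𝟙 Q) = c • ((a • 𝟙 X) ≫ p) := by simp [mul_smul]
    rw [this, hz, smul_zero]
  · have h0 : (a • 𝟙 X) ≫ φ = 0 := by
      have := hφ a (Ideal.mem_span_singleton_self a)
      simpa using this
    exact ⟨hcok.desc (CokernelCofork.ofπ φ h0), hcok.fac (CokernelCofork.ofπ φ h0) WalkingParallelPair.one⟩

lemma IsQuot.smul_comp {a : A} {X Q : C} {p : X ⟶ Q} (h : ARSys.IsQuot (Ideal.span {a}) p) :
    (a • 𝟙 X) ≫ p = 0 := by
  have : (a • 𝟙 X) ≫ p = p ≫ (a • 𝟙 Q) := by simp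
  rw [this, h.1 a (Ideal.mem_span_singleton_self a), comp_zero]

lemma IsQuot.exact {a : A} {X Q : C} {p : X ⟶ Q} (h : ARSys.IsQuot (Ideal.span {a}) p) :
    (ShortComplex.mk (a • 𝟙 X) p (IsQuot.smul_comp h)).Exact := by
  apply ShortComplex.exact_of_g_is_cokernel
  have hk : ∀ {Y : C} (φ : X ⟶ Y), (a • 𝟙 X) ≫ φ = 0 → ARSys.HomKilledBy (Ideal.span {a}) φ := by
    intro Y φ hφ b hb
    obtain ⟨c, rfl⟩ := Ideal.mem_span_singleton'.1 hb
    have : (c * a) • φ = c • ((a • 𝟙 X) ≫ φ) := by simp [mul_smul]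
    rw [this, hφ, smul_zero]
  refine CokernelCofork.IsColimit.ofπ _ _ (fun {Y} φ hφ => (h.2 Y φ (hk φ hφ)).exists.choose)
    (fun {Y} φ hφ => (h.2 Y φ (hk φ hφ)).exists.choose_spec) ?_
  intro Y φ hφ ψ hψ
  exact (h.2 Y φ (hk φ hφ)).unique hψ (h.2 Y φ (hk φ hφ)).exists.choose_spec

/-- the cokernel of multiplication by `a` is a quotient modulo `(a)` -/
lemma isQuot_cokernel (a : A) (X : C) :
    ARSys.IsQuot (Ideal.span {a}) (cokernel.π (a • 𝟙 X)) :=
  isQuot_span_of_exact a _ (cokernel.condition _)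
    (ShortComplex.exact_of_g_is_cokernel _ (cokernelIsCokernel _))

/-- composition of quotient maps -/
lemma IsQuot.comp {I J : Ideal A} {X Q Q' : C} {p : X ⟶ Q} {q : Q ⟶ Q'}
    (hp : ARSys.IsQuot I p) (hq : ARSys.IsQuot J q) : ARSys.IsQuot (I ⊔ J) (p ≫ q) := by
  have := IsQuot.epi hp
  have := IsQuot.epi hq
  refine isQuot_of_epi _ (fun a ha => ?_) (fun Y φ hφ => ?_)
  · obtain ⟨i, hi, j, hj, rfl⟩ := Submodule.mem_sup.1 ha
    rw [add_smul, hq.1 j hj, add_zero, ← cancel_epi q, comp_zero]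
    have : q ≫ (i • 𝟙 Q') = (i • 𝟙 Q) ≫ q := by simp
    rw [this, hp.1 i hi, zero_comp]
  · have hφI : ARSys.HomKilledBy I φ := fun a ha => hφ a (Submodule.mem_sup_left ha)
    obtain ⟨ψ₁, hψ₁, -⟩ := hp.2 Y φ hφI
    have hψJ : ARSys.HomKilledBy J ψ₁ := fun a ha => by
      rw [← cancel_epi p, comp_zero]
      have : p ≫ (a • ψ₁) = a • (p ≫ ψ₁) := by simp
      rw [this, hψ₁]
      exact hφ a (Submodule.mem_sup_right ha)
    obtain ⟨ψ₂, hψ₂, -⟩ := hq.2 Y ψ₁ hψJ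
    exact ⟨ψ₂, by rw [Category.assoc, hψ₂, hψ₁]⟩

/-- quotient maps modulo the same ideal are uniquely isomorphic -/
lemma IsQuot.exists_iso {I : Ideal A} {X Q Q' : C} {p : X ⟶ Q} {p' : X ⟶ Q'}
    (hp : ARSys.IsQuot I p) (hp' : ARSys.IsQuot I p') : ∃ e : Q ≅ Q', p ≫ e.hom = p' := by
  have := IsQuot.epi hp
  have := IsQuot.epi hp'
  obtain ⟨ψ, hψ, -⟩ := hp.2 Q' p' (homKilledBy_of_killedBy_tgt p' hp'.1)
  obtain ⟨ψ', hψ', -⟩ := hp'.2 Q p (homKilledBy_of_killedBy_tgt p hp.1)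
  refine ⟨⟨ψ, ψ', ?_, ?_⟩, hψ⟩
  · rw [← cancel_epi p, ← Category.assoc, hψ, hψ', Category.comp_id]
  · rw [← cancel_epi p', ← Category.assoc, hψ', hψ, Category.comp_id]

lemma IsQuot.comp_iso {I : Ideal A} {X Q Q' : C} {p : X ⟶ Q} (hp : ARSys.IsQuot I p)
    (e : Q ≅ Q') : ARSys.IsQuot I (p ≫ e.hom) := by
  have := IsQuot.epi hp
  refine isQuot_of_epi _ (fun a ha => ?_) (fun Y φ hφ => ?_)
  · rw [← cancel_epi e.hom, comp_zero]
    have : e.hom ≫ (a • 𝟙 Q') = (a • 𝟙 Q) ≫ e.hom := by simp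
    rw [this, hp.1 a ha, zero_comp]
  · obtain ⟨ψ, hψ, -⟩ := hp.2 Y φ hφ
    exact ⟨e.inv ≫ ψ, by simp [hψ]⟩

end Quot

section Functor

variable {C : Type u} [Category.{v} C] [Abelian C] {D : Type u'} [Category.{v'} D] [Abelian D]
  {A : Type w} [CommRing A] [Linear A C] [Linear A D]
  (G : C ⥤ D) [G.Additive] [G.Linear A]

omit [G.Additive] in
lemma map_smul_id (a : A) (X : C) :
    G.map (a • 𝟙 X) = a • 𝟙 (G.obj X) := by
  rw [Functor.map_smul, CategoryTheory.Functor.map_id]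

lemma killedBy_map {I : Ideal A} {X : C} (h : ARSys.KilledBy I X) :
    ARSys.KilledBy I (G.obj X) := fun a ha => by
  rw [← map_smul_id G a X, h a ha, Functor.map_zero]

lemma termKilled_comp {I : Ideal A} {F : ARSys.PS C} (h : ARSys.TermKilled I F) :
    ARSys.TermKilled I (F ⋙ G) := fun n => killedBy_map G (h n)

variable [PreservesFiniteLimits G] [PreservesFiniteColimits G]

lemma isQuot_span_map {a : A} {X Q : C} {p : X ⟶ Q} (h : ARSys.IsQuot (Ideal.span {a}) p) :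
    ARSys.IsQuot (Ideal.span {a}) (G.map p) := by
  have := IsQuot.epi h
  have hex := (IsQuot.exact h).map G
  have hz : (a • 𝟙 (G.obj X)) ≫ G.map p = 0 := by
    rw [← map_smul_id G a X, ← G.map_comp, IsQuot.smul_comp h, G.map_zero]
  refine isQuot_span_of_exact a (G.map p) hz ?_
  have e : ShortComplex.mk (a • 𝟙 (G.obj X)) (G.map p) hz =
      (ShortComplex.mk (a • 𝟙 X) p (IsQuot.smul_comp h)).map G := by
    simp only [ShortComplex.map]
    congr 1
    exact (map_smul_id G a X).symm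
  rw [e]
  exact hex

/-- every object has a quotient modulo a finitely generated ideal which is preserved by `G` -/
lemma exists_isQuot_map {I : Ideal A} (hI : I.FG) :
    ∀ X : C, ∃ (Q : C) (p : X ⟶ Q), ARSys.IsQuot I p ∧ ARSys.IsQuot I (G.map p) := by
  refine Submodule.fg_induction (R := A) (M := A)
    (motive := fun (I : Ideal A) _ =>
      ∀ X : C, ∃ (Q : C) (p : X ⟶ Q), ARSys.IsQuot I p ∧ ARSys.IsQuot I (G.map p))
    (fun a X => ?_) (fun I J _ _ hI hJ X => ?_) I hI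
  · exact ⟨_, cokernel.π (a • 𝟙 X), isQuot_cokernel a X, isQuot_span_map G (isQuot_cokernel a X)⟩
  · obtain ⟨Q, p, hp, hp'⟩ := hI X
    obtain ⟨Q', q, hq, hq'⟩ := hJ Q
    refine ⟨Q', p ≫ q, IsQuot.comp hp hq, ?_⟩
    rw [G.map_comp]
    exact IsQuot.comp hp' hq'

/-- an exact linear functor preserves quotient maps modulo finitely generated ideals -/
theorem isQuot_map {I : Ideal A} (hI : I.FG) {X Q : C} {p : X ⟶ Q} (h : ARSys.IsQuot I p) :
    ARSys.IsQuot I (G.map p) := by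
  obtain ⟨Q₀, p₀, hp₀, hp₀'⟩ := exists_isQuot_map G hI X
  obtain ⟨e, he⟩ := IsQuot.exists_iso hp₀ h
  have : G.map p = G.map p₀ ≫ (G.mapIso e).hom := by
    rw [Functor.mapIso_hom, ← G.map_comp, he]
  rw [this]
  exact IsQuot.comp_iso hp₀' _

theorem isAdic_comp [IsNoetherianRing A] {I : Ideal A} {F : ARSys.PS C} (h : ARSys.IsAdic I F) :
    ARSys.IsAdic I (F ⋙ G) :=
  ⟨termKilled_comp G h.1, fun n m hnm =>
    isQuot_map G (IsNoetherian.noetherian (I ^ (n + 1))) (h.2 n m hnm)⟩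

omit [Linear A C] [Linear A D] [G.Linear A] [PreservesFiniteLimits G]
  [PreservesFiniteColimits G] in
lemma isARNull_comp {X : ARSys.PS C} (h : ARSys.IsARNull X) : ARSys.IsARNull (X ⋙ G) := by
  obtain ⟨r, hr⟩ := h
  refine ⟨r, fun n => ?_⟩
  have : ARSys.shiftMap (X ⋙ G) r n = G.map (ARSys.shiftMap X r n) := rfl
  exact this.trans ((congrArg G.map (hr n)).trans (G.map_zero _ _))

omit [Linear A D] [Abelian D] in
lemma isARNull_of_iso [HasZeroMorphisms D] {X X' : ARSys.PS D} (e : X ≅ X')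
    (h : ARSys.IsARNull X) : ARSys.IsARNull X' := by
  obtain ⟨r, hr⟩ := h
  refine ⟨r, fun n => ?_⟩
  have nat := e.hom.naturality (homOfLE (Nat.le_add_right n r)).op
  have h0 : X.map (homOfLE (Nat.le_add_right n r)).op = 0 := hr n
  change X'.map (homOfLE (Nat.le_add_right n r)).op = 0
  rw [← cancel_epi (e.hom.app (op (n + r))), comp_zero, ← nat, h0, zero_comp]

omit [Linear A C] [Linear A D] [G.Linear A] in
theorem isARIso_whiskerRight {X Y : ARSys.PS C} (v : X ⟶ Y) (h : ARSys.IsARIso v) :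
    ARSys.IsARIso (Functor.whiskerRight v G) := by
  let W : ARSys.PS C ⥤ ARSys.PS D := (Functor.whiskeringRight ℕᵒᵖ C D).obj G
  have : W.PreservesZeroMorphisms := ⟨fun X Y => by ext; simp [W]⟩
  have hW : W.map v = Functor.whiskerRight v G := rfl
  rw [← hW]
  constructor
  · exact isARNull_of_iso (PreservesKernel.iso W v) (isARNull_comp G h.1)
  · exact isARNull_of_iso (PreservesCokernel.iso W v) (isARNull_comp G h.2)

/-- transport of the "AR-adic with property `P`" package along an exact linear functor -/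
theorem arAdic_comp [IsNoetherianRing A] {I : Ideal A} (P : C → Prop) (P' : D → Prop)
    (hP : ∀ X, P X → P' (G.obj X)) {F : ARSys.PS C}
    (hF : ARSys.TermKilled I F ∧ ∃ (Y : ARSys.PS C) (v : Y ⟶ F), ARSys.IsAdic I Y ∧
      (∀ n : ℕ, P (Y.obj (op n))) ∧ ARSys.IsARIso v) :
    ARSys.TermKilled I (F ⋙ G) ∧ ∃ (Y : ARSys.PS D) (v : Y ⟶ F ⋙ G), ARSys.IsAdic I Y ∧
      (∀ n : ℕ, P' (Y.obj (op n))) ∧ ARSys.IsARIso v := by
  obtain ⟨hk, Y, v, hY, hYP, hv⟩ := hF
  exact ⟨termKilled_comp G hk, Y ⋙ G, Functor.whiskerRight v G, isAdic_comp G hY,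
    fun n => hP _ (hYP n), isARIso_whiskerRight G v hv⟩

end Functor

end Groth.Agent.R2.H29.ARFunctor
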