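import Groth.Agent.R2.H29SubChainMod
import Groth.Agent.R2.H29ARFunctor
import Groth.Agent.S3163

/-!
# AR-adic systems of constructible sheaves of modules: kernels and cokernels
-/

set_option autoImplicit false
open CategoryTheory CategoryTheory.Limits AlgebraicGeometry Opposite
universe u v w u'

namespace Groth.Agent.R2.H29.ARConstr

section Abstract

variable {C : Type u'} [Category.{v} C] [Abelian C]

/-- for a morphism of systems with AR-null kernel and strict source, every term of the source is a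
quotient of a subobject of a term of the target -/
lemma prop_of_isARNull_kernel (P : C → Prop)
    (hsub : ∀ {A B : C} (i : A ⟶ B) [Mono i], P B → P A)
    (hquot : ∀ {A B : C} (p : A ⟶ B) [Epi p], P A → P B)
    {Y K : ARSys.PS C} (u : Y ⟶ K) (hstrict : ARSys.IsStrict Y)
    (hu : ARSys.IsARNull (kernel u)) (hK : ∀ n : ℕ, P (K.obj (op n))) (n : ℕ) :
    P (Y.obj (op n)) := by
  obtain ⟨r, hr⟩ := hu
  let φ : (op (n + r) : ℕᵒᵖ) ⟶ op n := (homOfLE (Nat.le_add_right n r)).op
  let p : Y.obj (op (n + r)) ⟶ Y.obj (op n) := Y.map φ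
  have hp : Epi p := hstrict n (n + r) (Nat.le_add_right n r)
  let u' : Y.obj (op (n + r)) ⟶ K.obj (op (n + r)) := u.app (op (n + r))
  let ev := (evaluation ℕᵒᵖ C).obj (op (n + r))
  have hz : kernel.ι u' ≫ p = 0 := by
    have hiso : IsIso (kernelComparison u ev) := inferInstance
    rw [← cancel_epi (kernelComparison u ev), comp_zero]
    have h1 : kernelComparison u ev ≫ kernel.ι u' = (kernel.ι u).app (op (n + r)) :=
      kernelComparison_comp_ι u ev
    rw [← Category.assoc, h1]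
    have nat := (kernel.ι u).naturality φ
    have h0 : (kernel u).map φ = 0 := hr n
    change (kernel.ι u).app (op (n + r)) ≫ Y.map φ = 0
    rw [← nat, h0, zero_comp]
  -- `p` factors through the coimage of `u'`
  let q : Abelian.coimage u' ⟶ Y.obj (op n) := cokernel.desc (kernel.ι u') p hz
  have hq : Abelian.coimage.π u' ≫ q = p := cokernel.π_desc _ _ _
  have : Epi q := by
    have : Epi (Abelian.coimage.π u' ≫ q) := by rw [hq]; exact hp
    exact epi_of_epi (Abelian.coimage.π u') q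
  have hco : P (Abelian.coimage u') := hsub (Abelian.factorThruCoimage u') (hK (n + r))
  exact hquot q hco

end Abstract

section Sheaf

variable (Λ : Type (u + 1)) [CommRing Λ] [IsNoetherianRing Λ] {X : Scheme.{u}} [IsNoetherian X]

open Groth.Agent.R2.H29.SubConstrMod Groth.Agent.R2.H29.SubChainMod Groth.Agent.R2.H29.ConstrMod

/-- the source of an AR-isomorphism from an adic system to a system of constructible sheaves has
constructible terms -/
lemma isConstructible_of_isARIso {I : Ideal Λ} {Y K : ARSys.PS (EtModW.Mod Λ X)} (u : Y ⟶ K)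
    (hY : ARSys.IsAdic I Y) (hu : ARSys.IsARIso u)
    (hK : ∀ n : ℕ, EtModW.IsConstructible Λ (K.obj (op n))) (n : ℕ) :
    EtModW.IsConstructible Λ (Y.obj (op n)) :=
  prop_of_isARNull_kernel (EtModW.IsConstructible Λ)
    (fun i _ h => isConstructible_of_mono Λ i h) (fun p _ h => isConstructible_of_epi Λ p h) u
    (fun n m h => Groth.Agent.R2.H29.ARFunctor.IsQuot.epi (hY.2 n m h)) hu.1 hK n

lemma isARIso_id {C : Type u'} [Category.{v} C] [Abelian C] (F : ARSys.PS C) :
    ARSys.IsARIso (𝟙 F) := by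
  constructor
  · refine ⟨0, fun n => ?_⟩
    have : IsZero (kernel (𝟙 F)) := isZero_kernel_of_mono _
    exact (this.obj (op (n + 0))).eq_of_src _ _
  · refine ⟨0, fun n => ?_⟩
    have : IsZero (cokernel (𝟙 F)) := isZero_cokernel_of_epi _
    exact (this.obj (op (n + 0))).eq_of_src _ _

/-- kernels and cokernels of morphisms of adic systems of constructible sheaves are AR-adic
(with constructible adic model) -/
theorem arAdic_kernel_cokernel (I : Ideal Λ) (F G : ARSys.PS (EtModW.Mod Λ X))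
    (hF : ARSys.IsAdic I F) (hG : ARSys.IsAdic I G)
    (hFc : ∀ n : ℕ, EtModW.IsConstructible Λ (F.obj (op n)))
    (hGc : ∀ n : ℕ, EtModW.IsConstructible Λ (G.obj (op n))) (w : F ⟶ G) :
    (ARSys.TermKilled I (kernel w) ∧ ∃ (Y : ARSys.PS (EtModW.Mod Λ X)) (v : Y ⟶ kernel w),
      ARSys.IsAdic I Y ∧ (∀ n : ℕ, EtModW.IsConstructible Λ (Y.obj (op n))) ∧ ARSys.IsARIso v) ∧
    (ARSys.TermKilled I (cokernel w) ∧ ∃ (Y : ARSys.PS (EtModW.Mod Λ X)) (v : Y ⟶ cokernel w),
      ARSys.IsAdic I Y ∧ (∀ n : ℕ, EtModW.IsConstructible Λ (Y.obj (op n))) ∧ ARSys.IsARIso v) := by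
  have hFA : ARSys.IsARAdicNoeth I F :=
    ⟨⟨hF.1, F, 𝟙 F, hF, isARIso_id F⟩, fun n => isNoetherianObject_of_isConstructible (hFc n)⟩
  have hGA : ARSys.IsARAdicNoeth I G :=
    ⟨⟨hG.1, G, 𝟙 G, hG, isARIso_id G⟩, fun n => isNoetherianObject_of_isConstructible (hGc n)⟩
  obtain ⟨⟨hK, -⟩, ⟨hC, -⟩⟩ := Groth.Agent.S3163.result I w hFA hGA
  have hKc : ∀ n : ℕ, EtModW.IsConstructible Λ ((kernel w).obj (op n)) := fun n =>
    isConstructible_of_iso Λ (PreservesKernel.iso ((evaluation ℕᵒᵖ _).obj (op n)) w).symm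
      (isConstructible_kernel_cokernel Λ (w.app (op n)) (hFc n) (hGc n)).1
  have hCc : ∀ n : ℕ, EtModW.IsConstructible Λ ((cokernel w).obj (op n)) := fun n =>
    isConstructible_of_iso Λ (PreservesCokernel.iso ((evaluation ℕᵒᵖ _).obj (op n)) w).symm
      (isConstructible_kernel_cokernel Λ (w.app (op n)) (hFc n) (hGc n)).2
  refine ⟨⟨hK.1, ?_⟩, ⟨hC.1, ?_⟩⟩
  · obtain ⟨Y, v, hY, hv⟩ := hK.2
    exact ⟨Y, v, hY, isConstructible_of_isARIso Λ v hY hv hKc, hv⟩
  · obtain ⟨Y, v, hY, hv⟩ := hC.2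
    exact ⟨Y, v, hY, isConstructible_of_isARIso Λ v hY hv hCc, hv⟩

end Sheaf

end Groth.Agent.R2.H29.ARConstr
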