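import Mathlib

/-!
# Finite stratifications by immersions (generic bookkeeping)

`StrataP P S`: a finite partition of `S ⊆ X` into ranges of immersions, constructible in the subspace `S`, along
each of which the predicate `P` (on morphisms into `X`) holds.  For `P` stable under precomposition:
common refinement (`StrataP.inf`), pullback along a morphism (`StrataP.pullback`), assembling over a finite
cover by compact opens (`StrataP.assemble`), transfer along an open immersion (`StrataP.of_openImmersion`).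
-/

set_option autoImplicit false
open CategoryTheory CategoryTheory.Limits AlgebraicGeometry Opposite TopologicalSpace
universe u

namespace Groth.Agent.R2.H29.Strata

variable {X Y : Scheme.{u}}

/-- predicates on morphisms into `X` -/
abbrev MorPred (X : Scheme.{u}) : Type (u + 1) := ∀ ⦃T : Scheme.{u}⦄, (T ⟶ X) → Prop

/-- stable under precomposition -/
def MorPred.Stable (P : MorPred X) : Prop :=
  ∀ ⦃T T' : Scheme.{u}⦄ (h : T' ⟶ T) (g : T ⟶ X), P g → P (h ≫ g)

/-- pull a predicate back along a morphism -/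
def MorPred.pull (P : MorPred Y) (f : X ⟶ Y) : MorPred X := fun _ g => P (g ≫ f)

lemma MorPred.Stable.pull {P : MorPred Y} (hP : P.Stable) (f : X ⟶ Y) : (P.pull f).Stable := by
  intro T T' h g hg
  show P ((h ≫ g) ≫ f)
  rw [Category.assoc]
  exact hP h _ hg

/-- conjunction -/
def MorPred.inf (P Q : MorPred X) : MorPred X := fun _ g => P g ∧ Q g

lemma MorPred.Stable.inf {P Q : MorPred X} (hP : P.Stable) (hQ : Q.Stable) : (P.inf Q).Stable :=
  fun _ _ h g hg => ⟨hP h g hg.1, hQ h g hg.2⟩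

/-- finite stratification of `S` by immersions along which `P` holds -/
def StrataP (P : MorPred X) (S : Set X) : Prop :=
  ∃ (n : ℕ) (T : Fin n → Scheme.{u}) (g : ∀ i, T i ⟶ X),
    (∀ i, IsImmersion (g i)) ∧
    (∀ i, Topology.IsConstructible ((Subtype.val : S → X) ⁻¹' Set.range (g i))) ∧
    Pairwise (fun i j => Disjoint (Set.range (g i)) (Set.range (g j))) ∧
    (⋃ i, Set.range (g i)) = S ∧ ∀ i, P (g i)

/-- strata indexed by any finite type -/
lemma StrataP.of_finite {P : MorPred X} {S : Set X} {ι : Type*} [Finite ι]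
    (T : ι → Scheme.{u}) (g : ∀ i, T i ⟶ X) (h1 : ∀ i, IsImmersion (g i))
    (h2 : ∀ i, Topology.IsConstructible ((Subtype.val : S → X) ⁻¹' Set.range (g i)))
    (h3 : Pairwise (fun i j => Disjoint (Set.range (g i)) (Set.range (g j))))
    (h4 : (⋃ i, Set.range (g i)) = S) (h5 : ∀ i, P (g i)) : StrataP P S := by
  let e := Finite.equivFin ι
  refine ⟨Nat.card ι, fun k => T (e.symm k), fun k => g (e.symm k), fun k => h1 _, fun k => h2 _,
    fun a b hab => h3 (fun h => hab (e.symm.injective h)), ?_, fun k => h5 _⟩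
  rw [← h4]
  exact e.symm.surjective.iUnion_comp (fun i => Set.range (g i))

lemma StrataP.mono {P Q : MorPred X} {S : Set X} (h : ∀ ⦃T : Scheme.{u}⦄ (g : T ⟶ X), P g → Q g)
    (hS : StrataP P S) : StrataP Q S := by
  obtain ⟨n, T, g, h1, h2, h3, h4, h5⟩ := hS
  exact ⟨n, T, g, h1, h2, h3, h4, fun i => h _ (h5 i)⟩

/-- every locally closed subset is the range of an immersion -/
lemma exists_immersion_range_eq (Z : Set X) (hZ : IsLocallyClosed Z) :
    ∃ (T : Scheme.{u}) (j : T ⟶ X), IsImmersion j ∧ Set.range j = Z := by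
  obtain ⟨U, C, hU, hC, rfl⟩ := hZ
  let I := Scheme.IdealSheafData.vanishingIdeal (X := X) ⟨C, hC⟩
  let U' : X.Opens := ⟨U, hU⟩
  refine ⟨_, (I.subschemeι ⁻¹ᵁ U').ι ≫ I.subschemeι, inferInstance, ?_⟩
  rw [Scheme.Hom.comp_base, TopCat.coe_comp, Set.range_comp, Scheme.Opens.range_ι]
  show I.subschemeι '' (I.subschemeι ⁻¹' U) = U ∩ C
  rw [Set.image_preimage_eq_inter_range, Scheme.IdealSheafData.range_subschemeι,
    Scheme.IdealSheafData.coe_support_vanishingIdeal]
  rfl

/-- common refinement -/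
lemma StrataP.inf {P Q : MorPred X} (hP : P.Stable) (hQ : Q.Stable) {S : Set X}
    (h : StrataP P S) (h' : StrataP Q S) : StrataP (P.inf Q) S := by
  obtain ⟨n, T, g, h1, h2, h3, h4, h5⟩ := h
  obtain ⟨n', T', g', h1', h2', h3', h4', h5'⟩ := h'
  have hr : ∀ p : Fin n × Fin n', Set.range (pullback.fst (g p.1) (g' p.2) ≫ g p.1) =
      Set.range (g p.1) ∩ Set.range (g' p.2) := fun p => Scheme.Pullback.range_fst_comp _ _
  refine StrataP.of_finite (ι := Fin n × Fin n') (fun p => pullback (g p.1) (g' p.2))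
    (fun p => pullback.fst (g p.1) (g' p.2) ≫ g p.1) (fun p => ?_) (fun p => ?_) ?_ ?_ (fun p => ⟨?_, ?_⟩)
  · have := h1 p.1
    have := h1' p.2
    infer_instance
  · rw [hr, Set.preimage_inter]
    exact (h2 p.1).inter (h2' p.2)
  · intro p q hpq
    show Disjoint (Set.range _) (Set.range _)
    rw [hr, hr]
    by_cases h : p.1 = q.1
    · have h' : p.2 ≠ q.2 := fun h' => hpq (Prod.ext h h')
      exact (h3' h').mono Set.inter_subset_right Set.inter_subset_right
    · exact (h3 h).mono Set.inter_subset_left Set.inter_subset_left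
  · simp only [hr]
    ext x
    simp only [Set.mem_iUnion, Set.mem_inter_iff, Prod.exists]
    constructor
    · rintro ⟨i, j, hi, hj⟩
      rw [← h4]
      exact Set.mem_iUnion.2 ⟨i, hi⟩
    · intro hx
      have hx' := hx
      rw [← h4] at hx
      rw [← h4'] at hx'
      obtain ⟨i, hi⟩ := Set.mem_iUnion.1 hx
      obtain ⟨j, hj⟩ := Set.mem_iUnion.1 hx'
      exact ⟨i, j, hi, hj⟩
  · exact hP _ _ (h5 p.1)
  · rw [pullback.condition]
    exact hQ _ _ (h5' p.2)


/-- constructibility in an open, pulled back along a morphism -/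
lemma isConstructible_preimage_resLE (f : X ⟶ Y) (V : Y.Opens) (W : X.Opens) (hWV : W ≤ f ⁻¹ᵁ V)
    (Z : Set Y) (hZ : Topology.IsConstructible (V.ι ⁻¹' Z)) :
    Topology.IsConstructible (W.ι ⁻¹' (f ⁻¹' Z)) := by
  have h := (f.resLE V W hWV).isConstructible_preimage hZ
  have e : (f.resLE V W hWV) ⁻¹' (V.ι ⁻¹' Z) = W.ι ⁻¹' (f ⁻¹' Z) := by
    rw [← Set.preimage_comp, ← Set.preimage_comp, ← TopCat.coe_comp, ← TopCat.coe_comp,
      ← Scheme.Hom.comp_base, ← Scheme.Hom.comp_base, Scheme.Hom.resLE_comp_ι]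
  rwa [e] at h

/-- constructible in a compact open `W` of a quasi-separated open `U`: constructible in `U` -/
lemma isConstructible_inter_of_le (U W : X.Opens) (hWU : W ≤ U) [QuasiSeparatedSpace U]
    (hW : IsCompact (W : Set X)) (Z : Set X) (hZ : Topology.IsConstructible (W.ι ⁻¹' Z)) :
    Topology.IsConstructible (U.ι ⁻¹' (Z ∩ W)) := by
  have hr : Set.range (X.homOfLE hWU) = U.ι ⁻¹' (W : Set X) := by
    ext ⟨x, hx⟩
    constructor
    · rintro ⟨⟨y, hy⟩, hxy⟩
      rw [Scheme.homOfLE_apply'] at hxy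
      have : y = x := congrArg Subtype.val hxy
      subst this
      exact hy
    · intro h
      exact ⟨⟨x, h⟩, Scheme.homOfLE_apply' _ _ _⟩
  have hc : IsCompact (U.ι ⁻¹' (W : Set X)) := by
    refine (U.ι.isEmbedding.isInducing.isCompact_preimage_iff ?_).2 hW
    rw [Scheme.Opens.range_ι]
    exact hWU
  have h := hZ.image_of_isOpenEmbedding (X.homOfLE hWU).isOpenEmbedding
    (by rw [hr]; exact hc.isRetrocompact ((W.2).preimage U.ι.continuous))
  have e : (X.homOfLE hWU) '' (W.ι ⁻¹' Z) = U.ι ⁻¹' (Z ∩ W) := by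
    ext ⟨x, hx⟩
    constructor
    · rintro ⟨⟨y, hy⟩, hyZ, hxy⟩
      rw [Scheme.homOfLE_apply'] at hxy
      have : y = x := congrArg Subtype.val hxy
      subst this
      exact ⟨hyZ, hy⟩
    · rintro ⟨hxZ, hxW⟩
      exact ⟨⟨x, hxW⟩, hxZ, Scheme.homOfLE_apply' _ _ _⟩
  rwa [e] at h

lemma isConstructible_of_le (U W : X.Opens) (hWU : W ≤ U) [QuasiSeparatedSpace U]
    (hW : IsCompact (W : Set X)) : Topology.IsConstructible (U.ι ⁻¹' (W : Set X)) := by
  have := isConstructible_inter_of_le U W hWU hW Set.univ (by simp)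
  rwa [Set.univ_inter] at this


/-- pull a stratification back along a morphism -/
lemma StrataP.comap {P : MorPred Y} (hP : P.Stable) (f : X ⟶ Y) (V : Y.Opens) (W : X.Opens)
    (hWV : W ≤ f ⁻¹ᵁ V) (h : StrataP P (V : Set Y)) : StrataP (P.pull f) (W : Set X) := by
  obtain ⟨n, T, g, h1, h2, h3, h4, h5⟩ := h
  have hr : ∀ l : Fin n, Set.range (pullback.fst (W.ι ≫ f) (g l) ≫ W.ι) =
      (W : Set X) ∩ f ⁻¹' Set.range (g l) := by
    intro l
    rw [Scheme.Hom.comp_base, TopCat.coe_comp, Set.range_comp, Scheme.Pullback.range_fst]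
    ext x
    constructor
    · rintro ⟨y, hy, rfl⟩
      exact ⟨y.2, hy⟩
    · rintro ⟨hxW, hx⟩
      exact ⟨⟨x, hxW⟩, hx, rfl⟩
  refine ⟨n, fun l => pullback (W.ι ≫ f) (g l), fun l => pullback.fst (W.ι ≫ f) (g l) ≫ W.ι,
    fun l => ?_, fun l => ?_, ?_, ?_, fun l => ?_⟩
  · have := h1 l
    infer_instance
  · rw [hr]
    have := isConstructible_preimage_resLE f V W hWV _ (h2 l)
    have e : (Subtype.val : ↥(W : Set X) → X) ⁻¹' ((W : Set X) ∩ f ⁻¹' Set.range (g l)) =
        W.ι ⁻¹' (f ⁻¹' Set.range (g l)) := by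
      ext ⟨x, hx⟩
      exact ⟨fun h => h.2, fun h => ⟨hx, h⟩⟩
    rw [e]
    exact this
  · intro a b hab
    show Disjoint (Set.range _) (Set.range _)
    rw [hr, hr]
    exact ((h3 hab).preimage f).mono Set.inter_subset_right Set.inter_subset_right
  · simp only [hr]
    rw [← Set.inter_iUnion, ← Set.preimage_iUnion, h4]
    exact Set.inter_eq_left.2 hWV
  · show P ((pullback.fst (W.ι ≫ f) (g l) ≫ W.ι) ≫ f)
    rw [Category.assoc, pullback.condition]
    exact hP _ _ (h5 l)


/-- assemble stratifications of finitely many compact opens covering a quasi-separated open -/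
lemma StrataP.assemble {P : MorPred X} (hP : P.Stable) (U : X.Opens) [QuasiSeparatedSpace U]
    {m : ℕ} (W : Fin m → X.Opens) (hW : ∀ k, IsCompact (W k : Set X)) (hWU : ∀ k, W k ≤ U)
    (hcov : (U : Set X) ⊆ ⋃ k, (W k : Set X))
    (h : ∀ k, StrataP P (W k : Set X)) : StrataP P (U : Set X) := by
  choose n T g h1 h2 h3 h4 h5 using h
  let W' : Fin m → Set X := fun k => (W k : Set X) \ ⋃ (k' : Fin m) (_ : k' < k), (W k' : Set X)
  have hlc : ∀ k, IsLocallyClosed (W' k) := fun k =>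
    (W k).2.isLocallyClosed.inter
      (isOpen_iUnion fun k' => isOpen_iUnion fun _ => (W k').2).isClosed_compl.isLocallyClosed
  choose T' j hj1 hj2 using fun k => exists_immersion_range_eq (W' k) (hlc k)
  have hr : ∀ p : (Σ k : Fin m, Fin (n k)),
      Set.range (pullback.fst (g p.1 p.2) (j p.1) ≫ g p.1 p.2) = Set.range (g p.1 p.2) ∩ W' p.1 := by
    intro p
    rw [Scheme.Pullback.range_fst_comp, hj2]
  have hsub : ∀ k l, Set.range (g k l) ⊆ (W k : Set X) := by
    intro k l
    rw [← h4 k]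
    exact Set.subset_iUnion (fun l => Set.range (g k l)) l
  have hdisj : ∀ k k' : Fin m, k < k' → Disjoint (W k : Set X) (W' k') := by
    intro k k' hkk'
    rw [Set.disjoint_left]
    intro x hx hx'
    exact hx'.2 (Set.mem_iUnion₂.2 ⟨k, hkk', hx⟩)
  refine StrataP.of_finite (ι := Σ k : Fin m, Fin (n k)) (fun p => Limits.pullback (g p.1 p.2) (j p.1))
    (fun p => pullback.fst (g p.1 p.2) (j p.1) ≫ g p.1 p.2) (fun p => ?_) (fun p => ?_) ?_ ?_ (fun p => ?_)
  · have := h1 p.1 p.2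
    have := hj1 p.1
    infer_instance
  · obtain ⟨k, l⟩ := p
    rw [hr]
    have e : (Subtype.val : ↥(U : Set X) → X) ⁻¹' (Set.range (g k l) ∩ W' k) =
        U.ι ⁻¹' (Set.range (g k l) ∩ (W k : Set X)) ∩
          (⋃ (k' : Fin m) (_ : k' < k), U.ι ⁻¹' (W k' : Set X))ᶜ := by
      ext ⟨x, hx⟩
      constructor
      · rintro ⟨hx1, hx2, hx3⟩
        refine ⟨⟨hx1, hx2⟩, fun hx4 => hx3 ?_⟩
        obtain ⟨k', hk', hxk'⟩ := Set.mem_iUnion₂.1 hx4
        exact Set.mem_iUnion₂.2 ⟨k', hk', hxk'⟩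
      · rintro ⟨⟨hx1, hx2⟩, hx3⟩
        refine ⟨hx1, hx2, fun hx4 => hx3 ?_⟩
        obtain ⟨k', hk', hxk'⟩ := Set.mem_iUnion₂.1 hx4
        exact Set.mem_iUnion₂.2 ⟨k', hk', hxk'⟩
    rw [e]
    refine (isConstructible_inter_of_le U (W k) (hWU k) (hW k) _ (h2 k l)).inter
      (Topology.IsConstructible.compl ?_)
    exact .iUnion fun k' => .iUnion fun _ => isConstructible_of_le U (W k') (hWU k') (hW k')
  · intro p q hpq
    show Disjoint (Set.range _) (Set.range _)
    rw [hr, hr]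
    obtain ⟨k, l⟩ := p
    obtain ⟨k', l'⟩ := q
    rcases lt_trichotomy k k' with hlt | heq | hgt
    · exact (hdisj k k' hlt).mono (Set.inter_subset_left.trans (hsub k l)) Set.inter_subset_right
    · subst heq
      have hl : l ≠ l' := fun h => hpq (by rw [h])
      exact (h3 k hl).mono Set.inter_subset_left Set.inter_subset_left
    · exact (hdisj k' k hgt).symm.mono Set.inter_subset_right (Set.inter_subset_left.trans (hsub k' l'))
  · simp only [hr]
    apply Set.Subset.antisymm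
    · refine Set.iUnion_subset fun p => ?_
      exact Set.inter_subset_left.trans ((hsub p.1 p.2).trans (hWU p.1))
    · intro x hx
      obtain ⟨k0, hk0⟩ := Set.mem_iUnion.1 (hcov hx)
      obtain ⟨k, hk, hmin⟩ := WellFounded.has_min (wellFounded_lt (α := Fin m))
        {k | x ∈ (W k : Set X)} ⟨k0, hk0⟩
      have hk' : x ∈ (W k : Set X) := hk
      rw [← h4 k] at hk'
      obtain ⟨l, hl⟩ := Set.mem_iUnion.1 hk'
      refine Set.mem_iUnion.2 ⟨⟨k, l⟩, hl, hk, ?_⟩
      intro hx'
      obtain ⟨k', hk'k, hxk'⟩ := Set.mem_iUnion₂.1 hx'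
      exact hmin k' hxk' hk'k
  · exact hP _ _ (h5 p.1 p.2)


/-- transfer a stratification along an open immersion -/
lemma StrataP.of_openImmersion {X' : Scheme.{u}} (j : X' ⟶ X) [IsOpenImmersion j]
    {P' : MorPred X'} {P : MorPred X} (hPP' : ∀ ⦃T : Scheme.{u}⦄ (g : T ⟶ X'), P' g → P (g ≫ j))
    (W' : X'.Opens) (h : StrataP P' (W' : Set X')) :
    StrataP P ((j ''ᵁ W' : X.Opens) : Set X) := by
  obtain ⟨n, T, g, h1, h2, h3, h4, h5⟩ := h
  have hinj : Function.Injective j := j.isOpenEmbedding.injective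
  have hr : ∀ l : Fin n, Set.range (g l ≫ j) = j '' Set.range (g l) := by
    intro l
    rw [Scheme.Hom.comp_base, TopCat.coe_comp, Set.range_comp]
  have hrange : Set.range (j ''ᵁ W').ι ⊆ Set.range (W'.ι ≫ j) := by
    rw [Scheme.Hom.comp_base, TopCat.coe_comp, Set.range_comp, Scheme.Opens.range_ι,
      Scheme.Opens.range_ι]
    rfl
  let e : (j ''ᵁ W').toScheme ⟶ W'.toScheme := IsOpenImmersion.lift (W'.ι ≫ j) (j ''ᵁ W').ι hrange
  have he : e ≫ W'.ι ≫ j = (j ''ᵁ W').ι := IsOpenImmersion.lift_fac _ _ _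
  refine ⟨n, T, fun l => g l ≫ j, fun l => ?_, fun l => ?_, ?_, ?_, fun l => hPP' _ (h5 l)⟩
  · have := h1 l
    infer_instance
  · rw [hr]
    have hc := e.isConstructible_preimage (h2 l)
    have e' : (Subtype.val : ↥((j ''ᵁ W' : X.Opens) : Set X) → X) ⁻¹' (j '' Set.range (g l)) =
        e ⁻¹' ((Subtype.val : ↥(W' : Set X') → X') ⁻¹' Set.range (g l)) := by
      ext x
      have hx : j (W'.ι (e x)) = (j ''ᵁ W').ι x := by
        rw [← he]
        rfl
      show (j ''ᵁ W').ι x ∈ j '' Set.range (g l) ↔ W'.ι (e x) ∈ Set.range (g l)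
      rw [← hx]
      exact hinj.mem_set_image
    rw [e']
    exact hc
  · intro a b hab
    show Disjoint (Set.range _) (Set.range _)
    rw [hr, hr]
    exact (Set.disjoint_image_iff hinj).2 (h3 hab)
  · simp only [hr]
    rw [← Set.image_iUnion, h4]
    rfl


/-- finite covers of a compact open by affine opens with a prescribed local property -/
lemma exists_finite_affine_cover (U : X.Opens) (hU : IsCompact (U : Set X)) (Q : X.Opens → Prop)
    (hQ : ∀ x ∈ U, ∃ W : X.Opens, IsAffineOpen W ∧ x ∈ W ∧ W ≤ U ∧ Q W) :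
    ∃ (m : ℕ) (W : Fin m → X.Opens), (∀ k, IsAffineOpen (W k)) ∧ (∀ k, W k ≤ U) ∧
      ((U : Set X) ⊆ ⋃ k, (W k : Set X)) ∧ ∀ k, Q (W k) := by
  choose W hW1 hW2 hW3 hW4 using hQ
  obtain ⟨t, ht⟩ := hU.elim_nhds_subcover' (fun x hx => (W x hx : Set X))
    (fun x hx => (W x hx).2.mem_nhds (hW2 x hx))
  let e := t.equivFin
  refine ⟨t.card, fun k => W (e.symm k).1.1 (e.symm k).1.2, fun k => hW1 _ _, fun k => hW3 _ _, ?_,
    fun k => hW4 _ _⟩
  intro x hx
  obtain ⟨y, hy, hxy⟩ := Set.mem_iUnion₂.1 (ht hx)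
  refine Set.mem_iUnion.2 ⟨e ⟨y, hy⟩, ?_⟩
  simp only [Equiv.symm_apply_apply]
  exact hxy

/-- affine opens are quasi-separated spaces -/
lemma quasiSeparatedSpace_of_isAffineOpen {U : X.Opens} (hU : IsAffineOpen U) :
    QuasiSeparatedSpace U :=
  (isQuasiSeparated_iff_quasiSeparatedSpace _ U.2).1 hU.isQuasiSeparated


/-- a stratification of the whole scheme restricts to every open -/
lemma StrataP.of_univ {P : MorPred X} (hP : P.Stable) (h : StrataP P (Set.univ : Set X))
    (U : X.Opens) : StrataP P (U : Set X) := by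
  have h' : StrataP P ((⊤ : X.Opens) : Set X) := by rwa [Opens.coe_top]
  have := StrataP.comap hP (𝟙 X) ⊤ U le_top h'
  refine this.mono fun T g hg => ?_
  have hg' : P (g ≫ 𝟙 X) := hg
  rwa [Category.comp_id] at hg'

/-- on a quasi-compact quasi-separated scheme, stratifications of the affine opens assemble -/
lemma StrataP.univ_of_affine {P : MorPred X} (hP : P.Stable) [CompactSpace X] [QuasiSeparatedSpace X]
    (h : ∀ U : X.Opens, IsAffineOpen U → StrataP P (U : Set X)) : StrataP P (Set.univ : Set X) := by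
  obtain ⟨m, W, hW1, hW2, hW3, -⟩ := exists_finite_affine_cover (⊤ : X.Opens)
    (by rw [Opens.coe_top]; exact isCompact_univ) (fun _ => True) (fun x _ => by
      obtain ⟨W, hW, hxW, -⟩ := Opens.isBasis_iff_nbhd.1 X.isBasis_affineOpens
        (show x ∈ (⊤ : X.Opens) from trivial)
      exact ⟨W, hW, hxW, le_top, trivial⟩)
  have : QuasiSeparatedSpace (⊤ : X.Opens) :=
    (isQuasiSeparated_iff_quasiSeparatedSpace _ (⊤ : X.Opens).2).1
      (show IsQuasiSeparated (Set.univ : Set X) from isQuasiSeparated_univ)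
  have := StrataP.assemble hP (⊤ : X.Opens) W (fun k => (hW1 k).isCompact) hW2 hW3
    (fun k => h _ (hW1 k))
  rwa [Opens.coe_top] at this

/-- pull back stratifications of all affine opens -/
lemma StrataP.comap_affine {P : MorPred Y} (hP : P.Stable) (f : X ⟶ Y)
    (h : ∀ V : Y.Opens, IsAffineOpen V → StrataP P (V : Set Y)) (U : X.Opens) (hU : IsAffineOpen U) :
    StrataP (P.pull f) (U : Set X) := by
  obtain ⟨m, W, hW1, hW2, hW3, hW4⟩ := exists_finite_affine_cover U hU.isCompact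
    (fun W => ∃ V : Y.Opens, IsAffineOpen V ∧ W ≤ f ⁻¹ᵁ V) (fun x hx => by
      obtain ⟨V, hV, hxV, -⟩ := Opens.isBasis_iff_nbhd.1 Y.isBasis_affineOpens
        (show f x ∈ (⊤ : Y.Opens) from trivial)
      obtain ⟨W, hW, hxW, hWsub⟩ := Opens.isBasis_iff_nbhd.1 X.isBasis_affineOpens
        (show x ∈ (U ⊓ f ⁻¹ᵁ V : X.Opens) from ⟨hx, hxV⟩)
      exact ⟨W, hW, hxW, fun y hy => (hWsub hy).1, V, hV, fun y hy => (hWsub hy).2⟩)
  have := quasiSeparatedSpace_of_isAffineOpen hU
  refine StrataP.assemble (hP.pull f) U W (fun k => (hW1 k).isCompact) hW2 hW3 (fun k => ?_)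
  obtain ⟨V, hV, hWV⟩ := hW4 k
  exact StrataP.comap hP f V (W k) hWV (h V hV)

/-- constructibility is local for open covers -/
lemma StrataP.of_open_cover {P : MorPred X} (hP : P.Stable) {ι : Type*} (U : ι → X.Opens)
    (hU : ⨆ i, U i = ⊤)
    (h : ∀ i, ∀ W' : (U i).toScheme.Opens, IsAffineOpen W' → StrataP (P.pull (U i).ι) (W' : Set (U i)))
    (V : X.Opens) (hV : IsAffineOpen V) : StrataP P (V : Set X) := by
  obtain ⟨m, W, hW1, hW2, hW3, hW4⟩ := exists_finite_affine_cover V hV.isCompact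
    (fun W => ∃ i, W ≤ U i) (fun x hx => by
      have hx' : x ∈ ⨆ i, U i := by rw [hU]; trivial
      obtain ⟨i, hi⟩ := Opens.mem_iSup.1 hx'
      obtain ⟨W, hW, hxW, hWsub⟩ := Opens.isBasis_iff_nbhd.1 X.isBasis_affineOpens
        (show x ∈ (V ⊓ U i : X.Opens) from ⟨hx, hi⟩)
      exact ⟨W, hW, hxW, fun y hy => (hWsub hy).1, i, fun y hy => (hWsub hy).2⟩)
  have := quasiSeparatedSpace_of_isAffineOpen hV
  refine StrataP.assemble hP V W (fun k => (hW1 k).isCompact) hW2 hW3 (fun k => ?_)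
  obtain ⟨i, hi⟩ := hW4 k
  have himg : (U i).ι ''ᵁ ((U i).ι ⁻¹ᵁ W k) = W k := by
    rw [Scheme.Hom.image_preimage_eq_opensRange_inf, Scheme.Opens.opensRange_ι]
    exact inf_eq_right.2 hi
  have haff : IsAffineOpen ((U i).ι ⁻¹ᵁ W k) := by
    rw [← (U i).ι.isAffineOpen_iff_of_isOpenImmersion, himg]
    exact hW1 k
  have := StrataP.of_openImmersion (U i).ι (P' := P.pull (U i).ι) (P := P) (fun T g hg => hg)
    ((U i).ι ⁻¹ᵁ W k) (h i _ haff)
  rwa [himg] at this

end Groth.Agent.R2.H29.Strata
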