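import Mathlib

set_option autoImplicit false
set_option linter.style.haveILetI false
set_option linter.unusedSectionVars false
open CategoryTheory CategoryTheory.Limits Opposite
universe u

namespace Groth.Agent.R2.H29.SliceCompare

section

variable {C D : Type (u+1)} [Category.{u} C] [Category.{u} D]
  (F : C ⥤ D) [HasBinaryProducts C] [HasBinaryProducts D]
  [PreservesLimitsOfShape (Discrete WalkingPair) F] (V : C)

lemma star_hom_eq (W : C) : ((Over.star V).obj W).hom = (prod.fst : V ⨯ W ⟶ V) :=
  (Over.star_obj_hom V W).trans (prod.lift_fst _ _)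

/-- `Over.star` commutes with a functor preserving binary products -/
noncomputable def starPostIso : F ⋙ Over.star (F.obj V) ≅ Over.star V ⋙ Over.post F :=
  NatIso.ofComponents
    (fun W => Over.isoMk (PreservesLimitPair.iso F V W).symm (by
      have h1 : ((Over.star V ⋙ Over.post F).obj W).hom = F.map (prod.fst : V ⨯ W ⟶ V) := by
        exact congrArg F.map (star_hom_eq V W)
      have h2 : ((F ⋙ Over.star (F.obj V)).obj W).hom =
          (prod.fst : F.obj V ⨯ F.obj W ⟶ F.obj V) := star_hom_eq (F.obj V) (F.obj W)
      rw [h1, h2]
      exact PreservesLimitPair.iso_inv_fst F V W))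
    (by
      intro W W' g
      have h : prod.map (𝟙 (F.obj V)) (F.map g) ≫ (PreservesLimitPair.iso F V W').inv =
          (PreservesLimitPair.iso F V W).inv ≫ F.map (prod.map (𝟙 V) g) := by
        rw [Iso.comp_inv_eq, Category.assoc, Iso.eq_inv_comp, PreservesLimitPair.iso_hom,
          PreservesLimitPair.iso_hom, prodComparison_natural]
        simp
      ext
      dsimp
      exact h)

end

section Sheaf

variable {C D : Type (u+1)} [Category.{u} C] [Category.{u} D]
  (J : GrothendieckTopology C) (K : GrothendieckTopology D)
  (F : C ⥤ D) (A : Type (u+2)) [Category.{u+1} A]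
  [HasBinaryProducts C] [HasBinaryProducts D] [PreservesLimitsOfShape (Discrete WalkingPair) F]
  [F.IsContinuous J K] (V : C)
  [(Over.post (X := V) F).IsContinuous (J.over V) (K.over (F.obj V))]
  [(F.sheafPushforwardContinuous A J K).IsRightAdjoint]
  [((Over.post (X := V) F).sheafPushforwardContinuous A (J.over V) (K.over (F.obj V))).IsRightAdjoint]

/-- restriction to a slice commutes with pullback of sheaves along a continuous functor
preserving binary products -/
noncomputable def overPullbackPullIso :
    F.sheafPullback A J K ⋙ K.overPullback A (F.obj V) ≅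
      J.overPullback A V ⋙
        (Over.post (X := V) F).sheafPullback A (J.over V) (K.over (F.obj V)) :=
  haveI : (Over.star V ⋙ Over.post (X := V) F).IsContinuous J (K.over (F.obj V)) :=
    Functor.isContinuous_comp (Over.star V) (Over.post (X := V) F) J (J.over V) (K.over (F.obj V))
  let adj₁ := (F.sheafAdjunctionContinuous A J K).comp
    ((Over.forgetAdjStar (F.obj V)).sheafPushforwardContinuous (E := A) (K.over (F.obj V)) K)
  let adj₂ := ((Over.forgetAdjStar V).sheafPushforwardContinuous (E := A) (J.over V) J).comp
    ((Over.post (X := V) F).sheafAdjunctionContinuous A (J.over V) (K.over (F.obj V)))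
  let e₁ := Functor.sheafPushforwardContinuousComp' (F := F) (G := Over.star (F.obj V))
    (FG := Over.star V ⋙ Over.post F) (starPostIso F V) A J K (K.over (F.obj V))
  let e₂ := Functor.sheafPushforwardContinuousComp' (F := Over.star V) (G := Over.post (X := V) F)
    (FG := Over.star V ⋙ Over.post F) (Iso.refl _) A J (J.over V) (K.over (F.obj V))
  (conjugateIsoEquiv adj₂ adj₁).symm (e₂ ≪≫ e₁.symm)

end Sheaf

section Const

variable {C D : Type (u+1)} [Category.{u} C] [Category.{u} D]
  (J : GrothendieckTopology C) (K : GrothendieckTopology D)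
  (G : C ⥤ D) (A : Type (u+2)) [Category.{u+1} A] [G.IsContinuous J K]
  [HasWeakSheafify J A] [HasWeakSheafify K A]
  [(G.sheafPushforwardContinuous A J K).IsRightAdjoint]

/-- the pullback of a constant sheaf along a continuous functor preserving the terminal object
is constant -/
noncomputable def pullConstantIso {T : C} (hT : IsTerminal T) (hT' : IsTerminal (G.obj T)) :
    constantSheaf J A ⋙ G.sheafPullback A J K ≅ constantSheaf K A :=
  let adj₁ := (constantSheafAdj J A hT).comp (G.sheafAdjunctionContinuous A J K)
  let adj₂ := constantSheafAdj K A hT'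
  (conjugateIsoEquiv adj₂ adj₁).symm (Iso.refl _)

end Const

section Main

variable {C D : Type (u+1)} [Category.{u} C] [Category.{u} D]
  (J : GrothendieckTopology C) (K : GrothendieckTopology D)
  (F : C ⥤ D) (A : Type (u+2)) [Category.{u+1} A]
  [HasBinaryProducts C] [HasBinaryProducts D] [PreservesLimitsOfShape (Discrete WalkingPair) F]
  [F.IsContinuous J K] (V : C)
  [(Over.post (X := V) F).IsContinuous (J.over V) (K.over (F.obj V))]
  [(F.sheafPushforwardContinuous A J K).IsRightAdjoint]
  [((Over.post (X := V) F).sheafPushforwardContinuous A (J.over V) (K.over (F.obj V))).IsRightAdjoint]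
  [HasWeakSheafify (J.over V) A] [HasWeakSheafify (K.over (F.obj V)) A]

/-- the identity object of the slice is sent to a terminal object by `Over.post` -/
noncomputable def isTerminalPostMkId :
    IsTerminal ((Over.post (X := V) F).obj (Over.mk (𝟙 V))) :=
  IsTerminal.ofIso Over.mkIdTerminal (Over.isoMk (Iso.refl _) (by
    show 𝟙 (F.obj V) ≫ F.map (𝟙 V) = 𝟙 (F.obj V)
    rw [F.map_id, Category.comp_id]))

/-- if a sheaf is constant on the slice over `V`, its pullback is constant on the slice over
`F.obj V` -/
lemma nonempty_pull_over_iso (G : Sheaf J A) (M : A)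
    (α : G.over V ≅ (constantSheaf (J.over V) A).obj M) :
    Nonempty (((F.sheafPullback A J K).obj G).over (F.obj V) ≅
      (constantSheaf (K.over (F.obj V)) A).obj M) :=
  ⟨(overPullbackPullIso J K F A V).app G ≪≫
    ((Over.post (X := V) F).sheafPullback A (J.over V) (K.over (F.obj V))).mapIso α ≪≫
    (pullConstantIso (J.over V) (K.over (F.obj V)) (Over.post (X := V) F) A
      Over.mkIdTerminal (isTerminalPostMkId F V)).app M⟩

end Main

end Groth.Agent.R2.H29.SliceCompare
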