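import Mathlib
import Groth.Prelude.Def_EtMod2
import Groth.Prelude.Def_EtRestW
import Groth.Agent.R2.H29EtLocConst
import Groth.Agent.R2.H29SliceCompare

set_option autoImplicit false
set_option linter.style.haveILetI false
open CategoryTheory CategoryTheory.Limits AlgebraicGeometry Opposite
universe u
open Groth.Agent.R2.H29.ConstSheaf Groth.Agent.R2.H29.EtLocConst Groth.Agent.R2.H29.SliceCompare

namespace Groth.Agent.R2.H29.EtPull

variable {X Y : Scheme.{u}} (f : X ⟶ Y)

instance (V : Y.Etale) : (Over.post (X := V) (EtCoh.bc f)).IsContinuous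
    (Y.smallEtaleTopology.over V) (X.smallEtaleTopology.over ((EtCoh.bc f).obj V)) :=
  haveI : RepresentablyFlat (Over.post (X := V) (EtCoh.bc f)) := flat_of_preservesFiniteLimits _
  Functor.isContinuous_of_coverPreserving (compatiblePreservingOfFlat _ _)
    ((EtCoh.coverPreserving_bc f).overPost V)

/-- pulling back a cover -/
lemma covers_bc {ι : Type u} (U : ι → Y.Etale) (hU : EtCoh.Covers U) :
    EtCoh.Covers (fun i => (EtCoh.bc f).obj (U i)) := by
  intro x
  obtain ⟨i, y, hy⟩ := hU (f.base x)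
  obtain ⟨z, -, hz⟩ := Scheme.Pullback.exists_preimage_pullback (f := (U i).hom) (g := f) y x hy
  exact ⟨i, z, hz⟩

lemma nonempty_pull_over_iso_ab (G : EtCoh.Ab Y) (V : Y.Etale) (M : AddCommGrpCat.{u+1})
    (α : G.over V ≅ (constantSheaf (Y.smallEtaleTopology.over V) AddCommGrpCat.{u+1}).obj M) :
    Nonempty (((EtCoh.pull f).obj G).over ((EtCoh.bc f).obj V) ≅
      (constantSheaf (X.smallEtaleTopology.over ((EtCoh.bc f).obj V)) AddCommGrpCat.{u+1}).obj M) :=
  nonempty_pull_over_iso Y.smallEtaleTopology X.smallEtaleTopology (EtCoh.bc f) AddCommGrpCat.{u+1} V G M α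

lemma nonempty_pull_over_iso_mod (Λ : Type (u+1)) [CommRing Λ] (G : EtModW.Mod Λ Y) (V : Y.Etale)
    (M : ModuleCat.{u+1} Λ)
    (α : G.over V ≅ (constantSheaf (Y.smallEtaleTopology.over V) (ModuleCat.{u+1} Λ)).obj M) :
    Nonempty (((EtModW.pull Λ f).obj G).over ((EtCoh.bc f).obj V) ≅
      (constantSheaf (X.smallEtaleTopology.over ((EtCoh.bc f).obj V)) (ModuleCat.{u+1} Λ)).obj M) :=
  nonempty_pull_over_iso Y.smallEtaleTopology X.smallEtaleTopology (EtCoh.bc f) (ModuleCat.{u+1} Λ) V G M α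

end Groth.Agent.R2.H29.EtPull
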