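import Groth.Prelude.Def_EtMod2
import Groth.Prelude.Def_FixPt
import Groth.Agent.S6642
import Groth.Agent.R2.H29Strata

/-!
# Constructible sheaves of modules on the small etale site: basics (pullback)
-/

set_option autoImplicit false
open CategoryTheory CategoryTheory.Limits AlgebraicGeometry Opposite TopologicalSpace
universe u
open Groth.Agent.R2.H29.Strata

namespace Groth.Agent.R2.H29.ConstrMod

variable (Λ : Type (u + 1)) [CommRing Λ] {X Y : Scheme.{u}}

/-- FTLC is invariant under isomorphism -/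
lemma ftlc_of_iso {F F' : EtModW.Mod Λ X} (e : F ≅ F') (h : EtModW.IsFTLocConst Λ F) :
    EtModW.IsFTLocConst Λ F' := by
  obtain ⟨ι, U, hU, h⟩ := h
  refine ⟨ι, U, hU, fun i => ?_⟩
  obtain ⟨M, hM, hmod, hfin, ⟨α⟩⟩ := h i
  exact ⟨M, hM, hmod, hfin,
    ⟨(X.smallEtaleTopology.overPullback (ModuleCat.{u + 1} Λ) (U i)).mapIso e.symm ≪≫ α⟩⟩

/-- the predicate "the pullback of `F` along `g` is finite type locally constant" -/
def PFm (F : EtModW.Mod Λ X) : MorPred X :=
  fun _ g => EtModW.IsFTLocConst Λ ((EtModW.pull Λ g).obj F)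

lemma PFm_pull (f : X ⟶ Y) (F : EtModW.Mod Λ Y) {T : Scheme.{u}} (g : T ⟶ X) :
    PFm Λ F (g ≫ f) ↔ PFm Λ ((EtModW.pull Λ f).obj F) g :=
  ⟨fun h => ftlc_of_iso Λ ((FixPt.pullComp g f).app F) h,
    fun h => ftlc_of_iso Λ ((FixPt.pullComp g f).app F).symm h⟩

lemma PFm_stable (F : EtModW.Mod Λ X) : (PFm Λ F).Stable := by
  intro T T' h g hg
  rw [PFm_pull]
  exact (Groth.Agent.S6642.result h).2.2 Λ _ hg

lemma PFm_iso {F F' : EtModW.Mod Λ X} (e : F ≅ F') {T : Scheme.{u}} (g : T ⟶ X)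
    (h : PFm Λ F g) : PFm Λ F' g :=
  ftlc_of_iso Λ ((EtModW.pull Λ g).mapIso e) h

lemma adaptedStrata_iff (F : EtModW.Mod Λ X) (S : Set X) :
    EtModW.AdaptedStrata Λ F S ↔ StrataP (PFm Λ F) S := by
  constructor
  · rintro ⟨n, T, g, h1, h2, h3, h4, h5⟩
    exact ⟨n, T, g, h1, h2, h3, h4, fun i => h5 i⟩
  · rintro ⟨n, T, g, h1, h2, h3, h4, h5⟩
    exact ⟨n, T, g, h1, h2, h3, h4, fun i => h5 i⟩

lemma isConstructible_iff (F : EtModW.Mod Λ X) :
    EtModW.IsConstructible Λ F ↔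
      ∀ U : X.Opens, IsAffineOpen U → StrataP (PFm Λ F) (U : Set X) :=
  forall₂_congr fun _ _ => adaptedStrata_iff Λ F _

/-- pullback of a constructible sheaf of modules is constructible -/
theorem isConstructible_pull (f : X ⟶ Y) (F : EtModW.Mod Λ Y) (hF : EtModW.IsConstructible Λ F) :
    EtModW.IsConstructible Λ ((EtModW.pull Λ f).obj F) := by
  rw [isConstructible_iff] at hF ⊢
  intro U hU
  refine (StrataP.comap_affine (PFm_stable Λ F) f hF U hU).mono fun T g hg => ?_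
  exact (PFm_pull Λ f F g).1 hg

lemma isConstructible_of_iso {F F' : EtModW.Mod Λ X} (e : F ≅ F')
    (hF : EtModW.IsConstructible Λ F) : EtModW.IsConstructible Λ F' := by
  rw [isConstructible_iff] at hF ⊢
  exact fun U hU => (hF U hU).mono fun T g hg => PFm_iso Λ e g hg

end Groth.Agent.R2.H29.ConstrMod
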