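import Groth.Prelude.Def_EtMod2
import Groth.Prelude.Def_FixPt
import Groth.Agent.R2.H29ARFunctor
import Groth.Agent.R2.H29ConstrMod
import Groth.Agent.S4330

/-!
# AR-adic systems of sheaves of modules on the small etale site: pullback
-/

set_option autoImplicit false
open CategoryTheory CategoryTheory.Limits AlgebraicGeometry Opposite
universe u w v v' u₁ u₂

namespace Groth.Agent.R2.H29.ARMod

section Adj

variable {R : Type w} [Semiring R] {C : Type u₁} [Category.{v} C] {D : Type u₂} [Category.{v'} D]
  [Preadditive C] [Preadditive D] [Linear R C] [Linear R D] {F : C ⥤ D} {G : D ⥤ C}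

/-- the left adjoint of a linear functor is linear -/
lemma left_adjoint_linear (adj : F ⊣ G) [F.Additive] [G.Additive] [G.Linear R] : F.Linear R where
  map_smul {X Y} f r := by
    apply (adj.homEquiv _ _).injective
    rw [adj.homEquiv_unit, adj.homEquiv_unit, adj.unit_naturality, G.map_smul, Linear.comp_smul,
      adj.unit_naturality, Linear.smul_comp]

end Adj

variable (Λ : Type (u + 1)) [CommRing Λ] {X Y : Scheme.{u}} (f : X ⟶ Y)

instance push_linear : (EtModW.push Λ f).Linear Λ where
  map_smul {F G} φ a := by
    ext U : 3
    rfl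

instance pull_linear : (EtModW.pull Λ f).Linear Λ :=
  left_adjoint_linear (FixPt.pullPushAdj f)

end Groth.Agent.R2.H29.ARMod
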