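import Groth.Agent.R2.H29EtExt

set_option autoImplicit false
set_option linter.style.haveILetI false
open CategoryTheory CategoryTheory.Limits AlgebraicGeometry Opposite
universe u
open Groth.Agent.R2.H29.ConstSheaf Groth.Agent.R2.H29.EtLocConst Groth.Agent.R2.H29.EtExt

namespace Groth.Agent.R2.H29.EtExtAb

/-- an extension of a finite group by a finite group is finite -/
lemma finite_of_exact {A E B : Type*} [AddCommGroup A] [AddCommGroup E] [AddCommGroup B]
    (i : A →+ E) (p : E →+ B) [Finite A] [Finite B] (hex : ∀ e, p e = 0 → ∃ a, i a = e) :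
    Finite E := by
  rw [← Set.finite_univ_iff]
  refine Set.Finite.of_finite_fibers p (Set.toFinite _) ?_
  rintro _ ⟨e₀, -, rfl⟩
  refine (Set.finite_range (fun a => e₀ + i a)).subset ?_
  rintro e ⟨-, he⟩
  have he' : p e = p e₀ := he
  obtain ⟨a, ha⟩ := hex (e - e₀) (by rw [map_sub, he', sub_self])
  exact ⟨a, by simp [ha]⟩

/-- a finite abelian group in a higher universe is isomorphic to a lifted small one -/
lemma exists_small_model (G : Type (u + 1)) [AddCommGroup G] [Finite G] :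
    ∃ (M : Type) (_ : AddCommGroup M) (_ : Finite M),
      Nonempty (AddCommGrpCat.of G ≅ AddCommGrpCat.of (ULift.{u + 1} M)) := by
  haveI : Small.{0} G := Countable.toSmall G
  refine ⟨Shrink.{0} G, inferInstance, Finite.of_equiv G (equivShrink.{0} G), ⟨?_⟩⟩
  exact AddEquiv.toAddCommGrpIso (X := AddCommGrpCat.of G)
    (Y := AddCommGrpCat.of (ULift.{u + 1} (Shrink.{0} G)))
    ((AddEquiv.ulift.trans (Shrink.addEquiv (α := G))).symm)

section Ab

variable {X : Scheme.{u}}

instance (W : X.Etale) :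
    PreservesFiniteColimits (X.smallEtaleTopology.overPullback AddCommGrpCat.{u + 1} W) :=
  preservesFiniteColimits_overPullback _ _

lemma injective_app_of_mono_ab {F G : Sheaf X.smallEtaleTopology AddCommGrpCat.{u + 1}} (f : F ⟶ G)
    [Mono f] (U : X.Etaleᵒᵖ) : Function.Injective (f.hom.app U) := by
  have h1 : Mono f.hom := (Sheaf.Hom.mono_iff_presheaf_mono _ _ f).mp inferInstance
  have h2 : Mono (f.hom.app U) := inferInstance
  exact (AddCommGrpCat.mono_iff_injective _).mp h2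

lemma exact_sections_ab {S : ShortComplex (Sheaf X.smallEtaleTopology AddCommGrpCat.{u + 1})}
    (hS : S.ShortExact) (W : X.Etale) (p : ToType (S.X₂.obj.obj (op W)))
    (hp : S.g.hom.app (op W) p = 0) : ∃ q : ToType (S.X₁.obj.obj (op W)), S.f.hom.app (op W) q = p := by
  haveI := hS.mono_f
  have hex := hS.exact.map_of_mono_of_preservesKernel
    (sheafToPresheaf X.smallEtaleTopology AddCommGrpCat.{u + 1} ⋙ (evaluation _ _).obj (op W))
    inferInstance inferInstance
  exact (ShortComplex.ab_exact_iff _).1 hex p hp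

/-- core step: on a nonempty `W` where lifts of generators exist and the relations are constant,
the middle term is trivialized by a finite group -/
lemma exists_isTriv_mid_ab {S : ShortComplex (Sheaf X.smallEtaleTopology AddCommGrpCat.{u + 1})}
    (hS : S.ShortExact) (W : X.Etale) (w : W.left)
    {A₀ B₀ : Type (u + 1)} [AddCommGroup A₀] [AddCommGroup B₀] [Finite A₀] [Finite B₀]
    {τ₁ : AddCommGrpCat.of A₀ ⟶ S.X₁.obj.obj (op W)} {τ₃ : AddCommGrpCat.of B₀ ⟶ S.X₃.obj.obj (op W)}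
    (h₁ : IsTriv X.smallEtaleTopology S.X₁ W τ₁) (h₃ : IsTriv X.smallEtaleTopology S.X₃ W τ₃)
    {r : ℕ} (b : Fin r → B₀) (hb : Submodule.span ℤ (Set.range b) = ⊤)
    (t : Fin r → ToType (S.X₂.obj.obj (op W)))
    (ht : ∀ k, S.g.hom.app (op W) (t k) = τ₃ (b k))
    (hK : ∀ l : Fin r → ℤ, Fintype.linearCombination ℤ b l = 0 →
      ∃ a : A₀, S.f.hom.app (op W) (τ₁ a) = Fintype.linearCombination ℤ t l) :
    ∃ (E : Type (u + 1)) (_ : AddCommGroup E) (_ : Finite E)
      (τ₂ : AddCommGrpCat.of E ⟶ S.X₂.obj.obj (op W)), IsTriv X.smallEtaleTopology S.X₂ W τ₂ := by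
  haveI := hS.mono_f
  have hW := bot_not_mem W w
  have inj₁ := h₁.injective X.smallEtaleTopology hW
  have inj₃ := h₃.injective X.smallEtaleTopology hW
  have injf := injective_app_of_mono_ab S.f (op W)
  let ι₁ : A₀ →ₗ[ℤ] ↑(S.X₂.obj.obj (op W)) := (τ₁ ≫ S.f.hom.app (op W)).hom.toIntLinearMap
  let g : ↑(S.X₂.obj.obj (op W)) →ₗ[ℤ] ↑(S.X₃.obj.obj (op W)) :=
    (S.g.hom.app (op W)).hom.toIntLinearMap
  let π : (Fin r → ℤ) →ₗ[ℤ] B₀ := Fintype.linearCombination ℤ b
  let σ : (Fin r → ℤ) →ₗ[ℤ] ↑(S.X₂.obj.obj (op W)) := Fintype.linearCombination ℤ t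
  have hzero : ∀ q : ToType (S.X₁.obj.obj (op W)),
      S.g.hom.app (op W) (S.f.hom.app (op W) q) = 0 := by
    intro q
    have e : S.f.hom.app (op W) ≫ S.g.hom.app (op W) = 0 := by
      rw [← NatTrans.comp_app, ← ObjectProperty.FullSubcategory.comp_hom, S.zero]
      rfl
    have := congrArg (fun k => (ConcreteCategory.hom k) q) e
    simpa using this
  obtain ⟨i, p, hi, hp, hinj, hsurj, hex⟩ := exists_ext ι₁ g τ₃.hom.toIntLinearMap π σ
    (fun a a' h => inj₁ (injf h)) (fun a => hzero _) inj₃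
    ((span_range_eq_top_iff_surjective_fintypeLinearCombination ℤ b).1 hb)
    (fun l => by
      simp only [σ, π, g, Fintype.linearCombination_apply, map_sum, map_smul]
      refine Finset.sum_congr rfl (fun k _ => ?_)
      congr 1
      exact ht k)
    hK
  let T : ShortComplex AddCommGrpCat.{u + 1} :=
    ShortComplex.mk (AddCommGrpCat.ofHom i.toAddMonoidHom) (AddCommGrpCat.ofHom p.toAddMonoidHom) (by
      ext a
      exact (hex (i a)).2 ⟨a, rfl⟩)
  have hT : T.ShortExact :=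
    { exact := (ShortComplex.ab_exact_iff T).2 (fun e he => (hex e).1 he)
      mono_f := (AddCommGrpCat.mono_iff_injective _).2 hinj
      epi_g := (AddCommGrpCat.epi_iff_surjective _).2 hsurj }
  haveI : Finite (midSub ι₁ σ) :=
    finite_of_exact i.toAddMonoidHom p.toAddMonoidHom (fun e he => (hex e).1 he)
  refine ⟨midSub ι₁ σ, inferInstance, inferInstance,
    AddCommGrpCat.ofHom (midSub ι₁ σ).subtype.toAddMonoidHom, ?_⟩
  refine isTriv_of_shortExact X.smallEtaleTopology W hS hT τ₁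
    (AddCommGrpCat.ofHom (midSub ι₁ σ).subtype.toAddMonoidHom) τ₃ ?_ ?_ h₁ h₃
  · ext a
    exact (hi a).symm
  · ext e
    exact (hp e).symm

/-- second step: lifts of generators exist on `V`; refine so that the relations become constant -/
lemma exists_isTriv_mid_ab'
    {S : ShortComplex (Sheaf X.smallEtaleTopology AddCommGrpCat.{u + 1})}
    (hS : S.ShortExact) (V : X.Etale) (z : V.left)
    {A₀ B₀ : Type (u + 1)} [AddCommGroup A₀] [AddCommGroup B₀] [Finite A₀] [Finite B₀]
    {τ₁ : AddCommGrpCat.of A₀ ⟶ S.X₁.obj.obj (op V)} {τ₃ : AddCommGrpCat.of B₀ ⟶ S.X₃.obj.obj (op V)}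
    (h₁ : IsTriv X.smallEtaleTopology S.X₁ V τ₁) (h₃ : IsTriv X.smallEtaleTopology S.X₃ V τ₃)
    {r : ℕ} (b : Fin r → B₀) (hb : Submodule.span ℤ (Set.range b) = ⊤)
    (t : Fin r → ToType (S.X₂.obj.obj (op V)))
    (ht : ∀ k, S.g.hom.app (op V) (t k) = τ₃ (b k)) :
    ∃ (W : X.Etale) (g : W ⟶ V) (w : W.left), g.left w = z ∧
      ∃ (E : Type (u + 1)) (_ : AddCommGroup E) (_ : Finite E)
        (τ₂ : AddCommGrpCat.of E ⟶ S.X₂.obj.obj (op W)), IsTriv X.smallEtaleTopology S.X₂ W τ₂ := by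
  classical
  let π : (Fin r → ℤ) →ₗ[ℤ] B₀ := Fintype.linearCombination ℤ b
  let σ : (Fin r → ℤ) →ₗ[ℤ] ↑(S.X₂.obj.obj (op V)) := Fintype.linearCombination ℤ t
  have hσ : ∀ l, S.g.hom.app (op V) (σ l) = τ₃ (π l) := by
    intro l
    show (S.g.hom.app (op V)).hom (σ l) = τ₃.hom (π l)
    simp only [σ, π, Fintype.linearCombination_apply, map_sum, map_zsmul]
    refine Finset.sum_congr rfl (fun k _ => ?_)
    congr 1
    exact ht k
  obtain ⟨κ, hκ⟩ : (LinearMap.ker π).FG := IsNoetherian.noetherian _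
  have hd : ∀ l : Fin r → ℤ, π l = 0 →
      ∃ d : ToType (S.X₁.obj.obj (op V)), S.f.hom.app (op V) d = σ l := by
    intro l hl
    refine exact_sections_ab hS V (σ l) ?_
    rw [hσ, hl]
    exact map_zero τ₃.hom
  let d : (Fin r → ℤ) → ToType (S.X₁.obj.obj (op V)) := fun l =>
    if hl : π l = 0 then (hd l hl).choose else 0
  have hdspec : ∀ l, π l = 0 → S.f.hom.app (op V) (d l) = σ l := by
    intro l hl
    simp only [d, dif_pos hl]
    exact (hd l hl).choose_spec
  obtain ⟨W, g, w, hw, hconst⟩ := exists_refine_const h₁ d κ z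
  refine ⟨W, g, w, hw, ?_⟩
  have h₁W := h₁.restrict X.smallEtaleTopology g
  have h₃W := h₃.restrict X.smallEtaleTopology g
  refine exists_isTriv_mid_ab hS W w h₁W h₃W b hb (fun k => S.X₂.obj.map g.op (t k)) ?_ ?_
  · intro k
    have h1 := congrArg (fun f => (ConcreteCategory.hom f) (t k)) (S.g.hom.naturality g.op)
    simp only [ConcreteCategory.comp_apply] at h1
    rw [h1, ht k, ConcreteCategory.comp_apply]
  · have hσW : ∀ l, Fintype.linearCombination ℤ (fun k => S.X₂.obj.map g.op (t k)) l =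
        S.X₂.obj.map g.op (σ l) := by
      intro l
      show _ = (S.X₂.obj.map g.op).hom (σ l)
      simp only [σ, Fintype.linearCombination_apply, map_sum, map_zsmul]
    have hle : LinearMap.ker π ≤ Submodule.comap
        (Fintype.linearCombination ℤ (fun k => S.X₂.obj.map g.op (t k)))
        (LinearMap.range ((τ₁ ≫ S.X₁.obj.map g.op) ≫ S.f.hom.app (op W)).hom.toIntLinearMap) := by
      rw [← hκ, Submodule.span_le]
      intro l hl
      have hlK : π l = 0 := by
        have : l ∈ LinearMap.ker π := hκ ▸ Submodule.subset_span hl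
        exact this
      obtain ⟨a, ha⟩ := hconst l hl
      refine ⟨a, ?_⟩
      show S.f.hom.app (op W) ((S.X₁.obj.map g.op) (τ₁ a)) = _
      rw [hσW, ← hdspec l hlK, ← ha]
      have h1 := congrArg (fun f => (ConcreteCategory.hom f) (d l)) (S.f.hom.naturality g.op)
      simp only [ConcreteCategory.comp_apply] at h1
      exact h1
    intro l hl
    obtain ⟨a, ha⟩ := hle hl
    exact ⟨a, ha⟩

/-- first step: lift generators locally -/
lemma exists_isTriv_mid_ab''
    {S : ShortComplex (Sheaf X.smallEtaleTopology AddCommGrpCat.{u + 1})}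
    (hS : S.ShortExact) (V : X.Etale) (z : V.left)
    {A₀ B₀ : Type (u + 1)} [AddCommGroup A₀] [AddCommGroup B₀] [Finite A₀] [Finite B₀]
    {τ₁ : AddCommGrpCat.of A₀ ⟶ S.X₁.obj.obj (op V)} {τ₃ : AddCommGrpCat.of B₀ ⟶ S.X₃.obj.obj (op V)}
    (h₁ : IsTriv X.smallEtaleTopology S.X₁ V τ₁) (h₃ : IsTriv X.smallEtaleTopology S.X₃ V τ₃) :
    ∃ (W : X.Etale) (g : W ⟶ V) (w : W.left), g.left w = z ∧
      ∃ (E : Type (u + 1)) (_ : AddCommGroup E) (_ : Finite E)
        (τ₂ : AddCommGrpCat.of E ⟶ S.X₂.obj.obj (op W)), IsTriv X.smallEtaleTopology S.X₂ W τ₂ := by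
  classical
  haveI : Module.Finite ℤ B₀ := Module.Finite.of_finite
  obtain ⟨r, b, hb⟩ := Module.Finite.exists_fin (R := ℤ) (M := B₀)
  haveI := hS.epi_g
  haveI : Sheaf.IsLocallySurjective S.g := (Sheaf.isLocallySurjective_iff_epi' _ S.g).2 inferInstance
  obtain ⟨V', q, z', hz', hlift⟩ := exists_refine_lift S.g (fun k : Fin r => τ₃ (b k)) Finset.univ z
  choose t ht using fun k => hlift k (Finset.mem_univ k)
  obtain ⟨W, g, w, hw, hE⟩ := exists_isTriv_mid_ab' hS V' z'
    (h₁.restrict X.smallEtaleTopology q) (h₃.restrict X.smallEtaleTopology q) b hb t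
    (fun k => by rw [ht k, ConcreteCategory.comp_apply])
  refine ⟨W, g ≫ q, w, ?_, hE⟩
  rw [← hz', ← hw]
  rfl

/-- an extension of abelian sheaves trivialized near a point with finite values is trivialized
near that point with finite value -/
lemma exists_local_ext_ab
    {S : ShortComplex (Sheaf X.smallEtaleTopology AddCommGrpCat.{u + 1})} (hS : S.ShortExact)
    {U₁ U₃ : X.Etale} {A₀ B₀ : Type (u + 1)} [AddCommGroup A₀] [AddCommGroup B₀]
    [Finite A₀] [Finite B₀]
    (α₁ : S.X₁.over U₁ ≅ (constantSheaf (X.smallEtaleTopology.over U₁) AddCommGrpCat.{u + 1}).obj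
      (AddCommGrpCat.of A₀))
    (β₁ : S.X₃.over U₃ ≅ (constantSheaf (X.smallEtaleTopology.over U₃) AddCommGrpCat.{u + 1}).obj
      (AddCommGrpCat.of B₀))
    (y₁ : U₁.left) (y₃ : U₃.left) (hy : U₁.hom.base y₁ = U₃.hom.base y₃) :
    ∃ (W : X.Etale) (w : W.left), W.hom.base w = U₁.hom.base y₁ ∧
      ∃ (E : Type (u + 1)) (_ : AddCommGroup E) (_ : Finite E),
        Nonempty (S.X₂.over W ≅
          (constantSheaf (X.smallEtaleTopology.over W) AddCommGrpCat.{u + 1}).obj (AddCommGrpCat.of E)) := by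
  have h₁ := isTriv_of_iso X.smallEtaleTopology S.X₁ U₁ α₁
  have h₃ := isTriv_of_iso X.smallEtaleTopology S.X₃ U₃ β₁
  obtain ⟨V, p₁, p₃, z, hz₁, hz₃⟩ := exists_common U₁ U₃ y₁ y₃ hy
  obtain ⟨W, g, w, hw, E, _, _, τ₂, h₂⟩ := exists_isTriv_mid_ab'' hS V z
    (h₁.restrict X.smallEtaleTopology p₁) (h₃.restrict X.smallEtaleTopology p₃)
  refine ⟨W, w, ?_, E, inferInstance, inferInstance, ⟨h₂.iso⟩⟩
  rw [← hz₁, ← hw]
  have e : (g ≫ p₁).left ≫ U₁.hom = W.hom := Over.w (g ≫ p₁).hom
  rw [← e]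
  rfl

end Ab

end Groth.Agent.R2.H29.EtExtAb
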