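import Groth.Prelude.Def_PBC
import Groth.Prelude.Def_EtCore
import Groth.Agent.S6642
import Groth.Agent.S6645
import Groth.Agent.S0101
import Groth.Agent.R2.H29Strata

/-!
# Constructible abelian sheaves on the small etale site: basics

`PF F g` := "the pullback of `F` along `g` is finite locally constant"; it is stable under precomposition
(S6642), so the generic stratification bookkeeping of `H29Strata` applies.
-/

set_option autoImplicit false
open CategoryTheory CategoryTheory.Limits AlgebraicGeometry Opposite TopologicalSpace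
universe u
open Groth.Agent.R2.H29.Strata

namespace Groth.Agent.R2.H29.Constr

variable {X Y : Scheme.{u}}

/-- FLC is invariant under isomorphism -/
lemma flc_of_iso {F F' : EtCoh.Ab X} (e : F ≅ F') (h : EtCoh.IsFiniteLocallyConstant F) :
    EtCoh.IsFiniteLocallyConstant F' := by
  obtain ⟨ι, U, hU, h⟩ := h
  refine ⟨ι, U, hU, fun i => ?_⟩
  obtain ⟨M, hM, hfin, ⟨α⟩⟩ := h i
  exact ⟨M, hM, hfin,
    ⟨(X.smallEtaleTopology.overPullback AddCommGrpCat.{u + 1} (U i)).mapIso e.symm ≪≫ α⟩⟩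

/-- the predicate "the pullback of `F` along `g` is finite locally constant" -/
def PF (F : EtCoh.Ab X) : MorPred X := fun _ g => EtCoh.IsFiniteLocallyConstant ((EtCoh.pull g).obj F)

lemma PF_pull (f : X ⟶ Y) (F : EtCoh.Ab Y) {T : Scheme.{u}} (g : T ⟶ X) :
    PF F (g ≫ f) ↔ PF ((EtCoh.pull f).obj F) g :=
  ⟨fun h => flc_of_iso ((EtCore.pullComp g f).app F) h,
    fun h => flc_of_iso ((EtCore.pullComp g f).app F).symm h⟩

lemma PF_stable (F : EtCoh.Ab X) : (PF F).Stable := by
  intro T T' h g hg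
  rw [PF_pull]
  exact (Groth.Agent.S6642.result h).2.1 _ hg

lemma PF_iso {F F' : EtCoh.Ab X} (e : F ≅ F') {T : Scheme.{u}} (g : T ⟶ X) (h : PF F g) : PF F' g :=
  flc_of_iso ((EtCoh.pull g).mapIso e) h

lemma adaptedStrata_iff (F : EtCoh.Ab X) (S : Set X) :
    EtPBC.AdaptedStrata F S ↔ StrataP (PF F) S := by
  constructor
  · rintro ⟨n, T, g, h1, h2, h3, h4, h5⟩
    exact ⟨n, T, g, h1, h2, h3, h4, fun i => h5 i⟩
  · rintro ⟨n, T, g, h1, h2, h3, h4, h5⟩
    exact ⟨n, T, g, h1, h2, h3, h4, fun i _ => h5 i⟩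

lemma isConstructible_iff (F : EtCoh.Ab X) :
    EtPBC.IsConstructible F ↔ ∀ U : X.Opens, IsAffineOpen U → StrataP (PF F) (U : Set X) :=
  forall₂_congr fun _ _ => adaptedStrata_iff F _

/-- kernels and cokernels along a morphism -/
lemma PF_kernel_cokernel {F G : EtCoh.Ab X} (φ : F ⟶ G) {T : Scheme.{u}} (g : T ⟶ X)
    (hF : PF F g) (hG : PF G g) : PF (kernel φ) g ∧ PF (cokernel φ) g := by
  have := Groth.Agent.S0101.result g
  have h := (Groth.Agent.S6645.result T).1 _ _ ((EtCoh.pull g).map φ) hF hG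
  exact ⟨flc_of_iso (PreservesKernel.iso (EtCoh.pull g) φ).symm h.1,
    flc_of_iso (PreservesCokernel.iso (EtCoh.pull g) φ).symm h.2⟩

/-- extensions along a morphism -/
lemma PF_extension (S : ShortComplex (EtCoh.Ab X)) (hS : S.ShortExact) {T : Scheme.{u}} (g : T ⟶ X)
    (h1 : PF S.X₁ g) (h3 : PF S.X₃ g) : PF S.X₂ g := by
  have := Groth.Agent.S0101.result g
  have hS' : (S.map (EtCoh.pull g)).ShortExact := hS.map_of_exact (EtCoh.pull g)
  exact (Groth.Agent.S6645.result T).2.prop_X₂_of_shortExact hS' h1 h3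

end Groth.Agent.R2.H29.Constr
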