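import Groth.Agent.R2.H29SubConstr
import Groth.Prelude.Def_ARSys
import Groth.Agent.S0127
import Groth.Agent.S0129

/-!
# Members of an adic system of abelian etale sheaves with constructible first member
-/

set_option autoImplicit false
open CategoryTheory CategoryTheory.Limits AlgebraicGeometry Opposite TopologicalSpace Topology
universe u w v u'
open Groth.Agent.R2.H29.Strata Groth.Agent.R2.H29.Constr Groth.Agent.R2.H29.SubConstr

namespace Groth.Agent.R2.H29.Adic

section Abstract

variable {C : Type u'} [Category.{v} C] [Abelian C] {A : Type w} [CommRing A] [Linear A C]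

lemma IsQuot.epi {I : Ideal A} {X Q : C} {p : X ⟶ Q} (h : ARSys.IsQuot I p) : Epi p := by
  constructor
  intro Z g g' hgg
  have hk : ARSys.HomKilledBy I (p ≫ g) := fun a ha => by
    have : a • (p ≫ g) = p ≫ (a • 𝟙 Q) ≫ g := by simp
    rw [this, h.1 a ha]; simp
  obtain ⟨ψ, _, hu⟩ := h.2 Z (p ≫ g) hk
  exact (hu g rfl).trans (hu g' hgg.symm).symm

lemma IsQuot.smul_comp {a : A} {X Q : C} {p : X ⟶ Q} (h : ARSys.IsQuot (Ideal.span {a}) p) :
    (a • 𝟙 X) ≫ p = 0 := by
  have : (a • 𝟙 X) ≫ p = p ≫ (a • 𝟙 Q) := by simp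
  rw [this, h.1 a (Ideal.mem_span_singleton_self a), comp_zero]

lemma IsQuot.exact {a : A} {X Q : C} {p : X ⟶ Q} (h : ARSys.IsQuot (Ideal.span {a}) p) :
    (ShortComplex.mk (a • 𝟙 X) p (IsQuot.smul_comp h)).Exact := by
  apply ShortComplex.exact_of_g_is_cokernel
  have hk : ∀ {Y : C} (φ : X ⟶ Y), (a • 𝟙 X) ≫ φ = 0 → ARSys.HomKilledBy (Ideal.span {a}) φ := by
    intro Y φ hφ b hb
    obtain ⟨c, rfl⟩ := Ideal.mem_span_singleton'.1 hb
    have : (c * a) • φ = c • ((a • 𝟙 X) ≫ φ) := by simp [mul_smul]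
    rw [this, hφ, smul_zero]
  refine CokernelCofork.IsColimit.ofπ _ _ (fun {Y} φ hφ => (h.2 Y φ (hk φ hφ)).exists.choose)
    (fun {Y} φ hφ => (h.2 Y φ (hk φ hφ)).exists.choose_spec) ?_
  intro Y φ hφ ψ hψ
  exact (h.2 Y φ (hk φ hφ)).unique hψ (h.2 Y φ (hk φ hφ)).exists.choose_spec

/-- in an adic system for a principal ideal, the kernel of `F_{n+1} ⟶ F_n` is a quotient of `F_0` -/
lemma exists_epi_kernel {ℓ : A} {F : ARSys.PS C} (hF : ARSys.IsAdic (Ideal.span {ℓ}) F) (n : ℕ) :
    ∃ ψ : F.obj (op 0) ⟶ kernel (ARSys.tr F (Nat.le_succ n)), Epi ψ := by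
  have hp := hF.2 n (n + 1) (Nat.le_succ n)
  rw [Ideal.span_singleton_pow] at hp
  have h0 := hF.2 0 (n + 1) (Nat.zero_le _)
  rw [zero_add, pow_one] at h0
  have hepi0 := IsQuot.epi h0
  have hm : ARSys.HomKilledBy (Ideal.span {ℓ}) (ℓ ^ (n + 1) • 𝟙 (F.obj (op (n + 1)))) := by
    intro a ha
    obtain ⟨c, rfl⟩ := Ideal.mem_span_singleton'.1 ha
    rw [smul_smul]
    refine hF.1 (n + 1) _ ?_
    have : c * ℓ * ℓ ^ (n + 1) = c * ℓ ^ (n + 1 + 1) := by ring
    rw [this]
    exact Ideal.mul_mem_left _ c (Ideal.pow_mem_pow (Ideal.mem_span_singleton_self ℓ) _)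
  obtain ⟨ψ₀, hψ₀, -⟩ := h0.2 _ _ hm
  have hz : ψ₀ ≫ ARSys.tr F (Nat.le_succ n) = 0 := by
    rw [← cancel_epi (ARSys.tr F (Nat.zero_le (n + 1))), ← Category.assoc, hψ₀, comp_zero]
    exact IsQuot.smul_comp hp
  refine ⟨kernel.lift _ ψ₀ hz, ?_⟩
  have hex := (IsQuot.exact hp).epi_kernelLift
  have e : kernel.lift (ARSys.tr F (Nat.le_succ n)) (ℓ ^ (n + 1) • 𝟙 (F.obj (op (n + 1))))
      (IsQuot.smul_comp hp) = ARSys.tr F (Nat.zero_le (n + 1)) ≫ kernel.lift _ ψ₀ hz := by
    ext
    simp [hψ₀]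
  dsimp at hex
  rw [e] at hex
  exact epi_of_epi (ARSys.tr F (Nat.zero_le (n + 1))) _

end Abstract

section Sheaf

variable {X : Scheme.{u}}

lemma isConstructible_kernel_cokernel {F G : EtCoh.Ab X} (φ : F ⟶ G)
    (hF : EtPBC.IsConstructible F) (hG : EtPBC.IsConstructible G) :
    EtPBC.IsConstructible (kernel φ) ∧ EtPBC.IsConstructible (cokernel φ) := by
  rw [isConstructible_iff] at hF hG ⊢
  rw [isConstructible_iff]
  refine ⟨fun U hU => ?_, fun U hU => ?_⟩
  · exact (StrataP.inf (PF_stable F) (PF_stable G) (hF U hU) (hG U hU)).mono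
      fun T g hg => (PF_kernel_cokernel φ g hg.1 hg.2).1
  · exact (StrataP.inf (PF_stable F) (PF_stable G) (hF U hU) (hG U hU)).mono
      fun T g hg => (PF_kernel_cokernel φ g hg.1 hg.2).2

lemma isConstructible_extension (S : ShortComplex (EtCoh.Ab X)) (hS : S.ShortExact)
    (h1 : EtPBC.IsConstructible S.X₁) (h3 : EtPBC.IsConstructible S.X₃) :
    EtPBC.IsConstructible S.X₂ := by
  rw [isConstructible_iff] at h1 h3 ⊢
  intro U hU
  exact (StrataP.inf (PF_stable S.X₁) (PF_stable S.X₃) (h1 U hU) (h3 U hU)).mono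
    fun T g hg => PF_extension S hS g hg.1 hg.2

lemma isConstructible_of_iso {F G : EtCoh.Ab X} (e : F ≅ G) (hF : EtPBC.IsConstructible F) :
    EtPBC.IsConstructible G := by
  rw [isConstructible_iff] at hF ⊢
  exact fun U hU => (hF U hU).mono fun T g hg => PF_iso e g hg

/-- on a noetherian scheme, a quotient of a constructible abelian sheaf is constructible -/
lemma isConstructible_of_epi_noeth [IsNoetherian X] {F Q : EtCoh.Ab X} (π : F ⟶ Q) [Epi π]
    (hF : EtPBC.IsConstructible F) : EtPBC.IsConstructible Q := by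
  have hK : EtPBC.IsConstructible (kernel π) := by
    rw [isConstructible_iff] at hF ⊢
    have hF' : StrataP (PF F) (Set.univ : Set X) := StrataP.univ_of_affine (PF_stable F) hF
    exact fun U _ => StrataP.of_univ (PF_stable _) (strataP_sub (kernel.ι π) hF') U
  have hC : EtPBC.IsConstructible (cokernel (kernel.ι π)) :=
    (isConstructible_kernel_cokernel (kernel.ι π) hK hF).2
  let e : cokernel (kernel.ι π) ≅ Q :=
    (colimit.isColimit (parallelPair (kernel.ι π) 0)).coconePointUniqueUpToIso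
      (Abelian.epiIsCokernelOfKernel (limit.cone (parallelPair π 0)) (limit.isLimit _))
  exact isConstructible_of_iso e hC

/-- on a locally noetherian scheme, a quotient of a constructible abelian sheaf is constructible -/
lemma isConstructible_of_epi_locNoeth [IsLocallyNoetherian X] {F Q : EtCoh.Ab X} (π : F ⟶ Q)
    [Epi π] (hF : EtPBC.IsConstructible F) : EtPBC.IsConstructible Q := by
  refine Groth.Agent.S0129.result Q (fun i : X.affineOpens => (i : X.Opens))
    (iSup_affineOpens_eq_top X) fun i => ?_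
  have : CompactSpace ((i : X.Opens) : Scheme.{u}) := (isCompact_iff_compactSpace.1 i.2.isCompact)
  have : IsNoetherian ((i : X.Opens) : Scheme.{u}) := {}
  have : PreservesColimitsOfSize.{0, 0} (EtCoh.pull (i : X.Opens).ι) :=
    (EtCoh.pullPushAdj (i : X.Opens).ι).leftAdjoint_preservesColimits
  have : Epi ((EtCoh.pull (i : X.Opens).ι).map π) := inferInstance
  exact isConstructible_of_epi_noeth ((EtCoh.pull (i : X.Opens).ι).map π)
    (Groth.Agent.S0127.result _ F hF)

/-- the members of an adic system (for a principal ideal) of abelian etale sheaves on a locally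
noetherian scheme are constructible as soon as the first one is -/
theorem isConstructible_of_isAdic [IsLocallyNoetherian X] {A : Type w} [CommRing A]
    [Linear A (EtCoh.Ab X)] {ℓ : A} (F : ARSys.PS (EtCoh.Ab X))
    (hF : ARSys.IsAdic (Ideal.span {ℓ}) F) (h0 : EtPBC.IsConstructible (F.obj (op 0))) (n : ℕ) :
    EtPBC.IsConstructible (F.obj (op n)) := by
  induction n with
  | zero => exact h0
  | succ n ih =>
    obtain ⟨ψ, hψ⟩ := exists_epi_kernel hF n
    have hK := isConstructible_of_epi_locNoeth ψ h0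
    have hp := hF.2 n (n + 1) (Nat.le_succ n)
    have := IsQuot.epi hp
    let S : ShortComplex (EtCoh.Ab X) :=
      ShortComplex.mk (kernel.ι (ARSys.tr F (Nat.le_succ n))) (ARSys.tr F (Nat.le_succ n))
        (kernel.condition _)
    have hS : S.ShortExact :=
      { exact := ShortComplex.exact_of_f_is_kernel _ (kernelIsKernel _)
        mono_f := (inferInstance : Mono (kernel.ι _))
        epi_g := this }
    exact isConstructible_extension S hS hK ih

end Sheaf


end Groth.Agent.R2.H29.Adic
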