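import Groth.Agent.R2.H29SubChain
import Groth.Agent.R2.H29Adic

/-!
# The support of a constructible abelian sheaf is constructible
-/

set_option autoImplicit false
set_option linter.style.haveILetI false
open CategoryTheory CategoryTheory.Limits AlgebraicGeometry Opposite TopologicalSpace Topology
universe u
open Groth.Agent.R2.H29.ConstSheaf Groth.Agent.R2.H29.EtLocConst Groth.Agent.R2.H29.EtExtAb
  Groth.Agent.R2.H29.Strata Groth.Agent.R2.H29.Constr

namespace Groth.Agent.R2.H29.Supp

section Germ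

variable {X : Scheme.{u}} {A : Type (u+2)} [Category.{u+1} A]
  {FA : A → A → Type*} {CA : A → Type (u+1)} [∀ X Y, FunLike (FA X Y) (CA X) (CA Y)]
  [ConcreteCategory.{u+1} A FA] [HasColimitsOfSize.{u, u} A]
  [PreservesFilteredColimitsOfSize.{u, u} (forget A)]
  [∀ V : X.Etale, HasWeakSheafify (X.smallEtaleTopology.over V) A]
  [∀ V : X.Etale, (X.smallEtaleTopology.over V).WEqualsLocallyBijective A]
  [HasLimitsOfSize.{u, u+1} A]

/-- the stalk of a sheaf trivialized by `τ : M ⟶ F(V)` at a geometric point lifting to `V` is `M` -/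
lemma germ_triv_bijective {F : Sheaf X.smallEtaleTopology A} {V : X.Etale} {M : A}
    {τ : M ⟶ F.obj.obj (op V)} (hτ : IsTriv X.smallEtaleTopology F V τ)
    {Ω : Type u} [Field Ω] [IsSepClosed Ω] (ξ : Spec (CommRingCat.of Ω) ⟶ X)
    (x₀ : (Scheme.pointSmallEtale ξ).fiber.obj V) :
    Function.Bijective
      (fun m : ToType M => (Scheme.pointSmallEtale ξ).toPresheafFiber V x₀ F.obj (τ m)) := by
  let Φ := Scheme.pointSmallEtale ξ
  constructor
  · intro m m' h
    obtain ⟨W, g, w, hw, hg⟩ := (Φ.toPresheafFiber_eq_iff' V x₀ (τ m) (τ m')).mp h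
    exact (hτ.restrict X.smallEtaleTopology g).injective X.smallEtaleTopology
      (bot_not_mem W ((w.left : Spec (CommRingCat.of Ω) ⟶ W.left)
        (default : Spec (CommRingCat.of Ω))))
      (by rw [ConcreteCategory.comp_apply, ConcreteCategory.comp_apply]; exact hg)
  · intro σ
    obtain ⟨U, u, s, rfl⟩ := Φ.toPresheafFiber_jointly_surjective (P := F.obj) σ
    let m : Φ.fiber.Elements := IsCofiltered.min (⟨U, u⟩ : Φ.fiber.Elements) ⟨V, x₀⟩
    let gU : m ⟶ ⟨U, u⟩ := IsCofiltered.minToLeft _ _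
    let gV : m ⟶ ⟨V, x₀⟩ := IsCofiltered.minToRight _ _
    have hgU : Φ.fiber.map gU.1 m.2 = u := gU.2
    have hgV : Φ.fiber.map gV.1 m.2 = x₀ := gV.2
    have hτW := hτ.restrict X.smallEtaleTopology gV.1
    obtain ⟨W', k, ⟨a, ha⟩, w', hw'⟩ := Φ.jointly_surjective _
      (hτW.constSieve_mem X.smallEtaleTopology (F.obj.map gU.1.op s)) m.2
    refine ⟨a, ?_⟩
    show Φ.toPresheafFiber V x₀ F.obj (τ a) = Φ.toPresheafFiber U u F.obj s
    have step1 : Φ.toPresheafFiber m.1 m.2 F.obj (F.obj.map gV.1.op (τ a)) =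
        Φ.toPresheafFiber V x₀ F.obj (τ a) := by
      rw [Φ.toPresheafFiber_w_apply, hgV]
    have step2 : ∀ y : ToType (F.obj.obj (op m.1)),
        Φ.toPresheafFiber W' w' F.obj (F.obj.map k.op y) = Φ.toPresheafFiber m.1 m.2 F.obj y := by
      intro y
      rw [Φ.toPresheafFiber_w_apply, hw']
    have step3 : Φ.toPresheafFiber m.1 m.2 F.obj (F.obj.map gU.1.op s) =
        Φ.toPresheafFiber U u F.obj s := by
      rw [Φ.toPresheafFiber_w_apply, hgU]
    have ha' : F.obj.map k.op (F.obj.map gU.1.op s) =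
        F.obj.map k.op (F.obj.map gV.1.op (τ a)) := by
      rw [ha, ConcreteCategory.comp_apply]
    exact step1.symm.trans ((step2 _).symm.trans ((congrArg _ ha'.symm).trans
      ((step2 _).trans step3)))

end Germ


section Supp

open Groth.Agent.Lib.Helper16.EtStalk Groth.Agent.R2.H29.SubChain

variable {T : Scheme.{u}}

lemma range_geom {Ω : Type u} [Field Ω] (ξ : Spec (CommRingCat.of Ω) ⟶ T) :
    Set.range ξ = {ξ default} := by
  ext x
  constructor
  · rintro ⟨y, rfl⟩
    rw [Subsingleton.elim y default]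
    rfl
  · rintro rfl
    exact ⟨default, rfl⟩

/-- for a sheaf trivialized on `V` by `τ : M ⟶ G(V)`, the stalk at a geometric point lifting to `V`
vanishes iff `M` does -/
lemma isZero_stalk_iff_of_isTriv {G : EtCoh.Ab T} {V : T.Etale} {M : AddCommGrpCat.{u + 1}}
    {τ : M ⟶ G.obj.obj (op V)} (hτ : IsTriv T.smallEtaleTopology G V τ)
    {Ω : Type u} [Field Ω] [IsSepClosed Ω] (ξ : Spec (CommRingCat.of Ω) ⟶ T)
    (x₀ : (Scheme.pointSmallEtale ξ).fiber.obj V) :
    IsZero ((EtCoh.stalk ξ).obj G) ↔ Subsingleton M := by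
  have hb := germ_triv_bijective hτ ξ x₀
  rw [AddCommGrpCat.isZero_iff_subsingleton]
  exact ⟨fun h => @Function.Injective.subsingleton _ _ _ hb.1 h,
    fun h => @Function.Surjective.subsingleton _ _ _ h hb.2⟩

/-- the support of a finite locally constant sheaf is open and closed -/
lemma supp_flc {G : EtCoh.Ab T} (hG : EtCoh.IsFiniteLocallyConstant G) :
    IsOpen (EtPBC.supp G) ∧ IsClosed (EtPBC.supp G) := by
  obtain ⟨ι, U, hU, h⟩ := hG
  choose M hM hfin α using h
  have hτ := fun i => isTriv_of_iso T.smallEtaleTopology G (U i) (α i).some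
  have hsub : ∀ i, Subsingleton (AddCommGrpCat.of (ULift.{u + 1} (M i))) ↔ Subsingleton (M i) :=
    fun i => ⟨fun h => Equiv.ulift.symm.subsingleton, fun h => Equiv.ulift.subsingleton⟩
  have key : ∀ (i : ι) (y : (U i).left) {Ω : Type u} [Field Ω] [IsSepClosed Ω]
      (ξ : Spec (CommRingCat.of Ω) ⟶ T), (U i).hom y = ξ default →
      (IsZero ((EtCoh.stalk ξ).obj G) ↔ Subsingleton (M i)) := by
    intro i y Ω _ _ ξ hy
    obtain ⟨l, hl, -⟩ := Scheme.exists_fac_of_etale_of_isSepClosed (U i).hom ξ y hy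
    rw [isZero_stalk_iff_of_isTriv (hτ i) ξ (Over.homMk l hl)]
    exact hsub i
  have hS : EtPBC.supp G = ⋃ (i : ι) (_ : ¬ Subsingleton (M i)), Set.range (U i).hom := by
    ext t
    constructor
    · rintro ⟨Ω, _, _, ξ, hr, hnz⟩
      have ht : ξ default = t := by
        have : ξ default ∈ Set.range ξ := ⟨default, rfl⟩
        rw [hr] at this
        exact this
      obtain ⟨i, y, hy⟩ := hU t
      refine Set.mem_iUnion₂.2 ⟨i, fun hs => hnz ((key i y ξ (hy.trans ht.symm)).2 hs), y, hy⟩
    · intro ht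
      obtain ⟨i, hi, y, rfl⟩ := Set.mem_iUnion₂.1 ht
      obtain ⟨Ω, _, _, ξ, x, hx⟩ := exists_geometric_point (U i) y
      have hξ : ξ default = (U i).hom y := by
        have h1 : x.left ≫ (U i).hom = ξ := Over.w x
        have h2 := congrArg (fun f : Spec (CommRingCat.of Ω) ⟶ T => f default) h1.symm
        rw [← hx]
        exact h2
      refine ⟨Ω, inferInstance, inferInstance, ξ, by rw [range_geom, hξ], fun hz => hi ?_⟩
      exact (hsub i).1 ((isZero_stalk_iff_of_isTriv (hτ i) ξ x).1 hz)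
  have hSc : (EtPBC.supp G)ᶜ = ⋃ (i : ι) (_ : Subsingleton (M i)), Set.range (U i).hom := by
    ext t
    constructor
    · intro ht
      obtain ⟨i, y, hy⟩ := hU t
      by_cases hs : Subsingleton (M i)
      · exact Set.mem_iUnion₂.2 ⟨i, hs, y, hy⟩
      · exact (ht (by rw [hS]; exact Set.mem_iUnion₂.2 ⟨i, hs, y, hy⟩)).elim
    · intro ht
      obtain ⟨i, hi, y, rfl⟩ := Set.mem_iUnion₂.1 ht
      rintro ⟨Ω, _, _, ξ, hr, hnz⟩
      have ht : ξ default = (U i).hom y := by
        have : ξ default ∈ Set.range ξ := ⟨default, rfl⟩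
        rw [hr] at this
        exact this
      exact hnz ((key i y ξ ht.symm).2 hi)
  constructor
  · rw [hS]
    exact isOpen_iUnion fun i => isOpen_iUnion fun _ => (U i).hom.isOpenMap.isOpen_range
  · rw [← isOpen_compl_iff, hSc]
    exact isOpen_iUnion fun i => isOpen_iUnion fun _ => (U i).hom.isOpenMap.isOpen_range

/-- the support is compatible with pullback along immersions -/
lemma supp_pull_immersion {X : Scheme.{u}} (g : T ⟶ X) [IsImmersion g] (F : EtCoh.Ab X) :
    EtPBC.supp ((EtCoh.pull g).obj F) = g ⁻¹' EtPBC.supp F := by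
  ext t
  constructor
  · rintro ⟨Ω, _, _, ξ', hr, hnz⟩
    have ht : ξ' default = t := by
      have : ξ' default ∈ Set.range ξ' := ⟨default, rfl⟩
      rw [hr] at this
      exact this
    refine ⟨Ω, inferInstance, inferInstance, ξ' ≫ g, ?_, fun hz => hnz ?_⟩
    · rw [range_geom, ← ht]
      rfl
    · exact hz.of_iso ((Groth.Agent.S0101.stalkPullIso g ξ').app F).symm
  · rintro ⟨Ω, _, _, ξ, hr, hnz⟩
    have hξ : ξ default = g t := by
      have : ξ default ∈ Set.range ξ := ⟨default, rfl⟩
      rw [hr] at this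
      exact this
    obtain ⟨ξ', rfl, ht⟩ := exists_lift_immersion g ξ t hξ.symm
    exact ⟨Ω, inferInstance, inferInstance, ξ', by rw [range_geom, ht],
      fun hz => hnz (hz.of_iso ((Groth.Agent.S0101.stalkPullIso g ξ').app F))⟩

/-- the support of a constructible abelian sheaf on a qcqs scheme is constructible -/
theorem isConstructible_supp {X : Scheme.{u}} [CompactSpace X] [QuasiSeparatedSpace X]
    (F : EtCoh.Ab X) (hF : EtPBC.IsConstructible F) : IsConstructible (EtPBC.supp F) := by
  rw [isConstructible_iff] at hF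
  obtain ⟨n, T, g, h1, h2, h3, h4, h5⟩ := StrataP.univ_of_affine (PF_stable F) hF
  have hr : ∀ i, IsConstructible (Set.range (g i)) := fun i => by
    have := (h2 i).image_of_isOpenEmbedding isOpen_univ.isOpenEmbedding_subtypeVal
      (by rw [Subtype.range_coe]; exact IsRetrocompact.univ)
    rwa [Subtype.image_preimage_coe, Set.univ_inter] at this
  have hsupp : EtPBC.supp F = ⋃ i, g i '' EtPBC.supp ((EtCoh.pull (g i)).obj F) := by
    ext x
    constructor
    · intro hx
      have : x ∈ ⋃ i, Set.range (g i) := by rw [h4]; trivial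
      obtain ⟨i, t, rfl⟩ := Set.mem_iUnion.1 this
      have := h1 i
      exact Set.mem_iUnion.2 ⟨i, t, by rw [supp_pull_immersion]; exact hx, rfl⟩
    · intro hx
      obtain ⟨i, t, ht, rfl⟩ := Set.mem_iUnion.1 hx
      have := h1 i
      rw [supp_pull_immersion] at ht
      exact ht
  rw [hsupp]
  refine IsConstructible.iUnion fun i => ?_
  have := h1 i
  obtain ⟨ho, hc⟩ := supp_flc (h5 i)
  refine isConstructible_image_of_isEmbedding (g i).isEmbedding (hr i) ?_
  exact IsRetrocompact.isConstructible ho (fun K hK _ => hK.inter_left hc)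

end Supp


section Surj

open Groth.Agent.Lib.Helper16.EtStalk Groth.Agent.R2.H29.Adic

variable {X : Scheme.{u}}

/-- a map of abelian etale sheaves is surjective on the stalk at `ξ` iff the stalk of its cokernel
vanishes -/
lemma surjective_stalk_iff {F G : EtCoh.Ab X} (φ : F ⟶ G) {Ω : Type u} [Field Ω] [IsSepClosed Ω]
    (ξ : Spec (CommRingCat.of Ω) ⟶ X) :
    Function.Surjective ((EtCoh.stalk ξ).map φ) ↔ IsZero ((EtCoh.stalk ξ).obj (cokernel φ)) := by
  have : PreservesColimitsOfSize.{0, 0} (EtCoh.stalk (X := X) ξ) :=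
    ((Scheme.pointSmallEtale ξ).skyscraperSheafAdjunction
      (A := AddCommGrpCat.{u + 1})).leftAdjoint_preservesColimits
  rw [← AddCommGrpCat.epi_iff_surjective, Preadditive.epi_iff_isZero_cokernel]
  exact (PreservesCokernel.iso (EtCoh.stalk ξ) φ).symm.isZero_iff

/-- the locus where a map of constructible abelian sheaves is surjective on stalks is constructible -/
theorem isConstructible_surjective_locus [CompactSpace X] [QuasiSeparatedSpace X]
    {F G : EtCoh.Ab X} (φ : F ⟶ G) (hF : EtPBC.IsConstructible F) (hG : EtPBC.IsConstructible G) :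
    IsConstructible {x : X | ∀ (Ω : Type u) [Field Ω] [IsSepClosed Ω]
      (ξ : Spec (CommRingCat.of Ω) ⟶ X), Set.range ξ = {x} →
        Function.Surjective ((EtCoh.stalk ξ).map φ)} := by
  have hC := (isConstructible_kernel_cokernel φ hF hG).2
  have h := (isConstructible_supp (cokernel φ) hC).compl
  convert h using 1
  ext x
  simp only [Set.mem_ofPred_eq, Set.mem_compl_iff, EtPBC.supp, not_exists, not_and, not_not]
  exact ⟨fun h Ω _ _ ξ hr => (surjective_stalk_iff φ ξ).1 (h Ω ξ hr),
    fun h Ω _ _ ξ hr => (surjective_stalk_iff φ ξ).2 (h Ω inferInstance inferInstance ξ hr)⟩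

end Surj

end Groth.Agent.R2.H29.Supp
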