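import Groth.Prelude.Def_EtMod2
import Groth.Agent.R2.H29ARMod
import Groth.Agent.R2.H29Supp
import Groth.Agent.S0100

/-!
# Stalks of sheaves of modules on the small etale site: exactness, linearity, pullback, finiteness
-/

set_option autoImplicit false
open CategoryTheory CategoryTheory.Limits AlgebraicGeometry Opposite
universe u
open Groth.Agent.R2.H29.ConstSheaf Groth.Agent.R2.H29.Strata

namespace Groth.Agent.R2.H29.ARStalk

variable (Λ : Type (u + 1)) [CommRing Λ]

instance ab5 : AB5OfSize.{u, u} (ModuleCat.{u + 1} Λ) :=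
  AB5OfSize_of_univLE.{u, u, u + 1, u + 1} (ModuleCat.{u + 1} Λ)

instance hasLimits : HasLimitsOfSize.{u, u} (ModuleCat.{u + 1} Λ) :=
  hasLimitsOfSizeShrink.{u, u, u + 1, u + 1} (ModuleCat.{u + 1} Λ)

instance presFilt : PreservesFilteredColimitsOfSize.{u, u} (forget (ModuleCat.{u + 1} Λ)) :=
  preservesFilteredColimitsOfSize_shrink.{u, u + 1, u, u + 1} _

variable {X Y : Scheme.{u}} {Ω : Type u} [Field Ω] [IsSepClosed Ω]

instance stalk_preservesFiniteLimits (s : Spec (CommRingCat.of Ω) ⟶ X) :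
    PreservesFiniteLimits (EtModW.stalk Λ s) := by
  unfold EtModW.stalk
  infer_instance

instance stalk_preservesFiniteColimits (s : Spec (CommRingCat.of Ω) ⟶ X) :
    PreservesFiniteColimits (EtModW.stalk Λ s) := by
  unfold EtModW.stalk
  infer_instance

instance stalk_additive (s : Spec (CommRingCat.of Ω) ⟶ X) : (EtModW.stalk Λ s).Additive :=
  Functor.additive_of_preserves_binary_products _

instance stalk_linear (s : Spec (CommRingCat.of Ω) ⟶ X) : (EtModW.stalk Λ s).Linear Λ where
  map_smul {F G} φ a := by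
    apply (Scheme.pointSmallEtale s).presheafFiber_hom_ext
    intro V x
    change (Scheme.pointSmallEtale s).toPresheafFiber V x F.obj ≫
      (Scheme.pointSmallEtale s).presheafFiber.map (a • φ).hom =
      (Scheme.pointSmallEtale s).toPresheafFiber V x F.obj ≫
        (a • (Scheme.pointSmallEtale s).presheafFiber.map φ.hom)
    rw [GrothendieckTopology.Point.toPresheafFiber_naturality, Linear.comp_smul,
      GrothendieckTopology.Point.toPresheafFiber_naturality,
      show (a • φ).hom.app (op V) = a • φ.hom.app (op V) from rfl, Linear.smul_comp]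

set_option backward.isDefEq.respectTransparency.types false in
/-- skyscraper sheaves push forward to skyscraper sheaves -/
noncomputable def skySheafIsoMod (f : X ⟶ Y) (ξ : Spec (CommRingCat.of Ω) ⟶ X) :
    (Scheme.pointSmallEtale ξ).skyscraperSheafFunctor (A := ModuleCat.{u + 1} Λ) ⋙ EtModW.push Λ f ≅
      (Scheme.pointSmallEtale (ξ ≫ f)).skyscraperSheafFunctor :=
  NatIso.ofComponents
    (fun M => (fullyFaithfulSheafToPresheaf _ _).preimageIso
      ((Groth.Agent.S0100.skyIso (Groth.Agent.S0100.fiberIso f ξ)).app M))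
    (by
      intro M N g
      apply Sheaf.hom_ext
      exact (Groth.Agent.S0100.skyIso (A := ModuleCat.{u + 1} Λ)
        (Groth.Agent.S0100.fiberIso f ξ)).hom.naturality g)

set_option backward.isDefEq.respectTransparency.types false in
/-- the stalk of a pullback is the stalk at the image geometric point -/
noncomputable def stalkPullIsoMod (f : X ⟶ Y) (ξ : Spec (CommRingCat.of Ω) ⟶ X) :
    EtModW.stalk Λ (ξ ≫ f) ≅ EtModW.pull Λ f ⋙ EtModW.stalk Λ ξ :=
  let adj₁ := (FixPt.pullPushAdj (Λ := Λ) f).comp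
    ((Scheme.pointSmallEtale ξ).skyscraperSheafAdjunction (A := ModuleCat.{u + 1} Λ))
  let adj₂ := (Scheme.pointSmallEtale (ξ ≫ f)).skyscraperSheafAdjunction (A := ModuleCat.{u + 1} Λ)
  (conjugateIsoEquiv adj₁ adj₂).symm (skySheafIsoMod Λ f ξ)

/-- the stalks of a finite type locally constant sheaf of modules are finitely generated -/
lemma finite_stalk_of_ftlc {T : Scheme.{u}} {G : EtModW.Mod Λ T} (hG : EtModW.IsFTLocConst Λ G)
    (ξ : Spec (CommRingCat.of Ω) ⟶ T) : Module.Finite Λ ((EtModW.stalk Λ ξ).obj G) := by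
  obtain ⟨ι, U, hU, h⟩ := hG
  obtain ⟨i, y, hy⟩ := hU (ξ default)
  obtain ⟨M, hM, hmod, hfin, ⟨α⟩⟩ := h i
  obtain ⟨l, hl, -⟩ := Scheme.exists_fac_of_etale_of_isSepClosed (U i).hom ξ y hy
  have hτ := isTriv_of_iso T.smallEtaleTopology G (U i) α
  have hb := Groth.Agent.R2.H29.Supp.germ_triv_bijective hτ ξ (Over.homMk l hl)
  let τ := constSec (T.smallEtaleTopology.over (U i)) (ModuleCat.{u + 1} Λ) (ModuleCat.of Λ M)
    (Over.mk (𝟙 (U i))) ≫ α.inv.hom.app (op (Over.mk (𝟙 (U i))))
  let φ : ModuleCat.of Λ M ⟶ (EtModW.stalk Λ ξ).obj G :=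
    τ ≫ (Scheme.pointSmallEtale ξ).toPresheafFiber (U i) (Over.homMk l hl) G.obj
  have hsurj : Function.Surjective φ.hom := fun σ => by
    obtain ⟨m, hm⟩ := hb.2 σ
    exact ⟨m, hm⟩
  exact Module.Finite.of_surjective φ.hom hsurj

/-- the stalks of a constructible sheaf of modules are finitely generated -/
theorem finite_stalk_of_constructible {F : EtModW.Mod Λ X} (hF : EtModW.IsConstructible Λ F)
    (ξ : Spec (CommRingCat.of Ω) ⟶ X) : Module.Finite Λ ((EtModW.stalk Λ ξ).obj F) := by
  obtain ⟨_, ⟨U, hU : IsAffineOpen U, rfl⟩, hxU, -⟩ :=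
    (X.isBasis_affineOpens).exists_subset_of_mem_open (Set.mem_univ (ξ default)) isOpen_univ
  obtain ⟨n, T, g, h1, h2, h3, h4, h5⟩ := hF U hU
  have hx : ξ default ∈ ⋃ i, Set.range (g i) := by rw [h4]; exact hxU
  obtain ⟨i, t, ht⟩ := Set.mem_iUnion.1 hx
  have := h1 i
  obtain ⟨ξ', rfl, -⟩ := Groth.Agent.R2.H29.SubChain.exists_lift_immersion (g i) ξ t ht
  have hfin : Module.Finite Λ ↑((EtModW.pull Λ (g i) ⋙ EtModW.stalk Λ ξ').obj F) :=
    finite_stalk_of_ftlc Λ (h5 i) ξ'
  let e := ((stalkPullIsoMod Λ (g i) ξ').app F).toLinearEquiv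
  exact Module.Finite.equiv e.symm

end Groth.Agent.R2.H29.ARStalk
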