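import Groth.Agent.R2.H29ARChain
import Groth.Agent.R2.H29ARStalk

/-!
# AR-null AR-adic systems of sheaves of modules are detected by limits of stalk systems
-/

set_option autoImplicit false
open CategoryTheory CategoryTheory.Limits AlgebraicGeometry Opposite
universe u v w u'

namespace Groth.Agent.R2.H29.ARNull

open Groth.Agent.Lib.Helper17.ARSys1 Groth.Agent.Lib.Helper17.ARSys11

section Abstract

variable {C : Type u'} [Category.{v} C]

/-- the limit of a system which is null up to translation vanishes -/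
lemma isZero_limit_of_isARNull [HasZeroMorphisms C] (G : ARSys.PS C) [HasLimit G]
    (h : ARSys.IsARNull G) : IsZero (limit G) := by
  obtain ⟨r, hr⟩ := h
  rw [IsZero.iff_id_eq_zero]
  apply limit.hom_ext
  intro n
  induction n using Opposite.rec with | _ n => ?_
  rw [Category.id_comp, zero_comp]
  have := limit.w G (homOfLE (Nat.le_add_right n r)).op
  rw [← this]
  have h0 : G.map (homOfLE (Nat.le_add_right n r)).op = 0 := hr n
  rw [h0, comp_zero]

variable [Abelian C] {A : Type w} [CommRing A] [Linear A C]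

/-- a morphism killed by a power of `I` vanishes as soon as all morphisms killed by `I` do -/
lemma eq_zero_of_homKilledBy_pow {I : Ideal A} {X : C}
    (h : ∀ (T : C) (φ : X ⟶ T), ARSys.HomKilledBy I φ → φ = 0) (k : ℕ) :
    ∀ (T : C) (φ : X ⟶ T), ARSys.HomKilledBy (I ^ k) φ → φ = 0 := by
  induction k with
  | zero =>
    intro T φ hφ
    have := hφ 1 (by rw [pow_zero, Ideal.one_eq_top]; exact Submodule.mem_top (R := A) (M := A))
    rwa [one_smul] at this
  | succ k ih =>
    intro T φ hφ
    refine ih T φ (fun a ha => ?_)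
    refine h T (a • φ) (fun b hb => ?_)
    rw [smul_smul]
    refine hφ (b * a) ?_
    rw [pow_succ, mul_comm b a]
    exact Ideal.mul_mem_mul ha hb

/-- an adic system whose degree-zero term vanishes is zero -/
lemma isZero_of_isAdic_of_isZero_zero {I : Ideal A} {Y : ARSys.PS C} (hY : ARSys.IsAdic I Y)
    (h0 : IsZero (Y.obj (op 0))) : IsZero Y := by
  refine Functor.isZero _ (fun n => ?_)
  induction n using Opposite.rec with | _ n => ?_
  rw [IsZero.iff_id_eq_zero]
  have hq := hY.2 0 n (Nat.zero_le n)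
  rw [zero_add, pow_one] at hq
  have h1 : ∀ (T : C) (φ : Y.obj (op n) ⟶ T), ARSys.HomKilledBy I φ → φ = 0 := by
    intro T φ hφ
    obtain ⟨ψ, hψ, -⟩ := hq.2 T φ hφ
    rw [← hψ, h0.eq_of_src ψ 0, comp_zero]
  exact eq_zero_of_homKilledBy_pow h1 (n + 1) _ (𝟙 _) (fun a ha => hY.1 n a ha)

end Abstract

section Sheaf

variable (Λ : Type (u + 1)) [CommRing Λ] [IsNoetherianRing Λ] {X : Scheme.{u}}

open Groth.Agent.R2.H29.SubChainMod Groth.Agent.R2.H29.ARStalk Groth.Agent.R2.H29.ARFunctor

omit [IsNoetherianRing Λ] in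
/-- a sheaf of modules all of whose geometric stalks vanish is zero -/
lemma isZero_of_stalks (H : EtModW.Mod Λ X)
    (h : ∀ (Ω : Type u) [Field Ω] [IsSepClosed Ω] (ξ : Spec (CommRingCat.of Ω) ⟶ X),
      IsZero ((EtModW.stalk Λ ξ).obj H)) : IsZero H := by
  have hepi : Epi (0 : H ⟶ H) := by
    apply epi_of_stalks Λ
    intro Ω _ _ ξ y
    exact ⟨0, (ModuleCat.isZero_iff_subsingleton.mp (h Ω ξ)).elim _ _⟩
  rw [IsZero.iff_id_eq_zero, ← cancel_epi (0 : H ⟶ H), zero_comp, zero_comp]

theorem isARNull_iff_limit_stalk (I : Ideal Λ) (F : ARSys.PS (EtModW.Mod Λ X))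
    (hF : ARSys.TermKilled I F ∧ ∃ (Y : ARSys.PS (EtModW.Mod Λ X)) (v : Y ⟶ F),
      ARSys.IsAdic I Y ∧ (∀ n : ℕ, EtModW.IsConstructible Λ (Y.obj (op n))) ∧ ARSys.IsARIso v) :
    ARSys.IsARNull F ↔
      ∀ (Ω : Type u) [Field Ω] [IsSepClosed Ω] (x : Spec (CommRingCat.of Ω) ⟶ X),
        IsZero (limit (F ⋙ EtModW.stalk Λ x)) := by
  constructor
  · intro h Ω _ _ x
    exact isZero_limit_of_isARNull _ (isARNull_comp (EtModW.stalk Λ x) h)
  · intro h
    obtain ⟨-, Y, v, hY, -, hv⟩ := hF
    -- the stalks of `Y₀` vanish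
    have hst : ∀ (Ω : Type u) [Field Ω] [IsSepClosed Ω] (x : Spec (CommRingCat.of Ω) ⟶ X),
        IsZero ((EtModW.stalk Λ x).obj (Y.obj (op 0))) := by
      intro Ω _ _ x
      have hv' := isARIso_whiskerRight (EtModW.stalk Λ x) v hv
      have hiso : IsIso (limMap (Functor.whiskerRight v (EtModW.stalk Λ x))) :=
        isIso_limMap_of_isARIso _ hv'
      have hlim : IsZero (limit (Y ⋙ EtModW.stalk Λ x)) :=
        (h Ω x).of_iso (asIso (limMap (Functor.whiskerRight v (EtModW.stalk Λ x))))
      have hY' := isAdic_comp (EtModW.stalk Λ x) hY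
      have hsurj : Function.Surjective
          ((limit.cone (Y ⋙ EtModW.stalk Λ x)).π.app ⟨0⟩) := by
        apply Concrete.surjective_π_app_zero_of_surjective_map (limit.isLimit _)
        intro n
        have : Epi ((Y ⋙ EtModW.stalk Λ x).map (homOfLE (Nat.le_succ n)).op) :=
          IsQuot.epi (hY'.2 n (n + 1) (Nat.le_succ n))
        exact (ModuleCat.epi_iff_surjective _).1 this
      rw [ModuleCat.isZero_iff_subsingleton]
      have hsub : Subsingleton ↑(limit (Y ⋙ EtModW.stalk Λ x)) :=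
        ModuleCat.isZero_iff_subsingleton.mp hlim
      exact @Function.Surjective.subsingleton _ _ _ hsub hsurj
    have hY0 : IsZero (Y.obj (op 0)) := isZero_of_stalks Λ _ hst
    have hYz : IsZero Y := isZero_of_isAdic_of_isZero_zero hY hY0
    have hv0 : v = 0 := hYz.eq_of_src _ _
    subst hv0
    exact isARNull_of_iso (cokernelZeroIsoTarget (X := Y) (Y := F)) hv.2

end Sheaf

end Groth.Agent.R2.H29.ARNull
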