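import Mathlib

/-!
# Coset prime avoidance (Davis' lemma) and a scheme-level version

ns `Groth.Agent.R2.H29.AffOpenA`.

* `coset_avoidance`: for an ideal `a`, an element `x` and finitely many primes `p` with
  `x ∉ p ∨ ¬ a ≤ p`, there is `e ∈ a` with `x + e ∉ p` for all `p`.
* `exists_lift_nonvanishing`: for a closed immersion `c : P ⟶ W` into an affine scheme, a function
  `h` on `P` and finitely many points `s` of `W` such that `h` does not vanish at the points of `P`
  over `s`, there is a function `g` on `W` restricting to `h` and not vanishing at the points `s`.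
-/

set_option autoImplicit false
universe u

namespace Groth.Agent.R2.H29.AffOpenA

open AlgebraicGeometry CategoryTheory TopologicalSpace

/-- Davis' coset version of prime avoidance. -/
theorem coset_avoidance {R : Type*} [CommRing R] (a : Ideal R) (x : R) :
    ∀ (S : Finset (Ideal R)), (∀ p ∈ S, p.IsPrime) → (∀ p ∈ S, x ∉ p ∨ ¬ a ≤ p) →
    ∃ e ∈ a, ∀ p ∈ S, x + e ∉ p := by
  intro S
  induction S using Finset.strongInduction with
  | H S ih =>
    intro hS h
    rcases S.eq_empty_or_nonempty with rfl | hne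
    · exact ⟨0, a.zero_mem, by simp⟩
    obtain ⟨q, hqS, hqmin⟩ := S.exists_minimal hne
    have hq : q.IsPrime := hS q hqS
    obtain ⟨e', he'a, he'⟩ := ih (S.erase q) (Finset.erase_ssubset hqS)
      (fun p hp => hS p (Finset.mem_of_mem_erase hp))
      (fun p hp => h p (Finset.mem_of_mem_erase hp))
    by_cases hxq : x + e' ∈ q
    · -- need to correct
      have haq : ¬ a ≤ q := by
        intro haq
        rcases h q hqS with h1 | h1
        · exact h1 (by simpa using q.sub_mem hxq (haq he'a))
        · exact h1 haq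
      have hprod : ¬ (a * ∏ p ∈ S.erase q, p) ≤ q := by
        intro hle
        rcases hq.mul_le.mp hle with h1 | h1
        · exact haq h1
        · obtain ⟨p, hp, hpq⟩ := hq.prod_le.mp h1
          have hpS : p ∈ S := Finset.mem_of_mem_erase hp
          have : q ≤ p := hqmin hpS hpq
          exact (Finset.ne_of_mem_erase hp) (le_antisymm hpq this)
      obtain ⟨e'', he''mem, he''q⟩ := SetLike.not_le_iff_exists.mp hprod
      have he''a : e'' ∈ a := (Ideal.mul_le_left : a * (∏ p ∈ S.erase q, p) ≤ a) he''mem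
      have he''p : ∀ p ∈ S.erase q, e'' ∈ p := by
        intro p hp
        have h1 : e'' ∈ ∏ p ∈ S.erase q, p :=
          (Ideal.mul_le_right : a * (∏ p ∈ S.erase q, p) ≤ ∏ p ∈ S.erase q, p) he''mem
        exact (Ideal.prod_le_inf.trans (Finset.inf_le hp)) h1
      refine ⟨e' + e'', a.add_mem he'a he''a, fun p hp => ?_⟩
      by_cases hpq : p = q
      · subst hpq
        intro hmem
        apply he''q
        have : x + (e' + e'') - (x + e') ∈ p := p.sub_mem hmem hxq
        simpa using this
      · have hp' : p ∈ S.erase q := Finset.mem_erase.mpr ⟨hpq, hp⟩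
        intro hmem
        apply he' p hp'
        have : x + (e' + e'') - e'' ∈ p := p.sub_mem hmem (he''p p hp')
        have h2 : x + (e' + e'') - e'' = x + e' := by ring
        rwa [h2] at this
    · refine ⟨e', he'a, fun p hp => ?_⟩
      by_cases hpq : p = q
      · subst hpq; exact hxq
      · exact he' p (Finset.mem_erase.mpr ⟨hpq, hp⟩)


/-- The prime ideal of global functions vanishing at a point. -/
noncomputable def ptIdeal (W : Scheme.{u}) (s : W) : Ideal Γ(W, ⊤) :=
  RingHom.ker (W.Γevaluation s).hom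

instance (W : Scheme.{u}) (s : W) : (ptIdeal W s).IsPrime := by
  unfold ptIdeal
  exact RingHom.ker_isPrime _

theorem mem_ptIdeal_iff (W : Scheme.{u}) (s : W) (r : Γ(W, ⊤)) :
    r ∈ ptIdeal W s ↔ s ∉ W.basicOpen r := by
  unfold ptIdeal
  rw [RingHom.mem_ker]
  exact W.evaluation_eq_zero_iff_notMem_basicOpen (U := ⊤) s trivial r

/-- In an affine scheme, a point outside the range of a closed immersion `c` is not in the zero
locus of the kernel of `c` on global sections. -/
theorem not_ker_le_ptIdeal {W P : Scheme.{u}} [IsAffine W] (c : P ⟶ W) [IsClosedImmersion c]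
    (s : W) (hs : s ∉ Set.range c) : ¬ RingHom.ker c.appTop.hom ≤ ptIdeal W s := by
  intro hle
  have hP : IsAffine P := isAffine_of_isAffineHom c
  have hopen : IsOpen (Set.range c)ᶜ := c.isClosedEmbedding.isClosed_range.isOpen_compl
  obtain ⟨_, ⟨_, ⟨r, rfl⟩, rfl⟩, hsr, hrU⟩ := (isBasis_basicOpen W).exists_subset_of_mem_open
    (show s ∈ (⟨(Set.range c)ᶜ, hopen⟩ : W.Opens) from hs) hopen
  have hbot : P.basicOpen (c.appTop r) = ⊥ := by
    rw [← Scheme.preimage_basicOpen_top]
    ext p
    simp only [Opens.coe_bot, Set.mem_empty_iff_false, iff_false]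
    intro hp
    exact hrU hp ⟨p, rfl⟩
  obtain ⟨n, hn⟩ := (Scheme.isNilpotent_iff_basicOpen_eq_bot (c.appTop r)).mpr hbot
  have h1 : r ^ n ∈ RingHom.ker c.appTop.hom := by
    rw [RingHom.mem_ker, map_pow]
    exact hn
  have h2 := (mem_ptIdeal_iff W s (r ^ n)).mp (hle h1)
  rcases Nat.eq_zero_or_pos n with h0 | h0
  · subst h0
    apply h2
    rw [pow_zero]
    have : W.basicOpen (1 : Γ(W, ⊤)) = ⊤ := Scheme.basicOpen_of_isUnit _ isUnit_one
    rw [this]
    trivial
  · rw [W.basicOpen_pow r h0] at h2
    exact h2 hsr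

/-- Lifting a function along a closed immersion into an affine scheme, keeping it non-vanishing at
finitely many prescribed points. -/
theorem exists_lift_nonvanishing {W P : Scheme.{u}} [IsAffine W] (c : P ⟶ W) [IsClosedImmersion c]
    (h : Γ(P, ⊤)) (S : Set W) (hS : S.Finite) (hh : ∀ p : P, c p ∈ S → p ∈ P.basicOpen h) :
    ∃ g : Γ(W, ⊤), c.appTop g = h ∧ ∀ s ∈ S, s ∈ W.basicOpen g := by
  classical
  obtain ⟨g₀, hg₀⟩ := c.app_surjective ⊤ (isAffineOpen_top W) h
  have hg₀' : c.appTop g₀ = h := hg₀
  obtain ⟨e, hea, he⟩ := coset_avoidance (RingHom.ker c.appTop.hom) g₀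
    (hS.toFinset.image (ptIdeal W)) (by
      intro p hp
      obtain ⟨s, -, rfl⟩ := Finset.mem_image.mp hp
      infer_instance) (by
      intro p hp
      obtain ⟨s, hs, rfl⟩ := Finset.mem_image.mp hp
      have hsS : s ∈ S := hS.mem_toFinset.mp hs
      by_cases hsr : s ∈ Set.range c
      · left
        obtain ⟨p, rfl⟩ := hsr
        rw [mem_ptIdeal_iff, not_not]
        have h1 := hh p hsS
        rw [← hg₀', ← Scheme.preimage_basicOpen_top] at h1
        exact h1
      · right
        exact not_ker_le_ptIdeal c s hsr)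
  refine ⟨g₀ + e, ?_, fun s hs => ?_⟩
  · rw [map_add, hg₀']
    have : c.appTop e = 0 := hea
    rw [this, add_zero]
  · have := he (ptIdeal W s) (Finset.mem_image.mpr ⟨s, hS.mem_toFinset.mpr hs, rfl⟩)
    rw [mem_ptIdeal_iff, not_not] at this
    exact this

/-- Prime avoidance on an affine scheme: a finite set of points disjoint from a closed set is
contained in a basic open disjoint from the closed set. -/
theorem exists_basicOpen_avoiding {W : Scheme.{u}} [IsAffine W] (Δ : Set W) (hΔ : IsClosed Δ)
    (S : Set W) (hS : S.Finite) (hd : Disjoint S Δ) :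
    ∃ g : Γ(W, ⊤), (∀ s ∈ S, s ∈ W.basicOpen g) ∧ Disjoint (W.basicOpen g : Set W) Δ := by
  let I := Scheme.IdealSheafData.vanishingIdeal (X := W) ⟨Δ, hΔ⟩
  have hc : ∀ p : I.subscheme, I.subschemeι p ∈ S → p ∈ I.subscheme.basicOpen (0 : Γ(I.subscheme, ⊤)) := by
    intro p hp
    exfalso
    have : I.subschemeι p ∈ Δ := by
      have h1 : I.subschemeι p ∈ Set.range I.subschemeι := ⟨p, rfl⟩
      rw [Scheme.IdealSheafData.range_subschemeι,
        Scheme.IdealSheafData.coe_support_vanishingIdeal] at h1
      exact h1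
    exact Set.disjoint_left.mp hd hp this
  obtain ⟨g, hg0, hgS⟩ := exists_lift_nonvanishing I.subschemeι 0 S hS hc
  refine ⟨g, hgS, Set.disjoint_left.mpr fun x hx hxΔ => ?_⟩
  have h1 : x ∈ Set.range I.subschemeι := by
    rw [Scheme.IdealSheafData.range_subschemeι,
      Scheme.IdealSheafData.coe_support_vanishingIdeal]
    exact hxΔ
  obtain ⟨p, rfl⟩ := h1
  have h3 : p ∈ I.subschemeι ⁻¹ᵁ W.basicOpen g := hx
  rw [Scheme.preimage_basicOpen_top, hg0] at h3
  have h4 : I.subscheme.basicOpen (0 : Γ(I.subscheme, ⊤)) = ⊥ := Scheme.basicOpen_zero _ _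
  rw [h4] at h3
  exact h3

end Groth.Agent.R2.H29.AffOpenA
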