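import Mathlib

/-!
# Gluing functions along a closed cover of a reduced scheme

ns `Groth.Agent.R2.H29.AffOpenB`. For closed immersions `i₁ : N₁ ⟶ N`, `i₂ : N₂ ⟶ N`:

* `inter i₁ i₂`: the scheme-theoretic intersection `V(ker i₁ ⊔ ker i₂)` with its maps `interFst`,
  `interSnd` to `N₁`, `N₂` and `interι` to `N`.
* `eq_zero_of_app_eq_zero`: on a reduced `N` covered by `N₁`, `N₂`, a section killed on both is `0`.
* `exists_glue`: functions `f₁`, `f₂` on `N₁`, `N₂` agreeing on `inter i₁ i₂` glue to a function on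
  the reduced scheme `N`.
-/

set_option autoImplicit false
universe u

namespace Groth.Agent.R2.H29.AffOpenB

open AlgebraicGeometry CategoryTheory TopologicalSpace Opposite

variable {N N₁ N₂ : Scheme.{u}} (i₁ : N₁ ⟶ N) (i₂ : N₂ ⟶ N)

/-- scheme-theoretic intersection of two closed subschemes -/
noncomputable abbrev inter : Scheme.{u} := (i₁.ker ⊔ i₂.ker).subscheme

/-- inclusion of the intersection -/
noncomputable abbrev interι : inter i₁ i₂ ⟶ N := (i₁.ker ⊔ i₂.ker).subschemeι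


variable [IsClosedImmersion i₁] [IsClosedImmersion i₂]

/-- first projection of the intersection -/
noncomputable def interFst : inter i₁ i₂ ⟶ N₁ :=
  Scheme.IdealSheafData.inclusion (le_sup_left : i₁.ker ≤ i₁.ker ⊔ i₂.ker) ≫ inv i₁.toImage

/-- second projection of the intersection -/
noncomputable def interSnd : inter i₁ i₂ ⟶ N₂ :=
  Scheme.IdealSheafData.inclusion (le_sup_right : i₂.ker ≤ i₁.ker ⊔ i₂.ker) ≫ inv i₂.toImage

omit [IsClosedImmersion i₂] in
@[reassoc]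
theorem interFst_comp : interFst i₁ i₂ ≫ i₁ = interι i₁ i₂ := by
  unfold interFst
  rw [Category.assoc]
  have : inv i₁.toImage ≫ i₁ = i₁.imageι := by
    rw [IsIso.inv_comp_eq, Scheme.Hom.toImage_imageι]
  rw [this]
  exact Scheme.IdealSheafData.inclusion_subschemeι _

omit [IsClosedImmersion i₁] in
@[reassoc]
theorem interSnd_comp : interSnd i₁ i₂ ≫ i₂ = interι i₁ i₂ := by
  unfold interSnd
  rw [Category.assoc]
  have : inv i₂.toImage ≫ i₂ = i₂.imageι := by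
    rw [IsIso.inv_comp_eq, Scheme.Hom.toImage_imageι]
  rw [this]
  exact Scheme.IdealSheafData.inclusion_subschemeι _

instance : IsClosedImmersion (interFst i₁ i₂) := by
  have : IsClosedImmersion (interFst i₁ i₂ ≫ i₁) := by rw [interFst_comp]; infer_instance
  exact IsClosedImmersion.of_comp_isClosedImmersion (interFst i₁ i₂) i₁

instance : IsClosedImmersion (interSnd i₁ i₂) := by
  have : IsClosedImmersion (interSnd i₁ i₂ ≫ i₂) := by rw [interSnd_comp]; infer_instance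
  exact IsClosedImmersion.of_comp_isClosedImmersion (interSnd i₁ i₂) i₂

theorem ker_interι_app (A : N.affineOpens) :
    RingHom.ker ((interι i₁ i₂).app A).hom =
      RingHom.ker (i₁.app A).hom ⊔ RingHom.ker (i₂.app A).hom := by
  rw [Scheme.IdealSheafData.ker_subschemeι_app, Scheme.IdealSheafData.ideal_sup, Pi.sup_apply,
    Scheme.Hom.ker_apply, Scheme.Hom.ker_apply]


omit [IsClosedImmersion i₁] [IsClosedImmersion i₂] in
/-- On a reduced scheme covered by (the images of) `i₁` and `i₂`, a section killed by both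
restrictions vanishes. -/
theorem eq_zero_of_app_eq_zero [IsReduced N]
    (hsurj : ∀ y : N, y ∈ Set.range i₁ ∨ y ∈ Set.range i₂) (A : N.Opens) (s : Γ(N, A))
    (h₁ : i₁.app A s = 0) (h₂ : i₂.app A s = 0) : s = 0 := by
  rw [← basicOpen_eq_bot_iff]
  ext y
  simp only [Opens.coe_bot, Set.mem_empty_iff_false, iff_false]
  intro hy
  rcases hsurj y with ⟨y₁, rfl⟩ | ⟨y₂, rfl⟩
  · have : y₁ ∈ i₁ ⁻¹ᵁ N.basicOpen s := hy
    rw [Scheme.preimage_basicOpen, h₁, Scheme.basicOpen_zero] at this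
    exact this
  · have : y₂ ∈ i₂ ⁻¹ᵁ N.basicOpen s := hy
    rw [Scheme.preimage_basicOpen, h₂, Scheme.basicOpen_zero] at this
    exact this

/-- any two restriction maps between the same opens agree -/
theorem presheaf_map_eq (X : Scheme.{u}) {U V : (X.Opens)ᵒᵖ} (i j : U ⟶ V) :
    X.presheaf.map i = X.presheaf.map j := by
  rw [Subsingleton.elim i j]

theorem presheaf_map_map (X : Scheme.{u}) {U V W : (X.Opens)ᵒᵖ} (i : U ⟶ V) (j : V ⟶ W)
    (k : U ⟶ W) (s : X.presheaf.obj U) :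
    X.presheaf.map j (X.presheaf.map i s) = X.presheaf.map k s := by
  rw [← ConcreteCategory.comp_apply, ← Functor.map_comp, presheaf_map_eq X (i ≫ j) k]

theorem app_map {X Y : Scheme.{u}} (f : X ⟶ Y) {U V : Y.Opens} (i : op V ⟶ op U)
    (j : op (f ⁻¹ᵁ V) ⟶ op (f ⁻¹ᵁ U)) (s : Γ(Y, V)) :
    f.app U (Y.presheaf.map i s) = X.presheaf.map j (f.app V s) := by
  have := f.naturality i
  rw [← ConcreteCategory.comp_apply, this, ConcreteCategory.comp_apply]
  exact congr($(presheaf_map_eq X _ j) _)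

theorem appLE_of_comp {X Y Z : Scheme.{u}} (f : X ⟶ Y) (g : Y ⟶ Z) (k : X ⟶ Z) (hk : f ≫ g = k)
    (U : Z.Opens) (V : X.Opens) (e : V ≤ k ⁻¹ᵁ U) :
    k.appLE U V e = g.app U ≫ f.appLE (g ⁻¹ᵁ U) V (by subst hk; exact e) := by
  subst hk
  exact Scheme.Hom.comp_appLE ..

/-- Gluing functions along a closed cover of a reduced scheme. -/
theorem exists_glue [IsReduced N]
    (hsurj : ∀ y : N, y ∈ Set.range i₁ ∨ y ∈ Set.range i₂) (f₁ : Γ(N₁, ⊤)) (f₂ : Γ(N₂, ⊤))
    (h : (interFst i₁ i₂).appTop f₁ = (interSnd i₁ i₂).appTop f₂) :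
    ∃ f : Γ(N, ⊤), i₁.appTop f = f₁ ∧ i₂.appTop f = f₂ := by
  -- local existence on affine opens
  have hloc : ∀ A : N.affineOpens, ∃ s : Γ(N, A.1),
      i₁.app A.1 s = N₁.presheaf.map (homOfLE (le_top : i₁ ⁻¹ᵁ A.1 ≤ ⊤)).op f₁ ∧
      i₂.app A.1 s = N₂.presheaf.map (homOfLE (le_top : i₂ ⁻¹ᵁ A.1 ≤ ⊤)).op f₂ := by
    intro A
    obtain ⟨a₁, ha₁⟩ := i₁.app_surjective A.1 A.2
      (N₁.presheaf.map (homOfLE (le_top : i₁ ⁻¹ᵁ A.1 ≤ ⊤)).op f₁)
    obtain ⟨a₂, ha₂⟩ := i₂.app_surjective A.1 A.2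
      (N₂.presheaf.map (homOfLE (le_top : i₂ ⁻¹ᵁ A.1 ≤ ⊤)).op f₂)
    have hker : a₁ - a₂ ∈ RingHom.ker ((interι i₁ i₂).app A).hom := by
      rw [RingHom.mem_ker, map_sub, sub_eq_zero]
      have e1 : (interι i₁ i₂).app A.1 a₁ =
          (inter i₁ i₂).presheaf.map (homOfLE (le_top : interι i₁ i₂ ⁻¹ᵁ A.1 ≤ ⊤)).op
            ((interFst i₁ i₂).appTop f₁) := by
        rw [Scheme.Hom.app_eq_appLE,
          appLE_of_comp (interFst i₁ i₂) i₁ (interι i₁ i₂) (interFst_comp i₁ i₂),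
          ConcreteCategory.comp_apply, ha₁, ← ConcreteCategory.comp_apply, Scheme.Hom.map_appLE]
        rfl
      have e2 : (interι i₁ i₂).app A.1 a₂ =
          (inter i₁ i₂).presheaf.map (homOfLE (le_top : interι i₁ i₂ ⁻¹ᵁ A.1 ≤ ⊤)).op
            ((interSnd i₁ i₂).appTop f₂) := by
        rw [Scheme.Hom.app_eq_appLE,
          appLE_of_comp (interSnd i₁ i₂) i₂ (interι i₁ i₂) (interSnd_comp i₁ i₂),
          ConcreteCategory.comp_apply, ha₂, ← ConcreteCategory.comp_apply, Scheme.Hom.map_appLE]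
        rfl
      exact e1.trans ((congrArg _ h).trans e2.symm)
    rw [ker_interι_app] at hker
    obtain ⟨x₁, hx₁, x₂, hx₂, hx⟩ := Submodule.mem_sup.mp hker
    refine ⟨a₁ - x₁, ?_, ?_⟩
    · rw [map_sub, ha₁, RingHom.mem_ker.mp hx₁, sub_zero]
    · have : a₁ - x₁ = a₂ + x₂ := by
        have : a₁ = a₂ + (x₁ + x₂) := by rw [hx]; ring
        rw [this]; ring
      rw [this, map_add, ha₂, RingHom.mem_ker.mp hx₂, add_zero]
  choose sA hsA₁ hsA₂ using hloc
  -- compatibility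
  have hcompat : TopCat.Presheaf.IsCompatible N.presheaf (fun A : N.affineOpens => A.1) sA := by
    intro A B
    rw [← sub_eq_zero]
    apply eq_zero_of_app_eq_zero i₁ i₂ hsurj
    · rw [map_sub, sub_eq_zero,
        app_map i₁ _ (homOfLE (i₁.preimage_mono (inf_le_left : A.1 ⊓ B.1 ≤ A.1))).op,
        app_map i₁ _ (homOfLE (i₁.preimage_mono (inf_le_right : A.1 ⊓ B.1 ≤ B.1))).op,
        hsA₁, hsA₁,
        presheaf_map_map N₁ _ _ (homOfLE (le_top : i₁ ⁻¹ᵁ (A.1 ⊓ B.1) ≤ ⊤)).op,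
        presheaf_map_map N₁ _ _ (homOfLE (le_top : i₁ ⁻¹ᵁ (A.1 ⊓ B.1) ≤ ⊤)).op]
    · rw [map_sub, sub_eq_zero,
        app_map i₂ _ (homOfLE (i₂.preimage_mono (inf_le_left : A.1 ⊓ B.1 ≤ A.1))).op,
        app_map i₂ _ (homOfLE (i₂.preimage_mono (inf_le_right : A.1 ⊓ B.1 ≤ B.1))).op,
        hsA₂, hsA₂,
        presheaf_map_map N₂ _ _ (homOfLE (le_top : i₂ ⁻¹ᵁ (A.1 ⊓ B.1) ≤ ⊤)).op,
        presheaf_map_map N₂ _ _ (homOfLE (le_top : i₂ ⁻¹ᵁ (A.1 ⊓ B.1) ≤ ⊤)).op]
  obtain ⟨f, hf, -⟩ := N.sheaf.existsUnique_gluing' (fun A : N.affineOpens => A.1) ⊤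
    (fun A => homOfLE le_top) (by rw [iSup_affineOpens_eq_top]) sA hcompat
  refine ⟨f, ?_, ?_⟩
  · apply N₁.sheaf.eq_of_locally_eq' (fun A : N.affineOpens => i₁ ⁻¹ᵁ A.1) ⊤
      (fun A => homOfLE le_top)
    · intro x _
      obtain ⟨A, hA⟩ := Opens.mem_iSup.mp
        ((iSup_affineOpens_eq_top N).ge (show i₁ x ∈ (⊤ : N.Opens) from trivial))
      exact Opens.mem_iSup.mpr ⟨A, hA⟩
    · intro A
      have h1 := app_map i₁ (homOfLE (le_top : A.1 ≤ ⊤)).op
        (homOfLE (i₁.preimage_mono (le_top : A.1 ≤ ⊤))).op f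
      have h2 := hf A
      change N.presheaf.map (homOfLE (le_top : A.1 ≤ ⊤)).op f = sA A at h2
      rw [h2, hsA₁] at h1
      exact h1.symm
  · apply N₂.sheaf.eq_of_locally_eq' (fun A : N.affineOpens => i₂ ⁻¹ᵁ A.1) ⊤
      (fun A => homOfLE le_top)
    · intro x _
      obtain ⟨A, hA⟩ := Opens.mem_iSup.mp
        ((iSup_affineOpens_eq_top N).ge (show i₂ x ∈ (⊤ : N.Opens) from trivial))
      exact Opens.mem_iSup.mpr ⟨A, hA⟩
    · intro A
      have h1 := app_map i₂ (homOfLE (le_top : A.1 ≤ ⊤)).op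
        (homOfLE (i₂.preimage_mono (le_top : A.1 ≤ ⊤))).op f
      have h2 := hf A
      change N.presheaf.map (homOfLE (le_top : A.1 ≤ ⊤)).op f = sA A at h2
      rw [h2, hsA₂] at h1
      exact h1.symm

end Groth.Agent.R2.H29.AffOpenB
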